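import Mathlib
import Groth.Statements.S16343

set_option autoImplicit false
open KatoHom

namespace Groth.Agent.S16343

/-- Let P be a set of primes and π : A → T a surjection of abelian groups whose kernel is ℓ-divisible
for every ℓ ∈ P, with T a torsion group; let T(P) be the subgroup of elements of T killed by a
positive integer all of whose prime factors lie in P, and T' the subgroup of elements killed by a
positive integer none of whose prime factors lies in P. Then the preimage π⁻¹(T') is ℓ-divisible for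
every ℓ ∈ P, and π has a section s over T(P) for which (d, t) ↦ d + s(t) is a bijection from π⁻¹(T')
× T(P) onto A, so that A is the direct sum of π⁻¹(T') and a copy of T(P). (The decomposition is
expressed through a section of π over T(P).) -/
theorem result
    {A T : Type*} [AddCommGroup A] [AddCommGroup T] (P : Set ℕ) (hP : ∀ p ∈ P, p.Prime)
    (π : A →+ T) (hπ : Function.Surjective π) (hT : ∀ t : T, ∃ n : ℕ, 0 < n ∧ n • t = 0)
    (hD : ∀ ℓ ∈ P, ∀ x ∈ π.ker, ∃ y ∈ π.ker, ℓ • y = x)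
    (TP T' : AddSubgroup T)
    (hTP : ∀ t, t ∈ TP ↔ ∃ n : ℕ, 0 < n ∧ (∀ p : ℕ, p.Prime → p ∣ n → p ∈ P) ∧ n • t = 0)
    (hT' : ∀ t, t ∈ T' ↔ ∃ n : ℕ, 0 < n ∧ (∀ p : ℕ, p.Prime → p ∣ n → p ∉ P) ∧ n • t = 0) :
    (∀ ℓ ∈ P, ∀ x ∈ T'.comap π, ∃ y ∈ T'.comap π, ℓ • y = x) ∧
    ∃ s : TP →+ A, (∀ t : TP, π (s t) = (t : T)) ∧
      Function.Bijective (fun q : (T'.comap π) × TP => (q.1 : A) + s q.2) := by
  classical
  have hD' : ∀ (k : ℕ), 0 < k → (∀ p : ℕ, p.Prime → p ∣ k → p ∈ P) → ∀ x ∈ π.ker, ∃ y ∈ π.ker, k • y = x := by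
    intro k
    induction k using Nat.strongRecOn with
    | ind k ih =>
      intro hk hpk x hx
      by_cases h1 : k = 1
      · exact ⟨x, hx, by rw [h1, one_smul]⟩
      obtain ⟨ℓ, hℓ, ⟨m, rfl⟩⟩ := Nat.exists_prime_and_dvd h1
      have hm : 0 < m := Nat.pos_of_mul_pos_left hk
      obtain ⟨y, hy, rfl⟩ := hD ℓ (hpk ℓ hℓ (dvd_mul_right _ _)) x hx
      obtain ⟨w, hw, rfl⟩ := ih m (lt_mul_of_one_lt_left hm hℓ.one_lt) hm
        (fun p hp hd => hpk p hp (hd.mul_left _)) y hy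
      exact ⟨w, hw, by rw [mul_smul]⟩
  have hcop : ∀ m n : ℕ, 0 < n → (∀ p : ℕ, p.Prime → p ∣ n → p ∈ P) → (∀ p : ℕ, p.Prime → p ∣ m → p ∉ P) →
      Nat.gcd n m = 1 := by
    intro m n hn h1 h2
    by_contra h
    obtain ⟨p, hp, hd⟩ := Nat.exists_prime_and_dvd h
    exact h2 p hp (hd.trans (Nat.gcd_dvd_right _ _)) (h1 p hp (hd.trans (Nat.gcd_dvd_left _ _)))
  have hdiv : ∀ ℓ ∈ P, ∀ x ∈ T'.comap π, ∃ y ∈ T'.comap π, ℓ • y = x := by
    intro ℓ hℓ x hx
    obtain ⟨m, hm, hmP, hmx⟩ := (hT' _).1 hx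
    have hg : Nat.gcd ℓ m = 1 := hcop m ℓ (hP ℓ hℓ).pos
      (fun p hp hd => ((Nat.prime_dvd_prime_iff_eq hp (hP ℓ hℓ)).1 hd) ▸ hℓ) hmP
    obtain ⟨a, b, hab⟩ : ∃ a b : ℤ, (ℓ : ℤ) * a + (m : ℤ) * b = 1 :=
      ⟨Nat.gcdA ℓ m, Nat.gcdB ℓ m, by rw [← Nat.gcd_eq_gcd_ab, hg]; rfl⟩
    have hker : x - (ℓ : ℤ) • a • x ∈ π.ker := by
      rw [AddMonoidHom.mem_ker, map_sub, map_zsmul, map_zsmul, smul_smul]
      have h1 : ((m : ℤ) * b) • π x = 0 := by
        rw [mul_comm, mul_smul, natCast_zsmul, hmx, smul_zero]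
      have h2 := congrArg (fun q : ℤ => q • π x) hab
      simp only [add_smul, h1, add_zero, one_smul] at h2
      exact sub_eq_zero.2 h2.symm
    obtain ⟨y, hy, hyx⟩ := hD ℓ hℓ _ hker
    refine ⟨y + a • x, ?_, by rw [smul_add, hyx, ← natCast_zsmul (a • x) ℓ]; abel⟩
    rw [AddSubgroup.mem_comap, map_add, AddMonoidHom.mem_ker.1 hy, zero_add, map_zsmul]
    exact zsmul_mem (show π x ∈ T' from hx) _
  refine ⟨hdiv, ?_⟩
  -- splitting of the order of an element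
  have hsplit : ∀ N : ℕ, 0 < N → ∃ n m : ℕ, N = n * m ∧ (∀ p : ℕ, p.Prime → p ∣ n → p ∈ P) ∧
      (∀ p : ℕ, p.Prime → p ∣ m → p ∉ P) := by
    intro N
    induction N using Nat.strongRecOn with
    | ind N ih =>
      intro hN
      by_cases h1 : N = 1
      · exact ⟨1, 1, by simp [h1], fun p hp h => absurd (Nat.dvd_one.1 h) hp.one_lt.ne',
          fun p hp h => absurd (Nat.dvd_one.1 h) hp.one_lt.ne'⟩
      obtain ⟨q, hq, ⟨M, rfl⟩⟩ := Nat.exists_prime_and_dvd h1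
      have hM : 0 < M := Nat.pos_of_mul_pos_left hN
      obtain ⟨n, m, rfl, hn, hm⟩ := ih M (lt_mul_of_one_lt_left hM hq.one_lt) hM
      by_cases hqP : q ∈ P
      · refine ⟨q * n, m, by ring, fun p hp h => ?_, hm⟩
        rcases hp.dvd_mul.1 h with h | h
        · rwa [(Nat.prime_dvd_prime_iff_eq hp hq).1 h]
        · exact hn p hp h
      · refine ⟨n, q * m, by ring, hn, fun p hp h => ?_⟩
        rcases hp.dvd_mul.1 h with h | h
        · rwa [(Nat.prime_dvd_prime_iff_eq hp hq).1 h]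
        · exact hm p hp h
  -- a complement of the kernel in the preimage of TP
  let AP : AddSubgroup A := TP.comap π
  let S : Set (AddSubgroup A) := {B | B ≤ AP ∧ ∀ x ∈ B, π x = 0 → x = 0}
  have hS0 : (⊥ : AddSubgroup A) ∈ S := ⟨bot_le, fun x hx _ => AddSubgroup.mem_bot.1 hx⟩
  obtain ⟨B, -, hB⟩ := zorn_le_nonempty₀ S (fun c hc hch y hy => by
    refine ⟨sSup c, ⟨sSup_le fun C hC => (hc hC).1, fun x hx h0 => ?_⟩, fun z hz => le_sSup hz⟩
    obtain ⟨C, hC, hxC⟩ := (AddSubgroup.mem_sSup_of_directedOn ⟨y, hy⟩ hch.directedOn).1 hx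
    exact (hc hC).2 x hxC h0) ⊥ hS0
  have hsurj : ∀ t ∈ TP, ∃ b ∈ B, π b = t := by
    suffices h : ∀ k : ℕ, 0 < k → (∀ p : ℕ, p.Prime → p ∣ k → p ∈ P) → ∀ a ∈ AP,
        (∃ b ∈ B, π b = k • π a) → ∃ b ∈ B, π b = π a by
      intro t ht
      obtain ⟨a, rfl⟩ := hπ t
      obtain ⟨k, hk, hkP, hka⟩ := (hTP _).1 ht
      exact h k hk hkP a ht ⟨0, B.zero_mem, by rw [map_zero, hka]⟩
    intro k
    induction k using Nat.strongRecOn with
    | ind k ih =>
      intro hk hkP a ha hb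
      by_cases h1 : k = 1
      · simpa [h1] using hb
      obtain ⟨ℓ, hℓ, ⟨m, rfl⟩⟩ := Nat.exists_prime_and_dvd h1
      have hm : 0 < m := Nat.pos_of_mul_pos_left hk
      have hℓP : ℓ ∈ P := hkP ℓ hℓ (dvd_mul_right _ _)
      -- reduce to one prime
      suffices h2 : ∀ a ∈ AP, (∃ b ∈ B, π b = ℓ • π a) → ∃ b ∈ B, π b = π a by
        refine ih m (lt_mul_of_one_lt_left hm hℓ.one_lt) hm (fun p hp hd => hkP p hp (hd.mul_left _)) a ha ?_
        obtain ⟨b, hb', hbe⟩ := h2 (m • a) (AP.nsmul_mem ha m) (by simpa [mul_smul] using hb)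
        exact ⟨b, hb', by simpa using hbe⟩
      intro a ha ⟨b, hbB, hbe⟩
      obtain ⟨y, hy, hye⟩ := hD ℓ hℓP (ℓ • a - b) (by simp [AddMonoidHom.mem_ker, hbe])
      let a' := a - y
      have ha' : ℓ • a' = b := by simp [a', smul_sub, hye]
      have hπa : π a' = π a := by simp [a', AddMonoidHom.mem_ker.1 hy]
      have ha'P : a' ∈ AP := by rw [AddSubgroup.mem_comap, hπa]; exact ha
      by_contra hno
      have hmem : B ⊔ AddSubgroup.zmultiples a' ∈ S := by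
        refine ⟨sup_le hB.1.1 (AddSubgroup.zmultiples_le.2 ha'P), fun x hx h0 => ?_⟩
        obtain ⟨b', hb', z, hz, rfl⟩ := AddSubgroup.mem_sup.1 hx
        obtain ⟨n, rfl⟩ := AddSubgroup.mem_zmultiples_iff.1 hz
        by_cases hdvd : (ℓ : ℤ) ∣ n
        · obtain ⟨q, rfl⟩ := hdvd
          refine hB.1.2 _ (B.add_mem hb' ?_) h0
          rw [mul_comm, mul_zsmul, natCast_zsmul, ha']
          exact B.zsmul_mem hbB q
        · exfalso
          obtain ⟨u, v, huv⟩ := ((Nat.prime_iff_prime_int.1 hℓ).coprime_iff_not_dvd.2 hdvd)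
          apply hno
          refine ⟨u • b - v • b', B.sub_mem (B.zsmul_mem hbB u) (B.zsmul_mem hb' v), ?_⟩
          rw [map_add, map_zsmul, hπa] at h0
          rw [map_sub, map_zsmul, map_zsmul, hbe, eq_neg_of_add_eq_zero_left h0, ← natCast_zsmul,
            zsmul_neg, sub_neg_eq_add, smul_smul, smul_smul, ← add_smul, huv, one_smul]
      exact hno ⟨a', hB.2 hmem le_sup_left (AddSubgroup.mem_sup_right (AddSubgroup.mem_zmultiples a')), hπa⟩
  choose g hgB hgπ using hsurj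
  have huniq : ∀ b ∈ B, ∀ b' ∈ B, π b = π b' → b = b' := fun b hb b' hb' h =>
    sub_eq_zero.1 (hB.1.2 _ (B.sub_mem hb hb') (by rw [map_sub, h, sub_self]))
  let s : TP →+ A := AddMonoidHom.mk' (fun t => g t.1 t.2) fun t t' =>
    huniq _ (hgB _ _) _ (B.add_mem (hgB _ _) (hgB _ _)) (by rw [map_add, hgπ, hgπ, hgπ]; rfl)
  refine ⟨s, fun t => hgπ t.1 t.2, ?_, ?_⟩
  · rintro ⟨d, t⟩ ⟨d', t'⟩ h
    simp only at h
    have hπ' := congrArg π h
    rw [map_add, map_add, show π (s t) = t.1 from hgπ _ _, show π (s t') = t'.1 from hgπ _ _] at hπ'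
    obtain ⟨m, hm, hmP, hmx⟩ := (hT' _).1 (T'.sub_mem d.2 d'.2)
    obtain ⟨n, hn, hnP, hnx⟩ := (hTP _).1 (TP.sub_mem t'.2 t.2)
    have heq : (t'.1 - t.1) = π d.1 - π d'.1 := by
      linear_combination (norm := abel) -hπ'
    have h0 : t'.1 - t.1 = 0 := by
      have h1 : Nat.gcd n m • (t'.1 - t.1) = 0 :=
        gcd_nsmul_eq_zero.2 ⟨hnx, by rw [heq]; exact hmx⟩
      rwa [hcop m n hn hnP hmP, one_smul] at h1
    have ht : t = t' := Subtype.ext (sub_eq_zero.1 h0).symm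
    subst ht
    exact Prod.ext (Subtype.ext (add_right_cancel h)) rfl
  · intro a
    obtain ⟨N, hN, hNa⟩ := hT (π a)
    obtain ⟨n, m, rfl, hn, hm⟩ := hsplit N hN
    have hn0 : 0 < n := Nat.pos_of_mul_pos_right hN
    have hm0 : 0 < m := Nat.pos_of_mul_pos_left hN
    have hbez : (1 : ℤ) = n * Nat.gcdA n m + m * Nat.gcdB n m := by
      rw [← Nat.gcd_eq_gcd_ab, hcop m n hn0 hn hm]; rfl
    set t := ((m : ℤ) * Nat.gcdB n m) • π a with ht
    have htP : t ∈ TP := (hTP t).2 ⟨n, hn0, hn, by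
      rw [ht, ← natCast_zsmul, smul_smul, show (n : ℤ) * (m * Nat.gcdB n m) = Nat.gcdB n m * ((n * m : ℕ) : ℤ) by push_cast; ring,
        mul_zsmul, natCast_zsmul, hNa, zsmul_zero]⟩
    refine ⟨(⟨a - s ⟨t, htP⟩, ?_⟩, ⟨t, htP⟩), by simp⟩
    rw [AddSubgroup.mem_comap, map_sub, show π (s ⟨t, htP⟩) = t from hgπ t htP]
    refine (hT' _).2 ⟨m, hm0, hm, ?_⟩
    have hrw : π a - t = ((n : ℤ) * Nat.gcdA n m) • π a := by
      conv_lhs => rw [← one_zsmul (π a), hbez, add_zsmul, ht, add_sub_cancel_right]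
    rw [hrw, ← natCast_zsmul, smul_smul, show (m : ℤ) * (n * Nat.gcdA n m) = Nat.gcdA n m * ((n * m : ℕ) : ℤ) by push_cast; ring,
        mul_zsmul, natCast_zsmul, hNa, zsmul_zero]

end Groth.Agent.S16343
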