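import Groth.Statements.S16344
import Mathlib
-- import your own Groth.Agent.* helpers here

set_option autoImplicit false
universe u v
open IdeleMod

namespace Groth.Agent.S16344

/-- Let (G_i) be an inverse system, indexed by a directed preorder, of compact Hausdorff topological
abelian groups with continuous surjective transition maps, let G be its limit (the group of
compatible families) and let m be a natural number. Then the canonical map G/mG → lim G_i/mG_i is
bijective: a compatible family that lies in mG_i at every index is m times a compatible family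
(injectivity), and every family that is compatible modulo m agrees modulo m, index by index, with a
compatible family (surjectivity). -/
theorem result
    {ι : Type u} [Preorder ι] [IsDirected ι (· ≤ ·)]
    (G : ι → Type v) [∀ i, AddCommGroup (G i)] [∀ i, TopologicalSpace (G i)]
    [∀ i, IsTopologicalAddGroup (G i)] [∀ i, CompactSpace (G i)] [∀ i, T2Space (G i)]
    (f : ∀ ⦃i j : ι⦄, i ≤ j → (G j →+ G i)) (hf : ∀ i j (h : i ≤ j), Continuous (f h))
    (hid : ∀ i (x : G i), f (le_refl i) x = x)
    (hcomp : ∀ i j k (hij : i ≤ j) (hjk : j ≤ k) (x : G k), f hij (f hjk x) = f (hij.trans hjk) x)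
    (hsurj : ∀ i j (h : i ≤ j), Function.Surjective (f h)) (m : ℕ) :
    (∀ x : ∀ i, G i, (∀ i j (h : i ≤ j), f h (x j) = x i) → (∀ i, ∃ y : G i, m • y = x i) →
        ∃ z : ∀ i, G i, (∀ i j (h : i ≤ j), f h (z j) = z i) ∧ ∀ i, m • z i = x i) ∧
    (∀ y : ∀ i, G i, (∀ i j (h : i ≤ j), ∃ w : G i, f h (y j) - y i = m • w) →
        ∃ x : ∀ i, G i, (∀ i j (h : i ≤ j), f h (x j) = x i) ∧ ∀ i, ∃ w : G i, x i - y i = m • w) := by
  have main : ∀ K : ∀ i, Set (G i), (∀ i, IsClosed (K i)) → (∀ i, (K i).Nonempty) →
      (∀ i j (h : i ≤ j), Set.MapsTo (f h) (K j) (K i)) →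
      ∃ x : ∀ i, G i, (∀ i, x i ∈ K i) ∧ ∀ i j (h : i ≤ j), f h (x j) = x i := by
    intro K hK hne hmap
    classical
    let P : Set (∀ i, G i) := Set.univ.pi K
    let C : {q : ι × ι // q.1 ≤ q.2} → Set (∀ i, G i) := fun q => {x | f q.2 (x q.1.2) = x q.1.1}
    have hP : IsCompact P := isCompact_univ_pi fun i => (hK i).isCompact
    have hC : ∀ q, IsClosed (C q) := fun q =>
      isClosed_eq ((hf _ _ q.2).comp (continuous_apply _)) (continuous_apply _)
    obtain ⟨x, hxP, hxC⟩ := hP.inter_iInter_nonempty C hC (fun s => by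
      rcases isEmpty_or_nonempty ι with hι | hι
      · exact ⟨fun i => isEmptyElim i, fun i _ => isEmptyElim i, Set.mem_iInter₂.2 fun q _ => isEmptyElim q.1.1⟩
      obtain ⟨N, hN⟩ := Finset.exists_le (s.image fun q => q.1.2)
      choose k hk using hne
      refine ⟨fun i => if h : i ≤ N then f h (k N) else k i, fun i _ => ?_, Set.mem_iInter₂.2 fun q hq => ?_⟩
      · dsimp only
        split_ifs with h
        · exact hmap i N h (hk N)
        · exact hk i
      · have h2 : q.1.2 ≤ N := hN _ (Finset.mem_image_of_mem _ hq)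
        simp only [C, Set.mem_setOf_eq, dif_pos h2, dif_pos (q.2.trans h2), hcomp])
    exact ⟨x, fun i => hxP i trivial, fun i j h => Set.mem_iInter.1 hxC ⟨(i, j), h⟩⟩
  refine ⟨fun x hx hm => ?_, fun y hy => ?_⟩
  · obtain ⟨z, hz, hz'⟩ := main (fun i => {z | m • z = x i})
      (fun i => isClosed_eq (continuous_nsmul m) continuous_const) hm
      (fun i j h z (hz : m • z = x j) => by
        show m • f h z = x i
        rw [← map_nsmul, hz, hx])
    exact ⟨z, hz', hz⟩
  · obtain ⟨x, hx, hx'⟩ := main (fun i => Set.range fun w : G i => y i + m • w)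
      (fun i => (isCompact_range (continuous_const.add (continuous_nsmul m))).isClosed)
      (fun i => ⟨_, ⟨0, rfl⟩⟩) (fun i j h z => by
        rintro ⟨w, rfl⟩
        obtain ⟨v, hv⟩ := hy i j h
        refine ⟨v + f h w, ?_⟩
        simp only [map_add, map_nsmul, nsmul_add]
        rw [← hv]; abel)
    refine ⟨x, hx', fun i => ?_⟩
    obtain ⟨w, hw⟩ := hx i
    exact ⟨w, by simp only [] at hw; rw [← hw, add_sub_cancel_left]⟩

end Groth.Agent.S16344
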