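import Groth.Statements.S16345
import Groth.Agent.BoundaryConn.Main
import Groth.Agent.JacLib.Dim
import Groth.Agent.SmoothWeil.Dom
open AlgebraicGeometry CategoryTheory
-- import your own Groth.Agent.* helpers here

set_option autoImplicit false
universe u
open KatoHom

namespace Groth.Agent.S16345

open AlgebraicGeometry CategoryTheory in
/-- Let X be a connected scheme, proper and smooth of relative dimension d ≥ 2 over a field L, and let D
⊆ X be a closed subscheme, smooth of relative dimension d − 1 over L (a smooth divisor), whose
complement in X is an affine open subset. Then D is connected (in particular non-empty). -/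
theorem result
    {L : Type u} [Field L] {X D : Scheme.{u}} (f : X ⟶ Spec (CommRingCat.of L)) (i : D ⟶ X)
    [IsProper f] (d : ℕ) (hd : 1 < d) [SmoothOfRelativeDimension d f]
    [IsClosedImmersion i] [SmoothOfRelativeDimension (d - 1) (i ≫ f)]
    [ConnectedSpace X] (U : X.Opens) (hU : IsAffineOpen U)
    (hDU : Set.range i.base = (U : Set X)ᶜ) : ConnectedSpace D := by
  haveI : Smooth f := SmoothOfRelativeDimension.smooth d f
  haveI : IsIntegral X := Groth.Agent.SmoothWeil.isIntegral_of_smooth_connected f
  have hX : topologicalKrullDim X = (d : WithBot ℕ∞) := Groth.Agent.JacLib.topologicalKrullDim_of_smooth f d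
  have hne : (U : Set X).Nonempty := by
    by_contra h
    rw [Set.not_nonempty_iff_eq_empty] at h
    have hsur : Function.Surjective i := by
      rw [← Set.range_eq_univ, hDU, h, Set.compl_empty]
    haveI : Nonempty D := ⟨(hsur (Nonempty.some inferInstance)).choose⟩
    have hD : topologicalKrullDim D = ((d - 1 : ℕ) : WithBot ℕ∞) :=
      Groth.Agent.JacLib.topologicalKrullDim_of_smooth (i ≫ f) (d - 1)
    have hh : topologicalKrullDim D = topologicalKrullDim X :=
      IsHomeomorph.topologicalKrullDim_eq _ ((i.isClosedEmbedding.toIsEmbedding.toHomeomorphOfSurjective hsur).isHomeomorph)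
    rw [hD, hX] at hh
    have : d - 1 = d := by exact_mod_cast hh
    omega
  have hc := Groth.Agent.BoundaryConn.isConnected_compl L f (by rw [hX]; exact_mod_cast hd) U hU hne
  rw [← hDU, ← Set.image_univ] at hc
  haveI : PreconnectedSpace D :=
    ⟨i.isClosedEmbedding.toIsEmbedding.isInducing.isPreconnected_image.1 hc.isPreconnected⟩
  haveI : Nonempty D := by
    obtain ⟨_, z, -, rfl⟩ := hc.nonempty
    exact ⟨z⟩
  exact ⟨‹_›⟩

end Groth.Agent.S16345
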