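import Mathlib
import Groth.Statements.S16346
import Mathlib

set_option autoImplicit false
universe u v
open KatoHom

namespace Groth.Agent.S16346

/-- Let P be a set of primes and I_P the set of positive integers all of whose prime factors lie in P.
Let A be an abelian group, (B_n)_{n ∈ I_P} an inverse system of abelian groups with transition maps
B_n → B_m for m ∣ n, and φ_n : A → B_n homomorphisms vanishing on nA and compatible with the
transition maps, so that they induce φ̂ : Â → B̂ on the limits Â = lim A/nA and B̂ = lim B_n (limits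
taken as compatible families). Suppose some N ∈ I_P kills the torsion subgroup of B̂ and kills the
kernel of φ̂ (the latter meaning: a compatible family of residues (a_n) with φ_n(a_n) = 0 for all n
has N a_n ∈ nA for all n). Then the subgroup ⋂_{n ∈ I_P} nA is ℓ-divisible for every ℓ ∈ P, and it
contains every subgroup of A that is ℓ-divisible for all ℓ ∈ P; that is, it is the largest
P-divisible subgroup of A. -/
theorem result
    {A : Type u} [AddCommGroup A] (P : Set ℕ) (hP : ∀ p ∈ P, p.Prime)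
    (IP : Set ℕ) (hIP : ∀ n, n ∈ IP ↔ 0 < n ∧ ∀ p : ℕ, p.Prime → p ∣ n → p ∈ P)
    (B : IP → Type v) [∀ n, AddCommGroup (B n)]
    (g : ∀ ⦃m n : IP⦄, (m : ℕ) ∣ (n : ℕ) → (B n →+ B m))
    (hgid : ∀ (n : IP) (b : B n), g (dvd_refl (n : ℕ)) b = b)
    (hgcomp : ∀ (k m n : IP) (hkm : (k : ℕ) ∣ (m : ℕ)) (hmn : (m : ℕ) ∣ (n : ℕ)) (b : B n),
      g hkm (g hmn b) = g (hkm.trans hmn) b)
    (φ : ∀ n : IP, A →+ B n) (hφ : ∀ (n : IP) (a : A), φ n ((n : ℕ) • a) = 0)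
    (hφg : ∀ (m n : IP) (h : (m : ℕ) ∣ (n : ℕ)) (a : A), g h (φ n a) = φ m a)
    (N : ℕ) (hN : N ∈ IP)
    (htor : ∀ b : ∀ n : IP, B n, (∀ (m n : IP) (h : (m : ℕ) ∣ (n : ℕ)), g h (b n) = b m) →
      (∃ k : ℕ, 0 < k ∧ ∀ n, k • b n = 0) → ∀ n, N • b n = 0)
    (hker : ∀ a : IP → A, (∀ m n : IP, (m : ℕ) ∣ (n : ℕ) → ∃ c : A, a n - a m = (m : ℕ) • c) →
      (∀ n, φ n (a n) = 0) → ∀ n : IP, ∃ c : A, N • a n = (n : ℕ) • c) :
    (∀ ℓ ∈ P, ∀ x : A, (∀ n ∈ IP, ∃ y : A, x = n • y) →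
        ∃ y : A, (∀ n ∈ IP, ∃ z : A, y = n • z) ∧ ℓ • y = x) ∧
    (∀ H : AddSubgroup A, (∀ ℓ ∈ P, ∀ x ∈ H, ∃ y ∈ H, ℓ • y = x) →
        ∀ x ∈ H, ∀ n ∈ IP, ∃ y : A, x = n • y) := by
  constructor
  · intro ℓ hℓ x hx
    have hℓI : ℓ ∈ IP := (hIP ℓ).2 ⟨(hP ℓ hℓ).pos, fun p hp hd =>
      ((Nat.prime_dvd_prime_iff_eq hp (hP ℓ hℓ)).1 hd) ▸ hℓ⟩
    have hmul : ∀ {a b : ℕ}, a ∈ IP → b ∈ IP → a * b ∈ IP := by
      intro a b ha hb
      refine (hIP _).2 ⟨Nat.mul_pos ((hIP a).1 ha).1 ((hIP b).1 hb).1, fun p hp hd => ?_⟩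
      rcases hp.dvd_mul.1 hd with h | h
      · exact ((hIP a).1 ha).2 p hp h
      · exact ((hIP b).1 hb).2 p hp h
    -- a torsion element is killed by `N * N` modulo every `k • A`
    have htors : ∀ d : A, (∃ k : ℕ, 0 < k ∧ k • d = 0) → ∀ n ∈ IP, ∃ c : A, (N * N) • d = n • c := by
      intro d hd n hn
      obtain ⟨k, hk, hkd⟩ := hd
      have h1 : ∀ n : IP, N • φ n d = 0 :=
        htor (fun n => φ n d) (fun m n h => hφg m n h d) ⟨k, hk, fun n => by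
          rw [← map_nsmul, hkd, map_zero]⟩
      obtain ⟨c, hc⟩ := hker (fun _ => N • d) (fun m _ _ => ⟨0, by simp⟩)
        (fun n => by rw [map_nsmul]; exact h1 n) ⟨n, hn⟩
      exact ⟨c, by rw [mul_smul]; exact hc⟩
    have hL : ℓ * (N * N) ∈ IP := hmul hℓI (hmul hN hN)
    obtain ⟨z₁, hz₁⟩ := hx _ hL
    refine ⟨(N * N) • z₁, fun n hn => ?_, by rw [hz₁, smul_smul]⟩
    obtain ⟨z, hz⟩ := hx _ (hmul hL hn)
    have hd : (ℓ * (N * N)) • (n • z - z₁) = 0 := by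
      rw [smul_sub, smul_smul, ← hz, ← hz₁, sub_self]
    obtain ⟨c, hc⟩ := htors (n • z - z₁) ⟨_, ((hIP _).1 hL).1, hd⟩ n hn
    refine ⟨(N * N) • z - c, ?_⟩
    rw [smul_sub n, ← hc, smul_sub, smul_comm n]
    abel
  · intro H hH x hx n hn
    revert x
    induction n using Nat.strongRecOn with
    | ind n ih =>
      intro x hx
      obtain ⟨hn0, hnP⟩ := (hIP n).1 hn
      by_cases h1 : n = 1
      · exact ⟨x, by rw [h1, one_smul]⟩
      obtain ⟨q, hq, ⟨m, rfl⟩⟩ := Nat.exists_prime_and_dvd h1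
      have hm : 0 < m := Nat.pos_of_mul_pos_left hn0
      obtain ⟨y, hy, rfl⟩ := hH q (hnP q hq (dvd_mul_right _ _)) x hx
      obtain ⟨z, rfl⟩ := ih m (lt_mul_of_one_lt_left hm hq.one_lt)
        ((hIP m).2 ⟨hm, fun p hp hd => hnP p hp (hd.mul_left _)⟩) y hy
      exact ⟨z, by rw [mul_smul]⟩

end Groth.Agent.S16346
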