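import Groth.Statements.S16347
import Mathlib
import Groth.Agent.EckardtLib.Basic
import Groth.Agent.PlaneBezoutLib.Basic

set_option autoImplicit false
universe u
open Cubic

namespace Groth.Agent.S16347

open MvPolynomial

variable {K : Type u} [Field K]

/-- Common zeros of two relatively prime plane curves, no two proportional. -/
theorem card_common_zeros_le {f g : MvPolynomial (Fin 3) K} {n m : ℕ} (hf : f.IsHomogeneous n) (hg : g.IsHomogeneous m)
    (hg0 : g ≠ 0) (hfg : IsRelPrime f g) {ι : Type} [Fintype ι] [DecidableEq ι] (v : ι → (Fin 3 → K))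
    (hv : ∀ i, v i ≠ 0) (hvp : ∀ i j, i ≠ j → v i ∉ Submodule.span K {v j})
    (hzf : ∀ i, eval (v i) f = 0) (hzg : ∀ i, eval (v i) g = 0) : Fintype.card ι ≤ n * m := by
  classical
  have hlin : ∀ φ : (Fin 3 → K) →ₗ[K] K, (∑ l, C (φ (Pi.single l 1)) * X l : MvPolynomial (Fin 3) K).IsHomogeneous 1 ∧
      ∀ x, eval x (∑ l, C (φ (Pi.single l 1)) * X l : MvPolynomial (Fin 3) K) = φ x := fun φ => by
    refine ⟨IsHomogeneous.sum _ _ _ fun l _ => (isHomogeneous_X K l).C_mul _, fun x => ?_⟩
    conv_rhs => rw [pi_eq_sum_univ' x, map_sum]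
    simp only [map_sum, map_mul, eval_C, eval_X, map_smul, smul_eq_mul]
    refine Finset.sum_congr rfl fun l _ => ?_
    rw [mul_comm]
    try (congr 2; funext t; simp [Pi.single_apply, eq_comm])
  have hsep : ∀ i j, ∃ φ : (Fin 3 → K) →ₗ[K] K, φ (v i) ≠ 0 ∧ (j ≠ i → φ (v j) = 0) := by
    intro i j
    by_cases hij : j = i
    · obtain ⟨φ, hφ⟩ := Submodule.exists_dual_map_eq_bot_of_notMem (p := (⊥ : Submodule K (Fin 3 → K))) (x := v i)
        (by simpa using hv i) inferInstance
      exact ⟨φ, hφ.1, fun h => absurd hij h⟩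
    · obtain ⟨φ, h1, h2⟩ := Submodule.exists_dual_map_eq_bot_of_notMem (hvp i j (Ne.symm hij)) inferInstance
      refine ⟨φ, h1, fun _ => ?_⟩
      have : φ (v j) ∈ (Submodule.span K {v j}).map φ := Submodule.mem_map_of_mem (Submodule.mem_span_singleton_self _)
      rwa [h2, Submodule.mem_bot] at this
  choose φ hφ1 hφ2 using hsep
  set d := (n + m) + Fintype.card ι
  let T : ι → MvPolynomial (Fin 3) K := fun i =>
    (∏ j ∈ Finset.univ.erase i, ∑ l, C (φ i j (Pi.single l 1)) * X l) * (∑ l, C (φ i i (Pi.single l 1)) * X l) ^ (n + m + 1)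
  have hT : ∀ i, (T i).IsHomogeneous d := fun i => by
    have h1 : (∏ j ∈ Finset.univ.erase i, ∑ l, C (φ i j (Pi.single l 1)) * X l : MvPolynomial (Fin 3) K).IsHomogeneous
        (∑ j ∈ Finset.univ.erase i, 1) := IsHomogeneous.prod _ _ _ fun j _ => (hlin _).1
    have h2 := h1.mul ((hlin (φ i i)).1.pow (n + m + 1))
    convert h2 using 1
    simp [d]
    have : 0 < Fintype.card ι := Fintype.card_pos_iff.2 ⟨i⟩
    omega
  let ev : ↥(homogeneousSubmodule (Fin 3) K d) →ₗ[K] (ι → K) :=
    LinearMap.pi fun i => (aeval (v i)).toLinearMap.comp (homogeneousSubmodule (Fin 3) K d).subtype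
  have hev : Function.Surjective ev := by
    intro y
    have hTi : ∀ i l, eval (v l) (T i) = 0 ↔ l ≠ i := fun i l => by
      simp only [T, map_mul, map_prod, map_pow, (hlin _).2]
      constructor
      · rintro h rfl
        rcases mul_eq_zero.1 h with h | h
        · obtain ⟨j, hj, h⟩ := Finset.prod_eq_zero_iff.1 h
          exact hφ1 l j h
        · exact hφ1 l l (pow_eq_zero_iff (by omega) |>.1 h)
      · intro h
        rw [Finset.prod_eq_zero (Finset.mem_erase.2 ⟨h, Finset.mem_univ l⟩) (hφ2 i l h), zero_mul]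
    refine ⟨∑ i, (y i / eval (v i) (T i)) • ⟨T i, hT i⟩, funext fun l => ?_⟩
    simp only [map_sum, map_smul, Finset.sum_apply, Pi.smul_apply, smul_eq_mul]
    rw [Finset.sum_eq_single l]
    · show y l / eval (v l) (T l) * aeval (v l) (T l) = y l
      rw [aeval_eq_eval, div_mul_cancel₀]
      exact fun h => (hTi l l).1 h rfl
    · intro i _ hi
      show _ * aeval (v l) (T i) = 0
      rw [aeval_eq_eval]
      exact mul_eq_zero_of_right _ ((hTi i l).2 hi.symm)
    · simp
  have hker : Submodule.comap (homogeneousSubmodule (Fin 3) K d).subtype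
      ((Ideal.span ({f, g} : Set (MvPolynomial (Fin 3) K))).restrictScalars K) ≤ LinearMap.ker ev := by
    intro x hx
    obtain ⟨a, b, hab⟩ := Ideal.mem_span_pair.1 hx
    rw [LinearMap.mem_ker]
    funext i
    show aeval (v i) x.1 = 0
    rw [aeval_eq_eval, show x.1 = a * f + b * g from hab.symm, map_add, map_mul, map_mul, hzf, hzg]
    ring
  have hq := Groth.Agent.PlaneBezout.finrank_quotient_piece hf hg hg0 hfg (d := d) (by omega)
  haveI := Groth.Agent.PlaneBezout.finite_forms (k := K) d
  have := LinearMap.finrank_le_finrank_of_injective (R := K) (f := (LinearMap.id : (ι → K) →ₗ[K] (ι → K))) fun _ _ h => h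
  rw [← Module.finrank_fintype_fun_eq_card K, ← hq]
  refine LinearMap.finrank_le_finrank_of_injective
    (f := (LinearMap.exists_rightInverse_of_surjective (Submodule.liftQ _ ev hker) (LinearMap.range_eq_top.2 ?_)).choose) ?_
  · intro y
    obtain ⟨x, hx⟩ := hev y
    exact ⟨Submodule.Quotient.mk x, hx⟩
  · intro y y' h
    have hs := (LinearMap.exists_rightInverse_of_surjective (Submodule.liftQ _ ev hker) (LinearMap.range_eq_top.2 (fun y => by
      obtain ⟨x, hx⟩ := hev y; exact ⟨Submodule.Quotient.mk x, hx⟩))).choose_spec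
    have := congrArg (Submodule.liftQ _ ev hker) h
    rwa [← LinearMap.comp_apply, ← LinearMap.comp_apply, hs] at this

open Groth.Agent.EckardtLib in
theorem main [CharZero K] (F : MvPolynomial (Fin 4) K) (hF : F.IsHomogeneous 3) (hirr : Irreducible F)
    (hcone : ¬ ∃ v : Fin 4 → K, v ≠ 0 ∧ ∑ i : Fin 4, v i • MvPolynomial.pderiv i F = 0)
    (a : Fin 4 → K) (ha : a ≠ 0) (hFa : MvPolynomial.eval a F = 0)
    (hsing : ∀ i : Fin 4, MvPolynomial.eval a (MvPolynomial.pderiv i F) = 0)
    (L : Finset (Submodule K (Fin 4 → K))) (hL : ∀ U ∈ L, a ∈ U ∧ Module.finrank K ↥U = 2 ∧ ∀ u ∈ U, MvPolynomial.eval u F = 0) :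
    L.card ≤ 6 := by
  classical
  obtain ⟨j, hj⟩ : ∃ j, a j ≠ 0 := Function.ne_iff.1 ha
  let ι3 : (Fin 3 → K) → (Fin 4 → K) := fun y => Fin.insertNth j 0 y
  let lι : Fin 4 → MvPolynomial (Fin 3) K := Fin.insertNth j 0 X
  have hlι : ∀ y i, eval y (lι i) = ι3 y i := fun y i => by
    cases i using Fin.succAboveCases j <;> simp [lι, ι3]
  let lt : MvPolynomial (Fin 4) K := C (a j)⁻¹ * X j
  let ly : Fin 3 → MvPolynomial (Fin 4) K := fun i => X (j.succAbove i) - C (a (j.succAbove i)) * lt
  have hdec : ∀ x : Fin 4 → K, x = ι3 (fun i => eval x (ly i)) + eval x lt • a := fun x => by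
    funext i
    cases i using Fin.succAboveCases j
    · simp [ι3, lt, mul_comm, hj]
    · simp [ι3, lt, ly]; ring
  set P : MvPolynomial (Fin 4) K := ∑ i, a i • pderiv i F with hP
  have hPB : ∀ x, eval x P = 3 * B F x x a := fun x => by
    let Lz : (Fin 4 → K) →ₗ[K] K :=
      { toFun := fun z => B F x x z
        map_add' := fun z z' => B_add₃ x x z z'
        map_smul' := fun c z => by simp [B_smul₃] }
    have h := LinearMap.pi_apply_eq_sum_univ Lz a
    rw [show B F x x a = Lz a from rfl, h, hP, map_sum, Finset.mul_sum]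
    refine Finset.sum_congr rfl fun i _ => ?_
    rw [smul_eval, eval_pderiv_eq_B hF, smul_eq_mul]
    show a i * (3 * Lz (Pi.single i 1)) = _
    rw [show (fun l => if i = l then (1 : K) else 0) = Pi.single i 1 by funext l; simp [Pi.single_apply, eq_comm]]
    ring
  have haa : ∀ x, B F a a x = 0 := fun x => by
    let Lz : (Fin 4 → K) →ₗ[K] K :=
      { toFun := fun z => B F a a z
        map_add' := fun z z' => B_add₃ a a z z'
        map_smul' := fun c z => by simp [B_smul₃] }
    have h := LinearMap.pi_apply_eq_sum_univ Lz x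
    rw [show B F a a x = Lz x from rfl, h]
    refine Finset.sum_eq_zero fun i _ => ?_
    have h3 := eval_pderiv_eq_B hF a i
    rw [hsing i] at h3
    rw [show (fun l => if i = l then (1 : K) else 0) = Pi.single i 1 by funext l; simp [Pi.single_apply, eq_comm]]
    have h4 : Lz (Pi.single i 1) = 0 := (mul_eq_zero.1 h3.symm).resolve_left (by norm_num)
    rw [h4, smul_zero]
  have hexp : ∀ w t, eval (w + t • a) F = eval w F + t * eval w P := fun w t => by
    rw [eval_eq_B hF, eval_eq_B hF, hPB]
    have h1 : B F a a w = 0 := haa w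
    have h2 : B F a a a = 0 := haa a
    simp only [B_add₁, B_add₂, B_add₃, B_smul₁, B_smul₂, B_smul₃]
    have e1 : B F w a w = B F w w a := B_comm₂₃ _ _ _
    have e2 : B F a w w = B F w w a := (B_comm₁₂ _ _ _).trans e1
    have e3 : B F a w a = B F a a w := B_comm₂₃ _ _ _
    have e4 : B F w a a = B F a a w := (B_comm₁₂ _ _ _).trans e3
    rw [e1, e2, e3, e4, h1, h2]
    ring
  set q := aeval lι P with hq
  set c := aeval lι F with hc
  have hevq : ∀ y, eval y q = eval (ι3 y) P := fun y => by
    rw [hq, ← aeval_eq_eval, ← aeval_eq_eval, ← AlgHom.comp_apply]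
    refine congrArg (fun φ : MvPolynomial (Fin 4) K →ₐ[K] K => φ P) (algHom_ext fun i => ?_)
    simpa [aeval_eq_eval] using hlι y i
  have hevc : ∀ y, eval y c = eval (ι3 y) F := fun y => by
    rw [hc, ← aeval_eq_eval, ← aeval_eq_eval, ← AlgHom.comp_apply]
    refine congrArg (fun φ : MvPolynomial (Fin 4) K →ₐ[K] K => φ F) (algHom_ext fun i => ?_)
    simpa [aeval_eq_eval] using hlι y i
  have hlι1 : ∀ i, (lι i).IsHomogeneous 1 := fun i => by
    cases i using Fin.succAboveCases j <;> simp [lι, isHomogeneous_X, isHomogeneous_zero]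
  have hly1 : ∀ i, (ly i).IsHomogeneous 1 := fun i =>
    (isHomogeneous_X K _).sub (((isHomogeneous_X K j).C_mul _).C_mul _)
  have hP2 : P.IsHomogeneous 2 := IsHomogeneous.sum _ _ _ fun i _ => by
    rw [smul_eq_C_mul]; exact hF.pderiv.C_mul _
  have hq2 : q.IsHomogeneous 2 := by have := hP2.aeval lι hlι1; rw [one_mul] at this; exact this
  have hc3 : c.IsHomogeneous 3 := by have := hF.aeval lι hlι1; rw [one_mul] at this; exact this
  have hkey : F = lt * aeval ly q + aeval ly c := MvPolynomial.funext fun x => by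
    have h1 : ∀ p : MvPolynomial (Fin 3) K, eval x (aeval ly p) = eval (fun i => eval x (ly i)) p := fun p => by
      rw [← aeval_eq_eval, ← aeval_eq_eval, ← AlgHom.comp_apply]
      refine congrArg (fun φ : MvPolynomial (Fin 3) K →ₐ[K] K => φ p) (algHom_ext fun i => ?_)
      simp
    conv_lhs => rw [hdec x]
    rw [hexp, map_add, map_mul (eval x) lt (aeval ly q), h1, h1, hevq, hevc]
    ring
  have hq0 : q ≠ 0 := by
    intro h0
    refine hcone ⟨a, ha, MvPolynomial.funext fun x => ?_⟩
    have h1 : B F a a (ι3 fun i => eval x (ly i)) = 0 := haa _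
    have h2 : B F a a a = 0 := haa a
    have h3 := hevq (fun i => eval x (ly i))
    rw [h0, map_zero, hPB] at h3
    rw [map_zero, ← hP, hPB, hdec x]
    simp only [B_add₁, B_add₂, B_smul₁, B_smul₂]
    generalize ι3 (fun i => eval x (ly i)) = w at h1 h3 ⊢
    have e3 : B F a w a = B F a a w := B_comm₂₃ _ _ _
    have e4 : B F w a a = B F a a w := (B_comm₁₂ _ _ _).trans e3
    rw [e3, e4, h1, h2]
    linear_combination -h3
  have hback : ∀ p, aeval lι (aeval ly p) = p := fun p => by
    rw [← AlgHom.comp_apply]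
    refine (congrArg (fun φ : MvPolynomial (Fin 3) K →ₐ[K] MvPolynomial (Fin 3) K => φ p) (algHom_ext fun i => ?_)).trans (AlgHom.id_apply (R := K) p)
    simp [ly, lt, lι]
  have hrel : IsRelPrime c q := fun g hgc hgq => by
    have hF' : aeval ly g ∣ F := hkey ▸ dvd_add ((map_dvd (aeval ly) hgq).mul_left _) (map_dvd (aeval ly) hgc)
    obtain ⟨u, hu⟩ := hF'
    rcases hirr.isUnit_or_isUnit hu with h | h
    · have := h.map (aeval lι)
      rwa [hback] at this
    · exfalso
      have h2 : F ∣ aeval ly q := (hu ▸ (h.mul_right_dvd).2 dvd_rfl : F ∣ aeval ly g) |>.trans (map_dvd (aeval ly) hgq)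
      obtain ⟨w, hw⟩ := h2
      have hne : aeval ly q ≠ 0 := fun h0 => hq0 (by rw [← hback q, h0, map_zero])
      have hw0 : w ≠ 0 := fun h0 => hne (by rw [hw, h0, mul_zero])
      have hd : (aeval ly q).IsHomogeneous 2 := by simpa using hq2.aeval ly hly1
      have := congrArg totalDegree hw
      rw [hd.totalDegree hne, totalDegree_mul_of_isDomain hirr.ne_zero hw0, hF.totalDegree hirr.ne_zero] at this
      omega
  have hpt : ∀ U ∈ L, ∃ y : Fin 3 → K, y ≠ 0 ∧ ι3 y ∈ U ∧ eval y c = 0 ∧ eval y q = 0 := by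
    intro U hU
    obtain ⟨haU, hU2, hUF⟩ := hL U hU
    have hlt : Submodule.span K {a} < U := by
      refine lt_of_le_of_ne ((Submodule.span_singleton_le_iff_mem _ _).2 haU) fun h => ?_
      rw [← h, finrank_span_singleton ha] at hU2
      omega
    obtain ⟨x, hxU, hxa⟩ := SetLike.exists_of_lt hlt
    let y : Fin 3 → K := fun i => eval x (ly i)
    have hy : ι3 y = x - eval x lt • a := eq_sub_of_add_eq (hdec x).symm
    have hyU : ι3 y ∈ U := hy ▸ U.sub_mem hxU (U.smul_mem _ haU)
    refine ⟨y, fun h0 => hxa ?_, hyU, by rw [hevc]; exact hUF _ hyU, ?_⟩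
    · have hz : ι3 y = 0 := by
        rw [h0]; funext i; cases i using Fin.succAboveCases j <;> simp [ι3]
      rw [hy, sub_eq_zero] at hz
      rw [hz]
      exact Submodule.smul_mem _ _ (Submodule.mem_span_singleton_self a)
    · rw [hevq]
      have h1 := hexp (ι3 y) 1
      rw [hUF _ (U.add_mem hyU (U.smul_mem _ haU)), hUF _ hyU] at h1
      simpa using h1.symm
  choose! y hy0 hyU hyc hyq using hpt
  have hle := card_common_zeros_le hc3 hq2 hq0 hrel (fun i : Fin L.card => y (L.equivFin.symm i).1)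
    (fun i => hy0 _ (L.equivFin.symm i).2) (fun i i' hii hmem => hii ?_)
    (fun i => hyc _ (L.equivFin.symm i).2) (fun i => hyq _ (L.equivFin.symm i).2)
  · rw [Fintype.card_fin] at hle
    omega
  · obtain ⟨t, ht⟩ := Submodule.mem_span_singleton.1 hmem
    have hU := (L.equivFin.symm i).2
    have hU' := (L.equivFin.symm i').2
    refine L.equivFin.symm.injective (Subtype.ext ?_)
    obtain ⟨ha1, hd1, -⟩ := hL _ hU
    obtain ⟨ha2, hd2, -⟩ := hL _ hU'
    generalize (L.equivFin.symm i).1 = U at *
    generalize (L.equivFin.symm i').1 = U' at *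
    have hmem' : ι3 (y U) ∈ U' := by
      rw [← ht, show ι3 (t • y U') = t • ι3 (y U') from by funext l; cases l using Fin.succAboveCases j <;> simp [ι3]]
      exact U'.smul_mem _ (hyU _ hU')
    have hind : LinearIndependent K ![a, ι3 (y U)] := by
      refine (LinearIndependent.pair_iff' ha).2 fun s hs => hy0 _ hU ?_
      have h1 := congrFun hs j
      simp [ι3, hj] at h1
      subst h1
      rw [zero_smul] at hs
      funext l
      have := congrFun hs.symm (j.succAbove l)
      simpa [ι3] using this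
    have hspan : ∀ W : Submodule K (Fin 4 → K), a ∈ W → ι3 (y U) ∈ W → Module.finrank K ↥W = 2 →
        Submodule.span K (Set.range ![a, ι3 (y U)]) = W := fun W h1 h2 h3 => by
      refine Submodule.eq_of_le_of_finrank_eq (Submodule.span_le.2 ?_) ?_
      · rintro _ ⟨l, rfl⟩; fin_cases l <;> simp [h1, h2]
      · rw [finrank_span_eq_card hind, h3, Fintype.card_fin]
    rw [← hspan U ha1 (hyU _ hU) hd1, hspan U' ha2 hmem' hd2]

/-- Let K be an algebraically closed field of characteristic zero and S = V(F) ⊂ P^3_K a cubic surface,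
F a homogeneous cubic in four variables which is irreducible and not a cone (there is no nonzero
vector v with Σ_i v_i ∂F/∂x_i = 0). If a is a singular point of S (a nonzero vector with F(a) = 0
and every ∂F/∂x_i(a) = 0), then at most six lines through a lie on S; here a line through a on S is
a 2-dimensional subspace of K^4 containing a on which F vanishes identically. -/
theorem result (K : Type u) [Field K] [IsAlgClosed K] [CharZero K]
    (F : MvPolynomial (Fin 4) K) (hF : F.IsHomogeneous 3) (hirr : Irreducible F)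
    (hcone : ¬ ∃ v : Fin 4 → K, v ≠ 0 ∧ ∑ i : Fin 4, v i • MvPolynomial.pderiv i F = 0)
    (a : Fin 4 → K) (ha : a ≠ 0) (hFa : MvPolynomial.eval a F = 0)
    (hsing : ∀ i : Fin 4, MvPolynomial.eval a (MvPolynomial.pderiv i F) = 0) :
    {U : Submodule K (Fin 4 → K) | a ∈ U ∧ Module.finrank K ↥U = 2 ∧ ∀ u ∈ U, MvPolynomial.eval u F = 0}.encard ≤ 6 := by
  classical
  by_contra h
  obtain ⟨t, hts, ht⟩ := Set.exists_subset_encard_eq (k := 7) (le_of_not_gt fun hlt => h ((ENat.lt_add_one_iff (by simp)).1 (show _ < (6 : ℕ∞) + 1 by norm_num; exact hlt)))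
  have hfin : t.Finite := Set.finite_of_encard_eq_coe ht
  have := main F hF hirr hcone a ha hFa hsing hfin.toFinset fun U hU => hts (hfin.mem_toFinset.1 hU)
  rw [hfin.encard_eq_coe_toFinset_card] at ht
  norm_cast at ht
  omega

end Groth.Agent.S16347
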