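import Groth.Statements.S16351
import Mathlib

set_option autoImplicit false
universe u
open Cubic

namespace Groth.Agent.S16351

open Polynomial in
lemma exists_lift {K : Type*} [Field K] [Infinite K] (b : Fin 5 → Fin 3 → K)
    (h3 : ∀ i j l : Fin 5, i ≠ j → j ≠ l → i ≠ l → LinearIndependent K ![b i, b j, b l]) :
    ∃ t : K, ∀ j : Fin 5,
      (Matrix.of fun i : Fin 4 => Fin.cons (t ^ (j.succAbove i).val) (b (j.succAbove i))).det ≠ 0 := by
  classical
  let c : Fin 5 → Fin 4 → K := fun j i => (-1) ^ (i : ℕ) * (Matrix.of fun l : Fin 3 => b (j.succAbove (i.succAbove l))).det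
  have hc : ∀ j i, c j i ≠ 0 := by
    intro j i
    refine mul_ne_zero (pow_ne_zero _ (neg_ne_zero.2 one_ne_zero)) ?_
    have hinj : Function.Injective (fun l : Fin 3 => j.succAbove (i.succAbove l)) :=
      (Fin.succAbove_right_injective).comp Fin.succAbove_right_injective
    have h := h3 _ _ _ (hinj.ne (show (0 : Fin 3) ≠ 1 by decide)) (hinj.ne (show (1 : Fin 3) ≠ 2 by decide))
      (hinj.ne (show (0 : Fin 3) ≠ 2 by decide))
    have he : (Matrix.of fun l : Fin 3 => b (j.succAbove (i.succAbove l))) =
        Matrix.of ![b (j.succAbove (i.succAbove 0)), b (j.succAbove (i.succAbove 1)), b (j.succAbove (i.succAbove 2))] := by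
      ext l m
      fin_cases l <;> rfl
    rw [he, ← isUnit_iff_ne_zero, ← Matrix.isUnit_iff_isUnit_det, ← Matrix.linearIndependent_rows_iff_isUnit]
    exact h
  let P : Fin 5 → K[X] := fun j => ∑ i : Fin 4, monomial (j.succAbove i).val (c j i)
  have hP : ∀ j, P j ≠ 0 := fun j h0 => hc j 0 (by
    have := congrArg (fun q => q.coeff (j.succAbove 0).val) h0
    simpa [P, Polynomial.coeff_monomial, Fin.val_inj, Fin.succAbove_right_inj] using this)
  obtain ⟨t, ht⟩ := Polynomial.exists_eval_ne_zero_of_natDegree_lt_card (∏ j, P j)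
    (Finset.prod_ne_zero_iff.2 fun j _ => hP j)
    (lt_of_lt_of_le (Cardinal.natCast_lt_aleph0) (Cardinal.aleph0_le_mk K))
  refine ⟨t, fun j hdet => ?_⟩
  rw [Polynomial.eval_prod] at ht
  refine Finset.prod_ne_zero_iff.1 ht j (Finset.mem_univ _) ?_
  rw [← hdet, Matrix.det_succ_column_zero]
  simp only [P, c, Polynomial.eval_finsetSum, Polynomial.eval_monomial]
  refine Finset.sum_congr rfl fun i _ => ?_
  have hs : (Matrix.of fun i : Fin 4 => (Fin.cons (t ^ (j.succAbove i).val) (b (j.succAbove i)) : Fin 4 → K)).submatrix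
      i.succAbove Fin.succ = Matrix.of fun l : Fin 3 => b (j.succAbove (i.succAbove l)) := by
    ext l m
    simp
  rw [hs]
  simp only [Matrix.of_apply, Fin.cons_zero]
  ring

/-- Let K be a field of characteristic zero and S = V(F) ⊂ P^3_K a cone over a plane cubic curve C,
normalised so that the vertex is [1 : 0 : 0 : 0], i.e. F is a homogeneous cubic in K[x_0, …, x_3]
not involving x_0 and C = V(F) in the plane P^2 of the coordinates x_1, x_2, x_3. If C has five
K-rational points no three of which are collinear, then S has five K-rational points in general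
position (no four coplanar: any four representing vectors linearly independent). -/
theorem result (K : Type u) [Field K] [CharZero K]
    (G : MvPolynomial (Fin 3) K) (hG : G.IsHomogeneous 3) (F : MvPolynomial (Fin 4) K)
    (hF : F = MvPolynomial.rename Fin.succ G)
    (b : Fin 5 → (Fin 3 → K)) (hb : ∀ j : Fin 5, MvPolynomial.eval (b j) G = 0)
    (h3 : ∀ i j l : Fin 5, i ≠ j → j ≠ l → i ≠ l → LinearIndependent K ![b i, b j, b l]) :
    ∃ p : Fin 5 → (Fin 4 → K), (∀ j : Fin 5, MvPolynomial.eval (p j) F = 0) ∧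
      ∀ j : Fin 5, LinearIndependent K (fun i : Fin 4 => p (j.succAbove i)) := by
  obtain ⟨t, ht⟩ := exists_lift b h3
  refine ⟨fun j => Fin.cons (t ^ j.val) (b j), fun j => ?_, fun j => ?_⟩
  · rw [hF, MvPolynomial.eval_rename]
    refine Eq.trans ?_ (hb j)
    congr 1
  · have := Matrix.linearIndependent_rows_iff_isUnit.2
      ((Matrix.isUnit_iff_isUnit_det _).2 (isUnit_iff_ne_zero.2 (ht j)))
    exact this

end Groth.Agent.S16351
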