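import Mathlib
import Groth.Statements.S16352
-- import your own Groth.Agent.* helpers here

set_option autoImplicit false
universe u
open Cubic

namespace Groth.Agent.S16352


section
open MvPolynomial
variable {K : Type u} [Field K]

/-- Substitution of `∑ z_j b_j`. -/
noncomputable def sub {r n : ℕ} (b : Fin r → (Fin n → K)) : MvPolynomial (Fin n) K →ₐ[K] MvPolynomial (Fin r) K :=
  aeval fun i => ∑ j, C (b j i) * X j

theorem eval_sub {r n : ℕ} (b : Fin r → (Fin n → K)) (z : Fin r → K) (F : MvPolynomial (Fin n) K) :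
    eval z (sub b F) = eval (∑ j, z j • b j) F := by
  induction F using MvPolynomial.induction_on with
  | C a => simp [sub]
  | add p q hp hq => simp [hp, hq]
  | mul_X p i hp =>
    rw [map_mul, map_mul, hp, map_mul]
    congr 1
    simp [sub, Finset.sum_apply, mul_comm]

theorem pderiv_sub {r n : ℕ} (b : Fin r → (Fin n → K)) (j : Fin r) (F : MvPolynomial (Fin n) K) :
    pderiv j (sub b F) = sub b (∑ i, b j i • pderiv i F) := by
  induction F using MvPolynomial.induction_on with
  | C a => simp [sub]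
  | add p q hp hq =>
    simp only [map_add, hp, hq, smul_add, Finset.sum_add_distrib]
  | mul_X p k hp =>
    have hX : pderiv j (sub b (X k)) = C (b j k) := by
      simp [sub, map_sum, pderiv_mul, pderiv_X, Pi.single_apply]
    rw [map_mul, pderiv_mul, hp, hX]
    simp only [pderiv_mul, smul_add, Finset.sum_add_distrib, map_add, smul_mul_assoc, pderiv_X]
    simp [← smul_mul_assoc, ← Finset.sum_mul, map_mul, Pi.single_apply, sub, Algebra.smul_def, mul_comm]
    rw [Finset.mul_sum]
    exact Finset.sum_congr rfl fun x _ => by ring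

theorem sub_isHomogeneous {r n d : ℕ} (b : Fin r → (Fin n → K)) {F : MvPolynomial (Fin n) K}
    (hF : F.IsHomogeneous d) : (sub b F).IsHomogeneous d := by
  have := hF.aeval (g := fun i => ∑ j, C (b j i) * X j) (n := 1) (fun i =>
    IsHomogeneous.sum _ _ _ fun j _ => isHomogeneous_C_mul_X _ _)
  simpa [sub] using this

theorem eval_single_of_isHomogeneous {r d : ℕ} {G : MvPolynomial (Fin r) K} (hG : G.IsHomogeneous d) (i : Fin r) :
    eval (Pi.single i 1) G = coeff (Finsupp.single i d) G := by
  rw [eval_eq', Finset.sum_eq_single (Finsupp.single i d)]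
  · rw [Finset.prod_eq_one fun j _ => ?_, mul_one]
    by_cases h : j = i <;> simp [h, Finsupp.single_apply]
  · intro m hm hne
    obtain ⟨j, hj, hmj⟩ : ∃ j, j ≠ i ∧ m j ≠ 0 := by
      by_contra h
      push Not at h
      apply hne
      have hdeg := hG (mem_support_iff.mp hm)
      rw [Finsupp.weight_apply, Finsupp.sum_fintype _ _ (by simp), Finset.sum_eq_single i
        (fun j _ hj => by simp [h j hj]) (by simp)] at hdeg
      ext j
      by_cases hj : j = i
      · subst hj; simpa using hdeg
      · simp [h j hj, hj]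
    rw [Finset.prod_eq_zero (Finset.mem_univ j) (by simp [hj, zero_pow hmj]), mul_zero]
  · intro h
    rw [notMem_support_iff.mp h, zero_mul]

theorem coeff_binary {d : ℕ} {f : MvPolynomial (Fin 2) K} (hf : f.IsHomogeneous d)
    (m : Fin 2 →₀ ℕ) (hm : m 0 + m 1 = d) :
    coeff m f = (aeval ![(Polynomial.X : Polynomial K), 1] f).coeff (m 0) := by
  rw [aeval_def, eval₂_eq', Polynomial.finsetSum_coeff, Finset.sum_eq_single m]
  · simp [Fin.prod_univ_two]
  · intro b hb hne
    have hdeg : b 0 + b 1 = d := by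
      have := hf (mem_support_iff.mp hb)
      rw [Finsupp.weight_apply, Finsupp.sum_fintype _ _ (by simp), Fin.sum_univ_two] at this
      simpa using this
    have h0 : b 0 ≠ m 0 := fun h => hne (Finsupp.ext fun x => by fin_cases x <;> simp <;> omega)
    simp [Fin.prod_univ_two, Polynomial.coeff_X_pow, h0.symm]
  · intro h
    simp [notMem_support_iff.mp h]

/-- A binary form over an algebraically closed field is a product of linear forms. -/
theorem binary_eq_prod [IsAlgClosed K] {d : ℕ} {f : MvPolynomial (Fin 2) K} (hd : 1 ≤ d) (hf : f.IsHomogeneous d) :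
    ∃ L : Fin d → MvPolynomial (Fin 2) K, (∀ i, (L i).IsHomogeneous 1) ∧ f = ∏ i, L i := by
  classical
  set p := aeval ![(Polynomial.X : Polynomial K), 1] f with hp
  set rs := p.roots.toList with hrs
  have hsplit : Polynomial.C p.leadingCoeff * (p.roots.map fun a => Polynomial.X - Polynomial.C a).prod = p :=
    Polynomial.C_leadingCoeff_mul_prod_multiset_X_sub_C
      (Polynomial.splits_iff_card_roots.mp (IsAlgClosed.splits p))
  have hk : rs.length ≤ d := by
    rw [hrs, Multiset.length_toList]
    refine (Polynomial.card_roots' p).trans ?_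
    rw [hp, aeval_def, eval₂_eq']
    refine Polynomial.natDegree_sum_le_of_forall_le _ _ fun m hm => ?_
    have := hf (mem_support_iff.mp hm)
    rw [Finsupp.weight_apply, Finsupp.sum_fintype _ _ (by simp), Fin.sum_univ_two] at this
    simp only [Pi.one_apply, smul_eq_mul, mul_one] at this
    simp only [Fin.prod_univ_two, Matrix.cons_val_zero, Matrix.cons_val_one, one_pow, mul_one,
      Polynomial.algebraMap_eq]
    exact (Polynomial.natDegree_C_mul_X_pow_le _ _).trans (by omega)
  let ls : List (MvPolynomial (Fin 2) K) := rs.map (fun a => X 0 - C a * X 1) ++ List.replicate (d - rs.length) (X 1)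
  have hlen : ls.length = d := by simp [ls]; omega
  have hls : ∀ L ∈ ls, L.IsHomogeneous 1 := by
    intro L hL
    rcases List.mem_append.mp hL with h | h
    · obtain ⟨a, -, rfl⟩ := List.mem_map.mp h
      exact (isHomogeneous_X K 0).sub (isHomogeneous_C_mul_X _ _)
    · rw [List.eq_of_mem_replicate h]; exact isHomogeneous_X K 1
  let L : Fin d → MvPolynomial (Fin 2) K := fun i => ls[(i : ℕ)]'(hlen.symm ▸ i.2)
  have hprod : ∏ i, L i = ls.prod := by
    rw [← List.prod_ofFn]
    congr 1
    exact List.ext_getElem (by simp [hlen]) (fun i h1 h2 => by simp [L])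
  let i0 : Fin d := ⟨0, by omega⟩
  refine ⟨Function.update L i0 (C p.leadingCoeff * L i0), fun i => ?_, ?_⟩
  · by_cases h : i = i0
    · subst h
      rw [Function.update_self]
      exact (hls _ (List.getElem_mem _)).C_mul _
    · rw [Function.update_of_ne h]
      exact hls _ (List.getElem_mem _)
  · rw [Finset.prod_update_of_mem (Finset.mem_univ i0), mul_assoc,
      ← Finset.prod_eq_mul_prod_sdiff_singleton_of_mem (Finset.mem_univ i0) L]
    have hg : (C p.leadingCoeff * ∏ i, L i).IsHomogeneous d := by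
      have h2 := (IsHomogeneous.prod Finset.univ L (fun _ => 1) fun i _ => hls _ (List.getElem_mem _)).C_mul p.leadingCoeff
      simpa using h2
    have hge : aeval ![(Polynomial.X : Polynomial K), 1] (C p.leadingCoeff * ∏ i, L i) = p := by
      conv_rhs => rw [← hsplit, ← Multiset.coe_toList p.roots, Multiset.map_coe, Multiset.prod_coe]
      rw [hprod, map_mul, map_list_prod]
      simp [ls, List.map_map, Function.comp_def, hrs]
    ext m
    by_cases hm : m 0 + m 1 = d
    · rw [coeff_binary hf m hm, coeff_binary hg m hm, hge]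
    · have hne : Finsupp.weight (1 : Fin 2 → ℕ) m ≠ d := by
        rw [Finsupp.weight_apply, Finsupp.sum_fintype _ _ (by simp), Fin.sum_univ_two]
        simpa using hm
      rw [not_imp_comm.mp (@hf m) hne, not_imp_comm.mp (@hg m) hne]

theorem eq_rename_of_coeff {f : MvPolynomial (Fin 3) K} (hf : ∀ m, m 0 ≠ 0 → coeff m f = 0) :
    f = rename Fin.succ (aeval ![(0 : MvPolynomial (Fin 2) K), X 0, X 1] f) := by
  conv_lhs => rw [f.as_sum]
  conv_rhs => rw [f.as_sum]
  simp only [map_sum]
  refine Finset.sum_congr rfl fun m hm => ?_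
  have h0 : m 0 = 0 := by
    by_contra h
    exact mem_support_iff.mp hm (hf m h)
  rw [monomial_eq, map_mul, aeval_C, Finsupp.prod_fintype _ _ (by simp), map_prod, map_mul, map_prod]
  simp [Fin.prod_univ_three, h0]

end

/-- Let K be an algebraically closed field of characteristic zero and S = V(F) ⊂ P^3_K a cubic surface
which is irreducible and not a cone (no nonzero vector v has Σ_i v_i ∂F/∂x_i = 0). Let a be a smooth
point of S which is not a T-point: with ℓ = Σ_i ∂F/∂x_i(a) · x_i the (nonzero) linear form of the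
tangent plane T_a S, F is not congruent modulo ℓ to a product of three linear forms (i.e. T_a S ∩ S
is not set-theoretically a union of lines). Let P = Σ_i a_i ∂F/∂x_i be the first polar of a. Then
V(P) ∩ T_a S is a union of at most two lines through a, and every line through a lying on S lies in
V(P) ∩ T_a S; lines are 2-dimensional subspaces of K^4 and T_a S is the 3-dimensional subspace where
ℓ vanishes. -/
theorem result (K : Type u) [Field K] [IsAlgClosed K] [CharZero K]
    (F : MvPolynomial (Fin 4) K) (hF : F.IsHomogeneous 3) (hirr : Irreducible F)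
    (hcone : ¬ ∃ v : Fin 4 → K, v ≠ 0 ∧ ∑ i : Fin 4, v i • MvPolynomial.pderiv i F = 0)
    (a : Fin 4 → K) (ha : a ≠ 0) (hFa : MvPolynomial.eval a F = 0)
    (hsm : ∃ i : Fin 4, MvPolynomial.eval a (MvPolynomial.pderiv i F) ≠ 0)
    (ℓ : MvPolynomial (Fin 4) K)
    (hℓ : ℓ = ∑ i : Fin 4, MvPolynomial.C (MvPolynomial.eval a (MvPolynomial.pderiv i F)) * MvPolynomial.X i)
    (hT : ¬ ∃ L₁ L₂ L₃ : MvPolynomial (Fin 4) K, L₁.IsHomogeneous 1 ∧ L₂.IsHomogeneous 1 ∧ L₃.IsHomogeneous 1 ∧
      F - L₁ * L₂ * L₃ ∈ Ideal.span {ℓ})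
    (P : MvPolynomial (Fin 4) K) (hP : P = ∑ i : Fin 4, a i • MvPolynomial.pderiv i F)
    (H : Submodule K (Fin 4 → K)) (hH : ∀ x : Fin 4 → K, x ∈ H ↔ MvPolynomial.eval x ℓ = 0) :
    (∃ U₁ U₂ : Submodule K (Fin 4 → K), Module.finrank K ↥U₁ = 2 ∧ Module.finrank K ↥U₂ = 2 ∧ a ∈ U₁ ∧ a ∈ U₂ ∧
        U₁ ≤ H ∧ U₂ ≤ H ∧ {x : Fin 4 → K | x ∈ H ∧ MvPolynomial.eval x P = 0} = (U₁ : Set (Fin 4 → K)) ∪ (U₂ : Set (Fin 4 → K))) ∧
      ∀ U : Submodule K (Fin 4 → K), a ∈ U → Module.finrank K ↥U = 2 → (∀ u ∈ U, MvPolynomial.eval u F = 0) →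
        U ≤ H ∧ ∀ u ∈ U, MvPolynomial.eval u P = 0 := by
  classical
  -- coordinates on `H`
  have haH : a ∈ H := by
    rw [hH, hℓ]
    have he := congrArg (MvPolynomial.eval a) hF.sum_X_mul_pderiv
    rw [map_sum, nsmul_eq_mul, map_mul, hFa, mul_zero] at he
    rw [map_sum, ← he]
    exact Finset.sum_congr rfl fun i _ => by simp [mul_comm]
  let φℓ : (Fin 4 → K) →ₗ[K] K :=
    ∑ i, MvPolynomial.eval a (MvPolynomial.pderiv i F) • LinearMap.proj (R := K) (φ := fun _ : Fin 4 => K) i
  have hφℓ : ∀ x, φℓ x = MvPolynomial.eval x ℓ := fun x => by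
    simp [φℓ, hℓ, map_sum, LinearMap.sum_apply]
  have hHker : H = LinearMap.ker φℓ := by
    ext x; rw [hH, LinearMap.mem_ker, hφℓ]
  have hφ0 : φℓ ≠ 0 := fun h => by
    obtain ⟨i, hi⟩ := hsm
    have := LinearMap.congr_fun h (Pi.single i 1)
    simp [φℓ, LinearMap.sum_apply, Pi.single_apply] at this
    exact hi this
  have hH3 : Module.finrank K H = 3 := by
    have h1 := φℓ.finrank_range_add_finrank_ker
    rw [LinearMap.range_eq_top.mpr (LinearMap.surjective hφ0), finrank_top, Module.finrank_self,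
      Module.finrank_fin_fun, ← hHker] at h1
    omega
  let La : Submodule K H := Submodule.span K {(⟨a, haH⟩ : H)}
  have hq2 : Module.finrank K (H ⧸ La) = 2 := by
    have h1 := La.finrank_quotient_add_finrank
    rw [finrank_span_singleton (fun h => ha (congrArg Subtype.val h)), hH3] at h1
    omega
  let bq := Module.finBasisOfFinrankEq K (H ⧸ La) hq2
  choose e he using fun i => La.mkQ_surjective (bq i)
  let bv : Fin 3 → (Fin 4 → K) := ![a, (e 0 : Fin 4 → K), (e 1 : Fin 4 → K)]
  let ι : (Fin 3 → K) →ₗ[K] (Fin 4 → K) := Fintype.linearCombination K bv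
  have hιapp : ∀ z, ι z = ∑ j, z j • bv j := fun z => Fintype.linearCombination_apply K bv z
  have hιH : ∀ z, ι z ∈ H := fun z => by
    rw [hιapp]
    refine Submodule.sum_mem _ fun j _ => Submodule.smul_mem _ _ ?_
    fin_cases j
    · exact haH
    · exact (e 0).2
    · exact (e 1).2
  have hιinj : Function.Injective ι := by
    rw [injective_iff_map_eq_zero]
    intro z hz
    rw [hιapp, Fin.sum_univ_three] at hz
    have hzH : z 0 • (⟨a, haH⟩ : H) + z 1 • e 0 + z 2 • e 1 = 0 := Subtype.ext hz
    have h12 := congrArg La.mkQ hzH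
    rw [map_add, map_add, map_smul, map_smul, map_smul, he, he, map_zero La.mkQ, Submodule.mkQ_apply,
      (Submodule.Quotient.mk_eq_zero La).mpr (Submodule.mem_span_singleton_self _), smul_zero, zero_add] at h12
    have h := Fintype.linearIndependent_iff.mp bq.linearIndependent ![z 1, z 2] (by simpa [Fin.sum_univ_two] using h12)
    have h1 : z 1 = 0 := h 0
    have h2 : z 2 = 0 := h 1
    have h0 : z 0 = 0 := by
      simp [h1, h2, bv] at hz
      exact hz.resolve_right ha
    funext j; fin_cases j <;> assumption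
  have hrange : LinearMap.range ι = H := by
    refine Submodule.eq_of_le_of_finrank_le (fun x ⟨z, hz⟩ => hz ▸ hιH z) ?_
    rw [LinearMap.finrank_range_of_inj hιinj, Module.finrank_fin_fun, hH3]
  obtain ⟨π, hπ⟩ := ι.exists_leftInverse_of_injective (LinearMap.ker_eq_bot.mpr hιinj)
  have hπι : ∀ z, π (ι z) = z := fun z => LinearMap.congr_fun hπ z
  -- the restricted cubic
  set G := sub bv F with hG
  have hGh : G.IsHomogeneous 3 := sub_isHomogeneous bv hF
  have hbvH : ∀ j, MvPolynomial.eval (bv j) ℓ = 0 := fun j => by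
    have := hιH (Pi.single j 1)
    rw [hιapp, hH] at this
    simpa [Pi.single_apply] using this
  have hP0 : MvPolynomial.pderiv 0 G = sub bv P := by
    rw [hG, pderiv_sub, hP]; rfl
  have hc300 : MvPolynomial.coeff (Finsupp.single (0 : Fin 3) 3) G = 0 := by
    rw [← eval_single_of_isHomogeneous hGh, hG, eval_sub]
    simpa [Pi.single_apply, bv] using hFa
  have hcj : ∀ j : Fin 3, j ≠ 0 → MvPolynomial.coeff (Finsupp.single (0 : Fin 3) 2 + Finsupp.single j 1) G = 0 := by
    intro j hj
    have h1 : MvPolynomial.eval (Pi.single (0 : Fin 3) (1 : K)) (MvPolynomial.pderiv j G) = 0 := by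
      rw [hG, pderiv_sub, eval_sub]
      have h2 := hbvH j
      rw [hℓ] at h2
      simpa [Pi.single_apply, bv, map_sum, mul_comm] using h2
    rw [eval_single_of_isHomogeneous (d := 2) hGh.pderiv, MvPolynomial.coeff_pderiv] at h1
    simpa [hj.symm, hj] using h1
  have hhigh : ∀ m : Fin 3 →₀ ℕ, 2 ≤ m 0 → MvPolynomial.coeff m G = 0 := by
    intro m hm
    by_contra hne
    have hd := hGh hne
    rw [Finsupp.weight_apply, Finsupp.sum_fintype _ _ (by simp), Fin.sum_univ_three] at hd
    simp only [Pi.one_apply, smul_eq_mul, mul_one] at hd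
    rcases (show (m 0 = 3 ∧ m 1 = 0 ∧ m 2 = 0) ∨ (m 0 = 2 ∧ m 1 = 1 ∧ m 2 = 0) ∨ (m 0 = 2 ∧ m 1 = 0 ∧ m 2 = 1) by omega)
      with ⟨h0, h1, h2⟩ | ⟨h0, h1, h2⟩ | ⟨h0, h1, h2⟩
    · exact hne (by rw [show m = Finsupp.single 0 3 from Finsupp.ext fun x => by fin_cases x <;> simp [h0, h1, h2]]; exact hc300)
    · exact hne (by rw [show m = Finsupp.single 0 2 + Finsupp.single 1 1 from Finsupp.ext fun x => by fin_cases x <;> simp [h0, h1, h2]]; exact hcj 1 (by decide))
    · exact hne (by rw [show m = Finsupp.single 0 2 + Finsupp.single 2 1 from Finsupp.ext fun x => by fin_cases x <;> simp [h0, h1, h2]]; exact hcj 2 (by decide))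
  set q := MvPolynomial.pderiv 0 G with hq
  have hq0c : ∀ m, m 0 ≠ 0 → MvPolynomial.coeff m q = 0 := fun m hm => by
    rw [hq, MvPolynomial.coeff_pderiv, hhigh _ (by simp; omega), zero_mul]
  -- forms in the coordinates `π` as polynomials
  let τ : MvPolynomial (Fin 3) K →ₐ[K] MvPolynomial (Fin 4) K :=
    MvPolynomial.aeval fun j => ∑ i, MvPolynomial.C (π (Pi.single i 1) j) * MvPolynomial.X i
  have hτhom : ∀ f : MvPolynomial (Fin 3) K, f.IsHomogeneous 1 → (τ f).IsHomogeneous 1 := fun f hf => by
    have := hf.aeval (g := fun j => ∑ i, MvPolynomial.C (π (Pi.single i 1) j) * MvPolynomial.X i) (n := 1)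
      (fun j => MvPolynomial.IsHomogeneous.sum _ _ _ fun i _ => MvPolynomial.isHomogeneous_C_mul_X _ _)
    simpa [τ] using this
  have hτeval : ∀ f x, MvPolynomial.eval x (τ f) = MvPolynomial.eval (π x) f := by
    intro f x
    induction f using MvPolynomial.induction_on with
    | C c => simp [τ]
    | add f g hf hg => simp [hf, hg]
    | mul_X f j hf =>
      have hx : π x j = ∑ i, π (Pi.single i 1) j * x i := by
        conv_lhs => rw [pi_eq_sum_univ' x, map_sum]
        simp [Finset.sum_apply, mul_comm]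
      rw [map_mul, map_mul, hf, map_mul]
      congr 1
      simp [τ, map_sum, hx]
  have hτσ : F - τ G ∈ Ideal.span {ℓ} := by
    rw [← Ideal.Quotient.eq_zero_iff_mem, map_sub, sub_eq_zero]
    have key : (Ideal.Quotient.mkₐ K (Ideal.span {ℓ})).comp (τ.comp (sub bv)) =
        Ideal.Quotient.mkₐ K (Ideal.span {ℓ}) := by
      refine MvPolynomial.algHom_ext fun i => ?_
      -- the linear form `X i - τ σ (X i)` kills `H`
      obtain ⟨i0, hi0⟩ := hsm
      let χ : (Fin 4 → K) →ₗ[K] K := LinearMap.proj i - (LinearMap.proj i).comp (ι.comp π)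
      have hker : LinearMap.ker φℓ ≤ LinearMap.ker χ := fun x hx => by
        rw [← hHker, ← hrange] at hx
        obtain ⟨z, rfl⟩ := hx
        simp [χ, hπι]
      obtain ⟨c, hc⟩ : ∃ c : K, χ = c • φℓ := by
        obtain ⟨v, hv⟩ := LinearMap.surjective hφ0 1
        refine ⟨χ v, LinearMap.ext fun x => ?_⟩
        have hm : x - φℓ x • v ∈ LinearMap.ker χ := hker (by simp [hv])
        rw [LinearMap.mem_ker, map_sub, map_smul, sub_eq_zero] at hm
        rw [hm, LinearMap.smul_apply, smul_eq_mul, smul_eq_mul, mul_comm]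
      simp only [AlgHom.comp_apply, Ideal.Quotient.mkₐ_eq_mk, Ideal.Quotient.eq]
      refine Ideal.mem_span_singleton'.mpr ⟨MvPolynomial.C (-c), MvPolynomial.funext fun x => ?_⟩
      rw [map_mul, map_sub, hτeval, eval_sub, ← hιapp, MvPolynomial.eval_C, MvPolynomial.eval_X,
        MvPolynomial.eval_X, ← hφℓ]
      have := LinearMap.congr_fun hc x
      simp [χ] at this
      linear_combination this
    exact (AlgHom.congr_fun key F).symm
  have hqne : q ≠ 0 := by
    intro hq0
    apply hT
    have hc0 : ∀ m, m 0 ≠ 0 → MvPolynomial.coeff m G = 0 := fun m hm => by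
      have h := congrArg (MvPolynomial.coeff (m - Finsupp.single 0 1)) hq0
      rw [hq, MvPolynomial.coeff_pderiv, MvPolynomial.coeff_zero, tsub_add_cancel_of_le (by
        intro x; by_cases hx : x = 0 <;> simp [hx, Finsupp.single_apply]; omega)] at h
      rcases mul_eq_zero.mp h with h | h
      · exact h
      · exact absurd h (Nat.cast_add_one_ne_zero _)
    obtain ⟨L, hL, hLp⟩ := binary_eq_prod (d := 3) (by norm_num)
      (f := MvPolynomial.aeval ![(0 : MvPolynomial (Fin 2) K), MvPolynomial.X 0, MvPolynomial.X 1] G) (by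
      have := hGh.aeval (g := ![(0 : MvPolynomial (Fin 2) K), MvPolynomial.X 0, MvPolynomial.X 1]) (n := 1) (fun j => by
        fin_cases j
        · exact MvPolynomial.isHomogeneous_zero _ _ _
        · exact MvPolynomial.isHomogeneous_X _ _
        · exact MvPolynomial.isHomogeneous_X _ _)
      simpa using this)
    refine ⟨τ (MvPolynomial.rename Fin.succ (L 0)), τ (MvPolynomial.rename Fin.succ (L 1)),
      τ (MvPolynomial.rename Fin.succ (L 2)), hτhom _ (hL 0).rename_isHomogeneous,
      hτhom _ (hL 1).rename_isHomogeneous, hτhom _ (hL 2).rename_isHomogeneous, ?_⟩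
    have hG3 := eq_rename_of_coeff hc0
    rw [hLp, Fin.prod_univ_three, map_mul, map_mul] at hG3
    rwa [← map_mul, ← map_mul, ← hG3]
  -- the polar on `H`
  have hqh : (MvPolynomial.aeval ![(0 : MvPolynomial (Fin 2) K), MvPolynomial.X 0, MvPolynomial.X 1] q).IsHomogeneous 2 := by
    have := (hGh.pderiv (i := 0)).aeval (g := ![(0 : MvPolynomial (Fin 2) K), MvPolynomial.X 0, MvPolynomial.X 1]) (n := 1) (fun j => by
        fin_cases j
        · exact MvPolynomial.isHomogeneous_zero _ _ _
        · exact MvPolynomial.isHomogeneous_X _ _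
        · exact MvPolynomial.isHomogeneous_X _ _)
    simpa using this
  obtain ⟨L, hL, hLp⟩ := binary_eq_prod (d := 2) (by norm_num) hqh
  have hqe := eq_rename_of_coeff hq0c
  rw [hLp, Fin.prod_univ_two, map_mul] at hqe
  let ψ : Fin 2 → (Fin 4 → K) →ₗ[K] K := fun t =>
    (∑ j, MvPolynomial.coeff (Finsupp.single j 1) (L t) •
      LinearMap.proj (R := K) (φ := fun _ : Fin 3 => K) (Fin.succ j)).comp π
  have hψ : ∀ t x, ψ t x = MvPolynomial.eval (π x ∘ Fin.succ) (L t) := by
    intro t x
    have hlin : L t = ∑ j, MvPolynomial.C (MvPolynomial.coeff (Finsupp.single j 1) (L t)) * MvPolynomial.X j := by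
      ext m
      by_cases hm : ∃ j, m = Finsupp.single j 1
      · obtain ⟨j, rfl⟩ := hm
        simp [MvPolynomial.coeff_sum, MvPolynomial.coeff_X', Finsupp.single_left_inj]
        fin_cases j <;> simp
      · rw [MvPolynomial.coeff_sum, Finset.sum_eq_zero (fun j _ => by
          rw [MvPolynomial.coeff_C_mul, MvPolynomial.coeff_X', if_neg (fun h => hm ⟨j, h.symm⟩), mul_zero])]
        by_contra hne
        have hw := hL t hne
        rw [Finsupp.weight_apply, Finsupp.sum_fintype _ _ (by simp), Fin.sum_univ_two] at hw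
        simp only [Pi.one_apply, smul_eq_mul, mul_one] at hw
        rcases (show (m 0 = 1 ∧ m 1 = 0) ∨ (m 0 = 0 ∧ m 1 = 1) by omega) with ⟨h0, h1⟩ | ⟨h0, h1⟩
        · exact hm ⟨0, Finsupp.ext fun y => by fin_cases y <;> simp [h0, h1]⟩
        · exact hm ⟨1, Finsupp.ext fun y => by fin_cases y <;> simp [h0, h1]⟩
    conv_rhs => rw [hlin]
    simp [ψ, map_sum, LinearMap.sum_apply]
  have hPH : ∀ x ∈ H, MvPolynomial.eval x P = ψ 0 x * ψ 1 x := by
    intro x hx
    rw [← hrange] at hx
    obtain ⟨z, rfl⟩ := hx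
    rw [hψ, hψ, hπι, hιapp, ← eval_sub, ← hP0, hqe, map_mul, MvPolynomial.eval_rename, MvPolynomial.eval_rename]
  have hψa : ∀ t, ψ t a = 0 := by
    intro t
    have : a = ι (Pi.single 0 1) := by rw [hιapp]; simp [Pi.single_apply, bv]
    rw [hψ, this, hπι, show (Pi.single (0 : Fin 3) (1 : K)) ∘ Fin.succ = 0 from funext fun j => by
      fin_cases j <;> simp]
    rw [MvPolynomial.eval_zero, MvPolynomial.constantCoeff_eq]
    exact (hL t).coeff_eq_zero (by simp)
  have hLne : ∀ t, L t ≠ 0 := fun t h => hqne (by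
    rw [hqe]
    fin_cases t <;> simp_all)
  have hψne : ∀ t, (ψ t).domRestrict H ≠ 0 := by
    intro t h
    refine hLne t (MvPolynomial.funext fun w => ?_)
    have := LinearMap.congr_fun h ⟨ι (Fin.cons 0 w), hιH _⟩
    rw [LinearMap.domRestrict_apply, hψ, hπι] at this
    simpa [Function.comp_def] using this
  let U : Fin 2 → Submodule K (Fin 4 → K) := fun t => (LinearMap.ker ((ψ t).domRestrict H)).map H.subtype
  have hUmem : ∀ t x, x ∈ U t ↔ x ∈ H ∧ ψ t x = 0 := fun t x => by
    simp [U, LinearMap.mem_ker, and_comm]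
  have hUdim : ∀ t, Module.finrank K (U t) = 2 := fun t => by
    rw [LinearEquiv.finrank_eq (Submodule.equivMapOfInjective _ H.injective_subtype _).symm]
    have h1 := ((ψ t).domRestrict H).finrank_range_add_finrank_ker
    rw [LinearMap.range_eq_top.mpr (LinearMap.surjective (hψne t)), finrank_top, Module.finrank_self, hH3] at h1
    omega
  refine ⟨⟨U 0, U 1, hUdim 0, hUdim 1, (hUmem 0 a).mpr ⟨haH, hψa 0⟩, (hUmem 1 a).mpr ⟨haH, hψa 1⟩,
    fun x hx => ((hUmem 0 x).mp hx).1, fun x hx => ((hUmem 1 x).mp hx).1, ?_⟩, ?_⟩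
  · ext x
    simp only [Set.mem_setOf_eq, Set.mem_union, SetLike.mem_coe, hUmem]
    refine ⟨fun ⟨h1, h2⟩ => ?_, fun h => ?_⟩
    · rw [hPH x h1, mul_eq_zero] at h2
      exact h2.imp (⟨h1, ·⟩) (⟨h1, ·⟩)
    · rcases h with ⟨h1, h2⟩ | ⟨h1, h2⟩ <;> refine ⟨h1, ?_⟩ <;> rw [hPH x h1, h2] <;> ring
  · intro V haV hV2 hVF
    have key : ∀ v ∈ V, MvPolynomial.eval v ℓ = 0 ∧ MvPolynomial.eval v P = 0 := by
      intro v hv
      have hz : sub ![a, v] F = 0 := MvPolynomial.funext fun z => by
        rw [eval_sub, map_zero]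
        exact hVF _ (Submodule.sum_mem _ fun j _ => Submodule.smul_mem _ _ (by fin_cases j <;> assumption))
      constructor
      · have h := congrArg (fun f => MvPolynomial.eval (Pi.single (0 : Fin 2) (1 : K)) (MvPolynomial.pderiv 1 f)) hz
        rw [hℓ]
        simpa [pderiv_sub, eval_sub, Pi.single_apply, map_sum, mul_comm] using h
      · have h := congrArg (fun f => MvPolynomial.eval (Pi.single (1 : Fin 2) (1 : K)) (MvPolynomial.pderiv 0 f)) hz
        rw [hP]
        simpa [pderiv_sub, eval_sub, Pi.single_apply, map_sum] using h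
    exact ⟨fun v hv => (hH v).mpr (key v hv).1, fun v hv => (key v hv).2⟩

end Groth.Agent.S16352
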