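import Groth.Statements.S16353
import Mathlib

set_option autoImplicit false
universe u
open DegLoci

namespace Groth.Agent.S16353

/-- Let k be a field of characteristic zero, R = k[y_0, …, y_{m−1}] acting on S = k[∂_0, …, ∂_{m−1}] by
apolarity (y_i acts as the derivative with respect to ∂_i), F ∈ S homogeneous of degree e and d ≤ e.
Then the degree-d part of the apolar ideal of F is the orthogonal complement of the partial
derivatives of F of order e − d: a homogeneous D ∈ R_d satisfies D(F) = 0 if and only if D(y^α(F)) =
0 for every multi-index α with |α| = e − d (each D(y^α(F)) being a constant, the value of the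
apolarity pairing of D with y^α(F)). -/
theorem result (k : Type u) [Field k] [CharZero k] (m : ℕ)
    (F : MvPolynomial (Fin m) k) (e : ℕ) (hF : F.IsHomogeneous e) (d : ℕ) (hd : d ≤ e)
    (D : MvPolynomial (Fin m) k) (hD : D.IsHomogeneous d) :
    W4c3degenlocivb.contract D F = 0 ↔
      ∀ α : Fin m →₀ ℕ, α.degree = e - d → W4c3degenlocivb.contract D (W4c3degenlocivb.contract (MvPolynomial.monomial α 1) F) = 0 := by
  classical
  let desc : (Fin m →₀ ℕ) → (Fin m →₀ ℕ) → ℕ := fun β α => ∏ i, Nat.descFactorial (β i) (α i)
  have hprod : ∀ α β : Fin m →₀ ℕ, α ≤ β → (β.support.prod fun i => Nat.descFactorial (β i) (α i)) = desc β α := by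
    intro α β h
    refine Finset.prod_subset (Finset.subset_univ _) fun i _ hi => ?_
    rw [Finsupp.notMem_support_iff] at hi
    have := h i
    rw [hi, show α i = 0 by omega, Nat.descFactorial_zero]
  have hcoeff : ∀ (P G : MvPolynomial (Fin m) k) (δ : Fin m →₀ ℕ),
      MvPolynomial.coeff δ (W4c3degenlocivb.contract P G) =
        ∑ α ∈ P.support, MvPolynomial.coeff α P * MvPolynomial.coeff (α + δ) G * (desc (α + δ) α : k) := by
    intro P G δ
    simp only [W4c3degenlocivb.contract, MvPolynomial.coeff_sum]
    refine Finset.sum_congr rfl fun α _ => ?_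
    rw [Finset.sum_eq_single (α + δ)]
    · rw [if_pos le_self_add, MvPolynomial.coeff_monomial, if_pos (add_tsub_cancel_left α δ), hprod α _ le_self_add]
    · intro β _ hβ
      split_ifs with h
      · rw [MvPolynomial.coeff_monomial, if_neg]
        exact fun e => hβ (by rw [← e, add_tsub_cancel_of_le h])
      · exact MvPolynomial.coeff_zero _
    · intro h
      rw [MvPolynomial.notMem_support_iff] at h
      split_ifs <;> simp [h]
  have key : ∀ α δ : Fin m →₀ ℕ,
      MvPolynomial.coeff δ (W4c3degenlocivb.contract D (W4c3degenlocivb.contract (MvPolynomial.monomial α 1) F)) =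
        (desc (α + δ) α : k) * MvPolynomial.coeff (α + δ) (W4c3degenlocivb.contract D F) := by
    intro α δ
    rw [hcoeff, hcoeff D F (α + δ), Finset.mul_sum]
    refine Finset.sum_congr rfl fun β _ => ?_
    rw [hcoeff, MvPolynomial.support_monomial, if_neg one_ne_zero, Finset.sum_singleton, MvPolynomial.coeff_monomial,
      if_pos rfl, one_mul]
    have e : (desc (α + (β + δ)) α : k) * (desc (β + δ) β : k) = (desc (α + δ) α : k) * (desc (β + (α + δ)) β : k) := by
      rw [← Nat.cast_mul, ← Nat.cast_mul]
      congr 1
      simp only [desc, ← Finset.prod_mul_distrib, Finsupp.add_apply]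
      refine Finset.prod_congr rfl fun i _ => ?_
      have h1 := Nat.descFactorial_mul_descFactorial (k := α i) (m := α i + β i) (n := α i + (β i + δ i)) (by omega)
      have h2 := Nat.descFactorial_mul_descFactorial (k := β i) (m := α i + β i) (n := α i + (β i + δ i)) (by omega)
      rw [show α i + (β i + δ i) - α i = β i + δ i by omega, show α i + β i - α i = β i by omega] at h1
      rw [show α i + (β i + δ i) - β i = α i + δ i by omega, show α i + β i - β i = α i by omega,
        show α i + (β i + δ i) = β i + (α i + δ i) by omega] at h2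
      rw [mul_comm, h1, show α i + (β i + δ i) = β i + (α i + δ i) by omega, h2]
    rw [show β + (α + δ) = α + (β + δ) from add_left_comm β α δ] at e ⊢
    linear_combination (MvPolynomial.coeff β D * MvPolynomial.coeff (α + (β + δ)) F) * e
  constructor
  · intro h α _
    ext δ
    rw [key, h, MvPolynomial.coeff_zero, mul_zero]
    exact (MvPolynomial.coeff_zero δ).symm
  · intro h
    ext γ
    rw [MvPolynomial.coeff_zero]
    by_cases hγ : γ.degree = e - d
    · have h1 := key γ 0
      rw [h γ hγ, MvPolynomial.coeff_zero, add_zero] at h1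
      refine (mul_eq_zero.1 h1.symm).resolve_left ?_
      simp only [desc, Nat.descFactorial_self, ne_eq, Nat.cast_eq_zero]
      exact Finset.prod_ne_zero_iff.2 fun i _ => Nat.factorial_ne_zero _
    · rw [hcoeff]
      refine Finset.sum_eq_zero fun α hα => ?_
      rw [hF.coeff_eq_zero (d := α + γ) ?_, mul_zero, zero_mul]
      have hdα := hD (MvPolynomial.mem_support_iff.1 hα)
      replace hdα : α.degree = d := (DFunLike.congr_fun Finsupp.degree_eq_weight_one α).trans hdα
      rw [map_add, hdα]
      omega

end Groth.Agent.S16353
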