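import Groth.Statements.S16354
import Groth.Agent.CubicTPLib.Point

set_option autoImplicit false
universe u
open Cubic

namespace Groth.Agent.S16354

lemma exists_real_root (f : Polynomial ℝ) (hf : f.natDegree = 3) : ∃ x, f.IsRoot x := by
  have hf0 : f ≠ 0 := fun h => by simp [h] at hf
  have hnu : ¬ IsUnit f := fun h => by
    have := Polynomial.natDegree_eq_zero_of_isUnit h
    omega
  by_contra hno
  push Not at hno
  have hirr : Irreducible f := ⟨hnu, fun a b hab => by
    by_contra hu
    push Not at hu
    obtain ⟨ha, hb⟩ := hu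
    have ha0 : a ≠ 0 := fun h => hf0 (by rw [hab, h, zero_mul])
    have hb0 : b ≠ 0 := fun h => hf0 (by rw [hab, h, mul_zero])
    have had : 0 < a.natDegree := Nat.pos_of_ne_zero fun h => ha (Polynomial.isUnit_iff_degree_eq_zero.mpr (by
      rw [Polynomial.degree_eq_natDegree ha0, h]; rfl))
    have hbd : 0 < b.natDegree := Nat.pos_of_ne_zero fun h => hb (Polynomial.isUnit_iff_degree_eq_zero.mpr (by
      rw [Polynomial.degree_eq_natDegree hb0, h]; rfl))
    have hsum : a.natDegree + b.natDegree = 3 := by rw [← Polynomial.natDegree_mul ha0 hb0, ← hab, hf]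
    by_cases h1 : a.natDegree = 1
    · obtain ⟨x, hx⟩ := Polynomial.exists_root_of_degree_eq_one (p := a) (by rw [Polynomial.degree_eq_natDegree ha0, h1]; rfl)
      exact hno x (by rw [hab]; simp [Polynomial.IsRoot.def.mp hx])
    · obtain ⟨x, hx⟩ := Polynomial.exists_root_of_degree_eq_one (p := b) (by
        rw [Polynomial.degree_eq_natDegree hb0, show b.natDegree = 1 by omega]; rfl)
      exact hno x (by rw [hab]; simp [Polynomial.IsRoot.def.mp hx])⟩
  have := hirr.natDegree_le_two
  omega

/-- Let k be a subfield of ℝ (a field equipped with an embedding into the reals) and S = V(F) ⊂ P^3 the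
cubic surface of a homogeneous cubic F ∈ k[x_0, …, x_3] which is geometrically irreducible and not a
cone (no nonzero vector v has Σ_i v_i ∂F/∂x_i = 0). Then S admits a linear Pfaffian representation
over a real intermediate field k ⊆ E ⊆ ℝ of degree [E : k] ≤ 3. A linear Pfaffian representation
over E is a 6 × 6 alternating matrix M of linear forms in E[x_0, …, x_3] whose Pfaffian is a nonzero
constant multiple of F; since the determinant of an alternating matrix is the square of its Pfaffian
and the polynomial ring is factorial with no nonconstant units, this is the same as det M = c · F^2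
for a nonzero constant c, which is how it is written here. -/
theorem result (k : Type u) [Field k] [Algebra k ℝ]
    (F : MvPolynomial (Fin 4) k) (hF : F.IsHomogeneous 3)
    (hirr : Irreducible (MvPolynomial.map (algebraMap k (AlgebraicClosure k)) F))
    (hcone : ¬ ∃ v : Fin 4 → k, v ≠ 0 ∧ ∑ i : Fin 4, v i • MvPolynomial.pderiv i F = 0) :
    ∃ E : IntermediateField k ℝ, FiniteDimensional k ↥E ∧ Module.finrank k ↥E ≤ 3 ∧
      ∃ M : Matrix (Fin 6) (Fin 6) (MvPolynomial (Fin 4) ↥E), (∀ i j, (M i j).IsHomogeneous 1) ∧ M.transpose = -M ∧ (∀ i, M i i = 0) ∧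
        ∃ c : ↥E, c ≠ 0 ∧ M.det = MvPolynomial.C c * (MvPolynomial.map (algebraMap k ↥E) F) ^ 2 := by
  haveI : CharZero k := (RingHom.charZero (algebraMap k ℝ))
  obtain ⟨f, hf, hrep⟩ := Groth.Agent.CubicTPLib.exists_rep_line.{u, u, 0} (K := AlgebraicClosure k) F hF hirr hcone
  have hf0 : f ≠ 0 := fun h => by simp [h] at hf
  obtain ⟨s, hs⟩ := exists_real_root (f.map (algebraMap k ℝ)) (by rw [Polynomial.natDegree_map]; exact hf)
  rw [Polynomial.IsRoot.def, Polynomial.eval_map, ← Polynomial.aeval_def] at hs
  have hint : IsIntegral k s := IsAlgebraic.isIntegral ⟨f, hf0, hs⟩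
  haveI hfd : FiniteDimensional k ↥(IntermediateField.adjoin k {s}) := IntermediateField.adjoin.finiteDimensional hint
  refine ⟨IntermediateField.adjoin k {s}, hfd, ?_, ?_⟩
  · rw [IntermediateField.adjoin.finrank hint]
    exact (Polynomial.natDegree_le_of_dvd (minpoly.dvd k s hs) hf0).trans hf.le
  · letI : Algebra ↥(IntermediateField.adjoin k {s}) (AlgebraicClosure k) :=
      (IsAlgClosed.lift (R := k) (S := ↥(IntermediateField.adjoin k {s})) (M := AlgebraicClosure k)).toRingHom.toAlgebra
    haveI : IsScalarTower k ↥(IntermediateField.adjoin k {s}) (AlgebraicClosure k) :=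
      IsScalarTower.of_algebraMap_eq fun x => (AlgHom.commutes (IsAlgClosed.lift (R := k)) x).symm
    refine hrep ↥(IntermediateField.adjoin k {s}) (IntermediateField.AdjoinSimple.gen k s)
      ((algebraMap ↥(IntermediateField.adjoin k {s}) ℝ).injective ?_)
    rw [← Polynomial.aeval_algebraMap_apply, IntermediateField.AdjoinSimple.algebraMap_gen, map_zero]
    exact hs

end Groth.Agent.S16354
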