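import Groth.Statements.S16355


set_option autoImplicit false
universe u
open DegLoci

namespace Groth.Agent.S16355

open Matrix MvPolynomial

theorem pf_map {R S : Type*} [CommRing R] [CommRing S] (φ : R →+* S) :
    ∀ (n : ℕ) (T : Matrix (Fin n) (Fin n) R), W4c3degenlocivb.pf n (T.map φ) = φ (W4c3degenlocivb.pf n T)
  | 0, _ => by simp [W4c3degenlocivb.pf]
  | 1, _ => by simp [W4c3degenlocivb.pf]
  | n + 2, T => by
    simp only [W4c3degenlocivb.pf, map_sum, map_mul, map_pow, map_neg, map_one, Matrix.map_apply, Matrix.submatrix_map, pf_map φ n]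

theorem pf_isHomogeneous {k : Type u} [CommRing k] {σ : Type*} :
    ∀ (p : ℕ) (T : Matrix (Fin (2 * p)) (Fin (2 * p)) (MvPolynomial σ k)),
      (∀ i j, (T i j).IsHomogeneous 1) → (W4c3degenlocivb.pf (2 * p) T).IsHomogeneous p
  | 0, _, _ => isHomogeneous_one σ k
  | p + 1, T, h => by
    show (W4c3degenlocivb.pf (2 * p + 2) T).IsHomogeneous (p + 1)
    simp only [W4c3degenlocivb.pf]
    refine IsHomogeneous.sum _ _ _ fun j _ => ?_
    rw [add_comm p 1]
    refine IsHomogeneous.mul ?_ (pf_isHomogeneous p _ fun a b => h _ _)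
    have := ((isHomogeneous_one σ k).neg.pow ((j : ℕ) + 1)).mul (h (Fin.last _) j.castSucc)
    rwa [zero_mul, zero_add] at this

/-- the tridiagonal alternating matrix with super-diagonal `a` -/
def band {R : Type*} [CommRing R] (a : ℕ → R) (i j : ℕ) : R :=
  if j = i + 1 then a i else if i = j + 1 then -a j else 0

theorem pf_band {R : Type*} [CommRing R] (a : ℕ → R) :
    ∀ (p : ℕ) (e : Fin (2 * p) → ℕ), StrictMono e →
      (∀ t : Fin p, e ⟨2 * t + 1, by omega⟩ = e ⟨2 * t, by omega⟩ + 1) →
      W4c3degenlocivb.pf (2 * p) (Matrix.of fun i j => band a (e i) (e j)) = ∏ t : Fin p, a (e ⟨2 * t, by omega⟩)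
  | 0, _, _, _ => by simp [W4c3degenlocivb.pf]
  | p + 1, e, he, hc => by
    show W4c3degenlocivb.pf (2 * p + 2) _ = _
    simp only [W4c3degenlocivb.pf]
    rw [Fintype.sum_eq_single (Fin.last (2 * p)) fun j hj => ?_]
    · have h1 : e ⟨2 * p + 1, by omega⟩ = e ⟨2 * p, by omega⟩ + 1 := hc (Fin.last p)
      have h2 : (Matrix.of fun i j => band a (e i) (e j)) (Fin.last (2 * p + 1)) (Fin.castSucc (Fin.last (2 * p))) = -a (e ⟨2 * p, by omega⟩) := by
        show band a (e ⟨2 * p + 1, by omega⟩) (e ⟨2 * p, by omega⟩) = _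
        rw [band, if_neg (by omega), if_pos h1]
      rw [h2, Fin.succAbove_last, Fin.val_last, Odd.neg_one_pow ⟨p, rfl⟩, neg_one_mul, neg_neg, Fin.prod_univ_castSucc, mul_comm]
      congr 1
      exact pf_band a p (fun i => e (Fin.castSucc (Fin.castSucc i))) (fun i j hij => he (by exact_mod_cast hij)) (fun t => hc t.castSucc)
    · have h1 : e ⟨j, by omega⟩ < e ⟨2 * p, by omega⟩ := he (Fin.mk_lt_mk.2 (by
        have := j.2; have : (j : ℕ) ≠ 2 * p := fun h => hj (Fin.ext h)
        omega))
      have h3 : e ⟨2 * p + 1, by omega⟩ = e ⟨2 * p, by omega⟩ + 1 := hc (Fin.last p)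
      have h2 : (Matrix.of fun i j => band a (e i) (e j)) (Fin.last (2 * p + 1)) (Fin.castSucc j) = 0 := by
        show band a (e ⟨2 * p + 1, by omega⟩) (e ⟨j, by omega⟩) = 0
        rw [band, if_neg (by omega), if_neg (by omega)]
      rw [h2, mul_zero, zero_mul]

/-- the exponent of `y₀^u y₁^(r-u)` -/
noncomputable def expo (r u : ℕ) : Fin 2 →₀ ℕ := Finsupp.single 0 u + Finsupp.single 1 (r - u)

theorem expo_inj {r u v : ℕ} (h : expo r u = expo r v) : u = v := by
  simpa [expo] using DFunLike.congr_fun h 0

theorem eq_sum_expo {k : Type u} [CommRing k] {r : ℕ} {h : MvPolynomial (Fin 2) k} (hh : h.IsHomogeneous r) :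
    h = ∑ u : Fin (r + 1), C (coeff (expo r u) h) * monomial (expo r u) 1 := by
  classical
  ext e
  simp only [coeff_sum, coeff_C_mul, coeff_monomial, mul_ite, mul_one, mul_zero]
  by_cases he : e.degree = r
  · have h01 : e 0 + e 1 = r := by
      rw [← he, Finsupp.degree_eq_sum, Fin.sum_univ_two]
    have hexp : expo r (e 0) = e := by
      ext i
      fin_cases i <;> simp [expo] <;> omega
    rw [Fintype.sum_eq_single (⟨e 0, by omega⟩ : Fin (r + 1)) fun u hu => ?_, if_pos hexp, hexp]
    rw [if_neg]
    intro hu'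
    exact hu (Fin.ext (expo_inj (hu'.trans hexp.symm)))
  · rw [hh.coeff_eq_zero he]
    refine (Finset.sum_eq_zero fun u _ => ?_).symm
    rw [if_neg]
    rintro rfl
    refine he ?_
    have := u.2
    rw [Finsupp.degree_eq_sum, Fin.sum_univ_two]
    simp [expo]
    omega


/-- Let k be an algebraically closed field of characteristic zero and n = 2r + 1 ≥ 3 odd. For a general
n × n alternating matrix N of linear forms in k[y_0, y_1], the n principal sub-Pfaffians of size n −
1 (delete row i and column i, take the Pfaffian) span the whole space k[y_0, y_1]_r of binary forms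
of degree r. Here such matrices are parametrised by antisymmetric coefficient arrays c (entry (i, j)
of N is Σ_l c_{i j l} y_l with c_{j i l} = −c_{i j l}), and 'general' means: outside the zero set of
some polynomial Φ in the coefficients which does not vanish at every antisymmetric array. -/
theorem result (k : Type u) [Field k] [IsAlgClosed k] [CharZero k]
    (r : ℕ) (hr : 1 ≤ r) :
    ∃ Φ : MvPolynomial (Fin (2 * r + 1) × Fin (2 * r + 1) × Fin 2) k,
      (∃ c : Fin (2 * r + 1) → Fin (2 * r + 1) → Fin 2 → k, (∀ i j l, c j i l = -c i j l) ∧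
        MvPolynomial.eval (fun p => c p.1 p.2.1 p.2.2) Φ ≠ 0) ∧
      ∀ c : Fin (2 * r + 1) → Fin (2 * r + 1) → Fin 2 → k, (∀ i j l, c j i l = -c i j l) →
        MvPolynomial.eval (fun p => c p.1 p.2.1 p.2.2) Φ ≠ 0 →
        Submodule.span k (Set.range fun i : Fin (2 * r + 1) =>
            W4c3degenlocivb.pf (2 * r) ((Matrix.of fun a b => ∑ l : Fin 2, MvPolynomial.C (c a b l) * MvPolynomial.X l).submatrix i.succAbove i.succAbove)) =
          MvPolynomial.homogeneousSubmodule (Fin 2) k r := by
  classical
  let n := 2 * r + 1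
  let ι := Fin n × Fin n × Fin 2
  let R' := MvPolynomial ι k
  let G : Matrix (Fin n) (Fin n) (MvPolynomial (Fin 2) R') := Matrix.of fun a b => ∑ l : Fin 2, C (X (a, b, l)) * X l
  let d : Fin (r + 1) → Fin n := fun s => ⟨2 * s, by omega⟩
  let PG : Fin (r + 1) → MvPolynomial (Fin 2) R' := fun s => W4c3degenlocivb.pf (2 * r) (G.submatrix (d s).succAbove (d s).succAbove)
  let MG : Matrix (Fin (r + 1)) (Fin (r + 1)) R' := Matrix.of fun s u => coeff (expo r u) (PG s)
  let N : (Fin n → Fin n → Fin 2 → k) → Matrix (Fin n) (Fin n) (MvPolynomial (Fin 2) k) := fun c =>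
    Matrix.of fun a b => ∑ l : Fin 2, C (c a b l) * X l
  let ev : (Fin n → Fin n → Fin 2 → k) → (R' →+* k) := fun c => MvPolynomial.eval fun p => c p.1 p.2.1 p.2.2
  have hev : ∀ c, ev c MG.det = (Matrix.of fun s u : Fin (r + 1) => coeff (expo r u) (W4c3degenlocivb.pf (2 * r) ((N c).submatrix (d s).succAbove (d s).succAbove))).det := by
    intro c
    rw [RingHom.map_det]
    congr 1
    ext s u
    simp only [RingHom.mapMatrix_apply, Matrix.map_apply, MG, Matrix.of_apply]
    rw [← coeff_map, ← pf_map, ← Matrix.submatrix_map]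
    congr 3
    ext a b
    simp [G, N, ev]
    erw [eval_X, eval_X]
  refine ⟨MG.det, ?_, ?_⟩
  · let c : Fin n → Fin n → Fin 2 → k := fun i j l => band (fun t => if t % 2 = (l : ℕ) then (1 : k) else 0) i j
    refine ⟨c, fun i j l => ?_, ?_⟩
    · simp only [c, band]
      split_ifs <;> first | omega | simp
    · show ev c MG.det ≠ 0
      rw [hev]
      let av : ℕ → MvPolynomial (Fin 2) k := fun t => if t % 2 = 0 then X 0 else X 1
      have hN : N c = Matrix.of fun (i j : Fin n) => band av i j := by
        ext1 i j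
        simp only [N, Matrix.of_apply, Fin.sum_univ_two, c, band, av, Fin.val_zero, Fin.val_one]
        rcases Nat.mod_two_eq_zero_or_one (i : ℕ) with hi | hi <;> rcases Nat.mod_two_eq_zero_or_one (j : ℕ) with hj | hj <;>
          split_ifs <;> simp_all
      have hP : ∀ s : Fin (r + 1), W4c3degenlocivb.pf (2 * r) ((N c).submatrix (d s).succAbove (d s).succAbove) = monomial (expo r s) 1 := by
        intro s
        rw [hN]
        let e : Fin (2 * r) → ℕ := fun i => if (i : ℕ) < 2 * (s : ℕ) then (i : ℕ) else (i : ℕ) + 1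
        have he : ∀ i : Fin (2 * r), (((d s).succAbove i : Fin n) : ℕ) = e i := fun i => by
          simp only [e, Fin.succAbove, d, Fin.lt_def, Fin.val_castSucc]
          split_ifs <;> simp
        have heq : (Matrix.of fun (i j : Fin n) => band av i j).submatrix (d s).succAbove (d s).succAbove = Matrix.of fun i j => band av (e i) (e j) := by
          ext1 i j
          simp only [Matrix.submatrix_apply, Matrix.of_apply, he]
        rw [heq, pf_band av r e (fun i j hij => by simp only [e]; have := Fin.lt_def.1 hij; split_ifs <;> omega) (fun t => by simp only [e]; split_ifs <;> omega)]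
        have ht : ∀ t : Fin r, av (e ⟨2 * t, by omega⟩) = if (t : ℕ) < s then X 0 else X 1 := fun t => by
          simp only [av, e]
          by_cases h : (t : ℕ) < s
          · rw [if_pos (show 2 * (t : ℕ) < 2 * (s : ℕ) by omega), if_pos (by omega), if_pos h]
          · rw [if_neg (show ¬ 2 * (t : ℕ) < 2 * (s : ℕ) by omega), if_neg (by omega), if_neg h]
        rw [Fintype.prod_congr _ _ ht, Fin.prod_univ_eq_prod_range (fun t => if t < (s : ℕ) then (X 0 : MvPolynomial (Fin 2) k) else X 1) r,
          ← Finset.prod_range_mul_prod_Ico _ (show (s : ℕ) ≤ r by omega),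
          Finset.prod_congr rfl (fun t ht => if_pos (Finset.mem_range.1 ht)),
          Finset.prod_congr rfl (fun t ht => if_neg (not_lt.2 (Finset.mem_Ico.1 ht).1)),
          Finset.prod_const, Finset.prod_const, Finset.card_range, Nat.card_Ico, X_pow_eq_monomial, X_pow_eq_monomial, monomial_mul, mul_one]
        rfl
      have h1 : (Matrix.of fun s u : Fin (r + 1) => coeff (expo r u) (W4c3degenlocivb.pf (2 * r) ((N c).submatrix (d s).succAbove (d s).succAbove))) = 1 := by
        ext s u
        rw [Matrix.of_apply, hP, coeff_monomial, Matrix.one_apply]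
        exact if_congr ⟨fun h => Fin.ext (expo_inj h), fun h => by rw [h]⟩ rfl rfl
      rw [h1, Matrix.det_one]
      exact one_ne_zero
  · intro c hc hdet
    change ev c MG.det ≠ 0 at hdet
    rw [hev] at hdet
    have hhom : ∀ i : Fin n, (W4c3degenlocivb.pf (2 * r) ((N c).submatrix i.succAbove i.succAbove)).IsHomogeneous r := fun i =>
      pf_isHomogeneous r _ fun a b => by
        simp only [Matrix.submatrix_apply, N, Matrix.of_apply]
        exact IsHomogeneous.sum _ _ _ fun l _ => isHomogeneous_C_mul_X _ _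
    refine le_antisymm (Submodule.span_le.2 ?_) fun h hh => ?_
    · rintro _ ⟨i, rfl⟩
      exact hhom i
    · let M : Matrix (Fin (r + 1)) (Fin (r + 1)) k := Matrix.of fun s u =>
        coeff (expo r u) (W4c3degenlocivb.pf (2 * r) ((N c).submatrix (d s).succAbove (d s).succAbove))
      have hMi : M⁻¹ * M = 1 := Matrix.nonsing_inv_mul M (isUnit_iff_ne_zero.2 hdet)
      have hmono : ∀ u : Fin (r + 1), monomial (expo r u) (1 : k) =
          ∑ s, M⁻¹ u s • W4c3degenlocivb.pf (2 * r) ((N c).submatrix (d s).succAbove (d s).succAbove) := by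
        intro u
        rw [Finset.sum_congr rfl fun s _ => congrArg (M⁻¹ u s • ·) (eq_sum_expo (hhom (d s)))]
        simp only [Finset.smul_sum, smul_eq_C_mul, ← mul_assoc, ← map_mul]
        rw [Finset.sum_comm]
        simp only [← Finset.sum_mul, ← map_sum]
        rw [Fintype.sum_eq_single u fun v hv => ?_]
        · rw [show ∑ s, M⁻¹ u s * coeff (expo r u) _ = (M⁻¹ * M) u u from rfl, hMi, Matrix.one_apply_eq, C_1, one_mul]
        · rw [show ∑ s, M⁻¹ u s * coeff (expo r v) _ = (M⁻¹ * M) u v from rfl, hMi, Matrix.one_apply_ne hv.symm, map_zero, zero_mul]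
      rw [eq_sum_expo (show h.IsHomogeneous r from hh)]
      refine Submodule.sum_mem _ fun u _ => ?_
      rw [← smul_eq_C_mul, hmono]
      exact Submodule.smul_mem _ _ (Submodule.sum_mem _ fun s _ => Submodule.smul_mem _ _ (Submodule.subset_span ⟨d s, rfl⟩))

end Groth.Agent.S16355
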