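import Groth.Statements.S16356
import Mathlib

set_option autoImplicit false
universe u
open OrdAV

namespace Groth.Agent.S16356

/-- For an odd prime p and a perfect field k of characteristic p, a root of unity in the ring of Witt
vectors W(k) whose residue in k is 1 is itself 1: if x ^ n = 1 with n ≥ 1 and the zeroth Witt
component of x is 1, then x = 1. (For p = 2 this fails: -1 in W(F_2).) -/
theorem result (p : ℕ) [Fact p.Prime] (hp : p ≠ 2)
    (k : Type u) [Field k] [CharP k p] [PerfectRing k p]
    (x : WittVector p k) (n : ℕ) (hn : 0 < n) (hx : x ^ n = 1) (h0 : x.coeff 0 = 1) : x = 1 := by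
  obtain ⟨s, m, hpm, rfl⟩ : ∃ s m, ¬ p ∣ m ∧ n = p ^ s * m := by
    obtain ⟨s, m, h1, h2⟩ := Nat.exists_eq_pow_mul_and_not_dvd hn.ne' p (Fact.out : p.Prime).ne_one
    exact ⟨s, m, h1, h2⟩
  let P : Ideal (WittVector p k) := Ideal.span {(p : WittVector p k)}
  have hmemP : ∀ y : WittVector p k, y ∈ P ↔ y.coeff 0 = 0 := fun y => WittVector.mem_span_p_iff_coeff_zero_eq_zero y
  have hc : ∀ y : WittVector p k, WittVector.constantCoeff y = y.coeff 0 := fun y => rfl
  have hone : ∀ y : WittVector p k, y.coeff 0 = 1 → y - 1 ∈ P := fun y hy => (hmemP _).2 (by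
    rw [← hc, map_sub, map_one, hc, hy, sub_self])
  have hpne : (p : WittVector p k) ≠ 0 := WittVector.p_nonzero p k
  have step : ∀ y : WittVector p k, y.coeff 0 = 1 → y ^ p = 1 → y = 1 := by
    intro y hy hyp
    by_contra hne
    have hsum : ∑ i ∈ Finset.range p, y ^ i = 0 := by
      have := mul_geom_sum y p
      rw [hyp, sub_self] at this
      exact (mul_eq_zero.1 this).resolve_left (sub_ne_zero.2 hne)
    obtain ⟨z, hz⟩ := Ideal.mem_span_singleton'.1 (hone y hy)
    have hy' : y = z * p + 1 := eq_add_of_sub_eq hz.symm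
    have hexp : ∀ i : ℕ, ∃ w, y ^ i = 1 + (i : WittVector p k) * (z * p) + w * (p * p) := by
      intro i
      induction i with
      | zero => exact ⟨0, by simp⟩
      | succ i ih =>
        obtain ⟨w, hw⟩ := ih
        refine ⟨(i : WittVector p k) * z * z + w * (z * p) + w, ?_⟩
        rw [pow_succ, hw, hy']
        push_cast
        ring
    choose w hw using hexp
    simp only [hw, Finset.sum_add_distrib, ← Finset.sum_mul, Finset.sum_const, Finset.card_range, nsmul_eq_mul, mul_one] at hsum
    obtain ⟨c, hc'⟩ : p ∣ ∑ i ∈ Finset.range p, i := by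
      rw [Finset.sum_range_id]
      have hodd : Odd p := (Fact.out : p.Prime).odd_of_ne_two hp
      obtain ⟨r, hr⟩ := hodd
      exact ⟨r, by rw [show p - 1 = 2 * r by omega, ← mul_assoc, mul_comm (p * 2) r, ← mul_assoc, Nat.mul_div_cancel _ two_pos, mul_comm]⟩
    rw [← Nat.cast_sum, hc'] at hsum
    push_cast at hsum
    have h1 : (p : WittVector p k) * (1 + ((c : WittVector p k) * z + ∑ i ∈ Finset.range p, w i) * p) = 0 := by
      linear_combination hsum
    have h2 := (mul_eq_zero.1 h1).resolve_left hpne
    have h3 : (1 : WittVector p k) ∈ P := Ideal.mem_span_singleton'.2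
      ⟨-((c : WittVector p k) * z + ∑ i ∈ Finset.range p, w i), by linear_combination -h2⟩
    rw [hmemP, WittVector.one_coeff_zero] at h3
    exact one_ne_zero h3
  have hxs : x ^ (p ^ s) = 1 := by
    have hy : (x ^ (p ^ s)).coeff 0 = 1 := by rw [← hc, map_pow, hc, h0, one_pow]
    by_contra hne
    have h1 := mul_geom_sum (x ^ (p ^ s)) m
    rw [← pow_mul, hx, sub_self] at h1
    have h2 := congrArg WittVector.constantCoeff ((mul_eq_zero.1 h1).resolve_left (sub_ne_zero.2 hne))
    rw [map_sum, map_zero] at h2
    simp only [map_pow] at h2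
    simp only [hc, h0, one_pow, Finset.sum_const, Finset.card_range, nsmul_eq_mul, mul_one] at h2
    exact hpm ((CharP.cast_eq_zero_iff k p m).1 h2)
  clear hx hn hpm
  induction s generalizing x with
  | zero => simpa using hxs
  | succ s ih =>
    refine step x h0 (ih (x ^ p) ?_ ?_)
    · rw [← hc, map_pow, hc, h0, one_pow]
    · rw [← pow_mul, ← pow_succ', hxs]

end Groth.Agent.S16356
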