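import Groth.Statements.S16357
import Mathlib

set_option autoImplicit false
universe u
open OrdAV

namespace Groth.Agent.S16357

/-- Over a field L of characteristic zero, a monic polynomial h whose square has rational coefficients
has rational coefficients itself. -/
theorem result (L : Type u) [Field L] [CharZero L]
    (h : Polynomial L) (hm : h.Monic) (f : Polynomial ℚ)
    (hf : h ^ 2 = Polynomial.map (algebraMap ℚ L) f) :
    ∃ g : Polynomial ℚ, Polynomial.map (algebraMap ℚ L) g = h := by
  set n := h.natDegree with hn
  have hc : ∀ j, j ≤ n → h.coeff (n - j) ∈ (algebraMap ℚ L).fieldRange := by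
    intro j
    induction j using Nat.strong_induction_on with
    | _ j ih =>
      intro hj
      rcases Nat.eq_zero_or_pos j with rfl | hpos
      · rw [Nat.sub_zero, hn, Polynomial.Monic.coeff_natDegree hm]
        exact one_mem _
      have key : (h ^ 2).coeff (n + (n - j)) ∈ (algebraMap ℚ L).fieldRange := by
        rw [hf, Polynomial.coeff_map]
        exact ⟨_, rfl⟩
      rw [pow_two, Polynomial.coeff_mul] at key
      have h1 : (n, n - j) ∈ Finset.HasAntidiagonal.antidiagonal (n + (n - j)) := by simp
      have h2 : (n - j, n) ∈ (Finset.HasAntidiagonal.antidiagonal (n + (n - j))).erase (n, n - j) := by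
        refine Finset.mem_erase.2 ⟨fun e => ?_, by simp [add_comm]⟩
        have := congrArg Prod.fst e
        simp at this
        omega
      rw [← Finset.add_sum_erase _ _ h1, ← Finset.add_sum_erase _ _ h2] at key
      have hrest : (∑ x ∈ ((Finset.HasAntidiagonal.antidiagonal (n + (n - j))).erase (n, n - j)).erase (n - j, n),
          h.coeff x.1 * h.coeff x.2) ∈ (algebraMap ℚ L).fieldRange := by
        refine sum_mem fun x hx => ?_
        obtain ⟨x1, x2⟩ := x
        simp only [Finset.mem_erase, Finset.HasAntidiagonal.mem_antidiagonal, ne_eq, Prod.mk.injEq] at hx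
        by_cases hb : x1 ≤ n ∧ x2 ≤ n
        · refine mul_mem ?_ ?_
          · rw [show x1 = n - (n - x1) by omega]
            exact ih _ (by omega) (by omega)
          · rw [show x2 = n - (n - x2) by omega]
            exact ih _ (by omega) (by omega)
        · rcases not_and_or.1 hb with hb | hb
          · rw [Polynomial.coeff_eq_zero_of_natDegree_lt (n := x1) (by omega), zero_mul]; exact zero_mem _
          · rw [Polynomial.coeff_eq_zero_of_natDegree_lt (n := x2) (by omega), mul_zero]; exact zero_mem _
      simp only [show h.coeff n = 1 from Polynomial.Monic.coeff_natDegree hm, one_mul, mul_one] at key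
      have h3 : (2 : L) * h.coeff (n - j) ∈ (algebraMap ℚ L).fieldRange := by
        have := sub_mem key hrest
        convert this using 1
        ring
      have := div_mem h3 (show (2 : L) ∈ (algebraMap ℚ L).fieldRange from ⟨2, map_ofNat _ 2⟩)
      rwa [mul_div_cancel_left₀ _ (two_ne_zero' L)] at this
  have hl : h ∈ Polynomial.lifts (algebraMap ℚ L) := by
    rw [Polynomial.lifts_iff_coeff_lifts]
    intro i
    by_cases hi : i ≤ n
    · obtain ⟨q, hq⟩ := hc (n - i) (by omega)
      exact ⟨q, hq.trans (by rw [show n - (n - i) = i by omega])⟩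
    · exact ⟨0, by rw [map_zero, Polynomial.coeff_eq_zero_of_natDegree_lt (by omega)]⟩
  obtain ⟨g, hg⟩ := (Polynomial.mem_lifts h).1 hl
  exact ⟨g, hg⟩

end Groth.Agent.S16357
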