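import Groth.Statements.S16358
import Mathlib

set_option autoImplicit false
universe u v w
open OrdAV

namespace Groth.Agent.S16358

/-- Let k be a perfect field of characteristic p > 0 and W = W(k); let M be a finitely generated free
W-module on which a finite group G acts W-linearly, with invariant submodule M^G. Then the map
(W/pW) ⊗ M^G → (W/pW) ⊗ M induced by the inclusion is injective. Since M^G is free, this implies
rank_W M^G ≤ dim_k (M/pM)^G; the published statement is that inequality, and this row states the
stronger injectivity. -/
theorem result (p : ℕ) [Fact p.Prime]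
    (k : Type u) [Field k] [CharP k p] [PerfectRing k p]
    (M : Type v) [AddCommGroup M] [Module (WittVector p k) M]
    [Module.Free (WittVector p k) M] [Module.Finite (WittVector p k) M]
    (G : Type w) [Group G] [Finite G] (ρ : Representation (WittVector p k) G M) :
    Function.Injective
      (LinearMap.lTensor (WittVector p k ⧸ Ideal.span {(p : WittVector p k)}) ρ.invariants.subtype) := by
  let N : Submodule (WittVector p k) M := ρ.invariants
  haveI : Module.IsTorsionFree (WittVector p k) (M ⧸ N) := by
    rw [Module.isTorsionFree_iff_smul_eq_zero]
    intro c x hcx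
    obtain ⟨x, rfl⟩ := Submodule.Quotient.mk_surjective _ x
    rcases eq_or_ne c 0 with hc | hc
    · exact Or.inl hc
    refine Or.inr ?_
    rw [← Submodule.Quotient.mk_smul, Submodule.Quotient.mk_eq_zero] at hcx
    rw [Submodule.Quotient.mk_eq_zero]
    intro g
    have h1 := hcx g
    rw [map_smul] at h1
    exact smul_right_injective M hc h1
  haveI : Module.Free (WittVector p k) (M ⧸ N) := Module.free_of_finite_type_torsion_free'
  obtain ⟨sec, hsec⟩ := Module.projective_lifting_property N.mkQ LinearMap.id
    (Submodule.mkQ_surjective _)
  let ret : M →ₗ[WittVector p k] N := (LinearMap.id - sec ∘ₗ N.mkQ).codRestrict _ (by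
    intro x
    rw [← Submodule.Quotient.mk_eq_zero]
    show N.mkQ (x - sec (N.mkQ x)) = 0
    have h := LinearMap.congr_fun hsec (N.mkQ x)
    simp only [LinearMap.comp_apply, LinearMap.id_apply] at h
    rw [map_sub, h, sub_self])
  have hret : ret ∘ₗ N.subtype = LinearMap.id := LinearMap.ext fun z => Subtype.ext (by
    show (z : M) - sec (N.mkQ z) = z
    rw [(LinearMap.mem_ker.mp (by rw [Submodule.ker_mkQ]; exact z.2) : N.mkQ (z : M) = 0),
      map_zero, sub_zero])
  refine Function.LeftInverse.injective (g := ret.lTensor _) fun x => ?_
  rw [← LinearMap.comp_apply, ← LinearMap.lTensor_comp, hret, LinearMap.lTensor_id,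
    LinearMap.id_apply]

end Groth.Agent.S16358
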