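import Groth.Statements.S16360
import Groth.Agent.S1964

set_option autoImplicit false
universe u
open Hensel

namespace Groth.Agent.S16360

set_option linter.style.haveILetI false
set_option backward.isDefEq.respectTransparency false
set_option maxHeartbeats 1000000

open IsLocalRing

section
variable {R : Type u} [CommRing R] [IsDomain R] [IsDiscreteValuationRing R] [HenselianLocalRing R]
variable {Ω : Type u} [Field Ω] [Algebra R Ω]

/-- Finite unramified extensions with purely inseparable residue extension, inside a field. -/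
def Good (p : ℕ) (π : R) (S : Subalgebra R Ω) : Prop :=
  Module.Finite R S ∧ (∃ m, Module.finrank R S = p ^ m) ∧ (Ideal.span {algebraMap R S π}).IsMaximal ∧
    ∀ y : S, ∃ (m : ℕ) (z : R), y ^ (p ^ m) - algebraMap R S z ∈ Ideal.span {algebraMap R S π}

theorem exists_ext (hinj : Function.Injective (algebraMap R Ω)) (p : ℕ) [Fact p.Prime] (π : R)
    (hπ : maximalIdeal R = Ideal.span {π}) [CharP (ResidueField R) p] {S : Subalgebra R Ω} (hS : Good p π S) (y : S)
    (hy : ∀ b : S, b ^ p - y ∉ Ideal.span {algebraMap R S π}) (z : Ω) (hz : z ^ p = (y : Ω)) :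
    ∃ S' : Subalgebra R Ω, Good p π S' ∧ S ≤ S' ∧ z ∈ S' ∧ S' ≤ S ⊔ Algebra.adjoin R {z} := by
  classical
  obtain ⟨hfin, ⟨m, hm⟩, hmax, hres⟩ := hS
  haveI := hfin
  haveI : FaithfulSMul R Ω := (faithfulSMul_iff_algebraMap_injective R Ω).2 hinj
  haveI : Module.IsTorsionFree R S :=
    Module.isTorsionFree_iff_algebraMap_injective.2 fun a b h => hinj (congrArg Subtype.val h)
  haveI : Module.Free R S := Module.free_of_finite_type_torsion_free'
  haveI : IsLocalRing S := WLocalLib.isLocalRing_of_isIntegral R S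
  haveI : IsNoetherianRing S := isNoetherian_of_tower R (isNoetherian_of_isNoetherianRing_of_finite R S)
  haveI : CharP (S ⧸ Ideal.span {algebraMap R S π}) p := by
    haveI := hmax
    letI := Ideal.Quotient.field (Ideal.span {algebraMap R S π})
    let f : ResidueField R →+* S ⧸ Ideal.span {algebraMap R S π} :=
      Ideal.quotientMap (Ideal.span {algebraMap R S π})
        (algebraMap R S) (by rw [hπ, Ideal.span_le]; simp [Ideal.mem_span_singleton_self])
    exact charP_of_injective_ringHom f.injective p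
  have hp : p.Prime := Fact.out
  let F : Polynomial S := Polynomial.X ^ p - Polynomial.C y
  have hmon : F.Monic := Polynomial.monic_X_pow_sub_C _ hp.ne_zero
  have hdeg : F.natDegree = p := Polynomial.natDegree_X_pow_sub_C
  let Q := AdjoinRoot F
  haveI : Module.Free S Q := Module.Free.of_basis (AdjoinRoot.powerBasis' hmon).basis
  haveI : Module.Finite S Q := Module.Finite.of_basis (AdjoinRoot.powerBasis' hmon).basis
  haveI : Module.Finite R Q := Module.Finite.trans S Q
  let P : Ideal Q := (Ideal.span {algebraMap R S π}).map (AdjoinRoot.of F)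
  have hPmax : P.IsMaximal := by
    haveI := hmax
    letI := Ideal.Quotient.field (Ideal.span {algebraMap R S π})
    have hirr : Irreducible (Polynomial.map (Ideal.Quotient.mk (Ideal.span {algebraMap R S π})) F) := by
      simp only [F, Polynomial.map_sub, Polynomial.map_pow, Polynomial.map_X, Polynomial.map_C]
      refine X_pow_sub_C_irreducible_of_prime hp fun b hb => ?_
      obtain ⟨b, rfl⟩ := Ideal.Quotient.mk_surjective b
      exact hy b (Ideal.Quotient.eq.1 (by rw [map_pow, hb]))
    haveI : (Ideal.span {Polynomial.map (Ideal.Quotient.mk (Ideal.span {algebraMap R S π})) F}).IsMaximal :=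
      PrincipalIdealRing.isMaximal_of_irreducible hirr
    refine Ideal.Quotient.maximal_of_isField _ ?_
    letI := Ideal.Quotient.field (Ideal.span {Polynomial.map (Ideal.Quotient.mk (Ideal.span {algebraMap R S π})) F})
    exact MulEquiv.isField (Field.toIsField (Polynomial (S ⧸ Ideal.span {algebraMap R S π}) ⧸
      Ideal.span {Polynomial.map (Ideal.Quotient.mk (Ideal.span {algebraMap R S π})) F}))
      (AdjoinRoot.quotEquivQuotMap F (Ideal.span {algebraMap R S π})).toRingEquiv.toMulEquiv
  let φ : Q →ₐ[R] Ω := AdjoinRoot.liftAlgHom F S.val z (by simp [F, hz])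
  -- the kernel vanishes
  have hPjac : P ≤ Ideal.jacobson ⊥ := le_sInf fun M ⟨_, hM⟩ => by
    haveI := hM
    rw [Ideal.map_le_iff_le_comap]
    have h : (M.comap (algebraMap S Q)).IsMaximal := Ideal.isMaximal_comap_of_isIntegral_of_isMaximal M
    rw [show M.comap (AdjoinRoot.of F) = M.comap (algebraMap S Q) from rfl, IsLocalRing.eq_maximalIdeal h]
    exact (IsLocalRing.eq_maximalIdeal hmax).le
  haveI : IsNoetherianRing Q := isNoetherian_of_tower S (isNoetherian_of_isNoetherianRing_of_finite S Q)
  have hπ0 : π ≠ 0 := fun h => IsDiscreteValuationRing.not_a_field R (by rw [hπ, h, Ideal.span_singleton_eq_bot])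
  have hπΩ : φ (algebraMap R Q π) ≠ 0 := by
    rw [φ.commutes]
    exact fun h => hπ0 (hinj (h.trans (map_zero _).symm))
  have hPeq : P = Ideal.span {algebraMap R Q π} := by
    show Ideal.map _ _ = _
    rw [Ideal.map_span, Set.image_singleton]
    rfl
  have hker : RingHom.ker φ.toRingHom = ⊥ := by
    refine Submodule.eq_bot_of_le_smul_of_le_jacobson_bot P _ (IsNoetherian.noetherian _) (fun x hx => ?_) hPjac
    haveI := RingHom.ker_isPrime φ.toRingHom
    have hle : RingHom.ker φ.toRingHom ≤ P := by
      obtain ⟨M, hM, hle⟩ := Ideal.exists_le_maximal _ (RingHom.ker_ne_top φ.toRingHom)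
      exact hle.trans (hPmax.eq_of_le hM.ne_top
        (hPjac.trans (sInf_le ⟨bot_le, hM⟩))).ge
    obtain ⟨c, hc⟩ := Ideal.mem_span_singleton.1 (hPeq ▸ hle hx)
    have hc' : c ∈ RingHom.ker φ.toRingHom := by
      rw [RingHom.mem_ker] at hx ⊢
      rw [hc] at hx
      change φ (algebraMap R Q π * c) = 0 at hx
      rw [map_mul, mul_eq_zero] at hx
      exact hx.resolve_left hπΩ
    rw [hc, Ideal.smul_eq_mul]
    exact Ideal.mul_mem_mul (hPeq ▸ Ideal.mem_span_singleton_self _) hc'
  have hφ : Function.Injective φ := (RingHom.injective_iff_ker_eq_bot φ.toRingHom).2 hker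
  let e : Q ≃ₐ[R] φ.range := AlgEquiv.ofInjective φ hφ
  have hzS : z ∈ φ.range := ⟨AdjoinRoot.root F, AdjoinRoot.liftAlgHom_root _ _ _ _⟩
  have hSle : S ≤ φ.range := fun s hs => ⟨AdjoinRoot.of F ⟨s, hs⟩, AdjoinRoot.liftAlgHom_of _ _ _ _ _⟩
  have hspan : Ideal.span {algebraMap R φ.range π} = P.map e.toRingEquiv := by
    rw [hPeq, Ideal.map_span, Set.image_singleton]
    exact congrArg (fun v => Ideal.span {v}) (e.commutes π).symm
  refine ⟨φ.range, ⟨Module.Finite.equiv e.toLinearEquiv, ⟨m + 1, ?_⟩, ?_, fun w => ?_⟩, hSle, hzS, ?_⟩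
  · rw [← e.toLinearEquiv.finrank_eq, ← Module.finrank_mul_finrank R S Q, hm,
      (AdjoinRoot.powerBasis' hmon).finrank, AdjoinRoot.powerBasis'_dim, hdeg, pow_succ]
  · haveI := hPmax
    rw [hspan]
    exact Ideal.map_isMaximal_of_equiv e.toRingEquiv
  · obtain ⟨q, rfl⟩ := e.surjective w
    haveI := hmax
    letI := Ideal.Quotient.field (Ideal.span {algebraMap R S π})
    haveI := hPmax
    haveI : CharP (Q ⧸ P) p := charP_of_injective_ringHom
      ((Ideal.quotientMap P (AdjoinRoot.of F) Ideal.le_comap_map : S ⧸ Ideal.span {algebraMap R S π} →+* Q ⧸ P).injective)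
      p
    have hgen : ∀ q : Q, ∃ s : S, q ^ p - AdjoinRoot.of F s ∈ P := by
      intro q
      obtain ⟨g, rfl⟩ := AdjoinRoot.mk_surjective q
      induction g using Polynomial.induction_on' with
      | add a b ha hb =>
        obtain ⟨u, hu⟩ := ha
        obtain ⟨v, hv⟩ := hb
        refine ⟨u + v, Ideal.Quotient.eq.1 ?_⟩
        have e1 : Ideal.Quotient.mk P (AdjoinRoot.mk F (a + b) ^ p) = Ideal.Quotient.mk P (AdjoinRoot.mk F a ^ p) +
            Ideal.Quotient.mk P (AdjoinRoot.mk F b ^ p) := by simp only [map_add, map_pow, add_pow_char]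
        rw [e1, Ideal.Quotient.eq.2 hu, Ideal.Quotient.eq.2 hv, ← map_add, ← map_add]
      | monomial i a =>
        refine ⟨a ^ p * y ^ i, ?_⟩
        rw [← Polynomial.C_mul_X_pow_eq_monomial, map_mul, map_pow, AdjoinRoot.mk_C, AdjoinRoot.mk_X, mul_pow, map_mul,
          map_pow, map_pow, ← pow_mul, mul_comm i p, pow_mul]
        have : AdjoinRoot.root F ^ p = AdjoinRoot.of F y := by
          have := AdjoinRoot.eval₂_root F
          simp only [F, Polynomial.eval₂_sub, Polynomial.eval₂_pow, Polynomial.eval₂_X, Polynomial.eval₂_C] at this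
          exact sub_eq_zero.1 this
        rw [this, sub_self]
        exact zero_mem _
    obtain ⟨s, hs⟩ := hgen q
    obtain ⟨m', c, hc⟩ := hres s
    refine ⟨m' + 1, c, ?_⟩
    rw [hspan, ← e.commutes, ← map_pow, ← map_sub]
    refine Ideal.mem_map_of_mem e.toRingEquiv (Ideal.Quotient.eq.1 ?_)
    rw [pow_succ', pow_mul, map_pow, Ideal.Quotient.eq.2 hs, ← map_pow, ← map_pow]
    refine Ideal.Quotient.eq.2 ?_
    rw [IsScalarTower.algebraMap_apply R S Q, AdjoinRoot.algebraMap_eq, ← map_sub]
    exact Ideal.mem_map_of_mem _ hc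
  · rintro _ ⟨q, rfl⟩
    obtain ⟨g, rfl⟩ := AdjoinRoot.mk_surjective q
    induction g using Polynomial.induction_on' with
    | add a b ha hb => simp only [map_add]; exact add_mem ha hb
    | monomial i a =>
      rw [← Polynomial.C_mul_X_pow_eq_monomial, map_mul, map_pow, AdjoinRoot.mk_C, AdjoinRoot.mk_X, map_mul, map_pow]
      change φ (AdjoinRoot.of F a) * φ (AdjoinRoot.root F) ^ i ∈ _
      rw [AdjoinRoot.liftAlgHom_of, AdjoinRoot.liftAlgHom_root]
      exact mul_mem ((le_sup_left : S ≤ _) a.2)
        (pow_mem ((le_sup_right : Algebra.adjoin R {z} ≤ _) (Algebra.subset_adjoin rfl)) i)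

end

/-- Let R be a discrete valuation ring that is Henselian and excellent, write k for its residue field
and p for the characteristic exponent of k. There is a Henselian discrete valuation ring R' and an
injective ring map R → R' such that the maximal ideal of R generates that of R' (so a uniformizer of
R is a uniformizer of R'), R' is the directed union of R-subalgebras that are finite free R-modules
of rank a power of p, and the residue field k' of R' is a perfect closure of k: every element of k'
is a p-th power in k', and some p-power-th power of it lies in the image of k. (The published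
statement also asserts that R' is excellent; that is not asserted here.) -/
theorem result (R : Type u) [CommRing R] [IsDomain R]
    [IsDiscreteValuationRing R] [HenselianLocalRing R] (hR : EGA4.IsExcellent R) :
    ∃ (R' : Type u) (_ : CommRing R') (_ : IsDomain R') (_ : IsDiscreteValuationRing R')
      (_ : HenselianLocalRing R') (_ : Algebra R R'),
      Function.Injective (algebraMap R R') ∧
      Ideal.map (algebraMap R R') (IsLocalRing.maximalIdeal R) = IsLocalRing.maximalIdeal R' ∧
      (∀ s : Finset R', ∃ S : Subalgebra R R', (↑s : Set R') ⊆ ↑S ∧ Module.Finite R S ∧ Module.Free R S ∧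
        ∃ m : ℕ, Module.finrank R S = ringExpChar (IsLocalRing.ResidueField R) ^ m) ∧
      (∀ y : R', ∃ z : R', z ^ ringExpChar (IsLocalRing.ResidueField R) - y ∈ IsLocalRing.maximalIdeal R') ∧
      (∀ y : R', ∃ (m : ℕ) (z : R),
        algebraMap R R' z - y ^ (ringExpChar (IsLocalRing.ResidueField R) ^ m) ∈ IsLocalRing.maximalIdeal R') := by
  classical
  obtain ⟨π, hπirr⟩ := IsDiscreteValuationRing.exists_irreducible R
  have hπ : maximalIdeal R = Ideal.span {π} := (IsDiscreteValuationRing.irreducible_iff_uniformizer π).1 hπirr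
  let p := ringExpChar (ResidueField R)
  let Ω := AlgebraicClosure (FractionRing R)
  have hinj : Function.Injective (algebraMap R Ω) := by
    rw [IsScalarTower.algebraMap_eq R (FractionRing R) Ω]
    exact (algebraMap (FractionRing R) Ω).injective.comp (IsFractionRing.injective R _)
  let 𝒯 : Set (Subalgebra R Ω) := {T | ∀ s : Finset Ω, ↑s ⊆ (T : Set Ω) → ∃ S, Good p π S ∧ S ≤ T ∧ ↑s ⊆ (S : Set Ω)}
  have hbot : Good p π (⊥ : Subalgebra R Ω) := by
    let e := Algebra.botEquivOfInjective hinj
    refine ⟨Module.Finite.equiv e.symm.toLinearEquiv, ⟨0, by rw [e.toLinearEquiv.finrank_eq, Module.finrank_self, pow_zero]⟩, ?_, fun y => ?_⟩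
    · have : Ideal.span {algebraMap R (⊥ : Subalgebra R Ω) π} = (Ideal.span {π}).map e.symm.toRingEquiv := by
        rw [Ideal.map_span, Set.image_singleton]
        exact congrArg (fun v => Ideal.span {v}) (e.symm.commutes π).symm
      haveI hmx : (Ideal.span {π}).IsMaximal := hπ ▸ maximalIdeal.isMaximal R
      rw [this]
      exact Ideal.map_isMaximal_of_equiv e.symm.toRingEquiv
    · obtain ⟨r, hr⟩ := Algebra.mem_bot.1 y.2
      refine ⟨0, r, ?_⟩
      rw [pow_zero, pow_one, show algebraMap R (⊥ : Subalgebra R Ω) r = y from Subtype.ext hr, sub_self]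
      exact zero_mem _
  obtain ⟨T, -, hT⟩ := zorn_le_nonempty₀ 𝒯 (fun c hc hchain T₀ hT₀ => by
    refine ⟨sSup c, fun s hs => ?_, fun T hT => le_sSup hT⟩
    have hdir : DirectedOn (· ≤ ·) c := hchain.directedOn
    have hcoe : ((sSup c : Subalgebra R Ω) : Set Ω) = ⋃ T ∈ c, (T : Set Ω) := by
      haveI : Nonempty c := ⟨⟨T₀, hT₀⟩⟩
      rw [sSup_eq_iSup', Subalgebra.coe_iSup_of_directed hdir.directed_val, Set.biUnion_eq_iUnion]
    rw [hcoe] at hs
    obtain ⟨T, hT, hsT⟩ := hdir.exists_mem_subset_of_finset_subset_biUnion ⟨T₀, hT₀⟩ hs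
    obtain ⟨S, hS, hST, hsS⟩ := hc hT s hsT
    exact ⟨S, hS, hST.trans (le_sSup hT), hsS⟩) ⊥ fun s hs => ⟨⊥, hbot, le_rfl, hs⟩
  haveI : Algebra.IsIntegral R T := ⟨fun x => by
    obtain ⟨S, hS, hST, hxS⟩ := hT.1 {(x : Ω)} (by simp)
    haveI := hS.1
    exact (isIntegral_algHom_iff T.val Subtype.val_injective).1 (by
      have h := (Algebra.IsIntegral.isIntegral (R := R) (⟨x, hxS (by simp)⟩ : S)).map S.val
      exact h)⟩
  have hTinj : Function.Injective (algebraMap R T) := fun a b h => hinj (congrArg Subtype.val h)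
  obtain ⟨hh, hloc, -⟩ := S1964.result R T
  have hmemS : ∀ (x : T) (S : Subalgebra R Ω) (hST : S ≤ T) (hx : (x : Ω) ∈ S),
      (⟨x, hx⟩ : S) ∈ Ideal.span {algebraMap R S π} → x ∈ Ideal.span {algebraMap R T π} := by
    intro x S hST hx h
    obtain ⟨c, hc⟩ := Ideal.mem_span_singleton.1 h
    exact Ideal.mem_span_singleton.2 ⟨⟨c, hST c.2⟩, Subtype.ext (congrArg Subtype.val hc :)⟩
  have hnu : ∀ x : T, ¬ IsUnit x → x ∈ Ideal.span {algebraMap R T π} := fun x hx => by
    obtain ⟨S, hS, hST, hxS⟩ := hT.1 {(x : Ω)} (by simp)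
    haveI := hS.1
    haveI : IsLocalRing S := WLocalLib.isLocalRing_of_isIntegral R S
    refine hmemS x S hST (hxS (by simp)) ?_
    rw [IsLocalRing.eq_maximalIdeal hS.2.2.1, mem_maximalIdeal]
    exact fun hu => hx (hu.map (Subalgebra.inclusion hST))
  have hπT : ¬ IsUnit (algebraMap R T π) := fun h => hπirr.not_isUnit (hloc.map_nonunit π h)
  have hmaxT : maximalIdeal T = Ideal.span {algebraMap R T π} := le_antisymm hnu
    (Ideal.span_le.2 (Set.singleton_subset_iff.2 hπT))
  have hπ0 : algebraMap R T π ≠ 0 := fun h => hπirr.ne_zero (hTinj (h.trans (map_zero _).symm))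
  haveI : IsDiscreteValuationRing T := by
    refine IsDiscreteValuationRing.ofHasUnitMulPowIrreducibleFactorization
      ⟨algebraMap R T π, ⟨hπT, fun a b hab => ?_⟩, fun {x} hx => ?_⟩
    · by_contra hc
      push Not at hc
      obtain ⟨a', ha'⟩ := Ideal.mem_span_singleton.1 (hnu a hc.1)
      rw [ha', mul_assoc] at hab
      exact hc.2 (IsUnit.of_mul_eq_one_right a' (mul_left_cancel₀ hπ0 (hab.symm.trans (mul_one _).symm)))
    · obtain ⟨S, hS, hST, hxS⟩ := hT.1 {(x : Ω)} (by simp)
      haveI := hS.1
      haveI : IsNoetherianRing S := isNoetherian_of_tower R (isNoetherian_of_isNoetherianRing_of_finite R S)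
      have hx0 : (⟨x, hxS (by simp)⟩ : S) ≠ 0 := fun h => hx (Subtype.ext (show (x : Ω) = 0 from congrArg Subtype.val h))
      obtain ⟨n, u, hu, hxu⟩ := WfDvdMonoid.max_power_factor' hx0
        (x := algebraMap R S π) (fun h => hS.2.2.1.ne_top (Ideal.span_singleton_eq_top.2 h))
      haveI : IsLocalRing S := WLocalLib.isLocalRing_of_isIntegral R S
      have huu : IsUnit u := by
        by_contra h
        refine hu (Ideal.mem_span_singleton.1 ?_)
        rw [IsLocalRing.eq_maximalIdeal hS.2.2.1]
        exact h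
      refine ⟨n, (huu.map (Subalgebra.inclusion hST)).unit, Subtype.ext ?_⟩
      exact (congrArg Subtype.val hxu).symm
  refine ⟨T, inferInstance, inferInstance, inferInstance, hh, inferInstance, hTinj, ?_, fun s => ?_, fun y => ?_,
    fun y => ?_⟩
  · rw [hπ, Ideal.map_span, Set.image_singleton, hmaxT]
  · obtain ⟨S, hS, hST, hsS⟩ := hT.1 (s.image Subtype.val) (by intro x hx; obtain ⟨a, _, rfl⟩ := Finset.mem_image.1 hx; exact a.2)
    haveI := hS.1
    haveI : Module.IsTorsionFree R S :=
      Module.isTorsionFree_iff_algebraMap_injective.2 fun a b h => hinj (congrArg Subtype.val h)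
    haveI : Module.Free R S := Module.free_of_finite_type_torsion_free'
    let e : S ≃ₐ[R] (Subalgebra.inclusion hST).range :=
      AlgEquiv.ofInjective (Subalgebra.inclusion hST) (Subalgebra.inclusion_injective hST)
    refine ⟨(Subalgebra.inclusion hST).range, fun x hx => ⟨⟨x, hsS (by simpa using hx)⟩, rfl⟩,
      Module.Finite.equiv e.toLinearEquiv, Module.Free.of_equiv e.toLinearEquiv, ?_⟩
    rw [← e.toLinearEquiv.finrank_eq]
    exact hS.2.1
  · rcases expChar_is_prime_or_one (ResidueField R) p with hp | hp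
    · haveI : Fact p.Prime := ⟨hp⟩
      haveI : CharP (ResidueField R) p := by
        obtain ⟨q, hq⟩ := CharP.exists (ResidueField R)
        haveI := hq
        rcases CharP.char_is_prime_or_zero (ResidueField R) q with hq' | rfl
        · exact ((char_eq_expChar_iff (ResidueField R) q p).2 hq') ▸ hq
        · exact absurd (expChar_one_of_char_zero (ResidueField R) p) hp.ne_one
      by_contra hcon
      push Not at hcon
      obtain ⟨z, hz⟩ := IsAlgClosed.exists_pow_nat_eq (y : Ω) hp.pos
      have hzT : z ∈ T := by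
        have hle : T ⊔ Algebra.adjoin R {z} ≤ T := hT.2 (fun s hs => ?_) le_sup_left
        · exact hle ((le_sup_right : Algebra.adjoin R {z} ≤ _) (Algebra.subset_adjoin rfl))
        obtain ⟨s₀, hs₀T, hs₀⟩ : ∃ s₀ : Finset Ω, ↑s₀ ⊆ (T : Set Ω) ∧
            ∀ x ∈ s, x ∈ Algebra.adjoin R ((s₀ : Set Ω) ∪ {z}) := by
          have h1 : ∀ x ∈ s, ∃ t : Finset Ω, ↑t ⊆ (T : Set Ω) ∧ x ∈ Algebra.adjoin R ((t : Set Ω) ∪ {z}) := by
            intro x hx
            have hx' : x ∈ Algebra.adjoin R ((T : Set Ω) ∪ {z}) := by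
              rw [Algebra.adjoin_union, Algebra.adjoin_eq]
              exact hs hx
            clear hx
            induction hx' using Algebra.adjoin_induction with
            | mem a ha =>
              rcases ha with ha | ha
              · exact ⟨{a}, by simpa using ha, Algebra.subset_adjoin (Or.inl (by simp))⟩
              · exact ⟨∅, by simp, Algebra.subset_adjoin (Or.inr ha)⟩
            | algebraMap r => exact ⟨∅, by simp, Subalgebra.algebraMap_mem _ r⟩
            | add a b _ _ ha hb =>
              obtain ⟨t, ht, hat⟩ := ha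
              obtain ⟨u, hu, hbu⟩ := hb
              refine ⟨t ∪ u, by simpa using ⟨ht, hu⟩, add_mem (Algebra.adjoin_mono ?_ hat) (Algebra.adjoin_mono ?_ hbu)⟩
              · exact Set.union_subset_union_left _ (by simp)
              · exact Set.union_subset_union_left _ (by simp)
            | mul a b _ _ ha hb =>
              obtain ⟨t, ht, hat⟩ := ha
              obtain ⟨u, hu, hbu⟩ := hb
              refine ⟨t ∪ u, by simpa using ⟨ht, hu⟩, mul_mem (Algebra.adjoin_mono ?_ hat) (Algebra.adjoin_mono ?_ hbu)⟩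
              · exact Set.union_subset_union_left _ (by simp)
              · exact Set.union_subset_union_left _ (by simp)
          choose! t ht htx using h1
          refine ⟨s.biUnion t, by simpa using ht, fun x hx => Algebra.adjoin_mono ?_ (htx x hx)⟩
          exact Set.union_subset_union_left _ (Finset.coe_subset.2 (Finset.subset_biUnion_of_mem t hx))
        obtain ⟨S, hS, hST, hsS⟩ := hT.1 (insert (y : Ω) s₀) (by simpa [Set.insert_subset_iff] using hs₀T)
        rw [Finset.coe_insert, Set.insert_subset_iff] at hsS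
        obtain ⟨S', hS', hSS', hzS', hle'⟩ := exists_ext hinj p π hπ hS ⟨y, hsS.1⟩ (fun b hb => hcon ⟨b, hST b.2⟩ (by
          rw [hmaxT]
          exact hmemS (⟨(b : Ω), hST b.2⟩ ^ p - y) S hST (sub_mem (pow_mem b.2 p) hsS.1) hb)) z hz
        refine ⟨S', hS', hle'.trans (sup_le_sup_right hST _), fun x hx => ?_⟩
        exact Algebra.adjoin_le (Set.union_subset (hsS.2.trans hSS') (Set.singleton_subset_iff.2 hzS')) (hs₀ x hx)
      refine hcon ⟨z, hzT⟩ ?_
      rw [show (⟨z, hzT⟩ : T) ^ p - y = 0 from sub_eq_zero.2 (Subtype.ext hz)]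
      exact zero_mem _
    · exact ⟨y, by simp [p] at hp ⊢; simp [hp]⟩
  · obtain ⟨S, hS, hST, hyS⟩ := hT.1 {(y : Ω)} (by simp)
    obtain ⟨m, z, hz⟩ := hS.2.2.2 ⟨y, hyS (by simp)⟩
    refine ⟨m, z, ?_⟩
    rw [hmaxT, ← neg_sub, Ideal.neg_mem_iff]
    exact hmemS (y ^ p ^ m - algebraMap R T z) S hST (sub_mem (pow_mem (hyS (by simp)) _) (S.algebraMap_mem z)) hz

end Groth.Agent.S16360
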