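import Groth.Statements.S16362
import Mathlib

set_option autoImplicit false
universe u
open MovLem

namespace Groth.Agent.S16362

theorem integral_div_iff {A B K : Type*} [CommRing A] [CommRing B] [Nontrivial B] [Field K] [Algebra B K]
    (π : A →+* B) (hπ : Function.Surjective π) (p : Ideal A)
    (hker : ∀ a, algebraMap B K (π a) = 0 ↔ a ∈ p) (ζ u : A) (hu : u ∉ p) :
    IsIntegral B (algebraMap B K (π ζ) / algebraMap B K (π u)) ↔
      ∃ (N : ℕ) (a : ℕ → A), ζ ^ N + ∑ i ∈ Finset.Icc 1 N, a i * ζ ^ (N - i) * u ^ i ∈ p := by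
  classical
  let ψ : A →+* K := (algebraMap B K).comp π
  have hu0 : ψ u ≠ 0 := fun h => hu ((hker u).1 h)
  change IsIntegral B (ψ ζ / ψ u) ↔ _
  constructor
  · rintro ⟨P, hP, hev⟩
    set N := P.natDegree with hN
    choose a ha using fun i : ℕ => hπ (P.coeff (N - i))
    refine ⟨N, a, (hker _).1 ?_⟩
    change ψ _ = 0
    simp only [map_add, map_sum, map_mul, map_pow]
    have h1 : ∀ i, ψ (a i) = algebraMap B K (P.coeff (N - i)) := fun i => by
      simp [ψ, ha]
    simp only [h1]
    rw [Polynomial.eval₂_eq_sum_range, ← Finset.sum_range_reflect, Finset.sum_range_succ'] at hev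
    simp only [Nat.add_sub_cancel, Nat.sub_zero] at hev
    rw [← hN, show P.coeff N = 1 from hP.coeff_natDegree, map_one, one_mul] at hev
    have h2 : (∑ i ∈ Finset.range N, algebraMap B K (P.coeff (N - (i + 1))) * ψ ζ ^ (N - (i + 1)) * ψ u ^ (i + 1)) + ψ ζ ^ N = 0 := by
      have h3 := congrArg (fun z => z * ψ u ^ N) hev
      simp only [zero_mul, add_mul, Finset.sum_mul] at h3
      rw [← h3]
      congr 1
      · refine Finset.sum_congr rfl fun i hi => ?_
        rw [Finset.mem_range] at hi
        have e : ψ u ^ N = ψ u ^ (N - (i + 1)) * ψ u ^ (i + 1) := by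
          rw [← pow_add]; congr 1; omega
        rw [div_pow, e]
        field_simp
      · rw [div_pow]; field_simp
    rw [← Finset.Ico_add_one_right_eq_Icc, Finset.sum_Ico_eq_sum_range, Nat.add_sub_cancel, add_comm]
    simpa [add_comm 1] using h2
  · rintro ⟨N, a, ha⟩
    refine ⟨Polynomial.X ^ N + ∑ i ∈ Finset.Icc 1 N, Polynomial.C (π (a i)) * Polynomial.X ^ (N - i), ?_, ?_⟩
    · refine Polynomial.monic_X_pow_add ((Polynomial.degree_sum_le _ _).trans_lt ?_)
      refine (Finset.sup_lt_iff (WithBot.bot_lt_coe N)).2 fun i hi => ?_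
      rw [Finset.mem_Icc] at hi
      refine (Polynomial.degree_C_mul_X_pow_le _ _).trans_lt ?_
      exact Nat.cast_lt.2 (by omega : N - i < N)
    · have h3 : ψ (ζ ^ N + ∑ i ∈ Finset.Icc 1 N, a i * ζ ^ (N - i) * u ^ i) = 0 := (hker _).2 ha
      simp only [Polynomial.eval₂_add, Polynomial.eval₂_finsetSum, Polynomial.eval₂_mul,
        Polynomial.eval₂_pow, Polynomial.eval₂_X, Polynomial.eval₂_C]
      apply mul_right_cancel₀ (pow_ne_zero N hu0)
      rw [zero_mul, ← h3]
      simp only [map_add, map_sum, map_mul, map_pow, add_mul, Finset.sum_mul]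
      congr 1
      · rw [div_pow]; field_simp
      · refine Finset.sum_congr rfl fun i hi => ?_
        rw [Finset.mem_Icc] at hi
        have e : ψ u ^ N = ψ u ^ (N - i) * ψ u ^ i := by
          rw [← pow_add]; congr 1; omega
        rw [div_pow, e]
        field_simp
        simp [ψ, mul_comm]

/-- Let A be a commutative ring, p a prime ideal of A, and ζ, u elements of A with u not in p. Then the
quotient of the classes of ζ and u in the fraction field of the domain A ⧸ p is integral over A ⧸ p
if and only if there exist a natural number N and elements a_1, …, a_N of A such that ζ^N + a_1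
ζ^(N-1) u + ⋯ + a_N u^N lies in p; equivalently, some binary form of degree N with coefficients in
A, monic in the first variable, evaluated at (ζ, u), lies in p. -/
theorem result
    {A : Type u} [CommRing A] (p : Ideal A) [p.IsPrime] (ζ u : A) (hu : u ∉ p) :
    IsIntegral (A ⧸ p)
        (algebraMap (A ⧸ p) (FractionRing (A ⧸ p)) (Ideal.Quotient.mk p ζ) /
          algebraMap (A ⧸ p) (FractionRing (A ⧸ p)) (Ideal.Quotient.mk p u)) ↔
      ∃ (N : ℕ) (a : ℕ → A),
        ζ ^ N + ∑ i ∈ Finset.Icc 1 N, a i * ζ ^ (N - i) * u ^ i ∈ p := by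
  exact integral_div_iff (Ideal.Quotient.mk p) Ideal.Quotient.mk_surjective p
    (fun a => by simp [Ideal.Quotient.eq_zero_iff_mem]) ζ u hu

end Groth.Agent.S16362
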