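import Groth.Statements.S16363
import Groth.Agent.DimLiftLib.Basic
import Groth.Agent.DimFormulaLib.Misc
-- import your own Groth.Agent.* helpers here

set_option autoImplicit false
set_option backward.isDefEq.respectTransparency false
universe u
open CategoryTheory Limits
open MovLem

namespace Groth.Agent.S16363

open AlgebraicGeometry in
theorem isClosed_singleton_of_algebraic_point {k L : Type u} [Field k] [Field L] [Algebra k L] [Algebra.IsIntegral k L]
    {X : Scheme.{u}} (f : X ⟶ Spec (CommRingCat.of k)) (x : Spec (CommRingCat.of L) ⟶ X)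
    (hx : x ≫ f = Spec.map (CommRingCat.ofHom (algebraMap k L))) (t : ↥(Spec (CommRingCat.of L))) :
    IsClosed ({x t} : Set X) := by
  refine isClosed_of_closure_subset fun w hw => ?_
  obtain ⟨V, hV, hwV, -⟩ := exists_isAffineOpen_mem_and_subset (x := w) (U := (⊤ : X.Opens)) trivial
  have hsp : x t ⤳ w := specializes_iff_mem_closure.2 hw
  have htV : x t ∈ V := hsp.mem_open V.isOpen hwV
  have hr : Set.range x ⊆ Set.range V.ι := by
    rintro _ ⟨s, rfl⟩
    rw [Subsingleton.elim s t, Scheme.Opens.range_ι]
    exact htV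
  haveI : IsAffine V.toScheme := hV
  let x' := IsOpenImmersion.lift V.ι x hr
  haveI : IsIntegralHom (x' ≫ V.ι ≫ f) := by
    rw [IsOpenImmersion.lift_fac_assoc, hx, IsIntegralHom.SpecMap_iff]
    exact fun y => Algebra.IsIntegral.isIntegral y
  haveI : IsIntegralHom x' := MorphismProperty.of_postcomp (W' := @IsSeparated) @IsIntegralHom x' (V.ι ≫ f) inferInstance ‹_›
  have hc : IsClosed ({x' t} : Set V.toScheme) := by
    have := x'.isClosedMap.isClosed_range
    rwa [Set.range_eq_singleton] at this
    exact fun s => congrArg x' (Subsingleton.elim s t)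
  have hw' : (⟨w, hwV⟩ : V) ∈ ({x' t} : Set V.toScheme) := by
    refine Specializes.mem_closed ?_ hc rfl
    refine V.ι.isOpenEmbedding.isInducing.specializes_iff.1 ?_
    have e : V.ι (x' t) = x t := by rw [← Scheme.Hom.comp_apply, IsOpenImmersion.lift_fac]
    rw [e]
    exact hsp
  rw [Set.mem_singleton_iff] at hw' ⊢
  have e : V.ι (x' t) = x t := by rw [← Scheme.Hom.comp_apply, IsOpenImmersion.lift_fac]
  rw [← e, ← hw']
  rfl

open AlgebraicGeometry in
/-- Let k be a field, X a k-scheme of finite type, K an extension field of k and U' ⊆ X_K = X ×_k Spec K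
a dense open subset. There exists a dense open U ⊆ X with the following property: for every
algebraic closure k̄ of k, every field Ω that is simultaneously a k̄-algebra and a K-algebra
compatibly with k, and every k-morphism x : Spec k̄ → X whose image point lies in U, every
K-morphism y : Spec Ω → X_K whose composite with the projection X_K → X is the composite Spec Ω →
Spec k̄ → X has image point in U'. (In words: the k̄-points of U, viewed as Ω-points of X_K, lie in
U'.) -/
theorem result
    {k K : Type u} [Field k] [Field K] [Algebra k K]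
    (X : Scheme.{u}) (f : X ⟶ Spec (CommRingCat.of k)) [LocallyOfFiniteType f] [QuasiCompact f]
    (U' : (pullback f (Spec.map (CommRingCat.ofHom (algebraMap k K)))).Opens)
    (hU' : Dense (U' : Set ↥(pullback f (Spec.map (CommRingCat.ofHom (algebraMap k K)))))) :
    ∃ U : X.Opens, Dense (U : Set ↥X) ∧
      ∀ (kb Ω : Type u) [Field kb] [Algebra k kb] [IsAlgClosure k kb]
        [Field Ω] [Algebra k Ω] [Algebra kb Ω] [Algebra K Ω] [IsScalarTower k kb Ω] [IsScalarTower k K Ω]
        (x : Spec (CommRingCat.of kb) ⟶ X),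
        x ≫ f = Spec.map (CommRingCat.ofHom (algebraMap k kb)) →
        (∀ t : ↥(Spec (CommRingCat.of kb)), x.base t ∈ U) →
        ∀ (y : Spec (CommRingCat.of Ω) ⟶ pullback f (Spec.map (CommRingCat.ofHom (algebraMap k K)))),
          y ≫ pullback.fst f (Spec.map (CommRingCat.ofHom (algebraMap k K))) =
              Spec.map (CommRingCat.ofHom (algebraMap kb Ω)) ≫ x →
          y ≫ pullback.snd f (Spec.map (CommRingCat.ofHom (algebraMap k K))) =
              Spec.map (CommRingCat.ofHom (algebraMap K Ω)) →
          ∀ t : ↥(Spec (CommRingCat.of Ω)), y.base t ∈ U' := by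
  let ιk : Spec (CommRingCat.of (AlgebraicClosure k)) ⟶ Spec (CommRingCat.of k) :=
    Spec.map (CommRingCat.ofHom (algebraMap k (AlgebraicClosure k)))
  let ιK : Spec (CommRingCat.of K) ⟶ Spec (CommRingCat.of k) := Spec.map (CommRingCat.ofHom (algebraMap k K))
  let κ : Spec (CommRingCat.of (AlgebraicClosure K)) ⟶ Spec (CommRingCat.of K) :=
    Spec.map (CommRingCat.ofHom (algebraMap K (AlgebraicClosure K)))
  let j : AlgebraicClosure k →ₐ[k] AlgebraicClosure K := IsAlgClosed.lift
  let σ : Spec (CommRingCat.of (AlgebraicClosure K)) ⟶ Spec (CommRingCat.of (AlgebraicClosure k)) :=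
    Spec.map (CommRingCat.ofHom j.toRingHom)
  have hσ : σ ≫ ιk = κ ≫ ιK := by
    rw [← Spec.map_comp, ← Spec.map_comp]
    congr 1
    ext a
    exact (j.commutes a).trans (IsScalarTower.algebraMap_apply k K _ a)
  haveI : IsIntegralHom ιk :=
    IsIntegralHom.SpecMap_iff.2 fun y => Algebra.IsIntegral.isIntegral y
  haveI : Subsingleton ↥(Spec (CommRingCat.of k)) := inferInstanceAs (Subsingleton (PrimeSpectrum k))
  haveI : Subsingleton ↥(Spec (CommRingCat.of K)) := inferInstanceAs (Subsingleton (PrimeSpectrum K))
  haveI : Surjective κ := ⟨fun t => ⟨default, Subsingleton.elim _ _⟩⟩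
  haveI : Surjective σ := ⟨fun t => ⟨default, @Subsingleton.elim (PrimeSpectrum (AlgebraicClosure k)) _ _ _⟩⟩
  let W := pullback (pullback.snd f ιK) κ
  let r : W ⟶ pullback f ιK := pullback.fst _ _
  let p : W ⟶ pullback f ιk := pullback.lift (r ≫ pullback.fst f ιK) (pullback.snd _ _ ≫ σ) (by
    rw [Category.assoc, Category.assoc, hσ, pullback.condition (f := f) (g := ιK), ← Category.assoc,
      ← Category.assoc]
    exact congrArg (· ≫ ιK) pullback.condition)
  have hp : IsPullback p (pullback.snd (pullback.snd f ιK) κ) (pullback.snd f ιk) σ := by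
    refine IsPullback.of_right (h₁₂ := pullback.fst f ιk) (h₂₂ := ιk) ?_ (pullback.lift_snd _ _ _)
      (IsPullback.of_hasPullback f ιk)
    rw [pullback.lift_fst, hσ]
    exact (IsPullback.of_hasPullback (pullback.snd f ιK) κ).paste_horiz (IsPullback.of_hasPullback f ιK)
  haveI : UniversallyOpen κ := inferInstance
  haveI : UniversallyOpen σ := inferInstance
  haveI : UniversallyOpen p := MorphismProperty.of_isPullback hp.flip inferInstance
  haveI : Surjective p := MorphismProperty.of_isPullback hp.flip inferInstance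
  let V : Set ↥(pullback f ιk) := p '' (r ⁻¹' (U' : Set ↥(pullback f ιK)))
  have hV : IsOpen V := p.isOpenMap _ (U'.isOpen.preimage r.continuous)
  have hVd : Dense V := Surjective.surj.denseRange.dense_image p.continuous (hU'.preimage r.isOpenMap)
  let π : pullback f ιk ⟶ X := pullback.fst f ιk
  haveI : IsLocallyNoetherian (pullback f ιk) := LocallyOfFiniteType.isLocallyNoetherian (pullback.snd f ιk)
  haveI : IsLocallyNoetherian X := LocallyOfFiniteType.isLocallyNoetherian f
  refine ⟨⟨(π '' Vᶜ)ᶜ, (π.isClosedMap _ hV.isClosed_compl).isOpen_compl⟩, ?_, ?_⟩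
  · show Dense ((π '' Vᶜ)ᶜ)
    refine fun x => ?_
    obtain ⟨η, hη, hmax⟩ := Groth.Agent.DimFormulaLib.exists_maximal_point x
    refine hη.mem_closed isClosed_closure (subset_closure ?_)
    rintro ⟨v, hv, hve⟩
    refine hv (Groth.Agent.DimFormulaLib.mem_of_dense hV hVd fun w hw => ?_)
    refine Groth.Agent.DimLiftLib.eq_of_specializes π hw ?_
    rw [hve]
    exact hmax _ (hve ▸ hw.map π.continuous)
  · intro kb Ω _ _ _ _ _ _ _ _ _ x hx hxU y hy₁ hy₂ t
    haveI : Algebra.IsAlgebraic k kb := IsAlgClosure.isAlgebraic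
    obtain ⟨z, hz⟩ := Surjective.surj (f := r) (y.base t)
    have hxc : IsClosed ({x default} : Set X) := isClosed_singleton_of_algebraic_point f x hx default
    have hπ : π (p z) = x default := by
      rw [← Scheme.Hom.comp_apply, show p ≫ π = r ≫ pullback.fst f ιK from pullback.lift_fst _ _ _,
        Scheme.Hom.comp_apply, hz, ← Scheme.Hom.comp_apply, hy₁, Scheme.Hom.comp_apply]
      exact congrArg x (@Subsingleton.elim (PrimeSpectrum kb) _ _ _)
    have hc : IsClosed ({p z} : Set ↥(pullback f ιk)) := isClosed_of_closure_subset fun w hw => by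
      have hsp : p z ⤳ w := specializes_iff_mem_closure.2 hw
      have h2 : π w = x default := (hsp.map π.continuous).mem_closed hxc hπ
      exact (Groth.Agent.DimLiftLib.eq_of_specializes π hsp (hπ.trans h2.symm)).symm
    obtain ⟨z', hz', hze⟩ : p z ∈ V := by
      by_contra hV'
      exact hxU default ⟨p z, hV', hπ⟩
    let s := pointOfClosedPoint (pullback.snd f ιk) (p z) hc
    have hs : s ≫ pullback.snd f ιk = 𝟙 _ := pointOfClosedPoint_comp _ _ _
    have sq : IsPullback (pullback.fst p s ≫ pullback.snd (pullback.snd f ιK) κ) (pullback.snd p s) σ (𝟙 _) := by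
      have := (IsPullback.of_hasPullback p s).paste_horiz hp.flip
      rw [hs] at this
      exact this
    haveI : IsIso (pullback.fst p s ≫ pullback.snd (pullback.snd f ιK) κ) := sq.isIso_fst_of_isIso
    haveI : Subsingleton ↥(pullback p s) := (pullback.fst p s ≫ pullback.snd (pullback.snd f ιK) κ).homeomorph.injective.subsingleton
    obtain ⟨a, ha, -⟩ := Scheme.Pullback.exists_preimage_pullback (f := p) (g := s) z default
      (pointOfClosedPoint_apply _ _ _ _).symm
    obtain ⟨a', ha', -⟩ := Scheme.Pullback.exists_preimage_pullback (f := p) (g := s) z' default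
      (hze.trans (pointOfClosedPoint_apply _ _ _ _).symm)
    rw [Subsingleton.elim a' a, ha] at ha'
    rw [← hz, ha']
    exact hz'

end Groth.Agent.S16363
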