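import Groth.Statements.S16367
import Mathlib

set_option autoImplicit false
universe u
open MovLem

namespace Groth.Agent.S16367

theorem term_eq {R : Type u} [CommRing R] {ι : Type} [Fintype ι] (a c e : R) (b : ι → R) (m : ι → ℕ) (N : ℕ)
    (h : ∑ i, m i ≤ N) :
    c * a ^ (N - ∑ i, m i) * (∏ i, (a * b i) ^ m i) * e = a ^ N * (c * (∏ i, b i ^ m i) * e) := by
  rw [← pow_sub_mul_pow a h]
  simp only [mul_pow, Finset.prod_mul_distrib, Finset.prod_pow_eq_pow_sum]
  ring

open MvPolynomial in
theorem as_prod {k : Type u} [CommRing k] {d n : ℕ} (f : MvPolynomial (Fin d ⊕ Fin n) k) :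
    f = ∑ m ∈ f.support, C (coeff m f) * (∏ i : Fin d, X (Sum.inl i) ^ m (Sum.inl i)) *
      ∏ j : Fin n, X (Sum.inr j) ^ m (Sum.inr j) := by
  conv_lhs => rw [f.as_sum]
  refine Finset.sum_congr rfl fun m _ => ?_
  rw [monomial_eq, Finsupp.prod_fintype _ _ (fun _ => pow_zero _), Fintype.prod_sum_type, mul_assoc]

/-- The chart computation of its proof: let k be a commutative ring, P = k[x_1, …, x_d, w_1, …, w_n] a
polynomial ring in two groups of variables, u a polynomial in the x-variables alone, v a vector in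
k^d, J a set of indices among the w-variables with ζ = ∏_{j ∈ J} w_j, and N ≤ s natural numbers. Let
(f_λ) be a finite family of elements of P, each of total degree at most N in the x-variables, and
assume that ζ^N + c_1 ζ^(N-1) u + ⋯ + c_N u^N lies in the ideal generated by the f_λ for some c_1,
…, c_N ∈ P. For each λ let φ_λ ∈ P[τ] be the polynomial τ^N · f_λ(x + u^s v/τ, w), written out
monomial by monomial: a monomial a·x^m·w^m' of x-degree e = |m| contributes a · τ^(N-e) · ∏_i (τ x_i
+ u^s v_i)^(m_i) · w^m'. Then there are c'_1, …, c'_N ∈ P[τ] with (τζ)^N + c'_1 (τζ)^(N-1) u + ⋯ +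
c'_N u^N in the ideal of P[τ] generated by the φ_λ. (This identity is what shows that translating a
cycle by t·u^s·v preserves the modulus condition on the chart whose coordinates are the z_i and the
1/z_j, with τ = 1/t; integrality of ζ/u, resp. τζ/u, is expressed by such monic binary forms.) -/
theorem result
    {k : Type u} [CommRing k] (d n : ℕ) (u : MvPolynomial (Fin d) k) (v : Fin d → k)
    (J : Finset (Fin n)) (N s : ℕ) (hs : N ≤ s)
    {Λ : Type u} [Fintype Λ] (f : Λ → MvPolynomial (Fin d ⊕ Fin n) k)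
    (hdeg : ∀ l, ∀ m ∈ (f l).support, ∑ i : Fin d, m (Sum.inl i) ≤ N)
    (c : ℕ → MvPolynomial (Fin d ⊕ Fin n) k)
    (hE : (∏ j ∈ J, MvPolynomial.X (Sum.inr j)) ^ N +
        ∑ i ∈ Finset.Icc 1 N, c i * (∏ j ∈ J, MvPolynomial.X (Sum.inr j)) ^ (N - i) *
          MvPolynomial.rename Sum.inl u ^ i ∈ Ideal.span (Set.range f)) :
    ∃ c' : ℕ → Polynomial (MvPolynomial (Fin d ⊕ Fin n) k),
      (Polynomial.X * Polynomial.C (∏ j ∈ J, MvPolynomial.X (Sum.inr j))) ^ N +
        ∑ i ∈ Finset.Icc 1 N, c' i *
          (Polynomial.X * Polynomial.C (∏ j ∈ J, MvPolynomial.X (Sum.inr j))) ^ (N - i) *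
            Polynomial.C (MvPolynomial.rename Sum.inl u) ^ i ∈
      Ideal.span (Set.range fun l : Λ =>
        ∑ m ∈ (f l).support,
          Polynomial.C (MvPolynomial.C (MvPolynomial.coeff m (f l))) *
            Polynomial.X ^ (N - ∑ i : Fin d, m (Sum.inl i)) *
            (∏ i : Fin d, (Polynomial.X * Polynomial.C (MvPolynomial.X (Sum.inl i)) +
                Polynomial.C (MvPolynomial.rename Sum.inl u ^ s * MvPolynomial.C (v i))) ^ m (Sum.inl i)) *
            ∏ j : Fin n, Polynomial.C (MvPolynomial.X (Sum.inr j)) ^ m (Sum.inr j)) := by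
  classical
  set ζ : (MvPolynomial (Fin d ⊕ Fin n) k) := ∏ j ∈ J, MvPolynomial.X (Sum.inr j) with hζ
  set U : (MvPolynomial (Fin d ⊕ Fin n) k) := MvPolynomial.rename Sum.inl u with hU
  set φ : Λ → Polynomial (MvPolynomial (Fin d ⊕ Fin n) k) := fun l =>
        ∑ m ∈ (f l).support,
          Polynomial.C (MvPolynomial.C (MvPolynomial.coeff m (f l))) *
            Polynomial.X ^ (N - ∑ i : Fin d, m (Sum.inl i)) *
            (∏ i : Fin d, (Polynomial.X * Polynomial.C (MvPolynomial.X (Sum.inl i)) +
                Polynomial.C (U ^ s * MvPolynomial.C (v i))) ^ m (Sum.inl i)) *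
            ∏ j : Fin n, Polynomial.C (MvPolynomial.X (Sum.inr j)) ^ m (Sum.inr j) with hφ
  obtain ⟨a, ha⟩ := (Submodule.mem_span_range_iff_exists_fun _).1 hE
  simp only [smul_eq_mul] at ha
  rcases Nat.eq_zero_or_pos N with hN | hN
  · subst hN
    refine ⟨fun _ => 0, ?_⟩
    have hφ0 : ∀ l, φ l = Polynomial.C (f l) := by
      intro l
      conv_rhs => rw [as_prod (f l)]
      rw [map_sum, hφ]
      refine Finset.sum_congr rfl fun m hm => ?_
      have h0 : ∀ i : Fin d, m (Sum.inl i) = 0 := fun i => by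
        have := Nat.le_zero.1 (hdeg l m hm)
        exact Finset.sum_eq_zero_iff.1 this i (Finset.mem_univ i)
      simp [h0, map_prod]
    simp only [Finset.Icc_eq_empty_of_lt zero_lt_one, Finset.sum_empty, add_zero, pow_zero] at ha ⊢
    refine (Submodule.mem_span_range_iff_exists_fun _).2 ⟨fun l => Polynomial.C (a l), ?_⟩
    show ∑ l, Polynomial.C (a l) * φ l = 1
    simp only [hφ0, ← map_mul, ← map_sum, ha, map_one]
  · have hdiv : ∀ l, Polynomial.C U ^ N ∣ φ l - Polynomial.X ^ N * Polynomial.C (f l) := by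
      intro l
      rw [← Ideal.mem_span_singleton, ← Ideal.Quotient.mk_eq_mk_iff_sub_mem]
      set q := Ideal.Quotient.mk (Ideal.span {Polynomial.C U ^ N}) with hq
      have hz : q (Polynomial.C U) ^ s = 0 := by
        refine (map_pow q _ _).symm.trans ((Ideal.Quotient.eq_zero_iff_dvd _ _).2 ?_)
        exact pow_dvd_pow _ hs
      conv_rhs => rw [as_prod (f l)]
      simp only [hφ, map_sum, Finset.mul_sum]
      refine Finset.sum_congr rfl fun m hm => ?_
      simp only [map_mul, map_pow, map_prod, map_add, hz, zero_mul, add_zero]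
      have := hdeg l m hm
      exact term_eq (q Polynomial.X) _ _ (fun i => q (Polynomial.C (MvPolynomial.X (Sum.inl i)))) (fun i => m (Sum.inl i)) N this
    choose R hR using hdiv
    refine ⟨fun i => if i = N then Polynomial.C (c N) * Polynomial.X ^ N + ∑ l, Polynomial.C (a l) * R l
      else Polynomial.C (c i) * Polynomial.X ^ i, ?_⟩
    refine (Submodule.mem_span_range_iff_exists_fun _).2 ⟨fun l => Polynomial.C (a l), ?_⟩
    show ∑ l, Polynomial.C (a l) * φ l = _
    have hs' : ∀ i ∈ Finset.Icc 1 N,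
        (if i = N then Polynomial.C (c N) * Polynomial.X ^ N + ∑ l, Polynomial.C (a l) * R l
          else Polynomial.C (c i) * Polynomial.X ^ i) * (Polynomial.X * Polynomial.C ζ) ^ (N - i) *
            Polynomial.C U ^ i =
        Polynomial.X ^ N * Polynomial.C (c i * ζ ^ (N - i) * U ^ i) +
          (if i = N then Polynomial.C U ^ N * ∑ l, Polynomial.C (a l) * R l else 0) := by
      intro i hi
      have hi' := (Finset.mem_Icc.1 hi).2
      conv_rhs => rw [show (Polynomial.X : Polynomial (MvPolynomial (Fin d ⊕ Fin n) k)) ^ N = Polynomial.X ^ i * Polynomial.X ^ (N - i) from by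
        rw [← pow_add]; congr 1; omega]
      split_ifs with h
      · subst h
        simp only [Nat.sub_self, pow_zero, map_mul, map_pow, map_one]
        ring
      · simp only [map_mul, map_pow, mul_pow]
        ring
    rw [Finset.sum_congr rfl hs', Finset.sum_add_distrib, Finset.sum_ite_eq' (Finset.Icc 1 N) N,
      if_pos (Finset.mem_Icc.2 ⟨hN, le_rfl⟩), mul_pow, ← map_pow, ← Finset.mul_sum, ← map_sum,
      ← add_assoc, ← mul_add, ← map_add, ← ha, map_sum, Finset.mul_sum, Finset.mul_sum,
      ← Finset.sum_add_distrib]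
    refine Finset.sum_congr rfl fun l _ => ?_
    rw [eq_add_of_sub_eq (hR l), map_mul]
    ring

end Groth.Agent.S16367
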