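import Groth.Statements.S16368
import Groth.Agent.FittLib.BaseChange
import Groth.Prelude.Def_FrobAlg
import Mathlib

set_option autoImplicit false
universe u v
open TensorProduct
open FrobAlg

namespace Groth.Agent.S16368

open TensorProduct Groth.Agent.FittLib
set_option backward.isDefEq.respectTransparency false
set_option maxHeartbeats 800000

/-- The ideal of coefficients of the relations of a tuple. -/
def coeffIdeal {R : Type*} [CommRing R] {M : Type*} [AddCommGroup M] [Module R M] {n : ℕ} (x : Fin n → M) :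
    Ideal R := Ideal.span {c | ∃ v ∈ Rel (R := R) x, ∃ j, v j = c}

lemma D_pred_eq {R : Type*} [CommRing R] {M : Type*} [AddCommGroup M] [Module R M] {n : ℕ} (x : Fin (n + 1) → M) :
    D R x n = coeffIdeal (R := R) x := by
  classical
  refine le_antisymm (Ideal.span_le.2 ?_) (Ideal.span_le.2 ?_)
  · rintro _ ⟨a, T, hT, ha, rfl⟩
    obtain ⟨i, hi⟩ : T.Nonempty := Finset.card_pos.1 (by omega)
    rw [SetLike.mem_coe, Matrix.det_apply']
    refine Submodule.sum_mem _ fun σ _ ↦ Ideal.mul_mem_left _ _ ?_
    rw [← Finset.mul_prod_erase _ _ (Finset.mem_univ (σ⁻¹ i))]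
    refine Ideal.mul_mem_right _ _ (Ideal.subset_span ⟨a i, ha i hi, σ⁻¹ i, ?_⟩)
    simp
  · rintro _ ⟨v, hv, j, rfl⟩
    have h := det_mem_D (R := R) (k := n) (x := x) (a := (1 : Matrix _ _ R).updateRow j v) {j} (by simp)
      (fun i hi => by rw [Finset.mem_singleton.1 hi, Matrix.updateRow_self]; exact hv)
    have e : v = ∑ l, v l • (1 : Matrix (Fin (n + 1)) (Fin (n + 1)) R) l := by
      funext l; simp [Matrix.one_apply, Finset.sum_apply]
    rwa [SetLike.mem_coe, show v j = ((1 : Matrix (Fin (n + 1)) (Fin (n + 1)) R).updateRow j v).det by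
      conv_rhs => rw [e, Matrix.det_updateRow_sum]
      simp]

lemma rel_le_maximal {R : Type*} [CommRing R] [IsLocalRing R] {M : Type*} [AddCommGroup M] [Module R M]
    {n : ℕ} (x : Fin (n + 1) → M) (hx : Submodule.span R (Set.range x) = ⊤)
    (hmin : ∀ y : Fin n → M, Submodule.span R (Set.range y) ≠ ⊤) :
    coeffIdeal (R := R) x ≤ IsLocalRing.maximalIdeal R := by
  classical
  rw [← D_pred_eq, ← ideal_eq_D x hx]
  refine IsLocalRing.le_maximalIdeal fun h => ?_
  haveI : Module.Finite R M := ⟨⟨Finset.univ.image x, by simpa using hx⟩⟩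
  obtain ⟨g, hg⟩ := exists_span_of_ideal_eq_top h
  exact hmin g hg

lemma free_of_twist {R : Type u} [CommRing R] [IsLocalRing R] {M : Type v} [AddCommGroup M] [Module R M]
    [Module.FinitePresentation R M] (p : ℕ) [Fact p.Prime] [CharP R p]
    (e : (FrobAlg.Twist p R ⊗[R] M) →ₛₗ[((FrobAlg.toTwist p R).symm : FrobAlg.Twist p R →+* R)] M)
    (he : Function.Bijective e) : Module.Free R M := by
  classical
  have hex : ∃ n, ∃ x : Fin n → M, Submodule.span R (Set.range x) = ⊤ :=
    Module.Finite.exists_fin (R := R) (M := M)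
  obtain ⟨x, hx⟩ := Nat.find_spec hex
  have hmin0 := fun m => Nat.find_min hex (m := m)
  generalize Nat.find hex = n at x hx hmin0
  rcases n with _ | n
  · haveI : Subsingleton M := by
      rw [Set.range_eq_empty, Submodule.span_empty] at hx
      exact (Submodule.subsingleton_iff R).1 (subsingleton_of_bot_eq_top hx)
    exact Module.Free.of_subsingleton R M
  set I := coeffIdeal (R := R) x
  have hIm : I ≤ IsLocalRing.maximalIdeal R :=
    rel_le_maximal x hx fun y hy => hmin0 n n.lt_succ_self ⟨y, hy⟩
  let τ := ((FrobAlg.toTwist p R).symm : FrobAlg.Twist p R →+* R)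
  let x' : Fin (n + 1) → FrobAlg.Twist p R ⊗[R] M := fun i => (1 : FrobAlg.Twist p R) ⊗ₜ[R] x i
  let y : Fin (n + 1) → M := fun i => e (x' i)
  have hy : Submodule.span R (Set.range y) = ⊤ := by
    refine eq_top_iff.2 fun z _ => ?_
    obtain ⟨w, rfl⟩ := he.2 z
    obtain ⟨c, rfl⟩ := (Submodule.mem_span_range_iff_exists_fun _).1
      ((span_one_tmul x hx (FrobAlg.Twist p R)).ge (Submodule.mem_top (x := w)))
    rw [map_sum]
    refine Submodule.sum_mem _ fun i _ => ?_
    rw [map_smulₛₗ]
    exact Submodule.smul_mem _ _ (Submodule.subset_span ⟨i, rfl⟩)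
  have hIy : I = coeffIdeal (R := R) y := by
    rw [← D_pred_eq, ← ideal_eq_D y hy, ideal_eq_D x hx, D_pred_eq]
  have hfg : (Rel (R := R) x).FG :=
    Module.FinitePresentation.fg_ker _ (by
      rw [← LinearMap.range_eq_top, Fintype.range_linearCombination, hx])
  obtain ⟨G, hG⟩ := hfg
  have hrel : ∀ v ∈ Rel (R := R) x, ∀ j, v j ∈ I := fun v hv j => Ideal.subset_span ⟨v, hv, j, rfl⟩
  have hsq : ∀ v ∈ Rel (R := R) y, ∀ j, v j ∈ IsLocalRing.maximalIdeal R * I := by
    intro v hv j
    have hv' : (fun i => FrobAlg.toTwist p R (v i)) ∈ Rel (R := FrobAlg.Twist p R) x' := by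
      refine mem_rel.2 (he.1 ?_)
      rw [map_sum, map_zero]
      refine (Finset.sum_congr rfl fun i _ => ?_).trans (mem_rel.1 hv)
      rw [map_smulₛₗ]
      simp [y]
    have hle : Rel (R := FrobAlg.Twist p R) x' ≤
        Submodule.pi Set.univ fun _ => (IsLocalRing.maximalIdeal R * I).comap τ := by
      rw [← rel_baseChange x hx, Submodule.span_le]
      rintro _ ⟨w, hw, rfl⟩ i -
      show τ (algebraMap R _ (w i)) ∈ IsLocalRing.maximalIdeal R * I
      have hp : 2 ≤ p := (Fact.out : p.Prime).two_le
      obtain ⟨q, hq⟩ := Nat.exists_eq_add_of_le hp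
      rw [FrobAlg.algebraMap_twist]
      show τ (FrobAlg.toTwist p R (w i ^ p)) ∈ _
      rw [show τ (FrobAlg.toTwist p R (w i ^ p)) = w i ^ p from rfl, hq, pow_add, pow_two]
      exact Ideal.mul_mem_right _ _ (Ideal.mul_mem_mul (hIm (hrel w hw i)) (hrel w hw i))
    exact hle hv' j trivial
  have hI : I = ⊥ := by
    have hIfg : I.FG := by
      refine ⟨(G ×ˢ (Finset.univ : Finset (Fin (n + 1)))).image fun q => q.1 q.2, le_antisymm ?_ ?_⟩
      · refine Ideal.span_le.2 fun c hc => ?_
        obtain ⟨⟨w, i⟩, hwi, rfl⟩ := Finset.mem_image.1 hc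
        exact hrel w (hG ▸ Submodule.subset_span (Finset.mem_product.1 hwi).1) i
      · refine Ideal.span_le.2 ?_
        rintro _ ⟨w, hw, i, rfl⟩
        set K : Ideal R := Ideal.span ↑((G ×ˢ (Finset.univ : Finset (Fin (n + 1)))).image fun q => q.1 q.2)
        have hle : Rel (R := R) x ≤ Submodule.pi Set.univ fun _ => K := by
          rw [← hG, Submodule.span_le]
          exact fun w hw i _ => Ideal.subset_span (Finset.mem_image.2 ⟨(w, i), by simp [Finset.mem_coe.1 hw], rfl⟩)
        exact hle hw i trivial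
    refine Submodule.eq_bot_of_le_smul_of_le_jacobson_bot (IsLocalRing.maximalIdeal R) I hIfg ?_
      (IsLocalRing.maximalIdeal_le_jacobson _)
    conv_lhs => rw [hIy]
    refine Ideal.span_le.2 ?_
    rintro _ ⟨v, hv, j, rfl⟩
    exact hsq v hv j
  refine Module.Free.of_basis (Module.Basis.mk (v := x) ?_ hx.ge)
  rw [Fintype.linearIndependent_iff]
  intro v hv j
  have := hrel v (mem_rel.2 hv) j
  rwa [hI] at this

/-- Let R be a local ring of prime characteristic p and M a finitely presented R-module. Write R' for R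
regarded as an R-algebra through its Frobenius a ↦ a^p, so that R' ⊗_R M is the pull-back of M along
the absolute Frobenius of Spec R, an R'-module. If this pull-back is isomorphic to M — there is a
bijective map e : R' ⊗_R M → M, additive and semilinear for the identification R' = R — then M is
free. -/
theorem result
    (p : ℕ) [Fact p.Prime] (R : Type u) [CommRing R] [IsLocalRing R] [CharP R p]
    (M : Type v) [AddCommGroup M] [Module R M] [Module.FinitePresentation R M]
    (e : (FrobAlg.Twist p R ⊗[R] M) →ₛₗ[((FrobAlg.toTwist p R).symm : FrobAlg.Twist p R →+* R)] M)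
    (he : Function.Bijective e) :
    Module.Free R M := by
  exact free_of_twist p e he

end Groth.Agent.S16368
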