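import Groth.Statements.S16369
import Groth.Agent.S0002
import Groth.Agent.DevLib.Closed

set_option autoImplicit false
universe u
open CategoryTheory AlgebraicGeometry Opposite
open FrobSch

namespace Groth.Agent.S16369

set_option backward.isDefEq.respectTransparency false

theorem smulAb_comp_pow (p : ℕ) {X : Scheme.{u}} (φ : Coh.toAb (Coh.structureModule X) ⟶ Coh.toAb (Coh.structureModule X))
    (hφ : ∀ (U : X.Opens) (t : Γ(X, U)), φ.hom.app (op U) t = t ^ p) (r : Coh.Γtop X) :
    Coh.smulAb (Coh.structureModule X) r ≫ φ = φ ≫ Coh.smulAb (Coh.structureModule X) (r ^ p) := by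
  ext U t
  change φ.hom.app U ((Coh.smulAb (Coh.structureModule X) r).hom.app U t) =
    (Coh.smulAb (Coh.structureModule X) (r ^ p)).hom.app U (φ.hom.app U t)
  rw [Coh.smulAb_app, Coh.smulAb_app, map_pow]
  let a : Γ(X, U.unop) := Coh.resTop X U r
  let t' : Γ(X, U.unop) := t
  exact ((hφ U.unop _).trans (mul_pow a t' p)).trans
    (congrArg (fun w : Γ(X, U.unop) => a ^ p * w) (hφ U.unop t).symm)

theorem surjective_of_injective_semilinear {k M : Type*} [Field k] [AddCommGroup M] [Module k M] [Module.Finite k M]
    (σ : k → k) (hσ : Function.Surjective σ) (h0 : σ 0 = 0) (T : M →+ M) (hT : Function.Injective T)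
    (hc : ∀ (c : k) (x : M), T (c • x) = σ c • T x) : Function.Surjective T := by
  let b := Module.finBasis k M
  have hli : LinearIndependent k (T ∘ b) :=
    b.linearIndependent.map_of_surjective_injective (⟨σ, h0⟩ : ZeroHom k k) T hσ (fun m hm => hT (hm.trans (map_zero T).symm)) hc
  have hsp := hli.span_eq_top_of_card_eq_finrank' (Fintype.card_fin _)
  intro y
  have hy : y ∈ Submodule.span k (Set.range (T ∘ b)) := hsp ▸ Submodule.mem_top
  induction hy using Submodule.span_induction with
  | mem z hz => obtain ⟨j, rfl⟩ := hz; exact ⟨_, rfl⟩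
  | zero => exact ⟨0, map_zero T⟩
  | add a b _ _ ha hb =>
    obtain ⟨a', rfl⟩ := ha
    obtain ⟨b', rfl⟩ := hb
    exact ⟨a' + b', map_add T _ _⟩
  | smul c a _ ha =>
    obtain ⟨a', rfl⟩ := ha
    obtain ⟨c', rfl⟩ := hσ c
    exact ⟨c' • a', hc _ _⟩

/-- (i) ⇒ (ii): let k be a perfect field of characteristic p and X a scheme proper over k. Let φ be the
p-th power map on the sheaf of additive groups underlying O_X and B its cokernel in abelian sheaves
(for X smooth over k this is the sheaf B¹ of locally exact one-forms, pushed down along Frobenius).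
If X is Frobenius split — φ admits a retraction s, an additive endomorphism of O_X with s(t^p) = t
and s(a^p·b) = a·s(b) on every open — then H^i(X, B) = 0 for every i. (The source states this for X
normal; normality is not used for this implication, and a split X is reduced anyway.) -/
theorem result
    (p : ℕ) [Fact p.Prime] (k : Type u) [Field k] [CharP k p] [PerfectField k]
    (X : Scheme.{u}) [X.Over (Spec (CommRingCat.of k))] [IsProper (X ↘ Spec (CommRingCat.of k))]
    (φ : Coh.toAb (Coh.structureModule X) ⟶ Coh.toAb (Coh.structureModule X))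
    (hφ : ∀ (U : X.Opens) (t : Γ(X, U)), φ.hom.app (op U) t = t ^ p)
    (s : Coh.toAb (Coh.structureModule X) ⟶ Coh.toAb (Coh.structureModule X))
    (hs : φ ≫ s = 𝟙 _)
    (hlin : ∀ (U : X.Opens) (a b : Γ(X, U)),
      s.hom.app (op U) (a ^ p * b) = a * @id Γ(X, U) (s.hom.app (op U) b))
    (i : ℕ) : Subsingleton (Sheaf.H (Limits.cokernel φ) i) := by
  haveI : ExpChar k p := ExpChar.prime Fact.out
  haveI : PerfectRing k p := inferInstance
  let H := Coh.HH X (Coh.structureModule X) i
  haveI : IsLocallyNoetherian X := LocallyOfFiniteType.isLocallyNoetherian (X ↘ Spec (CommRingCat.of k))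
  haveI : Module.Finite k H := S0002.result k X (Coh.structureModule X) (Groth.Agent.DevLib.isCoh_structureModule X) i
  let T : H →+ H := AddMonoidHom.mk' (fun x => Sheaf.H.map φ i x) fun x y => map_add _ x y
  have hT : Function.Injective T := Function.LeftInverse.injective (g := fun x => Sheaf.H.map s i x) fun x => by
    show Sheaf.H.map s i (Sheaf.H.map φ i x) = x
    rw [← Sheaf.H.map_comp_apply, hs, Sheaf.H.map_id_apply]
  have hc : ∀ (c : k) (x : H), T (c • x) = c ^ p • T x := by
    intro c x
    let g := Coh.toGlobal (X ↘ Spec (CommRingCat.of k))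
    show Sheaf.H.map φ i (Sheaf.H.map (Coh.smulAb _ (g c)) i x) =
      Sheaf.H.map (Coh.smulAb _ (g (c ^ p))) i (Sheaf.H.map φ i x)
    rw [← Sheaf.H.map_comp_apply, smulAb_comp_pow p φ hφ (g c), Sheaf.H.map_comp_apply, map_pow g]
  have hsur := surjective_of_injective_semilinear (fun c : k => c ^ p) (surjective_frobenius k p)
    (zero_pow (Fact.out : p.Prime).ne_zero) T hT hc
  let π := Limits.cokernel.π φ
  let σB := Limits.cokernel.desc φ (𝟙 _ - s ≫ φ)
    (by rw [Preadditive.comp_sub, Category.comp_id, reassoc_of% hs, sub_self])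
  have hσ : σB ≫ π = 𝟙 _ := by
    rw [← cancel_epi (Limits.cokernel.π φ), Limits.cokernel.π_desc_assoc, Preadditive.sub_comp, Category.id_comp,
      Category.assoc, Limits.cokernel.condition, Limits.comp_zero, sub_zero, Category.comp_id]
  refine subsingleton_of_forall_eq 0 fun x => ?_
  obtain ⟨y, hy⟩ := hsur (Sheaf.H.map σB i x)
  have h1 : Sheaf.H.map π i (Sheaf.H.map σB i x) = x := by
    rw [← Sheaf.H.map_comp_apply, hσ, Sheaf.H.map_id_apply]
  rw [← h1, ← hy]
  show Sheaf.H.map π i (Sheaf.H.map φ i y) = 0
  rw [← Sheaf.H.map_comp_apply, Limits.cokernel.condition]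
  show ((Sheaf.functorH _ i).map (0 : _ ⟶ _)).hom y = 0
  rw [Functor.map_zero]
  rfl

end Groth.Agent.S16369
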