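import Groth.Statements.S1637
import Groth.Agent.NodePtLib.EtaleLocal.Scheme

set_option autoImplicit false
universe u
open CategoryTheory CategoryTheory.Limits AlgebraicGeometry
open Curves

namespace Groth.Agent.S1637

open CategoryTheory CategoryTheory.Limits AlgebraicGeometry

open Groth.Agent NodePtLib
set_option backward.isDefEq.respectTransparency false

/-- Let f : X → S be at-worst-nodal of relative dimension one and x a point of X which is a node of its
fibre. Then there are étale morphisms U → X and V → S, a morphism U → V compatible with f, a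
morphism V → Spec ℤ[a], and an étale morphism U → W over V where W → V is the base change of Spec
ℤ[u, v, a]/(uv - a) → Spec ℤ[a] along V → Spec ℤ[a], such that x is in the image of U. -/
theorem result {X S : Scheme.{u}} (f : X ⟶ S) (hf : Curv2.IsNodalFamily f)
    (x : X) (hx : @Curv2.IsNode (S.residueField (f.base x)) _ (f.fiber (f.base x)) ⟨f.fiberToSpecResidueField (f.base x)⟩ (f.asFiber x)) :
    ∃ (U V W : Scheme.{u}) (gU : U ⟶ X) (gV : V ⟶ S) (p : U ⟶ V) (e : U ⟶ W) (q : W ⟶ V)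
      (h : V ⟶ Spec (CommRingCat.of (MvPolynomial (Fin 1) (ULift.{u} ℤ)))) (r : W ⟶ Spec (CommRingCat.of (MvPolynomial (Fin 3) (ULift.{u} ℤ) ⧸ Ideal.span {(MvPolynomial.X 0 * MvPolynomial.X 1 - MvPolynomial.X 2 : MvPolynomial (Fin 3) (ULift.{u} ℤ))}))),
      Etale gU ∧ Etale gV ∧ Etale e ∧ gU ≫ f = p ≫ gV ∧ e ≫ q = p ∧
      IsPullback r q (Spec.map (CommRingCat.ofHom ((Ideal.Quotient.mk _).comp (MvPolynomial.aeval (fun _ : Fin 1 => (MvPolynomial.X 2 : MvPolynomial (Fin 3) (ULift.{u} ℤ)))).toRingHom))) h ∧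
      x ∈ Set.range gU.base := by
  obtain ⟨_, hfp, -⟩ := hf
  haveI := hfp
  obtain ⟨_, ⟨V₀, hV, rfl⟩, hsV, -⟩ := S.isBasis_affineOpens.exists_subset_of_mem_open
    (Set.mem_univ (f x)) isOpen_univ
  obtain ⟨_, ⟨U₀, hU, rfl⟩, hxU, hUV⟩ := X.isBasis_affineOpens.exists_subset_of_mem_open
    (show x ∈ f ⁻¹ᵁ V₀ from hsV) (f ⁻¹ᵁ V₀).2
  let z := f.asFiber x
  have hx₀ : f.fiberι (f x) z = x := f.fiberι_asFiber x
  have hz : f.fiberι (f x) z ∈ U₀ := by rw [hx₀]; exact hxU
  letI := (f.appLE V₀ U₀ hUV).hom.toAlgebra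
  haveI : Algebra.FinitePresentation Γ(S, V₀) Γ(X, U₀) := f.finitePresentation_appLE hV hU hUV
  haveI : Module.Flat Γ(S, V₀) Γ(X, U₀) := f.flat_appLE hV hU hUV
  obtain ⟨R', Q, _, _, gV, gU, p, a, e, 𝔔, _, hgV, hgU, he, hcomp, hep, hQ⟩ :=
    EtaleLocal.exists_etale_model _ (EtaleLocal.nodeData f (f x) z hV hU hUV hz hsV hx)
  obtain ⟨r, hr⟩ := EtaleLocal.isPushout_model a
  haveI hA : Etale (Spec.map (CommRingCat.ofHom gU)) := (HasRingHomProperty.Spec_iff (P := @Etale)).2 hgU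
  haveI hB : Etale (Spec.map (CommRingCat.ofHom gV)) := (HasRingHomProperty.Spec_iff (P := @Etale)).2 hgV
  refine ⟨Spec (CommRingCat.of Q), Spec (CommRingCat.of R'), _, Spec.map (CommRingCat.ofHom gU) ≫ hU.fromSpec,
    Spec.map (CommRingCat.ofHom gV) ≫ hV.fromSpec, Spec.map (CommRingCat.ofHom p), Spec.map (CommRingCat.ofHom e),
    Spec.map (CommRingCat.ofHom ((Ideal.Quotient.mk _).comp MvPolynomial.C)), _, Spec.map r,
    inferInstance, inferInstance, (HasRingHomProperty.Spec_iff (P := @Etale)).2 he, ?_, ?_,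
    isPullback_SpecMap_of_isPushout _ _ _ _ hr, ⟨⟨𝔔, inferInstance⟩, ?_⟩⟩
  · rw [Category.assoc, ← IsAffineOpen.SpecMap_appLE_fromSpec f hV hU hUV, ← Spec.map_comp_assoc,
      ← Spec.map_comp_assoc]
    exact congrArg (fun g => Spec.map g ≫ hV.fromSpec) (CommRingCat.hom_ext hcomp)
  · rw [← Spec.map_comp]
    exact congrArg Spec.map (CommRingCat.hom_ext hep)
  · show hU.fromSpec (Spec.map (CommRingCat.ofHom gU) ⟨𝔔, inferInstance⟩) = x
    refine Eq.trans (congrArg hU.fromSpec ?_) ((hU.fromSpec_primeIdealOf ⟨_, hz⟩).trans hx₀)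
    exact PrimeSpectrum.ext hQ

end Groth.Agent.S1637
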