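import Groth.Statements.S16370
import Mathlib

set_option autoImplicit false
universe u
open CategoryTheory AlgebraicGeometry Opposite
open FrobSch

namespace Groth.Agent.S16370

open CategoryTheory CategoryTheory.Limits Abelian

/-- (ii) ⇒ (iii): let X be a reduced scheme of prime characteristic p, φ the p-th power map on the sheaf
of additive groups underlying O_X (a monomorphism, X being reduced) and B its cokernel in abelian
sheaves. If H^i(X, B) = 0 for all i ≥ 0, then the endomorphism of H^i(X, O_X) induced by φ — the
Hasse–Witt operation — is bijective for all i. (The source has X normal and proper over a perfect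
field; only reducedness enters this implication.) -/
theorem result
    (p : ℕ) [Fact p.Prime] (X : Scheme.{u}) [IsReduced X] (hp : (p : Γ(X, ⊤)) = 0)
    (φ : Coh.toAb (Coh.structureModule X) ⟶ Coh.toAb (Coh.structureModule X))
    (hφ : ∀ (U : X.Opens) (t : Γ(X, U)), φ.hom.app (op U) t = t ^ p)
    (hB : ∀ i : ℕ, Subsingleton (Sheaf.H (Limits.cokernel φ) i))
    (i : ℕ) : Function.Bijective (Sheaf.H.map φ i) := by
  haveI hm : Mono φ := by
    haveI : ∀ U, Mono (φ.hom.app U) := fun U => (AddCommGrpCat.mono_iff_injective _).2 fun a b h => by
      have h' : ∀ t : Γ(X, U.unop), φ.hom.app U t = t ^ p := fun t => hφ U.unop t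
      change Γ(X, U.unop) at a b
      have h2 : a ^ p = b ^ p := (h' a).symm.trans (h.trans (h' b))
      rcases subsingleton_or_nontrivial Γ(X, U.unop) with hs | hs
      · exact hs.elim a b
      · have : (p : Γ(X, U.unop)) = 0 := by
          have := congrArg (X.presheaf.map (homOfLE (le_top : U.unop ≤ ⊤)).op).hom hp
          simpa using this
        haveI : CharP Γ(X, U.unop) p := (CharP.charP_iff_prime_eq_zero Fact.out).2 this
        exact frobenius_inj Γ(X, U.unop) p h2
    haveI : Mono φ.hom := NatTrans.mono_of_mono_app _
    exact (sheafToPresheaf _ _).mono_of_mono_map (show Mono φ.hom from inferInstance)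
  let S := ShortComplex.mk φ (cokernel.π φ) (cokernel.condition φ)
  have hS : S.ShortExact :=
    { exact := ShortComplex.exact_cokernel φ }
  constructor
  · refine (injective_iff_map_eq_zero _).2 fun x hx => ?_
    cases i with
    | zero => exact Ext.postcomp_mk₀_injective_of_mono _ φ (hx.trans (map_zero _).symm)
    | succ n =>
      obtain ⟨z, rfl⟩ := Ext.covariant_sequence_exact₁ _ hS x hx rfl
      haveI := hB n
      rw [Subsingleton.elim (α := Sheaf.H (cokernel φ) n) z 0]
      simp
  · intro y
    haveI := hB i
    exact Ext.covariant_sequence_exact₂ _ hS y (Subsingleton.elim (α := Sheaf.H (cokernel φ) i) _ 0)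

end Groth.Agent.S16370
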