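import Groth.Statements.S16371
import Mathlib

set_option autoImplicit false
universe u v w
open FrobAlg

namespace Groth.Agent.S16371

/-- Let p be a prime, A a commutative ring and B, C commutative A-algebras with p² = 0 in B. If two
A-algebra maps g₁, g₂ : C → B agree modulo p, then they agree on every element of C which is
congruent modulo p to an element of the A-subalgebra generated by the p-th powers. (The source
states this for liftings over a flat ℤ/p²-thickening of two smooth schemes and the subsheaf of
functions whose reduction lies in the image of the relative Frobenius; the smoothness and lifting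
hypotheses are not needed for the identity.) -/
theorem result
    (p : ℕ) [Fact p.Prime] (A : Type u) [CommRing A] (B : Type v) [CommRing B] [Algebra A B]
    (C : Type w) [CommRing C] [Algebra A C] (hp : (p : B) ^ 2 = 0)
    (g₁ g₂ : C →ₐ[A] B) (hg : ∀ x : C, g₁ x - g₂ x ∈ Ideal.span ({(p : B)} : Set B))
    (x y : C) (hy : y ∈ Algebra.adjoin A (Set.range fun c : C => c ^ p))
    (hxy : x - y ∈ Ideal.span ({(p : C)} : Set C)) :
    g₁ x = g₂ x := by
  have hpw : ∀ c, g₁ (c ^ p) = g₂ (c ^ p) := fun c => by
    obtain ⟨d, hd⟩ := Ideal.mem_span_singleton.1 (hg c)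
    obtain ⟨e, he⟩ := exists_add_pow_prime_eq (Fact.out : p.Prime) (g₂ c) ((p : B) * d)
    rw [map_pow, map_pow, show g₁ c = g₂ c + (p : B) * d by rw [← hd]; ring, he,
      pow_eq_zero_of_le (Fact.out : p.Prime).two_le (show ((p : B) * d) ^ 2 = 0 by rw [mul_pow, hp, zero_mul])]
    linear_combination g₂ c * d * e * hp
  have hy' : g₁ y = g₂ y := by
    clear hxy
    induction hy using Algebra.adjoin_induction with
    | mem z hz => obtain ⟨c, rfl⟩ := hz; exact hpw c
    | algebraMap r => simp
    | add a b _ _ ha hb => rw [map_add, map_add, ha, hb]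
    | mul a b _ _ ha hb => rw [map_mul, map_mul, ha, hb]
  obtain ⟨z, hz⟩ := Ideal.mem_span_singleton.1 hxy
  obtain ⟨d, hd⟩ := Ideal.mem_span_singleton.1 (hg z)
  rw [sub_eq_iff_eq_add.1 hz, map_add, map_add, hy', map_mul, map_mul, map_natCast, map_natCast]
  linear_combination (p : B) * hd + d * hp

end Groth.Agent.S16371
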