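import Groth.Statements.S16373
import Groth.Agent.W2Lib.Shift

set_option autoImplicit false
universe u
open FrobAlg

namespace Groth.Agent.S16373

set_option backward.isDefEq.respectTransparency false

/-- Let p be a prime, m ≥ 1, R a commutative ring with p = 0 in R and σ : W_m(R) → R a quasi-F-splitting
of level m (additive, σ(1) = 1, σ(F(x)·y) = x₀·σ(y) with F the componentwise p-th power). Let I ⊆
W_{m+1}(R) be the ideal generated by the shifts V(x) of the x with σ(x) = 0, and Q = W_{m+1}(R)/I.
Then Q is a flat lifting of R modulo p²: an element of Q lies in pQ exactly when the first Witt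
component of a representative vanishes (so Q/pQ is R through the first component), and an element of
Q is killed by p exactly when it lies in pQ. (Stated for a ring; the source has a scheme over the
prime field. For m = 1 this is the lifting attached to a Frobenius splitting.) -/
theorem result
    (p : ℕ) [Fact p.Prime] (m : ℕ) (hm : 0 < m) (R : Type u) [CommRing R] (hp : (p : R) = 0)
    (σ : TruncatedWittVector p m R →+ R) (h1 : σ 1 = 1)
    (hF : ∀ x y : TruncatedWittVector p m R, σ (WittGrp.frob p m hp x * y) = x.coeff ⟨0, hm⟩ * σ y)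
    (I : Ideal (TruncatedWittVector p (m + 1) R))
    (hI : I = Ideal.span (WittGrp.shift p (Nat.le_succ m) '' {x : TruncatedWittVector p m R | σ x = 0})) :
    (∀ w : TruncatedWittVector p (m + 1) R,
        Ideal.Quotient.mk I w ∈ Ideal.span ({(p : TruncatedWittVector p (m + 1) R ⧸ I)} : Set _) ↔
          w.coeff 0 = 0) ∧
    (∀ q : TruncatedWittVector p (m + 1) R ⧸ I,
        (p : TruncatedWittVector p (m + 1) R ⧸ I) * q = 0 ↔
          q ∈ Ideal.span ({(p : TruncatedWittVector p (m + 1) R ⧸ I)} : Set _)) := by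
  rcases subsingleton_or_nontrivial R with hR | hR
  · haveI : Subsingleton (TruncatedWittVector p (m + 1) R) := ⟨fun a b => TruncatedWittVector.ext fun i => Subsingleton.elim _ _⟩
    haveI := (Ideal.Quotient.mk_surjective (I := I)).subsingleton
    refine ⟨fun w => ⟨fun _ => Subsingleton.elim _ _, fun _ => ?_⟩, fun q => ⟨fun _ => ?_, fun _ => Subsingleton.elim _ _⟩⟩
    · rw [Subsingleton.elim (Ideal.Quotient.mk I w) 0]; exact zero_mem _
    · rw [Subsingleton.elim q 0]; exact zero_mem _
  haveI : CharP R p := (CharP.charP_iff_prime_eq_zero Fact.out).2 hp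
  let S := WittGrp.shift p (R := R) (Nat.le_succ m)
  let T := TruncatedWittVector.truncate (p := p) (R := R) (Nat.le_succ m)
  have hTz : ∀ y, (T y).coeff ⟨0, hm⟩ = y.coeff 0 := fun y => by
    simp only [T, TruncatedWittVector.coeff_truncate]
    rfl
  have hσT : ∀ y, σ (WittGrp.frob p m hp (T y)) = y.coeff 0 := fun y => by
    rw [← mul_one (WittGrp.frob p m hp (T y)), hF, h1, mul_one, hTz]
  have hmemI : ∀ w, w ∈ I ↔ ∃ x, σ x = 0 ∧ S x = w := by
    intro w
    refine ⟨fun h => ?_, fun ⟨x, hx, h⟩ => hI.symm ▸ Ideal.subset_span ⟨x, hx, h⟩⟩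
    rw [hI] at h
    induction h using Submodule.span_induction with
    | mem y hy => exact hy
    | zero => exact ⟨0, map_zero σ, map_zero S⟩
    | add y z _ _ hy hz =>
      obtain ⟨a, ha, rfl⟩ := hy
      obtain ⟨b, hb, rfl⟩ := hz
      exact ⟨a + b, by rw [map_add, ha, hb, add_zero], map_add S a b⟩
    | smul r y _ hy =>
      obtain ⟨a, ha, rfl⟩ := hy
      exact ⟨_, by rw [hF, ha, mul_zero], (Groth.Agent.W2Lib.mul_shift hp r a).symm⟩
  have hspan : ∀ q : TruncatedWittVector p (m + 1) R ⧸ I,
      q ∈ Ideal.span ({(p : TruncatedWittVector p (m + 1) R ⧸ I)} : Set _) ↔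
        ∃ r, q = Ideal.Quotient.mk I ((p : TruncatedWittVector p (m + 1) R) * r) := fun q => by
    rw [Ideal.mem_span_singleton]
    refine ⟨fun ⟨c, hc⟩ => ?_, fun ⟨r, hr⟩ => ⟨Ideal.Quotient.mk I r, by rw [hr, map_mul, map_natCast]⟩⟩
    obtain ⟨r, rfl⟩ := Ideal.Quotient.mk_surjective c
    exact ⟨r, by rw [hc, map_mul, map_natCast]⟩
  have first : ∀ w : TruncatedWittVector p (m + 1) R,
      Ideal.Quotient.mk I w ∈ Ideal.span ({(p : TruncatedWittVector p (m + 1) R ⧸ I)} : Set _) ↔ w.coeff 0 = 0 := by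
    intro w
    rw [hspan]
    constructor
    · rintro ⟨r, hr⟩
      rw [Ideal.Quotient.eq, hmemI] at hr
      obtain ⟨x, -, hx⟩ := hr
      have h0 := congrArg (fun z : TruncatedWittVector p (m + 1) R => z.coeff 0) hx
      simp only [S, Groth.Agent.W2Lib.coeff_zero_shift, Groth.Agent.W2Lib.coeff_zero_sub,
        Groth.Agent.W2Lib.natCast_mul_eq_shift hp] at h0
      rw [sub_zero] at h0
      exact h0.symm
    · intro hw
      obtain ⟨x, rfl⟩ := Groth.Agent.W2Lib.exists_shift_eq hw
      let r := WittVector.truncate (m + 1) (WittVector.teichmuller p (σ x))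
      refine ⟨r, ?_⟩
      rw [Ideal.Quotient.eq, Groth.Agent.W2Lib.natCast_mul_eq_shift hp, ← map_sub, hmemI]
      refine ⟨_, ?_, rfl⟩
      rw [map_sub, hσT, WittVector.coeff_truncate, Fin.val_zero, WittVector.teichmuller_coeff_zero, sub_self]
  refine ⟨first, fun q => ?_⟩
  obtain ⟨w, rfl⟩ := Ideal.Quotient.mk_surjective q
  rw [first, ← map_natCast (Ideal.Quotient.mk I), ← map_mul, Ideal.Quotient.eq_zero_iff_mem, hmemI,
    Groth.Agent.W2Lib.natCast_mul_eq_shift hp]
  refine ⟨fun ⟨x, hx, hxw⟩ => ?_, fun hw => ⟨_, by rw [hσT]; exact hw, rfl⟩⟩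
  rw [Groth.Agent.W2Lib.shift_injective hxw] at hx
  rwa [hσT] at hx

end Groth.Agent.S16373
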