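import Groth.Statements.S16374
import Mathlib

set_option autoImplicit false
universe u v w
open FrobAlg

namespace Groth.Agent.S16374

/-- Let p be a prime, A a commutative ring, B and C commutative A-algebras with p² = 0 in B, and g : C →
B an A-algebra map such that every g(c) is congruent modulo p to an element of the A-subalgebra of B
generated by the p-th powers (g lifts a relative Frobenius). Then d(g(x)) = 0 in the module of
Kähler differentials of B over A for every x ∈ C that is congruent modulo p to an element of the
A-subalgebra of C generated by the p-th powers. (The source works with a lifting of the relative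
Frobenius of a smooth scheme over a ℤ/p²-thickening and the subsheaf of functions whose reduction
comes from the Frobenius twist; smoothness is not needed for this vanishing.) -/
theorem result
    (p : ℕ) [Fact p.Prime] (A : Type u) [CommRing A] (B : Type v) [CommRing B] [Algebra A B]
    (C : Type w) [CommRing C] [Algebra A C] (hp : (p : B) ^ 2 = 0)
    (g : C →ₐ[A] B)
    (hg : ∀ c : C, ∃ u ∈ Algebra.adjoin A (Set.range fun b : B => b ^ p),
      g c - u ∈ Ideal.span ({(p : B)} : Set B))
    (x y : C) (hy : y ∈ Algebra.adjoin A (Set.range fun c : C => c ^ p))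
    (hxy : x - y ∈ Ideal.span ({(p : C)} : Set C)) :
    KaehlerDifferential.D A B (g x) = 0 := by
  let D := KaehlerDifferential.D A B
  have hDp : ∀ b : B, D (b ^ p) = (p : B) • (b ^ (p - 1) • D b) := fun b => by
    rw [Derivation.leibniz_pow, Nat.cast_smul_eq_nsmul]
  have hDnat : ∀ b : B, D ((p : B) * b) = (p : B) • D b := fun b => by
    rw [Derivation.leibniz, Derivation.map_natCast, smul_zero, add_zero]
  have hDg : ∀ c : C, ∃ ω, D (g c) = (p : B) • ω := fun c => by
    obtain ⟨u, hu, huc⟩ := hg c
    obtain ⟨d, hd⟩ := Ideal.mem_span_singleton.1 huc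
    have : ∃ ω, D u = (p : B) • ω := by
      clear huc hd
      induction hu using Algebra.adjoin_induction with
      | mem z hz => obtain ⟨b, rfl⟩ := hz; exact ⟨_, hDp b⟩
      | algebraMap r => exact ⟨0, by simp [D]⟩
      | add a b _ _ ha hb =>
        obtain ⟨α, hα⟩ := ha
        obtain ⟨β, hβ⟩ := hb
        exact ⟨α + β, by rw [map_add, hα, hβ, smul_add]⟩
      | mul a b _ _ ha hb =>
        obtain ⟨α, hα⟩ := ha
        obtain ⟨β, hβ⟩ := hb
        exact ⟨a • β + b • α, by rw [Derivation.leibniz, hα, hβ, smul_add, smul_comm a, smul_comm b]⟩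
    obtain ⟨ω, hω⟩ := this
    exact ⟨ω + D d, by rw [sub_eq_iff_eq_add.1 hd, map_add, hDnat, hω, smul_add, add_comm]⟩
  have hpp : ∀ ω : Ω[B⁄A], (p : B) • ((p : B) • ω) = 0 := fun ω => by
    rw [smul_smul, ← sq, hp, zero_smul]
  have hy' : D (g y) = 0 := by
    clear hxy
    induction hy using Algebra.adjoin_induction with
    | mem z hz =>
      obtain ⟨c, rfl⟩ := hz
      obtain ⟨ω, hω⟩ := hDg c
      rw [map_pow, hDp, hω, smul_comm (g c ^ (p - 1)), hpp]
    | algebraMap r => simp [D]
    | add a b _ _ ha hb => rw [map_add, map_add, ha, hb, add_zero]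
    | mul a b _ _ ha hb => rw [map_mul, Derivation.leibniz, ha, hb, smul_zero, smul_zero, add_zero]
  obtain ⟨z, hz⟩ := Ideal.mem_span_singleton.1 hxy
  obtain ⟨ω, hω⟩ := hDg z
  show D (g x) = 0
  rw [sub_eq_iff_eq_add.1 hz, map_add, map_mul, map_natCast, map_add, hy', add_zero, hDnat, hω, hpp]

end Groth.Agent.S16374
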