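import Groth.Statements.S1638
import Mathlib

set_option autoImplicit false
universe u
open Brauer

namespace Groth.Agent.S1638

/-- Let A and A' be algebras over a field k with subalgebras B ⊆ A and B' ⊆ A' having centralizers C and
C'. Then the centralizer of the image of B ⊗ B' in A ⊗_k A' is the image of C ⊗_k C'. -/
theorem result (k : Type u) [Field k] (A A' : Type u) [Ring A] [Ring A'] [Algebra k A] [Algebra k A']
    (B : Subalgebra k A) (B' : Subalgebra k A') :
    Subalgebra.centralizer k ((Algebra.TensorProduct.map B.val B'.val).range : Set (TensorProduct k A A')) =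
      (Algebra.TensorProduct.map (Subalgebra.centralizer k (B : Set A)).val (Subalgebra.centralizer k (B' : Set A')).val).range := by
  classical
  set C := Subalgebra.centralizer k (B : Set A) with hC
  set C' := Subalgebra.centralizer k (B' : Set A') with hC'
  obtain ⟨π, hπ⟩ := LinearMap.exists_leftInverse_of_injective (Subalgebra.toSubmodule C).subtype (Submodule.ker_subtype _)
  obtain ⟨π', hπ'⟩ := LinearMap.exists_leftInverse_of_injective (Subalgebra.toSubmodule C').subtype (Submodule.ker_subtype _)
  let P : A →ₗ[k] A := (Subalgebra.toSubmodule C).subtype ∘ₗ π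
  let P' : A' →ₗ[k] A' := (Subalgebra.toSubmodule C').subtype ∘ₗ π'
  have hP : ∀ a ∈ C, P a = a := fun a ha => congrArg Subtype.val (LinearMap.congr_fun hπ ⟨a, ha⟩)
  have hP' : ∀ a ∈ C', P' a = a := fun a ha => congrArg Subtype.val (LinearMap.congr_fun hπ' ⟨a, ha⟩)
  ext x
  rw [Subalgebra.mem_centralizer_iff]
  constructor
  · intro hx
    let bA' := Module.Free.chooseBasis k A'
    let bA := Module.Free.chooseBasis k A
    let E := TensorProduct.equivFinsuppOfBasisRight (M := A) bA'
    let E' := TensorProduct.equivFinsuppOfBasisLeft (N := A') bA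
    have hE : ∀ (a : A) (t : TensorProduct k A A') i, E (a ⊗ₜ[k] (1 : A') * t) i = a * E t i ∧
        E (t * a ⊗ₜ[k] (1 : A')) i = E t i * a := fun a t i => by
      induction t using TensorProduct.induction_on with
      | zero => simp
      | tmul l x => simp [E, mul_smul_comm, smul_mul_assoc]
      | add p q hp hq => simp [add_mul, mul_add, hp.1, hp.2, hq.1, hq.2]
    have hE' : ∀ (a : A') (t : TensorProduct k A A') i, E' ((1 : A) ⊗ₜ[k] a * t) i = a * E' t i ∧
        E' (t * (1 : A) ⊗ₜ[k] a) i = E' t i * a := fun a t i => by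
      induction t using TensorProduct.induction_on with
      | zero => simp
      | tmul l x => simp [E', mul_smul_comm, smul_mul_assoc]
      | add p q hp hq => simp [add_mul, mul_add, hp.1, hp.2, hq.1, hq.2]
    have hcoef : ∀ i, E x i ∈ C := fun i => (Subalgebra.mem_centralizer_iff k).2 fun b hb => by
      rw [← (hE b x i).1, ← (hE b x i).2]
      congr 2
      exact hx _ ⟨(⟨b, hb⟩ : B) ⊗ₜ[k] (1 : B'), rfl⟩
    have hcoef' : ∀ i, E' x i ∈ C' := fun i => (Subalgebra.mem_centralizer_iff k).2 fun b hb => by
      rw [← (hE' b x i).1, ← (hE' b x i).2]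
      congr 2
      exact hx _ ⟨(1 : B) ⊗ₜ[k] (⟨b, hb⟩ : B'), rfl⟩
    have h1 : TensorProduct.map P LinearMap.id x = x := by
      conv_lhs => rw [← E.symm_apply_apply x, TensorProduct.equivFinsuppOfBasisRight_symm_apply]
      conv_rhs => rw [← E.symm_apply_apply x, TensorProduct.equivFinsuppOfBasisRight_symm_apply]
      rw [Finsupp.sum, map_sum]
      exact Finset.sum_congr rfl fun i _ => by rw [TensorProduct.map_tmul, hP _ (hcoef i)]; rfl
    have h2 : TensorProduct.map LinearMap.id P' x = x := by
      conv_lhs => rw [← E'.symm_apply_apply x, TensorProduct.equivFinsuppOfBasisLeft_symm_apply]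
      conv_rhs => rw [← E'.symm_apply_apply x, TensorProduct.equivFinsuppOfBasisLeft_symm_apply]
      rw [Finsupp.sum, map_sum]
      exact Finset.sum_congr rfl fun i _ => by rw [TensorProduct.map_tmul, hP' _ (hcoef' i)]; rfl
    have h3 : TensorProduct.map P P' x = x := by
      conv_rhs => rw [← h1, ← h2]
      rw [← LinearMap.comp_apply, ← TensorProduct.map_comp, LinearMap.id_comp, LinearMap.comp_id]
    refine ⟨TensorProduct.map π π' x, ?_⟩
    conv_rhs => rw [← h3, TensorProduct.map_comp]
    rfl
  · rintro ⟨t, rfl⟩ _ ⟨u, rfl⟩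
    induction t using TensorProduct.induction_on with
    | zero => simp
    | add p q hp hq => rw [map_add, mul_add, add_mul, hp, hq]
    | tmul c c' =>
      induction u using TensorProduct.induction_on with
      | zero => simp
      | add p q hp hq => rw [map_add, mul_add, add_mul, hp, hq]
      | tmul b b' =>
        simp only [AlgHom.toRingHom_eq_coe, RingHom.coe_coe, Algebra.TensorProduct.map_tmul,
          Algebra.TensorProduct.tmul_mul_tmul, Subalgebra.coe_val]
        rw [(Subalgebra.mem_centralizer_iff k).1 c.2 _ b.2, (Subalgebra.mem_centralizer_iff k).1 c'.2 _ b'.2]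

end Groth.Agent.S1638
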