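import Groth.Statements.S16386
import Groth.Agent.CogenLib.Power

set_option autoImplicit false
universe u
open CategoryTheory MonoidalCategory CartesianMonoidalCategory MonObj GrpObj AlgebraicGeometry
open AbVar

namespace Groth.Agent.S16386

open CategoryTheory CategoryTheory.Limits AlgebraicGeometry

open Groth.Agent
set_option backward.isDefEq.respectTransparency false

/-- (c₁) ⇒ (a₁): let k be a finite field with q elements and fix a polynomial P with integer
coefficients. Work with abelian varieties over k (proper, geometrically integral commutative group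
schemes over k) together with their q-Frobenius endomorphism π (the identity on points and the q-th
power map on sections; a homomorphism) such that P(π) = 0 in the endomorphism ring; for P the
product of the minimal polynomials of a finite set w of Weil q-numbers these are exactly the abelian
varieties with Weil support in w. Let A be such an abelian variety and suppose that every such Z
admits finitely many homomorphisms ψ_1, …, ψ_n : Z → A which are jointly monomorphic (two T-valued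
points of Z over k with the same image under every ψ_i are equal; equivalently (ψ_i) : Z → A^n is an
injective homomorphism). Then the functor X ↦ Hom(X, A), with values in left End(A)-modules (End(A)
acting by postcomposition), is fully faithful on these abelian varieties: for such X and Y, two
homomorphisms f, g : X → Y inducing the same map Hom(Y, A) → Hom(X, A) are equal, and every additive
End(A)-linear map Hom(Y, A) → Hom(X, A) is precomposition with some homomorphism X → Y. -/
theorem result (k : Type u) [Field k] [Finite k]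
    (P : Polynomial ℤ) (A : Over (Spec (CommRingCat.of k))) [GrpObj A] [IsCommMonObj A] [IsProper A.hom] [GeometricallyIntegral A.hom]
    (πA : A ⟶ A) [IsMonHom πA] (hπAb : πA.left.base = 𝟙 _)
    (hπAle : ∀ U : A.left.Opens, U ≤ πA.left ⁻¹ᵁ U)
    (hπAapp : ∀ (U : A.left.Opens) (s : Γ(A.left, U)), (πA.left.appLE U U (hπAle U)).hom s = s ^ Nat.card k)
    (hPA : Polynomial.eval₂ (Int.castRingHom (EndAV.End A)) (EndAV.End.of πA) P = 0)
    (hcog : ∀ (Z : Over (Spec (CommRingCat.of k))) [GrpObj Z] [IsCommMonObj Z] [IsProper Z.hom] [GeometricallyIntegral Z.hom]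
      (πZ : Z ⟶ Z) [IsMonHom πZ] (hπZb : πZ.left.base = 𝟙 _) (hπZle : ∀ U : Z.left.Opens, U ≤ πZ.left ⁻¹ᵁ U)
      (hπZapp : ∀ (U : Z.left.Opens) (s : Γ(Z.left, U)), (πZ.left.appLE U U (hπZle U)).hom s = s ^ Nat.card k)
      (hPZ : Polynomial.eval₂ (Int.castRingHom (EndAV.End Z)) (EndAV.End.of πZ) P = 0),
      ∃ (n : ℕ) (ψ : Fin n → EndAV.Hom Z A), ∀ (T : Over (Spec (CommRingCat.of k))) (x y : T ⟶ Z),
        (∀ i, x ≫ (ψ i).toHom = y ≫ (ψ i).toHom) → x = y)
    (X Y : Over (Spec (CommRingCat.of k))) [GrpObj X] [IsCommMonObj X] [IsProper X.hom] [GeometricallyIntegral X.hom]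
    [GrpObj Y] [IsCommMonObj Y] [IsProper Y.hom] [GeometricallyIntegral Y.hom]
    (πX : X ⟶ X) [IsMonHom πX] (hπXb : πX.left.base = 𝟙 _)
    (hπXle : ∀ U : X.left.Opens, U ≤ πX.left ⁻¹ᵁ U)
    (hπXapp : ∀ (U : X.left.Opens) (s : Γ(X.left, U)), (πX.left.appLE U U (hπXle U)).hom s = s ^ Nat.card k)
    (hPX : Polynomial.eval₂ (Int.castRingHom (EndAV.End X)) (EndAV.End.of πX) P = 0)
    (πY : Y ⟶ Y) [IsMonHom πY] (hπYb : πY.left.base = 𝟙 _)
    (hπYle : ∀ U : Y.left.Opens, U ≤ πY.left ⁻¹ᵁ U)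
    (hπYapp : ∀ (U : Y.left.Opens) (s : Γ(Y.left, U)), (πY.left.appLE U U (hπYle U)).hom s = s ^ Nat.card k)
    (hPY : Polynomial.eval₂ (Int.castRingHom (EndAV.End Y)) (EndAV.End.of πY) P = 0) :
    (∀ f g : EndAV.Hom X Y, (∀ φ : EndAV.Hom Y A, f ≫ φ = g ≫ φ) → f = g) ∧
      (∀ g : EndAV.Hom Y A →+ EndAV.Hom X A,
        (∀ (φ : EndAV.Hom Y A) (s : EndAV.Hom A A), g (φ ≫ s) = g φ ≫ s) →
          ∃ f : EndAV.Hom X Y, ∀ φ : EndAV.Hom Y A, g φ = f ≫ φ) := by
  have hA : CogenLib.AnnFrob P A := .mk' πA hπAb hπAle hπAapp hPA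
  have hY : CogenLib.AnnFrob P Y := .mk' πY hπYb hπYle hπYapp hPY
  have hcog' : ∀ (Z : Over (Spec (CommRingCat.of k))) [GrpObj Z] [IsCommMonObj Z] [IsProper Z.hom]
      [GeometricallyIntegral Z.hom], CogenLib.AnnFrob P Z →
      ∃ (n : ℕ) (ψ : Fin n → EndAV.Hom Z A), ∀ (T : Over (Spec (CommRingCat.of k))) (x y : T ⟶ Z),
        (∀ i, x ≫ (ψ i).toHom = y ≫ (ψ i).toHom) → x = y := by
    intro Z _ _ _ _ hZ
    obtain ⟨π, hπ, hb, hle, happ, hP⟩ := hZ.data
    haveI := hπ
    exact hcog Z π hb hle happ hP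
  obtain ⟨n, ψ, hψ⟩ := hcog' Y hY
  refine ⟨fun f g h => EndAV.Hom.ext (hψ _ _ _ fun i => congrArg EndAV.Hom.toHom (h (ψ i))), fun g hg => ?_⟩
  have key : ∀ (m : ℕ) (χ : Fin m → EndAV.Hom Y A),
      (∀ (T : Over (Spec (CommRingCat.of k))) (x y : T ⟶ Y),
        (∀ i, x ≫ (χ i).toHom = y ≫ (χ i).toHom) → x = y) →
      ∃ f : EndAV.Hom X Y, ∀ i, f ≫ χ i = g (χ i) := by
    intro m χ hχ
    obtain ⟨W⟩ := CogenLib.nonempty_pow A m
    haveI : Mono (W.lift χ).toHom := W.mono_lift χ hχ
    haveI : IsClosedImmersion (W.lift χ).toHom.left := CogenLib.isClosedImmersion_of_mono _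
    obtain ⟨Q, hQ, q, hq, hQp, hQg, hQc, hqs, hχq, hker⟩ := CogenLib.exists_quotient_av (W.lift χ).toHom
    letI := hQ
    haveI := hq; haveI := hQp; haveI := hQg; haveI := hQc; haveI := hqs
    obtain ⟨r, ω, hω⟩ := hcog' Q ((W.annFrob hA).of_surjective q)
    let G : EndAV.Hom X W.W := W.lift fun i => g (χ i)
    have h1 : ∀ j, G ≫ EndAV.Hom.of q ≫ ω j = 0 := fun j => by
      have h0 : W.lift χ ≫ EndAV.Hom.of q = 0 := EndAV.Hom.ext hχq
      rw [W.decomp (EndAV.Hom.of q ≫ ω j), Preadditive.comp_sum]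
      simp only [← Category.assoc _ (W.pr _), G, W.lift_pr]
      simp only [← hg]
      rw [← map_sum]
      have e : ∑ i, χ i ≫ W.inj i ≫ EndAV.Hom.of q ≫ ω j = W.lift χ ≫ EndAV.Hom.of q ≫ ω j := by
        rw [W.decomp (EndAV.Hom.of q ≫ ω j), Preadditive.comp_sum]
        simp only [← Category.assoc _ (W.pr _), W.lift_pr, ← W.decomp]
      rw [e, ← Category.assoc (W.lift χ), h0, Limits.zero_comp, map_zero]
    have h2 : G.toHom ≫ q = 1 := hω _ _ _ fun j => by
      rw [MonObj.one_comp, Category.assoc]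
      exact congrArg EndAV.Hom.toHom (h1 j)
    obtain ⟨f, hf⟩ := hker _ _ h2
    haveI : IsMonHom f := by
      refine ⟨(cancel_mono (W.lift χ).toHom).1 ?_, (cancel_mono (W.lift χ).toHom).1 ?_⟩
      · rw [Category.assoc, hf, IsMonHom.one_hom, IsMonHom.one_hom]
      · rw [Category.assoc, hf, Category.assoc, IsMonHom.mul_hom G.toHom, IsMonHom.mul_hom (W.lift χ).toHom,
          MonoidalCategory.tensorHom_comp_tensorHom_assoc, hf]
    refine ⟨EndAV.Hom.of f, fun i => ?_⟩
    rw [← W.lift_pr χ i, ← Category.assoc, show EndAV.Hom.of f ≫ W.lift χ = G from EndAV.Hom.ext hf]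
    simp only [G, W.lift_pr]
  obtain ⟨f, hf⟩ := key n ψ hψ
  refine ⟨f, fun φ => ?_⟩
  obtain ⟨f', hf'⟩ := key (n + 1) (Fin.cases (motive := fun _ => EndAV.Hom Y A) φ ψ)
    fun T x y h => hψ T x y fun i => h i.succ
  have hff' : f' = f := EndAV.Hom.ext (hψ _ _ _ fun i => congrArg EndAV.Hom.toHom
    (show f' ≫ ψ i = f ≫ ψ i from (hf' i.succ).trans (hf i).symm))
  rw [← hff']
  exact (hf' 0).symm

end Groth.Agent.S16386
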