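import Groth.Statements.S16387
import Groth.Agent.AVHomLib.Main

set_option autoImplicit false
universe u
open CategoryTheory MonoidalCategory CartesianMonoidalCategory MonObj GrpObj AlgebraicGeometry
open AbVar

namespace Groth.Agent.S16387

open CategoryTheory CategoryTheory.Limits AlgebraicGeometry

open Groth.Agent
set_option backward.isDefEq.respectTransparency false

/-- Let k be a finite field with algebraic closure Ω, l a prime number invertible in k, and A, B abelian
varieties over k (proper, geometrically integral commutative group schemes over k). If the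
homomorphism i : A → B is injective (a closed immersion), then the induced ℤ_l-linear map between
the l-adic Tate modules of Ω-points T_l(i) : T_l A → T_l B is injective with torsion-free, hence
free, cokernel: the quotient of T_l B by the image of T_l A is a free ℤ_l-module. -/
theorem result (k Ω : Type u) [Field k] [Finite k]
    [Field Ω] [Algebra k Ω] [IsAlgClosure k Ω] (l : ℕ) [Fact l.Prime] (hl : (l : k) ≠ 0)
    (A B : Over (Spec (CommRingCat.of k))) [GrpObj A] [IsCommMonObj A] [IsProper A.hom] [GeometricallyIntegral A.hom]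
    [GrpObj B] [IsCommMonObj B] [IsProper B.hom] [GeometricallyIntegral B.hom]
    (i : A ⟶ B) [IsMonHom i] [IsClosedImmersion i.left] :
    Function.Injective (AbDual.tateMapₗ (l := l) (T := SGA7.pt Ω) i) ∧
      Module.Free ℤ_[l] (AbDual.TateMod B l (SGA7.pt Ω) ⧸
        LinearMap.range (AbDual.tateMapₗ (l := l) (T := SGA7.pt Ω) i)) := by
  haveI : IsAlgClosed Ω := IsAlgClosure.isAlgClosed k
  haveI : Mono i := (Over.forget _).mono_of_mono_map (show Mono i.left by infer_instance)
  obtain ⟨g, hg⟩ := AVLib.exists_dim (A := B)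
  haveI : Module.Finite ℤ_[l] (AbDual.TateMod B l (SGA7.pt Ω)) :=
    (AVHomLib.free_tateMod (A := B) Ω l hl hg).2.1
  let F := AbDual.tateMapₗ (l := l) (T := SGA7.pt Ω) i
  have hinj : Function.Injective F := fun x y h => AbDual.TateMod.ext fun n => by
    have h1 := congrArg (fun z => Additive.toMul (AbDual.TateMod.component B l _ n z)) h
    exact Additive.toMul.injective ((cancel_mono i).1 h1)
  have hdiv : ∀ x, l • x ∈ LinearMap.range F → x ∈ LinearMap.range F := by
    rintro x ⟨y, hy⟩
    have h1 : ∀ n, ((x : ℕ → Additive (SGA7.pt Ω ⟶ B)) n).toMul =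
        ((y : ℕ → Additive (SGA7.pt Ω ⟶ A)) (n + 1)).toMul ≫ i := fun n => by
      rw [← x.compat n]
      exact (congrArg (fun z => Additive.toMul (AbDual.TateMod.component B l _ (n + 1) z)) hy).symm
    refine ⟨⟨fun n => (y : ℕ → Additive (SGA7.pt Ω ⟶ A)) (n + 1), fun n => ?_, fun n => y.compat (n + 1)⟩,
      AbDual.TateMod.ext fun n => congrArg Additive.ofMul (h1 n).symm⟩
    refine Additive.toMul.injective ((cancel_mono i).1 ?_)
    rw [toMul_nsmul, MonObj.pow_comp, ← h1, ← toMul_nsmul, x.torsion n]
    exact (MonObj.one_comp i).symm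
  haveI : Module.IsTorsionFree ℤ_[l] (AbDual.TateMod B l (SGA7.pt Ω) ⧸ LinearMap.range F) := by
    refine Module.IsTorsionFree.of_smul_eq_zero fun c z hz => or_iff_not_imp_left.2 fun hc => ?_
    obtain ⟨x, rfl⟩ := Submodule.Quotient.mk_surjective _ z
    rw [← Submodule.Quotient.mk_smul, Submodule.Quotient.mk_eq_zero] at hz
    rw [Submodule.Quotient.mk_eq_zero]
    rw [PadicInt.unitCoeff_spec hc, mul_comm, mul_smul] at hz
    have h2 : ∀ m : ℕ, ∀ w, (l : ℤ_[l]) ^ m • w ∈ LinearMap.range F → w ∈ LinearMap.range F := by
      intro m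
      induction m with
      | zero => intro w hw; rwa [pow_zero, one_smul] at hw
      | succ m ih =>
        intro w hw
        rw [pow_succ, mul_smul] at hw
        exact hdiv w (by rw [← Nat.cast_smul_eq_nsmul ℤ_[l]]; exact ih _ hw)
    have h3 := h2 _ _ hz
    exact (Submodule.smul_mem_iff_of_isUnit _ (Units.isUnit _)).1 h3
  exact ⟨hinj, Module.free_of_finite_type_torsion_free'⟩

end Groth.Agent.S16387
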