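import Groth.Statements.S16390
import Mathlib.NumberTheory.Padics.Hensel
import Mathlib.Algebra.Polynomial.SpecificDegree
import Mathlib.Analysis.Complex.Basic

set_option autoImplicit false
open AbVar

namespace Groth.Agent.S16390

/-- Let p be a prime number, r > 2 and q = p^r. The polynomial x² − p x + q is irreducible over ℚ, each
of its complex roots has absolute value √q (so its roots are Weil q-numbers), and it has two
distinct roots in ℚ_p, of p-adic valuations 1 and r − 1. The published lemma also computes the index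
of the endomorphism algebra of the simple abelian variety attached to a root; this row does not
state that part. -/
theorem result (p r : ℕ) [Fact p.Prime] (hr : 2 < r) :
    Irreducible (Polynomial.X ^ 2 - Polynomial.C (p : ℚ) * Polynomial.X + Polynomial.C ((p : ℚ) ^ r)) ∧
      (∀ π : ℂ, π ^ 2 - (p : ℂ) * π + (p : ℂ) ^ r = 0 → ‖π‖ = Real.sqrt ((p : ℝ) ^ r)) ∧
      ∃ a b : ℚ_[p], a ≠ b ∧ a ^ 2 - (p : ℚ_[p]) * a + (p : ℚ_[p]) ^ r = 0 ∧
        b ^ 2 - (p : ℚ_[p]) * b + (p : ℚ_[p]) ^ r = 0 ∧ a.valuation = 1 ∧ b.valuation = (r : ℤ) - 1 := by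
  have hp : p.Prime := Fact.out
  have hp1 : (1 : ℝ) < p := by exact_mod_cast hp.one_lt
  obtain ⟨s, rfl⟩ : ∃ s, r = s + 3 := ⟨r - 3, by omega⟩
  have hps : (1 : ℝ) ≤ (p : ℝ) ^ s := one_le_pow₀ hp1.le
  have hdisc : (p : ℝ) ^ 2 < 4 * (p : ℝ) ^ (s + 3) := by
    rw [pow_add]
    nlinarith [mul_le_mul_of_nonneg_right hps (pow_nonneg (by linarith : (0 : ℝ) ≤ p) 3)]
  refine ⟨?_, ?_, ?_⟩
  · have hmon : (Polynomial.X ^ 2 - Polynomial.C (p : ℚ) * Polynomial.X + Polynomial.C ((p : ℚ) ^ (s + 3))).Monic := by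
      monicity!
    have hdeg : (Polynomial.X ^ 2 - Polynomial.C (p : ℚ) * Polynomial.X + Polynomial.C ((p : ℚ) ^ (s + 3))).natDegree = 2 := by
      compute_degree!
    rw [hmon.irreducible_iff_roots_eq_zero_of_degree_le_three (by omega) (by omega)]
    refine Multiset.eq_zero_of_forall_notMem fun z hz => ?_
    rw [Polynomial.mem_roots hmon.ne_zero] at hz
    simp only [Polynomial.IsRoot.def, Polynomial.eval_add, Polynomial.eval_sub, Polynomial.eval_mul,
      Polynomial.eval_pow, Polynomial.eval_X, Polynomial.eval_C] at hz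
    have h2 : ((z : ℝ)) ^ 2 - (p : ℝ) * z + (p : ℝ) ^ (s + 3) = 0 := by exact_mod_cast hz
    nlinarith [sq_nonneg (2 * (z : ℝ) - p)]
  · intro π hπ
    obtain ⟨q, hq⟩ : ∃ q : ℝ, q = (p : ℝ) ^ (s + 3) := ⟨_, rfl⟩
    rw [show (p : ℂ) ^ (s + 3) = ((q : ℝ) : ℂ) by rw [hq]; push_cast; rfl] at hπ
    rw [← hq] at hdisc ⊢
    have hre := congrArg Complex.re hπ
    have him := congrArg Complex.im hπ
    simp [pow_two] at hre him
    have hb : π.im ≠ 0 := by
      intro hb
      rw [hb] at hre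
      nlinarith [sq_nonneg (2 * π.re - p)]
    have ha : 2 * π.re - p = 0 := by
      rcases mul_eq_zero.1 (show π.im * (2 * π.re - p) = 0 by linarith) with h | h
      · exact absurd h hb
      · exact h
    rw [← Real.sqrt_sq (norm_nonneg π), Complex.sq_norm, Complex.normSq_apply]
    congr 1
    nlinarith
  · let F : Polynomial ℤ_[p] := Polynomial.X ^ 2 - Polynomial.X + Polynomial.C ((p : ℤ_[p]) ^ (s + 1))
    have hF : ∀ z : ℤ_[p], F.aeval z = z ^ 2 - z + (p : ℤ_[p]) ^ (s + 1) := fun z => by simp [F]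
    have hF' : ∀ z : ℤ_[p], F.derivative.aeval z = 2 * z - 1 := fun z => by simp [F, -map_pow, one_add_one_eq_two]
    have hpn : ‖(p : ℤ_[p])‖ < 1 := by rw [PadicInt.norm_p]; exact inv_lt_one_of_one_lt₀ hp1
    have hnorm : ‖F.aeval (1 : ℤ_[p])‖ < ‖F.derivative.aeval (1 : ℤ_[p])‖ ^ 2 := by
      rw [hF, hF', show (2 : ℤ_[p]) * 1 - 1 = 1 by norm_num, norm_one, one_pow, one_pow, sub_self, zero_add, norm_pow]
      exact pow_lt_one₀ (norm_nonneg _) hpn (by omega)
    obtain ⟨u, hu, hu1, -⟩ := hensels_lemma hnorm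
    rw [hF] at hu
    rw [hF', show (2 : ℤ_[p]) * 1 - 1 = 1 by norm_num, norm_one] at hu1
    set U : ℚ_[p] := (u : ℚ_[p])
    have hU : U ^ 2 - U + (p : ℚ_[p]) ^ (s + 1) = 0 := by
      have := congrArg (fun z : ℤ_[p] => (z : ℚ_[p])) hu
      simpa using this
    have hp0 : (p : ℚ_[p]) ≠ 0 := Nat.cast_ne_zero.2 hp.ne_zero
    have hU1 : ‖U‖ = 1 := by
      have h : ‖u‖ = 1 := by
        rw [show u = (u - 1) + 1 by ring, PadicInt.norm_add_eq_max_of_ne (by rw [norm_one]; exact hu1.ne), norm_one,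
          max_eq_right hu1.le]
      exact h
    have hU0 : U ≠ 0 := fun h => by rw [h, norm_zero] at hU1; exact zero_ne_one hU1
    have h1U : 1 - U ≠ 0 := fun h => by
      rw [sub_eq_zero] at h
      rw [← h] at hU
      exact pow_ne_zero (s + 1) hp0 (by linear_combination hU)
    have hvU : U.valuation = 0 := by
      have h := Padic.norm_eq_zpow_neg_valuation hU0
      rw [hU1, ← zpow_zero (p : ℝ)] at h
      have := zpow_right_injective₀ (by linarith) hp1.ne' h
      omega
    have hva : ((p : ℚ_[p]) * U).valuation = 1 := by rw [Padic.valuation_mul hp0 hU0, Padic.valuation_p, hvU]; rfl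
    have hvb : ((p : ℚ_[p]) * (1 - U)).valuation = ((s + 3 : ℕ) : ℤ) - 1 := by
      have h := congrArg Padic.valuation (show U * (1 - U) = (p : ℚ_[p]) ^ (s + 1) by linear_combination -hU)
      rw [Padic.valuation_mul hU0 h1U, hvU, Padic.valuation_pow, Padic.valuation_p, zero_add, mul_one] at h
      rw [Padic.valuation_mul hp0 h1U, Padic.valuation_p, h]
      push_cast; ring
    refine ⟨p * U, p * (1 - U), fun h => ?_, ?_, ?_, hva, hvb⟩
    · rw [h, hvb] at hva; push_cast at hva; omega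
    · linear_combination (p : ℚ_[p]) ^ 2 * hU
    · linear_combination (p : ℚ_[p]) ^ 2 * hU

end Groth.Agent.S16390
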