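import Groth.Statements.S16391
import Groth.Agent.CogenLib.Power
import Groth.Agent.PoincareLib.Reduce

set_option autoImplicit false
universe u
open CategoryTheory MonoidalCategory CartesianMonoidalCategory MonObj GrpObj AlgebraicGeometry
open AbVar

namespace Groth.Agent.S16391

open CategoryTheory CategoryTheory.Limits AlgebraicGeometry

open Groth.Agent
set_option backward.isDefEq.respectTransparency false

/-- (c) ⇒ (a₂): let k be a finite field with q elements and fix a polynomial P with integer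
coefficients. Work with abelian varieties over k (proper, geometrically integral commutative group
schemes over k) together with their q-Frobenius endomorphism π (the identity on points, the q-th
power map on sections; a homomorphism) such that P(π) = 0 in the endomorphism ring (for suitable P:
the abelian varieties with Weil support in a given finite set of Weil q-numbers); let A be one of
them and S = End(A) (product = composition). Assume that A is an injective cogenerator: (c₁) every
such Z admits finitely many homomorphisms Z → A which are jointly monomorphic on T-valued points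
over k, and (c₂) for such X, Y and every homomorphism X → Y which is a closed immersion, the
restriction map Hom(Y, A) → Hom(X, A) is surjective. Then the functor X ↦ Hom(X, A) is essentially
surjective onto left S-modules that are free of finite rank over ℤ: for every such module M there
are such an abelian variety X (with its Frobenius and P(π_X) = 0) and an additive bijection M ≅
Hom(X, A) carrying the action of s ∈ S to postcomposition with s. -/
theorem result
    (k : Type u) [Field k] [Finite k]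
    (P : Polynomial ℤ) (A : Over (Spec (CommRingCat.of k))) [GrpObj A] [IsCommMonObj A] [IsProper A.hom] [GeometricallyIntegral A.hom]
    (πA : A ⟶ A) [IsMonHom πA] (hπAb : πA.left.base = 𝟙 _)
    (hπAle : ∀ U : A.left.Opens, U ≤ πA.left ⁻¹ᵁ U)
    (hπAapp : ∀ (U : A.left.Opens) (s : Γ(A.left, U)), (πA.left.appLE U U (hπAle U)).hom s = s ^ Nat.card k)
    (hPA : Polynomial.eval₂ (Int.castRingHom (EndAV.End A)) (EndAV.End.of πA) P = 0)
    (hcog : ∀ (Z : Over (Spec (CommRingCat.of k))) [GrpObj Z] [IsCommMonObj Z] [IsProper Z.hom] [GeometricallyIntegral Z.hom]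
      (πZ : Z ⟶ Z) [IsMonHom πZ] (hπZb : πZ.left.base = 𝟙 _) (hπZle : ∀ U : Z.left.Opens, U ≤ πZ.left ⁻¹ᵁ U)
      (hπZapp : ∀ (U : Z.left.Opens) (s : Γ(Z.left, U)), (πZ.left.appLE U U (hπZle U)).hom s = s ^ Nat.card k)
      (hPZ : Polynomial.eval₂ (Int.castRingHom (EndAV.End Z)) (EndAV.End.of πZ) P = 0),
      ∃ (n : ℕ) (ψ : Fin n → EndAV.Hom Z A), ∀ (T : Over (Spec (CommRingCat.of k))) (x y : T ⟶ Z),
        (∀ i, x ≫ (ψ i).toHom = y ≫ (ψ i).toHom) → x = y)
    (hext : ∀ (X Y : Over (Spec (CommRingCat.of k))) [GrpObj X] [IsCommMonObj X] [IsProper X.hom] [GeometricallyIntegral X.hom]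
      [GrpObj Y] [IsCommMonObj Y] [IsProper Y.hom] [GeometricallyIntegral Y.hom]
      (πX : X ⟶ X) [IsMonHom πX] (hπXb : πX.left.base = 𝟙 _) (hπXle : ∀ U : X.left.Opens, U ≤ πX.left ⁻¹ᵁ U)
      (hπXapp : ∀ (U : X.left.Opens) (s : Γ(X.left, U)), (πX.left.appLE U U (hπXle U)).hom s = s ^ Nat.card k)
      (hPX : Polynomial.eval₂ (Int.castRingHom (EndAV.End X)) (EndAV.End.of πX) P = 0)
      (πY : Y ⟶ Y) [IsMonHom πY] (hπYb : πY.left.base = 𝟙 _) (hπYle : ∀ U : Y.left.Opens, U ≤ πY.left ⁻¹ᵁ U)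
      (hπYapp : ∀ (U : Y.left.Opens) (s : Γ(Y.left, U)), (πY.left.appLE U U (hπYle U)).hom s = s ^ Nat.card k)
      (hPY : Polynomial.eval₂ (Int.castRingHom (EndAV.End Y)) (EndAV.End.of πY) P = 0)
      (φ : EndAV.Hom X Y) [IsClosedImmersion φ.toHom.left] (f : EndAV.Hom X A), ∃ g : EndAV.Hom Y A, φ ≫ g = f)
    (M : Type u) [AddCommGroup M] [Module (EndAV.End A) M] [Module.Finite ℤ M] [Module.Free ℤ M] :
    ∃ (X : Over (Spec (CommRingCat.of k))) (_ : GrpObj X) (_ : IsCommMonObj X) (_ : IsProper X.hom)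
      (_ : GeometricallyIntegral X.hom) (πX : X ⟶ X) (_ : IsMonHom πX) (_ : πX.left.base = 𝟙 _)
      (hπXle : ∀ U : X.left.Opens, U ≤ πX.left ⁻¹ᵁ U)
      (_ : ∀ (U : X.left.Opens) (s : Γ(X.left, U)), (πX.left.appLE U U (hπXle U)).hom s = s ^ Nat.card k)
      (_ : Polynomial.eval₂ (Int.castRingHom (EndAV.End X)) (EndAV.End.of πX) P = 0)
      (e : M ≃+ EndAV.Hom X A), ∀ (s : EndAV.End A) (m : M), (e (s • m)).toHom = (e m).toHom ≫ s.toHom := by
  have hA : CogenLib.AnnFrob P A := .mk' πA hπAb hπAle hπAapp hPA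
  obtain ⟨n, m, hm⟩ := Module.Finite.exists_fin (R := ℤ) (M := M)
  obtain ⟨W⟩ := CogenLib.nonempty_pow A n
  have hW := W.annFrob hA
  haveI := (AVHomLib.finite_hom W.W A).1
  let Θ : EndAV.Hom W.W A →+ M :=
    { toFun := fun φ => ∑ i, (show EndAV.End A from W.inj i ≫ φ) • m i
      map_zero' := Finset.sum_eq_zero fun i _ => by
        rw [Limits.comp_zero]; exact zero_smul (EndAV.End A) (m i)
      map_add' := fun a b => by
        rw [← Finset.sum_add_distrib]
        exact Finset.sum_congr rfl fun i _ => by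
          rw [Preadditive.comp_add]; exact add_smul (R := EndAV.End A) _ _ (m i) }
  have hΘs : ∀ (s : EndAV.End A) (φ : EndAV.Hom W.W A), Θ (φ ≫ (s : EndAV.Hom A A)) = s • Θ φ := fun s φ => by
    simp only [Θ, AddMonoidHom.coe_mk, ZeroHom.coe_mk, Finset.smul_sum, ← mul_smul]
    exact Finset.sum_congr rfl fun i _ => by rw [← Category.assoc]; rfl
  have hΘpr : ∀ j, Θ (W.pr j) = m j := fun j => by
    simp only [Θ, AddMonoidHom.coe_mk, ZeroHom.coe_mk]
    rw [Finset.sum_eq_single j (fun i _ hi => by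
      rw [W.inj_pr, if_neg hi]; exact zero_smul (EndAV.End A) _) (fun h => (h (Finset.mem_univ j)).elim),
      W.inj_pr, if_pos rfl]
    exact one_smul (EndAV.End A) _
  have hΘ : Function.Surjective Θ := fun x => by
    have hx : x ∈ Submodule.span ℤ (Set.range m) := by rw [hm]; trivial
    rw [Submodule.mem_span_range_iff_exists_fun] at hx
    obtain ⟨c, rfl⟩ := hx
    exact ⟨∑ i, c i • W.pr i, by simp only [map_sum, map_zsmul, hΘpr]⟩
  obtain ⟨t, r, hr⟩ := Submodule.fg_iff_exists_fin_generating_family.1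
    (IsNoetherian.noetherian (AddSubgroup.toIntSubmodule Θ.ker))
  obtain ⟨V⟩ := CogenLib.nonempty_pow A t
  obtain ⟨Y, hY, p, j, hp, hj, hjc, hps, hYp, hYg, hYc, hpj⟩ :=
    PoincareLib.exists_image_av (B := V.W) (V.lift r).toHom
  letI := hY
  haveI := hp; haveI := hj; haveI := hjc; haveI := hps; haveI := hYp; haveI := hYg; haveI := hYc
  obtain ⟨N, s, hN, hs, hsp⟩ := PoincareLib.exists_section p
  haveI := hs
  let p' := EndAV.Hom.of p
  let s' := EndAV.Hom.of s
  let j' := EndAV.Hom.of j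
  have hsp' : s' ≫ p' = N • 𝟙 (CommGrp.mk Y) := EndAV.Hom.ext (hsp.trans (EndAV.Hom.toHom_nsmul N (𝟙 (CommGrp.mk Y))).symm)
  let u : EndAV.Hom W.W W.W := N • 𝟙 (CommGrp.mk W.W) - p' ≫ s'
  have hup : u ≫ p' = 0 := by
    simp only [u, Preadditive.sub_comp, Preadditive.nsmul_comp, Category.id_comp, Category.assoc, hsp',
      Preadditive.comp_nsmul, Category.comp_id, sub_self]
  obtain ⟨X, hX, w, i, hw, hi, hic, hws, hXp, hXg, hXc, hwi⟩ := PoincareLib.exists_image_av (B := W.W) u.toHom
  letI := hX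
  haveI := hw; haveI := hi; haveI := hic; haveI := hws; haveI := hXp; haveI := hXg; haveI := hXc
  let i' := EndAV.Hom.of i
  let w' := EndAV.Hom.of w
  haveI : IsClosedImmersion i'.toHom.left := hic
  haveI : IsClosedImmersion j'.toHom.left := hjc
  have hwi' : w' ≫ i' = u := EndAV.Hom.ext hwi
  haveI : Mono i := (Over.forget _).mono_of_mono_map (show Mono i.left by infer_instance)
  have hXA : CogenLib.AnnFrob P X := hW.of_mono i
  have hYA : CogenLib.AnnFrob P Y := hW.of_surjective p
  let ρ : EndAV.Hom W.W A →+ EndAV.Hom X A :=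
    { toFun := fun φ => i' ≫ φ
      map_zero' := Limits.comp_zero
      map_add' := fun a b => Preadditive.comp_add _ _ _ _ _ _ }
  have hρ : Function.Surjective ρ := fun f => by
    obtain ⟨π₁, h₁, b₁, le₁, app₁, P₁⟩ := hXA.data
    obtain ⟨π₂, h₂, b₂, le₂, app₂, P₂⟩ := hW.data
    haveI := h₁; haveI := h₂
    exact hext X W.W π₁ b₁ le₁ app₁ P₁ π₂ b₂ le₂ app₂ P₂ i' f
  have hker : ∀ φ, Θ φ = 0 ↔ ρ φ = 0 := fun φ => by
    constructor
    · intro h
      have hφ : φ ∈ Submodule.span ℤ (Set.range r) := by rw [hr]; exact h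
      rw [Submodule.mem_span_range_iff_exists_fun] at hφ
      obtain ⟨c, rfl⟩ := hφ
      rw [map_sum]
      refine Finset.sum_eq_zero fun l _ => ?_
      rw [map_zsmul]
      have h0 : w' ≫ ρ (r l) = 0 := by
        show w' ≫ i' ≫ r l = 0
        rw [← Category.assoc, hwi', ← V.lift_pr r l, show V.lift r = p' ≫ j' from EndAV.Hom.ext hpj.symm,
          Category.assoc, ← Category.assoc, hup, Limits.zero_comp]
      have h1 : ρ (r l) = 0 := EndAV.Hom.ext (CogenLib.cancel_of_surjective w (by
        have h2 := congrArg EndAV.Hom.toHom h0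
        rw [EndAV.Hom.toHom_comp, EndAV.Hom.toHom_zero, EndAV.Hom.toHom_of] at h2
        rw [h2, EndAV.Hom.toHom_zero, MonObj.comp_one]))
      rw [h1, smul_zero]
    · intro h
      have h0 : u ≫ φ = 0 := by
        rw [← hwi', Category.assoc, show i' ≫ φ = 0 from h, Limits.comp_zero]
      have h1 : N • φ = p' ≫ s' ≫ φ := by
        simp only [u, Preadditive.sub_comp, Preadditive.nsmul_comp, Category.id_comp, sub_eq_zero,
          Category.assoc] at h0
        exact h0
      obtain ⟨π₁, h₁, b₁, le₁, app₁, P₁⟩ := hYA.data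
      obtain ⟨π₂, h₂, b₂, le₂, app₂, P₂⟩ := (V.annFrob hA).data
      haveI := h₁; haveI := h₂
      obtain ⟨g, hg⟩ := hext Y V.W π₁ b₁ le₁ app₁ P₁ π₂ b₂ le₂ app₂ P₂ j' (s' ≫ φ)
      rw [← hg, ← Category.assoc, show p' ≫ j' = V.lift r from EndAV.Hom.ext hpj, V.decomp g,
        Preadditive.comp_sum] at h1
      simp only [← Category.assoc _ (V.pr _), V.lift_pr] at h1
      have h2 : N • Θ φ = 0 := by
        rw [← map_nsmul, h1, map_sum]
        refine Finset.sum_eq_zero fun l _ => ?_
        have hl : r l ∈ AddSubgroup.toIntSubmodule Θ.ker := by rw [← hr]; exact Submodule.subset_span ⟨l, rfl⟩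
        rw [hΘs, show Θ (r l) = 0 from hl, smul_zero]
      haveI : Module.IsTorsionFree ℤ M := inferInstance
      rw [← natCast_zsmul, smul_eq_zero] at h2
      exact h2.resolve_left (by exact_mod_cast (Nat.one_le_iff_ne_zero.1 hN))
  have hk : Θ.ker = ρ.ker := AddSubgroup.ext fun φ => hker φ
  obtain ⟨π, hπ, hb, hle, happ, hP⟩ := hXA.data
  let e₁ := QuotientAddGroup.quotientKerEquivOfSurjective Θ hΘ
  let e₂ := QuotientAddGroup.quotientKerEquivOfSurjective ρ hρ
  let e : M ≃+ EndAV.Hom X A := (e₁.symm.trans (QuotientAddGroup.quotientAddEquivOfEq hk)).trans e₂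
  refine ⟨X, hX, hXc, hXp, hXg, π, hπ, hb, hle, happ, hP, e, fun s x => ?_⟩
  obtain ⟨φ, rfl⟩ := hΘ x
  have he : ∀ φ, e (Θ φ) = ρ φ := fun φ => by
    show e₂ (QuotientAddGroup.quotientAddEquivOfEq hk (e₁.symm (Θ φ))) = ρ φ
    rw [show e₁.symm (Θ φ) = (φ : EndAV.Hom W.W A ⧸ Θ.ker) from e₁.symm_apply_eq.2 rfl]
    rfl
  rw [← hΘs, he, he]
  show EndAV.Hom.toHom (i' ≫ φ ≫ (s : EndAV.Hom A A)) = _
  rw [← Category.assoc]
  rfl

end Groth.Agent.S16391
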