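import Groth.Statements.S16393
import Groth.Agent.CogenLib.Power
import Groth.Agent.CogenLib.Ker

set_option autoImplicit false
universe u
open CategoryTheory MonoidalCategory CartesianMonoidalCategory MonObj GrpObj AlgebraicGeometry
open AbVar

namespace Groth.Agent.S16393

open CategoryTheory CategoryTheory.Limits AlgebraicGeometry

open Groth.Agent
set_option backward.isDefEq.respectTransparency false

/-- (a₁) ⇒ (b₁): let k be a finite field with q elements and fix a polynomial P with integer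
coefficients. Work with abelian varieties over k (proper, geometrically integral commutative group
schemes over k) with their q-Frobenius endomorphism π (identity on points, q-th power on sections; a
homomorphism) such that P(π) = 0 in the endomorphism ring (for suitable P: the abelian varieties
with Weil support in a given finite set of Weil q-numbers); let A be one of them. Assume (a₁): the
functor X ↦ Hom(X, A), with values in left End(A)-modules (End(A) acting by postcomposition), is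
fully faithful on these abelian varieties — for such X, Y, two homomorphisms X → Y agreeing after
composition with every homomorphism Y → A are equal, and every additive End(A)-linear map Hom(Y, A)
→ Hom(X, A) is precomposition with a homomorphism X → Y. Then (b₁): for such X and every finite
closed subgroup scheme H ⊆ X, H equals the common kernel of the homomorphisms X → A vanishing on H;
on points: a T-valued point of X over k which is sent to the unit by every homomorphism X → A
killing H factors through H. -/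
theorem result
    (k : Type u) [Field k] [Finite k]
    (P : Polynomial ℤ) (A : Over (Spec (CommRingCat.of k))) [GrpObj A] [IsCommMonObj A] [IsProper A.hom] [GeometricallyIntegral A.hom]
    (πA : A ⟶ A) [IsMonHom πA] (hπAb : πA.left.base = 𝟙 _) (hπAle : ∀ U : A.left.Opens, U ≤ πA.left ⁻¹ᵁ U)
      (hπAapp : ∀ (U : A.left.Opens) (s : Γ(A.left, U)), (πA.left.appLE U U (hπAle U)).hom s = s ^ Nat.card k)
    (hPA : Polynomial.eval₂ (Int.castRingHom (EndAV.End A)) (EndAV.End.of πA) P = 0)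
    (hff : ∀ (X Y : Over (Spec (CommRingCat.of k))) [GrpObj X] [IsCommMonObj X] [IsProper X.hom] [GeometricallyIntegral X.hom]
      [GrpObj Y] [IsCommMonObj Y] [IsProper Y.hom] [GeometricallyIntegral Y.hom]
      (πX : X ⟶ X) [IsMonHom πX] (hπXb : πX.left.base = 𝟙 _) (hπXle : ∀ U : X.left.Opens, U ≤ πX.left ⁻¹ᵁ U)
      (hπXapp : ∀ (U : X.left.Opens) (s : Γ(X.left, U)), (πX.left.appLE U U (hπXle U)).hom s = s ^ Nat.card k)
      (hPX : Polynomial.eval₂ (Int.castRingHom (EndAV.End X)) (EndAV.End.of πX) P = 0)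
      (πY : Y ⟶ Y) [IsMonHom πY] (hπYb : πY.left.base = 𝟙 _) (hπYle : ∀ U : Y.left.Opens, U ≤ πY.left ⁻¹ᵁ U)
      (hπYapp : ∀ (U : Y.left.Opens) (s : Γ(Y.left, U)), (πY.left.appLE U U (hπYle U)).hom s = s ^ Nat.card k)
      (hPY : Polynomial.eval₂ (Int.castRingHom (EndAV.End Y)) (EndAV.End.of πY) P = 0),
      (∀ f g : EndAV.Hom X Y, (∀ φ : EndAV.Hom Y A, f ≫ φ = g ≫ φ) → f = g) ∧
        (∀ g : EndAV.Hom Y A →+ EndAV.Hom X A,
          (∀ (φ : EndAV.Hom Y A) (s : EndAV.Hom A A), g (φ ≫ s) = g φ ≫ s) →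
            ∃ f : EndAV.Hom X Y, ∀ φ : EndAV.Hom Y A, g φ = f ≫ φ))
    (X : Over (Spec (CommRingCat.of k))) [GrpObj X] [IsCommMonObj X] [IsProper X.hom] [GeometricallyIntegral X.hom]
    (πX : X ⟶ X) [IsMonHom πX] (hπXb : πX.left.base = 𝟙 _) (hπXle : ∀ U : X.left.Opens, U ≤ πX.left ⁻¹ᵁ U)
      (hπXapp : ∀ (U : X.left.Opens) (s : Γ(X.left, U)), (πX.left.appLE U U (hπXle U)).hom s = s ^ Nat.card k)
    (hPX : Polynomial.eval₂ (Int.castRingHom (EndAV.End X)) (EndAV.End.of πX) P = 0)
    (H : Over (Spec (CommRingCat.of k))) [GrpObj H] [IsFinite H.hom] (i : H ⟶ X) [IsMonHom i] [IsClosedImmersion i.left]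
    (T : Over (Spec (CommRingCat.of k))) (x : T ⟶ X)
    (hx : ∀ f : EndAV.Hom X A, i ≫ f.toHom = 1 → x ≫ f.toHom = 1) :
    ∃ y : T ⟶ H, y ≫ i = x := by
  have hA : CogenLib.AnnFrob P A := .mk' πA hπAb hπAle hπAapp hPA
  have hX : CogenLib.AnnFrob P X := .mk' πX hπXb hπXle hπXapp hPX
  obtain ⟨Q, hQ, q, hq, hQp, hQg, hQc, hqs, hiq, hkq⟩ := CogenLib.exists_quotient_av i
  letI := hQ
  haveI := hq; haveI := hQp; haveI := hQg; haveI := hQc; haveI := hqs
  have hQA := hX.of_surjective q
  haveI := (AVHomLib.finite_hom Q A).1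
  obtain ⟨n, φ, hφ⟩ := Module.Finite.exists_fin (R := ℤ) (M := EndAV.Hom Q A)
  obtain ⟨W⟩ := CogenLib.nonempty_pow A n
  obtain ⟨K, hK, a, ha, hac, hak, hka⟩ := CogenLib.exists_ker (W.lift φ).toHom
  letI := hK
  haveI := ha; haveI := hac
  obtain ⟨C, hC, r, hr, hCp, hCg, hCc, hrs, har, hkr⟩ := CogenLib.exists_quotient_av a
  letI := hC
  haveI := hr; haveI := hCp; haveI := hCg; haveI := hCc; haveI := hrs
  have hCA := hQA.of_surjective r
  have hdesc : ∀ ψ : EndAV.Hom Q A, ∃ ψ' : EndAV.Hom C A, EndAV.Hom.of r ≫ ψ' = ψ := by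
    intro ψ
    obtain ⟨ψ', hψ', e⟩ := CogenLib.exists_desc_hom r ψ.toHom fun S y hy => by
      obtain ⟨z, rfl⟩ := hkr S y hy
      have hz : ∀ l, (z ≫ a) ≫ (φ l).toHom = 1 := fun l => by
        rw [← W.lift_pr φ l, EndAV.Hom.toHom_comp, Category.assoc, ← Category.assoc a,
          hak, MonObj.one_comp, MonObj.comp_one]
      have hψ : ψ ∈ Submodule.span ℤ (Set.range φ) := by rw [hφ]; trivial
      clear hy
      induction hψ using Submodule.span_induction with
      | mem _ h => obtain ⟨l, rfl⟩ := h; exact hz l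
      | zero => exact MonObj.comp_one _
      | add _ _ _ _ h₁ h₂ => rw [EndAV.Hom.toHom_add, MonObj.comp_mul, h₁, h₂, _root_.one_mul]
      | smul c _ _ h₁ => rw [EndAV.Hom.toHom_zsmul, GrpObj.comp_zpow, h₁, one_zpow]
    haveI := hψ'
    exact ⟨EndAV.Hom.of ψ', EndAV.Hom.ext e⟩
  choose g hg using hdesc
  let r' := EndAV.Hom.of r
  have hinj : ∀ x y : EndAV.Hom C A, r' ≫ x = r' ≫ y → x = y := fun x y h =>
    EndAV.Hom.ext (CogenLib.cancel_of_surjective r (congrArg EndAV.Hom.toHom h))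
  obtain ⟨π₁, h₁, b₁, le₁, app₁, P₁⟩ := hQA.data
  obtain ⟨π₂, h₂, b₂, le₂, app₂, P₂⟩ := hCA.data
  haveI := h₁; haveI := h₂
  obtain ⟨s, hs⟩ := (hff C Q π₂ b₂ le₂ app₂ P₂ π₁ b₁ le₁ app₁ P₁).2
    { toFun := g
      map_zero' := hinj _ _ (by rw [hg, Limits.comp_zero])
      map_add' := fun x y => hinj _ _ (by rw [hg, Preadditive.comp_add, hg, hg]) }
    fun ψ t => hinj _ _ (by
      show r' ≫ g (ψ ≫ t) = r' ≫ g ψ ≫ t
      rw [hg, ← Category.assoc, hg])
  have hrs' : r' ≫ s = 𝟙 _ :=
    (hff Q Q π₁ b₁ le₁ app₁ P₁ π₁ b₁ le₁ app₁ P₁).1 _ _ fun ψ => by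
      rw [Category.assoc, ← hs ψ, Category.id_comp]
      exact hg ψ
  have hxq : ∀ l, (x ≫ q) ≫ (φ l).toHom = 1 := fun l => by
    rw [Category.assoc]
    exact hx (EndAV.Hom.of q ≫ φ l) (by
      rw [EndAV.Hom.toHom_comp, EndAV.Hom.toHom_of, ← Category.assoc, hiq, MonObj.one_comp])
  obtain ⟨z, hz⟩ := hka _ (x ≫ q) (W.mono _ _ _ fun l => by
    rw [Category.assoc, ← EndAV.Hom.toHom_comp, W.lift_pr, MonObj.one_comp]
    exact hxq l)
  refine hkq T x ?_
  calc x ≫ q = (z ≫ a) ≫ EndAV.Hom.toHom (r' ≫ s) := by rw [hrs', EndAV.Hom.toHom_id, Category.comp_id, hz]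
    _ = 1 := by
      rw [EndAV.Hom.toHom_comp, EndAV.Hom.toHom_of, Category.assoc, ← Category.assoc a, har, MonObj.one_comp,
        MonObj.comp_one]

end Groth.Agent.S16393
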