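import Groth.Statements.S16394
import Mathlib

set_option autoImplicit false
universe u
open CategoryTheory MonoidalCategory CartesianMonoidalCategory MonObj GrpObj AlgebraicGeometry
open AbVar

namespace Groth.Agent.S16394

open CategoryTheory CategoryTheory.Limits AlgebraicGeometry MonoidalCategory CartesianMonoidalCategory
open scoped MonObj
set_option backward.isDefEq.respectTransparency false
set_option maxHeartbeats 800000

lemma exists_maximal_finset_iSup {X : Scheme.{u}} [IsLocallyNoetherian X] [CompactSpace X] {α : Type*}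
    (I : α → X.IdealSheafData) : ∃ F : Finset α, ∀ i, I i ≤ F.sup I := by
  classical
  obtain ⟨s, hs, hcov⟩ : ∃ s : Set X.affineOpens, s.Finite ∧ ⨆ U : s, (U.1.1 : X.Opens) = ⊤ := by
    obtain ⟨t, ht⟩ := isCompact_univ.elim_finite_subcover (fun U : X.affineOpens => (U.1 : Set X))
      (fun U => U.1.isOpen) fun x _ => by
        obtain ⟨V, hV, hx, -⟩ := X.isBasis_affineOpens.exists_subset_of_mem_open (Set.mem_univ x) isOpen_univ
        obtain ⟨W, hW, rfl⟩ := hV
        exact Set.mem_iUnion.2 ⟨⟨W, hW⟩, hx⟩
    refine ⟨↑t, t.finite_toSet, eq_top_iff.2 fun y _ => ?_⟩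
    obtain ⟨U, hU, hy⟩ := Set.mem_iUnion₂.1 (ht (Set.mem_univ y))
    exact TopologicalSpace.Opens.mem_iSup.2 ⟨⟨U, hU⟩, hy⟩
  haveI := hs.to_subtype
  haveI : ∀ U : s, IsNoetherianRing Γ(X, U.1.1) := fun U => IsLocallyNoetherian.component_noetherian U.1
  haveI : ∀ U : s, WellFoundedGT (Ideal Γ(X, U.1.1)) := fun U => inferInstance
  let P : Finset α → ∀ U : s, Ideal Γ(X, U.1.1) := fun F U => (F.sup I).ideal U.1
  haveI : WellFoundedGT (∀ U : s, Ideal Γ(X, U.1.1)) :=
    ⟨InvImage.wf (fun g (U : s) => OrderDual.toDual (g U))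
      (Pi.wellFoundedLT (α := fun U : s => (Ideal Γ(X, U.1.1))ᵒᵈ)).wf |>.mono fun a b h => ⟨fun U => h.1 U, fun h' => h.2 fun U => h' U⟩⟩
  obtain ⟨_, ⟨F, rfl⟩, hmax⟩ := wellFounded_gt.has_min (Set.range P) ⟨_, ∅, rfl⟩
  refine ⟨F, fun i => ?_⟩
  have hle : F.sup I ≤ (insert i F).sup I := Finset.sup_mono (Finset.subset_insert _ _)
  have heq : P F = P (insert i F) := by
    by_contra hne
    exact hmax (P (insert i F)) ⟨_, rfl⟩ (lt_of_le_of_ne (fun U => hle U.1) hne)
  have : F.sup I = (insert i F).sup I :=
    Scheme.IdealSheafData.ext_of_iSup_eq_top (fun U : s => U.1) hcov fun U => congrFun heq U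
  rw [this]
  exact Finset.le_sup (Finset.mem_insert_self i F)

/-- (b₁) ⇒ (c₁): let k be a finite field and X, A abelian varieties over k (proper, geometrically
integral commutative group schemes over k). Suppose the common kernel of all homomorphisms X → A is
trivial: every T-valued point of X over k that is sent to the unit by every homomorphism X → A is
the unit point (this is condition (b₁) for the trivial subgroup). Then there are finitely many
homomorphisms ψ_1, …, ψ_n : X → A which are jointly monomorphic on T-valued points — two T-valued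
points of X with the same image under every ψ_i are equal — so that (ψ_i) is an injective
homomorphism X → A^n. The published statement restricts X and A to abelian varieties whose Frobenius
is killed by a fixed polynomial; this row has no such restriction. -/
theorem result
    (k : Type u) [Field k] [Finite k] (X A : Over (Spec (CommRingCat.of k))) [GrpObj X] [IsCommMonObj X] [IsProper X.hom] [GeometricallyIntegral X.hom]
    [GrpObj A] [IsCommMonObj A] [IsProper A.hom] [GeometricallyIntegral A.hom]
    (hsep : ∀ (T : Over (Spec (CommRingCat.of k))) (x : T ⟶ X), (∀ f : EndAV.Hom X A, x ≫ f.toHom = 1) → x = 1) :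
    ∃ (n : ℕ) (ψ : Fin n → EndAV.Hom X A), ∀ (T : Over (Spec (CommRingCat.of k))) (x y : T ⟶ X),
      (∀ i, x ≫ (ψ i).toHom = y ≫ (ψ i).toHom) → x = y := by
  classical
  haveI : LocallyOfFiniteType X.hom := inferInstance
  haveI : IsLocallyNoetherian X.left := LocallyOfFiniteType.isLocallyNoetherian X.hom
  haveI : CompactSpace X.left := QuasiCompact.compactSpace_of_compactSpace X.hom
  let e : Spec (CommRingCat.of k) ⟶ A.left := (MonObj.one (X := A)).left
  haveI : IsClosedImmersion e :=
    have : IsClosedImmersion (e ≫ A.hom) := by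
      rw [show e ≫ A.hom = 𝟙 _ from Over.w (MonObj.one (X := A))]
      infer_instance
    IsClosedImmersion.of_comp e A.hom
  let I : EndAV.Hom X A → X.left.IdealSheafData := fun f => (pullback.fst f.toHom.left e).ker
  have key : ∀ (f : EndAV.Hom X A) (T : Over (Spec (CommRingCat.of k))) (z : T ⟶ X),
      z ≫ f.toHom = 1 ↔ I f ≤ z.left.ker := by
    intro f T z
    constructor
    · intro h
      have h1 : z.left ≫ f.toHom.left = T.hom ≫ e := (congrArg CommaMorphism.left h).trans rfl
      rw [← pullback.lift_fst (f := f.toHom.left) (g := e) z.left T.hom h1]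
      exact Scheme.Hom.le_ker_comp _ _
    · intro h
      have h1 := IsClosedImmersion.lift_fac (pullback.fst f.toHom.left e) z.left h
      refine Over.OverMorphism.ext ?_
      show z.left ≫ f.toHom.left = T.hom ≫ e
      rw [← h1, Category.assoc, pullback.condition, ← Category.assoc]
      congr 1
      have h2 := (congrArg (· ≫ A.hom) (pullback.condition (f := f.toHom.left) (g := e)))
      simp only [Category.assoc, Over.w] at h2
      rw [show e ≫ A.hom = 𝟙 _ from Over.w (MonObj.one (X := A)), Category.comp_id] at h2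
      rw [← h2, ← Category.assoc, h1, Over.w]
  obtain ⟨F, hF⟩ := exists_maximal_finset_iSup I
  refine ⟨F.card, fun i => (F.equivFin.symm i).1, fun T x y hxy => ?_⟩
  let K := F.sup I
  let T₀ : Over (Spec (CommRingCat.of k)) := Over.mk (K.subschemeι ≫ X.hom)
  let j : T₀ ⟶ X := Over.homMk K.subschemeι rfl
  have hj : j = 1 := hsep T₀ j fun f => (key f T₀ j).2 (by
    show I f ≤ K.subschemeι.ker
    rw [Scheme.IdealSheafData.ker_subschemeι]
    exact hF f)
  have hz : K ≤ (x / y).left.ker := Finset.sup_le fun f hf => (key f T (x / y)).1 (by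
    rw [GrpObj.div_comp]
    have := hxy (F.equivFin ⟨f, hf⟩)
    simp only [Equiv.symm_apply_apply] at this
    rw [this, div_self'])
  let h : T ⟶ T₀ := Over.homMk (IsClosedImmersion.lift K.subschemeι (x / y).left (by
    rw [Scheme.IdealSheafData.ker_subschemeι]; exact hz)) (by
    show _ ≫ K.subschemeι ≫ X.hom = _
    rw [← Category.assoc, IsClosedImmersion.lift_fac, Over.w])
  have hzero : x / y = h ≫ j := Over.OverMorphism.ext (IsClosedImmersion.lift_fac _ _ _).symm
  rw [hj, MonObj.comp_one] at hzero
  exact div_eq_one.1 hzero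

end Groth.Agent.S16394
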