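import Groth.Statements.S16395
import Groth.Agent.CogenLib.Power
import Groth.Agent.CogenLib.Ker
import Groth.Agent.PoincareLib.Reduce

set_option autoImplicit false
universe u
open CategoryTheory MonoidalCategory CartesianMonoidalCategory MonObj GrpObj AlgebraicGeometry
open AbVar

namespace Groth.Agent.S16395

open CategoryTheory CategoryTheory.Limits AlgebraicGeometry

open Groth.Agent
set_option backward.isDefEq.respectTransparency false

/-- (a) ⇒ (b₂): let k be a finite field with q elements and fix a polynomial P with integer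
coefficients. Work with abelian varieties over k (proper, geometrically integral commutative group
schemes over k) with their q-Frobenius endomorphism π (identity on points, q-th power on sections; a
homomorphism) such that P(π) = 0 in the endomorphism ring (for suitable P: the abelian varieties
with Weil support in a given finite set of Weil q-numbers); let A be one of them and S = End(A)
(product = composition), acting on each Hom(X, A) by postcomposition. Assume (a): the functor X ↦
Hom(X, A) is an anti-equivalence from these abelian varieties onto left S-modules free of finite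
rank over ℤ — (a₁) for such X, Y, homomorphisms X → Y agreeing after composition with every
homomorphism Y → A are equal and every additive S-linear map Hom(Y, A) → Hom(X, A) is precomposition
with a homomorphism X → Y; (a₂) every left S-module whose additive group is free of finite rank over
ℤ is additively and S-linearly isomorphic to Hom(Y, A) for some such Y. Then (b₂): for every such X
and every additive subgroup M ⊆ Hom(X, A) of finite index stable under postcomposition with
endomorphisms of A, a homomorphism f : X → A lies in M as soon as it kills the common kernel of M,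
i.e. every T-valued point of X over k sent to the unit by all members of M is sent to the unit by f. -/
theorem result
    (k : Type u) [Field k] [Finite k]
    (P : Polynomial ℤ) (A : Over (Spec (CommRingCat.of k))) [GrpObj A] [IsCommMonObj A] [IsProper A.hom] [GeometricallyIntegral A.hom]
    (πA : A ⟶ A) [IsMonHom πA] (hπAb : πA.left.base = 𝟙 _) (hπAle : ∀ U : A.left.Opens, U ≤ πA.left ⁻¹ᵁ U)
      (hπAapp : ∀ (U : A.left.Opens) (s : Γ(A.left, U)), (πA.left.appLE U U (hπAle U)).hom s = s ^ Nat.card k)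
    (hPA : Polynomial.eval₂ (Int.castRingHom (EndAV.End A)) (EndAV.End.of πA) P = 0)
    (hff : ∀ (X Y : Over (Spec (CommRingCat.of k))) [GrpObj X] [IsCommMonObj X] [IsProper X.hom] [GeometricallyIntegral X.hom]
      [GrpObj Y] [IsCommMonObj Y] [IsProper Y.hom] [GeometricallyIntegral Y.hom]
      (πX : X ⟶ X) [IsMonHom πX] (hπXb : πX.left.base = 𝟙 _) (hπXle : ∀ U : X.left.Opens, U ≤ πX.left ⁻¹ᵁ U)
      (hπXapp : ∀ (U : X.left.Opens) (s : Γ(X.left, U)), (πX.left.appLE U U (hπXle U)).hom s = s ^ Nat.card k)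
      (hPX : Polynomial.eval₂ (Int.castRingHom (EndAV.End X)) (EndAV.End.of πX) P = 0)
      (πY : Y ⟶ Y) [IsMonHom πY] (hπYb : πY.left.base = 𝟙 _) (hπYle : ∀ U : Y.left.Opens, U ≤ πY.left ⁻¹ᵁ U)
      (hπYapp : ∀ (U : Y.left.Opens) (s : Γ(Y.left, U)), (πY.left.appLE U U (hπYle U)).hom s = s ^ Nat.card k)
      (hPY : Polynomial.eval₂ (Int.castRingHom (EndAV.End Y)) (EndAV.End.of πY) P = 0),
      (∀ f g : EndAV.Hom X Y, (∀ φ : EndAV.Hom Y A, f ≫ φ = g ≫ φ) → f = g) ∧
        (∀ g : EndAV.Hom Y A →+ EndAV.Hom X A,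
          (∀ (φ : EndAV.Hom Y A) (s : EndAV.Hom A A), g (φ ≫ s) = g φ ≫ s) →
            ∃ f : EndAV.Hom X Y, ∀ φ : EndAV.Hom Y A, g φ = f ≫ φ))
    (hes : ∀ (M : Type u) [AddCommGroup M] [Module (EndAV.End A) M] [Module.Finite ℤ M] [Module.Free ℤ M],
      ∃ (Y : Over (Spec (CommRingCat.of k))) (_ : GrpObj Y) (_ : IsCommMonObj Y) (_ : IsProper Y.hom)
        (_ : GeometricallyIntegral Y.hom) (πY : Y ⟶ Y) (_ : IsMonHom πY) (_ : πY.left.base = 𝟙 _)
        (hπYle : ∀ U : Y.left.Opens, U ≤ πY.left ⁻¹ᵁ U)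
        (_ : ∀ (U : Y.left.Opens) (s : Γ(Y.left, U)), (πY.left.appLE U U (hπYle U)).hom s = s ^ Nat.card k)
        (_ : Polynomial.eval₂ (Int.castRingHom (EndAV.End Y)) (EndAV.End.of πY) P = 0)
        (e : M ≃+ EndAV.Hom Y A), ∀ (s : EndAV.End A) (m : M), (e (s • m)).toHom = (e m).toHom ≫ s.toHom)
    (X : Over (Spec (CommRingCat.of k))) [GrpObj X] [IsCommMonObj X] [IsProper X.hom] [GeometricallyIntegral X.hom]
    (πX : X ⟶ X) [IsMonHom πX] (hπXb : πX.left.base = 𝟙 _) (hπXle : ∀ U : X.left.Opens, U ≤ πX.left ⁻¹ᵁ U)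
      (hπXapp : ∀ (U : X.left.Opens) (s : Γ(X.left, U)), (πX.left.appLE U U (hπXle U)).hom s = s ^ Nat.card k)
    (hPX : Polynomial.eval₂ (Int.castRingHom (EndAV.End X)) (EndAV.End.of πX) P = 0)
    (M : AddSubgroup (EndAV.Hom X A)) (hM : M.FiniteIndex) (hMS : ∀ r ∈ M, ∀ s : EndAV.Hom A A, r ≫ s ∈ M)
    (f : EndAV.Hom X A)
    (hf : ∀ (T : Over (Spec (CommRingCat.of k))) (x : T ⟶ X), (∀ r ∈ M, x ≫ EndAV.Hom.toHom r = 1) → x ≫ f.toHom = 1) :
    f ∈ M := by
  haveI := (AVHomLib.finite_hom X A).1
  haveI := (AVHomLib.finite_hom X A).2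
  letI : SMul (EndAV.End A) M := ⟨fun s m => ⟨(m : EndAV.Hom X A) ≫ (s : EndAV.Hom A A), hMS _ m.2 s⟩⟩
  letI : Module (EndAV.End A) M :=
    { one_smul := fun m => Subtype.ext (Category.comp_id _)
      mul_smul := fun s t m => Subtype.ext (Category.assoc _ _ _).symm
      smul_zero := fun s => Subtype.ext Limits.zero_comp
      smul_add := fun s a b => Subtype.ext (Preadditive.add_comp _ _ _ _ _ _)
      add_smul := fun s t m => Subtype.ext (Preadditive.comp_add _ _ _ _ _ _)
      zero_smul := fun m => Subtype.ext Limits.comp_zero }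
  haveI : Module.Finite ℤ M := inferInstanceAs (Module.Finite ℤ (AddSubgroup.toIntSubmodule M))
  haveI : Module.Free ℤ M := inferInstanceAs (Module.Free ℤ (AddSubgroup.toIntSubmodule M))
  obtain ⟨Y, hY, hYc, hYp, hYg, πY, hπY, hYb, hYle, hYapp, hPY, e, he⟩ := hes M
  letI := hY
  haveI := hYc; haveI := hYp; haveI := hYg; haveI := hπY
  have he' : ∀ (φ : EndAV.Hom Y A) (s : EndAV.Hom A A),
      (e.symm (φ ≫ s) : EndAV.Hom X A) = (e.symm φ : EndAV.Hom X A) ≫ s := by
    intro φ s
    obtain ⟨m, rfl⟩ := e.surjective φ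
    rw [e.symm_apply_apply, show e m ≫ s = e ((show EndAV.End A from s) • m) from EndAV.Hom.ext (he s m).symm,
      e.symm_apply_apply]
    rfl
  obtain ⟨h, hh⟩ := (hff X Y πX hπXb hπXle hπXapp hPX πY hYb hYle hYapp hPY).2
    (M.subtype.comp e.symm.toAddMonoidHom) he'
  have hinj : ∀ φ : EndAV.Hom Y A, h ≫ φ = 0 → φ = 0 := fun φ hφ => by
    rw [← hh φ] at hφ
    exact (AddEquiv.map_eq_zero_iff e.symm).1 (Subtype.ext hφ)
  obtain ⟨Y', hY', p, j, hp, hj, hjc, hps, hYp', hYg', hYc', hpj⟩ := PoincareLib.exists_image_av (B := Y) h.toHom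
  letI := hY'
  haveI := hp; haveI := hj; haveI := hjc; haveI := hps; haveI := hYp'; haveI := hYg'; haveI := hYc'
  obtain ⟨N, r, hN, hr, hjr⟩ := PoincareLib.exists_retraction j
  haveI := hr
  have hhN : h ≫ EndAV.Hom.of r ≫ EndAV.Hom.of j = N • h := by
    rw [show h = EndAV.Hom.of p ≫ EndAV.Hom.of j from EndAV.Hom.ext hpj.symm, Category.assoc,
      ← Category.assoc (EndAV.Hom.of j), show EndAV.Hom.of j ≫ EndAV.Hom.of r = N • 𝟙 (CommGrp.mk Y') from
        EndAV.Hom.ext (hjr.trans (EndAV.Hom.toHom_nsmul N (𝟙 (CommGrp.mk Y'))).symm), Preadditive.nsmul_comp,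
      Category.id_comp, Preadditive.comp_nsmul]
  have hrj : EndAV.Hom.of r ≫ EndAV.Hom.of j = N • 𝟙 (CommGrp.mk Y) :=
    (hff Y Y πY hYb hYle hYapp hPY πY hYb hYle hYapp hPY).1 _ _ fun φ => sub_eq_zero.1 (hinj _ (by
      rw [Preadditive.comp_sub, ← Category.assoc h, hhN, Preadditive.nsmul_comp, Preadditive.nsmul_comp,
        Category.id_comp, Preadditive.comp_nsmul, sub_self]))
  haveI : Surjective j.left := by
    haveI : Surjective (r.left ≫ j.left) := by
      have e1 := congrArg EndAV.Hom.toHom hrj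
      rw [EndAV.Hom.toHom_comp, EndAV.Hom.toHom_of, EndAV.Hom.toHom_of, EndAV.Hom.toHom_nsmul,
        EndAV.Hom.toHom_id] at e1
      rw [← Over.comp_left, e1]
      exact AVLib.surjective_npow (A := Y) N hN
    exact Surjective.of_comp r.left j.left
  haveI : Surjective h.toHom.left := by rw [← hpj, Over.comp_left]; infer_instance
  obtain ⟨f', hf', e'⟩ := CogenLib.exists_desc_hom h.toHom f.toHom fun T x hx => hf T x fun m hm => by
    rw [show m = h ≫ e ⟨m, hm⟩ from (congrArg Subtype.val (e.symm_apply_apply ⟨m, hm⟩)).symm.trans (hh _),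
      EndAV.Hom.toHom_comp, ← Category.assoc, hx, MonObj.one_comp]
  haveI := hf'
  rw [show f = h ≫ EndAV.Hom.of f' from EndAV.Hom.ext e'.symm, ← hh]
  exact (e.symm (EndAV.Hom.of f')).2

end Groth.Agent.S16395
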