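import Groth.Statements.S16396
import Mathlib

set_option autoImplicit false
universe u
open CAlg

namespace Groth.Agent.S16396

open Polynomial in
/-- For a commutative ℚ-algebra A, a ℚ-subalgebra B of the polynomial algebra A[X] that contains X and
is closed under d/dX consists exactly of the polynomials each of whose coefficients is the value at
0 of some element of B; in other words B = ev(B)[X], with ev the evaluation at 0. -/
theorem result
    (A : Type u) [CommRing A] [Algebra ℚ A] (B : Subalgebra ℚ A[X])
    (hX : (X : A[X]) ∈ B) (hD : ∀ P ∈ B, Polynomial.derivative P ∈ B) (P : A[X]) :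
    P ∈ B ↔ ∀ i : ℕ, ∃ Q ∈ B, Polynomial.eval 0 Q = P.coeff i := by
  have hC : ∀ d, ∀ Q ∈ B, Q.natDegree ≤ d → ∀ i, Polynomial.C (Q.coeff i) ∈ B := by
    intro d
    induction d with
    | zero =>
      intro Q hQ hd i
      rw [Polynomial.eq_C_of_natDegree_le_zero hd] at hQ
      rcases i with _ | i
      · exact hQ
      · rw [Polynomial.coeff_eq_zero_of_natDegree_lt (by omega)]; simp
    | succ d ih =>
      intro Q hQ hd
      have hsucc : ∀ i, Polynomial.C (Q.coeff (i+1)) ∈ B := by
        intro i
        have h := ih _ (hD Q hQ) ((Polynomial.natDegree_derivative_le Q).trans (by omega)) i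
        rw [Polynomial.coeff_derivative] at h
        have h2 := B.smul_mem h ((i + 1 : ℚ)⁻¹)
        rw [Polynomial.smul_C, Algebra.smul_def, show (algebraMap ℚ A) ((i + 1 : ℚ)⁻¹) * (Q.coeff (i+1) * (↑i + 1)) = Q.coeff (i+1) * algebraMap ℚ A ((i + 1 : ℚ)⁻¹ * (i + 1)) by simp only [map_mul, map_add, map_natCast, map_one]; ring, inv_mul_cancel₀ (by positivity), map_one, mul_one] at h2
        exact h2
      intro i
      rcases i with _ | i
      · have h0 : Polynomial.C (Q.coeff 0) = Q - Polynomial.X * Q.divX := eq_sub_of_add_eq (by rw [add_comm]; exact Polynomial.X_mul_divX_add Q)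
        rw [h0]
        refine sub_mem hQ (mul_mem hX ?_)
        rw [Q.divX.as_sum_range_C_mul_X_pow]
        exact sum_mem fun j _ => mul_mem (by rw [Polynomial.coeff_divX]; exact hsucc j) (pow_mem hX j)
      · exact hsucc i
  constructor
  · intro hP i
    exact ⟨_, hC _ P hP le_rfl i, Polynomial.eval_C⟩
  · intro h
    rw [P.as_sum_range_C_mul_X_pow]
    refine sum_mem fun i _ => mul_mem ?_ (pow_mem hX i)
    obtain ⟨Q, hQ, hQi⟩ := h i
    rw [← hQi, ← Polynomial.coeff_zero_eq_eval_zero]
    exact hC _ Q hQ le_rfl 0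

end Groth.Agent.S16396
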