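import Groth.Statements.S16400
import Mathlib

set_option autoImplicit false
universe u v
open CAlgX

namespace Groth.Agent.S16400
theorem exists_cols {K : Type u} [Field K] {I J : Type v} [Fintype I] [Fintype J] [DecidableEq J] (B : Matrix I J K) :
    ∃ s : Finset J, s.card = B.rank ∧ (B.submatrix id (Subtype.val : ↥s → J)).rank = B.rank := by
  obtain ⟨t, -, -, hspan, hli⟩ := exists_linearIndepOn_extension (K := K) (v := B.col) (s := ∅)
    (linearIndepOn_empty K B.col) (Set.subset_univ _)
  have e : Submodule.span K (B.col '' t) = Submodule.span K (Set.range B.col) :=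
    le_antisymm (Submodule.span_mono (Set.image_subset_range _ _))
      (Submodule.span_le.2 (by rw [← Set.image_univ]; exact hspan))
  haveI : Fintype t := Fintype.ofFinite t
  have hli' : LinearIndependent K fun j : ↥t.toFinset => B.col j.1 :=
    hli.linearIndependent.comp (fun j : ↥t.toFinset => (⟨j.1, Set.mem_toFinset.1 j.2⟩ : t))
      fun a b h => Subtype.ext (congrArg (fun x : t => x.1) h)
  have e2 : Set.range (B.submatrix id (Subtype.val : ↥t.toFinset → J)).col = B.col '' t := by
    ext x
    constructor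
    · rintro ⟨⟨j, hj⟩, rfl⟩
      exact ⟨j, Set.mem_toFinset.1 hj, rfl⟩
    · rintro ⟨j, hj, rfl⟩
      exact ⟨⟨j, Set.mem_toFinset.2 hj⟩, rfl⟩
  refine ⟨t.toFinset, ?_, by rw [Matrix.rank_eq_finrank_span_cols, Matrix.rank_eq_finrank_span_cols, ← e, e2]⟩
  rw [Matrix.rank_eq_finrank_span_cols, ← e, ← e2]
  exact ((finrank_span_eq_card hli').trans (Fintype.card_coe _)).symm

theorem bij_of_rank {K : Type u} [Field K] {I J : Type v} [Fintype I] [Fintype J] (B : Matrix I J K)
    (hI : Fintype.card I = B.rank) (hJ : Fintype.card J = B.rank) : Function.Bijective B.mulVecLin := by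
  have hs : Function.Surjective B.mulVecLin := LinearMap.range_eq_top.1
    (Submodule.eq_top_of_finrank_eq (by rw [Module.finrank_pi]; exact hI.symm))
  exact ⟨(LinearMap.injective_iff_surjective_of_finrank_eq_finrank
    (by rw [Module.finrank_pi, Module.finrank_pi, hI, hJ])).2 hs, hs⟩


/-- Let K be a field, N a finite index set and A a square matrix over K indexed by N whose linear map on
column vectors has kernel equal to its range (so A composed with A is zero and the three-term
sequence it defines is exact in the middle). Then there are subsets N₁₂, N₂₁, N₃₁ of N such that the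
block of A with rows in N₃₁ and columns in N₂₁, and the block of A with rows outside N₂₁ and columns
in N₁₂, both act bijectively on column vectors. (In the original setting K is the prime field and
middle exactness is supplied by the Cartier isomorphism; here exactness is the hypothesis and K is
any field.) -/
theorem result
    {K : Type u} [Field K] {N : Type v} [Fintype N] [DecidableEq N]
    (A : Matrix N N K)
    (hA : LinearMap.ker A.mulVecLin = LinearMap.range A.mulVecLin) :
    ∃ N₁₂ N₂₁ N₃₁ : Finset N,
      Function.Bijective (A.submatrix (Subtype.val : ↥N₃₁ → N) (Subtype.val : ↥N₂₁ → N)).mulVecLin ∧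
      Function.Bijective
        (A.submatrix (Subtype.val : {x : N // x ∉ N₂₁} → N) (Subtype.val : ↥N₁₂ → N)).mulVecLin := by
  obtain ⟨N₂₁, hc₂, hr₂⟩ := exists_cols A
  obtain ⟨N₃₁, hc₃, hr₃⟩ := exists_cols (A.submatrix id (Subtype.val : ↥N₂₁ → N)).transpose
  rw [Matrix.rank_transpose, hr₂] at hc₃ hr₃
  have hb : Function.Bijective (A.submatrix (Subtype.val : ↥N₃₁ → N) (Subtype.val : ↥N₂₁ → N)).mulVecLin := by
    rw [← Matrix.rank_transpose] at hr₃
    change (A.submatrix (Subtype.val : ↥N₃₁ → N) (Subtype.val : ↥N₂₁ → N)).rank = A.rank at hr₃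
    exact bij_of_rank _ (by rw [Fintype.card_coe, hr₃, hc₃]) (by rw [Fintype.card_coe, hr₃, hc₂])
  have hn : Fintype.card N = A.rank + A.rank := by
    have h := A.mulVecLin.finrank_range_add_finrank_ker
    rw [hA, Module.finrank_pi] at h
    exact h.symm
  let B := A.submatrix (Subtype.val : {x : N // x ∉ N₂₁} → N) id
  have hinj : ∀ w, B.mulVec w = 0 → A.mulVec w = 0 := by
    intro w hw
    have hout : ∀ x, x ∉ N₂₁ → A.mulVec w x = 0 := fun x hx => congrFun hw ⟨x, hx⟩
    have hz : A.mulVec (A.mulVec w) = 0 := LinearMap.mem_ker.1 (hA.ge ⟨w, rfl⟩)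
    have hsub : (A.submatrix (Subtype.val : ↥N₃₁ → N) (Subtype.val : ↥N₂₁ → N)).mulVecLin (fun j => A.mulVec w j) = 0 := by
      funext i
      refine Eq.trans ?_ (congrFun hz i.1)
      show ∑ j : ↥N₂₁, A i j * A.mulVec w j = ∑ j, A i j * A.mulVec w j
      rw [Finset.sum_coe_sort N₂₁ fun j => A i j * A.mulVec w j]
      exact Finset.sum_subset (Finset.subset_univ _) fun x _ hx => by rw [hout x hx, mul_zero]
    have h0 := hb.1 (hsub.trans (map_zero _).symm)
    funext x
    by_cases hx : x ∈ N₂₁
    · exact congrFun h0 ⟨x, hx⟩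
    · exact hout x hx
  have hrB : B.rank = A.rank := by
    have h1 := B.mulVecLin.finrank_range_add_finrank_ker
    have h2 := A.mulVecLin.finrank_range_add_finrank_ker
    have h3 : LinearMap.ker B.mulVecLin = LinearMap.ker A.mulVecLin := le_antisymm
      (fun w hw => LinearMap.mem_ker.2 (hinj w (LinearMap.mem_ker.1 hw)))
      (fun w hw => LinearMap.mem_ker.2 (funext fun x => congrFun (LinearMap.mem_ker.1 hw) x.1))
    rw [h3, ← h2] at h1
    exact Nat.add_right_cancel h1
  obtain ⟨N₁₂, hc₁, hr₁⟩ := exists_cols B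
  refine ⟨N₁₂, N₂₁, N₃₁, hb, bij_of_rank _ ?_ ?_⟩
  · change _ = (B.submatrix id (Subtype.val : ↥N₁₂ → N)).rank
    rw [hr₁, hrB, Fintype.card_subtype_compl, Fintype.card_coe, hc₂, hn, Nat.add_sub_cancel]
  · change _ = (B.submatrix id (Subtype.val : ↥N₁₂ → N)).rank
    rw [hr₁, Fintype.card_coe, hc₁]

end Groth.Agent.S16400
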