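import Groth.Statements.S16401
import Mathlib

set_option autoImplicit false
universe u v
open CAlgX

namespace Groth.Agent.S16401

/-- Let R be a commutative ring and (E_a), a ∈ ι, a family of additive subgroups of R indexed by an
additive commutative group ι, with E_0 = R and E_a · E_b ⊆ E_{a+b}. Let β, γ : Fin r → ι be weight
vectors with Σ_j β_j = Σ_i γ_i, and let ϑ be an r × r matrix over R with ϑ_{ij} ∈ E_{γ_i − β_j} for
all i, j and with unit determinant. Then a column vector u satisfies u_j ∈ E_{β_j} for every j if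
and only if (ϑ u)_i ∈ E_{γ_i} for every i; since ϑ is invertible this says that ϑ maps the box Π_j
E_{β_j} bijectively onto the box Π_i E_{γ_i}. -/
theorem result
    {R : Type u} [CommRing R] {ι : Type v} [AddCommGroup ι]
    (E : ι → AddSubgroup R) (h0 : E 0 = ⊤)
    (hmul : ∀ a b : ι, ∀ x ∈ E a, ∀ y ∈ E b, x * y ∈ E (a + b))
    {r : ℕ} (wβ wγ : Fin r → ι) (hsum : ∑ j, wβ j = ∑ i, wγ i)
    (ϑ : Matrix (Fin r) (Fin r) R) (hϑ : ∀ i j, ϑ i j ∈ E (wγ i - wβ j))
    (hdet : IsUnit ϑ.det) (u : Fin r → R) :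
    (∀ j, u j ∈ E (wβ j)) ↔ ∀ i, ϑ.mulVec u i ∈ E (wγ i) := by
  classical
  have hmem0 : ∀ x : R, x ∈ E 0 := fun x => by rw [h0]; trivial
  have hprod : ∀ (s : Finset (Fin r)) (g : Fin r → R) (d : Fin r → ι), (∀ i ∈ s, g i ∈ E (d i)) →
      ∏ i ∈ s, g i ∈ E (∑ i ∈ s, d i) := by
    intro s g d
    induction s using Finset.induction_on with
    | empty => exact fun _ => by rw [Finset.prod_empty, Finset.sum_empty]; exact hmem0 1
    | insert a s ha ih =>
      intro h
      rw [Finset.prod_insert ha, Finset.sum_insert ha]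
      exact hmul _ _ _ (h a (Finset.mem_insert_self a s)) _ (ih fun i hi => h i (Finset.mem_insert_of_mem hi))
  have hdet' : ∀ (A : Matrix (Fin r) (Fin r) R) (c : Fin r → ι), (∀ i j, A i j ∈ E (c i - wβ j)) →
      A.det ∈ E (∑ i, c i - ∑ j, wβ j) := by
    intro A c hA
    rw [Matrix.det_apply']
    refine AddSubgroup.sum_mem _ fun σ _ => ?_
    have h1 := hprod Finset.univ (fun i => A (σ i) i) (fun i => c (σ i) - wβ i) fun i _ => hA _ _
    rw [Finset.sum_sub_distrib, Equiv.sum_comp σ c] at h1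
    have h2 := hmul 0 _ ((Equiv.Perm.sign σ : ℤ) : R) (hmem0 _) _ h1
    rwa [zero_add] at h2
  have hadj : ∀ i j, ϑ.adjugate i j ∈ E (wβ i - wγ j) := fun i j => by
    rw [Matrix.adjugate_apply]
    have h := hdet' (ϑ.updateRow j (Pi.single i 1)) (Function.update wγ j (wβ i)) fun a b => ?_
    · rw [Finset.sum_update_of_mem (Finset.mem_univ j), hsum,
        ← Finset.sum_add_sum_compl {j} wγ, Finset.sum_singleton, Finset.compl_eq_univ_sdiff] at h
      convert h using 2
      abel
    · by_cases ha : a = j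
      · subst ha
        rw [Matrix.updateRow_self, Function.update_self]
        by_cases hb : b = i
        · subst hb; rw [Pi.single_eq_same, sub_self]; exact hmem0 1
        · rw [Pi.single_eq_of_ne hb]; exact zero_mem _
      · rw [Matrix.updateRow_ne ha, Function.update_of_ne ha]; exact hϑ a b
  refine ⟨fun hu i => ?_, fun hv j => ?_⟩
  · show ∑ j, ϑ i j * u j ∈ E (wγ i)
    refine AddSubgroup.sum_mem _ fun j _ => ?_
    have := hmul _ _ _ (hϑ i j) _ (hu j)
    rwa [sub_add_cancel] at this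
  · obtain ⟨d, hd⟩ := hdet
    have hu : u = fun j => (↑d⁻¹ : R) * ϑ.adjugate.mulVec (ϑ.mulVec u) j := by
      funext j
      rw [Matrix.mulVec_mulVec, Matrix.adjugate_mul, Matrix.smul_mulVec, Matrix.one_mulVec, Pi.smul_apply,
        smul_eq_mul, ← hd, ← mul_assoc, Units.inv_mul, one_mul]
    rw [hu]
    have h2 : ϑ.adjugate.mulVec (ϑ.mulVec u) j ∈ E (wβ j) := by
      show ∑ i, ϑ.adjugate j i * ϑ.mulVec u i ∈ E (wβ j)
      refine AddSubgroup.sum_mem _ fun i _ => ?_
      have := hmul _ _ _ (hadj j i) _ (hv i)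
      rwa [sub_add_cancel] at this
    have := hmul 0 _ (↑d⁻¹ : R) (hmem0 _) _ h2
    rwa [zero_add] at this

end Groth.Agent.S16401
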