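import Groth.Statements.S16405
import Mathlib

set_option autoImplicit false
universe u v
open InvQ

namespace Groth.Agent.S16405

open AddMonoidAlgebra

/-- In weight form. Let b : L → ℤ^r be an injective homomorphism of abelian groups (the case in view: L
the character group of a maximal torus T of a semisimple group over ℂ and b the map dual to the
surjection of the rank-r split torus T' onto T that sends the i-th coordinate cocharacter to the
primitive generator of the i-th ray of the Weyl chamber; only the injectivity of b is used, and ℂ is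
replaced by any commutative ring k). Grade the monoid algebra k[L × ℕ^r] (the coordinate ring of T ×
𝔸^r) by ℤ^r, the monomial (w, n) having weight b(w) + n (the weights of the T'-action u·(t, v) =
(b^∨(u) t, u v)), and grade k[ℕ^r] by ℤ^r/b(L), the monomial n having weight the class of n (the
weights of the action on 𝔸^r of the diagonalizable kernel Z of T' → T, a finite group in the case in
view). For a diagonalizable group acting on an affine scheme the ring of invariants is the
weight-zero part, so the two weight-zero parts are the coordinate rings of the quotients (T ×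
𝔸^r)//T' and 𝔸^r//Z. The statement: the algebra map k[L × ℕ^r] → k[ℕ^r] induced by the projection L
× ℕ^r → ℕ^r (restriction to the slice 1 × 𝔸^r) maps the weight-zero part of k[L × ℕ^r] bijectively
onto the weight-zero part of k[ℕ^r]; hence it induces an isomorphism of k-algebras between them. -/
theorem result
    (k : Type u) [CommRing k] (r : ℕ) (L : Type v) [AddCommGroup L]
    (b : L →+ (Fin r → ℤ)) (hb : Function.Injective b) :
    Set.BijOn
      (AddMonoidAlgebra.mapDomainAlgHom k k (AddMonoidHom.snd L (Fin r → ℕ)))
      (AddMonoidAlgebra.gradeBy k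
        (b.comp (AddMonoidHom.fst L (Fin r → ℕ)) +
          (AddMonoidHom.compLeft (Nat.castAddMonoidHom ℤ) (Fin r)).comp (AddMonoidHom.snd L (Fin r → ℕ))) 0 :
        Set (AddMonoidAlgebra k (L × (Fin r → ℕ))))
      (AddMonoidAlgebra.gradeBy k
        ((QuotientAddGroup.mk' b.range).comp (AddMonoidHom.compLeft (Nat.castAddMonoidHom ℤ) (Fin r))) 0 :
        Set (AddMonoidAlgebra k (Fin r → ℕ))) := by
  classical
  set W := (b.comp (AddMonoidHom.fst L (Fin r → ℕ)) +
          (AddMonoidHom.compLeft (Nat.castAddMonoidHom ℤ) (Fin r)).comp (AddMonoidHom.snd L (Fin r → ℕ))) with hW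
  have hker : ∀ z : L × (Fin r → ℕ), W z = b z.1 + fun i => (z.2 i : ℤ) := fun z => rfl
  have hinj : ∀ z z' : L × (Fin r → ℕ), W z = 0 → W z' = 0 → z.2 = z'.2 → z = z' := by
    intro z z' hz hz' h
    refine Prod.ext (hb ?_) h
    rw [hker] at hz hz'
    rw [← h] at hz'
    exact add_right_cancel (hz.trans hz'.symm)
  set g := (QuotientAddGroup.mk' b.range).comp (AddMonoidHom.compLeft (Nat.castAddMonoidHom ℤ) (Fin r))
  have hg : ∀ m : Fin r → ℕ, g m = 0 ↔ ∃ l, W (l, m) = 0 := by
    intro m
    show QuotientAddGroup.mk' b.range (fun i => (m i : ℤ)) = 0 ↔ _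
    rw [QuotientAddGroup.mk'_apply, QuotientAddGroup.eq_zero_iff]
    constructor
    · rintro ⟨l, hl⟩; exact ⟨-l, by rw [hker, map_neg, hl]; simp⟩
    · rintro ⟨l, hl⟩; exact ⟨-l, by rw [hker] at hl; rw [map_neg]; exact neg_eq_of_add_eq_zero_right hl⟩
  refine ⟨fun x hx => ?_, ?_, ?_⟩
  · rw [SetLike.mem_coe, mem_gradeBy_iff] at hx ⊢
    intro m hm
    have := Finsupp.mapDomain_support hm
    obtain ⟨z, hz, rfl⟩ := Finset.mem_image.1 this
    exact (hg _).2 ⟨z.1, hx hz⟩
  · intro x hx y hy h
    apply coeff_injective
    rw [SetLike.mem_coe, mem_gradeBy_iff] at hx hy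
    exact Finsupp.mapDomain_injOn {z | W z = 0} (fun z hz z' hz' h => hinj z z' hz hz' h)
      hx hy (congrArg coeff h)
  · intro y hy
    rw [SetLike.mem_coe, mem_gradeBy_iff] at hy
    choose! l hl using fun m (hm : g m = 0) => (hg m).1 hm
    refine ⟨∑ m ∈ y.coeff.support, single (l m, m) (y.coeff m), ?_, ?_⟩
    · exact Submodule.sum_mem _ fun m hm => hl m (hy hm) ▸ single_mem_gradeBy W (l m, m) (y.coeff m)
    · rw [map_sum]
      simp only [mapDomainAlgHom_apply, mapDomain_single, AddMonoidHom.coe_snd]
      exact sum_coeff_single y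

end Groth.Agent.S16405
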