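import Mathlib
import Groth.Statements.S16414

set_option autoImplicit false
open Dieud

namespace Groth.Agent.S16414

/-- Let μ be a rational number with 0 < μ ≤ 1 and i an integer, and put f(i,j) = max(−i−j, −j, 0) for
integers j. Then min over all integers j of f(i,j) + jμ exists and equals max(−iμ, 0). -/
theorem result (μ : ℚ) (hμ0 : 0 < μ) (hμ1 : μ ≤ 1) (i : ℤ) :
    IsLeast (Set.range fun j : ℤ => ((max (max (-i - j) (-j)) 0 : ℤ) : ℚ) + (j : ℚ) * μ)
      (max (-(i : ℚ) * μ) 0) := by
  constructor
  · rcases le_total 0 i with h | h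
    · refine ⟨0, ?_⟩
      have : (0:ℚ) ≤ i := by exact_mod_cast h
      simp only
      rw [show (max (max (-i - 0) (-(0:ℤ))) 0) = 0 by omega, max_eq_right (by nlinarith)]
      simp
    · refine ⟨-i, ?_⟩
      have : (i:ℚ) ≤ 0 := by exact_mod_cast h
      simp only
      rw [show (max (max (-i - -i) (- -i)) 0) = 0 by omega, max_eq_left (by nlinarith)]
      simp
  · rintro x ⟨j, rfl⟩
    simp only
    set m := max (max (-i - j) (-j)) 0
    have h1 : ((-i - j : ℤ) : ℚ) ≤ m := by exact_mod_cast (show -i - j ≤ m by omega)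
    have h2 : ((-j : ℤ) : ℚ) ≤ m := by exact_mod_cast (show -j ≤ m by omega)
    have h3 : (0:ℚ) ≤ m := by exact_mod_cast (show 0 ≤ m by omega)
    push_cast at h1 h2
    apply max_le
    · nlinarith
    · nlinarith

end Groth.Agent.S16414
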