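import Mathlib
import Groth.Statements.S16416

set_option autoImplicit false
universe u v w
open Dieud

namespace Groth.Agent.S16416

/-- For a prime p and a perfect field k of characteristic p, write W = W(k) for the ring of Witt vectors
and σ for its Frobenius; let M and N be free W-modules of finite rank, each with additive maps F
(σ-semilinear) and V (with V(σ(a)m) = aV(m)) satisfying FV = VF = p, and H = Hom_W(M, N). On H the
operator F acts through h ↦ F ∘ h ∘ V, and V acts partially: V·h is the W-linear map h' with h'(V m)
= V(h(m)) for all m, when it exists. Let H₁ be the largest W-submodule of H stable under both (it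
contains every submodule stable under both). Then H₁ ∩ V·H = V·H₁: if y ∈ H and V·y exists and lies
in H₁, then y ∈ H₁, so that H₁/VH₁ → H/(H ∩ VH) is injective. (The published statement is for the
Cartier modules of two p-divisible formal groups over k, every slope of the first below every slope
of the second; only the structure just listed is used, so connectedness and the slope condition are
not assumed.) -/
theorem result
    (p : ℕ) [Fact p.Prime] (k : Type u) [Field k] [CharP k p] [PerfectRing k p]
    (M : Type v) [AddCommGroup M] [Module (WittVector p k) M]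
    [Module.Free (WittVector p k) M] [Module.Finite (WittVector p k) M]
    (N : Type w) [AddCommGroup N] [Module (WittVector p k) N]
    [Module.Free (WittVector p k) N] [Module.Finite (WittVector p k) N]
    (FM VM : M →+ M) (FN VN : N →+ N)
    (hFM : ∀ (a : WittVector p k) (m : M), FM (a • m) = WittVector.frobenius a • FM m)
    (hVM : ∀ (a : WittVector p k) (m : M), VM (WittVector.frobenius a • m) = a • VM m)
    (hFVM : ∀ m : M, FM (VM m) = (p : WittVector p k) • m)
    (hVFM : ∀ m : M, VM (FM m) = (p : WittVector p k) • m)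
    (hFN : ∀ (a : WittVector p k) (n : N), FN (a • n) = WittVector.frobenius a • FN n)
    (hVN : ∀ (a : WittVector p k) (n : N), VN (WittVector.frobenius a • n) = a • VN n)
    (hFVN : ∀ n : N, FN (VN n) = (p : WittVector p k) • n)
    (hVFN : ∀ n : N, VN (FN n) = (p : WittVector p k) • n)
    (H₁ : Submodule (WittVector p k) (M →ₗ[WittVector p k] N))
    (hF : ∀ h ∈ H₁, ∃ h' ∈ H₁, ∀ m : M, h' m = FN (h (VM m)))
    (hV : ∀ h ∈ H₁, ∃ h' ∈ H₁, ∀ m : M, h' (VM m) = VN (h m))
    (hmax : ∀ S : Submodule (WittVector p k) (M →ₗ[WittVector p k] N),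
      (∀ h ∈ S, ∃ h' ∈ S, ∀ m : M, h' m = FN (h (VM m))) →
      (∀ h ∈ S, ∃ h' ∈ S, ∀ m : M, h' (VM m) = VN (h m)) → S ≤ H₁)
    (y : M →ₗ[WittVector p k] N) (x : M →ₗ[WittVector p k] N) (hx : x ∈ H₁)
    (hxy : ∀ m : M, x (VM m) = VN (y m)) :
    y ∈ H₁ := by
  have hσ : Function.Surjective (WittVector.frobenius : WittVector p k → WittVector p k) :=
    (WittVector.frobenius_bijective p k).2
  have hex : ∀ h : M →ₗ[WittVector p k] N, ∃ h' : M →ₗ[WittVector p k] N, ∀ m, h' m = FN (h (VM m)) := fun h =>
    ⟨{ toFun := fun m => FN (h (VM m))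
       map_add' := fun a b => by simp [map_add]
       map_smul' := fun a m => by
        obtain ⟨c, rfl⟩ := hσ a
        rw [hVM, map_smul, hFN, RingHom.id_apply] }, fun m => rfl⟩
  choose F hFdef using hex
  let z : ℕ → (M →ₗ[WittVector p k] N) := fun j => F^[j] y
  let S := H₁ ⊔ Submodule.span (WittVector p k) (Set.range z)
  suffices hS : S ≤ H₁ from hS (Submodule.mem_sup_right (Submodule.subset_span ⟨0, rfl⟩))
  refine hmax S (fun h hh => ⟨F h, ?_, hFdef h⟩) (fun h hh => ?_)
  · obtain ⟨a, ha, b, hb, rfl⟩ := Submodule.mem_sup.mp hh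
    obtain ⟨a', ha', haa'⟩ := hF a ha
    have hadd : F (a + b) = a' + F b := LinearMap.ext fun m => by simp [hFdef, haa', map_add]
    rw [hadd]
    refine Submodule.add_mem _ (Submodule.mem_sup_left ha') (Submodule.mem_sup_right ?_)
    clear hadd haa' hh
    induction hb using Submodule.span_induction with
    | mem x hx =>
      obtain ⟨j, rfl⟩ := hx
      exact Submodule.subset_span ⟨j + 1, Function.iterate_succ_apply' F j y⟩
    | zero =>
      rw [show F 0 = 0 from LinearMap.ext fun m => by simp [hFdef]]
      exact Submodule.zero_mem _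
    | add u v _ _ hu hv =>
      rw [show F (u + v) = F u + F v from LinearMap.ext fun m => by simp [hFdef, map_add]]
      exact Submodule.add_mem _ hu hv
    | smul c u _ hu =>
      rw [show F (c • u) = WittVector.frobenius c • F u from LinearMap.ext fun m => by simp [hFdef, hFN]]
      exact Submodule.smul_mem _ _ hu
  · obtain ⟨a, ha, b, hb, rfl⟩ := Submodule.mem_sup.mp hh
    obtain ⟨a', ha', haa'⟩ := hV a ha
    suffices hb' : ∃ b' ∈ S, ∀ m : M, b' (VM m) = VN (b m) by
      obtain ⟨b', hb', hbb'⟩ := hb'
      exact ⟨a' + b', Submodule.add_mem _ (Submodule.mem_sup_left ha') hb', fun m => by simp [haa', hbb', map_add]⟩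
    clear haa' hh
    induction hb using Submodule.span_induction with
    | mem u hu =>
      obtain ⟨j, rfl⟩ := hu
      cases j with
      | zero => exact ⟨x, Submodule.mem_sup_left hx, hxy⟩
      | succ j =>
        refine ⟨(p : WittVector p k) • z j, Submodule.smul_mem _ _ (Submodule.mem_sup_right (Submodule.subset_span ⟨j, rfl⟩)),
          fun m => ?_⟩
        rw [show z (j + 1) = F (z j) from Function.iterate_succ_apply' F j y, hFdef, hVFN, LinearMap.smul_apply]
    | zero => exact ⟨0, Submodule.zero_mem _, fun m => by simp⟩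
    | add u v _ _ hu hv =>
      obtain ⟨u', hu', huu⟩ := hu
      obtain ⟨v', hv', hvv⟩ := hv
      exact ⟨u' + v', Submodule.add_mem _ hu' hv', fun m => by simp [huu, hvv, map_add]⟩
    | smul c u _ hu =>
      obtain ⟨u', hu', huu⟩ := hu
      obtain ⟨c', rfl⟩ := hσ c
      exact ⟨c' • u', Submodule.smul_mem _ _ hu', fun m => by simp [huu, hVN]⟩

end Groth.Agent.S16416
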