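import Groth.Statements.S16417
import Mathlib
-- import your own Groth.Agent.* helpers here

set_option autoImplicit false
set_option backward.isDefEq.respectTransparency false
universe u v w
open Dieud

namespace Groth.Agent.S16417

/-- For a prime p and a perfect field k of characteristic p, write W = W(k) for the ring of Witt vectors
and σ for its Frobenius; let M and N be free W-modules of finite rank, each with additive maps F
(σ-semilinear) and V (with V(σ(a)m) = aV(m)) satisfying FV = VF = p, and H = Hom_W(M, N); write VM ⊆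
M and VN ⊆ N for the images of V. (a) A W-linear h : M → N maps VM into VN if and only if h(V m) =
V(h'(m)) for all m for some W-linear h' : M → N (so the maps with this property form H ∩ V·H). (b)
The natural map from H to the W-linear maps VM → N/VN has image exactly the maps vanishing on pM =
V(FM): every such map is induced by some h ∈ H. (c) The W-length of H/(H ∩ V·H) is r₂ s₁, where r₂
is the length of N/VN and s₁ = rank M − length(M/VM) is the length of VM/pM. (The published
statement is for the Cartier modules of two p-divisible formal groups over k, every slope of the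
first below every slope of the second, and phrases (b), (c) as an isomorphism of H/(H ∩ VH) with
Hom_k(VM/pM, N/VN); only the structure listed is used, so connectedness and the slope condition are
not assumed.) -/
theorem result
    (p : ℕ) [Fact p.Prime] (k : Type u) [Field k] [CharP k p] [PerfectRing k p]
    (M : Type v) [AddCommGroup M] [Module (WittVector p k) M]
    [Module.Free (WittVector p k) M] [Module.Finite (WittVector p k) M]
    (N : Type w) [AddCommGroup N] [Module (WittVector p k) N]
    [Module.Free (WittVector p k) N] [Module.Finite (WittVector p k) N]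
    (FM VM : M →+ M) (FN VN : N →+ N)
    (hFM : ∀ (a : WittVector p k) (m : M), FM (a • m) = WittVector.frobenius a • FM m)
    (hVM : ∀ (a : WittVector p k) (m : M), VM (WittVector.frobenius a • m) = a • VM m)
    (hFVM : ∀ m : M, FM (VM m) = (p : WittVector p k) • m)
    (hVFM : ∀ m : M, VM (FM m) = (p : WittVector p k) • m)
    (hFN : ∀ (a : WittVector p k) (n : N), FN (a • n) = WittVector.frobenius a • FN n)
    (hVN : ∀ (a : WittVector p k) (n : N), VN (WittVector.frobenius a • n) = a • VN n)
    (hFVN : ∀ n : N, FN (VN n) = (p : WittVector p k) • n)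
    (hVFN : ∀ n : N, VN (FN n) = (p : WittVector p k) • n)
    (r₂ s₁ : ℕ)
    (hr₂ : Module.length (WittVector p k) (N ⧸ Submodule.span (WittVector p k) (Set.range VN)) = r₂)
    (hs₁ : (Module.finrank (WittVector p k) M : ℕ∞) =
      Module.length (WittVector p k) (M ⧸ Submodule.span (WittVector p k) (Set.range VM)) + s₁) :
    (∀ h : M →ₗ[WittVector p k] N,
      (∀ m : M, h (VM m) ∈ Submodule.span (WittVector p k) (Set.range VN)) ↔
        ∃ h' : M →ₗ[WittVector p k] N, ∀ m : M, h (VM m) = VN (h' m)) ∧
    (∀ g : Submodule.span (WittVector p k) (Set.range VM) →ₗ[WittVector p k]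
        N ⧸ Submodule.span (WittVector p k) (Set.range VN),
      (∀ m : M, g ⟨VM (FM m), Submodule.subset_span ⟨FM m, rfl⟩⟩ = 0) →
      ∃ h : M →ₗ[WittVector p k] N, ∀ x : Submodule.span (WittVector p k) (Set.range VM),
        (Submodule.span (WittVector p k) (Set.range VN)).mkQ (h x) = g x) ∧
    Module.length (WittVector p k) ((M →ₗ[WittVector p k] N) ⧸
      ⨅ m : M, (Submodule.span (WittVector p k) (Set.range VN)).comap
        (LinearMap.applyₗ (VM m) : (M →ₗ[WittVector p k] N) →ₗ[WittVector p k] N)) = (r₂ * s₁ : ℕ) := by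
  classical
  set W := WittVector p k with hWdef
  have hσ : Function.Surjective (WittVector.frobenius : W →+* W) := (WittVector.frobenius_bijective p k).2
  have hirr : Irreducible ((p : W)) := WittVector.irreducible p
  have hp0 : (p : W) ≠ 0 := hirr.ne_zero
  -- the images of `V` are submodules
  have hspanM : ∀ x, x ∈ Submodule.span W (Set.range VM) → ∃ m, VM m = x := by
    intro x hx
    induction hx using Submodule.span_induction with
    | mem x hx => exact hx
    | zero => exact ⟨0, map_zero _⟩
    | add x y _ _ hx hy => obtain ⟨a, rfl⟩ := hx; obtain ⟨b, rfl⟩ := hy; exact ⟨a + b, map_add _ _ _⟩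
    | smul c x _ hx => obtain ⟨a, rfl⟩ := hx; exact ⟨WittVector.frobenius c • a, hVM c a⟩
  have hspanN : ∀ x, x ∈ Submodule.span W (Set.range VN) → ∃ m, VN m = x := by
    intro x hx
    induction hx using Submodule.span_induction with
    | mem x hx => exact hx
    | zero => exact ⟨0, map_zero _⟩
    | add x y _ _ hx hy => obtain ⟨a, rfl⟩ := hx; obtain ⟨b, rfl⟩ := hy; exact ⟨a + b, map_add _ _ _⟩
    | smul c x _ hx => obtain ⟨a, rfl⟩ := hx; exact ⟨WittVector.frobenius c • a, hVN c a⟩
  set PM := Submodule.span W (Set.range VM) with hPM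
  set PN := Submodule.span W (Set.range VN) with hPN
  have hpM : ∀ m : M, (p : W) • m ∈ PM := fun m => Submodule.subset_span ⟨FM m, hVFM m⟩
  have hpN : ∀ n : N, (p : W) • n ∈ PN := fun n => Submodule.subset_span ⟨FN n, hVFN n⟩
  -- an adapted basis
  let b₀ := Module.Free.chooseBasis W M
  have hrank : Module.finrank W PM = Module.finrank W M := by
    refine le_antisymm (Submodule.finrank_le _) ?_
    refine LinearMap.finrank_le_finrank_of_injective (f := (LinearMap.lsmul W M (p : W)).codRestrict PM hpM) fun x y h => ?_
    exact smul_right_injective M hp0 (congrArg Subtype.val h)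
  obtain ⟨bM, a, ab, hab⟩ := Submodule.exists_smith_normal_form_of_rank_eq b₀
    (N := PM) hrank
  let ι := Module.Free.ChooseBasisIndex W M
  have hmem : ∀ x : M, x ∈ PM ↔ ∀ i, a i ∣ bM.repr x i := by
    intro x
    constructor
    · intro hx i
      have e : x = ∑ j, (ab.repr ⟨x, hx⟩ j * a j) • bM j := by
        conv_lhs => rw [show x = ((⟨x, hx⟩ : PM) : M) from rfl, ← ab.sum_repr ⟨x, hx⟩]
        simp only [Submodule.coe_sum, Submodule.coe_smul, hab, smul_smul]
      rw [e, Module.Basis.repr_sum_self]
      exact dvd_mul_left _ _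
    · intro h
      rw [← bM.sum_repr x]
      refine Submodule.sum_mem _ fun i _ => ?_
      obtain ⟨c, hc⟩ := h i
      rw [hc, mul_comm, mul_smul, ← hab]
      exact PM.smul_mem _ (ab i).2
  have hadvd : ∀ i, a i ∣ (p : W) := fun i => by
    have := (hmem _).1 (hpM (bM i)) i
    rwa [map_smul, Finsupp.smul_apply, Module.Basis.repr_self, Finsupp.single_eq_same, smul_eq_mul, mul_one] at this
  have hnonunit : ∀ i, ¬ IsUnit (a i) → (p : W) ∣ a i := fun i hi => by
    obtain ⟨c, hc⟩ := hadvd i
    rcases hirr.isUnit_or_isUnit hc with h | h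
    · exact absurd h hi
    · exact ⟨↑h.unit⁻¹, by rw [hc, mul_assoc, IsUnit.mul_val_inv, mul_one]⟩
  let U := {i // IsUnit (a i)}
  have hker : ∀ (h : M →ₗ[W] N), (∀ x : PM, h x ∈ PN) ↔ ∀ i : U, h (bM i.1) ∈ PN := by
    intro h
    constructor
    · intro hx i
      exact hx ⟨bM i.1, (hmem _).2 fun j => by
        rcases eq_or_ne i.1 j with rfl | hne
        · exact i.2.dvd
        · rw [Module.Basis.repr_self, Finsupp.single_eq_of_ne (Ne.symm hne)]; exact dvd_zero _⟩
    · intro hi x
      rw [← ab.sum_repr x]
      simp only [Submodule.coe_sum, Submodule.coe_smul, hab, map_sum, map_smul]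
      refine Submodule.sum_mem _ fun i _ => PN.smul_mem _ ?_
      by_cases hu : IsUnit (a i)
      · exact PN.smul_mem _ (hi ⟨i, hu⟩)
      · obtain ⟨c, hc⟩ := hnonunit i hu
        rw [hc, mul_smul]
        exact hpN _
  refine ⟨fun h => ⟨fun hh => ?_, fun ⟨h', hh'⟩ m => by rw [hh']; exact Submodule.subset_span ⟨_, rfl⟩⟩, fun g hg => ?_, ?_⟩
  · have hinj : Function.Injective VN := fun x y hxy => smul_right_injective N hp0
      (show (p : W) • x = (p : W) • y by rw [← hFVN, ← hFVN, hxy])
    choose f hf using fun m => hspanN _ (hh m)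
    refine ⟨{ toFun := f, map_add' := fun x y => hinj ?_, map_smul' := fun c x => hinj ?_ }, fun m => (hf m).symm⟩
    · rw [hf, map_add VN, hf, hf, map_add VM, map_add]
    · obtain ⟨c', rfl⟩ := hσ c
      rw [RingHom.id_apply, hf, hVM, hVN, hf, map_smul]
  · choose l hl using PN.mkQ_surjective
    let v : ι → N := fun i => if hu : IsUnit (a i) then (↑hu.unit⁻¹ : W) • l (g (ab i)) else 0
    have hp : ∀ y : M, g ⟨(p : W) • y, hpM y⟩ = 0 := fun y => by
      have := hg y
      convert this using 2
      exact Subtype.ext (hVFM y).symm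
    refine ⟨bM.constr W v, fun x => ?_⟩
    have e : PN.mkQ ∘ₗ (bM.constr W v) ∘ₗ PM.subtype = g := ab.ext fun i => by
      show PN.mkQ (bM.constr W v (ab i : M)) = g (ab i)
      rw [hab, map_smul, map_smul, Module.Basis.constr_basis]
      by_cases hu : IsUnit (a i)
      · simp only [v, dif_pos hu]
        rw [map_smul, smul_smul, IsUnit.mul_val_inv, one_smul, hl]
      · simp only [v, dif_neg hu, map_zero, smul_zero]
        obtain ⟨c, hc⟩ := hnonunit i hu
        have : ab i = ⟨(p : W) • (c • bM i), hpM _⟩ := Subtype.ext (by rw [hab, hc, mul_smul])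
        rw [this, hp]
    exact congrArg (fun q : PM →ₗ[W] N ⧸ PN => q x) e
  · -- the length
    let Ψ : (M →ₗ[W] N) →ₗ[W] U → N ⧸ PN := LinearMap.pi fun i => PN.mkQ ∘ₗ LinearMap.applyₗ (bM i.1)
    have hΨker : LinearMap.ker Ψ = ⨅ m : M, PN.comap (LinearMap.applyₗ (VM m) : (M →ₗ[W] N) →ₗ[W] N) := by
      ext h
      rw [LinearMap.mem_ker, Submodule.mem_iInf]
      refine Iff.trans ?_ (Iff.trans (hker h).symm ?_)
      · rw [funext_iff]
        exact forall_congr' fun i => Submodule.Quotient.mk_eq_zero _
      · exact ⟨fun hx m => hx ⟨VM m, Submodule.subset_span ⟨m, rfl⟩⟩, fun hx x => by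
          obtain ⟨m, hm⟩ := hspanM _ x.2
          rw [← hm]; exact hx m⟩
    have hΨ : Function.Surjective Ψ := fun q => by
      choose l hl using PN.mkQ_surjective
      refine ⟨bM.constr W fun i => if hu : IsUnit (a i) then l (q ⟨i, hu⟩) else 0, funext fun i => ?_⟩
      show PN.mkQ (bM.constr W _ (bM i.1)) = q i
      rw [Module.Basis.constr_basis, dif_pos i.2, hl]
    rw [← hΨker, (LinearMap.quotKerEquivOfSurjective Ψ hΨ).length_eq, Module.length_pi_of_fintype, hr₂,
      Finset.sum_const, Finset.card_univ]
    -- the corank of `V`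
    let NU := {i // ¬ IsUnit (a i)}
    let Φ : M →ₗ[W] NU → W ⧸ Ideal.span {(p : W)} :=
      LinearMap.pi fun i => Submodule.mkQ _ ∘ₗ bM.coord i.1
    have hΦker : LinearMap.ker Φ = PM := by
      ext x
      rw [LinearMap.mem_ker, hmem, funext_iff]
      constructor
      · intro h i
        by_cases hu : IsUnit (a i)
        · exact hu.dvd
        · exact (hadvd i).trans (Ideal.mem_span_singleton.1 ((Submodule.Quotient.mk_eq_zero _).1 (h ⟨i, hu⟩)))
      · intro h i
        exact (Submodule.Quotient.mk_eq_zero _).2 (Ideal.mem_span_singleton.2 ((hnonunit i.1 i.2).trans (h i.1)))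
    have hΦ : Function.Surjective Φ := fun q => by
      choose l hl using (Submodule.mkQ_surjective (Ideal.span {(p : W)}))
      refine ⟨∑ j : NU, l (q j) • bM j.1, funext fun i => ?_⟩
      show Submodule.mkQ _ (bM.repr (∑ j : NU, l (q j) • bM j.1) i.1) = q i
      rw [map_sum, Finsupp.finsetSum_apply, Finset.sum_eq_single i]
      · simp [hl]
      · intro j _ hj
        simp [Finsupp.single_eq_of_ne (fun h : i.1 = j.1 => hj (Subtype.ext h.symm))]
      · simp
    haveI hsimple : IsSimpleModule W (W ⧸ Ideal.span {(p : W)}) :=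
      isSimpleModule_iff_isCoatom.mpr (PrincipalIdealRing.isMaximal_of_irreducible hirr).out
    rw [← hΦker, (LinearMap.quotKerEquivOfSurjective Φ hΦ).length_eq, Module.length_pi_of_fintype, Module.length_eq_one,
      Finset.sum_const, Finset.card_univ, Module.finrank_eq_card_basis bM, nsmul_eq_mul, mul_one] at hs₁
    rw [Fintype.card_subtype_compl] at hs₁
    have hle := Fintype.card_subtype_le (fun i => IsUnit (a i))
    norm_cast at hs₁
    have : Fintype.card U = s₁ := by show Fintype.card {i // IsUnit (a i)} = s₁; omega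
    rw [this, nsmul_eq_mul]
    push_cast
    ring

end Groth.Agent.S16417
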