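import Groth.Statements.S16418
import Mathlib
-- import your own Groth.Agent.* helpers here

set_option autoImplicit false
universe u v
open Dieud

namespace Groth.Agent.S16418

/-- Step of the proof: for a prime p and a perfect field k of characteristic p, write W = W(k) and σ for
its Frobenius; let M be a W-module with additive maps F (σ-semilinear) and V (with V(σ(a)m) = aV(m))
such that FV = VF = p, V is injective, ⋂_n V^n M = 0 and M/VM is finitely generated over W. Put M₁ =
{x ∈ M : for every n there is m with V^m x ∈ F^n M} and M₂ = {x ∈ M : F^n x = 0 for some n}. Then M₂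
is killed by a single power of F, and F is injective on M₁. (The published text makes these
assertions inside a proof, for the V-reduced Cartier module of a connected smooth formal group of
finite dimension over k; only the listed structure is used, and V-adic completeness is not needed.) -/
theorem result
    (p : ℕ) [Fact p.Prime] (k : Type u) [Field k] [CharP k p] [PerfectRing k p]
    (M : Type v) [AddCommGroup M] [Module (WittVector p k) M]
    (F V : M →+ M)
    (hF : ∀ (a : WittVector p k) (m : M), F (a • m) = WittVector.frobenius a • F m)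
    (hV : ∀ (a : WittVector p k) (m : M), V (WittVector.frobenius a • m) = a • V m)
    (hFV : ∀ m : M, F (V m) = (p : WittVector p k) • m)
    (hVF : ∀ m : M, V (F m) = (p : WittVector p k) • m)
    (hVinj : Function.Injective V)
    (hsep : ∀ x : M, (∀ n : ℕ, ∃ y : M, x = (⇑V)^[n] y) → x = 0)
    (hfin : Module.Finite (WittVector p k) (M ⧸ Submodule.span (WittVector p k) (Set.range V))) :
    (∃ c : ℕ, ∀ x : M, (∃ n : ℕ, (⇑F)^[n] x = 0) → (⇑F)^[c] x = 0) ∧
    (∀ x : M, (∀ n : ℕ, ∃ (m : ℕ) (y : M), (⇑V)^[m] x = (⇑F)^[n] y) → F x = 0 → x = 0) := by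
  classical
  let P : WittVector p k := (p : WittVector p k)
  have hVp : ∀ (n : ℕ) (y : M), V (P ^ n • y) = P ^ n • V y := fun n y => by
    rw [← hV, map_pow, map_natCast]
  have hFp : ∀ (n : ℕ) (y : M), F (P ^ n • y) = P ^ n • F y := fun n y => by
    rw [hF, map_pow, map_natCast]
  have hVFn : ∀ (n : ℕ) (x : M), (⇑V)^[n] ((⇑F)^[n] x) = P ^ n • x := by
    intro n
    induction n with
    | zero => intro x; simp
    | succ n ih =>
      intro x
      rw [Function.iterate_succ_apply' (⇑V), Function.iterate_succ_apply (⇑F), ih, hVp, hVF, smul_smul, ← pow_succ]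
  have hker : ∀ (n : ℕ) (x : M), (⇑F)^[n] x = 0 ↔ P ^ n • x = 0 := fun n x => by
    rw [← hVFn]
    constructor
    · intro h; rw [h, iterate_map_zero]
    · intro h
      exact (hVinj.iterate n) (h.trans (iterate_map_zero V n).symm)
  have hR : ∀ x ∈ Submodule.span (WittVector p k) (Set.range V), ∃ y, x = V y := by
    intro x hx
    induction hx using Submodule.span_induction with
    | mem x hx => obtain ⟨y, rfl⟩ := hx; exact ⟨y, rfl⟩
    | zero => exact ⟨0, (map_zero V).symm⟩
    | add x y _ _ hx hy => obtain ⟨a, rfl⟩ := hx; obtain ⟨b, rfl⟩ := hy; exact ⟨a + b, (map_add V a b).symm⟩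
    | smul r x _ hx => obtain ⟨a, rfl⟩ := hx; exact ⟨WittVector.frobenius r • a, (hV r a).symm⟩
  let T : ℕ → Submodule (WittVector p k) M := fun n => LinearMap.ker (P ^ n • (LinearMap.id : M →ₗ[WittVector p k] M))
  have hT : ∀ n x, x ∈ T n ↔ P ^ n • x = 0 := fun n x => by simp [T]
  have hmono : Monotone T := fun a b hab x hx => by
    rw [hT] at hx ⊢
    rw [← Nat.sub_add_cancel hab, pow_add, mul_smul, hx, smul_zero]
  haveI := hfin
  haveI : IsNoetherian (WittVector p k) (M ⧸ Submodule.span (WittVector p k) (Set.range V)) :=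
    isNoetherian_of_isNoetherianRing_of_finite _ _
  obtain ⟨c, hc⟩ := monotone_stabilizes_iff_noetherian.mpr this
    ⟨fun n => (T n).map (Submodule.mkQ (Submodule.span (WittVector p k) (Set.range V))), fun a b hab => Submodule.map_mono (hmono hab)⟩
  have hdec : ∀ (n : ℕ) (x : M), P ^ n • x = 0 → ∃ (y x' : M), P ^ c • y = 0 ∧ P ^ n • x' = 0 ∧ P ^ c • x = P ^ c • V x' := by
    intro n x hx
    rcases le_or_gt n c with hn | hn
    · exact ⟨x, 0, (hT c x).mp (hmono hn ((hT n x).mpr hx)), smul_zero _, by
        rw [map_zero, smul_zero]; exact (hT c x).mp (hmono hn ((hT n x).mpr hx))⟩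
    · have h1 : Submodule.mkQ (Submodule.span (WittVector p k) (Set.range V)) x ∈
          (T c).map (Submodule.mkQ (Submodule.span (WittVector p k) (Set.range V))) := by
        have h2 := hc n hn.le
        simp only [OrderHom.coe_mk] at h2
        rw [h2]
        exact ⟨x, (hT n x).mpr hx, rfl⟩
      obtain ⟨y, hy, hyx⟩ := h1
      obtain ⟨x', hx'⟩ := hR _ ((Submodule.Quotient.eq _).mp hyx.symm)
      have hy' : P ^ c • y = 0 := (hT c y).mp hy
      refine ⟨y, x', hy', hVinj ?_, ?_⟩
      · rw [hVp, map_zero, ← hx', smul_sub, hx, (hT n y).mp (hmono hn.le hy), sub_zero]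
      · rw [← hx', smul_sub, hy', sub_zero]
  have hbound : ∀ (n : ℕ) (x : M), P ^ n • x = 0 → P ^ c • x = 0 := by
    intro n x hx
    refine hsep _ fun m => ?_
    suffices h : ∀ m, ∃ z, P ^ n • z = 0 ∧ P ^ c • x = (⇑V)^[m] (P ^ c • z) by
      obtain ⟨z, -, hz⟩ := h m; exact ⟨_, hz⟩
    intro m
    induction m with
    | zero => exact ⟨x, hx, rfl⟩
    | succ m ih =>
      obtain ⟨z, hz, e⟩ := ih
      obtain ⟨-, z', -, hz', e'⟩ := hdec n z hz
      exact ⟨z', hz', by rw [e, e', Function.iterate_succ_apply, hVp]⟩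
  refine ⟨⟨c, fun x ⟨n, hn⟩ => (hker c x).mpr (hbound n x ((hker n x).mp hn))⟩, fun x hx hFx => ?_⟩
  obtain ⟨m, y, hy⟩ := hx c
  have hcomm : ∀ z, F (V z) = V (F z) := fun z => (hFV z).trans (hVF z).symm
  have h1 : (⇑F)^[c + 1] y = 0 := by
    rw [Function.iterate_succ_apply', ← hy]
    clear hy
    induction m with
    | zero => exact hFx
    | succ m ih => rw [Function.iterate_succ_apply', hcomm, ih, map_zero]
  have h2 : (⇑F)^[c] y = 0 := (hker c y).mpr (hbound (c + 1) y ((hker (c + 1) y).mp h1))
  exact (hVinj.iterate m) ((hy.trans h2).trans (iterate_map_zero V m).symm)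

end Groth.Agent.S16418
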