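import Groth.Statements.S16419
import Mathlib
-- import your own Groth.Agent.* helpers here

set_option autoImplicit false
universe u v
open CAlg

namespace Groth.Agent.S16419

open TensorProduct in
/-- For a commutative local Artinian ring R and an exact sequence 0 → H₁ → H → H₂ → 0 of finite free
R-modules, let F₁ ⊆ H₁ and F₂ ⊆ H₂ be submodules with H₁/F₁ and H₂/F₂ free; let 𝔫 be an ideal of R
of square zero, R̄ = R/𝔫, and F̄ an R̄-submodule of H̄ = R̄ ⊗ H with free quotient such that F̄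
meets the image of R̄ ⊗ H₁ in the image of R̄ ⊗ F₁ and the image of F̄ in R̄ ⊗ H₂ is the image of R̄
⊗ F₂. Then there is a direct summand F of H with F ∩ H₁ = F₁, whose image in H̄ is F̄ and whose
image in H₂ is F₂. -/
theorem result
    (R : Type u) [CommRing R] [IsArtinianRing R] [IsLocalRing R]
    (H₁ : Type v) (H : Type v) (H₂ : Type v)
    [AddCommGroup H₁] [Module R H₁] [AddCommGroup H] [Module R H] [AddCommGroup H₂] [Module R H₂]
    [Module.Free R H₁] [Module.Finite R H₁] [Module.Free R H] [Module.Finite R H]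
    [Module.Free R H₂] [Module.Finite R H₂]
    (f : H₁ →ₗ[R] H) (g : H →ₗ[R] H₂) (hf : Function.Injective f) (hg : Function.Surjective g)
    (hfg : Function.Exact f g)
    (F₁ : Submodule R H₁) (F₂ : Submodule R H₂) [Module.Free R (H₁ ⧸ F₁)] [Module.Free R (H₂ ⧸ F₂)]
    (𝔫 : Ideal R) (hn : 𝔫 * 𝔫 = ⊥)
    (Fb : Submodule (R ⧸ 𝔫) ((R ⧸ 𝔫) ⊗[R] H))
    [Module.Free (R ⧸ 𝔫) (((R ⧸ 𝔫) ⊗[R] H) ⧸ Fb)]
    (h1 : Fb ⊓ LinearMap.range (f.baseChange (R ⧸ 𝔫)) =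
      Submodule.map (f.baseChange (R ⧸ 𝔫)) (F₁.baseChange (R ⧸ 𝔫)))
    (h2 : Submodule.map (g.baseChange (R ⧸ 𝔫)) Fb = F₂.baseChange (R ⧸ 𝔫)) :
    ∃ F : Submodule R H, (∃ C : Submodule R H, IsCompl F C) ∧
      F ⊓ LinearMap.range f = Submodule.map f F₁ ∧
      F.baseChange (R ⧸ 𝔫) = Fb ∧ Submodule.map g F = F₂ := by
  have hq : Function.Surjective (algebraMap R (R ⧸ 𝔫)) := Ideal.Quotient.mk_surjective
  have one : ∀ {M : Type v} [AddCommGroup M] [Module R M] (z : (R ⧸ 𝔫) ⊗[R] M), ∃ m : M, (1 : R ⧸ 𝔫) ⊗ₜ[R] m = z := by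
    intro M _ _ z
    induction z using TensorProduct.induction_on with
    | zero => exact ⟨0, TensorProduct.tmul_zero _ _⟩
    | tmul a m =>
      obtain ⟨r, rfl⟩ := hq a
      exact ⟨r • m, by rw [TensorProduct.tmul_smul, TensorProduct.smul_tmul', Algebra.smul_def, mul_one]⟩
    | add x y hx hy =>
      obtain ⟨a, rfl⟩ := hx
      obtain ⟨b, rfl⟩ := hy
      exact ⟨a + b, TensorProduct.tmul_add _ _ _⟩
  have mem : ∀ {M : Type v} [AddCommGroup M] [Module R M] (p : Submodule R M) (z : (R ⧸ 𝔫) ⊗[R] M),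
      z ∈ p.baseChange (R ⧸ 𝔫) ↔ ∃ x ∈ p, (1 : R ⧸ 𝔫) ⊗ₜ[R] x = z := by
    intro M _ _ p z
    rw [Submodule.baseChange_eq_span, ← Submodule.restrictScalars_mem R, Submodule.restrictScalars_span R (R ⧸ 𝔫) hq,
      Submodule.span_eq]
    exact Submodule.mem_map
  have zero : ∀ {M : Type v} [AddCommGroup M] [Module R M] (m : M),
      (1 : R ⧸ 𝔫) ⊗ₜ[R] m = 0 ↔ m ∈ 𝔫 • (⊤ : Submodule R M) := by
    intro M _ _ m
    rw [← (TensorProduct.quotTensorEquivQuotSMul M 𝔫).map_eq_zero_iff,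
      TensorProduct.quotTensorEquivQuotSMul_mk_one_tmul, Submodule.Quotient.mk_eq_zero]
  haveI : Module.Projective R F₂ := by
    obtain ⟨s, hs⟩ := Module.projective_lifting_property F₂.mkQ LinearMap.id F₂.mkQ_surjective
    refine Module.Projective.of_split F₂.subtype
      (LinearMap.codRestrict F₂ (LinearMap.id - s ∘ₗ F₂.mkQ) fun x => ?_) (LinearMap.ext fun x => Subtype.ext ?_)
    · rw [← Submodule.Quotient.mk_eq_zero F₂]
      have hx := LinearMap.congr_fun hs (F₂.mkQ x)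
      simp only [LinearMap.comp_apply, LinearMap.id_apply] at hx
      show F₂.mkQ (x - s (F₂.mkQ x)) = 0
      rw [map_sub, hx, sub_self]
    · show (x : H₂) - s (F₂.mkQ (x : H₂)) = x
      rw [Submodule.mkQ_apply, (Submodule.Quotient.mk_eq_zero F₂).2 x.2, map_zero, sub_zero]
  let π : H →ₗ[R] (R ⧸ 𝔫) ⊗[R] H := TensorProduct.mk R _ H 1
  let K : Submodule R ((R ⧸ 𝔫) ⊗[R] H) := Fb.restrictScalars R
  let G : Submodule R ((R ⧸ 𝔫) ⊗[R] H₂) := (F₂.baseChange (R ⧸ 𝔫)).restrictScalars R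
  let h : K →ₗ[R] G := LinearMap.codRestrict G ((g.baseChange (R ⧸ 𝔫)).restrictScalars R ∘ₗ K.subtype)
    fun y => by
      show g.baseChange (R ⧸ 𝔫) y ∈ F₂.baseChange (R ⧸ 𝔫)
      rw [← h2]
      exact Submodule.mem_map_of_mem y.2
  have hh : Function.Surjective h := fun z => by
    have hz : (z : (R ⧸ 𝔫) ⊗[R] H₂) ∈ F₂.baseChange (R ⧸ 𝔫) := z.2
    rw [← h2] at hz
    obtain ⟨y, hy, hyz⟩ := hz
    exact ⟨⟨y, hy⟩, Subtype.ext hyz⟩
  let P : F₂ →ₗ[R] G := LinearMap.codRestrict G (TensorProduct.mk R _ H₂ 1 ∘ₗ F₂.subtype)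
    fun x => Submodule.tmul_mem_baseChange_of_mem (1 : R ⧸ 𝔫) x.2
  obtain ⟨ℓ, hℓ⟩ := Module.projective_lifting_property h P hh
  obtain ⟨σ, hσ⟩ := Module.projective_lifting_property π (K.subtype ∘ₗ ℓ) fun z => one z
  have hσ' : ∀ x : F₂, (1 : R ⧸ 𝔫) ⊗ₜ[R] σ x = (ℓ x : (R ⧸ 𝔫) ⊗[R] H) := fun x => LinearMap.congr_fun hσ x
  have hker : ∀ x : F₂, (x : H₂) - g (σ x) ∈ 𝔫 • (⊤ : Submodule R H₂) := fun x => by
    rw [← zero, TensorProduct.tmul_sub, sub_eq_zero, ← LinearMap.baseChange_tmul, hσ']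
    exact (congrArg Subtype.val (LinearMap.congr_fun hℓ x)).symm
  let gk : (𝔫 • (⊤ : Submodule R H) : Submodule R H) →ₗ[R] (𝔫 • (⊤ : Submodule R H₂) : Submodule R H₂) :=
    LinearMap.codRestrict _ (g ∘ₗ Submodule.subtype _) fun y =>
      (Submodule.map_smul'' 𝔫 ⊤ g).trans_le (Submodule.smul_mono le_rfl le_top) (Submodule.mem_map_of_mem y.2)
  have hgk : Function.Surjective gk := fun z => by
    have hz : (z : H₂) ∈ (𝔫 • (⊤ : Submodule R H)).map g := by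
      rw [Submodule.map_smul'', Submodule.map_top, LinearMap.range_eq_top.2 hg]
      exact z.2
    obtain ⟨y, hy, hyz⟩ := hz
    exact ⟨⟨y, hy⟩, Subtype.ext hyz⟩
  obtain ⟨ε, hε⟩ := Module.projective_lifting_property gk
    (LinearMap.codRestrict _ (F₂.subtype - g ∘ₗ σ) hker) hgk
  let τ : F₂ →ₗ[R] H := σ + Submodule.subtype _ ∘ₗ ε
  have hgτ : ∀ x : F₂, g (τ x) = x := fun x => by
    have he : g (ε x : H) = (x : H₂) - g (σ x) := congrArg Subtype.val (LinearMap.congr_fun hε x)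
    show g (σ x + (ε x : H)) = _
    rw [map_add, he, add_sub_cancel]
  have hτb : ∀ x : F₂, (1 : R ⧸ 𝔫) ⊗ₜ[R] τ x = (ℓ x : (R ⧸ 𝔫) ⊗[R] H) := fun x => by
    show (1 : R ⧸ 𝔫) ⊗ₜ[R] (σ x + (ε x : H)) = _
    rw [TensorProduct.tmul_add, (zero _).2 (ε x).2, add_zero, hσ']
  obtain ⟨s₁, hs₁⟩ := Module.projective_lifting_property F₁.mkQ LinearMap.id F₁.mkQ_surjective
  obtain ⟨s₂, hs₂⟩ := Module.projective_lifting_property F₂.mkQ LinearMap.id F₂.mkQ_surjective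
  obtain ⟨s, hs⟩ := Module.projective_lifting_property g LinearMap.id hg
  have hs' : ∀ y, g (s y) = y := fun y => LinearMap.congr_fun hs y
  have hs₁' : ∀ y, F₁.mkQ (s₁ y) = y := fun y => LinearMap.congr_fun hs₁ y
  have hs₂' : ∀ y, F₂.mkQ (s₂ y) = y := fun y => LinearMap.congr_fun hs₂ y
  have gf : ∀ a, g (f a) = 0 := fun a => hfg.apply_apply_eq_zero a
  refine ⟨F₁.map f ⊔ LinearMap.range τ, ⟨LinearMap.range (f ∘ₗ s₁) ⊔ LinearMap.range (s ∘ₗ s₂), ?_⟩, ?_, ?_, ?_⟩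
  · refine ⟨Submodule.disjoint_def.2 fun x hx hx' => ?_, codisjoint_iff.2 (eq_top_iff.2 fun x _ => ?_)⟩
    · obtain ⟨_, ⟨a, ha, rfl⟩, _, ⟨b, rfl⟩, rfl⟩ := Submodule.mem_sup.1 hx
      obtain ⟨_, ⟨c, rfl⟩, _, ⟨d, rfl⟩, hcd⟩ := Submodule.mem_sup.1 hx'
      simp only [LinearMap.comp_apply] at hcd
      have h := congrArg g hcd
      rw [map_add, map_add, gf, gf, hgτ, hs', zero_add, zero_add] at h
      have hd : d = 0 := by
        rw [← hs₂' d, h]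
        exact (Submodule.Quotient.mk_eq_zero F₂).2 b.2
      have hb : b = 0 := Subtype.ext (by rw [← h, hd, map_zero]; rfl)
      rw [hd, hb, map_zero, map_zero, map_zero, add_zero, add_zero] at hcd
      have hc : c = 0 := by
        rw [← hs₁' c, hf hcd]
        exact (Submodule.Quotient.mk_eq_zero F₁).2 ha
      rw [hb, map_zero, add_zero, ← hcd, hc, map_zero, map_zero]
    · obtain ⟨d, hd⟩ : ∃ d, d = F₂.mkQ (g x) := ⟨_, rfl⟩
      have hb : g x - s₂ d ∈ F₂ := by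
        rw [← Submodule.Quotient.mk_eq_zero F₂]
        show F₂.mkQ (g x - s₂ d) = 0
        rw [map_sub, hs₂', hd, sub_self]
      obtain ⟨a, ha⟩ := (hfg (x - τ ⟨_, hb⟩ - s (s₂ d))).1 (by
        rw [map_sub, map_sub, hgτ, hs']; show g x - (g x - s₂ d) - s₂ d = 0; abel)
      obtain ⟨c, hc⟩ : ∃ c, c = F₁.mkQ a := ⟨_, rfl⟩
      have ha' : a - s₁ c ∈ F₁ := by
        rw [← Submodule.Quotient.mk_eq_zero F₁]
        show F₁.mkQ (a - s₁ c) = 0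
        rw [map_sub, hs₁', hc, sub_self]
      refine Submodule.mem_sup.2 ⟨f (a - s₁ c) + τ ⟨_, hb⟩, Submodule.mem_sup.2 ⟨_, ⟨_, ha', rfl⟩, _, ⟨_, rfl⟩, rfl⟩,
        f (s₁ c) + s (s₂ d), Submodule.mem_sup.2 ⟨_, ⟨c, rfl⟩, _, ⟨d, rfl⟩, rfl⟩, ?_⟩
      rw [map_sub, ha]
      abel
  · refine le_antisymm ?_ (le_inf le_sup_left ?_)
    · rintro x ⟨hx, c, rfl⟩
      obtain ⟨_, ⟨a, ha, rfl⟩, _, ⟨b, rfl⟩, hab⟩ := Submodule.mem_sup.1 hx
      have h := congrArg g hab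
      rw [map_add, gf, gf, hgτ, zero_add] at h
      have hb : b = 0 := Subtype.ext h
      rw [hb, map_zero, add_zero] at hab
      exact hab ▸ Submodule.mem_map_of_mem ha
    · rintro _ ⟨a, -, rfl⟩
      exact ⟨a, rfl⟩
  · refine le_antisymm (fun z hz => ?_) fun z hz => ?_
    · obtain ⟨_, hx, rfl⟩ := (mem _ z).1 hz
      obtain ⟨_, ⟨a, ha, rfl⟩, _, ⟨b, rfl⟩, rfl⟩ := Submodule.mem_sup.1 hx
      rw [TensorProduct.tmul_add, hτb]
      refine add_mem ?_ (ℓ b).2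
      have h : f.baseChange (R ⧸ 𝔫) (1 ⊗ₜ a) ∈ Fb ⊓ LinearMap.range (f.baseChange (R ⧸ 𝔫)) := by
        rw [h1]
        exact Submodule.mem_map_of_mem (Submodule.tmul_mem_baseChange_of_mem _ ha)
      exact h.1
    · obtain ⟨x, hx, hxz⟩ := (mem F₂ (g.baseChange (R ⧸ 𝔫) z)).1 (h2 ▸ Submodule.mem_map_of_mem hz)
      have hr : z - (ℓ ⟨x, hx⟩ : (R ⧸ 𝔫) ⊗[R] H) ∈ LinearMap.range (f.baseChange (R ⧸ 𝔫)) := by
        have he : g.baseChange (R ⧸ 𝔫) (ℓ ⟨x, hx⟩ : (R ⧸ 𝔫) ⊗[R] H) = (1 : R ⧸ 𝔫) ⊗ₜ[R] x :=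
          congrArg Subtype.val (LinearMap.congr_fun hℓ ⟨x, hx⟩)
        have h0 : g.baseChange (R ⧸ 𝔫) (z - ℓ ⟨x, hx⟩) = 0 := by rw [map_sub, he, hxz, sub_self]
        rw [LinearMap.baseChange_eq_ltensor] at h0
        obtain ⟨w, hw⟩ := (lTensor_exact (R ⧸ 𝔫) hfg hg _).1 h0
        exact ⟨w, by rw [LinearMap.baseChange_eq_ltensor]; exact hw⟩
      have hr' : z - (ℓ ⟨x, hx⟩ : (R ⧸ 𝔫) ⊗[R] H) ∈
          Submodule.map (f.baseChange (R ⧸ 𝔫)) (F₁.baseChange (R ⧸ 𝔫)) := by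
        rw [← h1]
        exact ⟨sub_mem hz (ℓ ⟨x, hx⟩).2, hr⟩
      obtain ⟨_, hw, hwz⟩ := hr'
      obtain ⟨a, ha, rfl⟩ := (mem _ _).1 hw
      refine (mem _ _).2 ⟨f a + τ ⟨x, hx⟩, Submodule.mem_sup.2 ⟨_, ⟨a, ha, rfl⟩, _, ⟨_, rfl⟩, rfl⟩, ?_⟩
      rw [TensorProduct.tmul_add, hτb, ← LinearMap.baseChange_tmul, hwz, sub_add_cancel]
  · refine le_antisymm ?_ fun x hx => ⟨τ ⟨x, hx⟩, Submodule.mem_sup_right ⟨_, rfl⟩, hgτ _⟩
    rintro _ ⟨_, hx, rfl⟩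
    obtain ⟨_, ⟨a, ha, rfl⟩, _, ⟨b, rfl⟩, rfl⟩ := Submodule.mem_sup.1 hx
    rw [map_add, gf, hgτ, zero_add]
    exact b.2

end Groth.Agent.S16419
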