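import Mathlib
import Groth.Statements.S16420

set_option autoImplicit false
universe u v
open CAlg

namespace Groth.Agent.S16420

section

open TensorProduct

variable {R : Type u} [CommRing R] {H : Type v} [AddCommGroup H] [Module R H]

lemma one_tmul_eq_zero_iff (𝔫 : Ideal R) (x : H) :
    ((1 : R ⧸ 𝔫) ⊗ₜ[R] x) = 0 ↔ x ∈ 𝔫 • (⊤ : Submodule R H) := by
  rw [← (quotTensorEquivQuotSMul H 𝔫).map_eq_zero_iff, ← map_one (Ideal.Quotient.mk 𝔫),
    quotTensorEquivQuotSMul_mk_tmul, one_smul, Submodule.Quotient.mk_eq_zero]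

lemma exists_retraction (F : Submodule R H) [Module.Free R (H ⧸ F)] :
    ∃ r : H →ₗ[R] F, ∀ x : F, r x = x := by
  obtain ⟨σ, hσ⟩ := Module.projective_lifting_property F.mkQ LinearMap.id F.mkQ_surjective
  refine ⟨LinearMap.codRestrict F (LinearMap.id - σ ∘ₗ F.mkQ) fun x => ?_, fun x => ?_⟩
  · rw [← Submodule.Quotient.mk_eq_zero]
    have := LinearMap.congr_fun hσ (Submodule.Quotient.mk x)
    simp only [LinearMap.comp_apply, Submodule.mkQ_apply, LinearMap.id_apply] at this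
    simp [this]
  · apply Subtype.ext
    simp [(Submodule.Quotient.mk_eq_zero F).2 x.2]

lemma smul_top_le_map {H' : Type v} [AddCommGroup H'] [Module R H'] (l : H →ₗ[R] H') (𝔫 : Ideal R)
    {x : H} (hx : x ∈ 𝔫 • (⊤ : Submodule R H)) : l x ∈ 𝔫 • LinearMap.range l := by
  rw [LinearMap.range_eq_map, ← Submodule.map_smul'']
  exact Submodule.mem_map_of_mem hx

end

open TensorProduct in
/-- For a commutative local Artinian ring R and an exact sequence 0 → H₁ → H → H₂ → 0 of finite free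
R-modules, let F₁ ⊆ H₁ and F₂ ⊆ H₂ be submodules with free quotients, 𝔫 an ideal of R of square
zero, R̄ = R/𝔫, and F̄ ⊆ H̄ = R̄ ⊗ H an R̄-submodule with free quotient meeting the image of R̄ ⊗ H₁
in the image of R̄ ⊗ F₁ and mapping onto the image of R̄ ⊗ F₂; let L be the set of direct summands F
of H with F ∩ H₁ = F₁, with image F̄ in H̄ and with image F₂ in H₂. Then L is a torsor under
Hom_R(F₂, 𝔫(H₁/F₁)), acting as follows: an R-linear u : H₂ → H₁ with u(H₂) ⊆ 𝔫H₁ moves F ∈ L to the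
image of F under x ↦ x + f(u(g(x))). Precisely, for F ∈ L: (1) that image again lies in L; (2) it
equals F if and only if u(F₂) ⊆ 𝔫F₁; (3) every F' ∈ L is obtained from F in this way for some such
u. (The published statement phrases the torsor under the R̄-linear maps from F̄₂ to 𝔫 ⊗ (H̄₁/F̄₁), a
group identified with the maps u as above modulo those with u(F₂) ⊆ 𝔫F₁, and describes the action
through a lift F₂ → 𝔫 ⊗ H₁ composed with F → F/F₁ ≅ F₂; restricted to F this is x ↦ f(u(g(x))).) -/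
theorem result
    (R : Type u) [CommRing R] [IsArtinianRing R] [IsLocalRing R]
    (H₁ : Type v) (H : Type v) (H₂ : Type v)
    [AddCommGroup H₁] [Module R H₁] [AddCommGroup H] [Module R H] [AddCommGroup H₂] [Module R H₂]
    [Module.Free R H₁] [Module.Finite R H₁] [Module.Free R H] [Module.Finite R H]
    [Module.Free R H₂] [Module.Finite R H₂]
    (f : H₁ →ₗ[R] H) (g : H →ₗ[R] H₂) (hf : Function.Injective f) (hg : Function.Surjective g)
    (hfg : Function.Exact f g)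
    (F₁ : Submodule R H₁) (F₂ : Submodule R H₂) [Module.Free R (H₁ ⧸ F₁)] [Module.Free R (H₂ ⧸ F₂)]
    (𝔫 : Ideal R) (hn : 𝔫 * 𝔫 = ⊥)
    (Fb : Submodule (R ⧸ 𝔫) ((R ⧸ 𝔫) ⊗[R] H))
    [Module.Free (R ⧸ 𝔫) (((R ⧸ 𝔫) ⊗[R] H) ⧸ Fb)]
    (h1 : Fb ⊓ LinearMap.range (f.baseChange (R ⧸ 𝔫)) =
      Submodule.map (f.baseChange (R ⧸ 𝔫)) (F₁.baseChange (R ⧸ 𝔫)))
    (h2 : Submodule.map (g.baseChange (R ⧸ 𝔫)) Fb = F₂.baseChange (R ⧸ 𝔫))
    (F F' : Submodule R H)
    (hF : (∃ C : Submodule R H, IsCompl (F) C) ∧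
      (F) ⊓ LinearMap.range f = Submodule.map f F₁ ∧
      Submodule.baseChange (R ⧸ 𝔫) (F) = Fb ∧ Submodule.map g (F) = F₂)
    (hF' : (∃ C : Submodule R H, IsCompl (F') C) ∧
      (F') ⊓ LinearMap.range f = Submodule.map f F₁ ∧
      Submodule.baseChange (R ⧸ 𝔫) (F') = Fb ∧ Submodule.map g (F') = F₂) :
    (∀ u : H₂ →ₗ[R] H₁, (∀ y : H₂, u y ∈ 𝔫 • (⊤ : Submodule R H₁)) →
      (∃ C : Submodule R H, IsCompl (Submodule.map (LinearMap.id + f ∘ₗ u ∘ₗ g) F) C) ∧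
      (Submodule.map (LinearMap.id + f ∘ₗ u ∘ₗ g) F) ⊓ LinearMap.range f = Submodule.map f F₁ ∧
      Submodule.baseChange (R ⧸ 𝔫) (Submodule.map (LinearMap.id + f ∘ₗ u ∘ₗ g) F) = Fb ∧ Submodule.map g (Submodule.map (LinearMap.id + f ∘ₗ u ∘ₗ g) F) = F₂) ∧
    (∀ u : H₂ →ₗ[R] H₁, (∀ y : H₂, u y ∈ 𝔫 • (⊤ : Submodule R H₁)) →
      (Submodule.map (LinearMap.id + f ∘ₗ u ∘ₗ g) F = F ↔ ∀ y ∈ F₂, u y ∈ 𝔫 • F₁)) ∧
    (∃ u : H₂ →ₗ[R] H₁, (∀ y : H₂, u y ∈ 𝔫 • (⊤ : Submodule R H₁)) ∧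
      F' = Submodule.map (LinearMap.id + f ∘ₗ u ∘ₗ g) F) := by
  obtain ⟨hCex, hFf, hFb, hFg⟩ := hF
  obtain ⟨-, hFf', hFb', hFg'⟩ := hF'
  obtain ⟨r₁, hr₁⟩ := exists_retraction F₁
  obtain ⟨r₂, hr₂⟩ := exists_retraction F₂
  have hgf : ∀ x, g (f x) = 0 := fun x => (hfg _).2 ⟨x, rfl⟩
  let φ : (H₂ →ₗ[R] H₁) → H →ₗ[R] H := fun u => LinearMap.id + f ∘ₗ u ∘ₗ g
  have hφ : ∀ u x, φ u x = x + f (u (g x)) := fun u x => rfl
  have hgφ : ∀ u x, g (φ u x) = g x := fun u x => by rw [hφ, map_add, hgf, add_zero]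
  have hinv : ∀ u x, φ u (φ (-u) x) = x := fun u x => by
    rw [hφ u, hgφ, hφ, LinearMap.neg_apply, map_neg]; abel
  refine ⟨fun u hu => ?_, fun u hu => ?_, ?_⟩
  · let e : H ≃ₗ[R] H := LinearEquiv.ofLinear (φ u) (φ (-u)) (LinearMap.ext (hinv u))
      (LinearMap.ext fun x => by simpa using hinv (-u) x)
    have he : ∀ x, e x = φ u x := fun x => rfl
    refine ⟨?_, ?_, ?_, ?_⟩
    · obtain ⟨C, hC⟩ := hCex
      exact ⟨C.map e.toLinearMap, hC.map (Submodule.orderIsoMapComap e)⟩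
    · refine le_antisymm ?_ ?_
      · rintro _ ⟨⟨x, hx, rfl⟩, ⟨a, ha⟩⟩
        have hgx : g x = 0 := by
          have := hgφ u x
          rw [← this]
          exact (congrArg g ha.symm).trans (hgf a)
        obtain ⟨b, rfl⟩ := (hfg x).1 hgx
        obtain ⟨c, hc, hcb⟩ := hFf.le (⟨hx, ⟨b, rfl⟩⟩ : f b ∈ F ⊓ LinearMap.range f)
        refine ⟨c, hc, ?_⟩
        rw [hcb]
        change f b = φ u (f b)
        rw [hφ, hgf, map_zero, map_zero, add_zero]
      · rintro _ ⟨c, hc, rfl⟩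
        have hcF : f c ∈ F := (hFf.ge ⟨c, hc, rfl⟩).1
        exact ⟨⟨f c, hcF, (hφ u (f c)).trans (by rw [hgf, map_zero, map_zero, add_zero])⟩, c, rfl⟩
    · rw [← hFb, Submodule.baseChange_eq_span, Submodule.baseChange_eq_span]
      congr 1
      rw [← Submodule.map_comp]
      refine congrArg SetLike.coe ?_
      ext z
      have hkey : ∀ x, (1 : R ⧸ 𝔫) ⊗ₜ[R] φ u x = 1 ⊗ₜ[R] x := fun x => by
        rw [hφ, TensorProduct.tmul_add, (one_tmul_eq_zero_iff 𝔫 (f (u (g x)))).2, add_zero]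
        exact Submodule.smul_mono le_rfl le_top (smul_top_le_map f 𝔫 (hu _))
      exact exists_congr fun x => and_congr_right fun _ => by
        change (1 : R ⧸ 𝔫) ⊗ₜ[R] φ u x = z ↔ (1 : R ⧸ 𝔫) ⊗ₜ[R] x = z
        rw [hkey]
    · rw [← hFg, ← Submodule.map_comp]
      exact congrArg (fun l => Submodule.map l F) (LinearMap.ext (hgφ u))
  · constructor
    · intro h y hy
      obtain ⟨x, hx, rfl⟩ := hFg.ge hy
      have h1 : φ u x ∈ F := h.le ⟨x, hx, rfl⟩
      rw [hφ] at h1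
      obtain ⟨c, hc, hcu⟩ := hFf.le (⟨(F.add_mem_iff_right hx).1 h1, ⟨_, rfl⟩⟩ :
        f (u (g x)) ∈ F ⊓ LinearMap.range f)
      have h2 : u (g x) ∈ F₁ := hf hcu ▸ hc
      have h3 := smul_top_le_map (F₁.subtype ∘ₗ r₁) 𝔫 (hu (g x))
      rw [LinearMap.comp_apply, Submodule.subtype_apply, hr₁ ⟨_, h2⟩] at h3
      refine Submodule.smul_mono le_rfl ?_ h3
      rintro _ ⟨z, rfl⟩
      exact (r₁ z).2
    · intro h
      have hle : ∀ x ∈ F, f (u (g x)) ∈ F := fun x hx =>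
        (hFf.ge ⟨_, Submodule.smul_le_right (h _ (hFg.le ⟨x, hx, rfl⟩)), rfl⟩).1
      refine le_antisymm ?_ fun x hx => ⟨φ (-u) x, ?_, hinv u x⟩
      · rintro _ ⟨x, hx, rfl⟩
        exact F.add_mem hx (hle x hx)
      · rw [hφ, LinearMap.neg_apply, map_neg]
        exact F.add_mem hx (F.neg_mem (hle x hx))
  · haveI : Module.Projective R F₂ :=
      Module.Projective.of_split F₂.subtype r₂ (LinearMap.ext hr₂)
    have sect : ∀ G : Submodule R H, Submodule.map g G = F₂ →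
        ∃ s : F₂ →ₗ[R] H, ∀ y, s y ∈ G ∧ g (s y) = y := by
      intro G hG
      let gG : G →ₗ[R] F₂ := LinearMap.codRestrict F₂ (g ∘ₗ G.subtype) fun x => hG.le ⟨x, x.2, rfl⟩
      have hgG : Function.Surjective gG := fun y => by
        obtain ⟨x, hx, hxy⟩ := hG.ge y.2
        exact ⟨⟨x, hx⟩, Subtype.ext hxy⟩
      obtain ⟨s, hs⟩ := Module.projective_lifting_property gG LinearMap.id hgG
      exact ⟨G.subtype ∘ₗ s, fun y =>
        ⟨(s y).2, congrArg Subtype.val (LinearMap.congr_fun hs y)⟩⟩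
    obtain ⟨s, hs⟩ := sect F hFg
    obtain ⟨s', hs'⟩ := sect F' hFg'
    obtain ⟨σ, hσ⟩ := Module.projective_lifting_property g LinearMap.id hg
    -- retraction of `f`
    let l0 : H →ₗ[R] LinearMap.range f := LinearMap.codRestrict _ (LinearMap.id - σ ∘ₗ g) fun x => by
      refine (hfg _).1 ?_
      have := LinearMap.congr_fun hσ (g x)
      simp only [LinearMap.comp_apply, LinearMap.id_apply] at this
      simp [this]
    let l : H →ₗ[R] H₁ := (LinearEquiv.ofInjective f hf).symm.toLinearMap ∘ₗ l0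
    have hl : ∀ a, l (f a) = a := fun a => by
      have : l0 (f a) = LinearEquiv.ofInjective f hf a := Subtype.ext (by simp [l0, hgf])
      simp [l, this]
    have hfl : ∀ x, g x = 0 → f (l x) = x := fun x hx => by
      obtain ⟨a, rfl⟩ := (hfg x).1 hx
      rw [hl]
    let w : F₂ →ₗ[R] H₁ := l ∘ₗ (s' - s)
    let q : H₁ →ₗ[R] H₁ := LinearMap.id - F₁.subtype ∘ₗ r₁
    have hfw : ∀ y, f (w y) = s' y - s y := fun y => by
      refine hfl _ ?_
      rw [LinearMap.sub_apply, map_sub, (hs y).2, (hs' y).2, sub_self]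
    have hq0 : ∀ a ∈ F₁, q a = 0 := fun a ha => by simp [q, hr₁ ⟨a, ha⟩]
    have hqw : ∀ y, q (w y) ∈ 𝔫 • (⊤ : Submodule R H₁) := by
      intro y
      rw [← one_tmul_eq_zero_iff]
      have h3 : f.baseChange (R ⧸ 𝔫) (1 ⊗ₜ w y) ∈ Fb ⊓ LinearMap.range (f.baseChange (R ⧸ 𝔫)) := by
        refine ⟨?_, ⟨_, rfl⟩⟩
        rw [LinearMap.baseChange_tmul, hfw, TensorProduct.tmul_sub]
        exact Fb.sub_mem (hFb' ▸ Submodule.tmul_mem_baseChange_of_mem 1 (hs' y).1)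
          (hFb ▸ Submodule.tmul_mem_baseChange_of_mem 1 (hs y).1)
      obtain ⟨z, hz, hzw⟩ := h1.le h3
      have hinj : Function.Injective (f.baseChange (R ⧸ 𝔫)) := by
        refine Function.LeftInverse.injective (g := l.baseChange (R ⧸ 𝔫)) fun t => ?_
        rw [← LinearMap.comp_apply, ← LinearMap.baseChange_comp,
          show l ∘ₗ f = LinearMap.id from LinearMap.ext hl, LinearMap.baseChange_id,
          LinearMap.id_apply]
      have hz0 : ∀ z ∈ F₁.baseChange (R ⧸ 𝔫), q.baseChange (R ⧸ 𝔫) z = 0 := by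
        intro z hz
        rw [Submodule.baseChange_eq_span] at hz
        induction hz using Submodule.span_induction with
        | mem x hx =>
            obtain ⟨a, ha, rfl⟩ := hx
            simp [hq0 a ha]
        | zero => simp
        | add a b _ _ ha hb => simp [ha, hb]
        | smul a b _ hb => simp [hb]
      have := hz0 z hz
      rw [hinj hzw, LinearMap.baseChange_tmul] at this
      exact this
    refine ⟨q ∘ₗ w ∘ₗ r₂, fun y => hqw _, ?_⟩
    have hsu : ∀ y, φ (q ∘ₗ w ∘ₗ r₂) (s y) = s' y - f (F₁.subtype (r₁ (w y))) := fun y => by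
      rw [hφ, (hs y).2, LinearMap.comp_apply, LinearMap.comp_apply, hr₂,
        show q (w y) = w y - F₁.subtype (r₁ (w y)) from rfl, map_sub, hfw]
      abel
    have hF₁F' : ∀ c ∈ F₁, f c ∈ F' := fun c hc => (hFf'.ge ⟨c, hc, rfl⟩).1
    have hF₁F : ∀ c ∈ F₁, f c ∈ F := fun c hc => (hFf.ge ⟨c, hc, rfl⟩).1
    have hsF' : ∀ y, φ (q ∘ₗ w ∘ₗ r₂) (s y) ∈ F' := fun y => by
      rw [hsu]; exact F'.sub_mem (hs' y).1 (hF₁F' _ (r₁ _).2)
    have hfix : ∀ c, φ (q ∘ₗ w ∘ₗ r₂) (f c) = f c := fun c => by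
      rw [hφ, hgf, map_zero, map_zero, add_zero]
    refine le_antisymm (fun x' hx' => ?_) ?_
    · let y : F₂ := ⟨g x', hFg'.le ⟨x', hx', rfl⟩⟩
      obtain ⟨a, ha⟩ := (hfg (x' - φ (q ∘ₗ w ∘ₗ r₂) (s y))).1 (by
        rw [map_sub, hgφ, (hs y).2, sub_self])
      obtain ⟨c, hc, hca⟩ := hFf'.le (⟨ha ▸ F'.sub_mem hx' (hsF' y), ⟨a, rfl⟩⟩ :
        f a ∈ F' ⊓ LinearMap.range f)
      refine ⟨s y + f c, F.add_mem (hs y).1 (hF₁F c hc), ?_⟩
      change φ _ (s y + f c) = x'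
      rw [map_add, hfix, hca, ha]
      abel
    · rintro _ ⟨x, hx, rfl⟩
      let y : F₂ := ⟨g x, hFg.le ⟨x, hx, rfl⟩⟩
      obtain ⟨a, ha⟩ := (hfg (x - s y)).1 (by rw [map_sub, (hs y).2, sub_self])
      obtain ⟨c, hc, hca⟩ := hFf.le (⟨ha ▸ F.sub_mem hx (hs y).1, ⟨a, rfl⟩⟩ :
        f a ∈ F ⊓ LinearMap.range f)
      change φ _ x ∈ F'
      rw [show x = s y + f c by rw [hca, ha]; abel, map_add, hfix]
      exact F'.add_mem (hsF' y) (hF₁F' c hc)

end Groth.Agent.S16420
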