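import Groth.Statements.S16421
import Groth.Agent.PerfectionLib.Basic

set_option autoImplicit false
universe u
open FrobAlg

namespace Groth.Agent.S16421

/-- Let p be a prime and R a commutative ring of characteristic p with a p-basis (x_i), meaning that the
monomials ∏ x_i^(e i) with every exponent e i < p form a basis of R as a module over itself through
the Frobenius, i.e. the map sending a finitely supported family of coefficients c to ∑_e (c e)^p · ∏
x_i^(e i) is a bijection onto R. Then the canonical ring map from R to its perfect closure is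
faithfully flat. -/
theorem result (p : ℕ) [Fact p.Prime]
    (R : Type u) [CommRing R] [CharP R p] (ι : Type u) (x : ι → R)
    (hx : Function.Bijective
      (fun c : {e : ι →₀ ℕ // ∀ i, e i < p} →₀ R =>
        c.sum (fun e r => r ^ p * e.1.prod (fun i n => x i ^ n)))) :
    (PerfectClosure.of R p).FaithfullyFlat := by
  classical
  let F : ({e : ι →₀ ℕ // ∀ i, e i < p} →₀ R) → R := fun c => c.sum (fun e r => r ^ p * e.1.prod (fun i n => x i ^ n))
  let m : {e : ι →₀ ℕ // ∀ i, e i < p} → R := fun e => e.1.prod (fun i n => x i ^ n)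
  -- iterating the p-basis: every family is a combination with p^n-th power coefficients
  have hone : ∀ r : R, ∃ (s : Finset {e : ι →₀ ℕ // ∀ i, e i < p}) (c : {e : ι →₀ ℕ // ∀ i, e i < p} → R),
      r = ∑ e ∈ s, c e ^ p * m e := fun r => by
    obtain ⟨c, hc⟩ := hx.2 r
    exact ⟨c.support, c, hc.symm⟩
  have hindep : ∀ (s : Finset {e : ι →₀ ℕ // ∀ i, e i < p}) (c : {e : ι →₀ ℕ // ∀ i, e i < p} → R),
      ∑ e ∈ s, c e ^ p * m e = 0 → ∀ e ∈ s, c e = 0 := fun s c h e he => by
    have hsupp : (Finsupp.onFinset s (fun e => if e ∈ s then c e else 0) (fun e h => by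
        by_contra hn; exact h (if_neg hn))) = 0 := by
      refine hx.1 ?_
      show F _ = F 0
      simp only [F, Finsupp.sum_zero_index]
      rw [Finsupp.onFinset_sum _ (fun e => by rw [zero_pow (Fact.out : p.Prime).ne_zero, zero_mul])]
      exact (Finset.sum_congr rfl fun e he => by rw [if_pos he]).trans h
    have := DFunLike.congr_fun hsupp e
    simpa [he] using this
  have hred : ∀ z : R, z ^ p = 0 → z = 0 := fun z hz => by
    let e0 : {e : ι →₀ ℕ // ∀ i, e i < p} := ⟨0, fun i => by simpa using (Fact.out : p.Prime).pos⟩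
    exact hindep {e0} (fun _ => z) (by simp [m, e0, hz]) e0 (Finset.mem_singleton_self _)
  have hredn : ∀ (n : ℕ) (z : R), z ^ p ^ n = 0 → z = 0 := fun n => by
    induction n with
    | zero => intro z hz; simpa using hz
    | succ n ih => intro z hz; exact hred z (ih _ (by rwa [← pow_mul, ← pow_succ']))
  -- the iterated statement
  have hiter : ∀ (n l : ℕ) (a y : Fin l → R), ∑ i, a i ^ p ^ n * y i = 0 →
      ∃ (κ : Type u) (_ : Fintype κ) (c : Fin l → κ → R) (mm : κ → R),
        (∀ i, y i = ∑ j, c i j ^ p ^ n * mm j) ∧ ∀ j, ∑ i, a i * c i j = 0 := fun n => by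
    induction n with
    | zero =>
      intro l a y h
      exact ⟨PUnit, inferInstance, fun i _ => y i, fun _ => 1, fun i => by simp, fun _ => by simpa using h⟩
    | succ n ih =>
      intro l a y h
      obtain ⟨κ, hκ, c, mm, hc, hac⟩ := ih l (fun i => a i ^ p) y (by
        simpa only [← pow_mul, ← pow_succ'] using h)
      choose s d hd using fun i j => hone (c i j)
      let S : κ → Finset {e : ι →₀ ℕ // ∀ i, e i < p} := fun j => Finset.univ.biUnion fun i => s i j
      let d' : Fin l → κ → {e : ι →₀ ℕ // ∀ i, e i < p} → R := fun i j e => if e ∈ s i j then d i j e else 0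
      have hd' : ∀ i j, c i j = ∑ e ∈ S j, d' i j e ^ p * m e := fun i j => by
        rw [hd i j]
        symm
        refine ((Finset.sum_subset (Finset.subset_biUnion_of_mem (fun i => s i j) (Finset.mem_univ i)) fun e _ he => ?_).symm).trans ?_
        · simp only [d', if_neg he, zero_pow (Fact.out : p.Prime).ne_zero, zero_mul]
        · exact Finset.sum_congr rfl fun e he => by simp only [d', if_pos he]
      refine ⟨Σ j, {e // e ∈ S j}, inferInstance, fun i q => d' i q.1 q.2.1,
        fun q => m q.2.1 ^ p ^ n * mm q.1, fun i => ?_, fun q => ?_⟩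
      · rw [hc i, Fintype.sum_sigma]
        refine Finset.sum_congr rfl fun j _ => ?_
        rw [hd', sum_pow_char_pow, Finset.sum_mul, ← Finset.sum_coe_sort]
        refine Finset.sum_congr rfl fun e _ => ?_
        rw [mul_pow, ← pow_mul, ← pow_succ', mul_assoc]
      · refine hindep (S q.1) (fun e => ∑ i, a i * d' i q.1 e) ?_ q.2.1 q.2.2
        rw [← hac q.1]
        simp only [sum_pow_char, Finset.sum_mul]
        rw [Finset.sum_comm]
        refine Finset.sum_congr rfl fun i _ => ?_
        rw [hd', Finset.mul_sum]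
        exact Finset.sum_congr rfl fun e _ => by rw [mul_pow, mul_assoc]
  rw [RingHom.FaithfullyFlat.iff_flat_and_comap_surjective]
  refine ⟨?_, (Groth.Agent.PerfectionLib.comap_bijective (p := p) (PerfectClosure.of R p)).2⟩
  letI := (PerfectClosure.of R p).toAlgebra
  show Module.Flat R (PerfectClosure R p)
  rw [Module.Flat.iff_forall_isTrivialRelation]
  intro l a z hz
  choose n y hy using fun i => Groth.Agent.PerfectionLib.exists_pow_mem (p := p) (PerfectClosure.of R p) (z i)
  let N := Finset.univ.sup n
  let y' : Fin l → R := fun i => y i ^ p ^ (N - n i)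
  have hy' : ∀ i, PerfectClosure.of R p (y' i) = z i ^ p ^ N := fun i => by
    rw [map_pow, hy, ← pow_mul, ← pow_add, Nat.add_sub_cancel' (Finset.le_sup (Finset.mem_univ i))]
  have h0 : PerfectClosure.of R p (∑ i, a i ^ p ^ N * y' i) = 0 := by
    have hz' : ∑ i, PerfectClosure.of R p (a i) * z i = 0 := hz
    simp only [map_sum, map_mul, map_pow, hy', ← mul_pow]
    rw [← sum_pow_char_pow, hz', zero_pow (pow_ne_zero _ (Fact.out : p.Prime).ne_zero)]
  obtain ⟨k, hk⟩ := Groth.Agent.PerfectionLib.nilpotent_of_eq_zero (p := p) (PerfectClosure.of R p) h0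
  obtain ⟨κ, hκ, c, mm, hc, hac⟩ := hiter N l a y'
    (hredn k _ (pow_eq_zero_of_le (Nat.lt_pow_self (Fact.out : p.Prime).one_lt).le hk))
  choose r hr using fun j => Groth.Agent.PerfectionLib.exists_root (p := p) (PerfectClosure.of R p (mm j)) N
  let e := Fintype.equivFin κ
  refine ⟨Fintype.card κ, fun i j => c i (e.symm j), fun j => r (e.symm j), fun i => ?_, fun j => hac _⟩
  refine Groth.Agent.PerfectionLib.pow_inj (p := p) (n := N) ?_
  rw [← hy', hc, map_sum, sum_pow_char_pow]
  refine (Fintype.sum_equiv e _ _ fun j => ?_)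
  simp only [Equiv.symm_apply_apply]
  rw [map_mul, map_pow, ← hr]
  show _ = (PerfectClosure.of R p (c i j) * r j) ^ p ^ N
  rw [mul_pow]

end Groth.Agent.S16421
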