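import Groth.Statements.S16422
-- import your own Groth.Agent.* helpers here

set_option autoImplicit false
universe u
open GrMod

namespace Groth.Agent.S16422

/-- Let S be a commutative ring graded by ℤ with pieces 𝒜 n, and V a decreasing sequence of homogeneous
ideals for which S is graded-complete, i.e. for each degree n the map from 𝒜 n to the inverse limit
of the quotients 𝒜 n / (𝒜 n ∩ V m) is bijective (stated as: a degree-n element in every V m
vanishes, and every sequence in 𝒜 n whose consecutive differences lie in the V m has a limit in 𝒜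
n). Then every graded S-module M which is finitely generated and projective as an S-module is
graded-complete in the same sense for the submodules V m · M: for each n the map from ℳ n to the
inverse limit of ℳ n / (ℳ n ∩ V m · M) is bijective. -/
theorem result
    (S : Type u) [CommRing S] (𝒜 : ℤ → AddSubgroup S) [GradedRing 𝒜]
    (V : ℕ → HomogeneousIdeal 𝒜) (hV : ∀ m, (V (m + 1)).toIdeal ≤ (V m).toIdeal)
    (hsep : ∀ (n : ℤ) (s : S), s ∈ 𝒜 n → (∀ m, s ∈ (V m).toIdeal) → s = 0)
    (hcpl : ∀ (n : ℤ) (f : ℕ → S), (∀ m, f m ∈ 𝒜 n) →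
      (∀ m, f (m + 1) - f m ∈ (V m).toIdeal) → ∃ s ∈ 𝒜 n, ∀ m, s - f m ∈ (V m).toIdeal)
    (M : Type u) [AddCommGroup M] [Module S M] (ℳ : ℤ → AddSubgroup M)
    [DirectSum.Decomposition ℳ] [SetLike.GradedSMul 𝒜 ℳ]
    [Module.Finite S M] [Module.Projective S M] :
    (∀ (n : ℤ) (x : M), x ∈ ℳ n → (∀ m, x ∈ (V m).toIdeal • (⊤ : Submodule S M)) → x = 0) ∧
    (∀ (n : ℤ) (g : ℕ → M), (∀ m, g m ∈ ℳ n) →
      (∀ m, g (m + 1) - g m ∈ (V m).toIdeal • (⊤ : Submodule S M)) →
      ∃ x ∈ ℳ n, ∀ m, x - g m ∈ (V m).toIdeal • (⊤ : Submodule S M)) := by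
  classical
  obtain ⟨T, hT⟩ := Module.Finite.fg_top (R := S) (M := M)
  -- homogeneous generators
  let ι := Σ x : T, {i : ℤ // i ∈ (DirectSum.decompose ℳ (x : M)).support}
  let g : ι → M := fun j => ((DirectSum.decompose ℳ (j.1 : M)) j.2 : M)
  let d : ι → ℤ := fun j => j.2
  have hg : ∀ j, g j ∈ ℳ (d j) := fun j => SetLike.coe_mem _
  let π : (ι → S) →ₗ[S] M := Fintype.linearCombination S g
  have hπ : Function.Surjective π := by
    rw [← LinearMap.range_eq_top, Fintype.range_linearCombination, eq_top_iff, ← hT, Submodule.span_le]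
    intro x hx
    rw [SetLike.mem_coe, ← DirectSum.sum_support_decompose ℳ x]
    exact Submodule.sum_mem _ fun i hi => Submodule.subset_span ⟨⟨⟨x, hx⟩, ⟨i, hi⟩⟩, rfl⟩
  obtain ⟨s, hs⟩ := Module.projective_lifting_property π LinearMap.id hπ
  have hs' : ∀ x, ∑ j, s x j • g j = x := fun x => by
    have := LinearMap.congr_fun hs x
    simpa [π, Fintype.linearCombination_apply] using this
  let c : ℤ → ι → M → S := fun n j x => GradedRing.proj 𝒜 (n - d j) (s x j)
  have hcdef : ∀ n j x, c n j x = GradedRing.proj 𝒜 (n - d j) (s x j) := fun _ _ _ => rfl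
  have hcA : ∀ n j x, c n j x ∈ 𝒜 (n - d j) := fun n j x => by
    rw [hcdef, GradedRing.proj_apply]; exact SetLike.coe_mem _
  -- the coordinates of an element of `V m • ⊤` lie in `V m`
  have hcV : ∀ n j m x, x ∈ (V m).toIdeal • (⊤ : Submodule S M) → c n j x ∈ (V m).toIdeal := by
    intro n j m x hx
    have h1 : s x j ∈ (V m).toIdeal := by
      refine Submodule.smul_induction_on hx (fun r hr y _ => ?_) (fun y z hy hz => ?_)
      · rw [map_smul, Pi.smul_apply, smul_eq_mul]
        exact Ideal.mul_mem_right _ _ hr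
      · rw [map_add, Pi.add_apply]
        exact Ideal.add_mem _ hy hz
    rw [hcdef, GradedRing.proj_apply]
    exact (V m).isHomogeneous _ h1
  have hrec : ∀ n x, x ∈ ℳ n → ∑ j, c n j x • g j = x := by
    intro n x hx
    let Q : M →+ M :=
      ((ℳ n).subtype.comp (DFinsupp.evalAddMonoidHom n)).comp (DirectSum.decomposeAddEquiv ℳ).toAddMonoidHom
    have hQm : ∀ i y, y ∈ ℳ i → Q y = if i = n then y else 0 := by
      intro i y hy
      show ((DirectSum.decompose ℳ y) n : M) = _
      split_ifs with hin
      · subst hin; exact DirectSum.decompose_of_mem_same ℳ hy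
      · exact DirectSum.decompose_of_mem_ne ℳ hy hin
    have hQs : ∀ j a, Q (a • g j) = GradedRing.proj 𝒜 (n - d j) a • g j := by
      intro j a
      induction a using DirectSum.Decomposition.inductionOn 𝒜 with
      | zero => simp
      | add a b ha hb => rw [add_smul, map_add, ha, hb, map_add, add_smul]
      | @homogeneous i a =>
        have hm : (a : S) • g j ∈ ℳ (i + d j) := SetLike.GradedSMul.smul_mem a.2 (hg j)
        rw [hQm _ _ hm, GradedRing.proj_apply]
        split_ifs with hin
        · rw [DirectSum.decompose_of_mem_same 𝒜 (show (a : S) ∈ 𝒜 (n - d j) by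
            rw [← hin, add_sub_cancel_right]; exact a.2)]
        · rw [DirectSum.decompose_of_mem_ne 𝒜 a.2 (fun h => hin (by omega)), zero_smul]
    have h2 := congrArg Q (hs' x)
    rw [map_sum, hQm n x hx, if_pos rfl] at h2
    simpa [hQs, hcdef] using h2
  refine ⟨fun n x hx hxV => ?_, fun n f hf hfV => ?_⟩
  · rw [← hrec n x hx]
    exact Finset.sum_eq_zero fun j _ => by rw [hsep _ _ (hcA n j x) fun m => hcV n j m x (hxV m), zero_smul]
  · have hcsub : ∀ j y z, c n j (y - z) = c n j y - c n j z := fun j y z => by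
      simp only [hcdef, map_sub, Pi.sub_apply]
    choose t ht htV using fun j => hcpl (n - d j) (fun m => c n j (f m)) (fun m => hcA _ _ _)
      (fun m => by rw [← hcsub]; exact hcV n j m _ (hfV m))
    refine ⟨∑ j, t j • g j, sum_mem fun j _ => ?_, fun m => ?_⟩
    · have := SetLike.GradedSMul.smul_mem (ht j) (hg j)
      rwa [vadd_eq_add, sub_add_cancel] at this
    · rw [← hrec n (f m) (hf m), ← Finset.sum_sub_distrib]
      refine Submodule.sum_mem _ fun j _ => ?_
      rw [← sub_smul]
      exact Submodule.smul_mem_smul (htV j m) Submodule.mem_top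

end Groth.Agent.S16422
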