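import Groth.Statements.S16424
import Groth.Agent.RhoShLib.Depth
import Groth.Agent.S12050
import Groth.Agent.S10887
import Groth.Agent.RegLocal.Basic
import Groth.Agent.ExactConstrLib.LocFree
-- import your own Groth.Agent.* helpers here

set_option autoImplicit false
universe u
open CategoryTheory CategoryTheory.Limits AlgebraicGeometry TopologicalSpace
open RhoSh

namespace Groth.Agent.S16424

/-- Let X be a smooth, proper, geometrically irreducible scheme over a field k admitting an ample
invertible sheaf, S a k-scheme, and F a finitely presented quasi-coherent module on X ×_k S which is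
flat over S and whose pullback to every fibre (X ×_k S)_s is torsion-free. Then F is free of finite
rank on some open neighbourhood of every point x whose local ring in its fibre has Krull dimension
at most 1. In particular F is locally free on a big open subset of X ×_k S. -/
theorem result
    (k : Type u) [Field k] (X S : Scheme.{u})
    (a : X ⟶ Spec (CommRingCat.of k)) (b : S ⟶ Spec (CommRingCat.of k))
    [Smooth a] [IsProper a] [GeometricallyIrreducible a]
    (hproj : ∃ H : X.Modules, CohB1.IsAmple H)
    (F : (pullback a b).Modules) (hfp : CohB1.IsFP F)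
    (hfl : FlatMod.IsFlatOver (pullback.snd a b) F)
    (htf : ∀ s : ↥S, TorSh.IsTorsionFree
      ((Scheme.Modules.pullback ((pullback.snd a b).fiberι s)).obj F))
    (x : ↥(pullback a b))
    (hx : ringKrullDim ↑(CInt.fiberStalk (pullback.snd a b) x) ≤ 1) :
    ∃ (V : (pullback a b).Opens) (n : ℕ), x ∈ V ∧
      Nonempty (F.restrict V.ι ≅ FlatMod.freeMod (↑V) n) := by
  haveI : Coh.IsQCoh F := haveI : SheafOfModules.IsFinitePresentation.{u} F := hfp; inferInstance
  obtain ⟨z, hz⟩ : ∃ z, (pullback.snd a b).fiberι (pullback.snd a b x) z = x := ⟨_, (pullback.snd a b).fiberι_asFiber x⟩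
  have hdim : ringKrullDim ((((pullback.snd a b).fiber (pullback.snd a b x))).presheaf.stalk z) ≤ 1 := by
    obtain rfl : z = (pullback.snd a b).asFiber x :=
      ((pullback.snd a b).fiberι _).isEmbedding.injective (hz.trans ((pullback.snd a b).fiberι_asFiber x).symm)
    exact hx
  generalize hs : (pullback.snd a b) x = s at z hz hdim
  subst hz
  let f := pullback.snd a b
  haveI := RhoShLib.isRegularLocalRing_fibre f s z
  haveI : IsDomain ((f.fiber s).presheaf.stalk z) := RegLocal.isDomain _
  haveI := S10887.isPrincipalIdealRing_of_dim_le_one ((f.fiber s).presheaf.stalk z) hdim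
  let Fs := (Scheme.Modules.pullback (f.fiberι s)).obj F
  haveI : Coh.IsQCoh Fs := PullbackMod.isQCoh_pullback (f.fiberι s) F
  haveI : Module.Finite ((f.fiber s).presheaf.stalk z) (Fs.presheaf.stalk z) :=
    PullbackMod.finite_stalk_of_isFT (ExactConstrLib.isFT_of_isFP (PullbackMod.isFP_pullback (f.fiberι s) F hfp)) z
  haveI : Module.IsTorsionFree ((f.fiber s).presheaf.stalk z) (Fs.presheaf.stalk z) := htf s z
  haveI : Module.Free ((f.fiber s).presheaf.stalk z) (Fs.presheaf.stalk z) := Module.free_of_finite_type_torsion_free'
  letI := ((f.fiberι s).stalkMap z).hom.toAlgebra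
  obtain ⟨φ, -⟩ := PullbackMod.exists_pullback_stalk_equiv (f.fiberι s) F z
  obtain ⟨U, m, hxU, hi⟩ := S1393.result f F inferInstance hfp (f.fiberι s z) (hfl _)
    (S12050.flat_quot_of_free (FlatLocus.fiberι_stalkMap_surjective f s z) _
      (FlatLocus.ker_fiberι_stalkMap f s z) _ (φ.trans (Module.finBasis _ _).equivFun))
  exact ⟨U, m, hxU, hi⟩

end Groth.Agent.S16424
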