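import Groth.Statements.S1643
import Groth.Agent.CMRegLib.BoundFree

set_option autoImplicit false
universe u
open CategoryTheory CategoryTheory.Limits AlgebraicGeometry
open Variety

namespace Groth.Agent.S1643

/-- Fix n ≥ 0, r ≥ 1 and a rational polynomial P. There is an integer m, depending only on n, r and P,
such that for every field k and every epimorphism from the free module of rank r on P^n_k onto a
coherent module F whose Euler characteristics χ(F(t)) are given by P for all integers t, the kernel
is m-regular. -/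
theorem result (n r : ℕ) (hr : 1 ≤ r) (P : Polynomial ℚ) :
    ∃ m : ℤ, ∀ (k : Type u) [Field k] (F : (CohB1.ProjSpace n k).Modules) (φ : FlatMod.freeMod (CohB1.ProjSpace n k) r ⟶ F), Coh.IsCoh F → Epi φ →
      (∀ t : ℤ, (Curv2.euler k (CohB1.ProjSpace n k) (CohB1.tensorMod F (Twist.twistProjSpace n k t)) : ℚ) = P.eval (t : ℚ)) →
      Curv2.IsMRegular k n (kernel φ) m := by
  refine ⟨CMRegLib.mumB n r (n + 1) (fun t => (r : ℤ) * Ring.choose (t + n) n - ⌊P.eval (t : ℚ)⌋),
    fun k _ F φ hF hφ hP => ?_⟩
  haveI := hφ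
  rcases Nat.eq_zero_or_pos n with hn | hn
  · intro i hi hin; omega
  haveI := CMRegLib.isNoetherian_projSpace (k := k) (n := n)
  have hK : Coh.IsCoh (kernel φ) := (QCohLib.isCoh_kernel_cokernel φ (CMRegLib.isCoh_freeMod r) hF).1
  refine CMRegLib.regular_of_sub_free (kernel.ι φ) hK _ fun t => ?_
  have h := CMRegLib.euler_tw (kernel.ι φ) φ (kernel.condition φ) (CMRegLib.shortExact_ker φ) hK
    (CMRegLib.isCoh_freeMod r) hF t
  show _ = (r : ℤ) * Ring.choose (t + n) n - ⌊P.eval (t : ℚ)⌋
  rw [← hP t, Int.floor_intCast, eq_sub_iff_add_eq]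
  exact (h.symm.trans (CMRegLib.euler_freeMod_tw hn t r))

end Groth.Agent.S1643
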