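import Groth.Statements.S16433
import Groth.Agent.SHInter.Normal
-- import your own Groth.Agent.* helpers here

set_option autoImplicit false
universe u
open EGA4loc

namespace Groth.Agent.S16433

/-- Let A be an excellent normal local domain and S a strict henselization of A; let D be an
A-subalgebra of S which is a local ring dominated by S (the inclusion is a local homomorphism) and
an integrally closed domain. Then D is a directed union of local etale extensions of A: every finite
subset of D is contained in an A-subalgebra D' of S with D' contained in D, D' a local ring whose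
inclusion into S is local, and D' an essentially etale local A-algebra (a localization of an etale
A-algebra at a prime over the maximal ideal). -/
theorem result
    (A S : Type u) [CommRing A] [IsLocalRing A] [IsDomain A] [IsIntegrallyClosed A]
    (hA : EGA4.IsExcellent A) [CommRing S] [IsLocalRing S] [Algebra A S] [IsLocalHom (algebraMap A S)]
    [Hensel.IsStrictHenselization A S] (D : Subalgebra A S) [IsLocalRing D]
    [IsLocalHom (algebraMap D S)] [IsDomain D] [IsIntegrallyClosed D]
    (s : Finset S) (hs : (s : Set S) ⊆ (D : Set S)) :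
    ∃ D' : Subalgebra A S, D' ≤ D ∧ (s : Set S) ⊆ (D' : Set S) ∧
      ∃ _ : IsLocalRing D', IsLocalHom (algebraMap D' S) ∧ EGA4loc.IsEssentiallyEtale A D' := by
  classical
  haveI : IsNoetherianRing A := hA.1
  let F := FractionRing D
  let φ : D →ₐ[A] F := IsScalarTower.toAlgHom A D F
  have hφ : Function.Injective φ := IsFractionRing.injective D F
  let s' : Set D := {d | (d : S) ∈ s}
  let L : Subfield F := Subfield.closure (Set.range (algebraMap A F) ∪ φ '' s')
  let LA : Subalgebra A F :=
    { L.toSubring.toSubsemiring with
      algebraMap_mem' := fun a => Subfield.subset_closure (Or.inl ⟨a, rfl⟩) }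
  let D' : Subalgebra A S := (LA.comap φ).map D.val
  have hmem : ∀ x : D, φ x ∈ L → (x : S) ∈ D' := fun x hx => ⟨x, hx, rfl⟩
  have hle : D' ≤ D := by
    rintro _ ⟨x, _, rfl⟩
    exact x.2
  have hL : ∀ x : D', φ (Subalgebra.inclusion hle x) ∈ L := by
    rintro ⟨_, x, hx, rfl⟩
    exact hx
  have hinv : ∀ x : D', IsUnit (x : S) → IsUnit x := by
    intro x hx
    obtain ⟨w, hw⟩ := (isUnit_of_map_unit (algebraMap D S) (Subalgebra.inclusion hle x) hx).exists_right_inv
    refine IsUnit.of_mul_eq_one (⟨(w : S), hmem w ?_⟩ : D') (Subtype.ext (show (x : S) * (w : S) = 1 from congrArg Subtype.val hw))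
    have h1 : φ w = (φ (Subalgebra.inclusion hle x))⁻¹ := eq_inv_of_mul_eq_one_right (by
      rw [← map_mul, hw, map_one])
    rw [h1]
    exact L.inv_mem (hL x)
  haveI : IsLocalRing D' := by
    refine IsLocalRing.of_isUnit_or_isUnit_one_sub_self fun d => ?_
    rcases IsLocalRing.isUnit_or_isUnit_one_sub_self (d : S) with h | h
    · exact Or.inl (hinv d h)
    · exact Or.inr (hinv (1 - d) h)
  haveI : IsLocalHom (algebraMap D' S) := ⟨hinv⟩
  haveI : IsDomain D' :=
    (Subalgebra.inclusion_injective hle).isDomain
  haveI : IsIntegrallyClosed D' := by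
    let j : D' →+* D := (Subalgebra.inclusion hle).toRingHom
    have hj : Function.Injective j := Subalgebra.inclusion_injective hle
    let ι : FractionRing D' →+* F := IsFractionRing.lift (g := φ.toRingHom.comp j) (hφ.comp hj)
    have hι : ∀ d : D', ι (algebraMap D' (FractionRing D') d) = φ (j d) :=
      fun d => IsFractionRing.lift_algebraMap _ _
    refine (isIntegrallyClosed_iff (FractionRing D')).mpr fun {z} hz => ?_
    obtain ⟨p, hpm, hp⟩ := hz
    have hint : IsIntegral D (ι z) := by
      refine ⟨p.map j, hpm.map _, ?_⟩
      rw [Polynomial.eval₂_map, show (algebraMap D F).comp j = ι.comp (algebraMap D' (FractionRing D'))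
        from RingHom.ext fun d => (hι d).symm, ← Polynomial.hom_eval₂, hp, map_zero]
    obtain ⟨d, hd⟩ := IsIntegrallyClosed.algebraMap_eq_of_integral hint
    have hzL : ι z ∈ L := by
      obtain ⟨a, b, -, rfl⟩ := IsFractionRing.div_surjective (A := D') z
      rw [map_div₀, hι, hι]
      exact L.div_mem (hL a) (hL b)
    refine ⟨⟨(d : S), hmem d (by rw [← show algebraMap D F d = φ d from rfl, hd]; exact hzL)⟩, ι.injective ?_⟩
    rw [hι]
    exact hd
  obtain ⟨E, hsE, _, _, hE⟩ := Groth.Agent.SHInter.exists_stage A S s
  refine ⟨D', hle, fun x hx => hmem ⟨x, hs hx⟩ (Subfield.subset_closure (Or.inr ⟨_, hx, rfl⟩)),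
    inferInstance, inferInstance, ?_⟩
  refine Groth.Agent.SHInter.isEssentiallyEtale_of_normal D' E hE ?_
  rintro _ ⟨x, hx, rfl⟩
  exact Groth.Agent.SHInter.mem_of_mem_closure D φ hφ E hE s' (fun d hd => hsE hd) x hx

end Groth.Agent.S16433
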