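import Groth.Statements.S16434
import Groth.Agent.SHInter.HenselBase
open Polynomial IsLocalRing
-- import your own Groth.Agent.* helpers here

set_option autoImplicit false
universe u
open EGA4loc

namespace Groth.Agent.S16434

/-- Let A be an excellent henselian local domain such that a strict henselization S of A is again a
domain, let K be the fraction field of S, and let L be the subfield of K generated over the image of
A by a finite subset t of K (so L is an intermediate field between the fraction fields of A and of
S, finitely generated over the former). Then the intersection of L with S is (the underlying set of)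
an A-subalgebra D of S which is a local ring with local inclusion into S and which is an essentially
etale local A-algebra: A-isomorphic to the localization of an etale A-algebra at a prime over the
maximal ideal. -/
theorem result
    (A S : Type u) [CommRing A] [HenselianLocalRing A] [IsDomain A] (hA : EGA4.IsExcellent A)
    [CommRing S] [IsLocalRing S] [Algebra A S] [IsLocalHom (algebraMap A S)]
    [Hensel.IsStrictHenselization A S] [IsDomain S] (t : Finset (FractionRing S)) :
    ∃ D : Subalgebra A S, (D : Set S) = (algebraMap S (FractionRing S)) ⁻¹'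
        (Subfield.closure (Set.range (algebraMap A (FractionRing S)) ∪ (t : Set (FractionRing S))) :
          Set (FractionRing S)) ∧
      ∃ _ : IsLocalRing D, IsLocalHom (algebraMap D S) ∧ EGA4loc.IsEssentiallyEtale A D := by
  classical
  haveI : IsNoetherianRing A := hA.1
  let F := FractionRing S
  let φ : S →+* F := algebraMap S F
  have hφ : Function.Injective φ := IsFractionRing.injective S F
  choose num den hden hfrac using fun z : F => IsFractionRing.div_surjective (A := S) z
  obtain ⟨f, x₀, hfm, hsep, -, hfx, hsW, hWloc, hWlh, hW, hWfin, hWm⟩ :=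
    Groth.Agent.SHInter.exists_monogenic_stage A S (t.image num ∪ t.image den)
  let W := Algebra.adjoin A ({x₀} : Set S)
  haveI := Groth.Agent.SHInter.faithfullyFlat_of_essEt (S := S) hW
  let L : Subfield F :=
    Subfield.closure (Set.range (algebraMap A F) ∪ (t : Set F))
  let D : Subalgebra A S :=
    { L.toSubring.toSubsemiring.comap φ with
      algebraMap_mem' := fun a => Subfield.subset_closure (Or.inl ⟨a, rfl⟩) }
  have hDW : D ≤ W := by
    let WF : Subfield F := Subfield.closure ((W.toSubring.map φ : Subring F) : Set F)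
    have hLW : L ≤ WF := Subfield.closure_le.2 (by
      rintro z (⟨a, rfl⟩ | hz)
      · exact Subfield.subset_closure ⟨algebraMap A S a, W.algebraMap_mem a, rfl⟩
      · rw [← hfrac z]
        exact WF.div_mem
          (Subfield.subset_closure ⟨num z, hsW (Finset.mem_union_left _ (Finset.mem_image_of_mem _ hz)), rfl⟩)
          (Subfield.subset_closure ⟨den z, hsW (Finset.mem_union_right _ (Finset.mem_image_of_mem _ hz)), rfl⟩))
    intro x hx
    obtain ⟨p, hp, q, hq, hpq⟩ := Subfield.mem_closure_iff.1 (hLW hx)
    rw [Subring.closure_eq] at hp hq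
    obtain ⟨p, hpW, rfl⟩ := hp
    obtain ⟨q, hqW, rfl⟩ := hq
    rcases eq_or_ne q 0 with rfl | hq0
    · have : φ x = 0 := by rw [← hpq, map_zero, div_zero]
      rw [show x = 0 from hφ (this.trans (map_zero φ).symm)]
      exact W.zero_mem
    · have h1 : q * x = p := hφ (by
        rw [map_mul, ← hpq]
        exact mul_div_cancel₀ _ (fun h => hq0 (hφ (h.trans (map_zero φ).symm))))
      exact Groth.Agent.SHInter.mem_of_mul_mem W hqW
        (fun y hy => (mul_eq_zero.1 hy).resolve_left hq0) (h1 ▸ hpW)
  have hinv : ∀ x : D, IsUnit (x : S) → IsUnit x := by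
    intro x hx
    obtain ⟨w, hw⟩ := hx.exists_right_inv
    have h1 : φ w = (φ (x : S))⁻¹ := eq_inv_of_mul_eq_one_right (by rw [← map_mul, hw, map_one])
    refine IsUnit.of_mul_eq_one (⟨w, ?_⟩ : D) (Subtype.ext hw)
    show φ w ∈ L
    rw [h1]
    exact L.inv_mem x.2
  haveI : IsLocalRing D := by
    refine IsLocalRing.of_isUnit_or_isUnit_one_sub_self fun d => ?_
    rcases IsLocalRing.isUnit_or_isUnit_one_sub_self (d : S) with h | h
    · exact Or.inl (hinv d h)
    · exact Or.inr (hinv (1 - d) h)
  haveI : IsLocalHom (algebraMap D S) := ⟨hinv⟩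
  haveI := Groth.Agent.SHInter.isLocalHom_base D
  refine ⟨D, rfl, inferInstance, inferInstance, ?_⟩
  haveI : Module.Finite A D := by
    haveI : IsNoetherian A W := isNoetherian_of_isNoetherianRing_of_finite A W
    exact Module.Finite.of_injective (Subalgebra.inclusion hDW).toLinearMap
      (Subalgebra.inclusion_injective hDW)
  haveI : Algebra.EssFiniteType A D := inferInstance
  refine Groth.Agent.SHInter.isEssentiallyEtale_of_unramified D ?_
  -- minimal polynomial over `L` has coefficients in `D`
  obtain ⟨hsplit, hroots⟩ := Groth.Agent.SHInter.splits_and_roots_mem hfm hsep φ hφ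
  let iA : A →+* L := (algebraMap A F).codRestrict L fun a => Subfield.subset_closure (Or.inl ⟨a, rfl⟩)
  have hiA : (algebraMap L F).comp iA = φ.comp (algebraMap A S) := RingHom.ext fun a =>
    IsScalarTower.algebraMap_apply A S F a
  have hroot0 : aeval (φ x₀) (f.map iA) = 0 := by
    rw [aeval_def, eval₂_map, hiA, ← Polynomial.hom_eval₂, ← aeval_def, hfx, map_zero]
  have hint : IsIntegral L (φ x₀) := ⟨f.map iA, hfm.map _, by rw [← aeval_def]; exact hroot0⟩
  let P := minpoly L (φ x₀)
  have hPdvd : P.map (algebraMap L F) ∣ f.map (φ.comp (algebraMap A S)) := by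
    rw [← hiA, ← Polynomial.map_map]
    exact Polynomial.map_dvd _ (minpoly.dvd L _ hroot0)
  have hfF : f.map (φ.comp (algebraMap A S)) ≠ 0 := (hfm.map _).ne_zero
  have hPs : (P.map (algebraMap L F)).Splits := hsplit.of_dvd hfF hPdvd
  have hPl : P.map (algebraMap L F) ∈ Polynomial.lifts φ := by
    rw [hPs.eq_prod_roots_of_monic ((minpoly.monic hint).map _)]
    refine Subsemiring.multiset_prod_mem _ _ fun g hg => ?_
    obtain ⟨r, hr, rfl⟩ := Multiset.mem_map.1 hg
    obtain ⟨y, rfl⟩ := hroots r (Multiset.mem_of_le (Polynomial.roots.le_of_dvd hfF hPdvd) hr)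
    exact ⟨X - C y, by rw [coe_mapRingHom, Polynomial.map_sub, map_X, map_C]⟩
  obtain ⟨PS, hPS⟩ := hPl
  have hPSD : ∀ i, PS.coeff i ∈ D := fun i => by
    show φ (PS.coeff i) ∈ L
    rw [← Polynomial.coeff_map, show PS.map φ = P.map (algebraMap L F) from hPS, Polynomial.coeff_map]
    exact (P.coeff i).2
  obtain ⟨P₀, hP₀⟩ : ∃ P₀ : D[X], P₀.map D.val.toRingHom = PS :=
    (Polynomial.mem_lifts _).1 ((Polynomial.lifts_iff_coeff_lifts _).2 fun i => ⟨⟨_, hPSD i⟩, rfl⟩)
  let iD : D →+* L := (φ.comp D.val.toRingHom).codRestrict L fun d => d.2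
  have hP₀L : P₀.map iD = P := Polynomial.map_injective _ (algebraMap L F).injective (by
    rw [Polynomial.map_map, show (algebraMap L F).comp iD = φ.comp D.val.toRingHom from RingHom.ext fun _ => rfl,
      ← Polynomial.map_map, hP₀]
    exact hPS)
  have hiD : Function.Injective iD := fun a b h => Subtype.ext (hφ (congrArg Subtype.val h))
  have hP₀m : P₀.Monic := monic_of_injective hiD (hP₀L.symm ▸ minpoly.monic hint)
  let ev : D[X] →+* S := eval₂RingHom D.val.toRingHom x₀
  have hev0 : ev P₀ = 0 := hφ (by
    show φ (eval₂ D.val.toRingHom x₀ P₀) = φ 0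
    rw [Polynomial.hom_eval₂, map_zero, show φ.comp D.val.toRingHom = (algebraMap L F).comp iD from
      RingHom.ext fun _ => rfl, ← eval₂_map, hP₀L]
    exact minpoly.aeval L (φ x₀))
  -- uniqueness of coordinates
  have huniq : ∀ (R : D[X]) (d : D), R.degree < P₀.degree → ev R = (d : S) → d = R.coeff 0 := by
    intro R d hR hRd
    have h0 : aeval (φ x₀) ((R - C d).map iD) = 0 := by
      rw [aeval_def, eval₂_map, show (algebraMap L F).comp iD = φ.comp D.val.toRingHom from
        RingHom.ext fun _ => rfl, ← Polynomial.hom_eval₂]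
      show φ (ev (R - C d)) = 0
      rw [map_sub, hRd, show ev (C d) = (d : S) from Polynomial.eval₂_C _ _, sub_self, map_zero]
    have h1 : (R - C d).map iD = 0 := by
      refine Polynomial.eq_zero_of_dvd_of_degree_lt (minpoly.dvd L _ h0) ?_
      rw [Polynomial.degree_map_eq_of_injective hiD, show minpoly L (φ x₀) = P₀.map iD from hP₀L.symm,
        Polynomial.degree_map_eq_of_injective hiD]
      refine (degree_sub_le _ _).trans_lt (max_lt hR (lt_of_le_of_lt degree_C_le ?_))
      rw [← Polynomial.degree_map_eq_of_injective hiD P₀, hP₀L]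
      exact minpoly.degree_pos hint
    have h2 : R - C d = 0 := Polynomial.map_injective _ hiD (h1.trans (Polynomial.map_zero _).symm)
    rw [sub_eq_zero.1 h2, coeff_C_zero]
  refine le_antisymm (((local_hom_TFAE (algebraMap A D)).out 0 2 rfl rfl).mp inferInstance) fun z hz => ?_
  let J : Ideal D := (maximalIdeal A).map (algebraMap A D)
  have key : ∀ w ∈ (maximalIdeal A).map (algebraMap A W), ∃ R : D[X],
      (∀ i, R.coeff i ∈ J) ∧ ev R = (w : S) := by
    intro w hw
    induction hw using Submodule.span_induction with
    | mem w hw =>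
      obtain ⟨a, ha, rfl⟩ := hw
      refine ⟨C (algebraMap A D a), fun i => ?_, Polynomial.eval₂_C _ _⟩
      rw [coeff_C]
      split
      · exact Ideal.mem_map_of_mem _ ha
      · exact J.zero_mem
    | zero => exact ⟨0, fun i => by simp, map_zero _⟩
    | add a b _ _ ha hb =>
      obtain ⟨R, hR, h1⟩ := ha
      obtain ⟨R', hR', h2⟩ := hb
      exact ⟨R + R', fun i => by rw [coeff_add]; exact J.add_mem (hR i) (hR' i), by rw [map_add, h1, h2]; rfl⟩
    | smul c a _ ha =>
      obtain ⟨R, hR, h1⟩ := ha
      have hc := c.2
      simp only [W, Algebra.adjoin_singleton_eq_range_aeval] at hc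
      obtain ⟨g, hg⟩ := hc
      refine ⟨g.map (algebraMap A D) * R, fun i => ?_, ?_⟩
      · rw [coeff_mul]
        exact J.sum_mem fun p _ => J.mul_mem_left _ (hR _)
      · rw [map_mul, h1, show ev (g.map (algebraMap A D)) = (c : S) from by
          show eval₂ _ _ _ = _
          rw [eval₂_map, show D.val.toRingHom.comp (algebraMap A D) = algebraMap A S from RingHom.ext fun _ => rfl,
            ← aeval_def]
          exact hg]
        rfl
  have hzW : (Subalgebra.inclusion hDW z) ∈ (maximalIdeal A).map (algebraMap A W) := by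
    refine hWm.ge ((mem_maximalIdeal _).2 fun h => (mem_maximalIdeal z).1 hz ?_)
    exact hinv z (h.map (algebraMap W S))
  obtain ⟨R, hR, hRz⟩ := key _ hzW
  have hmod : ev (R %ₘ P₀) = ev R := by
    conv_rhs => rw [← modByMonic_add_div R P₀]
    rw [map_add, map_mul, hev0, zero_mul, add_zero]
  have h0 := huniq (R %ₘ P₀) z (degree_modByMonic_lt _ hP₀m) (hmod.trans hRz)
  rw [h0, ← Ideal.Quotient.eq_zero_iff_mem]
  show Ideal.Quotient.mk J ((R %ₘ P₀).coeff 0) = 0
  rw [← Polynomial.coeff_map, Polynomial.map_modByMonic _ hP₀m,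
    show R.map (Ideal.Quotient.mk J) = 0 from Polynomial.ext fun i => by
      rw [Polynomial.coeff_map, coeff_zero]; exact Ideal.Quotient.eq_zero_iff_mem.2 (hR i),
    zero_modByMonic, coeff_zero]

end Groth.Agent.S16434
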