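import Groth.Statements.S16436
import Groth.Agent.SHInter.Criterion
open IsLocalRing Polynomial Groth.Agent.SHInter
-- import your own Groth.Agent.* helpers here

set_option autoImplicit false
universe u
open Hensel

namespace Groth.Agent.S16436

/-- Let A be an excellent henselian reduced local ring, S a strict henselization of A and D an
A-subalgebra of S which is finitely generated as an A-module. Write D' for the integral closure of D
in its total ring of fractions. Then D is etale over A and every minimal prime ideal of S is
generated by its contraction to D, if and only if, for every maximal ideal M of D' with residue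
field l, writing k_0 for the subfield of l generated by the image of D (the image itself, a copy of
the residue field of D), k_0 is separably closed in l: every element of l separable over k_0 lies in
k_0. -/
theorem result
    (A S : Type u) [CommRing A] [HenselianLocalRing A] [IsReduced A] (hA : EGA4.IsExcellent A)
    [CommRing S] [IsLocalRing S] [Algebra A S] [IsLocalHom (algebraMap A S)]
    [Hensel.IsStrictHenselization A S] (D : Subalgebra A S) [Module.Finite A D] :
    (Algebra.Etale A D ∧
        ∀ Q ∈ minimalPrimes S, Q = Ideal.map (algebraMap D S) (Q.comap (algebraMap D S))) ↔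
      ∀ (M : Ideal (integralClosure D (FractionRing D))) [M.IsMaximal],
        separableClosure (Subfield.closure (Set.range ((algebraMap (integralClosure D (FractionRing D)) M.ResidueField).comp (algebraMap D (integralClosure D (FractionRing D)))))) M.ResidueField = ⊥ := by
  classical
  haveI : IsNoetherianRing A := hA.1
  haveI : IsReduced S := by
    obtain ⟨e⟩ := Groth.Agent.Henselization.exists_algEquiv_of_isStrictHenselization A S
    exact (Groth.Agent.Henselization.isReduced_of_equiv e).2 inferInstance
  haveI := isLocalRing_of_henselian D
  haveI := isLocalHom_of_henselian D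
  haveI := isLocalHom_base D
  haveI : IsReduced D := isReduced_of_injective D.val Subtype.val_injective
  haveI : IsNoetherianRing D := IsNoetherianRing.of_finite A D
  haveI : Algebra.IsIntegral A D := Algebra.IsIntegral.of_finite A D
  haveI : HenselianLocalRing D := Groth.Agent.SHTensor.henselian_of_isIntegral A D
  haveI : HenselianRing D (maximalIdeal D) := Groth.Agent.Hensel.henselianRing_maximalIdeal_iff.2 inferInstance
  constructor
  · rintro ⟨hD, hQ⟩
    haveI := hD
    have hDe : EGA4loc.IsEssentiallyEtale A D := isEssentiallyEtale_of_etale_local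
    haveI : Hensel.IsStrictHenselization D S := isStrictHenselization_subalgebra D hDe
    haveI := faithfullyFlat_of_essEt (S := S) hDe
    refine resPurelyInsep_of_irreducible fun K _ κ hfrac hmin f hf hir hsep =>
      irreducible_map_of_isPrime (S := S) κ hfrac ?_ f hf hir hsep
    haveI := hmin.1.1
    obtain ⟨Q₀, hQ₀⟩ := PrimeSpectrum.comap_surjective_of_faithfullyFlat (A := D) (B := S) ⟨RingHom.ker κ, hmin.1.1⟩
    obtain ⟨Q, hQm, hQle⟩ := Ideal.exists_minimalPrimes_le (I := (⊥ : Ideal S)) (J := Q₀.asIdeal) bot_le
    haveI := hQm.1.1
    have hle : Q.comap (algebraMap D S) ≤ RingHom.ker κ :=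
      (Ideal.comap_mono hQle).trans (congrArg PrimeSpectrum.asIdeal hQ₀).le
    have heq : Q.comap (algebraMap D S) = RingHom.ker κ :=
      le_antisymm hle (hmin.2 ⟨Ideal.IsPrime.comap _, bot_le⟩ hle)
    rw [← heq, ← hQ Q hQm]
    exact hQm.1.1
  · intro hres
    haveI : Module.Finite (ResidueField A) (ResidueField D) := by
      haveI : Module.Finite A (ResidueField D) :=
        Module.Finite.of_surjective (IsScalarTower.toAlgHom A D (ResidueField D)).toLinearMap residue_surjective
      exact Module.Finite.of_restrictScalars_finite A _ _
    haveI := isSeparable_residue D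
    obtain ⟨W, _, _, _, _, hWfin, hWet, ⟨e⟩⟩ := EtAlgEasy.exists_finite_etale_local A (ResidueField D)
    haveI := hWfin
    haveI := hWet
    have hWe : EGA4loc.IsEssentiallyEtale A W := isEssentiallyEtale_of_etale_local
    obtain ⟨ψ, ⟨hψl, hψc, hψr⟩, -⟩ := Groth.Agent.EssEtLift.existsUnique_lift hWe D (algebraMap A D)
      e.toRingEquiv.toRingHom (RingHom.ext fun x => by
        obtain ⟨r, rfl⟩ := residue_surjective x
        exact e.commutes (residue A r))
    let ψA : W →ₐ[A] D := { ψ with commutes' := RingHom.congr_fun hψc }
    let g : W →ₐ[A] S := D.val.comp ψA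
    have hginj : Function.Injective g := by
      letI : Algebra W S := g.toRingHom.toAlgebra
      haveI : IsScalarTower A W S := IsScalarTower.of_algebraMap_eq fun a => (g.commutes a).symm
      haveI := faithfullyFlat_of_essEt (S := S) hWe
      exact FaithfulSMul.algebraMap_injective W S
    let B : Subalgebra A S := g.range
    let eB : W ≃ₐ[A] B := AlgEquiv.ofInjective g hginj
    haveI : IsLocalRing B := eB.toRingEquiv.isLocalRing
    have hBe : EGA4loc.IsEssentiallyEtale A B := essEt_of_algEquiv hWe eB
    haveI := isLocalHom_subalgebra B hBe
    haveI := isLocalHom_base B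
    haveI : Hensel.IsStrictHenselization B S := isStrictHenselization_subalgebra B hBe
    haveI : Module.Finite A B := Module.Finite.equiv eB.toLinearEquiv
    haveI : Algebra.IsIntegral A B := Algebra.IsIntegral.of_finite A B
    haveI : HenselianLocalRing B := Groth.Agent.SHTensor.henselian_of_isIntegral A B
    haveI : IsReduced B := isReduced_of_injective B.val Subtype.val_injective
    haveI : IsNoetherianRing B := IsNoetherianRing.of_finite A B
    let D' : Subalgebra B S :=
      { D.toSubsemiring with
        algebraMap_mem' := fun b => by
          obtain ⟨w, hw⟩ := b.2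
          show (b : S) ∈ D
          rw [← hw]
          exact (ψA w).2 }
    haveI : Module.Finite A D' := Module.Finite.of_surjective
      ({ toFun := fun d => (⟨(d : S), d.2⟩ : D'), map_add' := fun _ _ => rfl, map_smul' := fun c x => Subtype.ext (by rfl) } : D →ₗ[A] D')
      fun x => ⟨⟨(x : S), x.2⟩, rfl⟩
    haveI : Module.Finite B D' := Module.Finite.of_restrictScalars_finite A B D'
    have hbot : D' = ⊥ := eq_bot_of_resPurelyInsep D' (fun d => by
      obtain ⟨z, hz⟩ := e.surjective (residue D ⟨(d : S), d.2⟩)
      obtain ⟨w, rfl⟩ := residue_surjective z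
      refine ⟨eB w, ?_⟩
      have h1 := congrArg (ResidueField.map (algebraMap D S)) ((hψr w).trans hz)
      exact h1.symm) hres
    have hψbij : Function.Bijective ψA := ⟨fun x y h => hginj (congrArg Subtype.val h), fun d => by
      have hd : (d : S) ∈ D' := d.2
      rw [hbot, Algebra.mem_bot] at hd
      obtain ⟨b, hb⟩ := hd
      obtain ⟨w, hw⟩ := b.2
      exact ⟨w, Subtype.ext (hw.trans hb)⟩⟩
    haveI hDet : Algebra.Etale A D := Algebra.Etale.of_equiv (AlgEquiv.ofBijective ψA hψbij)
    refine ⟨hDet, fun Q hQ => ?_⟩
    have hDe : EGA4loc.IsEssentiallyEtale A D := isEssentiallyEtale_of_etale_local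
    haveI : Hensel.IsStrictHenselization D S := isStrictHenselization_subalgebra D hDe
    haveI := faithfullyFlat_of_essEt (S := S) hDe
    haveI := hQ.1.1
    let P := Q.comap (algebraMap D S)
    have hP : P ∈ minimalPrimes D := by
      refine ⟨⟨Ideal.IsPrime.comap _, bot_le⟩, fun P' hP' hle => ?_⟩
      haveI := hP'.1
      haveI : Q.LiesOver P := ⟨rfl⟩
      obtain ⟨Q', hQ'le, hQ'p, hQ'o⟩ := Ideal.exists_ideal_le_liesOver_of_le Q hle
      have := hQ.2 ⟨hQ'p, bot_le⟩ hQ'le
      rw [hQ'o.over]
      exact Ideal.comap_mono this
    have hprime : (P.map (algebraMap D S)).IsPrime := isPrime_map_of_resPurelyInsep hres hP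
    exact le_antisymm (hQ.2 ⟨hprime, bot_le⟩ Ideal.map_comap_le) Ideal.map_comap_le

end Groth.Agent.S16436
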