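import Groth.Statements.S1644
import Groth.Agent.CurveGlueLib.Ample
import Groth.Agent.InvDescLib.Sections
import Groth.Agent.ParaFLib.Glue
import Groth.Agent.ParaFLib.GenExt
import Groth.Agent.ParaFLib.Stalkwise

set_option autoImplicit false
universe u
open CategoryTheory CategoryTheory.Limits AlgebraicGeometry
open Variety

namespace Groth.Agent.S1644

open CategoryTheory CategoryTheory.Limits AlgebraicGeometry

section Aux

open AlgebraicGeometry CategoryTheory CategoryTheory.Limits TopologicalSpace Opposite Groth.Agent.ParaFLib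

set_option backward.isDefEq.respectTransparency false

variable {Z X : Scheme.{u}} (i : Z ⟶ X)

theorem exists_frame [IsClosedImmersion i] (L : Z.Modules) (hL : PicF.IsInvertible L) (x : X) :
    ∃ (O : X.Opens) (s : Γ(L, i ⁻¹ᵁ O)), x ∈ O ∧ Gen (i ⁻¹ᵁ O) s := by
  by_cases hx : x ∈ Set.range i
  · obtain ⟨z, rfl⟩ := hx
    obtain ⟨W, e, hzW, he⟩ := exists_gen_nhd hL z
    obtain ⟨V, hV, hVW⟩ := i.isClosedEmbedding.isInducing.isOpen_iff.1 W.2
    have hle : i ⁻¹ᵁ ⟨V, hV⟩ ≤ W := fun w hw => (hVW.le hw : _)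
    exact ⟨⟨V, hV⟩, _, hVW.ge hzW, he.res hle⟩
  · let O : X.Opens := ⟨(Set.range i)ᶜ, i.isClosedEmbedding.isClosed_range.isOpen_compl⟩
    have : i ⁻¹ᵁ O = ⊥ := eq_bot_iff.2 fun z hz => hz ⟨z, rfl⟩
    obtain ⟨s, hs⟩ : ∃ s : Γ(L, i ⁻¹ᵁ O), Gen (i ⁻¹ᵁ O) s := by
      rw [this]
      exact exists_gen_bot
    exact ⟨O, s, hx, hs⟩

/-- A unit on the trace of an open on `Z` lifts near a given point to a unit. -/
theorem exists_unit_near [IsClosedImmersion i] (A : X.Opens) (η : X) (hη : η ∈ A)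
    (c : Γ(Z, i ⁻¹ᵁ A)) (hc : IsUnit c) :
    ∃ (D : X.Opens) (hD : D ≤ A) (g : Γ(X, D)), η ∈ D ∧ IsUnit g ∧
      i.app D g = Z.presheaf.map (homOfLE (i.preimage_mono hD)).op c := by
  by_cases hz : η ∈ Set.range i
  · obtain ⟨z, rfl⟩ := hz
    obtain ⟨_, ⟨D : X.Opens, hD, rfl⟩, hzD, hDA⟩ := X.isBasis_affineOpens.exists_subset_of_mem_open hη A.2
    have hDA' : D ≤ A := hDA
    obtain ⟨g, hg⟩ := i.app_surjective D hD (Z.presheaf.map (homOfLE (i.preimage_mono hDA')).op c)
    have hle : X.basicOpen g ≤ D := X.basicOpen_le g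
    refine ⟨X.basicOpen g, hle.trans hDA', X.presheaf.map (homOfLE hle).op g, ?_,
      RingedSpace.isUnit_res_basicOpen _ g, ?_⟩
    · rw [X.mem_basicOpen g (i z) hzD]
      refine isUnit_of_map_unit (i.stalkMap z).hom _ ?_
      rw [Scheme.Hom.germ_stalkMap_apply, hg, TopCat.Presheaf.germ_res_apply]
      exact hc.map _
    · refine (ConcreteCategory.congr_hom (i.naturality (homOfLE hle).op) g).trans ?_
      show Z.presheaf.map _ (i.app D g) = _
      rw [hg, ← CommRingCat.comp_apply, ← Functor.map_comp]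
      rfl
  · let D : X.Opens := A ⊓ ⟨(Set.range i)ᶜ, i.isClosedEmbedding.isClosed_range.isOpen_compl⟩
    refine ⟨D, inf_le_left, 1, ⟨hη, hz⟩, isUnit_one, ?_⟩
    have : i ⁻¹ᵁ D ≤ ⊥ := fun z hz => hz.2 ⟨z, rfl⟩
    exact TopCat.Presheaf.section_ext Z.sheaf _ _ _ fun z hz => absurd (this hz) (fun h => h)

end Aux

/-- Let i : Z → X be a closed immersion where the topological space of X is Noetherian of dimension at
most one. Then every invertible O_Z-module is isomorphic to the pullback of an invertible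
O_X-module. -/
theorem result {Z X : Scheme.{u}} (i : Z ⟶ X) [IsClosedImmersion i]
    [TopologicalSpace.NoetherianSpace X] (hdim : topologicalKrullDim X ≤ 1)
    (L : Z.Modules) (hL : PicF.IsInvertible L) :
    ∃ L' : X.Modules, PicF.IsInvertible L' ∧ Nonempty ((Scheme.Modules.pullback i).obj L' ≅ L) := by
  classical
  have hfinc := TopologicalSpace.NoetherianSpace.finite_irreducibleComponents (α := X)
  let κ : Type u := {C : Set X // C ∈ irreducibleComponents (X : Type u)}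
  haveI : Finite κ := hfinc.to_subtype
  choose η hη using fun C : κ => QuasiSober.sober C.2.1 (isClosed_of_mem_irreducibleComponents _ C.2)
  choose O₀ s₀ hO₀ hs₀ using fun x : X => exists_frame i L hL x
  let P : κ → X.Opens := fun C => O₀ (η C) ⊓ ⟨(⋃₀ (irreducibleComponents (X : Type u) \ {C.1}))ᶜ,
    (by
      rw [Set.sUnion_eq_biUnion]
      exact (hfinc.subset Set.diff_subset).isClosed_biUnion fun A hA =>
        isClosed_of_mem_irreducibleComponents A hA.1 : IsClosed _).isOpen_compl⟩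
  have hηP : ∀ C, η C ∈ P C := fun C => ⟨hO₀ _, by
    rintro ⟨A, ⟨hA, hne⟩, hηA⟩
    have hCA : C.1 ⊆ A := by
      rw [← (hη C).def]
      exact closure_minimal (Set.singleton_subset_iff.2 hηA) (isClosed_of_mem_irreducibleComponents A hA)
    exact hne (Set.Subset.antisymm (C.2.2 hA.1 hCA) hCA)⟩
  have hdisj : ∀ C C', C ≠ C' → ∀ x, x ∈ P C → x ∈ P C' → False := by
    intro C C' hne x hx hx'
    have hmem := irreducibleComponent_mem_irreducibleComponents x
    by_cases h1 : irreducibleComponent x = C.1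
    · exact hx'.2 ⟨_, ⟨hmem, fun h2 => hne (Subtype.ext (h1.symm.trans h2))⟩, mem_irreducibleComponent⟩
    · exact hx.2 ⟨_, ⟨hmem, h1⟩, mem_irreducibleComponent⟩
  let U : X.Opens := iSup P
  have hgen : ∀ D : κ → X.Opens, (∀ C, η C ∈ D C) →
      ((iSup D : X.Opens) : Set X)ᶜ.Finite ∧ ∀ y : X, y ∉ iSup D → IsClosed ({y} : Set X) := fun D hD => by
    have h := Groth.Agent.CurveGlueLib.compl_props hdim (iSup D) fun C hC =>
      ⟨η ⟨C, hC⟩, TopologicalSpace.Opens.mem_iSup.2 ⟨_, hD _⟩, hη ⟨C, hC⟩⟩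
    exact ⟨h.1, fun y hy => (h.2 y hy).1⟩
  -- a frame on `U`
  obtain ⟨e, he⟩ : ∃ e : Γ(L, i ⁻¹ᵁ U), Groth.Agent.ParaFLib.Gen (i ⁻¹ᵁ U) e := by
    refine Groth.Agent.ParaFLib.exists_gen_of_compatible (fun C => i ⁻¹ᵁ P C)
      (fun C => L.presheaf.map (homOfLE (i.preimage_mono inf_le_left)).op (s₀ (η C)))
      (fun C => (hs₀ _).res _) (fun C C' => ?_) _ (fun C => i.preimage_mono (le_iSup P C)) ?_
    · by_cases h : C = C'
      · subst h; rfl
      · refine TopCat.Sheaf.eq_of_locally_eq' (⟨L.presheaf, L.isSheaf⟩ : TopCat.Sheaf Ab.{u} Z.carrier)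
          (fun j : PEmpty.{u+1} => j.elim) _ (fun j => j.elim) (fun z (hz : z ∈ i ⁻¹ᵁ P C ⊓ i ⁻¹ᵁ P C') => (hdisj C C' h (i z) hz.1 hz.2).elim)
          _ _ fun j => j.elim
    · intro z hz
      obtain ⟨C, hC⟩ := TopologicalSpace.Opens.mem_iSup.1 (show i z ∈ U from hz)
      exact TopologicalSpace.Opens.mem_iSup.2 ⟨C, hC⟩
  let T : Type u := {x : X // x ∉ U}
  -- neighbourhoods of the other points, with lifts of the transition functions
  have hW : ∀ t : T, ∃ (W : X.Opens) (s : Γ(L, i ⁻¹ᵁ W)) (G : Γ(X, W ⊓ U)), t.1 ∈ W ∧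
      (∀ x ∈ W, x ∉ U → x = t.1) ∧ Groth.Agent.ParaFLib.Gen (i ⁻¹ᵁ W) s ∧ IsUnit G ∧
      i.app (W ⊓ U) G • L.presheaf.map (homOfLE (i.preimage_mono inf_le_left)).op s =
        L.presheaf.map (homOfLE (i.preimage_mono inf_le_right)).op e := by
    intro t
    obtain ⟨c, hc, hc'⟩ := (he.res (i.preimage_mono (inf_le_right : O₀ t.1 ⊓ U ≤ U))).exists_unit
      ((hs₀ t.1).res (i.preimage_mono (inf_le_left : O₀ t.1 ⊓ U ≤ O₀ t.1)))
    have hD : ∀ C : κ, ∃ (D : X.Opens) (hD : D ≤ P C) (g : Γ(X, D ⊓ O₀ t.1)), η C ∈ D ∧ IsUnit g ∧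
        i.app (D ⊓ O₀ t.1) g = Z.presheaf.map (homOfLE (i.preimage_mono
          (le_inf inf_le_right (inf_le_left.trans (hD.trans (le_iSup P C)))))).op c := by
      intro C
      by_cases hC : η C ∈ O₀ t.1
      · obtain ⟨D, hD, g, hηD, hgu, hg⟩ := exists_unit_near i (O₀ t.1 ⊓ U) (η C)
          ⟨hC, TopologicalSpace.Opens.mem_iSup.2 ⟨C, hηP C⟩⟩ c hc
        refine ⟨D ⊓ P C, inf_le_right, X.presheaf.map (homOfLE (inf_le_left.trans inf_le_left :
          D ⊓ P C ⊓ O₀ t.1 ≤ D)).op g, ⟨hηD, hηP C⟩, hgu.map _, ?_⟩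
        refine (ConcreteCategory.congr_hom (i.naturality (homOfLE (inf_le_left.trans inf_le_left :
          D ⊓ P C ⊓ O₀ t.1 ≤ D)).op) g).trans ?_
        show Z.presheaf.map _ (i.app D g) = _
        rw [hg, ← CommRingCat.comp_apply, ← Functor.map_comp]
        rfl
      · refine ⟨P C, le_rfl, 1, hηP C, isUnit_one, ?_⟩
        refine TopCat.Presheaf.section_ext Z.sheaf _ _ _ fun z hz => absurd ?_ hC
        have hsp : η C ⤳ i z := (hη C).specializes (by
          by_contra hzC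
          exact hz.1.2 ⟨_, ⟨irreducibleComponent_mem_irreducibleComponents (i z), fun h => hzC (h ▸ mem_irreducibleComponent)⟩,
            mem_irreducibleComponent⟩)
        exact hsp.mem_open (O₀ t.1).2 hz.2
    choose D hDP g hηD hgu hg using hD
    obtain ⟨hfin, hcl⟩ := hgen D hηD
    let B : Set X := ((iSup D : X.Opens) : Set X)ᶜ \ {t.1}
    have hB : IsClosed B := by
      rw [← Set.biUnion_of_singleton B]
      exact (hfin.subset Set.diff_subset).isClosed_biUnion fun x hx => hcl x hx.1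
    let W : X.Opens := O₀ t.1 ⊓ ⟨Bᶜ, hB.isOpen_compl⟩
    have hWD : W ⊓ U ≤ iSup fun C => D C ⊓ O₀ t.1 := fun x hx => by
      by_contra hne
      refine hx.1.2 ⟨fun hD => hne ?_, fun h => t.2 (Set.mem_singleton_iff.1 h ▸ hx.2)⟩
      obtain ⟨C, hC⟩ := TopologicalSpace.Opens.mem_iSup.1 hD
      exact TopologicalSpace.Opens.mem_iSup.2 ⟨C, hC, hx.1.1⟩
    obtain ⟨G, hG, -⟩ := X.sheaf.existsUnique_gluing' (fun C => W ⊓ U ⊓ (D C ⊓ O₀ t.1)) (W ⊓ U)
      (fun C => homOfLE inf_le_left) (fun x hx => by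
        obtain ⟨C, hC⟩ := TopologicalSpace.Opens.mem_iSup.1 (hWD hx)
        exact TopologicalSpace.Opens.mem_iSup.2 ⟨C, hx, hC⟩)
      (fun C => X.presheaf.map (homOfLE inf_le_right).op (g C)) (fun C C' => by
        by_cases h : C = C'
        · subst h; rfl
        · exact TopCat.Presheaf.section_ext X.sheaf _ _ _ fun x hx =>
            (hdisj C C' h x (hDP C hx.1.2.1) (hDP C' hx.2.2.1)).elim)
    have hGg : ∀ C x (hx : x ∈ W ⊓ U ⊓ (D C ⊓ O₀ t.1)), X.presheaf.germ (W ⊓ U) x hx.1 G =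
        X.presheaf.germ (D C ⊓ O₀ t.1) x hx.2 (g C) := fun C x hx => by
      have := congrArg (X.presheaf.germ (W ⊓ U ⊓ (D C ⊓ O₀ t.1)) x hx) (hG C)
      erw [TopCat.Presheaf.germ_res_apply, TopCat.Presheaf.germ_res_apply] at this
      exact this
    refine ⟨W, L.presheaf.map (homOfLE (i.preimage_mono inf_le_left)).op (s₀ t.1), G, ⟨hO₀ _, fun h => h.2 rfl⟩,
      fun x hx hxU => ?_, (hs₀ _).res _, RingedSpace.isUnit_of_isUnit_germ _ _ _ fun x hx => ?_, ?_⟩
    · by_contra hne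
      refine hx.2 ⟨fun hD => hxU ?_, hne⟩
      obtain ⟨C, hC⟩ := TopologicalSpace.Opens.mem_iSup.1 hD
      exact TopologicalSpace.Opens.mem_iSup.2 ⟨C, hDP C hC⟩
    · obtain ⟨C, hC⟩ := TopologicalSpace.Opens.mem_iSup.1 (hWD hx)
      erw [hGg C x ⟨hx, hC⟩]
      exact (hgu C).map _
    · have hcoef : i.app (W ⊓ U) G = Z.presheaf.map (homOfLE (i.preimage_mono
          (inf_le_inf_right U inf_le_left : W ⊓ U ≤ O₀ t.1 ⊓ U))).op c := by
        refine TopCat.Presheaf.section_ext Z.sheaf _ _ _ fun z hz => ?_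
        obtain ⟨C, hC⟩ := TopologicalSpace.Opens.mem_iSup.1 (hWD (show i z ∈ W ⊓ U from hz))
        have := congrArg (Z.presheaf.germ (i ⁻¹ᵁ (D C ⊓ O₀ t.1)) z hC) (hg C)
        rw [TopCat.Presheaf.germ_res_apply, ← Scheme.Hom.germ_stalkMap_apply i _ z hC] at this
        erw [TopCat.Presheaf.germ_res_apply]
        exact ((Scheme.Hom.germ_stalkMap_apply i _ z hz G).symm.trans
          (congrArg (i.stalkMap z) (hGg C (i z) ⟨hz, hC⟩))).trans this
      rw [hcoef]
      have := congrArg (L.presheaf.map (homOfLE (i.preimage_mono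
        (inf_le_inf_right U inf_le_left : W ⊓ U ≤ O₀ t.1 ⊓ U))).op) hc'
      rw [L.map_smul, Groth.Agent.ParaFLib.res_res, Groth.Agent.ParaFLib.res_res] at this
      rw [Groth.Agent.ParaFLib.res_res]
      exact this
  choose W sW GW htW hWT hsW hGu hGe using hW
  let O : Option T → X.Opens := fun a => a.elim U W
  let s : ∀ a, Γ(L, i ⁻¹ᵁ O a) := fun a => match a with
    | none => e
    | some t => sW t
  have hs : ∀ a, Groth.Agent.ParaFLib.Gen (i ⁻¹ᵁ O a) (s a) := by
    rintro (_ | t)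
    · exact he
    · exact hsW t
  have hrel : ∀ a : Option T, ∃ G : (Γ(X, O a ⊓ U))ˣ,
      i.app (O a ⊓ U) (G : Γ(X, O a ⊓ U)) • L.presheaf.map (homOfLE (i.preimage_mono inf_le_left)).op (s a) =
        L.presheaf.map (homOfLE (i.preimage_mono inf_le_right)).op e := by
    rintro (_ | t)
    · exact ⟨1, by rw [Units.val_one, map_one, one_smul]; rfl⟩
    · exact ⟨(hGu t).unit, hGe t⟩
  choose G hG using hrel
  have hov : ∀ a b : Option T, a ≠ b → O a ⊓ O b ≤ U := by
    rintro (_ | t) (_ | t') hne x hx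
    · exact hx.1
    · exact hx.1
    · exact hx.2
    · by_contra hxU
      exact hne (congrArg some (Subtype.ext ((hWT t x hx.1 hxU).symm.trans (hWT t' x hx.2 hxU))))
  have hsame : ∀ a (A : X.Opens) (h : A ≤ O a ⊓ U),
      i.app A (X.presheaf.map (homOfLE h).op (G a : Γ(X, O a ⊓ U))) •
        L.presheaf.map (homOfLE (i.preimage_mono (h.trans inf_le_left))).op (s a) =
        L.presheaf.map (homOfLE (i.preimage_mono (h.trans inf_le_right))).op e := fun a A h => by
    have := congrArg (L.presheaf.map (homOfLE (i.preimage_mono h)).op) (hG a)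
    rw [L.map_smul, Groth.Agent.ParaFLib.res_res, Groth.Agent.ParaFLib.res_res] at this
    rw [← this]
    congr 1
    exact (ConcreteCategory.congr_hom (i.naturality (homOfLE h).op) _)
  let G' : ∀ a (A : X.Opens), A ≤ O a ⊓ U → (Γ(X, A))ˣ := fun a A h =>
    Units.map (X.presheaf.map (homOfLE h).op).hom.toMonoidHom (G a)
  let η' : ∀ a b, (Γ(X, O a ⊓ O b))ˣ := fun a b => if h : a = b then 1 else
    (G' a _ (le_inf inf_le_left (hov a b h)))⁻¹ * G' b _ (le_inf inf_le_right (hov a b h))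
  have hηe : ∀ a b x (hx : x ∈ O a ⊓ O b) (hxU : x ∈ U),
      X.presheaf.germ (O a ⊓ U) x ⟨hx.1, hxU⟩ (G a : Γ(X, O a ⊓ U)) * X.presheaf.germ (O a ⊓ O b) x hx (η' a b : Γ(X, O a ⊓ O b)) =
        X.presheaf.germ (O b ⊓ U) x ⟨hx.2, hxU⟩ (G b : Γ(X, O b ⊓ U)) := by
    intro a b x hx hxU
    by_cases hab : a = b
    · subst hab
      simp only [η', dif_pos, Units.val_one, map_one, mul_one]
    · have h1 := congrArg (X.presheaf.germ (O a ⊓ O b) x hx) (show
        ((G' a _ (le_inf inf_le_left (hov a b hab))) : Γ(X, O a ⊓ O b)) * (η' a b : Γ(X, O a ⊓ O b)) =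
          ((G' b _ (le_inf inf_le_right (hov a b hab))) : Γ(X, O a ⊓ O b)) by
        simp only [η', dif_neg hab]
        rw [← Units.val_mul, mul_inv_cancel_left])
      rw [map_mul] at h1
      simp only [G', Units.coe_map] at h1
      erw [TopCat.Presheaf.germ_res_apply, TopCat.Presheaf.germ_res_apply] at h1
      exact h1
  have hcoc : Groth.Agent.ParaFLib.IsCocycle O η' := by
    intro a b c
    refine TopCat.Presheaf.section_ext X.sheaf _ _ _ fun x hx => ?_
    erw [map_mul]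
    erw [TopCat.Presheaf.germ_res_apply, TopCat.Presheaf.germ_res_apply, TopCat.Presheaf.germ_res_apply]
    by_cases hab : a = b
    · subst hab
      simp only [η', dif_pos, Units.val_one]
      erw [map_one, one_mul]
    have hxU : x ∈ U := hov a b hab hx.1
    refine ((G a).isUnit.map (X.presheaf.germ (O a ⊓ U) x ⟨hx.1.1, hxU⟩).hom).mul_right_injective ?_
    exact (hηe a c x ⟨hx.1.1, hx.2⟩ hxU).trans
      (((congrArg (· * _) (hηe a b x hx.1 hxU)).trans (hηe b c x ⟨hx.1.2, hx.2⟩ hxU)).symm.trans (mul_assoc _ _ _))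
  have hO : iSup O = ⊤ := top_le_iff.1 fun x _ => by
    by_cases hxU : x ∈ U
    · exact TopologicalSpace.Opens.mem_iSup.2 ⟨none, hxU⟩
    · exact TopologicalSpace.Opens.mem_iSup.2 ⟨some ⟨x, hxU⟩, htW ⟨x, hxU⟩⟩
  obtain ⟨N, t, hN, ht, htt⟩ := Groth.Agent.ParaFLib.exists_invertible_of_cocycle O η' hO hcoc
  refine ⟨N, hN, Groth.Agent.ParaFLib.nonempty_iso_of_bases (U := fun a => i ⁻¹ᵁ O a)
    (s := fun a => Groth.Agent.PullbackMod.pullMap i N le_rfl (t a)) (t := s) ?_
    (fun a => Groth.Agent.AmpleEmb.gen_pullMap i hN (ht a)) hs (fun a b => i.app (O a ⊓ O b) (η' a b : Γ(X, O a ⊓ O b)))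
    (fun a b => ?_) (fun a b => ?_)⟩
  · exact top_le_iff.1 fun z _ => by
      obtain ⟨a, ha⟩ := TopologicalSpace.Opens.mem_iSup.1 (hO.ge (TopologicalSpace.Opens.mem_top (i z)))
      exact TopologicalSpace.Opens.mem_iSup.2 ⟨a, ha⟩
  · have h := Groth.Agent.InvDescLib.pullMap_smul_res i (inf_le_right : O a ⊓ O b ≤ O b) (htt a b).symm
    refine Eq.trans ?_ h.symm
    exact (Groth.Agent.PullbackMod.pullMap_res i N le_rfl (inf_le_left : O a ⊓ O b ≤ O a) (i.preimage_mono inf_le_left) le_rfl (t a) :)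
  · show L.presheaf.map (homOfLE (i.preimage_mono (inf_le_left : O a ⊓ O b ≤ O a))).op (s a) =
      i.app (O a ⊓ O b) (η' a b : Γ(X, O a ⊓ O b)) • L.presheaf.map (homOfLE (i.preimage_mono (inf_le_right : O a ⊓ O b ≤ O b))).op (s b)
    by_cases hab : a = b
    · subst hab
      simp only [η', dif_pos, Units.val_one, map_one, one_smul]
    · have ha := hsame a _ (le_inf inf_le_left (hov a b hab))
      have hb := hsame b _ (le_inf inf_le_right (hov a b hab))
      have hη'' : (G' b _ (le_inf inf_le_right (hov a b hab)) : Γ(X, O a ⊓ O b)) =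
          (G' a _ (le_inf inf_le_left (hov a b hab)) : Γ(X, O a ⊓ O b)) * (η' a b : Γ(X, O a ⊓ O b)) := by
        simp only [η', dif_neg hab]
        rw [← Units.val_mul, mul_inv_cancel_left]
      change i.app _ (G' b _ (le_inf inf_le_right (hov a b hab)) : Γ(X, O a ⊓ O b)) • _ = _ at hb
      change i.app _ (G' a _ (le_inf inf_le_left (hov a b hab)) : Γ(X, O a ⊓ O b)) • _ = _ at ha
      rw [← ha, hη'', map_mul, mul_smul] at hb
      exact ((G' a _ (le_inf inf_le_left (hov a b hab))).isUnit.map (i.app (O a ⊓ O b)).hom).smul_left_cancel.1 hb.symm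


end Groth.Agent.S1644
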