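import Groth.Statements.S16443
import Mathlib
-- import your own Groth.Agent.* helpers here

set_option autoImplicit false
universe u
open EGA4loc

namespace Groth.Agent.S16443

/-- Let A be a reduced local ring with finitely many minimal prime ideals, E a local ring which is an
essentially etale local A-algebra with local structure map, K_E the total ring of fractions of E,
and L an A-subalgebra of K_E containing an inverse of the image of every non-zero-divisor of A (so L
is an intermediate ring between the total rings of fractions of A and of E). Then the preimage D of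
L in E is (the underlying set of) an A-subalgebra of E which is a local ring with local inclusion
into E — its maximal ideal lies under that of E — and L is the total ring of fractions of D in the
sense that every element of L is the image of an element of D times the inverse of the image of a
non-zero-divisor of A. -/
theorem result
    (A E : Type u) [CommRing A] [IsLocalRing A] [IsReduced A] (hmin : (minimalPrimes A).Finite)
    [CommRing E] [IsLocalRing E] [Algebra A E] [IsLocalHom (algebraMap A E)]
    (hE : EGA4loc.IsEssentiallyEtale A E) (L : Subalgebra A (FractionRing E))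
    (hL : ∀ s ∈ nonZeroDivisors A, ∃ y ∈ L, algebraMap A (FractionRing E) s * y = 1) :
    ∃ D : Subalgebra A E, (D : Set E) = (algebraMap E (FractionRing E)) ⁻¹' (L : Set (FractionRing E)) ∧
      ∃ _ : IsLocalRing D, IsLocalHom (algebraMap D E) ∧
        ∀ l ∈ L, ∃ d ∈ D, ∃ s ∈ nonZeroDivisors A, ∃ y ∈ L,
          algebraMap A (FractionRing E) s * y = 1 ∧ l = algebraMap E (FractionRing E) d * y := by
  classical
  obtain ⟨C, _, _, q, _, hC, -, ⟨eqv⟩⟩ := hE
  haveI := hC
  haveI : Module.Flat A C := inferInstance
  haveI : Module.Flat A E := by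
    haveI : Module.Flat A (Localization.AtPrime q) := Module.Flat.trans A C _
    exact Module.Flat.of_linearEquiv eqv.toLinearEquiv
  let K := FractionRing A
  haveI : IsArtinianRing K := by
    have hmax : ∀ p : Ideal K, p.IsPrime → p.IsMaximal ∧ p.comap (algebraMap A K) ∈ minimalPrimes A := by
      have hmin' : ∀ p : Ideal K, p.IsPrime → p.comap (algebraMap A K) ∈ minimalPrimes A := by
        intro p hp
        have hd := (IsLocalization.isPrime_iff_isPrime_disjoint (nonZeroDivisors A) K p).1 hp
        haveI := hd.1
        have hsub : ((p.comap (algebraMap A K) : Ideal A) : Set A) ⊆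
            ⋃ P ∈ minimalPrimes A, (P : Set A) := by
          intro x hx
          have hx' : x ∉ nonZeroDivisors A := fun h => Set.disjoint_left.1 hd.2 h hx
          by_contra hc
          simp only [Set.mem_iUnion, not_exists] at hc
          refine hx' (mem_nonZeroDivisors_iff_right.2 fun y hy => ?_)
          have hy0 : y ∈ nilradical A := by
            rw [nilradical, ← Ideal.sInf_minimalPrimes, Submodule.mem_sInf]
            intro P hP
            haveI := hP.1.1
            exact ((hP.1.1.mem_or_mem (hy ▸ P.zero_mem)).resolve_right (hc P hP))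
          rwa [nilradical_eq_zero] at hy0
        obtain ⟨P, hP, hle⟩ := (Ideal.subset_union_prime_finite hmin ⊥ ⊥
          fun P hP _ _ => hP.1.1).1 hsub
        have hpP : p.comap (algebraMap A K) = P := le_antisymm hle (hP.2 ⟨hd.1, bot_le⟩ hle)
        exact hpP ▸ hP
      refine fun p hp => ⟨?_, hmin' p hp⟩
      obtain ⟨m, hm, hle⟩ := Ideal.exists_le_maximal p hp.ne_top
      have hcomap : m.comap (algebraMap A K) ≤ p.comap (algebraMap A K) :=
        (hmin' m hm.isPrime).2 (hmin' p hp).1 (Ideal.comap_mono hle)
      have : m ≤ p := by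
        rw [← IsLocalization.map_comap (nonZeroDivisors A) K m,
          ← IsLocalization.map_comap (nonZeroDivisors A) K p]
        exact Ideal.map_mono hcomap
      exact le_antisymm hle this ▸ hm
    let ι := {p : Ideal K // p.IsPrime}
    haveI : Finite ι := by
      haveI := hmin.to_subtype
      refine Finite.of_injective (fun p : ι => (⟨_, (hmax p.1 p.2).2⟩ : minimalPrimes A))
        fun p p' h => Subtype.ext ?_
      rw [← IsLocalization.map_comap (nonZeroDivisors A) K p.1,
        ← IsLocalization.map_comap (nonZeroDivisors A) K p'.1]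
      simp only [Subtype.mk.injEq] at h
      exact congrArg (fun J => Ideal.map (algebraMap A K) J) h
    haveI : _root_.IsReduced K := isReduced_localizationPreserves (nonZeroDivisors A) K ‹_›
    have hco : Pairwise fun p p' : ι => IsCoprime p.1 p'.1 := fun p p' h =>
      Ideal.isCoprime_iff_sup_eq.2 ((hmax p.1 p.2).1.coprime_of_ne (hmax p'.1 p'.2).1
        fun e => h (Subtype.ext e))
    have hinf : ⨅ p : ι, p.1 = ⊥ := by
      rw [eq_bot_iff]
      intro x hx
      have : x ∈ nilradical K := by
        rw [nilradical_eq_sInf, Submodule.mem_sInf]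
        exact fun p hp => (Submodule.mem_iInf _).1 hx ⟨p, hp⟩
      rwa [nilradical_eq_zero] at this
    haveI : ∀ p : ι, IsArtinianRing (K ⧸ p.1) := fun p => by
      haveI := (hmax p.1 p.2).1
      letI := Ideal.Quotient.field p.1
      infer_instance
    let e1 : K ≃+* (∀ p : ι, K ⧸ p.1) := (RingEquiv.quotientBot K).symm.trans
      ((Ideal.quotEquivOfEq hinf.symm).trans (Ideal.quotientInfRingEquivPiQuotient _ hco))
    exact e1.symm.surjective.isArtinianRing (f := e1.symm.toRingHom)
  let FE := FractionRing E
  have hreg : ∀ s ∈ nonZeroDivisors A, IsUnit (algebraMap A FE s) := by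
    intro s hs
    rw [IsScalarTower.algebraMap_apply A E FE]
    refine IsLocalization.map_units FE (M := nonZeroDivisors E) ⟨algebraMap A E s, ?_⟩
    have h := Module.Flat.isSMulRegular_of_isRegular (M := E) (isRegular_iff_mem_nonZeroDivisors.2 hs)
    rw [mem_nonZeroDivisors_iff_right]
    intro y hy
    refine h (?_ : s • y = s • 0)
    rw [smul_zero, Algebra.smul_def, mul_comm]
    exact hy
  letI : Algebra K FE := (IsLocalization.lift (M := nonZeroDivisors A) (S := K) (g := algebraMap A FE)
    fun s => hreg s.1 s.2).toAlgebra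
  haveI : IsScalarTower A K FE := IsScalarTower.of_algebraMap_eq fun a =>
    (IsLocalization.lift_eq (M := nonZeroDivisors A) _ a).symm
  have hunit : ∀ (x : FE) (hx : IsIntegral K x), IsUnit x → ∃ y ∈ Algebra.adjoin K {x}, x * y = 1 := by
    intro x hx hu
    haveI : Module.Finite K (Algebra.adjoin K {x}) :=
      Module.Finite.iff_fg.2 hx.fg_adjoin_singleton
    haveI : IsArtinianRing (Algebra.adjoin K {x}) := IsArtinianRing.of_finite K _
    have hx' : IsUnit (⟨x, Algebra.self_mem_adjoin_singleton K x⟩ : Algebra.adjoin K {x}) := by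
      refine IsArtinianRing.isUnit_of_mem_nonZeroDivisors (mem_nonZeroDivisors_iff_right.2 fun y hy => ?_)
      exact Subtype.ext (hu.mul_left_eq_zero.1 (congrArg Subtype.val hy))
    obtain ⟨y, hy⟩ := hx'.exists_right_inv
    exact ⟨y, y.2, congrArg Subtype.val hy⟩
  let βC : C →ₐ[A] FE := (IsScalarTower.toAlgHom A E FE).comp
    (eqv.symm.toAlgHom.comp (IsScalarTower.toAlgHom A C (Localization.AtPrime q)))
  have hC_int : ∀ c : C, IsIntegral K (βC c) := by
    intro c
    haveI : Module.Finite K (TensorProduct A K C) := Module.Finite.of_quasiFinite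
    let α : TensorProduct A K C →ₐ[K] FE := AlgHom.liftEquiv A K C FE βC
    have h := (Algebra.IsIntegral.isIntegral (R := K) ((1 : K) ⊗ₜ[A] c)).map α
    simpa [α] using h
  let P : FE → Prop := fun x => ∃ s ∈ nonZeroDivisors A, ∃ e : E, algebraMap A FE s * x = algebraMap E FE e
  have hP : ∀ (y : E) (x : FE), x ∈ Algebra.adjoin K {algebraMap E FE y} → P x := by
    intro y x hx
    induction hx using Algebra.adjoin_induction with
    | mem z hz =>
      rw [Set.mem_singleton_iff] at hz
      exact ⟨1, one_mem _, y, by rw [hz, map_one, one_mul]⟩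
    | algebraMap r =>
      obtain ⟨a, s, rfl⟩ := IsLocalization.exists_mk'_eq (nonZeroDivisors A) r
      refine ⟨s, s.2, algebraMap A E a, ?_⟩
      rw [IsScalarTower.algebraMap_apply A K FE, ← map_mul, IsLocalization.mk'_spec'_mk,
        ← IsScalarTower.algebraMap_apply A E FE, ← IsScalarTower.algebraMap_apply A K FE]
    | add u v _ _ hu hv =>
      obtain ⟨s, hs, e, he⟩ := hu
      obtain ⟨t, ht, f, hf⟩ := hv
      refine ⟨s * t, mul_mem hs ht, algebraMap A E t * e + algebraMap A E s * f, ?_⟩
      rw [map_mul, map_add (algebraMap E FE), map_mul (algebraMap E FE), map_mul (algebraMap E FE),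
        ← he, ← hf, ← IsScalarTower.algebraMap_apply, ← IsScalarTower.algebraMap_apply]
      ring
    | mul u v _ _ hu hv =>
      obtain ⟨s, hs, e, he⟩ := hu
      obtain ⟨t, ht, f, hf⟩ := hv
      refine ⟨s * t, mul_mem hs ht, e * f, ?_⟩
      rw [map_mul, map_mul (algebraMap E FE), ← he, ← hf]
      ring
  have hE_int : ∀ e : E, IsIntegral K (algebraMap E FE e) := by
    intro e
    obtain ⟨⟨c, t⟩, hct⟩ := IsLocalization.surj q.primeCompl (eqv e)
    have h1 : algebraMap E FE e * βC t = βC c := by
      have h := congrArg eqv.symm hct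
      rw [map_mul, eqv.symm_apply_apply] at h
      show algebraMap E FE e * algebraMap E FE _ = algebraMap E FE _
      rw [← map_mul]
      exact congrArg (algebraMap E FE) h
    have hu : IsUnit (βC t) := by
      show IsUnit (algebraMap E FE (eqv.symm (algebraMap C (Localization.AtPrime q) t)))
      exact ((IsLocalization.map_units (Localization.AtPrime q) t).map eqv.symm).map _
    obtain ⟨y, hy, hty⟩ := hunit _ (hC_int t) hu
    have hyint : IsIntegral K y := by
      refine Algebra.adjoin_le (S := integralClosure K FE) (Set.singleton_subset_iff.2 (hC_int t)) hy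
    rw [show algebraMap E FE e = βC c * y by rw [← h1, mul_assoc, hty, mul_one]]
    exact (hC_int c).mul hyint
  have hall : ∀ x : FE, P x ∧ IsIntegral K x := by
    intro x
    obtain ⟨e, t, rfl⟩ := IsLocalization.exists_mk'_eq (nonZeroDivisors E) x
    obtain ⟨y, hy, hty⟩ := hunit _ (hE_int t) (IsLocalization.map_units FE t)
    have hyint : IsIntegral K y :=
      Algebra.adjoin_le (S := integralClosure K FE) (Set.singleton_subset_iff.2 (hE_int t)) hy
    have hx : IsLocalization.mk' FE e t = algebraMap E FE e * y := by
      rw [IsLocalization.mk'_eq_iff_eq_mul, mul_assoc, mul_comm y, hty, mul_one]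
    rw [hx]
    refine ⟨?_, (hE_int e).mul hyint⟩
    obtain ⟨s, hs, f, hf⟩ := hP t y hy
    exact ⟨s, hs, e * f, by rw [map_mul (algebraMap E FE), ← hf]; ring⟩
  have hKL : ∀ r : K, algebraMap K FE r ∈ L := by
    intro r
    obtain ⟨a, s, rfl⟩ := IsLocalization.exists_mk'_eq (nonZeroDivisors A) r
    obtain ⟨y, hy, hsy⟩ := hL s s.2
    have : algebraMap K FE (IsLocalization.mk' K a s) = algebraMap A FE a * y := by
      have h := congrArg (algebraMap K FE) (IsLocalization.mk'_spec K a s)
      rw [map_mul, ← IsScalarTower.algebraMap_apply, ← IsScalarTower.algebraMap_apply] at h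
      rw [← h, mul_assoc, hsy, mul_one]
    rw [this]
    exact L.mul_mem (L.algebraMap_mem a) hy
  let LK : Subalgebra K FE := { L with algebraMap_mem' := hKL }
  let D : Subalgebra A E := L.comap (IsScalarTower.toAlgHom A E FE)
  have hDunit : ∀ d : D, IsUnit (d : E) → IsUnit d := by
    intro d hd
    obtain ⟨y, hy, hdy⟩ := hunit _ (hE_int d) (hd.map (algebraMap E FE))
    have hyL : y ∈ L :=
      Algebra.adjoin_le (S := LK) (Set.singleton_subset_iff.2 d.2) hy
    obtain ⟨v, hv⟩ := hd.exists_right_inv
    have hyv : algebraMap E FE v = y := by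
      refine (hd.map (algebraMap E FE)).mul_left_cancel ?_
      rw [← map_mul, hv, map_one, hdy]
    refine IsUnit.of_mul_eq_one (⟨v, show algebraMap E FE v ∈ L from hyv ▸ hyL⟩ : D) ?_
    exact Subtype.ext hv
  haveI : IsLocalRing D := by
    haveI : Nontrivial D := inferInstance
    refine IsLocalRing.of_isUnit_or_isUnit_one_sub_self fun d => ?_
    rcases IsLocalRing.isUnit_or_isUnit_one_sub_self (d : E) with h | h
    · exact Or.inl (hDunit d h)
    · exact Or.inr (hDunit (1 - d) h)
  refine ⟨D, rfl, inferInstance, ⟨fun d hd => hDunit d hd⟩, fun l hl => ?_⟩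
  obtain ⟨s, hs, e, he⟩ := (hall l).1
  obtain ⟨y, hy, hsy⟩ := hL s hs
  refine ⟨e, ?_, s, hs, y, hy, hsy, ?_⟩
  · show algebraMap E FE e ∈ L
    rw [← he]
    exact L.mul_mem (L.algebraMap_mem s) hl
  · rw [← he, mul_right_comm, hsy, one_mul]

end Groth.Agent.S16443
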