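import Groth.Statements.S16444
import Groth.Agent.SHInter.Basic
import Groth.Agent.EssEtLift.Basic
open IsLocalRing TensorProduct
-- import your own Groth.Agent.* helpers here

set_option autoImplicit false
universe u
open scoped TensorProduct
open Hensel

namespace Groth.Agent.S16444

open IsLocalRing in
/-- Let A be a complete Noetherian local ring and R → A a local homomorphism from a henselian Noetherian
local ring R inducing a bijection on residue fields. Then every local ring E which is an essentially
etale local A-algebra with local structure map is A-isomorphic to A ⊗_R S for some local ring S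
which is a finite etale R-algebra (its residue field is then that of E). (The published statement
takes R to be a coefficient ring of A, that is a field or an image of a complete p-ring with the
same residue field; its proof uses only that R is henselian with the same residue field as A, which
is the hypothesis made here.) -/
theorem result
    (R A E : Type u) [CommRing R] [HenselianLocalRing R] [IsNoetherianRing R]
    [CommRing A] [IsLocalRing A] [IsNoetherianRing A] [IsAdicComplete (maximalIdeal A) A]
    [Algebra R A] [IsLocalHom (algebraMap R A)]
    (hres : Function.Bijective (ResidueField.map (algebraMap R A)))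
    [CommRing E] [IsLocalRing E] [Algebra A E] [IsLocalHom (algebraMap A E)]
    (hE : EGA4loc.IsEssentiallyEtale A E) :
    ∃ (S : Type u) (_ : CommRing S) (_ : IsLocalRing S) (_ : Algebra R S),
      Module.Finite R S ∧ Algebra.Etale R S ∧ Nonempty (E ≃ₐ[A] A ⊗[R] S) := by
  classical
  haveI : HenselianRing A (maximalIdeal A) := IsAdicComplete.henselianRing _ _
  haveI : HenselianLocalRing A := Groth.Agent.Hensel.henselianRing_maximalIdeal_iff.1 inferInstance
  haveI := Groth.Agent.SHInter.formallyEtale_of_essEt hE
  haveI := Groth.Agent.SHInter.essFiniteType_of_essEt hE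
  letI : Algebra R E := ((algebraMap A E).comp (algebraMap R A)).toAlgebra
  haveI : IsScalarTower R A E := IsScalarTower.of_algebraMap_eq fun _ => rfl
  haveI : IsLocalHom (algebraMap R E) := RingHom.isLocalHom_comp _ _
  haveI : IsScalarTower (ResidueField R) (ResidueField A) (ResidueField E) :=
    IsScalarTower.of_algebraMap_eq fun x => by obtain ⟨r, rfl⟩ := residue_surjective x; rfl
  have hsurjk : Function.Surjective (algebraMap (ResidueField R) (ResidueField A)) := hres.2
  haveI : Module.Finite (ResidueField R) (ResidueField A) := Module.Finite.of_surjective (Algebra.linearMap _ _) hsurjk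
  haveI : Algebra.IsSeparable (ResidueField R) (ResidueField A) :=
    AlgEquiv.Algebra.isSeparable (AlgEquiv.ofBijective (Algebra.ofId (ResidueField R) (ResidueField A)) hres)
  haveI : Module.Finite (ResidueField A) (ResidueField E) := Algebra.FormallyUnramified.finite_of_free _ _
  haveI : Module.Finite (ResidueField R) (ResidueField E) := Module.Finite.trans (ResidueField A) _
  haveI : Algebra.IsSeparable (ResidueField R) (ResidueField E) :=
    Algebra.IsSeparable.trans (ResidueField R) (ResidueField A) (ResidueField E)
  obtain ⟨S, _, _, _, _, _, _, ⟨e⟩⟩ := EtAlgEasy.exists_finite_etale_local R (ResidueField E)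
  refine ⟨S, inferInstance, inferInstance, inferInstance, inferInstance, inferInstance, ?_⟩
  let T := A ⊗[R] S
  let σ : S →ₐ[R] ResidueField E :=
    { toRingHom := e.toRingEquiv.toRingHom.comp (residue S)
      commutes' := fun r => by
        show e (residue S (algebraMap R S r)) = _
        rw [show residue S (algebraMap R S r) = algebraMap (ResidueField R) (ResidueField S) (residue R r) from rfl,
          e.commutes]
        rfl }
  let π : T →ₐ[A] ResidueField E :=
    Algebra.TensorProduct.lift (Algebra.ofId A _) σ fun _ _ => Commute.all _ _
  have hπ1 : ∀ s, π ((1 : A) ⊗ₜ s) = σ s := fun s => by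
    rw [Algebra.TensorProduct.lift_tmul, map_one, one_mul]
  have hσ : Function.Surjective σ := e.surjective.comp residue_surjective
  have hπs : Function.Surjective π := fun z => by
    obtain ⟨s, rfl⟩ := hσ z
    exact ⟨_, hπ1 s⟩
  have hker : RingHom.ker π.toRingHom = (maximalIdeal A).map (algebraMap A T) := by
    refine le_antisymm (fun x hx => ?_) (Ideal.map_le_iff_le_comap.2 fun a ha => ?_)
    · have hdec : ∀ y : T, ∃ s : S, y - (1 : A) ⊗ₜ s ∈ (maximalIdeal A).map (algebraMap A T) := by
        intro y
        induction y using TensorProduct.induction_on with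
        | zero => exact ⟨0, by rw [tmul_zero, sub_zero]; exact Ideal.zero_mem _⟩
        | tmul a s =>
          obtain ⟨r, hr⟩ := hsurjk (residue A a)
          obtain ⟨r, rfl⟩ := residue_surjective r
          refine ⟨r • s, ?_⟩
          rw [← TensorProduct.smul_tmul, ← sub_tmul]
          have hmem : a - r • (1 : A) ∈ maximalIdeal A := by
            rw [← residue_eq_zero_iff, map_sub, Algebra.smul_def, mul_one, sub_eq_zero]
            exact hr.symm
          rw [show (a - r • (1 : A)) ⊗ₜ[R] s = algebraMap A T (a - r • (1 : A)) * ((1 : A) ⊗ₜ s) by
            rw [Algebra.TensorProduct.algebraMap_apply, Algebra.TensorProduct.tmul_mul_tmul, one_mul, mul_one]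
            rfl]
          exact Ideal.mul_mem_right _ _ (Ideal.mem_map_of_mem _ hmem)
        | add u v hu hv =>
          obtain ⟨s, hs⟩ := hu
          obtain ⟨s', hs'⟩ := hv
          exact ⟨s + s', by rw [tmul_add, add_sub_add_comm]; exact Ideal.add_mem _ hs hs'⟩
      obtain ⟨s, hs⟩ := hdec x
      have hm : (maximalIdeal A).map (algebraMap A T) ≤ RingHom.ker π.toRingHom :=
        Ideal.map_le_iff_le_comap.2 fun a ha => by
          show π (algebraMap A T a) = 0
          rw [π.commutes, IsScalarTower.algebraMap_apply A (ResidueField A) (ResidueField E),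
            ResidueField.algebraMap_eq, (residue_eq_zero_iff a).2 ha, map_zero]
      have h0 : σ s = 0 := by
        have := hm hs
        rw [RingHom.mem_ker, map_sub] at this
        rw [RingHom.mem_ker] at hx
        rw [← hπ1]
        exact (sub_eq_zero.1 this).symm.trans hx
      have hs' : s ∈ (maximalIdeal R).map (algebraMap R S) := by
        rw [Algebra.FormallyUnramified.map_maximalIdeal, ← residue_eq_zero_iff]
        exact e.map_eq_zero_iff.1 h0
      have h1 : (1 : A) ⊗ₜ[R] s ∈ (maximalIdeal A).map (algebraMap A T) := by
        have h2 := Ideal.mem_map_of_mem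
          (Algebra.TensorProduct.includeRight : S →ₐ[R] T).toRingHom hs'
        rw [Ideal.map_map, show (Algebra.TensorProduct.includeRight : S →ₐ[R] T).toRingHom.comp (algebraMap R S) =
          (algebraMap A T).comp (algebraMap R A) from
            (Algebra.TensorProduct.includeRight : S →ₐ[R] T).comp_algebraMap.trans (IsScalarTower.algebraMap_eq R A T),
          ← Ideal.map_map] at h2
        exact Ideal.map_mono (((local_hom_TFAE (algebraMap R A)).out 0 2 rfl rfl).mp inferInstance) h2
      have := Ideal.add_mem _ hs h1
      rwa [sub_add_cancel] at this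
    · show π (algebraMap A T a) = 0
      rw [π.commutes, IsScalarTower.algebraMap_apply A (ResidueField A) (ResidueField E),
        ResidueField.algebraMap_eq, (residue_eq_zero_iff a).2 ha, map_zero]
  have hmax : (RingHom.ker π.toRingHom).IsMaximal := RingHom.ker_isMaximal_of_surjective π.toRingHom hπs
  haveI : Algebra.IsIntegral A T := Algebra.IsIntegral.of_finite A T
  haveI : IsLocalRing T := IsLocalRing.of_unique_max_ideal ⟨RingHom.ker π.toRingHom, hmax, fun M hM => by
    refine (hmax.eq_of_le hM.ne_top ?_).symm
    rw [hker, Ideal.map_le_iff_le_comap]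
    haveI := hM
    exact (eq_maximalIdeal (Ideal.isMaximal_comap_of_isIntegral_of_isMaximal (R := A) M)).ge⟩
  have hTm : maximalIdeal T = RingHom.ker π.toRingHom := (eq_maximalIdeal hmax).symm
  haveI := Groth.Agent.SHTensor.isLocalHom_of_isIntegral A T
  haveI : HenselianLocalRing T := Groth.Agent.SHTensor.henselian_of_isIntegral A T
  let κ : ResidueField T →+* ResidueField E := Ideal.Quotient.lift _ π.toRingHom fun x hx => hTm.le hx
  have hκ : Function.Bijective κ := ⟨κ.injective, fun z => by
    obtain ⟨x, rfl⟩ := hπs z
    exact ⟨residue T x, rfl⟩⟩
  let κe := RingEquiv.ofBijective κ hκ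
  obtain ⟨φ, ⟨_, hφc, hφr⟩, -⟩ := Groth.Agent.EssEtLift.existsUnique_lift hE T (algebraMap A T)
    κe.symm.toRingHom (RingHom.ext fun x => κe.injective (by
      obtain ⟨a, rfl⟩ := residue_surjective x
      show κe (κe.symm (residue E (algebraMap A E a))) = κe (residue T (algebraMap A T a))
      rw [RingEquiv.apply_symm_apply]
      exact (π.commutes a).symm))
  let φA : E →ₐ[A] T := { φ with commutes' := RingHom.congr_fun hφc }
  have hsurj : Function.Surjective φA := by
    have htop : LinearMap.range φA.toLinearMap = ⊤ := by
      refine top_le_iff.1 (Submodule.le_of_le_smul_of_le_jacobson_bot Module.Finite.fg_top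
        (jacobson_eq_maximalIdeal (⊥ : Ideal A) bot_ne_top).ge ?_)
      intro x _
      obtain ⟨y, hy⟩ := κe.symm.surjective (residue T x)
      obtain ⟨y, rfl⟩ := residue_surjective y
      refine Submodule.mem_sup.2 ⟨φA y, ⟨y, rfl⟩, x - φA y, ?_, by abel⟩
      rw [Ideal.smul_top_eq_map, Submodule.restrictScalars_mem, ← hker, ← hTm, ← residue_eq_zero_iff,
        map_sub, sub_eq_zero]
      exact ((hφr y).trans hy).symm
    exact fun x => (htop.ge Submodule.mem_top : x ∈ LinearMap.range φA.toLinearMap)
  have hinj : Function.Injective φA := by
    letI : Algebra E T := φA.toRingHom.toAlgebra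
    haveI : IsScalarTower A E T := IsScalarTower.of_algebraMap_eq fun a => (φA.commutes a).symm
    haveI : Module.Flat R S := inferInstance
    haveI : Module.Flat A T := inferInstance
    haveI : Module.Flat E T := Algebra.FormallyUnramified.flat_of_restrictScalars A E T
    haveI : IsLocalHom (algebraMap E T) := ‹IsLocalHom φ›
    haveI : Module.FaithfullyFlat E T := Module.FaithfullyFlat.of_flat_of_isLocalHom
    exact FaithfulSMul.algebraMap_injective E T
  exact ⟨AlgEquiv.ofBijective φA ⟨hinj, hsurj⟩⟩

end Groth.Agent.S16444
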