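import Groth.Statements.S16445
import Groth.Agent.SHInter.Branch
import Groth.Agent.S2651
open IsLocalRing
-- import your own Groth.Agent.* helpers here

set_option autoImplicit false
universe u
open Hensel

namespace Groth.Agent.S16445

/-- Let A be an excellent henselian reduced local ring, S a strict henselization of A and Q a minimal
prime ideal of S; let K be the fraction field of the domain S/Q and L the subfield of K generated
over the image of A by a finite subset t of K. Then the intersection of L with S/Q is (the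
underlying set of) an A-subalgebra D' of S/Q which is an excellent henselian local ring (a domain,
as a subring of S/Q) whose fraction field is L: every element of L is the quotient of the images of
two elements of D'. (The source's further description of the completion of D' is not stated here.) -/
theorem result
    (A S : Type u) [CommRing A] [HenselianLocalRing A] [IsReduced A] (hA : EGA4.IsExcellent A)
    [CommRing S] [IsLocalRing S] [Algebra A S] [IsLocalHom (algebraMap A S)]
    [Hensel.IsStrictHenselization A S] (Q : Ideal S) (hQ : Q ∈ minimalPrimes S) [Q.IsPrime]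
    (t : Finset (FractionRing (S ⧸ Q))) :
    ∃ D' : Subalgebra A (S ⧸ Q), (D' : Set (S ⧸ Q)) = (algebraMap (S ⧸ Q) (FractionRing (S ⧸ Q))) ⁻¹'
        (Subfield.closure (Set.range (algebraMap A (FractionRing (S ⧸ Q))) ∪
          (t : Set (FractionRing (S ⧸ Q)))) : Set (FractionRing (S ⧸ Q))) ∧
      EGA4.IsExcellent D' ∧ ∃ _ : HenselianLocalRing D',
        ∀ l ∈ Subfield.closure (Set.range (algebraMap A (FractionRing (S ⧸ Q))) ∪
            (t : Set (FractionRing (S ⧸ Q)))),
          ∃ a ∈ D', ∃ b ∈ D', algebraMap (S ⧸ Q) (FractionRing (S ⧸ Q)) b ≠ 0 ∧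
            l * algebraMap (S ⧸ Q) (FractionRing (S ⧸ Q)) b =
              algebraMap (S ⧸ Q) (FractionRing (S ⧸ Q)) a := by
  classical
  haveI : IsNoetherianRing A := hA.1
  obtain ⟨x₀, D, hD, hfin, -, hnum, hWfin, hloc, -, -⟩ :=
    Groth.Agent.SHInter.exists_finite_inter (A := A) Q t
  haveI := hfin
  haveI := hWfin
  haveI := hloc
  haveI : Algebra.IsIntegral A D := Algebra.IsIntegral.of_finite A D
  refine ⟨D, hD, Groth.Agent.S2651.result A hA D, Groth.Agent.SHTensor.henselian_of_isIntegral A D, ?_⟩
  let W := Algebra.adjoin A ({x₀} : Set S)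
  let F := FractionRing (S ⧸ Q)
  let φ : S →+* F := (algebraMap (S ⧸ Q) F).comp (Ideal.Quotient.mk Q)
  have hφA : ∀ a, φ (algebraMap A S a) = algebraMap A F a := fun a =>
    (IsScalarTower.algebraMap_apply A (S ⧸ Q) F a).symm
  let WF : Subfield F := Subfield.closure ((W.toSubring.map φ : Subring F) : Set F)
  have hle : Subfield.closure (Set.range (algebraMap A F) ∪ (t : Set F)) ≤ WF := Subfield.closure_le.2 (by
    rintro z (⟨a, rfl⟩ | hz)
    · exact Subfield.subset_closure ⟨algebraMap A S a, W.algebraMap_mem a, hφA a⟩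
    · obtain ⟨p, hp, q, hq, rfl⟩ := hnum z hz
      exact WF.div_mem (Subfield.subset_closure ⟨p, hp, rfl⟩) (Subfield.subset_closure ⟨q, hq, rfl⟩))
  have hmul : ∀ (n : ℕ) (P : Polynomial A) (q : W), P.natDegree ≤ n → P.Monic → φ (q : S) ≠ 0 →
      φ ((Polynomial.aeval q P : W) : S) = 0 →
      ∃ (c : A) (y : W), algebraMap A F c ≠ 0 ∧ φ (q : S) * φ (y : S) = algebraMap A F c := by
    intro n
    induction n with
    | zero =>
      intro P q hP hPm _ h0
      rw [Polynomial.eq_one_of_monic_natDegree_zero hPm (Nat.le_zero.1 hP), map_one] at h0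
      exact absurd h0 (by rw [OneMemClass.coe_one, map_one]; exact one_ne_zero)
    | succ n ih =>
      intro P q hP hPm hq h0
      have hdec := P.divX_mul_X_add
      have h1 : φ (q : S) * φ ((Polynomial.aeval q P.divX : W) : S) + algebraMap A F (P.coeff 0) = 0 := by
        rw [← h0, ← hφA, ← map_mul, ← map_add]
        refine congrArg φ ?_
        conv_rhs => rw [← hdec]
        rw [map_add, map_mul, Polynomial.aeval_X, Polynomial.aeval_C]
        simp only [Subalgebra.coe_add, Subalgebra.coe_mul, Subalgebra.coe_algebraMap]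
        ring
      by_cases hc : algebraMap A F (P.coeff 0) = 0
      · rw [hc, add_zero] at h1
        rcases Nat.eq_zero_or_pos P.natDegree with hd | hd
        · rw [Polynomial.eq_one_of_monic_natDegree_zero hPm hd, map_one] at h0
          exact absurd h0 (by rw [OneMemClass.coe_one, map_one]; exact one_ne_zero)
        refine ih P.divX q ?_ ?_ hq ((mul_eq_zero.1 h1).resolve_left hq)
        · rw [Polynomial.natDegree_divX_eq_natDegree_tsub_one]
          omega
        · rw [Polynomial.Monic, Polynomial.leadingCoeff, Polynomial.natDegree_divX_eq_natDegree_tsub_one,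
            Polynomial.coeff_divX, Nat.sub_add_cancel hd]
          exact hPm
      · exact ⟨-P.coeff 0, Polynomial.aeval q P.divX, by rw [map_neg]; exact neg_ne_zero.2 hc,
          by rw [map_neg]; exact eq_neg_of_add_eq_zero_left h1⟩
  intro l hl
  obtain ⟨p, hp, q, hq, hpq⟩ := Subfield.mem_closure_iff.1 (hle hl)
  rw [Subring.closure_eq] at hp hq
  obtain ⟨p, hpW, rfl⟩ := hp
  obtain ⟨q, hqW, rfl⟩ := hq
  have hmem : ∀ s : S, φ s ∈ Subfield.closure (Set.range (algebraMap A F) ∪ (t : Set F)) →
      Ideal.Quotient.mk Q s ∈ D := fun s hs => by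
    rw [← SetLike.mem_coe, hD]
    exact hs
  by_cases hq0 : φ q = 0
  · have hl0 : l = 0 := by rw [← hpq, hq0, div_zero]
    refine ⟨0, D.zero_mem, 1, D.one_mem, by rw [map_one]; exact one_ne_zero, ?_⟩
    rw [hl0, zero_mul, map_zero]
  haveI : Algebra.IsIntegral A W := Algebra.IsIntegral.of_finite A W
  obtain ⟨P, hPm, hP⟩ := Algebra.IsIntegral.isIntegral (R := A) (⟨q, hqW⟩ : W)
  obtain ⟨c, y, hc, hy⟩ := hmul _ P ⟨q, hqW⟩ le_rfl hPm hq0 (by
    rw [Polynomial.aeval_def, hP, ZeroMemClass.coe_zero, map_zero])
  have hlc : l * algebraMap A F c = φ (p * (y : S)) := by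
    rw [← hy, ← hpq, map_mul, ← mul_assoc, div_mul_cancel₀ _ hq0]
  refine ⟨Ideal.Quotient.mk Q (p * (y : S)), hmem _ ?_, Ideal.Quotient.mk Q (algebraMap A S c),
    D.algebraMap_mem c, ?_, ?_⟩
  · rw [← hlc]
    exact Subfield.mul_mem _ hl (Subfield.subset_closure (Or.inl ⟨c, rfl⟩))
  · show φ (algebraMap A S c) ≠ 0
    rw [hφA]
    exact hc
  · show l * φ (algebraMap A S c) = φ (p * (y : S))
    rw [hφA]
    exact hlc

end Groth.Agent.S16445
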