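import Groth.Statements.S16447
import Groth.Agent.SHInter.SemiLocal
import Groth.Agent.S16448
open IsLocalRing Groth.Agent.SHInter
open scoped nonZeroDivisors
-- import your own Groth.Agent.* helpers here

set_option autoImplicit false
universe u
open EGA4loc

namespace Groth.Agent.S16447

/-- Let A be a Noetherian reduced local ring, E a local ring which is an essentially etale local
A-algebra with local structure map, K_E the total ring of fractions of E, E' the integral closure of
E in K_E (viewed as an A-subalgebra of K_E), and L an A-subalgebra of K_E containing an inverse of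
the image of every non-zero-divisor of A. Let C be the A-subalgebra L ⊓ E' of K_E. Then C is
integrally closed in L, C has only finitely many maximal ideals, the maximal ideals of C are exactly
the contractions of the maximal ideals of E', and every element of L is an element of C times the
inverse of the image of a non-zero-divisor of A. (The published statement assumes only that A is
reduced; its proof uses that the integral closure of E in K_E has finitely many maximal ideals,
which holds when A is Noetherian and can fail otherwise, so A is taken Noetherian here.) -/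
theorem result
    (A E : Type u) [CommRing A] [IsLocalRing A] [IsReduced A] [IsNoetherianRing A]
    [CommRing E] [IsLocalRing E] [Algebra A E] [IsLocalHom (algebraMap A E)]
    (hE : EGA4loc.IsEssentiallyEtale A E) (L : Subalgebra A (FractionRing E))
    (hL : ∀ s ∈ nonZeroDivisors A, ∃ y ∈ L, algebraMap A (FractionRing E) s * y = 1)
    (C : Subalgebra A (FractionRing E))
    (hC : C = L ⊓ (integralClosure E (FractionRing E)).restrictScalars A) :
    (∀ x ∈ L, IsIntegral C x → x ∈ C) ∧
      {N : Ideal C | N.IsMaximal}.Finite ∧
      (∀ N : Ideal C, N.IsMaximal ↔ ∃ M : Ideal ((integralClosure E (FractionRing E)).restrictScalars A),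
          M.IsMaximal ∧ N = M.comap (Subalgebra.inclusion (hC.trans_le inf_le_right))) ∧
      ∀ l ∈ L, ∃ c ∈ C, ∃ s ∈ nonZeroDivisors A, ∃ y ∈ L,
        algebraMap A (FractionRing E) s * y = 1 ∧ l = c * y := by
  classical
  haveI : Algebra.EssFiniteType A E := essFiniteType_of_essEt hE
  haveI : Algebra.FormallyEtale A E := formallyEtale_of_essEt hE
  haveI : IsNoetherianRing E := Algebra.EssFiniteType.isNoetherianRing A E
  haveI : IsReduced E := isReduced_of_essEt hE
  have hmin := Ideal.finite_minimalPrimes_of_isNoetherianRing A ⊥
  obtain ⟨hloc, t, ht⟩ := Groth.Agent.S16448.result A E hmin hE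
  haveI : IsArtinianRing (FractionRing A) := Groth.Agent.S2139.isNoetherian_frac hmin
  subst hC
  have hu : ∀ a : A⁰, IsUnit (algebraMap A (FractionRing E) a) := fun a => by
    obtain ⟨y, -, hy⟩ := hL a a.2
    exact IsUnit.of_mul_eq_one y hy
  letI : Algebra (FractionRing A) (FractionRing E) := (IsLocalization.lift hu).toAlgebra
  haveI : IsScalarTower A (FractionRing A) (FractionRing E) :=
    IsScalarTower.of_algebraMap_eq fun a => (IsLocalization.lift_eq hu a).symm
  haveI : Module.Finite (FractionRing A) (FractionRing E) := by
    refine ⟨⟨t, top_le_iff.1 fun x _ => ?_⟩⟩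
    obtain ⟨a, ha, hax⟩ := ht x
    have h1 := Submodule.span_le_restrictScalars A (FractionRing A) (t : Set (FractionRing E)) hax
    obtain ⟨v, hv⟩ := IsLocalization.map_units (FractionRing A) (⟨a, ha⟩ : A⁰)
    have h2 := Submodule.smul_mem (Submodule.span (FractionRing A) (t : Set (FractionRing E))) (↑v⁻¹ : FractionRing A) h1
    rwa [IsScalarTower.algebraMap_apply A (FractionRing A) (FractionRing E) a, ← Algebra.smul_def, ← hv,
      smul_smul, Units.inv_mul, one_smul] at h2
  let L' : Subalgebra (FractionRing A) (FractionRing E) :=
    { L.toSubsemiring with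
      algebraMap_mem' := fun r => by
        obtain ⟨⟨a, s⟩, h⟩ := IsLocalization.surj A⁰ r
        obtain ⟨y, hy, hy1⟩ := hL s s.2
        have h1 := congrArg (algebraMap (FractionRing A) (FractionRing E)) h
        rw [map_mul, ← IsScalarTower.algebraMap_apply, ← IsScalarTower.algebraMap_apply] at h1
        show algebraMap (FractionRing A) (FractionRing E) r ∈ L
        have h2 : algebraMap (FractionRing A) (FractionRing E) r = algebraMap A (FractionRing E) a * y := by
          rw [← h1, mul_assoc, hy1, mul_one]
        rw [h2]
        exact mul_mem (L.algebraMap_mem a) hy }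
  haveI : Module.Finite (FractionRing A) L' :=
    Module.Finite.of_injective L'.val.toLinearMap Subtype.val_injective
  haveI : IsArtinianRing L' := IsArtinianRing.of_finite (FractionRing A) L'
  let E' := (integralClosure E (FractionRing E)).restrictScalars A
  let C := L ⊓ E'
  let ι : C →+* E' := (Subalgebra.inclusion (inf_le_right : C ≤ E')).toRingHom
  have hunit : ∀ c : C, IsUnit (ι c) → IsUnit c := by
    intro c hc
    obtain ⟨w, hw⟩ := isUnit_iff_exists_inv.1 hc
    have hw' : (c : FractionRing E) * (w : FractionRing E) = 1 := congrArg Subtype.val hw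
    have hl : IsUnit (⟨(c : FractionRing E), c.2.1⟩ : L') :=
      IsArtinianRing.isUnit_of_mem_nonZeroDivisors (mem_nonZeroDivisors_iff_right.2 fun z hz => Subtype.ext (by
        have h1 : (z : FractionRing E) * (c : FractionRing E) = 0 := congrArg Subtype.val hz
        show (z : FractionRing E) = 0
        rw [← mul_one (z : FractionRing E), ← hw', ← mul_assoc, h1, zero_mul]))
    obtain ⟨v, hv⟩ := isUnit_iff_exists_inv.1 hl
    have hv' : (c : FractionRing E) * (v : FractionRing E) = 1 := congrArg Subtype.val hv
    have hvw : (v : FractionRing E) = (w : FractionRing E) := by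
      rw [← mul_one (v : FractionRing E), ← hw', ← mul_assoc, mul_comm (v : FractionRing E), hv', one_mul]
    exact IsUnit.of_mul_eq_one (⟨(v : FractionRing E), v.2, hvw ▸ w.2⟩ : C) (Subtype.ext hv')
  have hfinE : {M : Ideal E' | M.IsMaximal}.Finite := finite_maximal_integralClosure E
  have hdown : ∀ M : Ideal E', M.IsMaximal → (M.comap ι).IsMaximal := by
    intro M hM
    haveI := hM
    haveI : Module.Finite (ResidueField A) (ResidueField E) :=
      Algebra.FormallyUnramified.finite_of_free _ _
    let αE : E →+* E' := algebraMap E (integralClosure E (FractionRing E))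
    have hαi : αE.IsIntegral := fun x => Algebra.IsIntegral.isIntegral (R := E) (A := integralClosure E (FractionRing E)) x
    haveI : (M.comap αE).IsMaximal := Ideal.isMaximal_comap_of_isIntegral_of_isMaximal' αE hαi M
    have hmE : M.comap αE = maximalIdeal E := eq_maximalIdeal (R := E) inferInstance
    let g : ResidueField E →+* E' ⧸ M := Ideal.Quotient.lift _ ((Ideal.Quotient.mk M).comp αE)
      fun x hx => Ideal.Quotient.eq_zero_iff_mem.2 (hmE.ge hx)
    let ψ : A →+* E' ⧸ M := (Ideal.Quotient.mk M).comp (algebraMap A E')
    have hψ : ψ.IsIntegral := by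
      have hα : αE.comp (algebraMap A E) = algebraMap A E' := RingHom.ext fun a => Subtype.ext (by
        show algebraMap E (FractionRing E) (algebraMap A E a) = algebraMap A (FractionRing E) a
        rw [← IsScalarTower.algebraMap_apply])
      have he : ψ = g.comp ((algebraMap (ResidueField A) (ResidueField E)).comp (residue A)) :=
        RingHom.ext fun a => by
          show Ideal.Quotient.mk M (algebraMap A E' a) = Ideal.Quotient.mk M (αE (algebraMap A E a))
          rw [← hα]
          rfl
      rw [he]
      have hr : (residue A).IsIntegral := RingHom.isIntegral_of_surjective _ residue_surjective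
      have hk : (algebraMap (ResidueField A) (ResidueField E)).IsIntegral := fun x =>
        Algebra.IsIntegral.isIntegral (R := ResidueField A) (A := ResidueField E) x
      have hg : g.IsIntegral := by
        intro x
        obtain ⟨y, rfl⟩ := Ideal.Quotient.mk_surjective x
        obtain ⟨p, hp, hp0⟩ := hαi y
        refine ⟨p.map (residue E), hp.map _, ?_⟩
        rw [Polynomial.eval₂_map, show g.comp (residue E) = (Ideal.Quotient.mk M).comp αE from RingHom.ext fun _ => rfl,
          ← Polynomial.hom_eval₂, hp0, map_zero]
      exact RingHom.IsIntegral.trans (T := E' ⧸ M) _ g (hr.trans _ _ hk) hg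
    have h1 : ((Ideal.Quotient.mk M).comp ι).IsIntegral := by
      have h2 : ((Ideal.Quotient.mk M).comp ι).comp (algebraMap A C) = ψ := RingHom.ext fun a => rfl
      intro x
      obtain ⟨p, hp, hp0⟩ := hψ x
      exact ⟨p.map (algebraMap A C), hp.map _, by rw [Polynomial.eval₂_map, h2]; exact hp0⟩
    letI := Ideal.Quotient.field M
    have h3 := Ideal.isMaximal_comap_of_isIntegral_of_isMaximal' _ h1 (⊥ : Ideal (E' ⧸ M))
    rwa [← RingHom.ker_eq_comap_bot, ← RingHom.comap_ker, Ideal.mk_ker] at h3
  have hup : ∀ N : Ideal C, N.IsMaximal → ∃ M : Ideal E', M.IsMaximal ∧ N = M.comap ι := by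
    intro N hN
    have hsub : (N : Set C) ⊆ ⋃ M ∈ (↑hfinE.toFinset : Set (Ideal E')), ((M.comap ι : Ideal C) : Set C) := by
      intro c hc
      have hnu : ¬ IsUnit (ι c) := fun h => hN.ne_top (Ideal.eq_top_of_isUnit_mem _ hc (hunit c h))
      obtain ⟨M, hM, hcM⟩ := exists_max_ideal_of_mem_nonunits hnu
      exact Set.mem_iUnion₂.2 ⟨M, hfinE.mem_toFinset.2 hM, hcM⟩
    obtain ⟨M, hM, hle⟩ := (Ideal.subset_union_prime (s := hfinE.toFinset) (f := fun M => M.comap ι) ⊥ ⊥
      fun M hM _ _ => (hdown M (hfinE.mem_toFinset.1 hM)).isPrime).1 hsub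
    exact ⟨M, hfinE.mem_toFinset.1 hM,
      hN.eq_of_le (hdown M (hfinE.mem_toFinset.1 hM)).ne_top hle⟩
  refine ⟨fun x hxL hx => ⟨hxL, ?_⟩, (hfinE.image fun M => M.comap ι).subset fun N hN => ?_,
    fun N => ⟨hup N, ?_⟩, ?_⟩
  · obtain ⟨p, hp, hp0⟩ := hx
    have h1 : IsIntegral E' x := ⟨p.map ι, hp.map _, by
      rw [Polynomial.eval₂_map]
      exact hp0⟩
    exact isIntegral_trans (R := E) (A := integralClosure E (FractionRing E)) x h1
  · obtain ⟨M, hM, rfl⟩ := hup N hN
    exact ⟨M, hM, rfl⟩
  · rintro ⟨M, hM, rfl⟩
    exact hdown M hM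
  · intro l hl
    obtain ⟨⟨e, ⟨_, s, hs, rfl⟩⟩, h⟩ := IsLocalization.surj ((nonZeroDivisors A).map (algebraMap A E)) l
    obtain ⟨y, hy, hy1⟩ := hL s hs
    have h' : l * algebraMap A (FractionRing E) s = algebraMap E (FractionRing E) e := by
      rw [IsScalarTower.algebraMap_apply A E (FractionRing E)]
      exact h
    refine ⟨l * algebraMap A (FractionRing E) s, ⟨mul_mem hl (L.algebraMap_mem s), ?_⟩, s, hs, y, hy, hy1, ?_⟩
    · rw [h']
      exact (isIntegral_algebraMap : IsIntegral E (algebraMap E (FractionRing E) e))
    · rw [mul_assoc, hy1, mul_one]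

end Groth.Agent.S16447
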