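import Mathlib
import Mathlib
import Groth.Prelude.Def_GrMap
import Groth.Statements.S16452

set_option autoImplicit false
universe u
open CAlg

namespace Groth.Agent.S16452

/-- Let R → S be formally étale and J an ideal of S such that the composite R → S → S/J is surjective;
let I ⊆ R be its kernel, the preimage of J in R. Then the homomorphism of associated graded rings ⊕ₙ
Iⁿ/Iⁿ⁺¹ → ⊕ₙ Jⁿ/Jⁿ⁺¹ induced by R → S (which carries I into J) is bijective. -/
theorem result (R : Type u) [CommRing R] (S : Type u)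
    [CommRing S] [Algebra R S] [Algebra.FormallyEtale R S] (J : Ideal S)
    (hJ : Function.Surjective (algebraMap R (S ⧸ J))) :
    Function.Bijective (AssocGr.map (AssocGr.IsFiltHom.adic
      (Ideal.map_comap_le : (J.comap (algebraMap R S)).map (algebraMap R S) ≤ J))) := by
  let I : Ideal R := J.comap (algebraMap R S)
  let q : (R ⧸ I) →ₐ[R] (S ⧸ J) := Ideal.quotientMapₐ J (Algebra.ofId R S) le_rfl
  have hq : Function.Bijective q := ⟨Ideal.quotientMap_injective, fun y => by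
    obtain ⟨r, hr⟩ := hJ y
    exact ⟨Ideal.Quotient.mk I r, hr⟩⟩
  let g : S →ₐ[R] R ⧸ I := (AlgEquiv.ofBijective q hq).symm.toAlgHom.comp (Ideal.Quotient.mkₐ R J)
  have hg : ∀ s, q (g s) = Ideal.Quotient.mk J s := fun s =>
    (AlgEquiv.ofBijective q hq).apply_symm_apply (Ideal.Quotient.mk J s)
  have key : ∀ n : ℕ, (∀ r, algebraMap R S r ∈ J ^ (n + 1) → r ∈ I ^ (n + 1)) ∧
      ∀ s : S, ∃ r : R, s - algebraMap R S r ∈ J ^ (n + 1) := by
    intro n
    have hn : I ^ (n + 1) ≤ I := Ideal.pow_le_self (Nat.succ_ne_zero n)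
    let p : (R ⧸ I ^ (n + 1)) →ₐ[R] R ⧸ I := Ideal.Quotient.factorₐ R hn
    have hp : Function.Surjective p := Ideal.Quotient.factor_surjective hn
    have hker : RingHom.ker (p : R ⧸ I ^ (n + 1) →+* R ⧸ I) ≤ I.map (Ideal.Quotient.mk (I ^ (n + 1))) := fun x hx => by
      obtain ⟨r, rfl⟩ := Ideal.Quotient.mk_surjective x
      exact Ideal.mem_map_of_mem _ (Ideal.Quotient.eq_zero_iff_mem.1 hx)
    have hnil : IsNilpotent (RingHom.ker (p : R ⧸ I ^ (n + 1) →+* R ⧸ I)) := ⟨n + 1, le_bot_iff.1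
      ((Ideal.pow_right_mono hker _).trans (by rw [← Ideal.map_pow, Ideal.map_quotient_self]))⟩
    let ψ : S →ₐ[R] R ⧸ I ^ (n + 1) := Algebra.FormallySmooth.liftOfSurjective g p hp hnil
    have hψ : ∀ s, p (ψ s) = g s := Algebra.FormallySmooth.liftOfSurjective_apply g p hp hnil
    let χ : (R ⧸ I ^ (n + 1)) →ₐ[R] S ⧸ J ^ (n + 1) := Ideal.quotientMapₐ (J ^ (n + 1)) (Algebra.ofId R S)
      (Ideal.map_le_iff_le_comap.1 (by
        rw [Ideal.map_pow]
        exact Ideal.pow_right_mono Ideal.map_comap_le _))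
    have hn' : J ^ (n + 1) ≤ J := Ideal.pow_le_self (Nat.succ_ne_zero n)
    let p' : (S ⧸ J ^ (n + 1)) →ₐ[R] S ⧸ J := Ideal.Quotient.factorₐ R hn'
    have hker' : RingHom.ker (p' : S ⧸ J ^ (n + 1) →+* S ⧸ J) ≤ J.map (Ideal.Quotient.mk (J ^ (n + 1))) := fun x hx => by
      obtain ⟨r, rfl⟩ := Ideal.Quotient.mk_surjective x
      exact Ideal.mem_map_of_mem _ (Ideal.Quotient.eq_zero_iff_mem.1 hx)
    have hnil' : IsNilpotent (RingHom.ker (p' : S ⧸ J ^ (n + 1) →+* S ⧸ J)) := ⟨n + 1, le_bot_iff.1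
      ((Ideal.pow_right_mono hker' _).trans (by rw [← Ideal.map_pow, Ideal.map_quotient_self]))⟩
    have hχ : χ.comp ψ = Ideal.Quotient.mkₐ R (J ^ (n + 1)) := by
      refine Algebra.FormallyUnramified.lift_unique' p' hnil' _ _ ?_
      refine AlgHom.ext fun s => ?_
      show p' (χ (ψ s)) = Ideal.Quotient.mk J s
      rw [← hg, ← hψ]
      obtain ⟨r, hr⟩ := Ideal.Quotient.mk_surjective (ψ s)
      rw [← hr]
      rfl
    constructor
    · intro r hr
      have hJψ : J.map ψ ≤ I.map (Ideal.Quotient.mk (I ^ (n + 1))) := Ideal.map_le_iff_le_comap.2 fun j hj => by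
        refine hker (show p (ψ j) = 0 from ?_)
        rw [hψ]
        apply hq.1
        rw [hg, map_zero]
        exact Ideal.Quotient.eq_zero_iff_mem.2 hj
      have h0 : ψ (algebraMap R S r) ∈ (⊥ : Ideal (R ⧸ I ^ (n + 1))) := by
        rw [← Ideal.map_quotient_self (I ^ (n + 1)), Ideal.map_pow]
        refine Ideal.pow_right_mono hJψ (n + 1) ?_
        rw [← Ideal.map_pow]
        exact Ideal.mem_map_of_mem _ hr
      rw [AlgHom.commutes, Ideal.mem_bot] at h0
      exact Ideal.Quotient.eq_zero_iff_mem.1 h0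
    · intro s
      obtain ⟨r, hr⟩ := Ideal.Quotient.mk_surjective (ψ s)
      refine ⟨r, Ideal.Quotient.eq.1 ?_⟩
      have h := AlgHom.congr_fun hχ s
      rw [AlgHom.comp_apply, ← hr] at h
      exact h.symm
  have keyA : ∀ (n : ℕ) r, algebraMap R S r ∈ J ^ n → r ∈ I ^ n := fun n => by
    cases n with
    | zero => intro r _; rw [pow_zero, Ideal.one_eq_top]; trivial
    | succ n => exact (key n).1
  let h := AssocGr.IsFiltHom.adic (φ := algebraMap R S)
    (Ideal.map_comap_le : (J.comap (algebraMap R S)).map (algebraMap R S) ≤ J)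
  refine ⟨(injective_iff_map_eq_zero _).2 fun z hz => ?_, fun z => ?_⟩
  · obtain ⟨f, rfl⟩ := AssocGr.mkG_surjective _ z
    rw [AssocGr.map_mkG, AssocGr.mkG_eq_zero_iff, AssocGr.mem_succIdeal_iff] at hz
    rw [AssocGr.mkG_eq_zero_iff, AssocGr.mem_succIdeal_iff]
    intro n
    have h1 := hz n
    rw [AssocGr.coe_reesMap, Polynomial.coeff_map] at h1
    exact keyA (n + 1) _ h1
  · obtain ⟨f, rfl⟩ := AssocGr.mkG_surjective _ z
    rw [← AssocGr.sum_term _ f, map_sum]
    suffices hterm : ∀ n, AssocGr.mkG _ (AssocGr.term _ f n) ∈ (AssocGr.map h).range from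
      Subring.sum_mem _ fun n _ => hterm n
    intro n
    rw [AssocGr.term_eq_monom, ← AssocGr.coe_inDeg]
    obtain ⟨r, hr⟩ := (key n).2 ((f : Polynomial S).coeff n)
    have hr' : algebraMap R S r ∈ J ^ n := by
      have h1 := sub_mem (show (f : Polynomial S).coeff n ∈ J ^ n from f.2 n) (Ideal.pow_le_pow_right (Nat.le_succ n) hr)
      rwa [sub_sub_cancel] at h1
    refine ⟨((AssocGr.inDeg (FiltBl.IdealFiltration.adic I) n ⟨r, keyA n r hr'⟩ : AssocGr.gr (FiltBl.IdealFiltration.adic I) n) :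
      AssocGr.GrRing (FiltBl.IdealFiltration.adic I)), ?_⟩
    rw [AssocGr.map_inDeg]
    refine congrArg Subtype.val (sub_eq_zero.1 ?_)
    rw [← map_sub, AssocGr.inDeg_eq_zero_iff]
    rw [Submodule.coe_sub]
    have := (J ^ (n + 1)).neg_mem hr
    rwa [neg_sub] at this

end Groth.Agent.S16452
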