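import Groth.Statements.S16453
import Mathlib
set_option backward.isDefEq.respectTransparency false
set_option backward.isDefEq.respectTransparency.types false

set_option autoImplicit false
universe u
open AdicGr

namespace Groth.Agent.S16453

/-- Let A be a commutative ring, I an ideal and Â the I-adic completion, filtered by the kernels Âₙ of
the projections Â → A/Iⁿ. Then the homomorphism of associated graded rings ⊕ₙ Iⁿ/Iⁿ⁺¹ → ⊕ₙ Âₙ/Âₙ₊₁
induced by the canonical map A → Â is bijective. No hypothesis on A or I is needed. (The published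
statement is for an arbitrary filtered ring and also asserts the analogous isomorphism for a
compatibly filtered module; this row is the ring assertion for the filtration by the powers of one
ideal.) -/
theorem result (A : Type u) [CommRing A] (I : Ideal A) :
    Function.Bijective (AssocGr.map (AssocGr.isFiltHom_kerFilt I)) := by
  classical
  let 𝓕 := FiltBl.IdealFiltration.adic I
  let h := AssocGr.isFiltHom_kerFilt I
  have hval : ∀ (a : A) (k : ℕ), algebraMap A (AdicCompletion I A) a ∈ (AssocGr.kerFilt I).F k ↔ a ∈ I ^ k := fun a k => by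
    rw [AssocGr.mem_kerFilt_iff_val, AdicCompletion.algebraMap_apply, Algebra.algebraMap_self, RingHom.id_apply,
      AdicCompletion.of_apply, Submodule.mkQ_apply, Submodule.Quotient.mk_eq_zero, smul_eq_mul, Ideal.mul_top]
  refine ⟨(injective_iff_map_eq_zero _).2 fun x hx => ?_, fun z => ?_⟩
  · obtain ⟨f, rfl⟩ := AssocGr.mkG_surjective _ x
    rw [AssocGr.map_mkG, AssocGr.mkG_eq_zero_iff] at hx
    refine (AssocGr.mkG_eq_zero_iff _ f).2 fun n => ?_
    have h1 := hx n
    rw [AssocGr.coe_reesMap, Polynomial.coeff_map, hval] at h1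
    exact h1
  · obtain ⟨f, rfl⟩ := AssocGr.mkG_surjective _ z
    suffices hs : ∀ n, AssocGr.mkG _ (AssocGr.term _ f n) ∈ Set.range (AssocGr.map h) by
      rw [← AssocGr.sum_term _ f, map_sum]
      exact (AssocGr.map h).range.sum_mem fun n _ => hs n
    intro n
    let y : AdicCompletion I A := (f : Polynomial (AdicCompletion I A)).coeff n
    obtain ⟨a, ha⟩ := Submodule.Quotient.mk_surjective _ (y.val (n + 1))
    have hy : y - algebraMap A (AdicCompletion I A) a ∈ (AssocGr.kerFilt I).F (n + 1) := by
      rw [AssocGr.mem_kerFilt_iff_val, AdicCompletion.algebraMap_apply, Algebra.algebraMap_self, RingHom.id_apply,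
        AdicCompletion.val_sub, Pi.sub_apply, AdicCompletion.of_apply, Submodule.mkQ_apply, ha, sub_self]
    have ha' : a ∈ I ^ n := by
      rw [← hval]
      simpa [y] using Ideal.sub_mem _ (f.2 n) ((AssocGr.kerFilt I).antitone (Nat.le_succ n) hy)
    refine ⟨(AssocGr.inDeg 𝓕 n ⟨a, ha'⟩ : AssocGr.GrRing 𝓕), ?_⟩
    rw [AssocGr.map_inDeg, AssocGr.mkG_term, ← sub_eq_zero, ← AddSubgroupClass.coe_sub, ← map_sub,
      Submodule.coe_eq_zero, AssocGr.inDeg_eq_zero_iff]
    simpa using (Ideal.neg_mem_iff _).2 hy

end Groth.Agent.S16453
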