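import Groth.Statements.S16456
import Groth.Agent.AdicGrLib.Approx
set_option backward.isDefEq.respectTransparency false
set_option backward.isDefEq.respectTransparency.types false

set_option autoImplicit false
universe u
open AdicGr

namespace Groth.Agent.S16456

/-- Let φ : A → B be a ring homomorphism, I ⊆ A and J ⊆ B ideals with φ(I)B ⊆ J, so that φ is a
homomorphism of filtered rings for the I-adic and J-adic filtrations. Assume that A is I-adically
complete in the sense that every I-adically Cauchy sequence has a limit, that B is J-adically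
separated, and that the induced homomorphism of associated graded rings ⊕ₙ Iⁿ/Iⁿ⁺¹ → ⊕ₙ Jⁿ/Jⁿ⁺¹ is
surjective. Then φ is surjective, φ is strict (Jⁿ = φ(Iⁿ)B for all n, that is J = φ(I)B), and B is
J-adically separated and complete. (The published statement is for a homomorphism of filtered
modules over a filtered ring, with arbitrary compatible filtrations; this row is its case of a ring
homomorphism with adic filtrations.) -/
theorem result (A : Type u) [CommRing A] (B : Type u)
    [CommRing B] (φ : A →+* B) (I : Ideal A) (J : Ideal B) (hIJ : I.map φ ≤ J)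
    [IsPrecomplete I A] [IsHausdorff J B]
    (h : Function.Surjective (AssocGr.map (AssocGr.IsFiltHom.adic hIJ))) :
    Function.Surjective φ ∧ I.map φ = J ∧ IsAdicComplete J B := by
  classical
  open Groth.Agent.AdicGrLib in
  letI := φ.toAlgebra
  have hφ : ∀ a : A, a • (1 : B) = φ a := fun a => by rw [Algebra.smul_def, mul_one]; rfl
  have hpow : ∀ i, (I ^ i).map φ ≤ J ^ i := fun i => by rw [Ideal.map_pow]; exact Ideal.pow_right_mono hIJ i
  let N : ℕ → Submodule A B := fun n => (J ^ n).restrictScalars A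
  have hN : Antitone N := fun m n hmn => fun b hb => Ideal.pow_le_pow_right hmn hb
  have hsm : ∀ i j, I ^ i • N j ≤ N (i + j) := fun i j => Submodule.smul_le.2 fun a ha b hb => by
    change a • b ∈ J ^ (i + j)
    rw [Algebra.smul_def, pow_add]
    exact Ideal.mul_mem_mul (hpow i (Ideal.mem_map_of_mem φ ha)) hb
  have hsep : ⨅ n, N n = ⊥ := by
    refine (Submodule.eq_bot_iff _).2 fun b hb => IsHausdorff.haus inferInstance (I := J) b fun n => ?_
    rw [SModEq.zero, smul_eq_mul, Ideal.mul_top]
    exact (Submodule.mem_iInf _).1 hb n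
  have hstep : ∀ n, ∀ b ∈ J ^ n, ∃ a ∈ I ^ n, b - φ a ∈ J ^ (n + 1) := fun n b hb => by
    obtain ⟨g, hg⟩ := h (AssocGr.inDeg (FiltBl.IdealFiltration.adic J) n ⟨b, hb⟩ : AssocGr.GrRing _)
    obtain ⟨f, rfl⟩ := AssocGr.mkG_surjective _ g
    rw [AssocGr.map_mkG, AssocGr.coe_inDeg, eq_comm, ← sub_eq_zero, ← map_sub, AssocGr.mkG_eq_zero_iff] at hg
    refine ⟨(f : Polynomial A).coeff n, f.2 n, ?_⟩
    have h1 := hg n
    simp only [AddSubgroupClass.coe_sub, Polynomial.coeff_sub, AssocGr.coe_reesMap, Polynomial.coeff_map,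
      AssocGr.coe_coe_monom, Polynomial.coeff_monomial, if_true] at h1
    exact h1
  have hlift : ∀ n, ∀ b ∈ J ^ n, ∃ a ∈ I ^ n, φ a = b := fun n b hb => by
    obtain ⟨L, hL1, hL⟩ := approx (ι := PUnit.{1}) N hN hsm hsep (fun _ => 0) (fun _ => (1 : B))
      (fun _ => by simp [N]) (fun _ => True) n b hb trivial (fun m r hr _ => by
        obtain ⟨a, ha, ha'⟩ := hstep m r hr
        exact ⟨fun _ => a, fun _ => ha, by simpa [N, hφ] using ha', trivial⟩)
    exact ⟨L PUnit.unit, by simpa using hL1 PUnit.unit, by rw [hL]; simp [hφ]⟩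
  have hsurj : Function.Surjective φ := fun b => by
    obtain ⟨a, -, ha⟩ := hlift 0 b (by simp)
    exact ⟨a, ha⟩
  have hmap : ∀ n, (I ^ n).map φ = J ^ n := fun n => le_antisymm (hpow n) fun b hb => by
    obtain ⟨a, ha, rfl⟩ := hlift n b hb
    exact Ideal.mem_map_of_mem φ ha
  suffices hp : IsPrecomplete J B from ⟨hsurj, by simpa using hmap 1, @IsAdicComplete.mk B _ J B _ _ inferInstance hp⟩
  refine ⟨fun f hf => ?_⟩
  have hinc : ∀ j, ∃ a ∈ I ^ j, φ a = f (j + 1) - f j := fun j => hlift j _ (by
    have := (hf (Nat.le_succ j)).symm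
    rwa [SModEq.sub_mem, smul_eq_mul, Ideal.mul_top] at this)
  choose e he he' using hinc
  obtain ⟨a₀, ha₀⟩ := hsurj (f 0)
  let c : ℕ → A := fun m => a₀ + ∑ j ∈ Finset.range m, e j
  have hc : ∀ m, φ (c m) = f m := fun m => by
    simp only [c, map_add, map_sum, ha₀, he', Finset.sum_range_sub f]
    abel
  obtain ⟨L, hL⟩ := IsPrecomplete.prec (I := I) (M := A) inferInstance (f := c) (fun {m m'} hmm => by
    rw [SModEq.sub_mem, smul_eq_mul, Ideal.mul_top, ← neg_mem_iff, neg_sub, add_sub_add_left_eq_sub,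
      ← Finset.sum_Ico_eq_sub _ hmm]
    exact Ideal.sum_mem _ fun j hj => Ideal.pow_le_pow_right (Finset.mem_Ico.1 hj).1 (he j))
  refine ⟨φ L, fun n => ?_⟩
  rw [SModEq.sub_mem, smul_eq_mul, Ideal.mul_top, ← hc, ← map_sub]
  have := hL n
  rw [SModEq.sub_mem, smul_eq_mul, Ideal.mul_top] at this
  exact hpow n (Ideal.mem_map_of_mem φ this)

end Groth.Agent.S16456
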