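import Groth.Statements.S16458
import Groth.Agent.AdicGrLib.Approx
set_option backward.isDefEq.respectTransparency false
set_option backward.isDefEq.respectTransparency.types false

set_option autoImplicit false
universe u
open AdicGr

namespace Groth.Agent.S16458

/-- Let A be a commutative ring and I an ideal such that every I-adically Cauchy sequence in A has a
limit, and let M be an A-module with an I-filtration M = N₀ ⊇ N₁ ⊇ … (I·Nₙ ⊆ Nₙ₊₁) which is
separated, ⋂ₙ Nₙ = 0. If the associated graded module gr(M) = ⊕ₙ Nₙ/Nₙ₊₁ is finitely generated as a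
module over the associated graded ring ⊕ₙ Iⁿ/Iⁿ⁺¹, then M is a finitely generated A-module. (The
published statement allows any complete filtered ring and also concludes that M is complete for its
filtration; this row takes the I-adic filtration on A and states the finiteness.) -/
theorem result (A : Type u) [CommRing A] (I : Ideal A)
    [IsPrecomplete I A] (M : Type u) [AddCommGroup M] [Module A M] (F : I.Filtration M)
    (h0 : F.N 0 = ⊤) (hsep : ⨅ n, F.N n = ⊥)
    [Module.Finite (AssocGr.GrRing (FiltBl.IdealFiltration.adic I)) (AssocGr.GrMod F)] :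
    Module.Finite A M := by
  classical
  open Groth.Agent.AdicGrLib in
  let Ix := Σ n, ↥(F.N n)
  have htop : Submodule.span (AssocGr.GrRing (FiltBl.IdealFiltration.adic I))
      (Set.range fun p : Ix => (AssocGr.inDegM F p.1 p.2 : AssocGr.GrMod F)) = ⊤ := by
    refine Submodule.eq_top_iff'.2 fun z => ?_
    obtain ⟨y, rfl⟩ := AssocGr.mkGM_surjective F z
    rw [← AssocGr.sum_termM F y, map_sum]
    exact Submodule.sum_mem _ fun n _ => Submodule.subset_span
      ⟨⟨n, AssocGr.ReesM.coeff F y n, AssocGr.ReesM.coeff_mem F y n⟩, rfl⟩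
  obtain ⟨s, hs, hspan⟩ := Submodule.fg_span_iff_fg_span_finset_subset _ |>.1 (htop ▸ Module.Finite.fg_top :
    (Submodule.span (AssocGr.GrRing (FiltBl.IdealFiltration.adic I)) (Set.range fun p : Ix => (AssocGr.inDegM F p.1 p.2 : AssocGr.GrMod F))).FG)
  choose p hp using fun v : s => hs v.2
  refine Module.finite_def.2 ⟨Finset.univ.image fun v : s => ((p v).2 : M), ?_⟩
  rw [Finset.coe_image, Finset.coe_univ, Set.image_univ]
  refine Submodule.eq_top_iff'.2 fun y => ?_
  obtain ⟨L, -, hL⟩ := approx F.N antitone_N pow_smul_le' hsep (fun v : s => (p v).1) (fun v => ((p v).2 : M))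
    (fun v => (p v).2.2) (fun _ => True) 0 y (by rw [h0]; trivial) trivial (fun n r hr _ => by
      obtain ⟨a, ha1, ha2⟩ := exists_step (fun v : s => (p v).1) (fun v => (p v).2) n ⟨r, hr⟩ (by
        rw [show (Set.range fun v : s => (AssocGr.inDegM F (p v).1 (p v).2 : AssocGr.GrMod F)) = (s : Set (AssocGr.GrMod F)) from
          (congrArg Set.range (funext hp)).trans Subtype.range_coe, ← hspan, htop]
        trivial)
      exact ⟨a, ha1, ha2, trivial⟩)
  rw [hL]
  exact Submodule.sum_mem _ fun i _ => Submodule.smul_mem _ _ (Submodule.subset_span ⟨i, rfl⟩)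

end Groth.Agent.S16458
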