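import Groth.Statements.S16459
import Groth.Agent.AdicGrLib.Approx
set_option backward.isDefEq.respectTransparency false
set_option backward.isDefEq.respectTransparency.types false

set_option autoImplicit false
universe u
open AdicGr

namespace Groth.Agent.S16459

/-- Let A be a commutative ring and I an ideal such that every I-adically Cauchy sequence in A has a
limit, and let M be an A-module with an I-filtration M = N₀ ⊇ N₁ ⊇ … (I·Nₙ ⊆ Nₙ₊₁) which is
separated, ⋂ₙ Nₙ = 0. If the associated graded module gr(M) = ⊕ₙ Nₙ/Nₙ₊₁ is a Noetherian module over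
the associated graded ring ⊕ₙ Iⁿ/Iⁿ⁺¹, then M is a Noetherian A-module and every submodule M' of M
is closed for the topology defined by the filtration, that is ⋂ₙ (M' + Nₙ) = M'. (The published
statement allows any complete filtered ring; this row takes the I-adic filtration on A.) -/
theorem result (A : Type u) [CommRing A]
    (I : Ideal A) [IsPrecomplete I A] (M : Type u) [AddCommGroup M] [Module A M] (F : I.Filtration M)
    (h0 : F.N 0 = ⊤) (hsep : ⨅ n, F.N n = ⊥)
    [IsNoetherian (AssocGr.GrRing (FiltBl.IdealFiltration.adic I)) (AssocGr.GrMod F)] :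
    IsNoetherian A M ∧ ∀ M' : Submodule A M, ⨅ n, M' ⊔ F.N n = M' := by
  classical
  open Groth.Agent.AdicGrLib in
  have main : ∀ M' : Submodule A M, ∃ T : Finset M, (T : Set M) ⊆ M' ∧ (⨅ n, M' ⊔ F.N n) ≤ Submodule.span A (T : Set M) := by
    intro M'
    let Ix := Σ n, {x : ↥(F.N n) // (x : M) ∈ M'}
    obtain ⟨s, hs, hspan⟩ := Submodule.fg_span_iff_fg_span_finset_subset _ |>.1 (IsNoetherian.noetherian
      (Submodule.span (AssocGr.GrRing (FiltBl.IdealFiltration.adic I))
        (Set.range fun p : Ix => (AssocGr.inDegM F p.1 p.2.1 : AssocGr.GrMod F))))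
    choose p hp using fun v : s => hs v.2
    refine ⟨Finset.univ.image fun v : s => ((p v).2.1 : M), ?_, ?_⟩
    · intro m hm
      obtain ⟨v, -, rfl⟩ := Finset.mem_image.1 hm
      exact (p v).2.2
    intro y hy
    rw [Submodule.mem_iInf] at hy
    obtain ⟨L, -, hL⟩ := approx F.N antitone_N pow_smul_le' hsep (fun v : s => (p v).1) (fun v => ((p v).2.1 : M))
      (fun v => (p v).2.1.2) (fun r => ∀ n, r ∈ M' ⊔ F.N n) 0 y (by rw [h0]; trivial) hy (fun n r hr hP => by
        obtain ⟨m', hm', w, hw, rfl⟩ := Submodule.mem_sup.1 (hP (n + 1))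
        have hm'n : m' ∈ F.N n := by
          simpa using Submodule.sub_mem _ hr (F.mono n hw)
        obtain ⟨a, ha1, ha2⟩ := exists_step (fun v : s => (p v).1) (fun v => (p v).2.1) n ⟨m', hm'n⟩ (by
          rw [show (Set.range fun v : s => (AssocGr.inDegM F (p v).1 (p v).2.1 : AssocGr.GrMod F)) = (s : Set (AssocGr.GrMod F)) from
            (congrArg Set.range (funext hp)).trans Subtype.range_coe, ← hspan]
          exact Submodule.subset_span ⟨⟨n, ⟨m', hm'n⟩, hm'⟩, rfl⟩)
        refine ⟨a, ha1, ?_, fun k => Submodule.sub_mem _ (hP k) (Submodule.mem_sup_left (Submodule.sum_mem _ fun v _ =>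
          Submodule.smul_mem _ _ (p v).2.2))⟩
        rw [add_sub_right_comm]
        exact Submodule.add_mem _ ha2 hw)
    rw [hL]
    exact Submodule.sum_mem _ fun v _ => Submodule.smul_mem _ _ (Submodule.subset_span (by simp))
  refine ⟨⟨fun M' => ?_⟩, fun M' => ?_⟩
  · obtain ⟨T, hT, hle⟩ := main M'
    exact ⟨T, le_antisymm (Submodule.span_le.2 hT) (le_trans (le_iInf fun n => le_sup_left) hle)⟩
  · obtain ⟨T, hT, hle⟩ := main M'
    exact le_antisymm (hle.trans (Submodule.span_le.2 hT)) (le_iInf fun n => le_sup_left)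

end Groth.Agent.S16459
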