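import Groth.Statements.S16460
import Mathlib
set_option backward.isDefEq.respectTransparency false
set_option backward.isDefEq.respectTransparency.types false

set_option autoImplicit false
universe u
open AdicGr

namespace Groth.Agent.S16460

/-- Let A be a commutative ring with a decreasing filtration by ideals A = F₀ ⊇ F₁ ⊇ F₂ ⊇ … satisfying
F_m·F_n ⊆ F_{m+n}, and assume the filtration is separated, ⋂ₙ Fₙ = 0. If the associated graded ring
⊕ₙ Fₙ/Fₙ₊₁ is an integral domain, then A is an integral domain. -/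
theorem result (A : Type u) [CommRing A]
    (𝓕 : FiltBl.IdealFiltration A) (hsep : ⨅ n, 𝓕.F n = ⊥) [IsDomain (AssocGr.GrRing 𝓕)] :
    IsDomain A := by
  classical
  haveI : Nontrivial A := by
    rcases subsingleton_or_nontrivial A with h | h
    · exfalso
      obtain ⟨x, y, hxy⟩ := exists_pair_ne (AssocGr.GrRing 𝓕)
      obtain ⟨f, rfl⟩ := AssocGr.mkG_surjective 𝓕 x
      obtain ⟨g, rfl⟩ := AssocGr.mkG_surjective 𝓕 y
      exact hxy (congrArg _ (Subtype.ext (Subsingleton.elim _ _)))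
    · exact h
  have hex : ∀ x : A, x ≠ 0 → ∃ n, x ∈ 𝓕.F n ∧ x ∉ 𝓕.F (n + 1) := by
    intro x hx
    by_contra hne
    push_neg at hne
    refine hx ?_
    have : x ∈ ⨅ n, 𝓕.F n := Submodule.mem_iInf _ |>.2 fun n => by
      induction n with
      | zero => rw [𝓕.zero_eq]; trivial
      | succ n ih => exact hne n ih
    rwa [hsep] at this
  have hmon : ∀ (x : A) (n : ℕ), x ∈ 𝓕.F n → (Polynomial.monomial n x : Polynomial A) ∈ 𝓕.rees := fun x n hx m => by
    rw [Polynomial.coeff_monomial]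
    split_ifs with h
    · exact h ▸ hx
    · exact zero_mem _
  suffices hnz : NoZeroDivisors A from NoZeroDivisors.to_isDomain A
  refine ⟨fun {x y} hxy => ?_⟩
  by_contra hne
  push_neg at hne
  obtain ⟨n, hn, hn'⟩ := hex x hne.1
  obtain ⟨m, hm, hm'⟩ := hex y hne.2
  have h0 : AssocGr.mkG 𝓕 ⟨_, hmon x n hn⟩ * AssocGr.mkG 𝓕 ⟨_, hmon y m hm⟩ = 0 := by
    rw [← map_mul, ← map_zero (AssocGr.mkG 𝓕)]
    exact congrArg _ (Subtype.ext (by simp [Polynomial.monomial_mul_monomial, hxy]))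
  have hz : ∀ (z : A) (k : ℕ) (hk : z ∈ 𝓕.F k), AssocGr.mkG 𝓕 ⟨_, hmon z k hk⟩ = 0 → z ∈ 𝓕.F (k + 1) := by
    intro z k hk h
    have := (AssocGr.mem_succIdeal_iff 𝓕 _).1 ((AssocGr.mkG_eq_zero_iff 𝓕 _).1 h) k
    simpa [Polynomial.coeff_monomial] using this
  rcases mul_eq_zero.1 h0 with h | h
  · exact hn' (hz x n hn h)
  · exact hm' (hz y m hm h)

end Groth.Agent.S16460
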