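import Groth.Statements.S16469
import Groth.Agent.VBLib.Max
-- import your own Groth.Agent.* helpers here

set_option autoImplicit false
set_option backward.isDefEq.respectTransparency false
universe u
open CategoryTheory CategoryTheory.Limits AlgebraicGeometry
open VBCurve

namespace Groth.Agent.S16469
open CategoryTheory CategoryTheory.Limits AlgebraicGeometry

/-- Let X be a smooth proper integral curve (integral, smooth and proper of dimension one) over an
algebraically closed field k, and let E, F be finite locally free O_X-modules of ranks r ≥ 1, s ≥ 1,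
both slope-semistable (deg G · rank ≤ deg · rank G on finite locally free submodules G of positive
rank; degree = χ − rank·χ(O_X)) and of the same slope μ: deg E · s = deg F · r. Then for every
homomorphism f : E → F the kernel and the cokernel of f, taken in the abelian category of
O_X-modules, are finite locally free of some ranks r₀ and s₀, have slope μ when nonzero (deg(ker f)
· r = deg E · r₀ and deg(coker f) · s = deg F · s₀) and are slope-semistable: deg G · r₀ ≤ deg(ker
f) · n for every finite locally free submodule G ⊂ ker f of rank n ≥ 1, and likewise for coker f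
with s₀. In other words the semistable bundles of slope μ form an abelian subcategory, and the image
of f is a sub-bundle of F. -/
theorem result (k : Type u) [Field k] [IsAlgClosed k] (X : Scheme.{u}) [X.Over (Spec (CommRingCat.of k))]
    [IsIntegral X] [IsProper (X ↘ Spec (CommRingCat.of k))] [Smooth (X ↘ Spec (CommRingCat.of k))]
    (hdim : topologicalKrullDim X = 1)
    (r s : ℕ) (hr : 0 < r) (hs : 0 < s) (E F : X.Modules)
    (hE : FlatMod.IsFinLocFreeOfRank r E) (hF : FlatMod.IsFinLocFreeOfRank s F)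
    (hEss : ModFun.IsSlopeSemistable k X E r) (hFss : ModFun.IsSlopeSemistable k X F s)
    (hμ : Curv2.deg k X E r * (s : ℤ) = Curv2.deg k X F s * (r : ℤ)) (f : E ⟶ F) :
    (∃ r₀ : ℕ, FlatMod.IsFinLocFreeOfRank r₀ (kernel f) ∧
        Curv2.deg k X (kernel f) r₀ * (r : ℤ) = Curv2.deg k X E r * (r₀ : ℤ) ∧
        ∀ (G : X.Modules) (n : ℕ) (j : G ⟶ kernel f), Mono j → 0 < n → FlatMod.IsFinLocFreeOfRank n G →
          Curv2.deg k X G n * (r₀ : ℤ) ≤ Curv2.deg k X (kernel f) r₀ * (n : ℤ)) ∧
      (∃ s₀ : ℕ, FlatMod.IsFinLocFreeOfRank s₀ (cokernel f) ∧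
        Curv2.deg k X (cokernel f) s₀ * (s : ℤ) = Curv2.deg k X F s * (s₀ : ℤ) ∧
        ∀ (G : X.Modules) (n : ℕ) (j : G ⟶ cokernel f), Mono j → 0 < n → FlatMod.IsFinLocFreeOfRank n G →
          Curv2.deg k X G n * (s₀ : ℤ) ≤ Curv2.deg k X (cokernel f) s₀ * (n : ℤ)) := by
  haveI := VBLib.isRegCurve_of_smooth k (X := X) hdim.le
  haveI := EulerIneqLib.isNoetherian_proper (X := X) k
  have hEc := VBLib.isCoh_of_rank hE
  have hFc := VBLib.isCoh_of_rank hF
  have sE : VBLib.SlopeLE k E (Curv2.deg k X E r) r := VBLib.slopeLE_of k hE hEss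
  have sF : VBLib.SlopeLE k F (Curv2.deg k X F s) s := VBLib.slopeLE_of k hF hFss
  obtain ⟨I, p, i, hi, hp, hpi, hI, hK, h1, h2⟩ := VBLib.exists_image k f hEc hFc
  haveI := hi
  haveI := hp
  obtain ⟨hC, hC1, hC2⟩ := VBLib.coker_add k i hI hFc
  have hKr := VBLib.rank_of_mono (kernel.ι f) hK hE
  rw [VBLib.grk_of_rank hE] at h1
  rw [VBLib.dg_eq k hE] at h2
  rw [VBLib.grk_of_rank hF] at hC1
  rw [VBLib.dg_eq k hF] at hC2
  have hr' : (0 : ℤ) < r := by exact_mod_cast hr
  have hs' : (0 : ℤ) < s := by exact_mod_cast hs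
  have a1 := VBLib.slopeLE_all k hE sE (kernel.ι f) hK
  have a2 := VBLib.slopeLE_all k hF sF i hI
  have er : (r : ℤ) = VBLib.grk (kernel f) + VBLib.grk I := by exact_mod_cast h1
  have es : (s : ℤ) = VBLib.grk I + VBLib.grk (cokernel i) := by exact_mod_cast hC1
  have a2' : VBLib.dg k I * r ≤ Curv2.deg k X E r * VBLib.grk I := by
    refine le_of_mul_le_mul_right ?_ hs'
    have q1 := mul_le_mul_of_nonneg_right a2 hr'.le
    have q2 := congrArg (· * (VBLib.grk I : ℤ)) hμ
    try dsimp only at q2
    linarith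
  have q3 := congrArg (Curv2.deg k X E r * ·) er
  have q4 := congrArg (· * (r : ℤ)) h2
  try dsimp only at q3 q4
  have dK : VBLib.dg k (kernel f) * r = Curv2.deg k X E r * VBLib.grk (kernel f) := by linarith
  have dI : VBLib.dg k I * r = Curv2.deg k X E r * VBLib.grk I := by linarith
  have dI' : VBLib.dg k I * s = Curv2.deg k X F s * VBLib.grk I := by
    refine mul_right_cancel₀ hr'.ne' ?_
    have q5 := congrArg (· * (s : ℤ)) dI
    have q6 := congrArg (· * (VBLib.grk I : ℤ)) hμ
    try dsimp only at q5 q6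
    linarith
  refine ⟨⟨_, hKr, by rw [← VBLib.dg_eq k hKr]; exact dK, fun G n j hj hn hG => ?_⟩, ?_⟩
  · have h := hEss G n (j ≫ kernel.ι f) (mono_comp _ _) hn hG
    rw [← VBLib.dg_eq k hKr]
    refine le_of_mul_le_mul_right ?_ hr'
    have q5 := mul_le_mul_of_nonneg_right h (Int.natCast_nonneg (VBLib.grk (kernel f)))
    have q6 := congrArg (· * (n : ℤ)) dK
    try dsimp only at q6
    linarith
  have hCr := VBLib.rank_coker_of_max k hdim.le i hI hFc fun P a ha hP hPr => by
    haveI := ha
    have h := VBLib.slopeLE_all k hF sF a hP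
    rw [hPr, ← dI'] at h
    exact le_of_mul_le_mul_right h hs'
  let e : cokernel f ≅ cokernel i := cokernelIsoOfEq hpi.symm ≪≫ cokernelEpiComp p i
  have hCf : FlatMod.IsFinLocFreeOfRank (VBLib.grk (cokernel i)) (cokernel f) := fun x => by
    obtain ⟨U, hx, ⟨e'⟩⟩ := hCr x
    exact ⟨U, hx, ⟨(Scheme.Modules.restrictFunctor U.ι).mapIso e ≪≫ e'⟩⟩
  have q7 := congrArg (Curv2.deg k X F s * ·) es
  have q8 := congrArg (· * (s : ℤ)) hC2
  try dsimp only at q7 q8
  have dC : Curv2.deg k X (cokernel f) (VBLib.grk (cokernel i)) * s = Curv2.deg k X F s * VBLib.grk (cokernel i) := by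
    rw [← VBLib.dg_eq k hCf, VBLib.dg_iso k e]
    linarith
  refine ⟨_, hCf, dC, fun G n j hj hn hG => ?_⟩
  haveI := hj
  obtain ⟨P, a, ha, hP, hP1, hP2⟩ := VBLib.exists_preimage k i hI hFc (j ≫ e.hom) (VBLib.isCoh_of_rank hG)
  rw [VBLib.grk_of_rank hG] at hP1
  rw [VBLib.dg_eq k hG] at hP2
  haveI := ha
  have h := VBLib.slopeLE_all k hF sF a hP
  rw [hP1, hP2] at h
  push_cast at h
  refine le_of_mul_le_mul_right ?_ hs'
  have h' : Curv2.deg k X G n * s ≤ Curv2.deg k X F s * n := by linarith
  have q9 := mul_le_mul_of_nonneg_right h' (Int.natCast_nonneg (VBLib.grk (cokernel i)))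
  have q10 := congrArg (· * (n : ℤ)) dC
  try dsimp only at q10
  linarith

end Groth.Agent.S16469
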