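import Groth.Statements.S16474
import Groth.Agent.GITLib.TensorEmbed
import Groth.Agent.GITLib.GLForms
-- import your own Groth.Agent.* helpers here

set_option autoImplicit false
open LaurentPolynomial
open ComodTens

namespace Groth.Agent.S16474

/-- Let r ≥ 1 and let V be a finite-dimensional rational representation of the general linear group GL_r
over the complex numbers (a finite-dimensional comodule over its coordinate Hopf algebra) which is
homogeneous of some integer degree h, i.e. restricted to the scalar one-parameter subgroup t ↦ t·1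
every vector of V has weight h. Then there are natural numbers a, b, c with c > 0 such that V is a
direct summand, as a representation, of ((ℂ^r)^(⊗a))^(⊕b) ⊗ det^(-c): there are equivariant linear
maps i : V → E and p : E → V with p ∘ i the identity, where E is the direct sum of b copies of the
a-th tensor power of the standard representation on ℂ^r, twisted by the (−c)-th power of the
determinant character. -/
theorem result (r : ℕ) (hr : 0 < r)
    (V : Type) [AddCommGroup V] [Module ℂ V] [Module.Finite ℂ V] (ρ : HopfRep.Comod ℂ (CoordGrp.GLn r ℂ) V)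
    (h : ℤ)
    (hh : @HopfRep.eigenspace ℂ ℂ[T;T⁻¹] _ _ _ V _ _
      (GLin.comodAlong (CoordGrp.GLn.diag r ℂ (fun _ => 1)) ρ) (T h) = ⊤) :
    ∃ (a b c : ℕ), 0 < c ∧
      ∃ (i : V →ₗ[ℂ] (Fin b → TensorPower ℂ a (Fin r → ℂ)))
        (p : (Fin b → TensorPower ℂ a (Fin r → ℂ)) →ₗ[ℂ] V),
        p ∘ₗ i = LinearMap.id ∧
        @Hoch.IsComodHom ℂ _ (CoordGrp.GLn r ℂ) _ _ _ V _ _ ρ (Fin b → TensorPower ℂ a (Fin r → ℂ)) _ _
          (ComodTens.Comod.twist
            (ComodTens.Comod.pi fun _ : Fin b =>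
              ComodTens.Comod.tpow (GLin.comodAlong (CoordGrp.Mat.toGLn r ℂ) (ComodTens.stdVec r ℂ)) a)
            (CoordGrp.GLn.Dinv ^ c) (IsGroupLikeElem.pow ⟨CoordGrp.GLn.counit_Dinv, CoordGrp.GLn.comul_Dinv⟩)) i ∧
        @Hoch.IsComodHom ℂ _ (CoordGrp.GLn r ℂ) _ _ _ (Fin b → TensorPower ℂ a (Fin r → ℂ)) _ _
          (ComodTens.Comod.twist
            (ComodTens.Comod.pi fun _ : Fin b =>
              ComodTens.Comod.tpow (GLin.comodAlong (CoordGrp.Mat.toGLn r ℂ) (ComodTens.stdVec r ℂ)) a)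
            (CoordGrp.GLn.Dinv ^ c) (IsGroupLikeElem.pow ⟨CoordGrp.GLn.counit_Dinv, CoordGrp.GLn.comul_Dinv⟩)) V _ _ ρ p := by
  classical
  letI := ρ
  haveI : Algebra.FiniteType ℂ (CoordGrp.GLn r ℂ) := Groth.Agent.GITLib.finiteType_GL
  set D := CoordGrp.GLn r ℂ with hD
  let d := Module.finrank ℂ V
  let β := Module.finBasis ℂ V
  let coef : Fin d → V →ₗ[WithConv (CoordGrp.GLn r ℂ →ₗ[ℂ] ℂ)] CoordGrp.GLn r ℂ := fun i =>
    Groth.Agent.Comodule.coefMap (C := CoordGrp.GLn r ℂ) (β.coord i)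
  choose P q hPq using fun ij : Fin d × Fin d => Groth.Agent.GITLib.exists_rep (coef ij.1 (β ij.2))
  let c : ℕ := (Finset.univ.sup q) + h.natAbs + 1
  obtain ⟨a, ha⟩ : ∃ a : ℕ, (a : ℤ) = h + r * c := ⟨(h + r * c).toNat, Int.toNat_of_nonneg (by
    have : (c : ℤ) ≤ r * c := le_mul_of_one_le_left (Int.natCast_nonneg _) (by exact_mod_cast hr)
    have : (h.natAbs : ℤ) < c := by simp only [c]; omega
    omega)⟩
  let Q : Fin d × Fin d → MvPolynomial (Fin r × Fin r) ℂ := fun ij => P ij * Groth.Agent.GITLib.detP r ℂ ^ (c - q ij)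
  have hQ : ∀ ij : Fin d × Fin d, coef ij.1 (β ij.2) = Groth.Agent.GITLib.jGL r ℂ (Q ij) * CoordGrp.GLn.Dinv ^ c := fun ij => by
    have hle : q ij ≤ c := (Finset.le_sup (f := q) (Finset.mem_univ ij)).trans (by simp only [c]; omega)
    obtain ⟨e, he⟩ := Nat.exists_eq_add_of_le hle
    simp only [Q]
    rw [hPq ij, he, Nat.add_sub_cancel_left, map_mul, map_pow, Groth.Agent.GITLib.jGL_detP, pow_add, ← mul_assoc,
      mul_assoc (Groth.Agent.GITLib.jGL r ℂ (P ij)), mul_comm (CoordGrp.GLn.det ^ e), ← mul_assoc, mul_assoc _ (CoordGrp.GLn.det ^ e),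
      ← mul_pow, CoordGrp.GLn.det_mul_Dinv, one_pow, mul_one]
  have hQhom : ∀ ij, (Q ij).IsHomogeneous a := fun ij =>
    Groth.Agent.GITLib.TEmb.coef_mem hh (β.coord ij.1) (β ij.2) a c (Q ij) ha (hQ ij)
  let T := TensorPower ℂ a (Fin r → ℂ)
  let cT : HopfRep.Comod ℂ (CoordGrp.GLn r ℂ) T := ComodTens.Comod.tpow (GLin.comodAlong (CoordGrp.Mat.toGLn r ℂ) (ComodTens.stdVec r ℂ)) a
  have hgl : IsGroupLikeElem ℂ (CoordGrp.GLn.Dinv ^ c : CoordGrp.GLn r ℂ) :=
    IsGroupLikeElem.pow ⟨CoordGrp.GLn.counit_Dinv, CoordGrp.GLn.comul_Dinv⟩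
  let cT' : HopfRep.Comod ℂ (CoordGrp.GLn r ℂ) T := ComodTens.Comod.twist cT (CoordGrp.GLn.Dinv ^ c) hgl
  let Ix := Fin d × (Fin a → Fin r)
  let b := Fintype.card Ix
  let e := Fintype.equivFin Ix
  let cE : HopfRep.Comod ℂ (CoordGrp.GLn r ℂ) (Fin b → T) :=
    ComodTens.Comod.twist (ComodTens.Comod.pi fun _ : Fin b => cT) (CoordGrp.GLn.Dinv ^ c) hgl
  let ψ : (Fin a → Fin r) → (T →ₗ[ℂ] CoordGrp.GLn r ℂ) := fun I =>
    LinearMap.mulRight ℂ (CoordGrp.GLn.Dinv ^ c) ∘ₗ Groth.Agent.GITLib.TEmb.rowsMap a I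
  have hψ : ∀ I, Groth.Agent.GITLib.TEmb.HomA cT' (ψ I) := fun I =>
    Groth.Agent.GITLib.TEmb.homA_twist hgl (Groth.Agent.GITLib.TEmb.homA_rows a I)
  let πc : Fin d → ((Fin b → T) →ₗ[ℂ] CoordGrp.GLn r ℂ) := fun i =>
    ∑ I, ψ I ∘ₗ LinearMap.proj (e (i, I))
  letI := cE
  have hπc : ∀ i, Hoch.IsComodHom (CoordGrp.GLn r ℂ) (πc i) := fun i =>
    Groth.Agent.GITLib.TEmb.isComodHom_sum cT (CoordGrp.GLn.Dinv ^ c) hgl (fun I => e (i, I)) ψ hψ
  let π : (Fin b → T) →ₗ[WithConv (CoordGrp.GLn r ℂ →ₗ[ℂ] ℂ)] (Fin d → CoordGrp.GLn r ℂ) :=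
    LinearMap.pi fun i => Groth.Agent.Comodule.toDualHom (πc i) (hπc i)
  let ι : V →ₗ[WithConv (CoordGrp.GLn r ℂ →ₗ[ℂ] ℂ)] (Fin d → CoordGrp.GLn r ℂ) := LinearMap.pi coef
  have hιinj : Function.Injective ι := by
    intro v w hvw
    refine β.ext_elem fun i => ?_
    have h1 := congrArg (fun f : Fin d → CoordGrp.GLn r ℂ => Coalgebra.counit (R := ℂ) (f i)) hvw
    simpa [ι, coef, Groth.Agent.Comodule.counit_coefMap] using h1
  let N : Submodule ℂ (CoordGrp.GLn r ℂ) := ⨆ I, LinearMap.range (ψ I)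
  have hN : ∀ i v, coef i v ∈ N := fun i v => by
    have h1 : ∀ j, coef i (β j) ∈ N := fun j => by
      rw [hQ (i, j), (Q (i, j)).as_sum, map_sum, Finset.sum_mul]
      refine Submodule.sum_mem _ fun s hs => ?_
      have hdeg : s.degree = a := by
        by_contra hne
        exact MvPolynomial.mem_support_iff.1 hs ((hQhom (i, j)).coeff_eq_zero hne)
      obtain ⟨I, x, hx⟩ := Groth.Agent.GITLib.TEmb.monomial_mem_rows (k := ℂ) a s hdeg
      refine Submodule.mem_iSup_of_mem I ⟨MvPolynomial.coeff s (Q (i, j)) • x, ?_⟩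
      rw [map_smul, show ψ I x = Groth.Agent.GITLib.jGL r ℂ (MvPolynomial.monomial s 1) * CoordGrp.GLn.Dinv ^ c by
        rw [← hx]; rfl, ← smul_mul_assoc, ← map_smul, MvPolynomial.smul_monomial, smul_eq_mul, mul_one]
    have h2 : ((coef i).restrictScalars ℂ) v ∈ N := by
      rw [← β.sum_repr v, map_sum]
      exact Submodule.sum_mem _ fun j _ => by rw [map_smul]; exact Submodule.smul_mem _ _ (h1 j)
    exact h2
  have hιπ : ∀ v, ι v ∈ LinearMap.range π := fun v => by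
    choose w hw using fun i => (Submodule.mem_iSup_iff_exists_finsupp _ _).1 (hN i v)
    choose hw1 hw2 using hw
    choose x hx using hw1
    refine ⟨fun m => x (e.symm m).1 (e.symm m).2, funext fun i => ?_⟩
    show πc i (fun m => x (e.symm m).1 (e.symm m).2) = coef i v
    rw [← hw2 i, Finsupp.sum_fintype _ _ (fun _ => rfl)]
    simp only [πc, LinearMap.sum_apply, LinearMap.comp_apply, LinearMap.proj_apply, Equiv.symm_apply_apply]
    exact Finset.sum_congr rfl fun I _ => hx i I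
  haveI hss : IsSemisimpleModule (WithConv (CoordGrp.GLn r ℂ →ₗ[ℂ] ℂ)) (Fin b → T) :=
    Groth.Agent.Comodule.isSemisimpleComod_iff.1 (Groth.Agent.GITLib.linRed_GLn (Fin b → T) inferInstance)
  obtain ⟨i₀, hi₀⟩ := IsSemisimpleModule.lifting_property (R := WithConv (CoordGrp.GLn r ℂ →ₗ[ℂ] ℂ)) (M := Fin b → T)
    (N := LinearMap.range π) (P := V) π.rangeRestrict (LinearMap.surjective_rangeRestrict π)
    (LinearMap.codRestrict (LinearMap.range π) ι hιπ)
  have hi₀inj : Function.Injective i₀ := fun v w hvw => by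
    have hv : ∀ v, π (i₀ v) = ι v := fun v => congrArg Subtype.val (LinearMap.congr_fun hi₀ v)
    exact hιinj (by rw [← hv v, hvw, hv w])
  obtain ⟨p₀, hp₀⟩ := IsSemisimpleModule.extension_property i₀ hi₀inj (LinearMap.id)
  refine ⟨a, b, c, Nat.succ_pos _, i₀.restrictScalars ℂ, p₀.restrictScalars ℂ, LinearMap.ext fun v => ?_, ?_, ?_⟩
  · exact LinearMap.congr_fun hp₀ v
  · exact Groth.Agent.Comodule.isComodHom_restrictScalars i₀
  · exact Groth.Agent.Comodule.isComodHom_restrictScalars p₀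

end Groth.Agent.S16474
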