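import Groth.Statements.S16478
import Groth.Agent.GaSplit.Char

set_option autoImplicit false
universe u
open GaDual
open scoped TensorProduct

namespace Groth.Agent.S16478

/-- Let A be a commutative ring of prime characteristic p and n ≥ 1, and let φ be the comorphism of the
closed immersion α_{p^n} → G_a over A: the bialgebra map from the Hopf algebra of the additive group
(generator t primitive) to A[x]/(x^(p^n)) (x primitive) sending t to x. Then the restriction map on
characters, from those of the additive group over A to those of α_{p^n} over A, is surjective: every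
group-like element of A[x]/(x^(p^n)) is the image under φ of a group-like element of the Hopf
algebra of the additive group. -/
theorem result (p : ℕ) [Fact p.Prime] (A : Type u) [CommRing A] [CharP A p]
    (n : ℕ) (hn : 1 ≤ n) (φ : SekSuwa.A A 0 →ₐc[A] AlphaPn.A p n A) (hφ : φ SekSuwa.A.t = AlphaPn.x p n A)
    (u : AlphaPn.A p n A) (hu : IsGroupLikeElem A u) :
    ∃ g : SekSuwa.A A 0, IsGroupLikeElem A g ∧ φ g = u := by
  classical
  haveI : Nontrivial A := CharP.nontrivial_of_char_ne_one (v := p) (Fact.out : p.Prime).ne_one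
  have hP : 0 < p ^ n := pow_pos (Fact.out : p.Prime).pos n
  obtain ⟨f0, hf0⟩ := AlphaPn.mk_surjective p n A u
  set f := f0 %ₘ (Polynomial.X : Polynomial A) ^ p ^ n with hfdef
  have hmon : ((Polynomial.X : Polynomial A) ^ p ^ n).Monic := Polynomial.monic_X_pow _
  have hf : Polynomial.aeval (AlphaPn.x p n A) f = u := by
    rw [hfdef, Polynomial.modByMonic_eq_sub_mul_div, map_sub, map_mul, map_pow, Polynomial.aeval_X,
      AlphaPn.x_pow, zero_mul, sub_zero, AlphaPn.aeval_x, hf0]
  have hdeg : f.natDegree < p ^ n := by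
    have h := Polynomial.natDegree_modByMonic_lt f0 hmon (by
      intro h
      have := congrArg Polynomial.natDegree h
      rw [Polynomial.natDegree_X_pow, Polynomial.natDegree_one] at this
      omega)
    rwa [Polynomial.natDegree_X_pow] at h
  have h0 : f.eval 0 = 1 := by
    have h := hu.counit_eq_one
    rw [← hf, ← Bialgebra.counitAlgHom_apply, ← Polynomial.aeval_algHom_apply, Bialgebra.counitAlgHom_apply,
      AlphaPn.counit_x, Polynomial.coe_aeval_eq_eval] at h
    exact h
  have hmul : f ∈ {g : Polynomial A | Polynomial.aeval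
      (MvPolynomial.X 0 + MvPolynomial.X 1 : MvPolynomial (Fin 2) A) g -
      Polynomial.aeval (MvPolynomial.X 0 : MvPolynomial (Fin 2) A) g *
        Polynomial.aeval (MvPolynomial.X 1 : MvPolynomial (Fin 2) A) g ∈
      Ideal.span {(MvPolynomial.X 0 ^ p ^ n : MvPolynomial (Fin 2) A), MvPolynomial.X 1 ^ p ^ n}} := by
    have h := hu.comul_eq_tmul_self
    rw [← hf, ← Bialgebra.comulAlgHom_apply, ← Polynomial.aeval_algHom_apply, Bialgebra.comulAlgHom_apply,
      AlphaPn.comul_x] at h
    let I := Ideal.span {(MvPolynomial.X 0 ^ p ^ n : MvPolynomial (Fin 2) A), MvPolynomial.X 1 ^ p ^ n}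
    let π := Ideal.Quotient.mkₐ A I
    have h0' : π (MvPolynomial.X 0) ^ p ^ n = 0 := by
      rw [← map_pow]; exact Ideal.Quotient.eq_zero_iff_mem.mpr (Ideal.subset_span (by simp))
    have h1' : π (MvPolynomial.X 1) ^ p ^ n = 0 := by
      rw [← map_pow]; exact Ideal.Quotient.eq_zero_iff_mem.mpr (Ideal.subset_span (by simp))
    let ψ := Algebra.TensorProduct.lift (AlphaPn.lift p n A _ h0') (AlphaPn.lift p n A _ h1')
      (fun _ _ => Commute.all _ _)
    have h2 := congrArg ψ h
    rw [← Polynomial.aeval_algHom_apply, Algebra.TensorProduct.lift_tmul, ← Polynomial.aeval_algHom_apply,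
      ← Polynomial.aeval_algHom_apply, map_add, Algebra.TensorProduct.lift_tmul,
      Algebra.TensorProduct.lift_tmul, AlphaPn.lift_x, AlphaPn.lift_x, map_one, map_one, mul_one, one_mul,
      ← map_add, Polynomial.aeval_algHom_apply, Polynomial.aeval_algHom_apply,
      Polynomial.aeval_algHom_apply, ← map_mul] at h2
    exact Ideal.Quotient.eq.mp h2
  obtain ⟨a, ha, hprod⟩ := GaSplit.exists_prodExp (CharP.cast_eq_zero A p) f h0 n hdeg
    fun i j hi hj => GaSplit.rec_of_mul_mod hmul i j hi hj
  refine ⟨Polynomial.aeval (SekSuwa.A.t : SekSuwa.A A 0) f, ⟨?_, ?_⟩, ?_⟩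
  · rw [← Bialgebra.counitAlgHom_apply, ← Polynomial.aeval_algHom_apply, Bialgebra.counitAlgHom_apply,
      SekSuwa.A.counit_t, Polynomial.coe_aeval_eq_eval]
    exact h0
  · have h := congrArg (MvPolynomial.aeval (R := A)
      ![(SekSuwa.A.t : SekSuwa.A A 0) ⊗ₜ[A] (1 : SekSuwa.A A 0), (1 : SekSuwa.A A 0) ⊗ₜ[A] SekSuwa.A.t])
      (GaSplit.prodExp_mul (CharP.cast_eq_zero A p) a ha n)
    rw [← hprod, map_mul, ← Polynomial.aeval_algHom_apply, ← Polynomial.aeval_algHom_apply,
      ← Polynomial.aeval_algHom_apply, map_add] at h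
    simp only [MvPolynomial.aeval_X, Matrix.cons_val_zero, Matrix.cons_val_one] at h
    rw [← Bialgebra.comulAlgHom_apply, ← Polynomial.aeval_algHom_apply, Bialgebra.comulAlgHom_apply,
      SekSuwa.A.comul_t, zero_smul, add_zero, h]
    rw [← Algebra.TensorProduct.includeLeft_apply (S := A), ← Algebra.TensorProduct.includeRight_apply,
      Polynomial.aeval_algHom_apply, Polynomial.aeval_algHom_apply, Algebra.TensorProduct.includeLeft_apply,
      Algebra.TensorProduct.includeRight_apply, Algebra.TensorProduct.tmul_mul_tmul, one_mul, mul_one]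
  · rw [← Polynomial.aeval_algHom_apply, hφ, hf]

end Groth.Agent.S16478
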