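import Groth.Statements.S16484
import Groth.Agent.RelPCLib.FTDescent
open AlgebraicGeometry CategoryTheory TopologicalSpace Opposite
-- import your own Groth.Agent.* helpers here

set_option autoImplicit false
universe u
open CategoryTheory AlgebraicGeometry
open RefHull

namespace Groth.Agent.S16484

/-- Consider a scheme X together with O_X-modules F and G, where F is assumed to be of finite type, and
fix a point x ∈ X. The natural O_{X,x}-linear map 𝓗om_{O_X}(F, G)_x → Hom_{O_{X,x}}(F_x, G_x),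
taking the germ at x of a section of the sheaf Hom to the map on stalks at x that it induces, is
injective. (In the source the claim is made for modules over any ringed space; here it is formulated
only for schemes, since that is where the sheaf Hom used in the statement is available.) -/
theorem result (X : Scheme.{u}) (F G : X.Modules) (hF : CohB1.IsFT F) (x : X) :
    Function.Injective (RefHull.evalStalk F G x) := by
  refine (injective_iff_map_eq_zero _).2 fun θ hθ => ?_
  obtain ⟨U₀, hx₀, g₀, rfl⟩ := TopCat.Presheaf.exists_germ_eq (RefHull.homSh F G).presheaf θ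
  rw [RefHull.evalStalk_germ] at hθ
  obtain ⟨V, n, s, hxV, hs⟩ := Groth.Agent.RelPCLib.exists_spans_of_isFT hF x
  have key : ∀ i, ∃ (W : X.Opens) (_ : x ∈ W) (hWU : W ≤ U₀ ⊓ V), ∀ (y : X) (hy : y ∈ W),
      g₀.1 ⟨y, (hWU hy).1⟩ (F.presheaf.germ V y (hWU hy).2 (s i)) = 0 := fun i => by
    obtain ⟨W, hW, j, m, hm⟩ := RefHull.isLocSect_of_mem g₀ (U₀ ⊓ V) (homOfLE inf_le_left)
      (F.presheaf.map (homOfLE (inf_le_right : U₀ ⊓ V ≤ V)).op (s i)) ⟨x, hx₀, hxV⟩
    have h0 := hm ⟨x, hW⟩
    dsimp only at h0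
    erw [hθ] at h0
    have h0' : G.presheaf.germ W x hW m = G.presheaf.germ W x hW 0 := h0.symm.trans (by simp)
    obtain ⟨W', hW', i₁, i₂, he⟩ := TopCat.Presheaf.germ_eq G.presheaf x hW hW m 0 h0'
    refine ⟨W', hW', i₁.le.trans j.le, fun y hy => ?_⟩
    have h1 := hm ⟨y, i₁.le hy⟩
    dsimp only at h1
    rw [← TopCat.Presheaf.germ_res_apply G.presheaf i₁ y hy, he, map_zero, map_zero] at h1
    rw [TopCat.Presheaf.germ_res_apply] at h1
    exact h1
  choose W hxW hWle hW using key
  let I : X.Opens := ⟨⋂ i, (W i : Set X), isOpen_iInter_of_finite fun i => (W i).2⟩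
  let W₀ : X.Opens := I ⊓ (U₀ ⊓ V)
  have hxW₀ : x ∈ W₀ := ⟨Set.mem_iInter.2 hxW, hx₀, hxV⟩
  have hWU : W₀ ≤ U₀ := fun y hy => hy.2.1
  rw [← TopCat.Presheaf.germ_res_apply (RefHull.homSh F G).presheaf (homOfLE hWU) x hxW₀ g₀,
    show (RefHull.homSh F G).presheaf.map (homOfLE hWU).op g₀ = 0 from Subtype.ext (funext fun z => ?_), map_zero]
  show g₀.1 ⟨z.1, z.2.2.1⟩ = 0
  refine LinearMap.ext_on_range (hs z.1 z.2.2.2) fun i => ?_
  exact hW i z.1 (Set.mem_iInter.1 z.2.1 i)

end Groth.Agent.S16484
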