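import Groth.Statements.S16485
import Groth.Agent.S16484
import Groth.Agent.RefOne.Stalk
import Groth.Agent.QCohLib.FPSections


set_option autoImplicit false
universe u
open CategoryTheory AlgebraicGeometry
open RefHull

namespace Groth.Agent.S16485

open CategoryTheory CategoryTheory.Limits AlgebraicGeometry

open Groth.Agent CategoryTheory AlgebraicGeometry TopologicalSpace Opposite
set_option backward.isDefEq.respectTransparency false

/-- A common open for finitely many neighbourhoods of a point. -/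
theorem exists_le_all {X : Scheme.{u}} {ι : Type*} [Finite ι] (x : X) (V₀ : X.Opens) (h₀ : x ∈ V₀)
    (V : ι → X.Opens) (h : ∀ i, x ∈ V i) : ∃ (U : X.Opens) (_ : x ∈ U), U ≤ V₀ ∧ ∀ i, U ≤ V i := by
  refine ⟨V₀ ⊓ ⟨⋂ i, (V i : Set X), isOpen_iInter_of_finite fun i => (V i).2⟩, ⟨h₀, Set.mem_iInter.2 h⟩,
    inf_le_left, fun i y hy => Set.mem_iInter.1 hy.2 i⟩

/-- Let X be a scheme, F and G O_X-modules with F of finite presentation, and x a point of X. Then the
canonical O_{X,x}-linear map 𝓗om_{O_X}(F, G)_x → Hom_{O_{X,x}}(F_x, G_x), which sends the germ at x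
of a section of the sheaf Hom to the stalk map it induces at x, is bijective. (The source states
this for modules on an arbitrary ringed space; it is stated here for schemes, where the sheaf Hom of
the statement is available.) -/
theorem result (X : Scheme.{u}) (F G : X.Modules) (hF : CohB1.IsFP F) (x : X) :
    Function.Bijective (RefHull.evalStalk F G x) := by
  haveI hQ : Coh.IsQCoh F := by
    haveI := hF
    infer_instance
  haveI hT : CohB1.IsFT F := by
    haveI := hF
    infer_instance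
  refine ⟨S16484.result X F G hT x, fun φ => ?_⟩
  obtain ⟨W, hW, hxW, -⟩ := exists_isAffineOpen_mem_and_subset (x := x) (U := (⊤ : X.Opens)) trivial
  haveI := QCohLib.finitePresentation_sections F hF hW
  obtain ⟨n, m, f, g, hf, hfg⟩ := Module.FinitePresentation.exists_fin' Γ(X, W) Γ(F, W)
  let s : Fin n → Γ(F, W) := fun i => f (Pi.single i 1)
  have hsum : ∀ r : Fin n → Γ(X, W), f r = ∑ i, r i • s i := fun r => by
    conv_lhs => rw [pi_eq_sum_univ' r]
    simp only [map_sum, map_smul, s]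
  have h1 : ∀ i, ∃ (U : X.Opens) (hU : x ∈ U) (t : Γ(G, U)), G.presheaf.germ U x hU t = φ (F.presheaf.germ W x hxW (s i)) :=
    fun i => TopCat.Presheaf.exists_germ_eq G.presheaf (φ (F.presheaf.germ W x hxW (s i)))
  choose U hxU t ht using h1
  obtain ⟨V₀, hxV₀, hV₀W, hV₀U⟩ := exists_le_all x W hxW U hxU
  let t₀ : Fin n → Γ(G, V₀) := fun i => G.presheaf.map (homOfLE (hV₀U i)).op (t i)
  let rel : Fin m → Γ(G, V₀) := fun j =>
    ∑ i, (X.presheaf.map (homOfLE hV₀W).op (g (Pi.single j 1) i) : Γ(X, V₀)) • t₀ i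
  have hrel : ∀ (y : X) (hy : y ∈ V₀) (j : Fin m), G.presheaf.germ V₀ y hy (rel j) =
      ∑ i, X.presheaf.germ W y (hV₀W hy) (g (Pi.single j 1) i) • G.presheaf.germ (U i) y (hV₀U i hy) (t i) :=
    fun y hy j => by
    rw [map_sum]
    refine Finset.sum_congr rfl fun i _ => ?_
    rw [ParaFLib.germ_smul', TopCat.Presheaf.germ_res_apply, TopCat.Presheaf.germ_res_apply]
  have hker : ∀ j, G.presheaf.germ V₀ x hxV₀ (rel j) = 0 := fun j => by
    rw [hrel]
    simp only [ht, ← map_smul, ← map_sum]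
    rw [show ∑ i, X.presheaf.germ W x (hV₀W hxV₀) (g (Pi.single j 1) i) • F.presheaf.germ W x hxW (s i) =
      F.presheaf.germ W x hxW (f (g (Pi.single j 1))) by
        simp only [hsum (g (Pi.single j 1)), map_sum, ParaFLib.germ_smul'], hfg.apply_apply_eq_zero, map_zero, map_zero]
  have h2 : ∀ j, ∃ (U' : X.Opens) (_ : x ∈ U') (hle : U' ≤ V₀), ∀ (y : X) (hy : y ∈ U'),
      G.presheaf.germ V₀ y (hle hy) (rel j) = 0 := fun j => by
    obtain ⟨U', hxU', i₁, i₂, he⟩ := TopCat.Presheaf.germ_eq G.presheaf x hxV₀ hxV₀ (rel j) 0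
      ((hker j).trans (map_zero _).symm)
    refine ⟨U', hxU', i₁.le, fun y hy => ?_⟩
    rw [← TopCat.Presheaf.germ_res_apply G.presheaf i₁ y hy, he, map_zero, map_zero]
  choose U' hxU' hU'V hU' using h2
  obtain ⟨V, hxV, hVV₀, hVU'⟩ := exists_le_all x V₀ hxV₀ U' hxU'
  have hVW : V ≤ W := hVV₀.trans hV₀W
  have hspan : ∀ (y : X) (hy : y ∈ W),
      Submodule.span (X.presheaf.stalk y) (Set.range fun i => F.presheaf.germ W y hy (s i)) = ⊤ := fun y hy => by
    refine eq_top_iff.2 fun z _ => ?_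
    letI := Module.compHom (F.presheaf.stalk y) (X.presheaf.germ W y hy).hom
    haveI := FlatLocus.isLocalizedModule_germL F hW y hy
    haveI := hW.isLocalization_stalk ⟨y, hy⟩
    letI := TopCat.Presheaf.algebra_section_stalk X.presheaf ⟨y, hy⟩
    obtain ⟨⟨w, a⟩, hz⟩ := IsLocalizedModule.surj (hW.primeIdealOf ⟨y, hy⟩).asIdeal.primeCompl
      (FlatLocus.germL F W y hy) z
    have ha : IsUnit (X.presheaf.germ W y hy (a : Γ(X, W))) :=
      IsLocalization.map_units (X.presheaf.stalk y) (M := (hW.primeIdealOf ⟨y, hy⟩).asIdeal.primeCompl) a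
    rw [← Submodule.smul_mem_iff_of_isUnit _ ha]
    have hz' : X.presheaf.germ W y hy (a : Γ(X, W)) • z = F.presheaf.germ W y hy w := hz
    obtain ⟨r, rfl⟩ := hf w
    rw [hz', hsum r, map_sum]
    refine Submodule.sum_mem _ fun i _ => ?_
    rw [ParaFLib.germ_smul']
    exact Submodule.smul_mem _ _ (Submodule.subset_span ⟨i, rfl⟩)
  have hb : ∀ y : V, ∃ b : RefHull.StalkHom F G y.1, ∀ i,
      b (F.presheaf.germ W y.1 (hVW y.2) (s i)) = G.presheaf.germ (U i) y.1 (hV₀U i (hVV₀ y.2)) (t i) := by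
    rintro ⟨y, hyV⟩
    have hy : y ∈ W := hVW hyV
    let A := Γ(X, W)
    let B := X.presheaf.stalk y
    letI : Algebra A B := TopCat.Presheaf.algebra_section_stalk X.presheaf ⟨y, hy⟩
    haveI := hW.isLocalization_stalk ⟨y, hy⟩
    letI := Module.compHom (F.presheaf.stalk y) (X.presheaf.germ W y hy).hom
    letI := Module.compHom (G.presheaf.stalk y) (X.presheaf.germ W y hy).hom
    haveI : IsScalarTower A B (F.presheaf.stalk y) := .of_algebraMap_smul fun _ _ => rfl
    haveI : IsScalarTower A B (G.presheaf.stalk y) := .of_algebraMap_smul fun _ _ => rfl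
    haveI := FlatLocus.isLocalizedModule_germL F hW y hy
    have hbc : IsBaseChange B (FlatLocus.germL F W y hy) :=
      IsLocalizedModule.isBaseChange (hW.primeIdealOf ⟨y, hy⟩).asIdeal.primeCompl B _
    let τ : Fin n → G.presheaf.stalk y := fun i => G.presheaf.germ (U i) y (hV₀U i (hVV₀ hyV)) (t i)
    let L : (Fin n → A) →ₗ[A] G.presheaf.stalk y := Fintype.linearCombination A τ
    have hLg : L ∘ₗ g = 0 := (Pi.basisFun A (Fin m)).ext fun j => by
      rw [Pi.basisFun_apply, LinearMap.comp_apply, Fintype.linearCombination_apply, LinearMap.zero_apply,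
        ← hU' j y (hVU' j hyV), hrel]
      rfl
    have hle : LinearMap.ker f ≤ LinearMap.ker L := fun r hr => by
      obtain ⟨c, rfl⟩ := (hfg r).1 hr
      exact LinearMap.congr_fun hLg c
    let l : Γ(F, W) →ₗ[A] G.presheaf.stalk y :=
      (LinearMap.ker f).liftQ L hle ∘ₗ (f.quotKerEquivOfSurjective hf).symm.toLinearMap
    refine ⟨hbc.lift l, fun i => ?_⟩
    show hbc.lift l (FlatLocus.germL F W y hy (s i)) = τ i
    have he : (f.quotKerEquivOfSurjective hf).symm (s i) = Submodule.Quotient.mk (Pi.single i 1) :=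
      (LinearEquiv.symm_apply_eq _).2 rfl
    rw [IsBaseChange.lift_eq, LinearMap.comp_apply, LinearEquiv.coe_coe, he, Submodule.liftQ_apply,
      Fintype.linearCombination_apply_single, one_smul]
  choose b hb using hb
  have hloc : RefHull.IsLocSect F G b := by
    intro V' i w y
    have hy : y.1 ∈ W := hVW (i.le y.2)
    obtain ⟨c, hc⟩ := Submodule.mem_span_range_iff_exists_fun _ |>.1
      ((hspan y.1 hy).ge (Submodule.mem_top (x := F.presheaf.germ V' y.1 y.2 w)))
    have h3 : ∀ k, ∃ (O : X.Opens) (hO : y.1 ∈ O) (r : Γ(X, O)), X.presheaf.germ O y.1 hO r = c k :=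
      fun k => TopCat.Presheaf.exists_germ_eq X.presheaf (c k)
    choose O hO r hr using h3
    obtain ⟨O₁, hyO₁, hO₁V', hO₁O⟩ := exists_le_all y.1 V' y.2 O hO
    let comb : Γ(F, O₁) := ∑ k, (X.presheaf.map (homOfLE (hO₁O k)).op (r k) : Γ(X, O₁)) •
      F.presheaf.map (homOfLE ((hO₁V'.trans i.le).trans hVW)).op (s k)
    have hcomb : F.presheaf.germ O₁ y.1 hyO₁ comb = F.presheaf.germ V' y.1 y.2 w := by
      rw [← hc, map_sum]
      refine Finset.sum_congr rfl fun k _ => ?_
      rw [ParaFLib.germ_smul', TopCat.Presheaf.germ_res_apply, TopCat.Presheaf.germ_res_apply, hr]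
    obtain ⟨O₂, hyO₂, j₁, j₂, he⟩ := TopCat.Presheaf.germ_eq F.presheaf y.1 hyO₁ y.2 comb w hcomb
    refine ⟨O₂, hyO₂, j₂, G.presheaf.map j₁.op (∑ k, (X.presheaf.map (homOfLE (hO₁O k)).op (r k) : Γ(X, O₁)) •
      G.presheaf.map (homOfLE (((hO₁V'.trans i.le).trans hVV₀).trans (hV₀U k))).op (t k)), fun z => ?_⟩
    rw [← TopCat.Presheaf.germ_res_apply F.presheaf j₂ z.1 z.2 w, ← he, TopCat.Presheaf.germ_res_apply,
      TopCat.Presheaf.germ_res_apply, map_sum, map_sum, map_sum]
    refine Finset.sum_congr rfl fun k _ => ?_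
    simp only [ParaFLib.germ_smul', map_smul, TopCat.Presheaf.germ_res_apply]
    exact congrArg _ (hb _ k)
  refine ⟨(RefHull.homSh F G).presheaf.germ V x hxV ⟨b, hloc⟩, ?_⟩
  rw [RefHull.evalStalk_germ]
  exact LinearMap.ext_on_range (hspan x hxW) fun i => (hb ⟨x, hxV⟩ i).trans (ht i)


end Groth.Agent.S16485
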