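import Groth.Statements.S16486
import Groth.Agent.RefOne.Extend
import Groth.Agent.DCohLib.FTLocal
import Groth.Agent.DCohLib.QCohHD
import Groth.Agent.QCohLib.Exact
import Groth.Agent.CohBase.Affine
import Mathlib.RingTheory.Flat.TorsionFree

set_option autoImplicit false
set_option backward.isDefEq.respectTransparency false
set_option linter.style.haveILetI false
universe u
open CategoryTheory AlgebraicGeometry
open SGA3

namespace Groth.Agent.S16486

open CategoryTheory.Limits Groth.Agent Groth.Agent.RefOne in
/-- A dual extends from an open set with complement of depth at least two. -/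
theorem isIso_unit_dual {X : Scheme.{u}} [IsLocallyNoetherian X] (U : X.Opens) {G : X.Modules} (hG : Coh.IsCoh G)
    (hU : ∀ x : X, x ∉ U → (2 : ℕ∞) ≤ LocCoh.depth (X.presheaf.stalk x) (X.presheaf.stalk x)) :
    IsIso ((Scheme.Modules.restrictAdjunction U.ι).unit.app (RefHull.dual G)) := by
  have hF := RefOne.isCoh_dual hG
  haveI := hF.1
  haveI : Coh.IsQCoh ((Scheme.Modules.restrictFunctor U.ι).obj (RefHull.dual G)) := inferInstance
  haveI : Coh.IsQCoh ((Scheme.Modules.pushforward U.ι).obj ((Scheme.Modules.restrictFunctor U.ι).obj (RefHull.dual G))) :=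
    QCohLib.isQCoh_pushforward _ U.ι
  haveI : Coh.IsQCoh ((𝟭 X.Modules).obj (RefHull.dual G)) := hF.1
  haveI : Coh.IsQCoh ((Scheme.Modules.restrictFunctor U.ι ⋙ Scheme.Modules.pushforward U.ι).obj (RefHull.dual G)) := by
    assumption
  refine AssLib.isIso_of_depth _ hF fun x => ?_
  by_cases hx : x ∈ U
  · exact Or.inl (S1575.unit_stalk_bijective U.ι (RefHull.dual G) (by rw [Scheme.Opens.opensRange_ι]; exact hx))
  · refine Or.inr ⟨?_, fun hass => hx ?_⟩
    · haveI := hG.1
      haveI := PullbackMod.finite_stalk_of_isFT hG.2 x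
      show (2 : ℕ∞) ≤ LocCoh.depth (X.presheaf.stalk x) ((RefHull.dual G).presheaf.stalk x)
      rw [CAlgBasics.depth_congr (RefOne.dualStalk hG x)]
      exact CAlgBasics.two_le_depth_linearMap (M := G.presheaf.stalk x) (N := X.presheaf.stalk x) (hU x hx)
    · obtain ⟨y, rfl, -⟩ := AssLib.exists_isWeakAssPoint_of_push U.ι ((Scheme.Modules.restrictFunctor U.ι).obj (RefHull.dual G))
        ((AssLib.isWeakAssPoint_iff_isAssPoint _ x).mpr hass)
      exact y.2

open CategoryTheory.Limits in
/-- A submodule of finite type of a quasi-coherent module is quasi-coherent. -/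
theorem isQCoh_of_isFT_mono {X : Scheme.{u}} {A F : X.Modules} (hA : Coh.IsQCoh A) (i : F ⟶ A) [Mono i]
    (hF : CohB1.IsFT F) : Coh.IsQCoh F := by
  refine Groth.Agent.DCohLib.isQCoh_of_local fun x => ?_
  obtain ⟨V, n, p, hx, hp⟩ := Groth.Agent.DCohLib.exists_free_epi hF x
  refine ⟨V, hx, ?_⟩
  haveI := hp
  haveI := hA
  let R := Scheme.Modules.restrictFunctor V.ι
  haveI : Coh.IsQCoh (R.obj A) := inferInstance
  haveI : Coh.IsQCoh (FlatMod.freeMod (V : Scheme.{u}) n) :=
    (Groth.Agent.PullbackMod.isQCoh_and_isFP_of_isFinLocFree _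
      (Groth.Agent.DCohLib.isFinLocFree_freeMod (Y := (V : Scheme.{u})) n)).1
  haveI : Mono (R.map i) := inferInstance
  haveI : Coh.IsQCoh (cokernel (R.map i)) :=
    (SheafOfModules.isQuasicoherent (V : Scheme.{u}).ringCatSheaf).prop_of_iso (cokernelEpiComp p (R.map i))
      (Groth.Agent.QCohLib.isQCoh_image (p ≫ R.map i) inferInstance inferInstance).2
  exact (SheafOfModules.isQuasicoherent (V : Scheme.{u}).ringCatSheaf).prop_of_iso
    ((kernelIsKernel (cokernel.π (R.map i))).conePointUniqueUpToIso
      (Abelian.monoIsKernelOfCokernel _ (colimit.isColimit (parallelPair (R.map i) 0))))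
    (Groth.Agent.QCohLib.isQCoh_image (cokernel.π (R.map i)) inferInstance inferInstance).1

/-- Let S be a Noetherian normal scheme, A a flat quasi-coherent O_S-module, F ⊆ A a sub-O_S-module of
finite type, and U ⊆ S the set of points s at which the stalk F_s is a flat O_{S,s}-module (the
flatness locus of F, which is open); write j : U → S for the inclusion of the corresponding open
subscheme. Then the bidual F^** = 𝓗om(𝓗om(F, O_S), O_S) is identified with j_* j^* F: there is an
isomorphism F^** ≅ j_*(F|_U) whose composite with the canonical map F → F^** is the unit F → j_* j^*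
F of the adjunction between restriction to U and direct image (such an isomorphism is unique). The
openness of U is taken as part of the hypothesis that U is an open with this underlying set. -/
theorem result (S : Scheme.{u}) [IsNoetherian S]
    (hS : Pi1.IsNormalScheme S) (A F : S.Modules) (hA : Coh.IsQCoh A) (hAfl : FlatMod.IsFlat A)
    (ι : F ⟶ A) [Mono ι] (hF : CohB1.IsFT F) (U : S.Opens) (hU : (U : Set S) = {s : S | FlatMod.IsFlatAt F s}) :
    ∃ e : RefHull.ddual F ≅ (Scheme.Modules.pushforward U.ι).obj (F.restrict U.ι),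
      RefHull.bidualMap F ≫ e.hom = (Scheme.Modules.restrictAdjunction U.ι).unit.app F := by
  haveI := hA
  haveI hFq : Coh.IsQCoh F := isQCoh_of_isFT_mono hA ι hF
  have hFc : Coh.IsCoh F := ⟨hFq, hF⟩
  have hinj : ∀ x : S, Function.Injective (Groth.Agent.PullbackMod.stalkLin ι x) := fun x => by
    haveI := (Groth.Agent.QCohLib.toAbF S).map_mono ι
    exact TopCat.Presheaf.stalkFunctor_map_injective_of_app_injective
      (fun W => Groth.Agent.CohBase.sections_injective ((Groth.Agent.QCohLib.toAbF S).map ι) W) x
  have hbig : ∀ x : S, x ∉ U → (2 : WithBot ℕ∞) ≤ ringKrullDim (S.presheaf.stalk x) := by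
    intro x hx
    by_contra hd
    refine hx ?_
    show x ∈ (U : Set S)
    rw [hU]
    show Module.Flat (S.presheaf.stalk x) (F.presheaf.stalk x)
    haveI := (hS x).1
    haveI := (hS x).2
    have hd1 : ringKrullDim (S.presheaf.stalk x) ≤ (1 : ℕ) := by
      cases h : ringKrullDim (S.presheaf.stalk x) with
      | bot => exact bot_le
      | coe m =>
        rw [h] at hd
        have : m < 2 := WithBot.coe_lt_coe.1 (not_le.1 hd)
        exact WithBot.coe_le_coe.2 (ENat.lt_natCast_add_one_iff.1 (by exact this))
    haveI : Ring.KrullDimLE 1 (S.presheaf.stalk x) := Ring.krullDimLE_iff.2 hd1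
    haveI : Ring.DimensionLEOne (S.presheaf.stalk x) :=
      ⟨fun {p} hp hp' => hp'.isMaximal_of_ne_bot hp⟩
    haveI : IsDedekindDomain (S.presheaf.stalk x) := {}
    haveI : Module.Flat (S.presheaf.stalk x) (A.presheaf.stalk x) := hAfl x
    haveI : Module.IsTorsionFree (S.presheaf.stalk x) (A.presheaf.stalk x) :=
      Submodule.isTorsionFree_iff_torsion_eq_bot.2 Module.Flat.torsion_eq_bot
    haveI : Module.IsTorsionFree (S.presheaf.stalk x) (F.presheaf.stalk x) :=
      Function.Injective.moduleIsTorsionFree _ (hinj x) (fun a m => map_smul _ a m)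
    rw [IsDedekindDomain.flat_iff_torsion_eq_bot, ← Submodule.isTorsionFree_iff_torsion_eq_bot]
    infer_instance
  have hrefl : ∀ x ∈ U, RefHull.IsReflexiveAt F x := by
    intro x hx
    haveI := Groth.Agent.PullbackMod.finite_stalk_of_isFT hF x
    have hxU : x ∈ (U : Set S) := hx
    rw [hU] at hxU
    haveI : Module.Flat (S.presheaf.stalk x) (F.presheaf.stalk x) := hxU
    haveI : Module.Free (S.presheaf.stalk x) (F.presheaf.stalk x) := Module.free_of_flat_of_isLocalRing
    exact (inferInstance : Module.IsReflexive (S.presheaf.stalk x) (F.presheaf.stalk x))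
  haveI := Groth.Agent.RefOne.isIso_restrict_bidual U hFc hrefl
  haveI := isIso_unit_dual U (Groth.Agent.RefOne.isCoh_dual hFc)
    (fun x hx => Groth.Agent.ParaFLib.two_le_depth_stalk_of_normal x (hS x) (hbig x hx))
  let b := (Scheme.Modules.pushforward U.ι).map ((Scheme.Modules.restrictFunctor U.ι).map (RefHull.bidualMap F))
  refine ⟨asIso ((Scheme.Modules.restrictAdjunction U.ι).unit.app (RefHull.ddual F)) ≪≫ (asIso b).symm, ?_⟩
  rw [Iso.trans_hom, asIso_hom, Iso.symm_hom, asIso_inv, ← Category.assoc, IsIso.comp_inv_eq]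
  exact (Scheme.Modules.restrictAdjunction U.ι).unit.naturality (RefHull.bidualMap F)

end Groth.Agent.S16486
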