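import Groth.Statements.S16488
import Groth.Agent.RefOne.Stalk
import Groth.Agent.RegDual
import Groth.Agent.RegLocLib.Basic

set_option backward.isDefEq.respectTransparency false

set_option autoImplicit false
universe u
open CategoryTheory CategoryTheory.Limits AlgebraicGeometry TopologicalSpace
open VBPn

namespace Groth.Agent.S16488

/-- Let X be an integral locally Noetherian scheme all of whose local rings are regular, and F a
coherent O_X-module which is reflexive, i.e. the canonical map F → F^** is an isomorphism. Then the
singularity set of F (the set of points at which the stalk of F is not free) has codimension at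
least 3: for every point x such that F_x is not a free O_{X,x}-module, the local ring O_{X,x} has
dimension at least 3. The published statement is for reflexive coherent analytic sheaves on a
complex manifold; this row is its statement for coherent sheaves on a regular integral locally
Noetherian scheme, where the same argument (a reflexive sheaf is locally a second syzygy sheaf)
applies. -/
theorem result (X : Scheme.{u}) [IsIntegral X] [IsLocallyNoetherian X]
    (hreg : ∀ x : X, IsRegularLocalRing (X.presheaf.stalk x)) (F : X.Modules) (hF : Coh.IsCoh F)
    (hrefl : RefHull.IsReflexive F) (x : X) (hx : ¬ Module.Free (X.presheaf.stalk x) (F.presheaf.stalk x)) :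
    (3 : WithBot ℕ∞) ≤ ringKrullDim (X.presheaf.stalk x) := by
  by_contra h
  apply hx
  haveI := hreg x
  haveI := hF.1
  haveI : Module.IsReflexive (X.presheaf.stalk x) (F.presheaf.stalk x) := (Groth.Agent.RefOne.isReflexive_iff hF).1 hrefl x
  haveI := Groth.Agent.PullbackMod.finite_stalk_of_isFT hF.2 x
  haveI := Groth.Agent.RegLocLib.isRegularRing_of_isRegularLocalRing (X.presheaf.stalk x)
  have hdim : ringKrullDim (X.presheaf.stalk x) ≤ 2 := by
    obtain ⟨d, hd⟩ := Groth.Agent.RegLocal.exists_nat_ringKrullDim (R := X.presheaf.stalk x)
    rw [hd] at h ⊢
    have h3 : ¬ 3 ≤ d := fun h3 => h (by exact_mod_cast h3)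
    exact_mod_cast (show d ≤ 2 by omega)
  haveI := Groth.Agent.RegDual.projective_dual hdim (Module.Dual (X.presheaf.stalk x) (F.presheaf.stalk x))
  haveI : Module.Projective (X.presheaf.stalk x) (F.presheaf.stalk x) :=
    Module.Projective.of_equiv (Module.evalEquiv (X.presheaf.stalk x) (F.presheaf.stalk x)).symm
  exact Module.free_of_flat_of_isLocalRing

end Groth.Agent.S16488
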