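import Groth.Statements.S16492
import Groth.Agent.VBLib.DualOps

set_option autoImplicit false
universe u
open CategoryTheory CategoryTheory.Limits AlgebraicGeometry
open VBCurve

namespace Groth.Agent.S16492

set_option backward.isDefEq.respectTransparency false

def wf {X : Scheme.{u}} (M : X.Modules) : Prop :=
  ∃ P Q : Polynomial ℕ, P ≠ Q ∧ Nonempty ((∐ fun i : Fin (P.natDegree + 1) => ∐ fun _ : Fin (P.coeff ↑i) => CohB1.tensorPow M ↑i) ≅
    (∐ fun i : Fin (Q.natDegree + 1) => ∐ fun _ : Fin (Q.coeff ↑i) => CohB1.tensorPow M ↑i))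

theorem wf_iso {X : Scheme.{u}} {M N : X.Modules} (e : M ≅ N) (h : wf M) : wf N := by
  obtain ⟨P, Q, hne, ⟨f⟩⟩ := h
  exact ⟨P, Q, hne, ⟨(Sigma.mapIso fun i : Fin (P.natDegree + 1) => Sigma.mapIso fun _ : Fin (P.coeff ↑i) =>
      Groth.Agent.AmpleLib.powCongr e ↑i).symm ≪≫ f ≪≫
    Sigma.mapIso fun i : Fin (Q.natDegree + 1) => Sigma.mapIso fun _ : Fin (Q.coeff ↑i) => Groth.Agent.AmpleLib.powCongr e ↑i⟩⟩

theorem wf_dd {X : Scheme.{u}} [IsLocallyNoetherian X] {r : ℕ} {M : X.Modules}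
    (hM : FlatMod.IsFinLocFreeOfRank r M) (h : wf M) : wf (Groth.Agent.VBLib.DualDeg.dd M) := by
  obtain ⟨P, Q, hne, ⟨f⟩⟩ := h
  obtain ⟨a⟩ := Groth.Agent.VBLib.DualOps.nonempty_dd_eval hM fun i : Fin (P.natDegree + 1) => P.coeff ↑i
  obtain ⟨b⟩ := Groth.Agent.VBLib.DualOps.nonempty_dd_eval hM fun i : Fin (Q.natDegree + 1) => Q.coeff ↑i
  exact ⟨P, Q, hne, ⟨a.symm ≪≫ (Groth.Agent.VBLib.DualOps.ddIso f).symm ≪≫ b⟩⟩

/-- Let X be a smooth proper integral curve (integral, smooth and proper of dimension one) over an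
algebraically closed field k, and E a finite locally free O_X-module of rank r. Say that a module M
is finite in the sense of Weil when there are distinct polynomials P ≠ Q with natural-number
coefficients and an isomorphism P(M) ≅ Q(M), where P(M) is the direct sum over i of P_i copies of
the i-th tensor power of M (the 0-th power being O_X). Then E is finite in this sense if and only if
its dual E^* = 𝓗om_{O_X}(E, O_X) is. -/
theorem result (k : Type u) [Field k] [IsAlgClosed k] (X : Scheme.{u}) [X.Over (Spec (CommRingCat.of k))]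
    [IsIntegral X] [IsProper (X ↘ Spec (CommRingCat.of k))] [Smooth (X ↘ Spec (CommRingCat.of k))]
    (hdim : topologicalKrullDim X = 1)
    (r : ℕ) (E : X.Modules) (hE : FlatMod.IsFinLocFreeOfRank r E) :
    (∃ P Q : Polynomial ℕ, P ≠ Q ∧ Nonempty ((∐ fun i : Fin (P.natDegree + 1) => ∐ fun _ : Fin (P.coeff ↑i) => CohB1.tensorPow E ↑i) ≅
        (∐ fun i : Fin (Q.natDegree + 1) => ∐ fun _ : Fin (Q.coeff ↑i) => CohB1.tensorPow E ↑i))) ↔
      (∃ P Q : Polynomial ℕ, P ≠ Q ∧ Nonempty ((∐ fun i : Fin (P.natDegree + 1) => ∐ fun _ : Fin (P.coeff ↑i) => CohB1.tensorPow (RefHull.dual E) ↑i) ≅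
        (∐ fun i : Fin (Q.natDegree + 1) => ∐ fun _ : Fin (Q.coeff ↑i) => CohB1.tensorPow (RefHull.dual E) ↑i))) := by
  haveI := Groth.Agent.EulerIneqLib.isNoetherian_proper (X := X) k
  obtain ⟨d⟩ := Groth.Agent.VBLib.DualOps.nonempty_dd_iso_dual (Groth.Agent.VBLib.DualDeg.flf_of_rank hE)
  refine ⟨fun h => wf_iso d (wf_dd hE h), fun h => ?_⟩
  haveI := Groth.Agent.VBLib.HomPair.isIso_bidual hE
  exact wf_iso (asIso (Groth.Agent.VBLib.HomPair.bidual E)).symm
    (wf_dd (Groth.Agent.VBLib.DualDeg.rank_dd hE) (wf_iso d.symm h))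

end Groth.Agent.S16492
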