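import Groth.Statements.S16493
import Groth.Agent.TwistShriek.OmegaBidual
import Groth.Agent.TwistShriek.SerreInv
import Groth.Agent.TwistShriek.CurveSetup
import Groth.Agent.DefExtLib.HomIso
import Groth.Agent.CurveLib.DegTensor
-- import your own Groth.Agent.* helpers here

set_option autoImplicit false
set_option backward.isDefEq.respectTransparency false
set_option maxHeartbeats 800000
set_option synthInstance.maxHeartbeats 200000
universe u
open CategoryTheory CategoryTheory.Limits AlgebraicGeometry
attribute [local instance] HasDerivedCategory.standard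
open TFCurv
open Groth.Agent Groth.Agent.TwistShriek

namespace Groth.Agent.S16493

/-- Let X be an integral proper curve (integral, proper, of dimension one) over an algebraically closed
field k, ω_X its dualizing module (the cohomology sheaf in degree -1 of f^! O for f : X → Spec k,
assuming the derived direct image Rf_* on D_QCoh and its right adjoint exist, which is how the
prelude presents f^!), and F a coherent torsion-free O_X-module of rank n (its stalk at the generic
point has dimension n over the function field). Define the degree of a module G of rank n by the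
formula deg G = χ(G) − n·χ(O_X), and the arithmetic genus by g = 1 − χ(O_X). Then the ω-dual F* =
𝓗om_{O_X}(F, ω_X) has degree deg F* = n(2g − 2) − deg F. -/
theorem result (k : Type u) [Field k] [IsAlgClosed k] (X : Scheme.{u}) [X.Over (Spec (CommRingCat.of k))]
    [IsIntegral X] [IsProper (X ↘ (Spec (CommRingCat.of k)))] (hdim : topologicalKrullDim X = 1)
    [DCoh.HasRpush (X ↘ (Spec (CommRingCat.of k)))] (h : DCoh.RpushPreservesQCoh (X ↘ (Spec (CommRingCat.of k)))) [DCoh.HasShriek (X ↘ (Spec (CommRingCat.of k))) h]
    (OY : DCoh.DQCoh (Spec (CommRingCat.of k))) (hOY : Nonempty (OY.obj ≅ DCoh.inD (Spec (CommRingCat.of k)) (Coh.structureModule (Spec (CommRingCat.of k)))))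
    (F : X.Modules) (hFc : Coh.IsCoh F) (hFt : TorSh.IsTorsionFree F) (n : ℕ)
    (hn : Module.finrank (X.presheaf.stalk (genericPoint X)) (F.presheaf.stalk (genericPoint X)) = n) :
    Curv2.deg k X (RefHull.homSh F (DCoh.dualizingMod (X ↘ (Spec (CommRingCat.of k))) h OY 1)) n =
      (n : ℤ) * (2 * (1 - Curv2.euler k X (Coh.structureModule X)) - 2) - Curv2.deg k X F n := by
    haveI : IsLocallyNoetherian X := LocallyOfFiniteType.isLocallyNoetherian (X ↘ (Spec (CommRingCat.of k)))
    let ω := DCoh.dualizingMod (X ↘ (Spec (CommRingCat.of k))) h OY 1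
    obtain ⟨hω, -⟩ := canonical_dualizingMod X k hdim h OY hOY
    obtain ⟨tr, htr, -, -⟩ := exists_pair_dualizingMod k X h OY hOY (by rw [hdim, Nat.cast_one])
    have hD : Coh.IsCoh (RefHull.homSh F ω) := HomLib.isCoh_homSh hFc hω
    haveI := hFc.1
    haveI := hD.1
    haveI := ModTensor.hasSheafHom (O := X.sheaf) F
    haveI := ModTensor.hasSheafHom (O := X.sheaf) (RefHull.homSh F ω)
    haveI := DefExtLib.isIso_toHomSh F ω
    haveI := DefExtLib.isIso_toHomSh (RefHull.homSh F ω) ω
    haveI := isIso_omegaMap X k hdim h OY hOY hFc hFt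
    have h1 := finrank_top_of_iso k htr hFc.1 (asIso (DefExtLib.toHomSh F ω)).symm
    have h2 := finrank_top_of_iso k htr hD.1
      (asIso (omegaMap F ω) ≪≫ (asIso (DefExtLib.toHomSh (RefHull.homSh F ω) ω)).symm)
    have e1 := CurveLib.euler_eq_sub (k := k) (X := X) (M := F) hdim.le
    have e2 := CurveLib.euler_eq_sub (k := k) (X := X) (M := RefHull.homSh F ω) hdim.le
    have key : Curv2.euler k X (RefHull.homSh F ω) = -Curv2.euler k X F := by
      rw [e1, e2, h1, h2]
      ring
    show Curv2.euler k X (RefHull.homSh F ω) - _ = _ * _ - (Curv2.euler k X F - _)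
    rw [key]
    ring

end Groth.Agent.S16493
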