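import Groth.Statements.S17659
import Groth.Agent.DegDevLib.Comp

set_option autoImplicit false
universe u
open CategoryTheory CategoryTheory.Limits AlgebraicGeometry
open CIDisc

namespace Groth.Agent.S17659

open CategoryTheory CategoryTheory.Limits AlgebraicGeometry

theorem dim_le_of_components {X : Scheme.{u}} (hdim : ∀ Z ∈ irreducibleComponents (X : Type u), topologicalKrullDim Z = 1) :
    topologicalKrullDim X ≤ 1 := by
  refine iSup_le fun p => ?_
  let T : Set X := (p.last : TopologicalSpace.IrreducibleCloseds X)
  obtain ⟨Z, hZ, hTZ⟩ := exists_mem_irreducibleComponents_subset_of_isIrreducible T p.last.isIrreducible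
  have hsub : ∀ i, ((p i : TopologicalSpace.IrreducibleCloseds X) : Set X) ⊆ Z := fun i =>
    (show ((p i : TopologicalSpace.IrreducibleCloseds X) : Set X) ⊆ T from p.monotone (Fin.le_last i)).trans hTZ
  let q : LTSeries (TopologicalSpace.IrreducibleCloseds Z) :=
    { length := p.length
      toFun := fun i => ⟨Subtype.val ⁻¹' (p i : Set X), by
          refine ⟨?_, fun U V hU hV h1 h2 => ?_⟩
          · obtain ⟨x, hx⟩ := (p i).isIrreducible.1
            exact ⟨⟨x, hsub i hx⟩, hx⟩
          obtain ⟨U', hU', rfl⟩ := isOpen_induced_iff.1 hU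
          obtain ⟨V', hV', rfl⟩ := isOpen_induced_iff.1 hV
          obtain ⟨a, ha, ha'⟩ := h1
          obtain ⟨b, hb, hb'⟩ := h2
          obtain ⟨c, hc, hc'⟩ := (p i).isIrreducible.2 U' V' hU' hV' ⟨a.1, ha, ha'⟩ ⟨b.1, hb, hb'⟩
          exact ⟨⟨c, hsub i hc⟩, hc, hc'⟩, (p i).isClosed.preimage continuous_subtype_val⟩
      step := fun i => by
        have hst : p i.castSucc < p i.succ := p.step i
        refine lt_of_le_of_ne (Set.preimage_mono (le_of_lt hst)) fun h => hst.ne ?_
        refine SetLike.coe_injective ?_
        have h' := congrArg (fun S : Set Z => Subtype.val '' S) h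
        simpa [Subtype.image_preimage_coe, Set.inter_eq_right.2 (hsub _)] using h' }
  exact (le_iSup (fun r : LTSeries (TopologicalSpace.IrreducibleCloseds Z) => (r.length : WithBot ℕ∞)) q).trans (hdim Z hZ).le

/-- Let X be a proper scheme over a field k all of whose irreducible components have dimension one, E a
finite locally free O_X-module of constant rank n and F a coherent O_X-module. Then χ(X, E ⊗ F) =
Σ_Z r_Z(F) · deg(E|_{Z_red}) + n · χ(X, F), the sum running over the irreducible components Z of X,
where r_Z(F) is the length of the stalk of F at the generic point ξ_Z of Z as a module over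
O_{X,ξ_Z}, and Z_red is Z with its reduced induced structure (the closed subscheme cut out by the
radical of the ideal of the component). The Noetherian hypothesis on X is a consequence of
properness over k and is stated for convenience. -/
theorem result (k : Type u) [Field k] (X : Scheme.{u}) [X.Over (Spec (CommRingCat.of k))]
    [IsProper (X ↘ (Spec (CommRingCat.of k)))] [IsNoetherian X]
    (hdim : ∀ Z ∈ irreducibleComponents (X : Type u), topologicalKrullDim Z = 1)
    (n : ℕ) (E : X.Modules) (hE : FlatMod.IsFinLocFreeOfRank n E) (F : X.Modules) (hF : Coh.IsCoh F) :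
    Curv2.euler k X (CohB1.tensorMod E F) =
      (∑ᶠ Z : irreducibleComponents (X : Type u),
        ((Module.length (X.presheaf.stalk Z.2.1.genericPoint) (F.presheaf.stalk Z.2.1.genericPoint)).toNat : ℤ) *
          @Curv2.deg k _ (X.irreducibleComponentIdeal Z.1 Z.2).radical.subscheme
            ⟨(X.irreducibleComponentIdeal Z.1 Z.2).radical.subschemeι ≫ (X ↘ (Spec (CommRingCat.of k)))⟩
            ((Scheme.Modules.pullback (X.irreducibleComponentIdeal Z.1 Z.2).radical.subschemeι).obj E) n) +
        (n : ℤ) * Curv2.euler k X F := by
  classical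
  have hd := dim_le_of_components hdim
  have h := DegDevLib.twEuler_components k hd hE hF
  rw [DegDevLib.twEuler, CurveLib.euler_iso (K := k) (CurveLib.tmodComm F E), sub_eq_iff_eq_add] at h
  change Curv2.euler k X (CohB1.tensorMod E F) = _ at h
  refine h.trans (congrArg (· + _) (finsum_congr fun Z => ?_))
  rw [if_pos (hdim Z.1 Z.2)]

end Groth.Agent.S17659
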