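import Groth.Statements.S16497
import Groth.Agent.FrobNodeLib.Local
import Groth.Agent.FrobNodeLib.Cech
import Groth.Agent.PicCurveLib.Generic
import Groth.Agent.PicInfLib.Thicken
import Groth.Agent.S17659

set_option autoImplicit false
universe u
open CategoryTheory CategoryTheory.Limits AlgebraicGeometry Opposite
open Curves

namespace Groth.Agent.S16497

open CategoryTheory CategoryTheory.Limits AlgebraicGeometry

open TopologicalSpace Opposite Groth.Agent


/-- Let p be a prime, k an algebraically closed field with char k = p, and C a semi-stable curve over k,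
that is, C is reduced, proper over k and connected, every irreducible component of C has dimension
one, and the singularities of C are at worst nodal. Let π : C' → C be the normalisation of C, given
here as a finite morphism from a scheme all of whose local rings are integrally closed domains which
is an isomorphism over a dense open subset of C with dense preimage. Let φ and φ' be the
endomorphisms of the abelian sheaves underlying O_C and O_{C'} that raise sections to the p-th power
(they are pinned by this property). Call C ordinary when the additive map induced by φ on H^1(C,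
O_C) is bijective; for a proper curve over an algebraically closed field this is the same as asking
that the semisimple part of this p-linear endomorphism be all of H^1(C, O_C), and for a smooth curve
it is the classical notion (maximal p-rank of the Jacobian). Then C is ordinary precisely when the
map induced by φ' on H^1(C', O_{C'}) is bijective, i.e. if and only if every irreducible component
of the normalisation (a smooth proper curve) is ordinary, H^1(C', O_{C'}) being the direct sum of
the H^1 of the components. -/
theorem result (k : Type u) [Field k] [IsAlgClosed k]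
    (p : ℕ) [Fact p.Prime] [CharP k p]
    (C : Scheme.{u}) [C.Over (Spec (CommRingCat.of k))] [IsReduced C] [IsProper (C ↘ Spec (CommRingCat.of k))]
    [ConnectedSpace ↥C] (hdim : ∀ Z ∈ irreducibleComponents (C : Type u), topologicalKrullDim Z = 1)
    (hnod : Curv2.AtWorstNodal k C)
    (C' : Scheme.{u}) (π : C' ⟶ C) [IsFinite π] (hC' : Pi1.IsNormalScheme C')
    (U : C.Opens) (hU : Dense (U : Set C)) (hU' : Dense ((π ⁻¹ᵁ U : C'.Opens) : Set C')) (hπU : IsIso (π ∣_ U))
    (φ : Coh.toAb (Coh.structureModule C) ⟶ Coh.toAb (Coh.structureModule C))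
    (hφ : ∀ (V : C.Opens) (s : Γ(C, V)), (φ.hom.app (op V)).hom s = s ^ p)
    (φ' : Coh.toAb (Coh.structureModule C') ⟶ Coh.toAb (Coh.structureModule C'))
    (hφ' : ∀ (V : C'.Opens) (s : Γ(C', V)), (φ'.hom.app (op V)).hom s = s ^ p) :
    Function.Bijective (Sheaf.H.map φ 1) ↔ Function.Bijective (Sheaf.H.map φ' 1) := by
  haveI : Surjective π := ⟨by
    have hdense : DenseRange π := by
      refine hU.mono fun y hy => ?_
      obtain ⟨z, hz⟩ := (π ∣_ U).surjective ⟨y, hy⟩
      refine ⟨z.1, ?_⟩
      have h1 := congrArg (fun w : ↥(U : Scheme.{u}) => U.ι w) hz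
      rw [← Scheme.Hom.comp_apply, morphismRestrict_ι, Scheme.Hom.comp_apply] at h1
      exact h1
    intro y
    have hcl := π.isClosedMap.isClosed_range
    show y ∈ Set.range π
    rw [← hcl.closure_eq]
    exact hdense y⟩
  haveI : _root_.AlgebraicGeometry.IsReduced C' := by
    haveI : ∀ x : C', _root_.IsReduced (C'.presheaf.stalk x) := fun x => by
      haveI := (hC' x).1
      infer_instance
    exact isReduced_of_isReduced_stalk C'
  letI : C'.Over (Spec (CommRingCat.of k)) := ⟨π ≫ C ↘ Spec (CommRingCat.of k)⟩
  haveI : IsProper (C' ↘ Spec (CommRingCat.of k)) :=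
    inferInstanceAs (IsProper (π ≫ C ↘ Spec (CommRingCat.of k)))
  haveI : CompactSpace C := QuasiCompact.compactSpace_of_compactSpace (C ↘ Spec (CommRingCat.of k))
  haveI := LocallyOfFiniteType.isLocallyNoetherian (C ↘ Spec (CommRingCat.of k))
  haveI : IsNoetherian C := {}
  have hd := S17659.dim_le_of_components hdim
  have hbad : ∀ x : C, x ∉ U → IsClosed ({x} : Set C) := fun x hx =>
    PicCurveLib.isClosed_singleton_of_notMem_genPts hd fun h => hx (PicCurveLib.mem_of_dense h hU)
  have hfin : ((U : Set C)ᶜ).Finite := PicCurveLib.finite_of_isClosed U.2.isClosed_compl hbad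
  -- the covering
  have hcl : ∀ x : C, IsClosed ((U : Set C)ᶜ \ {x}) := fun x => by
    rw [← Set.biUnion_of_singleton ((U : Set C)ᶜ \ {x})]
    exact hfin.sdiff.isClosed_biUnion fun y hy => hbad y hy.1
  choose V hV hxV hVsub using fun x : C =>
    exists_isAffineOpen_mem_and_subset (X := C) (U := ⟨((U : Set C)ᶜ \ {x})ᶜ, (hcl x).isOpen_compl⟩) (x := x)
      (fun h => h.2 rfl)
  have hVU : ∀ x, ∀ y ∈ V x, y ∈ U ∨ y = x := fun x y hy => by
    by_contra hne
    push Not at hne
    exact hVsub x hy ⟨hne.1, hne.2⟩
  haveI : IsSeparated (C ↘ Spec (CommRingCat.of k)) := inferInstance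
  haveI : C.IsSeparated := ⟨by
    have : terminal.from C = (C ↘ Spec (CommRingCat.of k)) ≫ terminal.from _ := terminal.hom_ext _ _
    rw [this]; infer_instance⟩
  have hinter : ∀ (n : ℕ) (i : Fin (n + 1) → C), IsAffineOpen (CohBase.inter V i) := fun n i =>
    IsAffineOpen.iInf fun a => hV (i a)
  have hA : CohBase.Acyclic V (FrobNodeLib.O C) := CohBase.acyclic_of_affine _ _ hinter
  have hA' : CohBase.Acyclic (FrobNodeLib.pV π V) (FrobNodeLib.O C') := CohBase.acyclic_of_affine _ _ fun n i => by
    rw [FrobNodeLib.inter_pV]
    exact (hinter n i).preimage π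
  refine FrobNodeLib.bijective_iff π V (fun W => FrobNodeLib.app_injective π W) (fun W a b hab ha hb => ?_) p φ φ' hφ hφ'
    (fun x _ => Opens.mem_iSup.2 ⟨x, hxV x⟩) hA hA' (fun x b r hr => ?_) (fun x b => ?_) ?_
  · refine FrobNodeLib.app_bijective_of_le π (U := U) fun y hy => ?_
    rcases hVU a y (ha hy) with h | rfl
    · exact h
    · exact (hVU b y (hb hy)).resolve_right hab
  · by_cases hxU : x ∈ U
    · exact (FrobNodeLib.app_bijective_of_le π (U := U) (fun y hy => (hVU x y hy).elim id fun h => h ▸ hxU)).2 b
    · exact (FrobNodeLib.local_frob p π hU hU' (hV x) (hbad x hxU) (hxV x) hxU (hnod x (hbad x hxU)) (hVU x)).1 b r hr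
  · by_cases hxU : x ∈ U
    · obtain ⟨r, hr⟩ := (FrobNodeLib.app_bijective_of_le π (U := U) (fun y hy => (hVU x y hy).elim id fun h => h ▸ hxU)).2 b
      exact ⟨0, r, by rw [zero_pow (Fact.out : p.Prime).ne_zero, zero_add, hr]⟩
    · exact (FrobNodeLib.local_frob p π hU hU' (hV x) (hbad x hxU) (hxV x) hxU (hnod x (hbad x hxU)) (hVU x)).2 b
  · intro g
    let σ : k →+* Γ(C', ⊤) := ((Scheme.ΓSpecIso (CommRingCat.of k)).inv ≫ (C' ↘ Spec (CommRingCat.of k)).appTop).hom
    letI : Algebra k Γ(C', ⊤) := σ.toAlgebra
    haveI : Module.Finite k Γ(C', ⊤) := by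
      have h1 : σ.Finite := (PicInf.finite_appTop (C' ↘ Spec (CommRingCat.of k))).comp
        (RingHom.Finite.of_surjective _ (Scheme.ΓSpecIso (CommRingCat.of k)).symm.commRingCatIsoToRingEquiv.surjective)
      exact h1
    haveI : _root_.IsReduced Γ(C', ⊤) := IsReduced.component_reduced ⊤
    exact FrobNodeLib.pow_surjective (k := k) p g

end Groth.Agent.S16497
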