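import Groth.Statements.S16500
import Mathlib

set_option autoImplicit false
universe u
open Curves

namespace Groth.Agent.S16500

open CategoryTheory CategoryTheory.Limits AlgebraicGeometry

open Polynomial in
theorem reflect_pow {R : Type*} [CommRing R] (f : R[X]) (N : ℕ) (hf : f.natDegree ≤ N) :
    ∀ m, (reflect N f) ^ m = reflect (m * N) (f ^ m)
  | 0 => by simp
  | m + 1 => by
    rw [pow_succ, pow_succ, reflect_pow f N hf m, add_mul, one_mul,
      reflect_mul (f ^ m) f (natDegree_pow_le.trans (Nat.mul_le_mul_left _ hf)) hf]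


/-- Let k be a field of odd characteristic p, g ≤ p a natural number and f ∈ k[x] of degree at most 2g +
2. Let F be f with its coefficients reversed in degrees 0, …, 2g + 2, i.e. F(X) = X^(2g+2) f(1/X)
(Mathlib's reflect (2g+2) f), and write f^((p-1)/2) = Σ_l c_l x^l and F^((p-1)/2) = Σ_l C_l X^l.
Then C_{ip-j} = c_{(g+1-i)p-(g+1-j)} for all i, j = 1, …, g; that is, the g × g Cartier–Manin matrix
of F is that of f with the order of both rows and columns reversed (below the indices run over Fin
g, the entry at (i, j) being the coefficient of degree (i+1)p-(j+1), and reversal is Fin.rev). In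
particular the two matrices have the same determinant. (The source applies this to f with f(0) = 0,
separable of degree 2g + 2 over a perfect field, so that F has odd degree 2g + 1; the identity uses
none of that.) -/
theorem result (k : Type u) [Field k] (p : ℕ) [Fact p.Prime] (hp : p ≠ 2) [CharP k p]
    (g : ℕ) (hg : g ≤ p) (f : Polynomial k) (hf : f.natDegree ≤ 2 * g + 2) :
    (Matrix.of fun i j : Fin g =>
        ((Polynomial.reflect (2 * g + 2) f) ^ ((p - 1) / 2)).coeff (((i : ℕ) + 1) * p - ((j : ℕ) + 1))) =
      Matrix.of fun i j : Fin g =>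
        (f ^ ((p - 1) / 2)).coeff (((Fin.rev i : ℕ) + 1) * p - ((Fin.rev j : ℕ) + 1)) := by
  have hpo : p % 2 = 1 := by
    rcases (Fact.out : p.Prime).eq_two_or_odd with h | h
    · exact absurd h hp
    · exact h
  ext i j
  have hi := i.2
  have hj := j.2
  simp only [Matrix.of_apply, reflect_pow f _ hf, Polynomial.coeff_reflect, Fin.val_rev]
  have hN : (p - 1) / 2 * (2 * g + 2) = (g + 1) * (p - 1) := by
    have : (p - 1) / 2 * 2 = p - 1 := by omega
    nlinarith
  have e1 : (g + 1) * (p - 1) + (g + 1) = (g + 1) * p := by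
    rw [← Nat.mul_succ, Nat.succ_eq_add_one, Nat.sub_add_cancel (Fact.out : p.Prime).pos]
  have e2 : (g - ((i : ℕ) + 1) + 1) * p + ((i : ℕ) + 1) * p = (g + 1) * p := by
    rw [← Nat.add_mul]
    congr 1
    omega
  have h1 : p ≤ ((i : ℕ) + 1) * p := Nat.le_mul_of_pos_left p (by omega)
  have h2 : p ≤ (g - ((i : ℕ) + 1) + 1) * p := Nat.le_mul_of_pos_left p (by omega)
  rw [hN, Polynomial.revAt_le (by omega)]
  congr 1
  omega

end Groth.Agent.S16500
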