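import Groth.Statements.S16501
import Groth.Agent.HenselNewton.Basic
import Groth.Agent.FiniteCompleteLib.Basic
open IsLocalRing Polynomial Groth.Agent.HenselNewton
-- import your own Groth.Agent.* helpers here

set_option autoImplicit false
universe u
open Hensel

namespace Groth.Agent.S16501

/-- Let A be a complete discrete valuation ring with uniformizer ϖ and fraction field K, let L be a
finite separable extension of K and B the integral closure of A in L. There is a positive integer m₀
such that for every discrete valuation ring C that is a module-finite A-algebra, B ≅ C as A-algebras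
if and only if B/ϖ^m B ≅ C/ϖ^m C as A-algebras for some m > m₀. (Finiteness of L over K is implicit
in the source, which takes a primitive element.) -/
theorem result
    (A : Type u) [CommRing A] [IsDomain A] [IsDiscreteValuationRing A]
    [IsAdicComplete (IsLocalRing.maximalIdeal A) A] (ϖ : A) (hϖ : Irreducible ϖ)
    (K : Type u) [Field K] [Algebra A K] [IsFractionRing A K]
    (L : Type u) [Field L] [Algebra K L] [Algebra A L] [IsScalarTower A K L]
    [FiniteDimensional K L] [Algebra.IsSeparable K L]
    (B : Type u) [CommRing B] [Algebra A B] [Algebra B L] [IsScalarTower A B L]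
    [IsIntegralClosure B A L] :
    ∃ m₀ : ℕ, 0 < m₀ ∧ ∀ (C : Type u) [CommRing C] [IsDomain C] [IsDiscreteValuationRing C]
      [Algebra A C] [Module.Finite A C],
      Nonempty (B ≃ₐ[A] C) ↔ ∃ m : ℕ, m₀ < m ∧
        Nonempty ((B ⧸ Ideal.span {algebraMap A B (ϖ ^ m)}) ≃ₐ[A]
          (C ⧸ Ideal.span {algebraMap A C (ϖ ^ m)})) := by

  classical
  haveI hBfin : Module.Finite A B := IsIntegralClosure.finite A K L B
  haveI : IsDomain B := (IsIntegralClosure.algebraMap_injective B A L).isDomain
  haveI : Module.IsTorsionFree A L := by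
    rw [Module.isTorsionFree_iff_algebraMap_injective, IsScalarTower.algebraMap_eq A K L]
    exact (algebraMap K L).injective.comp (IsFractionRing.injective A K)
  haveI : Module.IsTorsionFree A B := by
    rw [Module.isTorsionFree_iff_algebraMap_injective]
    intro a b h
    have : algebraMap A L a = algebraMap A L b := by
      rw [IsScalarTower.algebraMap_apply A B L, h, ← IsScalarTower.algebraMap_apply]
    rw [IsScalarTower.algebraMap_apply A K L, IsScalarTower.algebraMap_apply A K L b] at this
    exact IsFractionRing.injective A K ((algebraMap K L).injective this)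
  haveI : Algebra.IsIntegral A B := Algebra.IsIntegral.of_finite A B
  obtain ⟨θ, hθ⟩ := Field.exists_primitive_element K L
  obtain ⟨a₀, ha₀, hint⟩ := exists_integral_multiples A K {θ}
  have hαint := hint θ (Finset.mem_singleton_self θ)
  obtain ⟨α, hα⟩ := (IsIntegralClosure.isIntegral_iff (R := A) (A := B) (B := L)).mp hαint
  have htop : IntermediateField.adjoin K ({algebraMap B L α} : Set L) = ⊤ := by
    rw [eq_top_iff, ← hθ, IntermediateField.adjoin_simple_le_iff, hα, Algebra.smul_def,
      IsScalarTower.algebraMap_apply A K L]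
    have hne : algebraMap A K a₀ ≠ 0 :=
      fun h => ha₀ (IsFractionRing.injective A K (h.trans (map_zero _).symm))
    set a : K := algebraMap A K a₀ with ha
    have hθeq : θ = a⁻¹ • (algebraMap K L a * θ) := by
      rw [← Algebra.smul_def, smul_smul, inv_mul_cancel₀ hne, one_smul]
    have hmem := IntermediateField.smul_mem _ (IntermediateField.mem_adjoin_simple_self K (algebraMap K L a * θ)) (x := a⁻¹)
    rw [← hθeq] at hmem
    exact hmem
  let g : A[X] := minpoly A α
  have hgL : minpoly K (algebraMap B L α) = g.map (algebraMap A K) := by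
    have h1 : minpoly A α = minpoly A (algebraMap B L α) :=
      (minpoly.algebraMap_eq (IsIntegralClosure.algebraMap_injective B A L) α).symm
    simp only [g, h1]
    exact minpoly.isIntegrallyClosed_eq_field_fractions' K (by rw [hα]; exact hαint)
  have hd : aeval α g.derivative ≠ 0 := by
    intro h
    have hsep : (minpoly K (algebraMap B L α)).Separable := Algebra.IsSeparable.isSeparable K _
    refine hsep.aeval_derivative_ne_zero (minpoly.aeval K (algebraMap B L α)) ?_
    rw [hgL, derivative_map, aeval_map_algebraMap, aeval_algebraMap_apply, h, map_zero]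
  obtain ⟨a₁, ha₁, ha₁0⟩ : ∃ a ∈ (Ideal.span {aeval α g.derivative}).comap (algebraMap A B), a ≠ 0 := by
    have := Ideal.comap_ne_bot_of_integral_mem (R := A) (I := Ideal.span {aeval α g.derivative}) hd
      (Ideal.mem_span_singleton_self _) (Algebra.IsIntegral.isIntegral _)
    exact Submodule.exists_mem_ne_zero_of_ne_bot this
  obtain ⟨N, u, hu⟩ := IsDiscreteValuationRing.eq_unit_mul_pow_irreducible ha₁0 hϖ
  obtain ⟨β, hβ⟩ : ∃ β : B, aeval α g.derivative * β = algebraMap A B (ϖ ^ N) := by
    obtain ⟨β, hβ⟩ := Ideal.mem_span_singleton.mp (Ideal.mem_comap.mp ha₁)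
    refine ⟨β * algebraMap A B ↑u⁻¹, ?_⟩
    rw [← mul_assoc, ← hβ, ← map_mul, hu, mul_right_comm, Units.mul_inv, one_mul]
  refine ⟨2 * N + 1, Nat.succ_pos _, ?_⟩
  intro C _ _ _ _ _
  constructor
  · rintro ⟨e⟩
    refine ⟨2 * N + 2, Nat.lt_succ_self _, ⟨Ideal.quotientEquivAlg _ _ e ?_⟩⟩
    simp [Ideal.map_span, Set.image_singleton]
  rintro ⟨m, hm, ⟨e⟩⟩
  have hinjC : Function.Injective (algebraMap A C) := by
    rw [injective_iff_map_eq_zero]
    by_contra hc
    push Not at hc
    obtain ⟨a, ha, ha0⟩ := hc
    obtain ⟨k, v, hk⟩ := IsDiscreteValuationRing.eq_unit_mul_pow_irreducible ha0 hϖ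
    have hk0 : algebraMap A C ϖ = 0 := by
      rw [hk, map_mul, map_pow, (v.isUnit.map (algebraMap A C)).mul_right_eq_zero] at ha
      exact eq_zero_of_pow_eq_zero ha
    let φ : (A ⧸ maximalIdeal A) →+* C := Ideal.Quotient.lift _ (algebraMap A C) fun x hx => by
      rw [hϖ.maximalIdeal_eq, Ideal.mem_span_singleton] at hx
      obtain ⟨y, rfl⟩ := hx
      rw [map_mul, hk0, zero_mul]
    letI := φ.toAlgebra
    haveI : IsScalarTower A (A ⧸ maximalIdeal A) C := IsScalarTower.of_algebraMap_eq fun _ => rfl
    haveI : Module.Finite (A ⧸ maximalIdeal A) C := Module.Finite.of_restrictScalars_finite A _ C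
    letI : Field (A ⧸ maximalIdeal A) := Ideal.Quotient.field _
    exact IsDiscreteValuationRing.not_isField C (isField_of_isIntegral_of_isField' (R := A ⧸ maximalIdeal A) (Field.toIsField _))
  haveI : Module.IsTorsionFree A C := Module.isTorsionFree_iff_algebraMap_injective.mpr hinjC
  haveI : Algebra.IsIntegral A C := Algebra.IsIntegral.of_finite A C
  set p : C := algebraMap A C ϖ with hp
  have hp0 : p ≠ 0 := fun h => hϖ.ne_zero (hinjC (h.trans (map_zero _).symm))
  haveI : IsAdicComplete (Ideal.span {p}) C := by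
    haveI : IsAdicComplete (maximalIdeal A) C := FiniteCompleteLib.isAdicComplete_of_finite _ C
    have := (IsAdicComplete.map_algebraMap_iff (maximalIdeal A) C (S := C)).2 (inferInstance : IsAdicComplete (maximalIdeal A) C)
    rwa [hϖ.maximalIdeal_eq, Ideal.map_span, Set.image_singleton] at this
  obtain ⟨c, hc⟩ := Ideal.Quotient.mk_surjective (e (Ideal.Quotient.mk _ α))
  obtain ⟨γ, hγ⟩ := Ideal.Quotient.mk_surjective (e (Ideal.Quotient.mk _ β))
  have hmk : ∀ (f : A[X]), Ideal.Quotient.mk (Ideal.span {algebraMap A C (ϖ ^ m)}) (aeval c f) =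
      e (Ideal.Quotient.mk _ (aeval α f)) := by
    intro f
    rw [← Ideal.Quotient.mkₐ_eq_mk A, ← aeval_algHom_apply, Ideal.Quotient.mkₐ_eq_mk, hc,
      ← Ideal.Quotient.mkₐ_eq_mk A, ← aeval_algHom_apply, aeval_algHom_apply]
  obtain ⟨t, ht⟩ : p ^ m ∣ aeval c g := by
    rw [hp, ← map_pow, ← Ideal.mem_span_singleton, ← Ideal.Quotient.eq_zero_iff_mem, hmk]
    simp [g]
  obtain ⟨t', ht'⟩ : p ^ m ∣ aeval c g.derivative * γ - p ^ N := by
    have hpN : p ^ N = algebraMap A C (ϖ ^ N) := by rw [hp, map_pow]
    rw [hpN, show p ^ m = algebraMap A C (ϖ ^ m) by rw [hp, map_pow], ← Ideal.mem_span_singleton,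
      ← Ideal.Quotient.eq_zero_iff_mem, map_sub, map_mul, hmk, hγ, ← map_mul, ← map_mul, hβ,
      sub_eq_zero, Ideal.Quotient.mk_algebraMap, AlgEquiv.commutes, Ideal.Quotient.mk_algebraMap]
  obtain ⟨k, rfl⟩ : ∃ k, m = 2 * N + 1 + k := Nat.exists_eq_add_of_le hm.le
  have hpu : IsUnit (1 + p ^ (N + 1 + k) * t') := by
    have : p ^ (N + 1 + k) * t' ∈ (⊥ : Ideal C).jacobson := by
      refine HenselianRing.jac (I := Ideal.span {p}) ?_
      refine Ideal.mul_mem_right _ _ (Ideal.pow_mem_of_mem _ (Ideal.mem_span_singleton_self p) _ (by omega))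
    rw [add_comm]
    simpa using Ideal.mem_jacobson_bot.mp this 1
  obtain ⟨v, hv⟩ := hpu
  set d : C := aeval c g.derivative with hdC
  have hdN : p ^ N = d * (γ * ↑v⁻¹) := by
    have hvv : (↑v : C) * ↑v⁻¹ = 1 := Units.mul_inv v
    have hpe : p ^ (2 * N + 1 + k) = p ^ N * p ^ (N + 1 + k) := by rw [← pow_add]; congr 1; omega
    linear_combination -(↑v⁻¹ : C) * ht' - (↑v⁻¹ : C) * t' * hpe + (↑v⁻¹ : C) * p ^ N * hv - p ^ N * hvv
  obtain ⟨x, hx⟩ := exists_isRoot_of_eval_eq (Ideal.span {p}) (g.map (algebraMap A C)) c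
    ((γ * ↑v⁻¹) ^ 2 * (p * p ^ k * t))
    (Ideal.mul_mem_left _ _ (Ideal.mul_mem_right _ _ (Ideal.mul_mem_right _ _ (Ideal.mem_span_singleton_self p))))
    (by
      rw [eval_map_algebraMap, derivative_map, eval_map_algebraMap, ht, ← hdC, pow_add, pow_succ, two_mul, pow_add, hdN]
      ring)
  haveI : Module.Free A B := Module.free_of_finite_type_torsion_free'
  haveI : Module.Free A C := Module.free_of_finite_type_torsion_free'
  let FC := FractionRing C
  letI : Algebra K FC := (IsFractionRing.lift (K := K) (g := algebraMap A FC)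
    ((IsFractionRing.injective C FC).comp hinjC)).toAlgebra
  haveI : IsScalarTower A K FC := IsScalarTower.of_algebraMap_eq fun a => by
    rw [RingHom.algebraMap_toAlgebra, IsFractionRing.lift_algebraMap]
  have hαK : IsIntegral K (algebraMap B L α) := Algebra.IsIntegral.isIntegral _
  have hroot : algebraMap C FC x ∈ (minpoly K (algebraMap B L α)).aroots FC := by
    rw [mem_aroots, hgL, aeval_map_algebraMap, aeval_algebraMap_apply]
    refine ⟨(minpoly.monic (Algebra.IsIntegral.isIntegral α)).map _ |>.ne_zero, ?_⟩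
    rw [IsRoot.def, eval_map_algebraMap] at hx
    rw [hx, map_zero]
  let ψ : L →ₐ[K] FC :=
    ((IntermediateField.algHomAdjoinIntegralEquiv K hαK).symm ⟨_, hroot⟩).comp
      (((IntermediateField.equivOfEq htop).trans IntermediateField.topEquiv).symm : L →ₐ[K] _)
  have hrange : ∀ b : B, ∃ z : C, algebraMap C FC z = ψ (algebraMap B L b) := by
    intro b
    refine IsIntegrallyClosed.isIntegral_iff.mp (IsIntegral.tower_top (R := A) ?_)
    exact (((Algebra.IsIntegral.isIntegral b).map (IsScalarTower.toAlgHom A B L)).map (ψ.restrictScalars A))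
  choose f hf using hrange
  have hCinj := IsFractionRing.injective C FC
  let ψB : B →ₐ[A] C :=
    { toFun := f
      map_one' := hCinj (by rw [hf, map_one, map_one, map_one])
      map_mul' := fun a b => hCinj (by rw [hf, map_mul, map_mul, map_mul, hf, hf])
      map_zero' := hCinj (by rw [hf, map_zero, map_zero, map_zero])
      map_add' := fun a b => hCinj (by rw [hf, map_add, map_add, map_add, hf, hf])
      commutes' := fun a => hCinj (by
        rw [hf, ← IsScalarTower.algebraMap_apply A B L, ← IsScalarTower.algebraMap_apply A C FC,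
          IsScalarTower.algebraMap_apply A K L, AlgHom.commutes, ← IsScalarTower.algebraMap_apply]) }
  have hψinj : Function.Injective ψB := by
    intro a b h
    have : algebraMap C FC (f a) = algebraMap C FC (f b) := congrArg (algebraMap C FC) h
    rw [hf, hf] at this
    exact IsIntegralClosure.algebraMap_injective B A L (ψ.toRingHom.injective this)
  let bB := Module.Free.chooseBasis A B
  choose w hw using fun i => Ideal.Quotient.mk_surjective (e (Ideal.Quotient.mk _ (bB i)))
  have hspan : Submodule.span A (Set.range w) = ⊤ := by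
    refine top_unique (Submodule.le_of_le_smul_of_le_jacobson_bot (I := maximalIdeal A) Module.Finite.fg_top
      (IsLocalRing.maximalIdeal_le_jacobson _) ?_)
    intro z _
    obtain ⟨b, hb⟩ := Ideal.Quotient.mk_surjective (e.symm (Ideal.Quotient.mk _ z))
    have hq : Ideal.Quotient.mk (Ideal.span {algebraMap A C (ϖ ^ (2 * N + 1 + k))}) z =
        Ideal.Quotient.mk _ (∑ i, bB.repr b i • w i) := by
      rw [← Ideal.Quotient.mkₐ_eq_mk A, map_sum]
      simp only [map_smul, Ideal.Quotient.mkₐ_eq_mk, hw]
      calc _ = e (Ideal.Quotient.mk _ b) := by rw [hb, AlgEquiv.apply_symm_apply]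
        _ = e (Ideal.Quotient.mkₐ A _ (∑ i, bB.repr b i • bB i)) := by rw [bB.sum_repr]; rfl
        _ = _ := by
          simp only [map_sum, map_smul, Ideal.Quotient.mkₐ_eq_mk]
    rw [Ideal.Quotient.mk_eq_mk_iff_sub_mem, Ideal.mem_span_singleton] at hq
    obtain ⟨q, hq⟩ := hq
    rw [show z = (∑ i, bB.repr b i • w i) + (ϖ ^ (2 * N + 1 + k)) • q by rw [Algebra.smul_def, ← hq]; ring]
    refine Submodule.add_mem_sup (Submodule.sum_mem _ fun i _ => Submodule.smul_mem _ _ (Submodule.subset_span ⟨i, rfl⟩)) ?_
    exact Submodule.smul_mem_smul (Ideal.pow_mem_of_mem _ (by rw [hϖ.maximalIdeal_eq]; exact Ideal.mem_span_singleton_self ϖ) _ (by omega)) trivial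
  have hrk : Module.finrank A C ≤ Module.finrank A B := by
    rw [Module.finrank_eq_card_chooseBasisIndex A B]
    have := finrank_span_le_card (R := A) (Set.range w)
    rw [hspan, finrank_top] at this
    exact this.trans (by rw [Set.toFinset_range]; exact Finset.card_image_le)
  have htors : ∀ z : C, ∃ a : A, a ≠ 0 ∧ ∃ b, a • z = ψB b := by
    have h1 := Submodule.finrank_quotient_add_finrank (LinearMap.range ψB.toLinearMap)
    have h2 : Module.finrank A (LinearMap.range ψB.toLinearMap) = Module.finrank A B :=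
      LinearMap.finrank_range_of_inj hψinj
    have h0 : Module.finrank A (C ⧸ LinearMap.range ψB.toLinearMap) = 0 := by omega
    intro z
    obtain ⟨a, ha, haz⟩ := Module.finrank_eq_zero_iff.mp h0 (Submodule.Quotient.mk z)
    rw [← Submodule.Quotient.mk_smul, Submodule.Quotient.mk_eq_zero] at haz
    obtain ⟨b, hb⟩ := haz
    exact ⟨a, ha, b, hb.symm⟩
  refine ⟨AlgEquiv.ofBijective ψB ⟨hψinj, fun z => ?_⟩⟩
  obtain ⟨a, ha, b, hb⟩ := htors z
  have haK : algebraMap A K a ≠ 0 := fun h => ha (IsFractionRing.injective A K (h.trans (map_zero _).symm))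
  let l : L := (algebraMap A K a)⁻¹ • algebraMap B L b
  have hl : ψ l = algebraMap C FC z := by
    simp only [l, map_smul]
    rw [← hf, inv_smul_eq_iff₀ haK]
    have := congrArg (algebraMap C FC) hb
    rw [Algebra.smul_def, map_mul, ← IsScalarTower.algebraMap_apply] at this
    rw [Algebra.smul_def, ← IsScalarTower.algebraMap_apply]
    exact this.symm
  have hlint : IsIntegral A l := by
    refine (isIntegral_algHom_iff (ψ.restrictScalars A) ψ.toRingHom.injective).mp ?_
    rw [AlgHom.restrictScalars_apply, hl]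
    exact (Algebra.IsIntegral.isIntegral z).map (IsScalarTower.toAlgHom A C FC)
  obtain ⟨b', hb'⟩ := (IsIntegralClosure.isIntegral_iff (R := A) (A := B) (B := L)).mp hlint
  exact ⟨b', hCinj (by change algebraMap C FC (f b') = _; rw [hf, hb', hl])⟩

end Groth.Agent.S16501
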