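import Groth.Statements.S16506
import Groth.Agent.C1SectLib.GeomInt
-- import your own Groth.Agent.* helpers here

set_option autoImplicit false
set_option backward.isDefEq.respectTransparency false
universe u
open CategoryTheory AlgebraicGeometry
open Curves

namespace Groth.Agent.S16506

/-- Over an algebraically closed field k, let X be a projective surface, B a smooth proper curve and π :
X → B a surjective k-morphism whose generic fibre is geometrically integral of arithmetic genus 0.
Then π has a section. -/
theorem result
    (k : Type u) [Field k] [IsAlgClosed k]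
    (X : Scheme.{u}) [X.Over (Spec (CommRingCat.of k))] [IsIntegral X] (hX2 : topologicalKrullDim X = 2)
    (hX : ∃ (N : ℕ) (ι : X ⟶ CohB1.ProjSpace N k), IsClosedImmersion ι ∧
      ι ≫ CohB1.ProjSpace.toSpec N k = X ↘ Spec (CommRingCat.of k))
    (B : Scheme.{u}) [B.Over (Spec (CommRingCat.of k))] [IsIntegral B]
    (hB : Curve.IsSmoothProperCurve k B (B ↘ Spec (CommRingCat.of k)))
    (π : X ⟶ B) (hπ : π ≫ (B ↘ Spec (CommRingCat.of k)) = X ↘ Spec (CommRingCat.of k))
    (hsurj : Function.Surjective π.base)
    [GeometricallyIntegral (π.fiberToSpecResidueField (genericPoint B))]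
    (hgen : letI : (π.fiber (genericPoint B)).Over (Spec (B.residueField (genericPoint B))) :=
        ⟨π.fiberToSpecResidueField (genericPoint B)⟩
      Curv2.genus (B.residueField (genericPoint B)) (π.fiber (genericPoint B)) = 0) :
    ∃ σ : B ⟶ X, σ ≫ π = 𝟙 B := by
  obtain ⟨hBp, hBs, -, hB1⟩ := hB
  haveI := hBp
  haveI := hBs
  obtain ⟨N, ι, hι0, hι⟩ := hX
  haveI := hι0
  haveI := Groth.Agent.ProjSerreLib.isProper_over ι hι
  haveI : IsProper (π ≫ (B ↘ Spec (CommRingCat.of k))) := hπ ▸ inferInstance
  haveI : IsProper π := IsProper.of_comp π (B ↘ Spec (CommRingCat.of k))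
  letI : (π.fiber (genericPoint B)).Over (Spec (B.residueField (genericPoint B))) :=
    ⟨π.fiberToSpecResidueField (genericPoint B)⟩
  haveI : IsProper (π.fiber (genericPoint B) ↘ Spec (CommRingCat.of (B.residueField (genericPoint B)))) :=
    MorphismProperty.pullback_snd (P := @IsProper) π (B.fromSpecResidueField (genericPoint B)) inferInstance
  haveI : GeometricallyIntegral (π.fiber (genericPoint B) ↘ Spec (CommRingCat.of (B.residueField (genericPoint B)))) :=
    inferInstanceAs (GeometricallyIntegral (π.fiberToSpecResidueField (genericPoint B)))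
  have hdim := Groth.Agent.C1SectLib.dim_genFibre k π hπ hsurj hX2 hB1
  obtain ⟨h0, hreg⟩ := Groth.Agent.C1SectLib.data_of_geomIntegral (B.residueField (genericPoint B))
    (π.fiber (genericPoint B)) hdim hgen
  exact Groth.Agent.C1SectLib.exists_section k π hπ hsurj hX2 hB1 (Groth.Agent.S1535.result k B) hreg h0 hgen

end Groth.Agent.S16506
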