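import Groth.Statements.S16507
import Groth.Agent.JetVanLib.Const
import Groth.Agent.JetVanLib.Wedge
import Groth.Agent.JetVanLib.Tensor
import Groth.Agent.KVbLib.Rank
import Groth.Agent.TwistShriek.SurfSmooth
import Groth.Agent.SeesawVB.TrivFibres

set_option autoImplicit false
universe u
open CategoryTheory AlgebraicGeometry
open Curves

namespace Groth.Agent.S16507

open CategoryTheory CategoryTheory.Limits AlgebraicGeometry

set_option backward.isDefEq.respectTransparency false
set_option backward.defeqAttrib.useBackward true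
set_option linter.style.haveILetI false

open Groth.Agent.AmpleEmb Groth.Agent.PicProjLib Groth.Agent.SplitP1Lib


/-- Over an algebraically closed field k, let X be a smooth projective variety of dimension n with a
free rational curve, that is, a nonconstant k-morphism f from the projective line such that the
twist of f^*Ω_{X/k} by O(−1) has no nonzero global sections (equivalently f^*T_X is globally
generated). Then all plurigenera of X vanish: H^0(X, ω^{⊗m}) = 0 for every m ≥ 1, ω the top exterior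
power of Ω_{X/k}. (The published hypothesis is that X is smooth, proper and separably uniruled; when
X is smooth and projective over an algebraically closed base field, a free rational curve makes X
separably uniruled, and conversely such an X carries free rational curves. This row also takes k
algebraically closed and X projective, where the published statement allows any base field and X
proper.) -/
theorem result
    (k : Type u) [Field k] [IsAlgClosed k]
    (X : Scheme.{u}) [X.Over (Spec (CommRingCat.of k))] [IsIntegral X] [Smooth (X ↘ Spec (CommRingCat.of k))]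
    (hX : ∃ (N : ℕ) (ι : X ⟶ CohB1.ProjSpace N k), IsClosedImmersion ι ∧
      ι ≫ CohB1.ProjSpace.toSpec N k = X ↘ Spec (CommRingCat.of k))
    (n : ℕ) (hn : topologicalKrullDim X = n)
    (f : CohB1.ProjSpace 1 k ⟶ X) (hf : f ≫ (X ↘ Spec (CommRingCat.of k)) = CohB1.ProjSpace.toSpec 1 k)
    (hnc : ¬ ∃ x : X, Set.range f.base ⊆ {x})
    (hfree : Subsingleton (Coh.HH (CohB1.ProjSpace 1 k)
      (CohB1.tensorMod ((Scheme.Modules.pullback f).obj (Omega.sheaf (X ↘ Spec (CommRingCat.of k)))) (Twist.twistProjSpace 1 k (-1))) 0))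
    (ω : X.Modules) (hω : ExtPow.IsExtPow n (Omega.sheaf (X ↘ Spec (CommRingCat.of k))) ω) (m : ℕ) (hm : 1 ≤ m) :
    Subsingleton (Coh.HH X (CohB1.tensorPow ω m) 0) := by
  classical
  obtain ⟨N, ι, hι, hιs⟩ := hX
  haveI := hι
  haveI : IsProper (CohB1.ProjSpace.toSpec N k) := CompleteCurve.isProper_toSpec N k
  haveI : IsProper (CohB1.ProjSpace.toSpec 1 k) := CompleteCurve.isProper_toSpec 1 k
  haveI : IsProper (X ↘ Spec (CommRingCat.of k)) := hιs ▸ inferInstance
  haveI : IsLocallyNoetherian X := LocallyOfFiniteType.isLocallyNoetherian (X ↘ Spec (CommRingCat.of k))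
  let sX := X ↘ Spec (CommRingCat.of k)
  let Ω := Omega.sheaf sX
  haveI : SmoothOfRelativeDimension n sX := TwistShriek.smoothOfRelativeDimension_of_smooth sX hn
  have hΩ : FlatMod.IsFinLocFree Ω := InfLiftLib.isFinLocFree_omega sX
  haveI : Coh.IsQCoh Ω := OmegaAffLib.isQCoh_omega sX
  haveI : Coh.IsQCoh ω := (PullbackMod.isQCoh_and_isFP_of_isFinLocFree ω (KVb.extPow_flf hΩ hω).1).1
  obtain ⟨r, d, -, had⟩ := JetVanLib.exists_adapted_pullback f hΩ
  -- the exponents are nonpositive
  have hle : ∀ a, d a ≤ 0 := fun a => by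
    obtain ⟨f₀, f₁, h₀, h₁, hdd⟩ := had
    obtain ⟨g, hg, hc⟩ := hasDeg_twist (n := 1) (R := k) one_ne_zero (-1)
    obtain ⟨c0, hc0⟩ := hc (1 : Fin 2)
    let c : Γ(CohB1.ProjSpace 1 k, stdOpen 1 k (1 : Fin 2)) := chartEquiv 1 k 1 (MvPolynomial.C ((c0 : kˣ) : k))
    have hcu : IsUnit c := (c0.isUnit.map MvPolynomial.C).map (chartEquiv 1 k 1)
    let O1 := Twist.twistProjSpace 1 k (-1)
    let G := (Scheme.Modules.pullback f).obj Ω
    haveI := hfree
    have h0 : Subsingleton Γ(DCohLib.tmod G O1, (⊤ : (CohB1.ProjSpace 1 k).Opens)) :=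
      (CurveLib.secOf (CohB1.tensorMod G O1)).symm.subsingleton
    have hneg := JetVanLib.P1.neg_of_subsingleton (d := fun b => d b + -1) h0
      (fun b => DCohLib.pairS G O1 (f₀ b) (g 0)) (fun b => DCohLib.pairS G O1 (f₁ b) (c • g 1))
      (DegDevLib.IsFrame.tensor h₀ (hg 0)) (DegDevLib.IsFrame.tensor h₁ ((hg 1).smul hcu)) (fun b => by
        have hm : γg (gen_mem 1 k) (c • g 1) = t 1 k 0 1 ^ (-1 : ℤ) • γg (gen_mem 1 k) (g 0) := by
          have h1 : γg (gen_mem 1 k) (c • g 1) = cst 1 k c0 • γ (g 1) := by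
            rw [cst, φ_C 1 k 0 1]
            exact PresheafOfModules.germ_smul (R := (CohB1.ProjSpace 1 k).presheaf) O1.val _ _ _ _ _
          rw [h1, show γg (gen_mem 1 k) (g 0) = γ (g 0) from rfl, hc0, smul_smul]
          congr 1
          rw [mul_left_comm, ← mul_zpow, t_mul, t_self, one_zpow, _root_.mul_one]
        simp only [γg] at hm hdd ⊢
        refine (AmpleLib.germ_pairS _ _ _ _).trans (Eq.trans ?_ (congrArg (t 1 k 0 1 ^ (d b + -1) • ·)
          (AmpleLib.germ_pairS _ _ _ _)).symm)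
        rw [hdd b, hm, TensorProduct.smul_tmul_smul, map_smul, zpow_add₀ (t_ne_zero 1 k 0 1)]) a
    omega
  -- the rank is the dimension
  have hr : r = n := by
    obtain ⟨f₀, f₁, h₀, h₁, hdd⟩ := had
    obtain ⟨U, s, hU, hs⟩ := SeesawVB.exists_frame_omega sX n (f (gen 1 k))
    let W := f ⁻¹ᵁ U ⊓ stdOpen 1 k (1 : Fin 2)
    have hη : gen 1 k ∈ W := ⟨hU, gen_mem 1 k⟩
    have e1 := LinearEquiv.ofBijective _ (SeesawVB.isFrame_pullMap f hs (inf_le_left : W ≤ f ⁻¹ᵁ U) (gen 1 k) hη)
    have e2 := LinearEquiv.ofBijective _ (h₁.res (inf_le_right : W ≤ stdOpen 1 k (1 : Fin 2)) (gen 1 k) hη)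
    simpa using (e2.trans e1.symm).finrank_eq
  obtain ⟨a₀, ha₀⟩ : ∃ a, d a < 0 := by
    by_contra hcon
    push Not at hcon
    have hd0 : ∀ a, d a = 0 := fun a => le_antisymm (hle a) (hcon a)
    refine hnc ⟨f (gen 1 k), ?_⟩
    rintro _ ⟨y, rfl⟩
    exact Set.mem_singleton_iff.2 (JetVanLib.Descent.constant_of_trivial f sX hf hΩ had hd0 y)
  obtain ⟨u, huq, huI⟩ := JetVanLib.exists_curveFun f had hle
  obtain ⟨θ, hθq, hθI⟩ := JetVanLib.exists_extFun_of_col hω u JetVanLib.P1.isClosed_q₀ fun L hL => by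
    have hs : Function.Surjective L := by
      subst hr
      exact Finite.surjective_of_injective hL
    obtain ⟨j, hj⟩ := hs a₀
    exact ⟨j, fun V hV s => huq (L j) (by rw [hj]; exact ha₀) V hV s⟩
  have hchart : ∀ x : X, ∃ (V : X.Opens) (n : ℕ) (e : Fin n → Γ(ω, V)), IsAffineOpen V ∧ x ∈ V ∧
      DegDevLib.IsFrame V e ∧ JetVanLib.ThInj (CohB1.ProjSpace.toSpec 1 k) θ V e (JetVanLib.P1.q₀ (k := k)) := fun x => by
    obtain ⟨V, n', e, hV, hxV, he⟩ := JetVanLib.exists_affine_frame hΩ x
    obtain ⟨n'', e', he', ht⟩ := hθI V hV e he (huI V e he)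
    exact ⟨V, n'', e', hV, hxV, he', ht⟩
  obtain ⟨κ, Θ, hΘq, hΘI⟩ := JetVanLib.exists_tensorFun θ JetVanLib.P1.isClosed_q₀ hθq hchart m
  have hall : ∀ σ : Γ(CohB1.tensorPow ω m, ⊤), σ = 0 := by
    refine JetVanLib.section_eq_zero (JetVanLib.omegaJet (k := k) u) hf Θ JetVanLib.P1.isClosed_q₀
      JetVanLib.P1.q₀_ne_gen (hΘq hm) fun x => ?_
    obtain ⟨V, n', e, hV, hxV, he⟩ := JetVanLib.exists_affine_frame hΩ x
    obtain ⟨n'', e', he', ht⟩ := hθI V hV e he (huI V e he)
    obtain ⟨n3, e'', he'', ht''⟩ := hΘI V hV e' he' ht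
    exact ⟨V, n3, e'', hV, hxV, he'', JetVanLib.inj_omegaJet hf u hV e he (huI V e he), ht''⟩
  haveI : Subsingleton Γ(CohB1.tensorPow ω m, (⊤ : X.Opens)) := ⟨fun a b => (hall a).trans (hall b).symm⟩
  exact (CurveLib.secOf (CohB1.tensorPow ω m)).subsingleton

end Groth.Agent.S16507
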