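import Groth.Statements.S16508
import Groth.Agent.JetVanLib.Curve
import Groth.Agent.JetVanLib.Wedge
import Groth.Agent.JetVanLib.Tensor
import Groth.Agent.KVbLib.Rank
import Groth.Agent.PicProjLib.Pic

set_option autoImplicit false
universe u
open CategoryTheory AlgebraicGeometry
open Curves

namespace Groth.Agent.S16508

open CategoryTheory CategoryTheory.Limits AlgebraicGeometry

set_option backward.isDefEq.respectTransparency false
set_option backward.defeqAttrib.useBackward true
set_option linter.style.haveILetI false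


/-- Over an algebraically closed field k, let X be a smooth projective variety with a very free rational
curve, that is, a nonconstant k-morphism f from the projective line with H^0(f^*Ω_{X/k}) = 0
(equivalently f^*T_X is ample). Then H^0(X, (Λ^p Ω_{X/k})^{⊗m}) = 0 for all p ≥ 1 and m ≥ 1. (The
published hypothesis is that X is smooth, proper and separably rationally connected; when X is
smooth and projective over an algebraically closed base field, a very free rational curve makes X
separably rationally connected, and conversely such an X carries very free rational curves. This row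
also takes k algebraically closed and X projective, where the published statement allows any base
field and X proper.) -/
theorem result
    (k : Type u) [Field k] [IsAlgClosed k]
    (X : Scheme.{u}) [X.Over (Spec (CommRingCat.of k))] [IsIntegral X] [Smooth (X ↘ Spec (CommRingCat.of k))]
    (hX : ∃ (N : ℕ) (ι : X ⟶ CohB1.ProjSpace N k), IsClosedImmersion ι ∧
      ι ≫ CohB1.ProjSpace.toSpec N k = X ↘ Spec (CommRingCat.of k))
    (f : CohB1.ProjSpace 1 k ⟶ X) (hf : f ≫ (X ↘ Spec (CommRingCat.of k)) = CohB1.ProjSpace.toSpec 1 k)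
    (hnc : ¬ ∃ x : X, Set.range f.base ⊆ {x})
    (hvfree : Subsingleton (Coh.HH (CohB1.ProjSpace 1 k) ((Scheme.Modules.pullback f).obj (Omega.sheaf (X ↘ Spec (CommRingCat.of k)))) 0))
    (p : ℕ) (hp : 1 ≤ p) (E : X.Modules) (hE : ExtPow.IsExtPow p (Omega.sheaf (X ↘ Spec (CommRingCat.of k))) E) (m : ℕ) (hm : 1 ≤ m) :
    Subsingleton (Coh.HH X (CohB1.tensorPow E m) 0) := by
  classical
  obtain ⟨N, ι, hι, hιs⟩ := hX
  haveI := hι
  haveI : IsProper (CohB1.ProjSpace.toSpec N k) := CompleteCurve.isProper_toSpec N k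
  haveI : IsProper (CohB1.ProjSpace.toSpec 1 k) := CompleteCurve.isProper_toSpec 1 k
  haveI : IsProper (X ↘ Spec (CommRingCat.of k)) := hιs ▸ inferInstance
  haveI : IsLocallyNoetherian X := LocallyOfFiniteType.isLocallyNoetherian (X ↘ Spec (CommRingCat.of k))
  let sX := X ↘ Spec (CommRingCat.of k)
  let Ω := Omega.sheaf sX
  have hΩ : FlatMod.IsFinLocFree Ω := InfLiftLib.isFinLocFree_omega sX
  haveI : Coh.IsQCoh Ω := OmegaAffLib.isQCoh_omega sX
  haveI : Coh.IsQCoh E := (PullbackMod.isQCoh_and_isFP_of_isFinLocFree E (KVb.extPow_flf hΩ hE).1).1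
  obtain ⟨r, d, -, had⟩ := JetVanLib.exists_adapted_pullback f hΩ
  have hneg : ∀ a, d a < 0 := by
    obtain ⟨f₀, f₁, h₀, h₁, hdd⟩ := had
    haveI := hvfree
    exact JetVanLib.P1.neg_of_subsingleton (CurveLib.secOf _).symm.subsingleton f₀ f₁ h₀ h₁ hdd
  obtain ⟨u, huq, huI⟩ := JetVanLib.exists_curveFun f had fun a => (hneg a).le
  obtain ⟨θ, hθq, hθI⟩ := JetVanLib.exists_extFun hp hE u JetVanLib.P1.isClosed_q₀
    fun L V hV s => huq L (hneg L) V hV s
  have hchart : ∀ x : X, ∃ (V : X.Opens) (n : ℕ) (e : Fin n → Γ(E, V)), IsAffineOpen V ∧ x ∈ V ∧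
      DegDevLib.IsFrame V e ∧ JetVanLib.ThInj (CohB1.ProjSpace.toSpec 1 k) θ V e (JetVanLib.P1.q₀ (k := k)) := fun x => by
    obtain ⟨V, n, e, hV, hxV, he⟩ := JetVanLib.exists_affine_frame hΩ x
    obtain ⟨n', e', he', ht⟩ := hθI V hV e he (huI V e he)
    exact ⟨V, n', e', hV, hxV, he', ht⟩
  obtain ⟨κ, Θ, hΘq, hΘI⟩ := JetVanLib.exists_tensorFun θ JetVanLib.P1.isClosed_q₀ hθq hchart m
  have hall : ∀ σ : Γ(CohB1.tensorPow E m, ⊤), σ = 0 := by
    refine JetVanLib.section_eq_zero (JetVanLib.omegaJet (k := k) u) hf Θ JetVanLib.P1.isClosed_q₀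
      JetVanLib.P1.q₀_ne_gen (hΘq hm) fun x => ?_
    obtain ⟨V, n, e, hV, hxV, he⟩ := JetVanLib.exists_affine_frame hΩ x
    obtain ⟨n', e', he', ht⟩ := hθI V hV e he (huI V e he)
    obtain ⟨n'', e'', he'', ht''⟩ := hΘI V hV e' he' ht
    exact ⟨V, n'', e'', hV, hxV, he'', JetVanLib.inj_omegaJet hf u hV e he (huI V e he), ht''⟩
  haveI : Subsingleton Γ(CohB1.tensorPow E m, (⊤ : X.Opens)) := ⟨fun a b => (hall a).trans (hall b).symm⟩
  exact (CurveLib.secOf (CohB1.tensorPow E m)).subsingleton

end Groth.Agent.S16508
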