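import Groth.Statements.S16509
import Groth.Agent.RuledExcLib.Extend

set_option autoImplicit false
universe u
open CategoryTheory AlgebraicGeometry
open Curves

namespace Groth.Agent.S16509

set_option backward.isDefEq.respectTransparency false

/-- Over an algebraically closed field k, let f : Y → X be a birational k-morphism from a projective
variety to a smooth projective variety, and let Exc(f) be its exceptional locus, the set of points
of Y over no neighbourhood of whose image f restricts to an isomorphism. Then through a general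
point of each component of Exc(f) there is a rational curve contracted by f: some subset of Exc(f),
open and dense in it, consists of points each of whose closed points lies on the image of a
nonconstant k-morphism from the projective line that f maps to a single point. (The base field is
taken algebraically closed here.) -/
theorem result
    (k : Type u) [Field k] [IsAlgClosed k]
    (Y : Scheme.{u}) [Y.Over (Spec (CommRingCat.of k))] [IsIntegral Y]
    (hY : ∃ (n : ℕ) (ι : Y ⟶ CohB1.ProjSpace n k), IsClosedImmersion ι ∧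
      ι ≫ CohB1.ProjSpace.toSpec n k = Y ↘ Spec (CommRingCat.of k))
    (X : Scheme.{u}) [X.Over (Spec (CommRingCat.of k))] [IsIntegral X] [Smooth (X ↘ Spec (CommRingCat.of k))]
    (hX : ∃ (n : ℕ) (ι : X ⟶ CohB1.ProjSpace n k), IsClosedImmersion ι ∧
      ι ≫ CohB1.ProjSpace.toSpec n k = X ↘ Spec (CommRingCat.of k))
    (f : Y ⟶ X) (hf : f ≫ (X ↘ Spec (CommRingCat.of k)) = Y ↘ Spec (CommRingCat.of k))
    (hbir : ∃ V : X.Opens, (V : Set X).Nonempty ∧ IsIso (f ∣_ V))
    (Exc : Set Y) (hExc : Exc = {y : Y | ∀ V : X.Opens, f.base y ∈ V → ¬ IsIso (f ∣_ V)}) :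
    ∃ O : Set Y, O ⊆ Exc ∧ IsOpen (Subtype.val ⁻¹' O : Set Exc) ∧ Dense (Subtype.val ⁻¹' O : Set Exc) ∧
      ∀ y ∈ O, IsClosed ({y} : Set Y) → ∃ g : CohB1.ProjSpace 1 k ⟶ Y,
        g ≫ (Y ↘ Spec (CommRingCat.of k)) = CohB1.ProjSpace.toSpec 1 k ∧
        (¬ ∃ z : Y, Set.range g.base ⊆ {z}) ∧ y ∈ Set.range g.base ∧
        ∃ x : X, Set.range (g ≫ f).base ⊆ {x} := by
  classical
  obtain ⟨n, ι, hι, hιY⟩ := hY
  obtain ⟨m, ι', hι', hιX⟩ := hX
  haveI : IsProper (Y ↘ Spec (CommRingCat.of k)) := by rw [← hιY]; infer_instance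
  haveI : IsProper (X ↘ Spec (CommRingCat.of k)) := by rw [← hιX]; infer_instance
  haveI : IsNoetherian Y :=
    { toIsLocallyNoetherian := LocallyOfFiniteType.isLocallyNoetherian (Y ↘ Spec (CommRingCat.of k))
      toCompactSpace := QuasiCompact.compactSpace_of_compactSpace (Y ↘ Spec (CommRingCat.of k)) }
  obtain ⟨W, hW, hWiso⟩ := hbir
  obtain ⟨hgen, hst⟩ := Groth.Agent.BirQFLib.birational_of_isIso_restrict f W hW hWiso
  have hngen : genericPoint Y ∉ Groth.Agent.RuledExcLib.excSet f := fun h => h W (hgen.symm ▸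
    (genericPoint_specializes hW.some).mem_open W.2 hW.some_mem) hWiso
  have hE : Exc = Groth.Agent.RuledExcLib.excSet f := hExc
  subst hE
  let E := Groth.Agent.RuledExcLib.excSet f
  obtain ⟨hfin, hgenpts⟩ := Groth.Agent.RuledExcLib.exists_maximal_points (Groth.Agent.RuledExcLib.isClosed_excSet f)
  let G : Set Y := {η | η ∈ E ∧ ∀ η' ∈ E, η' ⤳ η → η' = η}
  have hlines := fun η : G => Groth.Agent.RuledExcLib.exists_lines_through_component (Y ↘ Spec (CommRingCat.of k))
    (X ↘ Spec (CommRingCat.of k)) (Groth.Agent.RuledExcLib.regular_of_smooth (X ↘ Spec (CommRingCat.of k))) f hf hgen hst hngen η.1 η.2.1 η.2.2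
  choose O hηO hO using hlines
  let other : G → Set Y := fun η => ⋃ η' ∈ G \ {η.1}, closure ({η'} : Set Y)
  let W' : Set Y := ⋃ η : G, (O η : Set Y) \ other η
  have hW' : IsOpen W' := isOpen_iUnion fun η =>
    (O η).2.sdiff ((hfin.subset Set.diff_subset).isClosed_biUnion fun _ _ => isClosed_closure)
  have hηW : ∀ η : G, η.1 ∈ W' := fun η => Set.mem_iUnion.2 ⟨η, hηO η, fun h => by
    obtain ⟨η', hη', hcl⟩ := Set.mem_iUnion₂.1 h
    exact hη'.2 (η.2.2 η' hη'.1.1 (specializes_iff_mem_closure.2 hcl))⟩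
  refine ⟨E ∩ W', Set.inter_subset_left, ?_, ?_, ?_⟩
  · have : (Subtype.val ⁻¹' (E ∩ W') : Set E) = Subtype.val ⁻¹' W' := by
      ext z
      exact ⟨fun h => h.2, fun h => ⟨z.2, h⟩⟩
    rw [this]
    exact hW'.preimage continuous_subtype_val
  · intro z
    obtain ⟨η, hη, hsp⟩ := hgenpts z.1 z.2
    have h1 : (⟨η, hη.1⟩ : E) ⤳ z := (subtype_specializes_iff _ _).2 hsp
    exact closure_mono (Set.singleton_subset_iff.2 (show (⟨η, hη.1⟩ : E) ∈ Subtype.val ⁻¹' (E ∩ W') from
      ⟨hη.1, hηW ⟨η, hη⟩⟩)) (specializes_iff_mem_closure.1 h1)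
  · rintro y ⟨hyE, hyW⟩ hyc
    obtain ⟨η, hyO, hyn⟩ := Set.mem_iUnion.1 hyW
    obtain ⟨η', hη', hsp⟩ := hgenpts y hyE
    have heq : η' = η.1 := by
      by_contra hne
      exact hyn (Set.mem_biUnion (x := η') ⟨hη', hne⟩ (specializes_iff_mem_closure.1 hsp))
    exact hO η y hyO (heq ▸ hsp) hyc

end Groth.Agent.S16509
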