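import Groth.Statements.S1651
import Groth.Agent.DeltaBCLib.Stalk
import Groth.Agent.GeomRedPtLib.Basic
import Groth.Agent.S7652


set_option autoImplicit false
universe u
open CategoryTheory CategoryTheory.Limits AlgebraicGeometry
open Variety

namespace Groth.Agent.S1651

open CategoryTheory CategoryTheory.Limits AlgebraicGeometry

open Groth.Agent
set_option backward.isDefEq.respectTransparency false
attribute [local instance] Curv2.stalkAlgebra Groth.Agent.DeltaBC.bcAlgebra


/-- Let X be locally of finite type over k, K a field extension, y a point of X_K with image x. Assume X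
is geometrically reduced at x and the local rings at x and at y both have dimension one. Then the
δ-invariant of X at x is at most the δ-invariant of X_K at y. -/
theorem result (k : Type u) [Field k] (X : Scheme.{u}) [X.Over (Spec (CommRingCat.of k))] [LocallyOfFiniteType (X ↘ (Spec (CommRingCat.of k)))] (K : Type u) [Field K] [Algebra k K]
    (y : Curv2.bc k X K) (hx : Curv2.IsGeomReducedAt k X (Curv2.bcFst k X K y))
    (hdx : ringKrullDim (X.presheaf.stalk (Curv2.bcFst k X K y)) = 1)
    (hdy : ringKrullDim ((Curv2.bc k X K).presheaf.stalk y) = 1) :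
    Curv2.deltaInv (X.presheaf.stalk (Curv2.bcFst k X K y)) ≤ Curv2.deltaInv ((Curv2.bc k X K).presheaf.stalk y) := by
  haveI : Algebra.IsGeometricallyReduced k (X.presheaf.stalk (Curv2.bcFst k X K y)) :=
    (GeomRedPtLib.isGeomReducedAt_iff _).1 hx
  haveI : _root_.IsReduced (X.presheaf.stalk (Curv2.bcFst k X K y)) :=
    Algebra.isReduced_of_isGeometricallyReduced (k := k)
  have hN := DeltaBC.isNagata_stalk k X (Curv2.bcFst k X K y)
  haveI := hN.1
  haveI : Module.Finite (X.presheaf.stalk (Curv2.bcFst k X K y)) (DeltaBC.Nor (X.presheaf.stalk (Curv2.bcFst k X K y))) :=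
    (S7652.result _ hN hdx).1
  haveI := DeltaBC.flat_bc k X K y
  haveI := DeltaBC.isNoetherianRing_bc k X K y
  exact DeltaBC.deltaInv_le


end Groth.Agent.S1651
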