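import Groth.Statements.S18452
import Groth.Agent.C1SectLib.Ruled
-- import your own Groth.Agent.* helpers here

set_option autoImplicit false
set_option backward.isDefEq.respectTransparency false
set_option backward.isDefEq.respectTransparency.types false
universe u
open CategoryTheory CategoryTheory.Limits AlgebraicGeometry TopologicalSpace
open Surf

namespace Groth.Agent.S18452

/-- Let k be an algebraically closed field, X a smooth projective surface over k (integral, proper and
smooth over k, of dimension 2), C a nonsingular complete curve over k (integral, proper over k, of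
dimension 1, with regular local rings) and π : X → C a surjective k-morphism whose fibre over every
closed point of C is isomorphic to the projective line over k, so that π : X → C is a geometrically
ruled surface. Then π admits a section: there is a morphism σ : C → X with σ followed by π equal to
the identity of C. The published statement is over the complex numbers; its algebraic proof works
over any algebraically closed field, so this row makes no characteristic assumption. -/
theorem result (k : Type u) [Field k] [IsAlgClosed k]
    (X : Scheme.{u}) [X.Over (Spec (CommRingCat.of k))] [IsProper (X ↘ (Spec (CommRingCat.of k)))]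
    [Smooth (X ↘ (Spec (CommRingCat.of k)))] [IsIntegral X] (hdim : topologicalKrullDim X = 2)
    (C : Scheme.{u}) [C.Over (Spec (CommRingCat.of k))] [IsIntegral C] [IsProper (C ↘ (Spec (CommRingCat.of k)))]
    (hdimC : topologicalKrullDim C = 1) (hregC : ∀ x : C, IsRegularLocalRing (C.presheaf.stalk x))
    (π : X ⟶ C) (hπ : π ≫ (C ↘ (Spec (CommRingCat.of k))) = (X ↘ (Spec (CommRingCat.of k))))
    (hsurj : Function.Surjective π)
    (hfib : ∀ y : C, IsClosed ({y} : Set C) → Nonempty (pullback π (C.fromSpecResidueField y) ≅ CohB1.ProjSpace 1 k)) :
    ∃ σ : C ⟶ X, σ ≫ π = 𝟙 C := by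
  haveI := Groth.Agent.RuledPushLib.isProper_map k π hπ
  obtain ⟨h0', h1'⟩ := Groth.Agent.C1SectLib.fiberRank_generic k hdimC hregC π hπ hsurj hfib
  haveI := Groth.Agent.C1SectLib.isIntegral_genFibre π hsurj
  letI : (π.fiber (genericPoint C)).Over (Spec (C.residueField (genericPoint C))) :=
    ⟨π.fiberToSpecResidueField (genericPoint C)⟩
  haveI : IsProper (π.fiber (genericPoint C) ↘ Spec (CommRingCat.of (C.residueField (genericPoint C)))) :=
    MorphismProperty.pullback_snd (P := @IsProper) π (C.fromSpecResidueField (genericPoint C)) inferInstance
  let u := (Groth.Agent.AmpleLib.pullO (π.fiberι (genericPoint C))).symm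
  have e0 := Groth.Agent.ShBCLib.finrank_HH_iso (K := C.residueField (genericPoint C)) u 0
  have e1 := Groth.Agent.ShBCLib.finrank_HH_iso (K := C.residueField (genericPoint C)) u 1
  haveI := Groth.Agent.EulerIneqLib.isNoetherian_proper (X := π.fiber (genericPoint C)) (C.residueField (genericPoint C))
  haveI := Groth.Agent.EulerIneqLib.finite_HH (k := C.residueField (genericPoint C))
    (Groth.Agent.DevLib.isCoh_structureModule (π.fiber (genericPoint C))) 0
  haveI : Nontrivial (Coh.HH (π.fiber (genericPoint C)) (Coh.structureModule (π.fiber (genericPoint C))) 0) :=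
    haveI : Nontrivial Γ(π.fiber (genericPoint C), ⊤) := inferInstance
    @Equiv.nontrivial _ _ (Groth.Agent.CurveLib.secOf (Coh.structureModule (π.fiber (genericPoint C)))).toEquiv (show Nontrivial Γ(π.fiber (genericPoint C), ⊤) from inferInstance)
  have hpos : 0 < Module.finrank (C.residueField (genericPoint C))
      (Coh.HH (π.fiber (genericPoint C)) (Coh.structureModule (π.fiber (genericPoint C))) 0) := Module.finrank_pos
  have h0 : Module.finrank (C.residueField (genericPoint C))
      (Coh.HH (π.fiber (genericPoint C)) (Coh.structureModule (π.fiber (genericPoint C))) 0) = 1 :=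
    le_antisymm (Nat.le_of_lt_succ (lt_of_le_of_lt e0.le h0')) hpos
  have hg : Curv2.genus (C.residueField (genericPoint C)) (π.fiber (genericPoint C)) = 0 :=
    Nat.lt_one_iff.1 (lt_of_le_of_lt e1.le h1')
  have hreg : ∀ z : π.fiber (genericPoint C), IsRegularLocalRing ((π.fiber (genericPoint C)).presheaf.stalk z) :=
    fun z => by
      obtain ⟨e⟩ := Groth.Agent.C1SectLib.exists_stalk_iso π z
      haveI := Groth.Agent.S1535.result k X (π.fiberι (genericPoint C) z)
      exact IsRegularLocalRing.of_ringEquiv e.commRingCatIsoToRingEquiv
  exact Groth.Agent.C1SectLib.exists_section k π hπ hsurj hdim hdimC hregC hreg h0 hg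

end Groth.Agent.S18452
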