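import Groth.Statements.S16511
import Groth.Agent.FibBundleLib.Surface
import Groth.Agent.C1SectLib.Ruled
import Groth.Agent.S18452
import Groth.Agent.ProjSerreLib.CMDual
-- import your own Groth.Agent.* helpers here

set_option autoImplicit false
universe u
open CategoryTheory AlgebraicGeometry
open Curves

namespace Groth.Agent.S16511

open Groth.Agent
set_option backward.isDefEq.respectTransparency false
set_option backward.isDefEq.respectTransparency.types false
set_option linter.style.haveILetI false
set_option maxHeartbeats 1000000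

/-- Over an algebraically closed field k, let π : X → B be a surjective k-morphism from a projective
surface onto a smooth proper curve whose fibres over closed points are all isomorphic to the
projective line. Then X is isomorphic over B to the projective bundle of a locally free sheaf of
rank 2 on B: π together with some invertible quotient q : π^*E → O(1), E locally free of rank 2 on
B, has the universal property of P(E). -/
theorem result
    (k : Type u) [Field k] [IsAlgClosed k]
    (X : Scheme.{u}) [X.Over (Spec (CommRingCat.of k))] [IsIntegral X] (hX2 : topologicalKrullDim X = 2)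
    (hX : ∃ (N : ℕ) (ι : X ⟶ CohB1.ProjSpace N k), IsClosedImmersion ι ∧
      ι ≫ CohB1.ProjSpace.toSpec N k = X ↘ Spec (CommRingCat.of k))
    (B : Scheme.{u}) [B.Over (Spec (CommRingCat.of k))] (hB : Curve.IsSmoothProperCurve k B (B ↘ Spec (CommRingCat.of k)))
    (π : X ⟶ B) (hπ : π ≫ (B ↘ Spec (CommRingCat.of k)) = X ↘ Spec (CommRingCat.of k))
    (hsurj : Function.Surjective π.base)
    (hfib : ∀ b : B, IsClosed ({b} : Set B) → Nonempty (π.fiber b ≅ CohB1.ProjSpace 1 k)) :
    ∃ (E : B.Modules) (L : X.Modules) (q : (Scheme.Modules.pullback π).obj E ⟶ L),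
      FlatMod.IsFinLocFreeOfRank 2 E ∧ KRR.IsProjBundle π E L q := by
  obtain ⟨hBp, hBs, hBi, hB1⟩ := hB
  haveI := hBp
  haveI := hBs
  haveI := hBi
  obtain ⟨N, ι, hι0, hι⟩ := hX
  haveI := hι0
  haveI := ProjSerreLib.isProper_over ι hι
  have hregB := S1535.result k B
  haveI := RuledPushLib.isProper_map k π hπ
  haveI := RuledPushLib.flat_map k hB1 hregB π hsurj
  haveI := RuledPushLib.lfp_map k π hπ
  haveI := EulerIneqLib.isNoetherian_proper (X := X) k
  haveI := EulerIneqLib.isNoetherian_proper (X := B) k
  haveI hπs : Smooth π := FibBundleLib.smooth_of_closed_fibres π fun b hb => by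
    obtain ⟨e⟩ := hfib b hb
    haveI := FibBundleLib.isAlgClosed_residue k hb
    letI : Algebra k (B.residueField b) := (RuledPushLib.resMap k b).hom.toAlgebra
    haveI : IsIso (Spec.map (CommRingCat.ofHom (algebraMap k (B.residueField b)))) := by
      haveI : IsIso (CommRingCat.ofHom (algebraMap k (B.residueField b))) :=
        (ConcreteCategory.isIso_iff_bijective _).2 (RuledPushLib.bijective_resMap k b hb)
      infer_instance
    haveI : IsIso (GenSeesawLib.bcMap 1 k (B.residueField b)) :=
      (GenSeesawLib.isPullback_bcMap 1 k (B.residueField b)).isIso_fst_of_isIso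
    let e' := e ≪≫ (asIso (GenSeesawLib.bcMap 1 k (B.residueField b))).symm
    haveI : IsProper (π.fiberToSpecResidueField b) :=
      inferInstanceAs (IsProper (Limits.pullback.snd π (B.fromSpecResidueField b)))
    obtain ⟨φ, hφ, -⟩ := FibBundleLib.exists_over_iso 1 (e'.inv ≫ π.fiberToSpecResidueField b)
    haveI := ProjSmoothLib.smooth_toSpec 1 (B.residueField b)
    have h : π.fiberToSpecResidueField b = e'.hom ≫ φ.hom ≫ CohB1.ProjSpace.toSpec 1 (B.residueField b) := by
      rw [hφ, Iso.hom_inv_id_assoc]
    rw [h]
    infer_instance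
  haveI : Smooth (X ↘ Spec (CommRingCat.of k)) := hπ ▸ (inferInstance : Smooth (π ≫ (B ↘ Spec (CommRingCat.of k))))
  obtain ⟨σ, hσ⟩ := S18452.result k X hX2 B hB1 hregB π hπ hsurj hfib
  haveI : JacobsonSpace X := LocallyOfFiniteType.jacobsonSpace (X ↘ Spec (CommRingCat.of k))
  haveI := FibBundleLib.smoothRelDimOne_of_closed π fun b hb => by
    obtain ⟨e⟩ := hfib b hb
    exact ⟨RuledPushLib.isIntegral_fiber k π b e, RuledPushLib.dim_fiber k π b e⟩
  obtain ⟨L, E, q, -, -, hE, hq⟩ := FibBundleLib.exists_isProjBundle_of_section π σ hσ fun s => by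
    obtain ⟨b, hb, hsb⟩ := RuledPushLib.exists_closed_spec s
    obtain ⟨e⟩ := hfib b hb
    haveI := RuledPushLib.subsingleton_H1_fiber k π b e
    refine ⟨b, hsb, RuledPushLib.isIntegral_fiber k π b e, RuledPushLib.dim_fiber k π b e, ?_⟩
    letI : (π.fiber b).Over (Spec (CommRingCat.of (B.residueField b))) := ⟨π.fiberToSpecResidueField b⟩
    exact Module.finrank_zero_of_subsingleton
  exact ⟨E, L, q, hE, hq⟩

end Groth.Agent.S16511
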