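import Groth.Statements.S16513
import Groth.Agent.RuledExcLib.Extend

set_option autoImplicit false
universe u
open CategoryTheory AlgebraicGeometry
open Curves

namespace Groth.Agent.S16513

set_option backward.isDefEq.respectTransparency false

/-- Over an algebraically closed field k, a birational self-map of a smooth projective variety X
containing no rational curve (every k-morphism from the projective line to X is constant) is an
automorphism: a k-isomorphism between two nonempty open subschemes of X extends to a k-automorphism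
of X. (The base field is taken algebraically closed here.) -/
theorem result
    (k : Type u) [Field k] [IsAlgClosed k]
    (X : Scheme.{u}) [X.Over (Spec (CommRingCat.of k))] [IsIntegral X] [Smooth (X ↘ Spec (CommRingCat.of k))]
    (hX : ∃ (n : ℕ) (ι : X ⟶ CohB1.ProjSpace n k), IsClosedImmersion ι ∧
      ι ≫ CohB1.ProjSpace.toSpec n k = X ↘ Spec (CommRingCat.of k))
    (hnorat : ∀ g : CohB1.ProjSpace 1 k ⟶ X,
      g ≫ (X ↘ Spec (CommRingCat.of k)) = CohB1.ProjSpace.toSpec 1 k → ∃ x : X, Set.range g.base ⊆ {x})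
    (U V : X.Opens) (hU : (U : Set X).Nonempty) (φ : (U : Scheme.{u}) ≅ (V : Scheme.{u}))
    (hφ : φ.hom ≫ V.ι ≫ (X ↘ Spec (CommRingCat.of k)) = U.ι ≫ (X ↘ Spec (CommRingCat.of k))) :
    ∃ e : X ≅ X, U.ι ≫ e.hom = φ.hom ≫ V.ι ∧
      e.hom ≫ (X ↘ Spec (CommRingCat.of k)) = X ↘ Spec (CommRingCat.of k) := by
  obtain ⟨n, ι, hι, hιX⟩ := hX
  haveI : IsProper (X ↘ Spec (CommRingCat.of k)) := by rw [← hιX]; infer_instance
  have hreg := Groth.Agent.RuledExcLib.regular_of_smooth (X ↘ Spec (CommRingCat.of k))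
  have hVne : (V : Set X).Nonempty := ⟨_, (φ.hom ⟨_, hU.some_mem⟩).2⟩
  obtain ⟨e, he, hes⟩ := Groth.Agent.RuledExcLib.exists_extension_of_no_lines _ _ hreg hnorat U hU (φ.hom ≫ V.ι)
    (by rw [Category.assoc]; exact hφ)
  obtain ⟨e', he', hes'⟩ := Groth.Agent.RuledExcLib.exists_extension_of_no_lines _ _ hreg hnorat V hVne (φ.inv ≫ U.ι)
    (by rw [Category.assoc, ← hφ, Iso.inv_hom_id_assoc])
  haveI : IsDominant U.ι := ⟨by
    rw [denseRange_iff_closure_range, Scheme.Opens.range_ι]
    exact (U.2.dense hU).closure_eq⟩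
  haveI : IsDominant V.ι := ⟨by
    rw [denseRange_iff_closure_range, Scheme.Opens.range_ι]
    exact (V.2.dense hVne).closure_eq⟩
  have h1 : e ≫ e' = 𝟙 X := ext_of_isDominant_of_isSeparated (X ↘ Spec (CommRingCat.of k))
    (by rw [Category.assoc, hes', hes, Category.id_comp]) U.ι
    (by rw [reassoc_of% he, he', Iso.hom_inv_id_assoc, Category.comp_id])
  have h2 : e' ≫ e = 𝟙 X := ext_of_isDominant_of_isSeparated (X ↘ Spec (CommRingCat.of k))
    (by rw [Category.assoc, hes, hes', Category.id_comp]) V.ι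
    (by rw [reassoc_of% he', he, Iso.inv_hom_id_assoc, Category.comp_id])
  exact ⟨⟨e, e', h1, h2⟩, he, hes⟩

end Groth.Agent.S16513
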