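import Mathlib
import Groth.Statements.S16515

set_option autoImplicit false
universe u
open RatCurv

namespace Groth.Agent.S16515

/-- If C ⊂ P^n is a rational normal curve and P ⊂ P^n a linear r-plane with (r + 2) k ≥ (r + 1)(n + 1),
then P is contained in a k-secant (k − 1)-plane of C, i.e. in the span of some effective divisor of
degree k on C. Stated through the identification of the linear forms on P^n with the binary forms of
degree n on C ≅ P^1: the r-plane P is recorded by the space U of degree-n binary forms vanishing on
it (of codimension r + 1), an effective divisor of degree k on C by a nonzero binary form g of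
degree k, and P ⊂ span(div g) says that every degree-n form divisible by g lies in U. Here k ≤ n,
and the ground field is arbitrary (the source works over the complex numbers). -/
theorem result (K : Type u) [Field K] (n r k : ℕ)
    (hkn : k ≤ n) (hineq : (r + 1) * (n + 1) ≤ (r + 2) * k)
    (U : Submodule K (MvPolynomial (Fin 2) K))
    (hU : U ≤ MvPolynomial.homogeneousSubmodule (Fin 2) K n)
    (hcodim : Module.finrank K ↥U + (r + 1) = n + 1) :
    ∃ g ∈ MvPolynomial.homogeneousSubmodule (Fin 2) K k, g ≠ 0 ∧
      ∀ h ∈ MvPolynomial.homogeneousSubmodule (Fin 2) K (n - k), g * h ∈ U := by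
  classical
  have hdimH : ∀ m, Module.finrank K ↥(MvPolynomial.homogeneousSubmodule (Fin 2) K m) = m + 1 := fun m => by
    let e : Fin (m + 1) ≃ {d : Fin 2 →₀ ℕ | d.degree = m} :=
      { toFun := fun i => ⟨Finsupp.equivFunOnFinite.symm ![(i : ℕ), m - i], by
          simp [Finsupp.degree_eq_sum, Fin.sum_univ_two]; omega⟩
        invFun := fun d => ⟨d.1 0, by
          have h : d.1.degree = m := d.2
          rw [Finsupp.degree_eq_sum, Fin.sum_univ_two] at h
          omega⟩
        left_inv := fun i => by ext; simp
        right_inv := fun d => by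
          have h : d.1.degree = m := d.2
          rw [Finsupp.degree_eq_sum, Fin.sum_univ_two] at h
          refine Subtype.ext (Finsupp.ext fun j => ?_)
          fin_cases j <;> simp
          omega }
    let b := (MvPolynomial.basisRestrictSupport K {d : Fin 2 →₀ ℕ | d.degree = m}).reindex e.symm
    rw [MvPolynomial.homogeneousSubmodule_eq_finsupp_supported]
    exact (Module.finrank_eq_card_basis b).trans (Fintype.card_fin _)
  have hfinH : ∀ m, Module.Finite K ↥(MvPolynomial.homogeneousSubmodule (Fin 2) K m) := fun m =>
    Module.finite_of_finrank_pos (by rw [hdimH m]; omega)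
  set Hn := MvPolynomial.homogeneousSubmodule (Fin 2) K n
  set Hk := MvPolynomial.homogeneousSubmodule (Fin 2) K k
  set Hm := MvPolynomial.homogeneousSubmodule (Fin 2) K (n - k)
  haveI := hfinH k
  haveI := hfinH n
  haveI := hfinH (n - k)
  set U' : Submodule K Hn := U.comap Hn.subtype
  have hquot : Module.finrank K (Hn ⧸ U') = r + 1 := by
    have h := Submodule.finrank_quotient_add_finrank U'
    rw [hdimH n, (Submodule.comapSubtypeEquivOfLe hU).finrank_eq] at h
    omega
  have hmem : ∀ (g : Hk) (h : Hm), (g : MvPolynomial (Fin 2) K) * h ∈ Hn := fun g h => by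
    have h1 := MvPolynomial.IsHomogeneous.mul
      ((MvPolynomial.mem_homogeneousSubmodule k _).mp g.2) ((MvPolynomial.mem_homogeneousSubmodule (n - k) _).mp h.2)
    rw [Nat.add_sub_cancel' hkn] at h1
    exact (MvPolynomial.mem_homogeneousSubmodule n _).mpr h1
  let Φ : Hk →ₗ[K] Hm →ₗ[K] (Hn ⧸ U') :=
    LinearMap.mk₂ K (fun g h => U'.mkQ ⟨_, hmem g h⟩)
      (fun g g' h => by rw [← map_add]; congr 1; ext1; simp [add_mul])
      (fun a g h => by rw [← map_smul]; congr 1; ext1; simp)
      (fun g h h' => by rw [← map_add]; congr 1; ext1; simp [mul_add])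
      (fun a g h => by rw [← map_smul]; congr 1; ext1; simp)
  have hlt : Module.finrank K (Hm →ₗ[K] (Hn ⧸ U')) < Module.finrank K Hk := by
    rw [Module.finrank_linearMap, hquot, hdimH k, hdimH (n - k)]
    obtain ⟨m, rfl⟩ : ∃ m, n = k + m := ⟨n - k, by omega⟩
    rw [Nat.add_sub_cancel_left]
    nlinarith
  obtain ⟨g, hg, hg0⟩ : ∃ g, Φ g = 0 ∧ g ≠ 0 := by
    by_contra hno
    push Not at hno
    have hinj : Function.Injective Φ := (injective_iff_map_eq_zero Φ).mpr hno
    exact absurd (LinearMap.finrank_le_finrank_of_injective hinj) (not_le.mpr hlt)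
  refine ⟨g, g.2, fun h => hg0 (Subtype.ext h), fun h hh => ?_⟩
  exact (Submodule.Quotient.mk_eq_zero U').mp (LinearMap.congr_fun hg ⟨h, hh⟩)

end Groth.Agent.S16515
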