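import Groth.Statements.S16516
import Groth.Agent.GenPointsLib
-- import your own Groth.Agent.* helpers here

set_option autoImplicit false
set_option backward.isDefEq.respectTransparency false
universe u
open RatCurv

namespace Groth.Agent.S16516

/-- A smooth nondegenerate rational quintic curve C ⊂ P^4 has exactly one 3-secant line. Stated for C
given as the image of P^1 under a 5-dimensional linear series V of binary quintic forms which
separates every length-2 subscheme of P^1 (for every nonzero quadratic form e the forms of V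
together with the multiples of e span all quintic forms), so that P^1 → P(V^*) = P^4 is a closed
embedding with nondegenerate image; the linear forms on P^4 are the elements of V, a line L ⊂ P^4 is
recorded by the 3-dimensional space of linear forms vanishing on it, and L ∩ C has length at least 3
exactly when that space consists of the multiples g · K[s,t]_2 of a cubic form g. The conclusion: a
nonzero cubic g with g · K[s,t]_2 ⊆ V exists and is unique up to a scalar. (That such a line meets C
in length exactly 3, i.e. is not 4-secant, is immediate in this description and is not restated; the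
ground field is algebraically closed of characteristic zero in place of the complex numbers.) -/
theorem result (K : Type u) [Field K] [IsAlgClosed K]
    [CharZero K] (V : Submodule K (MvPolynomial (Fin 2) K))
    (hV : V ≤ MvPolynomial.homogeneousSubmodule (Fin 2) K 5) (hdim : Module.finrank K ↥V = 5)
    (hsep : ∀ e ∈ MvPolynomial.homogeneousSubmodule (Fin 2) K 2, e ≠ 0 →
      ∀ F ∈ MvPolynomial.homogeneousSubmodule (Fin 2) K 5, ∃ v ∈ V,
        ∃ h ∈ MvPolynomial.homogeneousSubmodule (Fin 2) K 3, F = v + e * h) :
    ∃ g ∈ MvPolynomial.homogeneousSubmodule (Fin 2) K 3, g ≠ 0 ∧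
      (∀ h ∈ MvPolynomial.homogeneousSubmodule (Fin 2) K 2, g * h ∈ V) ∧
      ∀ g' ∈ MvPolynomial.homogeneousSubmodule (Fin 2) K 3,
        (∀ h ∈ MvPolynomial.homogeneousSubmodule (Fin 2) K 2, g' * h ∈ V) → ∃ c : K, g' = c • g := by
  classical
  open MvPolynomial in
  have hd : ∀ m, Module.finrank K ↥(homogeneousSubmodule (Fin 2) K m) = m + 1 := fun m => by
    rw [GenPointsLib.finrank_forms K 1 m, Nat.choose_one_right]
  haveI : ∀ m, FiniteDimensional K ↥(MvPolynomial.homogeneousSubmodule (Fin 2) K m) := fun m =>
    Module.finite_of_finrank_pos (by rw [hd]; omega)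
  set S5 := MvPolynomial.homogeneousSubmodule (Fin 2) K 5 with hS5
  let V' : Submodule K S5 := V.comap S5.subtype
  have hV' : Module.finrank K V' = 5 :=
    (LinearEquiv.finrank_eq (Submodule.comapSubtypeEquivOfLe hV)).trans hdim
  have hQ : Module.finrank K (S5 ⧸ V') = 1 := by
    have := Submodule.finrank_quotient_add_finrank V'
    rw [hV', hd] at this
    omega
  let ν : (S5 ⧸ V') ≃ₗ[K] K := (Module.finBasisOfFinrankEq K (S5 ⧸ V') hQ).equivFun.trans (LinearEquiv.funUnique (Fin 1) K K)
  have hm : ∀ (g : ↥(MvPolynomial.homogeneousSubmodule (Fin 2) K 3)) (q : ↥(MvPolynomial.homogeneousSubmodule (Fin 2) K 2)), (g : MvPolynomial (Fin 2) K) * q ∈ S5 := fun g q => MvPolynomial.IsHomogeneous.mul g.2 q.2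
  let T : ↥(MvPolynomial.homogeneousSubmodule (Fin 2) K 3) →ₗ[K] Module.Dual K (↥(MvPolynomial.homogeneousSubmodule (Fin 2) K 2)) :=
    LinearMap.mk₂ K (fun g q => ν (V'.mkQ ⟨(g : MvPolynomial (Fin 2) K) * q, hm g q⟩))
      (fun g g' q => by simp only [← map_add]; exact congrArg (fun y => ν (V'.mkQ y)) (Subtype.ext (by push_cast; ring)))
      (fun c g q => by simp only [← map_smul]; exact congrArg (fun y => ν (V'.mkQ y)) (Subtype.ext (by push_cast; rw [smul_mul_assoc])))
      (fun g q q' => by simp only [← map_add]; exact congrArg (fun y => ν (V'.mkQ y)) (Subtype.ext (by push_cast; ring)))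
      (fun c g q => by simp only [← map_smul]; exact congrArg (fun y => ν (V'.mkQ y)) (Subtype.ext (by push_cast; rw [mul_smul_comm])))
  have hT : ∀ g q, T g q = 0 ↔ (g : MvPolynomial (Fin 2) K) * q ∈ V := fun g q => by
    show ν (V'.mkQ _) = 0 ↔ _
    rw [LinearEquiv.map_eq_zero_iff, Submodule.mkQ_apply, Submodule.Quotient.mk_eq_zero]
    rfl
  -- the transpose is injective: `V` separates length two subschemes
  have hinj : Function.Injective T.flip := by
    rw [← LinearMap.ker_eq_bot, Submodule.eq_bot_iff]
    intro e he
    by_contra he0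
    have h4 : ∀ g : ↥(MvPolynomial.homogeneousSubmodule (Fin 2) K 3), (g : MvPolynomial (Fin 2) K) * e ∈ V := fun g =>
      (hT g e).1 (congrArg (fun f : Module.Dual K (↥(MvPolynomial.homogeneousSubmodule (Fin 2) K 3)) => f g) he)
    have hsub : S5 ≤ V := fun F hF => by
      obtain ⟨v, hv, h, hh, rfl⟩ := hsep e e.2 (fun h => he0 (Subtype.ext h)) F hF
      exact add_mem hv (by rw [mul_comm]; exact h4 ⟨h, hh⟩)
    haveI : FiniteDimensional K V := Module.finite_of_finrank_pos (by omega)
    have := Submodule.finrank_mono hsub
    rw [hd, hdim] at this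
    omega
  have hsurj : Function.Surjective T := by
    rw [← LinearMap.dualMap_injective_iff]
    intro a b hab
    obtain ⟨a', rfl⟩ := (Module.evalEquiv K (↥(MvPolynomial.homogeneousSubmodule (Fin 2) K 2))).surjective a
    obtain ⟨b', rfl⟩ := (Module.evalEquiv K (↥(MvPolynomial.homogeneousSubmodule (Fin 2) K 2))).surjective b
    exact congrArg _ (hinj (LinearMap.ext fun g => congrArg (fun f : Module.Dual K (↥(MvPolynomial.homogeneousSubmodule (Fin 2) K 3)) => f g) hab))
  have hker : Module.finrank K (LinearMap.ker T) = 1 := by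
    have h1 := LinearMap.finrank_range_add_finrank_ker T
    rw [LinearMap.range_eq_top.2 hsurj, finrank_top, Subspace.dual_finrank_eq, hd, hd] at h1
    omega
  obtain ⟨g, hg, hg0⟩ := (Submodule.ne_bot_iff (LinearMap.ker T)).1 fun h => by rw [h, finrank_bot] at hker; omega
  refine ⟨g, g.2, fun h => hg0 (Subtype.ext h), fun h hh => (hT g ⟨h, hh⟩).1 ?_, fun g' hg' hall => ?_⟩
  · rw [LinearMap.mem_ker.1 hg]; rfl
  · have hle : Submodule.span K {g} ≤ LinearMap.ker T := (Submodule.span_singleton_le_iff_mem g _).2 hg
    have heq := Submodule.eq_of_le_of_finrank_le hle (by rw [hker, finrank_span_singleton hg0])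
    have hmem : (⟨g', hg'⟩ : ↥(MvPolynomial.homogeneousSubmodule (Fin 2) K 3)) ∈ LinearMap.ker T :=
      LinearMap.mem_ker.2 (LinearMap.ext fun q => (hT _ q).2 (hall q q.2))
    rw [← heq, Submodule.mem_span_singleton] at hmem
    obtain ⟨c, hc⟩ := hmem
    exact ⟨c, (congrArg Subtype.val hc).symm⟩

end Groth.Agent.S16516
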