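import Groth.Statements.S16517
import Groth.Agent.GorLinkLib.Main
import Groth.Agent.RegLocal.Basic

set_option autoImplicit false
universe u
open CAlg

namespace Groth.Agent.S16517

/-- Let R be a regular local ring, A a Gorenstein local ring which is a flat R-algebra through a local
homomorphism, I ⊂ A an ideal of codimension zero (the Krull dimension of A/I equals that of A) with
A/I Cohen–Macaulay, and J = (0 : I) the annihilator of I in A (the ideal of the residual subscheme).
Then A/I and A/J are flat over R. -/
theorem result (R A : Type u)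
    [CommRing R] [IsRegularLocalRing R] [CommRing A] [Algebra R A] [LocCoh.IsGorensteinLocalRing A]
    [IsLocalHom (algebraMap R A)] [Module.Flat R A] (I : Ideal A)
    (hI : ringKrullDim (A ⧸ I) = ringKrullDim A) [LocCoh.IsCohenMacaulayLocalRing (A ⧸ I)] :
    Module.Flat R (A ⧸ I) ∧ Module.Flat R (A ⧸ (Submodule.annihilator I)) := by
  obtain ⟨x, hx⟩ := RegLocal.exists_generators R
  have hd : ringKrullDim R = (IsLocalRing.maximalIdeal R).spanFinrank := ((isRegularLocalRing_iff R).1 inferInstance).symm
  let rs := List.ofFn x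
  have hreg : RingTheory.Sequence.IsWeaklyRegular R rs := (RegLocal.isRegular_of_generators R hd x hx).1
  have hm : IsLocalRing.maximalIdeal R = Ideal.ofList rs := by
    rw [← hx, Ideal.ofList]
    congr 1
    ext y
    simp [rs, List.mem_ofFn]
  let l := rs.map (algebraMap R A)
  have hregA : RingTheory.Sequence.IsWeaklyRegular A l :=
    (RingTheory.Sequence.isWeaklyRegular_map_algebraMap_iff A A rs).2 (AcyclicLemma.isWeaklyRegular_of_flat A hreg)
  have hlm : ∀ a ∈ l, a ∈ IsLocalRing.maximalIdeal A := by
    intro a ha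
    obtain ⟨r, hr, rfl⟩ := List.mem_map.1 ha
    intro hu
    have hr' : r ∈ IsLocalRing.maximalIdeal R := hm ▸ Ideal.subset_span hr
    exact hr' (isUnit_of_map_unit (algebraMap R A) r hu)
  have hV := GorLinkLib.vanish_self I hI
  have flat_quot : ∀ (K : Ideal A), K ≠ ⊤ → RingTheory.Sequence.IsWeaklyRegular (A ⧸ K) l → Module.Flat R (A ⧸ K) := by
    intro K hK h
    haveI : IsLocalRing (A ⧸ K) := RegLocal.isLocalRing_quot hK
    haveI : IsLocalHom (algebraMap R (A ⧸ K)) := ⟨fun r hr => by
      haveI : IsLocalHom (Ideal.Quotient.mk K) := IsLocalHom.of_surjective _ Ideal.Quotient.mk_surjective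
      exact isUnit_of_map_unit (algebraMap R A) r (isUnit_of_map_unit (Ideal.Quotient.mk K) _ hr)⟩
    exact MiracleFlatLib.flat_of_isWeaklyRegular _ R (A ⧸ K) rs rfl hm hreg
      ((RingTheory.Sequence.isWeaklyRegular_map_algebraMap_iff A (A ⧸ K) rs).1 h)
  refine ⟨flat_quot I (Ideal.Quotient.nontrivial_iff.1 inferInstance) (GorLinkLib.isWeaklyRegular_quot I hI l hlm hregA), ?_⟩
  by_cases hJ : Submodule.annihilator I = ⊤
  · haveI : Subsingleton (A ⧸ Submodule.annihilator I) := by rw [hJ]; exact Ideal.Quotient.subsingleton_iff.2 rfl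
    infer_instance
  · refine flat_quot _ hJ ?_
    have h := GorLinkLib.isWeaklyRegular_quot_ann (I := I) hV l hregA
    exact ((Submodule.quotEquivOfEq _ _ (GorLinkLib.ann_self I)).isWeaklyRegular_congr l).1 h

end Groth.Agent.S16517
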