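import Groth.Statements.S16518
import Groth.Agent.GorLinkLib.Main
import Groth.Agent.RegLocal.Basic

set_option autoImplicit false
universe u
open CAlg

namespace Groth.Agent.S16518

/-- Let R be a Noetherian local ring, A a Gorenstein local ring which is a flat R-algebra through a
local homomorphism, I ⊂ A an ideal of codimension zero (the Krull dimension of A/I equals that of A)
with A/I Cohen–Macaulay, and J = (0 : I) its annihilator. For every R-regular sequence r_1, …, r_n
generating an ideal 𝔯 of R, the module J/𝔯J is the annihilator of the image of I in A/𝔯A: the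
natural map J/𝔯J → A/𝔯A is injective (J ∩ 𝔯A = 𝔯J) with image the ideal quotient (𝔯A : I) modulo 𝔯A
(J + 𝔯A = (𝔯A : I)). -/
theorem result (R A : Type u)
    [CommRing R] [IsNoetherianRing R] [IsLocalRing R] [CommRing A] [Algebra R A]
    [LocCoh.IsGorensteinLocalRing A] [IsLocalHom (algebraMap R A)] [Module.Flat R A] (I : Ideal A)
    (hI : ringKrullDim (A ⧸ I) = ringKrullDim A) [LocCoh.IsCohenMacaulayLocalRing (A ⧸ I)]
    (rs : List R) (hrs : RingTheory.Sequence.IsRegular R rs) :
    Submodule.annihilator I ⊔ (Ideal.ofList rs).map (algebraMap R A) =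
        Submodule.colon ((Ideal.ofList rs).map (algebraMap R A)) (I : Set A) ∧
      Submodule.annihilator I ⊓ (Ideal.ofList rs).map (algebraMap R A) =
        (Ideal.ofList rs).map (algebraMap R A) * Submodule.annihilator I := by
  let l := rs.map (algebraMap R A)
  have hregA : RingTheory.Sequence.IsWeaklyRegular A l :=
    (RingTheory.Sequence.isWeaklyRegular_map_algebraMap_iff A A rs).2 (AcyclicLemma.isWeaklyRegular_of_flat A hrs.1)
  have hq : (Ideal.ofList rs).map (algebraMap R A) = Ideal.ofList l := Ideal.map_ofList _ _
  have hV := GorLinkLib.vanish_self I hI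
  obtain ⟨hcol, hint⟩ := GorLinkLib.colon_eq l A hV hregA
  rw [GorLinkLib.ann_self] at hcol hint
  simp only [smul_eq_mul, Ideal.mul_top] at hcol hint
  rw [hq]
  refine ⟨le_antisymm (sup_le (fun a ha => ?_) (fun a ha => ?_)) (fun a ha => ?_), le_antisymm ?_ ?_⟩
  · refine Submodule.mem_colon.2 fun i hi => ?_
    rw [Submodule.mem_annihilator.1 ha i hi]
    exact zero_mem _
  · exact Submodule.mem_colon.2 fun i _ => Ideal.mul_mem_right _ _ ha
  · refine hcol a fun i hi => ?_
    rw [mul_comm]
    exact Submodule.mem_colon.1 ha i hi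
  · exact hint
  · exact le_inf Ideal.mul_le_right Ideal.mul_le_left

end Groth.Agent.S16518
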