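import Groth.Statements.S16519
import Mathlib
set_option backward.isDefEq.respectTransparency false
set_option backward.isDefEq.respectTransparency.types false

set_option autoImplicit false
open CubicSurf

namespace Groth.Agent.S16519

/-- On a smooth cubic surface there are exactly 72 divisor classes L with L² = 1 and L · K = −3. Stated
in the lattice ℤ^{1,6} with basis l, e_1, …, e_6 (l² = 1, e_i² = −1, K = −3l + Σ e_i): the integer
vectors (a, b) ∈ ℤ × ℤ^6, standing for a·l − Σ b_i e_i, with 3a − Σ b_i = 3 and a² − Σ b_i² = 1 form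
a set of exactly 72 elements. -/
theorem result :
    {p : ℤ × (Fin 6 → ℤ) | 3 * p.1 - (Finset.univ.sum fun i => p.2 i) = 3 ∧
        p.1 ^ 2 - (Finset.univ.sum fun i => p.2 i ^ 2) = 1}.ncard = 72 := by
  classical
  let F : ℕ × (Fin 6 → Fin 3) → ℤ × (Fin 6 → ℤ) := fun q => ((q.1 : ℤ), fun i => ((q.2 i : ℕ) : ℤ))
  let T : Finset (ℕ × (Fin 6 → Fin 3)) := ((Finset.Icc 1 5) ×ˢ (Finset.univ : Finset (Fin 6 → Fin 3))).filter
    fun q => 3 * q.1 = (∑ i, (q.2 i : ℕ)) + 3 ∧ q.1 ^ 2 = (∑ i, (q.2 i : ℕ) ^ 2) + 1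
  have hT : T.card = 72 := by decide +kernel
  have hF : Function.Injective F := fun q q' e => by
    simp only [F, Prod.mk.injEq, Nat.cast_inj, funext_iff, Fin.val_inj] at e
    exact Prod.ext e.1 (funext e.2)
  rw [← hT, ← Finset.card_image_of_injective T hF, ← Set.ncard_coe_finset]
  refine congrArg Set.ncard ?_
  ext ⟨a, b⟩
  simp only [Set.mem_setOf_eq, Finset.coe_image, Set.mem_image, Finset.mem_coe]
  constructor
  · rintro ⟨h1, h2⟩
    have hcs : ∀ i : Fin 6, ((3 * a - 3) - b i) ^ 2 ≤ 5 * (a ^ 2 - 1 - b i ^ 2) := fun i => by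
      have := sq_sum_le_card_mul_sum_sq (s := Finset.univ.erase i) (f := b)
      rw [Finset.card_erase_of_mem (Finset.mem_univ i), ← Finset.add_sum_erase _ _ (Finset.mem_univ i)] at *
      have e1 : (∑ j ∈ Finset.univ.erase i, b j) = (3 * a - 3) - b i := by linarith
      have e2 : (∑ j ∈ Finset.univ.erase i, b j ^ 2) = a ^ 2 - 1 - b i ^ 2 := by linarith
      rw [e1, e2] at this
      simpa using this
    have ha : 1 ≤ a ∧ a ≤ 5 := by
      have := hcs 0
      constructor <;> nlinarith [sq_nonneg (6 * b 0 - (3 * a - 3))]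
    have hb : ∀ i, 0 ≤ b i ∧ b i ≤ 2 := fun i => by
      have := hcs i
      obtain ⟨h3, h4⟩ := ha
      interval_cases a <;> constructor <;> nlinarith
    refine ⟨(a.toNat, fun i => ⟨(b i).toNat, by have := hb i; omega⟩), ?_, ?_⟩
    · simp only [T, Finset.mem_filter, Finset.mem_product, Finset.mem_Icc, Finset.mem_univ, and_true]
      refine ⟨by omega, ?_, ?_⟩ <;> zify <;>
        simp only [Int.toNat_of_nonneg (show (0:ℤ) ≤ a by omega), fun i => Int.toNat_of_nonneg (hb i).1] <;> linarith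
    · simp [F, fun i => Int.toNat_of_nonneg (hb i).1, Int.toNat_of_nonneg (show (0:ℤ) ≤ a by omega)]
  · rintro ⟨q, hq, e⟩
    simp only [F, Prod.mk.injEq] at e
    obtain ⟨rfl, rfl⟩ := e
    simp only [T, Finset.mem_filter] at hq
    obtain ⟨-, h1, h2⟩ := hq
    zify at h1 h2
    exact ⟨by linarith, by linarith⟩

end Groth.Agent.S16519
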