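import Groth.Statements.S1652
import Groth.Agent.CurveLib.DegTensor
-- import your own Groth.Agent.* helpers here

set_option autoImplicit false
universe u
open CategoryTheory CategoryTheory.Limits AlgebraicGeometry
open Variety

namespace Groth.Agent.S1652

/-- On a proper curve over a field, if L and M are invertible modules with L ⊗ M ≅ O_X and both L and M
have a nonzero global section, then L is isomorphic to the structure sheaf. -/
theorem result (k : Type u) [Field k] (X : Scheme.{u}) [X.Over (Spec (CommRingCat.of k))]
    [IsIntegral X] [IsProper (X ↘ (Spec (CommRingCat.of k)))] (hdim : topologicalKrullDim X = 1)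
    (L M : X.Modules) (hL : PicF.IsInvertible L) (hM : PicF.IsInvertible M) (hLM : ClSub.IsInverseOf L M)
    (s : Coh.structureModule X ⟶ L) (hs : s ≠ 0) (t : Coh.structureModule X ⟶ M) (ht : t ≠ 0) :
    Nonempty (L ≅ Coh.structureModule X) := by
  obtain ⟨e⟩ := hLM
  have h := Groth.Agent.CurveLib.deg_tensor_add (k := k) hdim.le hL hM
  rw [Groth.Agent.CurveLib.deg_iso (k := k) e, Groth.Agent.CurveLib.deg_structureModule] at h
  have hM0 := (Groth.Agent.CurveLib.deg_le_of_ne_zero (k := k) hdim.le ParaFLib.isInvertible_structureModule hM ht).1
  rw [Groth.Agent.CurveLib.deg_structureModule] at hM0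
  exact Groth.Agent.CurveLib.nonempty_iso_structureModule (k := k) hdim.le hL s hs (by omega)

end Groth.Agent.S1652
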