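import Groth.Statements.S16520
import Groth.Agent.DoubleCoverLib.Curve
import Groth.Agent.S7797
import Groth.Agent.S1536
import Groth.Agent.EulerIneqLib.Basic

set_option backward.isDefEq.respectTransparency false
set_option backward.isDefEq.respectTransparency.types false

set_option autoImplicit false
universe u
open CategoryTheory CategoryTheory.Limits AlgebraicGeometry
open Curves
open Groth.Agent

namespace Groth.Agent.S16520

/-- Let E be an elliptic curve over an algebraically closed field k of characteristic zero (in place of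
the complex numbers): smooth, proper and geometrically connected over k, of dimension one and genus
dim_k H^1(E, O_E) = 1; let π : E → P^1_k be a k-morphism which is finite and flat of constant rank
2, and L an invertible O_E-module of degree d = χ(L) − χ(O_E). If d = 2e + 1 then π_*L ≅ O(e) ⊕ O(e
− 1); if d = 2e and L ≅ π^*O(e) then π_*L ≅ O(e) ⊕ O(e − 2); if d = 2e and L is not isomorphic to
π^*O(e) then π_*L ≅ O(e − 1) ⊕ O(e − 1). (Existence of isomorphisms of O-modules on P^1_k; the
source states the isomorphisms abstractly.) -/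
theorem result (k : Type u) [Field k]
    [IsAlgClosed k] [CharZero k] (E : Scheme.{u}) [E.Over (Spec (CommRingCat.of k))] [IsProper (E ↘ Spec (CommRingCat.of k))]
    [Smooth (E ↘ Spec (CommRingCat.of k))] [GeometricallyConnected (E ↘ Spec (CommRingCat.of k))]
    (hE : topologicalKrullDim E = 1) (hg : Curv2.genus k E = 1)
    (π : E ⟶ CohB1.ProjSpace 1 k) (hπ : π ≫ CohB1.ProjSpace.toSpec 1 k = E ↘ Spec (CommRingCat.of k))
    [IsFinite π] [Flat π] (hrk : ∀ y : ↥(CohB1.ProjSpace 1 k), Scheme.Hom.finrank π y = 2)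
    (L : E.Modules) (hL : PicF.IsInvertible L) (d : ℤ) (hd : Curv2.deg k E L 1 = d) :
    (∀ e : ℤ, d = 2 * e + 1 → Nonempty ((Scheme.Modules.pushforward π).obj L ≅
        ∐ fun j : Fin 2 => Twist.twistProjSpace 1 k (![e, e - 1] j))) ∧
    (∀ e : ℤ, d = 2 * e → Nonempty (L ≅ (Scheme.Modules.pullback π).obj (Twist.twistProjSpace 1 k e)) →
        Nonempty ((Scheme.Modules.pushforward π).obj L ≅
          ∐ fun j : Fin 2 => Twist.twistProjSpace 1 k (![e, e - 2] j))) ∧
    (∀ e : ℤ, d = 2 * e → IsEmpty (L ≅ (Scheme.Modules.pullback π).obj (Twist.twistProjSpace 1 k e)) →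
        Nonempty ((Scheme.Modules.pushforward π).obj L ≅
          ∐ fun j : Fin 2 => Twist.twistProjSpace 1 k (![e - 1, e - 1] j))) := by
  classical
  haveI : IsIntegral E := VBLib.isIntegral_of_geomConnected k
  haveI : GeometricallyReduced (E ↘ Spec (CommRingCat.of k)) :=
    AVLib.geometricallyReduced_of_smooth (E ↘ Spec (CommRingCat.of k))
  haveI := EulerIneqLib.isNoetherian_proper (X := E) k
  haveI : IsProper (CohB1.ProjSpace 1 k ↘ Spec (CommRingCat.of k)) := CompleteCurve.isProper_toSpec 1 k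
  haveI : IsIntegral (CohB1.ProjSpace 1 k) := REqLib.isIntegral_projSpace 1 k
  haveI := EulerIneqLib.isNoetherian_proper (X := CohB1.ProjSpace 1 k) k
  haveI : IsAffineHom π := inferInstance
  haveI : LocallyOfFinitePresentation π := inferInstance
  have hflfπ : Mor2.IsFinLocFree π := ⟨inferInstance, inferInstance, inferInstance⟩
  have hO : FlatMod.IsFinLocFreeOfRank 2 ((Scheme.Modules.pushforward π).obj (Coh.structureModule E)) :=
    ((FinCovLib.isCover_iff π 2).1 ⟨hflfπ, hrk⟩).2
  have hχO : Curv2.euler k E (Coh.structureModule E) = 0 := by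
    rw [CurveLib.euler_eq_sub (k := k) hE.le, S1536.result k E]
    have : Module.finrank k (Coh.HH E (Coh.structureModule E) 1) = 1 := hg
    rw [this]; norm_num
  have hdeg : ∀ M : E.Modules, Curv2.deg k E M 1 = Curv2.euler k E M := fun M => by
    rw [Curv2.deg, hχO]; ring
  have hinv : ∀ t : ℤ, PicF.IsInvertible ((Scheme.Modules.pullback π).obj (Twist.twistProjSpace 1 k t)) :=
    fun t => AmpleLib.isInvertible_pullback π (DoubleCoverLib.isInvertible_O k t)
  obtain ⟨c, ⟨-, ⟨eO⟩⟩, -⟩ := S7797.result k 2 _ hO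
  have hc : ∑ j, (c j + 1) = (0 : ℤ) := by
    rw [← HodgePnLib.euler_sigma_O (k := k) 2 c, ← CurveLib.euler_iso (K := k) eO]
    exact (IntLib.euler_push k π hπ _).trans hχO
  haveI : Coh.IsQCoh (Coh.structureModule E) := (DevLib.isCoh_structureModule E).1
  have hpt : ∀ t : ℤ, Curv2.deg k E ((Scheme.Modules.pullback π).obj (Twist.twistProjSpace 1 k t)) 1 = 2 * t :=
    fun t => by
      rw [hdeg, ← CurveLib.euler_iso (K := k) (AmpleLib.unitL ((Scheme.Modules.pullback π).obj (Twist.twistProjSpace 1 k t)))]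
      refine ((DoubleCoverLib.push_data π hπ c inferInstance hO eO t).1).trans ?_
      rw [hc]; push_cast; ring
  haveI hLq : Coh.IsQCoh L := InvExt.isQCoh_of_isInvertible hL
  have hLflf : FlatMod.IsFinLocFree L := fun x => by
    obtain ⟨U, hx, hU⟩ := CurveLib.isFinLocFreeOfRank_one hL x
    exact ⟨U, 1, hx, hU⟩
  obtain ⟨r, hr⟩ := CurveP1Lib.exists_rank (DCohMore.isFinLocFree_push_of_flf π hflfπ hLflf)
  obtain ⟨a, ⟨ha, ⟨eL⟩⟩, -⟩ := S7797.result k r _ hr
  let T : ℤ → E.Modules := fun t =>
    CohB1.tensorMod L ((Scheme.Modules.pullback π).obj (Twist.twistProjSpace 1 k t))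
  have hT : ∀ t, PicF.IsInvertible (T t) := fun t => AmpleLib.isInvertible_tensor hL (hinv t)
  have hdT : ∀ t, Curv2.deg k E (T t) 1 = d + 2 * t := fun t => by
    rw [CurveLib.deg_tensor_add (k := k) hE.le hL (hinv t), hd, hpt]
  have hχT : ∀ t, d + 2 * t = ∑ j, (a j + 1) + r * t := fun t => by
    rw [← hdT t, hdeg]
    exact (DoubleCoverLib.push_data π hπ a hLq hr eL t).1
  obtain rfl : r = 2 := by
    have h0 := hχT 0
    have h1 := hχT 1
    omega
  have hab : a 0 + a 1 = d - 2 := by
    have h0 := hχT 0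
    rw [Fin.sum_univ_two] at h0
    omega
  have h01 : a 1 ≤ a 0 := ha (show (0 : Fin 2) ≤ 1 by decide)
  have hH : ∀ t, Module.finrank k (Coh.HH E (T t) 0) =
      (if 0 ≤ a 0 + t then (a 0 + t).toNat + 1 else 0) + (if 0 ≤ a 1 + t then (a 1 + t).toNat + 1 else 0) :=
    fun t => ((DoubleCoverLib.push_data π hπ a hLq hr eL t).2).trans (Fin.sum_univ_two _)
  have hneg : ∀ t, d + 2 * t < 0 → a 0 + t < 0 := fun t ht => by
    have h := (hH t).symm.trans (DoubleCoverLib.finrank_H0_eq_zero hE (hT t) (by rw [hdT]; exact ht))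
    by_contra hn
    rw [if_pos (not_lt.1 hn)] at h
    omega
  have fin : ∀ b : Fin 2 → ℤ, b 0 = a 0 → b 1 = a 1 → Nonempty ((Scheme.Modules.pushforward π).obj L ≅
      ∐ fun j : Fin 2 => Twist.twistProjSpace 1 k (b j)) := fun b hb0 hb1 => by
    obtain rfl : b = a := funext fun j => by fin_cases j <;> assumption
    exact ⟨eL⟩
  have hback : ∀ t : ℤ, Nonempty (T (-t) ≅ Coh.structureModule E) →
      Nonempty (L ≅ (Scheme.Modules.pullback π).obj (Twist.twistProjSpace 1 k t)) := by
    rintro t ⟨f⟩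
    let P := fun s : ℤ => (Scheme.Modules.pullback π).obj (Twist.twistProjSpace 1 k s)
    let u : CohB1.tensorMod (P (-t)) (P t) ≅ Coh.structureModule E :=
      (AmpleLib.pullTensor π _ _).symm ≪≫
        (Scheme.Modules.pullback π).mapIso (K0PnLib.twistAddIso k 1 (neg_add_cancel t) ≪≫
          DCohMore.TwistFam.projMulZero 1 k) ≪≫ AmpleLib.pullO π
    exact ⟨(AmpleLib.unitR L).symm ≪≫ AmpleLib.tIso (Iso.refl L) u.symm ≪≫ (AmpleLib.assoc L (P (-t)) (P t)).symm ≪≫
      AmpleLib.tIso f (Iso.refl (P t)) ≪≫ AmpleLib.unitL (P t)⟩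
  refine ⟨fun e hde => ?_, fun e hde hL' => ?_, fun e hde hL' => ?_⟩
  · have hup := hneg (-e - 1) (by omega)
    exact fin _ (show e = a 0 by omega) (show e - 1 = a 1 by omega)
  · have hup := hneg (-e - 1) (by omega)
    have hlo : e ≤ a 0 := by
      by_contra hlt
      obtain ⟨f⟩ := hL'
      let g : T (-e) ≅ Coh.structureModule E := AmpleLib.tIso f (Iso.refl _) ≪≫ (AmpleLib.pullTensor π _ _).symm ≪≫
        (Scheme.Modules.pullback π).mapIso (K0PnLib.twistAddIso k 1 (add_neg_cancel e) ≪≫
          DCohMore.TwistFam.projMulZero 1 k) ≪≫ AmpleLib.pullO π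
      have h1 := ((hH (-e)).symm.trans (VBLib.TwistH0.finrank_iso k g 0)).trans (S1536.result k E)
      rw [if_neg (show ¬(0 ≤ a 0 + -e) by omega), if_neg (show ¬(0 ≤ a 1 + -e) by omega)] at h1
      omega
    exact fin _ (show e = a 0 by omega) (show e - 2 = a 1 by omega)
  · have hlo : a 0 < e := by
      by_contra hge
      refine hL'.elim (hback e (DoubleCoverLib.nonempty_iso_O hE (hT (-e)) (by rw [hdT]; omega) ?_)).some
      rw [hH, if_pos (show 0 ≤ a 0 + -e by omega)]
      omega
    exact fin _ (show e - 1 = a 0 by omega) (show e - 1 = a 1 by omega)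

end Groth.Agent.S16520
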