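import Groth.Statements.S1653
import Groth.Agent.FibreDepth.FibreDim
import Groth.Agent.FibreDepth.Retro
import Groth.Agent.FlatDim.Trdeg
import Groth.Agent.CMFlatLib.Locus
import Groth.Agent.FibSetDimLib.Basic
-- import your own Groth.Agent.* helpers here

set_option autoImplicit false
set_option backward.isDefEq.respectTransparency false
universe u
open CategoryTheory CategoryTheory.Limits AlgebraicGeometry
open Variety

namespace Groth.Agent.S1653

namespace Aux

theorem fibreDimAt_of_maximal {X Y : Scheme.{u}} (f : X ⟶ Y) [LocallyOfFiniteType f] (η : X)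
    (hη : ∀ z : X, z ⤳ η → z = η) (t : ℕ) (ht : DimFormulaLib.resTrdegAt f η = t) : FlatMor.fibreDimAt f η = (t : WithBot ℕ∞) := by
  haveI : LocallyOfFiniteType (f.fiberToSpecResidueField (f η)) := MorphismProperty.pullback_snd _ _ inferInstance
  haveI : LocallyOfFiniteType (Y := Spec (CommRingCat.of (Y.residueField (f η)))) (f.fiberToSpecResidueField (f η)) := ‹_›
  obtain ⟨t', ht', hd⟩ := FlatDim.topologicalKrullDim_closure (Y.residueField (f η)) (f.fiberToSpecResidueField (f η)) (f.asFiber η)
  rw [FlatDim.resTrdegAt_fibre, f.fiberι_asFiber] at ht'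
  have e : t' = t := by exact_mod_cast ht'.symm.trans ht
  subst e
  have h0 : Order.coheight (f.asFiber η) = 0 := by
    refine Order.coheight_eq_zero.2 fun w hw => ?_
    have h1 : f.fiberι (f η) w = f.fiberι (f η) (f.asFiber η) := by
      rw [f.fiberι_asFiber]
      exact hη _ (((Scheme.le_iff_specializes.1 hw).map (f.fiberι (f η)).continuous).trans
        (specializes_of_eq (f.fiberι_asFiber η)))
    rw [(f.fiberι (f η)).isEmbedding.injective h1]
  rw [FibreDepth.fibreDimAt_eq_add, ringKrullDim_stalk_eq_coheight, h0, hd]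
  simp

end Aux

/-- Let f : X → Y be a k-morphism of schemes locally of finite type over a field k, with X irreducible
of dimension a, and let the closure of the image of f have dimension b. Then the local fibre
dimension of f at every point of X is at least a - b, and the set of points where it equals a - b is
open and dense. -/
theorem result (k : Type u) [Field k] (X Y : Scheme.{u}) [X.Over (Spec (CommRingCat.of k))] [Y.Over (Spec (CommRingCat.of k))]
    [LocallyOfFiniteType (X ↘ (Spec (CommRingCat.of k)))] [LocallyOfFiniteType (Y ↘ (Spec (CommRingCat.of k)))] [IrreducibleSpace X]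
    (f : X ⟶ Y) (hf : f ≫ (Y ↘ (Spec (CommRingCat.of k))) = X ↘ (Spec (CommRingCat.of k))) (a b : ℕ) (ha : topologicalKrullDim X = a)
    (hb : topologicalKrullDim (closure (Set.range f.base)) = b) :
    (∀ x : X, ((a - b : ℕ) : WithBot ℕ∞) ≤ FlatMor.fibreDimAt f x) ∧
      IsOpen {x : X | FlatMor.fibreDimAt f x = (a - b : ℕ)} ∧ Dense {x : X | FlatMor.fibreDimAt f x = (a - b : ℕ)} := by
  have hη : IsGenericPoint (genericPoint ↥X) (Set.univ : Set X) := genericPoint_spec ↥X
  have hmax : ∀ z : X, z ⤳ genericPoint ↥X → z = genericPoint ↥X := fun z hz =>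
    (hz.antisymm (hη.specializes (Set.mem_univ z))).eq
  haveI : LocallyOfFiniteType (f ≫ (Y ↘ Spec (CommRingCat.of k))) := by rw [hf]; infer_instance
  haveI : LocallyOfFiniteType f := locallyOfFiniteType_of_comp f (Y ↘ Spec (CommRingCat.of k))
  obtain ⟨tX, htX, hdX⟩ := FlatDim.topologicalKrullDim_closure k (X ↘ Spec (CommRingCat.of k)) (genericPoint ↥X)
  obtain ⟨tY, htY, hdY⟩ := FlatDim.topologicalKrullDim_closure k (Y ↘ Spec (CommRingCat.of k)) (f (genericPoint ↥X))
  obtain ⟨t, ht⟩ : ∃ t : ℕ, DimFormulaLib.resTrdegAt f (genericPoint ↥X) = t := FibSetDimLib.exists_nat_resTrdeg f _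
  have hcl : closure (Set.range f.base) = closure ({f (genericPoint ↥X)} : Set Y) := by
    refine (closure_minimal ?_ isClosed_closure).antisymm (closure_mono (by simp))
    rintro _ ⟨x, rfl⟩
    exact specializes_iff_mem_closure.1 ((hη.specializes (Set.mem_univ x)).map f.continuous)
  rw [hcl, hdY] at hb
  have hX : topologicalKrullDim ↥(closure ({genericPoint ↥X} : Set X)) = topologicalKrullDim ↥X := by
    rw [show closure ({genericPoint ↥X} : Set X) = Set.univ from hη]
    exact (Homeomorph.Set.univ X).isHomeomorph.topologicalKrullDim_eq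
  rw [hX, ha] at hdX
  have hadd := FlatDim.resTrdegAt_comp f (Y ↘ Spec (CommRingCat.of k)) (genericPoint ↥X)
  rw [FlatDim.resTrdegAt_congr hf, htX, htY, ht] at hadd
  have e1 : a = tX := by exact_mod_cast hdX
  have e2 : tY = b := by exact_mod_cast hb
  have e3 : tX = tY + t := by exact_mod_cast hadd
  have e : a - b = t := by omega
  rw [e]
  have hgen := Aux.fibreDimAt_of_maximal f (genericPoint ↥X) hmax t ht
  have hlow : ∀ x : X, (t : WithBot ℕ∞) ≤ FlatMor.fibreDimAt f x := by
    intro x
    obtain ⟨m, hm⟩ := CMFlatLib.exists_nat_fibreDimAt f x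
    have h := (hη.specializes (Set.mem_univ x)).mem_open (FibreDepth.isOpen_fibreDimAt_le_nat f m) (hm.le : x ∈ {z : X | FlatMor.fibreDimAt f z ≤ (m : WithBot ℕ∞)})
    rw [hm]
    exact hgen.symm.le.trans h
  have hset : {x : X | FlatMor.fibreDimAt f x = (t : ℕ)} = {x : X | FlatMor.fibreDimAt f x ≤ (t : WithBot ℕ∞)} :=
    Set.ext fun x => ⟨le_of_eq, fun h => le_antisymm h (hlow x)⟩
  refine ⟨hlow, by rw [hset]; exact FibreDepth.isOpen_fibreDimAt_le_nat f t, ?_⟩
  refine (dense_iff_closure_eq.2 ?_)
  refine Set.eq_univ_of_forall fun x => ?_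
  exact (hη.specializes (Set.mem_univ x)).mem_closed isClosed_closure (subset_closure hgen)

end Groth.Agent.S1653
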