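import Groth.Statements.S16534
import Groth.Agent.CurveFormsLib.Basic
import Groth.Agent.CurveFF.Omega
import Groth.Agent.S4466

set_option autoImplicit false
universe u
open CategoryTheory CategoryTheory.Limits AlgebraicGeometry
open Curves

namespace Groth.Agent.S16534

open CategoryTheory CategoryTheory.Limits AlgebraicGeometry

set_option backward.isDefEq.respectTransparency false
set_option backward.isDefEq.respectTransparency.types false
set_option linter.style.haveILetI false
set_option maxHeartbeats 1000000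
attribute [local instance] Curv2.stalkAlgebra
attribute [local instance high] FunFld.Place.algRes

open FunFld in
lemma ell_double {k K : Type u} [Field k] [IsAlgClosed k] [Field K] [Algebra k K] (hK : IsFunctionField k K)
    (hg : genus k K = 2) {D : Divisor k K} (hD : D.deg = 5) :
    ell ((1 : ℕ) • D) = 4 ∧ ell ((2 : ℕ) • D) = 9 := by
  have h1 := Groth.Agent.FF.ell_of_deg_large hK (D := D) (by omega)
  have h2 := Groth.Agent.FF.ell_of_deg_large hK (D := D + D) (by rw [Groth.Agent.FF.deg_add]; omega)
  rw [Groth.Agent.FF.deg_add] at h2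
  rw [one_smul, two_smul]
  omega


/-- Over an algebraically closed field k of characteristic zero (in place of the complex numbers), a
smooth connected quintic curve of genus 2 in P^4 lies in a hyperplane and on a quadric surface in
that hyperplane. Here C is smooth, proper and integral of dimension one over k with dim_k H^1(C,
O_C) = 2, i : C → P^4_k is a closed immersion over k with deg i^*O(1) = χ(i^*O(1)) − χ(O_C) = 5, and
the conclusion provides a nonzero linear form l and a quadratic form q not divisible by l such that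
i factors through V_+(l) ∩ V_+(q). -/
theorem result (k : Type u) [Field k] [IsAlgClosed k]
    [CharZero k] (C : Scheme.{u}) [C.Over (Spec (CommRingCat.of k))] [Smooth (C ↘ Spec (CommRingCat.of k))] [IsProper (C ↘ Spec (CommRingCat.of k))]
    [IsIntegral C] (hC : topologicalKrullDim C = 1) (hg : Curv2.genus k C = 2)
    (i : C ⟶ CohB1.ProjSpace 4 k) [IsClosedImmersion i] (hi : i ≫ CohB1.ProjSpace.toSpec 4 k = C ↘ Spec (CommRingCat.of k))
    (hdeg : Curv2.deg k C ((Scheme.Modules.pullback i).obj (Twist.twistProjSpace 4 k 1)) 1 = 5) :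
    ∃ (l : LefPen.Form 4 k 1) (q : LefPen.Form 4 k 2), l ≠ 0 ∧ q.1 ∉ Ideal.span {l.1} ∧
      ∃ j : C ⟶ (LefPen.hypIdeal l ⊔ LefPen.hypIdeal q).subscheme,
        j ≫ (LefPen.hypIdeal l ⊔ LefPen.hypIdeal q).subschemeι = i := by
  haveI := Groth.Agent.EulerIneqLib.isNoetherian_proper (X := C) k
  haveI := Groth.Agent.VBLib.isRegCurve_of_smooth (X := C) k hC.le
  have hK := Groth.Agent.CurveFF.isFF (X := C) k hC
  have h00 := Groth.Agent.CurveFF.h0_eq_one (X := C) k hC
  have hgK : FunFld.genus k C.functionField = 2 := (Groth.Agent.CurveFF.genus_eq (k := k) hC h00).symm.trans hg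
  obtain ⟨D, hD, hΦ⟩ := Groth.Agent.CurveFormsLib.exists_restriction hC i hi
  rw [hdeg] at hD
  obtain ⟨he1, he2⟩ := ell_double hK hgK hD
  have key : ∀ d : ℕ, ∃ Φ : LefPen.Form 4 k d →ₗ[k] C.functionField,
      (∀ G, Φ G = 0 → LefPen.hypIdeal G ≤ i.ker) ∧
      (d + 4).choose 4 ≤ FunFld.ell (d • D) + Module.finrank k (LinearMap.ker Φ) := by
    intro d
    obtain ⟨Φ, hL, hk⟩ := hΦ d
    refine ⟨Φ, hk, ?_⟩
    rw [← natCast_zsmul]
    haveI := Groth.Agent.FF.finite_L hK ((d : ℤ) • D)
    haveI : FiniteDimensional k (LefPen.Form 4 k d) :=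
      Module.finite_of_finrank_pos (R := k) (by
        show 0 < Module.finrank k ↥(MvPolynomial.homogeneousSubmodule (Fin (4 + 1)) k d)
        rw [Groth.Agent.S4466.finrank_forms k 4 d]
        exact Nat.choose_pos (Nat.le_add_left 4 d))
    have h1 := Φ.finrank_range_add_finrank_ker
    have h2 : Module.finrank k (LinearMap.range Φ) ≤ FunFld.ell ((d : ℤ) • D) :=
      Submodule.finrank_mono (by rintro _ ⟨G, rfl⟩; exact hL G)
    have h3 : Module.finrank k (LefPen.Form 4 k d) = (d + 4).choose 4 := Groth.Agent.S4466.finrank_forms k 4 d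
    omega
  obtain ⟨Φ₁, hk₁, hc₁⟩ := key 1
  obtain ⟨Φ₂, hk₂, hc₂⟩ := key 2
  have h5 : ((1 : ℕ) + 4).choose 4 = 5 := by decide
  have h15 : ((2 : ℕ) + 4).choose 4 = 15 := by decide
  rw [he1, h5] at hc₁
  rw [he2, h15] at hc₂
  obtain ⟨l, hl⟩ : ∃ l : LinearMap.ker Φ₁, l ≠ 0 := by
    haveI : Nontrivial (LinearMap.ker Φ₁) := Module.nontrivial_of_finrank_pos (R := k) (by omega)
    exact exists_ne 0
  let μ : LefPen.Form 4 k 1 →ₗ[k] LefPen.Form 4 k 2 :=
    { toFun := fun m => ⟨l.1.1 * m.1, MvPolynomial.IsHomogeneous.mul l.1.2 m.2⟩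
      map_add' := fun a b => Subtype.ext (mul_add _ _ _)
      map_smul' := fun c a => Subtype.ext (mul_smul_comm c _ _) }
  haveI : FiniteDimensional k (LefPen.Form 4 k 1) := Module.finite_of_finrank_pos (R := k) (by
    show 0 < Module.finrank k ↥(MvPolynomial.homogeneousSubmodule (Fin (4 + 1)) k 1)
    rw [Groth.Agent.S4466.finrank_forms k 4 1]
    decide)
  haveI : FiniteDimensional k (LefPen.Form 4 k 2) := Module.finite_of_finrank_pos (R := k) (by
    show 0 < Module.finrank k ↥(MvPolynomial.homogeneousSubmodule (Fin (4 + 1)) k 2)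
    rw [Groth.Agent.S4466.finrank_forms k 4 2]
    decide)
  obtain ⟨q, hq, hqn⟩ : ∃ q, q ∈ LinearMap.ker Φ₂ ∧ q ∉ LinearMap.range μ := by
    by_contra hne
    push Not at hne
    have h1 := Submodule.finrank_mono (show LinearMap.ker Φ₂ ≤ LinearMap.range μ from hne)
    have h2 := LinearMap.finrank_range_le μ
    have h3 : Module.finrank k (LefPen.Form 4 k 1) = (1 + 4).choose 4 := Groth.Agent.S4466.finrank_forms k 4 1
    omega
  refine ⟨l.1, q, fun h => hl (Subtype.ext h), fun hspan => hqn ?_, ?_⟩
  · obtain ⟨m, hm⟩ := Ideal.mem_span_singleton'.1 hspan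
    refine ⟨⟨MvPolynomial.homogeneousComponent 1 m, MvPolynomial.homogeneousComponent_mem 1 m⟩, Subtype.ext ?_⟩
    show l.1.1 * MvPolynomial.homogeneousComponent 1 m = q.1
    have hlh : l.1.1.IsHomogeneous 1 := l.1.2
    have hqh : q.1.IsHomogeneous 2 := q.2
    calc l.1.1 * MvPolynomial.homogeneousComponent 1 m
        = MvPolynomial.homogeneousComponent 2 (l.1.1 * m) := by
          conv_rhs => rw [← MvPolynomial.sum_homogeneousComponent m, Finset.mul_sum, map_sum]
          rw [Finset.sum_eq_single 1]
          · rw [MvPolynomial.homogeneousComponent_of_mem (hlh.mul (MvPolynomial.homogeneousComponent_mem 1 m))]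
            simp
          · intro b _ hb
            rw [MvPolynomial.homogeneousComponent_of_mem (hlh.mul (MvPolynomial.homogeneousComponent_mem b m)),
              if_neg (by omega)]
          · intro hb
            rw [MvPolynomial.homogeneousComponent_eq_zero 1 m (by simpa using hb), mul_zero, map_zero]
      _ = q.1 := by
          rw [mul_comm, hm, MvPolynomial.homogeneousComponent_of_mem hqh]
          simp
  · have hle : (LefPen.hypIdeal l.1 ⊔ LefPen.hypIdeal q).subschemeι.ker ≤ i.ker := by
      rw [Scheme.IdealSheafData.ker_subschemeι]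
      exact sup_le (hk₁ _ l.2) (hk₂ _ hq)
    exact ⟨IsClosedImmersion.lift _ i hle, IsClosedImmersion.lift_fac _ _ _⟩

end Groth.Agent.S16534
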