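import Groth.Statements.S16536
import Mathlib
set_option backward.isDefEq.respectTransparency false
set_option backward.isDefEq.respectTransparency.types false

set_option autoImplicit false
universe u v
open Disp

namespace Groth.Agent.S16536

/-- Let p be a prime and R a commutative ring in which every prime number other than p is a unit; write
W = W(R) with Frobenius σ, let (P, Q, F, V⁻¹) be a 3n-display over R, and let V# : P → W ⊗_{σ,W} P
be a W-linear map with V#(w·F x) = p·(w ⊗ x) for w ∈ W, x ∈ P and V#(w·V⁻¹ y) = w ⊗ y for w ∈ W, y ∈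
Q. Write F# : W ⊗_{σ,W} P → P for the linearisation of F, w ⊗ x ↦ w·F x. Then F# ∘ V# = p·id on P
and V# ∘ F# = p·id on W ⊗_{σ,W} P. -/
theorem result (p : ℕ) [Fact p.Prime]
    (R : Type u) [CommRing R] (hR : ∀ ℓ : ℕ, ℓ.Prime → ℓ ≠ p → IsUnit (ℓ : R))
    (P : Type v) [AddCommGroup P] [Module (WittVector p R) P] (D : W4c1extbt610.Display3n p R P)
    (Vs : P →ₗ[WittVector p R] Dieu.BC (WittVector.frobenius : WittVector p R →+* WittVector p R) P) (hVs : Dieu.IsVSharp D Vs) :
    (Dieu.BC.lift (WittVector.frobenius : WittVector p R →+* WittVector p R) D.F).comp Vs = (p : WittVector p R) • LinearMap.id ∧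
      Vs.comp (Dieu.BC.lift (WittVector.frobenius : WittVector p R →+* WittVector p R) D.F) = (p : WittVector p R) • LinearMap.id := by
  let σ : WittVector p R →+* WittVector p R := WittVector.frobenius
  have key : ∀ z : Dieu.BC σ P, Vs (Dieu.BC.lift σ D.F z) = (p : WittVector p R) • z := by
    intro z
    induction z using TensorProduct.induction_on with
    | zero => exact (congrArg Vs (map_zero (Dieu.BC.lift σ D.F))).trans ((map_zero Vs).trans (smul_zero _).symm)
    | tmul t x =>
      change Vs (Dieu.BC.lift σ D.F (Dieu.BC.tmul σ t.val x)) = _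
      rw [Dieu.BC.lift_tmul, hVs.app_smul_F]
      rfl
    | add a b ha hb =>
      exact (congrArg Vs (map_add (Dieu.BC.lift σ D.F) a b)).trans
        ((map_add Vs _ _).trans ((congrArg₂ (· + ·) ha hb).trans (smul_add _ _ _).symm))
  refine ⟨?_, LinearMap.ext key⟩
  refine LinearMap.ext_on_range D.span_range_Vinv fun y => ?_
  simp only [LinearMap.comp_apply, LinearMap.smul_apply, LinearMap.id_coe, id_eq]
  have h1 : Vs (D.Vinv y) = Dieu.BC.tmul σ 1 (y : P) := by
    have := hVs.app_smul_Vinv 1 y
    rwa [one_smul] at this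
  rw [h1, Dieu.BC.lift_tmul, one_smul]
  have hm : WittVector.verschiebung (1 : WittVector p R) • (y : P) ∈ D.Q := D.Q.smul_mem _ y.2
  have h2 : D.F (y : P) = D.Vinv ⟨_, hm⟩ := by rw [D.Vinv_verschiebung_smul 1 (y : P), one_smul]
  rw [h2, show (⟨_, hm⟩ : D.Q) = WittVector.verschiebung (1 : WittVector p R) • y from rfl, LinearMap.map_smulₛₗ,
    WittVector.frobenius_verschiebung, _root_.one_mul]

end Groth.Agent.S16536
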