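import Groth.Statements.S16542
import Groth.Agent.DispLib.HomRigid
-- import your own Groth.Agent.* helpers here

set_option autoImplicit false
set_option backward.isDefEq.respectTransparency false
universe u v
open Disp

namespace Groth.Agent.S16542

/-- Let p be a prime, S → R a faithfully flat homomorphism of commutative rings with p nilpotent in S,
(P, Q, F, V⁻¹) a display over S, and (P_R, Q_R, F_R, V_R⁻¹) a 3n-display structure on P_R = W(R)
⊗_{W(S)} P which is its base change along S → R (Q_R the kernel of P_R → R ⊗_S (P/Q), F_R(w ⊗ x) =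
σ(w) ⊗ F x, V_R⁻¹(w ⊗ y) = σ(w) ⊗ V⁻¹ y for y ∈ Q, V_R⁻¹(V(w) ⊗ x) = w ⊗ F x). Then for x ∈ P one
has x ∈ Q if and only if 1 ⊗ x ∈ Q_R: together with the exactness of 0 → P → P_R ⇉ P_{R ⊗ R} this is
the exactness of 0 → Q → Q_R ⇉ Q_{R ⊗ R} at Q. -/
theorem result (p : ℕ) [Fact p.Prime]
    (S R : Type u) [CommRing S] [CommRing R] [Algebra S R] [Module.FaithfullyFlat S R] (hp : IsNilpotent (p : S))
    (P : Type v) [AddCommGroup P] [Module (WittVector p S) P] (D : W4c1extbt610.Display3n p S P)
    (hD : Dieu.IsDisplay D)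
    (DR : W4c1extbt610.Display3n p R (Dieu.BC (WittVector.map (algebraMap S R) : WittVector p S →+* WittVector p R) P))
    (hDR : Dieu.IsDispBaseChange (algebraMap S R) D DR) (x : P) :
    x ∈ D.Q ↔ Dieu.BC.ι (WittVector.map (algebraMap S R) : WittVector p S →+* WittVector p R) P x ∈ DR.Q := by
  refine ⟨fun hx => ?_, fun hx => ?_⟩
  · rw [hDR.Q_eq]
    exact Groth.Agent.DispLib.tmul_mem _ D 1 hx
  · rw [hDR.Q_eq] at hx
    obtain ⟨y, hy, hd⟩ := Groth.Agent.DispLib.exists_Q_sub_mem _ D x hx
    have hinj : Function.Injective (algebraMap S R) := FaithfulSMul.algebraMap_injective S R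
    have hk : RingHom.ker (WittVector.map (algebraMap S R) : WittVector p S →+* WittVector p R) = ⊥ :=
      (RingHom.injective_iff_ker_eq_bot _).1 (WittVector.map_injective _ hinj)
    rw [hk, Submodule.bot_smul, Submodule.mem_bot, sub_eq_zero] at hd
    exact hd ▸ hy

end Groth.Agent.S16542
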