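import Groth.Statements.S16543
import Groth.Agent.DispLib.HomRigid
-- import your own Groth.Agent.* helpers here

set_option autoImplicit false
set_option backward.isDefEq.respectTransparency false
universe u v
open Disp

namespace Groth.Agent.S16543

/-- Let p be a prime, S a commutative ring in which p is nilpotent, f : S → R a surjective homomorphism
of commutative rings whose kernel is a nilpotent ideal, and (P, Q, F, V⁻¹), (P', Q', F', V'⁻¹) two
displays over S, i.e. 3n-displays whose operators V# satisfy the nilpotence condition. Let (P_R,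
Q_R, F_R, V_R⁻¹) and (P'_R, Q'_R, F'_R, V'_R⁻¹) be their base changes along f, the 3n-display
structures on W(R) ⊗_{W(S)} P and W(R) ⊗_{W(S)} P' characterised by Q_R = ker(P_R → R ⊗_S P/Q),
F_R(w ⊗ x) = σ(w) ⊗ F x, V_R⁻¹(w ⊗ y) = σ(w) ⊗ V⁻¹ y for y ∈ Q and V_R⁻¹(V(w) ⊗ x) = w ⊗ F x (and
likewise for P'). Then the natural map ψ ↦ id ⊗ ψ from homomorphisms of 3n-displays P → P' to
homomorphisms P_R → P'_R is injective, and its cokernel is a p-torsion group: for every homomorphism
χ of the base-changed 3n-displays there are n and a homomorphism ψ over S with id ⊗ ψ = p^n·χ. -/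
theorem result (p : ℕ) [Fact p.Prime]
    (S R : Type u) [CommRing S] [CommRing R] (hp : IsNilpotent (p : S))
    (f : S →+* R) (hf : Function.Surjective f) (hker : IsNilpotent (RingHom.ker f))
    (P P' : Type v) [AddCommGroup P] [Module (WittVector p S) P] [AddCommGroup P'] [Module (WittVector p S) P']
    (D : W4c1extbt610.Display3n p S P) (D' : W4c1extbt610.Display3n p S P')
    (hD : Dieu.IsDisplay D) (hD' : Dieu.IsDisplay D')
    (DR : W4c1extbt610.Display3n p R (Dieu.BC (WittVector.map f : WittVector p S →+* WittVector p R) P)) (hDR : Dieu.IsDispBaseChange f D DR)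
    (DR' : W4c1extbt610.Display3n p R (Dieu.BC (WittVector.map f : WittVector p S →+* WittVector p R) P')) (hDR' : Dieu.IsDispBaseChange f D' DR') :
    (∀ ψ χ : P →ₗ[WittVector p S] P', W4c1extbt610.IsHom D D' ψ → W4c1extbt610.IsHom D D' χ →
        Dieu.BC.map (WittVector.map f : WittVector p S →+* WittVector p R) ψ = Dieu.BC.map (WittVector.map f : WittVector p S →+* WittVector p R) χ → ψ = χ) ∧
      ∀ χ : Dieu.BC (WittVector.map f : WittVector p S →+* WittVector p R) P →ₗ[WittVector p R] Dieu.BC (WittVector.map f : WittVector p S →+* WittVector p R) P', W4c1extbt610.IsHom DR DR' χ →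
        ∃ (n : ℕ) (ψ : P →ₗ[WittVector p S] P'), W4c1extbt610.IsHom D D' ψ ∧
          Dieu.BC.map (WittVector.map f : WittVector p S →+* WittVector p R) ψ = ((p : WittVector p R) ^ n) • χ := by
  classical
  have hWK : ∀ y, y ∈ RingHom.ker (WittVector.map f : WittVector p S →+* WittVector p R) →
      y ∈ Groth.Agent.DispLib.WK (p := p) (RingHom.ker f) := fun y hy => by
    rw [Groth.Agent.DispLib.mem_WK]
    intro n
    rw [RingHom.mem_ker, ← WittVector.map_coeff, RingHom.mem_ker.1 hy, WittVector.zero_coeff]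
  refine ⟨fun ψ χ hψ hχ he => ?_, fun χ hχ => ?_⟩
  · have hd : W4c1extbt610.IsHom D D' (ψ - χ) := by
      refine ⟨fun q hq => D'.Q.sub_mem (hψ.mapsTo q hq) (hχ.mapsTo q hq), fun x => ?_, fun q => ?_⟩
      · simp only [LinearMap.sub_apply, map_sub, hψ.comm_F, hχ.comm_F]
      · rw [LinearMap.sub_apply, hψ.comm_Vinv, hχ.comm_Vinv, ← map_sub]
        rfl
    rw [← sub_eq_zero]
    refine Groth.Agent.DispLib.hom_eq_zero hp _ hker D hD D' _ hd fun x => ?_
    refine (Submodule.smul_mono (fun y hy => hWK y hy) le_rfl)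
      (Groth.Agent.DispLib.mem_ker_smul_of_tmul_eq_zero f hf _ ?_)
    rw [LinearMap.sub_apply, ← Dieu.BC.ι_apply, map_sub, Dieu.BC.ι_apply, Dieu.BC.ι_apply,
      ← Dieu.BC.map_tmul _ ψ 1 x, ← Dieu.BC.map_tmul _ χ 1 x, he, sub_self]
  · haveI := D.finite
    haveI := D.projective
    obtain ⟨N, π, hπ⟩ := Module.Finite.exists_fin' (WittVector p S) P
    obtain ⟨ι, hι⟩ := Module.projective_lifting_property π LinearMap.id hπ
    have hsurj : ∀ z : Dieu.BC (WittVector.map f : WittVector p S →+* WittVector p R) P',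
        ∃ y : P', Dieu.BC.tmul (WittVector.map f : WittVector p S →+* WittVector p R) 1 y = z := by
      intro z
      induction z using Dieu.BC.induction_on (WittVector.map f : WittVector p S →+* WittVector p R) with
      | zero => exact ⟨0, Dieu.BC.tmul_zero _ _⟩
      | tmul b y =>
        obtain ⟨b, rfl⟩ := WittVector.map_surjective f hf b
        exact ⟨b • y, (Dieu.BC.tmul_apply_eq _ _ _).symm⟩
      | add a b ha hb =>
        obtain ⟨a, rfl⟩ := ha
        obtain ⟨b, rfl⟩ := hb
        exact ⟨a + b, Dieu.BC.tmul_add _ _ _ _⟩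
    choose y hy using fun j : Fin N => hsurj (χ (Dieu.BC.tmul _ 1 (π (Pi.single j 1))))
    let ψ₀ : P →ₗ[WittVector p S] P' := Fintype.linearCombination (WittVector p S) y ∘ₗ ι
    have hψ₀ : ∀ x, Dieu.BC.tmul (WittVector.map f : WittVector p S →+* WittVector p R) 1 (ψ₀ x) =
        χ (Dieu.BC.tmul _ 1 x) := by
      intro x
      conv_rhs => rw [← LinearMap.id_apply (R := WittVector p S) x, ← hι, LinearMap.comp_apply,
        pi_eq_sum_univ' (ι x)]
      simp only [ψ₀, LinearMap.comp_apply, Fintype.linearCombination_apply, ← Dieu.BC.ι_apply, map_sum,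
        map_smul, map_smulₛₗ]
      refine Finset.sum_congr rfl fun j _ => ?_
      rw [Dieu.BC.ι_apply, hy, Dieu.BC.ι_apply]
    set c := RingHom.ker f ⊔ Ideal.span {(p : S)} with hc
    have hnil : IsNilpotent c := by
      refine Commute.isNilpotent_add (Commute.all _ _) hker ?_
      obtain ⟨e, he⟩ := hp
      exact ⟨e, by rw [Ideal.span_singleton_pow, he, Ideal.zero_eq_bot, Ideal.span_singleton_eq_bot]⟩
    have hk : ∀ k : ℕ, ∀ q : D.Q, ∃ q' : D'.Q,
        (p : WittVector p S) ^ k • ψ₀ q - q' ∈
          Groth.Agent.DispLib.WK (p := p) (RingHom.ker f * c ^ k) • (⊤ : Submodule (WittVector p S) P') ∧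
        (p : WittVector p S) ^ k • ψ₀ (D.Vinv q) - D'.Vinv q' ∈
          Groth.Agent.DispLib.WK (p := p) (RingHom.ker f * c ^ k) • (⊤ : Submodule (WittVector p S) P') := by
      intro k
      induction k with
      | zero =>
        intro q
        have hq : Dieu.BC.tmul (WittVector.map f : WittVector p S →+* WittVector p R) 1 (q : P) ∈ DR.Q :=
          hDR.Q_eq ▸ Groth.Agent.DispLib.tmul_mem f D 1 q.2
        have h1 : Dieu.BC.tmul (WittVector.map f : WittVector p S →+* WittVector p R) 1 (ψ₀ q) ∈
            LinearMap.ker (Dieu.bcQuotMap f D'.Q) := by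
          rw [hψ₀, ← hDR'.Q_eq]
          exact hχ.mapsTo _ hq
        obtain ⟨q', hq', hdiff⟩ := Groth.Agent.DispLib.exists_Q_sub_mem f D' _ h1
        refine ⟨⟨q', hq'⟩, ?_, ?_⟩
        · simp only [pow_zero, one_smul, Ideal.one_eq_top, Ideal.mul_top]
          exact Submodule.smul_mono (fun y hy => hWK y hy) le_rfl hdiff
        · simp only [pow_zero, one_smul, Ideal.one_eq_top, Ideal.mul_top]
          refine Submodule.smul_mono (fun y hy => hWK y hy) le_rfl
            (Groth.Agent.DispLib.mem_ker_smul_of_tmul_eq_zero f hf _ ?_)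
          have hq'R : Dieu.BC.tmul (WittVector.map f : WittVector p S →+* WittVector p R) 1 q' ∈ DR'.Q :=
            hDR'.Q_eq ▸ Groth.Agent.DispLib.tmul_mem f D' 1 hq'
          have h2 := hDR.Vinv_tmul 1 q hq
          have h3 := hDR'.Vinv_tmul 1 ⟨q', hq'⟩ hq'R
          rw [map_one] at h2 h3
          rw [← Dieu.BC.ι_apply, map_sub, Dieu.BC.ι_apply, Dieu.BC.ι_apply, hψ₀, ← h2, hχ.comm_Vinv, ← h3,
            sub_eq_zero]
          refine congrArg DR'.Vinv (Subtype.ext ?_)
          show χ (Dieu.BC.tmul _ 1 (q : P)) = Dieu.BC.tmul _ 1 q'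
          rw [← hψ₀, ← sub_eq_zero, ← Dieu.BC.ι_apply, ← Dieu.BC.ι_apply, ← map_sub]
          exact Groth.Agent.DispLib.tmul_eq_zero_of_mem f hdiff
      | succ k ih =>
        intro q
        obtain ⟨q', h1, h2⟩ := ih q
        have hstep : ∀ m ∈ Groth.Agent.DispLib.WK (p := p) (RingHom.ker f * c ^ k) • (⊤ : Submodule (WittVector p S) P'),
            (p : WittVector p S) • m ∈
              Groth.Agent.DispLib.WK (p := p) (RingHom.ker f * c ^ (k + 1)) • (⊤ : Submodule (WittVector p S) P') := by
          intro m hm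
          refine Submodule.smul_induction_on hm (fun r hr v _ => ?_) (fun u v hu hv => ?_)
          · rw [smul_smul]
            refine Submodule.smul_mem_smul ?_ Submodule.mem_top
            set b := RingHom.ker f * c ^ k
            set b' := RingHom.ker f * c ^ (k + 1) with hb'
            have hbc : b ≤ c := Ideal.mul_le_left.trans le_sup_left
            have hbb : b * c ≤ b' := le_of_eq (by rw [hb', pow_succ, mul_assoc])
            have hsq : ∀ a ∈ b.map (Ideal.Quotient.mk b'), ∀ d ∈ b.map (Ideal.Quotient.mk b'), a * d = 0 := by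
              intro a ha d hd
              obtain ⟨a', ha', rfl⟩ := (Ideal.mem_map_iff_of_surjective _ Ideal.Quotient.mk_surjective).1 ha
              obtain ⟨d', hd', rfl⟩ := (Ideal.mem_map_iff_of_surjective _ Ideal.Quotient.mk_surjective).1 hd
              rw [← map_mul]
              exact Ideal.Quotient.eq_zero_iff_mem.2 (hbb (Ideal.mul_mem_mul ha' (hbc hd')))
            have hp' : ∀ a ∈ b.map (Ideal.Quotient.mk b'), (p : S ⧸ b') * a = 0 := by
              intro a ha
              obtain ⟨a', ha', rfl⟩ := (Ideal.mem_map_iff_of_surjective _ Ideal.Quotient.mk_surjective).1 ha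
              rw [← map_natCast (Ideal.Quotient.mk b'), ← map_mul, mul_comm]
              exact Ideal.Quotient.eq_zero_iff_mem.2
                (hbb (Ideal.mul_mem_mul ha' (Ideal.mem_sup_right (Ideal.mem_span_singleton_self _))))
            rw [Groth.Agent.DispLib.WK, RingHom.mem_ker, map_mul, map_natCast]
            refine Groth.Agent.DispLib.natCast_mul_WK hsq hp' (Groth.Agent.DispLib.mem_WK.2 fun n => ?_)
            rw [WittVector.map_coeff]
            exact Ideal.mem_map_of_mem _ (Groth.Agent.DispLib.mem_WK.1 hr n)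
          · rw [smul_add]; exact Submodule.add_mem _ hu hv
        refine ⟨(p : WittVector p S) • q', ?_, ?_⟩
        · rw [pow_succ' (p : WittVector p S), mul_smul, Submodule.coe_smul, ← smul_sub]
          exact hstep _ h1
        · rw [pow_succ' (p : WittVector p S), mul_smul, map_smulₛₗ, map_natCast, ← smul_sub]
          exact hstep _ h2
    obtain ⟨n, hn⟩ := hnil
    have hbot : Groth.Agent.DispLib.WK (p := p) (RingHom.ker f * c ^ n) • (⊤ : Submodule (WittVector p S) P') = ⊥ := by
      rw [hn, Ideal.zero_eq_bot, Ideal.mul_bot]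
      have h2 : Groth.Agent.DispLib.WK (p := p) (⊥ : Ideal S) = ⊥ := by
        refine le_bot_iff.1 fun y hy => WittVector.ext fun n => ?_
        rw [WittVector.zero_coeff]
        exact Groth.Agent.DispLib.mem_WK.1 hy n
      rw [h2, Submodule.bot_smul]
    have hmain : ∀ q : D.Q, ∃ q' : D'.Q, (p : WittVector p S) ^ n • ψ₀ q = q' ∧
        (p : WittVector p S) ^ n • ψ₀ (D.Vinv q) = D'.Vinv q' := fun q => by
      obtain ⟨q', h1, h2⟩ := hk n q
      rw [hbot, Submodule.mem_bot, sub_eq_zero] at h1 h2
      exact ⟨q', h1, h2⟩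
    have hQ : ∀ q : P, q ∈ D.Q → ((p : WittVector p S) ^ n • ψ₀) q ∈ D'.Q := fun q hq => by
      obtain ⟨q', h1, -⟩ := hmain ⟨q, hq⟩
      rw [LinearMap.smul_apply, h1]
      exact q'.2
    have hV : ∀ q : D.Q, ((p : WittVector p S) ^ n • ψ₀) (D.Vinv q) = D'.Vinv ⟨_, hQ q q.2⟩ := fun q => by
      obtain ⟨q', h1, h2⟩ := hmain q
      rw [LinearMap.smul_apply, h2]
      exact congrArg D'.Vinv (Subtype.ext h1.symm)
    refine ⟨n, (p : WittVector p S) ^ n • ψ₀, ⟨hQ, fun x => ?_, hV⟩, ?_⟩
    · rw [Groth.Agent.DispLib.F_eq_Vinv, hV, Groth.Agent.DispLib.F_eq_Vinv]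
      exact congrArg D'.Vinv (Subtype.ext (map_smul _ _ _))
    · refine Dieu.BC.ext _ fun x => ?_
      rw [Dieu.BC.map_tmul, LinearMap.smul_apply, ← Dieu.BC.ι_apply, map_smulₛₗ, Dieu.BC.ι_apply, hψ₀,
        map_pow, map_natCast, LinearMap.smul_apply]

end Groth.Agent.S16543
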