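import Groth.Statements.S16544
import Groth.Agent.DispLib.HomRigid
-- import your own Groth.Agent.* helpers here

set_option autoImplicit false
set_option backward.isDefEq.respectTransparency false
universe u v
open Disp

namespace Groth.Agent.S16544

/-- Let p be a prime and S a commutative ring in which p is nilpotent and whose nilradical (the ideal of
nilpotent elements) is a nilpotent ideal; let (P, Q, F, V⁻¹) and (P', Q', F', V'⁻¹) be displays over
S, i.e. 3n-displays whose operators V# satisfy the nilpotence condition. Then the group of
homomorphisms of displays from P to P' has no p-torsion: a W(S)-linear ψ : P → P' which is a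
homomorphism of 3n-displays and satisfies p·ψ = 0 is zero. (The published statement says
torsion-free; primes other than p are units in S, and the published proof treats the prime p.) -/
theorem result (p : ℕ) [Fact p.Prime]
    (S : Type u) [CommRing S] (hp : IsNilpotent (p : S)) (hn : IsNilpotent (nilradical S))
    (P P' : Type v) [AddCommGroup P] [Module (WittVector p S) P] [AddCommGroup P'] [Module (WittVector p S) P']
    (D : W4c1extbt610.Display3n p S P) (D' : W4c1extbt610.Display3n p S P')
    (hD : Dieu.IsDisplay D) (hD' : Dieu.IsDisplay D')
    (ψ : P →ₗ[WittVector p S] P') (hψ : W4c1extbt610.IsHom D D' ψ)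
    (h : (p : WittVector p S) • ψ = 0) : ψ = 0 := by
  classical
  haveI := D'.finite
  haveI := D'.projective
  obtain ⟨N, π, hπ⟩ := Module.Finite.exists_fin' (WittVector p S) P'
  obtain ⟨ι, hι⟩ := Module.projective_lifting_property π LinearMap.id hπ
  refine Groth.Agent.DispLib.hom_eq_zero hp _ hn D hD D' ψ hψ fun x => ?_
  rw [← LinearMap.id_apply (R := WittVector p S) (ψ x), ← hι, LinearMap.comp_apply,
    pi_eq_sum_univ' (ι (ψ x)), map_sum]
  refine Submodule.sum_mem _ fun j _ => ?_
  rw [map_smul]
  refine Submodule.smul_mem_smul ?_ Submodule.mem_top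
  have h1 : (p : WittVector p S) * ι (ψ x) j = 0 := by
    have := congr_fun (congrArg ι (LinearMap.congr_fun h x)) j
    simpa using this
  have hp0 : ((p : S ⧸ nilradical S)) = 0 := by
    rw [← map_natCast (Ideal.Quotient.mk (nilradical S)), Ideal.Quotient.eq_zero_iff_mem, mem_nilradical]
    exact hp
  have h2 := congrArg (WittVector.map (Ideal.Quotient.mk (nilradical S))) h1
  rw [map_mul, map_natCast, map_zero] at h2
  rw [Groth.Agent.DispLib.WK, RingHom.mem_ker]
  refine WittVector.ext fun n => ?_
  rcases subsingleton_or_nontrivial (S ⧸ nilradical S) with hS | hS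
  · exact Subsingleton.elim _ _
  haveI : CharP (S ⧸ nilradical S) p := (CharP.charP_iff_prime_eq_zero Fact.out).2 hp0
  have h3 := congrArg (fun z => WittVector.coeff z (n + 1)) h2
  simp only [WittVector.zero_coeff] at h3
  rw [mul_comm, WittVector.mul_charP_coeff_succ] at h3
  rw [WittVector.zero_coeff]
  haveI : IsReduced (S ⧸ nilradical S) :=
    (Ideal.isRadical_iff_quotient_reduced _).1 (Ideal.radical_isRadical _)
  exact IsReduced.pow_eq_zero h3 |>.trans rfl

end Groth.Agent.S16544
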