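import Groth.Statements.S16545
import Groth.Agent.DispLib.Descent
import Groth.Agent.DispLib.HomRigid
-- import your own Groth.Agent.* helpers here

set_option autoImplicit false
set_option backward.isDefEq.respectTransparency false
universe u v
open Disp

namespace Groth.Agent.S16545

/-- Let p be a prime, S → R a faithfully flat homomorphism of commutative rings with p nilpotent in S,
ι₁, ι₂ : R → R ⊗_S R the two coprojections, and (P, Q, F, V⁻¹), (P', Q', F', V'⁻¹) displays over S
with base changes (P_R, Q_R, F_R, V_R⁻¹) and (P'_R, Q'_R, F'_R, V'_R⁻¹) along S → R (the 3n-display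
structures on W(R) ⊗_{W(S)} P and W(R) ⊗_{W(S)} P' with Q_R = ker(P_R → R ⊗_S P/Q), F_R(w ⊗ x) =
σ(w) ⊗ F x, V_R⁻¹(w ⊗ y) = σ(w) ⊗ V⁻¹ y for y ∈ Q, V_R⁻¹(V(w) ⊗ x) = w ⊗ F x, and likewise for P').
Let χ : P_R → P'_R be a homomorphism of 3n-displays whose two scalar extensions along W(ι₁) and
W(ι₂) agree, after the modules W(R ⊗_S R) ⊗_{W(ι_i),W(R)} (W(R) ⊗_{W(S)} P) are mapped to W(R ⊗_S R)
⊗_{W(S)} P by the canonical maps u ⊗ (w ⊗ x) ↦ u·W(ι_i)(w) ⊗ x (and likewise for P'). Then there is
exactly one homomorphism of 3n-displays ψ : P → P' over S with id ⊗ ψ = χ: the sequence 0 → Hom(P,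
P') → Hom(P_R, P'_R) ⇉ Hom(P_{R⊗R}, P'_{R⊗R}) is exact. The hypotheses e₁, e₂ record that both
composite ring maps W(S) → W(R) → W(R ⊗_S R) equal W(S → R ⊗_S R); they serve to identify targets. -/
theorem result (p : ℕ) [Fact p.Prime]
    (S R : Type u) [CommRing S] [CommRing R] [Algebra S R] [Module.FaithfullyFlat S R] (hp : IsNilpotent (p : S))
    (e₁ : (WittVector.map (Algebra.TensorProduct.includeLeftRingHom : R →+* TensorProduct S R R) : WittVector p R →+* WittVector p (TensorProduct S R R)).comp (WittVector.map (algebraMap S R) : WittVector p S →+* WittVector p R) = (WittVector.map (algebraMap S (TensorProduct S R R)) : WittVector p S →+* WittVector p (TensorProduct S R R)))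
    (e₂ : (WittVector.map ((Algebra.TensorProduct.includeRight : R →ₐ[S] TensorProduct S R R) : R →+* TensorProduct S R R) : WittVector p R →+* WittVector p (TensorProduct S R R)).comp (WittVector.map (algebraMap S R) : WittVector p S →+* WittVector p R) = (WittVector.map (algebraMap S (TensorProduct S R R)) : WittVector p S →+* WittVector p (TensorProduct S R R)))
    (P P' : Type v) [AddCommGroup P] [Module (WittVector p S) P] [AddCommGroup P'] [Module (WittVector p S) P']
    (D : W4c1extbt610.Display3n p S P) (D' : W4c1extbt610.Display3n p S P')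
    (hD : Dieu.IsDisplay D) (hD' : Dieu.IsDisplay D')
    (DR : W4c1extbt610.Display3n p R (Dieu.BC (WittVector.map (algebraMap S R) : WittVector p S →+* WittVector p R) P)) (hDR : Dieu.IsDispBaseChange (algebraMap S R) D DR)
    (DR' : W4c1extbt610.Display3n p R (Dieu.BC (WittVector.map (algebraMap S R) : WittVector p S →+* WittVector p R) P')) (hDR' : Dieu.IsDispBaseChange (algebraMap S R) D' DR')
    (χ : Dieu.BC (WittVector.map (algebraMap S R) : WittVector p S →+* WittVector p R) P →ₗ[WittVector p R] Dieu.BC (WittVector.map (algebraMap S R) : WittVector p S →+* WittVector p R) P') (hχ : W4c1extbt610.IsHom DR DR' χ)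
    (hdesc : ∀ (z₁ : Dieu.BC (WittVector.map (Algebra.TensorProduct.includeLeftRingHom : R →+* TensorProduct S R R) : WittVector p R →+* WittVector p (TensorProduct S R R)) (Dieu.BC (WittVector.map (algebraMap S R) : WittVector p S →+* WittVector p R) P)) (z₂ : Dieu.BC (WittVector.map ((Algebra.TensorProduct.includeRight : R →ₐ[S] TensorProduct S R R) : R →+* TensorProduct S R R) : WittVector p R →+* WittVector p (TensorProduct S R R)) (Dieu.BC (WittVector.map (algebraMap S R) : WittVector p S →+* WittVector p R) P)),
      (Dieu.BC.castHom (P := P) e₁).comp (Dieu.BC.lift (WittVector.map (Algebra.TensorProduct.includeLeftRingHom : R →+* TensorProduct S R R) : WittVector p R →+* WittVector p (TensorProduct S R R)) (Dieu.BC.push (WittVector.map (algebraMap S R) : WittVector p S →+* WittVector p R) (WittVector.map (Algebra.TensorProduct.includeLeftRingHom : R →+* TensorProduct S R R) : WittVector p R →+* WittVector p (TensorProduct S R R)))) z₁ = (Dieu.BC.castHom (P := P) e₂).comp (Dieu.BC.lift (WittVector.map ((Algebra.TensorProduct.includeRight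 : R →ₐ[S] TensorProduct S R R) : R →+* TensorProduct S R R) : WittVector p R →+* WittVector p (TensorProduct S R R)) (Dieu.BC.push (WittVector.map (algebraMap S R) : WittVector p S →+* WittVector p R) (WittVector.map ((Algebra.TensorProduct.includeRight : R →ₐ[S] TensorProduct S R R) : R →+* TensorProduct S R R) : WittVector p R →+* WittVector p (TensorProduct S R R)))) z₂ →
        (Dieu.BC.castHom (P := P') e₁).comp (Dieu.BC.lift (WittVector.map (Algebra.TensorProduct.includeLeftRingHom : R →+* TensorProduct S R R) : WittVector p R →+* WittVector p (TensorProduct S R R)) (Dieu.BC.push (WittVector.map (algebraMap S R) : WittVector p S →+* WittVector p R) (WittVector.map (Algebra.TensorProduct.includeLeftRingHom : R →+* TensorProduct S R R) : WittVector p R →+* WittVector p (TensorProduct S R R)))) (Dieu.BC.map (WittVector.map (Algebra.TensorProduct.includeLeftRingHom : R →+* TensorProduct S R R) : WittVector p R →+* WittVector p (TensorProduct S R R)) χ z₁) =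
          (Dieu.BC.castHom (P := P') e₂).comp (Dieu.BC.lift (WittVector.map ((Algebra.TensorProduct.includeRight : R →ₐ[S] TensorProduct S R R) : R →+* TensorProduct S R R) : WittVector p R →+* WittVector p (TensorProduct S R R)) (Dieu.BC.push (WittVector.map (algebraMap S R) : WittVector p S →+* WittVector p R) (WittVector.map ((Algebra.TensorProduct.includeRight : R →ₐ[S] TensorProduct S R R) : R →+* TensorProduct S R R) : WittVector p R →+* WittVector p (TensorProduct S R R)))) (Dieu.BC.map (WittVector.map ((Algebra.TensorProduct.includeRight : R →ₐ[S] TensorProduct S R R) : R →+* TensorProduct S R R) : WittVector p R →+* WittVector p (TensorProduct S R R)) χ z₂)) :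
    ∃! ψ : P →ₗ[WittVector p S] P', W4c1extbt610.IsHom D D' ψ ∧ Dieu.BC.map (WittVector.map (algebraMap S R) : WittVector p S →+* WittVector p R) ψ = χ := by
  classical
  haveI := D'.finite
  haveI := D'.projective
  haveI : Module.Flat (WittVector p S) P' := Module.Flat.of_projective
  obtain ⟨hinj, hex⟩ := Groth.Agent.DispLib.bc_descent (M := P') (e₁.trans e₂.symm)
  have hx : ∀ x : P, χ (Dieu.BC.tmul (WittVector.map (algebraMap S R) : WittVector p S →+* WittVector p R) 1 x) ∈ Set.range (Dieu.BC.ι (WittVector.map (algebraMap S R) : WittVector p S →+* WittVector p R) P') := fun x => by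
    rw [← hex]
    have h := hdesc (Dieu.BC.tmul (WittVector.map (Algebra.TensorProduct.includeLeftRingHom : R →+* TensorProduct S R R) : WittVector p R →+* WittVector p (TensorProduct S R R)) 1 (Dieu.BC.tmul (WittVector.map (algebraMap S R) : WittVector p S →+* WittVector p R) 1 x)) (Dieu.BC.tmul (WittVector.map ((Algebra.TensorProduct.includeRight : R →ₐ[S] TensorProduct S R R) : R →+* TensorProduct S R R) : WittVector p R →+* WittVector p (TensorProduct S R R)) 1 (Dieu.BC.tmul (WittVector.map (algebraMap S R) : WittVector p S →+* WittVector p R) 1 x))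
      (by simp)
    simp only [Dieu.BC.map_tmul, LinearMap.comp_apply, Dieu.BC.lift_tmul, one_smul] at h
    revert h
    generalize χ (Dieu.BC.tmul (WittVector.map (algebraMap S R) : WittVector p S →+* WittVector p R) 1 x) = z
    intro h
    have h1 : ∀ (w : Dieu.BC ((WittVector.map (Algebra.TensorProduct.includeLeftRingHom : R →+* TensorProduct S R R) : WittVector p R →+* WittVector p (TensorProduct S R R)).comp (WittVector.map (algebraMap S R) : WittVector p S →+* WittVector p R)) P'), Dieu.BC.castHom (e₁.trans e₂.symm) w =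
        Dieu.BC.castHom e₂.symm (Dieu.BC.castHom e₁ w) := by
      intro w
      induction w using Dieu.BC.induction_on ((WittVector.map (Algebra.TensorProduct.includeLeftRingHom : R →+* TensorProduct S R R) : WittVector p R →+* WittVector p (TensorProduct S R R)).comp (WittVector.map (algebraMap S R) : WittVector p S →+* WittVector p R)) with
      | zero => simp only [map_zero]
      | tmul b y => simp only [Dieu.BC.castHom_tmul]
      | add u v hu hv => simp only [map_add, hu, hv]
    have h2 : ∀ (w : Dieu.BC ((WittVector.map ((Algebra.TensorProduct.includeRight : R →ₐ[S] TensorProduct S R R) : R →+* TensorProduct S R R) : WittVector p R →+* WittVector p (TensorProduct S R R)).comp (WittVector.map (algebraMap S R) : WittVector p S →+* WittVector p R)) P'), Dieu.BC.castHom e₂.symm (Dieu.BC.castHom e₂ w) = w := by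
      intro w
      induction w using Dieu.BC.induction_on ((WittVector.map ((Algebra.TensorProduct.includeRight : R →ₐ[S] TensorProduct S R R) : R →+* TensorProduct S R R) : WittVector p R →+* WittVector p (TensorProduct S R R)).comp (WittVector.map (algebraMap S R) : WittVector p S →+* WittVector p R)) with
      | zero => simp only [map_zero]
      | tmul b y => simp only [Dieu.BC.castHom_tmul]
      | add u v hu hv => simp only [map_add, hu, hv]
    rw [h1, h, h2]
  choose ψ₀ hψ₀ using hx
  let ψ : P →ₗ[WittVector p S] P' :=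
    { toFun := ψ₀
      map_add' := fun a b => hinj (by rw [map_add, hψ₀, hψ₀, hψ₀, Dieu.BC.tmul_add, map_add])
      map_smul' := fun r a => hinj (by
        rw [RingHom.id_apply, map_smulₛₗ (Dieu.BC.ι (WittVector.map (algebraMap S R) : WittVector p S →+* WittVector p R) P'), hψ₀, hψ₀, ← map_smul, ← Dieu.BC.tmul_apply_eq,
          Dieu.BC.smul_tmul, mul_one]) }
  have hψ : ∀ x, Dieu.BC.tmul (WittVector.map (algebraMap S R) : WittVector p S →+* WittVector p R) 1 (ψ x) = χ (Dieu.BC.tmul (WittVector.map (algebraMap S R) : WittVector p S →+* WittVector p R) 1 x) := hψ₀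
  have hmaps : ∀ q : P, q ∈ D.Q → ψ q ∈ D'.Q := fun q hq => by
    have h1 : Dieu.BC.tmul (WittVector.map (algebraMap S R) : WittVector p S →+* WittVector p R) 1 (ψ q) ∈ LinearMap.ker (Dieu.bcQuotMap (algebraMap S R) D'.Q) := by
      rw [hψ, ← hDR'.Q_eq]
      exact hχ.mapsTo _ (hDR.Q_eq ▸ Groth.Agent.DispLib.tmul_mem (algebraMap S R) D 1 hq)
    obtain ⟨y, hy, hd⟩ := Groth.Agent.DispLib.exists_Q_sub_mem _ D' _ h1
    have hk : RingHom.ker (WittVector.map (algebraMap S R) : WittVector p S →+* WittVector p R) = ⊥ :=
      (RingHom.injective_iff_ker_eq_bot _).1 (WittVector.map_injective _ (FaithfulSMul.algebraMap_injective S R))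
    rw [hk, Submodule.bot_smul, Submodule.mem_bot, sub_eq_zero] at hd
    exact hd ▸ hy
  have hom : W4c1extbt610.IsHom D D' ψ := by
    refine ⟨hmaps, fun x => hinj ?_, fun q => hinj ?_⟩
    · rw [Dieu.BC.ι_apply, Dieu.BC.ι_apply, hψ]
      have h1 := hDR.F_tmul 1 x
      have h2 := hDR'.F_tmul 1 (ψ x)
      rw [map_one] at h1 h2
      rw [← h1, hχ.comm_F, ← hψ, h2]
    · rw [Dieu.BC.ι_apply, Dieu.BC.ι_apply, hψ]
      have hq : Dieu.BC.tmul (WittVector.map (algebraMap S R) : WittVector p S →+* WittVector p R) 1 (q : P) ∈ DR.Q := hDR.Q_eq ▸ Groth.Agent.DispLib.tmul_mem _ D 1 q.2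
      have hq' : Dieu.BC.tmul (WittVector.map (algebraMap S R) : WittVector p S →+* WittVector p R) 1 (ψ q) ∈ DR'.Q := hDR'.Q_eq ▸ Groth.Agent.DispLib.tmul_mem _ D' 1 (hmaps q q.2)
      have h1 := hDR.Vinv_tmul 1 q hq
      have h2 := hDR'.Vinv_tmul 1 ⟨ψ q, hmaps q q.2⟩ hq'
      rw [map_one] at h1 h2
      rw [← h1, hχ.comm_Vinv, ← h2]
      exact congrArg DR'.Vinv (Subtype.ext (hψ q).symm)
  refine ⟨ψ, ⟨hom, Dieu.BC.ext _ fun x => by rw [Dieu.BC.map_tmul, hψ]⟩, fun ψ' h' => ?_⟩
  refine LinearMap.ext fun x => hinj ?_
  rw [Dieu.BC.ι_apply, Dieu.BC.ι_apply, hψ, ← h'.2, Dieu.BC.map_tmul]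

end Groth.Agent.S16545
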