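import Mathlib
import Groth.Agent.EakinNagata.Basic
import Groth.Statements.S16547

set_option autoImplicit false
universe u
open CAlg

namespace Groth.Agent.S16547

/-- Let A be a Noetherian factorial local domain and G a finite group acting faithfully on A by ring
automorphisms; let B be a ring with an injective ring map to A whose image is exactly the ring of
invariants of G, and assume A is a finite B-module. Let q be a prime ideal of B of height one and p
a prime ideal of A lying over q such that the extension of residue fields of the local rings B_q and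
A_p is trivial (every element of A is congruent modulo p to some c⁻¹b with b, c in B, c outside q).
Then q is a principal ideal; and if moreover B/q is a regular local ring, then B is a regular local
ring. -/
theorem result
    {A B G : Type u} [CommRing A] [IsDomain A] [IsNoetherianRing A] [IsLocalRing A]
    [UniqueFactorizationMonoid A]
    [CommRing B] [Algebra B A] [FaithfulSMul B A] [Module.Finite B A]
    [Group G] [Finite G] [MulSemiringAction G A] [FaithfulSMul G A] [SMulCommClass G B A]
    [Algebra.IsInvariant B A G]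
    (q : Ideal B) [q.IsPrime] (hq : q.height = 1) (p : Ideal A) [p.IsPrime] [p.LiesOver q]
    (hres : ∀ a : A, ∃ b c : B, c ∉ q ∧ algebraMap B A c * a - algebraMap B A b ∈ p) :
    Submodule.IsPrincipal q ∧ (IsRegularLocalRing (B ⧸ q) → IsRegularLocalRing B) := by
  classical
  have hinjBA : Function.Injective (algebraMap B A) := FaithfulSMul.algebraMap_injective B A
  have hinvB : ∀ (g : G) (b : B), g • algebraMap B A b = algebraMap B A b :=
    fun g b => smul_algebraMap g b
  have hfix : ∀ x : A, (∀ g : G, g • x = x) → ∃ b : B, algebraMap B A b = x :=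
    Algebra.IsInvariant.isInvariant
  have hqcomap : ∀ b : B, b ∈ q ↔ algebraMap B A b ∈ p := fun b => by
    rw [p.over_def q, Ideal.mem_comap]
  have hG : Fintype G := Fintype.ofFinite G
  have hBdom : IsDomain B := hinjBA.isDomain
  have : IsNoetherianRing B := EakinNagata.isNoetherianRing_of_finite B A
  -- the prime `p` is principal, generated by a prime element
  have hqne : q ≠ ⊥ := by
    rintro rfl
    rw [Ideal.height_bot] at hq
    exact zero_ne_one hq
  obtain ⟨b₁, hb₁q, hb₁0⟩ := (Submodule.ne_bot_iff q).mp hqne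
  have hpne : p ≠ ⊥ := by
    intro h
    have h1 := (hqcomap b₁).mp hb₁q
    rw [h, Submodule.mem_bot] at h1
    exact hb₁0 (hinjBA (by rw [h1, map_zero]))
  obtain ⟨π, hπp, hπ⟩ := Ideal.IsPrime.exists_mem_prime_of_ne_bot ‹p.IsPrime› hpne
  have hint : Algebra.IsIntegral B A := inferInstance
  have hpeq : p = Ideal.span {π} := by
    have hπI : (Ideal.span {π} : Ideal A).IsPrime :=
      (Ideal.span_singleton_prime hπ.ne_zero).mpr hπ
    have hle : Ideal.span {π} ≤ p := by rwa [Ideal.span_singleton_le_iff_mem]
    rcases lt_or_eq_of_le hle with hlt | heq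
    · exfalso
      have h1 : (Ideal.span {π} : Ideal A).comap (algebraMap B A) < q := by
        rw [p.over_def q]
        exact Ideal.IsIntegral.comap_lt_comap hlt
      have h2 : (Ideal.span {π} : Ideal A).comap (algebraMap B A) ≠ ⊥ := fun h =>
        hπ.ne_zero (Ideal.span_singleton_eq_bot.mp (Ideal.eq_bot_of_comap_eq_bot h))
      have h3 := Ideal.height_strict_mono_of_isPrime h1
      rw [hq, Order.lt_one_iff, Ideal.height_eq_zero_iff_eq_bot] at h3
      exact h2 h3
    · exact heq.symm
  have hmemp : ∀ a : A, a ∈ p ↔ π ∣ a := fun a => by rw [hpeq, Ideal.mem_span_singleton]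
  have hprime : ∀ g : G, Prime (g • π) := fun g =>
    (MulEquiv.prime_iff (MulSemiringAction.toRingEquiv G A g : A ≃* A)).mpr hπ
  have hgne : ∀ g : G, g • π ≠ 0 := fun g => (hprime g).ne_zero
  have hsdvd : ∀ (g : G) {x y : A}, x ∣ y → g • x ∣ g • y := by
    rintro g x y ⟨z, rfl⟩
    exact ⟨g • z, smul_mul' g x z⟩
  -- residues at the conjugates of `π` come from `B`
  have hRes : ∀ (g : G) (a : A), ∃ b c : B, c ∉ q ∧
      g • π ∣ algebraMap B A c * a - algebraMap B A b := by
    intro g a
    obtain ⟨b, c, hc, h⟩ := hres (g⁻¹ • a)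
    refine ⟨b, c, hc, ?_⟩
    have h2 := hsdvd g ((hmemp _).mp h)
    rwa [smul_sub, smul_mul', hinvB, hinvB, smul_inv_smul] at h2
  -- the conjugates of `π` up to units
  let α : G → Associates A := fun g => Associates.mk (g • π)
  let O : Finset (Associates A) := Finset.univ.image α
  have hrep : ∀ x ∈ O, ∃ g : G, α g = x := fun x hx => by
    obtain ⟨g, -, hg⟩ := Finset.mem_image.mp hx
    exact ⟨g, hg⟩
  choose! rep hrep using hrep
  let r : Associates A → A := fun x => rep x • π
  let N : A := ∏ x ∈ O, r x
  let d : ℕ := (Finset.univ.filter fun g => α g = α 1).card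
  have hfiber : ∀ x ∈ O, (Finset.univ.filter fun g => α g = x).card = d := by
    intro x hx
    have key : ∀ h : G, α (rep x * h) = x ↔ α h = α 1 := by
      intro h
      conv_lhs => rhs; rw [← hrep x hx]
      simp only [α, Associates.mk_eq_mk_iff_associated, ← dvd_dvd_iff_associated, mul_smul,
        one_smul]
      constructor
      · rintro ⟨h1, h2⟩
        have h1' := hsdvd (rep x)⁻¹ h1
        have h2' := hsdvd (rep x)⁻¹ h2
        simp only [inv_smul_smul] at h1' h2'
        exact ⟨h1', h2'⟩
      · rintro ⟨h1, h2⟩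
        exact ⟨hsdvd _ h1, hsdvd _ h2⟩
    symm
    refine Finset.card_bij (fun h _ => rep x * h) (fun h hh => ?_)
      (fun h1 _ h2 _ h12 => mul_left_cancel h12) (fun g hg => ?_)
    · simpa [key] using hh
    · refine ⟨(rep x)⁻¹ * g, ?_, by simp⟩
      have h1 := (key ((rep x)⁻¹ * g)).mp (by simpa using hg)
      simpa using h1
  have hcardG : Fintype.card G = O.card * d := by
    rw [← Finset.card_univ, Finset.card_eq_sum_card_image α]
    exact (Finset.sum_congr rfl hfiber).trans (by rw [Finset.sum_const, smul_eq_mul])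
  -- the multiplicity
  have hex : ∃ n : ℕ, ∃ b ∈ q, ¬ π ^ (n + 1) ∣ algebraMap B A b := by
    obtain ⟨n, hn⟩ := FiniteMultiplicity.of_prime_left hπ
      (show algebraMap B A b₁ ≠ 0 from fun h => hb₁0 (hinjBA (by rw [h, map_zero])))
    exact ⟨n, b₁, hb₁q, hn⟩
  let e := Nat.find hex
  obtain ⟨b₀, hb₀q, hb₀⟩ : ∃ b ∈ q, ¬ π ^ (e + 1) ∣ algebraMap B A b := Nat.find_spec hex
  have hediv : ∀ b ∈ q, π ^ e ∣ algebraMap B A b := by
    intro b hb
    rcases Nat.eq_zero_or_pos e with h0 | hpos
    · rw [h0, pow_zero]; exact one_dvd _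
    · by_contra hnd
      refine Nat.find_min hex (show e - 1 < e by omega) ⟨b, hb, ?_⟩
      rwa [Nat.sub_add_cancel hpos]
  have hNdvd : ∀ b ∈ q, N ^ e ∣ algebraMap B A b := by
    intro b hb
    rw [← Finset.prod_pow]
    refine Finset.prod_dvd_of_isRelPrime (fun x hx y hy hxy => ?_) (fun x _ => ?_)
    · refine IsRelPrime.pow ((hprime _).irreducible.isRelPrime_iff_not_dvd.mpr fun hdvd => ?_)
      apply hxy
      have h1 : Associated (r x) (r y) := (hprime _).associated_of_dvd (hprime _) hdvd
      rw [← hrep x hx, ← hrep y hy]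
      exact Associates.mk_eq_mk_iff_associated.mpr h1
    · have h1 := hsdvd (rep x) (hediv b hb)
      rwa [smul_pow', hinvB] at h1
  obtain ⟨w, hw⟩ := hNdvd b₀ hb₀q
  -- `w` is invertible away from `q`
  have hwnot : ∀ g : G, ¬ π ∣ g • w := by
    intro g hg
    have h1 := hsdvd g⁻¹ hg
    rw [inv_smul_smul] at h1
    have hx : α g⁻¹ ∈ O := Finset.mem_image_of_mem α (Finset.mem_univ _)
    have hass : Associated (r (α g⁻¹)) (g⁻¹ • π) :=
      Associates.mk_eq_mk_iff_associated.mp (hrep _ hx)
    have h2 : r (α g⁻¹) ^ (e + 1) ∣ algebraMap B A b₀ := by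
      rw [hw, pow_succ]
      refine mul_dvd_mul (pow_dvd_pow_of_dvd (Finset.dvd_prod_of_mem r hx) e) ?_
      exact hass.dvd.trans h1
    have h3 := hsdvd (rep (α g⁻¹))⁻¹ h2
    simp only [r, smul_pow', inv_smul_smul, hinvB] at h3
    exact hb₀ h3
  obtain ⟨cw, hcw⟩ := hfix (∏ g : G, g • w) (fun h => by
    rw [Finset.smul_prod']
    simp only [smul_smul]
    exact Fintype.prod_equiv (Equiv.mulLeft h) _ _ fun g => rfl)
  have hcwq : cw ∉ q := by
    rw [hqcomap, hmemp, hcw]
    intro h
    obtain ⟨g, -, hg⟩ := (hπ.dvd_finsetProd_iff _).mp h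
    exact hwnot g hg
  -- generation
  have hgood : ∀ (n : ℕ), ∃ T : Finset A, T.card ≤ n * O.card ∧ ∀ a : A, ∃ c : B, c ∉ q ∧
      ∃ t ∈ Submodule.span B (T : Set A), ∃ a' : A, c • a = t + N ^ n * a' := by
    have step : ∀ (z : A) (g : G) (T : Finset A),
        (∀ a : A, ∃ c : B, c ∉ q ∧ ∃ t ∈ Submodule.span B (T : Set A), ∃ a' : A,
          c • a = t + z * a') →
        (∀ a : A, ∃ c : B, c ∉ q ∧ ∃ t ∈ Submodule.span B ((insert z T : Finset A) : Set A),
          ∃ a' : A, c • a = t + (z * (g • π)) * a') := by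
      intro z g T h a
      obtain ⟨c, hc, t, ht, a', h1⟩ := h a
      obtain ⟨b, c', hc', a'', h2⟩ := hRes g a'
      refine ⟨c' * c, fun hm => (‹q.IsPrime›.mem_or_mem hm).elim hc' hc, c' • t + b • z, ?_, a'',
        ?_⟩
      · rw [Finset.coe_insert]
        exact Submodule.add_mem _
          (Submodule.smul_mem _ _ (Submodule.span_mono (Set.subset_insert _ _) ht))
          (Submodule.smul_mem _ _ (Submodule.subset_span (Set.mem_insert _ _)))
      · simp only [Algebra.smul_def, map_mul] at h1 ⊢
        linear_combination (algebraMap B A c') * h1 + z * h2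
    intro n
    induction n with
    | zero =>
      refine ⟨∅, by simp, fun a => ⟨1, fun h => ‹q.IsPrime›.one_notMem h, 0,
        Submodule.zero_mem _, a, by simp⟩⟩
    | succ n ih =>
      have : ∀ s : Finset (Associates A), ∃ T : Finset A, T.card ≤ n * O.card + s.card ∧
          ∀ a : A, ∃ c : B, c ∉ q ∧ ∃ t ∈ Submodule.span B (T : Set A), ∃ a' : A,
            c • a = t + (N ^ n * ∏ x ∈ s, r x) * a' := by
        intro s
        induction s using Finset.induction with
        | empty => simpa using ih
        | insert x s hx ih' =>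
          obtain ⟨T, hT, h⟩ := ih'
          refine ⟨insert (N ^ n * ∏ x ∈ s, r x) T, ?_, fun a => ?_⟩
          · have := Finset.card_insert_le (N ^ n * ∏ x ∈ s, r x) T
            rw [Finset.card_insert_of_notMem hx]; omega
          · rw [Finset.prod_insert hx, show N ^ n * (r x * ∏ x ∈ s, r x)
              = (N ^ n * ∏ x ∈ s, r x) * r x by ring]
            exact step _ (rep x) T h a
      obtain ⟨T, hT, h⟩ := this O
      exact ⟨T, by rw [add_one_mul]; omega, fun a => by rw [pow_succ]; exact h a⟩
  obtain ⟨T, hT, hTgen⟩ := hgood e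
  -- Nakayama
  let M := A ⧸ Submodule.span B (T : Set A)
  have hM : ∀ x : M, ∃ c : B, c ∉ q ∧ c • x ∈ q • (⊤ : Submodule B M) := by
    intro x
    obtain ⟨a, rfl⟩ := Submodule.Quotient.mk_surjective _ x
    obtain ⟨c, hc, t, ht, a', h⟩ := hTgen a
    refine ⟨cw * c, fun hm => (‹q.IsPrime›.mem_or_mem hm).elim hcwq hc, ?_⟩
    have h1 : (cw * c) • a
        = cw • t + b₀ • ((∏ g ∈ Finset.univ.erase (1 : G), g • w) * a') := by
      have hsplit : algebraMap B A cw = w * ∏ g ∈ Finset.univ.erase (1 : G), g • w := by
        rw [hcw, ← Finset.mul_prod_erase Finset.univ (fun g : G => g • w)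
          (Finset.mem_univ (1 : G)), one_smul]
      simp only [Algebra.smul_def, map_mul] at h ⊢
      rw [hw]
      linear_combination (algebraMap B A cw) * h + (N ^ e * a') * hsplit
    rw [← Submodule.Quotient.mk_smul, h1, Submodule.Quotient.mk_add,
      (Submodule.Quotient.mk_eq_zero _).mpr (Submodule.smul_mem _ cw ht), zero_add,
      Submodule.Quotient.mk_smul]
    exact Submodule.smul_mem_smul hb₀q trivial
  obtain ⟨c₀, hc₀, hc₀M⟩ : ∃ c : B, c ∉ q ∧ ∀ x : M, c • x ∈ q • (⊤ : Submodule B M) := by
    obtain ⟨gs, hgs⟩ := (Module.Finite.fg_top : (⊤ : Submodule B M).FG)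
    choose cf hcf hcfM using hM
    refine ⟨∏ x ∈ gs, cf x, fun h => ?_, fun x => ?_⟩
    · obtain ⟨x, -, hx⟩ := ‹q.IsPrime›.prod_mem_iff.mp h
      exact hcf x hx
    · have : Submodule.span B (gs : Set M) ≤
          (q • (⊤ : Submodule B M)).comap (LinearMap.lsmul B M (∏ x ∈ gs, cf x)) := by
        refine Submodule.span_le.mpr fun y hy => ?_
        show (∏ x ∈ gs, cf x) • y ∈ q • (⊤ : Submodule B M)
        rw [← Finset.mul_prod_erase gs cf hy, mul_comm, mul_smul]
        exact Submodule.smul_mem _ _ (hcfM y)
      exact this (hgs ▸ Submodule.mem_top)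
  obtain ⟨c₁, hc₁, hc₁M⟩ : ∃ c : B, c ∉ q ∧ ∀ x : M, c • x = 0 := by
    obtain ⟨P, hPmonic, hPdeg, hPcoeff, hP⟩ :=
      LinearMap.exists_monic_and_natDegree_eq_and_coeff_mem_pow_and_aeval_eq_zero B
        (c₀ • LinearMap.id : M →ₗ[B] M) q (by rintro _ ⟨x, rfl⟩; exact hc₀M x)
    refine ⟨P.eval c₀, fun hmem => hc₀ (‹q.IsPrime›.mem_of_pow_mem P.natDegree ?_), fun x => ?_⟩
    · rw [Polynomial.eval_eq_sum_range, Finset.sum_range_succ, hPmonic.coeff_natDegree,
        one_mul] at hmem
      refine (Submodule.add_mem_iff_right _ (Submodule.sum_mem _ fun i hi => ?_)).mp hmem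
      exact Ideal.mul_mem_right _ _ (Ideal.pow_le_self
        (Nat.sub_ne_zero_of_lt (Finset.mem_range.mp hi)) (hPcoeff i))
    · have h1 : Polynomial.aeval (algebraMap B (Module.End B M) c₀) P = 0 := hP
      rw [Polynomial.aeval_algebraMap_apply] at h1
      have h2 := LinearMap.congr_fun h1 x
      simpa [Module.algebraMap_end_apply, Polynomial.aeval_def] using h2
  -- compare with the order of the group
  have hGcard : Fintype.card G ≤ T.card := by
    by_contra hlt
    push Not at hlt
    have hdep : ¬ LinearIndependent A (fun g : G => fun t : T => g • (t : A)) := fun hli => by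
      have := hli.fintype_card_le_finrank
      rw [Module.finrank_pi, Fintype.card_coe] at this
      omega
    obtain ⟨l, hl, g₀, hg₀⟩ := Fintype.not_linearIndependent_iff.mp hdep
    have hspan : ∀ a ∈ Submodule.span B (T : Set A), ∑ g, l g * (g • a) = 0 := by
      intro a ha
      induction ha using Submodule.span_induction with
      | mem y hy => simpa [Finset.sum_apply] using congrFun hl ⟨y, hy⟩
      | zero => simp
      | add y z _ _ hy hz =>
        simp only [smul_add, mul_add, Finset.sum_add_distrib, hy, hz, add_zero]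
      | smul b y _ hy =>
        simp only [Algebra.smul_def, smul_mul', hinvB, mul_left_comm (l _), ← Finset.mul_sum, hy,
          mul_zero]
    have hall : ∀ a : A, ∑ g, l g * (g • a) = 0 := by
      intro a
      have h1 : c₁ • a ∈ Submodule.span B (T : Set A) := by
        rw [← Submodule.Quotient.mk_eq_zero, Submodule.Quotient.mk_smul]
        exact hc₁M _
      have h2 := hspan _ h1
      simp only [Algebra.smul_def, smul_mul', hinvB, mul_left_comm (l _), ← Finset.mul_sum] at h2
      refine (mul_eq_zero.mp h2).resolve_left fun h0 => hc₁ ?_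
      rw [hinjBA (h0.trans (map_zero _).symm)]
      exact q.zero_mem
    let χ : G → (A →* A) := fun g => (MulSemiringAction.toRingHom G A g : A →* A)
    have hχ : Function.Injective χ := fun g h hgh =>
      FaithfulSMul.eq_of_smul_eq_smul fun a => DFunLike.congr_fun hgh a
    have hli := (linearIndependent_monoidHom A A).comp χ hχ
    exact hg₀ (Fintype.linearIndependent_iff.mp hli l (funext fun a => by
      simpa [χ, Finset.sum_apply] using hall a) g₀)
  have hde : d ≤ e := by
    have h1 : O.card * d ≤ O.card * e := by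
      rw [← hcardG, mul_comm O.card e]
      exact hGcard.trans hT
    exact Nat.le_of_mul_le_mul_left h1
      (Finset.card_pos.mpr ⟨α 1, Finset.mem_image_of_mem α (Finset.mem_univ _)⟩)
  -- the generator
  obtain ⟨f, hf⟩ := hfix (∏ g : G, g • π) (fun h => by
    rw [Finset.smul_prod']
    simp only [smul_smul]
    exact Fintype.prod_equiv (Equiv.mulLeft h) _ _ fun g => rfl)
  have hfne : algebraMap B A f ≠ 0 := by
    rw [hf]; exact Finset.prod_ne_zero_iff.mpr fun g _ => hgne g
  have hfq : f ∈ q := by
    rw [hqcomap, hmemp, hf]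
    simpa using Finset.dvd_prod_of_mem (fun g : G => g • π) (Finset.mem_univ (1 : G))
  have hqf : q = Ideal.span {f} := by
    refine le_antisymm (fun b hb => ?_) (by rwa [Ideal.span_singleton_le_iff_mem])
    have h1 : algebraMap B A f ∣ algebraMap B A b := by
      rw [hf]
      have hass : Associated (∏ g : G, g • π) (N ^ d) := by
        rw [← Associates.mk_eq_mk_iff_associated, Associates.mk_pow, ← Associates.finset_prod_mk]
        show ∏ g, α g = _
        rw [show (∏ g, α g) = ∏ x ∈ O, x ^ (Finset.univ.filter fun g => α g = x).card from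
          Finset.prod_comp id α, show Associates.mk N = ∏ x ∈ O, Associates.mk (r x) from
          Associates.finset_prod_mk.symm, ← Finset.prod_pow]
        refine Finset.prod_congr rfl fun x hx => ?_
        rw [hfiber x hx]
        exact congrArg (· ^ d) (hrep x hx).symm
      exact hass.dvd.trans ((pow_dvd_pow N hde).trans (hNdvd b hb))
    obtain ⟨a, ha⟩ := h1
    obtain ⟨a', ha'⟩ := hfix a (fun g => by
      have h2 := congrArg (g • ·) ha
      simp only [smul_mul', hinvB] at h2
      exact mul_left_cancel₀ hfne (h2.symm.trans ha))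
    rw [Ideal.mem_span_singleton]
    exact ⟨a', hinjBA (by rw [map_mul, ha', ← ha])⟩
  refine ⟨⟨f, hqf⟩, fun hreg => ?_⟩
  -- regularity
  have : IsLocalHom (algebraMap B A) := ⟨fun b hb => by
    obtain ⟨u, hu⟩ := hb
    obtain ⟨b', hb'⟩ := hfix ((u⁻¹ : Aˣ) : A) (fun g => by
      apply u.isUnit.mul_left_cancel
      have h1 : g • ((u : A) * ((u⁻¹ : Aˣ) : A)) = (u : A) * (g • ((u⁻¹ : Aˣ) : A)) := by
        rw [smul_mul', hu, hinvB]
      rw [← h1, Units.mul_inv, smul_one])
    refine IsUnit.of_mul_eq_one b' (hinjBA ?_)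
    rw [map_mul, hb', map_one, ← hu, Units.mul_inv]⟩
  have : IsLocalRing B := RingHom.domain_isLocalRing (algebraMap B A)
  have hfne' : f ≠ 0 := fun h => hfne (by rw [h, map_zero])
  subst hqf
  refine IsRegularLocalRing.of_spanFinrank_maximalIdeal_le B ?_
  refine le_trans ?_ (ringKrullDim_quotient_succ_le_of_nonZeroDivisor
    (mem_nonZeroDivisors_of_ne_zero hfne'))
  rw [← hreg.spanFinrank_maximalIdeal]
  norm_cast
  obtain ⟨s, hscard, hs⟩ := Submodule.FG.exists_span_finset_card_eq_spanFinrank
    (IsNoetherian.noetherian (IsLocalRing.maximalIdeal (B ⧸ Ideal.span {f})))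
  choose lift hlift using fun y : B ⧸ Ideal.span {f} => Ideal.Quotient.mk_surjective y
  have hle : Ideal.span {f} ≤ IsLocalRing.maximalIdeal B :=
    IsLocalRing.le_maximalIdeal (Ideal.IsPrime.ne_top ‹_›)
  have hmax : IsLocalRing.maximalIdeal B = Ideal.span (insert f (s.image lift) : Finset B) := by
    rw [Finset.coe_insert, Finset.coe_image, Ideal.span_insert]
    have h1 : Ideal.map (Ideal.Quotient.mk (Ideal.span {f})) (IsLocalRing.maximalIdeal B)
        = Ideal.map (Ideal.Quotient.mk (Ideal.span {f})) (Ideal.span (lift '' ↑s)) := by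
      rw [Ideal.map_span, ← Set.image_comp]
      rw [show (Ideal.Quotient.mk (Ideal.span {f})) ∘ lift = id from funext hlift, Set.image_id,
        show Ideal.span (↑s : Set (B ⧸ Ideal.span {f})) = _ from hs]
      refine IsLocalRing.eq_maximalIdeal ?_
      refine (Ideal.map_eq_top_or_isMaximal_of_surjective _ Ideal.Quotient.mk_surjective
        (IsLocalRing.maximalIdeal.isMaximal B)).resolve_left fun htop => ?_
      have h2 := congrArg (Ideal.comap (Ideal.Quotient.mk (Ideal.span {f}))) htop
      rw [Ideal.comap_map_of_surjective' _ Ideal.Quotient.mk_surjective, Ideal.mk_ker,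
        Ideal.comap_top, sup_eq_left.mpr hle] at h2
      exact (IsLocalRing.maximalIdeal.isMaximal B).ne_top h2
    have h2 := congrArg (Ideal.comap (Ideal.Quotient.mk (Ideal.span {f}))) h1
    rw [Ideal.comap_map_of_surjective' _ Ideal.Quotient.mk_surjective,
      Ideal.comap_map_of_surjective' _ Ideal.Quotient.mk_surjective, Ideal.mk_ker,
      sup_eq_left.mpr hle, sup_comm] at h2
    exact h2
  rw [hmax]
  refine (Submodule.spanFinrank_span_le_ncard_of_finite (Finset.finite_toSet _)).trans ?_
  rw [Set.ncard_coe_finset]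
  exact (Finset.card_insert_le _ _).trans (by
    have := Finset.card_image_le (s := s) (f := lift)
    omega)

end Groth.Agent.S16547
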