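import Groth.Statements.S16548
import Groth.Agent.TameSepLib.Basic
import Groth.Agent.S2768
import Groth.Agent.DimFormulaLib.Field

set_option autoImplicit false
universe u
open CategoryTheory CategoryTheory.Limits AlgebraicGeometry
attribute [local instance] Curv2.resAlgebra
open Curves

attribute [local instance] Curv2.stalkAlgebra
set_option linter.style.haveILetI false
set_option backward.isDefEq.respectTransparency false

namespace Groth.Agent.S16548

/-- Let k be a field, X and Y smooth over k of relative dimension one (not necessarily proper), f : X ->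
Y a finite k-morphism and x a closed point of X, with y = f(x). Suppose f is tamely ramified at x:
m_y O_{X,x} = m_x^e for an integer e ≥ 2 prime to the characteristic of k, and κ(x) is separable
over κ(y). Then κ(x) is separable over k. (Consequently the field generated over k by the residue
fields of all such points is Galois over k.) -/
theorem result (k : Type u) [Field k]
    (X Y : Scheme.{u}) [X.Over (Spec (CommRingCat.of k))] [Y.Over (Spec (CommRingCat.of k))]
    [SmoothOfRelativeDimension 1 (X ↘ Spec (CommRingCat.of k))]
    [SmoothOfRelativeDimension 1 (Y ↘ Spec (CommRingCat.of k))]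
    (f : X ⟶ Y) [IsFinite f] (hf : f ≫ (Y ↘ Spec (CommRingCat.of k)) = X ↘ Spec (CommRingCat.of k))
    (x : X) (hx : IsClosed ({x} : Set X)) (e : ℕ)
    (he : (IsLocalRing.maximalIdeal (Y.presheaf.stalk (f.base x))).map (f.stalkMap x).hom =
      IsLocalRing.maximalIdeal (X.presheaf.stalk x) ^ e)
    (h2 : 2 ≤ e) (hp : ¬ ringChar k ∣ e)
    (hsep : @Algebra.IsSeparable (Y.residueField (f.base x)) (X.residueField x) _ _
      (f.residueFieldMap x).hom.toAlgebra) :
    Algebra.IsSeparable k (X.residueField x) := by
  let y := f.base x
  letI : Algebra (Y.presheaf.stalk y) (X.presheaf.stalk x) := (f.stalkMap x).hom.toAlgebra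
  haveI : IsLocalHom (algebraMap (Y.presheaf.stalk y) (X.presheaf.stalk x)) :=
    inferInstanceAs (IsLocalHom (f.stalkMap x).hom)
  haveI : Smooth (X ↘ Spec (CommRingCat.of k)) := SmoothOfRelativeDimension.smooth 1 _
  have hcomm : CommRingCat.ofHom (Curv2.stalkMap k Y y) ≫ f.stalkMap x = CommRingCat.ofHom (Curv2.stalkMap k X x) := by
    refine Spec.map_injective ?_
    rw [Spec.map_comp, ← NormalSch.fromSpecStalk_over y, ← Category.assoc, Scheme.SpecMap_stalkMap_fromSpecStalk,
      Category.assoc, hf, NormalSch.fromSpecStalk_over]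
  haveI : IsScalarTower k (Y.presheaf.stalk y) (X.presheaf.stalk x) :=
    IsScalarTower.of_algebraMap_eq fun c => (congr($(hcomm).hom c)).symm
  haveI : Algebra.EssFiniteType (Y.presheaf.stalk y) (X.presheaf.stalk x) := by
    rw [← RingHom.essFiniteType_algebraMap]
    exact LocallyOfFiniteType.stalkMap f x
  haveI := TameSepLib.finite_residueField (k := k) hx
  have hne : IsLocalRing.maximalIdeal (X.presheaf.stalk x) ≠ IsLocalRing.maximalIdeal (X.presheaf.stalk x) ^ e →
      ¬ ¬ Algebra.IsSeparable k (IsLocalRing.ResidueField (X.presheaf.stalk x)) := fun hne hns =>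
    hne (he ▸ (TameSepLib.map_maximalIdeal_eq (A := Y.presheaf.stalk y) (B := X.presheaf.stalk x)
      (TameSepLib.exists_span_kaehler_stalk (k := k) x)
      (by
        letI := (f.residueFieldMap x).hom.toAlgebra
        haveI := hsep
        refine Algebra.IsSeparable.of_equiv_equiv (A₁ := Y.residueField y) (B₁ := X.residueField x)
          (RingEquiv.refl (IsLocalRing.ResidueField (Y.presheaf.stalk y)))
          (RingEquiv.refl (IsLocalRing.ResidueField (X.presheaf.stalk x))) ?_
        refine RingHom.ext fun c => ?_
        obtain ⟨c, rfl⟩ := IsLocalRing.residue_surjective c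
        rfl)
      hns).symm)
  haveI : Algebra.IsSeparable k (IsLocalRing.ResidueField (X.presheaf.stalk x)) := by
    by_contra hns
    by_cases h : IsLocalRing.maximalIdeal (X.presheaf.stalk x) = IsLocalRing.maximalIdeal (X.presheaf.stalk x) ^ e
    swap
    · exact hne h hns
    haveI : IsLocallyNoetherian X := LocallyOfFiniteType.isLocallyNoetherian (X ↘ Spec (CommRingCat.of k))
    have hle : IsLocalRing.maximalIdeal (X.presheaf.stalk x) ≤
        IsLocalRing.maximalIdeal (X.presheaf.stalk x) • IsLocalRing.maximalIdeal (X.presheaf.stalk x) := by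
      conv_lhs => rw [h]
      rw [smul_eq_mul, ← pow_two]
      exact Ideal.pow_le_pow_right h2
    have hbot : IsLocalRing.maximalIdeal (X.presheaf.stalk x) = ⊥ :=
      Submodule.eq_bot_of_le_smul_of_le_jacobson_bot _ _ (IsNoetherian.noetherian _) hle
        (IsLocalRing.maximalIdeal_le_jacobson _)
    have h0 : ringKrullDim (X.presheaf.stalk x) = 0 :=
      ringKrullDim_eq_zero_of_isField (IsLocalRing.isField_iff_maximalIdeal_eq.2 hbot)
    rw [← DimFormulaLib.localDim_eq_of_isClosed (X ↘ Spec (CommRingCat.of k)) x hx,
      Groth.Agent.S2768.localDim_eq 1 (X ↘ Spec (CommRingCat.of k)) x] at h0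
    norm_num at h0
  exact Algebra.IsSeparable.of_equiv_equiv (RingEquiv.refl k)
    (RingEquiv.refl (IsLocalRing.ResidueField (X.presheaf.stalk x))) (RingHom.ext fun c => rfl)

end Groth.Agent.S16548
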