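import Groth.Statements.S1655
import Groth.Agent.BirQFLib.Conn

set_option autoImplicit false
universe u
open CategoryTheory CategoryTheory.Limits AlgebraicGeometry
open Variety

namespace Groth.Agent.S1655

/-- Let X be a Noetherian integral scheme, Y an integral scheme, and f : Y → X a proper morphism that
restricts to an isomorphism over some nonempty open subscheme of X. If x is a point of X whose local
ring is integrally closed and f is quasi-finite at some point lying over x, then f restricts to an
isomorphism over an open neighbourhood of x. -/
theorem result {X Y : Scheme.{u}} [IsNoetherian X] [IsIntegral X] [IsIntegral Y]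
    (f : Y ⟶ X) [IsProper f] (W : X.Opens) (hW : (W : Set X).Nonempty) (hfW : IsIso (f ∣_ W))
    (x : X) (hx : IsIntegrallyClosed (X.presheaf.stalk x)) (y : Y) (hy : f.base y = x) (hq : f.QuasiFiniteAt y) :
    ∃ V : X.Opens, x ∈ V ∧ IsIso (f ∣_ V) := by
  obtain ⟨hgen, hbir⟩ := BirQFLib.birational_of_isIso_restrict f W hW hfW
  obtain ⟨V, hV, hi⟩ := BirQFLib.exists_nhd_isIso_of_normal_stalk f hgen hbir y (by rw [show f y = x from hy]; exact hx) hq
  exact ⟨V, hy ▸ hV, hi⟩


end Groth.Agent.S1655
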