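import Groth.Statements.S16551
import Mathlib
import Groth.Agent.NormalSch.Basic

set_option autoImplicit false
universe u
open CategoryTheory CategoryTheory.Limits AlgebraicGeometry
open Models

namespace Groth.Agent.S16551

theorem exists_generization {W Z : Scheme.{u}} [IsIntegral W] [IsIntegral Z] (hZ : Pi1.IsNormalScheme Z)
    (g : W ⟶ Z) [IsFinite g] [Surjective g] (w : W) (δ : Z) (h : δ ⤳ g w) : ∃ δ' : W, δ' ⤳ w ∧ g δ' = δ := by
  obtain ⟨_, ⟨U, hU : IsAffineOpen U, rfl⟩, hzU, -⟩ :=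
    Z.isBasis_affineOpens.exists_subset_of_mem_open (Set.mem_univ (g w)) isOpen_univ
  have hδU : δ ∈ U := h.mem_open U.2 hzU
  have hV : IsAffineOpen (g ⁻¹ᵁ U) := hU.preimage g
  haveI : Nonempty U := ⟨⟨_, hzU⟩⟩
  haveI : Nonempty (g ⁻¹ᵁ U) := ⟨⟨w, hzU⟩⟩
  haveI : IsIntegrallyClosed Γ(Z, U) := Groth.Agent.NormalSch.isIntegrallyClosed_section hZ U
  algebraize [(g.app U).hom]
  haveI : IsSchemeTheoreticallyDominant g := IsSchemeTheoreticallyDominant.of_isDominant g
  haveI : FaithfulSMul Γ(Z, U) Γ(W, g ⁻¹ᵁ U) :=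
    (faithfulSMul_iff_algebraMap_injective _ _).2 (g.app_injective U)
  haveI : Module.Finite Γ(Z, U) Γ(W, g ⁻¹ᵁ U) := IsFinite.finite_app (f := g) U hU
  haveI : Algebra.IsIntegral Γ(Z, U) Γ(W, g ⁻¹ᵁ U) := Algebra.IsIntegral.of_finite _ _
  haveI : Algebra.HasGoingDown Γ(Z, U) Γ(W, g ⁻¹ᵁ U) := inferInstance
  obtain ⟨p, hp⟩ : ∃ p, hU.fromSpec p = δ := by
    show δ ∈ Set.range hU.fromSpec
    rw [hU.range_fromSpec]; exact hδU
  obtain ⟨q, hq⟩ : ∃ q, hV.fromSpec q = w := by
    show w ∈ Set.range hV.fromSpec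
    rw [hV.range_fromSpec]; exact hzU
  have hcomm : ∀ r, g (hV.fromSpec r) = hU.fromSpec (PrimeSpectrum.comap (g.app U).hom r) := fun r => by
    have h1 : Spec.map (g.appLE U (g ⁻¹ᵁ U) le_rfl) ≫ hU.fromSpec = hV.fromSpec ≫ g :=
      hU.SpecMap_appLE_fromSpec g hV le_rfl
    have h2 := congr($h1 r)
    rw [Scheme.Hom.comp_apply, Scheme.Hom.comp_apply, ← Scheme.Hom.app_eq_appLE] at h2
    exact h2.symm
  have hpq : p ⤳ PrimeSpectrum.comap (g.app U).hom q := by
    refine hU.fromSpec.isOpenEmbedding.isInducing.specializes_iff.1 ?_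
    rw [hp, ← hcomm, hq]
    exact h
  have hle : p.asIdeal ≤ Ideal.comap (algebraMap Γ(Z, U) Γ(W, g ⁻¹ᵁ U)) q.asIdeal :=
    (PrimeSpectrum.le_iff_specializes _ _).2 hpq
  haveI : q.asIdeal.LiesOver (Ideal.comap (algebraMap Γ(Z, U) Γ(W, g ⁻¹ᵁ U)) q.asIdeal) := ⟨rfl⟩
  haveI : p.asIdeal.IsPrime := p.isPrime
  haveI : q.asIdeal.IsPrime := q.isPrime
  obtain ⟨P, hPq, hP, hlies⟩ := Ideal.exists_ideal_le_liesOver_of_le (p := p.asIdeal)
    (q := Ideal.comap (algebraMap Γ(Z, U) Γ(W, g ⁻¹ᵁ U)) q.asIdeal) q.asIdeal hle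
  refine ⟨hV.fromSpec ⟨P, hP⟩, ?_, ?_⟩
  · rw [← hq]
    exact ((PrimeSpectrum.le_iff_specializes (⟨P, hP⟩ : PrimeSpectrum Γ(W, g ⁻¹ᵁ U)) q).1 hPq).map hV.fromSpec.continuous
  · refine (hcomm _).trans ?_
    rw [← hp]
    exact congrArg _ (PrimeSpectrum.ext hlies.over.symm)

/-- Let R be a discrete valuation ring, W and Z integral normal schemes which are flat, of finite type
and of dimension 2 over Spec R, and ψ : W -> Z a finite surjective R-morphism. Let z be a closed
point of Z lying in the special fibre, w a point of W with ψ(w) = z, and Δ an irreducible component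
of the special fibre of Z with z ∈ Δ. Then some irreducible component Γ of the special fibre of W
contains w and satisfies ψ(Γ) = Δ. (The published statement asks W and Z only to be normal; they are
taken integral as well here.) -/
theorem result
    (R : Type u) [CommRing R] [IsDomain R] [IsDiscreteValuationRing R]
    (W Z : Over (Spec (CommRingCat.of R))) [IsIntegral W.left] [IsIntegral Z.left]
    (hWn : Pi1.IsNormalScheme W.left) (hZn : Pi1.IsNormalScheme Z.left)
    [Flat W.hom] [LocallyOfFiniteType W.hom] [QuasiCompact W.hom]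
    [Flat Z.hom] [LocallyOfFiniteType Z.hom] [QuasiCompact Z.hom]
    (hdW : topologicalKrullDim W.left = 2) (hdZ : topologicalKrullDim Z.left = 2)
    (ψ : W ⟶ Z) [IsFinite ψ.left] [Surjective ψ.left]
    (z : Z.left) (hzc : IsClosed ({z} : Set Z.left)) (hz : z ∈ Models.specialFibreSet R Z)
    (w : W.left) (hw : ψ.left.base w = z)
    (Δ : Set Z.left) (hΔ : Δ ∈ Models.fibreComponents R Z) (hzΔ : z ∈ Δ) :
    ∃ Γ ∈ Models.fibreComponents R W, w ∈ Γ ∧ ψ.left.base '' Γ = Δ := by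
  obtain ⟨⟨hΔi, hΔs⟩, hΔmax⟩ := hΔ
  have hcl : IsClosed Δ := by
    have h1 : closure Δ ⊆ Models.specialFibreSet R Z :=
      closure_minimal hΔs (Models.isClosed_specialFibreSet R Z)
    exact closure_subset_iff_isClosed.mp (hΔmax ⟨hΔi.closure, h1⟩ subset_closure)
  obtain ⟨δ, hδ⟩ := QuasiSober.sober hΔi hcl
  obtain ⟨δ', hδw, hδ'⟩ := exists_generization hZn ψ.left w δ (by rw [hw]; exact hδ.specializes hzΔ)
  have himg : ψ.left '' closure {δ'} = Δ := by
    rw [← ψ.left.isClosedMap.closure_image_eq_of_continuous ψ.left.continuous {δ'}, Set.image_singleton, hδ']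
    exact hδ
  have hfib : ∀ a : W.left, a ∈ Models.specialFibreSet R W ↔ ψ.left a ∈ Models.specialFibreSet R Z := fun a => by
    simp only [Models.specialFibreSet, Set.mem_preimage, ← Over.w ψ]
    rfl
  refine ⟨closure {δ'}, ⟨⟨isIrreducible_singleton.closure, fun a ha => (hfib a).2 (hΔs (himg ▸ Set.mem_image_of_mem _ ha))⟩, ?_⟩,
    hδw.mem_closure, himg⟩
  rintro S ⟨hSi, hSs⟩ hle
  have hSi' := hSi.closure
  obtain ⟨γ, hγ⟩ := QuasiSober.sober hSi' isClosed_closure
  have hγδ : γ ⤳ δ' := hγ.specializes (subset_closure (hle (subset_closure rfl)))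
  have hγs : γ ∈ Models.specialFibreSet R W :=
    closure_minimal hSs (Models.isClosed_specialFibreSet R W) hγ.mem
  have h2 : ψ.left γ ⤳ δ := hδ' ▸ hγδ.map ψ.left.continuous
  have h3 : closure {ψ.left γ} ⊆ Δ := by
    refine hΔmax ⟨isIrreducible_singleton.closure, closure_minimal (Set.singleton_subset_iff.2 ((hfib γ).1 hγs))
      (Models.isClosed_specialFibreSet R Z)⟩ ?_
    rw [← hδ]
    exact closure_minimal (Set.singleton_subset_iff.2 h2.mem_closure) isClosed_closure
  have h4 : ψ.left γ = ψ.left δ' := by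
    rw [hδ']
    exact (h2.antisymm (hδ.specializes (h3 (subset_closure rfl)))).eq
  have h5 : γ = δ' := by
    haveI : DiscreteTopology (ψ.left ⁻¹' {ψ.left δ'} : Set W.left) :=
      (ψ.left.isDiscrete_preimage Set.subsingleton_singleton.isDiscrete).to_subtype
    exact congrArg Subtype.val ((subtype_specializes_iff (x := (⟨γ, h4⟩ : ↥(ψ.left ⁻¹' {ψ.left δ'})))
      (y := ⟨δ', rfl⟩)).2 hγδ).eq
  rw [← h5, hγ]
  exact subset_closure

end Groth.Agent.S16551
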