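import Groth.Statements.S16552
import Groth.Agent.SurfPtBlow.DvrModel
import Groth.Agent.RGBlowLib.Section
import Groth.Agent.ModifDimLib.Main
import Groth.Agent.BirQFLib.Conn
import Groth.Agent.NormalSch.Birational
import Groth.Agent.RefOne.Normal
import Groth.Agent.CurveLib.Finite
import Groth.Agent.ProperFin.Main
import Groth.Agent.S14058
import Groth.Agent.S1688

set_option autoImplicit false
universe u
open CategoryTheory CategoryTheory.Limits AlgebraicGeometry
open Models

namespace Groth.Agent.S16552

set_option backward.isDefEq.respectTransparency false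
set_option linter.style.haveILetI false
set_option maxHeartbeats 1600000
set_option synthInstance.maxHeartbeats 200000
open TopologicalSpace Order Groth.Agent

/-- Over points of codimension at most one a modification has finite fibres. -/
theorem fibre_dim_zero {X S : Scheme.{u}} [IsIntegral X] [IsIntegral S] (f : X ⟶ S) {U : S.Opens}
    [AlgebraicGeometry.IsNoetherian S] [S.IsSeparated] [IsProper f] (hU : (U : Set S).Nonempty)
    (h : IsIso (f ∣_ U)) (s : S) (hs : ringKrullDim (S.presheaf.stalk s) ≤ (1 : ℕ)) :
    topologicalKrullDim ↥(f.fiber s) ≤ (0 : ℕ) := by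
  haveI : IsLocallyNoetherian X := LocallyOfFiniteType.isLocallyNoetherian f
  haveI : CompactSpace X := QuasiCompact.compactSpace_of_compactSpace f
  haveI : AlgebraicGeometry.IsNoetherian X := { }
  haveI : X.IsSeparated := ⟨by rw [← Limits.terminal.comp_from f]; infer_instance⟩
  have hbir := ModifDimLib.isBirational_of_isIso f hU h
  rw [ASp.topologicalKrullDim_eq_krullDim]
  unfold Order.krullDim
  refine iSup_le fun q => ?_
  by_contra hlt
  have hlen : 1 ≤ q.length := by
    by_contra h2
    exact hlt (WithBot.coe_le_coe.2 (by exact_mod_cast (show q.length ≤ 0 by omega)))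
  let i0 : Fin (q.length + 1) := ⟨0, by omega⟩
  let i1 : Fin (q.length + 1) := ⟨1, by omega⟩
  let g := f.fiberι s
  have hmono : ∀ a b : f.fiber s, a < b → g a < g b := fun a b hab => by
    obtain ⟨h1, h2⟩ := lt_iff_le_not_ge.1 hab
    refine lt_iff_le_not_ge.2 ⟨Scheme.le_iff_specializes.2 ((Scheme.le_iff_specializes.1 h1).map g.continuous),
      fun h' => h2 (Scheme.le_iff_specializes.2 ?_)⟩
    exact g.isEmbedding.isInducing.specializes_iff.1 (Scheme.le_iff_specializes.1 h')
  have h01 : g (q i0) < g (q i1) := hmono _ _ (q.strictMono (show i0 < i1 from Nat.lt_succ_self 0))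
  have hfib : ∀ a : f.fiber s, f (g a) = s := fun a => by
    have : g a ∈ Set.range g := ⟨a, rfl⟩
    rw [f.range_fiberι s] at this
    exact this
  have h2 := (Groth.Agent.S18879.result f hbir (g (q i0))).trans ((hfib (q i0)).symm ▸ hs)
  rw [ringKrullDim_stalk_eq_coheight] at h2
  have hle : coheight (g (q i0)) ≤ 1 := WithBot.coe_le_coe.1 h2
  have hmax : g (q i1) = genericPoint X := by
    by_contra hne
    have hη : g (q i1) < genericPoint X := lt_iff_le_not_ge.2
      ⟨Scheme.le_iff_specializes.2 (genericPoint_specializes _), fun h' =>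
        hne (((Scheme.le_iff_specializes.1 h').antisymm (genericPoint_specializes _)).eq)⟩
    let p : LTSeries X := ⟨2, ![g (q i0), g (q i1), genericPoint X], fun i => by
      fin_cases i <;> assumption⟩
    have h3 : ((2 : ℕ) : ℕ∞) ≤ coheight (g (q i0)) := length_le_coheight (p := p) le_rfl
    exact absurd (h3.trans hle) (by decide)
  have hηS : genericPoint S ∈ (genericPoints S) := by rw [genericPoints_eq_singleton]; rfl
  have hsη : s = genericPoint S := by
    rw [← hfib (q i1), hmax]
    have := hbir.1.mapsTo (show genericPoint X ∈ genericPoints X by rw [genericPoints_eq_singleton]; rfl)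
    rwa [genericPoints_eq_singleton] at this
  exact h01.ne ((hbir.2 (genericPoint S) hηS).1 _ _ ((hfib _).trans hsη) ((hfib _).trans hsη))

/-- A set of closed points in a Noetherian scheme which is closed is finite. -/
theorem finite_of_closed_points {Z : Scheme.{u}} [NoetherianSpace Z] {F : Set Z} (hF : IsClosed F)
    (h : ∀ z ∈ F, IsClosed ({z} : Set Z)) : F.Finite := by
  obtain ⟨S, hSf, hSc, hSi, hSU⟩ := NoetherianSpace.exists_finite_set_isClosed_irreducible (s := F) hF
  rw [hSU]
  refine hSf.sUnion fun t ht => ?_
  obtain ⟨ξ, hξ⟩ := QuasiSober.sober (hSi t ht) (hSc t ht)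
  rw [← hξ.def, (h ξ (hSU ▸ Set.mem_sUnion.2 ⟨t, ht, hξ.mem⟩)).closure_eq]
  exact Set.finite_singleton ξ

/-- The map from a local ring of an integral scheme to the functions on a birational curve. -/
noncomputable def toFun {C X : Scheme.{u}} [IsIntegral C] (i : C ⟶ X) (x : X) (h : i (genericPoint C) ⤳ x) :
    X.presheaf.stalk x ⟶ C.presheaf.stalk (genericPoint C) :=
  X.presheaf.stalkSpecializes h ≫ i.stalkMap (genericPoint C)

theorem toFun_spec {C X : Scheme.{u}} [IsIntegral C] (i : C ⟶ X) (x : X) (h : i (genericPoint C) ⤳ x) :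
    Spec.map (toFun i x h) ≫ X.fromSpecStalk x = C.fromSpecStalk (genericPoint C) ≫ i := by
  rw [toFun, Spec.map_comp, Category.assoc, Scheme.SpecMap_stalkSpecializes_fromSpecStalk,
    Scheme.SpecMap_stalkMap_fromSpecStalk]

theorem toFun_comp {C X Y : Scheme.{u}} [IsIntegral C] (i : C ⟶ X) (q : X ⟶ Y) (j : C ⟶ Y) (hj : i ≫ q = j)
    (x : X) (h : i (genericPoint C) ⤳ x) (h' : j (genericPoint C) ⤳ q x) :
    toFun j (q x) h' = q.stalkMap x ≫ toFun i x h := by
  refine Spec.map_injective ((cancel_mono (Y.fromSpecStalk (q x))).1 ?_)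
  rw [toFun_spec, Spec.map_comp, Category.assoc, Scheme.SpecMap_stalkMap_fromSpecStalk,
    ← Category.assoc, toFun_spec, Category.assoc, hj]

theorem toFun_injective {C X : Scheme.{u}} [IsIntegral C] [IsIntegral X] (i : C ⟶ X) [IsOpenImmersion i]
    (x : X) (h : i (genericPoint C) ⤳ x) : Function.Injective (toFun i x h) := by
  have hgen : i (genericPoint C) = genericPoint X :=
    (genericPoint_eq_of_isOpenImmersion i)
  have hspec : ∀ z (hz : z = genericPoint X) (h : z ⤳ x), Function.Injective (X.presheaf.stalkSpecializes h) := by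
    rintro z rfl h
    exact RefOne.toK_injective x
  exact (ConcreteCategory.bijective_of_isIso (i.stalkMap (genericPoint C))).1.comp (hspec _ hgen h)

theorem toFun_div {C X : Scheme.{u}} [IsIntegral C] [IsIntegral X] [IsLocallyNoetherian X] (i : C ⟶ X) [IsOpenImmersion i]
    (x : X) (h : i (genericPoint C) ⤳ x) (z : C.presheaf.stalk (genericPoint C)) :
    ∃ a b : X.presheaf.stalk x, b ≠ 0 ∧ toFun i x h b * z = toFun i x h a := by
  have hgen : i (genericPoint C) = genericPoint X :=
    (genericPoint_eq_of_isOpenImmersion i)
  have hspec : ∀ z (hz : z = genericPoint X) (h : z ⤳ x) w, ∃ a b, b ≠ 0 ∧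
      X.presheaf.stalkSpecializes h b * w = X.presheaf.stalkSpecializes h a := by
    rintro z rfl h w
    exact RefOne.exists_div x w
  obtain ⟨w, rfl⟩ := (ConcreteCategory.bijective_of_isIso (i.stalkMap (genericPoint C))).2 z
  obtain ⟨a, b, hb, he⟩ := hspec _ hgen h w
  refine ⟨a, b, hb, ?_⟩
  show i.stalkMap _ (X.presheaf.stalkSpecializes h b) * i.stalkMap _ w = i.stalkMap _ (X.presheaf.stalkSpecializes h a)
  rw [← map_mul]
  exact congrArg _ he

/-- A local ring dominating a discrete valuation ring of the same field has the same image. -/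
theorem range_eq_of_dominates {A B K : Type u} [CommRing A] [IsDomain A] [IsDiscreteValuationRing A] [CommRing B]
    [Field K] (i : A →+* K) (j : B →+* K) (q : A →+* B) [IsLocalHom q] (hc : ∀ a, j (q a) = i a)
    (hi : Function.Injective i) (hj : Function.Injective j)
    (hdiv : ∀ z : K, ∃ a c : A, c ≠ 0 ∧ i c * z = i a) : Set.range j = Set.range i := by
  refine Set.Subset.antisymm ?_ (fun z ⟨a, ha⟩ => ⟨q a, (hc a).trans ha⟩)
  rintro z ⟨b, rfl⟩
  obtain ⟨a, c, hc0, he⟩ := hdiv (j b)
  have hic : i c ≠ 0 := fun h => hc0 (hi (h.trans (map_zero i).symm))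
  rcases ValuationRing.dvd_total c a with ⟨t, rfl⟩ | ⟨t, rfl⟩
  · exact ⟨t, (mul_left_cancel₀ hic (he.trans (map_mul i c t))).symm⟩
  · have ha : i a ≠ 0 := fun h => hic (by rw [map_mul, h, zero_mul])
    have h1 : j (q t * b) = j 1 := by
      rw [map_mul, map_one, hc]
      refine mul_left_cancel₀ ha ?_
      rw [mul_one, ← mul_assoc, ← map_mul, he]
    obtain ⟨v, hv⟩ := (isUnit_of_map_unit q t (IsUnit.of_mul_eq_one _ (hj h1)) : IsUnit t)
    refine ⟨↑v⁻¹, (mul_left_cancel₀ (fun h => (v.isUnit.map i).ne_zero h) ?_).symm⟩
    have h2 : j (q t * b) = j 1 := h1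
    rw [map_mul, map_one, hc] at h2
    rw [← map_mul i, Units.mul_inv, map_one, hv, h2]

/-- Two centres of one local domain on a separated scheme agree. -/
theorem eq_of_center {X : Scheme.{u}} [X.IsSeparated] {O K : CommRingCat.{u}} [IsDomain O] [IsLocalRing O]
    (j : O ⟶ K) (hj : Function.Injective j) (a b : Spec O ⟶ X) (h : Spec.map j ≫ a = Spec.map j ≫ b) :
    a (IsLocalRing.closedPoint O) = b (IsLocalRing.closedPoint O) := by
  haveI : IsDominant (Spec.map j) := ⟨PrimeSpectrum.denseRange_comap_iff_ker_le_nilRadical _ |>.2 (by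
    rw [(RingHom.injective_iff_ker_eq_bot j.hom).1 hj]
    exact bot_le)⟩
  rw [ext_of_isDominant_of_isSeparated (terminal.from X) (Subsingleton.elim _ _) (Spec.map j) h]

/-- Let R be a discrete valuation ring with fraction field K, C a smooth proper curve over K with H^0(C,
O_C) = K, and XR, WR two models of C over R — integral normal schemes, proper and flat over Spec R,
with generic fibres identified with C through iX and iW. For a point x of either model, view its
local ring inside the function field of C (the stalk of C at its generic point η) through the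
specialization map to the stalk at the image of η followed by the stalk map of iX or iW. Suppose
that for every point ξ of WR whose closure is an irreducible component of the special fibre there is
a point ξ' of XR whose closure is an irreducible component of the special fibre and whose local ring
has the same image in the function field as that of ξ (the centre of the discrete valuation ring
O_{WR,ξ} on XR is a generic point of the special fibre). Then the identification of generic fibres
extends to an R-morphism XR -> WR. The published statement takes both models projective over R; this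
row asks them only to be proper, which the argument allows. -/
theorem result
    (R : Type u) [CommRing R] [IsDomain R] [IsDiscreteValuationRing R]
    (C : Scheme.{u}) [IsIntegral C] (fC : C ⟶ Spec (CommRingCat.of (FractionRing R)))
    (hC : Curve.IsSmoothProperCurve (FractionRing R) C fC) (hC0 : IsIso fC.appTop)
    (XR WR : Over (Spec (CommRingCat.of R))) [IsIntegral XR.left] [IsIntegral WR.left]
    (hXn : Pi1.IsNormalScheme XR.left) (hWn : Pi1.IsNormalScheme WR.left)
    [IsProper XR.hom] [Flat XR.hom] [IsProper WR.hom] [Flat WR.hom]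
    (iX : C ⟶ XR.left) (hiX : IsPullback iX fC XR.hom (Spec.map (CommRingCat.ofHom (algebraMap R (FractionRing R)))))
    (iW : C ⟶ WR.left) (hiW : IsPullback iW fC WR.hom (Spec.map (CommRingCat.ofHom (algebraMap R (FractionRing R)))))
    (H : ∀ (ξ : WR.left) (hξ : iW.base (genericPoint C) ⤳ ξ),
      closure ({ξ} : Set WR.left) ∈ Models.fibreComponents R WR →
        ∃ (ξ' : XR.left) (hξ' : iX.base (genericPoint C) ⤳ ξ'),
          closure ({ξ'} : Set XR.left) ∈ Models.fibreComponents R XR ∧
          Set.range ((iX.stalkMap (genericPoint C)).hom.comp (XR.left.presheaf.stalkSpecializes hξ').hom) =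
            Set.range ((iW.stalkMap (genericPoint C)).hom.comp (WR.left.presheaf.stalkSpecializes hξ).hom)) :
    ∃ φ : XR ⟶ WR, iX ≫ φ.left = iW := by
  obtain ⟨hCp, hCs, -, hCd⟩ := hC
  haveI := hCp
  let pX := XR.hom
  let pW := WR.hom
  haveI : IsLocallyNoetherian XR.left := LocallyOfFiniteType.isLocallyNoetherian pX
  haveI : CompactSpace XR.left := QuasiCompact.compactSpace_of_compactSpace pX
  haveI : IsNoetherian XR.left := ⟨⟩
  haveI : IsLocallyNoetherian WR.left := LocallyOfFiniteType.isLocallyNoetherian pW
  haveI : CompactSpace WR.left := QuasiCompact.compactSpace_of_compactSpace pW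
  haveI : IsNoetherian WR.left := ⟨⟩
  haveI : XR.left.IsSeparated := ⟨by rw [← Limits.terminal.comp_from pX]; infer_instance⟩
  haveI : WR.left.IsSeparated := ⟨by rw [← Limits.terminal.comp_from pW]; infer_instance⟩
  haveI := SurfPtBlow.isOpenImmersion_gen hiX
  haveI := SurfPtBlow.isOpenImmersion_gen hiW
  have hdX : topologicalKrullDim XR.left ≤ 2 := SurfPtBlow.dim_model hiX hCd.le
  have hdW : topologicalKrullDim WR.left ≤ 2 := SurfPtBlow.dim_model hiW hCd.le
  -- the closure of the graph
  let U : XR.left.Opens := iX.opensRange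
  let P := pullback pX pW
  let π₁ : P ⟶ XR.left := pullback.fst pX pW
  let π₂ : P ⟶ WR.left := pullback.snd pX pW
  haveI : IsProper π₁ := MorphismProperty.pullback_fst _ _ inferInstance
  haveI : IsProper π₂ := MorphismProperty.pullback_snd _ _ inferInstance
  let t : (U : Scheme.{u}) ⟶ P := iX.isoOpensRange.inv ≫ pullback.lift iX iW (hiX.w.trans hiW.w.symm)
  have ht : t ≫ π₁ = U.ι := by
    simp only [t, π₁, Category.assoc, pullback.lift_fst]
    exact Scheme.Hom.isoOpensRange_inv_comp iX
  haveI : CompactSpace (U : Scheme.{u}) := isCompact_iff_compactSpace.1 (NoetherianSpace.isCompact (U : Set XR.left))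
  haveI : QuasiSeparatedSpace P := quasiSeparatedSpace_of_quasiSeparated π₁
  haveI : QuasiCompact t := quasiCompact_of_compactSpace t
  haveI : QuasiCompact U.ι := quasiCompact_of_compactSpace _
  haveI hiT : IsIso ((t.imageι ≫ π₁) ∣_ U) := RGBlowLib.isIso_image_restrict π₁ U t ht
  haveI : Nonempty (U : Scheme.{u}) := ⟨⟨iX (genericPoint C), _, rfl⟩⟩
  haveI : IsIntegral (U : Scheme.{u}) := isIntegral_of_isOpenImmersion U.ι
  haveI : IsIntegral t.image := ProperFin.isIntegral_image t
  let π : t.image ⟶ XR.left := t.imageι ≫ π₁
  let q : t.image ⟶ WR.left := t.imageι ≫ π₂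
  haveI : IsProper π := inferInstanceAs (IsProper (t.imageι ≫ π₁))
  haveI : IsProper q := inferInstanceAs (IsProper (t.imageι ≫ π₂))
  haveI : IsIso (π ∣_ U) := hiT
  have hU : (U : Set XR.left).Nonempty := ⟨iX (genericPoint C), _, rfl⟩
  haveI : IsLocallyNoetherian t.image := LocallyOfFiniteType.isLocallyNoetherian π
  haveI : CompactSpace t.image := QuasiCompact.compactSpace_of_compactSpace π
  haveI : IsNoetherian t.image := ⟨⟩
  let gT : C ⟶ t.image := iX.isoOpensRange.hom ≫ inv (π ∣_ U) ≫ (π ⁻¹ᵁ U).ι
  haveI : IsOpenImmersion gT := inferInstanceAs (IsOpenImmersion (_ ≫ _ ≫ (π ⁻¹ᵁ U).ι))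
  have h31 : gT ≫ π = iX := by
    simp only [gT, Category.assoc, ← morphismRestrict_ι, IsIso.inv_hom_id_assoc]
    exact Scheme.Hom.isoOpensRange_hom_ι iX
  have htoI : iX.isoOpensRange.hom ≫ t.toImage = gT := by
    refine (cancel_mono t.imageι).1 ?_
    have hm : t.toImage = inv (π ∣_ U) ≫ (π ⁻¹ᵁ U).ι := by
      have hr : Set.range t.toImage ⊆ Set.range (π ⁻¹ᵁ U).ι := by
        rintro _ ⟨z, rfl⟩
        rw [Scheme.Opens.range_ι]
        show π (t.toImage z) ∈ U
        rw [← Scheme.Hom.comp_apply]
        simp only [π, Scheme.Hom.toImage_imageι_assoc, ht]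
        exact z.2
      have hl : IsOpenImmersion.lift (π ⁻¹ᵁ U).ι t.toImage hr ≫ (π ∣_ U) = 𝟙 _ := by
        rw [← cancel_mono U.ι, Category.assoc, morphismRestrict_ι, IsOpenImmersion.lift_fac_assoc, Category.id_comp]
        simp only [π, Scheme.Hom.toImage_imageι_assoc, ht]
      rw [← IsIso.eq_comp_inv, Category.id_comp] at hl
      rw [← hl, IsOpenImmersion.lift_fac]
    simp only [gT, hm, Category.assoc]
  have h32 : gT ≫ q = iW := by
    rw [← htoI, Category.assoc]
    simp only [q, Scheme.Hom.toImage_imageι_assoc, t, π₂, Category.assoc, pullback.lift_snd, Iso.hom_inv_id_assoc]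
  have hgT : gT (genericPoint C) = genericPoint t.image := genericPoint_eq_of_isOpenImmersion gT
  have hgenR : pW (genericPoint WR.left) ≠ IsLocalRing.closedPoint R := by
    rw [← genericPoint_eq_of_isOpenImmersion iW, ← Scheme.Hom.comp_apply, hiW.w, Scheme.Hom.comp_apply]
    intro h
    have h2 : IsLocalRing.closedPoint R ∈ Set.range (Spec.map (CommRingCat.ofHom (algebraMap R (FractionRing R)))) :=
      ⟨_, h⟩
    rw [SurfPtBlow.range_specGen, Set.mem_singleton_iff] at h2
    exact IsDiscreteValuationRing.not_a_field R (congrArg PrimeSpectrum.asIdeal h2)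
  -- the fibres are finite
  have hfin : ∀ x : XR.left, (π ⁻¹' {x}).Finite := by
    intro x
    by_cases h1 : Order.coheight x ≤ 1
    · have hs : ringKrullDim (XR.left.presheaf.stalk x) ≤ (1 : ℕ) := by
        rw [ringKrullDim_stalk_eq_coheight]
        exact WithBot.coe_le_coe.2 h1
      haveI : LocallyOfFiniteType π := inferInstance
      have h0 := fibre_dim_zero π hU hiT x hs
      haveI : NoetherianSpace (π.fiber x) := (π.fiberι x).isEmbedding.isInducing.noetherianSpace
      have hf := CurveLib.finite_of_dim_le_zero (X := π.fiber x) (C := Set.univ) isClosed_univ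
        (((Homeomorph.Set.univ ↥(π.fiber x)).isClosedEmbedding.isInducing.topologicalKrullDim_le).trans h0)
      rw [← π.range_fiberι x, ← Set.image_univ]
      exact hf.image _
    have hxc : IsClosed ({x} : Set XR.left) := S14058.isClosed_singleton_of_coheight hdX h1
    have hxs : pX x = IsLocalRing.closedPoint R := by
      have h : IsClosed ({pX x} : Set (Spec (CommRingCat.of R))) := by
        rw [← Set.image_singleton]
        exact pX.isClosedMap _ hxc
      exact PrimeSpectrum.ext (IsLocalRing.eq_maximalIdeal ((PrimeSpectrum.isClosed_singleton_iff_isMaximal _).1 h))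
    refine finite_of_closed_points (hxc.preimage π.continuous) fun γ hγ => ?_
    by_contra hγc
    have hγx : π γ = x := hγ
    let ω := q γ
    have hωs : pW ω = IsLocalRing.closedPoint R := by
      rw [← hxs, ← hγx, ← Scheme.Hom.comp_apply, ← Scheme.Hom.comp_apply]
      simp only [ω, q, π, π₁, π₂, Category.assoc, pullback.condition]
    -- the image is not closed
    have hωc : ¬ IsClosed ({ω} : Set WR.left) := by
      intro hωc
      haveI : IsClosedImmersion (XR.left.fromSpecResidueField x) :=
        IsClosedImmersion.of_isPreimmersion _ (by rw [Scheme.range_fromSpecResidueField]; exact hxc)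
      haveI : IsClosedImmersion (WR.left.fromSpecResidueField ω) :=
        IsClosedImmersion.of_isPreimmersion _ (by rw [Scheme.range_fromSpecResidueField]; exact hωc)
      let a := XR.left.fromSpecResidueField x ≫ pX
      let b := WR.left.fromSpecResidueField ω ≫ pW
      haveI : IsFinite b := IsFinite.iff_isProper_and_isAffineHom.2 ⟨inferInstance, inferInstance⟩
      haveI : IsFinite (pullback.fst a b) := MorphismProperty.pullback_fst _ _ inferInstance
      let m : pullback a b ⟶ P := pullback.map a b pX pW (XR.left.fromSpecResidueField x)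
        (WR.left.fromSpecResidueField ω) (𝟙 _) (Category.comp_id _) (Category.comp_id _)
      haveI : IsClosedImmersion m :=
        MorphismProperty.pullbackMap (P := @IsClosedImmersion) ‹_› ‹_› rfl rfl
      haveI : Subsingleton ↥(Spec (XR.left.residueField x)) := inferInstance
      haveI : DiscreteTopology ↥(pullback a b) := by
        have h := (pullback.fst a b).isDiscrete_preimage_singleton (Classical.arbitrary _)
        rw [show (pullback.fst a b) ⁻¹' {Classical.arbitrary _} = Set.univ from
          Set.eq_univ_of_forall fun z => Subsingleton.elim _ _] at h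
        exact isDiscrete_univ_iff.1 h
      have hmem : t.imageι γ ∈ Set.range m := by
        rw [Scheme.Pullback.range_map, Scheme.range_fromSpecResidueField, Scheme.range_fromSpecResidueField]
        exact ⟨hγx, rfl⟩
      obtain ⟨z, hz⟩ := hmem
      have h1 : IsClosed ({t.imageι γ} : Set P) := by
        rw [← hz, ← Set.image_singleton]
        exact m.isClosedMap _ (isClosed_discrete _)
      have h2 := h1.preimage t.imageι.continuous
      rw [show t.imageι ⁻¹' {t.imageι γ} = {γ} from
        Set.ext fun z => t.imageι.isEmbedding.injective.eq_iff] at h2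
      exact hγc h2
    have hω1 : Order.coheight ω ≤ 1 := by
      by_contra h
      exact hωc (S14058.isClosed_singleton_of_coheight hdW h)
    have hωg : iW (genericPoint C) ⤳ ω := by
      rw [genericPoint_eq_of_isOpenImmersion iW]
      exact genericPoint_specializes _
    have hωne : ω ≠ genericPoint WR.left := fun h => hgenR (h ▸ hωs)
    have hωh : Order.coheight ω = 1 := by
      refine le_antisymm hω1 (ENat.one_le_iff_ne_zero.2 fun h0 => hωne ?_)
      have hm := Order.coheight_eq_zero.1 h0
      exact ((Scheme.le_iff_specializes.1 (hm (Scheme.le_iff_specializes.2 (genericPoint_specializes ω)))).antisymm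
        (genericPoint_specializes ω)).eq
    -- it is the generic point of a component
    have hcomp : closure ({ω} : Set WR.left) ∈ Models.fibreComponents R WR := by
      refine ⟨⟨isIrreducible_singleton.closure, closure_minimal (Set.singleton_subset_iff.2 hωs)
        (Models.isClosed_specialFibreSet R WR)⟩, ?_⟩
      rintro S ⟨hSi, hSs⟩ hS
      let θ := hSi.genericPoint
      have hθ : θ ⤳ ω := hSi.isGenericPoint_genericPoint_closure.specializes
        (subset_closure (hS (subset_closure rfl)))
      have hθs : pW θ = IsLocalRing.closedPoint R :=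
        closure_minimal hSs (Models.isClosed_specialFibreSet R WR) hSi.isGenericPoint_genericPoint_closure.mem
      have hθω : θ = ω := by
        by_contra hne
        have h12 : ω < θ := lt_iff_le_not_ge.2 ⟨Scheme.le_iff_specializes.2 hθ, fun h' =>
          hne (hθ.antisymm (Scheme.le_iff_specializes.1 h')).eq⟩
        have h23 : θ < genericPoint WR.left := lt_iff_le_not_ge.2
          ⟨Scheme.le_iff_specializes.2 (genericPoint_specializes _), fun h' => hgenR (by
            rw [← ((Scheme.le_iff_specializes.1 h').antisymm (genericPoint_specializes _)).eq]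
            exact hθs)⟩
        let p : LTSeries WR.left := ⟨2, ![ω, θ, genericPoint WR.left], fun i => by
          fin_cases i <;> assumption⟩
        have h3 : ((2 : ℕ) : ℕ∞) ≤ coheight ω := length_le_coheight (p := p) le_rfl
        rw [hωh] at h3
        exact absurd h3 (by decide)
      intro y hy
      rw [← specializes_iff_mem_closure, ← hθω]
      exact hSi.isGenericPoint_genericPoint_closure.specializes (subset_closure hy)
    obtain ⟨ξ', hξ', -, hr⟩ := H ω hωg hcomp
    haveI := RefOne.isDVR hWn hωh
    have hγg : gT (genericPoint C) ⤳ γ := hgT ▸ genericPoint_specializes γ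
    have hq := toFun_comp gT q iW h32 γ hγg hωg
    let KC := C.functionField
    let jW : WR.left.presheaf.stalk ω →+* KC := (toFun iW ω hωg).hom
    let jT : t.image.presheaf.stalk γ →+* KC := (toFun gT γ hγg).hom
    let jX : XR.left.presheaf.stalk ξ' →+* KC := (toFun iX ξ' hξ').hom
    haveI : IsLocalHom (q.stalkMap γ).hom := inferInstance
    have hTW : Set.range jT = Set.range jW := range_eq_of_dominates jW jT (q.stalkMap γ).hom
      (fun a => (congr($hq a) :).symm) (toFun_injective iW ω hωg) (toFun_injective gT γ hγg) (toFun_div iW ω hωg)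
    have hXT : jX.range = jT.range := SetLike.coe_injective (by
      rw [RingHom.coe_range, RingHom.coe_range]
      exact hr.trans hTW.symm)
    let eX := RingEquiv.ofBijective jX.rangeRestrict
      ⟨fun a b hab => toFun_injective iX ξ' hξ' (congrArg Subtype.val hab), RingHom.rangeRestrict_surjective _⟩
    let eT := RingEquiv.ofBijective jT.rangeRestrict
      ⟨fun a b hab => toFun_injective gT γ hγg (congrArg Subtype.val hab), RingHom.rangeRestrict_surjective _⟩
    let e : XR.left.presheaf.stalk ξ' ≃+* t.image.presheaf.stalk γ :=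
      (eX.trans (RingEquiv.subringCongr hXT)).trans eT.symm
    have he : ∀ a, jT (e a) = jX a := fun a =>
      congrArg Subtype.val (eT.apply_symm_apply (RingEquiv.subringCongr hXT (eX a)))
    let ε : XR.left.presheaf.stalk ξ' ⟶ t.image.presheaf.stalk γ := CommRingCat.ofHom e.toRingHom
    have hε : ε ≫ toFun gT γ hγg = toFun iX ξ' hξ' := by
      ext a
      exact he a
    have key := eq_of_center (toFun gT γ hγg) (toFun_injective gT γ hγg)
      (t.image.fromSpecStalk γ ≫ π) (Spec.map ε ≫ XR.left.fromSpecStalk ξ') (by
        rw [← Category.assoc, toFun_spec, Category.assoc, h31, ← Category.assoc (Spec.map _), ← Spec.map_comp,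
          hε, toFun_spec])
    replace key : π (t.image.fromSpecStalk γ (IsLocalRing.closedPoint _)) =
        XR.left.fromSpecStalk ξ' (Spec.map ε (IsLocalRing.closedPoint _)) := key
    rw [Scheme.fromSpecStalk_closedPoint, hγx] at key
    have hloc : Spec.map ε (IsLocalRing.closedPoint _) = IsLocalRing.closedPoint _ := by
      haveI : IsIso ε := inferInstanceAs (IsIso e.toCommRingCatIso.hom)
      haveI : IsLocalHom ε.hom := isLocalHom_of_isIso ε
      exact IsLocalRing.comap_closedPoint ε.hom
    rw [hloc, Scheme.fromSpecStalk_closedPoint] at key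
    -- but then the dimensions disagree
    have hd1 : ringKrullDim (t.image.presheaf.stalk γ) = 1 := by
      let eW := RingEquiv.ofBijective jW.rangeRestrict
        ⟨fun a b hab => toFun_injective iW ω hωg (congrArg Subtype.val hab), RingHom.rangeRestrict_surjective _⟩
      have hTW' : jT.range = jW.range := SetLike.coe_injective (by
        rw [RingHom.coe_range, RingHom.coe_range]
        exact hTW)
      rw [ringKrullDim_eq_of_ringEquiv ((eT.trans (RingEquiv.subringCongr hTW')).trans eW.symm),
        ringKrullDim_stalk_eq_coheight, hωh]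
      rfl
    rw [← ringKrullDim_eq_of_ringEquiv e, ringKrullDim_stalk_eq_coheight, ← key] at hd1
    exact h1 (WithBot.coe_le_coe.1 hd1.le)
  haveI : LocallyQuasiFinite π := LocallyQuasiFinite.of_finite_preimage_singleton π hfin
  haveI : IsFinite π := IsFinite.of_isProper_of_locallyQuasiFinite π
  obtain ⟨hgenπ, hstπ⟩ := BirQFLib.birational_of_isIso_restrict π U hU inferInstance
  haveI : IsIso π := NormalSch.isIso_of_integral_birational hXn π hgenπ
    (ConcreteCategory.bijective_of_isIso (π.stalkMap _)).2
  refine ⟨Over.homMk (inv π ≫ q) ?_, ?_⟩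
  · rw [Category.assoc, IsIso.inv_comp_eq]
    simp only [q, π, π₁, π₂, pX, pW, Category.assoc, pullback.condition]
  · show iX ≫ inv π ≫ q = iW
    rw [← h31, Category.assoc, IsIso.hom_inv_id_assoc, h32]

end Groth.Agent.S16552
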