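import Groth.Statements.S16554
import Groth.Agent.CastLib.CompList
import Groth.Agent.CastLib.Section
import Groth.Agent.CastLib.ExcCriterion
import Mathlib.RingTheory.LocalRing.Quotient
import Mathlib.RingTheory.LocalRing.Length
import Mathlib.RingTheory.OrderOfVanishing.Basic

set_option autoImplicit false
universe u
open CategoryTheory CategoryTheory.Limits AlgebraicGeometry
attribute [local instance] Curv2.resAlgebra
open Models

namespace Groth.Agent.S16554

set_option backward.isDefEq.respectTransparency false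
set_option linter.style.haveILetI false
set_option maxHeartbeats 1000000
open TopologicalSpace Groth.Agent Groth.Agent.SurfPtBlow IsLocalRing

/-- The order of a finite product of powers. -/
theorem ord_prod {B : Type u} [CommRing B] [IsDomain B] {ι : Type*} (s : Finset ι) (f : ι → B) (a : ι → ℕ)
    (hf : ∀ i ∈ s, f i ≠ 0) : Ring.ord B (∏ i ∈ s, f i ^ a i) = ∑ i ∈ s, a i • Ring.ord B (f i) := by
  classical
  induction s using Finset.induction_on with
  | empty => simp
  | insert j t hj ih =>
    rw [Finset.prod_insert hj, Finset.sum_insert hj, ← ih fun i hi => hf i (Finset.mem_insert_of_mem hi),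
      Ring.ord_mul B (mem_nonZeroDivisors_of_ne_zero (Finset.prod_ne_zero_iff.2 fun i hi =>
        pow_ne_zero _ (hf i (Finset.mem_insert_of_mem hi)))),
      Ring.ord_pow (mem_nonZeroDivisors_of_ne_zero (hf j (Finset.mem_insert_self j t)))]

/-- A finite domain over a discrete valuation ring with algebraically closed residue field: the order of the
uniformiser is the degree of the fraction field. -/
theorem ord_uniformizer {R : Type u} [CommRing R] [IsDomain R] [IsDiscreteValuationRing R]
    (hk : IsAlgClosed (ResidueField R)) {B : Type u} [CommRing B] [IsDomain B] [IsLocalRing B] [Algebra R B]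
    [Module.Finite R B] [IsLocalHom (algebraMap R B)] (hinj : Function.Injective (algebraMap R B))
    {π : R} (hπ : Irreducible π)
    (K L : Type u) [Field K] [Algebra R K] [IsFractionRing R K] [Field L] [Algebra B L] [IsFractionRing B L]
    [Algebra K L] [Algebra R L] [IsScalarTower R K L] [IsScalarTower R B L] :
    Ring.ord B (algebraMap R B π) = (Module.finrank K L : ℕ∞) := by
  haveI := hk
  haveI : FaithfulSMul R B := (faithfulSMul_iff_algebraMap_injective R B).2 hinj
  haveI : Module.IsTorsionFree R B := inferInstance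
  haveI : Module.Free R B := inferInstance
  let k := ResidueField R
  haveI : Module.Finite k (ResidueField B) := inferInstance
  have h1 : Module.length k (ResidueField B) = 1 := by
    rw [Module.length_eq_finrank k (ResidueField B)]
    have hb := IsAlgClosed.algebraMap_bijective_of_isIntegral (k := k) (K := ResidueField B)
    rw [← (LinearEquiv.ofBijective (Algebra.linearMap k (ResidueField B)) hb).finrank_eq, Module.finrank_self,
      Nat.cast_one]
  let J : Ideal B := Ideal.map (algebraMap R B) (maximalIdeal R)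
  have hJ : J = Ideal.span {algebraMap R B π} := by
    simp only [J, hπ.maximalIdeal_eq, Ideal.map_span, Set.image_singleton]
  have h2 : Module.length R (B ⧸ J) = Module.length B (B ⧸ J) := by
    rw [IsLocalRing.length_restrictScalars R B (B ⧸ J), h1, mul_one]
  letI := Ideal.Quotient.field (maximalIdeal R)
  haveI : Module.Finite (R ⧸ maximalIdeal R) (B ⧸ J) := Module.Finite.of_restrictScalars_finite R _ _
  have h3 : Module.length R (B ⧸ J) = (Module.finrank (R ⧸ maximalIdeal R) (B ⧸ J) : ℕ∞) := by
    rw [Module.length_eq_of_surjective (M := B ⧸ J) (Ideal.Quotient.mk_surjective (I := maximalIdeal R)),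
      Module.length_eq_finrank]
  rw [Ring.ord, ← hJ, ← h2, h3, IsLocalRing.finrank_quotient_map, IsFractionRing.finrank_eq R K B L]


/-- Let R be a Henselian discrete valuation ring with algebraically closed residue field and fraction
field K, C a smooth proper curve over K with H^0(C, O_C) = K, and XR a regular model of C over R: an
integral scheme all of whose local rings are regular, proper and flat over Spec R, with generic
fibre identified with C through iX. Let x be a closed point of the special fibre of XR and Γ_1, ...,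
Γ_n vertical prime divisors with pairwise distinct supports which are exactly the irreducible
components of the special fibre containing x, with multiplicities r_1, ..., r_n. If P is a closed
point of C whose closure in XR meets the special fibre only in x, then the degree [κ(P) : K] equals
c_1 r_1 + ... + c_n r_n for some positive integers c_i. -/
theorem result
    (R : Type u) [CommRing R] [IsDomain R] [IsDiscreteValuationRing R] [HenselianLocalRing R]
    (hk : IsAlgClosed (IsLocalRing.ResidueField R))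
    (C : Scheme.{u}) [C.Over (Spec (CommRingCat.of (FractionRing R)))]
    (hC : Curve.IsSmoothProperCurve (FractionRing R) C (C ↘ Spec (CommRingCat.of (FractionRing R))))
    (hC0 : IsIso (C ↘ Spec (CommRingCat.of (FractionRing R))).appTop)
    (XR : Over (Spec (CommRingCat.of R))) [IsIntegral XR.left]
    (hreg : ∀ y : XR.left, IsRegularLocalRing (XR.left.presheaf.stalk y))
    [IsProper XR.hom] [Flat XR.hom]
    (iX : C ⟶ XR.left)
    (hiX : IsPullback iX (C ↘ Spec (CommRingCat.of (FractionRing R))) XR.hom (Spec.map (CommRingCat.ofHom (algebraMap R (FractionRing R)))))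
    (x : XR.left) (hx : IsClosed ({x} : Set XR.left)) (hxs : x ∈ Models.specialFibreSet R XR)
    {n : ℕ} (Γ : Fin n → ArSurf.VertComp R XR)
    (hinj : Function.Injective fun i => Set.range ((Γ i).ι.base : (Γ i).curve.left → XR.left))
    (hΓ : ∀ Z ∈ Models.fibreComponents R XR,
      x ∈ Z ↔ ∃ i, Set.range ((Γ i).ι.base : (Γ i).curve.left → XR.left) = Z)
    (P : C) (hP : IsClosed ({P} : Set C))
    (hPx : closure ({iX.base P} : Set XR.left) ∩ Models.specialFibreSet R XR = {x}) :
    ∃ c : Fin n → ℕ, (∀ i, 1 ≤ c i) ∧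
      Module.finrank (FractionRing R) (C.residueField P) = ∑ i, c i * Models.mult R XR (Γ i) := by
  classical
  haveI := hiX.w
  let Y := XR.left
  let p := XR.hom
  let K := FractionRing R
  haveI : IsLocallyNoetherian Y := LocallyOfFiniteType.isLocallyNoetherian p
  haveI : IsIntegral C := hC.2.2.1
  haveI : IsOpenImmersion iX := SurfPtBlow.isOpenImmersion_gen hiX
  have hY : Models.IsRegularProperModel R Y p C (C ↘ Spec (CommRingCat.of K)) :=
    ⟨⟨inferInstance, inferInstance, inferInstance, iX, hiX⟩, inferInstance, hreg⟩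
  have hV := CastLib.VSurf.of_model hC hY
  haveI := hreg x
  let Q : Y := iX.base P
  have hQx : Q ⤳ x := specializes_iff_mem_closure.2 ((hPx.ge (Set.mem_singleton x)).1)
  have hD : ∀ z : Y, Q ⤳ z → z = Q ∨ z = x := fun z hz => by
    by_cases hzs : p z = closedPoint R
    · exact Or.inr (hPx.le ⟨specializes_iff_mem_closure.1 hz, hzs⟩)
    · obtain ⟨c, rfl⟩ := SurfPtBlow.mem_range_gen hiX hzs
      left
      have h1 : P ⤳ c := iX.isOpenEmbedding.isInducing.specializes_iff.1 hz
      have h2 : c = P := hP.closure_eq.le (specializes_iff_mem_closure.1 h1)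
      rw [h2]
  obtain ⟨_, ⟨U : Y.Opens, hU, rfl⟩, hxU, -⟩ :=
    Y.isBasis_affineOpens.exists_subset_of_mem_open (a := x) (Set.mem_univ x) isOpen_univ
  have hQU : Q ∈ U := hQx.mem_open U.2 hxU
  letI := Y.presheaf.algebra_section_stalk ⟨Q, hQU⟩
  haveI := hU.isLocalization_stalk ⟨Q, hQU⟩
  let A := Y.presheaf.stalk x
  let L := C.residueField P
  let res : Y.presheaf.stalk Q →+* L := (C.residue P).hom.comp (iX.stalkMap P).hom
  have hress : Function.Surjective res :=
    (C.residue_surjective P).comp (ConcreteCategory.bijective_of_isIso (iX.stalkMap P)).2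
  let ψ : A →+* L := res.comp (Y.presheaf.stalkSpecializes hQx).hom
  let g0 : Γ(Y, U) →+* A := (Y.presheaf.germ U x hxU).hom
  let ψ₀ : Γ(Y, U) →+* L := ψ.comp g0
  have hψ₀ : ∀ b, ψ₀ b = res (algebraMap Γ(Y, U) (Y.presheaf.stalk Q) b) := fun b => by
    show res (Y.presheaf.stalkSpecializes hQx (Y.presheaf.germ U x hxU b)) = _
    rw [TopCat.Presheaf.germ_stalkSpecializes_apply]
    rfl
  let q := hU.primeIdealOf ⟨Q, hQU⟩
  have hker : RingHom.ker ψ₀ = q.asIdeal := by
    refine Eq.trans ?_ (IsLocalization.AtPrime.comap_maximalIdeal (Y.presheaf.stalk Q) q.asIdeal)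
    ext b
    rw [RingHom.mem_ker, hψ₀, Ideal.mem_comap]
    show C.residue P (iX.stalkMap P _) = 0 ↔ _
    refine (IsLocalRing.residue_eq_zero_iff _).trans ?_
    rw [IsLocalRing.mem_maximalIdeal, IsLocalRing.mem_maximalIdeal, mem_nonunits_iff, mem_nonunits_iff,
      isUnit_map_iff]
  let B := ψ₀.range
  -- the structure over `R`
  let hRU : R →+* Γ(Y, U) := (Y.presheaf.map (homOfLE le_top).op).hom.comp (Coh.toGlobal p)
  have hRx : ∀ r, g0 (hRU r) = Models.stalkHom R XR x r := fun r =>
    TopCat.Presheaf.germ_res_apply Y.presheaf _ x hxU _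
  have hw : iX ≫ p = (C ↘ Spec (CommRingCat.of K)) ≫ Spec.map (CommRingCat.ofHom (algebraMap R K)) := hiX.w
  have hRK : ∀ r, ψ₀ (hRU r) = algebraMap K L (algebraMap R K r) := fun r => by
    rw [hψ₀]
    show C.residue P (iX.stalkMap P (Y.presheaf.germ U Q hQU
      (Y.presheaf.map (homOfLE le_top).op (Coh.toGlobal p r)))) =
      C.residue P (C.presheaf.germ ⊤ P trivial (Coh.toGlobal (C ↘ Spec (CommRingCat.of K)) (algebraMap R K r)))
    rw [TopCat.Presheaf.germ_res_apply, Scheme.Hom.germ_stalkMap_apply,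
      ← CastLib.toGlobal_comp_specMap (algebraMap R K) (C ↘ Spec (CommRingCat.of K)) r, ← hw]
    rfl
  letI algB : Algebra R B := (ψ₀.rangeRestrict.comp hRU).toAlgebra
  letI algL : Algebra R L := ((algebraMap K L).comp (algebraMap R K)).toAlgebra
  haveI : IsScalarTower R K L := IsScalarTower.of_algebraMap_eq' rfl
  haveI : IsScalarTower R B L := IsScalarTower.of_algebraMap_eq fun r => (hRK r).symm
  haveI : IsFractionRing B L := by
    refine ⟨fun ⟨b, hb⟩ => isUnit_iff_ne_zero.2 fun h0 => nonZeroDivisors.ne_zero hb (Subtype.ext h0),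
      fun z => ?_, fun {a b} h => ⟨1, by rw [Subtype.ext (show (a : L) = (b : L) from h)]⟩⟩
    obtain ⟨w, rfl⟩ := hress z
    obtain ⟨⟨a, t⟩, ht⟩ := IsLocalization.surj q.asIdeal.primeCompl w
    have ht0 : ψ₀ t.1 ≠ 0 := fun h0 => t.2 (hker.le (RingHom.mem_ker.2 h0))
    refine ⟨(⟨ψ₀ a, a, rfl⟩, ⟨⟨ψ₀ t.1, t.1, rfl⟩, mem_nonZeroDivisors_of_ne_zero fun h0 => ht0 (congrArg Subtype.val h0)⟩), ?_⟩
    show res w * ψ₀ t.1 = ψ₀ a
    rw [hψ₀, hψ₀, ← map_mul, ht]
  -- finiteness
  let φ : Spec (CommRingCat.of B) ⟶ Y := Spec.map (CommRingCat.ofHom ψ₀.rangeRestrict) ≫ hU.fromSpec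
  have hfp : hU.fromSpec ≫ p = Spec.map (CommRingCat.ofHom hRU) := by
    rw [← IsAffineOpen.SpecMap_appLE_fromSpec p (isAffineOpen_top _) hU le_top, IsAffineOpen.fromSpec_top,
      Scheme.isoSpec_Spec_inv, ← Spec.map_comp]
    rfl
  have hrange : Set.range φ = closure {Q} := by
    haveI hsurj : IsClosedImmersion (Spec.map (CommRingCat.ofHom ψ₀.rangeRestrict)) :=
      IsClosedImmersion.spec_of_surjective _ ψ₀.rangeRestrict_surjective
    show Set.range (hU.fromSpec ∘ Spec.map (CommRingCat.ofHom ψ₀.rangeRestrict)) = _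
    rw [Set.range_comp]
    have hr : Set.range (Spec.map (CommRingCat.ofHom ψ₀.rangeRestrict)) = closure {q} := by
      show Set.range (PrimeSpectrum.comap ψ₀.rangeRestrict) = _
      rw [range_comap_of_surjective _ _ ψ₀.rangeRestrict_surjective, RingHom.ker_rangeRestrict, hker,
        PrimeSpectrum.closure_singleton]
    rw [hr]
    refine Set.Subset.antisymm ((image_closure_subset_closure_image hU.fromSpec.continuous).trans
      (by rw [Set.image_singleton, hU.fromSpec_primeIdealOf ⟨Q, hQU⟩])) fun z hz => ?_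
    have hzU : z ∈ U := by
      rcases hD z (specializes_iff_mem_closure.2 hz) with rfl | rfl
      · exact hQU
      · exact hxU
    refine ⟨hU.primeIdealOf ⟨z, hzU⟩, specializes_iff_mem_closure.1 (hU.fromSpec.isOpenEmbedding.isInducing.specializes_iff.1 ?_),
      hU.fromSpec_primeIdealOf ⟨z, hzU⟩⟩
    rw [hU.fromSpec_primeIdealOf ⟨Q, hQU⟩, hU.fromSpec_primeIdealOf ⟨z, hzU⟩]
    exact specializes_iff_mem_closure.2 hz
  haveI hfin : Module.Finite R B := by
    haveI : IsClosedImmersion (Spec.map (CommRingCat.ofHom ψ₀.rangeRestrict)) :=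
      IsClosedImmersion.spec_of_surjective _ ψ₀.rangeRestrict_surjective
    haveI : IsPreimmersion φ := inferInstanceAs (IsPreimmersion (_ ≫ _))
    haveI : IsClosedImmersion φ := IsClosedImmersion.of_isPreimmersion φ (by rw [hrange]; exact isClosed_closure)
    haveI : IsFinite (φ ≫ p) := IsFinite.iff_isProper_and_isAffineHom.2 ⟨inferInstance, inferInstance⟩
    have he : φ ≫ p = Spec.map (CommRingCat.ofHom (ψ₀.rangeRestrict.comp hRU)) := by
      rw [Category.assoc, hfp, ← Spec.map_comp]
      rfl
    exact (IsFinite.SpecMap_iff _).1 (he ▸ this)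
  have hinjB : Function.Injective (algebraMap R B) := fun a b h => IsFractionRing.injective R K
    ((algebraMap K L).injective (by rw [← hRK, ← hRK]; exact congrArg Subtype.val h))
  -- the local ring maps onto `B`
  let u : PrimeSpectrum Γ(Y, U) := hU.primeIdealOf ⟨x, hxU⟩
  have hunit : ∀ t : Γ(Y, U), t ∉ u.asIdeal → IsUnit (ψ₀.rangeRestrict t) := fun t ht => by
    by_contra hnu
    obtain ⟨M, hM, htM⟩ := exists_max_ideal_of_mem_nonunits hnu
    haveI := hM
    haveI : Algebra.IsIntegral R B := Algebra.IsIntegral.of_finite R B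
    have hMR : M.comap (algebraMap R B) = maximalIdeal R :=
      IsLocalRing.eq_maximalIdeal (Ideal.isMaximal_comap_of_isIntegral_of_isMaximal M)
    let m : PrimeSpectrum B := ⟨M, inferInstance⟩
    let y : Y := φ m
    have hy : p y = closedPoint R := by
      show (φ ≫ p) m = _
      have he : φ ≫ p = Spec.map (CommRingCat.ofHom (algebraMap R B)) := by
        rw [Category.assoc, hfp, ← Spec.map_comp]
        rfl
      rw [he]
      exact PrimeSpectrum.ext hMR
    have hyx : y = x := hPx.le ⟨hrange.le ⟨m, rfl⟩, hy⟩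
    have hm : Spec.map (CommRingCat.ofHom ψ₀.rangeRestrict) m = u :=
      hU.fromSpec.isOpenEmbedding.injective (hyx.trans (hU.fromSpec_primeIdealOf ⟨x, hxU⟩).symm)
    exact ht ((congrArg PrimeSpectrum.asIdeal hm).le htM)
  letI := Y.presheaf.algebra_section_stalk ⟨x, hxU⟩
  haveI := hU.isLocalization_stalk ⟨x, hxU⟩
  have hmemB : ∀ a, ψ a ∈ B := fun a => by
    obtain ⟨⟨b, t⟩, ht⟩ := IsLocalization.surj u.asIdeal.primeCompl a
    obtain ⟨v, hv⟩ := hunit t.1 t.2
    refine (show ψ a = ((ψ₀.rangeRestrict b * ↑v⁻¹ : B) : L) from ?_) ▸ Subtype.coe_prop _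
    have h1 : ψ a * ψ₀ t.1 = ψ₀ b := (map_mul ψ a (g0 t.1)).symm.trans (congrArg ψ ht)
    have h2 : ψ₀ t.1 * ((↑v⁻¹ : B) : L) = 1 := by
      have := congrArg Subtype.val v.mul_inv
      rwa [hv] at this
    show ψ a = ψ₀ b * _
    rw [← h1, mul_assoc, h2, mul_one]
  let θ : A →+* B := ψ.codRestrict B hmemB
  have hθ : Function.Surjective θ := by
    rintro ⟨_, b, rfl⟩
    exact ⟨g0 b, Subtype.ext rfl⟩
  haveI : IsLocalRing B := IsLocalRing.of_surjective' θ hθ
  haveI : IsLocalHom θ := IsLocalHom.of_surjective θ hθ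
  obtain ⟨π, hπ⟩ := IsDiscreteValuationRing.exists_irreducible R
  have hθR : ∀ r, θ (Models.stalkHom R XR x r) = algebraMap R B r := fun r => by
    rw [← hRx]
    exact Subtype.ext rfl
  -- the local equation of the fibre
  obtain ⟨N, Γ', hΓ'⟩ := CastLib.exists_componentList hC hY
  obtain ⟨hcart, hfib⟩ := hV.toFibreGood.fibre_eq_prod hΓ'
  have hJ : IntMult.stalkIdeal (SurfPtBlow.fibreIdeal p) x = Ideal.span {Models.stalkHom R XR x π} := by
    rw [SurfPtBlow.fibreIdeal, hπ.maximalIdeal_eq]
    exact SurfPtBlow.stalkIdeal_comap_principal p π x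
  have hπm : Models.stalkHom R XR x π ∈ maximalIdeal A :=
    (Ideal.span_singleton_le_iff_mem _).1 (hJ ▸ IdealStalkLib.stalkIdeal_le_maximal _ (CastLib.FibreGood.mem_fibre.2 hxs))
  haveI : IsLocalHom (algebraMap R B) := ⟨fun r hr => by
    by_contra hnu
    have hrm : r ∈ maximalIdeal R := hnu
    rw [hπ.maximalIdeal_eq, Ideal.mem_span_singleton] at hrm
    obtain ⟨s, rfl⟩ := hrm
    rw [map_mul, IsUnit.mul_iff, ← hθR] at hr
    exact hπm ((isUnit_map_iff θ _).1 hr.1)⟩
  have hord := ord_uniformizer hk hinjB hπ K L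
  choose f hf hfI using fun j => DivisorialLib.exists_gen (hcart j) x
  let T := Finset.univ.filter fun j => x ∈ Set.range (Γ' j).ι
  let m : Fin N → ℕ := fun j => Models.mult R XR (Γ' j)
  have hprod : Ideal.span {Models.stalkHom R XR x π} = Ideal.span {∏ j ∈ T, f j ^ m j} := by
    rw [← hJ, show SurfPtBlow.fibreIdeal p = ∏ j, (Γ' j).ι.ker ^ Models.mult R XR (Γ' j) from hfib,
      CastLib.stalkIdeal_prod', ← Ideal.prod_span_singleton,
      ← Finset.prod_subset (Finset.subset_univ T) fun j _ hj => ?_]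
    · exact Finset.prod_congr rfl fun j _ => by rw [hfI, Ideal.span_singleton_pow]
    · rw [IdealMulLib.stalkIdeal_eq_top _ (fun hmem => hj (Finset.mem_filter.2 ⟨Finset.mem_univ j, ?_⟩)),
        ← Ideal.one_eq_top, one_pow]
      rwa [← SetLike.mem_coe, CastLib.support_ker] at hmem
  have hfm : ∀ j ∈ T, f j ∈ maximalIdeal A := fun j hj => (Ideal.span_singleton_le_iff_mem _).1 (by
    rw [← hfI]
    refine IdealStalkLib.stalkIdeal_le_maximal _ ?_
    rw [← SetLike.mem_coe, CastLib.support_ker]
    exact (Finset.mem_filter.1 hj).2)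
  have hass : Associated (algebraMap R B π) (∏ j ∈ T, θ (f j) ^ m j) := by
    rw [← hθR]
    have := (Ideal.span_singleton_eq_span_singleton.1 hprod).map θ
    simp only [map_prod, map_pow] at this
    exact this
  have hπB : algebraMap R B π ≠ 0 := fun h0 => hπ.ne_zero (hinjB (h0.trans (map_zero _).symm))
  have hne : ∀ j ∈ T, θ (f j) ≠ 0 := fun j hj h0 => by
    have hm0 : 0 < m j := hV.mult_pos hΓ' j
    refine hπB (hass.eq_zero_iff.2 (Finset.prod_eq_zero hj ?_))
    rw [h0, zero_pow hm0.ne']
  have hsum : (Module.finrank K L : ℕ∞) = ∑ j ∈ T, m j • Ring.ord B (θ (f j)) := by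
    rw [← hord, Ring.ord_eq_of_associated hass, ord_prod T _ m hne]
  have htop : ∀ j ∈ T, Ring.ord B (θ (f j)) ≠ ⊤ := fun j hj => by
    haveI : IsNoetherianRing B := isNoetherianRing_of_surjective A B θ hθ
    intro h
    have hm0 : 0 < m j := hV.mult_pos hΓ' j
    have h2 : m j • Ring.ord B (θ (f j)) ≤ (Module.finrank K L : ℕ∞) :=
      hsum ▸ Finset.single_le_sum (f := fun j => m j • Ring.ord B (θ (f j))) (fun _ _ => zero_le) hj
    rw [h, nsmul_eq_mul, ENat.mul_top (by exact_mod_cast hm0.ne'), top_le_iff] at h2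
    exact ENat.coe_ne_top _ h2
  -- the given components
  have hmemT : ∀ i, ∃ j ∈ T, Set.range (Γ' j).ι = Set.range (Γ i).ι := fun i => by
    obtain ⟨-, -, hall⟩ := hV.toFibreGood.componentList hΓ'
    obtain ⟨j, hj⟩ := hall (Models.genPtOf R XR (Γ i))
      (CastLib.vertComp_vertical (Γ i) (genericPoint (Γ i).curve.left)) (hV.coheight_genPtOf (Γ i))
    have hr : Set.range (Γ' j).ι = Set.range (Γ i).ι := by
      rw [CastLib.range_vertComp, CastLib.range_vertComp, hj]
    have hmemc : Set.range (Γ i).ι ∈ Models.fibreComponents R XR := hr ▸ hΓ'.2.le ⟨j, rfl⟩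
    exact ⟨j, Finset.mem_filter.2 ⟨Finset.mem_univ j, hr.ge ((hΓ _ hmemc).2 ⟨i, rfl⟩)⟩, hr⟩
  choose e heT he using hmemT
  have hmult : ∀ i, m (e i) = Models.mult R XR (Γ i) := fun i => by
    have key : ∀ {W : Over (Spec (CommRingCat.of R))} (Γ₁ Γ₂ : ArSurf.VertComp R W),
        Set.range Γ₁.ι = Set.range Γ₂.ι → Models.mult R W Γ₁ = Models.mult R W Γ₂ := fun Γ₁ Γ₂ h => by
      simp only [Models.mult]
      rw [CastLib.genPtOf_eq_of_range h]
    exact key (W := XR) (Γ' (e i)) (Γ i) (he i)
  refine ⟨fun i => (Ring.ord B (θ (f (e i)))).toNat, fun i => ?_, ?_⟩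
  · refine Nat.one_le_iff_ne_zero.2 fun h0 => ?_
    rcases ENat.toNat_eq_zero.1 h0 with h1 | h1
    · replace h1 : IsUnit (θ (f (e i))) := by
        rw [Ring.ord, Module.length_eq_zero_iff, Submodule.Quotient.subsingleton_iff, Ideal.span_singleton_eq_top] at h1
        exact h1
      exact hfm _ (heT i) ((isUnit_map_iff θ _).1 h1)
    · exact htop _ (heT i) h1
  · have hbij : ∑ j ∈ T, m j • Ring.ord B (θ (f j)) =
        ∑ i, Models.mult R XR (Γ i) • Ring.ord B (θ (f (e i))) := by
      refine (Finset.sum_bij (fun i _ => e i) (fun i _ => heT i)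
        (fun a _ b _ hab => hinj ((he a).symm.trans ((congrArg (fun j => Set.range (Γ' j).ι) hab).trans (he b))))
        (fun j hj => ?_) fun i _ => by rw [hmult]).symm
      have hjc : Set.range (Γ' j).ι ∈ Models.fibreComponents R XR := hΓ'.2.le ⟨j, rfl⟩
      obtain ⟨i, hi⟩ := (hΓ _ hjc).1 (Finset.mem_filter.1 hj).2
      exact ⟨i, Finset.mem_univ i, hΓ'.1 ((he i).trans hi)⟩
    have hfinal : (Module.finrank K L : ℕ∞) =
        ((∑ i, (Ring.ord B (θ (f (e i)))).toNat * Models.mult R XR (Γ i) : ℕ) : ℕ∞) := by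
      rw [hsum, hbij, Nat.cast_sum]
      refine Finset.sum_congr rfl fun i _ => ?_
      rw [nsmul_eq_mul, Nat.cast_mul, ENat.natCast_toNat (htop _ (heT i)), mul_comm]
    exact ENat.natCast_inj.1 hfinal

end Groth.Agent.S16554
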