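import Groth.Statements.S16557
import Groth.Agent.TwistShriek.SurfCan
import Groth.Agent.S7641
-- import your own Groth.Agent.* helpers here

set_option autoImplicit false
set_option backward.isDefEq.respectTransparency false
set_option maxHeartbeats 800000
set_option synthInstance.maxHeartbeats 200000
universe u
open CategoryTheory CategoryTheory.Limits AlgebraicGeometry TopologicalSpace
open Surf
open Groth.Agent Groth.Agent.TwistShriek

namespace Groth.Agent.S16557

/-- Let X be a smooth proper integral surface over an algebraically closed field k, W = Λ²Ω_{X/k} a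
canonical module, and suppose H⁰(X, W) = 0 (the source states this for smooth rational surfaces and
uses exactly the vanishing of H⁰(X, K_X)). If L is an invertible O_X-module with H⁰(X, L) ≠ 0, then
H²(X, L) = 0. -/
theorem result (k : Type u) [Field k] [IsAlgClosed k]
    (X : Scheme.{u}) [X.Over (Spec (CommRingCat.of k))] [IsIntegral X] [IsProper (X ↘ (Spec (CommRingCat.of k)))] [Smooth (X ↘ (Spec (CommRingCat.of k)))]
    (hdim : topologicalKrullDim X = 2)
    (W : X.Modules) (hW : ExtPow.IsExtPow 2 (Omega.sheaf (X ↘ (Spec (CommRingCat.of k)))) W)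
    (hpg : Subsingleton (Coh.HH X W 0))
    (L : X.Modules) (hL : PicF.IsInvertible L) (h0 : Nontrivial (Coh.HH X L 0)) :
    Subsingleton (Coh.HH X L 2) := by
    haveI := EulerIneqLib.isNoetherian_proper (X := X) k
    haveI := h0
    obtain ⟨hWi, -, hdj⟩ := canonical_data_proper k hdim hW
    obtain ⟨L', hL', ⟨e⟩⟩ := AmpleEmb.exists_isInverseOf hL
    have h := hdj L L' hL ⟨e⟩ 0 (by omega)
    haveI : Module.Finite k (Coh.HH X L 2) := EulerIneqLib.finite_HH (k := k) (CurveLib.isCoh_of_isInvertible hL) 2
    refine (Module.finrank_zero_iff (R := k)).1 (h.symm.trans ?_)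
    haveI : Subsingleton (Coh.HH X (CohB1.tensorMod W L') 0) := by
      by_contra hns
      rw [not_subsingleton_iff_nontrivial] at hns
      haveI := hns
      obtain ⟨s, hs⟩ := CurveLib.exists_hom_ne_zero L
      obtain ⟨t, ht⟩ := CurveLib.exists_hom_ne_zero (CohB1.tensorMod W L')
      have hWL : PicF.IsInvertible (CohB1.tensorMod W L') := AmpleLib.isInvertible_tensor hWi hL'
      let e' : CohB1.tensorMod (CohB1.tensorMod W L') L ≅ W :=
        AmpleLib.assoc W L' L ≪≫ ((DCoh.tensorBi (X := X)).obj W).mapIso (AmpleLib.comm L' L ≪≫ e) ≪≫ AmpleLib.unitR W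
      have hne : AmpleLib.tensorS t s ≫ e'.hom ≠ 0 := fun h0 => by
        have hg := AmpleLib.genLocus_comp_iso (AmpleLib.tensorS t s) e'
        rw [h0, AmpleLib.genLocus_tensorS hWL hL, show CohB1.genLocus W (0 : Coh.structureModule X ⟶ W) = ⊥ from
          eq_bot_iff.2 fun x hx => (S7641.notMem_genLocus_zero hWi x hx).elim] at hg
        have h1 : CohB1.genLocus _ t ≠ ⊥ := fun h => ht (S7641.eq_zero_of_genLocus_eq_bot hWL t h)
        have h2 : CohB1.genLocus _ s ≠ ⊥ := fun h => hs (S7641.eq_zero_of_genLocus_eq_bot hL s h)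
        obtain ⟨a, ha⟩ : ((CohB1.genLocus _ t : X.Opens) : Set X).Nonempty := by
          by_contra h; exact h1 (TopologicalSpace.Opens.ext (Set.not_nonempty_iff_eq_empty.1 h))
        obtain ⟨b, hb⟩ : ((CohB1.genLocus _ s : X.Opens) : Set X).Nonempty := by
          by_contra h; exact h2 (TopologicalSpace.Opens.ext (Set.not_nonempty_iff_eq_empty.1 h))
        have hga : genericPoint X ∈ CohB1.genLocus _ t := (genericPoint_specializes a).mem_open (CohB1.genLocus _ t).2 ha
        have hgb : genericPoint X ∈ CohB1.genLocus _ s := (genericPoint_specializes b).mem_open (CohB1.genLocus _ s).2 hb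
        have hmem : genericPoint X ∈ CohB1.genLocus _ t ⊓ CohB1.genLocus _ s := ⟨hga, hgb⟩
        rw [← hg] at hmem
        exact hmem.elim
      refine hne (DCohLib.hom_unit_ext ?_)
      haveI := hpg
      exact (CurveLib.secOf W).symm.injective (Subsingleton.elim _ _)
    exact Module.finrank_zero_of_subsingleton

end Groth.Agent.S16557
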