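import Groth.Statements.S1656
import Groth.Agent.TwistShriek.CurveSetup
import Groth.Agent.S3637
import Groth.Agent.S10831
import Groth.Agent.CurveLib.DegTensor
-- import your own Groth.Agent.* helpers here

set_option autoImplicit false
set_option backward.isDefEq.respectTransparency false
set_option maxHeartbeats 800000
set_option synthInstance.maxHeartbeats 200000
universe u
open CategoryTheory CategoryTheory.Limits AlgebraicGeometry
open Groth.Agent Groth.Agent.TwistShriek
attribute [local instance] HasDerivedCategory.standard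
open Curves

namespace Groth.Agent.S1656

/-- Let X be proper over k, Cohen–Macaulay and equidimensional of dimension one, and let ω_X be its
dualizing module, i.e. the cohomology sheaf in degree -1 of f^! O for f : X → Spec k (assuming the
derived direct image Rf_* on D_QCoh and its right adjoint exist, which is how the shared prelude
presents f^!). Then χ(X, O_X) = -χ(X, ω_X). -/
theorem result (k : Type u) [Field k] (X : Scheme.{u}) [X.Over (Spec (CommRingCat.of k))] [IsProper (X ↘ (Spec (CommRingCat.of k)))]
    (hCM : ∀ x : X, LocCoh.IsCohenMacaulayLocalRing (X.presheaf.stalk x))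
    (hequi : ∀ Z ∈ irreducibleComponents (X : Type u), topologicalKrullDim Z = 1)
    [DCoh.HasRpush (X ↘ (Spec (CommRingCat.of k)))] (h : DCoh.RpushPreservesQCoh (X ↘ (Spec (CommRingCat.of k)))) [DCoh.HasShriek (X ↘ (Spec (CommRingCat.of k))) h]
    (OY : DCoh.DQCoh (Spec (CommRingCat.of k))) (hOY : Nonempty (OY.obj ≅ DCoh.inD (Spec (CommRingCat.of k)) (Coh.structureModule (Spec (CommRingCat.of k))))) :
    Curv2.euler k X (Coh.structureModule X) = - Curv2.euler k X (DCoh.dualizingMod (X ↘ (Spec (CommRingCat.of k))) h OY 1) := by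
    have hdim : topologicalKrullDim X ≤ ((1 : ℕ) : WithBot ℕ∞) := by
      rw [Groth.Agent.S10831.result]
      exact iSup₂_le fun Z hZ => (hequi Z hZ).le
    obtain ⟨tr, hω, -, -⟩ := exists_pair_dualizingMod k X h OY hOY hdim
    obtain ⟨eO⟩ := hOY
    have h37 := (Groth.Agent.S3637.result k X (X ↘ Spec (CommRingCat.of k)) hCM 1 (fun Z hZ => hequi Z hZ) h
      (DCoh.shriek _ h) (DCoh.shriekAdj _ h) OY ⟨eO⟩).1
    have hLE : ((DCoh.shriek (X ↘ Spec (CommRingCat.of k)) h).obj OY).obj.IsLE (-1) :=
      (DerivedCategory.isLE_iff _ _).2 fun i hi => h37 i (by omega)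
    have hH1 := (finrank_H1_dualizing k X h (DCoh.shriek _ h) (DCoh.shriekAdj _ h) OY eO hdim).2.2 hLE
    have hH0 := finrank_H0_dualizing k hω
    rw [CurveLib.euler_eq_sub (k := k) hdim, CurveLib.euler_eq_sub (k := k) hdim, hH0]
    change _ = -(_ - ((Module.finrank k (Coh.HH X _ 1) : ℕ) : ℤ))
    rw [hH1]
    ring

end Groth.Agent.S1656
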