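import Groth.Statements.S16561
import Groth.Agent.BlowExcLib.PlaneSurf
import Groth.Agent.ShBCLib.Finrank
-- import your own Groth.Agent.* helpers here

set_option autoImplicit false
set_option backward.isDefEq.respectTransparency false
set_option maxHeartbeats 800000
set_option synthInstance.maxHeartbeats 200000
universe u
open CategoryTheory CategoryTheory.Limits AlgebraicGeometry TopologicalSpace
open Surf

namespace Groth.Agent.S16561

open Groth.Agent Groth.Agent.BlowExcLib CategoryTheory
set_option backward.isDefEq.respectTransparency false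
set_option synthInstance.maxHeartbeats 200000
set_option maxHeartbeats 800000

/-- Let k be an algebraically closed field, p_1, …, p_r distinct closed points of the projective plane
P²_k and σ : X → P²_k the blow-up of P²_k in the ideal of the reduced finite set {p_1, …, p_r}
(universal property), X being regarded over k through σ; X is then an integral smooth proper surface
(carried as hypotheses). Write H = σ^*O(1), (L·M) = χ(O_X) − χ(L) − χ(M) + χ(L ⊗ M) for the
intersection number of invertible modules L, M, and for a closed subscheme C ⊆ X with ideal I_C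
write (L·C) = χ(O_C ⊗ L) − χ(O_C) and C² = (I_C·I_C). A (−1)-curve is an integral closed
one-dimensional subscheme E ⊆ X with H¹(E, O_E) = 0 and E² = −1. Let L be an invertible O_X-module,
d = (L·H), χ⁻ = max(−χ(L), 0), and E a (−1)-curve with (H·E) ≤ d + 2. If dim_k H¹(X, L) = χ⁻, then
(L·E) ≥ −1 − χ⁻. (The source takes the points in general position; that assumption plays no role
here.) -/
theorem result (k : Type u) [Field k] [IsAlgClosed k]
    (r : ℕ) (P : Fin r → ↥(CohB1.ProjSpace 2 k)) (hP : Function.Injective P)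
    (hPc : ∀ i, IsClosed ({P i} : Set ↥(CohB1.ProjSpace 2 k))) (hZ : IsClosed (Set.range P))
    (X : Scheme.{u}) [X.Over (Spec (CommRingCat.of k))] (σ : X ⟶ CohB1.ProjSpace 2 k)
    (hσk : σ ≫ CohB1.ProjSpace.toSpec 2 k = X ↘ (Spec (CommRingCat.of k)))
    (hσ : BlowUp.IsBlowUp σ (Scheme.IdealSheafData.vanishingIdeal ⟨Set.range P, hZ⟩))
    [IsIntegral X] [IsProper (X ↘ (Spec (CommRingCat.of k)))] [Smooth (X ↘ (Spec (CommRingCat.of k)))] (hdim : topologicalKrullDim X = 2)
    (L : X.Modules) (hL : PicF.IsInvertible L)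
    (E : X.IdealSheafData) (hEi : IsIntegral E.subscheme) (hE1 : topologicalKrullDim (E.support : Set X) = 1)
    (hEg : Subsingleton (Coh.HH E.subscheme (Coh.structureModule E.subscheme) 1))
    (hEE : FGA.intNum k X 2 ![ClSub.idealMod E, ClSub.idealMod E] (Coh.structureModule X) = -1)
    (hEH : (Curv2.euler k X (CohB1.tensorMod (ClSub.quotMod E) ((Scheme.Modules.pullback σ).obj (Twist.twistProjSpace 2 k 1))) - Curv2.euler k X (ClSub.quotMod E)) ≤ FGA.intNum k X 2 ![L, ((Scheme.Modules.pullback σ).obj (Twist.twistProjSpace 2 k 1))] (Coh.structureModule X) + 2)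
    (h1 : (Module.finrank k (Coh.HH X L 1) : ℤ) = max (-Curv2.euler k X L) 0) :
    -1 - max (-Curv2.euler k X L) 0 ≤ (Curv2.euler k X (CohB1.tensorMod (ClSub.quotMod E) L) - Curv2.euler k X (ClSub.quotMod E)) := by
  haveI := EulerIneqLib.isNoetherian_proper (X := X) k
  haveI : IsIntegral E.subscheme := hEi
  have hEI := TwistShriek.invertible_curve k hdim E hEi hE1
  obtain ⟨hH, -⟩ := TwistShriek.nefP_plane k σ hσk
  rw [TwistShriek.intNum_eq_form k hdim.le hL hH, ← Nakai.pairing_cl k (ClSub.quotMod E) hH,
    TwistShriek.pairing_quotMod_cl k hEI] at hEH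
  have hLI := AmpleLib.isInvertible_tensor hEI hL
  haveI : Subsingleton (Coh.HH X (CohB1.tensorMod (ClSub.idealMod E) L) 2) := by
    refine subsingleton_H2_plane P hPc hZ σ hσ hdim hσk hLI ?_
    rw [TwistShriek.intNum_eq_form k hdim.le hLI hH]
    have e1 : Nakai.form k (Nakai.cl hLI) (Nakai.cl hH) = Nakai.form k (Nakai.cl hEI) (Nakai.cl hH) + Nakai.form k (Nakai.cl hL) (Nakai.cl hH) := by
      rw [Nakai.form_congr k hdim (w := Nakai.cl hEI + Nakai.cl hL) ?_ (Nakai.cl_mem hH), Nakai.form_add_left]
      rw [show Nakai.cl hLI - (Nakai.cl hEI + Nakai.cl hL) = Nakai.cl hEI * Nakai.cl hL by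
        rw [show Nakai.cl hLI = Nakai.cl (AmpleLib.isInvertible_tensor hEI hL) from rfl, Nakai.cl_tensor hEI hL]; ring]
      rw [pow_two]; exact Ideal.mul_mem_mul (Nakai.cl_mem _) (Nakai.cl_mem _)
    omega
  haveI := Groth.Agent.SerreAff.epi_unitToPush E.subschemeι
  haveI : Mono (ClSub.idealModι E) := inferInstanceAs (Mono (kernel.ι _))
  let S : ShortComplex X.Modules := ShortComplex.mk (ClSub.idealModι E) (ClSub.toSubscheme E) (kernel.condition _)
  have hS : S.ShortExact := ShortComplex.ShortExact.mk'
    (ShortComplex.exact_of_f_is_kernel _ (kernelIsKernel _)) (inferInstanceAs (Mono (ClSub.idealModι E)))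
    (inferInstanceAs (Epi (ClSub.toSubscheme E)))
  have hT := CurveLib.shortExact_tensR hS (CurveLib.freeAt_one_of_isInvertible hL)
  haveI : Subsingleton (Coh.HH X (S.map (CurveLib.tensR L)).X₁ 2) :=
    (inferInstance : Subsingleton (Coh.HH X (CohB1.tensorMod (ClSub.idealMod E) L) 2))
  have hsur : Function.Surjective (CurveLib.hMap (k := k) (S.map (CurveLib.tensR L)).g 1) := fun y => by
    have : y ∈ LinearMap.range (CurveLib.hMap (k := k) (S.map (CurveLib.tensR L)).g 1) := by
      rw [CurveLib.range_hMap_g (k := k) hT 1]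
      exact Subsingleton.elim _ _
    exact this
  haveI hf : Module.Finite k (Coh.HH X (S.map (CurveLib.tensR L)).X₂ 1) :=
    EulerIneqLib.finite_HH (k := k) (ShStabLib.isCoh_of_iso (AmpleLib.unitL L).symm (CurveLib.isCoh_of_isInvertible hL)) 1
  have hle := LinearMap.finrank_range_le (CurveLib.hMap (k := k) (S.map (CurveLib.tensR L)).g 1)
  rw [LinearMap.range_eq_top.2 hsur, finrank_top] at hle
  have h2 : Module.finrank k (Coh.HH X (S.map (CurveLib.tensR L)).X₂ 1) = Module.finrank k (Coh.HH X L 1) :=
    ShBCLib.finrank_HH_iso (K := k) (AmpleLib.unitL L) 1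
  have hs : topologicalKrullDim ((CohB1.support (CohB1.tensorMod (ClSub.quotMod E) L))) ≤ ((1 : ℕ) : WithBot ℕ∞) :=
    (Topology.IsEmbedding.inclusion ((HilbLib.support_tensor hL _).le.trans
      (IntLib.support_quotMod_subset E))).isInducing.topologicalKrullDim_le.trans hE1.le
  have he := CurveLib.euler_eq_sum (K := k) (CohB1.tensorMod (ClSub.quotMod E) L) 2 fun q hq =>
    CurveLib.subsingleton_HH_of_support _ E.support.isClosed
      ((HilbLib.support_tensor hL _).le.trans (IntLib.support_quotMod_subset E)) (d := 1) hE1.le (by omega)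
  simp only [Finset.sum_range_succ, Finset.sum_range_zero] at he
  norm_num at he
  obtain ⟨hE0, hg⟩ := TwistShriek.euler_curve_eq k hEi hE1
  rw [hg.1 hEg] at hE0
  change Module.finrank k (Coh.HH X (CohB1.tensorMod (ClSub.quotMod E) L) 1) ≤ _ at hle
  omega

end Groth.Agent.S16561
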