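import Groth.Statements.S16564
import Groth.Agent.BlowExcLib.PlaneSurf
import Groth.Agent.ShBCLib.Finrank
-- import your own Groth.Agent.* helpers here

set_option autoImplicit false
set_option backward.isDefEq.respectTransparency false
set_option maxHeartbeats 800000
set_option synthInstance.maxHeartbeats 200000
universe u
open CategoryTheory CategoryTheory.Limits AlgebraicGeometry TopologicalSpace
open Surf

namespace Groth.Agent.S16564

open Groth.Agent Groth.Agent.BlowExcLib CategoryTheory
set_option backward.isDefEq.respectTransparency false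
set_option synthInstance.maxHeartbeats 200000
set_option maxHeartbeats 800000

/-- Let k be an algebraically closed field, p_1, …, p_r distinct closed points of the projective plane
P²_k and σ : X → P²_k the blow-up of P²_k in the ideal of the reduced finite set {p_1, …, p_r}
(universal property), X being regarded over k through σ; X is then an integral smooth proper surface
(carried as hypotheses). Write H = σ^*O(1), (L·M) = χ(O_X) − χ(L) − χ(M) + χ(L ⊗ M) for the
intersection number of invertible modules L, M, and for a closed subscheme C ⊆ X with ideal I_C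
write (L·C) = χ(O_C ⊗ L) − χ(O_C) and C² = (I_C·I_C). A (−1)-curve is an integral closed
one-dimensional subscheme E ⊆ X with H¹(E, O_E) = 0 and E² = −1. Call an invertible module M
non-special when at most one of H⁰(X, M), H¹(X, M), H²(X, M) is nonzero. Suppose every invertible M
with (M·E) ≥ −1 for every (−1)-curve E is non-special (the non-speciality hypothesis for X). Then no
integral closed one-dimensional subscheme C ⊆ X has C² ≤ −2. (The source concludes that the curves
of negative self-intersection are exactly the (−1)-curves; its argument treats C² ≤ −2, which is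
what is stated here.) (The source takes the points in general position; that assumption plays no
role here.) -/
theorem result (k : Type u) [Field k] [IsAlgClosed k]
    (r : ℕ) (P : Fin r → ↥(CohB1.ProjSpace 2 k)) (hP : Function.Injective P)
    (hPc : ∀ i, IsClosed ({P i} : Set ↥(CohB1.ProjSpace 2 k))) (hZ : IsClosed (Set.range P))
    (X : Scheme.{u}) [X.Over (Spec (CommRingCat.of k))] (σ : X ⟶ CohB1.ProjSpace 2 k)
    (hσk : σ ≫ CohB1.ProjSpace.toSpec 2 k = X ↘ (Spec (CommRingCat.of k)))
    (hσ : BlowUp.IsBlowUp σ (Scheme.IdealSheafData.vanishingIdeal ⟨Set.range P, hZ⟩))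
    [IsIntegral X] [IsProper (X ↘ (Spec (CommRingCat.of k)))] [Smooth (X ↘ (Spec (CommRingCat.of k)))] (hdim : topologicalKrullDim X = 2)
    (hconj : ∀ (M : X.Modules), PicF.IsInvertible M →
      (∀ (E : X.IdealSheafData), IsIntegral E.subscheme → topologicalKrullDim (E.support : Set X) = 1 →
        Subsingleton (Coh.HH E.subscheme (Coh.structureModule E.subscheme) 1) →
        FGA.intNum k X 2 ![ClSub.idealMod E, ClSub.idealMod E] (Coh.structureModule X) = -1 →
        -1 ≤ (Curv2.euler k X (CohB1.tensorMod (ClSub.quotMod E) M) - Curv2.euler k X (ClSub.quotMod E))) →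
      ((Subsingleton (Coh.HH X M 0) ∧ Subsingleton (Coh.HH X M 1)) ∨ (Subsingleton (Coh.HH X M 0) ∧ Subsingleton (Coh.HH X M 2)) ∨
        (Subsingleton (Coh.HH X M 1) ∧ Subsingleton (Coh.HH X M 2))))
    (C : X.IdealSheafData) (hCi : IsIntegral C.subscheme) (hC1 : topologicalKrullDim (C.support : Set X) = 1) :
    -1 ≤ FGA.intNum k X 2 ![ClSub.idealMod C, ClSub.idealMod C] (Coh.structureModule X) := by
  by_contra hC2
  haveI := EulerIneqLib.isNoetherian_proper (X := X) k
  have hI := TwistShriek.invertible_curve k hdim C hCi hC1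
  rw [TwistShriek.intNum_eq_form k hdim.le hI hI] at hC2
  obtain ⟨N, hN, ⟨e⟩⟩ := AmpleEmb.exists_isInverseOf hI
  let e' : CohB1.tensorMod (ClSub.idealMod C) N ≅ Coh.structureModule X := e
  have hinv : ∀ z ∈ Nakai.Aug X, Nakai.form k (Nakai.cl hN) z = - Nakai.form k (Nakai.cl hI) z := fun z hz => by
    have h := Nakai.form_congr k hdim (u := Nakai.cl hI) (w := IntLib.dif hN) (Nakai.cl_mul_inverse_mem hI hN e') hz
    rw [h, show IntLib.dif hN = - Nakai.cl hN by rw [Nakai.cl_eq_neg_dif, neg_neg], Nakai.form, Nakai.form, neg_mul, map_neg, neg_neg]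
  obtain ⟨hH, hn⟩ := TwistShriek.nefP_plane k σ hσk
  haveI h2 : Subsingleton (Coh.HH X N 2) := by
    refine subsingleton_H2_plane P hPc hZ σ hσ hdim hσk hN ?_
    rw [TwistShriek.intNum_eq_form k hdim.le hN hH, hinv _ (Nakai.cl_mem hH), ← TwistShriek.pairing_quotMod_cl k hI]
    have := hn.nonneg k (IntLib.isCoh_quotMod C) (lt_of_le_of_lt
      ((Topology.IsEmbedding.inclusion (IntLib.support_quotMod_subset C)).isInducing.topologicalKrullDim_le.trans
        hC1.le) (by exact_mod_cast Nat.lt_succ_self 1))
    omega
  have h0 : 0 < Module.finrank k (Coh.HH X N 0) := by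
    haveI := Groth.Agent.SerreAff.epi_unitToPush C.subschemeι
    haveI : Mono (ClSub.idealModι C) := inferInstanceAs (Mono (kernel.ι _))
    let S : ShortComplex X.Modules := ShortComplex.mk (ClSub.idealModι C) (ClSub.toSubscheme C) (kernel.condition _)
    have hS : S.ShortExact := ShortComplex.ShortExact.mk'
      (ShortComplex.exact_of_f_is_kernel _ (kernelIsKernel _)) (inferInstanceAs (Mono (ClSub.idealModι C)))
      (inferInstanceAs (Epi (ClSub.toSubscheme C)))
    have hT := CurveLib.shortExact_tensR hS (CurveLib.freeAt_one_of_isInvertible hN)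
    haveI : Module.Finite k (Coh.HH X (S.map (CurveLib.tensR N)).X₂ 0) :=
      EulerIneqLib.finite_HH (k := k) (ShStabLib.isCoh_of_iso (AmpleLib.unitL N).symm (CurveLib.isCoh_of_isInvertible hN)) 0
    have hle := LinearMap.finrank_le_finrank_of_injective (CurveLib.hMap_f_zero_injective (k := k) hT)
    rw [show Module.finrank k (Coh.HH X (S.map (CurveLib.tensR N)).X₁ 0) = 1 from
        (ShBCLib.finrank_HH_iso (K := k) e' 0).trans CurveLib.finrank_H0_structure,
      show Module.finrank k (Coh.HH X (S.map (CurveLib.tensR N)).X₂ 0) = _ from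
        ShBCLib.finrank_HH_iso (K := k) (AmpleLib.unitL N) 0] at hle
    omega
  obtain ⟨W, hW⟩ := TwistShriek.exists_canonical_proper k (X := X)
  obtain ⟨hWi, hd, -⟩ := TwistShriek.canonical_data_proper k hdim hW
  have hRR := TwistShriek.two_mul_euler_of_duality k hdim.le hWi hd hN
  rw [TwistShriek.intNum_eq_form k hdim.le hN hN, TwistShriek.intNum_eq_form k hdim.le hN hWi,
    euler_structure_plane P hPc hZ σ hσ hdim, hinv _ (Nakai.cl_mem hWi), hinv _ (Nakai.cl_mem hN),
    Nakai.form_comm k (Nakai.cl hI) (Nakai.cl hN), hinv _ (Nakai.cl_mem hI)] at hRR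
  have hadj := TwistShriek.form_adjunction k hdim hW hWi hI
  obtain ⟨hC0, -⟩ := TwistShriek.euler_curve_eq k hCi hC1
  have hchi := CurveLib.euler_eq_sum (K := k) N 3 fun q hq => CurveLib.subsingleton_HH_of_dim (d := 2) N hdim.le (by omega)
  simp only [Finset.sum_range_succ, Finset.sum_range_zero, Module.finrank_zero_of_subsingleton (R := k) (M := Coh.HH X N 2)] at hchi
  norm_num at hchi
  have h1 : 0 < Module.finrank k (Coh.HH X N 1) := by omega
  have hn0 : ¬ Subsingleton (Coh.HH X N 0) := fun h => by
    haveI := h; rw [Module.finrank_zero_of_subsingleton] at h0; omega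
  have hn1 : ¬ Subsingleton (Coh.HH X N 1) := fun h => by
    haveI := h; rw [Module.finrank_zero_of_subsingleton] at h1; omega
  rcases hconj N hN (fun E hEi hE1 _ hEE => by
    have hEI := TwistShriek.invertible_curve k hdim E hEi hE1
    rw [TwistShriek.intNum_eq_form k hdim.le hEI hEI] at hEE
    have hne : C ≠ E := by
      rintro rfl
      omega
    rw [← Nakai.pairing_cl k (ClSub.quotMod E) hN, TwistShriek.pairing_quotMod_cl k hEI,
      Nakai.form_comm, hinv _ (Nakai.cl_mem hEI), neg_neg]
    have := TwistShriek.form_curves_nonneg k hdim hCi hC1 hI hEi hE1 hEI hne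
    omega) with ⟨h, -⟩ | ⟨h, -⟩ | ⟨h, -⟩
  · exact hn0 h
  · exact hn0 h
  · exact hn1 h

end Groth.Agent.S16564
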