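import Groth.Statements.S16565
import Groth.Agent.S7338
import Groth.Agent.CMRegLib.Drop
import Groth.Agent.CMRegLib.General
import Groth.Agent.DeltaBCLib.DegBirat
import Groth.Agent.SurfPtBlow.Meet
import Groth.Agent.CastLib.Twist
import Groth.Agent.SingRRLib.Core
import Groth.Agent.CurveFF.PointIdeal
import Groth.Agent.PointTwistLib.Basic
import Groth.Agent.RuledPushLib.Fibre
import Groth.Agent.JacLib.IdealPull
import Groth.Agent.HodgePnLib.EulerEnd
import Groth.Agent.GeomIrred.CurvPoint
import Groth.Agent.DCohLib.ExtTensor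
import Groth.Agent.RpushLib.Finite
import Groth.Agent.S8862
import Groth.Agent.AmpleFamLib.TopVan

set_option autoImplicit false
universe u
open CategoryTheory CategoryTheory.Limits AlgebraicGeometry TopologicalSpace
open Surf

namespace Groth.Agent.S16565

set_option backward.isDefEq.respectTransparency false
set_option linter.style.haveILetI false
set_option maxHeartbeats 1000000
open Groth.Agent Groth.Agent.DCohLib Groth.Agent.CurveLib Groth.Agent.SurfPtBlow

attribute [local instance] Curv2.resAlgebra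

variable {k : Type u} [Field k]

theorem degP_twist (d : ℤ) : degP k (Twist.twistProjSpace 1 k d) = d := by
  haveI := isProper_P1 (k := k)
  rcases le_or_gt 0 d with h | h
  · obtain ⟨n, rfl⟩ := Int.eq_ofNat_of_zero_le h
    exact CastLib.degP_twist_nat n
  · obtain ⟨n, hn⟩ : ∃ n : ℕ, d + (n : ℤ) = 0 := ⟨(-d).toNat, by omega⟩
    have h1 := degP_tensor (k := k) (PicProjLib.isInvertible_twist d) (PicProjLib.isInvertible_twist (n : ℤ))
    have h2 : degP k (CohB1.tensorMod (Twist.twistProjSpace 1 k d) (Twist.twistProjSpace 1 k (n : ℤ))) = 0 :=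
      (CurveLib.deg_iso (k := k) (HodgePnLib.invO d (n : ℤ) hn) 1).trans degP_one
    rw [h2, CastLib.degP_twist_nat] at h1
    omega

/-- The ideal of a closed point of the projective line over an algebraically closed field. -/
theorem nonempty_point_ideal [IsAlgClosed k] {q : CohB1.ProjSpace 1 k} (hq : IsClosed ({q} : Set (CohB1.ProjSpace 1 k))) :
    Nonempty (ClSub.idealMod (Scheme.IdealSheafData.vanishingIdeal (⟨{q}, hq⟩ : Closeds (CohB1.ProjSpace 1 k))) ≅
      Twist.twistProjSpace 1 k (-1)) := by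
  let P1 := CohB1.ProjSpace 1 k
  let P := Scheme.IdealSheafData.vanishingIdeal (⟨{q}, hq⟩ : Closeds P1)
  haveI := isProper_P1 (k := k)
  haveI := isIntegral_P1 (k := k)
  haveI : Smooth (P1 ↘ Spec (CommRingCat.of k)) := ProjSmoothLib.smooth_toSpec 1 k
  haveI := VBLib.isRegCurve_of_smooth k (X := P1) dim_P1.le
  haveI := EulerIneqLib.isNoetherian_proper (X := P1) k
  have hM : PicF.IsInvertible (ClSub.idealMod P) := (CurveFF.isDiv_pointIdeal k dim_P1 hq).1
  have hres : Module.finrank k (P1.residueField q) = 1 := by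
    have hb := RuledPushLib.bijective_resMap k q hq
    have he : CommRingCat.ofHom (Curv2.resMap k P1 q) = RuledPushLib.resMap k q :=
      Spec.map_injective ((GeomIrred.spec_resMap k P1 q).trans (Spec.map_preimage _).symm)
    rw [← he] at hb
    exact ((LinearEquiv.ofBijective (Algebra.linearMap k (P1.residueField q)) hb).finrank_eq).symm.trans
      (Module.finrank_self k)
  have hs : topologicalKrullDim (P.support : Set P1) ≤ 0 := by
    rw [Scheme.IdealSheafData.coe_support_vanishingIdeal]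
    exact topologicalKrullDim_zero_of_discreteTopology ({q} : Set P1)
  have hO : PicF.IsInvertible (Coh.structureModule P1) := ParaFLib.isInvertible_structureModule
  have hχ := SingRRLib.euler_ideal_tensor k P hs hO
  rw [PointTwistLib.finrank_H0_point k hq, hres] at hχ
  have hdt : degP k (CohB1.tensorMod (ClSub.idealMod P) (Coh.structureModule P1)) = -1 := by
    show Curv2.euler k P1 (tmod (ClSub.idealMod P) (Coh.structureModule P1)) - (1 : ℕ) * _ = -1
    rw [hχ]
    push_cast
    ring
  rw [degP_tensor hM hO, degP_one, add_zero] at hdt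
  obtain ⟨d, ⟨e⟩⟩ := PicProjLib.exists_iso_twist (n := 1) (R := k) hM
  have hd : degP k (ClSub.idealMod P) = d := (CurveLib.deg_iso (k := k) e 1).trans (degP_twist d)
  obtain rfl : d = -1 := hd.symm.trans hdt
  exact ⟨e⟩

/-- A coherent module on the line whose `h¹` does not drop from `-1` to `0` has no `H¹`. -/
theorem h1_eq_zero [Infinite k] {E : (CohB1.ProjSpace 1 k).Modules} (hE : Coh.IsCoh E)
    (h : CMRegLib.h1 E (-1) ≤ CMRegLib.h1 E 0) : CMRegLib.h1 E 0 = 0 := by
  let P1 := CohB1.ProjSpace 1 k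
  haveI := isProper_P1 (k := k)
  haveI := isIntegral_P1 (k := k)
  haveI := EulerIneqLib.isNoetherian_proper (X := P1) k
  obtain ⟨c, -, hmE, hmO⟩ := CMRegLib.exists_general hE (DevLib.isCoh_structureModule P1)
    (S := (⊥ : Submodule k (Fin 2 → k))) bot_ne_top
  haveI := hmE
  haveI := hmO
  let ι := CMRegLib.linMap c E
  have hA := CMRegLib.isCoh_twistBy hE (-1)
  have hG := (QCohLib.isCoh_kernel_cokernel ι hA hE).2
  let η := genericPoint P1
  obtain ⟨i, hi⟩ := CMRegLib.exists_mem (k := k) (n := 1) η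
  let r := P1.presheaf.germ _ η hi (CMRegLib.linRatio c i)
  have hr : r ≠ 0 := fun h0 => by
    obtain ⟨e, he, hlin⟩ := CMRegLib.exists_stalk_linMap c (Coh.structureModule P1) hi
    obtain ⟨z, hz⟩ := he.2 (ParaFLib.oneG η)
    have hinj := (PullbackMod.mono_iff_stalk (CMRegLib.linMap c (Coh.structureModule P1))).1 inferInstance η
    have hz0 : z = 0 := hinj (by rw [hlin, map_zero]; show r • _ = 0; rw [h0, zero_smul])
    have h1 : ParaFLib.oneG η = 0 := by rw [← hz, hz0, map_zero]
    exact one_ne_zero ((ParaFLib.bijective_oneG η).1 (show (1 : P1.presheaf.stalk η) • ParaFLib.oneG η = (0 : P1.presheaf.stalk η) • ParaFLib.oneG η by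
      rw [one_smul, zero_smul, h1]))
  have hru : IsUnit r := isUnit_iff_ne_zero.2 (show (r : P1.functionField) ≠ 0 from hr)
  have hsupp : η ∉ CohB1.support (cokernel ι) := fun hη => hη (by
    obtain ⟨e, he, hlin⟩ := CMRegLib.exists_stalk_linMap c E hi
    refine subsingleton_of_forall_eq 0 fun w' => ?_
    obtain ⟨w, rfl⟩ := (PullbackMod.epi_iff_stalk (cokernel.π ι)).1 inferInstance η w'
    obtain ⟨z, hz⟩ := he.2 ((↑hru.unit⁻¹ : P1.presheaf.stalk η) • w)
    refine (DevLib.coker_exact ι η w).2 ⟨z, (hlin z).trans ?_⟩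
    show r • e z = w
    rw [hz, smul_smul, show r * ↑hru.unit⁻¹ = 1 from hru.mul_val_inv, one_smul])
  have hdim0 : topologicalKrullDim (CohB1.support (cokernel ι)) ≤ 0 := by
    have hlt := VanGrow.dim_support_lt (n := 1) (by exact_mod_cast (dim_P1 (k := k))) (DevLib.isClosed_support hG) hsupp
    exact IntLib.dim_le_of_lt (q := 0) (by exact_mod_cast hlt)
  have hm : Curv2.IsMRegular k 1 (cokernel ι) 0 := by
    intro j hj1 _
    let G := cokernel ι
    let T := Twist.twistProjSpace 1 k ((0 : ℤ) - (j : ℤ))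
    have hsub : CohB1.support (DCohLib.tmod G T) ⊆ CohB1.support G := fun x hx hs =>
      hx (DCohLib.subsingleton_stalk_tmod (A := G) T x hs)
    have hC : IsClosed (CohB1.support G) := DevLib.isClosed_support hG
    have hjpos : 0 < j := hj1
    exact CurveLib.subsingleton_HH_of_support (DCohLib.tmod G T) hC hsub hdim0 hjpos
  have hS := CMRegLib.shortExact_coker ι
  have hf := fun (j : ℤ) (hj : (0 : ℤ) - 1 ≤ j) =>
    CMRegLib.h1_facts hE hG hA (Iso.refl _) hS hm hj
  have heq : CMRegLib.h1 E 0 = CMRegLib.h1 E (0 - 1) := le_antisymm (hf 0 (by omega)).1 (by simpa using h)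
  have hs0 := (hf 0 (by omega)).2.1 heq
  have hconst : ∀ l : ℕ, CMRegLib.SurjAt (cokernel.π ι) (l : ℤ) ∧ CMRegLib.h1 E (l : ℤ) = CMRegLib.h1 E 0 := by
    intro l
    induction l with
    | zero => exact ⟨hs0, rfl⟩
    | succ l ih =>
      have e1 : ((l + 1 : ℕ) : ℤ) - 1 = (l : ℤ) := by push_cast; ring
      have hs' : CMRegLib.SurjAt (cokernel.π ι) ((l + 1 : ℕ) : ℤ) :=
        CMRegLib.surjAt_succ hG hm _ (by omega) (by rw [e1]; exact ih.1)
      refine ⟨hs', ?_⟩
      rw [(hf _ (by omega)).2.2 hs', e1]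
      exact ih.2
  obtain ⟨d₁, hd₁⟩ := CMRegLib.eventually_vanish hE (p := 1) one_pos
  haveI := hd₁ (d₁.toNat : ℤ) (Int.self_le_toNat d₁)
  exact ((hconst d₁.toNat).2).symm.trans Module.finrank_zero_of_subsingleton

/-- `H¹(I ⊗ L)` is at most `H¹(L)` when global sections restrict onto the quotient. -/
theorem h1_ideal_le {X : Scheme.{u}} [IsIntegral X] [X.Over (Spec (CommRingCat.of k))] [IsProper (X ↘ Spec (CommRingCat.of k))]
    {L : X.Modules} (hL : PicF.IsInvertible L) (J : X.IdealSheafData)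
    (hres : Module.finrank k (Coh.HH X L 0) = Module.finrank k (Coh.HH X (CohB1.tensorMod L (ClSub.idealMod J)) 0) +
      Module.finrank k (Coh.HH X (CohB1.tensorMod (ClSub.quotMod J) L) 0)) :
    Module.finrank k (Coh.HH X (CohB1.tensorMod L (ClSub.idealMod J)) 1) ≤ Module.finrank k (Coh.HH X L 1) := by
  haveI := EulerIneqLib.isNoetherian_proper (X := X) k
  haveI := SingRRLib.mono_idealModι J
  have hI := RefOne.isCoh_idealMod J
  have hO := DevLib.isCoh_structureModule X
  have hLc := CurveLib.isCoh_of_isInvertible hL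
  have hQ := (QCohLib.isCoh_kernel_cokernel (ClSub.idealModι J) hI hO).2
  let S0 : ShortComplex X.Modules :=
    ShortComplex.mk (ClSub.idealModι J) (cokernel.π (ClSub.idealModι J)) (cokernel.condition _)
  let S : ShortComplex X.Modules := S0.map (CurveLib.tensR L)
  have hS : S.ShortExact := CurveLib.shortExact_tensR (CMRegLib.shortExact_coker (ClSub.idealModι J))
    fun x => CurveLib.freeAt_one_of_isInvertible hL x
  haveI : Module.Finite k (Coh.HH X S.X₁ 0) := EulerIneqLib.finite_HH (k := k) (isCoh_tmod hI hLc) 0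
  haveI : Module.Finite k (Coh.HH X S.X₁ 1) := EulerIneqLib.finite_HH (k := k) (isCoh_tmod hI hLc) 1
  haveI : Module.Finite k (Coh.HH X S.X₂ 0) := EulerIneqLib.finite_HH (k := k) (isCoh_tmod hO hLc) 0
  haveI : Module.Finite k (Coh.HH X S.X₂ 1) := EulerIneqLib.finite_HH (k := k) (isCoh_tmod hO hLc) 1
  haveI : Module.Finite k (Coh.HH X S.X₃ 0) := EulerIneqLib.finite_HH (k := k) (isCoh_tmod hQ hLc) 0
  let a : S.X₁ ≅ CohB1.tensorMod L (ClSub.idealMod J) :=
    ((DCohLib.symmIso X.sheaf).app (ClSub.idealMod J)).app L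
  let b : S.X₂ ≅ L := CurveLib.tmodUnit L
  let c : S.X₃ ≅ CohB1.tensorMod (ClSub.quotMod J) L :=
    ((DCoh.tensorBi (X := X)).mapIso (SingRRLib.cokerIdealIso J)).app L
  rw [← ShBCLib.finrank_HH_iso (K := k) a 0, ← ShBCLib.finrank_HH_iso (K := k) b 0,
    ← ShBCLib.finrank_HH_iso (K := k) c 0] at hres
  rw [← ShBCLib.finrank_HH_iso (K := k) a 1, ← ShBCLib.finrank_HH_iso (K := k) b 1]
  let f0 := CurveLib.hMap (k := k) S.f 0
  let g0 := CurveLib.hMap (k := k) S.g 0
  have h1 : LinearMap.range f0 = LinearMap.ker g0 := CurveLib.range_hMap_f hS 0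
  have h2 := g0.finrank_range_add_finrank_ker
  have h3 : Module.finrank k (LinearMap.range f0) ≤ Module.finrank k (Coh.HH X S.X₁ 0) := LinearMap.finrank_range_le f0
  rw [h1] at h3
  have h4 : Module.finrank k (LinearMap.range g0) = Module.finrank k (Coh.HH X S.X₃ 0) :=
    le_antisymm (Submodule.finrank_le _) (by omega)
  have h5 : LinearMap.range g0 = ⊤ := Submodule.eq_top_of_finrank_eq h4
  have hinj : Function.Injective (CurveLib.hMap (k := k) S.f (0 + 1)) := by
    rw [← LinearMap.ker_eq_bot, ← CurveLib.range_hδ hS 0, LinearMap.range_eq_bot, ← LinearMap.ker_eq_top,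
      ← CurveLib.range_hMap_g hS 0]
    exact h5
  exact LinearMap.finrank_le_finrank_of_injective hinj


/-- Let X be a smooth proper integral surface over an algebraically closed field k, π : X → P¹_k a
surjective k-morphism, L an invertible O_X-module with R¹π_*L = 0, q a closed point of P¹_k and F =
π⁻¹(q) its fibre, with ideal I_F. Assume the restriction map H⁰(X, L) → H⁰(F, L|_F) is surjective,
stated as dim_k H⁰(X, L) = dim_k H⁰(X, L ⊗ I_F) + dim_k H⁰(X, L ⊗ O_F) (the sequence 0 → L ⊗ I_F → L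
→ L ⊗ O_F → 0 being exact). Then H¹(X, L) = 0 = H¹(X, L ⊗ I_F), and H¹(P¹_k, π_*L ⊗ O(−1)) = 0, i.e.
the line bundle summands of π_*L all have degree ≥ 0. (The source states this for the blow-up of
P²_k at points in general position fibred over P¹_k by projection from one of the points; its
argument uses only a smooth projective surface mapping onto P¹_k.) -/
theorem result (k : Type u) [Field k] [IsAlgClosed k]
    (X : Scheme.{u}) [X.Over (Spec (CommRingCat.of k))] [IsIntegral X] [IsProper (X ↘ (Spec (CommRingCat.of k)))] [Smooth (X ↘ (Spec (CommRingCat.of k)))]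
    (hdim : topologicalKrullDim X = 2) [HasInjectiveResolutions X.Modules]
    (π : X ⟶ CohB1.ProjSpace 1 k) (hπk : π ≫ CohB1.ProjSpace.toSpec 1 k = X ↘ (Spec (CommRingCat.of k))) (hπs : Function.Surjective π)
    (L : X.Modules) (hL : PicF.IsInvertible L) (hR1 : IsZero ((Coh.Rpush π 1).obj L))
    (q : ↥(CohB1.ProjSpace 1 k)) (hq : IsClosed ({q} : Set ↥(CohB1.ProjSpace 1 k)))
    (hres : Module.finrank k (Coh.HH X L 0) =
      Module.finrank k (Coh.HH X (CohB1.tensorMod L (ClSub.idealMod ((Scheme.IdealSheafData.vanishingIdeal ⟨{q}, hq⟩).comap π))) 0) +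
        Module.finrank k (Coh.HH X (CohB1.tensorMod (ClSub.quotMod ((Scheme.IdealSheafData.vanishingIdeal ⟨{q}, hq⟩).comap π)) L) 0)) :
    Subsingleton (Coh.HH X L 1) ∧ Subsingleton (Coh.HH X (CohB1.tensorMod L (ClSub.idealMod ((Scheme.IdealSheafData.vanishingIdeal ⟨{q}, hq⟩).comap π))) 1) ∧
      Subsingleton (Coh.HH (CohB1.ProjSpace 1 k) (CohB1.tensorMod ((Coh.push π).obj L) (Twist.twistProjSpace 1 k (-1))) 1) := by
  let P1 := CohB1.ProjSpace 1 k
  let P := Scheme.IdealSheafData.vanishingIdeal (⟨{q}, hq⟩ : Closeds P1)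
  let J := P.comap π
  let N := CohB1.tensorMod L (ClSub.idealMod J)
  haveI := isProper_P1 (k := k)
  haveI := isIntegral_P1 (k := k)
  haveI := EulerIneqLib.isNoetherian_proper (X := P1) k
  haveI := EulerIneqLib.isNoetherian_proper (X := X) k
  haveI : Smooth (P1 ↘ Spec (CommRingCat.of k)) := ProjSmoothLib.smooth_toSpec 1 k
  haveI := VBLib.isRegCurve_of_smooth k (X := P1) dim_P1.le
  haveI : IsProper (π ≫ CohB1.ProjSpace.toSpec 1 k) := hπk.symm ▸ ‹IsProper (X ↘ Spec (CommRingCat.of k))›
  haveI : IsProper π := IsProper.of_comp π (CohB1.ProjSpace.toSpec 1 k)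
  haveI : Coh.IsQCoh L := (CurveLib.isCoh_of_isInvertible hL).1
  -- the ideal of the fibre
  have hgen : π (genericPoint X) = genericPoint P1 := ((genericPoint_spec X).image π.continuous).eq (by
    rw [Set.image_univ, hπs.range_eq, closure_univ]
    exact genericPoint_spec P1)
  have hne : genericPoint P1 ≠ q := by
    intro h
    have h1 := genericPoint_closure (α := P1)
    rw [h, hq.closure_eq] at h1
    have h0 := topologicalKrullDim_zero_of_discreteTopology ({q} : Set P1)
    rw [h1, (Homeomorph.Set.univ P1).isHomeomorph.topologicalKrullDim_eq, dim_P1] at h0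
    exact absurd h0 (by norm_num)
  have hP : PicF.IsInvertible (ClSub.idealMod P) := (CurveFF.isDiv_pointIdeal k dim_P1 hq).1
  have hEc : BlowUp.IsEffCartierIdeal J := S8862.result π P ((S8914.result P).1 hP) fun w hw => by
    rw [← hw (genericPoint X) (genericPoint_specializes w), hgen, ← SetLike.mem_coe,
      Scheme.IdealSheafData.coe_support_vanishingIdeal]
    exact fun h => hne h
  obtain ⟨eP⟩ := JacLib.nonempty_iso_pullback_idealMod π P ((S8914.result P).1 hP) hEc
  obtain ⟨eq⟩ := nonempty_point_ideal hq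
  let E := (Scheme.Modules.pushforward π).obj L
  obtain ⟨epr⟩ := DeltaBC.nonempty_proj_iso π
    (CurveLib.isFinLocFree_of_isInvertible (PicProjLib.isInvertible_twist (n := 1) (R := k) (-1))) L
  let eN : CohB1.tensorMod E (Twist.twistProjSpace 1 k (-1)) ≅ (Scheme.Modules.pushforward π).obj N :=
    epr ≪≫ (Scheme.Modules.pushforward π).mapIso
      (AmpleLib.tIso (Iso.refl L) ((Scheme.Modules.pullback π).mapIso eq.symm ≪≫ eP))
  have hE : Coh.IsCoh E := RpushLib.isCoh_push π (CurveLib.isCoh_of_isInvertible hL)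
  -- five-term sequences
  have hv2 : ∀ M : P1.Modules, Subsingleton (CohBase.HU (⊤ : P1.Opens) (Coh.toAb M) 2) := fun M =>
    SerreAff.subsingleton_HU_top (CurveLib.subsingleton_HH_of_dim M (d := 1) (by exact_mod_cast (dim_P1 (k := k)).le) (by omega))
  have hJinv : PicF.IsInvertible (ClSub.idealMod J) := (S8914.result J).2 hEc
  have hNc : Coh.IsCoh N := isCoh_tmod (CurveLib.isCoh_of_isInvertible hL) (CurveLib.isCoh_of_isInvertible hJinv)
  haveI : Coh.IsQCoh N := hNc.1
  haveI := EulerIneqLib.finite_HH (k := k) hNc 1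
  haveI := EulerIneqLib.finite_HH (k := k) (CurveLib.isCoh_of_isInvertible hL) 1
  haveI := EulerIneqLib.finite_HH (k := k) hE 1
  haveI : Module.Finite k (Coh.HH P1 ((Scheme.Modules.pushforward π).obj N) 1) :=
    EulerIneqLib.finite_HH (k := k) (RpushLib.isCoh_push π hNc) 1
  have hlN := S7338.length_H1 (A := k) π hπk N (hv2 _)
  have hlL := S7338.length_H1 (A := k) π hπk L (hv2 _)
  haveI : Subsingleton (Coh.HH P1 ((Coh.Rpush π 1).obj L) 0) := AmpleFamLib.subsingleton_HH_of_isZero hR1 0
  rw [Module.length_eq_zero (R := k) (M := Coh.HH P1 ((Coh.Rpush π 1).obj L) 0), add_zero,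
    Module.length_eq_finrank, Module.length_eq_finrank, ENat.coe_inj] at hlL
  have hleN : Module.finrank k (Coh.HH P1 ((Scheme.Modules.pushforward π).obj N) 1) ≤
      Module.finrank k (Coh.HH X N 1) := by
    have := le_self_add.trans hlN.ge
    rw [Module.length_eq_finrank, Module.length_eq_finrank] at this
    exact ENat.coe_le_coe.1 this
  have hle := h1_ideal_le hL J hres
  have e0 : CMRegLib.h1 E 0 = Module.finrank k (Coh.HH P1 E 1) :=
    ShBCLib.finrank_HH_iso (K := k) (CMRegLib.zeroTwistIso E) 1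
  have e1 : CMRegLib.h1 E (-1) = Module.finrank k (Coh.HH P1 ((Scheme.Modules.pushforward π).obj N) 1) :=
    ShBCLib.finrank_HH_iso (K := k) eN 1
  have hz : CMRegLib.h1 E 0 = 0 := h1_eq_zero hE (by rw [e0, e1, ← hlL]; exact hleN.trans hle)
  have hL0 : Module.finrank k (Coh.HH X L 1) = 0 := by rw [hlL, ← e0, hz]
  have hN0 : Module.finrank k (Coh.HH X N 1) = 0 := Nat.le_zero.1 (hL0 ▸ hle)
  refine ⟨Module.finrank_zero_iff.1 hL0, Module.finrank_zero_iff.1 hN0, ?_⟩
  haveI := EulerIneqLib.finite_HH (k := k) (CMRegLib.isCoh_twistBy hE (-1)) 1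
  exact Module.finrank_zero_iff.1 (show CMRegLib.h1 E (-1) = 0 by rw [e1]; omega)

end Groth.Agent.S16565
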