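import Groth.Statements.S1657
import Groth.Agent.SubAdjLib.OmegaBC
import Groth.Agent.SubAdjLib.SepDescend
import Groth.Agent.SubAdjLib.Stable
import Groth.Agent.NodePtLib.Family
import Groth.Agent.SubAdjLib.Semistable

set_option autoImplicit false
universe u
open CategoryTheory CategoryTheory.Limits AlgebraicGeometry
attribute [local instance] HasDerivedCategory.standard
open Curves

namespace Groth.Agent.S1657

open CategoryTheory CategoryTheory.Limits AlgebraicGeometry

set_option backward.isDefEq.respectTransparency false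
set_option backward.isDefEq.respectTransparency.types false
set_option linter.style.haveILetI false
set_option maxHeartbeats 1000000
open Groth.Agent.SubAdjLib Groth.Agent.CliffCurveLib
attribute [local instance] HasDerivedCategory.standard

/-- On every connected subcurve of a reduced connected curve with ample dualizing module, the cube has degree above `2g`. -/
theorem degS_cube {k : Type u} [Field k] [IsAlgClosed k] {X : Scheme.{u}} [X.Over (Spec (CommRingCat.of k))]
    [IsProper (X ↘ Spec (CommRingCat.of k))] [IsReduced X] (hdim : topologicalKrullDim X = 1)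
    {ω : X.Modules} (hamp : CohB1.IsAmple ω) {tr : Coh.HH X ω 1 →ₗ[k] k} (hdual : Canon.IsRDualOver k X 1 ω tr)
    (hle : Module.finrank k (Coh.HH X ω 1) ≤ Module.finrank k (Coh.HH X (Coh.structureModule X) 0))
    {S : TopologicalSpace.Closeds X} (hS : IsSub S) :
    2 * (gS k S : ℤ) + 1 ≤ degS k (CohB1.tensorPow ω 3) S := by
  rw [degS_tensorPow k hamp.1 hdim.le hS]
  have h1 := degS_pos_of_ample k hamp.1 hdim.le hamp hS
  have h2 := adjunction (k := k) hdim.le hamp.1 hdual hle (SubAdjLib.sup_compl S) (dim_compl_inter k hdim.le S)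
    (dense_of_isSub k hdim.le hS) (dense_compl S)
  have h3 := euler_quot k hdim.le hS
  unfold degS at h1 ⊢
  push_cast
  omega

/-- The facts about the cube after extending to an algebraically closed field. -/
theorem bc_facts (k : Type u) [Field k] {X : Scheme.{u}} [X.Over (Spec (CommRingCat.of k))]
    [IsProper (X ↘ Spec (CommRingCat.of k))] [ConnectedSpace X] (hdim : topologicalKrullDim X = 1)
    (h0 : Module.finrank k (Coh.HH X (Coh.structureModule X) 0) = 1) (hX : Curv2.AtWorstNodal k X)
    {ω : X.Modules} (hamp : CohB1.IsAmple ω) {tr : Coh.HH X ω 1 →ₗ[k] k} (htr : Canon.IsRDualOver k X 1 ω tr)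
    (hle : Module.finrank k (Coh.HH X ω 1) ≤ Module.finrank k (Coh.HH X (Coh.structureModule X) 0))
    (K : Type u) [Field K] [IsAlgClosed K] [Algebra k K] :
    Subsingleton (Coh.HH X (CohB1.tensorPow ω 3) 1) ∧
      Sep.Crit K (ShBCLib.bcPull k K (CohB1.tensorPow ω 3)) := by
  haveI := EulerIneqLib.isNoetherian_proper (X := X) k
  have hd1 : topologicalKrullDim X ≤ ((1 : ℕ) : WithBot ℕ∞) := by rw [hdim]; exact le_of_eq Nat.cast_one.symm
  haveI : Coh.IsQCoh ω := htr.1
  have hL : PicF.IsInvertible (CohB1.tensorPow ω 3) := AmpleLib.isInvertible_tensorPow hamp.1 3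
  haveI := InvExt.isQCoh_of_isInvertible hL
  have hdim' : topologicalKrullDim (Curv2.bc k X K) = 1 := (CurveFF.dim_bc k X K).trans hdim
  have h0' : Module.finrank K (Coh.HH (Curv2.bc k X K) (Coh.structureModule (Curv2.bc k X K)) 0) = 1 :=
    (CurveFF.finrank_H0_bc_structure k K).trans h0
  obtain ⟨hconn', hred'⟩ := SubAdjLib.nodal_setup K hdim' h0' (NodePtLib.atWorstNodal_bc
    (fun _ hZ => TwistShriek.dim_irreducibleComponent k hdim hZ) hX K)
  haveI := hred'
  obtain ⟨tr', htr'⟩ := exists_pair_bc k hd1 htr K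
  have hamp' : CohB1.IsAmple (ShBCLib.bcPull k K ω) := AmpleLib.isAmple_pullback _ hamp
  have hle' : Module.finrank K (Coh.HH (Curv2.bc k X K) (ShBCLib.bcPull k K ω) 1) ≤
      Module.finrank K (Coh.HH (Curv2.bc k X K) (Coh.structureModule (Curv2.bc k X K)) 0) :=
    (ShBCLib.finrank_HH_bc k K ω 1).trans_le (hle.trans_eq (h0.trans h0'.symm))
  have hdeg : ∀ S : TopologicalSpace.Closeds (Curv2.bc k X K), IsSub S →
      2 * (gS K S : ℤ) + 1 ≤ degS K (ShBCLib.bcPull k K (CohB1.tensorPow ω 3)) S := fun S hS => by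
    rw [degS_iso K (AmpleLib.pullPow (Curv2.bcFst k X K) ω 3) S]
    exact degS_cube hdim' hamp' htr' hle' hS
  have hL' : PicF.IsInvertible (ShBCLib.bcPull k K (CohB1.tensorPow ω 3)) :=
    AmpleLib.isInvertible_pullback _ hL
  refine ⟨?_, Sep.crit_of_degS K hdim' hL' hdeg⟩
  haveI := subsingleton_H1_of_degS K hdim' hL' fun S hS => by have := hdeg S hS; omega
  have e : Module.finrank k (Coh.HH X (CohB1.tensorPow ω 3) 1) = 0 := by
    rw [← ShBCLib.finrank_HH_bc k K (CohB1.tensorPow ω 3) 1]
    exact Module.finrank_zero_of_subsingleton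
  haveI := EulerIneqLib.finite_HH (k := k) (CurveLib.isCoh_of_isInvertible hL) 1
  exact Module.finrank_zero_iff.1 e

/-- Let X be proper of dimension one over k with global functions k and genus g ≥ 2, with at-worst-nodal
singularities, and let ω_X be its dualizing module (degree -1 cohomology sheaf of f^! O for f : X →
Spec k, assuming Rf_* on D_QCoh and its right adjoint exist). If ω_X is ample, then ω_X^{⊗3} is very
ample — some closed immersion i : X → P^n_k over k has i^* O(1) ≅ ω_X^{⊗3} — and H^1(X, ω_X^{⊗3}) =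
0. -/
theorem result (k : Type u) [Field k] (X : Scheme.{u}) [X.Over (Spec (CommRingCat.of k))] [IsProper (X ↘ (Spec (CommRingCat.of k)))] (hdim : topologicalKrullDim X = 1)
    (h0 : Module.finrank k (Coh.HH X (Coh.structureModule X) 0) = 1) (hg : 2 ≤ Curv2.genus k X) (hX : Curv2.AtWorstNodal k X)
    [DCoh.HasRpush (X ↘ (Spec (CommRingCat.of k)))] (h : DCoh.RpushPreservesQCoh (X ↘ (Spec (CommRingCat.of k)))) [DCoh.HasShriek (X ↘ (Spec (CommRingCat.of k))) h]
    (OY : DCoh.DQCoh (Spec (CommRingCat.of k))) (hOY : Nonempty (OY.obj ≅ DCoh.inD (Spec (CommRingCat.of k)) (Coh.structureModule (Spec (CommRingCat.of k)))))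
    (hample : CohB1.IsAmple (DCoh.dualizingMod (X ↘ (Spec (CommRingCat.of k))) h OY 1)) :
    (∃ (n : ℕ) (i : X ⟶ CohB1.ProjSpace n k), IsClosedImmersion i ∧ i ≫ CohB1.ProjSpace.toSpec n k = X ↘ (Spec (CommRingCat.of k)) ∧
      Nonempty ((Scheme.Modules.pullback i).obj (Twist.twistProjSpace n k 1) ≅ CohB1.tensorPow (DCoh.dualizingMod (X ↘ (Spec (CommRingCat.of k))) h OY 1) 3)) ∧
      Subsingleton (Coh.HH X (CohB1.tensorPow (DCoh.dualizingMod (X ↘ (Spec (CommRingCat.of k))) h OY 1) 3) 1) := by
  obtain ⟨hconn, -⟩ := SubAdjLib.nodal_setup k hdim h0 hX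
  have hd1 : topologicalKrullDim X ≤ ((1 : ℕ) : WithBot ℕ∞) := by rw [hdim]; exact le_of_eq Nat.cast_one.symm
  obtain ⟨tr, htr, -, hle⟩ := TwistShriek.exists_pair_dualizingMod k X h OY hOY hd1
  obtain ⟨h1, hv⟩ := bc_facts k hdim h0 hX hample htr hle (AlgebraicClosure k)
  exact ⟨Sep.exists_closedImmersion_of_bc k (AmpleLib.isInvertible_tensorPow hample.1 3) h1 hv, h1⟩

end Groth.Agent.S1657
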