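import Groth.Statements.S16572
import Mathlib

set_option autoImplicit false
universe u
open CAlg

namespace Groth.Agent.S16572

open Polynomial

theorem general (A T : Type u) [CommRing A] [CommRing T] [Algebra A T]
    (hint : Algebra.IsIntegral A T) (hroot : ∀ P : A[X], P.Monic → 0 < P.natDegree → ∃ t : T, aeval t P = 0)
    (Q : Ideal T) [Q.IsPrime] :
    IsAlgClosed Q.ResidueField ∧
      (Ideal.ResidueField.map (Q.comap (algebraMap A T)) Q (algebraMap A T) rfl).IsIntegral := by
  let p := Q.comap (algebraMap A T)
  let φ : p.ResidueField →+* Q.ResidueField := Ideal.ResidueField.map p Q (algebraMap A T) rfl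
  letI : Algebra p.ResidueField Q.ResidueField := φ.toAlgebra
  have hφ : ∀ a : A, φ (algebraMap A p.ResidueField a) = algebraMap T Q.ResidueField (algebraMap A T a) :=
    fun a => Ideal.ResidueField.map_algebraMap _ _ _ _ a
  haveI : IsScalarTower A p.ResidueField Q.ResidueField := IsScalarTower.of_algebraMap_eq fun a => by
    rw [IsScalarTower.algebraMap_apply A T Q.ResidueField a]
    exact (hφ a).symm
  have hT : ∀ t : T, IsIntegral p.ResidueField (algebraMap T Q.ResidueField t) := fun t =>
    ((hint.isIntegral t).map (IsScalarTower.toAlgHom A T Q.ResidueField)).tower_top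
  haveI hI : Algebra.IsIntegral p.ResidueField Q.ResidueField := ⟨fun z => by
    obtain ⟨a, b, -, rfl⟩ := IsFractionRing.div_surjective (T ⧸ Q) z
    obtain ⟨a, rfl⟩ := Ideal.Quotient.mk_surjective a
    obtain ⟨b, rfl⟩ := Ideal.Quotient.mk_surjective b
    rw [Ideal.algebraMap_quotient_residueField_mk, Ideal.algebraMap_quotient_residueField_mk, div_eq_mul_inv]
    exact (hT a).mul (hT b).isAlgebraic.inv.isIntegral⟩
  refine ⟨?_, Algebra.isIntegral_def.1 hI |> fun h => fun z => h z⟩
  suffices h : IsAlgClosure p.ResidueField Q.ResidueField from h.isAlgClosed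
  haveI : Algebra.IsAlgebraic p.ResidueField Q.ResidueField := Algebra.IsIntegral.isAlgebraic
  refine IsAlgClosure.of_exists_root fun q hq hirr => ?_
  let g := IsLocalization.integerNormalization (nonZeroDivisors (A ⧸ p)) q
  obtain ⟨b, hb, hgb⟩ := IsLocalization.integerNormalization_spec (nonZeroDivisors (A ⧸ p)) q
  have hb0 : algebraMap (A ⧸ p) p.ResidueField b ≠ 0 :=
    IsFractionRing.to_map_ne_zero_of_mem_nonZeroDivisors hb
  have hgmap : g.map (algebraMap (A ⧸ p) p.ResidueField) = Polynomial.C (algebraMap (A ⧸ p) p.ResidueField b) * q := by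
    rw [hgb, ← smul_eq_C_mul, algebraMap_smul]
  have hdeg : g.natDegree = q.natDegree := by
    rw [← natDegree_map_eq_of_injective (Ideal.injective_algebraMap_quotient_residueField p) g, hgmap,
      natDegree_C_mul hb0]
  have hq0 : 0 < q.natDegree := hirr.natDegree_pos
  have hg0 : g ≠ 0 := fun h => by rw [h, natDegree_zero] at hdeg; omega
  obtain ⟨P, hPmap, hPdeg, hPm⟩ := Polynomial.lifts_and_natDegree_eq_and_monic
    (Polynomial.map_surjective (Ideal.Quotient.mk p) Ideal.Quotient.mk_surjective g.integralNormalization)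
    (monic_integralNormalization hg0)
  rw [natDegree_integralNormalization, hdeg] at hPdeg
  obtain ⟨t, ht⟩ := hroot P hPm (by omega)
  let f : A ⧸ p →+* Q.ResidueField := φ.comp (algebraMap (A ⧸ p) p.ResidueField)
  have hf : f.comp (Ideal.Quotient.mk p) = (algebraMap T Q.ResidueField).comp (algebraMap A T) :=
    RingHom.ext fun a => by
      show φ (algebraMap (A ⧸ p) p.ResidueField (Ideal.Quotient.mk p a)) = _
      rw [Ideal.algebraMap_quotient_residueField_mk]
      exact hφ a
  have hlc : f g.leadingCoeff ≠ 0 := fun h => leadingCoeff_ne_zero.2 hg0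
    (Ideal.injective_algebraMap_quotient_residueField p (φ.injective (h.trans (by simp))))
  refine ⟨algebraMap T Q.ResidueField t / f g.leadingCoeff, ?_⟩
  have h1 : eval₂ f (algebraMap T Q.ResidueField t) g.integralNormalization = 0 := by
    rw [← hPmap, eval₂_map, hf, ← hom_eval₂, ← aeval_def, ht, map_zero]
  have h2 := integralNormalization_eval₂_leadingCoeff_mul (by omega : 1 ≤ g.natDegree) f
    (algebraMap T Q.ResidueField t / f g.leadingCoeff)
  rw [mul_div_cancel₀ _ hlc, h1, eq_comm, mul_eq_zero] at h2
  have h3 := h2.resolve_left (pow_ne_zero _ hlc)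
  rw [← eval₂_map, hgmap, eval₂_mul, eval₂_C, mul_eq_zero] at h3
  exact h3.resolve_left ((map_ne_zero φ).2 hb0)

/-- Let A be a commutative ring and T the quotient of the polynomial ring over A in indeterminates X_P,
one for each monic polynomial P over A of positive degree, by the ideal generated by the elements
P(X_P). Then the map on prime spectra Spec T → Spec A is surjective, and for every prime ideal Q of
T, with p its contraction to A, the residue field of Q is algebraically closed and integral over the
residue field of p under the induced map of residue fields (so it is an algebraic closure of it). -/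
theorem result (A : Type u) [CommRing A] :
    Function.Surjective (PrimeSpectrum.comap (algebraMap A (MvPolynomial {P : Polynomial A // P.Monic ∧ 0 < P.natDegree} A ⧸
      Ideal.span (Set.range fun P : {P : Polynomial A // P.Monic ∧ 0 < P.natDegree} =>
        Polynomial.aeval (MvPolynomial.X (R := A) P) P.1)))) ∧
    ∀ (Q : Ideal (MvPolynomial {P : Polynomial A // P.Monic ∧ 0 < P.natDegree} A ⧸
      Ideal.span (Set.range fun P : {P : Polynomial A // P.Monic ∧ 0 < P.natDegree} =>
        Polynomial.aeval (MvPolynomial.X (R := A) P) P.1))) [Q.IsPrime],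
      IsAlgClosed Q.ResidueField ∧
      (Ideal.ResidueField.map (Q.comap (algebraMap A (MvPolynomial {P : Polynomial A // P.Monic ∧ 0 < P.natDegree} A ⧸
      Ideal.span (Set.range fun P : {P : Polynomial A // P.Monic ∧ 0 < P.natDegree} =>
        Polynomial.aeval (MvPolynomial.X (R := A) P) P.1)))) Q (algebraMap A (MvPolynomial {P : Polynomial A // P.Monic ∧ 0 < P.natDegree} A ⧸
      Ideal.span (Set.range fun P : {P : Polynomial A // P.Monic ∧ 0 < P.natDegree} =>
        Polynomial.aeval (MvPolynomial.X (R := A) P) P.1))) rfl).IsIntegral := by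
  let T := MvPolynomial {P : Polynomial A // P.Monic ∧ 0 < P.natDegree} A ⧸
      Ideal.span (Set.range fun P : {P : Polynomial A // P.Monic ∧ 0 < P.natDegree} =>
        Polynomial.aeval (MvPolynomial.X (R := A) P) P.1)
  have hx : ∀ P : {P : Polynomial A // P.Monic ∧ 0 < P.natDegree},
      Polynomial.aeval (Ideal.Quotient.mk _ (MvPolynomial.X (R := A) P) : T) P.1 = 0 := fun P => by
    rw [show (Ideal.Quotient.mk _ (MvPolynomial.X (R := A) P) : T) =
      Ideal.Quotient.mkₐ A _ (MvPolynomial.X (R := A) P) from rfl, Polynomial.aeval_algHom_apply]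
    exact Ideal.Quotient.eq_zero_iff_mem.2 (Ideal.subset_span ⟨P, rfl⟩)
  have hint : Algebra.IsIntegral A T := ⟨fun z => by
    obtain ⟨z, rfl⟩ := Ideal.Quotient.mk_surjective z
    induction z using MvPolynomial.induction_on with
    | C a => exact isIntegral_algebraMap (R := A) (A := T) (x := a)
    | add a b ha hb => rw [map_add]; exact ha.add hb
    | mul_X a P ha => rw [map_mul]; exact ha.mul ⟨P.1, P.2.1, hx P⟩⟩
  refine ⟨fun p => ?_, fun Q _ => general A T hint (fun P hP hP' => ⟨_, hx ⟨P, hP, hP'⟩⟩) Q⟩
  let K := AlgebraicClosure p.asIdeal.ResidueField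
  have hr : ∀ P : {P : Polynomial A // P.Monic ∧ 0 < P.natDegree}, ∃ z : K, Polynomial.aeval z P.1 = 0 := fun P => by
    obtain ⟨z, hz⟩ := IsAlgClosed.exists_root (P.1.map (algebraMap A K)) (by
      rw [Polynomial.degree_eq_natDegree (P.2.1.map _).ne_zero, P.2.1.natDegree_map]
      exact_mod_cast Nat.pos_iff_ne_zero.1 P.2.2)
    exact ⟨z, by rwa [Polynomial.aeval_def, ← Polynomial.eval_map]⟩
  choose z hz using hr
  let ψ : T →ₐ[A] K := Ideal.Quotient.liftₐ _ (MvPolynomial.aeval z) fun a ha => by
    refine Submodule.span_induction ?_ (map_zero _) (fun x y _ _ hx hy => by rw [map_add, hx, hy, add_zero])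
      (fun r x _ hx => by rw [smul_eq_mul, map_mul, hx, mul_zero]) ha
    rintro _ ⟨P, rfl⟩
    rw [← Polynomial.aeval_algHom_apply, MvPolynomial.aeval_X, hz]
  haveI : (RingHom.ker ψ.toRingHom).IsPrime := RingHom.ker_isPrime _
  refine ⟨⟨RingHom.ker ψ.toRingHom, inferInstance⟩, PrimeSpectrum.ext ?_⟩
  ext a
  show ψ (algebraMap A T a) = 0 ↔ a ∈ p.asIdeal
  rw [ψ.commutes, IsScalarTower.algebraMap_apply A p.asIdeal.ResidueField K, map_eq_zero,
    Ideal.algebraMap_residueField_eq_zero]

end Groth.Agent.S16572
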