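import Groth.Statements.S16574
import Groth.Agent.ZMTFactorLib.Basic

set_option autoImplicit false
universe u
set_option backward.isDefEq.respectTransparency false
open CategoryTheory AlgebraicGeometry
open AffSch

namespace Groth.Agent.S16574

/-- Let A be a commutative ring, U a quasi-compact open subscheme of Spec A and U' → U a finite
morphism. Then there exist a finite A-algebra B and a morphism U' → Spec B such that the square
formed by U' → U, U' → Spec B, Spec B → Spec A and the inclusion of U is cartesian; in particular U'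
→ Spec B is the open immersion of the preimage of U. (If U contains the complement of the closed set
of an ideal I then this preimage contains the complement of the closed set of IB; that clause is
automatic and omitted.) -/
theorem result
    (A : Type u) [CommRing A] (U : (Spec (CommRingCat.of A)).Opens) (hU : IsCompact (U : Set (Spec (CommRingCat.of A))))
    (U' : Scheme.{u}) (g : U' ⟶ (U : Scheme.{u})) [IsFinite g] :
    ∃ (B : Type u) (_ : CommRing B) (_ : Algebra A B) (i : U' ⟶ Spec (CommRingCat.of B)),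
      Module.Finite A B ∧ IsPullback i g (Spec.map (CommRingCat.ofHom (algebraMap A B))) U.ι := by
  haveI : CompactSpace (U : Scheme.{u}) := isCompact_iff_compactSpace.mp hU
  haveI : QuasiCompact U.ι := quasiCompact_of_compactSpace _
  let f : U' ⟶ Spec (CommRingCat.of A) := g ≫ U.ι
  haveI : LocallyOfFiniteType (f.toNormalization ≫ f.fromNormalization) := by
    rw [Scheme.Hom.toNormalization_fromNormalization]; infer_instance
  obtain ⟨T, q, π, hπ, hq, ho, hqc⟩ :=
    Groth.Agent.ZMTFactorLib.exists_finite_factor f.fromNormalization f.toNormalization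
  haveI := hπ
  haveI := ho
  haveI := hqc
  let j₀ := f.toNormalization ≫ q
  haveI : IsImmersion j₀ := inferInstance
  let j := j₀.toImage
  let p : j₀.image ⟶ Spec (CommRingCat.of A) := j₀.imageι ≫ π
  have hjp : j ≫ p = g ≫ U.ι := by
    rw [Scheme.Hom.toImage_imageι_assoc, Category.assoc, hq, Scheme.Hom.toNormalization_fromNormalization]
  haveI : IsOpenImmersion j := inferInstance
  haveI : IsFinite p := inferInstance
  haveI : IsAffine j₀.image := isAffine_of_isAffineHom p
  let B := Γ(j₀.image, ⊤)
  obtain ⟨φ, hφ⟩ := Spec.map_surjective (j₀.image.isoSpec.inv ≫ p)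
  letI : Algebra A B := φ.hom.toAlgebra
  have hφ' : Spec.map (CommRingCat.ofHom (algebraMap A B)) = j₀.image.isoSpec.inv ≫ p := hφ
  haveI : IsFinite (Spec.map φ) := by rw [hφ]; infer_instance
  have hfin : φ.hom.Finite := (IsFinite.SpecMap_iff _).1 inferInstance
  refine ⟨B, inferInstance, inferInstance, j ≫ j₀.image.isoSpec.hom, hfin, ?_⟩
  rw [hφ']
  -- the preimage of `U` is the image of `U'`
  have hsub : Set.range j ⊆ Set.range (p ⁻¹ᵁ U).ι := by
    rintro _ ⟨z, rfl⟩
    rw [Scheme.Opens.range_ι]
    show p (j z) ∈ U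
    rw [← Scheme.Hom.comp_apply, hjp]
    exact (g z).2
  let k : U' ⟶ (p ⁻¹ᵁ U).toScheme := IsOpenImmersion.lift (p ⁻¹ᵁ U).ι j hsub
  have hk : k ≫ (p ⁻¹ᵁ U).ι = j := IsOpenImmersion.lift_fac _ _ _
  have hkg : k ≫ (p ∣_ U) = g := by rw [← cancel_mono U.ι, Category.assoc, morphismRestrict_ι, reassoc_of% hk, hjp]
  haveI : IsFinite (p ∣_ U) := MorphismProperty.of_isPullback (isPullback_morphismRestrict p U).flip ‹_›
  haveI : IsFinite (k ≫ (p ∣_ U)) := by rw [hkg]; infer_instance
  haveI : IsFinite k := IsFinite.of_comp k (p ∣_ U)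
  haveI : IsOpenImmersion (k ≫ (p ⁻¹ᵁ U).ι) := by rw [hk]; infer_instance
  haveI : IsOpenImmersion k := IsOpenImmersion.of_comp k (p ⁻¹ᵁ U).ι
  haveI : Surjective k := by
    refine ⟨fun y => ?_⟩
    by_contra hy
    have ho2 : IsOpen ((p ⁻¹ᵁ U).ι '' (Set.range k)ᶜ) :=
      (p ⁻¹ᵁ U).ι.isOpenEmbedding.isOpenMap _ k.isClosedMap.isClosed_range.isOpen_compl
    obtain ⟨z, w, hw, hwz⟩ := (Scheme.Hom.denseRange j).exists_mem_open ho2 ⟨_, y, hy, rfl⟩
    refine hw ⟨z, (p ⁻¹ᵁ U).ι.isOpenEmbedding.injective ?_⟩
    rw [← Scheme.Hom.comp_apply, hk, hwz]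
  haveI : IsIso k := (isIso_iff_isOpenImmersion_and_surjective _).mpr ⟨inferInstance, inferInstance⟩
  refine ((isPullback_morphismRestrict p U).flip).of_iso (asIso k).symm j₀.image.isoSpec (Iso.refl _) (Iso.refl _) ?_ ?_ ?_ ?_
  · simp [← hk]
  · simp [← hkg]
  · simp
  · simp

end Groth.Agent.S16574
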