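import Groth.Statements.S16576
import Mathlib
import Groth.Prelude.Def_FSch3
import Groth.Agent.S3869
import Groth.Agent.S9231
import Groth.Agent.FiniteCompleteLib.Basic
import Groth.Agent.CTwoLib.Complete

set_option autoImplicit false
universe u
open CAlg

namespace Groth.Agent.S16576

/-- Let A → B be a flat local homomorphism of Noetherian local rings and let Â, B̂ be their completions
at the maximal ideals. If every irreducible component of Spec Â has dimension at least 2, then every
irreducible component of Spec B̂ has dimension at least 2. (This is the c_2 condition in its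
completed form; globally: the preimage of a c_2 closed subset under a flat morphism of Noetherian
schemes is c_2, in particular the condition is invariant under Zariski and étale localization.) -/
theorem result
    (A B : Type u) [CommRing A] [CommRing B] [IsNoetherianRing A] [IsNoetherianRing B]
    [IsLocalRing A] [IsLocalRing B] (f : A →+* B) [IsLocalHom f] (hf : f.Flat)
    (hA : ∀ q ∈ minimalPrimes (AdicCompletion (IsLocalRing.maximalIdeal A) A), (2 : WithBot ℕ∞) ≤ ringKrullDim (AdicCompletion (IsLocalRing.maximalIdeal A) A ⧸ q)) :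
    ∀ q ∈ minimalPrimes (AdicCompletion (IsLocalRing.maximalIdeal B) B), (2 : WithBot ℕ∞) ≤ ringKrullDim (AdicCompletion (IsLocalRing.maximalIdeal B) B ⧸ q) := by
  intro q hq
  let Ac := AdicCompletion (IsLocalRing.maximalIdeal A) A
  let Bc := AdicCompletion (IsLocalRing.maximalIdeal B) B
  have hmap : (IsLocalRing.maximalIdeal A).map f ≤ IsLocalRing.maximalIdeal B :=
    ((IsLocalRing.local_hom_TFAE f).out 0 2).mp ‹_›
  let ψ : Ac →+* Bc := FSch.complMap (IsLocalRing.maximalIdeal A) (IsLocalRing.maximalIdeal B) f hmap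
  letI := f.toAlgebra
  haveI : IsLocalHom (algebraMap A B) := ‹IsLocalHom f›
  have hψ : ψ.comp (algebraMap A Ac) = (algebraMap B Bc).comp (algebraMap A B) := by
    refine RingHom.ext fun s => AdicCompletion.ext_evalₐ fun n => ?_
    rw [RingHom.comp_apply, RingHom.comp_apply, S3869.evalₐ_complMap, AlgHom.commutes, AlgHom.commutes,
      Ideal.Quotient.algebraMap_eq, Ideal.Quotient.algebraMap_eq, Ideal.quotientMap_mk]
    rfl
  have hflat : ψ.Flat := (Groth.Agent.S9231.result A B ψ hψ).mpr hf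
  haveI : IsNoetherianRing Ac := Groth.Agent.RegLocal.isNoetherianRing_completion A _
  haveI : IsNoetherianRing Bc := Groth.Agent.RegLocal.isNoetherianRing_completion B _
  haveI : IsAdicComplete (IsLocalRing.maximalIdeal Ac) Ac := by
    rw [AdicCompletion.maximalIdeal_eq_map]
    exact AdicCompletion.isAdicComplete_self _ (IsLocalRing.maximalIdeal A).fg_of_isNoetherianRing
  letI : Algebra Ac Bc := ψ.toAlgebra
  haveI : Module.Flat Ac Bc := hflat
  haveI hloc : IsLocalHom (algebraMap Ac Bc) := by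
    refine ((IsLocalRing.local_hom_TFAE _).out 0 2).mpr ?_
    rw [AdicCompletion.maximalIdeal_eq_map, Ideal.map_map]
    change Ideal.map (ψ.comp (algebraMap A Ac)) _ ≤ _
    rw [hψ, ← Ideal.map_map, AdicCompletion.maximalIdeal_eq_map]
    exact Ideal.map_mono hmap
  haveI := hq.1.1
  let p : Ideal Ac := q.comap (algebraMap Ac Bc)
  have hp : p ∈ minimalPrimes Ac := by
    haveI : p.IsPrime := Ideal.IsPrime.comap _
    refine ⟨⟨inferInstance, bot_le⟩, fun p' hp' hle => ?_⟩
    rcases hle.lt_or_eq with hlt | heq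
    · haveI := hp'.1
      haveI : q.LiesOver p := ⟨rfl⟩
      haveI := Algebra.HasGoingDown.of_flat (R := Ac) (S := Bc)
      obtain ⟨Q, hQlt, hQp, -⟩ := Ideal.exists_ideal_lt_liesOver_of_lt q hlt
      exact absurd (hq.2 ⟨hQp, bot_le⟩ hQlt.le) (not_le_of_gt hQlt)
    · exact heq.ge
  haveI := hp.1.1
  have h2 := hA p hp
  haveI : IsLocalRing (Ac ⧸ p) := IsLocalRing.of_surjective' _ Ideal.Quotient.mk_surjective
  haveI : IsAdicComplete (IsLocalRing.maximalIdeal (Ac ⧸ p)) (Ac ⧸ p) :=
    FiniteCompleteLib.isAdicComplete_maximalIdeal Ac (Ac ⧸ p)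
  obtain ⟨P0, hP0, hP0p, hP0m⟩ : ∃ P0 : Ideal (Ac ⧸ p), P0.IsPrime ∧ P0 ≠ ⊥ ∧ ¬ P0.IsMaximal := by
    by_contra hcon
    push Not at hcon
    have h1 : Ring.KrullDimLE 1 (Ac ⧸ p) :=
      Ring.krullDimLE_one_iff_of_noZeroDivisors.mpr fun I hI hIp => hcon I hIp hI
    have := h2.trans (Ring.krullDimLE_iff.mp h1)
    exact absurd this (by norm_num)
  let I := p.map (algebraMap Ac Bc)
  have hIq : I ≤ q := Ideal.map_comap_le
  haveI : Nontrivial (Bc ⧸ I) :=
    Ideal.Quotient.nontrivial_iff.mpr (ne_top_of_le_ne_top hq.1.1.ne_top hIq)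
  haveI : IsLocalRing (Bc ⧸ I) := IsLocalRing.of_surjective' _ Ideal.Quotient.mk_surjective
  haveI : Module.Flat (Ac ⧸ p) (Bc ⧸ I) :=
    Module.Flat.of_linearEquiv (Algebra.TensorProduct.quotIdealMapEquivQuotTensor Bc p).toLinearEquiv
  haveI : IsLocalHom (algebraMap (Ac ⧸ p) (Bc ⧸ I)) := by
    refine ((IsLocalRing.local_hom_TFAE _).out 0 2).mpr ?_
    rw [← IsLocalRing.map_maximalIdeal_of_surjective (Ideal.Quotient.mk p) Ideal.Quotient.mk_surjective,
      ← IsLocalRing.map_maximalIdeal_of_surjective (Ideal.Quotient.mk I) Ideal.Quotient.mk_surjective,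
      Ideal.map_map]
    have hm : (IsLocalRing.maximalIdeal Ac).map (algebraMap Ac Bc) ≤ IsLocalRing.maximalIdeal Bc :=
      ((IsLocalRing.local_hom_TFAE (algebraMap Ac Bc)).out 0 2).mp hloc
    refine le_trans (le_of_eq ?_) (Ideal.map_mono hm)
    rw [Ideal.map_map]
    rfl
  have hker : RingHom.ker (Ideal.Quotient.mk I) ≤ q := by rwa [Ideal.mk_ker]
  haveI : (q.map (Ideal.Quotient.mk I)).IsPrime :=
    Ideal.map_isPrime_of_surjective Ideal.Quotient.mk_surjective hker
  have hcq : (q.map (Ideal.Quotient.mk I)).comap (Ideal.Quotient.mk I) = q := by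
    rw [Ideal.comap_map_of_surjective _ Ideal.Quotient.mk_surjective, ← RingHom.ker_eq_comap_bot,
      sup_eq_left.mpr hker]
  have hq' : q.map (Ideal.Quotient.mk I) ∈ minimalPrimes (Bc ⧸ I) := by
    refine ⟨⟨inferInstance, bot_le⟩, fun J hJ hle => ?_⟩
    have := hJ.1
    refine Ideal.map_le_iff_le_comap.mpr (hq.2 ⟨Ideal.IsPrime.comap _, bot_le⟩ ?_)
    exact (Ideal.comap_mono hle).trans hcq.le
  obtain ⟨Q, hQ, hlt, hmax⟩ := Groth.Agent.CTwoLib.exists_lt_not_isMaximal_of_complete (Ac ⧸ p) (Bc ⧸ I)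
    P0 hP0p (fun h => hP0m (h ▸ IsLocalRing.maximalIdeal.isMaximal _)) _ hq'
  -- transfer to the quotient by `q`
  let Q' : Ideal Bc := Q.comap (Ideal.Quotient.mk I)
  have hqQ : q < Q' := lt_of_le_of_ne (hcq.ge.trans (Ideal.comap_mono hlt.le))
    fun h => hlt.ne (Ideal.comap_injective_of_surjective _ Ideal.Quotient.mk_surjective (hcq.trans h))
  have hQ'max : ¬ Q'.IsMaximal := fun h => by
    have hM := Ideal.map_eq_top_or_isMaximal_of_surjective (Ideal.Quotient.mk I)
      Ideal.Quotient.mk_surjective h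
    rw [Ideal.map_comap_of_surjective _ Ideal.Quotient.mk_surjective] at hM
    exact hM.elim hQ.ne_top hmax
  by_contra hdim
  haveI h1 : Ring.KrullDimLE 1 (Bc ⧸ q) := by
    rw [Ring.krullDimLE_iff]
    rw [not_le] at hdim
    cases hd : ringKrullDim (Bc ⧸ q) with
    | bot => exact bot_le
    | coe d =>
      rw [hd] at hdim
      have hd2 : d < 1 + 1 := by
        rw [one_add_one_eq_two]
        change (d : WithBot ℕ∞) < ((2 : ℕ∞) : WithBot ℕ∞) at hdim
        exact WithBot.coe_lt_coe.mp hdim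
      exact_mod_cast ENat.lt_add_one_iff (by simp) |>.mp hd2
  have hker' : RingHom.ker (Ideal.Quotient.mk q) ≤ Q' := by rw [Ideal.mk_ker]; exact hqQ.le
  haveI : Q'.IsPrime := Ideal.IsPrime.comap _
  haveI : (Q'.map (Ideal.Quotient.mk q)).IsPrime :=
    Ideal.map_isPrime_of_surjective Ideal.Quotient.mk_surjective hker'
  have hne : Q'.map (Ideal.Quotient.mk q) ≠ ⊥ := fun h => by
    rw [Ideal.map_eq_bot_iff_le_ker, Ideal.mk_ker] at h
    exact absurd h (not_le_of_gt hqQ)
  have hm' := Ring.krullDimLE_one_iff_of_noZeroDivisors.mp h1 _ hne inferInstance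
  apply hQ'max
  have h3 : (Q'.map (Ideal.Quotient.mk q)).comap (Ideal.Quotient.mk q) = Q' := by
    rw [Ideal.comap_map_of_surjective _ Ideal.Quotient.mk_surjective, ← RingHom.ker_eq_comap_bot,
      sup_eq_left.mpr hker']
  rw [← h3]
  exact Ideal.comap_isMaximal_of_surjective _ Ideal.Quotient.mk_surjective

end Groth.Agent.S16576
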