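import Groth.Statements.S16577
import Groth.Agent.Henselization.Transfer
import Groth.Agent.Henselization.Properties
-- import your own Groth.Agent.* helpers here

set_option autoImplicit false
universe u
open Hensel

namespace Groth.Agent.S16577

/-- Let A be a Noetherian local ring with a strict henselization S', and p a prime ideal of A. Call p an
immediate étale generization of the closed point when the strict henselization S'/pS' of A/p has an
irreducible component of dimension 1, that is, some minimal prime P over pS' has dim S'/P = 1. Then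
p is an immediate étale generization of the closed point if and only if p is the contraction of some
prime ideal P of S' with dim S'/P = 1. -/
theorem result
    (A : Type u) [CommRing A] [IsNoetherianRing A] [IsLocalRing A]
    (S' : Type u) [CommRing S'] [IsLocalRing S'] [Algebra A S'] [IsLocalHom (algebraMap A S')]
    [Hensel.IsStrictHenselization A S']
    (p : Ideal A) [p.IsPrime] :
    (∃ P ∈ (p.map (algebraMap A S')).minimalPrimes, ringKrullDim (S' ⧸ P) = 1) ↔
    (∃ P : Ideal S', P.IsPrime ∧ P.comap (algebraMap A S') = p ∧ ringKrullDim (S' ⧸ P) = 1) := by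
  obtain ⟨e⟩ := Groth.Agent.Henselization.exists_algEquiv_of_isStrictHenselization A S'
  haveI : Module.Flat A S' := Module.Flat.of_linearEquiv e.symm.toLinearEquiv
  have hinc : ∀ P Q : Ideal S', P.IsPrime → Q.IsPrime → P ≤ Q →
      P.comap (algebraMap A S') = Q.comap (algebraMap A S') → P = Q := by
    intro P Q _ _ hle hc
    refine Ideal.comap_injective_of_surjective e.toRingEquiv.toRingHom e.surjective
      (Groth.Agent.Henselization.eq_of_le_of_comap_eq (Ideal.comap_mono hle) ?_)
    rw [Ideal.comap_comap, Ideal.comap_comap]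
    have : e.toRingEquiv.toRingHom.comp (algebraMap A _) = algebraMap A S' := RingHom.ext e.commutes
    rw [this, hc]
  constructor
  · rintro ⟨P, hP, hdim⟩
    haveI := hP.1.1
    refine ⟨P, inferInstance, le_antisymm ?_ (Ideal.map_le_iff_le_comap.1 hP.1.2), hdim⟩
    haveI : P.LiesOver (P.comap (algebraMap A S')) := ⟨rfl⟩
    obtain ⟨Q, hQP, hQ, hQp⟩ := Ideal.exists_ideal_le_liesOver_of_le (p := p)
      (q := P.comap (algebraMap A S')) P (Ideal.map_le_iff_le_comap.1 hP.1.2)
    have : P ≤ Q := hP.2 ⟨hQ, Ideal.map_le_iff_le_comap.2 hQp.over.le⟩ hQP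
    exact (Ideal.comap_mono this).trans hQp.over.ge
  · rintro ⟨P, hP, hPp, hdim⟩
    refine ⟨P, ⟨⟨hP, Ideal.map_le_iff_le_comap.2 hPp.ge⟩, fun Q hQ hQP => ?_⟩, hdim⟩
    haveI := hQ.1
    exact (hinc Q P hQ.1 hP hQP (le_antisymm (Ideal.comap_mono hQP)
      (hPp.le.trans (Ideal.map_le_iff_le_comap.1 hQ.2)))).ge

end Groth.Agent.S16577
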