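import Groth.Statements.S16579
import Groth.Agent.GabberRigLib.Main
-- import your own Groth.Agent.* helpers here

set_option autoImplicit false
universe u
open CategoryTheory AlgebraicGeometry
open Hensel

namespace Groth.Agent.S16579

/-- The case of the constant sheaf on a two-element set. Let (A, I) be a henselian pair with I finitely
generated (A not necessarily Noetherian), Â the I-adic completion of A, π : Spec Â → Spec A the
completion morphism, U a quasi-compact open subscheme of Spec A containing the complement of V(I),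
and Û = π⁻¹(U). Then V ↦ (π|Û)⁻¹(V) is a bijection from the clopen subsets of U onto the clopen
subsets of Û; equivalently, for every finite set F the locally constant F-valued functions on U and
on Û correspond under composition with π. -/
theorem result
    (A : Type u) [CommRing A] (I : Ideal A) (hI : I.FG) [HenselianRing A I]
    (U : (Spec (CommRingCat.of A)).Opens) (hU : IsCompact (U : Set (Spec (CommRingCat.of A))))
    (hUI : ∀ x : Spec (CommRingCat.of A), x ∉ U → I ≤ x.asIdeal) :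
    Function.Bijective (fun V : {V : Set ↥U // IsClopen V} =>
      (⟨((Spec.map (CommRingCat.ofHom (algebraMap A (AdicCompletion I A)))) ∣_ U).base.hom ⁻¹' V.1, V.2.preimage ((Spec.map (CommRingCat.ofHom (algebraMap A (AdicCompletion I A)))) ∣_ U).base.hom.continuous⟩ :
        {V' : Set ↥((Spec.map (CommRingCat.ofHom (algebraMap A (AdicCompletion I A)))) ⁻¹ᵁ U) // IsClopen V'})) := by
  classical
  obtain ⟨t, ht⟩ := PrimeSpectrum.isCompact_isOpen_iff.1 ⟨hU, U.2⟩
  let g : {x // x ∈ t} → A := Subtype.val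
  have hmemU : ∀ p : Spec (CommRingCat.of A), p ∈ U ↔ ∃ i, g i ∉ p.asIdeal := fun p => by
    rw [← SetLike.mem_coe, show (U : Set (Spec (CommRingCat.of A))) = _ from ht.symm]
    refine (Set.not_subset.trans ?_ : ¬((t : Set A) ⊆ (p.asIdeal : Set A)) ↔ _)
    exact ⟨fun ⟨x, hx, hxp⟩ => ⟨⟨x, hx⟩, hxp⟩, fun ⟨i, hi⟩ => ⟨i.1, i.2, hi⟩⟩
  have hIg : ∀ p : PrimeSpectrum A, (∀ i, g i ∈ p.asIdeal) → I ≤ p.asIdeal := fun p hp =>
    hUI p fun h => by
      obtain ⟨i, hi⟩ := (hmemU p).1 h
      exact hi (hp i)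
  let π := Spec.map (CommRingCat.ofHom (algebraMap A (AdicCompletion I A)))
  constructor
  · rintro ⟨V₁, h₁⟩ ⟨V₂, h₂⟩ heq
    have heq' : (π ∣_ U) ⁻¹' V₁ = (π ∣_ U) ⁻¹' V₂ := congrArg Subtype.val heq
    have key : ∀ W₁ W₂ : Set ↥U, IsClopen W₁ → IsClopen W₂ → (π ∣_ U) ⁻¹' W₁ = (π ∣_ U) ⁻¹' W₂ → W₁ ⊆ W₂ := by
      intro W₁ W₂ hW₁ hW₂ hW
      have hd : IsClopen (W₁ \ W₂) := hW₁.diff hW₂
      have h0 := GabberRigLib.eq_empty_of_fractions hI g hIg
        (U := SetLike.coe U) (V := (Subtype.val : U → _) '' (W₁ \ W₂))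
        (fun i p hp => (hmemU p).2 ⟨i, hp⟩) (fun p hp => Set.mem_iUnion.2 ((hmemU p).1 hp))
        (U.2.isOpenMap_subtype_val _ hd.2)
        (by
          have e : SetLike.coe U \ ((Subtype.val : U → _) '' (W₁ \ W₂)) = (Subtype.val : U → _) '' (W₁ \ W₂)ᶜ := by
            ext p; constructor
            · rintro ⟨h1, h2⟩; exact ⟨⟨p, h1⟩, fun h => h2 ⟨_, h, rfl⟩, rfl⟩
            · rintro ⟨⟨r, hr'⟩, hr, rfl⟩
              exact ⟨hr', fun ⟨r', hr'', e'⟩ => hr (Subtype.ext e' ▸ hr'' : (⟨r, hr'⟩ : ↥U) ∈ W₁ \ W₂)⟩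
          exact e ▸ U.2.isOpenMap_subtype_val _ hd.compl.2)
        (Subtype.coe_image_subset _ _)
        (by
          refine Set.eq_empty_iff_forall_notMem.2 fun q hq => ?_
          obtain ⟨w, ⟨hw₁, hw₂⟩, hwq⟩ := hq
          let q' : ↥(π ⁻¹ᵁ U) := ⟨q, show π q ∈ U from (show (w : Spec (CommRingCat.of A)) = π q from hwq) ▸ w.2⟩
          have hq' : (π ∣_ U) q' = w := Subtype.ext (by
            have := congr($(morphismRestrict_ι π U) q')
            simp only [Scheme.Hom.comp_apply] at this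
            exact this.trans (show π q = (w : Spec (CommRingCat.of A)) from hwq.symm))
          have := Set.ext_iff.1 hW q'
          simp only [Set.mem_preimage, hq'] at this
          exact hw₂ (this.1 hw₁))
      intro w hw
      by_contra hw'
      exact Set.notMem_empty _ (h0.le ⟨w, ⟨hw, hw'⟩, rfl⟩)
    exact Subtype.ext (Set.Subset.antisymm (key _ _ h₁ h₂ heq') (key _ _ h₂ h₁ heq'.symm))
  · rintro ⟨V', hV'⟩
    obtain ⟨V, hV, hVV⟩ := GabberRigLib.exists_clopen_descend hI g hIg U (fun i p hp => (hmemU p).2 ⟨i, hp⟩)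
      (fun p hp => (hmemU p).1 hp) V' hV'
    exact ⟨⟨V, hV⟩, Subtype.ext hVV⟩

end Groth.Agent.S16579
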