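import Groth.Statements.S16583
import Groth.Agent.EtaleSplit.Nbhd
import Groth.Agent.Unibranch.Open
import Groth.Agent.SpectralLib.Basic
-- import your own Groth.Agent.* helpers here

set_option autoImplicit false
set_option backward.isDefEq.respectTransparency false
universe u
open CategoryTheory AlgebraicGeometry
open EtCore

namespace Groth.Agent.S16583

open CategoryTheory.Limits in
theorem eq_of_specializes_of_isField {X : Scheme.{u}} {w z : X} (hz : IsField (X.presheaf.stalk z)) (h : w ⤳ z) : w = z := by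
  have hr : w ∈ Set.range (X.fromSpecStalk z) := by rw [Scheme.range_fromSpecStalk]; exact h
  obtain ⟨p, rfl⟩ := hr
  letI := hz.toField
  haveI : Subsingleton (PrimeSpectrum (X.presheaf.stalk z)) := inferInstance
  rw [Subsingleton.elim (α := PrimeSpectrum (X.presheaf.stalk z)) p (IsLocalRing.closedPoint _)]
  exact Scheme.fromSpecStalk_closedPoint

open CategoryTheory.Limits in
/-- An étale morphism onto a scheme with field stalks and algebraically closed residue fields is an open
immersion near each point. -/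
theorem exists_isOpenImmersion (X Y : Scheme.{u}) (hX : ∀ x : X, IsField (X.presheaf.stalk x))
    (hX' : ∀ x : X, IsAlgClosed (X.residueField x))
    (f : Y ⟶ X) [Etale f] (y : Y) : ∃ W : Y.Opens, y ∈ W ∧ IsOpenImmersion (W.ι ≫ f) := by
  haveI : LocallyQuasiFinite f := Groth.Agent.Unibranch.locallyQuasiFinite_of_etale f
  have hbij : ∀ a : Y, Function.Bijective (f.residueFieldMap a) := fun a => by
    haveI := hX' (f a)
    letI := (f.residueFieldMap a).hom.toAlgebra
    haveI : Module.Finite (X.residueField (f a)) (Y.residueField a) :=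
      Groth.Agent.EtaleSplit.finite_residueFieldMap f a (f.quasiFiniteAt a)
    exact IsAlgClosed.algebraMap_bijective_of_isIntegral
  have hgen : ∀ a b : Y, a ⤳ b → a = b := fun a b hab => by
    have hf := eq_of_specializes_of_isField (hX (f b)) (hab.map f.continuous)
    have hd := f.isDiscrete_preimage_singleton (f b)
    haveI := isDiscrete_iff_discreteTopology.1 hd
    have : (⟨a, hf⟩ : f ⁻¹' {f b}) ⤳ ⟨b, rfl⟩ := Topology.IsEmbedding.subtypeVal.isInducing.specializes_iff.1 hab
    exact congrArg Subtype.val this.eq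
  obtain ⟨_, ⟨(V₀ : X.Opens), hV₀, rfl⟩, hyV, -⟩ := X.isBasis_affineOpens.exists_subset_of_mem_open
    (Set.mem_univ (f y)) isOpen_univ
  obtain ⟨_, ⟨(U : Y.Opens), hU, rfl⟩, hyU, hUV⟩ := Y.isBasis_affineOpens.exists_subset_of_mem_open
    (a := y) hyV (f ⁻¹ᵁ V₀).2
  haveI : IsAffine U.toScheme := hU
  haveI : IsAffine V₀.toScheme := hV₀
  let g : U.toScheme ⟶ V₀.toScheme := IsOpenImmersion.lift V₀.ι (U.ι ≫ f) (by
    rintro _ ⟨a, rfl⟩
    exact ⟨⟨_, hUV a.2⟩, rfl⟩)
  have hg : g ≫ V₀.ι = U.ι ≫ f := IsOpenImmersion.lift_fac _ _ _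
  haveI : Etale g := by
    haveI : Etale (g ≫ V₀.ι) := by rw [hg]; infer_instance
    exact Etale.of_comp g V₀.ι
  haveI : CompactSpace ↥(pullback g g) := inferInstance
  let D := Set.range (pullback.diagonal g)
  haveI : IsClosedImmersion (pullback.diagonal g) := inferInstance
  haveI : IsOpenImmersion (pullback.diagonal g) := inferInstance
  have hC : IsCompact Dᶜ := (pullback.diagonal g).isOpenEmbedding.isOpen_range.isClosed_compl.isCompact
  haveI : SpectralSpace U.toScheme := {}
  have sep : ∀ a : U.toScheme, a ≠ ⟨y, hyU⟩ → ∃ K : Set U.toScheme, IsOpen K ∧ IsClosed K ∧ (⟨y, hyU⟩ : U.toScheme) ∈ K ∧ a ∉ K := by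
    intro a ha
    by_contra hn
    refine ha ?_
    have hs : a ⤳ (⟨y, hyU⟩ : U.toScheme) := Groth.Agent.SpectralLib.specializes_of_forall_compactOpen fun K ho hc hyK => by
      by_contra haK
      refine hn ⟨K, ho, ?_, hyK, haK⟩
      refine Groth.Agent.SpectralLib.isClosed_of_stableUnderSpecialization
        (Groth.Agent.SpectralLib.isClosed_C_of_compactOpen ho hc) fun b b' hbb' hb => ?_
      have e := hgen _ _ (hbb'.map U.ι.continuous)
      rwa [← U.ι.isOpenEmbedding.injective e]
    exact U.ι.isOpenEmbedding.injective (hgen _ _ (hs.map U.ι.continuous))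
  have hcov : ∀ c ∈ Dᶜ, ∃ K : Set U.toScheme, IsOpen K ∧ IsClosed K ∧ (⟨y, hyU⟩ : U.toScheme) ∈ K ∧
      ¬ (pullback.fst g g c ∈ K ∧ pullback.snd g g c ∈ K) := by
    intro c hc
    by_cases h1 : pullback.fst g g c = ⟨y, hyU⟩
    swap
    · obtain ⟨K, a, b, h, h'⟩ := sep _ h1
      exact ⟨K, a, b, h, fun e => h' e.1⟩
    by_cases h2 : pullback.snd g g c = ⟨y, hyU⟩
    swap
    · obtain ⟨K, a, b, h, h'⟩ := sep _ h2
      exact ⟨K, a, b, h, fun e => h' e.2⟩
    exfalso
    refine hc ?_
    let r := (pullback g g).fromSpecResidueField c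
    have hr : ∀ z, r z = c := fun z => Scheme.fromSpecResidueField_apply _ _
    have e : (r ≫ pullback.fst g g) ≫ U.ι = (r ≫ pullback.snd g g) ≫ U.ι := by
      refine Groth.Agent.EtaleSplit.eq_of_comp_eq (K := (pullback g g).residueField c) f y (hbij y) _ _ ?_ ?_ ?_
      · exact (congrArg (fun z => U.ι (pullback.fst g g z)) (hr _)).trans (congrArg U.ι h1)
      · exact (congrArg (fun z => U.ι (pullback.snd g g z)) (hr _)).trans (congrArg U.ι h2)
      · simp only [Category.assoc, ← hg, pullback.condition_assoc]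
    rw [cancel_mono] at e
    have h4 : (r ≫ pullback.fst g g) ≫ pullback.diagonal g = r := by
      apply pullback.hom_ext <;> simp [e]
    refine ⟨(r ≫ pullback.fst g g) (IsLocalRing.closedPoint _), ?_⟩
    rw [← Scheme.Hom.comp_apply, h4]
    exact hr _
  choose! K hKo hKc hyK hK using hcov
  obtain ⟨t, htD, hfin, ht⟩ := hC.elim_finite_subcover_image (b := Dᶜ)
    (c := fun c => pullback.fst g g ⁻¹' (K c)ᶜ ∪ pullback.snd g g ⁻¹' (K c)ᶜ)
    (fun c hc => (((hKc c hc).isOpen_compl).preimage (pullback.fst g g).continuous).union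
      (((hKc c hc).isOpen_compl).preimage (pullback.snd g g).continuous))
    (fun c hc => Set.mem_iUnion₂.2 ⟨c, hc, (not_and_or.1 (hK c hc)).imp id id⟩)
  let W₀ : U.toScheme.Opens := ⟨⋂ c ∈ t, K c, hfin.isOpen_biInter fun c hc => hKo c (htD hc)⟩
  refine ⟨U.ι ''ᵁ W₀, ⟨⟨y, hyU⟩, Set.mem_iInter₂.2 fun c hc => hyK c (htD hc), rfl⟩, ?_⟩
  let gW := W₀.ι ≫ g
  haveI : Etale gW := inferInstance
  let q := pullback.map gW gW g g W₀.ι W₀.ι (𝟙 _) (by simp [gW]) (by simp [gW])
  haveI : IsOpenImmersion q := inferInstance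
  haveI : Surjective (pullback.diagonal gW) := ⟨fun z => by
    have hmem : q z ∈ D := by
      by_contra hn
      obtain ⟨c, hc, h⟩ := Set.mem_iUnion₂.1 (ht hn)
      have hf : pullback.fst g g (q z) ∈ W₀ := by
        rw [← Scheme.Hom.comp_apply, show q ≫ pullback.fst g g = pullback.fst gW gW ≫ W₀.ι by simp [q]]
        exact Subtype.coe_prop _
      have hs : pullback.snd g g (q z) ∈ W₀ := by
        rw [← Scheme.Hom.comp_apply, show q ≫ pullback.snd g g = pullback.snd gW gW ≫ W₀.ι by simp [q]]
        exact Subtype.coe_prop _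
      exact h.elim (fun h' => h' (Set.mem_iInter₂.1 hf c hc)) fun h' => h' (Set.mem_iInter₂.1 hs c hc)
    obtain ⟨a, ha⟩ := hmem
    have haW : a ∈ W₀ := by
      have e : pullback.fst g g (q z) = a := by
        rw [← ha, ← Scheme.Hom.comp_apply, pullback.diagonal_fst]; rfl
      rw [← e, ← Scheme.Hom.comp_apply, show q ≫ pullback.fst g g = pullback.fst gW gW ≫ W₀.ι by simp [q]]
      exact Subtype.coe_prop _
    refine ⟨⟨a, haW⟩, q.isOpenEmbedding.injective ?_⟩
    have e3 : pullback.diagonal gW ≫ q = W₀.ι ≫ pullback.diagonal g := by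
      apply pullback.hom_ext <;> simp [q]
    exact (congrArg (fun k => k ⟨a, haW⟩) e3).trans ha⟩
  haveI : IsOpenImmersion (pullback.diagonal gW) := inferInstance
  haveI : IsIso (pullback.diagonal gW) := (isIso_iff_isOpenImmersion_and_surjective _).2 ⟨inferInstance, inferInstance⟩
  haveI : Mono gW := (pullback.isIso_diagonal_iff _).1 inferInstance
  haveI := IsOpenImmersion.of_flat_of_mono gW
  have he : (U.ι.isoImage W₀).hom ≫ (U.ι ''ᵁ W₀).ι ≫ f = gW ≫ V₀.ι := by
    rw [← Category.assoc, Scheme.Hom.isoImage_hom_ι, Category.assoc, Category.assoc, hg]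
  rw [← Iso.inv_hom_id_assoc (U.ι.isoImage W₀) ((U.ι ''ᵁ W₀).ι ≫ f), he]
  infer_instance

/-- Let X be a scheme such that every local ring of X is a field and every residue field of X is
algebraically closed, and let f : Y → X be an étale morphism. Then f is Zariski-locally trivial: for
every point y of Y there exist an open V of X containing f(y) and a section s : V → Y of f over V
whose image contains y. (The published lemma is stated for a specific scheme X^c attached to a
coherent scheme — the constructible topology of a suitable integral cover, which has these two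
properties by construction; the row states the assertion for every scheme with these two properties,
which is all the printed proof uses. The lemma's further assertions about the étale and Zariski
topoi, torsors and gerbes on X^c are not included.) -/
theorem result
    (X Y : Scheme.{u}) (hX : ∀ x : X, IsField (X.presheaf.stalk x))
    (hX' : ∀ x : X, IsAlgClosed (X.residueField x))
    (f : Y ⟶ X) [Etale f] (y : Y) :
    ∃ (V : X.Opens) (s : (V : Scheme.{u}) ⟶ Y), f.base y ∈ V ∧ s ≫ f = V.ι ∧ y ∈ Set.range s.base := by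
  obtain ⟨W, hyW, hW⟩ := exists_isOpenImmersion X Y hX hX' f y
  refine ⟨(W.ι ≫ f).opensRange, (W.ι ≫ f).isoOpensRange.inv ≫ W.ι, ⟨⟨y, hyW⟩, rfl⟩, ?_, ?_⟩
  · rw [Category.assoc, Scheme.Hom.isoOpensRange_inv_comp]
  · exact ⟨(W.ι ≫ f).isoOpensRange.hom ⟨y, hyW⟩, by rw [← Scheme.Hom.comp_apply, Iso.hom_inv_id_assoc]; rfl⟩

end Groth.Agent.S16583
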