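import Groth.Statements.S16599
import Groth.Agent.LGLib.Points

set_option autoImplicit false
open AlgebraicGeometry
universe u
open LGRing

namespace Groth.Agent.S16599

open Groth.Agent

/-- Let R be an LG-ring, n ≥ 0, and U an open quasi-compact subscheme of affine n-space Spec R[X₁, …,
Xₙ]. If U has an (R ⧸ m)-valued point over R for every maximal ideal m of R, then U has an R-valued
point: some n-tuple x over R defines a section Spec R ⟶ Spec R[X₁, …, Xₙ] with image inside U. -/
theorem result {R : Type u} [CommRing R] (hR : LGRing.IsLGRing R)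
    (n : ℕ) (U : (Spec (CommRingCat.of (MvPolynomial (Fin n) R))).Opens)
    (hU : IsCompact (U : Set ↥(Spec (CommRingCat.of (MvPolynomial (Fin n) R)))))
    (h : ∀ (m : Ideal R) [m.IsMaximal], ∃ x : Fin n → R ⧸ m,
      Set.range (Spec.map (CommRingCat.ofHom (MvPolynomial.eval₂Hom (Ideal.Quotient.mk m) x))).base ⊆
        (U : Set ↥(Spec (CommRingCat.of (MvPolynomial (Fin n) R))))) :
    ∃ x : Fin n → R, Set.range (Spec.map (CommRingCat.ofHom (MvPolynomial.eval x))).base ⊆
      (U : Set ↥(Spec (CommRingCat.of (MvPolynomial (Fin n) R)))) := by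
  obtain ⟨t, ht'⟩ := LGLib.exists_finset (S := MvPolynomial (Fin n) R) _ U.2 hU
  have ht : (U : Set ↥(Spec (CommRingCat.of (MvPolynomial (Fin n) R)))) = (PrimeSpectrum.zeroLocus (t : Set (MvPolynomial (Fin n) R)))ᶜ := ht'
  obtain ⟨x, hx⟩ := LGLib.exists_point hR t fun m hm => by
    obtain ⟨x, hx⟩ := h m
    have hs := (LGLib.range_comap_subset_iff (MvPolynomial.eval₂Hom (Ideal.Quotient.mk m) x)
      (t : Set (MvPolynomial (Fin n) R))).1 (ht ▸ hx)
    obtain ⟨f, hf, hne⟩ := (LGLib.span_eq_top_iff_exists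
      (Ideal.Quotient.maximal_ideal_iff_isField_quotient m |>.1 hm) _ _).1 hs
    exact ⟨x, f, hf, hne⟩
  refine ⟨x, ?_⟩
  exact ht ▸ (LGLib.range_comap_subset_iff (MvPolynomial.eval x) (t : Set (MvPolynomial (Fin n) R))).2 hx

end Groth.Agent.S16599
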