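import Groth.Statements.S16600
import Groth.Agent.LGLib.Points

set_option autoImplicit false
open AlgebraicGeometry
universe u
open LGRing

namespace Groth.Agent.S16600

open Groth.Agent

/-- Let R be an LG-ring, M a finite locally free R-module, W(M) = Spec Sym(M^∨) the vector bundle of M
(its points with values in an R-algebra R' are the R-algebra maps Sym(M^∨) → R', i.e. the R-linear
maps M^∨ → R'), and U ⊆ W(M) an open quasi-compact subscheme. Then U(R) is non-empty if and only if
U(R ⧸ m) is non-empty for every maximal ideal m of R. -/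
theorem result {R : Type u} [CommRing R]
    (hR : LGRing.IsLGRing R) (M : Type u) [AddCommGroup M] [Module R M] [Module.Finite R M] [Module.Projective R M]
    (U : (Spec (CommRingCat.of (SymmetricAlgebra R (Module.Dual R M)))).Opens)
    (hU : IsCompact (U : Set ↥(Spec (CommRingCat.of (SymmetricAlgebra R (Module.Dual R M)))))) :
    (∃ φ : Module.Dual R M →ₗ[R] R,
      Set.range (Spec.map (CommRingCat.ofHom (SymmetricAlgebra.lift φ).toRingHom)).base ⊆
        (U : Set ↥(Spec (CommRingCat.of (SymmetricAlgebra R (Module.Dual R M)))))) ↔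
    ∀ (m : Ideal R) [m.IsMaximal], ∃ φ : Module.Dual R M →ₗ[R] (R ⧸ m),
      Set.range (Spec.map (CommRingCat.ofHom (SymmetricAlgebra.lift φ).toRingHom)).base ⊆
        (U : Set ↥(Spec (CommRingCat.of (SymmetricAlgebra R (Module.Dual R M))))) := by
  obtain ⟨t, ht'⟩ := LGLib.exists_finset (S := SymmetricAlgebra R (Module.Dual R M)) _ U.2 hU
  have ht : (U : Set ↥(Spec (CommRingCat.of (SymmetricAlgebra R (Module.Dual R M))))) = (PrimeSpectrum.zeroLocus (t : Set (SymmetricAlgebra R (Module.Dual R M))))ᶜ := ht'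
  constructor
  · rintro ⟨φ, hφ⟩ m hm
    refine ⟨(Algebra.linearMap R (R ⧸ m)) ∘ₗ φ, ?_⟩
    have hφ' := (LGLib.range_comap_subset_iff (SymmetricAlgebra.lift φ).toRingHom
      (t : Set (SymmetricAlgebra R (Module.Dual R M)))).1 (ht ▸ hφ)
    refine ht ▸ (LGLib.range_comap_subset_iff
      (SymmetricAlgebra.lift ((Algebra.linearMap R (R ⧸ m)) ∘ₗ φ)).toRingHom
      (t : Set (SymmetricAlgebra R (Module.Dual R M)))).2 ?_
    have he : (Algebra.ofId R (R ⧸ m)).comp (SymmetricAlgebra.lift φ) =
        SymmetricAlgebra.lift ((Algebra.linearMap R (R ⧸ m)) ∘ₗ φ) := by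
      refine SymmetricAlgebra.algHom_ext (LinearMap.ext fun d => ?_)
      show Algebra.ofId R (R ⧸ m) (SymmetricAlgebra.lift φ (SymmetricAlgebra.ι R _ d)) =
        SymmetricAlgebra.lift _ (SymmetricAlgebra.ι R _ d)
      simp [SymmetricAlgebra.lift_ι_apply]
    rw [← he]
    have := congrArg (Ideal.map (Algebra.ofId R (R ⧸ m)).toRingHom) hφ'
    rw [Ideal.map_span, Ideal.map_top, ← Set.image_comp] at this
    exact this
  · intro h
    obtain ⟨φ, hφ⟩ := LGLib.exists_section hR t fun m hm => by
      obtain ⟨φ, hφ⟩ := h m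
      have hs := (LGLib.range_comap_subset_iff (SymmetricAlgebra.lift φ).toRingHom
        (t : Set (SymmetricAlgebra R (Module.Dual R M)))).1 (ht ▸ hφ)
      obtain ⟨f, hf, hne⟩ := (LGLib.span_eq_top_iff_exists
        (Ideal.Quotient.maximal_ideal_iff_isField_quotient m |>.1 hm) _ _).1 hs
      exact ⟨φ, f, hf, hne⟩
    refine ⟨φ, ?_⟩
    exact ht ▸ (LGLib.range_comap_subset_iff (SymmetricAlgebra.lift φ).toRingHom
      (t : Set (SymmetricAlgebra R (Module.Dual R M)))).2 hφ

end Groth.Agent.S16600
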