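import Groth.Statements.S16601
import Groth.Agent.LGLib.Points

set_option autoImplicit false
open AlgebraicGeometry
universe u
open LGRing

namespace Groth.Agent.S16601

open Groth.Agent

/-- Let R be an LG-ring whose residue fields at maximal ideals are all infinite (R satisfies the
primitive criterion), M a finite locally free R-module with vector bundle W(M) = Spec Sym(M^∨), and
U ⊆ W(M) an open quasi-compact subscheme which is fibrewise dense over the closed points of Spec R
(for every maximal ideal m, the trace of U on the closed fibre Spec (Sym(M^∨) ⧸ m Sym(M^∨)) is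
dense). Then U has an R-valued point. (The source asks U to be R-dense in W(M); only density of the
closed fibres is used, which is what is assumed here.) -/
theorem result {R : Type u} [CommRing R]
    (hR : LGRing.IsLGRing R) (hinf : ∀ (m : Ideal R) [m.IsMaximal], Infinite (R ⧸ m))
    (M : Type u) [AddCommGroup M] [Module R M] [Module.Finite R M] [Module.Projective R M]
    (U : (Spec (CommRingCat.of (SymmetricAlgebra R (Module.Dual R M)))).Opens)
    (hU : IsCompact (U : Set ↥(Spec (CommRingCat.of (SymmetricAlgebra R (Module.Dual R M))))))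
    (hdense : ∀ (m : Ideal R) [m.IsMaximal],
      Dense ((Spec.map (CommRingCat.ofHom (Ideal.Quotient.mk
        (Ideal.map (algebraMap R (SymmetricAlgebra R (Module.Dual R M))) m)))).base ⁻¹'
          (U : Set ↥(Spec (CommRingCat.of (SymmetricAlgebra R (Module.Dual R M))))))) :
    ∃ φ : Module.Dual R M →ₗ[R] R,
      Set.range (Spec.map (CommRingCat.ofHom (SymmetricAlgebra.lift φ).toRingHom)).base ⊆
        (U : Set ↥(Spec (CommRingCat.of (SymmetricAlgebra R (Module.Dual R M))))) := by
  obtain ⟨t, ht'⟩ := LGLib.exists_finset (S := SymmetricAlgebra R (Module.Dual R M)) _ U.2 hU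
  have ht : (U : Set ↥(Spec (CommRingCat.of (SymmetricAlgebra R (Module.Dual R M))))) = (PrimeSpectrum.zeroLocus (t : Set (SymmetricAlgebra R (Module.Dual R M))))ᶜ := ht'
  obtain ⟨φ, hφ⟩ := LGLib.exists_section hR t fun m hm => by
    have := hinf m
    set I := Ideal.map (algebraMap R (SymmetricAlgebra R (Module.Dual R M))) m
    have hI : I ≠ ⊤ := by
      intro htop
      have h1 := congrArg (Ideal.map (SymmetricAlgebra.algebraMapInv (R := R) (M := Module.Dual R M))) htop
      rw [Ideal.map_top, ← Ideal.map_coe, Ideal.map_map] at h1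
      rw [show ((SymmetricAlgebra.algebraMapInv : SymmetricAlgebra R (Module.Dual R M) →ₐ[R] R) :
          SymmetricAlgebra R (Module.Dual R M) →+* R).comp (algebraMap R _) = RingHom.id R from
        AlgHom.comp_algebraMap _, Ideal.map_id] at h1
      exact hm.ne_top h1
    have : Nontrivial (SymmetricAlgebra R (Module.Dual R M) ⧸ I) := Ideal.Quotient.nontrivial_iff.2 hI
    haveI : Nonempty ↥(Spec (CommRingCat.of (SymmetricAlgebra R (Module.Dual R M) ⧸ I))) :=
      inferInstanceAs (Nonempty (PrimeSpectrum (SymmetricAlgebra R (Module.Dual R M) ⧸ I)))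
    obtain ⟨q, hq⟩ := (hdense m).nonempty
    rw [ht] at hq
    obtain ⟨f, hf, hne⟩ : ∃ f ∈ t, Ideal.Quotient.mk I f ∉ q.asIdeal := by
      by_contra hcon
      push Not at hcon
      exact hq fun f hf => hcon f hf
    obtain ⟨φ, hφ⟩ := LGLib.exists_nonvanishing m (f := f) fun hmem =>
      hne (by rw [Ideal.Quotient.eq_zero_iff_mem.2 hmem]; exact zero_mem _)
    exact ⟨φ, f, hf, hφ⟩
  refine ⟨φ, ?_⟩
  exact ht ▸ (LGLib.range_comap_subset_iff (SymmetricAlgebra.lift φ).toRingHom
    (t : Set (SymmetricAlgebra R (Module.Dual R M)))).2 hφ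

end Groth.Agent.S16601
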