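import Groth.Statements.S16602
import Groth.Agent.LGLib.Surj

set_option autoImplicit false
universe u v w
open Brauer

namespace Groth.Agent.S16602

open Groth.Agent

set_option backward.isDefEq.respectTransparency false

/-- Let R be an LG-ring with Spec R connected and A an Azumaya R-algebra. Then any two indecomposable
finitely generated projective left A-modules are isomorphic (a module is indecomposable when it is
non-zero and the only idempotents of its endomorphism ring are 0 and 1). (This extends the semilocal
case.) -/
theorem result {R : Type u} [CommRing R]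
    (hR : LGRing.IsLGRing R) [ConnectedSpace (PrimeSpectrum R)] {A : Type v} [Ring A] [Algebra R A] [IsAzumaya R A]
    (P Q : Type w) [AddCommGroup P] [Module A P] [Module.Finite A P] [Module.Projective A P] [Nontrivial P]
    [AddCommGroup Q] [Module A Q] [Module.Finite A Q] [Module.Projective A Q] [Nontrivial Q]
    (hP : ∀ e : Module.End A P, IsIdempotentElem e → e = 0 ∨ e = 1)
    (hQ : ∀ e : Module.End A Q, IsIdempotentElem e → e = 0 ∨ e = 1) : Nonempty (P ≃ₗ[A] Q) := by
  letI : Module R P := Module.compHom P (algebraMap R A)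
  letI : Module R Q := Module.compHom Q (algebraMap R A)
  haveI : IsScalarTower R A P := ⟨fun r a x => by rw [Algebra.smul_def, mul_smul]; rfl⟩
  haveI : IsScalarTower R A Q := ⟨fun r a x => by rw [Algebra.smul_def, mul_smul]; rfl⟩
  obtain ⟨_, _⟩ := LGLib.finite_projective_restrict (R := R) (A := A) P
  obtain ⟨_, _⟩ := LGLib.finite_projective_restrict (R := R) (A := A) Q
  haveI := Module.finitePresentation_of_projective R P
  haveI := Module.finitePresentation_of_projective R Q
  have hcP : ∀ p q : PrimeSpectrum R, Module.rankAtStalk P p = Module.rankAtStalk P q :=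
    fun p q => Module.isLocallyConstant_rankAtStalk.apply_eq_of_preconnectedSpace p q
  have hcQ : ∀ p q : PrimeSpectrum R, Module.rankAtStalk Q p = Module.rankAtStalk Q q :=
    fun p q => Module.isLocallyConstant_rankAtStalk.apply_eq_of_preconnectedSpace p q
  have key : ∀ (X Y : Type w) [AddCommGroup X] [Module A X] [Module R X] [IsScalarTower R A X] [Module.Finite A X]
      [Module.Projective A X] [AddCommGroup Y] [Module A Y] [Module R Y] [IsScalarTower R A Y] [Module.Finite A Y]
      [Module.Projective A Y] [Nontrivial Y], (∀ e : Module.End A X, IsIdempotentElem e → e = 0 ∨ e = 1) →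
      (∀ p : PrimeSpectrum R, Module.rankAtStalk Y p ≤ Module.rankAtStalk X p) → Nonempty (X ≃ₗ[A] Y) := by
    intro X Y _ _ _ _ _ _ _ _ _ _ _ _ _ hX hle
    obtain ⟨f, hf⟩ := LGLib.exists_surjective_of_rank_le (A := A) hR X Y fun m _ => hle _
    obtain ⟨s, hs⟩ := Module.projective_lifting_property f (LinearMap.id : Y →ₗ[A] Y) hf
    have hs' : ∀ y, f (s y) = y := fun y => LinearMap.congr_fun hs y
    rcases hX (s ∘ₗ f) (LinearMap.ext fun x => by simp [hs']) with h | h
    · obtain ⟨y, hy⟩ := exists_ne (0 : Y)
      obtain ⟨x, rfl⟩ := hf y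
      have h1 : s (f x) = 0 := LinearMap.congr_fun h x
      exact absurd (by rw [← hs' (f x), h1, map_zero]) hy
    · exact ⟨LinearEquiv.ofBijective f
        ⟨Function.LeftInverse.injective (g := s) fun x => LinearMap.congr_fun h x, hf⟩⟩
  obtain ⟨p₀⟩ : Nonempty (PrimeSpectrum R) := inferInstance
  rcases le_total (Module.rankAtStalk Q p₀) (Module.rankAtStalk P p₀) with h | h
  · exact key P Q hP fun p => by rw [hcQ p p₀, hcP p p₀]; exact h
  · obtain ⟨e⟩ := key Q P hQ fun p => by rw [hcQ p p₀, hcP p p₀]; exact h
    exact ⟨e.symm⟩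

end Groth.Agent.S16602
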