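import Groth.Statements.S16607
import Groth.Agent.LGLib.Idem

set_option autoImplicit false
universe u v
open Brauer

namespace Groth.Agent.S16607

open Groth.Agent

/-- Let R be an LG-ring, A and B Azumaya R-algebras and n ≥ 1. If Mₙ(A) ≅ Mₙ(B) as R-algebras then A ≅ B
as R-algebras (cancellation of Azumaya algebras). -/
theorem result {R : Type u} [CommRing R]
    (hR : LGRing.IsLGRing R) (A B : Type v) [Ring A] [Algebra R A] [IsAzumaya R A] [Ring B] [Algebra R B]
    [IsAzumaya R B] (n : ℕ) (hn : 0 < n)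
    (e : Matrix (Fin n) (Fin n) A ≃ₐ[R] Matrix (Fin n) (Fin n) B) : Nonempty (A ≃ₐ[R] B) := by
  classical
  haveI : NeZero n := ⟨hn.ne'⟩
  haveI : FaithfulSMul R (Fin n → R) := ⟨fun {a b} h => by simpa using congrFun (h (fun _ => 1)) ⟨0, hn⟩⟩
  refine LGLib.nonempty_algEquiv_of_brauer hR A B (fun m hm => ?_) (Fin n → R) (Fin n → R)
    (((Algebra.TensorProduct.congr AlgEquiv.refl Matrix.toLinAlgEquiv'.symm).trans
      (matrixEquivTensor (Fin n) R A).symm).trans (e.trans ((matrixEquivTensor (Fin n) R B).trans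
        (Algebra.TensorProduct.congr AlgEquiv.refl Matrix.toLinAlgEquiv'))))
  have h := congrFun (Module.rankAtStalk_eq_of_equiv (M := Matrix (Fin n) (Fin n) A)
    (N := Matrix (Fin n) (Fin n) B) e.toLinearEquiv) ⟨m, hm.isPrime'⟩
  have := PrimeSpectrum.nontrivial ⟨m, hm.isPrime'⟩
  rw [congrFun (Module.rankAtStalk_eq_of_equiv (matrixEquivTensor (Fin n) R A).toLinearEquiv) _,
    congrFun (Module.rankAtStalk_eq_of_equiv (matrixEquivTensor (Fin n) R B).toLinearEquiv) _,
    Module.rankAtStalk_tensorProduct, Module.rankAtStalk_tensorProduct, Pi.mul_apply, Pi.mul_apply,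
    Module.rankAtStalk_eq_finrank_of_free (M := Matrix (Fin n) (Fin n) R)] at h
  simp only [Pi.natCast_apply, Module.finrank_matrix, Fintype.card_fin, Module.finrank_self, mul_one, Nat.cast_id] at h
  exact Nat.eq_of_mul_eq_mul_right (Nat.mul_pos hn hn) h

end Groth.Agent.S16607
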