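import Groth.Statements.S16619
import Groth.Agent.AzumayaAlg.Corner

set_option autoImplicit false
open scoped TensorProduct
universe u
open Brauer

namespace Groth.Agent.S16619

open Groth.Agent TensorProduct

set_option backward.isDefEq.respectTransparency false

section
variable {R : Type u} [CommRing R] {M : Type u} [AddCommGroup M] [Module R M] [Module.Finite R M] [Module.Projective R M]

/-- The range and kernel of an idempotent endomorphism. -/
lemma projective_range (q : M →ₗ[R] M) (hq : ∀ x, q (q x) = q x) :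
    Module.Projective R (LinearMap.range q) ∧ Module.Finite R (LinearMap.range q) := by
  refine ⟨Module.Projective.of_split (LinearMap.range q).subtype q.rangeRestrict ?_,
    Module.Finite.of_surjective q.rangeRestrict q.surjective_rangeRestrict⟩
  refine LinearMap.ext fun x => Subtype.ext ?_
  obtain ⟨y, hy⟩ := x.2
  show q (x : M) = x
  rw [← hy, hq]

/-- Over a connected base a nonzero finite projective module has positive rank everywhere. -/
lemma rank_pos [ConnectedSpace (PrimeSpectrum R)] [Nontrivial M] (p : PrimeSpectrum R) :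
    0 < Module.rankAtStalk M p := by
  haveI := Module.finitePresentation_of_projective R M
  refine Nat.pos_of_ne_zero fun h => not_subsingleton M ?_
  refine (Module.rankAtStalk_eq_zero_iff_subsingleton (R := R) (M := M)).1 (funext fun q => ?_)
  rw [Pi.zero_apply, ← h]
  exact Module.isLocallyConstant_rankAtStalk.apply_eq_of_preconnectedSpace q p

end

/-- The projection onto a corner. -/
abbrev proj (R : Type u) [CommRing R] {A : Type u} [Ring A] [Algebra R A] (e : A) : A →ₗ[R] A :=
  LinearMap.mulLeft R e ∘ₗ LinearMap.mulRight R e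

lemma proj_proj {R : Type u} [CommRing R] {A : Type u} [Ring A] [Algebra R A] {e : A} (he : IsIdempotentElem e)
    (x : A) : proj R e (proj R e x) = proj R e x := by
  show e * (e * (x * e) * e) = e * (x * e)
  rw [← mul_assoc, ← mul_assoc e e, he.eq, mul_assoc, mul_assoc x, he.eq]

/-- Let R be a connected commutative ring. Then every class of the Brauer group of R is represented by
an Azumaya algebra B with idemp(B) = {0, 1}: for every Azumaya R-algebra A there are such a B and
faithfully projective R-modules P, Q with A ⊗_R End_R(P) ≅ B ⊗_R End_R(Q) as R-algebras. -/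
theorem result {R : Type u} [CommRing R]
    [ConnectedSpace (PrimeSpectrum R)] (A : Type u) [Ring A] [Algebra R A] [IsAzumaya R A] :
    ∃ (B : Type u) (_ : Ring B) (_ : Algebra R B) (_ : IsAzumaya R B) (P Q : Type u) (_ : AddCommGroup P)
      (_ : Module R P) (_ : AddCommGroup Q) (_ : Module R Q),
      (∀ b : B, IsIdempotentElem b → b = 0 ∨ b = 1) ∧ Module.Finite R P ∧ Module.Projective R P ∧
      FaithfulSMul R P ∧ Module.Finite R Q ∧ Module.Projective R Q ∧ FaithfulSMul R Q ∧
      Nonempty (A ⊗[R] Module.End R P ≃ₐ[R] B ⊗[R] Module.End R Q) := by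
  classical
  obtain ⟨p₀⟩ : Nonempty (PrimeSpectrum R) := inferInstance
  haveI : Nontrivial R := PrimeSpectrum.nontrivial p₀
  haveI : Nontrivial A := by
    by_contra h
    rw [not_nontrivial_iff_subsingleton] at h
    exact one_ne_zero (α := R) (eq_of_smul_eq_smul (α := A) fun a => Subsingleton.elim _ _)
  have hex : ∃ n, ∃ e : A, IsIdempotentElem e ∧ e ≠ 0 ∧ Module.rankAtStalk (LinearMap.range (proj R e)) p₀ = n :=
    ⟨_, 1, IsIdempotentElem.one, one_ne_zero, rfl⟩
  obtain ⟨e, he, he0, hn⟩ := Nat.find_spec hex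
  letI : Algebra R he.Corner := AzumayaAlg.cornerAlgebra he
  have hsmul : ∀ (r : R) (x : he.Corner), (r • x).1 = r • x.1 := fun r x => by
    show r • e * x.1 = r • x.1
    rw [smul_mul_assoc, ((Subsemigroup.mem_corner_iff he).1 x.2).1]
  obtain ⟨ι, π, hπι, hιπ, h1e, hmul, hl, hr⟩ := AzumayaAlg.exists_corner_maps he hsmul
  have hinj : Function.Injective ι := Function.LeftInverse.injective (LinearMap.congr_fun hπι)
  haveI : Module.Projective R he.Corner := Module.Projective.of_split ι π hπι
  haveI : Module.Finite R he.Corner :=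
    Module.Finite.of_surjective π fun x => ⟨ι x, LinearMap.congr_fun hπι x⟩
  haveI : Nontrivial he.Corner := ⟨⟨1, 0, fun h => he0 (by rw [← h1e, h, map_zero])⟩⟩
  haveI : FaithfulSMul R he.Corner := AzumayaAlg.faithfulSMul_of_rankAtStalk_pos (R := R) he.Corner rank_pos
  haveI : IsAzumaya R he.Corner := AzumayaAlg.isAzumaya_corner ι π hπι hιπ hmul hl hr
  set M := LinearMap.range (LinearMap.mulRight R e)
  have hMi : ∀ x, LinearMap.mulRight R e (LinearMap.mulRight R e x) = LinearMap.mulRight R e x := fun x => by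
    simp [mul_assoc, he.eq]
  obtain ⟨hMp, hMf⟩ := projective_range _ hMi
  haveI : Nontrivial M := ⟨⟨⟨e, e, he.eq⟩, 0, fun h => he0 (congrArg Subtype.val h)⟩⟩
  haveI : FaithfulSMul R M := AzumayaAlg.faithfulSMul_of_rankAtStalk_pos (R := R) M rank_pos
  obtain ⟨ρ⟩ := AzumayaAlg.exists_algEquiv_end ι π hπι he hιπ h1e hmul hl hr
  refine ⟨he.Corner, inferInstance, inferInstance, inferInstance, he.Corner, M, inferInstance, inferInstance,
    inferInstance, inferInstance, fun b hb => ?_, inferInstance, inferInstance, inferInstance, hMf, hMp,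
    inferInstance, ⟨?_⟩⟩
  · by_contra hcon
    push Not at hcon
    obtain ⟨hb0, hb1⟩ := hcon
    have hb' : IsIdempotentElem (ι b) := by rw [IsIdempotentElem, ← hmul, hb.eq]
    have hb'0 : ι b ≠ 0 := fun h => hb0 (hinj (by rw [h, map_zero]))
    set q := proj R b with hqdef
    have hq : ∀ x, q (q x) = q x := proj_proj hb
    obtain ⟨hRp, hRf⟩ := projective_range q hq
    have hK : LinearMap.range (LinearMap.id - q) = LinearMap.ker q := by
      ext x
      refine ⟨?_, fun hx => ⟨x, ?_⟩⟩
      · rintro ⟨y, rfl⟩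
        simp [hq]
      · simp [LinearMap.mem_ker.1 hx]
    obtain ⟨hKp, hKf⟩ := projective_range (LinearMap.id - q) fun x => by simp [hq]
    rw [hK] at hKp hKf
    haveI : Nontrivial (LinearMap.ker q) := ⟨⟨⟨1 - b, by
      show b * ((1 - b) * b) = 0
      rw [sub_mul, one_mul, hb.eq, sub_self, mul_zero]⟩, 0, fun h =>
        hb1 (sub_eq_zero.1 (congrArg Subtype.val h)).symm⟩⟩
    have hpos := rank_pos (M := LinearMap.ker q) p₀
    have hcompl : IsCompl (LinearMap.range q) (LinearMap.ker q) := by
      refine IsCompl.of_eq ?_ ?_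
      · refine eq_bot_iff.2 fun x ⟨⟨y, hy⟩, hx⟩ => ?_
        rw [Submodule.mem_bot, ← hy, ← hq, hy]
        exact LinearMap.mem_ker.1 hx
      · refine eq_top_iff.2 fun x _ => Submodule.mem_sup.2 ⟨q x, ⟨x, rfl⟩, x - q x, ?_, add_sub_cancel _ _⟩
        rw [LinearMap.mem_ker, map_sub, hq, sub_self]
    have hsum := congrFun (Module.rankAtStalk_eq_of_equiv
      (Submodule.prodEquivOfIsCompl _ _ hcompl)) p₀
    rw [Module.rankAtStalk_prod, Pi.add_apply] at hsum
    have hBe : Module.rankAtStalk (LinearMap.range (proj R e)) p₀ = Module.rankAtStalk he.Corner p₀ := by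
      refine (congrFun (Module.rankAtStalk_eq_of_equiv (LinearEquiv.ofBijective
        (ι.codRestrict (LinearMap.range (proj R e)) fun x => ⟨ι x, by
          show e * (ι x * e) = ι x
          rw [hr, hl]⟩) ⟨fun x y h => hinj (congrArg Subtype.val h), fun z => ?_⟩)) p₀).symm
      obtain ⟨w, hw⟩ := z.2
      exact ⟨π w, Subtype.ext ((hιπ w).trans ((mul_assoc e w e).trans hw))⟩
    have hBb : Module.rankAtStalk (LinearMap.range (proj R (ι b))) p₀ = Module.rankAtStalk (LinearMap.range q) p₀ := by
      have hqι : ∀ x, ι (q x) = proj R (ι b) (ι x) := fun x => by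
        show ι (b * (x * b)) = ι b * (ι x * ι b)
        rw [hmul, hmul]
      refine (congrFun (Module.rankAtStalk_eq_of_equiv (LinearEquiv.ofBijective
        ((ι ∘ₗ (LinearMap.range q).subtype).codRestrict (LinearMap.range (proj R (ι b))) fun x => by
          obtain ⟨y, hy⟩ := x.2
          exact ⟨ι y, by rw [← hqι, hy]; rfl⟩)
        ⟨fun x y h => Subtype.ext (hinj (congrArg Subtype.val h)), fun z => ?_⟩)) p₀).symm
      obtain ⟨w, hw⟩ := z.2
      refine ⟨⟨q (π w), ⟨π w, rfl⟩⟩, Subtype.ext ?_⟩
      show ι (q (π w)) = z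
      rw [hqι, hιπ, ← hw]
      show ι b * (e * w * e * ι b) = ι b * (w * ι b)
      rw [← mul_assoc, ← mul_assoc, ← mul_assoc, hr, mul_assoc (ι b * w), hl, mul_assoc]
    refine Nat.find_min hex (m := Module.rankAtStalk (LinearMap.range (proj R (ι b))) p₀) ?_ ⟨ι b, hb', hb'0, rfl⟩
    rw [← hn, hBe, hBb, ← hsum]
    exact Nat.lt_add_of_pos_right hpos
  · exact (Algebra.TensorProduct.congr AlgEquiv.refl
      (AlgEquiv.ofBijective (AlgHom.mulLeftRight R he.Corner) IsAzumaya.bij).symm).trans
      ((Algebra.TensorProduct.congr AlgEquiv.refl (Algebra.TensorProduct.comm R he.Corner he.Cornerᵐᵒᵖ)).trans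
      ((Algebra.TensorProduct.assoc R R R A he.Cornerᵐᵒᵖ he.Corner).symm.trans
      ((Algebra.TensorProduct.congr ρ AlgEquiv.refl).trans (Algebra.TensorProduct.comm R _ _))))

end Groth.Agent.S16619
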