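import Groth.Statements.S16624
import Groth.Agent.QuotRepLib.UnionProj

set_option autoImplicit false
universe u
open FGA

namespace Groth.Agent.S16624

open AlgebraicGeometry CategoryTheory in
/-- Let S be a Noetherian scheme, n and r natural numbers, l an integer, and E the module O^r ⊗ O(-l) on
projective n-space P^n_S over S. The Quot functor of E over S — sending a locally Noetherian
S-scheme T to the set of submodules K of E_T (the pullback of E to P^n_S ×_S T) whose quotient E_T/K
is coherent and flat over T, with pullback of submodules as transition maps — is represented by an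
S-scheme Q with a universal submodule, and Q is a disjoint union of S-schemes each admitting a
closed immersion over S into some projective space P^m_S. (The source states this for each fixed
Hilbert polynomial; the indexing of the pieces by Hilbert polynomials is not recorded here.) -/
theorem result (S : Scheme.{u}) [IsNoetherian S]
    (n r : ℕ) (l : ℤ) :
    ∃ (Q : Over S) (K : FGA.QuotSet (CohB1.ProjSpaceOver.toBase n S)
        (CohB1.tensorMod (FlatMod.freeMod (CohB1.ProjSpaceOver n S) r) (Twist.twistOver n S (-l))) Q),
      FGA.QuotRepresentedBy (CohB1.ProjSpaceOver.toBase n S)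
        (CohB1.tensorMod (FlatMod.freeMod (CohB1.ProjSpaceOver n S) r) (Twist.twistOver n S (-l))) Q K ∧
      ∃ (ι : Type u) (P : ι → Scheme.{u}) (e : (∐ P) ≅ Q.left) (m : ι → ℕ)
        (c : ∀ a, P a ⟶ CohB1.ProjSpaceOver (m a) S),
        ∀ a, IsClosedImmersion (c a) ∧
          c a ≫ CohB1.ProjSpaceOver.toBase (m a) S = Limits.Sigma.ι P a ≫ e.hom ≫ Q.hom := by
  haveI : IsProper (CohB1.ProjSpaceOver.toBase n S) := BCLib.isProper_toBase n S
  haveI : IsLocallyNoetherian (CohB1.ProjSpaceOver n S) :=
    LocallyOfFiniteType.isLocallyNoetherian (CohB1.ProjSpaceOver.toBase n S)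
  let P := CohB1.ProjSpaceOver n S
  have hE : Coh.IsCoh (CohB1.tensorMod (FlatMod.freeMod P r) (Twist.twistOver n S (-l))) :=
    CMRegLib.isCoh_tensor_inv (QuotRep.isCoh_freeMod' P r) (GenSeesawLib.isInvertible_twistOver n S (-l))
  let M := Twist.twistOver n S (-l)
  let e : (∐ fun _ : Fin r => QuotRep.twX (𝟙 P) (-l)) ≅ CohB1.tensorMod (FlatMod.freeMod P r) M :=
    Limits.Sigma.mapIso (fun _ => (Scheme.Modules.pullbackId P).app M ≪≫ (AmpleLib.unitL M).symm) ≪≫
      (Limits.PreservesCoproduct.iso (CurveLib.tensR M) fun _ : Fin r => Coh.structureModule P).symm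
  exact QuotRep.exists_union_congr (Category.id_comp _) (QuotRep.exists_quot_union (𝟙 P) hE r (-l) e.hom)

end Groth.Agent.S16624
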