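import Groth.Statements.S16629
import Groth.Agent.GrassShLib.Flag

set_option autoImplicit false
universe u
open Grass

namespace Groth.Agent.S16629

open CategoryTheory CategoryTheory.Limits AlgebraicGeometry
open Groth.Agent.GrassShLib Groth.Agent.FlagLib

set_option backward.isDefEq.respectTransparency false
set_option linter.style.haveILetI false

section

variable {S : Scheme.{u}} (V : S.Modules) {q : ℕ}

theorem cls_eq_iff_kernelSubobject {T : Scheme.{u}} {g : T ⟶ S} {A B : QData V q g} :
    A.cls = B.cls ↔ kernelSubobject A.s = kernelSubobject B.s := by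
  haveI := A.epi
  haveI := B.epi
  constructor
  · intro h
    obtain ⟨e, he⟩ := exists_iso_of_kerS_eq A.s B.s (congrArg Subtype.val h)
    rw [← he, kernelSubobject_comp_mono]
  · intro h
    have h1 : ∀ (A B : QData V q g), kernelSubobject A.s = kernelSubobject B.s → kernel.ι A.s ≫ B.s = 0 := by
      intro A B h
      rw [← kernelSubobject_arrow' A.s, Category.assoc,
        ← Subobject.ofLE_arrow h.le, Category.assoc, kernelSubobject_arrow_comp, comp_zero, comp_zero]
    obtain ⟨u, hu⟩ := CokernelCofork.IsColimit.desc'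
      (Abelian.epiIsCokernelOfKernel (KernelFork.ofι (kernel.ι A.s) (kernel.condition _)) (kernelIsKernel A.s))
      B.s (h1 A B h)
    obtain ⟨w, hw⟩ := CokernelCofork.IsColimit.desc'
      (Abelian.epiIsCokernelOfKernel (KernelFork.ofι (kernel.ι B.s) (kernel.condition _)) (kernelIsKernel B.s))
      A.s (h1 B A h.symm)
    change A.s ≫ u = B.s at hu
    change B.s ≫ w = A.s at hw
    exact cls_eq_of_iso ⟨u, w, by rw [← cancel_epi A.s, reassoc_of% hu, hw, Category.comp_id],
      by rw [← cancel_epi B.s, reassoc_of% hw, hu, Category.comp_id]⟩ hu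

theorem kernelSubobject_cokernel_π {T : Scheme.{u}} {M : T.Modules} (K : Subobject M) :
    kernelSubobject (cokernel.π K.arrow) = K := by
  have h := ((ShortComplex.mk K.arrow (cokernel.π K.arrow) (cokernel.condition _)).exact_iff_image_eq_kernel.1
    (ShortComplex.exact_cokernel _))
  rw [← h, imageSubobject_mono, Subobject.mk_arrow]

theorem imageSubobject_pull {T T' : Scheme.{u}} (m : T' ⟶ T) {g : T ⟶ S} {g' : T' ⟶ S} (hm : m ≫ g = g')
    (D : QData V q g) (K : Subobject ((Scheme.Modules.pullback g).obj V)) (hK : kernelSubobject D.s = K)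
    (c : (Scheme.Modules.pullback m).obj ((Scheme.Modules.pullback g).obj V) ≅ (Scheme.Modules.pullback g').obj V)
    (hc : c.hom ≫ qb D.s hm = (Scheme.Modules.pullback m).map D.s) :
    imageSubobject ((Scheme.Modules.pullback m).map K.arrow ≫ c.hom) = kernelSubobject (D.bc m hm).s := by
  subst hK
  haveI := D.epi
  haveI : (Scheme.Modules.pullback m).IsLeftAdjoint :=
    (Scheme.Modules.pullbackPushforwardAdjunction m).isLeftAdjoint
  let S₀ := ShortComplex.mk (kernel.ι D.s) D.s (kernel.condition _)
  have hl := CokernelCofork.mapIsColimit _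
    (Abelian.epiIsCokernelOfKernel (KernelFork.ofι (kernel.ι D.s) (kernel.condition _)) (kernelIsKernel D.s))
    (Scheme.Modules.pullback m)
  have hex : (S₀.map (Scheme.Modules.pullback m)).Exact := ShortComplex.exact_of_g_is_cokernel _ hl
  have hw : ((Scheme.Modules.pullback m).map (kernelSubobject D.s).arrow ≫ c.hom) ≫ (D.bc m hm).s = 0 := by
    show _ ≫ qb D.s hm = 0
    rw [Category.assoc, hc, ← Functor.map_comp, kernelSubobject_arrow_comp, Functor.map_zero]
  refine ((ShortComplex.mk _ _ hw).exact_iff_image_eq_kernel.1 ?_)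
  refine (ShortComplex.exact_iff_of_iso (S₁ := S₀.map (Scheme.Modules.pullback m)) ?_).1 hex
  exact ShortComplex.isoMk ((Scheme.Modules.pullback m).mapIso (kernelSubobjectIso D.s).symm) c (Iso.refl _)
    (by
      show (Scheme.Modules.pullback m).map (kernelSubobjectIso D.s).inv ≫
        (Scheme.Modules.pullback m).map (kernelSubobject D.s).arrow ≫ c.hom =
          (Scheme.Modules.pullback m).map (kernel.ι D.s) ≫ c.hom
      rw [← Category.assoc, ← Functor.map_comp, kernelSubobject_arrow'])
    (by
      show c.hom ≫ (D.bc m hm).s = (Scheme.Modules.pullback m).map D.s ≫ 𝟙 _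
      rw [Category.comp_id]
      exact hc)

end

open AlgebraicGeometry CategoryTheory CategoryTheory.Limits in
/-- Let S be a Noetherian scheme, V a finite locally free O_S-module of rank n, and 0 < q < n. The
Grassmannian functor Gr(q, V) — sending an S-scheme T to the set of submodules K of V_T (the
pullback of V to S ×_S T) whose quotient V_T/K is finite locally free of rank q, with pullback of
submodules as transition maps — is represented by an S-scheme G carrying a universal such submodule;
and for every O_S-module L that is a q-th exterior power of V and every projective bundle π : P → S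
of L (an invertible quotient O_P(1) of π^*L with the universal property for invertible quotients of
pullbacks of L), there is a closed immersion G → P over S. (In the source the closed immersion is
the Plücker morphism sending a quotient to its top exterior power; here it is only asserted to
exist.) -/
theorem result (S : Scheme.{u}) [IsNoetherian S]
    (n q : ℕ) (hq : 0 < q) (hqn : q < n) (V : S.Modules) (hV : FlatMod.IsFinLocFreeOfRank n V) :
    ∃ (G : Over S) (K : Subobject (FGA.ET (𝟙 S) V G)),
      FlatMod.IsFinLocFreeOfRank q (cokernel K.arrow) ∧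
      (∀ (T : Over S) (K' : Subobject (FGA.ET (𝟙 S) V T)),
        FlatMod.IsFinLocFreeOfRank q (cokernel K'.arrow) → ∃! g : T ⟶ G, FGA.quotPull (𝟙 S) V g K = K') ∧
      (∀ (L : S.Modules), ExtPow.IsExtPow q V L →
        ∀ (P : Scheme.{u}) (π : P ⟶ S) (O1 : P.Modules) (u : (Scheme.Modules.pullback π).obj L ⟶ O1),
          KRR.IsProjBundle π L O1 u →
            ∃ c : G.left ⟶ P, IsClosedImmersion c ∧ c ≫ π = G.hom) := by
  haveI : Coh.IsQCoh V := (isCoh_of_rank hV).1
  obtain ⟨G₀, π, Q, u₀, hG⟩ := exists_isGrass V (isCoh_of_rank hV) q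
  let G : Over S := Over.mk π
  let U₀ : QData V q π := ⟨Q, u₀, hG.rank, hG.epi⟩
  have hsnd : ∀ T : Over S, pullback.snd (𝟙 S) T.hom ≫ T.hom = pullback.fst (𝟙 S) T.hom := fun T => by
    rw [← pullback.condition, Category.comp_id]
  let D : QData V q (pullback.fst (𝟙 S) G.hom) := U₀.bc (pullback.snd (𝟙 S) G.hom) (hsnd G)
  let K : Subobject (FGA.ET (𝟙 S) V G) := kernelSubobject D.s
  haveI := D.epi
  refine ⟨G, K, ?_, fun T K' hK' => ?_, fun L hL P p O1 v hP => ?_⟩
  · have hex : (ShortComplex.mk K.arrow D.s (kernelSubobject_arrow_comp D.s)).Exact :=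
      (ShortComplex.exact_iff_image_eq_kernel _).2 (by rw [imageSubobject_mono, Subobject.mk_arrow])
    haveI : Epi (ShortComplex.mk K.arrow D.s (kernelSubobject_arrow_comp D.s)).g := D.epi
    have e : cokernel K.arrow ≅ D.L :=
      IsColimit.coconePointUniqueUpToIso (cokernelIsCokernel K.arrow) hex.gIsCokernel
    exact fun x => (D.rank x).imp fun U h => ⟨h.1, h.2.map fun e' => (Scheme.Modules.restrictFunctor U.ι).mapIso e ≪≫ e'⟩
  · let D' : QData V q (pullback.fst (𝟙 S) T.hom) := ⟨_, cokernel.π K'.arrow, hK', inferInstance⟩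
    have key : ∀ g : T ⟶ G, FGA.quotPull (𝟙 S) V g K = K' ↔
        RQ.bc U₀.cls (pullback.snd (𝟙 S) T.hom ≫ g.left)
          (by rw [Category.assoc, show g.left ≫ π = T.hom from Over.w g, hsnd]) = D'.cls := by
      intro g
      have hm := FGA.XTmap_fst (𝟙 S) g
      have h1 : FGA.quotPull (𝟙 S) V g K = kernelSubobject (D.bc (PicF.XTmap (𝟙 S) g) hm).s :=
        imageSubobject_pull V (PicF.XTmap (𝟙 S) g) hm D K rfl (FGA.ETiso (𝟙 S) V g) (by
          simp [FGA.ETiso, qb, Grass.quotBC])
      rw [h1, ← kernelSubobject_cokernel_π K', show cokernel.π K'.arrow = D'.s from rfl,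
        ← cls_eq_iff_kernelSubobject, ← QData.bc_cls, ← QData.bc_cls, RQ.bc_bc]
      refine Iff.of_eq (congrArg (· = D'.cls) (RQ.bc_congr _ ?_ _ _))
      simp [PicF.XTmap, Limits.pullback.map]
    obtain ⟨h, ⟨hh, hcl⟩, huniq⟩ := univ_existsUnique hG D'
    refine ⟨Over.homMk (inv (pullback.snd (𝟙 S) T.hom) ≫ h)
      (show (inv (pullback.snd (𝟙 S) T.hom) ≫ h) ≫ π = T.hom by
        rw [Category.assoc, hh, IsIso.inv_comp_eq, hsnd]), ?_, fun g hg => ?_⟩
    · refine (key _).2 ?_
      rw [← hcl, ← QData.bc_cls]
      refine RQ.bc_congr _ ?_ _ _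
      simp
    · have h1 := (key g).1 hg
      rw [QData.bc_cls] at h1
      refine Over.OverMorphism.ext ?_
      show g.left = inv (pullback.snd (𝟙 S) T.hom) ≫ h
      rw [IsIso.eq_inv_comp]
      exact huniq _ ⟨_, h1⟩
  · haveI := ExtPowLib.isQCoh_of_isExtPow hL
    exact ⟨plMap hG (isCoh_of_rank hV).2 hL (Grass.IsGrass.of_isProjBundle hP),
      isClosedImmersion_plMap hG (isCoh_of_rank hV).2 hL (Grass.IsGrass.of_isProjBundle hP),
      plMap_comp hG (isCoh_of_rank hV).2 hL (Grass.IsGrass.of_isProjBundle hP)⟩

end Groth.Agent.S16629
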