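import Groth.Statements.S1663
import Mathlib
import Groth.Agent.S1607
import Groth.Agent.S0028
import Groth.Agent.RpushLib.ToAb

set_option autoImplicit false
universe u
open CategoryTheory CategoryTheory.Limits AlgebraicGeometry
open Variety

namespace Groth.Agent.S1663

/-- Let X be a scheme whose local rings are Noetherian of Krull dimension at most one, j : U → X the
inclusion of a retrocompact open (j quasi-compact) and F a quasi-coherent O_U-module. Then R^p j_* F
vanishes for all p > 0. -/
theorem result (X : Scheme.{u})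
    (hX : ∀ x : X, IsNoetherianRing (X.presheaf.stalk x) ∧ ringKrullDim (X.presheaf.stalk x) ≤ 1)
    (U : X.Opens) [QuasiCompact U.ι] [HasInjectiveResolutions (U : Scheme.{u}).Modules]
    (F : (U : Scheme.{u}).Modules) (hF : Coh.IsQCoh F) (p : ℕ) (hp : 0 < p) :
    IsZero ((Coh.Rpush U.ι p).obj F) := by
  haveI : IsAffineHom U.ι := ⟨fun W hW => by
    have hc : IsCompact ((U.ι ⁻¹ᵁ W : TopologicalSpace.Opens _) : Set (U : Scheme.{u})) :=
      QuasiCompact.isCompact_preimage _ W.2 hW.isCompact
    haveI : IsAffine W.toScheme := hW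
    have h := Groth.Agent.S1607.result W.toScheme (fun w => by
      have f := (W.stalkIso w).commRingCatIsoToRingEquiv
      obtain ⟨h1, h2⟩ := hX w.1
      haveI := h1
      exact ⟨isNoetherianRing_of_ringEquiv _ f.symm, (ringKrullDim_eq_of_ringEquiv f).le.trans h2⟩)
      (W.ι ⁻¹ᵁ U) ?_
    · rw [← U.ι.isAffineOpen_iff_of_isOpenImmersion, U.ι.image_preimage_eq_opensRange_inf,
        Scheme.Opens.opensRange_ι, inf_comm, ← W.opensRange_ι, ← W.ι.image_preimage_eq_opensRange_inf]
      exact h.image_of_isOpenImmersion W.ι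
    · rw [W.ι.isEmbedding.isCompact_iff]
      have h2 := hc.image U.ι.continuous
      convert h2 using 1
      change (W.ι '' (W.ι ⁻¹' (U : Set X))) = U.ι '' (U.ι ⁻¹' (W : Set X))
      rw [Set.image_preimage_eq_inter_range, Set.image_preimage_eq_inter_range, Scheme.Opens.range_ι,
        Scheme.Opens.range_ι, Set.inter_comm]⟩
  haveI : Coh.IsQCoh F := hF
  let e := Groth.Agent.RpushLib.toAbRpushIso U.ι p
  have h0 : IsZero ((Groth.Agent.QCohLib.toAbF X).obj ((Coh.Rpush U.ι p).obj F)) :=
    (Groth.Agent.S0028.result U.ι F p hp).of_iso (e.app F)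
  rw [IsZero.iff_id_eq_zero] at h0 ⊢
  haveI : (Groth.Agent.QCohLib.toAbF X).Faithful :=
    inferInstanceAs (SheafOfModules.toSheaf.{u} X.ringCatSheaf).Faithful
  apply (Groth.Agent.QCohLib.toAbF X).map_injective
  rw [CategoryTheory.Functor.map_id, CategoryTheory.Functor.map_zero]
  exact h0


end Groth.Agent.S1663
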