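import Groth.Statements.S16631
import Groth.Agent.TFCurvSSLib.Push
-- import your own Groth.Agent.* helpers here

set_option autoImplicit false
set_option backward.isDefEq.respectTransparency false
set_option maxHeartbeats 800000
set_option synthInstance.maxHeartbeats 200000
universe u
open CategoryTheory CategoryTheory.Limits AlgebraicGeometry
open TFCurv

namespace Groth.Agent.S16631

open Groth.Agent CategoryTheory
set_option backward.isDefEq.respectTransparency false

/-- Suppose k is an algebraically closed field and X is an integral proper curve over k (integral,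
proper, of dimension one), with normalisation ν : X~ → X. Given an ample invertible module L on X
and a finite locally free module E of rank n on X~, the direct image ν_*E on X is stable exactly
when E itself is stable. Here stability means stability of pure one-dimensional sheaves measured by
reduced Hilbert polynomials, where E carries the polarisation ν^*L and ν_*E carries L; for an
integral curve this amounts to the slope inequality deg F · rk E < deg E · rk F holding for each
nonzero torsion-free subsheaf F whose rank is smaller, with degrees computed via the Euler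
characteristic, and the condition is independent of which ample polarisation is chosen. -/
theorem result (k : Type u) [Field k] [IsAlgClosed k] (X : Scheme.{u}) [X.Over (Spec (CommRingCat.of k))] [IsIntegral X] [IsProper (X ↘ Spec (CommRingCat.of k))] (hdim : topologicalKrullDim X = 1) [QuasiCompact (X.fromSpecStalk (genericPoint X))] [QuasiSeparated (X.fromSpecStalk (genericPoint X))] (L : X.Modules) (hL : CohB1.IsAmple L) (n : ℕ) (E : (Curv2.normalization X).Modules) (hE : FlatMod.IsFinLocFreeOfRank n E) :
    letI : (Curv2.normalization X).Over (Spec (CommRingCat.of k)) := ⟨Curv2.normalizationι X ≫ X ↘ Spec (CommRingCat.of k)⟩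
    ShStab.IsStable k (Curv2.normalization X) ((Scheme.Modules.pullback (Curv2.normalizationι X)).obj L) E 1 ↔ ShStab.IsStable k X L ((Coh.push (Curv2.normalizationι X)).obj E) 1 := by
    letI : (Curv2.normalization X).Over (Spec (CommRingCat.of k)) :=
      ⟨Curv2.normalizationι X ≫ X ↘ Spec (CommRingCat.of k)⟩
    obtain ⟨hfin, hdom, -, hint, -⟩ := S1585.result k X
    haveI := hfin
    haveI := hdom
    haveI := hint
    haveI : IsProper ((Curv2.normalization X) ↘ Spec (CommRingCat.of k)) :=
      inferInstanceAs (IsProper (Curv2.normalizationι X ≫ (X ↘ Spec (CommRingCat.of k))))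
    haveI := EulerIneqLib.isNoetherian_proper (X := X) k
    haveI := EulerIneqLib.isNoetherian_proper (X := Curv2.normalization X) k
    obtain ⟨_, -, hpre, hiso⟩ := NormUPLib.generic_facts (X := X)
    have hν : Curv2.normalizationι X ≫ (X ↘ Spec (CommRingCat.of k)) =
        (Curv2.normalization X) ↘ Spec (CommRingCat.of k) := rfl
    have hE' : Coh.IsCoh E := CurveLib.isCoh_of_isFinLocFree (fun x => let ⟨U, h⟩ := hE x; ⟨U, n, h⟩)
    have htf := TFCurvSSLib.isTorsionFree_flf hE
    obtain ⟨hpY, hpX, hc, hz⟩ := TFCurvSSLib.side_conditions k _ hν hpre hiso hdim hL hE' htf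
    have hdY := (TFCurvSSLib.dim_eq k _ hν hpre hiso).trans hdim
    have key := TFCurvSSLib.ssNum_push_iff k _ hν hpre hiso hdim hL (r := (· < ·))
      (fun h h' => lt_of_le_of_lt h h') (fun hα h => mul_lt_mul_of_pos_left h (lt_of_lt_of_le zero_lt_one hα)) hE' htf
    rw [← TFCurvSSLib.isSt_iff k hdim hL hc,
      ← TFCurvSSLib.isSt_iff k hdY (AmpleLib.isAmple_pullback _ hL) hE'] at key
    exact ⟨fun ⟨_, h0, _, h⟩ => ⟨hc, fun h' => h0 (hz.1 h'), hpX, key.2 h⟩,
      fun ⟨_, h0, _, h⟩ => ⟨hE', fun h' => h0 (hz.2 h'), hpY, key.1 h⟩⟩

end Groth.Agent.S16631
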