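import Groth.Statements.S16644
import Mathlib


set_option autoImplicit false
open QuadZ

namespace Groth.Agent.S16644

/-- For odd n, the discriminant of the universal quadratic form Σ_{i ≤ j} A_{ij} x_i x_j in n variables
(variables A_{ij} indexed by unordered pairs), i.e. the determinant of the symmetric matrix with
diagonal entries 2 A_{ii} and off-diagonal entries A_{ij}, is divisible by 2 in the integral
polynomial ring ℤ[A_{ij}] (so the half-discriminant is an integral polynomial). -/
theorem result (n : ℕ) (hn : Odd n) :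
    (2 : MvPolynomial (Sym2 (Fin n)) ℤ) ∣
      (Matrix.of fun i j : Fin n =>
        if i = j then 2 * MvPolynomial.X (R := ℤ) (σ := Sym2 (Fin n)) (Sym2.mk i j)
        else MvPolynomial.X (R := ℤ) (σ := Sym2 (Fin n)) (Sym2.mk i j)).det := by
  classical
  set P := MvPolynomial (Sym2 (Fin n)) ℤ
  set π := Ideal.Quotient.mk (Ideal.span ({2} : Set P))
  suffices h : π (Matrix.det (Matrix.of fun i j : Fin n =>
      if i = j then 2 * MvPolynomial.X (R := ℤ) (σ := Sym2 (Fin n)) (Sym2.mk i j)
      else MvPolynomial.X (R := ℤ) (σ := Sym2 (Fin n)) (Sym2.mk i j))) = 0 from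
    Ideal.mem_span_singleton.1 (Ideal.Quotient.eq_zero_iff_mem.1 h)
  rw [RingHom.map_det, RingHom.mapMatrix_apply, Matrix.det_apply]
  set A := Matrix.map (Matrix.of fun i j : Fin n =>
      if i = j then 2 * MvPolynomial.X (R := ℤ) (σ := Sym2 (Fin n)) (Sym2.mk i j)
      else MvPolynomial.X (R := ℤ) (σ := Sym2 (Fin n)) (Sym2.mk i j)) π with hA
  have h2 : π 2 = 0 := Ideal.Quotient.eq_zero_iff_mem.2 (Ideal.mem_span_singleton_self _)
  have hdiag : ∀ i, A i i = 0 := fun i => by
    simp [hA, h2]
  have hsymm : ∀ i j, A i j = A j i := fun i j => by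
    simp only [hA, Matrix.map_apply, Matrix.of_apply]
    by_cases h : i = j
    · subst h; rfl
    · rw [if_neg h, if_neg (Ne.symm h), Sym2.eq_swap]
  have hneg : ∀ x : P ⧸ Ideal.span ({2} : Set P), x + x = 0 := fun x => by
    rw [← two_mul]
    exact (congrArg (· * x) ((map_ofNat π 2).symm.trans h2)).trans (zero_mul x)
  refine Finset.sum_involution (fun σ _ => σ⁻¹) (fun σ _ => ?_) (fun σ _ hσ hfix => ?_)
    (fun σ _ => Finset.mem_univ _) (fun σ _ => inv_inv σ)
  · have : ∏ i, A (σ⁻¹ i) i = ∏ i, A (σ i) i := by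
      rw [← Equiv.prod_comp σ]
      exact Finset.prod_congr rfl fun i _ => by rw [Equiv.Perm.inv_def, Equiv.symm_apply_apply, hsymm]
    rw [this, Equiv.Perm.sign_inv]
    exact hneg _
  · obtain ⟨i, hi⟩ : ∃ i, σ i = i := by
      by_contra hh
      push Not at hh
      have hinv : Function.Involutive σ := fun i => by
        conv_lhs => rw [← hfix]
        rw [Equiv.Perm.inv_def]
        conv_lhs => arg 2; rw [← Equiv.Perm.inv_def, hfix]
        exact σ.symm_apply_apply i
      have := Equiv.Perm.card_fixedPoints_modEq (p := 2) (n := 1) (f := (⇑σ : Function.End (Fin n))) (by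
        funext i; exact hinv i)
      rw [Fintype.card_fin] at this
      have h0 : Fintype.card (Function.fixedPoints σ) = 0 :=
        Fintype.card_eq_zero_iff.2 ⟨fun x => hh x.1 x.2⟩
      rw [h0, Nat.modEq_zero_iff_dvd] at this
      obtain ⟨c, hc⟩ := this
      obtain ⟨m, hm⟩ := hn
      omega
    exact hσ (by rw [Finset.prod_eq_zero (Finset.mem_univ i) (by rw [hi, hdiag]), smul_zero])

end Groth.Agent.S16644
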