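import Groth.Statements.S1665
import Mathlib
import Groth.Agent.DomDVR.KrullAkizuki

set_option autoImplicit false
universe u
open Variety

namespace Groth.Agent.S1665

/-- Let B be a Noetherian domain of dimension one with finitely many maximal ideals and B' its integral
closure in its fraction field. Then B' is a Dedekind domain with finitely many maximal ideals, and
for every nonzero x in the Jacobson radical of B' and every y ∈ B' some power x^n satisfies x^n y ∈
B. -/
theorem result (B : Type u) [CommRing B] [IsDomain B] [IsNoetherianRing B]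
    (hdim : ringKrullDim B = 1) (hsl : Finite (MaximalSpectrum B)) :
    IsDedekindDomain (integralClosure B (FractionRing B)) ∧ Finite (MaximalSpectrum (integralClosure B (FractionRing B))) ∧
      ∀ x : integralClosure B (FractionRing B), x ≠ 0 → x ∈ (⊥ : Ideal (integralClosure B (FractionRing B))).jacobson →
        ∀ y : integralClosure B (FractionRing B), ∃ n : ℕ, (x ^ n * y).1 ∈ (algebraMap B (FractionRing B)).range := by
  classical
  haveI : Ring.KrullDimLE 1 B := Ring.krullDimLE_iff.mpr hdim.le
  haveI hN := Groth.Agent.DomDVR.isNoetherianRing_of_subalgebra (R := B) (K := FractionRing B)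
    (integralClosure B (FractionRing B))
  have hbotB : (⊥ : Ideal B).IsPrime := Ideal.isPrime_bot
  have hmaxB : ∀ P : Ideal B, P.IsPrime → P ≠ ⊥ → P.IsMaximal := fun P hP h0 =>
    Ring.krullDimLE_one_iff_of_isPrime_bot.mp (Ring.krullDimLE_iff.mpr hdim.le) P h0 hP
  have hnf : ¬ IsField B := fun h => by
    rw [ringKrullDim_eq_zero_of_isField h] at hdim
    exact zero_ne_one hdim
  haveI := Fintype.ofFinite (MaximalSpectrum B)
  obtain ⟨c, hc0, hc⟩ : ∃ c : B, c ≠ 0 ∧ ∀ P : Ideal B, P.IsMaximal → c ∈ P := by
    have hne : ∀ P : MaximalSpectrum B, ∃ y ∈ P.asIdeal, y ≠ 0 := fun P =>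
      Submodule.exists_mem_ne_zero_of_ne_bot fun h => hnf
        (Ring.isField_iff_maximal_bot.mpr (h ▸ P.isMaximal))
    choose y hy hy0 using hne
    exact ⟨∏ P, y P, Finset.prod_ne_zero_iff.mpr fun P _ => hy0 P, fun P hP =>
      Ideal.mem_of_dvd _ (Finset.dvd_prod_of_mem y (Finset.mem_univ ⟨P, hP⟩)) (hy ⟨P, hP⟩)⟩
  let B' := integralClosure B (FractionRing B)
  haveI : Algebra.IsIntegral B B' := inferInstance
  have hinj : Function.Injective (algebraMap B B') := fun a b h =>
    IsFractionRing.injective B (FractionRing B) (congrArg Subtype.val h)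
  refine ⟨Groth.Agent.DomDVR.isDedekindDomain_integralClosure, ?_, ?_⟩
  · let c' : B' := algebraMap B B' c
    haveI := (Ideal.finite_minimalPrimes_of_isNoetherianRing B' (Ideal.span {c'})).to_subtype
    refine Finite.of_injective (fun P : MaximalSpectrum B' =>
      (⟨P.asIdeal, ?_⟩ : (Ideal.span {c'}).minimalPrimes)) fun P Q h =>
        MaximalSpectrum.ext (congrArg Subtype.val h)
    haveI := P.isMaximal
    refine ⟨⟨P.isMaximal.isPrime, (Ideal.span_singleton_le_iff_mem _).mpr
      (hc _ (Ideal.isMaximal_comap_of_isIntegral_of_isMaximal P.asIdeal))⟩, fun Q hQ hle => ?_⟩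
    haveI := hQ.1
    have hQ0 : Q ≠ ⊥ := fun h0 => hc0 (hinj (by
      rw [map_zero]
      exact (Submodule.mem_bot _).mp (h0 ▸ hQ.2 (Ideal.mem_span_singleton_self c'))))
    exact ((Groth.Agent.DomDVR.isMaximal_of_ne_bot B' hQ0).eq_of_le P.isMaximal.ne_top hle).ge
  · intro x hx0 hx y
    let C := Algebra.adjoin B ({x.1, y.1} : Set (FractionRing B))
    have hfg : C.toSubmodule.FG := fg_adjoin_of_finite (Set.toFinite _) (by
      rintro z (rfl | rfl)
      · exact x.2
      · exact y.2)
    obtain ⟨t, ht⟩ := hfg
    obtain ⟨⟨d, hd⟩, hdt⟩ := IsLocalization.exist_integer_multiples_of_finset (nonZeroDivisors B) t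
    have hdC : ∀ s ∈ C, d • s ∈ (algebraMap B (FractionRing B)).range := by
      intro s hs
      have hs' : s ∈ Submodule.span B (t : Set (FractionRing B)) := ht.symm ▸ hs
      clear hs
      induction hs' using Submodule.span_induction with
      | mem z hz => exact hdt z hz
      | zero => rw [smul_zero]; exact zero_mem _
      | add z w _ _ hz hw => rw [smul_add]; exact add_mem hz hw
      | smul a z _ hz =>
        rw [smul_comm, Algebra.smul_def a]
        exact mul_mem ⟨a, rfl⟩ hz
    have hle : C ≤ B' := Algebra.adjoin_le (by rintro z (rfl | rfl); exacts [x.2, y.2])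
    letI : Algebra C B' := (Subalgebra.inclusion hle).toRingHom.toAlgebra
    haveI : IsScalarTower B C B' := IsScalarTower.of_algebraMap_eq fun _ => rfl
    haveI : Algebra.IsIntegral C B' := Algebra.IsIntegral.tower_top B
    let xC : C := ⟨x.1, Algebra.subset_adjoin (Or.inl rfl)⟩
    let yC : C := ⟨y.1, Algebra.subset_adjoin (Or.inr rfl)⟩
    have hmem : xC ∈ (Ideal.span {algebraMap B C d}).radical := by
      rw [Ideal.radical_eq_sInf, Ideal.mem_sInf]
      rintro P ⟨hdP, hP⟩
      haveI := hP
      have hP0 : P ≠ ⊥ := fun h0 => by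
        have h1 : algebraMap B C d = 0 :=
          (Submodule.mem_bot C).mp (h0 ▸ hdP (Ideal.mem_span_singleton_self _))
        have h2 : algebraMap B (FractionRing B) d = 0 := congrArg Subtype.val h1
        rw [IsFractionRing.to_map_eq_zero_iff] at h2
        exact nonZeroDivisors.ne_zero hd h2
      haveI := Groth.Agent.DomDVR.isMaximal_of_ne_bot C hP0
      obtain ⟨Q, hQ, hQP⟩ := Ideal.exists_ideal_over_maximal_of_isIntegral (S := B') P (by
        have hi : Function.Injective (algebraMap C B') := Subalgebra.inclusion_injective hle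
        rw [(RingHom.injective_iff_ker_eq_bot (algebraMap C B')).mp hi]
        exact bot_le)
      rw [Ideal.jacobson, Ideal.mem_sInf] at hx
      have hxQ : algebraMap C B' xC ∈ Q := hx ⟨bot_le, hQ⟩
      rw [← hQP]
      exact hxQ
    obtain ⟨n, hn⟩ := hmem
    obtain ⟨s, hs⟩ := Ideal.mem_span_singleton'.mp hn
    refine ⟨n, ?_⟩
    obtain ⟨b, hb⟩ := hdC (s * yC).1 (s * yC).2
    refine ⟨b, hb.trans ?_⟩
    have h1 : (s : FractionRing B) * algebraMap B (FractionRing B) d = x.1 ^ n := congrArg Subtype.val hs
    show d • ((s : FractionRing B) * y.1) = x.1 ^ n * y.1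
    rw [← h1, Algebra.smul_def]
    ring

end Groth.Agent.S1665
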