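import Groth.Statements.S16651
import Groth.Agent.CliffRegLib.BaseChangeCl
import Groth.Agent.CliffRegLib.SplitMatrix
import Groth.Agent.QuadSplitLib.Even

set_option autoImplicit false
universe u v
open scoped TensorProduct
open QuadZ

namespace Groth.Agent.S16651

open CliffordAlgebra in
/-- A faithfully flat étale extension over which the form becomes hyperbolic. -/
theorem exists_hyp (A : Type u) [CommRing A] {n m : ℕ} (hn : n = 2 * m) (a : Sym2 (Fin n) → A)
    (ha : IsUnit (QuadGrpLib.polarOf a).det) :
    ∃ (A' : Type u) (_ : CommRing A') (_ : Algebra A A'), Module.FaithfullyFlat A A' ∧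
      Algebra.FinitePresentation A A' ∧
      ∃ g : (Fin m ⊕ Fin m → A') ≃ₗ[A'] (Fin n → A'),
        ∀ x, QuadSplitLib.bq A' a (g x) = CliffRegLib.hyp A' m x := by
  classical
  subst hn
  obtain ⟨t, B, iC, iA, hE, hcov, hS⟩ := QuadSplitLib.exists_split_cover a ha
  choose g hg using hS
  let A' := ∀ s, B s
  haveI : Algebra.Etale A A' := inferInstance
  haveI : Module.Flat A A' := inferInstance
  have hff : Module.FaithfullyFlat A A' := by
    refine Module.FaithfullyFlat.of_comap_surjective fun p => ?_
    obtain ⟨s, q, hq⟩ := hcov p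
    exact ⟨PrimeSpectrum.comap (Pi.evalRingHom B s) q, PrimeSpectrum.ext hq⟩
  let G : (Fin m ⊕ Fin m → A') ≃ₗ[A'] (Fin (2 * m) → A') :=
    { toFun := fun x i s => g s (fun k => x k s) i
      invFun := fun y k s => (g s).symm (fun i => y i s) k
      map_add' := fun x y => by
        funext i s
        exact congrFun (map_add (g s) (fun k => x k s) (fun k => y k s)) i
      map_smul' := fun c x => by
        funext i s
        exact congrFun (map_smul (g s) (c s) (fun k => x k s)) i
      left_inv := fun x => by
        funext k s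
        exact congrFun ((g s).symm_apply_apply (fun k => x k s)) k
      right_inv := fun y => by
        funext i s
        exact congrFun ((g s).apply_symm_apply (fun i => y i s)) i }
  refine ⟨A', inferInstance, inferInstance, hff, inferInstance, G, fun x => funext fun s => ?_⟩
  have h := hg s (fun k => x k s)
  rw [QuadSplitLib.bq, CliffRegLib.qf_apply] at h ⊢
  rw [CliffRegLib.hyp_apply]
  have hsum : ∀ {ι : Type} (S : Finset ι) (f : ι → A'), (∑ i ∈ S, f i) s = ∑ i ∈ S, f i s :=
    fun S f => map_sum (Pi.evalRingHom B s) f S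
  have hmul : ∀ u v : A', (u * v) s = u s * v s := fun _ _ => rfl
  simp only [hsum, hmul]
  refine Eq.trans ?_ h
  refine Finset.sum_congr rfl fun i _ => Finset.sum_congr rfl fun j _ => ?_
  simp only [CliffRegLib.upMat, Matrix.of_apply, Function.comp_apply, G, LinearEquiv.coe_mk,
    LinearMap.coe_mk, AddHom.coe_mk]
  split_ifs <;> rfl

/-- For a free module over an affine base, let Q be a non-degenerate quadratic form (polar form a
perfect pairing) on a free module V of even rank 2m ≥ 2 over a commutative ring A. Then fppf-locally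
on A the Clifford algebra C(V,Q) is a matrix algebra of size 2^m and its even part a product of two
matrix algebras of size 2^(m-1) (there is a faithfully flat finitely presented A-algebra A'
realising both), the centre of C(V,Q) is A, the map V → C(V,Q) is injective onto a direct summand,
and the even part is the centralizer in C(V,Q) of its own centre. -/
theorem result (A : Type u) [CommRing A] (V : Type u)
    [AddCommGroup V] [Module A V] [Module.Free A V] [Module.Finite A V] (m : ℕ) (hm : 1 ≤ m)
    (hV : Module.finrank A V = 2 * m) (Q : QuadraticForm A V) (hQ : Function.Bijective (QuadraticMap.polarBilin Q)) :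
    (∃ (A' : Type u) (_ : CommRing A') (_ : Algebra A A'), Module.FaithfullyFlat A A' ∧ Algebra.FinitePresentation A A' ∧
        Nonempty ((A' ⊗[A] CliffordAlgebra Q) ≃ₐ[A'] Matrix (Fin (2 ^ m)) (Fin (2 ^ m)) A') ∧
        Nonempty ((A' ⊗[A] ↥(CliffordAlgebra.even Q)) ≃ₐ[A']
          (Matrix (Fin (2 ^ (m - 1))) (Fin (2 ^ (m - 1))) A' × Matrix (Fin (2 ^ (m - 1))) (Fin (2 ^ (m - 1))) A'))) ∧
    Subalgebra.center A (CliffordAlgebra Q) = ⊥ ∧
    (Function.Injective (CliffordAlgebra.ι Q) ∧
      ∃ W : Submodule A (CliffordAlgebra Q), IsCompl (LinearMap.range (CliffordAlgebra.ι Q)) W) ∧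
    Subalgebra.centralizer A
        ((CliffordAlgebra.even Q).val '' (Subalgebra.center A ↥(CliffordAlgebra.even Q) : Set ↥(CliffordAlgebra.even Q))) =
      CliffordAlgebra.even Q := by
  classical
  rcases subsingleton_or_nontrivial A with hA | hA
  · exact absurd hV (by rw [Module.finrank_subsingleton]; omega)
  let b := Module.finBasisOfFinrankEq A V hV
  have hQ' : QuadGrp.IsRegular Q := hQ
  have hspan := CliffRegLib.span_range_eq_top b (by omega) hQ'
  obtain ⟨z, s, t, D⟩ := CliffRegLib.exists_centreDatum b hQ'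
  refine ⟨?_, ?_, ⟨?_, ?_⟩, ?_⟩
  · set a := QuadGrp.coeffs b (LinearEquiv.refl A A) Q with ha'
    have ha : IsUnit (QuadGrpLib.polarOf a).det := by
      rw [ha', ← QuadGrpLib.polarMat_eq_polarOf]
      exact QuadGrpLib.isUnit_det_polarMat b hQ'
    obtain ⟨A', iC, iA, hff, hfp, g, hg⟩ := exists_hyp A rfl a ha
    let e : V →ₗ[A] (Fin m ⊕ Fin m → A') :=
      (g.symm.toLinearMap.restrictScalars A) ∘ₗ (QuadSplitLib.ev A A') ∘ₗ b.equivFun.toLinearMap
    have hqa : ∀ v, CliffRegLib.qf a (b.equivFun v) = Q v := fun v => by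
      have : a = QuadGrp.coeffs (Pi.basisFun A (Fin (2 * m))) (LinearEquiv.refl A A)
          (Q.comp (b.equivFun.symm : (Fin (2 * m) → A) →ₗ[A] V)) := by
        funext p
        induction p using Sym2.ind with
        | h i j =>
          have hs : ∀ k, b.equivFun.symm (Pi.basisFun A (Fin (2 * m)) k) = b k := fun k => by simp
          simp only [ha', QuadGrp.coeffs_mk, QuadraticMap.polar, QuadraticMap.comp_apply,
            LinearEquiv.coe_coe, map_add, hs]
      rw [this, CliffRegLib.qf_coeffs]
      simp
    have he : ∀ v, CliffRegLib.hyp A' m (e v) = algebraMap A A' (Q v) := fun v => by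
      rw [← hg]
      simp only [e, LinearMap.comp_apply, LinearMap.coe_restrictScalars, LinearEquiv.coe_coe,
        LinearEquiv.apply_symm_apply]
      rw [QuadSplitLib.bq_ev, hqa]
    have hb : ∀ i, e (b i) = ((Pi.basisFun A' (Fin (2 * m))).map g.symm) i := fun i => by
      have h : b.equivFun (b i) = Pi.basisFun A (Fin (2 * m)) i := by
        funext j; simp [Pi.single_apply, eq_comm]
      simp only [e, LinearMap.comp_apply, LinearMap.coe_restrictScalars, LinearEquiv.coe_coe, h,
        Module.Basis.map_apply]
      exact congrArg g.symm (CliffRegLib.compLeft_single i)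
    obtain ⟨E1⟩ := CliffRegLib.nonempty_hyp_matrix A' m
    obtain ⟨E2⟩ := CliffRegLib.nonempty_hyp_even_matrix A' m hm
    exact ⟨A', iC, iA, hff, hfp,
      ⟨(CliffRegLib.bcEquiv e he b _ hb).trans E1⟩,
      ⟨(CliffRegLib.bcEvenEquiv e he b _ hb).trans E2⟩⟩
  · refine eq_bot_iff.2 fun x hx => ?_
    obtain ⟨r, rfl⟩ := D.eq_scalar_of_central b hQ' fun y => Subalgebra.mem_center_iff.1 hx y
    exact Algebra.mem_bot.2 ⟨r, rfl⟩
  · intro v w h
    refine b.ext_elem fun i => ?_
    have key : ∀ v, (CliffRegLib.cbasis b Q).repr (CliffordAlgebra.ι Q v) {i} = b.repr v i := fun v => by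
      conv_lhs => rw [← b.sum_repr v]
      simp only [map_sum, map_smul, ← CliffRegLib.cbasis_singleton b Q, Module.Basis.repr_self,
        Finsupp.coe_finsetSum, Finset.sum_apply, Finsupp.smul_apply]
      simp [Finsupp.single_apply]
    rw [← key, ← key, h]
  · let p : CliffordAlgebra Q →ₗ[A] V := ∑ i, ((CliffRegLib.cbasis b Q).coord {i}).smulRight (b i)
    have hp : ∀ v, p (CliffordAlgebra.ι Q v) = v := fun v => by
      have hpi : ∀ j, p (CliffordAlgebra.ι Q (b j)) = b j := fun j => by
        simp only [p, LinearMap.sum_apply, LinearMap.smulRight_apply, Module.Basis.coord_apply,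
          ← CliffRegLib.cbasis_singleton b Q, Module.Basis.repr_self, Finsupp.single_apply,
          Finset.singleton_inj, ite_smul, one_smul, zero_smul, Finset.sum_ite_eq, Finset.mem_univ, if_true]
      exact LinearMap.congr_fun (b.ext hpi : p ∘ₗ CliffordAlgebra.ι Q = LinearMap.id) v
    refine ⟨LinearMap.ker (CliffordAlgebra.ι Q ∘ₗ p), ?_⟩
    have h := LinearMap.isCompl_of_proj (p := LinearMap.range (CliffordAlgebra.ι Q))
      (f := (CliffordAlgebra.ι Q ∘ₗ p).codRestrict _ fun x => LinearMap.mem_range_self _ _)
      (by rintro ⟨_, v, rfl⟩; exact Subtype.ext (congrArg (CliffordAlgebra.ι Q) (hp v)))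
    rwa [LinearMap.ker_codRestrict] at h
  · refine le_antisymm (fun x hx => ?_) fun x hx => ?_
    · refine D.mem_even_of_commute ?_
      exact Subalgebra.mem_centralizer_iff A |>.1 hx z ⟨⟨z, D.even⟩, D.z_central, rfl⟩
    · refine Subalgebra.mem_centralizer_iff A |>.2 ?_
      rintro _ ⟨y, hy, rfl⟩
      exact congrArg Subtype.val (Subalgebra.mem_center_iff.1 hy ⟨x, hx⟩).symm

end Groth.Agent.S16651
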