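import Mathlib
import Groth.Agent.Depth.Basic
import Groth.Statements.S16667

set_option autoImplicit false
universe u
open CAlg

namespace Groth.Agent.S16667

/-- Let A be a Noetherian integral domain satisfying Serre's condition (S_2), with fraction field K. An
element of K which lies in the localization A_p for every prime p of A with depth(A_p) = 1 lies in
A. -/
theorem result {A : Type u} [CommRing A] [IsDomain A]
    [IsNoetherianRing A] (hS2 : LocCoh.HasSk 2 A A) (x : FractionRing A)
    (hx : ∀ (p : Ideal A) [p.IsPrime],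
      LocCoh.depth (Localization.AtPrime p) (Localization.AtPrime p) = 1 →
        x ∈ Set.range (algebraMap (Localization.AtPrime p) (FractionRing A))) :
    x ∈ Set.range (algebraMap A (FractionRing A)) := by
  classical
  obtain ⟨a, b, hb, hxab⟩ := IsFractionRing.div_surjective (A := A) x
  have hb0 : b ≠ 0 := nonZeroDivisors.ne_zero hb
  let K := FractionRing A
  have hbK : algebraMap A K b ≠ 0 := fun h => hb0 (IsFractionRing.injective A K (by rw [h, map_zero]))
  by_cases hmem : b ∣ a
  · obtain ⟨q, rfl⟩ := hmem
    exact ⟨q, by rw [← hxab, map_mul, mul_div_cancel_left₀ _ hbK]⟩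
  exfalso
  have ha : (Submodule.Quotient.mk a : A ⧸ Ideal.span {b}) ≠ 0 := by
    rw [Ne, Submodule.Quotient.mk_eq_zero]
    exact fun h => hmem (Ideal.mem_span_singleton.1 h)
  obtain ⟨P, hP, hle⟩ := exists_le_isAssociatedPrime_of_isNoetherianRing A
    (Submodule.Quotient.mk a : A ⧸ Ideal.span {b}) ha
  obtain ⟨hPp, z, hz⟩ := isAssociatedPrime_iff.1 hP
  obtain ⟨c, rfl⟩ := Submodule.Quotient.mk_surjective _ z
  have hzc : ∀ t, t ∈ P ↔ b ∣ t * c := fun t => by
    rw [hz, Submodule.mem_colon_singleton, Submodule.mem_bot, ← Submodule.Quotient.mk_smul,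
      Submodule.Quotient.mk_eq_zero, Ideal.mem_span_singleton, smul_eq_mul]
  have hbP : b ∈ P := (hzc b).2 (dvd_mul_right b c)
  let L := Localization.AtPrime P
  let u := algebraMap A L
  have huinj : Function.Injective u := IsLocalization.injective L P.primeCompl_le_nonZeroDivisors
  have hdom : IsDomain L := IsLocalization.isDomain_localization P.primeCompl_le_nonZeroDivisors
  have hmax : Groth.Agent.Depth.IsMaxSeq (IsLocalRing.maximalIdeal L) L [u b] := by
    refine ⟨(RingTheory.Sequence.isWeaklyRegular_singleton_iff _ _).2 ?_, ?_, u c, ?_, ?_⟩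
    · rw [isSMulRegular_iff_right_eq_zero_of_smul]
      exact fun y hy => (mul_eq_zero.1 (by rwa [← smul_eq_mul])).resolve_left
        fun h => hb0 (huinj (by rw [h, map_zero]))
    · intro r hr
      rw [List.mem_singleton] at hr
      subst hr
      rw [← Localization.AtPrime.map_eq_maximalIdeal]
      exact Ideal.mem_map_of_mem _ hbP
    · rw [smul_eq_mul, Ideal.mul_top, Ideal.ofList_singleton, ← Set.image_singleton, ← Ideal.map_span,
        IsLocalization.mem_map_algebraMap_iff P.primeCompl]
      rintro ⟨⟨⟨j, hj⟩, ⟨s, hs⟩⟩, he⟩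
      rw [← map_mul] at he
      apply hs
      rw [SetLike.mem_coe, hzc]
      exact Ideal.mem_span_singleton.1 (by rw [mul_comm, huinj he]; exact hj)
    · intro r hr
      rw [smul_eq_mul, Ideal.mul_top, Ideal.ofList_singleton]
      rw [← Localization.AtPrime.map_eq_maximalIdeal, Ideal.map, Ideal.span] at hr
      induction hr using Submodule.span_induction with
      | mem y hy =>
        obtain ⟨t, ht, rfl⟩ := hy
        rw [Ideal.mem_span_singleton, smul_eq_mul, ← map_mul]
        exact map_dvd u ((hzc t).1 ht)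
      | zero => simp
      | add y y' _ _ h1 h2 => rw [add_smul]; exact add_mem h1 h2
      | smul r y _ h1 => rw [smul_assoc]; exact Submodule.smul_mem _ r h1
  have hI : IsLocalRing.maximalIdeal L • (⊤ : Submodule L L) ≠ ⊤ := by
    rw [smul_eq_mul, Ideal.mul_top]; exact (IsLocalRing.maximalIdeal.isMaximal L).ne_top
  have hd : LocCoh.depth L L = 1 := by
    rw [LocCoh.depth, Groth.Agent.Depth.idealDepth_eq_length hI hmax]; simp
  obtain ⟨w, hw⟩ := hx P hd
  obtain ⟨⟨n, ⟨s, hs⟩⟩, hw'⟩ := IsLocalization.surj P.primeCompl w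
  apply hs
  refine hle (Submodule.mem_colon_singleton.2 ?_)
  rw [Submodule.mem_bot, ← Submodule.Quotient.mk_smul, Submodule.Quotient.mk_eq_zero, Ideal.mem_span_singleton]
  refine ⟨n, IsFractionRing.injective A K ?_⟩
  have h1 := congrArg (algebraMap L K) hw'
  rw [map_mul, hw, ← hxab, ← IsScalarTower.algebraMap_apply, ← IsScalarTower.algebraMap_apply,
    div_mul_eq_mul_div, div_eq_iff hbK] at h1
  rw [smul_eq_mul, map_mul, map_mul]
  linear_combination h1

end Groth.Agent.S16667
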