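import Groth.Statements.S16668
import Groth.Agent.NormalPowLib.Basic
import Groth.Agent.S1575
import Groth.Agent.S3372
import Groth.Agent.HenLineLib.Regular
import Groth.Agent.DevLib.Closed
import Groth.Agent.ParaFLib.Stalk
-- import your own Groth.Agent.* helpers here

set_option autoImplicit false
set_option backward.isDefEq.respectTransparency false
set_option linter.style.haveILetI false
set_option maxHeartbeats 800000
universe u
open CategoryTheory AlgebraicGeometry
open Lef

namespace Groth.Agent.S16668

/-- Let A be an excellent normal domain, J the radical ideal of A whose zero set is the set of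
non-regular points of Spec A, and p a prime ideal of A generated by an A-regular sequence, such that
A/p is normal and ht(p) + ht(J) ≤ ht(p + J). Let U be an open subset of Spec A which contains every
regular point of V(p) and whose complement consists of points of height at least 2. Then for every m
≥ 1 the restriction map from Γ(Spec(A/p^m), O) to the sections of O over the inverse image of U in
Spec(A/p^m) is bijective. (The published lemma asserts the corresponding bijection after p-adic
completion, for every finitely generated reflexive A-module in place of A; stated here, for A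
itself, is the bijection at each finite level m which its proof establishes.) -/
theorem result
    (A : Type u) [CommRing A] [IsDomain A] [IsIntegrallyClosed A] (hA : EGA4.IsExcellent A)
    (J : Ideal A) (hJrad : J.IsRadical)
    (hJ : ∀ x : PrimeSpectrum A, J ≤ x.asIdeal ↔ x ∉ EGA4.regLocus A)
    (p : Ideal A) [p.IsPrime] (rs : List A) (hrs : RingTheory.Sequence.IsRegular A rs)
    (hp : Ideal.ofList rs = p) (hnorm : IsIntegrallyClosed (A ⧸ p))
    (hht : p.height + J.height ≤ (p ⊔ J).height)
    (U : (Spec (CommRingCat.of A)).Opens)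
    (hUreg : ∀ x : PrimeSpectrum A, p ≤ x.asIdeal → x ∈ EGA4.regLocus A → x ∈ U.1)
    (hUcodim : ∀ x : PrimeSpectrum A, x ∉ U.1 → (2 : ℕ∞) ≤ x.asIdeal.height)
    (m : ℕ) (hm : 1 ≤ m) :
    Function.Bijective ((Spec (CommRingCat.of (A ⧸ p ^ m))).presheaf.map
      (homOfLE (le_top : Spec.map (CommRingCat.ofHom (Ideal.Quotient.mk (p ^ m))) ⁻¹ᵁ U ≤ ⊤)).op).hom := by
  haveI : IsNoetherianRing A := hA.1
  let R := A ⧸ p ^ m
  let f := Spec.map (CommRingCat.ofHom (Ideal.Quotient.mk (p ^ m)))
  have hJ2 : (2 : ℕ∞) ≤ J.height := by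
    rw [Ideal.height_eq_inf_minimalPrimes]
    refine le_iInf₂ fun Q hQ => ?_
    haveI : Q.IsPrime := hQ.1.1
    by_contra h
    have hQ1 : Q.height ≤ 1 := Order.le_of_lt_add_one (not_le.1 h)
    exact (hJ ⟨Q, inferInstance⟩).1 hQ.1.2 (HenLineLib.isRegularLocalRing_of_height_le_one Q hQ1)
  have hdep : ∀ y : Spec (CommRingCat.of R), y ∉ f ⁻¹ᵁ U →
      (2 : ℕ∞) ≤ LocCoh.depth ((Spec (CommRingCat.of R)).presheaf.stalk y)
        ((Coh.structureModule (Spec (CommRingCat.of R))).presheaf.stalk y) := by
    intro y hy
    let x : PrimeSpectrum A := PrimeSpectrum.comap (Ideal.Quotient.mk (p ^ m)) y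
    have hxU : x ∉ U.1 := hy
    have hpm : p ^ m ≤ x.asIdeal := fun a ha => by
      show Ideal.Quotient.mk (p ^ m) a ∈ y.asIdeal
      rw [Ideal.Quotient.eq_zero_iff_mem.2 ha]
      exact zero_mem _
    have hpx : p ≤ x.asIdeal := fun a ha => x.isPrime.mem_of_pow_mem m (hpm (Ideal.pow_mem_pow ha m))
    have hJx : J ≤ x.asIdeal := (hJ x).2 fun hreg => hxU (hUreg x hpx hreg)
    let L := Localization.AtPrime x.asIdeal
    let P : Ideal L := p.map (algebraMap A L)
    have hxr : ∀ a ∈ rs.map (algebraMap A L), a ∈ IsLocalRing.maximalIdeal L := fun a ha => by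
      obtain ⟨b, hb, rfl⟩ := List.mem_map.1 ha
      exact (IsLocalization.AtPrime.to_map_mem_maximal_iff L x.asIdeal b).2
        (hpx (hp ▸ Ideal.subset_span hb))
    have hw : RingTheory.Sequence.IsWeaklyRegular L (rs.map (algebraMap A L)) :=
      RingTheory.Sequence.IsWeaklyRegular.of_flat hrs.toIsWeaklyRegular
    have hPofList : Ideal.ofList (rs.map (algebraMap A L)) = P := by rw [← Ideal.map_ofList, hp]
    have hPle : P ≤ IsLocalRing.maximalIdeal L := by
      rw [← hPofList, Ideal.ofList, Ideal.span_le]
      exact hxr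
    haveI : Nontrivial (L ⧸ P) := Ideal.Quotient.nontrivial_iff.2
      (ne_top_of_le_ne_top (IsLocalRing.maximalIdeal.isMaximal L).ne_top hPle)
    haveI : IsLocalRing (L ⧸ P) := IsLocalRing.of_surjective' (Ideal.Quotient.mk P) Ideal.Quotient.mk_surjective
    obtain ⟨σ⟩ := GenericDepthLib.exists_locQuotRingEquiv p x hpx
    haveI := hnorm
    haveI : IsDomain (L ⧸ P) := σ.symm.toMulEquiv.isDomain _
    haveI : IsIntegrallyClosed (Localization.AtPrime (GenericDepthLib.quotPrime p x hpx).asIdeal) :=
      isIntegrallyClosed_of_isLocalization _ (GenericDepthLib.quotPrime p x hpx).asIdeal.primeCompl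
        (Ideal.primeCompl_le_nonZeroDivisors _)
    haveI : IsIntegrallyClosed (L ⧸ P) := IsIntegrallyClosed.of_equiv σ
    have hdim : 1 < ringKrullDim (L ⧸ P) := by
      have hLdim := IsLocalization.AtPrime.ringKrullDim_eq_height x.asIdeal L
      have hreg : RingTheory.Sequence.IsRegular L (rs.map (algebraMap A L)) :=
        Depth.isRegular_of_isWeaklyRegular (AcycLib.smul_top_ne_top (R := L) (M := L)) hw hxr
      have h1 := ringKrullDim_add_length_eq_ringKrullDim_of_isRegular _ hreg
      rw [hPofList, List.length_map, hLdim] at h1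
      have hpheight : p.height = (rs.length : ℕ∞) := by
        let K := Localization.AtPrime p
        have hKr : ∀ a ∈ rs.map (algebraMap A K), a ∈ IsLocalRing.maximalIdeal K := fun a ha => by
          obtain ⟨b, hb, rfl⟩ := List.mem_map.1 ha
          exact (IsLocalization.AtPrime.to_map_mem_maximal_iff K p b).2 (hp ▸ Ideal.subset_span hb)
        have hK : Ideal.ofList (rs.map (algebraMap A K)) = IsLocalRing.maximalIdeal K := by
          rw [← Ideal.map_ofList, hp, Localization.AtPrime.map_eq_maximalIdeal]
        have h2 := ringKrullDim_add_length_eq_ringKrullDim_of_isRegular _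
          (Depth.isRegular_of_isWeaklyRegular (AcycLib.smul_top_ne_top (R := K) (M := K))
            (RingTheory.Sequence.IsWeaklyRegular.of_flat hrs.toIsWeaklyRegular) hKr)
        rw [hK, List.length_map, IsLocalization.AtPrime.ringKrullDim_eq_height p K] at h2
        letI := Ideal.Quotient.field (IsLocalRing.maximalIdeal K)
        rw [ringKrullDim_eq_zero_of_field, zero_add] at h2
        exact_mod_cast h2.symm
      have hx : ((rs.length : ℕ∞) + 2) ≤ x.asIdeal.height :=
        le_trans (le_trans (add_le_add hpheight.ge hJ2) hht) (Ideal.height_mono (sup_le hpx hJx))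
      have hx' : ((rs.length : ℕ∞) : WithBot ℕ∞) + 2 ≤ (x.asIdeal.height : WithBot ℕ∞) := WithBot.coe_le_coe.2 hx
      rw [← h1] at hx'
      by_contra hd
      have h4 := hx'.trans (add_le_add (not_lt.1 hd) le_rfl)
      rw [show (((rs.length : ℕ∞) : WithBot ℕ∞)) = ((rs.length : ℕ) : WithBot ℕ∞) from rfl] at h4
      revert h4
      norm_cast
      omega
    have h2 : (2 : ℕ∞) ≤ LocCoh.depth L (L ⧸ P ^ m) :=
      NormalPowLib.two_le_depth_quot_pow _ hw P hPofList hdim m
    have hPm : (p ^ m).map (algebraMap A L) = P ^ m := Ideal.map_pow _ _ _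
    have hPmne : P ^ m ≠ ⊤ := ne_top_of_le_ne_top (IsLocalRing.maximalIdeal.isMaximal L).ne_top
      ((Ideal.pow_le_self (by omega)).trans hPle)
    haveI : Nontrivial (L ⧸ P ^ m) := Ideal.Quotient.nontrivial_iff.2 hPmne
    haveI : IsLocalRing (L ⧸ P ^ m) :=
      IsLocalRing.of_surjective' (Ideal.Quotient.mk (P ^ m)) Ideal.Quotient.mk_surjective
    rw [GenericDepthLib.depth_quot_eq] at h2
    obtain ⟨τ⟩ := GenericDepthLib.exists_locQuotRingEquiv (p ^ m) x hpm
    have hq : GenericDepthLib.quotPrime (p ^ m) x hpm = y :=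
      PrimeSpectrum.ext (Ideal.map_comap_of_surjective _ Ideal.Quotient.mk_surjective _)
    let O := (Spec (CommRingCat.of R)).presheaf.stalk y
    letI : Algebra R O := StructureSheaf.stalkAlgebra R y
    haveI : IsLocalization.AtPrime O y.asIdeal := StructureSheaf.IsLocalization.to_stalk R y
    let ρ₀ := (IsLocalization.algEquiv y.asIdeal.primeCompl (Localization.AtPrime y.asIdeal) O).toRingEquiv
    have h3 : (2 : ℕ∞) ≤ LocCoh.depth (Localization.AtPrime y.asIdeal) (Localization.AtPrime y.asIdeal) := by
      suffices h4 : (2 : ℕ∞) ≤ LocCoh.depth (Localization.AtPrime (GenericDepthLib.quotPrime (p ^ m) x hpm).asIdeal)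
          (Localization.AtPrime (GenericDepthLib.quotPrime (p ^ m) x hpm).asIdeal) from hq ▸ h4
      refine le_of_le_of_eq h2 (S3372.depth_eq_of_semilinear ((Ideal.quotEquivOfEq hPm.symm).trans τ.symm)
        ((Ideal.quotEquivOfEq hPm.symm).trans τ.symm).toAddEquiv fun a b => ((Ideal.quotEquivOfEq hPm.symm).trans τ.symm).map_mul a b)
    obtain ⟨v, hv⟩ := ParaFLib.exists_stalk_gen
      (ParaFLib.isInvertible_structureModule (X := Spec (CommRingCat.of R))) y
    rw [← Depth.depth_congr (LinearEquiv.ofBijective (LinearMap.toSpanSingleton _ _ v) hv)]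
    exact le_of_le_of_eq h3 (S3372.depth_eq_of_semilinear ρ₀ ρ₀.toAddEquiv fun a b => ρ₀.map_mul a b)
  have key := S1575.result (Spec (CommRingCat.of R)) (Coh.structureModule _) (DevLib.isCoh_structureModule _)
    (f ⁻¹ᵁ U) hdep ⊤
  have : ∀ (W : (Spec (CommRingCat.of R)).Opens) (h : W ≤ ⊤), W = ⊤ ⊓ f ⁻¹ᵁ U →
      Function.Bijective ((Spec (CommRingCat.of R)).presheaf.map (homOfLE h).op).hom := by
    rintro W h rfl
    exact key
  exact this _ le_top (top_inf_eq _).symm

end Groth.Agent.S16668
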