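import Groth.Statements.S16671
import Groth.Agent.ReflEmbLib.Algebra
import Groth.Agent.ReflEmbLib.Gen
import Groth.Agent.RefOne.Stalk
import Groth.Agent.PullbackMod.LocFree
import Groth.Agent.QCohLib.FiniteType
import Groth.Agent.S1689
-- import your own Groth.Agent.* helpers here

set_option autoImplicit false
universe u
open CategoryTheory CategoryTheory.Limits AlgebraicGeometry
open Coh

namespace Groth.Agent.S16671

open Groth.Agent Groth.Agent.PullbackMod

set_option backward.isDefEq.respectTransparency false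
set_option linter.style.haveILetI false

noncomputable section

variable {X : Scheme.{u}}

/-- The map to a finite sum given by its components. -/
def tuple {r : ℕ} {G T : X.Modules} (ψ : Fin r → (G ⟶ T)) : G ⟶ ∐ fun _ : Fin r => T :=
  biproduct.lift ψ ≫ (biproduct.isoCoproduct fun _ : Fin r => T).hom

theorem exists_coord {r : ℕ} {G T : X.Modules} (ψ : Fin r → (G ⟶ T)) (x : X)
    (l : T.presheaf.stalk x ≃ₗ[X.presheaf.stalk x] X.presheaf.stalk x) :
    ∃ c : (∐ fun _ : Fin r => T).presheaf.stalk x ≃ₗ[X.presheaf.stalk x] (Fin r → X.presheaf.stalk x),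
      ∀ v i, c (stalkLin (tuple ψ) x v) i = l (stalkLin (ψ i) x v) := by
  classical
  let N : Fin r → X.Modules := fun _ => T
  let I := biproduct.isoCoproduct N
  let c : (∐ N).presheaf.stalk x →ₗ[X.presheaf.stalk x] (Fin r → X.presheaf.stalk x) :=
    LinearMap.pi fun i => l.toLinearMap ∘ₗ stalkLin (I.inv ≫ biproduct.π N i) x
  have hI := (isIso_iff_stalk I.inv).1 inferInstance x
  have hc : Function.Bijective c := by
    refine ⟨(injective_iff_map_eq_zero c).2 fun z hz => hI.1 ?_, fun w => ?_⟩
    · rw [map_zero]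
      have htot := Groth.Agent.ReflEmbLib.stalkLin_desc N (fun j => biproduct.ι N j) x (stalkLin I.inv x z)
      rw [show biproduct.desc (fun j => biproduct.ι N j) = 𝟙 (⨁ N) from biproduct.hom_ext' _ _ fun j => by simp,
        stalkLin_id] at htot
      refine htot.trans (Finset.sum_eq_zero fun j _ => ?_)
      have := congrFun hz j
      simp only [c, LinearMap.pi_apply, LinearMap.comp_apply, LinearEquiv.coe_coe, Pi.zero_apply,
        LinearEquiv.map_eq_zero_iff] at this
      rw [stalkLin_comp, LinearMap.comp_apply] at this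
      rw [this, map_zero]
    · obtain ⟨z, hz⟩ := hI.2 (∑ j, stalkLin (biproduct.ι N j) x (l.symm (w j)))
      refine ⟨z, funext fun i => ?_⟩
      simp only [c, LinearMap.pi_apply, LinearMap.comp_apply, LinearEquiv.coe_coe]
      rw [stalkLin_comp, LinearMap.comp_apply, hz, map_sum, Finset.sum_eq_single i]
      · rw [← LinearMap.comp_apply, ← stalkLin_comp, biproduct.ι_π_self, stalkLin_id]
        exact l.apply_symm_apply _
      · intro j _ hj
        rw [← LinearMap.comp_apply, ← stalkLin_comp, biproduct.ι_π_ne _ hj,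
          (eq_zero_iff_stalk (0 : N j ⟶ N i)).mp rfl x]
        rfl
      · intro hi; exact absurd (Finset.mem_univ i) hi
  refine ⟨LinearEquiv.ofBijective c hc, fun v i => ?_⟩
  show l (stalkLin (I.inv ≫ biproduct.π N i) x (stalkLin (tuple ψ) x v)) = _
  rw [← LinearMap.comp_apply, ← stalkLin_comp]
  show l (stalkLin ((biproduct.lift ψ ≫ I.hom) ≫ I.inv ≫ biproduct.π N i) x v) = _
  rw [Category.assoc, Iso.hom_inv_id_assoc, biproduct.lift_π]

theorem exists_dual_gen {r : ℕ} {G T : X.Modules} (hT : PicF.IsInvertible T) (ψ : Fin r → (G ⟶ T)) (x : X)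
    (hψ : Submodule.span (X.presheaf.stalk x) (Set.range fun i => stalkLin (ψ i) x) = ⊤) :
    ∃ (θ : Fin r → Module.Dual (X.presheaf.stalk x) (G.presheaf.stalk x))
      (c : (∐ fun _ : Fin r => T).presheaf.stalk x ≃ₗ[X.presheaf.stalk x] (Fin r → X.presheaf.stalk x)),
      Submodule.span (X.presheaf.stalk x) (Set.range θ) = ⊤ ∧ ∀ v i, c (stalkLin (tuple ψ) x v) i = θ i v := by
  obtain ⟨W, e, hxW, he⟩ := ParaFLib.exists_gen_nhd hT x
  let l := (LinearEquiv.ofBijective (LinearMap.toSpanSingleton (X.presheaf.stalk x) _ (T.presheaf.germ W x hxW e))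
    (he.bijective_germ x hxW)).symm
  obtain ⟨c, hc⟩ := exists_coord ψ x l
  refine ⟨fun i => l.toLinearMap ∘ₗ stalkLin (ψ i) x, c, ?_, hc⟩
  let E := LinearEquiv.congrRight (M := G.presheaf.stalk x) l
  have h : (fun i => l.toLinearMap ∘ₗ stalkLin (ψ i) x) = E ∘ fun i => stalkLin (ψ i) x := rfl
  rw [h, Set.range_comp, ← LinearEquiv.coe_coe, Submodule.span_image, hψ, Submodule.map_top, LinearEquiv.range]

theorem exists_embedding [IsLocallyNoetherian X] {L : X.Modules} (hL : CohB1.IsAmple L) {G : X.Modules}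
    (hG : Coh.IsCoh G)
    (hGs : ∀ x : X, Function.Injective (Module.Dual.eval (X.presheaf.stalk x) (G.presheaf.stalk x))) :
    ∃ (q r : ℕ) (ψ : Fin r → (G ⟶ CohB1.tensorPow L q)), 1 ≤ r ∧ Mono (tuple ψ) ∧
      ∀ x, Submodule.span (X.presheaf.stalk x) (Set.range fun i => stalkLin (ψ i) x) = ⊤ := by
  obtain ⟨q, r, ψ, hr, hψ⟩ := ReflEmbLib.exists_gen_homs hL hG
  refine ⟨q, r, ψ, hr, (mono_iff_stalk _).2 fun x => ?_, hψ⟩
  obtain ⟨θ, c, hθ, hc⟩ := exists_dual_gen (AmpleLib.isInvertible_tensorPow hL.1 q) ψ x (hψ x)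
  refine (injective_iff_map_eq_zero _).2 fun v hv => hGs x ?_
  rw [map_zero]
  refine LinearMap.ext fun φ => ?_
  obtain ⟨a, rfl⟩ := ReflEmbLib.surjective_linComb θ hθ φ
  simp [Fintype.linearCombination_apply, ← hc, hv]

end


/-- Let k be a field, X an integral scheme locally of finite type over k carrying an ample invertible
module L, and E a coherent O_X-module all of whose stalks are reflexive. Then there are natural
numbers q, q', integers r, r' ≥ 1 and a coherent O_X-module E' with a short exact sequence 0 → E →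
(L^q)^r → E' → 0 (tensor powers of L, direct sums of copies) and a monomorphism E' → (L^q')^r'; and
E' is finite locally free whenever E is. (In the published statement X is an integral locally closed
subscheme of P^N_k, the sums are restrictions of O(m)^r with m any integer, and E is reflexive
coherent.) -/
theorem result (k : Type u) [Field k] (X : Scheme.{u})
    (f : X ⟶ Spec (CommRingCat.of k)) [LocallyOfFiniteType f] [IsIntegral X]
    (L : X.Modules) (hL : CohB1.IsAmple L) (E : X.Modules) (hE : Coh.IsCoh E)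
    (hEr : ∀ x : X, Module.IsReflexive (X.presheaf.stalk x) (E.presheaf.stalk x)) :
    ∃ (q r q' r' : ℕ) (E' : X.Modules) (ι : E ⟶ ∐ fun _ : Fin r => CohB1.tensorPow L q)
      (π : (∐ fun _ : Fin r => CohB1.tensorPow L q) ⟶ E') (w : ι ≫ π = 0)
      (ι' : E' ⟶ ∐ fun _ : Fin r' => CohB1.tensorPow L q'),
      1 ≤ r ∧ 1 ≤ r' ∧ (ShortComplex.mk ι π w).ShortExact ∧ Mono ι' ∧ Coh.IsCoh E' ∧
        (FlatMod.IsFinLocFree E → FlatMod.IsFinLocFree E') := by
  haveI : IsLocallyNoetherian X := LocallyOfFiniteType.isLocallyNoetherian f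
  obtain ⟨q, r, ψ, hr, hmono, hψ⟩ := exists_embedding hL hE fun x =>
    haveI := hEr x
    (Module.bijective_dual_eval (X.presheaf.stalk x) (E.presheaf.stalk x)).1
  let T := CohB1.tensorPow L q
  have hT : PicF.IsInvertible T := AmpleLib.isInvertible_tensorPow hL.1 q
  let B : X.Modules := ∐ fun _ : Fin r => T
  have hB : Coh.IsCoh B := DCohMore.isCoh_sigma_fin T (CurveLib.isCoh_of_isInvertible hT) r
  let ι : E ⟶ B := tuple ψ
  haveI : Mono ι := hmono
  have hQ : Coh.IsCoh (cokernel ι) := (QCohLib.isCoh_kernel_cokernel ι hE hB).2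
  let Sc := ShortComplex.mk ι (cokernel.π ι) (cokernel.condition ι)
  haveI : Epi Sc.g := inferInstanceAs (Epi (cokernel.π ι))
  haveI : Mono Sc.f := inferInstanceAs (Mono ι)
  have hex := fun y : X => DCohLib.exact_stalkLin Sc (ShortComplex.exact_cokernel ι) y
  have hsurj := fun y : X => (epi_iff_stalk (cokernel.π ι)).1 inferInstance y
  obtain ⟨q', r', ψ', hr', hmono', -⟩ := exists_embedding hL hQ fun x => by
    haveI := hEr x
    obtain ⟨θ, c, hθ, hc⟩ := exists_dual_gen hT ψ x (hψ x)
    exact ReflEmbLib.injective_eval_coker θ hθ c (stalkLin ι x) hc (stalkLin (cokernel.π ι) x) (hsurj x) (hex x)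
  refine ⟨q, r, q', r', cokernel ι, ι, cokernel.π ι, cokernel.condition ι, tuple ψ', hr, hr',
    ⟨ShortComplex.exact_cokernel ι⟩, hmono', hQ, fun hEf => ?_⟩
  refine S1689.isFinLocFree_of_free hQ fun x => ?_
  haveI := hE.1
  haveI := PullbackMod.finite_stalk_of_isFT hE.2 x
  haveI : Module.Flat (X.presheaf.stalk x) (E.presheaf.stalk x) :=
    ((PullbackMod.isFinLocFree_iff E).1 hEf).2.2 x
  haveI : Module.Free (X.presheaf.stalk x) (E.presheaf.stalk x) := Module.free_of_flat_of_isLocalRing
  obtain ⟨θ, c, hθ, hc⟩ := exists_dual_gen hT ψ x (hψ x)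
  exact ReflEmbLib.free_coker θ hθ c (stalkLin ι x) hc (stalkLin (cokernel.π ι) x) (hsurj x) (hex x)

end Groth.Agent.S16671
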