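import Groth.Statements.S16673
import Groth.Agent.AbDualLib.Subvar

set_option autoImplicit false
universe u
open CategoryTheory CategoryTheory.Limits MonoidalCategory CartesianMonoidalCategory MonObj GrpObj AlgebraicGeometry
open AbVar

namespace Groth.Agent.S16673

open CategoryTheory CategoryTheory.Limits AlgebraicGeometry

open Groth.Agent
set_option backward.isDefEq.respectTransparency false

/-- A homomorphism with a quasi-inverse does not increase the `p`-rank. -/
theorem le_rank {k : Type u} [Field k] {p : ℕ} [Fact p.Prime] {T : Over (Spec (CommRingCat.of k))}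
    {X Y : Over (Spec (CommRingCat.of k))} [GrpObj X] [IsCommMonObj X] [GrpObj Y] [IsCommMonObj Y]
    (f : X ⟶ Y) (g : Y ⟶ X) [IsMonHom f] [IsMonHom g] (n : ℕ) (hn : 1 ≤ n) (hfg : f ≫ g = 𝟙 X ^ n) (i j : ℕ)
    (hi : ∀ m : ℕ, Nonempty (AbDual.torsPts X (p ^ m) T ≃* Multiplicative (Fin i → ZMod (p ^ m))))
    (hj : ∀ m : ℕ, Nonempty (AbDual.torsPts Y (p ^ m) T ≃* Multiplicative (Fin j → ZMod (p ^ m)))) : i ≤ j := by
  have hp : p.Prime := Fact.out
  obtain ⟨a, u, hu, hn'⟩ := Nat.exists_eq_pow_mul_and_not_dvd (Nat.one_le_iff_ne_zero.1 hn) p hp.ne_one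
  let m := a * i + 1
  haveI : NeZero (p ^ m) := ⟨(pow_pos hp.pos _).ne'⟩
  haveI : NeZero (p ^ a) := ⟨(pow_pos hp.pos _).ne'⟩
  obtain ⟨eX⟩ := hi m
  obtain ⟨eY⟩ := hj m
  obtain ⟨ea⟩ := hi a
  haveI : Finite (AbDual.torsPts Y (p ^ m) T) := Finite.of_equiv _ eY.symm.toEquiv
  haveI : Finite (AbDual.torsPts X (p ^ a) T) := Finite.of_equiv _ ea.symm.toEquiv
  let φ : AbDual.torsPts X (p ^ m) T →* AbDual.torsPts Y (p ^ m) T :=
    { toFun := fun x => ⟨x.1 ≫ f, (AbDual.mem_torsPts Y _).2 (by
        rw [← MonObj.pow_comp, (AbDual.mem_torsPts X _).1 x.2, MonObj.one_comp])⟩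
      map_one' := Subtype.ext (MonObj.one_comp f)
      map_mul' := fun x y => Subtype.ext (MonObj.mul_comp _ _ f) }
  have hker : ∀ x : φ.ker, x.1.1 ∈ AbDual.torsPts X (p ^ a) T := fun x => by
    rw [AbDual.mem_torsPts]
    have h1 : x.1.1 ≫ f = 1 := congrArg Subtype.val x.2
    have h2 : x.1.1 ^ n = 1 := by
      rw [show x.1.1 ^ n = x.1.1 ≫ f ≫ g by rw [hfg, MonObj.comp_pow, Category.comp_id], ← Category.assoc, h1,
        MonObj.one_comp]
    have h3 : x.1.1 ^ p ^ m = 1 := (AbDual.mem_torsPts X _).1 x.1.2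
    have h4 : x.1.1 ^ Nat.gcd n (p ^ m) = 1 := pow_gcd_eq_one.2 ⟨h2, h3⟩
    have h5 : Nat.gcd n (p ^ m) ∣ p ^ a := by
      rw [hn', Nat.Coprime.gcd_mul_right_cancel _ ((Nat.Coprime.pow_left _ ((hp.coprime_iff_not_dvd).2 hu)).symm)]
      exact Nat.gcd_dvd_left _ _
    exact orderOf_dvd_iff_pow_eq_one.1 ((orderOf_dvd_iff_pow_eq_one.2 h4).trans h5)
  have hle : Nat.card φ.ker ≤ Nat.card (AbDual.torsPts X (p ^ a) T) :=
    Nat.card_le_card_of_injective (fun x => ⟨x.1.1, hker x⟩) fun x y h =>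
      Subtype.ext (Subtype.ext (congrArg (fun z => z.1) h))
  have hcard : Nat.card (AbDual.torsPts X (p ^ m) T) ≤
      Nat.card (AbDual.torsPts X (p ^ a) T) * Nat.card (AbDual.torsPts Y (p ^ m) T) := by
    rw [← Subgroup.card_mul_index φ.ker, Subgroup.index_ker]
    exact Nat.mul_le_mul hle (Subgroup.card_le_card_group _)
  rw [Nat.card_congr eX.toEquiv, Nat.card_congr eY.toEquiv, Nat.card_congr ea.toEquiv] at hcard
  simp only [Nat.card_congr Multiplicative.toAdd, Nat.card_fun, Nat.card_zmod, Nat.card_fin, ← pow_mul, ← pow_add] at hcard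
  have h := (Nat.pow_le_pow_iff_right hp.one_lt).1 hcard
  by_contra hij
  rw [not_le] at hij
  have h2 : m * (j + 1) ≤ m * i := Nat.mul_le_mul_left m hij
  rw [Nat.mul_add, Nat.mul_one] at h2
  have h3 : m = a * i + 1 := rfl
  omega


/-- Let k be a field of characteristic p > 0 with an algebraic closure k̄, let X and Y be abelian
varieties over k (proper, geometrically integral, commutative k-group schemes) and let h : X → Y be
a homomorphism which is finite and surjective (an isogeny). If i and j are natural numbers such that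
for every m ≥ 0 the group X[p^m](k̄) of k̄-valued points of X killed by p^m (k̄-valued points being
the k-morphisms Spec k̄ → X, a group under the group law of X) is isomorphic to (ℤ/p^m)^i and the
group Y[p^m](k̄) is isomorphic to (ℤ/p^m)^j (groups of points written multiplicatively), then i = j:
the p-rank is an isogeny invariant. -/
theorem result (k : Type u) [Field k] (p : ℕ) [Fact p.Prime] [CharP k p]
    (X Y : Over (Spec (CommRingCat.of k)))
    [GrpObj X] [IsCommMonObj X] [IsProper X.hom] [GeometricallyIntegral X.hom]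
    [GrpObj Y] [IsCommMonObj Y] [IsProper Y.hom] [GeometricallyIntegral Y.hom]
    (h : X ⟶ Y) [IsMonHom h] [IsFinite h.left] [Surjective h.left]
    (i j : ℕ)
    (hi : ∀ m : ℕ, Nonempty (AbDual.torsPts X (p ^ m)
      (Over.mk (Spec.map (CommRingCat.ofHom (algebraMap k (AlgebraicClosure k))))) ≃*
      Multiplicative (Fin i → ZMod (p ^ m))))
    (hj : ∀ m : ℕ, Nonempty (AbDual.torsPts Y (p ^ m)
      (Over.mk (Spec.map (CommRingCat.ofHom (algebraMap k (AlgebraicClosure k))))) ≃*
      Multiplicative (Fin j → ZMod (p ^ m)))) :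
    i = j := by
  obtain ⟨n, g, hn, hg, hhg, hgh⟩ := AbDualLib.exists_dual X Y h (AVLib.dim_eq_of_isFinite_surjective h)
  haveI := hg
  exact le_antisymm (le_rank h g n hn hhg i j hi hj) (le_rank g h n hn hgh j i hj hi)

end Groth.Agent.S16673
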