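import Groth.Statements.S16676
import Groth.Agent.AVLib.Isog
import Groth.Agent.MonoFibre.Connected
-- import your own Groth.Agent.* helpers here

set_option autoImplicit false
universe u
open CategoryTheory CategoryTheory.Limits MonoidalCategory CartesianMonoidalCategory MonObj GrpObj AlgebraicGeometry
open AbVar

namespace Groth.Agent.S16676

/-- The equivalence of its second and third conditions. Let X and Y be abelian varieties over a field k
(proper, geometrically integral k-group schemes), f : X → Y a homomorphism which is finite, flat and
surjective (an isogeny), and i : N → X the kernel of f (the square formed by i, f, the unit section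
of Y and the structure map of N is cartesian). Then f is universally injective (a purely inseparable
morphism) if and only if the scheme N is connected. (The published item also includes the equivalent
condition that the function field of X is purely inseparable over that of Y; that clause is not part
of this statement.) -/
theorem result (k : Type u) [Field k]
    (X Y : Over (Spec (CommRingCat.of k)))
    [GrpObj X] [IsProper X.hom] [GeometricallyIntegral X.hom]
    [GrpObj Y] [IsProper Y.hom] [GeometricallyIntegral Y.hom]
    (f : X ⟶ Y) [IsMonHom f] [IsFinite f.left] [Flat f.left] [Surjective f.left]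
    (N : Over (Spec (CommRingCat.of k))) (i : N ⟶ X) (hN : AlgGrp.IsKernel i f) :
    UniversallyInjective f.left ↔ ConnectedSpace ↥N.left := by
  haveI : Subsingleton ↥(Spec (CommRingCat.of k)) := inferInstanceAs (Subsingleton (PrimeSpectrum k))
  have sq := Groth.Agent.GrpQuotLib.isPullback_left hN
  have hNf : IsFinite N.hom := by
    haveI : IsFinite (toUnit N).left := MorphismProperty.of_isPullback (P := @IsFinite) sq inferInstance
    rw [← Over.w (toUnit N)]
    exact inferInstanceAs (IsFinite ((toUnit N).left ≫ 𝟙 _))
  haveI := hNf
  let σ : Spec (CommRingCat.of k) ⟶ N.left := (hN.lift η[X] (𝟙 _) (by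
    rw [IsMonHom.one_hom, Category.id_comp])).left
  have hσ : σ ≫ N.hom = 𝟙 _ := Over.w (hN.lift η[X] (𝟙 _) (by rw [IsMonHom.one_hom, Category.id_comp]))
  constructor
  · intro hu
    haveI : UniversallyInjective (toUnit N).left := MorphismProperty.of_isPullback (P := @UniversallyInjective) sq hu
    haveI : Subsingleton ↥(𝟙_ (Over (Spec (CommRingCat.of k)))).left :=
      inferInstanceAs (Subsingleton (PrimeSpectrum k))
    haveI : Subsingleton N.left := ⟨fun a b => (toUnit N).left.injective (Subsingleton.elim _ _)⟩
    haveI : Nonempty N.left := ⟨σ (IsLocalRing.closedPoint k)⟩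
    infer_instance
  · intro hc
    haveI : Subsingleton N.left := by
      haveI : DiscreteTopology N.left := by
        have hd : _root_.IsDiscrete (N.hom ⁻¹' {IsLocalRing.closedPoint k}) := N.hom.isDiscrete_preimage_singleton _
        have huniv : N.hom ⁻¹' {IsLocalRing.closedPoint k} = Set.univ :=
          Set.eq_univ_of_forall fun w => (Subsingleton.elim (α := PrimeSpectrum k) _ _ : N.hom w = IsLocalRing.closedPoint k)
        rw [huniv] at hd
        exact isDiscrete_univ_iff.1 hd
      exact PreconnectedSpace.trivial_of_discrete
    haveI : Surjective σ := ⟨fun z => ⟨IsLocalRing.closedPoint k, Subsingleton.elim _ _⟩⟩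
    haveI : UniversallyInjective N.hom := by
      refine (UniversallyInjective.iff_diagonal N.hom).2 ?_
      let m := Limits.pullback.map (𝟙 (Spec (CommRingCat.of k))) (𝟙 (Spec (CommRingCat.of k))) N.hom N.hom σ σ (𝟙 _)
        ((Category.comp_id _).trans hσ.symm) ((Category.comp_id _).trans hσ.symm)
      haveI : Surjective m := MorphismProperty.pullbackMap (P := @Surjective) ‹Surjective σ› ‹Surjective σ› hσ.symm hσ.symm
      have e : σ ≫ Limits.pullback.diagonal N.hom = Limits.pullback.diagonal (𝟙 (Spec (CommRingCat.of k))) ≫ m := by
        apply Limits.pullback.hom_ext <;>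
          simp only [m, Limits.pullback.map, Category.assoc, Limits.pullback.lift_fst, Limits.pullback.lift_snd, Limits.pullback.lift_fst_assoc, Limits.pullback.lift_snd_assoc, Limits.pullback.diagonal_fst, Limits.pullback.diagonal_snd, Limits.pullback.diagonal_fst_assoc, Limits.pullback.diagonal_snd_assoc, Category.comp_id, Category.id_comp]
      haveI : Surjective (σ ≫ Limits.pullback.diagonal N.hom) := by rw [e]; infer_instance
      exact Surjective.of_comp σ _
    exact Groth.Agent.MonoFibre.KernelFibre.of_kernel f i @UniversallyInjective hN ‹_›

end Groth.Agent.S16676
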