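import Groth.Statements.S16678
import Groth.Agent.Pi0SchLib.Scheme
-- import your own Groth.Agent.* helpers here

set_option autoImplicit false
set_option backward.isDefEq.respectTransparency false
universe u
open CategoryTheory CategoryTheory.Limits AlgebraicGeometry
open Variety

namespace Groth.Agent.S16678

/-- For a field k and a k-scheme X locally of finite type there are an étale k-scheme P and a k-morphism
q : X → P such that every k-morphism h : X → Y to an étale k-scheme Y equals t ∘ q for exactly one
k-morphism t : P → Y; moreover q is flat and surjective, and for each point x of X the fibre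
q⁻¹(q(x)), as a subset of X, is the connected component of x. (Étale means locally of finite
presentation with étale ring maps on affine pieces; no quasi-compactness is asked, so P may have
infinitely many points.) -/
theorem result (k : Type u) [Field k]
    (X : Scheme.{u}) (f : X ⟶ Spec (CommRingCat.of k)) [LocallyOfFiniteType f] :
    ∃ (P : Scheme.{u}) (g : P ⟶ Spec (CommRingCat.of k)) (q : X ⟶ P), Etale g ∧ q ≫ g = f ∧
      (∀ (Y : Scheme.{u}) (gY : Y ⟶ Spec (CommRingCat.of k)) (h : X ⟶ Y), Etale gY → h ≫ gY = f →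
        ∃! t : P ⟶ Y, t ≫ gY = g ∧ q ≫ t = h) ∧
      Flat q ∧ Surjective q ∧
      ∀ x : ↥X, (fun x' : ↥X => q x') ⁻¹' {q x} = connectedComponent x := by
  haveI : IsLocallyNoetherian X := LocallyOfFiniteType.isLocallyNoetherian f
  let V : _root_.ConnectedComponents ↥X → X.Opens := fun c => ⟨_root_.ConnectedComponents.mk ⁻¹' {c}, by
    obtain ⟨x, rfl⟩ := _root_.ConnectedComponents.surjective_coe c
    rw [connectedComponents_preimage_singleton]
    exact Groth.Agent.ArtGrpLib.isOpen_connectedComponent x⟩
  haveI : ∀ c, ConnectedSpace ↥(V c).toScheme := fun c => by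
    have : _root_.IsConnected (V c : Set X) := by
      obtain ⟨x, rfl⟩ := _root_.ConnectedComponents.surjective_coe c
      show _root_.IsConnected (_root_.ConnectedComponents.mk ⁻¹' {_root_.ConnectedComponents.mk x})
      rw [connectedComponents_preimage_singleton]
      exact isConnected_connectedComponent
    exact isConnected_iff_connectedSpace.1 this
  choose L hLF σ π hEt hfac huniv using fun c =>
    Groth.Agent.Pi0SchLib.exists_component (k := k) (V c).toScheme ((V c).ι ≫ f)
  obtain ⟨hc⟩ := nonempty_isColimit_cofanMk_of (fun c => (V c).ι) (by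
    refine top_le_iff.1 fun x _ => TopologicalSpace.Opens.mem_iSup.2 ⟨_root_.ConnectedComponents.mk x, ?_⟩
    rw [Scheme.Opens.opensRange_ι]
    exact rfl) (fun c c' hne => by
    simp only [Function.onFun, Scheme.Opens.opensRange_ι]
    rw [disjoint_iff]
    ext x
    exact ⟨fun h => (hne (h.1.symm.trans h.2)).elim, fun h => h.elim⟩)
  let P : Scheme.{u} := ∐ fun c => Spec (L c)
  let g : P ⟶ Spec (CommRingCat.of k) := Limits.Sigma.desc fun c => Spec.map (σ c)
  let q : X ⟶ P := hc.desc (Limits.Cofan.mk P fun c => π c ≫ Limits.Sigma.ι (fun c => Spec (L c)) c)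
  have hq : ∀ c, (V c).ι ≫ q = π c ≫ Limits.Sigma.ι (fun c => Spec (L c)) c := fun c => hc.fac _ ⟨c⟩
  have hpt : ∀ x : X, q x = Limits.Sigma.ι (fun c => Spec (L c)) (_root_.ConnectedComponents.mk x)
      (π (_root_.ConnectedComponents.mk x) ⟨x, rfl⟩) := fun x => by
    rw [← Scheme.Hom.comp_apply, ← hq, Scheme.Hom.comp_apply]
    rfl
  have hsub : ∀ c, Subsingleton ↥(Spec (L c)) := fun c => by
    letI := (hLF c).toField
    exact inferInstanceAs (Subsingleton (PrimeSpectrum (L c)))
  refine ⟨P, g, q, IsZariskiLocalAtSource.sigmaDesc hEt, ?_, ?_, ?_, ?_, ?_⟩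
  · refine Limits.Cofan.IsColimit.hom_ext hc _ _ fun c => ?_
    show (V c).ι ≫ q ≫ g = (V c).ι ≫ f
    rw [← Category.assoc, hq, Category.assoc, Limits.Sigma.ι_desc, hfac]
  · intro Y gY h hY hh
    choose t ht huni using fun c => huniv c Y gY ((V c).ι ≫ h) hY (by rw [Category.assoc, hh])
    refine ⟨Limits.Sigma.desc t, ⟨Limits.Sigma.hom_ext _ _ fun c => ?_, ?_⟩, fun t' ⟨h1, h2⟩ => ?_⟩
    · rw [Limits.Sigma.ι_desc_assoc, Limits.Sigma.ι_desc]
      exact (ht c).1
    · refine Limits.Cofan.IsColimit.hom_ext hc _ _ fun c => ?_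
      show (V c).ι ≫ q ≫ _ = (V c).ι ≫ h
      rw [← Category.assoc, hq, Category.assoc, Limits.Sigma.ι_desc]
      exact (ht c).2
    · refine Limits.Sigma.hom_ext _ _ fun c => ?_
      rw [Limits.Sigma.ι_desc]
      refine huni c _ ⟨?_, ?_⟩
      · rw [Category.assoc, h1, Limits.Sigma.ι_desc]
      · rw [← Category.assoc, ← hq, Category.assoc, h2]
  · haveI : ∀ c, Flat (π c) := fun c => by
      letI := (hLF c).toField
      haveI : IsDomain (L c) := (hLF c).isDomain
      haveI := hsub c
      infer_instance
    refine (IsZariskiLocalAtSource.iff_of_iSup_eq_top (P := @Flat) (U := V) ?_).2 fun c => ?_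
    · exact top_le_iff.1 fun x _ => TopologicalSpace.Opens.mem_iSup.2 ⟨_root_.ConnectedComponents.mk x, rfl⟩
    · rw [hq]; infer_instance
  · refine ⟨fun p => ?_⟩
    obtain ⟨c, y, rfl⟩ := (sigmaOpenCover (fun c => Spec (L c))).exists_eq p
    obtain ⟨x, rfl⟩ := _root_.ConnectedComponents.surjective_coe c
    exact ⟨x, (hpt x).trans (congrArg _ ((hsub _).elim _ _))⟩
  · intro x
    ext x'
    simp only [Set.mem_preimage, Set.mem_singleton_iff]
    rw [hpt, hpt, sigmaι_eq_iff, ← _root_.ConnectedComponents.coe_eq_coe']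
    constructor
    · exact fun e => congrArg Sigma.fst e
    · intro e
      refine Sigma.ext e ?_
      generalize π (_root_.ConnectedComponents.mk x') ⟨x', rfl⟩ = a
      generalize π (_root_.ConnectedComponents.mk x) ⟨x, rfl⟩ = b
      revert a
      rw [e]
      exact fun a => heq_of_eq ((hsub _).elim _ _)

end Groth.Agent.S16678
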