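import Groth.Statements.S16680
import Groth.Agent.AVEmbLib.Alg
import Groth.Agent.AVEmbLib.KClass
import Groth.Agent.S1937
import Groth.Agent.S3233
import Groth.Agent.S5015
import Groth.Agent.S9370
import Groth.Agent.HodgePnLib.Euler
import Groth.Agent.KVbLib.PullExt
import Groth.Agent.TwistShriek.SurfSmooth
import Groth.Agent.SeesawVB.TrivFibres
import Groth.Agent.ProjSmoothLib.Basic
import Groth.Agent.AVLib.Isogeny
import Groth.Agent.AmpleLib.Pullback
import Groth.Agent.AmpleEmb.TwistOne
import Groth.Agent.DegPolyLib.Top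

set_option autoImplicit false
set_option backward.isDefEq.respectTransparency false
set_option backward.isDefEq.respectTransparency.types false
set_option linter.style.haveILetI false
set_option maxHeartbeats 1000000
universe u
open CategoryTheory CategoryTheory.Limits MonoidalCategory CartesianMonoidalCategory MonObj GrpObj AlgebraicGeometry
open AbVar

namespace Groth.Agent.S16680

/-- Fix a field k and a g-dimensional abelian variety X over k (a proper, geometrically integral k-group
scheme whose underlying space has Krull dimension g). Then X admits no closed immersion into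
projective (2g − 1)-space over k: if f : X → P^n_k is a closed immersion compatible with the
structure morphisms to Spec k, then 2g ≤ n. -/
theorem result (k : Type u) [Field k]
    (X : Over (Spec (CommRingCat.of k))) [GrpObj X] [IsProper X.hom] [GeometricallyIntegral X.hom]
    (g : ℕ) (hg : topologicalKrullDim ↥X.left = g)
    (n : ℕ) (f : X.left ⟶ CohB1.ProjSpace n k) [IsClosedImmersion f]
    (hf : f ≫ CohB1.ProjSpace.toSpec n k = X.hom) :
    2 * g ≤ n := by
  by_contra hlt
  haveI : Smooth X.hom := by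
    letI : GrpObj (Over.mk X.hom) := ‹GrpObj X›
    exact smooth_of_grpObj X.hom
  haveI : IsIntegral X.left := GeometricallyIntegral.isIntegral_of_subsingleton X.hom
  letI : X.left.Over (Spec (CommRingCat.of k)) := ⟨X.hom⟩
  haveI : IsProper (X.left ↘ Spec (CommRingCat.of k)) := ‹IsProper X.hom›
  haveI := Groth.Agent.EulerIneqLib.isNoetherian_proper (X := X.left) k
  haveI : SmoothOfRelativeDimension g X.hom :=
    Groth.Agent.TwistShriek.smoothOfRelativeDimension_of_smooth X.hom hg
  haveI := Groth.Agent.ProjSmoothLib.smooth_toSpec n k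
  have hext : Groth.Agent.KVb.HasExt X.left := Groth.Agent.KVb.hasExt
  obtain ⟨x₀⟩ : Nonempty ↥X.left := inferInstance
  -- differentials of the abelian variety are free of rank `g`
  haveI : Coh.IsQCoh (Omega.conormal η[X].left) := by
    haveI := Groth.Agent.OmegaAffLib.isQCoh_idealMod η[X].left.ker
    exact Groth.Agent.PullbackMod.isQCoh_pullback η[X].left (ClSub.idealMod η[X].left.ker)
  obtain ⟨⟨t⟩, -⟩ := Groth.Agent.S1937.result _ X
  have hΩX := Groth.Agent.InfLiftLib.isFinLocFree_omega X.hom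
  have hrX : ∀ x, Groth.Agent.PullbackMod.FreeAt g (Omega.sheaf X.hom) x := fun x => by
    obtain ⟨U, s, hxU, hs⟩ := Groth.Agent.SeesawVB.exists_frame_omega X.hom g x
    exact Groth.Agent.SeesawVB.freeAt_of_frame hs hxU
  obtain ⟨iX⟩ : Nonempty (Omega.sheaf X.hom ≅ FlatMod.freeMod X.left g) := by
    haveI : Subsingleton ↥(𝟙_ (Over (Spec (CommRingCat.of k)))).left :=
      inferInstanceAs (Subsingleton (PrimeSpectrum k))
    obtain ⟨pt⟩ : Nonempty ↥(𝟙_ (Over (Spec (CommRingCat.of k)))).left :=
      inferInstanceAs (Nonempty (PrimeSpectrum k))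
    let e : (Scheme.Modules.pullback η[X].left).obj (Omega.sheaf X.hom) ≅ Omega.conormal η[X].left :=
      (Scheme.Modules.pullback η[X].left).mapIso t ≪≫
        (Scheme.Modules.pullbackComp η[X].left X.hom ≪≫
          Scheme.Modules.pullbackCongr (Over.w η[X]) ≪≫ Scheme.Modules.pullbackId _).app _
    have hC : FlatMod.IsFinLocFree (Omega.conormal η[X].left) :=
      Groth.Agent.DCohLib.isFinLocFree_iso e (Groth.Agent.PullbackMod.isFinLocFree_pullback _ _ hΩX)
    obtain ⟨U, m, s, hU, hs⟩ := Groth.Agent.SeesawVB.exists_frame_at hC pt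
    have hUtop : U = ⊤ := TopologicalSpace.Opens.ext (Set.eq_univ_of_forall fun y => Subsingleton.elim pt y ▸ hU)
    subst hUtop
    obtain ⟨φ⟩ := Groth.Agent.SeesawVB.iso_free_of_frame hs
    obtain rfl : m = g := by
      haveI := Groth.Agent.PullbackMod.isQCoh_and_isFP_of_isFinLocFree _ hΩX |>.1
      obtain ⟨a⟩ := Groth.Agent.PullbackMod.freeAt_pullback _ η[X].left pt (hrX _)
      exact Groth.Agent.PullbackMod.freeAt_unique _ (Groth.Agent.SeesawVB.freeAt_of_frame hs hU)
        ⟨(LinearEquiv.ofBijective _ ((Groth.Agent.PullbackMod.isIso_iff_stalk e.inv).1 inferInstance pt)).trans a⟩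
    exact ⟨t ≪≫ (Scheme.Modules.pullback X.hom).mapIso φ ≪≫ Groth.Agent.DCohLib.pullFreeIso X.hom _⟩
  -- differentials of projective space
  have hΩP := Groth.Agent.InfLiftLib.isFinLocFree_omega (CohB1.ProjSpace.toSpec n k)
  let FΩ := (Scheme.Modules.pullback f).obj (Omega.sheaf (CohB1.ProjSpace.toSpec n k))
  have hFΩ : FlatMod.IsFinLocFree FΩ := Groth.Agent.PullbackMod.isFinLocFree_pullback _ _ hΩP
  obtain ⟨cmp, hcmp, -⟩ := Groth.Agent.S9370.result (CohB1.ProjSpace.toSpec n k) X.hom f (𝟙 _)
    (by rw [Category.comp_id]; exact hf.symm) _ _ (Groth.Agent.OmegaUnivLib.isUniversal_dOmega _)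
    _ _ (Groth.Agent.OmegaUnivLib.isUniversal_dOmega X.hom)
  haveI : Epi cmp := (Groth.Agent.S5015.result _ X.hom f hf _ _ (Groth.Agent.OmegaUnivLib.isUniversal_dOmega _)
    _ _ (Groth.Agent.OmegaUnivLib.isUniversal_dOmega X.hom) cmp hcmp).1 inferInstance
  have hses : (ShortComplex.mk (kernel.ι cmp) cmp (kernel.condition cmp)).ShortExact :=
    Groth.Agent.CMRegLib.shortExact_ker cmp
  have hK : FlatMod.IsFinLocFree (kernel cmp) :=
    Groth.Agent.DCohLib.isFinLocFree_of_shortExact hses hFΩ hΩX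
  -- the twisting sheaf
  let O1 := Twist.twistProjSpace n k 1
  let L := (Scheme.Modules.pullback f).obj O1
  have hamp : CohB1.IsAmple L :=
    Groth.Agent.AmpleLib.isAmple_pullback f (Groth.Agent.AmpleEmb.isAmple_twistOne n k)
  have hLi : PicF.IsInvertible L :=
    Groth.Agent.AmpleLib.isInvertible_pullback f (Groth.Agent.AmpleEmb.isInvertible_twistOne n k)
  obtain ⟨M, hMi, ⟨eLM⟩⟩ := Groth.Agent.AmpleEmb.exists_isInverseOf hLi
  have hLf := Groth.Agent.CurveLib.isFinLocFree_of_isInvertible hLi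
  have hMf := Groth.Agent.CurveLib.isFinLocFree_of_isInvertible hMi
  have hMr : ∀ x, Groth.Agent.PullbackMod.fibreRank M x = 1 :=
    (Groth.Agent.KVb.isFinLocFreeOfRank_iff hMf 1).1 (Groth.Agent.CurveLib.isFinLocFreeOfRank_one hMi)
  -- the classes
  let cl : X.left.Modules → Groth.Agent.KVb.KR X.left := fun E => Groth.Agent.KVb.toKR (KRR.cl X.left E)
  let l := cl M
  have hla : cl L * l = 1 := Groth.Agent.AVEmbLib.cl_mul_inverse hLf hMf eLM
  have heuler : cl FΩ + 1 = ((n + 1 : ℕ) : Groth.Agent.KVb.KR X.left) * l := by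
    obtain ⟨S, hS, ⟨e1⟩, ⟨e2⟩, ⟨e3⟩⟩ := Groth.Agent.HodgePnLib.exists_euler_ses n k
    have hO1 := Groth.Agent.CurveLib.isFinLocFree_of_isInvertible (Groth.Agent.AmpleEmb.isInvertible_twistOne n k)
    have h' : ((n + 1 : ℕ) : Groth.Agent.KVb.KR X.left) = cl FΩ * cl L + cl L :=
      Groth.Agent.AVEmbLib.cl_euler_pullback f hS hΩP hO1 e1 e2 e3
    rw [h', add_mul, _root_.mul_assoc, hla, _root_.mul_one]
  have hker : cl FΩ = cl (kernel cmp) + (g : Groth.Agent.KVb.KR X.left) := by
    have h := congrArg Groth.Agent.KVb.toKR (Groth.Agent.KVb.cl_add hses hK hFΩ hΩX)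
    rw [map_add] at h
    refine h.trans (congrArg (fun x => cl (kernel cmp) + x) ?_)
    exact (congrArg Groth.Agent.KVb.toKR (Groth.Agent.KVb.cl_iso iX)).trans (Groth.Agent.AVEmbLib.cl_freeMod _)
  let one' : SGA6.Kvb X.left := KRR.cl X.left (Coh.structureModule X.left)
  have hrel : KRR.cl X.left (kernel cmp) + (g + 1) • one' = (n + 1) • KRR.cl X.left M := by
    apply Groth.Agent.KVb.toKR_bijective.1
    rw [map_add, map_nsmul, map_nsmul, Groth.Agent.KVb.toKR_one, nsmul_eq_mul, nsmul_eq_mul, _root_.mul_one]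
    show cl (kernel cmp) + ((g + 1 : ℕ) : Groth.Agent.KVb.KR X.left) = ((n + 1 : ℕ) : Groth.Agent.KVb.KR X.left) * l
    rw [← heuler, hker]
    push_cast
    ring
  -- the rank of the kernel
  have hone : ∀ x, Groth.Agent.PullbackMod.fibreRank (Coh.structureModule X.left) x = 1 :=
    Groth.Agent.AVEmbLib.fibreRank_structureModule
  have hrk : ∀ x, Groth.Agent.PullbackMod.fibreRank (kernel cmp) x + g = n := fun x => by
    obtain ⟨rk, hrk⟩ := Groth.Agent.KVb.exists_rkHom x
    have h := congrArg rk hrel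
    rw [map_add, map_nsmul, map_nsmul, hrk _ hK, hrk _ hMf, hrk _ Groth.Agent.KVb.isFinLocFree_one, hone, hMr] at h
    simp only [nsmul_eq_mul, Nat.cast_add, Nat.cast_one, _root_.mul_one] at h
    omega
  let c := n - g
  have hn : n = g + c := by have := hrk x₀; omega
  -- the series of exterior powers
  have hP : ∀ j, c < j → PowerSeries.coeff j (Groth.Agent.KVb.lamSer hext (KRR.cl X.left (kernel cmp))) = 0 :=
    fun j hj => Groth.Agent.AVEmbLib.coeff_lamSer_eq_zero hext hK (r := c) (fun x => by have := hrk x; omega) hj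
  have hser := congrArg (Groth.Agent.KVb.lamSer hext) hrel
  rw [Groth.Agent.KVb.lamSer_add, Groth.Agent.AVEmbLib.lamSer_nsmul, Groth.Agent.AVEmbLib.lamSer_nsmul,
    Groth.Agent.AVEmbLib.lamSer_line hext Groth.Agent.KVb.isFinLocFree_one hone, Groth.Agent.KVb.toKR_one,
    map_one, _root_.one_mul, Groth.Agent.AVEmbLib.lamSer_line hext hMf hMr] at hser
  have hu := Groth.Agent.AVEmbLib.choose_mul_pow_eq_zero _ (l - 1) g c hP (by
    rw [show (1 : Groth.Agent.KVb.KR X.left) + (l - 1) = l by ring, show g + c + 1 = n + 1 by omega]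
    exact hser)
  -- intersection numbers
  obtain ⟨χ, hχ⟩ := Groth.Agent.AVEmbLib.exists_chi (X := X.left) k
  have hint : (((g + c + 1).choose (c + 1) : ℕ) : ℤ) *
      FGA.intNum k X.left g (fun _ : Fin g => M) (Coh.structureModule X.left) = 0 := by
    rw [Groth.Agent.AVEmbLib.intNum_eq hχ hMf hg.le g, ← nsmul_eq_mul, ← map_nsmul, nsmul_eq_mul,
      show (1 - Groth.Agent.KVb.toKR (KRR.cl X.left M)) ^ g =
        (-1 : Groth.Agent.KVb.KR X.left) ^ g * ((l - 1) ^ (c + 1) * (l - 1) ^ (g - (c + 1))) by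
          rw [← pow_add, show c + 1 + (g - (c + 1)) = g by omega, ← mul_pow]
          congr 1
          show 1 - l = _
          ring]
    have hz : (((g + c + 1).choose (c + 1) : ℕ) : Groth.Agent.KVb.KR X.left) *
        ((-1 : Groth.Agent.KVb.KR X.left) ^ g * ((l - 1) ^ (c + 1) * (l - 1) ^ (g - (c + 1)))) = 0 := by
      calc _ = (((g + c + 1).choose (c + 1) : ℕ) : Groth.Agent.KVb.KR X.left) * (l - 1) ^ (c + 1) *
            ((-1 : Groth.Agent.KVb.KR X.left) ^ g * (l - 1) ^ (g - (c + 1))) := by ring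
        _ = 0 := by rw [hu, zero_mul]
    rw [hz, map_zero]
  have hpos := Groth.Agent.S3233.result k X.left g hg.le (r := g) (fun _ => L) (fun _ => M) (fun _ => hamp)
    (fun _ => ⟨eLM⟩) (Coh.structureModule X.left)
    (Groth.Agent.CurveLib.isCoh_of_isFinLocFree Groth.Agent.KVb.isFinLocFree_one) (by
      rw [Groth.Agent.DegPolyLib.support_structureModule,
        (Homeomorph.Set.univ X.left).isHomeomorph.topologicalKrullDim_eq]
      exact hg)
  rcases mul_eq_zero.1 hint with h | h
  · exact absurd (Nat.cast_eq_zero.1 h) (Nat.choose_pos (by omega)).ne'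
  · exact hpos.ne' h

end Groth.Agent.S16680
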