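import Groth.Statements.S16682
import Groth.Agent.AVLib.SeesawBase
import Groth.Agent.PicLib.Group
-- import your own Groth.Agent.* helpers here

set_option autoImplicit false
universe u
open CategoryTheory CategoryTheory.Limits MonoidalCategory CartesianMonoidalCategory AlgebraicGeometry
open AbVar

namespace Groth.Agent.S16682

/-- Let k be a field, X a proper geometrically integral k-scheme (a complete variety), Y a variety over
k (separated, of finite type, geometrically integral), and L, M two invertible modules on X ×_k Y
(the product in the category of k-schemes). If for every closed point y of Y the restrictions of L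
and M to the fibre X ×_k Spec k(y) are isomorphic, then there is an invertible O_Y-module N with L
isomorphic to M ⊗ p^*N, where p : X ×_k Y → Y is the second projection (existence of an isomorphism;
N is determined only up to isomorphism). -/
theorem result (k : Type u) [Field k]
    (X Y : Over (Spec (CommRingCat.of k)))
    [IsProper X.hom] [GeometricallyIntegral X.hom]
    [IsSeparated Y.hom] [QuasiCompact Y.hom] [LocallyOfFiniteType Y.hom] [GeometricallyIntegral Y.hom]
    (L M : (X ⊗ Y).left.Modules) (hL : PicF.IsInvertible L) (hM : PicF.IsInvertible M)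
    (h : ∀ y : ↥Y.left, IsClosed ({y} : Set ↥Y.left) →
      Nonempty ((Scheme.Modules.pullback (pullback.fst (snd X Y).left (Y.left.fromSpecResidueField y))).obj L ≅
        (Scheme.Modules.pullback (pullback.fst (snd X Y).left (Y.left.fromSpecResidueField y))).obj M)) :
    ∃ N : Y.left.Modules, PicF.IsInvertible N ∧
      Nonempty (L ≅ CohB1.tensorMod M ((Scheme.Modules.pullback (snd X Y).left).obj N)) := by
  haveI : Subsingleton ↥(Spec (CommRingCat.of k)) := inferInstanceAs (Subsingleton (PrimeSpectrum k))
  haveI : IsIntegral Y.left := GeometricallyIntegral.isIntegral_of_subsingleton Y.hom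
  haveI : IsLocallyNoetherian Y.left := LocallyOfFiniteType.isLocallyNoetherian Y.hom
  haveI : IsProper (snd X Y).left := MorphismProperty.pullback_snd (P := @IsProper) X.hom Y.hom inferInstance
  haveI : Flat X.hom := inferInstance
  haveI : Flat (snd X Y).left := MorphismProperty.pullback_snd (P := @Flat) X.hom Y.hom inferInstance
  haveI : GeometricallyIntegral (snd X Y).left :=
    MorphismProperty.pullback_snd (P := @GeometricallyIntegral) X.hom Y.hom inferInstance
  haveI := LocallyOfFiniteType.jacobsonSpace Y.hom
  obtain ⟨P, hP, hPc⟩ := PicLib.exists_cls (PicLib.cls hL * (PicLib.cls hM)⁻¹)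
  obtain ⟨N, hN, ⟨e⟩⟩ := AVLib.exists_iso_pullback (snd X Y).left hP (S := closedPoints Y.left)
    (dense_iff_closure_eq.2 closure_closedPoints) (fun y hy => by
      have h1 := congrArg (PicLib.pull ((snd X Y).left.fiberι y)) hPc
      have h2 : PicLib.pull ((snd X Y).left.fiberι y) (PicLib.cls hL) =
          PicLib.pull ((snd X Y).left.fiberι y) (PicLib.cls hM) := (PicLib.cls_eq_cls _ _).2 (h y hy)
      rw [map_mul, map_inv, h2, mul_inv_cancel, PicLib.pull_cls, PicLib.cls_eq_one] at h1
      exact CubeLib.triv_iff.2 h1)
  refine ⟨N, hN, ?_⟩
  have h3 : PicLib.cls hL = PicLib.cls hM * PicLib.pull (snd X Y).left (PicLib.cls hN) := by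
    rw [PicLib.pull_cls, show PicLib.cls (AmpleLib.isInvertible_pullback (snd X Y).left hN) = PicLib.cls hP from
      (PicLib.cls_eq_cls _ _).2 ⟨e⟩, hPc, _root_.mul_left_comm, mul_inv_cancel, _root_.mul_one]
  exact (PicLib.cls_eq_cls hL (AmpleLib.isInvertible_tensor hM (AmpleLib.isInvertible_pullback _ hN))).1 h3

end Groth.Agent.S16682
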