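import Groth.Statements.S16685
import Mathlib
import Groth.Agent.FinHopf.Truncated
import Groth.Agent.FinHopf.Simple
-- import your own Groth.Agent.* helpers here

set_option autoImplicit false
universe u
open HopfRep
open scoped TensorProduct

namespace Groth.Agent.S16685

/-- The description of the kernel of Frobenius established in the course of the proof. Let k be a field
of characteristic p > 0 and A a finite-dimensional commutative Hopf algebra over k which is a local
ring, the coordinate ring of a connected finite k-group scheme G; let I be the augmentation ideal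
(the kernel of the counit), d = dim_k I/I² the dimension of the tangent space at the identity, and J
⊆ A the ideal generated by the p-th powers of the elements of I, so that A/J is the coordinate ring
of the kernel G[F] of the relative Frobenius. Then A/J is isomorphic as a k-algebra to k[X_1, …,
X_d]/(X_1^p, …, X_d^p) (existence of an isomorphism; it depends on the choice of elements of I
lifting a basis of I/I²); in particular G[F] has rank p^d. -/
theorem result (k : Type u) [Field k] (p : ℕ) [Fact p.Prime] [CharP k p]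
    (A : Type u) [CommRing A] [HopfAlgebra k A] [FiniteDimensional k A] [IsLocalRing A]
    (d : ℕ) (hd : Module.finrank k (RingHom.ker (Bialgebra.counitAlgHom k A).toRingHom).Cotangent = d) :
    Nonempty ((A ⧸ Ideal.span ((fun a : A => a ^ p) '' (RingHom.ker (Bialgebra.counitAlgHom k A).toRingHom : Set A))) ≃ₐ[k]
      (MvPolynomial (Fin d) k ⧸ Ideal.span (Set.range fun i : Fin d => (MvPolynomial.X i : MvPolynomial (Fin d) k) ^ p))) := by
  classical
  have hp := (Fact.out : p.Prime)
  set ε := Bialgebra.counitAlgHom k A with hε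
  set I : Ideal A := RingHom.ker ε with hI
  let J : Ideal A := Ideal.span ((fun a : A => a ^ p) '' (I : Set A))
  change Nonempty ((A ⧸ J) ≃ₐ[k] _)
  have hJI : J ≤ I := Ideal.span_le.mpr (by
    rintro _ ⟨a, ha, rfl⟩
    exact Ideal.pow_mem_of_mem I ha p hp.pos)
  let εQ : (A ⧸ J) →ₐ[k] k := Ideal.Quotient.liftₐ J ε fun a ha => hJI ha
  let Q2 : A ⊗[k] A →ₐ[k] (A ⧸ J) ⊗[k] (A ⧸ J) :=
    Algebra.TensorProduct.map (Ideal.Quotient.mkₐ k J) (Ideal.Quotient.mkₐ k J)
  haveI : Nontrivial (A ⧸ J) := εQ.toRingHom.domain_nontrivial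
  haveI : CharP ((A ⧸ J) ⊗[k] (A ⧸ J)) p := charP_of_injective_algebraMap (algebraMap k _).injective p
  haveI : CharP (A ⧸ J) p := charP_of_injective_algebraMap (algebraMap k _).injective p
  have hpow : ∀ a : A, Ideal.Quotient.mkₐ k J a ^ p = algebraMap k (A ⧸ J) (ε a ^ p) := fun a => by
    have h : (a - algebraMap k A (ε a)) ^ p ∈ J :=
      Ideal.subset_span ⟨_, by rw [SetLike.mem_coe, hI, RingHom.mem_ker, map_sub, AlgHom.commutes]; exact sub_self _, rfl⟩
    have h' : Ideal.Quotient.mkₐ k J ((a - algebraMap k A (ε a)) ^ p) = 0 := Ideal.Quotient.eq_zero_iff_mem.mpr h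
    rw [map_pow, map_sub, sub_pow_char, sub_eq_zero, AlgHom.commutes] at h'
    rw [map_pow (algebraMap k (A ⧸ J))]
    exact h'
  have hpow2 : ∀ z : A ⊗[k] A, Q2 z ^ p =
      algebraMap k _ ((Algebra.TensorProduct.lmul' k (Algebra.TensorProduct.map ε ε z)) ^ p) := by
    intro z
    induction z with
    | zero => simp [zero_pow hp.ne_zero]
    | add a b ha hb => simp only [map_add, add_pow_char, ha, hb]
    | tmul a b =>
      simp only [Q2, Algebra.TensorProduct.map_tmul, Algebra.TensorProduct.tmul_pow, hpow,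
        Algebra.TensorProduct.lmul'_apply_tmul, mul_pow, map_mul]
      rw [← mul_one (algebraMap k (A ⧸ J) (ε b ^ p)), Algebra.TensorProduct.algebraMap_apply,
        Algebra.TensorProduct.algebraMap_apply, Algebra.TensorProduct.tmul_mul_tmul]
      simp [Algebra.algebraMap_eq_smul_one, TensorProduct.smul_tmul', TensorProduct.tmul_smul, smul_smul, mul_comm]
  have hεε : ∀ a : A, Algebra.TensorProduct.lmul' k (Algebra.TensorProduct.map ε ε (Coalgebra.comul (R := k) a)) = ε a := by
    intro a
    have e : ∀ z : A ⊗[k] A, Algebra.TensorProduct.lmul' k (Algebra.TensorProduct.map ε ε z) =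
        ε (Algebra.TensorProduct.lid k A (Algebra.TensorProduct.map ε (AlgHom.id k A) z)) := by
      intro z
      induction z with
      | zero => simp
      | add p q hp hq => simp only [map_add, hp, hq]
      | tmul p q => simp
    rw [e]
    exact congrArg ε ((FinHopf.isCounital_bialgebra k A).left a)
  let ΔQ : (A ⧸ J) →ₐ[k] (A ⧸ J) ⊗[k] (A ⧸ J) := Ideal.Quotient.liftₐ J (Q2.comp (Bialgebra.comulAlgHom k A))
    fun a ha => by
      refine Submodule.span_induction ?_ (map_zero _) (fun _ _ _ _ h1 h2 => by rw [map_add, h1, h2, add_zero])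
        (fun c x _ hx => by rw [smul_eq_mul, map_mul, hx, mul_zero]) ha
      rintro _ ⟨b, hb, rfl⟩
      rw [map_pow, AlgHom.comp_apply, hpow2, Bialgebra.comulAlgHom_apply, hεε, show ε b = 0 from hb,
        zero_pow hp.ne_zero, map_zero]
  have hΔ : FinHopf.IsCounital εQ ΔQ := by
    constructor
    · intro x
      obtain ⟨a, rfl⟩ := Ideal.Quotient.mk_surjective x
      refine Eq.trans ?_ (congrArg (Ideal.Quotient.mk J) ((FinHopf.isCounital_bialgebra k A).left a))
      change Algebra.TensorProduct.lid k (A ⧸ J) (Algebra.TensorProduct.map εQ (AlgHom.id k _) (Q2 (Coalgebra.comul (R := k) a))) =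
        Ideal.Quotient.mkₐ k J (Algebra.TensorProduct.lid k A (Algebra.TensorProduct.map ε (AlgHom.id k A) (Coalgebra.comul (R := k) a)))
      generalize Coalgebra.comul (R := k) a = z
      induction z with
      | zero => simp
      | add p q hp hq => simp only [map_add, hp, hq]
      | tmul p q => simp [Q2, εQ] <;> rfl
    · intro x
      obtain ⟨a, rfl⟩ := Ideal.Quotient.mk_surjective x
      refine Eq.trans ?_ (congrArg (Ideal.Quotient.mk J) ((FinHopf.isCounital_bialgebra k A).right a))
      change Algebra.TensorProduct.rid k k (A ⧸ J) (Algebra.TensorProduct.map (AlgHom.id k _) εQ (Q2 (Coalgebra.comul (R := k) a))) =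
        Ideal.Quotient.mkₐ k J (Algebra.TensorProduct.rid k k A (Algebra.TensorProduct.map (AlgHom.id k A) ε (Coalgebra.comul (R := k) a)))
      generalize Coalgebra.comul (R := k) a = z
      induction z with
      | zero => simp
      | add p q hp hq => simp only [map_add, hp, hq]
      | tmul p q => simp [Q2, εQ] <;> rfl
  haveI : IsArtinianRing A := .of_finite k A
  obtain ⟨N, hN⟩ : ∃ N, I ^ N = ⊥ := by
    rw [hI, hε, FinHopf.ker_counit_eq, ← IsLocalRing.jacobson_eq_maximalIdeal ⊥ bot_ne_top]
    exact IsArtinianRing.isNilpotent_jacobson_bot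
  have hker : RingHom.ker εQ = I.map (Ideal.Quotient.mk J) := by
    refine le_antisymm (fun y hy => ?_) (Ideal.map_le_iff_le_comap.mpr fun a ha => ha)
    obtain ⟨a, rfl⟩ := Ideal.Quotient.mk_surjective y
    exact Ideal.mem_map_of_mem _ hy
  have hnilQ : RingHom.ker εQ ^ N = ⊥ := by rw [hker, ← Ideal.map_pow, hN, Ideal.map_bot]
  obtain ⟨r, x, ξ, hx, hξx, hξ, hgen⟩ := FinHopf.exists_coords ε
  have hξJ : ∀ i, ∀ a ∈ J, ξ i a = 0 := fun i a ha => by
    refine Submodule.span_induction ?_ (map_zero _) (fun _ _ _ _ h1 h2 => by rw [map_add, h1, h2, add_zero])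
      (fun c y hy h => by rw [smul_eq_mul, hξ, h, show ε y = 0 from hJI hy, mul_zero, zero_mul, add_zero]) ha
    rintro _ ⟨b, hb, rfl⟩
    obtain ⟨m, hm⟩ : ∃ m, p = m + 2 := ⟨p - 2, by have := hp.two_le; omega⟩
    show ξ i (b ^ p) = 0
    rw [hm, pow_succ, hξ, map_pow, show ε b = 0 from hb, zero_pow (Nat.succ_ne_zero _), zero_mul, zero_mul, add_zero]
  let ξQ : Fin r → ((A ⧸ J) →ₗ[k] k) := fun i => (J.restrictScalars k).liftQ (ξ i) fun a ha => hξJ i a ha
  have hξQ : ∀ i a b, ξQ i (a * b) = εQ a * ξQ i b + εQ b * ξQ i a := fun i a b => by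
    obtain ⟨a, rfl⟩ := Ideal.Quotient.mk_surjective a
    obtain ⟨b, rfl⟩ := Ideal.Quotient.mk_surjective b
    exact hξ i a b
  let xQ : Fin r → A ⧸ J := fun i => Ideal.Quotient.mkₐ k J (x i)
  obtain ⟨D, hD⟩ := FinHopf.exists_partials εQ hnilQ xQ (fun i => FinHopf.invDer εQ ΔQ hΔ.right (ξQ i) (hξQ i))
    fun i j => by rw [FinHopf.apply_invDer εQ ΔQ hΔ.left hΔ.right]; exact hξx i j
  have hgenQ : Algebra.adjoin k (Set.range xQ) = ⊤ := by
    refine FinHopf.adjoin_eq_top εQ hnilQ xQ (fun i => hx i) fun y hy => ?_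
    obtain ⟨a, rfl⟩ := Ideal.Quotient.mk_surjective y
    obtain ⟨c, hc⟩ := hgen a hy
    refine ⟨c, ?_⟩
    rw [hker, ← Ideal.map_pow]
    have := Ideal.mem_map_of_mem (Ideal.Quotient.mkₐ k J) hc
    rw [map_sub, map_sum] at this
    simp only [map_smul] at this
    exact this
  have hdim : Module.finrank k (A ⧸ J) = p ^ r := by
    rw [FinHopf.finrank_eq_pow_mul p xQ D hD hgenQ, FinHopf.powSub_eq_bot p εQ ?_, Subalgebra.finrank_bot, mul_one]
    intro y hy
    obtain ⟨a, rfl⟩ := Ideal.Quotient.mk_surjective y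
    exact (hpow a).trans (by rw [show ε a = 0 from hy, zero_pow hp.ne_zero, map_zero])
  -- the number of coordinates
  have hrd : r = d := by
    let w : Fin r → I.Cotangent := fun i => I.toCotangent ⟨x i, hx i⟩
    let T : (Fin r → k) →ₗ[k] I.Cotangent := Fintype.linearCombination k w
    have hT : ∀ c, T c = I.toCotangent ⟨∑ i, c i • x i, Submodule.sum_mem _ fun i _ => Submodule.smul_of_tower_mem _ _ (hx i)⟩ := by
      intro c
      rw [Fintype.linearCombination_apply]
      have : (⟨∑ i, c i • x i, Submodule.sum_mem _ fun i _ => Submodule.smul_of_tower_mem _ _ (hx i)⟩ : I) =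
          ∑ i, c i • (⟨x i, hx i⟩ : I) := Subtype.ext (by simp)
      rw [this, map_sum]
      exact Finset.sum_congr rfl fun i _ => (LinearMap.map_smul_of_tower I.toCotangent _ _).symm
    have hξ2 : ∀ i, ∀ a ∈ I ^ 2, ξ i a = 0 := fun i a ha => by
      rw [pow_two] at ha
      refine Submodule.mul_induction_on ha (fun f hf g hg => ?_) (fun a b ha hb => by rw [map_add, ha, hb, add_zero])
      rw [hξ, show ε f = 0 from hf, show ε g = 0 from hg, zero_mul, zero_mul, add_zero]
    have hbij : Function.Bijective T := by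
      refine ⟨(injective_iff_map_eq_zero T).mpr fun c hc => ?_, fun y => ?_⟩
      · rw [hT, Ideal.toCotangent_eq_zero] at hc
        funext i
        have h := hξ2 i _ hc
        simp only [map_sum, map_smul, hξx, smul_eq_mul, mul_ite, mul_one, mul_zero, Finset.sum_ite_eq,
          Finset.mem_univ, if_true] at h
        exact h
      · obtain ⟨⟨a, ha⟩, rfl⟩ := I.toCotangent_surjective y
        obtain ⟨c, hc⟩ := hgen a ha
        refine ⟨c, ?_⟩
        rw [hT]
        refine (Ideal.toCotangent_eq _).mpr ?_
        have := neg_mem hc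
        rwa [neg_sub] at this
    have := (LinearEquiv.ofBijective T hbij).finrank_eq
    rw [Module.finrank_fintype_fun_eq_card, Fintype.card_fin] at this
    exact this.trans hd
  subst hrd
  exact FinHopf.exists_equiv_trunc (fun _ => p) xQ
    (fun i => (hpow (x i)).trans (by rw [show ε (x i) = 0 from hx i, zero_pow hp.ne_zero, map_zero]))
    hgenQ (by rw [hdim, Finset.prod_const, Finset.card_univ, Fintype.card_fin])

end Groth.Agent.S16685
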