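import Groth.Statements.S16687
import Groth.Agent.AVLib.Defect
import Groth.Agent.AVLib.Isogeny
-- import your own Groth.Agent.* helpers here

set_option autoImplicit false
universe u
open CategoryTheory CategoryTheory.Limits MonoidalCategory CartesianMonoidalCategory MonObj GrpObj AlgebraicGeometry
open AbVar

namespace Groth.Agent.S16687

/-- Let X be an abelian variety over a field k (a proper, geometrically integral k-group scheme) with
group law m : X ×_k X → X and projections p₁, p₂, let L be an invertible O_X-module, and let n ≥ 2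
be an integer such that n^*L ≅ L^{⊗ n}, where n : X → X is multiplication by n (the n-th power of
the identity in the group of endomorphisms). Then the class of L lies in Pic⁰_{X/k}, i.e. the
Mumford module of L is trivial: m^*L ≅ p₁^*L ⊗ p₂^*L (existence of an isomorphism of modules on X
×_k X). (The published statement allows any integer n other than 0 and 1, negative n included; this
row takes n a natural number with n ≥ 2. The converse implication also holds; this row is the
direction from one such n.) -/
theorem result (k : Type u) [Field k]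
    (X : Over (Spec (CommRingCat.of k))) [GrpObj X] [IsProper X.hom] [GeometricallyIntegral X.hom]
    (L : X.left.Modules) (hL : PicF.IsInvertible L) (n : ℕ) (hn : 2 ≤ n)
    (h : Nonempty ((Scheme.Modules.pullback (𝟙 X ^ n).left).obj L ≅ CohB1.tensorPow L n)) :
    Nonempty ((Scheme.Modules.pullback μ[X].left).obj L ≅
      CohB1.tensorMod ((Scheme.Modules.pullback (fst X X).left).obj L)
        ((Scheme.Modules.pullback (snd X X).left).obj L)) := by
  obtain ⟨e⟩ := h
  have hn' := hn
  have hn : PicLib.pull (𝟙 X ^ n).left (PicLib.cls hL) = PicLib.cls hL ^ n := by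
    rw [PicLib.pull_cls, ← PicLib.cls_tensorPow hL]
    exact (PicLib.cls_eq_cls _ _).2 ⟨e⟩
  set c := PicLib.cls hL with hc
  set d := PicLib.pull ((𝟙 X)⁻¹).left c with hd
  have hC : 0 < n.choose 2 := Nat.choose_pos hn'
  have hcd : (c * d) ^ n.choose 2 = 1 := by
    have h1 := AVLib.nat_pull c n
    rw [hn, Nat.choose_succ_succ' n 1, Nat.choose_one_right, pow_add, _root_.mul_assoc, ← mul_pow] at h1
    exact mul_eq_left.1 h1.symm
  have hD : ∀ {V : Over (Spec (CommRingCat.of k))} (f g : V ⟶ X), AVLib.defect c f g ^ (2 * n.choose 2) = 1 := by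
    intro V f g
    have e1 : ∀ f : V ⟶ X, PicLib.pull f.left d = PicLib.pull f⁻¹.left c := fun f => by
      rw [hd, AVLib.pull_left_comp, GrpObj.comp_inv, Category.comp_id]
    have e2 : AVLib.defect (c * d) f g = AVLib.defect c f g * AVLib.defect c f⁻¹ g⁻¹ := by
      haveI := AVLib.isCommMonObj (A := X)
      letI : CommGroup (V ⟶ X) := Hom.commGroup
      simp only [AVLib.defect, map_mul, e1, show (f * g)⁻¹ = f⁻¹ * g⁻¹ from _root_.mul_inv f g]
      rw [div_mul_div_comm]
      congr 1
      ac_rfl
    have e3 : ∀ m : ℕ, AVLib.defect ((c * d) ^ m) f g = AVLib.defect (c * d) f g ^ m := fun m => by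
      simp only [AVLib.defect]
      rw [map_pow, map_pow, map_pow, ← mul_pow, ← div_pow]
    have e4 := e3 (n.choose 2)
    rw [hcd, e2, AVLib.defect_inv_inv, ← sq, ← pow_mul] at e4
    rw [← e4]
    simp [AVLib.defect]
  have hN : 1 ≤ 2 * n.choose 2 := by omega
  haveI := AVLib.surjective_npow (A := X) (2 * n.choose 2) hN
  have h1 : AVLib.defect c (fst X X) (snd X X) = 1 := AVLib.defect_eq_one_of_surjective c (𝟙 X ^ (2 * n.choose 2)) (by
    rw [MonObj.comp_pow, Category.comp_id, AVLib.defect_pow, hD])
  rw [AVLib.defect_eq_one_iff, hc] at h1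
  simp only [PicLib.pull_cls, ← PicLib.cls_tensor] at h1
  rw [MonObj.mul_eq_mul]
  exact (PicLib.cls_eq_cls _ _).1 h1

end Groth.Agent.S16687
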