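import Mathlib
import Groth.Agent.Comodule.Antipode
import Groth.Statements.S16688

set_option autoImplicit false
universe u v w
open ComodSub

namespace Groth.Agent.S16688
open scoped TensorProduct

/-- Let `k` be a commutative ring, `A` a commutative Hopf algebra over `k` with antipode `S`, and `M` a
`k`-module with a left `A`-comodule structure `m ↦ Σ m₋₁ ⊗ m₀`. Then the map `M → M ⊗ A`, `m ↦ Σ m₀
⊗ S(m₋₁)`, is coassociative and counital: it is the coaction of a right `A`-comodule structure on
`M` (a right structure is determined by its coaction, so this structure is unique). -/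
theorem result (k : Type u) [CommRing k]
    (A : Type v) [CommRing A] [HopfAlgebra k A]
    (M : Type w) [AddCommGroup M] [Module k M] (l : ComodSub.LComod k A M) :
    ∃ c : HopfRep.Comod k A M, c.coact = ComodSub.rcoactOfLeft l := by
  set F : A ⊗[k] M →ₗ[k] M ⊗[k] A := (TensorProduct.comm k A M).toLinearMap ∘ₗ
    (HopfAlgebraStruct.antipode (R := k) (A := A)).rTensor M with hF
  have hr : ComodSub.rcoactOfLeft l = F ∘ₗ l.coact := rfl
  let G : A ⊗[k] (A ⊗[k] M) →ₗ[k] M ⊗[k] (A ⊗[k] A) :=
    (TensorProduct.assoc k M A A).toLinearMap ∘ₗ
      (TensorProduct.comm k A (M ⊗[k] A)).toLinearMap ∘ₗ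
        TensorProduct.map (HopfAlgebraStruct.antipode (R := k) (A := A)) F
  refine ⟨{ coact := ComodSub.rcoactOfLeft l, coassoc := ?_, counit_comp := ?_ }, rfl⟩
  · apply LinearMap.ext
    intro v
    have h1 : ∀ x : A ⊗[k] M,
        TensorProduct.assoc k M A A ((ComodSub.rcoactOfLeft l).rTensor A (F x)) =
          G (l.coact.lTensor A x) := by
      intro x
      induction x with
      | zero => simp
      | tmul a w => simp [G, hF, hr]
      | add x y hx hy => simp only [map_add, hx, hy]
    have h2 : ∀ x : A ⊗[k] M,
        G (TensorProduct.assoc k A A M ((CoalgebraStruct.comul (R := k) (A := A)).rTensor M x)) =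
          (CoalgebraStruct.comul (R := k) (A := A)).lTensor M (F x) := by
      intro x
      induction x with
      | zero => simp
      | tmul a w =>
        simp only [hF, LinearMap.coe_comp, LinearEquiv.coe_coe, Function.comp_apply,
          LinearMap.rTensor_tmul, TensorProduct.comm_tmul, LinearMap.lTensor_tmul,
          Groth.Agent.Comodule.comul_antipode k A a]
        generalize CoalgebraStruct.comul (R := k) a = y
        induction y with
        | zero => simp
        | tmul b c => simp [G, hF]
        | add x y hx hy =>
          simp only [TensorProduct.add_tmul, TensorProduct.tmul_add, map_add, hx, hy]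
      | add x y hx hy => simp only [map_add, hx, hy]
    have hco := LinearMap.congr_fun l.coassoc v
    simp only [LinearMap.coe_comp, Function.comp_apply, LinearEquiv.coe_coe] at hco ⊢
    conv_lhs => arg 2; arg 2; rw [hr, LinearMap.comp_apply]
    rw [h1, hco, h2]
    rfl
  · apply LinearMap.ext
    intro v
    have h1 : ∀ x : A ⊗[k] M,
        (CoalgebraStruct.counit (R := k) (A := A)).lTensor M (F x) =
          TensorProduct.comm k k M ((CoalgebraStruct.counit (R := k) (A := A)).rTensor M x) := by
      intro x
      induction x with
      | zero => simp
      | tmul a w => simp [hF]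
      | add x y hx hy => simp only [map_add, hx, hy]
    have hco := LinearMap.congr_fun l.counit_comp v
    simp only [LinearMap.coe_comp, Function.comp_apply] at hco ⊢
    rw [hr, LinearMap.comp_apply, h1, hco]
    simp

end Groth.Agent.S16688
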