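import Mathlib
import Groth.Agent.Comodule.Antipode
import Groth.Statements.S16689

set_option autoImplicit false
universe u v w
open ComodSub

namespace Groth.Agent.S16689
open scoped TensorProduct

/-- Let `k` be a commutative ring, `A` a commutative Hopf algebra over `k` with antipode `S`, and `M` a
`k`-module with a right `A`-comodule structure `m ↦ Σ m₀ ⊗ m₁`. Then the map `M → A ⊗ M`, `m ↦ Σ
S(m₁) ⊗ m₀`, is coassociative and counital: it is the coaction of a left `A`-comodule structure on
`M` (a left structure is determined by its coaction, so this structure is unique). -/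
theorem result (k : Type u) [CommRing k]
    (A : Type v) [CommRing A] [HopfAlgebra k A]
    (M : Type w) [AddCommGroup M] [Module k M] (c : HopfRep.Comod k A M) :
    ∃ l : ComodSub.LComod k A M, l.coact = ComodSub.lcoactOfRight c := by
  set F : M ⊗[k] A →ₗ[k] A ⊗[k] M := (TensorProduct.comm k M A).toLinearMap ∘ₗ
    (HopfAlgebraStruct.antipode (R := k) (A := A)).lTensor M with hF
  have hl : ComodSub.lcoactOfRight c = F ∘ₗ c.coact := rfl
  let H : (M ⊗[k] A) ⊗[k] A →ₗ[k] A ⊗[k] (A ⊗[k] M) :=
    (TensorProduct.comm k (A ⊗[k] M) A).toLinearMap ∘ₗ
      TensorProduct.map F (HopfAlgebraStruct.antipode (R := k) (A := A))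
  refine ⟨{ coact := ComodSub.lcoactOfRight c, coassoc := ?_, counit_comp := ?_ }, rfl⟩
  · apply LinearMap.ext
    intro v
    have h1 : ∀ x : M ⊗[k] A,
        (ComodSub.lcoactOfRight c).lTensor A (F x) = H (c.coact.rTensor A x) := by
      intro x
      induction x with
      | zero => simp
      | tmul w a => simp [H, hF, hl]
      | add x y hx hy => simp only [map_add, hx, hy]
    have h2 : ∀ x : M ⊗[k] A,
        H ((TensorProduct.assoc k M A A).symm
            ((CoalgebraStruct.comul (R := k) (A := A)).lTensor M x)) =
          TensorProduct.assoc k A A M
            ((CoalgebraStruct.comul (R := k) (A := A)).rTensor M (F x)) := by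
      intro x
      induction x with
      | zero => simp
      | tmul w a =>
        simp only [hF, LinearMap.coe_comp, LinearEquiv.coe_coe, Function.comp_apply,
          LinearMap.lTensor_tmul, TensorProduct.comm_tmul, LinearMap.rTensor_tmul,
          Groth.Agent.Comodule.comul_antipode k A a]
        generalize CoalgebraStruct.comul (R := k) a = y
        induction y with
        | zero => simp
        | tmul b d => simp [H, hF]
        | add x y hx hy =>
          simp only [TensorProduct.add_tmul, TensorProduct.tmul_add, map_add, hx, hy]
      | add x y hx hy => simp only [map_add, hx, hy]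
    have hco := LinearMap.congr_fun c.coassoc v
    simp only [LinearMap.coe_comp, Function.comp_apply, LinearEquiv.coe_coe] at hco ⊢
    rw [← LinearEquiv.eq_symm_apply] at hco
    conv_lhs => arg 2; rw [hl, LinearMap.comp_apply]
    rw [h1, hco, h2]
    rfl
  · apply LinearMap.ext
    intro v
    have h1 : ∀ x : M ⊗[k] A,
        (CoalgebraStruct.counit (R := k) (A := A)).rTensor M (F x) =
          TensorProduct.comm k M k ((CoalgebraStruct.counit (R := k) (A := A)).lTensor M x) := by
      intro x
      induction x with
      | zero => simp
      | tmul w a => simp [hF]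
      | add x y hx hy => simp only [map_add, hx, hy]
    have hco := LinearMap.congr_fun c.counit_comp v
    simp only [LinearMap.coe_comp, Function.comp_apply] at hco ⊢
    rw [hl, LinearMap.comp_apply, h1, hco]
    simp

end Groth.Agent.S16689
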