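import Mathlib
import Groth.Statements.S16690

set_option autoImplicit false
universe u v w
open ComodSub

namespace Groth.Agent.S16690
open scoped TensorProduct

/-- reading of `B ⊗ M^*` as maps `M → B`. -/
noncomputable def Phi (k : Type u) [CommRing k] (M : Type w) [AddCommGroup M] [Module k M]
    (B : Type v) [AddCommGroup B] [Module k B] :
    B ⊗[k] Module.Dual k M →ₗ[k] M →ₗ[k] B :=
  dualTensorHom k M B ∘ₗ (TensorProduct.comm k B (Module.Dual k M)).toLinearMap

@[simp] theorem Phi_tmul {k : Type u} [CommRing k] {M : Type w} [AddCommGroup M] [Module k M]
    {B : Type v} [AddCommGroup B] [Module k B] (b : B) (φ : Module.Dual k M) (m : M) :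
    Phi k M B (b ⊗ₜ φ) m = φ m • b := by
  simp [Phi]

theorem Phi_injective (k : Type u) [CommRing k] (M : Type w) [AddCommGroup M] [Module k M]
    [Module.Finite k M] (B : Type v) [AddCommGroup B] [Module k B] [Module.Flat k B] :
    Function.Injective (Phi k M B) := by
  obtain ⟨n, s, hs⟩ := Module.Finite.exists_fin (R := k) (M := M)
  let ev : Module.Dual k M →ₗ[k] (Fin n → k) := LinearMap.pi fun i => Module.Dual.eval k M (s i)
  have hev : Function.Injective ev := by
    intro φ ψ h
    exact LinearMap.ext_on hs (by rintro _ ⟨i, rfl⟩; exact congrFun h i)
  let e : B ⊗[k] (Fin n → k) ≃ₗ[k] (Fin n → B) := TensorProduct.piScalarRight k k B (Fin n)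
  have key : ∀ x i, e (ev.lTensor B x) i = Phi k M B x (s i) := by
    intro x i
    induction x with
    | zero => simp
    | tmul b φ =>
      simp [e, ev]
    | add x y hx hy => simp only [map_add, Pi.add_apply, LinearMap.add_apply, hx, hy]
  intro x y h
  apply Module.Flat.lTensor_preserves_injective_linearMap (M := B) ev hev
  apply e.injective
  funext i
  rw [key, key, h]

theorem Phi_surjective (k : Type u) [CommRing k] (M : Type w) [AddCommGroup M] [Module k M]
    [Module.FinitePresentation k M] (B : Type v) [AddCommGroup B] [Module k B] [Module.Flat k B] :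
    Function.Surjective (Phi k M B) := by
  intro φ
  obtain ⟨n, a, y, h⟩ := Module.Flat.exists_factorization_of_finitePresentation φ
  refine ⟨∑ i, y (Finsupp.single i 1) ⊗ₜ (Finsupp.lapply i ∘ₗ a), LinearMap.ext fun m => ?_⟩
  subst h
  simp only [map_sum, LinearMap.sum_apply, Phi_tmul, LinearMap.comp_apply, Finsupp.lapply_apply]
  conv_rhs => rw [← Finsupp.univ_sum_single (a m)]
  rw [map_sum]
  refine Finset.sum_congr rfl fun i _ => ?_
  rw [← map_smul, Finsupp.smul_single_one]


/-- Let `k` be a commutative ring, `A` a `k`-coalgebra that is flat over `k`, and `M` a finitely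
presented `k`-module with a right `A`-comodule structure `m ↦ Σ m₀ ⊗ m₁`. Then the dual module `M^*
= Hom(M, k)` carries a left `A`-comodule structure whose coaction sends a form `g` to the element of
`A ⊗ M^*` that reads, through `a ⊗ φ ↦ (m ↦ φ(m) a)`, as the map `m ↦ Σ g(m₀) m₁` (the left dual of
the given structure). (The published statement takes coalgebras to be commutative algebras whose
comultiplication and counit are algebra maps; the construction uses no multiplication on `A`, so
here `A` is any flat coalgebra.) -/
theorem result (k : Type u) [CommRing k]
    (A : Type v) [AddCommGroup A] [Module k A] [Coalgebra k A] [Module.Flat k A]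
    (M : Type w) [AddCommGroup M] [Module k M] [Module.FinitePresentation k M]
    (c : HopfRep.Comod k A M) :
    ∃ l : ComodSub.LComod k A (Module.Dual k M), ComodSub.LComod.IsLDual c l := by
  let e := LinearEquiv.ofBijective (Phi k M A) ⟨Phi_injective k M A, Phi_surjective k M A⟩
  let L : Module.Dual k M →ₗ[k] M →ₗ[k] A :=
    { toFun := ComodSub.ldualFun c
      map_add' := fun f g => by
        ext m; simp [ComodSub.ldualFun, LinearMap.rTensor_add]
      map_smul' := fun r g => by
        ext m; simp [ComodSub.ldualFun, LinearMap.rTensor_smul] }
  let co : Module.Dual k M →ₗ[k] A ⊗[k] Module.Dual k M := e.symm.toLinearMap ∘ₗ L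
  have hco : ∀ g, Phi k M A (co g) = ComodSub.ldualFun c g := fun g => e.apply_symm_apply (L g)
  refine ⟨{ coact := co, coassoc := ?_, counit_comp := ?_ }, fun g => hco g⟩
  · apply LinearMap.ext
    intro g
    apply (TensorProduct.assoc k A A (Module.Dual k M)).symm.injective
    apply Phi_injective k M (A ⊗[k] A)
    ext m
    have hR : ∀ x : A ⊗[k] Module.Dual k M,
        Phi k M (A ⊗[k] A) ((CoalgebraStruct.comul (R := k) (A := A)).rTensor _ x) m =
          CoalgebraStruct.comul (R := k) (Phi k M A x m) := by
      intro x
      induction x with
      | zero => simp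
      | tmul a φ => simp
      | add x y hx hy => simp only [map_add, LinearMap.add_apply, hx, hy]
    have hL : ∀ x : A ⊗[k] Module.Dual k M,
        Phi k M (A ⊗[k] A)
          ((TensorProduct.assoc k A A (Module.Dual k M)).symm (co.lTensor A x)) m =
          (Phi k M A x).rTensor A (c.coact m) := by
      intro x
      induction x with
      | zero => simp
      | tmul a φ =>
        have h1 : ∀ y : A ⊗[k] Module.Dual k M,
            Phi k M (A ⊗[k] A) ((TensorProduct.assoc k A A (Module.Dual k M)).symm (a ⊗ₜ y)) m =
              a ⊗ₜ[k] (Phi k M A y m) := by
          intro y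
          induction y with
          | zero => simp
          | tmul b ψ => simp
          | add x y hx hy => simp only [TensorProduct.tmul_add, map_add, LinearMap.add_apply, hx, hy]
        rw [LinearMap.lTensor_tmul, h1, hco, ComodSub.ldualFun_apply]
        generalize c.coact m = z
        induction z with
        | zero => simp
        | tmul w b => simp [TensorProduct.tmul_smul, TensorProduct.smul_tmul']
        | add x y hx hy => simp only [TensorProduct.tmul_add, map_add, hx, hy]
      | add x y hx hy => simp only [map_add, LinearMap.add_apply, LinearMap.rTensor_add, hx, hy]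
    simp only [LinearMap.coe_comp, Function.comp_apply, LinearEquiv.coe_coe,
      LinearEquiv.symm_apply_apply]
    rw [hR, hL, hco, ComodSub.ldualFun_apply]
    have h3 : ∀ y : M ⊗[k] A,
        (ComodSub.ldualFun c g).rTensor A y =
          TensorProduct.lid k (A ⊗[k] A) (g.rTensor (A ⊗[k] A)
            (TensorProduct.assoc k M A A (c.coact.rTensor A y))) := by
      intro y
      induction y with
      | zero => simp
      | tmul w b =>
        simp only [LinearMap.rTensor_tmul, ComodSub.ldualFun_apply]
        generalize c.coact w = z
        induction z with
        | zero => simp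
        | tmul w' b' => simp [TensorProduct.smul_tmul']
        | add x y hx hy => simp only [TensorProduct.add_tmul, map_add, hx, hy]
      | add x y hx hy => simp only [map_add, hx, hy]
    have hca := LinearMap.congr_fun c.coassoc m
    simp only [LinearMap.coe_comp, Function.comp_apply, LinearEquiv.coe_coe] at hca
    rw [h3, hca]
    generalize c.coact m = z
    induction z with
    | zero => simp
    | tmul w b => simp
    | add x y hx hy => simp only [map_add, hx, hy]
  · apply LinearMap.ext
    intro g
    apply (TensorProduct.lid k (Module.Dual k M)).injective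
    ext m
    have h1 : ∀ x : A ⊗[k] Module.Dual k M,
        TensorProduct.lid k _ ((CoalgebraStruct.counit (R := k) (A := A)).rTensor _ x) m =
          CoalgebraStruct.counit (R := k) (Phi k M A x m) := by
      intro x
      induction x with
      | zero => simp
      | tmul a φ => simp [mul_comm]
      | add x y hx hy => simp only [map_add, LinearMap.add_apply, hx, hy]
    have hce := LinearMap.congr_fun c.counit_comp m
    simp only [LinearMap.coe_comp, Function.comp_apply, LinearMap.flip_apply,
      TensorProduct.mk_apply] at hce ⊢
    rw [h1, hco, ComodSub.ldualFun_apply]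
    have h2 : ∀ z : M ⊗[k] A,
        CoalgebraStruct.counit (R := k) (TensorProduct.lid k A (g.rTensor A z)) =
          TensorProduct.lid k k (g.rTensor k
            ((CoalgebraStruct.counit (R := k) (A := A)).lTensor M z)) := by
      intro z
      induction z with
      | zero => simp
      | tmul w b => simp
      | add x y hx hy => simp only [map_add, hx, hy]
    rw [h2, hce]
    simp

end Groth.Agent.S16690
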