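import Groth.Statements.S16691
import Mathlib

set_option autoImplicit false
universe u v w w'
open scoped TensorProduct
open ComodTens

namespace Groth.Agent.S16691

lemma dualTensorHom_rTensor {k : Type u} [CommRing k] {P Q N : Type*} [AddCommGroup P] [Module k P]
    [AddCommGroup Q] [Module k Q] [AddCommGroup N] [Module k N]
    (f : P →ₗ[k] Q) (z : Module.Dual k Q ⊗[k] N) :
    dualTensorHom k P N (f.dualMap.rTensor N z) = dualTensorHom k Q N z ∘ₗ f := by
  induction z using TensorProduct.induction_on with
  | zero => simp
  | add a b ha hb => simp [map_add, ha, hb, LinearMap.add_comp]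
  | tmul φ v => ext p; simp [dualTensorHom_apply, LinearMap.dualMap_apply]

/-- `B ⊗ M^* ≅ Hom(M, B)` for `M` finitely presented and `B` flat. -/
theorem dualTensorHom_bijective_of_flat (k : Type u) [CommRing k] (M : Type w')
    [AddCommGroup M] [Module k M] [Module.FinitePresentation k M] (N : Type*) [AddCommGroup N]
    [Module k N] [Module.Flat k N] : Function.Bijective (dualTensorHom k M N) := by
  obtain ⟨n, π, hπ⟩ := Module.Finite.exists_fin' k M
  obtain ⟨m, ι, hι⟩ := (Submodule.fg_iff_exists_fin_linearMap k (Fin n → k)).1 (Module.FinitePresentation.fg_ker π hπ)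
  have hex : Function.Exact π.dualMap ι.dualMap := by
    intro φ
    constructor
    · intro h
      have hle : LinearMap.ker π ≤ LinearMap.ker φ := by
        rw [← hι, LinearMap.range_le_ker_iff]
        exact h
      refine ⟨(LinearMap.ker π).liftQ φ hle ∘ₗ (π.quotKerEquivOfSurjective hπ).symm.toLinearMap,
        LinearMap.ext fun x => ?_⟩
      have : (π.quotKerEquivOfSurjective hπ).symm (π x) = Submodule.Quotient.mk x := by
        rw [LinearEquiv.symm_apply_eq]; rfl
      simp [LinearMap.dualMap_apply, this]
    · rintro ⟨ψ, rfl⟩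
      refine LinearMap.ext fun x => ?_
      have : π (ι x) = 0 := LinearMap.mem_ker.1 (hι ▸ LinearMap.mem_range_self ι x)
      simp [LinearMap.dualMap_apply, this]
  have hinj : Function.Injective π.dualMap := LinearMap.dualMap_injective_of_surjective hπ
  have hex' := Module.Flat.rTensor_exact N hex
  have hn := dualTensorHom_bijective (R := k) (M := Fin n → k) (N := N)
  have hm := dualTensorHom_bijective (R := k) (M := Fin m → k) (N := N)
  refine ⟨fun a b hab => Module.Flat.rTensor_preserves_injective_linearMap (M := N) _ hinj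
    (hn.1 (by rw [dualTensorHom_rTensor, dualTensorHom_rTensor, hab])), fun g => ?_⟩
  obtain ⟨z, hz⟩ := hn.2 (g ∘ₗ π)
  obtain ⟨y, rfl⟩ := (hex' z).1 (hm.1 (by
    rw [dualTensorHom_rTensor, hz, map_zero, LinearMap.comp_assoc]
    refine LinearMap.ext fun x => ?_
    have : π (ι x) = 0 := LinearMap.mem_ker.1 (hι ▸ LinearMap.mem_range_self ι x)
    simp [this]))
  refine ⟨y, ?_⟩
  rw [dualTensorHom_rTensor] at hz
  exact (LinearMap.cancel_right hπ).1 hz

variable {k : Type u} [CommRing k] {A : Type v} [CommRing A] [HopfAlgebra k A]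
  {B : Type w} [AddCommGroup B] [Module k B] {M : Type w'} [AddCommGroup M] [Module k M]

/-- `(b ⊗ a) ⊗ c ↦ b ⊗ a c` -/
noncomputable def mulA : (B ⊗[k] A) ⊗[k] A →ₗ[k] B ⊗[k] A :=
  (LinearMap.mul' k A).lTensor B ∘ₗ (TensorProduct.assoc k B A A).toLinearMap

/-- `F ↦ (m ↦ Σ F(m₀) α(m₁))` -/
noncomputable def conv (cM : HopfRep.Comod k A M) (α : A →ₗ[k] A) (F : M →ₗ[k] B ⊗[k] A) :
    M →ₗ[k] B ⊗[k] A :=
  mulA ∘ₗ TensorProduct.map F α ∘ₗ cM.coact

lemma conv_add (cM : HopfRep.Comod k A M) (α : A →ₗ[k] A) (F G : M →ₗ[k] B ⊗[k] A) :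
    conv cM α (F + G) = conv cM α F + conv cM α G := by
  simp [conv, TensorProduct.map_add_left, LinearMap.add_comp, LinearMap.comp_add]

lemma conv_conv (cM : HopfRep.Comod k A M) (α β γ : A →ₗ[k] A)
    (h : LinearMap.mul' k A ∘ₗ TensorProduct.map α β ∘ₗ CoalgebraStruct.comul = γ)
    (F : M →ₗ[k] B ⊗[k] A) : conv cM β (conv cM α F) = conv cM γ F := by
  subst h
  apply LinearMap.ext
  intro m
  have hco := LinearMap.congr_fun cM.coassoc m
  simp only [LinearMap.comp_apply, LinearEquiv.coe_coe] at hco
  have hl : ∀ z : M ⊗[k] A, mulA (TensorProduct.map (conv cM α F) β z) =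
      mulA (TensorProduct.map F (LinearMap.mul' k A ∘ₗ TensorProduct.map α β)
        (TensorProduct.assoc k M A A (cM.coact.rTensor A z))) := by
    intro z
    induction z using TensorProduct.induction_on with
    | zero => simp
    | add z z' hz hz' => simp only [map_add, hz, hz']
    | tmul m₀ c =>
      simp only [TensorProduct.map_tmul, LinearMap.rTensor_tmul, conv, LinearMap.comp_apply]
      generalize cM.coact m₀ = w
      induction w using TensorProduct.induction_on with
      | zero => simp [mulA]
      | add w w' hw hw' =>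
        simp only [map_add, TensorProduct.add_tmul, hw, hw']
      | tmul m₁ a =>
        simp only [TensorProduct.map_tmul, TensorProduct.assoc_tmul, LinearMap.comp_apply,
          LinearMap.mul'_apply]
        generalize F m₁ = v
        induction v using TensorProduct.induction_on with
        | zero => simp [mulA]
        | add v v' hv hv' => simp only [map_add, TensorProduct.add_tmul, hv, hv']
        | tmul b a' => simp [mulA, mul_assoc]
  conv_lhs => rw [conv]
  simp only [LinearMap.comp_apply]
  rw [hl, hco]
  simp only [conv, LinearMap.comp_apply]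
  generalize cM.coact m = z
  induction z using TensorProduct.induction_on with
  | zero => simp
  | add z z' hz hz' => simp only [map_add, hz, hz']
  | tmul m₀ a => simp

lemma conv_counit (cM : HopfRep.Comod k A M) (F : M →ₗ[k] B ⊗[k] A) :
    conv cM (Algebra.linearMap k A ∘ₗ CoalgebraStruct.counit) F = F := by
  apply LinearMap.ext
  intro m
  have h : TensorProduct.map F (Algebra.linearMap k A ∘ₗ CoalgebraStruct.counit) (cM.coact m) =
      F m ⊗ₜ[k] (1 : A) := by
    have := LinearMap.congr_fun cM.counit_comp m
    simp only [LinearMap.comp_apply, LinearMap.flip_apply, TensorProduct.mk_apply] at this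
    have h2 : TensorProduct.map F (Algebra.linearMap k A ∘ₗ CoalgebraStruct.counit) (cM.coact m) =
        TensorProduct.map F (Algebra.linearMap k A) (CoalgebraStruct.counit.lTensor M (cM.coact m)) := by
      generalize cM.coact m = z
      induction z using TensorProduct.induction_on with
      | zero => simp
      | add z z' hz hz' => simp only [map_add, hz, hz']
      | tmul m₀ a => simp
    rw [h2, this]
    simp
  simp only [conv, LinearMap.comp_apply, h]
  generalize F m = v
  induction v using TensorProduct.induction_on with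
  | zero => simp
  | add v v' hv hv' => simp only [map_add, TensorProduct.add_tmul, hv, hv']
  | tmul b a => simp [mulA]

/-- Let `k` be a commutative ring, `A` a commutative Hopf algebra over `k`, flat over `k`, `B` a flat
`k`-module with a right `A`-comodule structure, and `M` a finitely presented `k`-module with a right
`A`-comodule structure; let `M^*` carry the contragredient structure `d` (for each form `f`, `d f`
read as a map `M → A` is `m ↦ Σ f(m₀) S(m₁)`) and `B ⊗ M^*` the tensor-product coaction `b ⊗ φ ↦ Σ
(b₀ ⊗ φ₀) ⊗ b₁ φ₁`. Then `b ⊗ φ ↦ (m ↦ φ(m) b)` restricts to a bijection from the invariants `(B ⊗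
M^*)^A` (elements with coaction `x ⊗ 1`) onto the `A`-comodule maps `M → B`. (The published
statement assumes `B` only finitely presented over `k`; for `k = ℤ`, `A = ℤ` the Hopf algebra of the
trivial group and `B = M = ℤ/2` with trivial coactions, `M^* = 0` so the invariants vanish while the
identity of `ℤ/2` is a comodule map, and the published proof uses that `B ⊗ M^* → Hom(M, B)` is
bijective, which holds for `B` flat; so `B` is taken flat here.) -/
theorem result (k : Type u) [CommRing k]
    (A : Type v) [CommRing A] [HopfAlgebra k A] [Module.Flat k A]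
    (B : Type w) [AddCommGroup B] [Module k B] [Module.Flat k B] (cB : HopfRep.Comod k A B)
    (M : Type w') [AddCommGroup M] [Module k M] [Module.FinitePresentation k M]
    (cM : HopfRep.Comod k A M)
    (d : HopfRep.Comod k A (Module.Dual k M)) (hd : ComodTens.Comod.IsDual cM d) :
    Set.BijOn
      (fun x : B ⊗[k] Module.Dual k M => dualTensorHom k M B (TensorProduct.comm k B (Module.Dual k M) x))
      ((@HopfRep.fixedPts k A _ _ _ (B ⊗[k] Module.Dual k M) _ _ (ComodTens.Comod.tensor cB d)) :
        Set (B ⊗[k] Module.Dual k M))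
      {h : M →ₗ[k] B | @Hoch.IsComodHom k _ A _ _ _ M _ _ cM B _ _ cB h} := by
  classical
  have bijB := dualTensorHom_bijective_of_flat k M B
  have bijBA := dualTensorHom_bijective_of_flat k M (B ⊗[k] A)
  -- read `(B ⊗ M^*) ⊗ A` as maps `M → B ⊗ A`
  let e : (B ⊗[k] Module.Dual k M) ⊗[k] A ≃ₗ[k] Module.Dual k M ⊗[k] (B ⊗[k] A) :=
    (TensorProduct.comm k B _).rTensor A ≪≫ₗ TensorProduct.assoc k _ _ _
  let Ψ : (B ⊗[k] Module.Dual k M) ⊗[k] A →ₗ[k] M →ₗ[k] B ⊗[k] A :=
    dualTensorHom k M (B ⊗[k] A) ∘ₗ e.toLinearMap
  have hΨ : Function.Injective Ψ := bijBA.1.comp e.injective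
  have hΨ' : ∀ b φ a m, Ψ ((b ⊗ₜ[k] φ) ⊗ₜ[k] a) m = φ m • (b ⊗ₜ[k] a) := fun b φ a m => by
    simp [Ψ, e, dualTensorHom_apply]
  set S := HopfAlgebraStruct.antipode (R := k) (A := A)
  let h₀ : B ⊗[k] Module.Dual k M →ₗ[k] M →ₗ[k] B :=
    dualTensorHom k M B ∘ₗ (TensorProduct.comm k B _).toLinearMap
  have hone : ∀ x m, Ψ (x ⊗ₜ[k] (1 : A)) m = h₀ x m ⊗ₜ[k] (1 : A) := by
    intro x m
    induction x using TensorProduct.induction_on with
    | zero => simp
    | add x y hx hy => simp only [TensorProduct.add_tmul, map_add, LinearMap.add_apply, hx, hy]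
    | tmul b φ => rw [hΨ']; simp [h₀, dualTensorHom_apply, TensorProduct.smul_tmul']
  have hco : ∀ x, Ψ ((ComodTens.Comod.tensor cB d).coact x) = conv cM S (cB.coact ∘ₗ h₀ x) := by
    intro x
    induction x using TensorProduct.induction_on with
    | zero => simp [conv]
    | add x y hx hy => rw [map_add, map_add, hx, hy, map_add, LinearMap.comp_add, conv_add]
    | tmul b φ =>
      apply LinearMap.ext
      intro m
      have key : ∀ (p : B ⊗[k] A) (q : Module.Dual k M ⊗[k] A),
          Ψ (TensorProduct.map LinearMap.id (LinearMap.mul' k A)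
            (TensorProduct.AlgebraTensorModule.tensorTensorTensorComm k k k k B A (Module.Dual k M) A
              (p ⊗ₜ[k] q))) m = mulA (p ⊗ₜ[k] dualTensorHom k M A q m) := by
        intro p q
        induction p using TensorProduct.induction_on with
        | zero => simp
        | add p p' hp hp' =>
          simp only [TensorProduct.add_tmul, map_add, LinearMap.add_apply, hp, hp']
        | tmul b' a =>
          induction q using TensorProduct.induction_on with
          | zero => simp
          | add q q' hq hq' =>
            simp only [TensorProduct.tmul_add, map_add, LinearMap.add_apply, hq, hq']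
          | tmul ψ c =>
            rw [TensorProduct.AlgebraTensorModule.tensorTensorTensorComm_tmul,
              TensorProduct.map_tmul, LinearMap.id_apply, LinearMap.mul'_apply, hΨ']
            simp [mulA, dualTensorHom_apply, TensorProduct.smul_tmul', TensorProduct.tmul_smul]
      rw [ComodTens.tensor_coact_tmul, key, hd φ, ComodTens.dualCoactFun_apply]
      simp only [conv, LinearMap.comp_apply]
      generalize cM.coact m = z
      induction z using TensorProduct.induction_on with
      | zero => simp
      | add z z' hz hz' => simp only [map_add, TensorProduct.tmul_add, hz, hz']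
      | tmul m₀ a =>
        simp [h₀, dualTensorHom_apply, TensorProduct.tmul_smul, TensorProduct.smul_tmul', S]
  have hid : ∀ h : M →ₗ[k] B,
      (conv cM LinearMap.id ((TensorProduct.mk k B A).flip 1 ∘ₗ h)) = h.rTensor A ∘ₗ cM.coact := by
    intro h
    apply LinearMap.ext
    intro m
    simp only [conv, LinearMap.comp_apply]
    generalize cM.coact m = z
    induction z using TensorProduct.induction_on with
    | zero => simp
    | add z z' hz hz' => simp only [map_add, hz, hz']
    | tmul m₀ a => simp [mulA]
  have key : ∀ x, (ComodTens.Comod.tensor cB d).coact x = x ⊗ₜ[k] (1 : A) ↔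
      cB.coact ∘ₗ h₀ x = (h₀ x).rTensor A ∘ₗ cM.coact := by
    intro x
    rw [← hΨ.eq_iff, hco, ← hid (h₀ x)]
    have h1 : Ψ (x ⊗ₜ[k] (1 : A)) = (TensorProduct.mk k B A).flip 1 ∘ₗ h₀ x :=
      LinearMap.ext fun m => hone x m
    rw [h1]
    have c1 : LinearMap.mul' k A ∘ₗ TensorProduct.map S LinearMap.id ∘ₗ CoalgebraStruct.comul =
        Algebra.linearMap k A ∘ₗ CoalgebraStruct.counit := HopfAlgebra.mul_antipode_rTensor_comul
    have c2 : LinearMap.mul' k A ∘ₗ TensorProduct.map LinearMap.id S ∘ₗ CoalgebraStruct.comul =
        Algebra.linearMap k A ∘ₗ CoalgebraStruct.counit := HopfAlgebra.mul_antipode_lTensor_comul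
    constructor
    · intro h
      rw [← h, conv_conv cM _ _ _ c1, conv_counit]
    · intro h
      rw [h, conv_conv cM _ _ _ c2, conv_counit]
  refine ⟨fun x hx => (key x).1 hx, ?_, fun h hh => ?_⟩
  · intro x _ y _ hxy
    exact (bijB.1.comp (TensorProduct.comm k B (Module.Dual k M)).injective) hxy
  · obtain ⟨y, rfl⟩ := bijB.2 h
    refine ⟨(TensorProduct.comm k B _).symm y, (key _).2 ?_, by simp⟩
    simpa [h₀, Hoch.IsComodHom] using hh

end Groth.Agent.S16691
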