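import Groth.Statements.S16699
import Groth.Agent.ASt.SpChart
import Groth.Agent.ASt.PropsAff
import Groth.Agent.ASt.Local
import Groth.Agent.ASp.AffMor
import Groth.Agent.ASt.PtsTop
-- import your own Groth.Agent.* helpers here

set_option autoImplicit false
set_option backward.isDefEq.respectTransparency false
universe u
open AlgSt AlgSt.IsWellNighAffine

namespace Groth.Agent.S16699

open CategoryTheory AlgebraicGeometry in
/-- An algebraic stack affine over a well-nigh affine algebraic stack is well-nigh affine. -/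
theorem result (S : Scheme.{u}) (𝒳 𝒳' : AlgSt.Cat S)
    (h𝒳 : AlgSt.IsAlgStack Scheme.fppfPrecoverage 𝒳) (h𝒳' : AlgSt.IsAlgStack Scheme.fppfPrecoverage 𝒳')
    (hw : AlgSt.IsWellNighAffine 𝒳) (f : 𝒳' ⥤ᵇ 𝒳) (hf : AlgSt.RepByAlgSpWith AlgSp.IsAffineMor f) :
    AlgSt.IsWellNighAffine 𝒳' := by
  haveI := h𝒳.isStack.1
  haveI := h𝒳'.isStack.1
  obtain ⟨U, x, hU, hx⟩ := hw
  haveI := hU
  haveI : FibCat.IsFibGrpd (FibCat.fp x f).p := ASt.isFibGrpd_fp
  obtain ⟨F, e, he, hA⟩ := hf U x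
  obtain ⟨W, i, c, sq, hW⟩ := hA hU (𝟙 _)
  haveI : IsIso c := sq.isIso_fst_of_isIso
  have hc : AlgSp.RepWith (MorphismProperty.isomorphisms Scheme.{u}) c := ASp.repWith_of_isIso c
  haveI : (AlgSp.IsFiniteMor : MorphismProperty (AlgSp.Sp S)).RespectsIso :=
    ASt.respectsIso_of_affineType (M := fun {W _} i => IsAffine W.left ∧ IsFinite i.left) fun _ _ _ => Iff.rfl
  haveI : (AlgSp.IsSurjectiveMor ⊓ AlgSp.LocP @Flat ⊓ AlgSp.IsFiniteMor : MorphismProperty (AlgSp.Sp S)).RespectsIso := inferInstance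
  refine ⟨W, BasedFunctor.comp (BasedFunctor.comp (ASt.spChart c) e) (FibCat.fpSnd x f), hW,
    ASt.repByAlgSpWith_comp (ASt.compLocal_inf (ASt.compLocal_inf (ASt.compLocal_inf ASt.compLocal_surjective
      ASt.compLocal_flat) ASt.compLocal_finite) ASt.compLocal_lfp)
      (ASt.repByAlgSpWith_postcomp e he (ASt.repByAlgSpWith_spChart hc fun {A B} v hv => ?_))
      (ASt.repByAlgSpWith_fpSnd f hx)⟩
  haveI : IsIso v.left := hv
  refine ⟨⟨⟨ASp.surjective_map_of_repWith (ASp.repWith_yon_map (P := @Surjective) inferInstance),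
    ASp.locP_of_repWith (ASp.repWith_yon_map (P := @Flat) inferInstance)⟩, ?_⟩,
    ASp.locP_of_repWith (ASp.repWith_yon_map (P := @LocallyOfFinitePresentation) inferInstance)⟩
  exact (ASp.isFiniteMor_iff (AlgSp.IsAlgSpace.yon_obj A) (AlgSp.IsAlgSpace.yon_obj B)).2
    (ASp.repWith_yon_map (P := @IsFinite) inferInstance)

end Groth.Agent.S16699
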