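import Groth.Statements.S1670
import Groth.Agent.ConnImgLib.Orbit

set_option autoImplicit false
universe u
open CategoryTheory CategoryTheory.Limits AlgebraicGeometry
open Variety

namespace Groth.Agent.S1670

theorem bc_components {k : Type u} [Field k] {X : Scheme.{u}} (f : X ⟶ Spec (CommRingCat.of k)) (L : Type u)
    [Field L] [Algebra k L] [Algebra.IsAlgebraic k L] [LocallyOfFiniteType f] {T : Set X} (hT : T ∈ irreducibleComponents (X : Type u)) :
    let π := pullback.fst f (Spec.map (CommRingCat.ofHom (algebraMap k L)))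
    let S := {Z : Set (Groth.Agent.GeomIrred.bcs f L) | Z ∈ irreducibleComponents (Groth.Agent.GeomIrred.bcs f L) ∧ π '' Z ⊆ T}
    S.Finite ∧ π ⁻¹' T = ⋃₀ S ∧ ∀ Z ∈ S, π '' Z = T := by
  intro π S
  have himg : ∀ Z ∈ S, π '' Z = T := by
    intro Z hZ
    obtain ⟨η, hη⟩ := QuasiSober.sober hZ.1.1 (isClosed_of_mem_irreducibleComponents _ hZ.1)
    have h1 := Groth.Agent.ConnImgLib.image_irreducible f L hη
    have h2 := Groth.Agent.ConnImgLib.closure_fst_mem_irreducibleComponents f L hZ.1 hη
    rw [← h1] at h2
    exact le_antisymm hZ.2 (h2.2 hT.1 hZ.2)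
  refine ⟨?_, ?_, himg⟩
  swap
  · have h := Groth.Agent.ConnImgLib.preimage_irreducibleComponent f L hT
    rw [h]
    refine congrArg Set.sUnion (Set.ext fun Z => and_congr_right fun _ => ?_)
    exact Set.image_subset_iff.symm
  obtain ⟨ξ, hξ⟩ := QuasiSober.sober hT.1 (isClosed_of_mem_irreducibleComponents _ hT)
  obtain ⟨U, hU, hξU, -⟩ := exists_isAffineOpen_mem_and_subset (X := X) (U := ⊤) (x := ξ) trivial
  haveI : IsLocallyNoetherian (Groth.Agent.GeomIrred.bcs f L) :=
    LocallyOfFiniteType.isLocallyNoetherian (pullback.snd f (Spec.map (CommRingCat.ofHom (algebraMap k L))))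
  haveI : IsAffineHom (Spec.map (CommRingCat.ofHom (algebraMap k L))) := inferInstance
  let V : (Groth.Agent.GeomIrred.bcs f L).Opens := π ⁻¹ᵁ U
  haveI : IsAffineHom π := MorphismProperty.pullback_fst _ _ inferInstance
  have hVaff : IsAffineOpen V := hU.preimage π
  haveI : IsLocallyNoetherian (V : Scheme.{u}) := isLocallyNoetherian_of_isOpenImmersion V.ι
  haveI : CompactSpace (V : Scheme.{u}) := isCompact_iff_compactSpace.1 hVaff.isCompact
  haveI : IsNoetherian (V : Scheme.{u}) := { }
  haveI : TopologicalSpace.NoetherianSpace (V : Scheme.{u}) := inferInstance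
  have hfin := TopologicalSpace.NoetherianSpace.finite_irreducibleComponents (α := (V : Scheme.{u}))
  refine (hfin.image (fun C => closure (V.ι '' C))).subset ?_
  intro Z hZ
  obtain ⟨η, hη⟩ := QuasiSober.sober hZ.1.1 (isClosed_of_mem_irreducibleComponents _ hZ.1)
  have hπη : π η = ξ := by
    refine IsGenericPoint.eq ?_ hξ
    show closure {π η} = T
    rw [← Groth.Agent.ConnImgLib.image_irreducible f L hη]
    exact himg Z hZ
  have hηV : η ∈ V := show π η ∈ U from hπη ▸ hξU
  let C := irreducibleComponent (⟨η, hηV⟩ : (V : Scheme.{u}))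
  refine ⟨C, irreducibleComponent_mem_irreducibleComponents _, ?_⟩
  have hC : IsIrreducible (closure (V.ι '' C)) :=
    (isIrreducible_irreducibleComponent.image _ V.ι.continuous.continuousOn).closure
  have hle : Z ⊆ closure (V.ι '' C) := by
    rw [← hη.def]
    exact closure_mono (Set.singleton_subset_iff.2 ⟨_, mem_irreducibleComponent, rfl⟩)
  exact le_antisymm (hZ.1.2 hC hle) hle

/-- Let X be locally of finite type over k, K a separable closure of k, and T an irreducible component
of X. Then the inverse image of T in X_K is the union of the finitely many irreducible components of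
X_K mapping into T, and these form a single orbit under the action of the k-automorphisms of K on
X_K. -/
theorem result (k : Type u) [Field k] (X : Scheme.{u}) [X.Over (Spec (CommRingCat.of k))] [LocallyOfFiniteType (X ↘ (Spec (CommRingCat.of k)))]
    (T : Set X) (hT : T ∈ irreducibleComponents (X : Type u)) :
    {T' : Set (Curv2.bc k X (SeparableClosure k)) | T' ∈ irreducibleComponents (Curv2.bc k X (SeparableClosure k) : Type u) ∧
        (Curv2.bcFst k X (SeparableClosure k)).base '' T' ⊆ T}.Finite ∧
      (Curv2.bcFst k X (SeparableClosure k)).base ⁻¹' T = ⋃₀ {T' : Set (Curv2.bc k X (SeparableClosure k)) | T' ∈ irreducibleComponents (Curv2.bc k X (SeparableClosure k) : Type u) ∧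
        (Curv2.bcFst k X (SeparableClosure k)).base '' T' ⊆ T} ∧
      ∀ T' T'' : Set (Curv2.bc k X (SeparableClosure k)), T' ∈ irreducibleComponents (Curv2.bc k X (SeparableClosure k) : Type u) →
        T'' ∈ irreducibleComponents (Curv2.bc k X (SeparableClosure k) : Type u) →
        (Curv2.bcFst k X (SeparableClosure k)).base '' T' ⊆ T → (Curv2.bcFst k X (SeparableClosure k)).base '' T'' ⊆ T →
        ∃ σ : (SeparableClosure k) ≃ₐ[k] (SeparableClosure k), (Curv2.galAct k X (SeparableClosure k) σ).base '' T' = T'' := by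
  obtain ⟨h1, h2, h3⟩ := bc_components (X ↘ Spec (CommRingCat.of k)) (SeparableClosure k) hT
  refine ⟨h1, h2, fun T' T'' hT' hT'' hle hle' => ?_⟩
  exact (Groth.Agent.ConnImgLib.image_eq_iff (X ↘ Spec (CommRingCat.of k)) (SeparableClosure k) hT' hT'').1
    ((h3 T' ⟨hT', hle⟩).trans (h3 T'' ⟨hT'', hle'⟩).symm)

end Groth.Agent.S1670
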