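import Groth.Statements.S16704
import Groth.Agent.UnifModLib.Basic

set_option autoImplicit false
universe u
open AlgSt

namespace Groth.Agent.S16704

open CategoryTheory AlgebraicGeometry in
/-- Let `𝒳` be an algebraic stack, `Y` an algebraic space and `f : 𝒳 → Y` a morphism. If every base
change of `f` to an affine scheme flat over `Y` is a categorical moduli space, the morphism `f`
itself is a uniform categorical moduli space. -/
theorem result (S : Scheme.{u}) (𝒳 : AlgSt.Cat S)
    (h𝒳 : AlgSt.IsAlgStack Scheme.fppfPrecoverage 𝒳) (Y : AlgSp.Sp S) (hY : AlgSp.IsAlgSpace Y)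
    (f : 𝒳 ⥤ᵇ AlgSt.ofSp Y)
    (hf : ∀ (Y' : Over S), IsAffine Y'.left → ∀ (g : (AlgSp.yon S).obj Y' ⟶ Y), AlgSp.LocP @Flat g →
      AlgSt.IsCatModuli (FibCat.fpFst (AlgSt.ofSpMap g) f)) :
    AlgSt.IsUnifCatModuli f := by
  haveI : FibCat.IsFibGrpd 𝒳.p := h𝒳.isStack.1
  have hu : ∀ {M : AlgSp.Sp S}, AlgSp.IsAlgSpace M → ∀ g : M ⟶ Y, AlgSp.LocP @Flat g →
      Groth.Agent.UnifModLib.HasUniv (f := f) g := fun hM g hg =>
    Groth.Agent.UnifModLib.hasUniv_of_flat
      (fun W hW g' hg' => Groth.Agent.UnifModLib.hasUniv_of_isCatModuli (hf W hW g' hg')) hM g hg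
  refine ⟨Groth.Agent.UnifModLib.isCatModuli_self hY (hu hY (CategoryStruct.id Y) ?_),
    fun M hM g hg => Groth.Agent.UnifModLib.isCatModuli_of_hasUniv hM (hu hM g hg)⟩
  intro U V a b h ha hb e
  have : Etale h.left := Groth.Agent.ASp.etale_of_comp_eq ha hb
    (e.symm.trans (Category.comp_id a))
  haveI := this
  infer_instance

end Groth.Agent.S16704
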