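import Mathlib
import Groth.Statements.S16707

set_option autoImplicit false
universe u v
open CAlg

namespace Groth.Agent.S16707
open TensorProduct

open TensorProduct in
/-- Let A be a commutative ring, I a nilpotent ideal of A and f : M → N a homomorphism of A-modules with
N flat over A (no finiteness assumption on M or N). If the base change of f to A/I, that is M/IM →
N/IN, is bijective, then f is bijective. -/
theorem result (A : Type u) [CommRing A] (I : Ideal A)
    (hI : IsNilpotent I) (M N : Type v) [AddCommGroup M] [Module A M] [AddCommGroup N] [Module A N]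
    [Module.Flat A N] (f : M →ₗ[A] N)
    (hf : Function.Bijective (f.baseChange (A ⧸ I))) :
    Function.Bijective f := by
  obtain ⟨n, hn⟩ := hI
  have nak : ∀ (P : Type v) [AddCommGroup P] [Module A P], Subsingleton ((A ⧸ I) ⊗[A] P) → Subsingleton P := by
    intro P _ _ h
    have : Subsingleton (P ⧸ (I • ⊤ : Submodule A P)) := (TensorProduct.quotTensorEquivQuotSMul P I).symm.toEquiv.subsingleton
    have htop : (I • ⊤ : Submodule A P) = ⊤ := Submodule.Quotient.subsingleton_iff.mp this
    have hk : ∀ k : ℕ, (I ^ k • ⊤ : Submodule A P) = ⊤ := by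
      intro k; induction k with
      | zero => simp
      | succ k ih => rw [pow_succ, mul_smul, htop, ih]
    have := hk n; rw [hn] at this
    exact (Submodule.subsingleton_iff A).mp (subsingleton_of_bot_eq_top (by simpa using this))
  have hbc : ⇑(f.baseChange (A ⧸ I)) = ⇑(f.lTensor (A ⧸ I)) := rfl
  rw [hbc] at hf
  have hsurj : Function.Surjective f := by
    have hex : Function.Exact f f.range.mkQ := LinearMap.exact_map_mkQ_range f
    have : Subsingleton ((A ⧸ I) ⊗[A] (N ⧸ f.range)) := by
      refine ⟨fun x y => ?_⟩
      have he := lTensor_exact (A ⧸ I) hex (Submodule.mkQ_surjective _)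
      have hs := LinearMap.lTensor_surjective (A ⧸ I) (Submodule.mkQ_surjective f.range)
      obtain ⟨x, rfl⟩ := hs x
      obtain ⟨y, rfl⟩ := hs y
      rw [(he x).mpr (hf.2 x), (he y).mpr (hf.2 y)]
    have := nak _ this
    rw [Submodule.Quotient.subsingleton_iff, LinearMap.range_eq_top] at this
    exact this
  refine ⟨?_, hsurj⟩
  have hex := LinearMap.exact_subtype_ker_map f
  have hsub : (⊤ : Submodule A f.ker) ≤ I • ⊤ := by
    rintro ⟨x, hx⟩ -
    have hxI : x ∈ (I • ⊤ : Submodule A M) := by
      have h0 : (1 : A ⧸ I) ⊗ₜ[A] x = 0 := hf.1 (by simp [LinearMap.mem_ker.mp hx])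
      have h2 := congrArg (TensorProduct.quotTensorEquivQuotSMul M I) h0
      rw [map_zero, ← (Ideal.Quotient.mk I).map_one, TensorProduct.quotTensorEquivQuotSMul_mk_tmul, one_smul, Submodule.Quotient.mk_eq_zero] at h2
      exact h2
    have hr : ∀ (P : Type v) [AddCommGroup P] [Module A P] (y : P), y ∈ (I • ⊤ : Submodule A P) → ∃ t : I ⊗[A] P, TensorProduct.lid A P (I.subtype.rTensor P t) = y := by
      intro P _ _ y hy
      refine Submodule.smul_induction_on hy (fun a ha m _ => ⟨⟨a, ha⟩ ⊗ₜ m, by simp⟩) ?_
      rintro y z ⟨t, rfl⟩ ⟨t', rfl⟩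
      exact ⟨t + t', by simp only [map_add]⟩
    obtain ⟨t, ht⟩ := hr M x hxI
    have key : ∀ {P Q : Type v} [AddCommGroup P] [Module A P] [AddCommGroup Q] [Module A Q] (g : P →ₗ[A] Q) (t : I ⊗[A] P), TensorProduct.lid A Q (I.subtype.rTensor Q (g.lTensor I t)) = g (TensorProduct.lid A P (I.subtype.rTensor P t)) := by
      intro P Q _ _ _ _ g t
      induction t with
      | zero => simp
      | tmul a m => simp
      | add _ _ h1 h2 => simp only [map_add, h1, h2]
    have h0 : f.lTensor I t = 0 := by
      apply Module.Flat.rTensor_preserves_injective_linearMap (M := N) I.subtype Subtype.val_injective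
      apply (TensorProduct.lid A N).injective
      rw [key, ht, map_zero, map_zero]; exact LinearMap.mem_ker.mp hx
    obtain ⟨w, hw⟩ := (lTensor_exact I (LinearMap.exact_subtype_ker_map f) hsurj t).mp h0
    have hxw : (⟨x, hx⟩ : f.ker) = TensorProduct.lid A f.ker (I.subtype.rTensor f.ker w) :=
      Subtype.val_injective (ht.symm.trans (by rw [← hw]; exact key f.ker.subtype w))
    rw [hxw]
    clear hxw hw
    induction w with
    | zero => simp
    | tmul a m => simpa using Submodule.smul_mem_smul a.2 (Submodule.mem_top (x := m))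
    | add _ _ h1 h2 => simp only [map_add]; exact add_mem h1 h2
  have : Subsingleton ((A ⧸ I) ⊗[A] f.ker) := by
    have := Submodule.Quotient.subsingleton_iff.mpr (top_unique hsub)
    exact (TensorProduct.quotTensorEquivQuotSMul f.ker I).toEquiv.subsingleton
  have := nak _ this
  exact LinearMap.ker_eq_bot.mp (Submodule.subsingleton_iff_eq_bot.mp this)

end Groth.Agent.S16707
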