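import Groth.Statements.S1673
import Groth.Agent.SubAdjLib.Genus1

set_option autoImplicit false
universe u
open CategoryTheory CategoryTheory.Limits AlgebraicGeometry
attribute [local instance] HasDerivedCategory.standard
open Curves

namespace Groth.Agent.S1673

open CategoryTheory CategoryTheory.Limits AlgebraicGeometry

set_option backward.isDefEq.respectTransparency false
set_option backward.isDefEq.respectTransparency.types false
set_option linter.style.haveILetI false
set_option maxHeartbeats 1000000
open Groth.Agent.SubAdjLib Groth.Agent.CliffCurveLib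
attribute [local instance] HasDerivedCategory.standard

/-- Let X be proper of dimension one over k with global functions k, at-worst-nodal singularities and no
rational tail, and ω_X its dualizing module (via f^! O, assuming Rf_* on D_QCoh and its right
adjoint exist). In genus 1, ω_X ≅ O_X; in genus at least 2, every tensor power ω_X^{⊗m} with m ≥ 2
is globally generated. -/
theorem result (k : Type u) [Field k] (X : Scheme.{u}) [X.Over (Spec (CommRingCat.of k))] [IsProper (X ↘ (Spec (CommRingCat.of k)))] (hdim : topologicalKrullDim X = 1)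
    (h0 : Module.finrank k (Coh.HH X (Coh.structureModule X) 0) = 1) (hX : Curv2.AtWorstNodal k X) (hnt : ∀ (C : Set X) (hC : C ∈ irreducibleComponents (X : Type u)), ¬ Curv2.IsRationalTail X C hC)
    [DCoh.HasRpush (X ↘ (Spec (CommRingCat.of k)))] (h : DCoh.RpushPreservesQCoh (X ↘ (Spec (CommRingCat.of k)))) [DCoh.HasShriek (X ↘ (Spec (CommRingCat.of k))) h]
    (OY : DCoh.DQCoh (Spec (CommRingCat.of k))) (hOY : Nonempty (OY.obj ≅ DCoh.inD (Spec (CommRingCat.of k)) (Coh.structureModule (Spec (CommRingCat.of k))))) :
    (Curv2.genus k X = 1 → Nonempty ((DCoh.dualizingMod (X ↘ (Spec (CommRingCat.of k))) h OY 1) ≅ Coh.structureModule X)) ∧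
      (2 ≤ Curv2.genus k X → ∀ m : ℕ, 2 ≤ m → Curv2.IsGloballyGenerated (CohB1.tensorPow (DCoh.dualizingMod (X ↘ (Spec (CommRingCat.of k))) h OY 1) m)) := by
  haveI := (nodal_setup k hdim h0 hX).1
  haveI := (nodal_setup k hdim h0 hX).2
  have hGor := isInvertible_dualizingMod_nodal h OY hOY hdim hX
  refine ⟨fun hg => omega_iso_unit k hdim h0 hnt h OY hOY hGor hg, fun hg m hm => ?_⟩
  refine globallyGenerated_of_degLarge (k := k) hdim.le (AmpleLib.isInvertible_tensorPow hGor m) fun U hU hd => ?_
  change 2 * (gS k U : ℤ) ≤ degS k _ U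
  rw [degS_tensorPow k hGor hdim.le ⟨hU, hd⟩ m]
  have hm' : (2 : ℤ) ≤ m := by exact_mod_cast hm
  by_cases hne : U = ⊤
  · subst hne
    rw [omega_top' k hdim h OY hOY hGor h0, gS_top]
    have h2 : (2 : ℤ) ≤ (Curv2.genus k X : ℤ) := by exact_mod_cast hg
    nlinarith
  · have h1 := gS_le_omega k hdim h OY hOY hGor hnt ⟨hU, hd⟩ hne
    have h2 : (0 : ℤ) ≤ (gS k U : ℤ) := Int.natCast_nonneg _
    nlinarith

end Groth.Agent.S1673
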