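import Groth.Statements.S16731
import Groth.Agent.SubAdjLib.Rational

set_option autoImplicit false
universe u
open CurvSt

namespace Groth.Agent.S16731

open CategoryTheory CategoryTheory.Limits AlgebraicGeometry

set_option backward.isDefEq.respectTransparency false
set_option backward.isDefEq.respectTransparency.types false
set_option linter.style.haveILetI false
set_option maxHeartbeats 1000000
open Groth.Agent.SubAdjLib Groth.Agent.CliffCurveLib
attribute [local instance] HasDerivedCategory.standard

open CategoryTheory CategoryTheory.Limits AlgebraicGeometry in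
/-- Let k be an algebraically closed field and X a proper connected scheme over k of dimension one with
at-worst-nodal singularities. For a natural number g the following are equivalent: (i) X, with no
marked points, is a stable curve of genus g in the component form — dim H^1(X, O_X) = g, every
irreducible component which is a smooth rational curve (the image of a closed immersion of the
projective line) contains at least three points lying on other components, and 2g ≥ 3; (ii) dim
H^1(X, O_X) = g with g ≥ 2, and no irreducible component of X is a rational tail or a rational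
bridge. (With no marked points the published statement excludes only genus one; it fails for the
projective line, which has genus zero, no rational tail and no rational bridge, and is not stable,
so genus at least two is required in (ii) here — exactly what the inequality 2g ≥ 3 of (i) forces.) -/
theorem result (k : Type u) [Field k] [IsAlgClosed k] (X : Scheme.{u})
    [X.Over (Spec (CommRingCat.of k))] [IsProper (X ↘ Spec (CommRingCat.of k))] [ConnectedSpace X]
    (hdim : topologicalKrullDim X = 1) (hX : Curv2.AtWorstNodal k X) (g : ℕ) :
    CurvSt.IsStablePtd k X (X ↘ Spec (CommRingCat.of k)) g (Fin.elim0 : Fin 0 → X) ↔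
      (Curv2.genus k X = g ∧ 2 ≤ g ∧
        (∀ (C : Set X) (hC : C ∈ irreducibleComponents (X : Type u)), ¬ Curv2.IsRationalTail X C hC) ∧
        (∀ (C : Set X) (hC : C ∈ irreducibleComponents (X : Type u)), ¬ Curv2.IsRationalBridge k X C hC)) := by
  haveI := EulerIneqLib.isNoetherian_proper (X := X) k
  haveI := NodePtLib.isReduced_of_atWorstNodal
    (fun _ hZ => TwistShriek.dim_irreducibleComponent k hdim hZ) hX
  have hcard0 : ∀ E : Set X, (Nat.card {i : Fin 0 // (Fin.elim0 i : X) ∈ E} : ℕ∞) = 0 := fun E => by simp
  have hfin : ∀ (E : Set X) (hE : E ∈ irreducibleComponents (X : Type u)), (E ∩ closure Eᶜ).Finite := fun E hE =>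
    CurveLib.finite_of_dim_le_zero ((isClosed_of_mem_irreducibleComponents E hE).inter isClosed_closure)
      (dim_compl_inter k hdim.le (compo hE))
  constructor
  · rintro ⟨-, -, -, ⟨-, hg⟩, -, -, hcomp, h3⟩
    refine ⟨hg, by omega, fun C hC ht => ?_, fun C hC hb => ?_⟩
    · obtain ⟨hg0, h1⟩ := (tail_bridge_iff k hdim hX hC).1.1 ht
      have h := hcomp C ((isSmRatComp_iff k hdim hC).2 hg0)
      rw [hcard0, add_zero, meetPts_eq hC, ← (hfin C hC).cast_ncard_eq, h1] at h
      exact absurd h (by decide)
    · obtain ⟨hg0, h1⟩ := (tail_bridge_iff k hdim hX hC).2.1 hb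
      have h := hcomp C ((isSmRatComp_iff k hdim hC).2 hg0)
      rw [hcard0, add_zero, meetPts_eq hC, ← (hfin C hC).cast_ncard_eq, h1] at h
      exact absurd h (by decide)
  · rintro ⟨hg, hg2, hnt, hnb⟩
    refine ⟨inferInstance, inferInstance, hdim, ⟨hX, hg⟩, fun a => Fin.elim0 a, fun i => Fin.elim0 i,
      fun E hE => ?_, by omega⟩
    have hC := hE.1
    have hg0 := (isSmRatComp_iff k hdim hC).1 hE
    have h1 : (E ∩ closure Eᶜ).ncard ≠ 1 := fun h => hnt E hC ((tail_bridge_iff k hdim hX hC).1.2 ⟨hg0, h⟩)
    have h2 : (E ∩ closure Eᶜ).ncard ≠ 2 := fun h => hnb E hC ((tail_bridge_iff k hdim hX hC).2.2 ⟨hg0, h⟩)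
    have hne : compo hC ≠ ⊤ := fun e => by
      rw [e, gS_top] at hg0
      omega
    have h0 : 1 ≤ (E ∩ closure Eᶜ).ncard := by
      have h := kc_pos k hdim.le (isSub_compo k hdim hC) hne
      rw [kc_eq_card k hdim hX (isSub_compo k hdim hC), Nat.card_coe_set_eq] at h
      exact h
    rw [hcard0, add_zero, meetPts_eq hC, ← (hfin E hC).cast_ncard_eq]
    exact_mod_cast (by omega : 3 ≤ (E ∩ closure Eᶜ).ncard)

end Groth.Agent.S16731
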