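import Groth.Statements.S16737
import Mathlib
set_option backward.isDefEq.respectTransparency false
set_option backward.isDefEq.respectTransparency.types false

set_option autoImplicit false
universe u v
open DeRham

namespace Groth.Agent.S16737

/-- The case of affine space over an affine base of characteristic p, in degree zero. Let p be a prime
and R a commutative ring with p = 0 in R. For a polynomial f over R in any set of variables t_i, the
Kähler differential df in Ω_{R[t]/R} vanishes if and only if f is a polynomial in the p-th powers of
the variables, f = g(t_i^p). Equivalently, the functions on affine space over R killed by the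
differential of the de Rham complex are exactly the functions on its Frobenius twist. (The published
computation is for finitely many variables over a noetherian base of characteristic p; the statement
here allows any commutative ring with p = 0 and any set of variables.) -/
theorem result (p : ℕ) [Fact p.Prime]
    (R : Type u) [CommRing R] [CharP R p] (σ : Type v) (f : MvPolynomial σ R) :
    KaehlerDifferential.D R (MvPolynomial σ R) f = 0 ↔
      ∃ g : MvPolynomial σ R, f = MvPolynomial.expand p g := by
  classical
  constructor
  · intro h
    have hp : ∀ i, MvPolynomial.pderiv i f = 0 := fun i => by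
      rw [← KaehlerDifferential.mvPolynomialBasis_repr_apply, h, map_zero, Finsupp.zero_apply]
    have hdvd : ∀ m ∈ f.support, ∀ i, p ∣ m i := fun m hm i => by
      by_contra hpd
      have h1 := congrArg (MvPolynomial.coeff (m - Finsupp.single i 1)) (hp i)
      have hm1 : 1 ≤ m i := Nat.one_le_iff_ne_zero.2 fun e => hpd (e ▸ dvd_zero p)
      have e : m - Finsupp.single i 1 + Finsupp.single i 1 = m :=
        tsub_add_cancel_of_le (Finsupp.single_le_iff.2 hm1)
      rw [MvPolynomial.coeff_pderiv, e, MvPolynomial.coeff_zero] at h1
      have e' : ((m - Finsupp.single i 1 : σ →₀ ℕ) i : R) + 1 = ((m i : ℕ) : R) := by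
        rw [Finsupp.tsub_apply, Finsupp.single_eq_same, ← Nat.cast_add_one, Nat.sub_add_cancel hm1]
      rw [e'] at h1
      have hu : IsUnit ((m i : ℕ) : R) := by
        have hcop : Nat.Coprime (m i) p := ((Fact.out : p.Prime).coprime_iff_not_dvd.2 hpd).symm
        obtain ⟨a, b, hab⟩ := Int.isCoprime_iff_gcd_eq_one.2 (by simpa using hcop : Int.gcd (m i) p = 1)
        refine IsUnit.of_mul_eq_one (a : R) ?_
        have := congrArg (fun z : ℤ => (z : R)) hab
        push_cast at this
        rw [CharP.cast_eq_zero R p, mul_zero, add_zero] at this
        rw [mul_comm, this]
      exact MvPolynomial.mem_support_iff.1 hm (hu.mul_left_eq_zero.1 h1)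
    refine ⟨∑ m ∈ f.support, MvPolynomial.monomial (m.mapRange (· / p) (Nat.zero_div p)) (f.coeff m), ?_⟩
    conv_lhs => rw [f.as_sum]
    rw [map_sum]
    refine Finset.sum_congr rfl fun m hm => ?_
    rw [MvPolynomial.expand_monomial,
      show p • m.mapRange (· / p) (Nat.zero_div p) = m from Finsupp.ext fun i => by
        simp [Nat.mul_div_cancel' (hdvd m hm i)]]
  · rintro ⟨g, rfl⟩
    induction g using MvPolynomial.induction_on' with
    | monomial m r =>
      rw [← (KaehlerDifferential.mvPolynomialBasis R σ).repr.injective.eq_iff]
      ext i
      rw [KaehlerDifferential.mvPolynomialBasis_repr_apply, map_zero, Finsupp.zero_apply,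
        MvPolynomial.expand_monomial, MvPolynomial.pderiv_monomial]
      simp
    | add a b ha hb => rw [map_add, map_add, ha, hb, add_zero]

end Groth.Agent.S16737
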