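import Mathlib
import Groth.Agent.FlatDevLib.Basic
import Groth.Statements.S16742

set_option autoImplicit false
universe u
open CAlg

namespace Groth.Agent.S16742

/-- The equivalence in affine form, with flatness of the reduction in place of smoothness. Let p be a
prime, A~ a commutative ring flat over Z/p^2 and B~ an A~-algebra such that B~/pB~ is flat over
A~/pA~. Then B~ is flat over A~ if and only if every element of B~ killed by p is a multiple of p;
equivalently multiplication by p identifies B~/pB~ with pB~. (The published statement assumes the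
reduction smooth over A~/pA~ and the schemes noetherian, and phrases (b) as B~ being a lifting, that
is flat over A~; the statement here assumes only that the reduction is flat, where the equivalence
still holds by the local flatness criterion for the square-zero ideal generated by p.) -/
theorem result (p : ℕ) [Fact p.Prime]
    (Al : Type u) [CommRing Al] [Algebra (ZMod (p ^ 2)) Al] [Module.Flat (ZMod (p ^ 2)) Al]
    (Bl : Type u) [CommRing Bl] [Algebra Al Bl]
    (hB : Module.Flat (Al ⧸ Ideal.span {(p : Al)})
      (Bl ⧸ (Ideal.span {(p : Al)}).map (algebraMap Al Bl))) :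
    Module.Flat Al Bl ↔ ∀ b : Bl, (p : Bl) * b = 0 → b ∈ Ideal.span {(p : Bl)} := by
  classical
  -- kills-`p` property in a flat module
  have key : ∀ (R : Type u) [CommRing R] (M : Type u) [AddCommGroup M] [Module R M] [Module.Flat R M]
      (t : R), t * t = 0 → (∀ r : R, t * r = 0 → ∃ s, r = t * s) →
      ∀ m : M, t • m = 0 → ∃ m' : M, m = t • m' := by
    intro R _ M _ _ _ t ht hann m hm
    have hex : Function.Exact (LinearMap.lsmul R R t) (LinearMap.lsmul R R t) := fun r =>
      ⟨fun h => let ⟨s, hs⟩ := hann r h; ⟨s, hs.symm⟩,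
        fun ⟨s, hs⟩ => by rw [← hs]; simp [← mul_assoc, ht]⟩
    have hex' := Module.Flat.lTensor_exact M hex
    have hcomp : ∀ x : TensorProduct R M R, TensorProduct.rid R M ((LinearMap.lsmul R R t).lTensor M x) =
        t • TensorProduct.rid R M x := by
      intro x
      induction x using TensorProduct.induction_on with
      | zero => simp
      | tmul a b => simp [smul_smul]
      | add a b ha hb => simp [ha, hb]
    have h0 : (LinearMap.lsmul R R t).lTensor M ((TensorProduct.rid R M).symm m) = 0 := by
      apply (TensorProduct.rid R M).injective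
      rw [hcomp, LinearEquiv.apply_symm_apply, map_zero, hm]
    obtain ⟨y, hy⟩ := (hex' _).1 h0
    refine ⟨TensorProduct.rid R M y, ?_⟩
    rw [← hcomp, hy, LinearEquiv.apply_symm_apply]
  have hp2 : (p : Al) * p = 0 := by
    have := congrArg (algebraMap (ZMod (p ^ 2)) Al) (ZMod.natCast_self (p ^ 2))
    rwa [map_natCast, map_zero, Nat.cast_pow, pow_two] at this
  have hannAl : ∀ r : Al, (p : Al) * r = 0 → ∃ s, r = (p : Al) * s := by
    intro r hr
    have hZ : ∀ z : ZMod (p ^ 2), (p : ZMod (p ^ 2)) * z = 0 → ∃ w, z = (p : ZMod (p ^ 2)) * w := by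
      intro z hz
      have hne : NeZero (p ^ 2) := ⟨pow_ne_zero _ (Fact.out : p.Prime).ne_zero⟩
      obtain ⟨k, rfl⟩ := ZMod.natCast_zmod_surjective z
      rw [← Nat.cast_mul, ZMod.natCast_eq_zero_iff, pow_two] at hz
      obtain ⟨w, rfl⟩ := Nat.dvd_of_mul_dvd_mul_left (Fact.out : p.Prime).pos hz
      exact ⟨w, by push_cast; rfl⟩
    obtain ⟨s, hs⟩ : ∃ s : Al, r = (p : ZMod (p ^ 2)) • s := by
      have hex : Function.Exact (LinearMap.lsmul (ZMod (p ^ 2)) (ZMod (p ^ 2)) (p : ZMod (p ^ 2)))
          (LinearMap.lsmul (ZMod (p ^ 2)) (ZMod (p ^ 2)) (p : ZMod (p ^ 2))) := fun z =>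
        ⟨fun h => let ⟨s, hs⟩ := hZ z h; ⟨s, hs.symm⟩,
          fun ⟨s, hs⟩ => by
            rw [← hs]
            simp [← mul_assoc, ← pow_two, ← Nat.cast_pow, ZMod.natCast_self]⟩
      have hex' := Module.Flat.lTensor_exact Al hex
      have hcomp : ∀ x : TensorProduct (ZMod (p ^ 2)) Al (ZMod (p ^ 2)),
          TensorProduct.rid _ Al ((LinearMap.lsmul _ _ (p : ZMod (p ^ 2))).lTensor Al x) =
          (p : ZMod (p ^ 2)) • TensorProduct.rid _ Al x := by
        intro x
        induction x using TensorProduct.induction_on with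
        | zero => simp
        | tmul a b => simp [smul_smul]
        | add a b ha hb => rw [map_add, map_add, ha, hb, map_add, smul_add]
      have h0 : (LinearMap.lsmul (ZMod (p ^ 2)) _ (p : ZMod (p ^ 2))).lTensor Al
          ((TensorProduct.rid (ZMod (p ^ 2)) Al).symm r) = 0 := by
        apply (TensorProduct.rid (ZMod (p ^ 2)) Al).injective
        rw [hcomp, LinearEquiv.apply_symm_apply, map_zero, Algebra.smul_def, map_natCast, hr]
      obtain ⟨y, hy⟩ := (hex' _).1 h0
      refine ⟨TensorProduct.rid _ Al y, ?_⟩
      rw [← hcomp, hy, LinearEquiv.apply_symm_apply]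
    exact ⟨s, by rw [hs, Algebra.smul_def, map_natCast]⟩
  constructor
  · intro hflat b hb
    obtain ⟨b', hb'⟩ := key Al Bl (p : Al) hp2 hannAl b (by rwa [Algebra.smul_def, map_natCast])
    rw [hb', Algebra.smul_def, map_natCast]
    exact Ideal.mul_mem_right _ _ (Ideal.subset_span rfl)
  · intro htor
    let I : Ideal Al := Ideal.span {(p : Al)}
    let J : Ideal Bl := I.map (algebraMap Al Bl)
    let e₀ : (Bl ⧸ J) ≃ₗ[Al] TensorProduct Al (Al ⧸ I) Bl :=
      ((Algebra.TensorProduct.quotIdealMapEquivTensorQuot Bl I).toLinearEquiv.restrictScalars Al).trans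
        (TensorProduct.comm Al Bl (Al ⧸ I))
    let e : (Bl ⧸ J) ≃ₗ[Al ⧸ I] TensorProduct Al (Al ⧸ I) Bl :=
      e₀.toAddEquiv.toLinearEquiv fun c x => by
        obtain ⟨a, rfl⟩ := Ideal.Quotient.mk_surjective c
        change e₀ (algebraMap Al (Al ⧸ I) a • x) = algebraMap Al (Al ⧸ I) a • e₀ x
        rw [algebraMap_smul, algebraMap_smul, map_smul]
    have hB' : Module.Flat (Al ⧸ I) (Bl ⧸ J) := hB
    have : Module.Flat (Al ⧸ I) (TensorProduct Al (Al ⧸ I) Bl) := Module.Flat.of_linearEquiv e.symm
    have hinj : Function.Injective ((Submodule.subtype I).rTensor Bl) := by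
      refine (injective_iff_map_eq_zero _).2 fun z hz => ?_
      let g : I := ⟨(p : Al), Ideal.subset_span rfl⟩
      obtain ⟨b, rfl⟩ : ∃ b : Bl, z = g ⊗ₜ[Al] b := by
        clear hz
        induction z using TensorProduct.induction_on with
        | zero => exact ⟨0, by simp⟩
        | tmul i b =>
          obtain ⟨a, ha⟩ := Ideal.mem_span_singleton'.1 i.2
          refine ⟨a • b, ?_⟩
          rw [← TensorProduct.smul_tmul]
          congr 1
          exact Subtype.ext ha.symm
        | add x y hx hy =>
          obtain ⟨a, rfl⟩ := hx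
          obtain ⟨c, rfl⟩ := hy
          exact ⟨a + c, (TensorProduct.tmul_add _ _ _).symm⟩
      have h1 : (p : Bl) * b = 0 := by
        have := congrArg (TensorProduct.lid Al Bl) hz
        rwa [LinearMap.rTensor_tmul, TensorProduct.lid_tmul, map_zero, Submodule.coe_subtype,
          Algebra.smul_def, map_natCast] at this
      obtain ⟨b', hb'⟩ := Ideal.mem_span_singleton'.1 (htor b h1)
      have hb2 : b = (p : Al) • b' := by rw [Algebra.smul_def, map_natCast, mul_comm, hb']
      rw [hb2, ← TensorProduct.smul_tmul, show (p : Al) • g = 0 from Subtype.ext hp2,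
        TensorProduct.zero_tmul]
    have hflat2 := FlatDevLib.flat_mod_pow I hinj 1
    refine Module.Flat.iff_rTensor_injective'.mpr fun A => ?_
    have hsq : I ^ (1 + 1) = ⊥ := by
      rw [Ideal.span_singleton_pow, Ideal.span_singleton_eq_bot, pow_two, hp2]
    have h : Module.IsTorsionBySet Al Al ((I ^ (1 + 1) : Ideal Al) : Set Al) := fun x a => by
      rw [show (a : Al) = 0 from (Ideal.mem_bot).1 (hsq ▸ a.2), zero_smul]
    exact FlatDevLib.rTensor_injective_of_killed _ (FlatDevLib.isTorsionBySet_sub h A) h
      A.subtype A.injective_subtype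

end Groth.Agent.S16742
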