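import Groth.Statements.S16744
import Mathlib.LinearAlgebra.ExteriorPower.Basis
import Mathlib.LinearAlgebra.CliffordAlgebra.Contraction
import Mathlib.RingTheory.Kaehler.Polynomial
import Mathlib.RingTheory.MvPolynomial.Basic
import Mathlib.RingTheory.AlgebraTower
import Mathlib.FieldTheory.Finite.Basic
import Mathlib.Algebra.CharP.Basic
-- import your own Groth.Agent.* helpers here

set_option autoImplicit false
universe u
open DeRham

namespace Groth.Agent.S16744

set_option maxHeartbeats 1000000
set_option linter.style.haveILetI false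
set_option backward.isDefEq.respectTransparency false

section

variable {R : Type u} [CommRing R] {n : ℕ}


/-- The derivation dual to the `j`-th log form. -/
noncomputable def δ' (r : ℕ) (j : Fin n) (b : (MvPolynomial (Fin n) R)) : (MvPolynomial (Fin n) R) :=
  if (j : ℕ) < r then MvPolynomial.X j * MvPolynomial.pderiv j b else MvPolynomial.pderiv j b

/-- The factor turning `δ'` into the Euler derivation. -/
noncomputable def τ' (r : ℕ) (ν : Fin n) : (MvPolynomial (Fin n) R) := if (ν : ℕ) < r then 1 else MvPolynomial.X ν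

theorem δ'_mul (r : ℕ) (j : Fin n) (b c : (MvPolynomial (Fin n) R)) : δ' r j (b * c) = δ' r j b * c + b * δ' r j c := by
  unfold δ'; split_ifs <;> rw [MvPolynomial.pderiv_mul] <;> ring

theorem δ'_τ' (r : ℕ) (j ν : Fin n) :
    δ' r j (τ' r ν : (MvPolynomial (Fin n) R)) = if j = ν ∧ r ≤ (ν : ℕ) then 1 else 0 := by
  unfold δ' τ'
  by_cases hν : (ν : ℕ) < r
  · simp [hν]
  · by_cases hj : j = ν
    · subst hj; simp [hν, not_lt.1 hν]
    · simp [hν, hj, MvPolynomial.pderiv_X_of_ne (Ne.symm hj)]

theorem τ'_mul_δ' (r : ℕ) (ν : Fin n) (b : (MvPolynomial (Fin n) R)) :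
    τ' r ν * δ' r ν b = MvPolynomial.X ν * MvPolynomial.pderiv ν b := by
  unfold δ' τ'; split_ifs <;> simp

theorem euler_monomial (ν : Fin n) (m : Fin n →₀ ℕ) (c : R) :
    MvPolynomial.X ν * MvPolynomial.pderiv ν (MvPolynomial.monomial m c) = MvPolynomial.monomial m ((m ν : R) * c) := by
  rw [MvPolynomial.pderiv_monomial, MvPolynomial.X, MvPolynomial.monomial_mul, one_mul]
  by_cases hν : m ν = 0
  · simp [hν]
  · have : Finsupp.single ν 1 + (m - Finsupp.single ν 1) = m :=
      add_tsub_cancel_of_le (Finsupp.single_le_iff.2 (Nat.one_le_iff_ne_zero.2 hν))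
    rw [this, mul_comm c]

variable {L : Type u} [AddCommGroup L] [Module (MvPolynomial (Fin n) R) L] (vb : Module.Basis (Fin n) (MvPolynomial (Fin n) R) L)

/-- The wedge of basis vectors. -/
noncomputable def prodV {q : ℕ} (f : Fin q → Fin n) : ↥(⋀[(MvPolynomial (Fin n) R)]^q L) := exteriorPower.ιMulti (MvPolynomial (Fin n) R) q (vb ∘ f)

theorem ι_mul_mem {q : ℕ} (v : L) (y : ↥(⋀[(MvPolynomial (Fin n) R)]^q L)) :
    ExteriorAlgebra.ι (MvPolynomial (Fin n) R) v * (y : ExteriorAlgebra (MvPolynomial (Fin n) R) L) ∈ ⋀[(MvPolynomial (Fin n) R)]^(q + 1) L := by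
  show _ ∈ LinearMap.range (ExteriorAlgebra.ι (MvPolynomial (Fin n) R) : L →ₗ[(MvPolynomial (Fin n) R)] ExteriorAlgebra (MvPolynomial (Fin n) R) L) ^ (q + 1)
  rw [pow_succ']
  exact Submodule.mul_mem_mul ⟨v, rfl⟩ y.2

/-- Left multiplication by a form of degree one. -/
noncomputable def wedge (v : L) (q : ℕ) : ↥(⋀[(MvPolynomial (Fin n) R)]^q L) →ₗ[(MvPolynomial (Fin n) R)] ↥(⋀[(MvPolynomial (Fin n) R)]^(q + 1) L) :=
  LinearMap.codRestrict _ ((LinearMap.mulLeft (MvPolynomial (Fin n) R) (ExteriorAlgebra.ι (MvPolynomial (Fin n) R) v)).comp (Submodule.subtype _)) (ι_mul_mem v)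

theorem coe_wedge (v : L) (q : ℕ) (y : ↥(⋀[(MvPolynomial (Fin n) R)]^q L)) :
    (wedge v q y : ExteriorAlgebra (MvPolynomial (Fin n) R) L) = ExteriorAlgebra.ι (MvPolynomial (Fin n) R) v * y := rfl

theorem wedge_prodV {q : ℕ} (j : Fin n) (f : Fin q → Fin n) :
    wedge (vb j) q (prodV vb f) = prodV vb (Fin.cons j f) := by
  refine Subtype.ext ?_
  rw [coe_wedge, prodV, prodV, exteriorPower.ιMulti_apply_coe, exteriorPower.ιMulti_apply_coe,
    show vb ∘ Fin.cons (α := fun _ => Fin n) j f = Fin.cons (vb j) (vb ∘ f) from Fin.comp_cons vb j f,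
    ExteriorAlgebra.ιMulti_succ_apply]
  congr 1

theorem span_prodV (q : ℕ) : Submodule.span (MvPolynomial (Fin n) R) (Set.range fun f : Fin q → Fin n => prodV vb f) = ⊤ := by
  refine top_le_iff.1 ((exteriorPower.ιMulti_span_of_span (MvPolynomial (Fin n) R) q L vb.span_eq).ge.trans (Submodule.span_mono ?_))
  rintro _ ⟨a, ha, rfl⟩
  choose f hf using fun k => ha ⟨k, rfl⟩
  refine ⟨f, ?_⟩
  show exteriorPower.ιMulti (MvPolynomial (Fin n) R) q (vb ∘ f) = _
  rw [show vb ∘ f = a from funext hf]

/-- Contraction with the dual form, in the exterior algebra. -/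
noncomputable def ctrE (ν : Fin n) : ExteriorAlgebra (MvPolynomial (Fin n) R) L →ₗ[(MvPolynomial (Fin n) R)] ExteriorAlgebra (MvPolynomial (Fin n) R) L :=
  CliffordAlgebra.contractLeft (Q := (0 : QuadraticForm (MvPolynomial (Fin n) R) L)) (vb.coord ν)

theorem ctrE_ι_mul (ν : Fin n) (v : L) (b : ExteriorAlgebra (MvPolynomial (Fin n) R) L) :
    ctrE vb ν (ExteriorAlgebra.ι (MvPolynomial (Fin n) R) v * b) = vb.coord ν v • b - ExteriorAlgebra.ι (MvPolynomial (Fin n) R) v * ctrE vb ν b :=
  CliffordAlgebra.contractLeft_ι_mul _ v b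

theorem ctrE_one (ν : Fin n) : ctrE vb ν 1 = 0 :=
  CliffordAlgebra.contractLeft_one _ _

theorem coe_prodV_cons {q : ℕ} (f : Fin (q + 1) → Fin n) :
    (prodV vb f : ExteriorAlgebra (MvPolynomial (Fin n) R) L) = ExteriorAlgebra.ι (MvPolynomial (Fin n) R) (vb (f 0)) * (prodV vb (Fin.tail f) : ExteriorAlgebra (MvPolynomial (Fin n) R) L) := by
  conv_lhs => rw [← Fin.cons_self_tail f, ← wedge_prodV, coe_wedge]

theorem ctr_prodV_mem (ν : Fin n) : ∀ (q : ℕ) (f : Fin (q + 1) → Fin n),
    ∃ y ∈ AddSubgroup.closure (Set.range fun g : Fin q → Fin n => prodV vb g),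
      (y : ExteriorAlgebra (MvPolynomial (Fin n) R) L) = ctrE vb ν (prodV vb f : ExteriorAlgebra (MvPolynomial (Fin n) R) L) := by
  intro q
  induction q with
  | zero =>
    intro f
    have h0 : (prodV vb (Fin.tail f) : ExteriorAlgebra (MvPolynomial (Fin n) R) L) = 1 := by
      rw [prodV, exteriorPower.ιMulti_apply_coe, ExteriorAlgebra.ιMulti_zero_apply]
    rw [coe_prodV_cons, ctrE_ι_mul, h0, ctrE_one, mul_zero, sub_zero, Module.Basis.coord_apply, vb.repr_self,
      Finsupp.single_apply]
    split_ifs with h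
    · exact ⟨prodV vb (Fin.tail f), AddSubgroup.subset_closure ⟨_, rfl⟩, by rw [h0, one_smul]⟩
    · exact ⟨0, zero_mem _, by rw [zero_smul]; rfl⟩
  | succ q ih =>
    intro f
    obtain ⟨y, hy, hy'⟩ := ih (Fin.tail f)
    have hW : wedge (vb (f 0)) q y ∈ AddSubgroup.closure (Set.range fun g : Fin (q + 1) → Fin n => prodV vb g) := by
      clear hy'
      induction hy using AddSubgroup.closure_induction with
      | mem y hy =>
        obtain ⟨g, rfl⟩ := hy
        rw [wedge_prodV]
        exact AddSubgroup.subset_closure ⟨_, rfl⟩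
      | zero => rw [map_zero]; exact zero_mem _
      | add a b _ _ ha hb => rw [map_add]; exact add_mem ha hb
      | neg a _ ha => rw [map_neg]; exact neg_mem ha
    rw [coe_prodV_cons, ctrE_ι_mul, ← hy', ← coe_wedge, Module.Basis.coord_apply, vb.repr_self, Finsupp.single_apply]
    split_ifs with h
    · exact ⟨prodV vb (Fin.tail f) - wedge (vb (f 0)) q y, sub_mem (AddSubgroup.subset_closure ⟨_, rfl⟩) hW, by
        rw [one_smul]; rfl⟩
    · exact ⟨-wedge (vb (f 0)) q y, neg_mem hW, by rw [zero_smul, zero_sub]; rfl⟩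

theorem ctr_mem (ν : Fin n) (q : ℕ) (y : ↥(⋀[(MvPolynomial (Fin n) R)]^(q + 1) L)) : ctrE vb ν (y : ExteriorAlgebra (MvPolynomial (Fin n) R) L) ∈ ⋀[(MvPolynomial (Fin n) R)]^q L := by
  have hy : y ∈ Submodule.span (MvPolynomial (Fin n) R) (Set.range fun f : Fin (q + 1) → Fin n => prodV vb f) := by
    rw [span_prodV]; trivial
  induction hy using Submodule.span_induction with
  | mem y hy =>
    obtain ⟨f, rfl⟩ := hy
    obtain ⟨z, -, hz⟩ := ctr_prodV_mem vb ν q f
    rw [← hz]; exact z.2
  | zero => simp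
  | add a b _ _ ha hb => rw [Submodule.coe_add, map_add]; exact add_mem ha hb
  | smul c a _ ha => rw [Submodule.coe_smul, map_smul]; exact Submodule.smul_mem _ c ha

/-- Contraction with the dual form. -/
noncomputable def ctr (ν : Fin n) (q : ℕ) : ↥(⋀[(MvPolynomial (Fin n) R)]^(q + 1) L) →ₗ[(MvPolynomial (Fin n) R)] ↥(⋀[(MvPolynomial (Fin n) R)]^q L) :=
  LinearMap.codRestrict _ ((ctrE vb ν).comp (Submodule.subtype _)) (ctr_mem vb ν q)

theorem ctr_wedge_succ (ν : Fin n) (v : L) (q : ℕ) (y : ↥(⋀[(MvPolynomial (Fin n) R)]^(q + 1) L)) :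
    ctr vb ν (q + 1) (wedge v (q + 1) y) = vb.coord ν v • y - wedge v q (ctr vb ν q y) :=
  Subtype.ext (ctrE_ι_mul vb ν v _)

theorem ctr_wedge_zero (ν : Fin n) (v : L) (f : Fin 0 → Fin n) :
    ctr vb ν 0 (wedge v 0 (prodV vb f)) = vb.coord ν v • prodV vb f := by
  refine Subtype.ext ?_
  show ctrE vb ν (ExteriorAlgebra.ι _ v * (prodV vb f : ExteriorAlgebra (MvPolynomial (Fin n) R) L)) = _
  rw [Submodule.coe_smul, prodV, exteriorPower.ιMulti_apply_coe, ExteriorAlgebra.ιMulti_zero_apply, ctrE_ι_mul, ctrE_one,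
    mul_zero, sub_zero]

theorem ctr_prodV_eq_zero (ν : Fin n) : ∀ (q : ℕ) (f : Fin (q + 1) → Fin n), (∀ k, f k ≠ ν) →
    ctr vb ν q (prodV vb f) = 0 := by
  intro q
  induction q with
  | zero =>
    intro f hf
    rw [show prodV vb f = wedge (vb (f 0)) 0 (prodV vb (Fin.tail f)) by rw [wedge_prodV, Fin.cons_self_tail],
      ctr_wedge_zero, Module.Basis.coord_apply, vb.repr_self, Finsupp.single_eq_of_ne (hf 0).symm, zero_smul]
  | succ q ih =>
    intro f hf
    rw [show prodV vb f = wedge (vb (f 0)) (q + 1) (prodV vb (Fin.tail f)) by rw [wedge_prodV, Fin.cons_self_tail],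
      ctr_wedge_succ, Module.Basis.coord_apply, vb.repr_self, Finsupp.single_eq_of_ne (hf 0).symm, zero_smul,
      ih (Fin.tail f) (fun k => hf k.succ), map_zero, sub_zero]

theorem wedge_prodV_eq_zero {q : ℕ} (ν : Fin n) (f : Fin q → Fin n) (k : Fin q) (hk : f k = ν) :
    wedge (vb ν) q (prodV vb f) = 0 := by
  rw [wedge_prodV, prodV]
  refine (exteriorPower.ιMulti (MvPolynomial (Fin n) R) (q + 1)).map_eq_zero_of_eq _ (i := 0) (j := k.succ) ?_ (Fin.succ_ne_zero k).symm
  simp [hk]

theorem wedge_ctr_prodV (ν : Fin n) (q : ℕ) (f : Fin (q + 1) → Fin n) :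
    wedge (vb ν) q (ctr vb ν q (prodV vb f)) = if ∃ k, f k = ν then prodV vb f else 0 := by
  split_ifs with h
  · obtain ⟨k, hk⟩ := h
    have := ctr_wedge_succ vb ν (vb ν) q (prodV vb f)
    rw [wedge_prodV_eq_zero vb ν f k hk, map_zero, Module.Basis.coord_apply, vb.repr_self, Finsupp.single_eq_same,
      one_smul] at this
    exact (sub_eq_zero.1 this.symm).symm
  · push Not at h
    rw [ctr_prodV_eq_zero vb ν q f h, map_zero]

/-- The shift of the exponent of `X ν` in weights. -/
def shift (r : ℕ) (ν : Fin n) {q : ℕ} (f : Fin q → Fin n) : ℕ := if (∃ k, f k = ν) ∧ r ≤ (ν : ℕ) then 1 else 0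

variable [Module R L] [IsScalarTower R (MvPolynomial (Fin n) R) L]
variable (r : ℕ) (d : ∀ q : ℕ, ↥(⋀[(MvPolynomial (Fin n) R)]^q L) →ₗ[R] ↥(⋀[(MvPolynomial (Fin n) R)]^(q + 1) L))

/-- The homotopy operator. -/
noncomputable def hom' (ν : Fin n) (q : ℕ) : ↥(⋀[(MvPolynomial (Fin n) R)]^(q + 1) L) →ₗ[R] ↥(⋀[(MvPolynomial (Fin n) R)]^q L) :=
  ((τ' r ν : (MvPolynomial (Fin n) R)) • ctr vb ν q).restrictScalars R

/-- The Lie derivative along the Euler field. -/
noncomputable def lie (ν : Fin n) : ∀ a : ℕ, ↥(⋀[(MvPolynomial (Fin n) R)]^a L) →ₗ[R] ↥(⋀[(MvPolynomial (Fin n) R)]^a L)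
  | 0 => hom' vb r ν 0 ∘ₗ d 0
  | q + 1 => d q ∘ₗ hom' vb r ν q + hom' vb r ν (q + 1) ∘ₗ d (q + 1)

variable (hrule : ∀ (q : ℕ) (b : (MvPolynomial (Fin n) R)) (f : Fin q → Fin n),
  d q (b • prodV vb f) = ∑ j, δ' r j b • wedge (vb j) q (prodV vb f))

include hrule

theorem rule_closure {q : ℕ} (b : (MvPolynomial (Fin n) R)) {y : ↥(⋀[(MvPolynomial (Fin n) R)]^q L)}
    (hy : y ∈ AddSubgroup.closure (Set.range fun g : Fin q → Fin n => prodV vb g)) :
    d q (b • y) = ∑ j, δ' r j b • wedge (vb j) q y := by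
  induction hy using AddSubgroup.closure_induction with
  | mem y hy => obtain ⟨g, rfl⟩ := hy; exact hrule q b g
  | zero => simp
  | add a c _ _ ha hc => simp only [smul_add, map_add, ha, hc, Finset.sum_add_distrib]
  | neg a _ ha => simp only [smul_neg, map_neg, ha, Finset.sum_neg_distrib]

theorem lie_apply (ν : Fin n) (a : ℕ) (b : (MvPolynomial (Fin n) R)) (f : Fin a → Fin n) :
    lie vb r d ν a (b • prodV vb f) =
      (MvPolynomial.X ν * MvPolynomial.pderiv ν b + (shift r ν f : (MvPolynomial (Fin n) R)) * b) • prodV vb f := by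
  cases a with
  | zero =>
    have hh : ∀ q y, hom' vb r ν q y = τ' r ν • ctr vb ν q y := fun q y => by rw [hom', LinearMap.coe_restrictScalars, LinearMap.smul_apply]
    simp only [lie, LinearMap.comp_apply, hh]
    rw [hrule, map_sum, Finset.smul_sum, Finset.sum_eq_single ν]
    · rw [map_smul, ctr_wedge_zero, Module.Basis.coord_apply, vb.repr_self, Finsupp.single_eq_same, one_smul,
        smul_smul, τ'_mul_δ']
      simp [shift]
    · intro j _ hj
      rw [map_smul, ctr_wedge_zero, Module.Basis.coord_apply, vb.repr_self, Finsupp.single_eq_of_ne hj.symm, zero_smul,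
        smul_zero, smul_zero]
    · simp
  | succ q =>
    obtain ⟨y, hy, hy'⟩ := ctr_prodV_mem vb ν q f
    have hC : ctr vb ν q (prodV vb f) = y := Subtype.ext hy'.symm
    have hh : ∀ q y, hom' vb r ν q y = τ' r ν • ctr vb ν q y := fun q y => by rw [hom', LinearMap.coe_restrictScalars, LinearMap.smul_apply]
    simp only [lie, LinearMap.add_apply, LinearMap.comp_apply, hh]
    rw [(ctr vb ν q).map_smul, hC, smul_smul, rule_closure vb r d hrule _ hy, hrule, map_sum, Finset.smul_sum,
      ← Finset.sum_add_distrib]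
    have key : ∀ j, δ' r j (τ' r ν * b) • wedge (vb j) q y +
        τ' r ν • ctr vb ν (q + 1) (δ' r j b • wedge (vb j) (q + 1) (prodV vb f)) =
        (δ' r j (τ' r ν : (MvPolynomial (Fin n) R)) * b) • wedge (vb j) q y +
          (τ' r ν * δ' r j b * if j = ν then 1 else 0) • prodV vb f := fun j => by
      rw [map_smul, ctr_wedge_succ, hC, δ'_mul, Module.Basis.coord_apply, vb.repr_self, Finsupp.single_apply,
        smul_smul, smul_sub, smul_smul, add_smul]
      split_ifs with h <;> simp only [mul_one, mul_zero, zero_smul] <;> abel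
    rw [Finset.sum_congr rfl fun j _ => key j, Finset.sum_eq_single ν]
    · rw [if_pos rfl, mul_one, τ'_mul_δ', δ'_τ', add_smul, ← hC, wedge_ctr_prodV, shift]
      refine (add_comm _ _).trans ?_
      congr 1
      by_cases h1 : ∃ k, f k = ν <;> by_cases h2 : r ≤ (ν : ℕ) <;> simp [h1, h2]
    · intro j _ hj
      simp [δ'_τ', hj]
    · simp

theorem lie_monomial (ν : Fin n) (a : ℕ) (m : Fin n →₀ ℕ) (c : R) (f : Fin a → Fin n) :
    lie vb r d ν a (MvPolynomial.monomial m c • prodV vb f) =
      ((m ν + shift r ν f : ℕ) : R) • (MvPolynomial.monomial m c • prodV vb f) := by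
  rw [lie_apply vb r d hrule, euler_monomial, ← smul_assoc]
  congr 1
  rw [MvPolynomial.smul_monomial, smul_eq_mul, ← map_natCast (MvPolynomial.C : R →+* (MvPolynomial (Fin n) R)), MvPolynomial.C_mul_monomial,
    ← map_add]
  push_cast
  rw [add_mul]

omit hrule
variable (hdd : ∀ q, d (q + 1) ∘ₗ d q = 0)
include hdd

theorem lie_comm (ν : Fin n) (a : ℕ) (x : ↥(⋀[(MvPolynomial (Fin n) R)]^a L)) :
    lie vb r d ν (a + 1) (d a x) = d a (lie vb r d ν a x) := by
  have h := fun q (y : ↥(⋀[(MvPolynomial (Fin n) R)]^q L)) => LinearMap.congr_fun (hdd q) y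
  simp only [LinearMap.comp_apply, LinearMap.zero_apply] at h
  cases a with
  | zero => simp [lie, h]
  | succ q => simp [lie, h]

theorem coboundaries_le (a : ℕ) : DeRham.coboundaries d a ≤ DeRham.cocycles d a := by
  cases a with
  | zero => exact bot_le
  | succ q =>
    rintro _ ⟨y, rfl⟩
    exact LinearMap.congr_fun (hdd q) y

theorem lie_mem_coboundaries (ν : Fin n) (a : ℕ) {ω : ↥(⋀[(MvPolynomial (Fin n) R)]^a L)} (h : ω ∈ DeRham.cocycles d a) :
    lie vb r d ν a ω ∈ DeRham.coboundaries d a := by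
  have h0 : d a ω = 0 := h
  cases a with
  | zero => exact show lie vb r d ν 0 ω ∈ (⊥ : Submodule R _) by simp [lie, h0]
  | succ q => exact ⟨hom' vb r ν q ω, by simp [lie, h0]⟩

theorem lie_pow_mem (ν : Fin n) (a : ℕ) (ω : ↥(⋀[(MvPolynomial (Fin n) R)]^a L)) (h : ω ∈ DeRham.cocycles d a) :
    ∀ i, 0 < i → ((lie vb r d ν a) ^ i) ω ∈ DeRham.coboundaries d a := by
  intro i
  induction i with
  | zero => omega
  | succ i ih =>
    intro _
    rw [pow_succ', Module.End.mul_apply]
    refine lie_mem_coboundaries vb r d hdd ν a ?_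
    rcases Nat.eq_zero_or_pos i with rfl | hi
    · simpa using h
    · exact coboundaries_le d hdd a (ih hi)

/-- The projection to the weights divisible by `p` in the variable `ν`. -/
noncomputable def proj (p : ℕ) (ν : Fin n) (a : ℕ) : ↥(⋀[(MvPolynomial (Fin n) R)]^a L) →ₗ[R] ↥(⋀[(MvPolynomial (Fin n) R)]^a L) :=
  LinearMap.id - (lie vb r d ν a) ^ (p - 1)

theorem proj_comm (p : ℕ) (ν : Fin n) (a : ℕ) (x : ↥(⋀[(MvPolynomial (Fin n) R)]^a L)) :
    proj vb r d p ν (a + 1) (d a x) = d a (proj vb r d p ν a x) := by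
  simp only [proj, LinearMap.sub_apply, LinearMap.id_apply, map_sub]
  congr 1
  induction p - 1 with
  | zero => simp
  | succ i ih => rw [pow_succ', Module.End.mul_apply, ih, lie_comm vb r d hdd, pow_succ', Module.End.mul_apply]

omit hdd

/-- The composite of the projections along a list of variables. -/
noncomputable def projList (p : ℕ) (a : ℕ) : List (Fin n) → (↥(⋀[(MvPolynomial (Fin n) R)]^a L) →ₗ[R] ↥(⋀[(MvPolynomial (Fin n) R)]^a L))
  | [] => LinearMap.id
  | ν :: l => proj vb r d p ν a ∘ₗ projList p a l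

include hdd

theorem projList_comm (p : ℕ) (a : ℕ) (x : ↥(⋀[(MvPolynomial (Fin n) R)]^a L)) : ∀ l : List (Fin n),
    projList vb r d p (a + 1) l (d a x) = d a (projList vb r d p a l x) := by
  intro l
  induction l with
  | nil => rfl
  | cons ν l ih => rw [projList, LinearMap.comp_apply, ih, proj_comm vb r d hdd]; rfl

theorem projList_sub_mem (p : ℕ) (hp : 1 < p) (a : ℕ) (ω : ↥(⋀[(MvPolynomial (Fin n) R)]^a L)) (h : ω ∈ DeRham.cocycles d a) :
    ∀ l : List (Fin n), ω - projList vb r d p a l ω ∈ DeRham.coboundaries d a := by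
  intro l
  induction l with
  | nil => simp [projList]
  | cons ν l ih =>
    have hc : projList vb r d p a l ω ∈ DeRham.cocycles d a := by
      have := sub_mem h (coboundaries_le d hdd a ih)
      rwa [sub_sub_cancel] at this
    have := lie_pow_mem vb r d hdd ν a _ hc (p - 1) (by omega)
    have key := add_mem ih this
    convert key using 1
    simp only [projList, LinearMap.comp_apply, proj, LinearMap.sub_apply, LinearMap.id_apply]
    abel

omit hdd

include hrule

variable (p : ℕ) [Fact p.Prime] [CharP R p]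

theorem proj_monomial (ν : Fin n) (a : ℕ) (m : Fin n →₀ ℕ) (c : R) (f : Fin a → Fin n) :
    proj vb r d p ν a (MvPolynomial.monomial m c • prodV vb f) =
      if p ∣ m ν + shift r ν f then MvPolynomial.monomial m c • prodV vb f else 0 := by
  have hpow : ∀ i : ℕ, ((lie vb r d ν a) ^ i) (MvPolynomial.monomial m c • prodV vb f) =
      (((m ν + shift r ν f : ℕ) : R) ^ i) • (MvPolynomial.monomial m c • prodV vb f) := by
    intro i
    induction i with
    | zero => rw [pow_zero, pow_zero, one_smul]; rfl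
    | succ i ih =>
      rw [pow_succ', Module.End.mul_apply, ih, map_smul, lie_monomial vb r d hrule, smul_smul, ← pow_succ]
  rw [proj, LinearMap.sub_apply, LinearMap.id_apply, hpow]
  have h2 : 2 ≤ p := (Fact.out : p.Prime).two_le
  split_ifs with hdiv
  · rw [(CharP.cast_eq_zero_iff R p _).2 hdiv, zero_pow (by omega), zero_smul, sub_zero]
  · have h1 : ((m ν + shift r ν f : ℕ) : R) ^ (p - 1) = 1 := by
      rw [← map_natCast (ZMod.castHom (dvd_refl p) R), ← map_pow, ZMod.pow_card_sub_one_eq_one, map_one]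
      rwa [Ne, CharP.cast_eq_zero_iff (ZMod p) p]
    rw [h1, one_smul, sub_self]

theorem projList_monomial (a : ℕ) (m : Fin n →₀ ℕ) (c : R) (f : Fin a → Fin n) : ∀ l : List (Fin n),
    projList vb r d p a l (MvPolynomial.monomial m c • prodV vb f) =
      if ∀ ν ∈ l, p ∣ m ν + shift r ν f then MvPolynomial.monomial m c • prodV vb f else 0 := by
  intro l
  induction l with
  | nil => simp [projList]
  | cons ν l ih =>
    rw [projList, LinearMap.comp_apply, ih]
    by_cases h : ∀ μ ∈ l, p ∣ m μ + shift r μ f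
    · rw [if_pos h, proj_monomial vb r d hrule p]
      simp only [List.forall_mem_cons]
      split_ifs <;> tauto
    · rw [if_neg h, map_zero, if_neg fun h' => h fun μ hμ => h' μ (List.mem_cons_of_mem _ hμ)]

theorem monomial_cocycle (a : ℕ) (m : Fin n →₀ ℕ) (c : R) (f : Fin a → Fin n)
    (hgood : ∀ ν, p ∣ m ν + shift r ν f) : d a (MvPolynomial.monomial m c • prodV vb f) = 0 := by
  rw [hrule]
  refine Finset.sum_eq_zero fun j _ => ?_
  by_cases hj : ∃ k, f k = j
  · obtain ⟨k, hk⟩ := hj
    rw [wedge_prodV_eq_zero vb j f k hk, smul_zero]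
  · have hdiv : p ∣ m j := by simpa [shift, hj] using hgood j
    have hz : (m j : R) = 0 := (CharP.cast_eq_zero_iff R p _).2 hdiv
    have : MvPolynomial.pderiv j (MvPolynomial.monomial m c) = 0 := by
      rw [MvPolynomial.pderiv_monomial, hz, mul_zero, map_zero]
    rw [δ']
    split_ifs <;> simp [this]

end

theorem wedge_cons {R : Type u} [CommRing R] {n q : ℕ} {L : Type u} [AddCommGroup L] [Module (MvPolynomial (Fin n) R) L]
    (v : L) (e : Fin q → L) :
    wedge (R := R) (n := n) v q (exteriorPower.ιMulti _ q e) = exteriorPower.ιMulti _ (q + 1) (Fin.cons v e) := by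
  refine Subtype.ext ?_
  rw [coe_wedge, exteriorPower.ιMulti_apply_coe, exteriorPower.ιMulti_apply_coe, ExteriorAlgebra.ιMulti_succ_apply]
  congr 1

theorem wedge_sum {R : Type u} [CommRing R] {n q : ℕ} {L : Type u} [AddCommGroup L] [Module (MvPolynomial (Fin n) R) L]
    (c : Fin n → MvPolynomial (Fin n) R) (v : Fin n → L) (y : ↥(⋀[MvPolynomial (Fin n) R]^q L)) :
    wedge (∑ j, c j • v j) q y = ∑ j, c j • wedge (v j) q y := by
  refine Subtype.ext ?_
  rw [coe_wedge, map_sum, Finset.sum_mul, Submodule.coe_sum]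
  refine Finset.sum_congr rfl fun j _ => ?_
  rw [map_smul, smul_mul_assoc]
  rfl

open exteriorPower in
/-- The case of affine n-space over an affine base of characteristic p with boundary divisor t_1⋯t_r =
0, all degrees. Let p be a prime, R a commutative ring with p = 0 in R, B = R[t_1, …, t_n] and r ≤
n. Let (L, ι, dl) be the module of differentials of B over R with logarithmic poles along t_1, …,
t_r, pinned by its defining properties (t_i · dl_i = ι(dt_i); ι(Ω_{B/R}) and the dl_i generate; no
(t_1⋯t_r)-torsion; the kernel of ι is the (t_1⋯t_r)-power torsion), and let d be the logarithmic de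
Rham differential on the exterior powers of L (the de Rham rule for ι ∘ d together with d(dl_i) = 0,
and d ∘ d = 0). Put w_ν = dl_ν for ν < r and w_ν = ι(t_ν^{p-1} dt_ν) for ν ≥ r (indices from 0), and
for an a-element set s of indices let e_s be the wedge of the w_ν, ν ∈ s, in increasing order. Then
an a-form with logarithmic poles is closed exactly when it is an exact form plus a combination Σ_s
g_s(t_1^p, …, t_n^p) · e_s with coefficients polynomials in the p-th powers of the variables, and
such a combination is exact only if every g_s vanishes: the a-th cohomology of the logarithmic de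
Rham complex of affine n-space is free over R[t_1^p, …, t_n^p] on the classes of the e_s. -/
theorem result (p : ℕ) [Fact p.Prime]
    (R : Type u) [CommRing R] [CharP R p] (n r a : ℕ) (hr : r ≤ n)
    (L : Type u) [AddCommGroup L] [Module (MvPolynomial (Fin n) R) L] [Module R L]
    [IsScalarTower R (MvPolynomial (Fin n) R) L]
    (ι : (Ω[MvPolynomial (Fin n) R⁄R]) →ₗ[MvPolynomial (Fin n) R] L) (dl : Fin r → L)
    (hL : LogDiff.IsLog (KaehlerDifferential.D R (MvPolynomial (Fin n) R))
      (fun i : Fin r => (MvPolynomial.X (Fin.castLE hr i) : MvPolynomial (Fin n) R)) ι dl)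
    (d : ∀ q : ℕ, ↥(⋀[MvPolynomial (Fin n) R]^q L) →ₗ[R] ↥(⋀[MvPolynomial (Fin n) R]^(q + 1) L))
    (hd : DeRham.IsDiff (ι.compDer (KaehlerDifferential.D R (MvPolynomial (Fin n) R))) d)
    (hlog : LogDiff.IsLogRule (KaehlerDifferential.D R (MvPolynomial (Fin n) R)) ι dl d)
    (w : Fin n → L) (hw : ∀ i : Fin r, w (Fin.castLE hr i) = dl i)
    (hw' : ∀ ν : Fin n, r ≤ (ν : ℕ) → w ν = ι (((MvPolynomial.X ν : MvPolynomial (Fin n) R) ^ (p - 1)) •
      KaehlerDifferential.D R (MvPolynomial (Fin n) R) (MvPolynomial.X ν)))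
    (e : Finset (Fin n) → ↥(⋀[MvPolynomial (Fin n) R]^a L))
    (he : ∀ (s : Finset (Fin n)) (hs : s.card = a),
      e s = exteriorPower.ιMulti (MvPolynomial (Fin n) R) a (fun j => w (s.orderEmbOfFin hs j))) :
    (∀ ω, ω ∈ DeRham.cocycles d a ↔
      ∃ (g : Finset (Fin n) → MvPolynomial (Fin n) R) (η : ↥(⋀[MvPolynomial (Fin n) R]^a L)),
        η ∈ DeRham.coboundaries d a ∧
          ω = η + ∑ s ∈ Finset.powersetCard a Finset.univ, MvPolynomial.expand p (g s) • e s) ∧
    (∀ g : Finset (Fin n) → MvPolynomial (Fin n) R,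
      (∑ s ∈ Finset.powersetCard a Finset.univ, MvPolynomial.expand p (g s) • e s) ∈ DeRham.coboundaries d a →
        ∀ s ∈ Finset.powersetCard a (Finset.univ : Finset (Fin n)), g s = 0) := by
  classical
  have hp : p.Prime := Fact.out
  set P : MvPolynomial (Fin n) R := ∏ i : Fin r, MvPolynomial.X (Fin.castLE hr i) with hP
  -- the log basis
  let v : Fin n → L := fun ν => if h : (ν : ℕ) < r then dl ⟨ν, h⟩
    else ι (KaehlerDifferential.D R (MvPolynomial (Fin n) R) (MvPolynomial.X ν))
  have hv1 : ∀ i : Fin r, v (Fin.castLE hr i) = dl i := fun i => by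
    simp only [v, Fin.val_castLE, i.2, dite_true]
  have hv2 : ∀ ν : Fin n, r ≤ (ν : ℕ) → v ν = ι (KaehlerDifferential.D R (MvPolynomial (Fin n) R) (MvPolynomial.X ν)) :=
    fun ν h => by simp only [v, not_lt.2 h, dite_false]
  have hvX : ∀ ν : Fin n, ι (KaehlerDifferential.D R (MvPolynomial (Fin n) R) (MvPolynomial.X ν)) =
      (if (ν : ℕ) < r then MvPolynomial.X ν else (1 : MvPolynomial (Fin n) R)) • v ν := fun ν => by
    split_ifs with h
    · exact ((hv1 ⟨ν, h⟩).symm ▸ hL.1 ⟨ν, h⟩).symm
    · rw [one_smul, hv2 ν (not_lt.1 h)]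
  have hD : ∀ b, ι (KaehlerDifferential.D R (MvPolynomial (Fin n) R) b) = ∑ j, δ' r j b • v j := fun b => by
    conv_lhs => rw [← (KaehlerDifferential.mvPolynomialBasis R (Fin n)).sum_repr (KaehlerDifferential.D R _ b)]
    rw [map_sum]
    refine Finset.sum_congr rfl fun j _ => ?_
    rw [KaehlerDifferential.mvPolynomialBasis_repr_apply, KaehlerDifferential.mvPolynomialBasis_apply, map_smul, hvX,
      smul_smul, δ']
    split_ifs <;> simp [mul_comm]
  have hPreg : IsRegular P := by
    rw [hP]
    exact IsRegular.prod fun i _ => MvPolynomial.isRegular_X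
  have hvc : ∀ ν : Fin n, ∃ (c c' : MvPolynomial (Fin n) R),
      P • v ν = ι (c • KaehlerDifferential.D R (MvPolynomial (Fin n) R) (MvPolynomial.X ν)) ∧ c * c' = P := by
    intro ν
    by_cases h : (ν : ℕ) < r
    · refine ⟨∏ i ∈ Finset.univ.erase (⟨ν, h⟩ : Fin r), MvPolynomial.X (Fin.castLE hr i), MvPolynomial.X ν, ?_, ?_⟩
      · rw [map_smul, hvX, if_pos h, smul_smul]
        congr 1
        rw [hP, ← Finset.mul_prod_erase _ _ (Finset.mem_univ (⟨ν, h⟩ : Fin r)), mul_comm]
        rfl
      · rw [hP, ← Finset.mul_prod_erase _ _ (Finset.mem_univ (⟨ν, h⟩ : Fin r)), mul_comm]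
        rfl
    · exact ⟨P, 1, by rw [map_smul, hv2 ν (not_lt.1 h)], mul_one P⟩
  have hli : LinearIndependent (MvPolynomial (Fin n) R) v := by
    rw [Fintype.linearIndependent_iff]
    intro g hg ν
    choose c c' hc hcc using hvc
    have h0 : ι (∑ j, (g j * c j) • KaehlerDifferential.D R (MvPolynomial (Fin n) R) (MvPolynomial.X j)) = 0 := by
      calc _ = ∑ j, g j • P • v j := by
            rw [map_sum]; exact Finset.sum_congr rfl fun j _ => by rw [mul_smul, map_smul, hc]
        _ = P • ∑ j, g j • v j := by rw [Finset.smul_sum]; exact Finset.sum_congr rfl fun j _ => smul_comm _ _ _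
        _ = 0 := by rw [hg, smul_zero]
    obtain ⟨k, hk⟩ := (hL.2.2.2 _).1 h0
    rw [← hP, Finset.smul_sum] at hk
    have h1 : P ^ k * (g ν * c ν) = 0 := by
      have := congrArg (fun x => (KaehlerDifferential.mvPolynomialBasis R (Fin n)).repr x ν) hk
      simp only [← KaehlerDifferential.mvPolynomialBasis_apply, smul_smul, map_zero, Finsupp.zero_apply] at this
      rwa [Module.Basis.repr_sum_self] at this
    have h2 : P ^ (k + 1) * g ν = 0 := by
      calc P ^ (k + 1) * g ν = P ^ k * (g ν * c ν) * c' ν := by rw [pow_succ, ← hcc ν]; ring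
        _ = 0 := by rw [h1, zero_mul]
    exact (hPreg.pow (k + 1)).left.eq_iff.1 (h2.trans (mul_zero _).symm)
  have hspan : ⊤ ≤ Submodule.span (MvPolynomial (Fin n) R) (Set.range v) := by
    rw [← hL.2.1, Submodule.span_le, Set.union_subset_iff]
    refine ⟨?_, ?_⟩
    · rintro _ ⟨ω, rfl⟩
      rw [SetLike.mem_coe, ← (KaehlerDifferential.mvPolynomialBasis R (Fin n)).sum_repr ω, map_sum]
      refine sum_mem fun j _ => ?_
      rw [KaehlerDifferential.mvPolynomialBasis_apply, map_smul, hvX, smul_smul]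
      exact Submodule.smul_mem _ _ (Submodule.subset_span ⟨j, rfl⟩)
    · rintro _ ⟨i, rfl⟩
      exact Submodule.subset_span ⟨Fin.castLE hr i, hv1 i⟩
  let vb : Module.Basis (Fin n) (MvPolynomial (Fin n) R) L := Module.Basis.mk hli hspan
  have hvb : (vb : Fin n → L) = v := Module.Basis.coe_mk hli hspan
  have hrule : ∀ (q : ℕ) (b : MvPolynomial (Fin n) R) (f : Fin q → Fin n),
      d q (b • prodV vb f) = ∑ j, δ' r j b • wedge (vb j) q (prodV vb f) := by
    intro q b f
    have h := hlog q b (vb ∘ f) fun k => by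
      show (∃ b', vb (f k) = _) ∨ ∃ i, vb (f k) = _
      rw [hvb]
      by_cases hk : (f k : ℕ) < r
      · exact Or.inr ⟨⟨f k, hk⟩, hv1 ⟨f k, hk⟩⟩
      · exact Or.inl ⟨MvPolynomial.X (f k), hv2 _ (not_lt.1 hk)⟩
    show d q (b • exteriorPower.ιMulti _ q (vb ∘ f)) = _
    rw [h, ← wedge_cons, hD, wedge_sum]
    simp only [hvb, prodV]
  have hdd := hd.2
  -- the exponent of the chosen representatives
  let M : (Fin a → Fin n) → (Fin n →₀ ℕ) := fun f =>
    ∑ k, Finsupp.single (f k) (if r ≤ (f k : ℕ) then p - 1 else 0)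
  have hM : ∀ f : Fin a → Fin n, Function.Injective f → ∀ ν, M f ν = shift r ν f * (p - 1) := by
    intro f hf ν
    simp only [M, Finsupp.finsetSum_apply, shift]
    by_cases hν : ∃ k, f k = ν
    · obtain ⟨k, rfl⟩ := hν
      rw [Finset.sum_eq_single k (fun j _ hj => Finsupp.single_eq_of_ne fun e => hj (hf e).symm) (by simp),
        Finsupp.single_eq_same]
      by_cases h : r ≤ (f k : ℕ)
      · rw [if_pos h, if_pos ⟨⟨k, rfl⟩, h⟩, one_mul]
      · rw [if_neg h, if_neg fun h' => h h'.2, zero_mul]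
    · rw [if_neg fun h => hν h.1, zero_mul]
      exact Finset.sum_eq_zero fun j _ => Finsupp.single_eq_of_ne fun e => hν ⟨j, e.symm⟩
  have hwv : ∀ ν, w ν = MvPolynomial.monomial (Finsupp.single ν (if r ≤ (ν : ℕ) then p - 1 else 0)) (1 : R) • vb ν := by
    intro ν
    rw [hvb]
    split_ifs with h
    · rw [hw' ν h, map_smul, hv2 ν h, MvPolynomial.X_pow_eq_monomial]
    · rw [Finsupp.single_zero, ← MvPolynomial.C_apply, map_one, one_smul]
      exact (hw ⟨ν, not_le.1 h⟩).trans (hv1 ⟨ν, not_le.1 h⟩).symm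
  have hfS : ∀ S : Set.powersetCard (Fin n) a, ∀ k, Set.powersetCard.ofFinEmbEquiv.symm S k =
      (S.1 : Finset (Fin n)).orderEmbOfFin S.2 k := fun S k => rfl
  have heS : ∀ S : Set.powersetCard (Fin n) a, e S.1 =
      MvPolynomial.monomial (M (Set.powersetCard.ofFinEmbEquiv.symm S)) (1 : R) •
        prodV vb (Set.powersetCard.ofFinEmbEquiv.symm S) := by
    intro S
    rw [he S.1 S.2]
    have : (fun j => w ((S.1 : Finset (Fin n)).orderEmbOfFin S.2 j)) = fun j =>
        MvPolynomial.monomial (Finsupp.single (Set.powersetCard.ofFinEmbEquiv.symm S j)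
          (if r ≤ (Set.powersetCard.ofFinEmbEquiv.symm S j : ℕ) then p - 1 else 0)) (1 : R) •
          (vb ∘ Set.powersetCard.ofFinEmbEquiv.symm S) j :=
      funext fun j => hwv _
    rw [this, AlternatingMap.map_smul_univ, MvPolynomial.monomial_sum_one]
    rfl
  have hsum : ∀ g : Finset (Fin n) → MvPolynomial (Fin n) R,
      ∑ s ∈ Finset.powersetCard a Finset.univ, MvPolynomial.expand p (g s) • e s =
      ∑ S : Set.powersetCard (Fin n) a, (MvPolynomial.expand p (g S.1) *
        MvPolynomial.monomial (M (Set.powersetCard.ofFinEmbEquiv.symm S)) (1 : R)) •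
          prodV vb (Set.powersetCard.ofFinEmbEquiv.symm S) := by
    intro g
    rw [Finset.sum_subtype (Finset.powersetCard a Finset.univ) (p := fun s => s ∈ Set.powersetCard (Fin n) a)
      (fun x => by simp [Set.powersetCard.mem_iff]) (fun s => MvPolynomial.expand p (g s) • e s)]
    exact Finset.sum_congr rfl fun S _ => by rw [heS, smul_smul]
  have hinjS : ∀ S : Set.powersetCard (Fin n) a, Function.Injective (Set.powersetCard.ofFinEmbEquiv.symm S) :=
    fun S => (Set.powersetCard.ofFinEmbEquiv.symm S).injective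
  let Φ := projList vb r d p a (List.finRange n)
  have hgood : ∀ (S : Set.powersetCard (Fin n) a) (k : Fin n →₀ ℕ),
      ∀ ν, p ∣ (p • k + M (Set.powersetCard.ofFinEmbEquiv.symm S) : Fin n →₀ ℕ) ν +
        shift r ν (Set.powersetCard.ofFinEmbEquiv.symm S) := by
    intro S k ν
    rw [Finsupp.add_apply, Finsupp.smul_apply, hM _ (hinjS S), smul_eq_mul, add_assoc]
    refine dvd_add (dvd_mul_right p _) ?_
    rw [← Nat.mul_succ, Nat.succ_eq_add_one, Nat.sub_add_cancel hp.one_le]
    exact dvd_mul_left p _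
  have hfix : ∀ (S : Set.powersetCard (Fin n) a) (g : MvPolynomial (Fin n) R),
      let x := (MvPolynomial.expand p g * MvPolynomial.monomial (M (Set.powersetCard.ofFinEmbEquiv.symm S)) (1 : R)) •
        prodV vb (Set.powersetCard.ofFinEmbEquiv.symm S)
      Φ x = x ∧ d a x = 0 := by
    intro S g
    induction g using MvPolynomial.induction_on' with
    | monomial k c =>
      simp only [MvPolynomial.expand_monomial, MvPolynomial.monomial_mul, mul_one]
      exact ⟨(projList_monomial vb r d hrule p a _ c _ _).trans (if_pos fun ν _ => hgood S k ν),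
        monomial_cocycle vb r d hrule p a _ c _ (hgood S k)⟩
    | add g g' hg hg' =>
      simp only [map_add, add_mul, add_smul] at hg hg' ⊢
      exact ⟨by rw [hg.1, hg'.1], by rw [hg.2, hg'.2, add_zero]⟩
  have hZ : ∀ g : Finset (Fin n) → MvPolynomial (Fin n) R,
      Φ (∑ s ∈ Finset.powersetCard a Finset.univ, MvPolynomial.expand p (g s) • e s) =
        ∑ s ∈ Finset.powersetCard a Finset.univ, MvPolynomial.expand p (g s) • e s ∧
      d a (∑ s ∈ Finset.powersetCard a Finset.univ, MvPolynomial.expand p (g s) • e s) = 0 := by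
    intro g
    rw [hsum, map_sum, map_sum]
    exact ⟨Finset.sum_congr rfl fun S _ => (hfix S _).1, Finset.sum_eq_zero fun S _ => (hfix S _).2⟩
  have hproj : ∀ ω, ∃ g : Finset (Fin n) → MvPolynomial (Fin n) R,
      Φ ω = ∑ s ∈ Finset.powersetCard a Finset.univ, MvPolynomial.expand p (g s) • e s := by
    intro ω
    let bb := (MvPolynomial.basisMonomials (Fin n) R).smulTower (vb.exteriorPower a)
    induction (bb.mem_span ω) using Submodule.span_induction with
    | mem x hx =>
      obtain ⟨⟨m, S⟩, rfl⟩ := hx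
      have hbb : bb (m, S) = MvPolynomial.monomial m (1 : R) • prodV vb (Set.powersetCard.ofFinEmbEquiv.symm S) := by
        simp only [bb, Module.Basis.smulTower_apply, exteriorPower.basis_apply, MvPolynomial.coe_basisMonomials]
        rfl
      rw [hbb]
      by_cases hm : ∀ ν, p ∣ m ν + shift r ν (Set.powersetCard.ofFinEmbEquiv.symm S)
      · let k : Fin n →₀ ℕ := Finsupp.equivFunOnFinite.symm fun ν =>
          (m ν - M (Set.powersetCard.ofFinEmbEquiv.symm S) ν) / p
        have hk : p • k + M (Set.powersetCard.ofFinEmbEquiv.symm S) = m := by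
          ext ν
          obtain ⟨t, ht⟩ := hm ν
          simp only [k, Finsupp.add_apply, Finsupp.smul_apply, smul_eq_mul, Finsupp.equivFunOnFinite_symm_apply_apply]
          rw [hM _ (hinjS S)]
          rw [shift] at ht ⊢
          split_ifs at ht ⊢
          · obtain ⟨t', rfl⟩ : ∃ t', t = t' + 1 := ⟨t - 1, by rcases t with _ | t <;> simp at ht ⊢⟩
            rw [mul_add, mul_one] at ht
            have hsub : m ν - 1 * (p - 1) = p * t' := by have := hp.one_le; omega
            rw [hsub, Nat.mul_div_cancel_left _ hp.pos]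
            have := hp.one_le
            omega
          · rw [zero_mul, Nat.sub_zero, add_zero]
            exact Nat.mul_div_cancel' ⟨t, by simpa using ht⟩
        refine ⟨fun s => if s = S.1 then MvPolynomial.monomial k 1 else 0, ?_⟩
        rw [hsum, Finset.sum_eq_single S, if_pos rfl, MvPolynomial.expand_monomial, MvPolynomial.monomial_mul, mul_one,
          hk]
        · exact (projList_monomial vb r d hrule p a _ _ _ _).trans (if_pos fun ν _ => hm ν)
        · intro T _ hT
          rw [if_neg fun e => hT (Subtype.ext e), map_zero, zero_mul, zero_smul]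
        · simp
      · refine ⟨0, ?_⟩
        rw [projList_monomial vb r d hrule p, if_neg fun h => hm fun ν => h ν (List.mem_finRange ν)]
        simp
    | zero => exact ⟨0, by simp⟩
    | add x y _ _ hx hy =>
      obtain ⟨g, hg⟩ := hx
      obtain ⟨g', hg'⟩ := hy
      exact ⟨g + g', by simp only [map_add, hg, hg', Pi.add_apply, add_smul, Finset.sum_add_distrib]⟩
    | smul c x _ hx =>
      obtain ⟨g, hg⟩ := hx
      refine ⟨fun s => MvPolynomial.C c * g s, ?_⟩
      rw [map_smul, hg, Finset.smul_sum]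
      refine Finset.sum_congr rfl fun s _ => ?_
      rw [map_mul, MvPolynomial.expand_C, mul_smul, ← MvPolynomial.algebraMap_eq, algebraMap_smul]
  refine ⟨fun ω => ⟨fun h => ?_, ?_⟩, fun g hg => ?_⟩
  · obtain ⟨g, hg⟩ := hproj ω
    exact ⟨g, ω - Φ ω, projList_sub_mem vb r d hdd p hp.one_lt a ω h _, by rw [← hg, sub_add_cancel]⟩
  · rintro ⟨g, η, hη, rfl⟩
    exact add_mem (coboundaries_le d hdd a hη) (hZ g).2
  · have hzero : ∑ s ∈ Finset.powersetCard a Finset.univ, MvPolynomial.expand p (g s) • e s = 0 := by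
      cases a with
      | zero => exact hg
      | succ q =>
        obtain ⟨η, hη⟩ := hg
        rw [← (hZ g).1, ← hη]
        show projList vb r d p (q + 1) (List.finRange n) (d q η) = 0
        rw [projList_comm vb r d hdd]
        -- the projection of `η` is closed
        have : ∀ x, d q (projList vb r d p q (List.finRange n) x) = 0 := by
          intro x
          let bb := (MvPolynomial.basisMonomials (Fin n) R).smulTower (vb.exteriorPower q)
          induction (bb.mem_span x) using Submodule.span_induction with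
          | mem x hx =>
            obtain ⟨⟨m, S⟩, rfl⟩ := hx
            simp only [bb, Module.Basis.smulTower_apply, exteriorPower.basis_apply, MvPolynomial.coe_basisMonomials]
            show d q (projList vb r d p q _ (MvPolynomial.monomial m (1 : R) • prodV vb _)) = 0
            rw [projList_monomial vb r d hrule p]
            split_ifs with h
            · exact monomial_cocycle vb r d hrule p q _ _ _ fun ν => h ν (List.mem_finRange ν)
            · exact map_zero _
          | zero => simp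
          | add x y _ _ hx hy => simp [hx, hy]
          | smul c x _ hx => simp [hx]
        exact this η
    intro s hs
    rw [hsum] at hzero
    have hS : s ∈ Set.powersetCard (Fin n) a := by simpa [Set.powersetCard.mem_iff] using hs
    have hli2 := (vb.exteriorPower a).linearIndependent
    rw [exteriorPower.coe_basis] at hli2
    have h0 := Fintype.linearIndependent_iff.1 hli2 _ hzero ⟨s, hS⟩
    refine (MvPolynomial.expand_eq_zero hp.pos).1 (MvPolynomial.ext _ _ fun m => ?_)
    have h1 := congrArg (MvPolynomial.coeff (m + M (Set.powersetCard.ofFinEmbEquiv.symm ⟨s, hS⟩))) h0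
    rw [MvPolynomial.coeff_mul_monomial, mul_one, MvPolynomial.coeff_zero] at h1
    rw [MvPolynomial.coeff_zero]
    exact h1

end Groth.Agent.S16744
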