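import Groth.Statements.S16752
import Groth.Agent.GenBCLib.StalkH0
import Groth.Agent.GenBCLib.Betti
import Groth.Agent.EulerIneqLib.Basic
import Groth.Agent.S0404

set_option autoImplicit false
set_option backward.isDefEq.respectTransparency false
set_option backward.isDefEq.respectTransparency.types false
universe u
open CurvSt

namespace Groth.Agent.S16752

open CategoryTheory CategoryTheory.Limits AlgebraicGeometry in
/-- Let f : X → S be a flat, proper morphism of schemes, locally of finite presentation, all of whose
fibres have dimension at most one (a family of curves whose total space is a scheme). Then the set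
of points s of S such that the fibre X_s has dimension one and dim_{κ(s)} H^0(X_s, O_{X_s}) = 1 (the
conditions under which the genus of X_s is defined) is open in S. The source allows the total space
to be an algebraic space and phrases the result as the existence of an open substack of the stack of
curves with this membership condition. -/
theorem result (X S : Scheme.{u}) (f : X ⟶ S)
    [Flat f] [IsProper f] [LocallyOfFinitePresentation f]
    (hdim : ∀ s : S, topologicalKrullDim ↥(f.fiber s) ≤ 1) :
    IsOpen {s : S | topologicalKrullDim ↥(f.fiber s) = 1 ∧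
      Models.hRank ↥(S.residueField s) (f.fiber s) (f.fiberToSpecResidueField s)
        (Coh.structureModule (f.fiber s)) 0 = 1} := by
  haveI : Coh.IsQCoh (Coh.structureModule X) := (Groth.Agent.DevLib.isCoh_structureModule X).1
  have h1 : IsOpen {s : S | (0 : WithBot ℕ∞) < topologicalKrullDim ↥(f.fiber s)} := Groth.Agent.S0404.result f 0
  have h2 : IsOpen {s : S | CohIII.fiberRank f (Coh.structureModule X) 0 s < 2} :=
    Groth.Agent.GenBCLib.isOpen_fiberRank_lt (Groth.Agent.FlatStage.isFP_structureModule X)
      (Groth.Agent.BCLib.isFlatOver_structureModule f) 0 2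
  convert h1.inter h2 using 1
  ext s
  simp only [Set.mem_setOf_eq, Set.mem_inter_iff, ← Groth.Agent.GenBCLib.fiberRank_eq_hRank f s 0]
  have key : ∀ d : WithBot ℕ∞, d ≤ 1 → 0 < d → d = 1 := by
    intro d hd1 hd0
    obtain ⟨n, rfl⟩ := WithBot.ne_bot_iff_exists.1 hd0.ne_bot
    have h3 : n ≤ 1 := by exact_mod_cast hd1
    have h4 : 0 < n := by exact_mod_cast hd0
    exact_mod_cast le_antisymm h3 (Order.one_le_iff_pos.2 h4)
  refine ⟨fun ⟨hd, hr⟩ => ⟨by rw [hd]; exact zero_lt_one, by rw [hr]; omega⟩,
    fun ⟨hd, hr⟩ => ⟨key _ (hdim s) hd, le_antisymm (by omega) ?_⟩⟩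
  letI : (f.fiber s).Over (Spec (CommRingCat.of (S.residueField s))) := ⟨f.fiberToSpecResidueField s⟩
  haveI : IsProper ((f.fiber s) ↘ Spec (CommRingCat.of (S.residueField s))) :=
    inferInstanceAs (IsProper (pullback.snd f (S.fromSpecResidueField s)))
  haveI : IsNoetherian (f.fiber s) := Groth.Agent.EulerIneqLib.isNoetherian_proper (↥(S.residueField s))
  haveI : Module.Finite (↥(S.residueField s)) (Coh.HH (f.fiber s) (Coh.structureModule (f.fiber s)) 0) :=
    Groth.Agent.EulerIneqLib.finite_HH (Groth.Agent.DevLib.isCoh_structureModule _) 0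
  haveI : Nonempty ↥(f.fiber s) := by
    by_contra hne
    haveI := not_nonempty_iff.1 hne
    rw [topologicalKrullDim, Order.krullDim_eq_bot_iff.2 ⟨fun Z => (IsEmpty.false Z.2.1.choose)⟩] at hd
    exact absurd hd not_lt_bot
  haveI : Nonempty ↥(⊤ : (f.fiber s).Opens) := ⟨⟨Classical.arbitrary _, trivial⟩⟩
  haveI : Nontrivial Γ(f.fiber s, ⊤) := inferInstance
  haveI : Nontrivial (Coh.HH (f.fiber s) (Coh.structureModule (f.fiber s)) 0) :=
    (Groth.Agent.BCLib.gammaH0 (A := ↥(S.residueField s)) (Coh.structureModule (f.fiber s))).symm.toEquiv.nontrivial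
      (β := Γ(f.fiber s, ⊤))
  rw [Groth.Agent.GenBCLib.fiberRank_eq_hRank f s 0]
  exact Module.finrank_pos (R := ↥(S.residueField s))
    (M := Coh.HH (f.fiber s) (Coh.structureModule (f.fiber s)) 0)

end Groth.Agent.S16752
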