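import Groth.Statements.S16754
import Groth.Agent.SteinConn.General
import Groth.Agent.SmoothWeil.Dom
import Groth.Agent.CurveFF.BC
import Groth.Agent.CurveLib.GlobalFun

set_option autoImplicit false
universe u
open CurvSt

namespace Groth.Agent.S16754

open CategoryTheory CategoryTheory.Limits AlgebraicGeometry

set_option backward.isDefEq.respectTransparency false
set_option linter.style.haveILetI false
set_option maxHeartbeats 1000000


open CategoryTheory CategoryTheory.Limits AlgebraicGeometry in
/-- Let k be a field and X a scheme which is proper and smooth over k and of dimension one. Then the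
following are equivalent: dim_k H^0(X, O_X) = 1 (the ground field is the ring of global functions);
X is geometrically connected over k; X is geometrically integral over k. (The remaining conditions
of the source concern membership in an open substack of the stack of curves and are not stated.) -/
theorem result (k : Type u) [Field k]
    (X : Scheme.{u}) [X.Over (Spec (CommRingCat.of k))] [IsProper (X ↘ Spec (CommRingCat.of k))]
    [Smooth (X ↘ Spec (CommRingCat.of k))] (hdim : topologicalKrullDim ↥X = 1) :
    (Module.finrank k (Coh.HH X (Coh.structureModule X) 0) = 1 ↔ GeometricallyConnected (X ↘ Spec (CommRingCat.of k))) ∧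
      (GeometricallyConnected (X ↘ Spec (CommRingCat.of k)) ↔ GeometricallyIntegral (X ↘ Spec (CommRingCat.of k))) := by
  haveI := Groth.Agent.EulerIneqLib.isNoetherian_proper (X := X) k
  have hint : GeometricallyConnected (X ↘ Spec (CommRingCat.of k)) → GeometricallyIntegral (X ↘ Spec (CommRingCat.of k)) := by
    intro hc
    refine ⟨fun K _ y Z a b H => ?_⟩
    haveI : ConnectedSpace Z := GeometricallyConnected.geometrically_connectedSpace _ _ _ H
    haveI : Smooth b := MorphismProperty.of_isPullback (P := @Smooth) H inferInstance
    exact Groth.Agent.SmoothWeil.isIntegral_of_smooth_connected b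
  have hcon : GeometricallyIntegral (X ↘ Spec (CommRingCat.of k)) → GeometricallyConnected (X ↘ Spec (CommRingCat.of k)) := by
    intro hi
    refine ⟨fun K _ y Z a b H => ?_⟩
    haveI : IsIntegral Z := GeometricallyIntegral.geometrically_isIntegral _ _ _ H
    infer_instance
  refine ⟨⟨fun h0 => ?_, fun hc => ?_⟩, ⟨hint, hcon⟩⟩
  · refine Groth.Agent.SteinConn.geometricallyConnected_of_bijApp _ fun V => ?_
    haveI : Nontrivial (Coh.HH X (Coh.structureModule X) 0) := Module.nontrivial_of_finrank_eq_succ h0
    have hΓ : Nontrivial Γ(X, ⊤) := (Groth.Agent.CurveLib.secOf (Coh.structureModule X)).symm.toEquiv.nontrivial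
    have htop : Function.Bijective (ProjUP.toGlobal (X ↘ Spec (CommRingCat.of k))) := by
      refine ⟨(ProjUP.toGlobal (X ↘ Spec (CommRingCat.of k))).injective, fun s => ?_⟩
      let e := Groth.Agent.CurveLib.secOf (Coh.structureModule X)
      have hne : e.symm (1 : Γ(X, ⊤)) ≠ 0 := fun h =>
        one_ne_zero (α := Γ(X, ⊤)) (e.symm.injective (h.trans (map_zero _).symm))
      obtain ⟨c, hc⟩ := exists_smul_eq_of_finrank_eq_one h0 hne (e.symm s)
      refine ⟨c, ?_⟩
      have h2 := (Groth.Agent.CurveLib.secOf_smul (k := k) (Coh.structureModule X) c (e.symm (1 : Γ(X, ⊤)))).symm.trans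
        (congrArg e hc)
      rw [AddEquiv.apply_symm_apply, AddEquiv.apply_symm_apply] at h2
      exact (mul_one (ProjUP.toGlobal (X ↘ Spec (CommRingCat.of k)) c)).symm.trans h2
    rcases eq_or_ne V ⊥ with rfl | hV
    · have : (X ↘ Spec (CommRingCat.of k)) ⁻¹ᵁ (⊥ : (Spec (CommRingCat.of k)).Opens) = ⊥ := Scheme.Hom.preimage_bot _
      haveI : Subsingleton Γ(X, (X ↘ Spec (CommRingCat.of k)) ⁻¹ᵁ (⊥ : (Spec (CommRingCat.of k)).Opens)) := by
        rw [this]; infer_instance
      exact ⟨fun a b _ => Subsingleton.elim (α := Γ(Spec (CommRingCat.of k), ⊥)) a b, fun b => ⟨0, Subsingleton.elim _ _⟩⟩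
    · have : V = ⊤ := by
        obtain ⟨z, hz⟩ : (V : Set ↥(Spec (CommRingCat.of k))).Nonempty :=
          Set.nonempty_iff_ne_empty.2 fun h => hV (SetLike.coe_injective h)
        exact eq_top_iff.2 fun y _ => Subsingleton.elim z y ▸ hz
      subst this
      have hb := (ConcreteCategory.bijective_of_isIso (Scheme.ΓSpecIso (CommRingCat.of k)).inv)
      exact (Function.Bijective.of_comp_iff _ hb).1 htop
  · haveI := hint hc
    haveI : IsIntegral X := GeometricallyIntegral.isIntegral_of_subsingleton (f := X ↘ Spec (CommRingCat.of k))
    let K := AlgebraicClosure k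
    haveI : IsIntegral (Curv2.bc k X K) := GeometricallyIntegral.geometrically_isIntegral _ _ _ (IsPullback.of_hasPullback _ _)
    haveI : Coh.IsQCoh (Coh.structureModule X) := Groth.Agent.CohBase.isQCoh_structureModule
    rw [← Groth.Agent.ShBCLib.finrank_HH_bc k K (Coh.structureModule X) 0]
    exact (Groth.Agent.ShBCLib.finrank_HH_iso (Groth.Agent.DCohLib.pullStructureIso (Curv2.bcFst k X K)) 0).trans
      Groth.Agent.CurveLib.finrank_H0_structure

end Groth.Agent.S16754
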