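import Groth.Statements.S16758
import Groth.Agent.PicTrivLib.UnivApp
-- import your own Groth.Agent.* helpers here

set_option autoImplicit false
universe u
open PicF

namespace Groth.Agent.S16758

open AlgebraicGeometry CategoryTheory CategoryTheory.Limits in
/-- (2) ⇔ (3): let f : X → Y be proper and flat with Y locally Noetherian. Then dim_{κ(y)} H⁰(X_y,
O_{X_y}) = 1 for every point y of Y if and only if for every morphism T → Y the base change f_T : X
×_Y T → T induces isomorphisms O_T(U) → O_{X ×_Y T}(f_T⁻¹ U) on all opens U of T, i.e. O_T = (f_T)_*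
O universally. (The published statement takes X and Y Noetherian; the argument is local on Y, so Y
is only assumed locally Noetherian here.) -/
theorem result {X Y : Scheme.{u}} (f : X ⟶ Y)
    [IsProper f] [Flat f] [IsLocallyNoetherian Y] :
    (∀ y : Y, Module.finrank (Y.residueField y) Γ(f.fiber y, ⊤) = 1) ↔
      ∀ (T : Scheme.{u}) (g : T ⟶ Y) (U : T.Opens), IsIso ((pullback.snd f g).app U) := by
  refine ⟨fun h0 T g U => PicTrivLib.isIso_app_univ f (fun y => PicTrivLib.bijective_of_finrank_eq_one (h0 y)) T g U, fun h y => ?_⟩
  haveI := h _ (Y.fromSpecResidueField y) ⊤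
  have hb : Function.Bijective (algebraMap (Y.residueField y) Γ(f.fiber y, ⊤)) :=
    (ConcreteCategory.bijective_of_isIso ((pullback.snd f (Y.fromSpecResidueField y)).app ⊤)).comp
      (ConcreteCategory.bijective_of_isIso (Scheme.ΓSpecIso (Y.residueField y)).inv)
  have e := ((AlgEquiv.ofBijective (Algebra.ofId (Y.residueField y) Γ(f.fiber y, ⊤)) hb).toLinearEquiv).finrank_eq
  rw [← e, Module.finrank_self]

end Groth.Agent.S16758
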