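import Groth.Statements.S16760
import Groth.Agent.PicTrivLib.Fiber
-- import your own Groth.Agent.* helpers here

set_option autoImplicit false
universe u
open PicF

namespace Groth.Agent.S16760

open AlgebraicGeometry CategoryTheory CategoryTheory.Limits in
/-- Let f : X → Y be proper and flat with Y locally Noetherian, with geometrically integral fibres (X
×_Y Spec K is an integral scheme for every field K and every Spec K → Y), and let L be an invertible
O_X-module. Then the set of points y of Y with L|_{X_y} ≅ O_{X_y} is closed. (The published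
statement takes X and Y Noetherian; only local Noetherianity of Y is used.) -/
theorem result {X Y : Scheme.{u}} (f : X ⟶ Y)
    [IsProper f] [Flat f] [IsLocallyNoetherian Y]
    (hgeo : ∀ (K : Type u) [Field K] (x : Spec (CommRingCat.of K) ⟶ Y), IsIntegral (pullback f x))
    (L : X.Modules) (hL : PicF.IsInvertible L) :
    IsClosed {y : Y | Nonempty (CohIII.fiberMod f L y ≅ Coh.structureModule (f.fiber y))} := by
  haveI : GeometricallyIntegral f := ⟨fun K _ z W fst snd h =>
    haveI := hgeo K z
    haveI : Nonempty ↥W := ⟨h.isoPullback.inv (Classical.arbitrary _)⟩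
    isIntegral_of_isOpenImmersion h.isoPullback.hom⟩
  haveI : GeometricallyConnected f := ⟨fun K _ z W fst snd h => by
    haveI : IsIntegral W := GeometricallyIntegral.geometrically_isIntegral (f := f) z fst snd h
    infer_instance⟩
  obtain ⟨N, hN, ⟨e⟩⟩ := AmpleEmb.exists_isInverseOf hL
  have key : {y : Y | Nonempty (CohIII.fiberMod f L y ≅ Coh.structureModule (f.fiber y))} =
      {y : Y | 0 < CohIII.fiberRank f L 0 y} ∩ {y : Y | 0 < CohIII.fiberRank f N 0 y} := by
    ext y
    refine ⟨fun hy => ?_, fun hy => CubeLib.triv_iff.1 (CubeLib.triv_fiber_of_fiberRank_pos f hL hN e y hy.1 hy.2)⟩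
    obtain ⟨i⟩ := hy
    have hNy : CubeLib.Triv ((Scheme.Modules.pullback (f.fiberι y)).obj N) := CubeLib.triv_iff.2
      ⟨(AmpleLib.unitL _).symm ≪≫ AmpleLib.tIso i.symm (Iso.refl _) ≪≫ (AmpleLib.pullTensor (f.fiberι y) L N).symm ≪≫
        (Scheme.Modules.pullback (f.fiberι y)).mapIso e ≪≫ AmpleLib.pullO _⟩
    exact ⟨Nat.one_pos.trans_eq (CubeLib.fiberRank_eq_one_of_triv f y (PicTrivLib.bijective_fiber f y) (CubeLib.triv_iff.2 ⟨i⟩)).symm,
      Nat.one_pos.trans_eq (CubeLib.fiberRank_eq_one_of_triv f y (PicTrivLib.bijective_fiber f y) hNy).symm⟩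
  rw [key]
  exact (CubeLib.isClosed_fiberRank_pos f hL).inter (CubeLib.isClosed_fiberRank_pos f hN)

end Groth.Agent.S16760
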