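import Groth.Statements.S16761
import Groth.Agent.GenBCLib.Deg0

set_option autoImplicit false
universe u
open Coherent

namespace Groth.Agent.S16761

set_option backward.isDefEq.respectTransparency false
set_option linter.style.haveILetI false

open AlgebraicGeometry CategoryTheory CategoryTheory.Limits in
/-- Let f : X → S be proper and of finite presentation, F an O_X-module of finite presentation which is
flat over S, and d a natural number with dim X_s ≤ d for all s. Then the set S' of points s with
H^j(X_s, F_s) = 0 for all j ≥ 1 is open, and over every open U ⊆ S' the sheaves R^j f_* F (j ≥ 1)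
restrict to zero, f_* F restricts to a finite locally free module, and the formation of f_* F
commutes with base change: for every cartesian square with base a morphism g : T → S whose image
lies in U, with f' : X ×_S T → T and g' : X ×_S T → X the projections, the base change map g^* f_* F
→ f'_* g'^* F is an isomorphism. (The published statement asks only that f be proper; without finite
presentation the assertions on f_* F fail — for a finite flat morphism which is not of finite
presentation and F = O_X the direct image f_* O_X need not be finite locally free — and the argument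
runs through cohomology and base change for morphisms of finite presentation, so f is taken of
finite presentation here. Higher direct images are right derived functors of f_* on O_X-modules,
with injective resolutions carried as an instance argument.) -/
theorem result {X S : Scheme.{u}} (f : X ⟶ S)
    [IsProper f] [LocallyOfFinitePresentation f] [HasInjectiveResolutions X.Modules]
    (F : X.Modules) (hF : CohB1.IsFP F) (hfl : FlatMod.IsFlatOver f F)
    (d : ℕ) (hd : ∀ s : S, topologicalKrullDim ↥(f.fiber s) ≤ d) :
    IsOpen {s : S | ∀ j : ℕ, 1 ≤ j → Subsingleton (CohIII.fiberH f F s j)} ∧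
      ∀ U : S.Opens, (U : Set S) ⊆ {s : S | ∀ j : ℕ, 1 ≤ j → Subsingleton (CohIII.fiberH f F s j)} →
        (∀ j : ℕ, 1 ≤ j → IsZero (((Coh.Rpush f j).obj F).restrict U.ι)) ∧
          FlatMod.IsFinLocFree (((Coh.push f).obj F).restrict U.ι) ∧
            ∀ (T X' : Scheme.{u}) (g : T ⟶ S) (f' : X' ⟶ T) (g' : X' ⟶ X) (hsq : IsPullback g' f' f g),
              Set.range g.base ⊆ (U : Set S) → IsIso (CohBC.bc0 f g f' g' hsq.w F) := by
  haveI : Coh.IsQCoh F := by
    haveI := hF
    exact (inferInstance : SheafOfModules.IsQuasicoherent (R := X.ringCatSheaf) F)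
  let T : Set S := {s : S | ∀ j : ℕ, 1 ≤ j → Subsingleton (CohIII.fiberH f F s j)}
  have key : ∀ (s : S), s ∈ T → ∀ j : ℕ, 1 ≤ j → ∃ (V : S.Opens) (D : GenBCLib.Dat f F V) (a : Γ(S, V)),
      s ∈ S.basicOpen a ∧ D.L.Good a j ∧ D.L.Split a j ∧
        ∀ x : ↥(LinearMap.ker (D.L.d j)), a • x.1 ∈ D.L.bd j := fun s hs j hj => by
    obtain ⟨V, D, hsV⟩ := GenBCLib.exists_dat_at hF hfl s
    obtain ⟨a, h⟩ := D.exists_vanish hsV (hs j hj)
    exact ⟨V, D, a, h⟩
  have hopen : IsOpen T := by
    refine isOpen_iff_forall_mem_open.2 fun s hs => ?_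
    choose V D a ha hg hsp hk using fun j : Fin d => key s hs (j.1 + 1) (by omega)
    refine ⟨⋂ j, (S.basicOpen (a j) : Set S), fun v hv j hj => ?_, isOpen_iInter_of_finite fun j => (S.basicOpen (a j)).2,
      Set.mem_iInter.2 ha⟩
    by_cases hjd : j ≤ d
    · obtain ⟨k, rfl⟩ : ∃ k, j = k + 1 := ⟨j - 1, by omega⟩
      exact (D ⟨k, by omega⟩).subsingleton_fiberH (Set.mem_iInter.1 hv ⟨k, by omega⟩) (hg _) (hk _)
    · exact GenBCLib.subsingleton_fiberH_of_dim f F d v (hd v) (by omega)
  refine ⟨hopen, fun U hU => ⟨fun j hj => ?_, ?_, fun T' X' g f' g' hsq hg' => ?_⟩⟩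
  · refine GenBCLib.isZero_of_small _ fun s => ?_
    obtain ⟨V, D, a, ha, -, -, hk⟩ := key s.1 (hU s.2) j hj
    refine ⟨U.ι ⁻¹ᵁ S.basicOpen a, ha, fun W hW hWle => ?_⟩
    have hle : U.ι ''ᵁ W ≤ S.basicOpen a := by
      rintro _ ⟨w, hw, rfl⟩
      exact hWle hw
    exact GenBCLib.subsingleton_of_isZero_restrict (M := (Coh.Rpush f j).obj F) hle (D.isZero_basicOpen le_rfl hk)
  · refine GenBCLib.isFinLocFree_of_nhds _ fun s => ?_
    obtain ⟨V, D, a, ha, -, hsp, -⟩ := key s.1 (hU s.2) 1 le_rfl
    have h1 : FlatMod.IsFinLocFree (((Coh.push f).obj F).restrict (S.basicOpen a).ι) :=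
      GenBCLib.isFinLocFree_push_of_rpush f F (D.isFinLocFree_basicOpen (n := 0) hsp (D.L.split_zero a))
    refine ⟨U.ι ⁻¹ᵁ S.basicOpen a, ha, GenBCLib.isFinLocFree_restrict_preimage U.ι (S.basicOpen a) h1⟩
  · haveI : IsSeparated f' := MorphismProperty.of_isPullback (P := @IsSeparated) hsq inferInstance
    haveI : QuasiCompact f' := MorphismProperty.of_isPullback (P := @QuasiCompact) hsq inferInstance
    haveI : Coh.IsQCoh ((Scheme.Modules.pullback g').obj F) := PullbackMod.isQCoh_pullback _ F
    refine GenBCLib.isIso_bc0 hsq F fun z => ?_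
    obtain ⟨V, D, a, ha, -, hsp, -⟩ := key (g z) (hU (hg' ⟨z, rfl⟩)) 1 le_rfl
    exact ⟨V, D, a, ha, hsp⟩

end Groth.Agent.S16761
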