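import Groth.Statements.S16762
import Mathlib

set_option autoImplicit false
universe u
open CAlgX

namespace Groth.Agent.S16762
open scoped TensorProduct

/-- Let A → A' be faithfully flat and u : M → N a map of A-modules. Then u is universally injective (u ⊗
id_Q injective for every A-module Q) if and only if its base change A' ⊗_A M → A' ⊗_A N is
universally injective as a map of A'-modules. -/
theorem result (A A' : Type u) [CommRing A] [CommRing A']
    [Algebra A A'] [Module.FaithfullyFlat A A'] {M N : Type u} [AddCommGroup M] [Module A M]
    [AddCommGroup N] [Module A N] (u : M →ₗ[A] N) :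
    CAlgX.UniversallyInjective A u ↔ CAlgX.UniversallyInjective A' (u.baseChange A') := by
  have comm : ∀ (S : Type u) [CommRing S] {X Y : Type u} [AddCommGroup X] [Module S X] [AddCommGroup Y] [Module S Y]
      (g : X →ₗ[S] Y) (Q : Type u) [AddCommGroup Q] [Module S Q],
      Function.Injective (g.rTensor Q) ↔ Function.Injective (g.lTensor Q) := fun S _ {X Y} _ _ _ _ g Q _ _ =>
    (LinearMap.lTensor_inj_iff_rTensor_inj Q g).symm
  have base : ∀ (Q : Type u) [AddCommGroup Q] [Module A Q] [Module A' Q] [IsScalarTower A A' Q],
      Function.Injective ((u.baseChange A').lTensor Q) ↔ Function.Injective (u.lTensor Q) := by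
    intro Q _ _ _ _
    let eM := TensorProduct.AlgebraTensorModule.cancelBaseChange A A' A' Q M
    let eN := TensorProduct.AlgebraTensorModule.cancelBaseChange A A' A' Q N
    have key : ∀ x, eN ((u.baseChange A').lTensor Q x) = u.lTensor Q (eM x) := by
      intro x
      induction x using TensorProduct.induction_on with
      | zero => simp
      | add x y hx hy => simp [map_add, hx, hy]
      | tmul q y =>
        induction y using TensorProduct.induction_on with
        | zero => simp
        | add x y hx hy => simp [TensorProduct.tmul_add, map_add] at hx hy ⊢; simp [hx, hy]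
        | tmul a m => simp [eM, eN, TensorProduct.AlgebraTensorModule.cancelBaseChange_tmul]
    have hc : ⇑(u.lTensor Q) = eN ∘ ⇑((u.baseChange A').lTensor Q) ∘ eM.symm := funext fun x => by
      rw [Function.comp_apply, Function.comp_apply, key, LinearEquiv.apply_symm_apply]
    rw [hc]
    exact ((eN.injective.of_comp_iff _).trans (Function.Injective.of_comp_iff' _ eM.symm.bijective)).symm
  refine ⟨fun h Q _ _ => ?_, fun h Q _ _ => ?_⟩
  · let : Module A Q := Module.compHom Q (algebraMap A A')
    have : IsScalarTower A A' Q := IsScalarTower.of_algebraMap_smul fun _ _ => rfl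
    exact (comm A' (u.baseChange A') Q).2 ((base Q).2 ((comm A u Q).1 (h Q)))
  · refine (comm A u Q).2 ((Module.FaithfullyFlat.lTensor_injective_iff_injective A A' _).1 ?_)
    have h2 : Function.Injective (u.lTensor (A' ⊗[A] Q)) :=
      (base (A' ⊗[A] Q)).1 ((comm A' (u.baseChange A') (A' ⊗[A] Q)).1 (h (A' ⊗[A] Q)))
    rw [LinearMap.lTensor_tensor, LinearMap.coe_comp, LinearMap.coe_comp, LinearEquiv.coe_coe, LinearEquiv.coe_coe,
      EquivLike.comp_injective, EquivLike.injective_comp] at h2
    exact h2

end Groth.Agent.S16762
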