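import Groth.Statements.S16763
import Groth.Agent.FlatLocus.PointScheme

set_option autoImplicit false
universe u
open Unram17

namespace Groth.Agent.S16763

open AlgebraicGeometry CategoryTheory CategoryTheory.Limits in
/-- Let g : Y → S and h : X → S be locally of finite presentation, f : X → Y an S-morphism (f ≫ g = h),
and x a point of X with image s = h(x) such that h is flat at x. Then f is smooth at x (smooth on an
open neighbourhood of x) if and only if the induced morphism of fibres X_s → Y_s is smooth at the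
point of X_s lying over x. -/
theorem result {X Y S : Scheme.{u}} (g : Y ⟶ S) (h : X ⟶ S)
    [LocallyOfFinitePresentation g] [LocallyOfFinitePresentation h] (f : X ⟶ Y) (w : f ≫ g = h)
    (x : ↥X) (hflat : (h.stalkMap x).hom.Flat)
    (x' : ↥(h.fiber (h x))) (hx' : (h.fiberι (h x)) x' = x) :
    (∃ U : X.Opens, x ∈ U ∧ Smooth (U.ι ≫ f)) ↔
      ∃ V : (h.fiber (h x)).Opens, x' ∈ V ∧ Smooth (V.ι ≫ CohIII.fiberMapOver f h g w (h x)) := by
  subst w
  haveI := FlatLocus.locallyOfFinitePresentation_of_comp f g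
  have key : ∀ (s : S) (z : (f ≫ g).fiber s) (x0 : X), (f ≫ g).fiberι s z = x0 →
      ((f ≫ g).stalkMap x0).hom.Flat →
      ((∃ U : X.Opens, x0 ∈ U ∧ Smooth (U.ι ≫ f)) ↔ ∃ V : ((f ≫ g).fiber s).Opens,
        z ∈ V ∧ Smooth (V.ι ≫ CohIII.fiberMapOver f (f ≫ g) g rfl s)) := by
    rintro s z x0 rfl hflat0
    haveI := FlatLocus.locallyOfFinitePresentation_fiberMap f g s
    rw [FlatLocus.fiberMapOver_eq, FlatLocus.exists_smooth_nhd_iff, FlatLocus.exists_smooth_nhd_iff]
    exact FlatLocus.formallySmooth_stalk_iff_fibre f g s z hflat0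
  exact key _ x' x hx' hflat

end Groth.Agent.S16763
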