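import Groth.Statements.S1677
import Groth.Agent.CILib.RegularImmersionFibre
import Groth.Agent.S1535
-- import your own Groth.Agent.* helpers here

set_option backward.isDefEq.respectTransparency false
set_option linter.style.haveILetI false

set_option autoImplicit false
universe u
open CategoryTheory CategoryTheory.Limits AlgebraicGeometry TopologicalSpace
open SDiv

namespace Groth.Agent.S1677

/-- Let X ⟶ S be smooth, Y ⟶ S flat, locally of finite presentation with complete-intersection fibre
local rings (syntomic), and i : Y ⟶ X a closed immersion over S. Then i is a regular closed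
immersion. -/
theorem result {X Y S : Scheme.{u}} (p : X ⟶ S) [Smooth p] (i : Y ⟶ X)
    [IsClosedImmersion i] (hY : CInt.IsCIMorphism (i ≫ p)) : Mor2.IsRegularClosedImmersion i := by
  refine ⟨inferInstance, fun z => ?_⟩
  haveI := hY.1
  haveI := hY.2.1
  haveI : IsRegularLocalRing (CInt.fiberStalk p (i z)) := by
    letI : (p.fiber (p (i z))).Over (Spec (CommRingCat.of (S.residueField (p (i z))))) :=
      ⟨p.fiberToSpecResidueField (p (i z))⟩
    haveI : Smooth ((p.fiber (p (i z))) ↘ (Spec (CommRingCat.of (S.residueField (p (i z)))))) :=
      MorphismProperty.pullback_snd p (S.fromSpecResidueField (p (i z))) ‹Smooth p›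
    exact Groth.Agent.S1535.result (S.residueField (p (i z))) (p.fiber (p (i z))) (p.asFiber (i z))
  obtain ⟨D, hD, hzD, rs, hrs, hK⟩ := Groth.Agent.CILib.exists_regular_chart p i z (hY.2.2 z)
  exact ⟨D, hD, hzD, rs, hrs, by rw [Scheme.Hom.ker_apply]; exact hK⟩

end Groth.Agent.S1677
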