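import Groth.Statements.S16770
import Groth.Agent.MorSFPLib.Basic

set_option autoImplicit false
set_option backward.isDefEq.respectTransparency false
set_option backward.isDefEq.respectTransparency.types false
open CategoryTheory MonoidalCategory CartesianMonoidalCategory MonObj GrpObj AlgebraicGeometry
universe u
open SGA3x

namespace Groth.Agent.S16770

/-- For X finite, flat and of finite presentation over a scheme S and Y affine of finite presentation
over S, the functor T ↦ Hom_S(X ×_S T, Y) on S-schemes is representable by an S-scheme which is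
affine and of finite presentation over S (products are fibre products over S, written with the
cartesian monoidal structure of S-schemes). -/
theorem result {S : Scheme.{u}} (X Y : Over S)
    (hXf : IsFinite X.hom) (hXfl : Flat X.hom) (hXfp : LocallyOfFinitePresentation X.hom)
    (hYa : IsAffineHom Y.hom) (hYfp : LocallyOfFinitePresentation Y.hom) :
    ∃ (M : Over S) (ev : X ⊗ M ⟶ Y), IsAffineHom M.hom ∧ LocallyOfFinitePresentation M.hom ∧
      ∀ (T : Over S) (φ : X ⊗ T ⟶ Y), ∃! v : T ⟶ M, (X ◁ v) ≫ ev = φ := by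
  haveI := hXf
  haveI := hXfl
  haveI := hXfp
  haveI := hYa
  haveI := hYfp
  obtain ⟨M, hMa, hMf, ⟨r⟩⟩ := MorSFPLib.exists_representable X.hom Y.hom
  let c : ∀ T : Over S, (Flatn.morS X.hom Y.hom).obj (Opposite.op T) ≃ (X ⊗ T ⟶ Y) :=
    fun T => HomRep.MorS.conv X.hom Y.hom
  refine ⟨M, c M (r.homEquiv (𝟙 M)), hMa, hMf, fun T φ => ?_⟩
  have hv : ∀ v : T ⟶ M, (X ◁ v) ≫ c M (r.homEquiv (𝟙 M)) = c T (r.homEquiv v) := by
    intro v
    conv_rhs => rw [← Category.comp_id v, r.homEquiv_comp]
    exact (HomRep.MorS.conv_map X.hom Y.hom v _).symm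
  refine ⟨r.homEquiv.symm ((c T).symm φ), ?_, fun v hv' => ?_⟩
  · show (X ◁ _) ≫ _ = φ
    rw [hv, Equiv.apply_symm_apply, Equiv.apply_symm_apply]
  · replace hv' : (X ◁ v) ≫ c M (r.homEquiv (𝟙 M)) = φ := hv'
    rw [hv] at hv'
    rw [← hv', Equiv.symm_apply_apply, Equiv.symm_apply_apply]

end Groth.Agent.S16770
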