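import Groth.Statements.S16775
import Groth.Agent.MultExtSchLib.Core
import Groth.Agent.ConnConj.Main
import Groth.Agent.MonoFibre.MonoAffine

set_option autoImplicit false
set_option backward.isDefEq.respectTransparency false
set_option backward.isDefEq.respectTransparency.types false
set_option maxHeartbeats 1000000
set_option synthInstance.maxHeartbeats 400000
open CategoryTheory MonoidalCategory CartesianMonoidalCategory MonObj GrpObj AlgebraicGeometry
universe u
open SGA3x

namespace Groth.Agent.S16775

/-- Let G be a smooth affine group scheme with connected fibres over a scheme S, H ⊆ G a normal subgroup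
scheme of multiplicative type (of finite type), G → Q = G/H the quotient, and H' ⊆ Q a central
subgroup scheme of multiplicative type (of finite type). Then the preimage of H' in G is a central
subgroup scheme of G of multiplicative type. -/
theorem result {S : Scheme.{u}} {G H Q H' P : Over S}
    [GrpObj G] [GrpObj H] [GrpObj Q] [GrpObj H'] [GrpObj P]
    (hG : Smooth G.hom) (hGa : IsAffineHom G.hom) (hconn : ∀ s : S, _root_.IsConnected (G.hom.base ⁻¹' {s}))
    (i : H ⟶ G) [IsMonHom i] [Mono i] (hH : SGA3x.IsMultTypeFT H) (hHn : AlgGrp.IsNormalHom i)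
    (q : G ⟶ Q) [IsMonHom q] (hq : RedSub.IsQuotient i q) (hker : AlgGrp.IsKernel i q)
    (j : H' ⟶ Q) [IsMonHom j] [Mono j] (hH' : SGA3x.IsMultTypeFT H')
    (hcenH' : ∀ (X : Over S) (x : X ⟶ H') (g : X ⟶ Q), (x ≫ j) * g = g * (x ≫ j))
    (i' : P ⟶ G) [IsMonHom i'] (p : P ⟶ H') (hP : IsPullback i' p q j) :
    SGA3x.IsMultTypeFT P ∧ ∀ (X : Over S) (x : X ⟶ P) (g : X ⟶ G), (x ≫ i') * g = g * (x ≫ i') := by
  haveI := hG
  haveI := hGa
  obtain ⟨hqs, hqf, hqp, -⟩ := hq
  haveI := hqs; haveI := hqf; haveI := hqp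
  haveI : IsAffineHom H.hom := Groth.Agent.FixedSmooth.isAffineHom_of_isMultTypeLoc
    (Groth.Agent.WeilClosedLib.IsMultTypeLoc.of_isMultTypeFT hH)
  haveI : IsAffineHom H'.hom := Groth.Agent.FixedSmooth.isAffineHom_of_isMultTypeLoc
    (Groth.Agent.WeilClosedLib.IsMultTypeLoc.of_isMultTypeFT hH')
  haveI := Groth.Agent.MultKer.flat_hom_of_isMultTypeFT hH'
  haveI := Groth.Agent.FixedSmooth.locallyOfFinitePresentation_of_isMultTypeFT hH'
  haveI : QuasiCompact q.left := quasiCompact_iff_forall_isAffineOpen.2 fun V hV => by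
    have hsq := Groth.Agent.MultExtSch.isPullback_left (Groth.Agent.MultExtSch.isPullback_self q i hker)
    obtain ⟨W, hWc, hW⟩ := Groth.Agent.MultBridge.exists_compact_open_image q.left q.left.surjective hV
    haveI : IsAffineHom (fst G H).left := MorphismProperty.pullback_fst G.hom H.hom inferInstance
    have e : ((fst G H * (snd G H ≫ i)).left.base '' ((fst G H).left.base ⁻¹' (W : Set G.left))) =
        q.left.base ⁻¹' (V : Set Q.left) := by
      refine Set.eq_of_subset_of_subset ?_ fun y hy => ?_
      · rintro _ ⟨z, hz, rfl⟩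
        show q.left _ ∈ (V : Set Q.left)
        rw [← Scheme.Hom.comp_apply, hsq.w, Scheme.Hom.comp_apply]
        exact hW.subset ⟨_, hz, rfl⟩
      · obtain ⟨x, hx, hxy⟩ := hW.symm.subset hy
        obtain ⟨z, hz1, hz2⟩ := Scheme.exists_preimage_of_isPullback hsq y x hxy.symm
        exact ⟨z, by show (fst G H).left z ∈ (W : Set G.left); rw [hz2]; exact hx, hz1⟩
    show IsCompact (q.left.base ⁻¹' (V : Set Q.left))
    rw [← e]
    exact ((fst G H).left.isCompact_preimage hWc).image (Scheme.Hom.continuous _)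
  haveI := Groth.Agent.MultExtSch.isAffineHom_p q i hker
  haveI hP' := Groth.Agent.MultExtSch.isPullback_left hP
  haveI : IsMonHom p := Groth.Agent.CommGrpAbLib.isMonHom_of_mono j p (i' ≫ q) hP.w.symm
  haveI : Mono i' := ⟨fun a b e => hP.hom_ext e (by rw [← cancel_mono j, Category.assoc, Category.assoc, ← hP.w, ← Category.assoc, ← Category.assoc, e])⟩
  haveI : Surjective p.left := MorphismProperty.of_isPullback hP' hqs
  haveI : Flat p.left := MorphismProperty.of_isPullback hP' hqf
  haveI : IsAffineHom p.left := MorphismProperty.of_isPullback hP' inferInstance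
  haveI : LocallyOfFinitePresentation p.left := MorphismProperty.of_isPullback hP' hqp
  haveI : IsAffineHom P.hom := by rw [← Over.w p]; infer_instance
  haveI : Flat P.hom := by rw [← Over.w p]; infer_instance
  haveI : LocallyOfFinitePresentation P.hom := by rw [← Over.w p]; infer_instance
  obtain ⟨m, hm, hm'⟩ := hP.exists_lift i 1 (by rw [MonObj.one_comp, ← Category.id_comp i, Groth.Agent.MultExtSch.comp_p q i hker])
  haveI : IsMonHom m := Groth.Agent.CommGrpAbLib.isMonHom_of_mono i' m i hm
  have hkerP : AlgGrp.IsKernel m p := by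
    refine Groth.Agent.MultExtSch.isPullback_of_points ?_ (fun X x y e => ?_) (fun X z z' e1 _ => ?_)
    · rw [hm', Hom.one_def]
    · have hx : (x ≫ i') ≫ q = 1 := by
        rw [Category.assoc, hP.w, ← Category.assoc, e, toUnit_unique y (toUnit X), ← Hom.one_def, MonObj.one_comp]
      obtain ⟨l, hl⟩ := Groth.Agent.CommGrpAbLib.exists_kernel_lift i q hker (x ≫ i') hx
      refine ⟨l, ?_, toUnit_unique _ _⟩
      rw [← cancel_mono i', Category.assoc, hm, hl]
    · rw [← cancel_mono i, ← hm, ← Category.assoc, ← Category.assoc, e1]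
  have hPn : AlgGrp.IsNormalHom i' := fun T g x => by
    have e : (g * (x ≫ i') * g⁻¹) ≫ q = (x ≫ p) ≫ j := by
      rw [MonObj.mul_comp, MonObj.mul_comp, GrpObj.inv_comp, Category.assoc, hP.w, ← Category.assoc,
        ← hcenH' T (x ≫ p) (g ≫ q), mul_inv_cancel_right]
    obtain ⟨l, hl, -⟩ := hP.exists_lift (g * (x ≫ i') * g⁻¹) (x ≫ p) e
    exact ⟨l, hl.symm⟩
  have hconn' : ∀ s : S, ConnectedSpace ↥(Limits.pullback G.hom (S.fromSpecResidueField s)) := fun s => by
    haveI : ConnectedSpace ↥(G.hom.base ⁻¹' {s}) := isConnected_iff_connectedSpace.1 (hconn s)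
    exact (G.hom.fiberHomeo s).symm.surjective.connectedSpace (G.hom.fiberHomeo s).symm.continuous
  have hPm : SGA3x.IsMultTypeFT P := by
    refine Groth.Agent.MultExtSch.isMultTypeFT_of_fibres_comm p m hkerP hH hH' fun s =>
      Groth.Agent.MultExtSch.commOver_of_bc fun X a b => ?_
    let t := S.fromSpecResidueField s
    let F := Over.pullback t
    haveI := hconn' s
    haveI : ConnectedSpace ↥(Red.bc t G).left := hconn' s
    haveI : LocallyOfFiniteType (Red.bc t G).hom := MorphismProperty.pullback_snd _ _ inferInstance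
    haveI : LocallyOfFiniteType (Red.bc t P).hom := MorphismProperty.pullback_snd _ _ inferInstance
    haveI : LocallyOfFiniteType (Red.bc t H').hom := MorphismProperty.pullback_snd _ _ inferInstance
    haveI : Flat (F.map p).left := MorphismProperty.of_isPullback (Groth.Agent.FixedSmooth.isPullback_bc t p) inferInstance
    haveI : Surjective (F.map p).left := MorphismProperty.of_isPullback (Groth.Agent.FixedSmooth.isPullback_bc t p) inferInstance
    haveI : Mono (F.map i') := inferInstance
    haveI : Mono (F.map i) := inferInstance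
    have hnorm : ∀ {K : Over S} [GrpObj K] (f : K ⟶ G) [IsMonHom f], AlgGrp.IsNormalHom f →
        AlgGrp.IsNormalHom (F.map f) := fun {K} _ f _ hf T g x => by
      obtain ⟨g, rfl⟩ := (Groth.Agent.FixedSmooth.adjEquiv t G T).surjective g
      obtain ⟨x, rfl⟩ := (Groth.Agent.FixedSmooth.adjEquiv t K T).surjective x
      have e : ∀ y, Groth.Agent.FixedSmooth.adjEquiv t K T y ≫ F.map f =
          Groth.Agent.FixedSmooth.adjEquiv t G T (y ≫ f) := fun y =>
        ((Over.mapPullbackAdj t).homEquiv_naturality_right y f).symm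
      obtain ⟨l, hl⟩ := hf _ g x
      exact ⟨Groth.Agent.FixedSmooth.adjEquiv t K T l, by rw [e, e, ← map_inv, ← map_mul, ← map_mul, hl]⟩
    have h := Groth.Agent.MultExtCentral.central_of_extension (Red.bc t G) (Red.bc t P) (Red.bc t H) (Red.bc t H')
      (F.map i') (hnorm i' hPn) (F.map i) (hnorm i hHn) (F.map m) (by rw [← F.map_comp, hm]) (F.map p)
      (Groth.Agent.MultExtSch.isKernel_bc p m hkerP t) (Groth.Agent.HomDesc.isMultTypeFT_bc t hH)
      (Groth.Agent.HomDesc.isMultTypeFT_bc t hH') X (a ≫ F.map i') b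
    rw [← cancel_mono (F.map i'), MonObj.mul_comp, MonObj.mul_comp]
    exact h
  exact ⟨hPm, fun X x g => (Groth.Agent.ConnConj.central_of_normal hconn' i' hPm hPn X g x).symm⟩

end Groth.Agent.S16775
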