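import Groth.Statements.S16777
import Groth.Agent.WeilClosedLib.MultType

set_option autoImplicit false
set_option backward.isDefEq.respectTransparency false
set_option backward.isDefEq.respectTransparency.types false
open CategoryTheory MonoidalCategory CartesianMonoidalCategory MonObj GrpObj AlgebraicGeometry
universe u
open SGA3x

namespace Groth.Agent.S16777

/-- Let G be an affine group scheme of finite presentation over a scheme S, H ⊆ G a subgroup scheme of
multiplicative type (of finite type) and Y' ⊆ G any closed subscheme of finite presentation over S.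
Then the transporter of H into Y' (points g with g h g⁻¹ in Y' for all points h of H after any base
change) is representable by a closed subscheme of G of finite presentation over S. -/
theorem result {S : Scheme.{u}} (G H Y' : Over S) [GrpObj G] [GrpObj H]
    (hGa : IsAffineHom G.hom) (hGfp : LocallyOfFinitePresentation G.hom)
    (i : H ⟶ G) [IsMonHom i] [Mono i] (hH : SGA3x.IsMultTypeFT H)
    (y' : Y' ⟶ G) (hy' : IsClosedImmersion y'.left) (hY'fp : LocallyOfFinitePresentation Y'.hom) :
    ∃ (C : Over S) (c : C ⟶ G), IsClosedImmersion c.left ∧ LocallyOfFinitePresentation C.hom ∧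
      ∀ (X : Over S) (g : X ⟶ G), (∃ z : X ⟶ C, z ≫ c = g) ↔
        ∀ (X' : Over S) (x : X' ⟶ X) (h : X' ⟶ H), ∃ a' : X' ⟶ Y', (x ≫ g) * (h ≫ i) * (x ≫ g)⁻¹ = a' ≫ y' := by
  obtain ⟨C, c, hc, hrep, hlfp⟩ :=
    WeilClosedLib.exists_transporter_into (WeilClosedLib.isEssentiallyFree_of_isMultTypeFT H hH) i y'
  haveI : LocallyOfFinitePresentation y'.left := by
    haveI : LocallyOfFinitePresentation (y'.left ≫ G.hom) := by rw [Over.w]; exact hY'fp
    exact FlatLocus.locallyOfFinitePresentation_of_comp y'.left G.hom
  haveI := hlfp (WeilClosedLib.quasiCompact_of_isMultTypeFT H hH) inferInstance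
  refine ⟨C, c, hc, ?_, hrep⟩
  rw [← Over.w c]; infer_instance

end Groth.Agent.S16777
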