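import Groth.Statements.S16780
import Groth.Agent.MultExtSchLib.Core
import Groth.Agent.ConnConj.Ext
-- import your own Groth.Agent.* helpers here

set_option autoImplicit false
set_option backward.isDefEq.respectTransparency false
set_option backward.isDefEq.respectTransparency.types false
set_option maxHeartbeats 1000000
set_option synthInstance.maxHeartbeats 400000
open CategoryTheory MonoidalCategory CartesianMonoidalCategory MonObj GrpObj AlgebraicGeometry
universe u
open SGA3x

namespace Groth.Agent.S16780

/-- Let 1 → H' → H → H'' → 1 be a short exact sequence of affine, flat, finitely presented group schemes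
over a scheme S with H' and H'' of multiplicative type (of finite type). If every fibre H_s is
connected or commutative, then H is of multiplicative type. -/
theorem result {S : Scheme.{u}} (H' H H'' : Over S) [GrpObj H'] [GrpObj H] [GrpObj H'']
    (hHa : IsAffineHom H.hom) (hHfl : Flat H.hom) (hHfp : LocallyOfFinitePresentation H.hom)
    (p : H ⟶ H'') [IsMonHom p] [Surjective p.left] [Flat p.left] [QuasiCompact p.left]
    (i : H' ⟶ H) [IsMonHom i] (hker : AlgGrp.IsKernel i p)
    (hH' : SGA3x.IsMultTypeFT H') (hH'' : SGA3x.IsMultTypeFT H'')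
    (hfib : ∀ s : S, _root_.IsConnected (H.hom.base ⁻¹' {s}) ∨
      ∀ (X : Over (Spec (S.residueField s))) (a b : X ⟶ Red.bc (S.fromSpecResidueField s) H), a * b = b * a) :
    SGA3x.IsMultTypeFT H := by
  haveI := hHa
  haveI := hHfl
  haveI := hHfp
  refine Groth.Agent.MultExtSch.isMultTypeFT_of_fibres_comm p i hker hH' hH'' fun s => ?_
  rcases hfib s with hconn | hc
  · let t := S.fromSpecResidueField s
    haveI : ConnectedSpace ↥(Red.bc t H).left := by
      haveI : ConnectedSpace ↥(H.hom.base ⁻¹' {s}) := isConnected_iff_connectedSpace.1 hconn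
      exact (H.hom.fiberHomeo s).symm.surjective.connectedSpace (H.hom.fiberHomeo s).symm.continuous
    haveI : LocallyOfFiniteType (Red.bc t H).hom := MorphismProperty.pullback_snd _ _ inferInstance
    haveI : Mono i := Groth.Agent.MultExtSch.mono_kernel p i hker
    have hconnK : _root_.IsConnected (H''.hom.base ⁻¹' {s}) := by
      have e : H''.hom.base ⁻¹' {s} = p.left.base '' (H.hom.base ⁻¹' {s}) := by
        ext y
        constructor
        · intro hy
          obtain ⟨x, rfl⟩ := p.left.surjective y
          refine ⟨x, ?_, rfl⟩
          show H.hom x = s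
          rw [← Over.w p, Scheme.Hom.comp_apply]
          exact hy
        · rintro ⟨x, hx, rfl⟩
          show H''.hom (p.left x) = s
          rw [← Scheme.Hom.comp_apply, Over.w p]
          exact hx
      rw [e]
      exact hconn.image _ p.left.continuous.continuousOn
    refine Groth.Agent.MultExtSch.commOver_of_connected p i hker hH'' s hconnK fun Y q h g => ?_
    obtain ⟨X, e, -⟩ := Groth.Agent.MultExtSch.exists_frame q
    rw [← cancel_epi e.hom, MonObj.comp_mul, MonObj.comp_mul]
    apply (Groth.Agent.FixedSmooth.adjEquiv t H X).injective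
    rw [map_mul, map_mul]
    have e1 : Groth.Agent.FixedSmooth.adjEquiv t H X (e.hom ≫ h ≫ i) =
        Groth.Agent.FixedSmooth.adjEquiv t H' X (e.hom ≫ h) ≫ (Over.pullback t).map i := by
      rw [← Category.assoc]
      exact (Over.mapPullbackAdj t).homEquiv_naturality_right (e.hom ≫ h) i
    rw [e1]
    refine (Groth.Agent.ConnConj.central_of_normal (Groth.Agent.MultExtCentral.connected_fibre _)
      ((Over.pullback t).map i) (Groth.Agent.HomDesc.isMultTypeFT_bc t hH') (fun T a b => ?_) X _ _).symm
    have hk := Groth.Agent.MultExtSch.isKernel_bc p i hker t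
    obtain ⟨l, hl⟩ := Groth.Agent.CommGrpAbLib.exists_kernel_lift _ ((Over.pullback t).map p) hk
      (a * (b ≫ (Over.pullback t).map i) * a⁻¹) (by
        rw [MonObj.mul_comp, MonObj.mul_comp, Groth.Agent.MultExtSch.comp_p _ _ hk, _root_.mul_one,
          GrpObj.inv_comp]; exact _root_.mul_inv_cancel _)
    exact ⟨l, hl.symm⟩
  · exact Groth.Agent.MultExtSch.commOver_of_bc hc

end Groth.Agent.S16780
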