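import Groth.Statements.S16784
import Groth.Agent.SmoothGrp.Normalizer
import Groth.Agent.SmoothWeil.Global
-- import your own Groth.Agent.* helpers here

set_option autoImplicit false
open CategoryTheory MonoidalCategory CartesianMonoidalCategory MonObj GrpObj AlgebraicGeometry
universe u
open SGA3x

namespace Groth.Agent.S16784

/-- Let G be a smooth affine group scheme over a scheme S, Y ⊆ G a closed subscheme of finite
presentation which is smooth over S with non-empty geometrically connected fibres, and Y' ⊆ G a
closed subscheme of finite presentation. Then the transporter of Y into Y' is representable by a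
closed subscheme of G of finite presentation over S. -/
theorem result {S : Scheme.{u}} (G Y Y' : Over S) [GrpObj G]
    (hG : Smooth G.hom) (hGa : IsAffineHom G.hom)
    (y : Y ⟶ G) (hy : IsClosedImmersion y.left) (hYs : Smooth Y.hom) (hYfp : LocallyOfFinitePresentation Y.hom)
    (hYc : ∀ s : S, ConnectedSpace ↥(Red.geomFibre s Y).left)
    (y' : Y' ⟶ G) (hy' : IsClosedImmersion y'.left) (hY'fp : LocallyOfFinitePresentation Y'.hom) :
    ∃ (C : Over S) (c : C ⟶ G), IsClosedImmersion c.left ∧ LocallyOfFinitePresentation C.hom ∧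
      ∀ (X : Over S) (g : X ⟶ G), (∃ z : X ⟶ C, z ≫ c = g) ↔
        ∀ (X' : Over S) (x : X' ⟶ X) (a : X' ⟶ Y), ∃ a' : X' ⟶ Y', (x ≫ g) * (a ≫ y) * (x ≫ g)⁻¹ = a' ≫ y' := by
  haveI := hy'
  haveI := hG
  haveI := hY'fp
  haveI := hYs
  haveI := SmoothWeil.geometricallyIrreducible_of_connected_geomFibres Y.hom hYc
  haveI : LocallyOfFinitePresentation (y'.left ≫ G.hom) := by rw [Over.w]; infer_instance
  haveI : LocallyOfFinitePresentation y'.left :=
    FlatLocus.locallyOfFinitePresentation_of_comp (f := y'.left) (g := G.hom)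
  obtain ⟨E, jE, hjE, hlfp, hE⟩ := WeilClosedLib.exists_closed_preimage
    (fst G Y * (snd G Y ≫ y) * (fst G Y)⁻¹) y'
  haveI : Smooth (fst G Y).left := inferInstanceAs (Smooth (Limits.pullback.fst G.hom Y.hom))
  haveI : GeometricallyIrreducible (fst G Y).left :=
    inferInstanceAs (GeometricallyIrreducible (Limits.pullback.fst G.hom Y.hom))
  obtain ⟨T, t, ht, hrep, hl⟩ := SmoothWeil.exists_closed_of_smooth (fst G Y).left jE.left
  haveI := hl (hlfp inferInstance)
  refine ⟨Over.mk (t ≫ G.hom), Over.homMk t rfl, ht, inferInstanceAs (LocallyOfFinitePresentation (t ≫ G.hom)),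
    fun X g => (SmoothGrp.exists_forall_of_rep jE t hrep X g).trans (forall₃_congr fun X' x a => ?_)⟩
  rw [hE]
  simp [MonObj.comp_mul, GrpObj.comp_inv]

end Groth.Agent.S16784
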