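import Groth.Statements.S16785
import Groth.Agent.SmoothGrp.Normalizer
import Groth.Agent.SmoothWeil.Global

set_option autoImplicit false
open CategoryTheory MonoidalCategory CartesianMonoidalCategory MonObj GrpObj AlgebraicGeometry
universe u
open SGA3x

namespace Groth.Agent.S16785

/-- Let G be an affine group scheme of finite presentation over a scheme S and Y ⊆ G a closed subscheme
of finite presentation, smooth over S with non-empty geometrically connected fibres. Then the
centralizer of Y in G is representable by a closed subscheme of G. (The published statement asks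
only that the fibres of Y be connected; this row asks them to be geometrically connected, the case
the printed argument treats.) -/
theorem result {S : Scheme.{u}} (G Y : Over S) [GrpObj G]
    (hGa : IsAffineHom G.hom) (hGfp : LocallyOfFinitePresentation G.hom)
    (y : Y ⟶ G) (hy : IsClosedImmersion y.left) (hYs : Smooth Y.hom) (hYfp : LocallyOfFinitePresentation Y.hom)
    (hYc : ∀ s : S, ConnectedSpace ↥(Red.geomFibre s Y).left) :
    ∃ (C : Over S) (c : C ⟶ G), IsClosedImmersion c.left ∧
      ∀ (X : Over S) (g : X ⟶ G), (∃ z : X ⟶ C, z ≫ c = g) ↔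
        ∀ (X' : Over S) (x : X' ⟶ X) (a : X' ⟶ Y), (x ≫ g) * (a ≫ y) = (a ≫ y) * (x ≫ g) := by
  haveI := hGa
  haveI := hYs
  haveI := SmoothWeil.geometricallyIrreducible_of_connected_geomFibres Y.hom hYc
  haveI : IsClosedImmersion (η[G] : 𝟙_ (Over S) ⟶ G).left := by
    have h : (η[G] : 𝟙_ (Over S) ⟶ G).left ≫ G.hom = 𝟙 S := Over.w _
    haveI : IsClosedImmersion ((η[G] : 𝟙_ (Over S) ⟶ G).left ≫ G.hom) := by haveI : IsIso ((η[G] : 𝟙_ (Over S) ⟶ G).left ≫ G.hom) := h.symm ▸ (inferInstanceAs (IsIso (𝟙 S))); infer_instance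
    exact IsClosedImmersion.of_comp (η[G] : 𝟙_ (Over S) ⟶ G).left G.hom
  obtain ⟨E, jE, hjE, -, hE⟩ := WeilClosedLib.exists_closed_preimage
    ((fst G Y * (snd G Y ≫ y)) * ((snd G Y ≫ y) * fst G Y)⁻¹) (η[G] : 𝟙_ (Over S) ⟶ G)
  haveI : Smooth (fst G Y).left := inferInstanceAs (Smooth (Limits.pullback.fst G.hom Y.hom))
  haveI : GeometricallyIrreducible (fst G Y).left :=
    inferInstanceAs (GeometricallyIrreducible (Limits.pullback.fst G.hom Y.hom))
  obtain ⟨T, t, ht, hrep, -⟩ := SmoothWeil.exists_closed_of_smooth (fst G Y).left jE.left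
  refine ⟨Over.mk (t ≫ G.hom), Over.homMk t rfl, ht,
    fun X g => (SmoothGrp.exists_forall_of_rep jE t hrep X g).trans (forall₃_congr fun X' x a => ?_)⟩
  rw [hE]
  simp only [MonObj.comp_mul, GrpObj.comp_inv, CartesianMonoidalCategory.lift_fst, CartesianMonoidalCategory.lift_snd_assoc]
  rw [← mul_inv_eq_one, Hom.one_def]
  exact ⟨fun ⟨l, hl⟩ => by rw [hl, toUnit_unique l (toUnit X')], fun h => ⟨toUnit X', h⟩⟩


end Groth.Agent.S16785
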