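import Groth.Statements.S16794
import Mathlib
import Groth.Agent.PCurvLib.Iterate
-- import your own Groth.Agent.* helpers here

set_option autoImplicit false
universe v u
open PCurv

namespace Groth.Agent.S16794

open TensorProduct in
/-- Let p be a prime number and B a commutative algebra of characteristic p over a commutative ring A
whose module Ω of Kähler differentials over A is free of rank one on a form ω; let θ₀ be the
A-derivation of B dual to ω (its B-linear functional Ω → B takes the value 1 on ω), and let ∇ be a
connection on a finite free B-module M. Then the p-curvature of ∇ vanishes identically — for every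
A-derivation θ of B and every derivation θ' that agrees with the p-fold iterate of θ, the
endomorphism (∇_θ)^p − ∇_{θ'} of M is zero — if and only if it vanishes for the single derivation
θ₀. -/
theorem result {A : Type v} {B M : Type u} [CommRing A] [CommRing B]
    [Algebra A B] (p : ℕ) [Fact p.Prime] [CharP B p]
    [AddCommGroup M] [Module B M] [Module A M] [IsScalarTower A B M] [Module.Finite B M] [Module.Free B M]
    (bΩ : Module.Basis (Fin 1) B (KaehlerDifferential A B)) (θ₀ : Derivation A B B)
    (hθ₀ : θ₀.liftKaehlerDifferential (bΩ 0) = 1)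
    (nabla : M →ₗ[A] M ⊗[B] KaehlerDifferential A B)
    (hc : Conn.IsConn (KaehlerDifferential.D A B) nabla) :
    (∀ θ θp : Derivation A B B, Conn.IsIterPow θ p θp → Conn.pCurv p nabla θ θp = 0) ↔
      (∀ θp : Derivation A B B, Conn.IsIterPow θ₀ p θp → Conn.pCurv p nabla θ₀ θp = 0) := by
  classical
  refine ⟨fun h θp hp => h θ₀ θp hp, fun h θ θp hθp => ?_⟩
  have lift_smul : ∀ (f : B) (D : Derivation A B B),
      (f • D).liftKaehlerDifferential = f • D.liftKaehlerDifferential := fun f D => by
    refine Derivation.liftKaehlerDifferential_unique _ _ (Derivation.ext fun b => ?_)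
    show (f • D).liftKaehlerDifferential (KaehlerDifferential.D A B b) =
      f • D.liftKaehlerDifferential (KaehlerDifferential.D A B b)
    rw [Derivation.liftKaehlerDifferential_comp_D, Derivation.liftKaehlerDifferential_comp_D]
    rfl
  have lift_add : ∀ (D E : Derivation A B B),
      (D + E).liftKaehlerDifferential = D.liftKaehlerDifferential + E.liftKaehlerDifferential := fun D E => by
    refine Derivation.liftKaehlerDifferential_unique _ _ (Derivation.ext fun b => ?_)
    show (D + E).liftKaehlerDifferential (KaehlerDifferential.D A B b) =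
      D.liftKaehlerDifferential (KaehlerDifferential.D A B b) + E.liftKaehlerDifferential (KaehlerDifferential.D A B b)
    rw [Derivation.liftKaehlerDifferential_comp_D, Derivation.liftKaehlerDifferential_comp_D,
      Derivation.liftKaehlerDifferential_comp_D]
    rfl
  have hsl : ∀ (D : Derivation A B B) (b : B) (m : M),
      Conn.alongDer nabla D (b • m) = b • Conn.alongDer nabla D m + D b • m := fun D b m => by
    simp [Conn.alongDer, Conn.along_apply, hc b m, Derivation.liftKaehlerDifferential_comp_D]
  have hsmul : ∀ (f : B) (D : Derivation A B B) (m : M),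
      Conn.alongDer nabla (f • D) m = f • Conn.alongDer nabla D m := fun f D m => by
    simp only [Conn.alongDer, Conn.along_apply, lift_smul]
    rw [TensorProduct.map_smul_right, LinearMap.smul_apply, map_smul]
  have hadd : ∀ (D E : Derivation A B B) (m : M),
      Conn.alongDer nabla (D + E) m = Conn.alongDer nabla D m + Conn.alongDer nabla E m := fun D E m => by
    simp only [Conn.alongDer, Conn.along_apply, lift_add]
    rw [TensorProduct.map_add_right, LinearMap.add_apply, map_add]
  obtain ⟨f, hf⟩ : ∃ f : B, θ = f • θ₀ := by
    refine ⟨θ.liftKaehlerDifferential (bΩ 0), Derivation.ext fun b => ?_⟩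
    show θ b = _ * θ₀ b
    have e : KaehlerDifferential.D A B b = bΩ.repr (KaehlerDifferential.D A B b) 0 • bΩ 0 := by
      conv_lhs => rw [← bΩ.sum_repr (KaehlerDifferential.D A B b)]
      rw [Fin.sum_univ_one]
    rw [← θ.liftKaehlerDifferential_comp_D b, ← θ₀.liftKaehlerDifferential_comp_D b, e, map_smul, map_smul,
      hθ₀, smul_eq_mul, smul_eq_mul, mul_one, mul_comm]
  subst hf
  have h0 := h (PCurvLib.iterDer p θ₀) fun b => PCurvLib.iterDer_apply p θ₀ b
  have hp : θp = f ^ p • PCurvLib.iterDer p θ₀ + PCurvLib.coefP θ₀ f p 1 • θ₀ := Derivation.ext fun b => by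
    rw [hθp b]
    show (fun x => f • θ₀ x)^[p] b = f ^ p * PCurvLib.iterDer p θ₀ b + PCurvLib.coefP θ₀ f p 1 * θ₀ b
    rw [PCurvLib.iterDer_apply]
    exact PCurvLib.iterate_prime_smul p θ₀ f (θ₀ : B →ₗ[A] B).toAddMonoidHom (fun x y => by
      show θ₀ (x • y) = _
      rw [smul_eq_mul, θ₀.leibniz]
      simp [mul_comm]) b
  ext m
  have h1 := congrArg (fun l : M →ₗ[A] M => l m) h0
  simp only [Conn.pCurv, LinearMap.sub_apply, LinearMap.zero_apply, sub_eq_zero, Module.End.pow_apply] at h1 ⊢
  rw [hp, hadd, hsmul, hsmul, ← h1, show ⇑(Conn.alongDer nabla (f • θ₀)) =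
    fun x => f • Conn.alongDer nabla θ₀ x from funext (hsmul f θ₀)]
  exact PCurvLib.iterate_prime_smul p θ₀ f (Conn.alongDer nabla θ₀).toAddMonoidHom (hsl θ₀) m

end Groth.Agent.S16794
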