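import Groth.Statements.S16796
import Groth.Agent.LogConnPieceLib.Basic

set_option autoImplicit false
universe v u
open LogConn

namespace Groth.Agent.S16796

open TensorProduct in
/-- Let B be a commutative algebra over a commutative ring A, λ ∈ B, and t₁, …, tₙ ∈ B elements whose
differentials dt₁, …, dtₙ form a basis of the Kähler differentials Ω of B over A; let L be a
B-module free on ω₁, …, ωₙ with a B-linear ι : Ω → L sending dtᵢ to tᵢ ωᵢ (ωᵢ playing the role of
dlog tᵢ), and E a B-module with an A-linear ∇ : E → E ⊗ L obeying the λ-twisted Leibniz rule ∇(b e)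
= b ∇e + λ e ⊗ ι(db); write ∇ᵢ for the components of ∇ in the basis ω, ∇_J for their composite over
a finite index set J in increasing order, and E_I = Σ_{J ⊆ I} (∏_{i ∈ I∖J} tᵢ) · ∇_J(E) (an
A-submodule of E) for a finite index set I. For each degree p let R^p ⊆ E ⊗ Λ^p L be the B-span of
the elements ∇_I(e) ⊗ (ω_{i₁} ∧ ⋯ ∧ ω_{i_l} ∧ ι(η₁) ∧ ⋯ ∧ ι(η_{p−l})) with I = {i₁ < ⋯ < i_l}, l ≤
p, e ∈ E, ηⱼ ∈ Ω (the degree-p part of the graded submodule generated by the ∇_I(e) ⊗ ω_I under
multiplication by forms from Ω). Then R^p is the set of elements of E ⊗ Λ^p L whose coordinate along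
ω_K = ω_{k₁} ∧ ⋯ ∧ ω_{k_p} lies in E_K for every set K of p indices; in other words R^p = ⊕_{|K| =
p} E_K ⊗ ω_K. (Flatness of ∇ is not used.) -/
theorem result {A : Type v} {B L E : Type u} [CommRing A] [CommRing B]
    [Algebra A B] [AddCommGroup L] [Module B L] [Module A L] [IsScalarTower A B L]
    [AddCommGroup E] [Module B E] [Module A E] [IsScalarTower A B E]
    (lam : B) {n : ℕ} (t : Fin n → B) (bΩ : Module.Basis (Fin n) B (KaehlerDifferential A B))
    (hbΩ : ∀ i, bΩ i = KaehlerDifferential.D A B (t i))
    (ω : Module.Basis (Fin n) B L) (ι : KaehlerDifferential A B →ₗ[B] L)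
    (hι : ∀ i, ι (KaehlerDifferential.D A B (t i)) = t i • ω i)
    (nabla : E →ₗ[A] E ⊗[B] L)
    (hc : Conn.IsLamConn (ι.compDer (KaehlerDifferential.D A B)) lam nabla)
    (p : ℕ) :
    (Submodule.span B (LogConn.gens nabla ω ι p)).restrictScalars A = LogConn.layer nabla ω t p := by
  classical
  refine le_antisymm ?_ ?_
  · have hcoord : ∀ (i : Fin n) (η : KaehlerDifferential A B), ω.coord i (ι η) = t i * bΩ.coord i η := by
      intro i η
      have h : (ω.coord i) ∘ₗ ι = t i • bΩ.coord i := bΩ.ext fun j => by
        rw [LinearMap.comp_apply, hbΩ j, hι, map_smul, LinearMap.smul_apply, ← hbΩ j, Module.Basis.coord_apply,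
          Module.Basis.coord_apply, Module.Basis.repr_self, Module.Basis.repr_self]
        by_cases hij : j = i
        · subst hij; rfl
        · simp [Finsupp.single_eq_of_ne (Ne.symm hij)]
      exact LinearMap.congr_fun h η
    intro x hx
    induction hx using Submodule.span_induction with
    | mem x hx =>
      obtain ⟨I, hI, e, v, hv1, hv2, rfl⟩ := hx
      refine Submodule.mem_iInf _ |>.2 fun K => ?_
      let κ := Set.powersetCard.ofFinEmbEquiv.symm K
      have hK : LogConn.coordE (E := E) ω p K (LogConn.compProd nabla ω I e ⊗ₜ[B] exteriorPower.ιMulti B p v) =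
          (Matrix.of fun k j => ω.coord (κ j) (v k)).det • LogConn.compProd nabla ω I e := by
        simp only [LogConn.coordE, LinearMap.comp_apply, LinearEquiv.coe_coe, TensorProduct.map_tmul,
          LinearMap.id_apply, TensorProduct.rid_tmul, exteriorPower.basis_coord, exteriorPower.ιMultiDual_apply_ιMulti]
        rfl
      show LogConn.coordE (E := E) ω p K _ ∈ LogConn.piece nabla ω t _
      rw [hK]
      by_cases hIK : I ⊆ (K : Finset (Fin n))
      · choose η hη using fun (k : Fin p) (hk : I.card ≤ k.val) => hv2 k hk
        let c : Fin p → B := fun j => if κ j ∈ I then 1 else t (κ j)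
        let M' : Matrix (Fin p) (Fin p) B := Matrix.of fun k j =>
          if hk : k.val < I.card then ω.coord (κ j) (v k)
          else if κ j ∈ I then ω.coord (κ j) (v k) else bΩ.coord (κ j) (η k (not_lt.1 hk))
        have hM : (Matrix.of fun k j => ω.coord (κ j) (v k)) = Matrix.of fun k j => c j * M' k j := by
          ext k j
          simp only [Matrix.of_apply, c, M']
          by_cases hk : k.val < I.card
          · rw [dif_pos hk]
            by_cases hj : κ j ∈ I
            · rw [if_pos hj, one_mul]
            · rw [if_neg hj, hv1 k hk, Module.Basis.coord_apply, Module.Basis.repr_self,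
                Finsupp.single_eq_of_ne (by exact fun h => hj (h ▸ Finset.orderEmbOfFin_mem I rfl _)), mul_zero]
          · rw [dif_neg hk]
            by_cases hj : κ j ∈ I
            · rw [if_pos hj, if_pos hj, one_mul]
            · rw [if_neg hj, if_neg hj, ← hcoord, hη k (not_lt.1 hk)]
        rw [hM, Matrix.det_mul_row]
        have hc' : ∏ j, c j = ∏ i ∈ (K : Finset (Fin n)) \ I, t i := by
          have hmap : (K : Finset (Fin n)) = Finset.univ.map κ.toEmbedding := by
            ext a
            simp only [Finset.mem_map, Finset.mem_univ, true_and]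
            exact (Set.powersetCard.mem_range_ofFinEmbEquiv_symm_iff_mem K a).symm
          rw [Finset.sdiff_eq_filter, hmap, Finset.prod_filter, Finset.prod_map]
          exact Finset.prod_congr rfl fun j _ => by simp only [c, RelEmbedding.coe_toEmbedding, ite_not]
        rw [hc', mul_comm, mul_smul]
        exact Groth.Agent.LogConnPieceLib.smul_mem bΩ hbΩ hι hc _ _ _
          (Groth.Agent.LogConnPieceLib.term_mem_piece _ I hIK e)
      · obtain ⟨i, hi, hiK⟩ := Finset.not_subset.1 hIK
        obtain ⟨k', hk'⟩ : i ∈ Set.range (I.orderEmbOfFin rfl) := by rw [Finset.range_orderEmbOfFin]; exact hi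
        rw [Matrix.det_eq_zero_of_row_eq_zero (⟨k'.val, lt_of_lt_of_le k'.isLt hI⟩ : Fin p) fun j => ?_, zero_smul]
        · exact zero_mem _
        · simp only [Matrix.of_apply]
          rw [hv1 _ k'.isLt, Module.Basis.coord_apply, Module.Basis.repr_self]
          refine Finsupp.single_eq_of_ne fun h => hiK ?_
          rw [← hk']
          exact (Set.powersetCard.mem_range_ofFinEmbEquiv_symm_iff_mem K _).1 ⟨j, h⟩
    | zero => exact zero_mem _
    | add _ _ _ _ hy hz => exact add_mem hy hz
    | smul r y _ hy =>
      refine Submodule.mem_iInf _ |>.2 fun K => ?_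
      show LogConn.coordE (E := E) ω p K (r • y) ∈ LogConn.piece nabla ω t _
      rw [map_smul]
      exact Groth.Agent.LogConnPieceLib.smul_mem bΩ hbΩ hι hc _ r _ (Submodule.mem_iInf _ |>.1 hy K)
  · intro x hx
    let b := ω.exteriorPower p
    have hx' : ∀ y : E ⊗[B] ↥(⋀[B]^p L), y = ∑ K, LogConn.coordE (E := E) ω p K y ⊗ₜ[B] b K := by
      intro y
      induction y using TensorProduct.induction_on with
      | zero => simp
      | tmul e w =>
        conv_lhs => rw [← b.sum_repr w, TensorProduct.tmul_sum]
        refine Finset.sum_congr rfl fun K _ => ?_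
        simp only [LogConn.coordE, LinearMap.comp_apply, LinearEquiv.coe_coe, TensorProduct.map_tmul,
          LinearMap.id_apply, TensorProduct.rid_tmul, Module.Basis.coord_apply]
        rw [TensorProduct.smul_tmul]
      | add y z hy hz => simp only [map_add, TensorProduct.add_tmul, Finset.sum_add_distrib]; exact congrArg₂ (· + ·) hy hz
    rw [hx' x]
    refine sum_mem fun K _ => ?_
    let S := Submodule.span B (LogConn.gens nabla ω ι p)
    have hle : LogConn.piece nabla ω t (K : Finset (Fin n)) ≤
        (S.comap ((TensorProduct.mk B E ↥(⋀[B]^p L)).flip (b K))).restrictScalars A := by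
      refine iSup₂_le fun J hJ => ?_
      rintro _ ⟨e, rfl⟩
      rw [Finset.mem_powerset] at hJ
      have hcard : ((K : Finset (Fin n)) \ J).card = p - J.card := by
        rw [Finset.card_sdiff_of_subset hJ, K.prop]
      have hJp : J.card ≤ p := K.prop ▸ Finset.card_le_card hJ
      let g : Fin p → Fin n := fun k => if hk : k.val < J.card then J.orderEmbOfFin rfl ⟨k.val, hk⟩
        else ((K : Finset (Fin n)) \ J).orderEmbOfFin hcard ⟨k.val - J.card, by omega⟩
      have hgK : ∀ k, g k ∈ (K : Finset (Fin n)) := fun k => by
        simp only [g]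
        split_ifs with hk
        · exact hJ (Finset.orderEmbOfFin_mem J rfl _)
        · exact (Finset.mem_sdiff.1 (Finset.orderEmbOfFin_mem _ hcard _)).1
      have hginj : Function.Injective g := fun a b' h => by
        simp only [g] at h
        split_ifs at h with ha hb hb
        · exact Fin.ext (Fin.mk.inj_iff.1 ((J.orderEmbOfFin rfl).injective h))
        · exact absurd (h ▸ Finset.orderEmbOfFin_mem J rfl _) (Finset.mem_sdiff.1 (Finset.orderEmbOfFin_mem _ hcard _)).2
        · exact absurd (h.symm ▸ Finset.orderEmbOfFin_mem J rfl _) (Finset.mem_sdiff.1 (Finset.orderEmbOfFin_mem _ hcard _)).2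
        · have := Fin.mk.inj_iff.1 ((((K : Finset (Fin n)) \ J).orderEmbOfFin hcard).injective h)
          exact Fin.ext (by omega)
      let κ := Set.powersetCard.ofFinEmbEquiv.symm K
      choose σ hσ using fun k => (Set.powersetCard.mem_range_ofFinEmbEquiv_symm_iff_mem K (g k)).2 (hgK k)
      have hσinj : Function.Injective σ := fun a b' h => hginj (by rw [← hσ a, ← hσ b', h])
      let σ' := Equiv.ofBijective σ (Finite.injective_iff_bijective.1 hσinj)
      let v : Fin p → L := fun k => if k.val < J.card then ω (g k) else t (g k) • ω (g k)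
      have hv : exteriorPower.ιMulti B p v =
          (∏ k, if k.val < J.card then (1 : B) else t (g k)) • ((Equiv.Perm.sign σ' : ℤˣ) • b K) := by
        have e1 : v = fun k => (if k.val < J.card then (1 : B) else t (g k)) • (fun k => ω (κ (σ' k))) k := funext fun k => by
          simp only [v]
          rw [show κ (σ' k) = g k from hσ k]
          split_ifs with hk
          · rw [one_smul]
          · rfl
        rw [e1, AlternatingMap.map_smul_univ]
        congr 1
        rw [show (fun k => ω (κ (σ' k))) = (fun k => ω (κ k)) ∘ σ' from rfl, AlternatingMap.map_perm]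
        congr 1
        exact (exteriorPower.basis_apply B p ω K).symm
      have hprod : (∏ k : Fin p, if k.val < J.card then (1 : B) else t (g k)) = ∏ i ∈ (K : Finset (Fin n)) \ J, t i := by
        rw [Finset.prod_ite, Finset.prod_const_one, one_mul]
        refine Finset.prod_bij (fun k _ => g k) (fun k hk => ?_) (fun a _ b' _ h => hginj h) (fun i hi => ?_) (fun _ _ => rfl)
        · simp only [Finset.mem_filter, Finset.mem_univ, true_and] at hk
          simp only [g, dif_neg hk]
          exact Finset.orderEmbOfFin_mem _ hcard _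
        · obtain ⟨q, rfl⟩ : i ∈ Set.range (((K : Finset (Fin n)) \ J).orderEmbOfFin hcard) := by
            rw [Finset.range_orderEmbOfFin]; exact hi
          refine ⟨⟨J.card + q.val, by omega⟩, by simp, ?_⟩
          simp only [g, dif_neg (show ¬ J.card + q.val < J.card by omega), Nat.add_sub_cancel_left]
      have hmem : LogConn.compProd nabla ω J e ⊗ₜ[B] exteriorPower.ιMulti B p v ∈ S := by
        refine Submodule.subset_span ⟨J, hJp, e, v, fun k hk => ?_, fun k hk => ?_, rfl⟩
        · simp only [v, g, if_pos hk, dif_pos hk]
        · simp only [v, if_neg (not_lt.2 hk)]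
          exact ⟨KaehlerDifferential.D A B (t (g k)), hι _⟩
      rw [hv, hprod] at hmem
      show ((∏ i ∈ (K : Finset (Fin n)) \ J, t i) • LogConn.compProd nabla ω J e) ⊗ₜ[B] b K ∈ S
      rw [TensorProduct.smul_tmul]
      rcases Int.units_eq_one_or (Equiv.Perm.sign σ') with hs | hs
      · rwa [hs, one_smul] at hmem
      · rw [hs, Units.neg_smul, one_smul, smul_neg, TensorProduct.tmul_neg] at hmem
        exact neg_mem_iff.1 hmem
    exact hle (Submodule.mem_iInf _ |>.1 hx K)

end Groth.Agent.S16796
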