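import Groth.Statements.S16801
import Groth.Agent.Comodule.HilbertFG

set_option autoImplicit false
universe u
open LunaSt

namespace Groth.Agent.S16801

/-- Let `k` be a field and `H` a commutative Hopf algebra of finite type over `k` all of whose
finite-dimensional comodules are semisimple (a linearly reductive affine group `G = Spec H` of
finite type). Let `A` be a Noetherian commutative `k`-algebra with a coaction of `H` that is an
algebra map (an action of `G` on `Spec A`), and `C` a commutative `A`-algebra of finite type with a
coaction of `H` that is an algebra map, such that the structure map `A → C` is a comodule map (a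
finitely generated `G`-equivariant quasi-coherent algebra on `Spec A`). Then the invariants `C^G`
form a finitely generated algebra over `A^G`: there is a finite subset `s` of `C` such that `C^G` is
the `k`-subalgebra generated by the image of `A^G` and `s`. (The published statement is that for a
Noetherian algebraic stack with a good moduli space `π`, pushforward along `π` preserves finitely
generated algebras; this row is its case `[Spec A/G] → Spec A^G`, for which the pushforward of the
algebra given by `C` has global sections `C^G`. All of `k`, `H`, `A`, `C` are taken in one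
universe.) -/
theorem result
    (k : Type u) [Field k] (H : Type u) [CommRing H] [HopfAlgebra k H] [Algebra.FiniteType k H]
    (hG : HopfRep.IsLinearlyReductive k H)
    (A : Type u) [CommRing A] [Algebra k A] [IsNoetherianRing A]
    [HopfRep.Comod k H A] [GLin.IsCoactAlg k H A]
    (C : Type u) [CommRing C] [Algebra k C] [HopfRep.Comod k H C] [GLin.IsCoactAlg k H C]
    [Algebra A C] [IsScalarTower k A C] [Algebra.FiniteType A C]
    (hAC : Hoch.IsComodHom H (IsScalarTower.toAlgHom k A C).toLinearMap) :
    ∃ s : Finset C, GLin.invariants k H C =
      Algebra.adjoin k (⇑(algebraMap A C) '' ↑(GLin.invariants k H A) ∪ ↑s) := by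
  open TensorProduct in
  let φ : A →ₐ[k] C := IsScalarTower.toAlgHom k A C
  let B₀ : Subalgebra k C := φ.range
  haveI : IsNoetherianRing B₀ := isNoetherianRing_of_surjective A _ φ.rangeRestrict.toRingHom φ.rangeRestrict_surjective
  letI : Algebra A B₀ := φ.rangeRestrict.toRingHom.toAlgebra
  haveI : IsScalarTower A B₀ C := IsScalarTower.of_algebraMap_eq fun a => rfl
  haveI : Algebra.FiniteType B₀ C := Algebra.FiniteType.of_restrictScalars_finiteType A B₀ C
  have hcomm : ∀ a : A, HopfRep.Comod.coact (k := k) (A := H) (φ a) =
      φ.toLinearMap.rTensor H (HopfRep.Comod.coact (k := k) (A := H) a) := fun a => LinearMap.congr_fun hAC a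
  obtain ⟨s, hs, heq⟩ := Groth.Agent.Comodule.HilbertFG.exists_finset_invariants_eq_adjoin hG B₀ (by
    rintro _ ⟨a, rfl⟩
    refine ⟨φ.rangeRestrict.toLinearMap.rTensor H (HopfRep.Comod.coact (k := k) (A := H) a), ?_⟩
    rw [← LinearMap.rTensor_comp_apply]
    exact (hcomm a).symm)
  refine ⟨s, heq.trans (le_antisymm (Algebra.adjoin_le ?_) (Algebra.adjoin_mono ?_))⟩
  · rintro x (⟨⟨a, rfl⟩, hxi⟩ | hx)
    · haveI : TameAct.IsHopfMod k H A C :=
        { coact_smul := fun b m => by
            rw [Algebra.smul_def, GLin.IsCoactAlg.coact_mul, show algebraMap A C b = φ b from rfl, hcomm]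
            generalize HopfRep.Comod.coact (k := k) (A := H) b = z
            generalize HopfRep.Comod.coact (k := k) (A := H) m = y
            induction z with
            | zero => simp
            | add p q hp hq => simp only [add_mul, map_add, LinearMap.add_apply, hp, hq]
            | tmul p q =>
              induction y with
              | zero => simp
              | add r t hr ht => simp only [mul_add, map_add, hr, ht]
              | tmul r t => simp [φ, Algebra.smul_def] }
      obtain ⟨α, hα, h1⟩ := Groth.Agent.Comodule.InvFinite.exists_total A hG
      refine Algebra.subset_adjoin (Or.inl ⟨TameAct.reynolds k H A A α a,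
        Groth.Agent.Comodule.reynolds_mem_fixedPts α hα a, ?_⟩)
      have e := Groth.Agent.Comodule.reynolds_natural (k := k) (A := H) α (Algebra.linearMap A C) hAC a
      rw [Algebra.linearMap_apply, Algebra.linearMap_apply] at e
      exact e.trans (Groth.Agent.Comodule.reynolds_fixed α h1 (m := algebraMap A C a) hxi)
    · exact Algebra.subset_adjoin (Or.inr hx)
  · refine Set.union_subset_union_left _ ?_
    rintro _ ⟨a, ha, rfl⟩
    refine ⟨⟨a, rfl⟩, ?_⟩
    show HopfRep.Comod.coact (k := k) (A := H) (φ a) = φ a ⊗ₜ[k] (1 : H)
    rw [hcomm, (GLin.mem_invariants_iff _ _ _ _).1 ha]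
    rfl

end Groth.Agent.S16801
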