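import Groth.Statements.S16805
import Groth.Agent.DecSec.OnePointStack
-- import your own Groth.Agent.* helpers here

set_option autoImplicit false
set_option backward.isDefEq.respectTransparency false
universe u
open CategoryTheory AlgebraicGeometry
open Gerb Groth.Agent.DecSec

namespace Groth.Agent.S16805

/-- For an algebraic stack 𝒵 the following are equivalent: 𝒵 is reduced with exactly one point; 𝒵
receives a surjective flat morphism from the spectrum of a field; 𝒵 receives a locally of finite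
type, surjective, flat morphism from the spectrum of a field. -/
theorem result
    (S : Scheme.{u}) (𝒵 : AlgSt.Cat S) (h𝒵 : AlgSt.IsAlgStack Scheme.fppfPrecoverage 𝒵) :
    [AlgSt.SmoothLocally (fun T => IsReduced T) 𝒵 ∧ Nonempty (AlgSt.Points 𝒵) ∧ Subsingleton (AlgSt.Points 𝒵),
      ∃ (k : Type u) (_ : Field k) (a : Spec (CommRingCat.of k) ⟶ S)
        (z : FibCat.overCat (Over.mk a) ⥤ᵇ 𝒵), AlgSt.RepByAlgSpWith AlgSp.IsSurjectiveMor z ∧ AlgSt.RepByAlgSpWith (AlgSp.LocP @Flat) z,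
      ∃ (k : Type u) (_ : Field k) (a : Spec (CommRingCat.of k) ⟶ S)
        (z : FibCat.overCat (Over.mk a) ⥤ᵇ 𝒵), AlgSt.RepByAlgSpWith (AlgSp.LocP @LocallyOfFiniteType) z ∧
          AlgSt.RepByAlgSpWith AlgSp.IsSurjectiveMor z ∧ AlgSt.RepByAlgSpWith (AlgSp.LocP @Flat) z].TFAE := by
  haveI := h𝒵.isStack.1
  tfae_have 1 → 3 := by
    rintro ⟨hred, hne, hsub⟩
    haveI := hne
    haveI := hsub
    obtain ⟨k₁, hk₁, a₁, z₁, hs₁, hf₁⟩ := exists_point_of_reduced h𝒵 hred
    obtain ⟨k, hk, a, z, hz, -⟩ := exists_lft_point h𝒵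
    exact ⟨k, hk, a, z, hz, surjective_point_of_subsingleton h𝒵 z, flat_point h𝒵 hs₁ hf₁ z⟩
  tfae_have 3 → 2 := fun ⟨k, hk, a, z, _, h₂, h₃⟩ => ⟨k, hk, a, z, h₂, h₃⟩
  tfae_have 2 → 1 := fun ⟨k, hk, a, z, h₂, h₃⟩ =>
    ⟨smoothLocally_reduced_of_point h𝒵 h₂ h₃, (subsingleton_points_of_point h₂).1, (subsingleton_points_of_point h₂).2⟩
  tfae_finish

end Groth.Agent.S16805
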