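import Groth.Statements.S16808
import Groth.Agent.DecSec.ResGerbe
-- import your own Groth.Agent.* helpers here

set_option autoImplicit false
set_option backward.isDefEq.respectTransparency false
universe u
open CategoryTheory AlgebraicGeometry
open Gerb Groth.Agent.DecSec

namespace Groth.Agent.S16808

/-- Let the algebraic stack 𝒵 receive a surjective flat morphism from the spectrum of a field. Then
there is a unique strictly full subcategory of 𝒵 which is an algebraic stack receiving a locally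
finitely presented, surjective, flat morphism from the spectrum of a field; its inclusion into 𝒵 is
a monomorphism. -/
theorem result
    (S : Scheme.{u}) (𝒵 : AlgSt.Cat S) (h𝒵 : AlgSt.IsAlgStack Scheme.fppfPrecoverage 𝒵)
    (k : Type u) [Field k] (a : Spec (CommRingCat.of k) ⟶ S)
    (z : FibCat.overCat (Over.mk a) ⥤ᵇ 𝒵)
    (hzs : AlgSt.RepByAlgSpWith AlgSp.IsSurjectiveMor z) (hzf : AlgSt.RepByAlgSpWith (AlgSp.LocP @Flat) z) :
    ∃ Q : 𝒵.obj → Prop,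
      (ObjectProperty.IsClosedUnderIsomorphisms Q ∧ AlgSt.IsAlgStack Scheme.fppfPrecoverage (AlgSt.fullSub 𝒵 Q) ∧
        (∃ (k' : Type u) (_ : Field k') (a' : Spec (CommRingCat.of k') ⟶ S)
          (z' : FibCat.overCat (Over.mk a') ⥤ᵇ AlgSt.fullSub 𝒵 Q),
          AlgSt.RepByAlgSpWith (AlgSp.LocP @LocallyOfFinitePresentation) z' ∧
            AlgSt.RepByAlgSpWith AlgSp.IsSurjectiveMor z' ∧ AlgSt.RepByAlgSpWith (AlgSp.LocP @Flat) z') ∧
        AlgSt.IsMono (AlgSt.subIncl 𝒵 Q)) ∧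
      ∀ Q' : 𝒵.obj → Prop, ObjectProperty.IsClosedUnderIsomorphisms Q' → AlgSt.IsAlgStack Scheme.fppfPrecoverage (AlgSt.fullSub 𝒵 Q') →
        (∃ (k' : Type u) (_ : Field k') (a' : Spec (CommRingCat.of k') ⟶ S)
          (z' : FibCat.overCat (Over.mk a') ⥤ᵇ AlgSt.fullSub 𝒵 Q'),
          AlgSt.RepByAlgSpWith (AlgSp.LocP @LocallyOfFinitePresentation) z' ∧
            AlgSt.RepByAlgSpWith AlgSp.IsSurjectiveMor z' ∧ AlgSt.RepByAlgSpWith (AlgSp.LocP @Flat) z') →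
        ∀ ξ : 𝒵.obj, Q' ξ ↔ Q ξ := by
  haveI := h𝒵.isStack.1
  haveI := (subsingleton_points_of_point hzs).1
  haveI := (subsingleton_points_of_point hzs).2
  obtain ⟨Q, hiso, hA, hpt, hmono⟩ := exists_fullSub_fppf_point h𝒵 (smoothLocally_reduced_of_point h𝒵 hzs hzf)
  refine ⟨Q, ⟨hiso, hA, hpt, hmono⟩, fun Q' hiso' hA' hpt' ξ => ?_⟩
  haveI := hA.isStack.1
  haveI := hA'.isStack.1
  obtain ⟨k₁, hk₁, a₁, z₁, p₁, s₁, f₁⟩ := hpt
  obtain ⟨k₂, hk₂, a₂, z₂, p₂, s₂, f₂⟩ := hpt'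
  obtain ⟨w₁⟩ := (subsingleton_points_of_point s₁).1
  obtain ⟨w₂⟩ := (subsingleton_points_of_point s₂).1
  exact ⟨fun h => forall_mem_of_point h𝒵 hiso hA (AlgSt.subIncl 𝒵 Q') p₂ s₂ f₂
      (fun _ => ⟨w₁, Subsingleton.elim _ _⟩) ⟨ξ, h⟩,
    fun h => forall_mem_of_point h𝒵 hiso' hA' (AlgSt.subIncl 𝒵 Q) p₁ s₁ f₁
      (fun _ => ⟨w₂, Subsingleton.elim _ _⟩) ⟨ξ, h⟩⟩

end Groth.Agent.S16808
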