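import Groth.Statements.S16809
import Groth.Agent.DecSec.ResGerbe
-- import your own Groth.Agent.* helpers here

set_option autoImplicit false
set_option backward.isDefEq.respectTransparency false
universe u
open CategoryTheory AlgebraicGeometry
open Gerb Groth.Agent.DecSec

namespace Groth.Agent.S16809

/-- (1)⇔(2)⇔(3): for a point x of an algebraic stack 𝒳 the following are equivalent: some algebraic
stack with exactly one point maps monomorphically to 𝒳 onto x; some reduced algebraic stack with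
exactly one point does; some algebraic stack 𝒵 with a monomorphism f : 𝒵 → 𝒳 receives a surjective
flat morphism z from the spectrum of a field with f(z) = x. -/
theorem result
    (S : Scheme.{u}) (𝒳 : AlgSt.Cat S) (h𝒳 : AlgSt.IsAlgStack Scheme.fppfPrecoverage 𝒳) (x : AlgSt.Points 𝒳) :
    [Gerb.ResGerbeExists Scheme.fppfPrecoverage 𝒳 x,
      ∃ (𝒵 : AlgSt.Cat S) (f : 𝒵 ⥤ᵇ 𝒳), AlgSt.IsAlgStack Scheme.fppfPrecoverage 𝒵 ∧
        AlgSt.SmoothLocally (fun T => IsReduced T) 𝒵 ∧ AlgSt.IsMono f ∧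
        Nonempty (AlgSt.Points 𝒵) ∧ Subsingleton (AlgSt.Points 𝒵) ∧ ∀ p, AlgSt.Points.map f p = x,
      ∃ (𝒵 : AlgSt.Cat S) (f : 𝒵 ⥤ᵇ 𝒳) (k : Type u) (_ : Field k) (a : Spec (CommRingCat.of k) ⟶ S)
        (z : FibCat.overCat (Over.mk a) ⥤ᵇ 𝒵), AlgSt.IsAlgStack Scheme.fppfPrecoverage 𝒵 ∧ AlgSt.IsMono f ∧
        AlgSt.RepByAlgSpWith AlgSp.IsSurjectiveMor z ∧ AlgSt.RepByAlgSpWith (AlgSp.LocP @Flat) z ∧
        ∀ t : ↥(Over.mk a).left, AlgSt.Points.map f (AlgSt.Points.ofChart z t) = x].TFAE := by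
  haveI := h𝒳.isStack.1
  tfae_have 1 → 2 := by
    rintro ⟨𝒵, f, hA, hf, hne, hsub, hfx⟩
    haveI := hA.isStack.1
    haveI := hsub
    obtain ⟨Q, hQ, hrange, hred⟩ := exists_reduced_closedSubstack hA Set.univ isClosed_univ
    haveI := hQ.2.1.isStack.1
    haveI := (Groth.Agent.ASt.full_faithful_of_isMono hf).1
    haveI := (Groth.Agent.ASt.full_faithful_of_isMono hf).2
    haveI : (BasedFunctor.comp (AlgSt.subIncl 𝒵 Q) f).toFunctor.Faithful :=
      inferInstanceAs (ObjectProperty.ι Q ⋙ f.toFunctor).Faithful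
    haveI : (BasedFunctor.comp (AlgSt.subIncl 𝒵 Q) f).toFunctor.Full :=
      inferInstanceAs (ObjectProperty.ι Q ⋙ f.toFunctor).Full
    haveI : (AlgSt.subIncl 𝒵 Q).toFunctor.Full := inferInstanceAs (ObjectProperty.ι Q).Full
    obtain ⟨p⟩ := hne
    obtain ⟨q, -⟩ := hrange.superset (Set.mem_univ p)
    refine ⟨AlgSt.fullSub 𝒵 Q, BasedFunctor.comp (AlgSt.subIncl 𝒵 Q) f, hQ.2.1, hred,
      Groth.Agent.Boot.isMono_of_full_faithful hQ.2.1 h𝒳 (BasedFunctor.comp (AlgSt.subIncl 𝒵 Q) f),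
      ⟨q⟩, (Groth.Agent.ASt.injective_map_of_full (AlgSt.subIncl 𝒵 Q)).subsingleton, fun w => ?_⟩
    rw [← Groth.Agent.ASt.map_map]
    exact hfx _
  tfae_have 2 → 3 := by
    rintro ⟨𝒵, f, hA, hred, hf, hne, hsub, hfx⟩
    haveI := hA.isStack.1
    haveI := hne
    haveI := hsub
    obtain ⟨k, hk, a, z, hs, hfl⟩ := exists_point_of_reduced hA hred
    exact ⟨𝒵, f, k, hk, a, z, hA, hf, hs, hfl, fun _ => hfx _⟩
  tfae_have 3 → 1 := by
    rintro ⟨𝒵, f, k, hk, a, z, hA, hf, hs, -, hx⟩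
    haveI := hA.isStack.1
    obtain ⟨h1, h2⟩ := subsingleton_points_of_point hs
    haveI := h2
    exact ⟨𝒵, f, hA, hf, h1, h2, fun p => (congrArg _ (Subsingleton.elim p _)).trans (hx (IsLocalRing.closedPoint k))⟩
  tfae_finish

end Groth.Agent.S16809
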