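import Groth.Statements.S16810
import Groth.Agent.DecSec.ResGerbe
-- import your own Groth.Agent.* helpers here

set_option autoImplicit false
set_option backward.isDefEq.respectTransparency false
universe u
open CategoryTheory AlgebraicGeometry
open Gerb Groth.Agent.DecSec

namespace Groth.Agent.S16810

/-- If some reduced algebraic stack with exactly one point admits a monomorphism to the algebraic stack
𝒳 with image the point x, then there is a unique strictly full subcategory of 𝒳 which is a reduced,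
locally Noetherian algebraic stack with exactly one point mapping to x. -/
theorem result
    (S : Scheme.{u}) (𝒳 : AlgSt.Cat S) (h𝒳 : AlgSt.IsAlgStack Scheme.fppfPrecoverage 𝒳) (x : AlgSt.Points 𝒳)
    (𝒵 : AlgSt.Cat S) (h𝒵 : AlgSt.IsAlgStack Scheme.fppfPrecoverage 𝒵)
    (hred : AlgSt.SmoothLocally (fun T => IsReduced T) 𝒵)
    (hne : Nonempty (AlgSt.Points 𝒵)) (hsub : Subsingleton (AlgSt.Points 𝒵))
    (f : 𝒵 ⥤ᵇ 𝒳) (hf : AlgSt.IsMono f) (hfx : ∀ p : AlgSt.Points 𝒵, AlgSt.Points.map f p = x) :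
    ∃ Q : 𝒳.obj → Prop, Gerb.IsResGerbe Scheme.fppfPrecoverage 𝒳 x Q ∧
      ∀ Q' : 𝒳.obj → Prop, Gerb.IsResGerbe Scheme.fppfPrecoverage 𝒳 x Q' → ∀ ξ : 𝒳.obj, Q' ξ ↔ Q ξ := by
  haveI := h𝒳.isStack.1
  haveI := h𝒵.isStack.1
  haveI := hne
  haveI := hsub
  obtain ⟨Q₀, hiso, hA, ⟨k, hk, a, z, h₁, h₂, h₃⟩, hmono⟩ := exists_fullSub_fppf_point h𝒵 hred
  haveI := hA.isStack.1
  haveI := (Groth.Agent.ASt.full_faithful_of_isMono hf).1
  haveI := (Groth.Agent.ASt.full_faithful_of_isMono hf).2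
  haveI : (BasedFunctor.comp (AlgSt.subIncl 𝒵 Q₀) f).toFunctor.Faithful :=
    inferInstanceAs (ObjectProperty.ι Q₀ ⋙ f.toFunctor).Faithful
  haveI : (BasedFunctor.comp (AlgSt.subIncl 𝒵 Q₀) f).toFunctor.Full :=
    inferInstanceAs (ObjectProperty.ι Q₀ ⋙ f.toFunctor).Full
  have h := (isResGerbe_essImg hA (BasedFunctor.comp (AlgSt.subIncl 𝒵 Q₀) f)
    (Groth.Agent.Boot.isMono_of_full_faithful hA h𝒳 _) x
    (fun p => by rw [← Groth.Agent.ASt.map_map]; exact hfx _) h₁ h₂ h₃).1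
  exact ⟨_, h, fun Q' hQ' ξ => ⟨resGerbe_le h𝒳 hQ' h ξ, resGerbe_le h𝒳 h hQ' ξ⟩⟩

end Groth.Agent.S16810
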