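import Groth.Statements.S16814
import Groth.Agent.DecSec.OnePointStack
import Groth.Agent.Boot.LocEss
-- import your own Groth.Agent.* helpers here

set_option autoImplicit false
set_option backward.isDefEq.respectTransparency false
universe u
open CategoryTheory AlgebraicGeometry
open Gerb Groth.Agent.DecSec

namespace Groth.Agent.S16814

/-- Let f : 𝒳 → 𝒴 be a morphism of algebraic stacks and x a point of 𝒳 with image y. If the residual
gerbes 𝒵_x ⊂ 𝒳 and 𝒵_y ⊂ 𝒴 exist, then f induces a morphism 𝒵_x → 𝒵_y making the square with the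
inclusions commute up to 2-isomorphism. -/
theorem result
    (S : Scheme.{u}) (𝒳 𝒴 : AlgSt.Cat S) (h𝒳 : AlgSt.IsAlgStack Scheme.fppfPrecoverage 𝒳) (h𝒴 : AlgSt.IsAlgStack Scheme.fppfPrecoverage 𝒴)
    (f : 𝒳 ⥤ᵇ 𝒴) (x : AlgSt.Points 𝒳)
    (Q : 𝒳.obj → Prop) (hQ : Gerb.IsResGerbe Scheme.fppfPrecoverage 𝒳 x Q)
    (Q' : 𝒴.obj → Prop) (hQ' : Gerb.IsResGerbe Scheme.fppfPrecoverage 𝒴 (AlgSt.Points.map f x) Q') :
    ∃ g : AlgSt.fullSub 𝒳 Q ⥤ᵇ AlgSt.fullSub 𝒴 Q',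
      Nonempty (BasedFunctor.comp g (AlgSt.subIncl 𝒴 Q') ≅ BasedFunctor.comp (AlgSt.subIncl 𝒳 Q) f) := by
  obtain ⟨hiso, hA, hred, hn, hne, hsub, hx⟩ := hQ
  obtain ⟨hiso', hA', -, -, hne', -, hx'⟩ := hQ'
  haveI := h𝒳.isStack.1
  haveI := h𝒴.isStack.1
  haveI := hA.isStack.1
  haveI := hA'.isStack.1
  haveI := hne
  haveI := hsub
  let F := BasedFunctor.comp (AlgSt.subIncl 𝒳 Q) f
  obtain ⟨k, hk, a, z, h₁, h₂, h₃⟩ := exists_fppf_point hA hred hn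
  obtain ⟨y₀⟩ := hne'
  obtain ⟨Ω, hΩ, w, e, he⟩ := exists_mem_ext hiso' hA'.isStack (BasedFunctor.comp z F)
    (t := IsLocalRing.closedPoint k) ⟨y₀, by
      rw [hx', Groth.Agent.ASt.ofChart_comp, ← Groth.Agent.ASt.map_map]
      exact congrArg (AlgSt.Points.map f) (hx _).symm⟩
  have hz : ∀ g, Q' ((BasedFunctor.comp z F).obj g) := fun g => mem_of_field h𝒴 hiso' hA' _ e he g.hom
  have hall : ∀ o, Q' (F.obj o) := fun o => by
    let y := Groth.Agent.ASt.objFun o (rfl : (AlgSt.fullSub 𝒳 Q).p.obj o = _)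
    obtain ⟨V, l, hl₁, hl₂, hl₃, ω, hω, φ, hφ⟩ := Groth.Agent.Boot.exists_fppf_lift h₃ h₁ h₂ y
    haveI := hl₁
    haveI := hl₂
    haveI := hl₃
    haveI : IsIso φ := Groth.Agent.ASt.isIso_of_vert φ hφ
    have h := mem_of_fppf h𝒴 hiso' hA' l (BasedFunctor.comp y F)
      (hiso'.of_iso (F.toFunctor.mapIso (asIso φ)).symm (hz ω)) (𝟙 _)
    haveI : IsIso (Groth.Agent.ASt.pullHom o (rfl : (AlgSt.fullSub 𝒳 Q).p.obj o = _) (𝟙 _)) := by
      have : IsIso ((AlgSt.fullSub 𝒳 Q).p.map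
          (Groth.Agent.ASt.pullHom o (rfl : (AlgSt.fullSub 𝒳 Q).p.obj o = _) (𝟙 _))) := by
        rw [Groth.Agent.ASt.map_pullHom]; infer_instance
      exact Groth.Agent.ASt.isIso_of_isIso_map _
    exact hiso'.of_iso (F.toFunctor.mapIso
      (asIso (Groth.Agent.ASt.pullHom o (rfl : (AlgSt.fullSub 𝒳 Q).p.obj o = _) (𝟙 _)))) h
  refine ⟨liftFullSub Q' F hall, ?_⟩
  rw [liftFullSub_comp]
  exact ⟨Iso.refl _⟩

end Groth.Agent.S16814
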