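import Groth.Statements.S16815
import Groth.Agent.ResIsoLib.Transfer
import Groth.Agent.S16813
import Groth.Agent.S16814

set_option autoImplicit false
set_option backward.isDefEq.respectTransparency false
universe u
open CategoryTheory AlgebraicGeometry
open Gerb

namespace Groth.Agent.S16815

/-- Let f : 𝒳 → 𝒴 be a morphism of algebraic stacks, x a point of 𝒳 with image y, with residual gerbes
𝒵_x and 𝒵_y. Suppose some morphism p from the spectrum of a field k to 𝒳, representing x, makes the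
comparison map from Spec k ×_𝒳 Spec k to Spec k ×_𝒴 Spec k an isomorphism. Then the induced 𝒵_x →
𝒵_y is an isomorphism (an equivalence). -/
theorem result
    (S : Scheme.{u}) (𝒳 𝒴 : AlgSt.Cat S) (h𝒳 : AlgSt.IsAlgStack Scheme.fppfPrecoverage 𝒳) (h𝒴 : AlgSt.IsAlgStack Scheme.fppfPrecoverage 𝒴)
    (f : 𝒳 ⥤ᵇ 𝒴) (x : AlgSt.Points 𝒳)
    (Q : 𝒳.obj → Prop) (hQ : Gerb.IsResGerbe Scheme.fppfPrecoverage 𝒳 x Q)
    (Q' : 𝒴.obj → Prop) (hQ' : Gerb.IsResGerbe Scheme.fppfPrecoverage 𝒴 (AlgSt.Points.map f x) Q')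
    (k : Type u) [Field k] (a : Spec (CommRingCat.of k) ⟶ S)
    (p : FibCat.overCat (Over.mk a) ⥤ᵇ 𝒳)
    (hp : ∀ t : ↥(Over.mk a).left, AlgSt.Points.ofChart p t = x)
    (e : BasedFunctor.comp (FibCat.fpFst p p) (BasedFunctor.comp p f) ≅
      BasedFunctor.comp (FibCat.fpSnd p p) (BasedFunctor.comp p f))
    (he : ∀ c, e.hom.toNatTrans.app c = f.map c.obj.iso.hom)
    (hiso : FibCat.IsEquivOver (FibCat.fpLift (FibCat.fpFst p p) (FibCat.fpSnd p p) e)) :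
    ∃ g : AlgSt.fullSub 𝒳 Q ⥤ᵇ AlgSt.fullSub 𝒴 Q',
      Nonempty (BasedFunctor.comp g (AlgSt.subIncl 𝒴 Q') ≅ BasedFunctor.comp (AlgSt.subIncl 𝒳 Q) f) ∧
      FibCat.IsEquivOver g := by
  obtain ⟨g, ⟨θg⟩⟩ := Groth.Agent.S16814.result S 𝒳 𝒴 h𝒳 h𝒴 f x Q hQ Q' hQ'
  obtain ⟨q, ⟨θ⟩⟩ := Groth.Agent.S16813.result S 𝒳 h𝒳 x Q hQ k a p hp
  obtain ⟨-, hA, hred, hn, hne, hsub, -⟩ := hQ
  obtain ⟨-, hA', hred', hn', hne', hsub', -⟩ := hQ'
  haveI := h𝒳.isStack.1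
  haveI := h𝒴.isStack.1
  haveI := hA.isStack.1
  haveI := hA'.isStack.1
  haveI := hne
  haveI := hsub
  haveI := hne'
  haveI := hsub'
  haveI : (AlgSt.subIncl 𝒳 Q).toFunctor.Full := inferInstanceAs (ObjectProperty.ι Q).Full
  haveI : (AlgSt.subIncl 𝒳 Q).toFunctor.Faithful := inferInstanceAs (ObjectProperty.ι Q).Faithful
  haveI : (AlgSt.subIncl 𝒴 Q').toFunctor.Faithful := inferInstanceAs (ObjectProperty.ι Q').Faithful
  have htr : Groth.Agent.ResIsoLib.Tr g q := Groth.Agent.ResIsoLib.tr_transfer f g (AlgSt.subIncl 𝒳 Q) (AlgSt.subIncl 𝒴 Q') θg p q θ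
    (Groth.Agent.ResIsoLib.tr_of_fpLift f p e he hiso)
  obtain ⟨k₁, hk₁, a₁, z, h₁, h₂, h₃⟩ := Groth.Agent.DecSec.exists_fppf_point hA hred hn
  have hg : AlgSt.IsMono g := Groth.Agent.ResIsoLib.isMono_of_tr hA hA' htr
    (Groth.Agent.ResIsoLib.cov_of_point z h₁ h₂ h₃ q)
  obtain ⟨k₂, hk₂, a₂, z', h₁', h₂', h₃'⟩ := Groth.Agent.DecSec.exists_fppf_point hA' hred' hn'
  exact ⟨g, ⟨θg⟩, Groth.Agent.DecSec.isEquivOver_of_mono_point hg h₁' h₂' h₃'⟩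

end Groth.Agent.S16815
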