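import Groth.Statements.S16822
import Groth.Agent.DMSlice.Cover
import Groth.Agent.ASt.DiagFppf
import Groth.Agent.S10543

set_option autoImplicit false
set_option backward.isDefEq.respectTransparency false
universe u
open AlgSt

namespace Groth.Agent.S16822

open CategoryTheory AlgebraicGeometry in
/-- Let 𝒳 be an algebraic stack over (Sch/S) for the etale topology. Then 𝒳 is a Deligne–Mumford stack
(it has an etale surjective presentation by a scheme) if and only if the diagonal 𝒳 → 𝒳 ×_{(Sch/S)}
𝒳 is unramified: representable by algebraic spaces, locally of finite type and formally unramified.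
The source states the diagonal condition absolutely (over the integers); over a base S the relative
diagonal is unramified exactly when the absolute one is, since the two differ by a base change of
the diagonal of S, an immersion. The source's third equivalent condition, on stabilizer groups of
points, is not stated. -/
theorem result {S : Scheme.{u}} (𝒳 : AlgSt.Cat S)
    (h𝒳 : AlgSt.IsAlgStack Scheme.etalePrecoverage 𝒳) :
    AlgSt.IsDM Scheme.etalePrecoverage 𝒳 ↔ AlgSt.IsDMOver 𝒳 := by
  haveI := h𝒳.isStack.1
  haveI : Groth.Agent.ASp.IsEtLocal (@LocallyOfFiniteType ⊓ @FormallyUnramified) := inferInstance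
  refine ⟨fun hDM => ?_, fun hu => ?_⟩
  · obtain ⟨W, a, ha, has⟩ := hDM.2
    have hle : AlgSt.RepByAlgSpWith (AlgSp.LocP @Etale) a :=
      Groth.Agent.ASt.repByAlgSpWith_mono (fun X Y f _ hY h => (Groth.Agent.ASp.isEtaleMor_iff_locP hY).1 h) ha
    have hm : ∀ (P : MorphismProperty Scheme.{u}), (∀ {A B : Scheme.{u}} (g : A ⟶ B), Etale g → P g) →
        AlgSt.RepByAlgSpWith (AlgSp.LocP P) a := fun P hP =>
      Groth.Agent.ASt.repByAlgSpWith_mono (fun X Y f _ _ h A B x y k hx hy e => hP _ (h x y k hx hy e)) hle
    exact Groth.Agent.ASt.repByAlgSpWith_diag_toSelf_of_fppf_chart (Q := @LocallyOfFiniteType ⊓ @FormallyUnramified)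
      (fun f g h => ⟨haveI := h.1; locallyOfFiniteType_of_comp f g, haveI := h.2; FormallyUnramified.of_comp f g⟩)
      (fun ι Y Yi g hY hYi hτ X b hX Xi p q hXi sq =>
        Groth.Agent.S10543.result S Yi g hY hYi (Groth.Agent.ASp.isFpqcCover_of_fppf hY hYi (fun i => (hτ.1 i).1)
          (fun i => (hτ.1 i).2) hτ.2) b hX Xi p q hXi sq)
      h𝒳.diag
      (hm @Flat fun g hg => Groth.Agent.ASp.IsEtLocal.etale_le g hg)
      (hm @LocallyOfFinitePresentation fun g hg => Groth.Agent.ASp.IsEtLocal.etale_le g hg)
      (Groth.Agent.ASt.isSurjective_of_repByAlgSpWith has)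
      (hm (@LocallyOfFiniteType ⊓ @FormallyUnramified) fun g hg => Groth.Agent.ASp.IsEtLocal.etale_le g hg)
  · obtain ⟨W, w, hwe, hws⟩ := Groth.Agent.DMSlice.exists_cover h𝒳.diag h𝒳.atlas hu
    exact ⟨h𝒳, W, w, Groth.Agent.ASt.repByAlgSpWith_mono
      (fun X Y f _ hY h => (Groth.Agent.ASp.isEtaleMor_iff_locP hY).2 h) hwe, hws⟩

end Groth.Agent.S16822
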