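import Groth.Statements.S16833
import Groth.Agent.ASp.ProperQf
import Groth.Agent.ASp.MorCancel
import Groth.Agent.ASp.FinChart
import Groth.Agent.ASp.FppfDiag

set_option autoImplicit false
set_option backward.isDefEq.respectTransparency false
set_option backward.isDefEq.respectTransparency.types false
universe u
open AlgSp

namespace Groth.Agent.S16833

open CategoryTheory AlgebraicGeometry in
/-- Let p : U → X and f : X → Y be morphisms of algebraic spaces over a scheme S with p etale and
surjective and f separated. If the composite U → Y is finite, then f is finite. -/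
theorem result {S : Scheme.{u}}
    {U X Y : AlgSp.Space S} (p : U ⟶ X) (f : X ⟶ Y)
    (hp : AlgSp.IsEtaleMor p.hom) (hps : AlgSp.IsSurjectiveMor p.hom)
    (hf : AlgSp.IsSeparatedMor f.hom) (h : AlgSp.IsFiniteMor (p ≫ f).hom) :
    AlgSp.IsFiniteMor f.hom := by
  have hfr := (ASp.isFiniteMor_iff U.property Y.property).1 h
  have huc : AlgSp.IsUnivClosedMor (p ≫ f).hom := (ASp.repWith_universallyClosed_iff hfr.1).1
    (ASp.repWith_mono (fun _ _ k hk => by have : IsFinite k := hk; exact (inferInstance : UniversallyClosed k)) hfr)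
  have hlqf : AlgSp.LocP (@LocallyQuasiFinite ⊓ @LocallyOfFiniteType) (p ≫ f).hom :=
    ASp.locP_of_repWith (ASp.repWith_mono (fun _ _ k hk => by
      have : IsFinite k := hk
      exact ⟨(inferInstance : LocallyQuasiFinite k), (inferInstance : LocallyOfFiniteType k)⟩) hfr)
  obtain ⟨A, a, ha, has⟩ := U.property.atlas
  have hsurj : Function.Surjective (AlgSp.Points.map (a ≫ p.hom)) := by
    rw [show AlgSp.Points.map (a ≫ p.hom) = AlgSp.Points.map p.hom ∘ AlgSp.Points.map a from
      funext (AlgSp.Points.map_comp _ _)]
    exact hps.comp (ASp.surjective_map_of_repWith has)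
  have hap : AlgSp.RepWith @Etale (a ≫ p.hom) := hp a ha
  have haps : AlgSp.RepWith @Surjective (a ≫ p.hom) := ⟨hap.1, fun {T Q} g fst snd sq =>
    ASp.surjective_left_of_map snd (ASp.surjective_map_of_isPullback sq hsurj)⟩
  refine ASp.isFiniteMor_of_sep_univClosed_lqf X Y f.hom hf (ASp.univClosed_of_comp_surjective p.hom f.hom huc hps) ?_
  refine ASp.locP_of_comp_chart Y.property hap haps ?_
  rw [Category.assoc]
  exact ASp.locP_comp U.property (ASp.locP_of_repWith (ASp.repWith_mono (fun _ _ k (hk : Etale k) =>
    ⟨ASp.IsEtLocal.etale_le (P := @LocallyQuasiFinite) k hk, (inferInstance : LocallyOfFiniteType k)⟩) ha)) hlqf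

end Groth.Agent.S16833
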