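import Groth.Statements.S16834
import Groth.Agent.ASp.AffMor
import Groth.Agent.ASp.FieldMono
import Groth.Agent.ASp.QSBase

set_option backward.isDefEq.respectTransparency false
set_option backward.isDefEq.respectTransparency.types false

set_option autoImplicit false
universe u
open CategoryTheory CategoryTheory.Limits AlgebraicGeometry
open AlgSp

namespace Groth.Agent.S16834

/-- Let k be a field with algebraic closure k̄ and X an algebraic space over Spec k which is
quasi-separated over k and whose structure morphism is locally of finite type. If the base change X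
×_k Spec k̄ (product with h_{Spec k̄} in fppf sheaves over Spec k) is isomorphic to h_T for an
affine scheme T over k, then X is isomorphic to h_U for an affine scheme U over k. -/
theorem result (k : Type u) [Field k]
    (X : AlgSp.Space (Spec (CommRingCat.of k))) (hqs : AlgSp.IsQuasiSeparatedSp X.obj)
    (hlft : ∀ q : X.obj ⟶ (AlgSp.yon (Spec (CommRingCat.of k))).obj (Over.mk (𝟙 _)),
      AlgSp.LocP @LocallyOfFiniteType q)
    (kbar : Type u) [Field kbar] [Algebra k kbar] [IsAlgClosure k kbar]
    (T : Over (Spec (CommRingCat.of k))) (hT : IsAffine T.left)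
    (e : X.obj ⨯ (AlgSp.yon (Spec (CommRingCat.of k))).obj
        (Over.mk (Spec.map (CommRingCat.ofHom (algebraMap k kbar)))) ≅
      (AlgSp.yon (Spec (CommRingCat.of k))).obj T) :
    ∃ (U : Over (Spec (CommRingCat.of k))), IsAffine U.left ∧
      Nonempty (X.obj ≅ (AlgSp.yon (Spec (CommRingCat.of k))).obj U) := by
  let K₀ : Over (Spec (CommRingCat.of k)) := Over.mk (𝟙 _)
  let Kb : Over (Spec (CommRingCat.of k)) := Over.mk (Spec.map (CommRingCat.ofHom (algebraMap k kbar)))
  let r : Kb ⟶ K₀ := Over.homMk (Spec.map (CommRingCat.ofHom (algebraMap k kbar))) (Category.comp_id _)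
  haveI := hT
  haveI : IsAffine Kb.left := inferInstanceAs (IsAffine (Spec _))
  haveI : IsAffine K₀.left := inferInstanceAs (IsAffine (Spec _))
  have hterm := Groth.Agent.ASp.isTerminalYonBase (S := Spec (CommRingCat.of k))
  let f : X.obj ⟶ (AlgSp.yon _).obj K₀ := hterm.from _
  have hsq : IsPullback (Limits.prod.fst : X.obj ⨯ (AlgSp.yon _).obj Kb ⟶ X.obj) Limits.prod.snd f ((AlgSp.yon _).map r) :=
    (hterm.hom_ext (hterm.from _) ((AlgSp.yon _).map r)) ▸ IsPullback.of_is_product' (prodIsProd _ _) hterm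
  obtain ⟨t, ht⟩ := (AlgSp.yon _).map_surjective (e.inv ≫ (Limits.prod.snd : X.obj ⨯ (AlgSp.yon _).obj Kb ⟶ _))
  have ht' : AlgSp.RepWith @IsAffineHom (Limits.prod.snd : X.obj ⨯ (AlgSp.yon _).obj Kb ⟶ _) := by
    have h : AlgSp.RepWith @IsAffineHom ((AlgSp.yon _).map t) :=
      Groth.Agent.ASp.repWith_yon_map (P := @IsAffineHom) (g := t) inferInstance
    have h2 := Groth.Agent.ASp.repWith_comp (P := @IsAffineHom) (Groth.Agent.ASp.repWith_of_isIso e.hom) h
    rwa [ht, ← Category.assoc, e.hom_inv_id, Category.id_comp] at h2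
  have haff : AlgSp.IsAffineMor f := Groth.Agent.ASp.isAffineMor_of_fpqc X.property (AlgSp.IsAlgSpace.yon_obj _)
    (ι := ULift.{u} (Fin 1)) (Yi := fun _ => (AlgSp.yon _).obj Kb) (g := fun _ => (AlgSp.yon _).map r)
    (Xi := fun _ => X.obj ⨯ (AlgSp.yon _).obj Kb) (p := fun _ => Limits.prod.snd) (q := fun _ => Limits.prod.fst)
    (fun _ => hsq) (Groth.Agent.ASp.isFpqcCover_field r)
    (fun _ => Groth.Agent.ASp.isAffineMor_of_repWith (fun _ h => h) ht')
  obtain ⟨W, i, fst, hW, hWaff⟩ := haff (Z := K₀) inferInstance (𝟙 _)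
  haveI := hW.isIso_fst_of_isIso
  exact ⟨W, hWaff, ⟨(asIso fst).symm⟩⟩

end Groth.Agent.S16834
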