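import Groth.Statements.S16836
import Mathlib.RingTheory.Polynomial.UniqueFactorization
import Mathlib.FieldTheory.Perfect

set_option autoImplicit false
universe u v
open scoped Classical
open AbVar

namespace Groth.Agent.S16836

open Polynomial UniqueFactorizationMonoid

lemma normalizedFactors_map {K L : Type*} [Field K] [Field L] [Algebra K L] {f : K[X]} (hf : f ≠ 0) :
    normalizedFactors (f.map (algebraMap K L)) =
      ((normalizedFactors f).map fun P => normalizedFactors (P.map (algebraMap K L))).sum := by
  classical
  have h : Associated ((normalizedFactors f).map fun P => P.map (algebraMap K L)).prod (f.map (algebraMap K L)) := by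
    rw [← Polynomial.coe_mapRingHom, ← map_multiset_prod]
    exact (prod_normalizedFactors hf).map (Polynomial.mapRingHom (algebraMap K L))
  rw [← h.normalizedFactors_eq, normalizedFactors_multiset_prod, Multiset.map_map]
  · rfl
  · intro h0
    obtain ⟨P, hP, hP0⟩ := Multiset.mem_map.1 h0
    exact ne_zero_of_mem_normalizedFactors hP ((Polynomial.map_eq_zero _).1 hP0)

open Polynomial UniqueFactorizationMonoid in
/-- Let K ⊆ L be a field extension and f₁, f₂ non-zero polynomials in K[t]. For a field F and
polynomials g₁, g₂ over F put r_F(g₁, g₂) = Σ_P mult_P(g₁) · mult_P(g₂) · deg P, the sum running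
over the monic irreducible polynomials P in F[t] (mult_P the multiplicity of P as an irreducible
factor). Assume K is perfect. Then r_K(f₁, f₂) = r_L(f₁, f₂): the number does not depend on the
field over which the factorisations are taken. (Perfectness of K cannot be dropped: for K = F_p(s),
L = K(s^{1/p}) and f₁ = f₂ = t^p − s the number is p over K and p² over L, since the irreducible t^p
− s becomes a p-th power over L; the published statement has no restriction on K, and its proof
requires the relevant K[t]-modules to remain semisimple after base change, which holds when every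
irreducible factor stays squarefree over L, in particular for K perfect.) -/
theorem result (K : Type u) (L : Type v) [Field K] [PerfectField K] [Field L] [Algebra K L]
    (f₁ f₂ : K[X]) (h₁ : f₁ ≠ 0) (h₂ : f₂ ≠ 0) :
    ∑ P ∈ (normalizedFactors (f₁.map (algebraMap K L))).toFinset,
        (normalizedFactors (f₁.map (algebraMap K L))).count P *
          (normalizedFactors (f₂.map (algebraMap K L))).count P * P.natDegree =
      ∑ P ∈ (normalizedFactors f₁).toFinset,
        (normalizedFactors f₁).count P * (normalizedFactors f₂).count P * P.natDegree := by
  classical
  have key : ∀ {F : Type v} [Field F] (a b : F[X]),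
      ∑ P ∈ (normalizedFactors a).toFinset, (normalizedFactors a).count P * (normalizedFactors b).count P * P.natDegree =
        ((normalizedFactors a).map fun P => (normalizedFactors b).count P * P.natDegree).sum := fun a b => by
    rw [Finset.sum_multiset_map_count]
    exact Finset.sum_congr rfl fun P _ => by rw [smul_eq_mul, mul_assoc]
  rw [key]
  have key' : ∑ P ∈ (normalizedFactors f₁).toFinset, (normalizedFactors f₁).count P * (normalizedFactors f₂).count P * P.natDegree =
      ((normalizedFactors f₁).map fun P => (normalizedFactors f₂).count P * P.natDegree).sum := by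
    rw [Finset.sum_multiset_map_count]
    exact Finset.sum_congr rfl fun P _ => by rw [smul_eq_mul, mul_assoc]
  rw [key', normalizedFactors_map h₁]
  set φ := algebraMap K L
  have hirr : ∀ {f : K[X]}, ∀ P ∈ normalizedFactors f, Irreducible P := fun P hP => irreducible_of_normalized_factor P hP
  have hnodup : ∀ P ∈ normalizedFactors f₁, (normalizedFactors (P.map φ)).Nodup := fun P hP =>
    (squarefree_iff_nodup_normalizedFactors ((Polynomial.map_ne_zero_iff φ.injective).2 (hirr P hP).ne_zero)).1
      (((PerfectField.separable_of_irreducible (hirr P hP)).map (f := φ)).squarefree)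
  have hdisj : ∀ P ∈ normalizedFactors f₁, ∀ P' ∈ normalizedFactors f₂, P' ≠ P →
      ∀ Q ∈ normalizedFactors (P.map φ), Q ∉ normalizedFactors (P'.map φ) := by
    intro P hP P' hP' hne Q hQ hQ'
    have hco : IsCoprime P P' := by
      rw [(hirr P hP).coprime_iff_not_dvd]
      intro hd
      exact hne (by
        rw [← normalize_normalized_factor P hP, ← normalize_normalized_factor P' hP']
        exact (normalize_eq_normalize_iff_associated.2 ((hirr P hP).associated_of_dvd (hirr P' hP') hd)).symm)
    exact (irreducible_of_normalized_factor Q hQ).not_isUnit
      ((hco.map (Polynomial.mapRingHom φ)).isUnit_of_dvd' (dvd_of_mem_normalizedFactors hQ)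
        (dvd_of_mem_normalizedFactors hQ'))
  have hcount : ∀ P ∈ normalizedFactors f₁, ∀ Q ∈ normalizedFactors (P.map φ),
      (normalizedFactors (f₂.map φ)).count Q = (normalizedFactors f₂).count P := by
    intro P hP Q hQ
    rw [normalizedFactors_map h₂, Multiset.count_sum, Multiset.sum_map_eq_nsmul_single P]
    · rw [show Multiset.count Q (normalizedFactors (P.map φ)) = 1 from
        Multiset.count_eq_one_of_mem (hnodup P hP) hQ, smul_eq_mul, mul_one]
    · intro P' hne hP'
      exact Multiset.count_eq_zero_of_notMem (hdisj P hP P' hP' hne Q hQ)
  have hdeg : ∀ P ∈ normalizedFactors f₁, ((normalizedFactors (P.map φ)).map natDegree).sum = P.natDegree := by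
    intro P hP
    have hne := (Polynomial.map_ne_zero_iff φ.injective).2 (hirr P hP).ne_zero
    rw [← natDegree_multiset_prod _ (zero_notMem_normalizedFactors _),
      natDegree_eq_of_degree_eq (degree_eq_degree_of_associated (prod_normalizedFactors hne)), natDegree_map]
  rw [← Multiset.join, Multiset.map_join, Multiset.sum_join, Multiset.map_map, Multiset.map_map]
  refine congrArg Multiset.sum (Multiset.map_congr rfl fun P hP => ?_)
  simp only [Function.comp_apply]
  rw [Multiset.map_congr rfl fun Q hQ => by rw [hcount P hP Q hQ], Multiset.sum_map_mul_left, hdeg P hP]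

end Groth.Agent.S16836
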