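import Groth.Statements.S16837
import Mathlib.LinearAlgebra.Semisimple
import Mathlib.LinearAlgebra.Charpoly.ToMatrix
import Mathlib.LinearAlgebra.Matrix.Charpoly.Minpoly
import Mathlib.RingTheory.AdjoinRoot
import Mathlib.RingTheory.Polynomial.UniqueFactorization

set_option autoImplicit false
universe u v w
open scoped Classical
open AbVar

namespace Groth.Agent.S16837

open Polynomial UniqueFactorizationMonoid

section
universe p q

variable {K : Type p} [Field K]

/-- `K[X]/(P)`. -/
abbrev Cyc (P : K[X]) : Type p := K[X] ⧸ Ideal.span ({P} : Set K[X])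

lemma finite_cyc {P : K[X]} (hP : P ≠ 0) : Module.Finite K (Cyc P) :=
  (AdjoinRoot.powerBasis hP).finite

lemma charpoly_cyc {P : K[X]} (hP : P.Monic) [Module.Finite K (Cyc P)] :
    (Algebra.lsmul K K (Cyc P) (X : K[X])).charpoly = P := by
  classical
  let pb := AdjoinRoot.powerBasis hP.ne_zero
  have h := charpoly_leftMulMatrix pb
  rw [AdjoinRoot.powerBasis_gen, AdjoinRoot.minpoly_root hP.ne_zero, hP.leadingCoeff, inv_one, C_1, mul_one] at h
  have e : (Algebra.lsmul K K (Cyc P) (X : K[X])) = Algebra.lmul K (AdjoinRoot P) (AdjoinRoot.root P) := by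
    refine LinearMap.ext fun z => ?_
    obtain ⟨z, rfl⟩ := Ideal.Quotient.mk_surjective z
    rfl
  haveI : Module.Finite K (AdjoinRoot P) := pb.finite
  have h2 : (Algebra.lmul K (AdjoinRoot P) (AdjoinRoot.root P)).charpoly = P := by
    rw [← LinearMap.charpoly_toMatrix _ pb.basis]
    exact h
  exact (congrArg LinearMap.charpoly e).trans h2

lemma finrank_hom_cyc_self {P : K[X]} (hP : P ≠ 0) :
    Module.finrank K (Cyc P →ₗ[K[X]] Cyc P) = P.natDegree := by
  let ev : (Cyc P →ₗ[K[X]] Cyc P) →ₗ[K] Cyc P :=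
    { toFun := fun f => f 1, map_add' := fun _ _ => rfl, map_smul' := fun _ _ => rfl }
  have hev : Function.Bijective ev := by
    constructor
    · intro f g hfg
      refine LinearMap.ext fun z => ?_
      obtain ⟨z, rfl⟩ := Ideal.Quotient.mk_surjective z
      rw [show Ideal.Quotient.mk (Ideal.span ({P} : Set K[X])) z = z • (1 : Cyc P) from
        (congrArg (Ideal.Quotient.mk _) (mul_one z)).symm, map_smul, map_smul]
      exact congrArg _ hfg
    · intro c
      exact ⟨LinearMap.mulRight K[X] c, one_mul c⟩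
  rw [(LinearEquiv.ofBijective ev hev).finrank_eq]
  exact (AdjoinRoot.powerBasis hP).finrank

lemma hom_cyc_eq_zero {P Q : K[X]} (h : IsCoprime P Q) (f : Cyc P →ₗ[K[X]] Cyc Q) : f = 0 := by
  obtain ⟨a, b, hab⟩ := h
  refine LinearMap.ext fun z => ?_
  have hPz : P • z = 0 := by
    obtain ⟨z, rfl⟩ := Ideal.Quotient.mk_surjective z
    exact Ideal.Quotient.eq_zero_iff_mem.2 (Ideal.mul_mem_right _ _ (Ideal.mem_span_singleton_self P))
  have hQ : ∀ w : Cyc Q, Q • w = 0 := fun w => by
    obtain ⟨w, rfl⟩ := Ideal.Quotient.mk_surjective w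
    exact Ideal.Quotient.eq_zero_iff_mem.2 (Ideal.mul_mem_right _ _ (Ideal.mem_span_singleton_self Q))
  rw [← one_smul K[X] (f z), ← hab, add_smul, mul_smul, mul_smul, ← map_smul, hPz, map_zero, smul_zero, zero_add, hQ,
    smul_zero]
  rfl

lemma charpoly_piMap : ∀ (n : ℕ) (N : Fin n → Type q) [∀ i, AddCommGroup (N i)] [∀ i, Module K (N i)]
    [∀ i, FiniteDimensional K (N i)] (φ : ∀ i, Module.End K (N i)),
    (LinearMap.piMap φ : Module.End K (∀ i, N i)).charpoly = ∏ i, (φ i).charpoly
  | 0, N, _, _, _, φ => by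
    refine eq_one_of_monic_natDegree_zero (LinearMap.charpoly_monic _) ?_ |>.trans (by simp)
    rw [LinearMap.charpoly_natDegree, Module.finrank_zero_of_subsingleton]
  | n + 1, N, _, _, _, φ => by
    rw [Fin.prod_univ_succ, ← charpoly_piMap n (fun i => N i.succ) (fun i => φ i.succ), ← LinearMap.charpoly_prodMap]
    let e : (N 0 × ∀ i : Fin n, N i.succ) ≃ₗ[K] ∀ i, N i :=
      { Fin.consEquiv N with
        map_add' := fun x y => funext fun i => by refine Fin.cases ?_ (fun j => ?_) i <;> simp [Fin.consEquiv]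
        map_smul' := fun c x => funext fun i => by refine Fin.cases ?_ (fun j => ?_) i <;> simp [Fin.consEquiv] }
    rw [← e.charpoly_conj]
    congr 1
    refine LinearMap.ext fun x => funext fun i => ?_
    refine Fin.cases ?_ (fun j => ?_) i <;> simp [e, LinearEquiv.conj_apply, Fin.consEquiv, Fin.tail]

/-- Decomposition of a semisimple `K[X]`-module. -/
lemma decompose {V : Type q} [AddCommGroup V] [Module K V] [FiniteDimensional K V] {f : Module.End K V}
    (hf : f.IsSemisimple) :
    ∃ (n : ℕ) (P : Fin n → K[X]), (∀ i, Irreducible (P i) ∧ (P i).Monic) ∧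
      Nonempty (Module.AEval' f ≃ₗ[K[X]] ∀ i, Cyc (P i)) ∧ f.charpoly = ∏ i, P i := by
  classical
  haveI : IsSemisimpleModule K[X] (Module.AEval' f) := hf
  haveI : Module.Finite K (Module.AEval' f) := Module.Finite.equiv (Module.AEval'.of f)
  haveI : Module.Finite K[X] (Module.AEval' f) := Module.Finite.of_restrictScalars_finite K _ _
  obtain ⟨n, S, e, hS⟩ := IsSemisimpleModule.exists_linearEquiv_fin_dfinsupp K[X] (Module.AEval' f)
  have hP : ∀ i, ∃ P : K[X], (Irreducible P ∧ P.Monic) ∧ Nonempty (S i ≃ₗ[K[X]] Cyc P) := fun i => by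
    obtain ⟨I, hI, ⟨ei⟩⟩ := isSimpleModule_iff_quot_maximal.1 (hS i)
    have hI0 : I ≠ ⊥ := by
      rintro rfl
      have h : (⊥ : Ideal K[X]) = Ideal.span {X} := hI.eq_of_le
        (fun h => Polynomial.not_isUnit_X (Ideal.span_singleton_eq_top.1 h)) bot_le
      exact X_ne_zero (Ideal.span_singleton_eq_bot.1 h.symm)
    obtain ⟨p, rfl⟩ : ∃ p, I = Ideal.span {p} := ⟨_, (Ideal.span_singleton_generator I).symm⟩
    have hp0 : p ≠ 0 := fun h => hI0 (Ideal.span_singleton_eq_bot.2 h)
    have hp : Irreducible p := ((Ideal.span_singleton_prime hp0).1 hI.isPrime).irreducible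
    refine ⟨normalize p, ⟨(normalize_associated p).symm.irreducible hp, monic_normalize hp0⟩, ⟨ei.trans (Submodule.quotEquivOfEq (Ideal.span ({p} : Set K[X])) (Ideal.span ({normalize p} : Set K[X]))
      (Ideal.span_singleton_eq_span_singleton.2 (normalize_associated p).symm))⟩⟩
  choose P hP ei using hP
  let e' : Module.AEval' f ≃ₗ[K[X]] ∀ i, Cyc (P i) :=
    (e.trans DFinsupp.linearEquivFunOnFintype).trans (LinearEquiv.piCongrRight fun i => (ei i).some)
  refine ⟨n, P, hP, ⟨e'⟩, ?_⟩
  haveI : ∀ i, Module.Finite K (Cyc (P i)) := fun i => finite_cyc (hP i).2.ne_zero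
  rw [← Finset.prod_congr rfl fun i _ => charpoly_cyc (hP i).2, ← charpoly_piMap,
    ← (((Module.AEval'.of f).trans (e'.restrictScalars K)).charpoly_conj f)]
  congr 1
  refine LinearMap.ext fun z => funext fun i => ?_
  rw [LinearEquiv.conj_apply_apply]
  show e' (Module.AEval'.of f (f ((Module.AEval'.of f).symm (e'.symm z)))) i = (X : K[X]) • z i
  rw [← Module.AEval'.X_smul_of, LinearEquiv.apply_symm_apply, map_smul, LinearEquiv.apply_symm_apply]
  rfl

end

open UniqueFactorizationMonoid in
/-- Let K be any field, V₁ and V₂ finite-dimensional K-vector spaces and π₁, π₂ semisimple endomorphisms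
of V₁, V₂ with characteristic polynomials f₁, f₂. Make V_i a K[t]-module by letting t act as π_i.
Then the space Hom_{K[t]}(V₁, V₂) of K-linear maps h with π₂ ∘ h = h ∘ π₁ has K-dimension r(f₁, f₂)
= Σ_P mult_P(f₁) · mult_P(f₂) · deg P, the sum over the monic irreducible polynomials P in K[t]. (No
restriction on the characteristic of K.) -/
theorem result (K : Type u) [Field K]
    (V₁ : Type v) (V₂ : Type w) [AddCommGroup V₁] [Module K V₁] [FiniteDimensional K V₁]
    [AddCommGroup V₂] [Module K V₂] [FiniteDimensional K V₂]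
    (π₁ : Module.End K V₁) (π₂ : Module.End K V₂) (h₁ : π₁.IsSemisimple) (h₂ : π₂.IsSemisimple) :
    Module.finrank K (LinearMap.ker (LinearMap.lcomp K V₂ π₁ - LinearMap.llcomp K V₁ V₂ V₂ π₂ :
        (V₁ →ₗ[K] V₂) →ₗ[K] (V₁ →ₗ[K] V₂))) =
      ∑ P ∈ (normalizedFactors π₁.charpoly).toFinset,
        (normalizedFactors π₁.charpoly).count P * (normalizedFactors π₂.charpoly).count P * P.natDegree := by
  classical
  obtain ⟨n, P, hP, ⟨e₁⟩, hc₁⟩ := decompose h₁
  obtain ⟨m, Q, hQ, ⟨e₂⟩, hc₂⟩ := decompose h₂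
  haveI : ∀ i, Module.Finite K (Cyc (P i)) := fun i => finite_cyc (hP i).2.ne_zero
  haveI : ∀ j, Module.Finite K (Cyc (Q j)) := fun j => finite_cyc (hQ j).2.ne_zero
  have hnf : ∀ {N : ℕ} (R : Fin N → Polynomial K), (∀ i, Irreducible (R i) ∧ (R i).Monic) →
      normalizedFactors (∏ i, R i) = Finset.univ.val.map R := fun R hR => by
    rw [← Finset.prod_map_val, normalizedFactors_prod_eq _ (fun a ha => by
      obtain ⟨i, -, rfl⟩ := Multiset.mem_map.1 ha; exact (hR i).1), Multiset.map_map]
    exact Multiset.map_congr rfl fun i _ => (hR i).2.normalize_eq_self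
  have hL : Module.finrank K (LinearMap.ker (LinearMap.lcomp K V₂ π₁ - LinearMap.llcomp K V₁ V₂ V₂ π₂ :
      (V₁ →ₗ[K] V₂) →ₗ[K] (V₁ →ₗ[K] V₂))) = Module.finrank K (Module.AEval' π₁ →ₗ[Polynomial K] Module.AEval' π₂) := by
    let o₁ := Module.AEval'.of π₁
    let o₂ := Module.AEval'.of π₂
    let g : (Module.AEval' π₁ →ₗ[Polynomial K] Module.AEval' π₂) →ₗ[K] (V₁ →ₗ[K] V₂) :=
      { toFun := fun h => o₂.symm.toLinearMap ∘ₗ h.restrictScalars K ∘ₗ o₁.toLinearMap
        map_add' := fun a b => LinearMap.ext fun x => by simp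
        map_smul' := fun c a => LinearMap.ext fun x => by simp }
    have hginj : Function.Injective g := fun a b hab => LinearMap.ext fun x => o₂.symm.injective (by
      have := congrArg (fun t : V₁ →ₗ[K] V₂ => t (o₁.symm x)) hab
      simpa [g] using this)
    rw [← LinearMap.finrank_range_of_inj hginj]
    congr 2
    all_goals (try rw [show LinearMap.ker (LinearMap.lcomp K V₂ π₁ - LinearMap.llcomp K V₁ V₂ V₂ π₂) = LinearMap.range g from ?_])
    all_goals
      refine Submodule.ext fun h => ?_
      rw [LinearMap.mem_ker, LinearMap.sub_apply, sub_eq_zero, LinearMap.mem_range]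
      constructor
      · intro hh
        refine ⟨LinearMap.ofAEval π₁ (o₂.toLinearMap ∘ₗ h) (fun x => ?_), ?_⟩
        · show o₂ (h (π₁ x)) = (Polynomial.X : Polynomial K) • o₂ (h x)
          rw [Module.AEval'.X_smul_of]
          exact congrArg o₂ (congrArg (fun t : V₁ →ₗ[K] V₂ => t x) hh)
        · exact LinearMap.ext fun x => by simp [g, o₁, o₂, LinearMap.ofAEval]
      · rintro ⟨a, rfl⟩
        refine LinearMap.ext fun x => o₂.injective ?_
        show o₂ (o₂.symm (a (o₁ (π₁ x)))) = o₂ (π₂ (o₂.symm (a (o₁ x))))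
        rw [← Module.AEval'.X_smul_of π₂, LinearEquiv.apply_symm_apply, LinearEquiv.apply_symm_apply,
          ← Module.AEval'.X_smul_of π₁, map_smul]
  rw [hL]
  let E : (Module.AEval' π₁ →ₗ[Polynomial K] Module.AEval' π₂) ≃ₗ[K] ∀ i, ∀ j, (Cyc (P i) →ₗ[Polynomial K] Cyc (Q j)) :=
    (LinearEquiv.ofBijective
      ({ toFun := fun h i j => (LinearMap.proj j).comp ((e₂.toLinearMap.comp (h.comp e₁.symm.toLinearMap)).comp
            (LinearMap.single (Polynomial K) (fun i => Cyc (P i)) i))
         map_add' := fun a b => funext fun i => funext fun j => LinearMap.ext fun x => by simp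
         map_smul' := fun c a => funext fun i => funext fun j => LinearMap.ext fun x => by
           simp only [RingHom.id_apply, Pi.smul_apply, LinearMap.comp_apply, LinearEquiv.coe_coe, LinearMap.smul_apply,
             LinearMap.proj_apply]
           rw [← algebraMap_smul (Polynomial K) c, map_smul, Pi.smul_apply, algebraMap_smul] } :
        (Module.AEval' π₁ →ₗ[Polynomial K] Module.AEval' π₂) →ₗ[K] ∀ i, ∀ j, (Cyc (P i) →ₗ[Polynomial K] Cyc (Q j)))
      ⟨fun a b hab => by
        have : e₂.toLinearMap.comp (a.comp e₁.symm.toLinearMap) = e₂.toLinearMap.comp (b.comp e₁.symm.toLinearMap) :=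
          LinearMap.pi_ext' fun i => LinearMap.ext fun x => funext fun j => congrArg (fun t => t x) (congrFun (congrFun hab i) j)
        refine LinearMap.ext fun x => e₂.injective ?_
        simpa using congrArg (fun t => t (e₁ x)) this,
      fun H => by
        refine ⟨e₂.symm.toLinearMap.comp ((LinearMap.pi fun j =>
          LinearMap.lsum (Polynomial K) (fun i => Cyc (P i)) ℕ fun i => H i j).comp e₁.toLinearMap), ?_⟩
        refine funext fun i => funext fun j => LinearMap.ext fun x => ?_
        simp [LinearMap.lsum_apply]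
        exact (Finset.sum_eq_single i (fun k _ hk => by simp [hk]) (by simp)).trans (by simp)⟩)
  haveI : ∀ i j, Module.Finite K (Cyc (P i) →ₗ[Polynomial K] Cyc (Q j)) := fun i j =>
    Module.Finite.of_injective (LinearMap.restrictScalarsₗ K (Polynomial K) (Cyc (P i)) (Cyc (Q j)) K)
      (LinearMap.restrictScalars_injective K)
  haveI hfr : ∀ i j, Module.Free K (Cyc (P i) →ₗ[Polynomial K] Cyc (Q j)) := fun i j => Module.Free.of_divisionRing K _
  haveI : ∀ i, Module.Free K (∀ j, Cyc (P i) →ₗ[Polynomial K] Cyc (Q j)) := fun i =>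
    Module.Free.of_basis (Pi.basis fun j => Module.Free.chooseBasis K (Cyc (P i) →ₗ[Polynomial K] Cyc (Q j)))
  rw [E.finrank_eq, Module.finrank_pi_fintype, hc₁, hc₂, hnf P hP, hnf Q hQ]
  have key : ((Finset.univ.val.map P).map fun p => (Finset.univ.val.map Q).count p * p.natDegree).sum =
      ∑ p ∈ (Finset.univ.val.map P).toFinset, (Finset.univ.val.map P).count p * (Finset.univ.val.map Q).count p * p.natDegree := by
    rw [Finset.sum_multiset_map_count]
    exact Finset.sum_congr rfl fun p _ => by rw [smul_eq_mul, mul_assoc]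
  rw [← key, Multiset.map_map]
  refine Finset.sum_congr rfl fun i _ => ?_
  rw [Module.finrank_pi_fintype, Function.comp_apply, Multiset.count_map, ← Finset.filter_val, Finset.card_val,
    Finset.card_filter, Finset.sum_mul]
  refine Finset.sum_congr rfl fun j _ => ?_
  split_ifs with h
  · rw [one_mul, ← h, finrank_hom_cyc_self (hP i).2.ne_zero]
  · rw [zero_mul]
    haveI : Subsingleton (Cyc (P i) →ₗ[Polynomial K] Cyc (Q j)) := by
      have hco : IsCoprime (P i) (Q j) := (hP i).1.coprime_iff_not_dvd.2 fun hd =>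
        h (Polynomial.eq_of_monic_of_associated (hP i).2 (hQ j).2 ((hP i).1.associated_of_dvd (hQ j).1 hd))
      exact ⟨fun a b => (hom_cyc_eq_zero hco a).trans (hom_cyc_eq_zero hco b).symm⟩
    exact Module.finrank_zero_of_subsingleton

end Groth.Agent.S16837
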