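import Groth.Statements.S16839
import Groth.Agent.WeilAVLib.Num

set_option autoImplicit false
universe u
open CategoryTheory MonoidalCategory CartesianMonoidalCategory MonObj GrpObj AlgebraicGeometry
open AbVar

namespace Groth.Agent.S16839

open CategoryTheory CategoryTheory.Limits AlgebraicGeometry

open Groth.Agent
set_option backward.isDefEq.respectTransparency false
set_option synthInstance.maxHeartbeats 400000
set_option maxHeartbeats 1000000

/-- Let k be a finite field with q elements and algebraic closure Ω, ℓ a prime invertible in k, and X an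
abelian variety over k (a proper, geometrically integral commutative group scheme over k) of
dimension g, with geometric Frobenius π_X (the endomorphism that is the identity on points and the
q-th power map on sections); assume, as is the case, that the ℓ-adic Tate module of Ω-points T_ℓ X
is free of finite rank over ℤ_ℓ, and let f_X ∈ ℤ[t] be the polynomial mapping to the characteristic
polynomial of T_ℓ(π_X) (the characteristic polynomial of Frobenius). Then √q and −√q, if they occur
as roots of f_X, occur with even multiplicity: the root multiplicities of f_X (mapped to ℝ[t]) at √q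
and at −√q are even. (The other assertions of (ii) — that q/α is a root whenever α is, with the same
multiplicity — are not restated.) -/
theorem result (k Ω : Type u) [Field k] [Finite k] [Field Ω] [Algebra k Ω] [IsAlgClosure k Ω]
    (l : ℕ) [Fact l.Prime] (hl : (l : k) ≠ 0) (X : Over (Spec (CommRingCat.of k)))
    [GrpObj X] [IsCommMonObj X] [IsProper X.hom] [GeometricallyIntegral X.hom]
    (πX : X ⟶ X) [IsMonHom πX] (hπb : πX.left.base = 𝟙 _)
    (hπle : ∀ U : X.left.Opens, U ≤ πX.left ⁻¹ᵁ U)
    (hπapp : ∀ (U : X.left.Opens) (s : Γ(X.left, U)), (πX.left.appLE U U (hπle U)).hom s = s ^ Nat.card k)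
    [Module.Free ℤ_[l] (AbDual.TateMod X l (SGA7.pt Ω))] [Module.Finite ℤ_[l] (AbDual.TateMod X l (SGA7.pt Ω))]
    (P : Polynomial ℤ) (hP : (AbDual.tateMapₗ (l := l) (T := SGA7.pt Ω) πX).charpoly = P.map (Int.castRingHom ℤ_[l])) :
    Even ((P.map (Int.castRingHom ℝ)).rootMultiplicity (Real.sqrt (Nat.card k))) ∧
      Even ((P.map (Int.castRingHom ℝ)).rootMultiplicity (-Real.sqrt (Nat.card k))) := by
  haveI : IsAlgClosed Ω := IsAlgClosure.isAlgClosed k
  obtain ⟨g, hg⟩ := AVLib.exists_dim (A := X)
  haveI : Module.Free ℤ_[l] (AbDual.TateMod X l (AVPtsLib.bcPt Ω)) := ‹_›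
  haveI : Module.Finite ℤ_[l] (AbDual.TateMod X l (AVPtsLib.bcPt Ω)) := ‹_›
  let p : EndAV.End X := EndAV.End.of πX
  obtain ⟨hm, hd, hPe⟩ := WeilAVLib.eval_of_charpoly hg Ω l hl p P hP
  have hfr : CogenLib.IsQFrob (Nat.card k) p.toHom.left := ⟨hπb, hπle, hπapp⟩
  have hq : 0 < Nat.card k := Nat.card_pos
  have h0 : P.eval 0 = ((Nat.card k ^ g : ℕ) : ℤ) := by
    rw [hPe 0, Int.cast_zero, sub_zero, WeilAVLib.degE_frob hg hq p hfr]
  refine WeilAVLib.even_rootMultiplicity (hm.map _) ?_ ?_ (Real.sqrt_pos.2 (by exact_mod_cast hq)) fun x hx => ?_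
  · rw [Polynomial.natDegree_map_eq_of_injective (Int.cast_injective (α := ℝ)), hd]
    exact even_two_mul g
  · have e := Polynomial.eval_intCast_map (Int.castRingHom ℝ) P 0
    simp only [Int.cast_zero, Int.cast_id, h0, eq_intCast, Int.cast_natCast] at e
    rw [e]
    exact_mod_cast pow_pos hq g
  · have hz : (x : ℂ) ∈ (P.map (Int.castRingHom ℂ)).roots := by
      rw [Polynomial.mem_roots (hm.map _).ne_zero,
        show Int.castRingHom ℂ = Complex.ofRealHom.comp (Int.castRingHom ℝ) from RingHom.ext_int _ _, ← Polynomial.map_map]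
      exact hx.map
    have h := WeilAVLib.normSq_root hg p hfr P hPe _ hz
    rw [Complex.normSq_ofReal] at h
    exact mul_self_eq_mul_self_iff.1 (h.trans (Real.mul_self_sqrt (Nat.cast_nonneg _)).symm)

end Groth.Agent.S16839
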