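import Groth.Statements.S16840
import Groth.Agent.WeilAVLib.Pts

set_option autoImplicit false
universe u
open CategoryTheory MonoidalCategory CartesianMonoidalCategory MonObj GrpObj AlgebraicGeometry
open AbVar

namespace Groth.Agent.S16840

open CategoryTheory CategoryTheory.Limits AlgebraicGeometry

open Groth.Agent
set_option backward.isDefEq.respectTransparency false
set_option synthInstance.maxHeartbeats 400000
set_option maxHeartbeats 1000000

/-- Let k be a finite field with q elements and algebraic closure Ω, ℓ a prime invertible in k, and X an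
abelian variety over k (a proper, geometrically integral commutative group scheme over k) of
dimension g, with geometric Frobenius π_X (the endomorphism that is the identity on points and the
q-th power map on sections); assume, as is the case, that the ℓ-adic Tate module of Ω-points T_ℓ X
is free of finite rank over ℤ_ℓ, and let f_X ∈ ℤ[t] be the polynomial mapping to the characteristic
polynomial of T_ℓ(π_X) (the characteristic polynomial of Frobenius). Let α_1, …, α_{2g} be the
complex roots of f_X with multiplicity. Then for every finite extension field k' of k, of degree n,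
the number of k'-valued points of X equals ∏_i (1 − α_i^n). -/
theorem result (k Ω : Type u) [Field k] [Finite k] [Field Ω] [Algebra k Ω] [IsAlgClosure k Ω]
    (l : ℕ) [Fact l.Prime] (hl : (l : k) ≠ 0) (X : Over (Spec (CommRingCat.of k)))
    [GrpObj X] [IsCommMonObj X] [IsProper X.hom] [GeometricallyIntegral X.hom]
    (πX : X ⟶ X) [IsMonHom πX] (hπb : πX.left.base = 𝟙 _)
    (hπle : ∀ U : X.left.Opens, U ≤ πX.left ⁻¹ᵁ U)
    (hπapp : ∀ (U : X.left.Opens) (s : Γ(X.left, U)), (πX.left.appLE U U (hπle U)).hom s = s ^ Nat.card k)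
    [Module.Free ℤ_[l] (AbDual.TateMod X l (SGA7.pt Ω))] [Module.Finite ℤ_[l] (AbDual.TateMod X l (SGA7.pt Ω))]
    (P : Polynomial ℤ) (hP : (AbDual.tateMapₗ (l := l) (T := SGA7.pt Ω) πX).charpoly = P.map (Int.castRingHom ℤ_[l]))
    (k' : Type u) [Field k'] [Algebra k k'] [Finite k'] :
    (Nat.card (Over.mk (Spec.map (CommRingCat.ofHom (algebraMap k k'))) ⟶ X) : ℂ) =
      (((P.map (Int.castRingHom ℂ)).roots.map (fun α => 1 - α ^ Module.finrank k k')).prod) := by
  haveI : IsAlgClosed Ω := IsAlgClosure.isAlgClosed k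
  obtain ⟨g, hg⟩ := AVLib.exists_dim (A := X)
  haveI : Module.Free ℤ_[l] (AbDual.TateMod X l (AVPtsLib.bcPt Ω)) := ‹_›
  haveI : Module.Finite ℤ_[l] (AbDual.TateMod X l (AVPtsLib.bcPt Ω)) := ‹_›
  haveI : Module.Finite k k' := Module.Finite.of_finite
  obtain ⟨-, -, hPe⟩ := WeilAVLib.eval_of_charpoly hg Ω l hl (EndAV.End.of πX) P hP
  have hF : CogenLib.IsQFrob (Nat.card k) (EndAV.End.of πX).toHom.left := ⟨hπb, hπle, hπapp⟩
  set n := Module.finrank k k'
  have hn : 0 < n := Module.finrank_pos
  have hq : 1 < Nat.card k := Finite.one_lt_card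
  have hnorm := WeilAVLib.normSq_root hg (EndAV.End.of πX) hF P hPe
  have heval := WeilAVLib.degE_eval_any hg (EndAV.End.of πX) P hPe (1 - Polynomial.X ^ n) ℂ
  rw [map_sub, map_one, map_pow, DegPolyLib.evZ_X] at heval
  simp only [Polynomial.map_sub, Polynomial.map_one, Polynomial.map_pow, Polynomial.map_X, Polynomial.eval_sub,
    Polynomial.eval_one, Polynomial.eval_pow, Polynomial.eval_X] at heval
  have hd : DegPolyLib.degE (1 - (EndAV.End.of πX) ^ n) ≠ 0 := by
    intro h0
    rw [h0, Nat.cast_zero, eq_comm, Multiset.prod_eq_zero_iff] at heval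
    obtain ⟨z, hz, hz0⟩ := Multiset.mem_map.1 heval
    have h1 := congrArg Complex.normSq (sub_eq_zero.1 hz0)
    rw [map_one, map_pow, hnorm z hz] at h1
    have h2 : (1 : ℝ) < (Nat.card k : ℝ) ^ n := one_lt_pow₀ (by exact_mod_cast hq) hn.ne'
    linarith
  rw [WeilAVLib.natCard_rational Ω (EndAV.End.of πX) hF k', WeilAVLib.natCard_fixed Ω hg (EndAV.End.of πX) hF hn hd,
    heval]

end Groth.Agent.S16840
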