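import Groth.Statements.S16841
import Groth.Agent.WeilAVLib.Num

set_option autoImplicit false
universe u
open CategoryTheory MonoidalCategory CartesianMonoidalCategory MonObj GrpObj AlgebraicGeometry
open AbVar

namespace Groth.Agent.S16841

open CategoryTheory CategoryTheory.Limits AlgebraicGeometry

open Groth.Agent
set_option backward.isDefEq.respectTransparency false
set_option synthInstance.maxHeartbeats 400000
set_option maxHeartbeats 1000000

/-- Let k be a finite field with q elements and algebraic closure Ω, ℓ a prime invertible in k, and X an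
abelian variety over k (a proper, geometrically integral commutative group scheme over k) of
dimension g, with geometric Frobenius π_X (the endomorphism that is the identity on points and the
q-th power map on sections); assume, as is the case, that the ℓ-adic Tate module of Ω-points T_ℓ X
is free of finite rank over ℤ_ℓ, and let f_X ∈ ℤ[t] be the polynomial mapping to the characteristic
polynomial of T_ℓ(π_X) (the characteristic polynomial of Frobenius). Only the inequality is stated,
not the equality case. Then the trace of π_X, which is minus the second-highest coefficient of f_X,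
satisfies |trace(π_X)| ≤ g · ⌊2√q⌋. -/
theorem result (k Ω : Type u) [Field k] [Finite k] [Field Ω] [Algebra k Ω] [IsAlgClosure k Ω]
    (l : ℕ) [Fact l.Prime] (hl : (l : k) ≠ 0) (X : Over (Spec (CommRingCat.of k)))
    [GrpObj X] [IsCommMonObj X] [IsProper X.hom] [GeometricallyIntegral X.hom]
    (g : ℕ) (hg : topologicalKrullDim X.left = g)
    (πX : X ⟶ X) [IsMonHom πX] (hπb : πX.left.base = 𝟙 _)
    (hπle : ∀ U : X.left.Opens, U ≤ πX.left ⁻¹ᵁ U)
    (hπapp : ∀ (U : X.left.Opens) (s : Γ(X.left, U)), (πX.left.appLE U U (hπle U)).hom s = s ^ Nat.card k)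
    [Module.Free ℤ_[l] (AbDual.TateMod X l (SGA7.pt Ω))] [Module.Finite ℤ_[l] (AbDual.TateMod X l (SGA7.pt Ω))]
    (P : Polynomial ℤ) (hP : (AbDual.tateMapₗ (l := l) (T := SGA7.pt Ω) πX).charpoly = P.map (Int.castRingHom ℤ_[l])) :
    |(P.nextCoeff : ℝ)| ≤ (g : ℝ) * (⌊2 * Real.sqrt (Nat.card k)⌋ : ℝ) := by
  haveI : IsAlgClosed Ω := IsAlgClosure.isAlgClosed k
  haveI : Module.Free ℤ_[l] (AbDual.TateMod X l (AVPtsLib.bcPt Ω)) := ‹_›
  haveI : Module.Finite ℤ_[l] (AbDual.TateMod X l (AVPtsLib.bcPt Ω)) := ‹_›
  let p : EndAV.End X := EndAV.End.of πX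
  obtain ⟨hm, hd, hPe⟩ := WeilAVLib.eval_of_charpoly hg Ω l hl p P hP
  have hfr : CogenLib.IsQFrob (Nat.card k) p.toHom.left := ⟨hπb, hπle, hπapp⟩
  have hq : 0 < Nat.card k := Nat.card_pos
  have h1 := WeilAVLib.trace_bound hg hq p hfr P hPe 1 (Or.inl rfl)
  have h2 := WeilAVLib.trace_bound hg hq p hfr P hPe (-1) (Or.inr rfl)
  have h3 : (P.nextCoeff : ℝ) = - ((P.map (Int.castRingHom ℂ)).roots.map fun z => z.re).sum := by
    have e := Polynomial.Splits.nextCoeff_eq_neg_sum_roots_of_monic (IsAlgClosed.splits (P.map (Int.castRingHom ℂ))) (hm.map _)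
    rw [Polynomial.nextCoeff_map (Int.cast_injective (α := ℂ))] at e
    have e' := congrArg Complex.reLm e
    rw [map_neg, map_multiset_sum] at e'
    simpa using e'
  rw [abs_le, h3]
  push_cast at h1 h2
  constructor <;> linarith

end Groth.Agent.S16841
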