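import Groth.Statements.S16847
import Groth.Agent.DegPolyLib.Simple
import Groth.Agent.CogenLib.Basic
import Groth.Agent.PoincareLib.Semisimple
import Mathlib.LinearAlgebra.Charpoly.Basic

set_option autoImplicit false
universe u
open CategoryTheory MonoidalCategory CartesianMonoidalCategory MonObj GrpObj AlgebraicGeometry
open AbVar

namespace Groth.Agent.S16847

open CategoryTheory CategoryTheory.Limits AlgebraicGeometry

open Groth.Agent
set_option backward.isDefEq.respectTransparency false
set_option linter.style.haveILetI false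
set_option synthInstance.maxHeartbeats 400000
set_option maxHeartbeats 1000000

/-- Let k be a finite field with q elements and algebraic closure Ω, ℓ a prime invertible in k, and X an
abelian variety over k (a proper, geometrically integral commutative group scheme over k) of
dimension g, with geometric Frobenius π_X (the endomorphism that is the identity on points and the
q-th power map on sections); assume, as is the case, that the ℓ-adic Tate module of Ω-points T_ℓ X
is free of finite rank over ℤ_ℓ, and let f_X ∈ ℤ[t] be the polynomial mapping to the characteristic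
polynomial of T_ℓ(π_X) (the characteristic polynomial of Frobenius). Then ℚ[π_X] ⊆ End⁰(X) = ℚ ⊗
End_k(X) is a field (equivalently, X is elementary, i.e. isogenous to a power of a simple abelian
variety — that reformulation is not restated) if and only if f_X = h^n for some irreducible h ∈ ℚ[t]
and some n ≥ 1. -/
theorem result (k Ω : Type u) [Field k] [Finite k] [Field Ω] [Algebra k Ω] [IsAlgClosure k Ω]
    (l : ℕ) [Fact l.Prime] (hl : (l : k) ≠ 0) (X : Over (Spec (CommRingCat.of k)))
    [GrpObj X] [IsCommMonObj X] [IsProper X.hom] [GeometricallyIntegral X.hom]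
    (πX : X ⟶ X) [IsMonHom πX] (hπb : πX.left.base = 𝟙 _)
    (hπle : ∀ U : X.left.Opens, U ≤ πX.left ⁻¹ᵁ U)
    (hπapp : ∀ (U : X.left.Opens) (s : Γ(X.left, U)), (πX.left.appLE U U (hπle U)).hom s = s ^ Nat.card k)
    [Module.Free ℤ_[l] (AbDual.TateMod X l (SGA7.pt Ω))] [Module.Finite ℤ_[l] (AbDual.TateMod X l (SGA7.pt Ω))]
    (P : Polynomial ℤ) (hP : (AbDual.tateMapₗ (l := l) (T := SGA7.pt Ω) πX).charpoly = P.map (Int.castRingHom ℤ_[l])) :
    IsField (EndAV.QAdj (EndAV.End.of πX)) ↔
      ∃ (h : Polynomial ℚ) (n : ℕ), Irreducible h ∧ 0 < n ∧ P.map (Int.castRingHom ℚ) = h ^ n := by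
  haveI : IsAlgClosed Ω := IsAlgClosure.isAlgClosed k
  obtain ⟨g, hg⟩ := AVLib.exists_dim (A := X)
  haveI : Module.Free ℤ_[l] (AbDual.TateMod X l (AVPtsLib.bcPt Ω)) := ‹_›
  haveI : Module.Finite ℤ_[l] (AbDual.TateMod X l (AVPtsLib.bcPt Ω)) := ‹_›
  haveI := AVHomLib.finite_end0 X
  let p : EndAV.End X := EndAV.End.of πX
  let x : EndAV.End0 X := EndAV.toEnd0 p
  have huniq : ∀ P' : Polynomial ℤ,
      (∀ n : ℤ, P'.eval n = (DegPolyLib.degE (p - ((n : ℤ) : EndAV.End X)) : ℤ)) → P' = P := fun P' hP' =>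
    Polynomial.map_injective (Int.castRingHom ℤ_[l]) Int.cast_injective
      ((DegPolyLib.charpoly_any Ω hg l hl p P' hP').symm.trans hP)
  obtain ⟨P', hm, hd, hP'⟩ := DegPolyLib.exists_charPZ hg p
  obtain rfl := huniq P' hP'
  constructor
  · intro hF
    haveI : Nontrivial (EndAV.QAdj p) := ⟨hF.exists_pair_ne⟩
    haveI : NoZeroDivisors (EndAV.QAdj p) := ⟨fun {a b} hab => by
      by_cases ha : a = 0
      · exact Or.inl ha
      · obtain ⟨c, hc⟩ := hF.mul_inv_cancel ha
        right
        rw [hF.mul_comm] at hc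
        rw [← _root_.one_mul b, ← hc, _root_.mul_assoc, hab, mul_zero]⟩
    haveI : IsDomain (EndAV.QAdj p) := NoZeroDivisors.to_isDomain ↥(EndAV.QAdj p)
    haveI : Module.Finite ℚ (EndAV.QAdj p) :=
      Module.Finite.of_injective (EndAV.QAdj p).val.toLinearMap Subtype.val_injective
    let y : EndAV.QAdj p := ⟨x, Algebra.self_mem_adjoin_singleton ℚ x⟩
    have hirr : Irreducible (minpoly ℚ x) := by
      have e : minpoly ℚ ((EndAV.QAdj p).val y) = minpoly ℚ y :=
        minpoly.algHom_eq _ Subtype.val_injective y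
      exact e.symm ▸ minpoly.irreducible (IsIntegral.of_finite ℚ y)
    obtain ⟨P'', hP'', hPq⟩ := DegPolyLib.charPZ_eq_pow hg p hirr
    obtain rfl := huniq P'' hP''
    refine ⟨_, _, hirr, Nat.pos_of_ne_zero fun h0 => ?_, hPq⟩
    rw [show (minpoly ℚ (EndAV.toEnd0 p)).natDegree = (minpoly ℚ x).natDegree from rfl, h0, pow_zero] at hPq
    have h2 := congrArg Polynomial.natDegree hPq
    rw [Polynomial.natDegree_map_eq_of_injective (Int.cast_injective (α := ℚ)), Polynomial.natDegree_one, hd] at h2
    haveI := DegPolyLib.subsingleton_end0_of_dim_zero hg (by omega)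
    exact one_ne_zero (α := EndAV.QAdj p) (Subtype.ext (Subsingleton.elim _ _))
  · rintro ⟨h, n, hh, hn, hPh⟩
    haveI hnt : Nontrivial (EndAV.End0 X) := by
      rcases subsingleton_or_nontrivial (EndAV.End0 X) with hs | hn'
      · rw [DegPolyLib.eq_one_of_subsingleton hg p _ hP', Polynomial.map_one] at hPh
        exact absurd ((isUnit_pow_iff hn.ne').1 (hPh ▸ isUnit_one)) hh.not_isUnit
      · exact hn'
    have h0 : DegPolyLib.evZ p P' = 0 := by
      refine DegPolyLib.tateRep_injective Ω l hl ?_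
      have hch := LinearMap.aeval_self_charpoly (AbDual.tateMapₗ (l := l) (T := SGA7.pt Ω) πX)
      rw [hP] at hch
      refine Eq.trans ?_ hch
      show EndAV.End.tateRep l (AVPtsLib.bcPt Ω) (Polynomial.eval₂ (Int.castRingHom _) p P') = _
      rw [Polynomial.hom_eval₂, Polynomial.aeval_def, Polynomial.eval₂_map]
      congr 1
      exact RingHom.ext_int _ _
    have hx : Polynomial.aeval x h ^ n = 0 := by
      rw [← map_pow, ← hPh, ← DegPolyLib.toEnd0_evZ, h0, map_zero]
    have hfr : CogenLib.IsQFrob (Nat.card k) πX.left := ⟨hπb, hπle, hπapp⟩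
    have hcen : ∀ z, x * z = z * x := by
      intro z
      obtain ⟨m, φ, hm', hz⟩ := AVHomLib.exists_den z
      have h1 : p * φ = φ * p := EndAV.End.ext (by
        rw [EndAV.End.toHom_mul, EndAV.End.toHom_mul]
        exact (CogenLib.comm_over hfr hfr φ.toHom).symm)
      have h2 : (m : ℚ) • (x * z) = (m : ℚ) • (z * x) := by
        rw [← mul_smul_comm, hz, ← smul_mul_assoc, hz, ← map_mul, ← map_mul, h1]
      exact smul_right_injective _ (by exact_mod_cast hm'.ne') h2
    have hle : EndAV.QAdj p ≤ Subalgebra.center ℚ (EndAV.End0 X) := Algebra.adjoin_le (by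
      rintro _ rfl
      exact Subalgebra.mem_center_iff.2 fun z => (hcen z).symm)
    have hmem : ∀ f : Polynomial ℚ, Polynomial.aeval x f ∈ EndAV.QAdj p := fun f =>
      Polynomial.aeval_mem_adjoin_singleton ℚ x
    have hx0 : Polynomial.aeval x h = 0 :=
      PoincareLib.eq_zero_of_central_nilpotent X (fun z => (Subalgebra.mem_center_iff.1 (hle (hmem h)) z).symm)
        ⟨n, hx⟩
    refine ⟨⟨0, 1, fun e => zero_ne_one (α := EndAV.End0 X) (congrArg Subtype.val e)⟩,
      fun a b => Subtype.ext (Subalgebra.mem_center_iff.1 (hle b.2) a.1), fun {a} ha => ?_⟩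
    obtain ⟨f, hf⟩ : a.1 ∈ (Polynomial.aeval x : Polynomial ℚ →ₐ[ℚ] EndAV.End0 X).range :=
      Algebra.adjoin_singleton_eq_range_aeval ℚ x ▸ a.2
    have hf' : Polynomial.aeval x f = a.1 := hf
    have hnd : ¬ h ∣ f := fun ⟨c, hc⟩ => ha (Subtype.ext (by rw [← hf', hc, map_mul, hx0, zero_mul]; rfl))
    obtain ⟨u, v, huv⟩ := (hh.coprime_iff_not_dvd).2 hnd
    refine ⟨⟨_, hmem v⟩, Subtype.ext ?_⟩
    show a.1 * Polynomial.aeval x v = 1
    rw [← hf', ← map_mul, mul_comm f v]
    have h3 := congrArg (Polynomial.aeval x) huv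
    rwa [map_add, map_mul, hx0, mul_zero, zero_add, map_one] at h3

end Groth.Agent.S16847
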