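import Groth.Statements.S16849
import Groth.Agent.WeilAVLib.Zeta
import Groth.Agent.WeilAVLib.Pts

set_option autoImplicit false
universe u
open CategoryTheory MonoidalCategory CartesianMonoidalCategory MonObj GrpObj AlgebraicGeometry
open AbVar

namespace Groth.Agent.S16849

open CategoryTheory CategoryTheory.Limits AlgebraicGeometry

open Groth.Agent
set_option backward.isDefEq.respectTransparency false
set_option synthInstance.maxHeartbeats 400000
set_option maxHeartbeats 1000000

/-- Let k be a finite field with q elements and algebraic closure Ω, ℓ a prime invertible in k, and X an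
abelian variety over k (a proper, geometrically integral commutative group scheme over k) of
dimension g, with geometric Frobenius π_X (the endomorphism that is the identity on points and the
q-th power map on sections); assume, as is the case, that the ℓ-adic Tate module of Ω-points T_ℓ X
is free of finite rank over ℤ_ℓ, and let f_X ∈ ℤ[t] be the polynomial mapping to the characteristic
polynomial of T_ℓ(π_X) (the characteristic polynomial of Frobenius). Let α_1, …, α_{2g} be the
complex roots of f_X with multiplicity and, for 0 ≤ j ≤ 2g, P_j(t) = ∏_I (1 − α_I t), the product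
over the j-element sub-multisets I of the roots, α_I = ∏_{i ∈ I} α_i (so P_j is the reciprocal
characteristic polynomial of the j-th exterior power of V_ℓ(π_X)). Then every P_j has integer
coefficients, and the zeta function Z(X; t) = exp(Σ_{m ≥ 1} N_m t^m / m) (N_m the number of points
of X in a degree-m extension of k, counted through closed points) satisfies Z(X; t) · ∏_{j even}
P_j(t) = ∏_{j odd} P_j(t) in ℂ⟦t⟧, i.e. Z(X; t) = P_1 P_3 ⋯ P_{2g−1} / (P_0 P_2 ⋯ P_{2g}). -/
theorem result (k Ω : Type u) [Field k] [Finite k] [Field Ω] [Algebra k Ω] [IsAlgClosure k Ω]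
    (l : ℕ) [Fact l.Prime] (hl : (l : k) ≠ 0) (X : Over (Spec (CommRingCat.of k)))
    [GrpObj X] [IsCommMonObj X] [IsProper X.hom] [GeometricallyIntegral X.hom]
    (πX : X ⟶ X) [IsMonHom πX] (hπb : πX.left.base = 𝟙 _)
    (hπle : ∀ U : X.left.Opens, U ≤ πX.left ⁻¹ᵁ U)
    (hπapp : ∀ (U : X.left.Opens) (s : Γ(X.left, U)), (πX.left.appLE U U (hπle U)).hom s = s ^ Nat.card k)
    [Module.Free ℤ_[l] (AbDual.TateMod X l (SGA7.pt Ω))] [Module.Finite ℤ_[l] (AbDual.TateMod X l (SGA7.pt Ω))]
    (P : Polynomial ℤ) (hP : (AbDual.tateMapₗ (l := l) (T := SGA7.pt Ω) πX).charpoly = P.map (Int.castRingHom ℤ_[l])) :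
    (∀ j : ℕ, ∃ Q : Polynomial ℤ, Q.map (Int.castRingHom ℂ) = (((P.map (Int.castRingHom ℂ)).roots.powersetCard j).map
          (fun I => (1 : Polynomial ℂ) - Polynomial.C I.prod * Polynomial.X)).prod) ∧
      (Zeta.zetaFun X.hom).map (algebraMap ℚ ℂ) *
          ∏ j ∈ (Finset.range (P.natDegree + 1)).filter (fun j => Even j),
            (((((P.map (Int.castRingHom ℂ)).roots.powersetCard j).map
          (fun I => (1 : Polynomial ℂ) - Polynomial.C I.prod * Polynomial.X)).prod : Polynomial ℂ) : PowerSeries ℂ) =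
        ∏ j ∈ (Finset.range (P.natDegree + 1)).filter (fun j => Odd j),
          (((((P.map (Int.castRingHom ℂ)).roots.powersetCard j).map
          (fun I => (1 : Polynomial ℂ) - Polynomial.C I.prod * Polynomial.X)).prod : Polynomial ℂ) : PowerSeries ℂ) := by
  haveI : IsAlgClosed Ω := IsAlgClosure.isAlgClosed k
  obtain ⟨g, hg⟩ := AVLib.exists_dim (A := X)
  haveI : Module.Free ℤ_[l] (AbDual.TateMod X l (AVPtsLib.bcPt Ω)) := ‹_›
  haveI : Module.Finite ℤ_[l] (AbDual.TateMod X l (AVPtsLib.bcPt Ω)) := ‹_›
  obtain ⟨hmon, hdeg, hPe⟩ := WeilAVLib.eval_of_charpoly hg Ω l hl (EndAV.End.of πX) P hP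
  refine ⟨fun j => WeilAVLib.exists_symProd_int hmon j, ?_⟩
  have hF : CogenLib.IsQFrob (Nat.card k) (EndAV.End.of πX).toHom.left := ⟨hπb, hπle, hπapp⟩
  have hnorm := WeilAVLib.normSq_root hg (EndAV.End.of πX) hF P hPe
  have hq : 1 < Nat.card k := Finite.one_lt_card
  have hcard : (P.map (Int.castRingHom ℂ)).roots.card = P.natDegree := by
    rw [IsAlgClosed.card_roots_eq_natDegree, hmon.natDegree_map]
  rw [← hcard]
  refine WeilAVLib.zeta_eq X.hom _ fun m hm => ?_
  obtain ⟨k', _, _, _, hk'⟩ := WeilAVLib.exists_ext (k := k) m (Nat.one_le_iff_ne_zero.1 hm)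
  haveI : QuasiCompact X.hom := inferInstance
  have hd : DegPolyLib.degE (1 - (EndAV.End.of πX) ^ m) ≠ 0 ∧
      (DegPolyLib.degE (1 - (EndAV.End.of πX) ^ m) : ℂ) =
        ((P.map (Int.castRingHom ℂ)).roots.map fun a => 1 - a ^ m).prod := by
    have heval := WeilAVLib.degE_eval_any hg (EndAV.End.of πX) P hPe (1 - Polynomial.X ^ m) ℂ
    rw [map_sub, map_one, map_pow, DegPolyLib.evZ_X] at heval
    simp only [Polynomial.map_sub, Polynomial.map_one, Polynomial.map_pow, Polynomial.map_X, Polynomial.eval_sub,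
      Polynomial.eval_one, Polynomial.eval_pow, Polynomial.eval_X] at heval
    refine ⟨fun h0 => ?_, heval⟩
    rw [h0, Nat.cast_zero, eq_comm, Multiset.prod_eq_zero_iff] at heval
    obtain ⟨z, hz, hz0⟩ := Multiset.mem_map.1 heval
    have h1 := congrArg Complex.normSq (sub_eq_zero.1 hz0)
    rw [map_one, map_pow, hnorm z hz] at h1
    have h2 : (1 : ℝ) < (Nat.card k : ℝ) ^ m := one_lt_pow₀ (by exact_mod_cast hq) (Nat.one_le_iff_ne_zero.1 hm)
    linarith
  have hcount : Zeta.nPts X.hom m = DegPolyLib.degE (1 - (EndAV.End.of πX) ^ m) := by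
    subst hk'
    rw [← WeilAVLib.natCard_fixed Ω hg (EndAV.End.of πX) hF hm hd.1,
      ← WeilAVLib.natCard_rational Ω (EndAV.End.of πX) hF k', ← S13050.result X.hom k', SgaExt.pointCount]
    exact Nat.card_congr
      { toFun := fun g => Over.homMk g.1 g.2
        invFun := fun g => ⟨g.left, Over.w g⟩
        left_inv := fun g => rfl
        right_inv := fun g => rfl }
  rw [hcount]
  exact hd.2

end Groth.Agent.S16849
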