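import Groth.Statements.S1685
import Groth.Agent.S0320
import Groth.Agent.Depth.FlatLocal
import Groth.Agent.IdealStalkLib.Cartier
import Groth.Agent.CAlgBasics.Depth

set_option autoImplicit false
universe u
open CategoryTheory CategoryTheory.Limits AlgebraicGeometry TopologicalSpace
open SDiv

namespace Groth.Agent.S1685

open CategoryTheory CategoryTheory.Limits AlgebraicGeometry


open IsLocalRing RingTheory.Sequence in
lemma depth_le_of_surjective {O T : Type u} [CommRing O] [IsLocalRing O] [IsNoetherianRing O]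
    [CommRing T] [IsLocalRing T] [Algebra O T] (hs : Function.Surjective (algebraMap O T))
    [IsLocalHom (algebraMap O T)] : LocCoh.depth O T ≤ LocCoh.depth T T := by
  have : Module.Finite O T := Module.Finite.of_surjective (Algebra.linearMap O T) hs
  refine ENat.forall_natCast_le_iff_le.mp fun n hn ↦ ?_
  rw [CAlgBasics.natCast_le_depth_iff] at hn ⊢
  obtain ⟨rs, hl, hreg, hm⟩ := hn
  refine ⟨rs.map (algebraMap O T), by simpa using hl,
    (isWeaklyRegular_map_algebraMap_iff T T rs).mpr hreg, fun r hr ↦ ?_⟩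
  obtain ⟨r', hr', rfl⟩ := List.mem_map.mp hr
  exact fun hu ↦ hm r' hr' (IsUnit.of_map (algebraMap O T) r' hu)

/-- Let X be a locally Noetherian scheme all of whose local rings satisfy Serre's condition (S_k), and
let D be the closed subscheme of an effective Cartier divisor. Then all local rings of D satisfy
(S_{k-1}). -/
theorem result (X : Scheme.{u}) [IsLocallyNoetherian X] (k : ℕ)
    (hX : ∀ x : ↥X, min (k : WithBot ℕ∞) (ringKrullDim (X.presheaf.stalk x)) ≤
      ((LocCoh.depth (X.presheaf.stalk x) (X.presheaf.stalk x) : ℕ∞) : WithBot ℕ∞))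
    (𝓘 : X.IdealSheafData) (h𝓘 : BlowUp.IsEffCartierIdeal 𝓘) (d : ↥𝓘.subscheme) :
    min ((k - 1 : ℕ) : WithBot ℕ∞) (ringKrullDim (𝓘.subscheme.presheaf.stalk d)) ≤
      ((LocCoh.depth (𝓘.subscheme.presheaf.stalk d) (𝓘.subscheme.presheaf.stalk d) : ℕ∞) : WithBot ℕ∞) := by
  open Pointwise in
  obtain ⟨U, hxU, f, hf, hfU⟩ := h𝓘 (𝓘.subschemeι d)
  set x := 𝓘.subschemeι d with hx
  let O := X.presheaf.stalk x
  let T := 𝓘.subscheme.presheaf.stalk d
  letI : Algebra O T := (𝓘.subschemeι.stalkMap d).hom.toAlgebra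
  have hsurj : Function.Surjective (algebraMap O T) := 𝓘.subschemeι.stalkMap_surjective d
  haveI : IsLocalHom (algebraMap O T) :=
    (inferInstance : IsLocalHom (𝓘.subschemeι.stalkMap d).hom)
  let g : O := X.presheaf.germ U.1 x hxU f
  have hker : RingHom.ker (algebraMap O T) = Ideal.span {g} := by
    show RingHom.ker (𝓘.subschemeι.stalkMap d).hom = _
    rw [IdealStalkLib.ker_stalkMap_subschemeι, IdealStalkLib.stalkIdeal_eq 𝓘 U x hxU, hfU,
      Ideal.map_span, Set.image_singleton]
  have hgreg : IsSMulRegular O g := by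
    letI : Algebra Γ(X, U.1) O := TopCat.Presheaf.algebra_section_stalk X.presheaf ⟨x, hxU⟩
    haveI := U.2.isLocalization_stalk ⟨x, hxU⟩
    haveI : Module.Flat Γ(X, U.1) O :=
      IsLocalization.flat O (U.2.primeIdealOf ⟨x, hxU⟩).asIdeal.primeCompl
    intro a b hab
    refine (Module.Flat.isSMulRegular_of_nonZeroDivisors (M := O) hf) ?_
    simp only [Algebra.smul_def]
    exact hab
  have hgmem : g ∈ IsLocalRing.maximalIdeal O := by
    have h1 : Ideal.span {g} ≤ IsLocalRing.maximalIdeal O := by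
      rw [← hker]
      exact IsLocalRing.le_maximalIdeal (RingHom.ker_ne_top _)
    exact h1 (Ideal.mem_span_singleton_self g)
  have hdim : ringKrullDim T + 1 = ringKrullDim O := by
    rw [← ringKrullDim_quotient_span_singleton_succ_eq_ringKrullDim hgreg hgmem]
    congr 1
    exact ringKrullDim_eq_of_ringEquiv
      ((RingHom.quotientKerEquivOfSurjective hsurj).symm.trans (Ideal.quotEquivOfEq hker))
  let e : QuotSMulTop g O ≃ₗ[O] T :=
    (Submodule.quotEquivOfEq _ _ (by
      ext z
      rw [LinearMap.mem_ker, Algebra.linearMap_apply]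
      show z ∈ g • (⊤ : Submodule O O) ↔ z ∈ RingHom.ker (algebraMap O T)
      rw [hker, Ideal.mem_span_singleton', Submodule.mem_smul_pointwise_iff_exists]
      constructor
      · rintro ⟨w, -, rfl⟩; exact ⟨w, mul_comm w g⟩
      · rintro ⟨w, rfl⟩; exact ⟨w, trivial, mul_comm g w⟩)).trans
      (LinearMap.quotKerEquivOfSurjective (Algebra.linearMap O T) hsurj)
  have hne : IsLocalRing.maximalIdeal O • (⊤ : Submodule O O) ≠ ⊤ := by
    rw [smul_eq_mul, Ideal.mul_top]
    exact (IsLocalRing.maximalIdeal.isMaximal O).ne_top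
  have hdepth : LocCoh.depth O O ≤ LocCoh.depth T T + 1 := by
    have h1 := S0320.result O (IsLocalRing.maximalIdeal O) O hne g hgmem hgreg
    rw [show LocCoh.depth O O = LocCoh.idealDepth (IsLocalRing.maximalIdeal O) O from rfl, ← h1]
    refine add_le_add_left ?_ 1
    show LocCoh.depth O (QuotSMulTop g O) ≤ _
    rw [Depth.depth_congr e]
    exact depth_le_of_surjective hsurj
  have hX' : min (k : WithBot ℕ∞) (ringKrullDim O) ≤
      ((LocCoh.depth T T + 1 : ℕ∞) : WithBot ℕ∞) := (hX x).trans (WithBot.coe_le_coe.mpr hdepth)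
  show min ((k - 1 : ℕ) : WithBot ℕ∞) (ringKrullDim T) ≤ ((LocCoh.depth T T : ℕ∞) : WithBot ℕ∞)
  generalize hD : LocCoh.depth T T = D at hX' ⊢
  induction D using ENat.recTopCoe with
  | top => simp
  | coe D =>
    haveI : IsNoetherianRing T := isNoetherianRing_of_surjective O T (algebraMap O T) hsurj
    obtain ⟨n, hn⟩ : ∃ n : ℕ, ringKrullDim T = n := by
      obtain ⟨n, hn⟩ := ENat.ne_top_iff_exists.mp (Ideal.height_ne_top
        (I := IsLocalRing.maximalIdeal T) (IsLocalRing.maximalIdeal.isMaximal _).ne_top)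
      exact ⟨n, by rw [← IsLocalRing.maximalIdeal_height_eq_ringKrullDim, ← hn]; rfl⟩
    rw [← hdim, hn] at hX'
    rw [hn]
    have h2 : k ≤ D + 1 ∨ n + 1 ≤ D + 1 := (min_le_iff.mp hX').imp
      (fun h ↦ by exact_mod_cast h) (fun h ↦ by exact_mod_cast h)
    have h3 : k - 1 ≤ D ∨ n ≤ D := by omega
    exact min_le_iff.mpr (h3.imp (fun h ↦ WithBot.coe_le_coe.mpr (Nat.cast_le.mpr h))
      (fun h ↦ WithBot.coe_le_coe.mpr (Nat.cast_le.mpr h)))

end Groth.Agent.S1685
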