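import Mathlib
import Groth.Agent.SigmaLinLib.Witt
import Groth.Statements.S16853

set_option autoImplicit false
universe u v
open CAlg

namespace Groth.Agent.S16853

/-- Let k be an algebraically closed field of characteristic p > 0 and ν ≥ 1; let V be a
finite-dimensional k-vector space and φ : V → V a bijective additive map that is Frob^ν-semilinear,
φ(a·v) = a^(p^ν)·φ(v). Then V admits a k-basis consisting of φ-fixed vectors; in particular V is
spanned by V₀ = {v | φ(v) = v}, an F_{p^ν}-subspace, and k ⊗ V₀ → V is surjective. (The copy allows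
ν < 0 as well, reducing to φ⁻¹; stated here for ν ≥ 1. The injectivity of k ⊗_{F_{p^ν}} V₀ → V,
asserted in the copy, is not restated.) -/
theorem result (k : Type u) [Field k] [IsAlgClosed k]
    (p : ℕ) [Fact p.Prime] [CharP k p] (ν : ℕ) (hν : 1 ≤ ν)
    (V : Type v) [AddCommGroup V] [Module k V] [FiniteDimensional k V]
    (φ : V →+ V) (hφ : ∀ (a : k) (v : V), φ (a • v) = a ^ (p ^ ν) • φ v) (hbij : Function.Bijective φ) :
    ∃ (ι : Type v) (b : Module.Basis ι k V), ∀ i, φ (b i) = b i := by
  classical
  open Polynomial in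
  open Groth.Agent.SigmaLinLib in
  let q := p ^ ν
  have hq : 1 < q := Nat.one_lt_pow (by omega) (Fact.out : p.Prime).one_lt
  let σ : k →+* k := iterateFrobenius k p ν
  have hσ : ∀ x, σ x = x ^ q := fun x => iterateFrobenius_def (R := k) p ν x
  have hit : ∀ (j : ℕ) (x : k), (⇑σ)^[j] x = x ^ q ^ j := fun j x => by
    induction j with
    | zero => simp
    | succ j ih => rw [Function.iterate_succ_apply', ih, hσ, ← pow_mul, ← pow_succ]
  have h3 : ∀ c : k, ∃ y, σ y - y + c = 0 := by
    intro c
    obtain ⟨y, hy⟩ := IsAlgClosed.exists_root (Polynomial.X ^ q - Polynomial.X + Polynomial.C c : Polynomial k) (by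
      rw [show (Polynomial.X ^ q - Polynomial.X + Polynomial.C c : Polynomial k) = Polynomial.X ^ q + (Polynomial.C c - Polynomial.X) by ring,
        Polynomial.degree_add_eq_left_of_degree_lt] <;> rw [Polynomial.degree_X_pow]
      · exact_mod_cast (by omega : q ≠ 0)
      · refine lt_of_le_of_lt ((Polynomial.degree_sub_le _ _).trans
          (max_le (Polynomial.degree_C_le.trans zero_le_one) Polynomial.degree_X_le)) ?_
        exact_mod_cast hq)
    exact ⟨y, by simpa [hσ] using hy⟩
  have h2 : Groth.Agent.SigmaLinLib.H2 σ := by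
    intro n b hb
    obtain ⟨i₀, hi₀⟩ : ∃ i, b i ≠ 0 := Function.ne_iff.1 hb
    let c : Fin (n + 1) → k := fun i => (⇑σ)^[i.val] (b (Fin.rev i))
    let P : Polynomial k := Polynomial.X - ∑ i : Fin (n + 1), Polynomial.C (c i) * Polynomial.X ^ q ^ (i.val + 1)
    have hne : ∀ i : Fin (n + 1), q ^ (i.val + 1) ≠ 1 := fun i => (Nat.one_lt_pow (by omega) hq).ne'
    have h1 : P.coeff 1 = 1 := by
      simp only [P, Polynomial.coeff_sub, Polynomial.coeff_X_one, Polynomial.finsetSum_coeff, Polynomial.coeff_C_mul,
        Polynomial.coeff_X_pow]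
      rw [Finset.sum_eq_zero fun i _ => by rw [if_neg (hne i).symm, mul_zero], sub_zero]
    have h2 : P.coeff (q ^ ((Fin.rev i₀).val + 1)) = - c (Fin.rev i₀) := by
      simp only [P, Polynomial.coeff_sub, Polynomial.coeff_X, Polynomial.finsetSum_coeff, Polynomial.coeff_C_mul,
        Polynomial.coeff_X_pow]
      rw [if_neg (hne _).symm, Finset.sum_eq_single (Fin.rev i₀), if_pos rfl, mul_one, zero_sub]
      · intro i _ hi
        rw [if_neg, mul_zero]
        intro h
        exact hi (Fin.ext (Nat.succ_injective (Nat.pow_right_injective hq h).symm))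
      · simp
    obtain ⟨x, hx0, hx⟩ := Groth.Agent.SigmaLinLib.exists_root_ne_zero P (hne (Fin.rev i₀)).symm
      (by rw [h1]; exact one_ne_zero) (by
        rw [h2, neg_ne_zero]
        simp only [c, hit, Fin.rev_rev]
        exact pow_ne_zero _ hi₀)
    refine ⟨x, hx0, ?_⟩
    simp only [P, Polynomial.eval_sub, Polynomial.eval_X, Polynomial.eval_finsetSum, Polynomial.eval_mul,
      Polynomial.eval_C, Polynomial.eval_pow, sub_eq_zero] at hx
    conv_lhs => rw [hx]
    refine Finset.sum_congr rfl fun i _ => ?_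
    rw [hit (i.val + 1), mul_comm]
  let T : V →ₛₗ[σ] V :=
    { toFun := φ
      map_add' := φ.map_add
      map_smul' := fun a v => by rw [hφ, hσ] }
  have hspan : Submodule.span k (Set.range T) = ⊤ := by
    rw [show Set.range T = Set.univ from Set.range_eq_univ.2 hbij.2, Submodule.span_univ]
  obtain ⟨⟨b, hb⟩, -⟩ := Groth.Agent.SigmaLinLib.exists_fixed_basis T hspan h2 h3
  exact ⟨ULift.{v} (Fin (Module.finrank k V)), b.reindex Equiv.ulift.symm, fun i => by simpa [T] using hb i.down⟩

end Groth.Agent.S16853
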