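import Mathlib
import Groth.Statements.S16854
-- import your own Groth.Agent.* helpers here

set_option autoImplicit false
universe u v
open CAlg
open Polynomial

namespace Groth.Agent.S16854


section
variable (q : ℕ) {k : Type u} [Field k] [IsSepClosed k] (hq : 1 < q) (hq0 : (q : k) = 0)
include hq hq0

theorem exists_artin_schreier (b : k) : ∃ c : k, c ^ q - c = b := by
  have hdeg : (X ^ q - X - C b : k[X]).degree = q := by
    rw [sub_sub, degree_sub_eq_left_of_degree_lt] <;>
      simp [degree_X_add_C, Nat.one_lt_cast, hq]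
  obtain ⟨c, hc⟩ := IsSepClosed.exists_root (X ^ q - X - C b : k[X])
    (by rw [hdeg]; exact_mod_cast (Nat.ne_zero_of_lt hq)) (by
      rw [separable_def]
      have : derivative (X ^ q - X - C b : k[X]) = -1 := by
        simp [derivative_X_pow, hq0]
      rw [this]
      exact isCoprime_one_right.neg_right)
  exact ⟨c, by simpa [IsRoot.def, sub_eq_zero] using hc⟩

variable {V : Type v} [AddCommGroup V] [Module k V]

/-- Roots of additive separable recursions. -/
theorem exists_poly (a : ℕ → k) : ∀ i, ∃ P : k[X], derivative P = 0 ∧ P.eval 0 = 0 ∧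
    P.coeff (q ^ (i + 1)) = a 0 ^ q ^ i ∧ P.natDegree ≤ q ^ (i + 1) ∧
    ∀ y : k, ∀ x : ℕ → k, x 0 = a 0 * y ^ q → (∀ j, x (j + 1) = x j ^ q + a (j + 1) * y ^ q) → x i = P.eval y
  | 0 => ⟨C (a 0) * X ^ q, by simp [derivative_X_pow, hq0], by simp [(Nat.ne_zero_of_lt hq)],
      by simp, (natDegree_C_mul_X_pow_le _ _).trans (by simp), fun y x h0 _ => by simp [h0]⟩
  | i + 1 => by
    obtain ⟨P, h1, h2, h3, h4, h5⟩ := exists_poly a i
    refine ⟨P ^ q + C (a (i + 1)) * X ^ q, by simp [derivative_pow, derivative_X_pow, hq0], by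
      simp [h2, (Nat.ne_zero_of_lt hq)], ?_, ?_, fun y x h0 hs => by simp [hs, ← h5 y x h0 hs]⟩
    · have hlt : q < q ^ (i + 2) := by
        conv_lhs => rw [← pow_one q]
        exact Nat.pow_lt_pow_right hq (by omega)
      rw [coeff_add, coeff_C_mul_X_pow, if_neg hlt.ne', add_zero, show q ^ (i + 1 + 1) = q * q ^ (i + 1) by ring,
        coeff_pow_of_natDegree_le h4, h3, ← pow_mul, ← pow_succ]
    · refine (natDegree_add_le _ _).trans (max_le ?_ ?_)
      · refine natDegree_pow_le.trans ?_
        rw [show q ^ (i + 1 + 1) = q * q ^ (i + 1) by ring]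
        exact Nat.mul_le_mul_left q h4
      · exact (natDegree_C_mul_X_pow_le _ _).trans (Nat.le_self_pow (by omega) q)

/-- A semilinear injection has a nonzero fixed vector. -/
theorem exists_fixed [FiniteDimensional k V] [Nontrivial V] (T : V →+ V)
    (hT : ∀ (r : k) (v : V), T (r • v) = r ^ q • T v) (hspan : Submodule.span k (Set.range T) = ⊤) :
    ∃ w : V, w ≠ 0 ∧ T w = w := by
  classical
  -- images of independent vectors are independent
  have hTsum : ∀ {ι : Type} (s : Finset ι) (c : ι → k) (v : ι → V),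
      T (∑ i ∈ s, c i • v i) = ∑ i ∈ s, c i ^ q • T (v i) := fun s c v => by rw [map_sum]; simp [hT]
  have hTbasis : ∀ {ι : Type v} (bb : Module.Basis ι k V), LinearIndependent k (T ∘ bb) := fun {ι} bb => by
    have : Finite ι := Module.Finite.finite_basis bb
    have : Fintype ι := Fintype.ofFinite ι
    refine linearIndependent_of_top_le_span_of_card_eq_finrank ?_ (Module.finrank_eq_card_basis bb).symm
    rw [← hspan, Submodule.span_le]
    rintro _ ⟨v, rfl⟩
    rw [← bb.sum_repr v, map_sum]
    refine Submodule.sum_mem _ fun i _ => ?_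
    rw [hT]
    exact Submodule.smul_mem _ _ (Submodule.subset_span ⟨i, rfl⟩)
  obtain ⟨v, hv⟩ := exists_ne (0 : V)
  let f : ℕ → V := fun i => T^[i] v
  have hfs : ∀ i, f (i + 1) = T (f i) := fun i => Function.iterate_succ_apply' T i v
  have hex : ∃ m, ¬ LinearIndependent k fun i : Fin m => f i := by
    refine ⟨Module.finrank k V + 1, fun h => ?_⟩
    simpa using h.fintype_card_le_finrank
  obtain ⟨m, hm, hmin⟩ : ∃ m, ¬ LinearIndependent k (fun i : Fin (m + 1) => f i) ∧
      LinearIndependent k fun i : Fin m => f i := by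
    obtain ⟨m, hm, hlt⟩ : ∃ m, ¬ LinearIndependent k (fun i : Fin m => f i) ∧
        ∀ j < m, LinearIndependent k fun i : Fin j => f i :=
      ⟨Nat.find hex, Nat.find_spec hex, fun j hj => not_not.1 (Nat.find_min hex hj)⟩
    rcases m with _ | m
    · exact absurd (linearIndependent_empty_type) hm
    · exact ⟨m, hm, hlt m (Nat.lt_succ_self m)⟩
  have hmem : f m ∈ Submodule.span k (Set.range fun i : Fin m => f i) := by
    by_contra hnot
    refine hm ?_
    have h := linearIndependent_finSnoc.2 ⟨hmin, hnot⟩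
    convert h using 1
    funext i
    refine Fin.lastCases ?_ (fun j => ?_) i <;> simp
  obtain ⟨c, hc⟩ := (Submodule.mem_span_range_iff_exists_fun k).1 hmem
  rcases m with _ | m
  · simp only [Finset.univ_eq_empty, Finset.sum_empty] at hc
    exact absurd hc.symm hv
  let a : ℕ → k := fun j => if h : j < m + 1 then c ⟨j, h⟩ else 0
  have ha : ∀ j : Fin (m + 1), a j = c j := fun j => dif_pos j.2
  have ha0 : a 0 ≠ 0 := by
    intro h0
    have hc0 : c 0 = 0 := by rw [← ha 0]; simpa using h0
    have hTinj : LinearIndependent k fun i : Fin m => f (i + 1) := hmin.comp Fin.succ (Fin.succ_injective _)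
    -- `f (m+1)` would be a combination of `f 1, …, f m`, so `f m` one of `f 0, …, f (m-1)`
    have hspan' : f (m + 1) ∈ Submodule.span k (Set.range fun i : Fin m => T (f i)) := by
      rw [← hc, Fin.sum_univ_succ, hc0, zero_smul, zero_add]
      refine Submodule.sum_mem _ fun i _ => Submodule.smul_mem _ _ (Submodule.subset_span ⟨i, ?_⟩)
      exact (hfs i).symm
    have hli1 : LinearIndependent k fun i : Fin (m + 1) => T (f i) := by
      let bb := (Module.Basis.extend hmin.linearIndepOn_id)
      have hbb : LinearIndependent k (T ∘ bb) := hTbasis bb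
      have hg := hbb.comp (fun i : Fin (m + 1) => (⟨f i, hmin.linearIndepOn_id.subset_extend _ ⟨i, rfl⟩⟩ :
        hmin.linearIndepOn_id.extend (Set.subset_univ _))) fun i j h => hmin.injective (congrArg Subtype.val h)
      convert hg using 1
      funext i
      simp [bb, Module.Basis.coe_extend]
    rw [hfs] at hspan'
    have h2 := hli1.notMem_span_image (s := Set.range (Fin.castSucc : Fin m → Fin (m + 1))) (x := Fin.last m)
      (fun ⟨i, hi⟩ => Fin.castSucc_ne_last i hi)
    refine h2 ?_
    rw [← Set.range_comp]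
    simpa [Function.comp_def] using hspan'
  obtain ⟨P, hP1, hP2, hP3, hP4, hP5⟩ := exists_poly q hq hq0 a m
  have hQdeg : 1 < (P - X).natDegree := by
    refine lt_of_lt_of_le (Nat.one_lt_pow (by omega) hq) (le_natDegree_of_ne_zero (n := q ^ (m + 1)) ?_)
    rw [coeff_sub, hP3, coeff_X, if_neg (Nat.one_lt_pow (by omega) hq).ne, sub_zero]
    exact pow_ne_zero _ ha0
  have hsep : (P - X).Separable := by
    rw [separable_def, derivative_sub, hP1, derivative_X, zero_sub]
    exact isCoprime_one_right.neg_right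
  obtain ⟨y, hy, hy0⟩ : ∃ y, (P - X).IsRoot y ∧ y ≠ 0 := by
    have hne : P - X ≠ 0 := fun h => by simp [h] at hQdeg
    have hcard := splits_iff_card_roots.1 (IsSepClosed.splits_of_separable _ hsep)
    by_contra hall
    push Not at hall
    have hsub : (P - X).roots.toFinset ⊆ {0} := fun z hz =>
      Finset.mem_singleton.2 (hall z (isRoot_of_mem_roots (Multiset.mem_toFinset.1 hz)))
    have := Finset.card_le_card hsub
    rw [Multiset.toFinset_card_of_nodup (nodup_roots hsep), hcard, Finset.card_singleton] at this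
    omega
  let x : ℕ → k := fun j => Nat.rec (a 0 * y ^ q) (fun j xj => xj ^ q + a (j + 1) * y ^ q) j
  have hxm : x m = y := by
    rw [hP5 y x rfl fun j => rfl]
    simpa [IsRoot.def, sub_eq_zero] using hy
  refine ⟨∑ i : Fin (m + 1), x i • f i, fun h0 => ?_, ?_⟩
  · exact hy0 (hxm.symm.trans (Fintype.linearIndependent_iff.1 hmin _ h0 (Fin.last m)))
  · rw [hTsum]
    have h1 : ∑ i : Fin (m + 1), x i ^ q • T (f i) = (∑ i : Fin m, x i ^ q • f (i + 1)) + y ^ q • f (m + 1) := by
      rw [Fin.sum_univ_castSucc]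
      simp [← hfs, hxm]
    rw [h1, ← hc, Finset.smul_sum, Fin.sum_univ_succ (f := fun i : Fin (m + 1) => y ^ q • c i • f i),
      Fin.sum_univ_succ (f := fun i : Fin (m + 1) => x i • f i)]
    rw [add_left_comm, ← Finset.sum_add_distrib]
    congr 1
    · rw [smul_smul, ← ha 0, mul_comm]; rfl
    · refine Finset.sum_congr rfl fun i _ => ?_
      rw [smul_smul, ← ha i.succ, Fin.val_succ, ← add_smul, mul_comm]


/-- A semilinear bijection has a basis of fixed vectors. -/
theorem span_fixed_eq_top [FiniteDimensional k V] (T : V →+ V)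
    (hT : ∀ (r : k) (v : V), T (r • v) = r ^ q • T v) (hsurj : Function.Surjective T) :
    Submodule.span k {v | T v = v} = ⊤ ∧ Function.Surjective (fun v => T v - v) := by
  set W := Submodule.span k {v | T v = v} with hW
  have hsolve : ∀ d ∈ W, ∃ w ∈ W, T w - w = d := by
    intro d hd
    induction hd using Submodule.span_induction with
    | mem x hx =>
      obtain ⟨c, hc⟩ := exists_artin_schreier q hq hq0 (1 : k)
      exact ⟨c • x, Submodule.smul_mem _ _ (Submodule.subset_span hx), by
        rw [hT, show T x = x from hx, ← sub_smul, hc, one_smul]⟩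
    | zero => exact ⟨0, zero_mem _, by simp⟩
    | add x y _ _ hx hy =>
      obtain ⟨w, hw, rfl⟩ := hx
      obtain ⟨w', hw', rfl⟩ := hy
      exact ⟨w + w', add_mem hw hw', by rw [map_add]; abel⟩
    | smul r x hxm _ =>
      have : ∀ y ∈ W, ∃ w ∈ W, T w - w = y := by
        intro y hy
        obtain ⟨n, c, g, hg⟩ := Submodule.mem_span_set'.mp hy
        choose e he using fun i => exists_artin_schreier q hq hq0 (c i)
        refine ⟨∑ i, e i • (g i : V), Submodule.sum_mem _ fun i _ =>
          Submodule.smul_mem _ _ (Submodule.subset_span (g i).2), ?_⟩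
        rw [map_sum, ← Finset.sum_sub_distrib, ← hg]
        refine Finset.sum_congr rfl fun i _ => ?_
        rw [hT, show T (g i : V) = g i from (g i).2, ← sub_smul, he]
      exact this _ (Submodule.smul_mem _ r hxm)
  suffices h : W = ⊤ by
    exact ⟨h, fun d => let ⟨w, _, hw⟩ := hsolve d (h ▸ Submodule.mem_top); ⟨w, hw⟩⟩
  by_contra hne
  have hTW : ∀ x ∈ W, T x ∈ W := by
    intro x hx
    induction hx using Submodule.span_induction with
    | mem x hx => exact Submodule.subset_span (by show T (T x) = T x; rw [show T x = x from hx]; exact hx)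
    | zero => simp
    | add x y _ _ hx hy => rw [map_add]; exact add_mem hx hy
    | smul r x _ hx => rw [hT]; exact Submodule.smul_mem _ _ hx
  haveI : Nontrivial (V ⧸ W) := Submodule.Quotient.nontrivial_iff.mpr hne
  let T' : V ⧸ W →+ V ⧸ W := QuotientAddGroup.lift W.toAddSubgroup (W.mkQ.toAddMonoidHom.comp T)
    (fun v hv => (Submodule.Quotient.mk_eq_zero W).2 (hTW v hv))
  have hT'mk : ∀ v, T' (W.mkQ v) = W.mkQ (T v) := fun v => rfl
  have hT' : ∀ (r : k) (v : V ⧸ W), T' (r • v) = r ^ q • T' v := fun r v => by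
    obtain ⟨v, rfl⟩ := W.mkQ_surjective v
    rw [← map_smul, hT'mk, hT'mk, hT, map_smul]
  obtain ⟨u, hu0, hu⟩ := exists_fixed q hq hq0 T' hT' (by
    rw [eq_top_iff]
    rintro x -
    obtain ⟨x, rfl⟩ := W.mkQ_surjective x
    obtain ⟨y, rfl⟩ := hsurj x
    exact Submodule.subset_span ⟨W.mkQ y, hT'mk y⟩)
  obtain ⟨v, rfl⟩ := W.mkQ_surjective u
  obtain ⟨w, hwW, hw⟩ := hsolve _ ((Submodule.Quotient.eq W).1 hu)
  refine hu0 ((Submodule.Quotient.mk_eq_zero W).2 ?_)
  have : v - w ∈ W := Submodule.subset_span (by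
    show T (v - w) = v - w
    rw [map_sub, sub_eq_sub_iff_sub_eq_sub]
    exact hw.symm)
  simpa using add_mem this hwW

end

theorem lift_fixed {R : Type u} [CommRing R] (ϖ : R) [IsAdicComplete (Ideal.span {ϖ}) R] [IsLocalRing R]
    (hϖ : ϖ ∈ IsLocalRing.maximalIdeal R) {k : Type u} [Field k] (π : R →+* k) (hπ : Function.Surjective π)
    (hker : RingHom.ker π = Ideal.span {ϖ}) (σ : R →+* R) (hσϖ : σ ϖ = ϖ) (q : ℕ)
    (hσ : ∀ a, π (σ a) = π a ^ q) [IsSepClosed k] (hq : 1 < q) (hq0 : (q : k) = 0)
    {n : Type v} [Fintype n] [DecidableEq n] (F : (n → R) →+ (n → R))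
    (hF : ∀ a m, F (a • m) = σ a • F m) (hbij : Function.Bijective F) :
    ∃ v : n → (n → R), (∀ i, F (v i) = v i) ∧ Submodule.span R (Set.range v) = ⊤ := by
  let red : (n → R) →+ (n → k) := { toFun := fun m i => π (m i), map_zero' := by ext; simp, map_add' := fun a b => by ext; simp }
  have hred : Function.Surjective red := fun v => ⟨fun i => (hπ (v i)).choose, funext fun i => (hπ (v i)).choose_spec⟩
  have hreds : ∀ (a : R) m, red (a • m) = π a • red m := fun a m => by ext; simp [red]
  have hker' : ∀ m, red m = 0 ↔ ∃ m', m = ϖ • m' := by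
    intro m
    constructor
    · intro h
      have : ∀ i, ϖ ∣ m i := fun i => Ideal.mem_span_singleton.mp (hker ▸ RingHom.mem_ker.mpr (congrFun h i))
      choose m' hm' using this
      exact ⟨m', funext hm'⟩
    · rintro ⟨m', rfl⟩
      rw [hreds, show π ϖ = 0 from RingHom.mem_ker.mp (hker ▸ Ideal.mem_span_singleton_self ϖ), zero_smul]
  have hFϖ : ∀ j m, F (ϖ ^ j • m) = ϖ ^ j • F m := fun j m => by rw [hF, map_pow, hσϖ]
  let s : (n → k) → (n → R) := fun v => (hred v).choose
  have hs : ∀ v, red (s v) = v := fun v => (hred v).choose_spec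
  have hwd : ∀ a b, red a = red b → red (F a) = red (F b) := by
    intro a b h
    obtain ⟨m', hm'⟩ := (hker' (a - b)).mp (by rw [map_sub, h, sub_self])
    rw [← sub_eq_zero, ← map_sub, ← map_sub, hm', hker']
    exact ⟨F m', by rw [← pow_one ϖ, hFϖ]⟩
  let T : (n → k) →+ (n → k) := AddMonoidHom.mk' (fun v => red (F (s v))) (fun a b => by
    rw [← map_add, ← map_add]
    exact hwd _ _ (by simp [hs]))
  have hT : ∀ m, T (red m) = red (F m) := fun m => hwd _ _ (hs _)
  have hTs : ∀ (r : k) (v : n → k), T (r • v) = r ^ q • T v := by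
    intro r v
    obtain ⟨a, rfl⟩ := hπ r
    obtain ⟨m, rfl⟩ := hred v
    rw [← hreds, hT, hT, hF, hreds, hσ]
  obtain ⟨hspan, hsolve⟩ := span_fixed_eq_top q hq hq0 T hTs (fun v => by
    obtain ⟨m, rfl⟩ := hred v
    obtain ⟨m', rfl⟩ := hbij.2 m
    exact ⟨red m', hT m'⟩)
  -- successive approximation
  have hstep : ∀ d : n → R, ∃ e d' : n → R, F e - e = d + ϖ • d' := by
    intro d
    obtain ⟨v, hv⟩ := hsolve (red d)
    obtain ⟨e, rfl⟩ := hred v
    replace hv : T (red e) - red e = red d := hv
    rw [hT, ← map_sub] at hv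
    obtain ⟨d', hd'⟩ := (hker' (F e - e - d)).mp (by rw [map_sub, hv, sub_self])
    exact ⟨e, d', by rw [← hd']; abel⟩
  choose E D hED using hstep
  have hlift : ∀ v : n → k, T v = v → ∃ x : n → R, F x = x ∧ red x = v := by
    intro v hv
    obtain ⟨x0, rfl⟩ := hred v
    obtain ⟨d0, hd0⟩ := (hker' (F x0 - x0)).mp (by rw [map_sub, ← hT, hv, sub_self])
    -- pairs `(x, d)` with `F x - x = ϖ ^ (j+1) • d`
    let seq : ℕ → (n → R) × (n → R) := fun j =>
      Nat.rec (x0, d0) (fun j r => (r.1 - ϖ ^ (j + 1) • E r.2, -(D r.2))) j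
    have hseq : ∀ j, F (seq j).1 - (seq j).1 = ϖ ^ (j + 1) • (seq j).2 := by
      intro j
      induction j with
      | zero => simpa [seq] using hd0
      | succ j ih =>
        show F ((seq j).1 - ϖ ^ (j + 1) • E (seq j).2) - ((seq j).1 - ϖ ^ (j + 1) • E (seq j).2) = ϖ ^ (j + 1 + 1) • -(D (seq j).2)
        rw [map_sub, hFϖ, sub_sub_sub_comm, ih, ← smul_sub, ← smul_sub, hED, pow_succ _ (j + 1), mul_smul]
        congr 1
        rw [smul_neg]; abel
    have hcauchy : ∀ (i : n) (a b : ℕ), a ≤ b → ϖ ^ a ∣ (seq a).1 i - (seq b).1 i := by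
      intro i a b hab
      induction hab with
      | refl => simp
      | @step b hab ih =>
        have : (seq (b + 1)).1 i = (seq b).1 i - ϖ ^ (b + 1) * E (seq b).2 i := rfl
        rw [this, sub_sub_eq_add_sub, add_sub_right_comm]
        exact dvd_add ih (dvd_mul_of_dvd_left (pow_dvd_pow _ (le_trans hab (Nat.le_succ b))) _)
    have hlim : ∀ i, ∃ l : R, ∀ a, ϖ ^ a ∣ (seq a).1 i - l := by
      intro i
      obtain ⟨l, hl⟩ := IsPrecomplete.prec' (I := Ideal.span {ϖ}) (M := R) (fun a => (seq a).1 i) (fun {a b} hab => by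
        rw [SModEq.sub_mem, smul_eq_mul, Ideal.mul_top, Ideal.span_singleton_pow, Ideal.mem_span_singleton]
        exact hcauchy i a b hab)
      refine ⟨l, fun a => ?_⟩
      have := hl a
      rwa [SModEq.sub_mem, smul_eq_mul, Ideal.mul_top, Ideal.span_singleton_pow, Ideal.mem_span_singleton] at this
    choose l hl using hlim
    refine ⟨l, ?_, ?_⟩
    · rw [← sub_eq_zero]
      funext i
      refine IsHausdorff.haus' (I := Ideal.span {ϖ}) _ fun a => ?_
      rw [SModEq.zero, smul_eq_mul, Ideal.mul_top, Ideal.span_singleton_pow, Ideal.mem_span_singleton]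
      choose c hc using fun i => hl i a
      have hsa : l = (seq a).1 - ϖ ^ a • c := funext fun i => by
        simp [← hc i]
      rw [hsa, map_sub, hFϖ, sub_sub_sub_comm, hseq, ← smul_sub, pow_succ, mul_smul, ← smul_sub]
      exact ⟨_, rfl⟩
    · rw [← sub_eq_zero, ← map_sub, hker']
      choose c hc using fun i => hl i 1
      refine ⟨fun i => -(E d0 i) - c i, funext fun i => ?_⟩
      have := hc i
      rw [show (seq 1).1 i = x0 i - ϖ ^ 1 * E d0 i from rfl] at this
      simp only [Pi.sub_apply, Pi.smul_apply, smul_eq_mul, pow_one] at this ⊢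
      linear_combination -this
  let bas := Module.Basis.ofSpan hspan.ge
  haveI := FiniteDimensional.fintypeBasisIndex bas
  let b := bas.reindex (Fintype.equivOfCardEq (β := n) (by
    rw [← Module.finrank_eq_card_basis bas, Module.finrank_fintype_fun_eq_card]))
  have hb : ∀ i, T (b i) = b i := fun i => by
    rw [Module.Basis.reindex_apply]
    exact Module.Basis.ofSpan_subset hspan.ge ⟨_, rfl⟩
  choose x hx hxb using fun i : n => hlift (b i) (hb i)
  refine ⟨x, hx, ?_⟩
  rw [eq_top_iff]
  refine Submodule.le_of_le_smul_of_le_jacobson_bot (I := Ideal.span {ϖ}) Module.Finite.fg_top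
    ((Ideal.span_le.mpr (Set.singleton_subset_iff.mpr hϖ)).trans (IsLocalRing.maximalIdeal_le_jacobson ⊥)) ?_
  intro y _
  choose c hc using fun i => hπ (b.repr (red y) i)
  obtain ⟨y', hy'⟩ := (hker' (y - ∑ i, c i • x i)).mp (by
    simp only [map_sub, map_sum, hreds, hc, hxb, b.sum_repr, sub_self])
  rw [show y = ∑ i, c i • x i + ϖ • y' by rw [← hy']; abel]
  exact Submodule.add_mem_sup (Submodule.sum_mem _ fun i _ => Submodule.smul_mem _ _ (Submodule.subset_span ⟨i, rfl⟩))
    (Submodule.smul_mem_smul (Ideal.mem_span_singleton_self ϖ) Submodule.mem_top)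


/-- Let k be an algebraically closed field of characteristic p > 0, ν ≥ 1, W = W(k) the ring of
p-typical Witt vectors with its Frobenius endomorphism σ, M a finitely generated free W-module and F
: M → M a bijective additive map that is σ^ν-semilinear, F(a·m) = σ^ν(a)·F(m). Then M admits a
W-basis consisting of F-fixed elements; in particular M is spanned over W by M₀ = {m | F(m) = m}, a
module over the Witt vectors of F_{p^ν}. (The copy allows ν < 0 as well, reducing to F⁻¹; stated
here for ν ≥ 1.) -/
theorem result (k : Type u) [Field k] [IsAlgClosed k]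
    (p : ℕ) [Fact p.Prime] [CharP k p] (ν : ℕ) (hν : 1 ≤ ν)
    (M : Type v) [AddCommGroup M] [Module (WittVector p k) M]
    [Module.Finite (WittVector p k) M] [Module.Free (WittVector p k) M]
    (F : M →+ M)
    (hF : ∀ (a : WittVector p k) (m : M), F (a • m) = ((⇑(WittVector.frobenius : WittVector p k →+* WittVector p k))^[ν] a) • F m)
    (hbij : Function.Bijective F) :
    ∃ (ι : Type v) (b : Module.Basis ι (WittVector p k) M), ∀ i, F (b i) = b i := by
  classical
  have hp : Nat.Prime p := Fact.out
  set R := WittVector p k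
  let σ : R →+* R := (WittVector.frobenius : R →+* R) ^ ν
  have hσ : ∀ a, σ a = (⇑(WittVector.frobenius : R →+* R))^[ν] a := fun a => by
    simp only [σ, RingHom.coe_pow]
  let b0 := Module.Free.chooseBasis R M
  haveI : Fintype (Module.Free.ChooseBasisIndex R M) := inferInstance
  let e := b0.equivFun
  let G : (Module.Free.ChooseBasisIndex R M → R) →+ (Module.Free.ChooseBasisIndex R M → R) :=
    e.toAddEquiv.toAddMonoidHom.comp (F.comp e.symm.toAddEquiv.toAddMonoidHom)
  have hGs : ∀ a m, G (a • m) = σ a • G m := fun a m => by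
    show e (F (e.symm (a • m))) = σ a • e (F (e.symm m))
    rw [map_smul, hF, map_smul, hσ]
  have hm : (p : R) ∈ IsLocalRing.maximalIdeal R := by
    rw [IsLocalRing.mem_maximalIdeal, mem_nonunits_iff]
    intro hu
    have := hu.map (WittVector.constantCoeff : R →+* k)
    rw [map_natCast, CharP.cast_eq_zero] at this
    exact not_isUnit_zero this
  have hk : RingHom.ker (WittVector.constantCoeff : R →+* k) = Ideal.span {(p : R)} := by
    ext a
    rw [RingHom.mem_ker, WittVector.mem_span_p_iff_coeff_zero_eq_zero]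
    rfl
  have hσ0 : ∀ a : R, (WittVector.constantCoeff : R →+* k) (σ a) = WittVector.constantCoeff a ^ p ^ ν := fun a => by
    show (σ a).coeff 0 = (a.coeff 0) ^ p ^ ν
    rw [hσ, WittVector.iterate_frobenius_coeff]
  obtain ⟨x, hx, hspan⟩ := lift_fixed (R := R) (p : R) hm (WittVector.constantCoeff : R →+* k)
    (fun c => ⟨WittVector.teichmuller p c, WittVector.teichmuller_coeff_zero p c⟩) hk σ (map_natCast σ p) (p ^ ν)
    hσ0 (Nat.one_lt_pow (by omega) hp.one_lt) (by rw [Nat.cast_pow, CharP.cast_eq_zero, zero_pow (by omega)])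
    G hGs (e.bijective.comp (hbij.comp e.symm.bijective))
  let bx : Module.Basis _ R (Module.Free.ChooseBasisIndex R M → R) :=
      Module.Basis.mk (v := x) (linearIndependent_of_top_le_span_of_card_eq_finrank hspan.ge
        (Module.finrank_fintype_fun_eq_card R).symm) hspan.ge
  refine ⟨_, bx.map e.symm, fun i => ?_⟩
  rw [Module.Basis.map_apply, Module.Basis.mk_apply]
  exact e.injective ((hx i).trans (e.apply_symm_apply _).symm)

end Groth.Agent.S16854
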