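import Groth.Statements.S16856
import Groth.Agent.WeilAVLib.Num

set_option autoImplicit false
universe u
open CategoryTheory MonoidalCategory CartesianMonoidalCategory MonObj GrpObj AlgebraicGeometry
open AbVar

namespace Groth.Agent.S16856

open CategoryTheory CategoryTheory.Limits AlgebraicGeometry

open Groth.Agent
set_option backward.isDefEq.respectTransparency false
set_option synthInstance.maxHeartbeats 400000
set_option maxHeartbeats 1000000

/-- Equality case of the Hasse–Weil–Serre bound: let k be a finite field with q elements and algebraic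
closure Ω, ℓ a prime invertible in k, and X an abelian variety over k (a proper, geometrically
integral commutative group scheme over k) of dimension g, with geometric Frobenius π_X (the
endomorphism that is the identity on points and the q-th power map on sections); assume, as is the
case, that the ℓ-adic Tate module of Ω-points T_ℓ X is free of finite rank over ℤ_ℓ, and let f_X ∈
ℤ[t] be the polynomial mapping to the characteristic polynomial of T_ℓ(π_X) (the characteristic
polynomial of Frobenius). Put m = ⌊2√q⌋. Then |trace(π_X)| = g·m (equality in the bound |trace(π_X)|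
≤ g·m; the trace is minus the second-highest coefficient of f_X) if and only if either α + q/α = m
for every root α of f_X or α + q/α = −m for every root, i.e. if and only if f_X = (t² − m t + q)^g
or f_X = (t² + m t + q)^g. -/
theorem result (k Ω : Type u) [Field k] [Finite k] [Field Ω] [Algebra k Ω] [IsAlgClosure k Ω]
    (l : ℕ) [Fact l.Prime] (hl : (l : k) ≠ 0) (X : Over (Spec (CommRingCat.of k)))
    [GrpObj X] [IsCommMonObj X] [IsProper X.hom] [GeometricallyIntegral X.hom]
    (g : ℕ) (hg : topologicalKrullDim X.left = g)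
    (πX : X ⟶ X) [IsMonHom πX] (hπb : πX.left.base = 𝟙 _)
    (hπle : ∀ U : X.left.Opens, U ≤ πX.left ⁻¹ᵁ U)
    (hπapp : ∀ (U : X.left.Opens) (s : Γ(X.left, U)), (πX.left.appLE U U (hπle U)).hom s = s ^ Nat.card k)
    [Module.Free ℤ_[l] (AbDual.TateMod X l (SGA7.pt Ω))] [Module.Finite ℤ_[l] (AbDual.TateMod X l (SGA7.pt Ω))]
    (P : Polynomial ℤ) (hP : (AbDual.tateMapₗ (l := l) (T := SGA7.pt Ω) πX).charpoly = P.map (Int.castRingHom ℤ_[l])) :
    |(P.nextCoeff : ℝ)| = (g : ℝ) * (⌊2 * Real.sqrt (Nat.card k)⌋ : ℝ) ↔
      (P = (Polynomial.X ^ 2 - Polynomial.C ⌊2 * Real.sqrt (Nat.card k)⌋ * Polynomial.X + Polynomial.C (Nat.card k : ℤ)) ^ g ∨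
        P = (Polynomial.X ^ 2 + Polynomial.C ⌊2 * Real.sqrt (Nat.card k)⌋ * Polynomial.X + Polynomial.C (Nat.card k : ℤ)) ^ g) := by
  haveI : IsAlgClosed Ω := IsAlgClosure.isAlgClosed k
  haveI : Module.Free ℤ_[l] (AbDual.TateMod X l (AVPtsLib.bcPt Ω)) := ‹_›
  haveI : Module.Finite ℤ_[l] (AbDual.TateMod X l (AVPtsLib.bcPt Ω)) := ‹_›
  let p : EndAV.End X := EndAV.End.of πX
  obtain ⟨hm, hd, hPe⟩ := WeilAVLib.eval_of_charpoly hg Ω l hl p P hP
  have hfr : CogenLib.IsQFrob (Nat.card k) p.toHom.left := ⟨hπb, hπle, hπapp⟩
  have hq : 0 < Nat.card k := Nat.card_pos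
  set q := Nat.card k
  set m : ℤ := ⌊2 * Real.sqrt q⌋ with hmdef
  set S := (P.map (Int.castRingHom ℂ)).roots with hS
  have hsp := IsAlgClosed.splits (P.map (Int.castRingHom ℂ))
  have h3 : (P.nextCoeff : ℝ) = - (S.map fun z => z.re).sum := by
    have e := Polynomial.Splits.nextCoeff_eq_neg_sum_roots_of_monic hsp (hm.map _)
    rw [Polynomial.nextCoeff_map (Int.cast_injective (α := ℂ))] at e
    have e' := congrArg Complex.reLm e
    rw [map_neg, map_multiset_sum] at e'
    simpa using e'
  let Q : ℤ → Polynomial ℤ := fun e => Polynomial.X ^ 2 - Polynomial.C (e * m) * Polynomial.X + Polynomial.C (q : ℤ)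
  have hQd : ∀ e : ℤ, (Q e).Monic ∧ (Q e).natDegree = 2 := fun e => by
    have hd' : (Q e).natDegree = 2 := by simp only [Q]; compute_degree!
    refine ⟨?_, hd'⟩
    show (Q e).coeff (Q e).natDegree = 1
    rw [hd']
    simp only [Q, Polynomial.coeff_add, Polynomial.coeff_sub, Polynomial.coeff_X_pow, Polynomial.coeff_C_mul,
      Polynomial.coeff_X, Polynomial.coeff_C]
    simp
  have hQnext : ∀ e : ℤ, ((Q e) ^ g).nextCoeff = -((g : ℤ) * (e * m)) := fun e => by
    rw [(hQd e).1.nextCoeff_pow, Polynomial.nextCoeff_of_natDegree_pos (by rw [(hQd e).2]; norm_num), (hQd e).2,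
      nsmul_eq_mul]
    simp only [Q, Polynomial.coeff_add, Polynomial.coeff_sub, Polynomial.coeff_X_pow, Polynomial.coeff_C_mul,
      Polynomial.coeff_X, Polynomial.coeff_C]
    simp
  constructor
  · intro h
    suffices key : ∀ e : ℤ, (e = 1 ∨ e = -1) →
        (e : ℝ) * (S.map fun z => z.re).sum = (g : ℝ) * (m : ℝ) → P = (Q e) ^ g by
      rcases abs_eq (by positivity) |>.1 h with h' | h'
      · refine Or.inr ?_
        rw [key (-1) (Or.inr rfl) (by push_cast; linarith)]
        simp [Q]
      · refine Or.inl ?_
        rw [key 1 (Or.inl rfl) (by push_cast; linarith)]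
        simp [Q]
    intro e he hsum
    have hz := WeilAVLib.trace_eq_case hg hq p hfr P hPe e he hsum
    have hn := WeilAVLib.normSq_root hg p hfr P hPe
    have hconj : P.map (Int.castRingHom ℂ) = (S.map fun z => Polynomial.X - Polynomial.C ((starRingEnd ℂ) z)).prod := by
      conv_lhs => rw [← RingHom.ext_int ((starRingEnd ℂ).comp (Int.castRingHom ℂ)) (Int.castRingHom ℂ),
        ← Polynomial.map_map, hsp.eq_prod_roots_of_monic (hm.map _), Polynomial.map_multiset_prod, Multiset.map_map]
      refine congrArg Multiset.prod (Multiset.map_congr rfl fun z _ => ?_)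
      simp
    have hsq : (P * P).map (Int.castRingHom ℂ) = ((Q e) ^ g * (Q e) ^ g).map (Int.castRingHom ℂ) := by
      rw [Polynomial.map_mul, Polynomial.map_mul, Polynomial.map_pow, ← pow_add]
      calc P.map (Int.castRingHom ℂ) * P.map (Int.castRingHom ℂ)
          = (S.map fun z => Polynomial.X - Polynomial.C z).prod *
              (S.map fun z => Polynomial.X - Polynomial.C ((starRingEnd ℂ) z)).prod := by
            rw [← hconj, ← hsp.eq_prod_roots_of_monic (hm.map _)]
        _ = (S.map fun _ => (Q e).map (Int.castRingHom ℂ)).prod := by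
            rw [← Multiset.prod_map_mul]
            refine congrArg Multiset.prod (Multiset.map_congr rfl fun z hzS => ?_)
            have h1 : z * (starRingEnd ℂ) z = (q : ℂ) := by
              rw [Complex.mul_conj, hn z hzS]; simp
            have h2 : z + (starRingEnd ℂ) z = ((e * m : ℤ) : ℂ) := by
              rw [Complex.add_conj, hz z hzS]; push_cast; rfl
            have hC1 : Polynomial.C z * Polynomial.C ((starRingEnd ℂ) z) = (Polynomial.C (q : ℂ) : Polynomial ℂ) := by
              rw [← Polynomial.C_mul, h1]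
            have hC2 : Polynomial.C z + Polynomial.C ((starRingEnd ℂ) z) = (Polynomial.C ((e * m : ℤ) : ℂ) : Polynomial ℂ) := by
              rw [← Polynomial.C_add, h2]
            simp only [Q, Polynomial.map_add, Polynomial.map_sub, Polynomial.map_pow, Polynomial.map_mul,
              Polynomial.map_X, Polynomial.map_C]
            simp only [eq_intCast, Int.cast_natCast]
            linear_combination hC1 - Polynomial.X * hC2
        _ = _ := by
            rw [Multiset.map_const', Multiset.prod_replicate, hS, IsAlgClosed.card_roots_eq_natDegree,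
              hm.natDegree_map, hd, two_mul]
    rcases mul_self_eq_mul_self_iff.1 (Polynomial.map_injective _ (Int.cast_injective (α := ℂ)) hsq) with h' | h'
    · exact h'
    · have h'' := congrArg Polynomial.leadingCoeff h'
      rw [hm.leadingCoeff, Polynomial.leadingCoeff_neg, ((hQd e).1.pow g).leadingCoeff] at h''
      norm_num at h''
  · have hgm : (0 : ℝ) ≤ (g : ℝ) * (m : ℝ) :=
      mul_nonneg (Nat.cast_nonneg _) (by exact_mod_cast Int.floor_nonneg.2 (by positivity : (0 : ℝ) ≤ 2 * Real.sqrt q))
    rintro (h | h)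
    · rw [show P = (Q 1) ^ g by rw [h]; simp [Q], hQnext, Int.cast_neg, abs_neg]
      push_cast
      rw [_root_.one_mul, abs_of_nonneg hgm]
    · rw [show P = (Q (-1)) ^ g by rw [h]; simp [Q], hQnext]
      push_cast
      rw [neg_one_mul, mul_neg, neg_neg, abs_of_nonneg hgm]

end Groth.Agent.S16856
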