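import Groth.Statements.S16859
import Groth.Agent.StabLib.AutDiag
import Groth.Agent.QcMonoLib.DiagQAff
import Groth.Agent.MonoFibre.AffinizationFlat
import Groth.Agent.ASt.Props
import Groth.Agent.ASt.DiagLft
-- import your own Groth.Agent.* helpers here

set_option autoImplicit false
set_option backward.isDefEq.respectTransparency false
set_option backward.isDefEq.respectTransparency.types false
universe u
open CategoryTheory CategoryTheory.Limits AlgebraicGeometry
open AlgSt

namespace Groth.Agent.S16859

/-- Let `𝒳` be an algebraic stack over a scheme `S` (fppf topology) whose diagonal over `S` is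
representable by algebraic spaces and quasi-affine. Let `k` be a field with a morphism `Spec k → S`,
let `x : (Sch/Spec k) → 𝒳` be a functor over `(Sch/S)` (a `k`-valued point of `𝒳`), and let `G` be a
group scheme over `Spec k` representing the automorphism presheaf of `x` on schemes over `Spec k`
(the stabilizer group scheme of `x`). Then `G` is affine and locally of finite type over `k`, i.e.
an affine algebraic group. (The published statement is over the base `Spec ℤ`; the same argument
applies to the diagonal over any base scheme.) -/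
theorem result (S : Scheme.{u})
    (𝒳 : AlgSt.Cat S) (h𝒳 : AlgSt.IsAlgStack Scheme.fppfPrecoverage 𝒳)
    (hΔ : AlgSt.RepByAlgSpWith AlgSp.IsQuasiAffineMor (FibCat.diag (FibCat.toSelf 𝒳)))
    (k : Type u) [Field k] (p : Spec (CommRingCat.of k) ⟶ S)
    (x : FibCat.overCat (Over.mk p) ⥤ᵇ 𝒳) (G : Over (Over.mk p).left) [GrpObj G]
    (hG : Gerb.AutRep x (Gerb.ptsGrp (Over.mk p) G)) :
    IsAffine G.left ∧ LocallyOfFiniteType G.hom := by
  haveI := h𝒳.isStack.1
  let GU : Over S := Over.mk (G.hom ≫ p)
  let k' : GU ⟶ Over.mk p := Over.homMk G.hom rfl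
  obtain ⟨W, i, fst, sq, hW⟩ := StabLib.prop_of_autRep x G hG ((ASt.repByAlgSpWith_iff.1 hΔ).2 _
    (FibCat.fpLift x x (Iso.refl _))) (Z := Over.mk p) (inferInstanceAs (IsAffine (Spec (CommRingCat.of k)))) (𝟙 _)
  haveI : IsIso fst := sq.isIso_fst_of_isIso
  let e : W.left ≅ GU.left := (Over.forget S).mapIso
    ((AlgSp.yon S).preimageIso (asIso fst : (AlgSp.yon S).obj W ≅ (AlgSp.yon S).obj GU))
  haveI := hW
  haveI : CompactSpace ↥GU.left := e.hom.homeomorph.compactSpace
  haveI : G.left.IsQuasiAffine := Scheme.IsQuasiAffine.of_isImmersion (X := GU.left) e.inv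
  haveI hl : LocallyOfFiniteType G.hom := ASt.prop_left_of_locP (StabLib.prop_of_autRep
    (P := AlgSp.LocP @LocallyOfFiniteType) x G hG ((ASt.repByAlgSpWith_iff.1 (ASt.lft_diag_toSelf h𝒳)).2 _
      (FibCat.fpLift x x (Iso.refl _))))
  haveI : CompactSpace ↥G.left := inferInstanceAs (CompactSpace ↥GU.left)
  haveI : IsAffine (Over.mk p).left := inferInstanceAs (IsAffine (Spec (CommRingCat.of k)))
  haveI : QuasiCompact G.hom := (quasiCompact_iff_compactSpace _).mpr inferInstance
  exact ⟨MonoFibre.Affinization.isAffine_of_isQuasiAffine G, hl⟩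

end Groth.Agent.S16859
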