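import Groth.Statements.S16862
import Groth.Agent.DecSec.GerbeCrit2
-- import your own Groth.Agent.* helpers here

set_option autoImplicit false
set_option backward.isDefEq.respectTransparency false
universe u
open CategoryTheory AlgebraicGeometry
open Gerb Groth.Agent.DecSec

namespace Groth.Agent.S16862

/-- If a morphism f of algebraic stacks makes its source a gerbe over its target, then the relative
inertia of f is flat and locally of finite presentation over the source. -/
theorem result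
    (S : Scheme.{u}) (𝒳 𝒴 : AlgSt.Cat S)
    (h𝒳 : AlgSt.IsAlgStack Scheme.fppfPrecoverage 𝒳) (h𝒴 : AlgSt.IsAlgStack Scheme.fppfPrecoverage 𝒴)
    (f : 𝒳 ⥤ᵇ 𝒴) (hf : Gerb.IsGerbeOver (QuotSh.J Scheme.fppfPrecoverage S) f) :
    AlgSt.LocQ (AlgSp.LocP @Flat) (FibCat.inertiaToBase f) ∧
      AlgSt.LocQ (AlgSp.LocP @LocallyOfFinitePresentation) (FibCat.inertiaToBase f) := by
  haveI := h𝒳.isStack.1
  haveI := h𝒴.isStack.1
  obtain ⟨d₁, d₂, -⟩ := fppf_diag h𝒳 h𝒴 hf
  haveI := Groth.Agent.ASt.isFibGrpd_inertia f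
  exact ⟨locQ_of_repByAlgSpWith h𝒳 (Groth.Agent.ASt.repByAlgSpWith_inertiaToBase f d₁),
    locQ_of_repByAlgSpWith h𝒳 (Groth.Agent.ASt.repByAlgSpWith_inertiaToBase f d₂)⟩

end Groth.Agent.S16862
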