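import Groth.Statements.S16866
import Groth.Agent.DecSec.GerbeCrit2
import Groth.Agent.ASt.StkAlg
-- import your own Groth.Agent.* helpers here

set_option autoImplicit false
set_option backward.isDefEq.respectTransparency false
universe u
open CategoryTheory AlgebraicGeometry
open Gerb Groth.Agent.DecSec

namespace Groth.Agent.S16866

theorem isAlgStack_ofSp {S : Scheme.{u}} (T : AlgSp.Space S) :
    AlgSt.IsAlgStack Scheme.fppfPrecoverage (AlgSt.ofSp T.obj) :=
  haveI : FibCat.IsFibGrpd (AlgSt.ofSp T.obj).p := Groth.Agent.ASt.isFibGrpd_ofSp T.obj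
  (Groth.Agent.ASt.isDM_of_repByAlgSp ⟨T, BasedFunctor.id _, Groth.Agent.ASt.isEquivOver_id⟩).1

/-- If π : 𝒳 → U makes the algebraic stack 𝒳 a gerbe over the algebraic space U and x : U → 𝒳 is a
section of π, then x is flat, locally of finite presentation and surjective (as a morphism
representable by algebraic spaces). -/
theorem result
    (S : Scheme.{u}) (𝒳 : AlgSt.Cat S) (h𝒳 : AlgSt.IsAlgStack Scheme.fppfPrecoverage 𝒳)
    (U : AlgSp.Space S) (π : 𝒳 ⥤ᵇ AlgSt.ofSp U.obj)
    (hπ : Gerb.IsGerbeOver (QuotSh.J Scheme.fppfPrecoverage S) π)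
    (x : AlgSt.ofSp U.obj ⥤ᵇ 𝒳) (e : BasedFunctor.comp x π ≅ BasedFunctor.id (AlgSt.ofSp U.obj)) :
    AlgSt.RepByAlgSpWith (AlgSp.LocP @Flat) x ∧
      AlgSt.RepByAlgSpWith (AlgSp.LocP @LocallyOfFinitePresentation) x ∧
      AlgSt.RepByAlgSpWith AlgSp.IsSurjectiveMor x := by
  haveI := h𝒳.isStack.1
  haveI := (isAlgStack_ofSp U).isStack.1
  exact fppf_of_section h𝒳 (isAlgStack_ofSp U) hπ e

end Groth.Agent.S16866
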