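import Groth.Statements.S16884
import Groth.Agent.RepOne.Gerbe

set_option autoImplicit false
open CategoryTheory
universe v u
open Gerb

namespace Groth.Agent.S16884

set_option backward.isDefEq.respectTransparency false
set_option backward.isDefEq.respectTransparency.types false

open Groth.Agent.ASt Groth.Agent.RepOne in
theorem descends {C : Type u} [Category.{v} C] (J : GrothendieckTopology C)
    {𝒳 𝒴 𝒳' 𝒴' : BasedCategory.{v, max u v} C} [FibCat.IsFibGrpd 𝒳.p] [FibCat.IsFibGrpd 𝒴.p]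
    [FibCat.IsFibGrpd 𝒳'.p] [FibCat.IsFibGrpd 𝒴'.p]
    (F : 𝒳 ⥤ᵇ 𝒴) (G : 𝒴' ⥤ᵇ 𝒴) (F' : 𝒳' ⥤ᵇ 𝒴') (G' : 𝒳' ⥤ᵇ 𝒳)
    (e : BasedFunctor.comp F' G ≅ BasedFunctor.comp G' F) (hc : FibCat.IsTwoCartOver F' G' e)
    (hG : Gerb.LocSurjObj J G) (hF' : Gerb.IsGerbeOver J F') : Gerb.IsGerbeOver J F := by
  let e₀ := (BasedNatTrans.forgetful _ _).mapIso e
  constructor
  · intro y
    obtain ⟨R, hR, h⟩ := locSurjObj_comp hF'.1 hG y
    refine ⟨R, hR, fun V f hf => ?_⟩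
    obtain ⟨x', g, hg⟩ := h f hf
    have h1 : 𝒴.p.map (e₀.inv.app x') = eqToHom _ := map_app _ _ e.inv x'
    exact ⟨G'.obj x', e₀.inv.app x' ≫ g, isHomLift_of_map _
      (((F.w_obj _).trans (G'.w_obj x')).trans
        (((BasedFunctor.comp F' G).w_obj x').symm.trans (IsHomLift.domain_eq 𝒴.p f g)))
      rfl (by rw [Functor.map_comp, h1, IsHomLift.fac' 𝒴.p f g]; simp)⟩
  intro x x₂ b hb
  have hxx : 𝒳.p.obj x₂ = 𝒳.p.obj x := (F.w_obj x₂).symm.trans (IsHomLift.codomain_eq 𝒴.p (𝟙 (𝒳.p.obj x)) b)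
  have eb : 𝒴.p.map b = _ := map_of_isHomLift_id (R := 𝒳.p.obj x) b
  obtain ⟨R₁, hR₁, h₁⟩ := hG (F.obj x)
  obtain ⟨-, -, hv⟩ := vert_of_isEquivOver hc
  have H : ∀ ⦃V : C⦄ (f : V ⟶ 𝒳.p.obj x), R₁.pullback (eqToHom (F.w_obj x).symm) f →
      ∃ S ∈ J V, ∀ ⦃W : C⦄ (h : W ⟶ V), S h →
        ∃ (x₀ : 𝒳.obj) (φ : x₀ ⟶ x) (ψ : x₀ ⟶ x₂), 𝒳.p.IsHomLift (h ≫ f) φ ∧ 𝒳.p.IsHomLift (h ≫ f) ψ ∧
          F.map φ ≫ b = F.map ψ := by
    intro V f hf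
    obtain ⟨y', g, hg⟩ := h₁ _ hf
    have hy' : 𝒴'.p.obj y' = V :=
      (G.w_obj y').symm.trans (IsHomLift.domain_eq 𝒴.p (f ≫ eqToHom (F.w_obj x).symm) g)
    obtain ⟨a₁, π₁, ha₁, eπ₁⟩ := exists_over x f
    obtain ⟨a₂, π₂, ha₂, eπ₂⟩ := exists_over_map hxx f
    have ei : eqToHom ((G.w_obj y').trans (hy'.trans (ha₁.symm.trans (F.w_obj a₁).symm))) ≫
        𝒴.p.map (F.map π₁) = 𝒴.p.map g := by
      simp [map_w, eπ₁, IsHomLift.fac' 𝒴.p (f ≫ eqToHom (F.w_obj x).symm) g]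
    let i := facMap (F.map π₁) g _ ei
    have hi : 𝒴.p.map i = _ := map_facMap (F.map π₁) g _ ei
    have := isIso_of_vert i hi
    have ec : eqToHom ((F.w_obj a₁).trans (ha₁.trans (ha₂.symm.trans (F.w_obj a₂).symm))) ≫
        𝒴.p.map (F.map π₂) = 𝒴.p.map (F.map π₁ ≫ b) := by
      simp [map_w, eπ₁, eπ₂, eb]
    let c := facMap (F.map π₂) (F.map π₁ ≫ b) _ ec
    have hcm : 𝒴.p.map c = _ := map_facMap (F.map π₂) (F.map π₁ ≫ b) _ ec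
    have hcc : c ≫ F.map π₂ = F.map π₁ ≫ b := facMap_comp _ _ _ _
    have := isIso_of_vert c hcm
    let m₁ : (FibCat.fp G F).obj := fpMk y' a₁ (ha₁.trans hy'.symm) (asIso i) hi
    let m₂ : (FibCat.fp G F).obj := fpMk y' a₂ (ha₂.trans hy'.symm) (asIso (i ≫ c))
      (by simp [hi, hcm])
    obtain ⟨z₁, hz₁, j₁, hj₁⟩ := hv m₁
    obtain ⟨z₂, hz₂, j₂, hj₂⟩ := hv m₂
    have hα₁ : 𝒴'.p.map j₁.hom.hom.fst = eqToHom (((FibCat.fpLift F' G' e).w_obj z₁).trans hz₁) := hj₁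
    have hα₂ : 𝒴'.p.map j₂.hom.hom.fst = eqToHom (((FibCat.fpLift F' G' e).w_obj z₂).trans hz₂) := hj₂
    have hinv : 𝒴'.p.map j₂.inv.hom.fst = eqToHom (((FibCat.fpLift F' G' e).w_obj z₂).trans hz₂).symm :=
      map_snd_vert ((FibCat.fpFst G F).toFunctor.mapIso j₂) (h := ((FibCat.fpLift F' G' e).w_obj z₂).trans hz₂) hα₂
    have hβ₁ := (fp_map_snd j₁.hom).trans (congrArg (fun k => _ ≫ k ≫ _) hα₁)
    have hβ₂ := (fp_map_snd j₂.hom).trans (congrArg (fun k => _ ≫ k ≫ _) hα₂)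
    let k : F'.obj z₁ ⟶ F'.obj z₂ := j₁.hom.hom.fst ≫ j₂.inv.hom.fst
    have hk : 𝒴'.p.map k = eqToHom ((((FibCat.fpLift F' G' e).w_obj z₁).trans hz₁).trans
        (((FibCat.fpLift F' G' e).w_obj z₂).trans hz₂).symm) := by
      refine (Functor.map_comp _ _ _).trans ?_
      rw [hα₁, hinv]
      simp
    have hz₁V : 𝒳'.p.obj z₁ = V := hz₁.trans hy'
    obtain ⟨S, hS, h₂⟩ := hF'.2 z₁ z₂ k (isHomLift_id_of_map k (F'.w_obj z₁) hk)
    refine ⟨S.pullback (eqToHom hz₁V.symm), J.pullback_stable _ hS, fun W h hh => ?_⟩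
    obtain ⟨z₀, φ, ψ, hφ, hψ, w⟩ := h₂ _ hh
    have hz₀ : 𝒳'.p.obj z₀ = W := IsHomLift.domain_eq 𝒳'.p (h ≫ eqToHom hz₁V.symm) φ
    refine ⟨G'.obj z₀, G'.map φ ≫ j₁.hom.hom.snd ≫ π₁, G'.map ψ ≫ j₂.hom.hom.snd ≫ π₂, ?_, ?_, ?_⟩
    · refine isHomLift_of_map _ ((G'.w_obj z₀).trans hz₀) rfl ?_
      rw [Functor.map_comp, Functor.map_comp, map_w, IsHomLift.fac' 𝒳'.p (h ≫ eqToHom hz₁V.symm) φ]
      refine (congrArg (fun l => _ ≫ l ≫ _) hβ₁).trans ?_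
      simp [eπ₁]
    · refine isHomLift_of_map _ ((G'.w_obj z₀).trans hz₀) hxx ?_
      rw [Functor.map_comp, Functor.map_comp, map_w, IsHomLift.fac' 𝒳'.p (h ≫ eqToHom hz₁V.symm) ψ]
      refine (congrArg (fun l => _ ≫ l ≫ _) hβ₂).trans ?_
      simp [eπ₂]
    · have := NatIso.hom_app_isIso e₀ z₀
      have w₁ : G.map j₁.hom.hom.fst ≫ i = e₀.hom.app z₁ ≫ F.map j₁.hom.hom.snd := j₁.hom.hom.w
      have w₂ : G.map j₂.hom.hom.fst ≫ i ≫ c = e₀.hom.app z₂ ≫ F.map j₂.hom.hom.snd := j₂.hom.hom.w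
      have nφ : G.map (F'.map φ) ≫ e₀.hom.app z₁ = e₀.hom.app z₀ ≫ F.map (G'.map φ) := e₀.hom.naturality φ
      have nψ : G.map (F'.map ψ) ≫ e₀.hom.app z₂ = e₀.hom.app z₀ ≫ F.map (G'.map ψ) := e₀.hom.naturality ψ
      have hkk : j₂.inv.hom.fst ≫ j₂.hom.hom.fst = 𝟙 _ := congrArg (fun l => l.hom.fst) j₂.inv_hom_id
      rw [← cancel_epi (e₀.hom.app z₀)]
      calc e₀.hom.app z₀ ≫ F.map (G'.map φ ≫ j₁.hom.hom.snd ≫ π₁) ≫ b
          = G.map (F'.map φ) ≫ (G.map j₁.hom.hom.fst ≫ i) ≫ c ≫ F.map π₂ := by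
            rw [hcc, w₁, F.toFunctor.map_comp, F.toFunctor.map_comp]
            simp only [Category.assoc]
            rw [reassoc_of% nφ]
        _ = G.map (F'.map ψ) ≫ (G.map j₂.hom.hom.fst ≫ i ≫ c) ≫ F.map π₂ := by
            rw [← w, G.toFunctor.map_comp]
            simp only [k, Category.assoc]
            rw [← G.toFunctor.map_comp_assoc, ← G.toFunctor.map_comp_assoc, ← G.toFunctor.map_comp_assoc,
              Category.assoc]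
            exact congrArg (fun l => G.map (F'.map φ ≫ l) ≫ i ≫ c ≫ F.map π₂)
              (((Category.assoc _ _ _).trans (congrArg _ hkk)).trans (Category.comp_id _)).symm
        _ = e₀.hom.app z₀ ≫ F.map (G'.map ψ ≫ j₂.hom.hom.snd ≫ π₂) := by
            rw [w₂, F.toFunctor.map_comp, F.toFunctor.map_comp]
            simp only [Category.assoc]
            rw [reassoc_of% nψ]
  choose S hS hS' using H
  refine ⟨Sieve.bind (R₁.pullback (eqToHom (F.w_obj x).symm)) (fun V f hf => S f hf),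
    J.bind_covering (J.pullback_stable _ hR₁) (fun V f hf => hS f hf), fun W g hg => ?_⟩
  obtain ⟨V, h, f, hf, hh, rfl⟩ := hg
  exact hS' f hf h hh

/-- Let `𝒳`, `𝒴`, `𝒳'`, `𝒴'` be stacks in groupoids over the site `(C, J)` forming a 2-cartesian square
over `C` with sides `F : 𝒳 ⟶ 𝒴`, `G : 𝒴' ⟶ 𝒴`, `F' : 𝒳' ⟶ 𝒴'`, `G' : 𝒳' ⟶ 𝒳` and 2-isomorphism `e :
F' ⋙ G ≅ G' ⋙ F` over `C`. Suppose that every object of `𝒴` lies, locally on `C`, in the essential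
image of `G` (for `y` over `U` there is a covering sieve of `U` on whose members `V ⟶ U` there are
an object `y'` of `𝒴'` and a morphism `G y' ⟶ y` lying over `V ⟶ U`). If `𝒳'` is a gerbe over `𝒴'`
along `F'`, then `𝒳` is a gerbe over `𝒴` along `F`: being a gerbe descends along such a base change. -/
theorem result {C : Type u} [Category.{v} C]
    (J : GrothendieckTopology C) {𝒳 𝒴 𝒳' 𝒴' : BasedCategory.{v, max u v} C}
    (h𝒳 : Stk.IsStack J 𝒳) (h𝒴 : Stk.IsStack J 𝒴) (h𝒳' : Stk.IsStack J 𝒳') (h𝒴' : Stk.IsStack J 𝒴')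
    (F : 𝒳 ⥤ᵇ 𝒴) (G : 𝒴' ⥤ᵇ 𝒴) (F' : 𝒳' ⥤ᵇ 𝒴') (G' : 𝒳' ⥤ᵇ 𝒳)
    (e : BasedFunctor.comp F' G ≅ BasedFunctor.comp G' F) (hc : FibCat.IsTwoCartOver F' G' e)
    (hG : Gerb.LocSurjObj J G) (hF' : Gerb.IsGerbeOver J F') : Gerb.IsGerbeOver J F := by
  have := h𝒳.1; have := h𝒴.1; have := h𝒳'.1; have := h𝒴'.1
  exact descends J F G F' G' e hc hG hF'

end Groth.Agent.S16884
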