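import Groth.Statements.S16885
import Groth.Agent.RepOne.Gerbe
import Groth.Agent.ASt.Stack

set_option autoImplicit false
open CategoryTheory
universe v u
open Gerb

namespace Groth.Agent.S16885

set_option backward.isDefEq.respectTransparency false
set_option backward.isDefEq.respectTransparency.types false

open Groth.Agent.ASt Groth.Agent.RepOne in
theorem gerbeOver_toSelf {C : Type u} [Category.{v} C] (J : GrothendieckTopology C)
    {𝒳 𝒳' : BasedCategory.{v, max u v} C} (a : 𝒳 ⥤ᵇ 𝒳') (ha : FibCat.IsEquivOver a)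
    (hF : Gerb.IsGerbeOver J (FibCat.toSelf 𝒳)) : Gerb.IsGerbeOver J (FibCat.toSelf 𝒳') := by
  obtain ⟨-, -, hv⟩ := vert_of_isEquivOver ha
  refine ⟨fun y => ?_, fun x x' b hb => ?_⟩
  · obtain ⟨R, hR, h⟩ := hF.1 y
    refine ⟨R, hR, fun V f hf => ?_⟩
    obtain ⟨x₀, g, hg⟩ := h f hf
    have hg' : (FibCat.selfOver C).p.IsHomLift f g := hg
    exact ⟨a.obj x₀, eqToHom (a.w_obj x₀) ≫ g, IsHomLift.of_fac' (FibCat.selfOver C).p f _
      ((a.w_obj x₀).trans (IsHomLift.domain_eq (FibCat.selfOver C).p f g)) rfl (by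
        have h1 : g = _ := IsHomLift.fac' (FibCat.selfOver C).p f g
        change eqToHom (a.w_obj x₀) ≫ g = _
        exact ((congrArg (eqToHom (a.w_obj x₀) ≫ ·) h1).trans (by simp)))⟩
  · have hb2 : (FibCat.selfOver C).p.IsHomLift (𝟙 (𝒳'.p.obj x)) b := hb
    obtain ⟨z, hz, e, he⟩ := hv x
    obtain ⟨z', hz', e', he'⟩ := hv x'
    have hxx : 𝒳'.p.obj x' = 𝒳'.p.obj x := IsHomLift.codomain_eq (FibCat.selfOver C).p (𝟙 (𝒳'.p.obj x)) b
    have hzz : 𝒳.p.obj z = 𝒳.p.obj z' := hz.trans (hxx.symm.trans hz'.symm)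
    have hb' : b = eqToHom hxx.symm :=
      (IsHomLift.fac' (FibCat.selfOver C).p (𝟙 (𝒳'.p.obj x)) b).trans (by simp)
    obtain ⟨R, hR, h⟩ := hF.2 z z' (eqToHom hzz)
      (IsHomLift.of_fac' (FibCat.selfOver C).p (𝟙 _) _ rfl hzz.symm (by simp; rfl))
    refine ⟨R.pullback (eqToHom hz.symm), J.pullback_stable _ hR, fun V f hf => ?_⟩
    obtain ⟨x₀, φ, ψ, hφ, hψ, w⟩ := h (f ≫ eqToHom hz.symm) hf
    have hd := IsHomLift.domain_eq 𝒳.p (f ≫ eqToHom hz.symm) φ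
    have eφ := IsHomLift.fac' 𝒳.p (f ≫ eqToHom hz.symm) φ
    have eψ := IsHomLift.fac' 𝒳.p (f ≫ eqToHom hz.symm) ψ
    refine ⟨a.obj x₀, a.map φ ≫ e.hom, a.map ψ ≫ e'.hom, ?_, ?_, ?_⟩
    · exact isHomLift_of_map _ ((a.w_obj x₀).trans hd) rfl (by simp [map_w, eφ, he])
    · exact isHomLift_of_map _ ((a.w_obj x₀).trans hd) hxx (by simp [map_w, eψ, he'])
    · change 𝒳'.p.map (a.map φ ≫ e.hom) ≫ b = 𝒳'.p.map (a.map ψ ≫ e'.hom)
      rw [hb']
      simp [map_w, eφ, eψ, he, he']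

open Groth.Agent.ASt in
theorem gerbe_of_equiv {C : Type u} [Category.{v} C] (J : GrothendieckTopology C)
    {𝒮₁ 𝒮₂ : BasedCategory.{v, max u v} C} {F : 𝒮₁ ⥤ᵇ 𝒮₂} (hF : FibCat.IsEquivOver F)
    (h : Gerb.IsGerbe J 𝒮₁) : Gerb.IsGerbe J 𝒮₂ :=
  ⟨isStack_of_isEquivOver hF h.1, gerbeOver_toSelf J F hF h.2⟩

/-- Let `𝒮₁`, `𝒮₂` be categories over `C` and `F : 𝒮₁ ⟶ 𝒮₂` a functor over `C` which is an equivalence
in the 2-category of categories over `C`. Then, for a topology `J` on `C`, `𝒮₁` is a gerbe over the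
site `(C, J)` if and only if `𝒮₂` is. -/
theorem result {C : Type u} [Category.{v} C] (J : GrothendieckTopology C)
    {𝒮₁ 𝒮₂ : BasedCategory.{v, max u v} C} (F : 𝒮₁ ⥤ᵇ 𝒮₂) (hF : FibCat.IsEquivOver F) :
    Gerb.IsGerbe J 𝒮₁ ↔ Gerb.IsGerbe J 𝒮₂ := by
  obtain ⟨G, hG, -, -⟩ := Groth.Agent.ASt.isEquivOver_symm hF
  exact ⟨gerbe_of_equiv J hF, gerbe_of_equiv J hG⟩

end Groth.Agent.S16885
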