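import Groth.Statements.S16886
import Groth.Agent.RepOne.DescTower2
import Groth.Agent.RepOne.Gerbe

set_option autoImplicit false
open CategoryTheory
universe v u
open Gerb

namespace Groth.Agent.S16886

set_option backward.isDefEq.respectTransparency false
set_option backward.isDefEq.respectTransparency.types false

open Groth.Agent.ASt Groth.Agent.RepOne in
theorem gerbeOver_of_equiv {C : Type u} [Category.{v} C] (J : GrothendieckTopology C)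
    {𝒳 𝒴 𝒳' : BasedCategory.{v, max u v} C} (a : 𝒳 ⥤ᵇ 𝒳') (ha : FibCat.IsEquivOver a) (F' : 𝒳' ⥤ᵇ 𝒴)
    (hF : Gerb.IsGerbeOver J (BasedFunctor.comp a F')) : Gerb.IsGerbeOver J F' := by
  obtain ⟨-, -, hv⟩ := vert_of_isEquivOver ha
  refine ⟨fun y => ?_, fun x x' b hb => ?_⟩
  · obtain ⟨R, hR, h⟩ := hF.1 y
    exact ⟨R, hR, fun V f hf => let ⟨x₀, g, hg⟩ := h f hf; ⟨a.obj x₀, g, hg⟩⟩
  · obtain ⟨z, hz, e, he⟩ := hv x
    obtain ⟨z', hz', e', he'⟩ := hv x'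
    have hb' : 𝒴.p.map b = _ := map_of_isHomLift_id (R := 𝒳'.p.obj x) b
    have he'i : 𝒳'.p.map e'.inv = eqToHom ((a.w_obj z').trans hz').symm := by
      rw [← cancel_epi (𝒳'.p.map e'.hom), ← Functor.map_comp, Iso.hom_inv_id, CategoryTheory.Functor.map_id, he']
      simp
    let b₀ : F'.obj (a.obj z) ⟶ F'.obj (a.obj z') := F'.map e.hom ≫ b ≫ F'.map e'.inv
    obtain ⟨R, hR, h⟩ := hF.2 z z' b₀ (isHomLift_id_of_map b₀ ((F'.w_obj _).trans (a.w_obj z))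
      (e := ((F'.w_obj _).trans ((congrArg _ rfl).trans ((a.w_obj z).trans hz))).trans
        ((((F'.w_obj x).symm.trans ((IsHomLift.domain_eq 𝒴.p (𝟙 (𝒳'.p.obj x)) b).trans
          (IsHomLift.codomain_eq 𝒴.p (𝟙 (𝒳'.p.obj x)) b).symm)).trans (F'.w_obj x')).trans
          (((F'.w_obj _).trans ((a.w_obj z').trans hz')).symm))) (by simp [b₀, map_w, he, hb', he'i]))
    refine ⟨R.pullback (eqToHom hz.symm), J.pullback_stable _ hR, fun V f hf => ?_⟩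
    obtain ⟨x₀, φ, ψ, hφ, hψ, w⟩ := h (f ≫ eqToHom hz.symm) hf
    refine ⟨a.obj x₀, a.map φ ≫ e.hom, a.map ψ ≫ e'.hom, ?_, ?_, ?_⟩
    · have : 𝒳'.p.IsHomLift (f ≫ eqToHom hz.symm) (a.map φ) := inferInstance
      exact isHomLift_of_map _ (IsHomLift.domain_eq 𝒳'.p (f ≫ eqToHom hz.symm) (a.map φ)) rfl (by
        simp [map_w, IsHomLift.fac' 𝒳.p (f ≫ eqToHom hz.symm) φ, he])
    · have hc := IsHomLift.codomain_eq 𝒳.p (f ≫ eqToHom hz.symm) ψ
      exact isHomLift_of_map _ ((a.w_obj x₀).trans (IsHomLift.domain_eq 𝒳.p (f ≫ eqToHom hz.symm) ψ))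
        (hz'.symm.trans (hc.trans hz)) (by
        simp [map_w, IsHomLift.fac' 𝒳.p (f ≫ eqToHom hz.symm) ψ, he'])
    · have w' : F'.map (a.map φ) ≫ b₀ = F'.map (a.map ψ) := w
      rw [F'.toFunctor.map_comp, F'.toFunctor.map_comp, ← w']
      simp only [b₀, Category.assoc]
      rw [← F'.toFunctor.map_comp e'.inv, Iso.inv_hom_id, CategoryTheory.Functor.map_id, Category.comp_id]

open Groth.Agent.ASt Groth.Agent.RepOne in
theorem gerbe_restricted {C : Type u} [Category.{v} C] (J : GrothendieckTopology C)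
    {𝒳 𝒴 : BasedCategory.{v, max u v} C} [FibCat.IsFibGrpd 𝒳.p] [FibCat.IsFibGrpd 𝒴.p] (F : 𝒳 ⥤ᵇ 𝒴)
    (hF' : FibCat.IsFibGrpd F.toFunctor) (hF : Gerb.IsGerbeOver J F) :
    Gerb.IsGerbeOver (𝒴.p.restrictedTopology J) (FibCat.toSelf (BasedCategory.ofFunctor F.toFunctor)) := by
  refine ⟨fun y => ?_, fun x x' b hb => ?_⟩
  · change 𝒴.obj at y
    obtain ⟨R, hR, h⟩ := hF.1 y
    refine ⟨liftSieve y rfl R, liftSieve_mem y rfl R J hR, fun w τ hτ => ?_⟩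
    have hτ' : R (𝒴.p.map τ) := by
      have : R (𝒴.p.map τ ≫ 𝟙 _) := hτ
      simpa using this
    obtain ⟨x₀, g, hg⟩ := h (𝒴.p.map τ) hτ'
    have hd := IsHomLift.domain_eq 𝒴.p (𝒴.p.map τ) g
    obtain ⟨i, ⟨-, hi⟩, -⟩ := existsUnique_fac (𝒳 := 𝒴) g τ (eqToHom hd.symm)
      (by simp [IsHomLift.fac' 𝒴.p (𝒴.p.map τ) g])
    obtain ⟨x₁, χ, hx₁, hχ⟩ := exists_lift_map hF' x₀ i
    exact ⟨x₁, eqToHom hx₁ ≫ τ, IsHomLift.of_fac' (𝟭 𝒴.obj) τ _ hx₁ rfl (by simp)⟩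
  · have hb2 : (𝟭 𝒴.obj).IsHomLift (𝟙 (F.obj x)) b := hb
    have hb' : b = _ := map_of_isHomLift_id (p := 𝟭 𝒴.obj) (𝒳 := BasedCategory.ofFunctor (𝟭 𝒴.obj))
      (R := F.obj x) b
    have hxx : F.obj x = F.obj x' :=
      (IsHomLift.codomain_eq (𝟭 𝒴.obj) (𝟙 (F.obj x)) b).symm
    change F.obj x ⟶ F.obj x' at b
    obtain ⟨R, hR, h⟩ := hF.2 x x' (eqToHom hxx)
      (isHomLift_id_of_map _ (F.w_obj x) (eqToHom_map 𝒴.p hxx))
    refine ⟨liftSieve (F.obj x) (F.w_obj x) R, liftSieve_mem _ _ R J hR, fun w τ hτ => ?_⟩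
    obtain ⟨x₀, φ, ψ, hφ, hψ, e⟩ := h _ hτ
    have hd := IsHomLift.domain_eq 𝒳.p (𝒴.p.map τ ≫ eqToHom (F.w_obj x)) φ
    obtain ⟨i, ⟨-, hi⟩, -⟩ := existsUnique_fac (𝒳 := 𝒴) (F.map φ) τ (eqToHom ((F.w_obj x₀).trans hd).symm)
      (by simp [map_w, IsHomLift.fac' 𝒳.p (𝒴.p.map τ ≫ eqToHom (F.w_obj x)) φ])
    obtain ⟨x₁, χ, hx₁, hχ⟩ := exists_lift_map hF' x₀ i
    have h1 : F.map (χ ≫ φ) = eqToHom hx₁ ≫ τ := by
      rw [Functor.map_comp, hχ, Category.assoc, hi]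
    have h2 : F.map (χ ≫ ψ) = eqToHom hx₁ ≫ τ ≫ eqToHom hxx := by
      rw [Functor.map_comp, ← e, hχ]
      simp [reassoc_of% hi]
    have h3 : b = eqToHom hxx := hb'.trans rfl
    refine ⟨x₁, χ ≫ φ, χ ≫ ψ, IsHomLift.of_fac' F.toFunctor τ _ hx₁ rfl (by simpa using h1),
      IsHomLift.of_fac' F.toFunctor τ _ hx₁ hxx.symm (by simpa using h2), ?_⟩
    change F.map (χ ≫ φ) ≫ b = F.map (χ ≫ ψ)
    rw [h1, h2, h3, Category.assoc]

/-- (2) ⇒ (1): let `𝒳`, `𝒴` be stacks in groupoids over the site `(C, J)` and `F : 𝒳 ⟶ 𝒴` a functor over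
`C` making `𝒳` a gerbe over `𝒴` (objects of `𝒴` come from `𝒳` locally and morphisms between images
lift locally). Then for every factorization `F = a ⋙ F'` through a category `𝒳'` over `C` with `a :
𝒳 ⟶ 𝒳'` an equivalence in the 2-category of categories over `C` and `F' : 𝒳' ⟶ 𝒴` a functor whose
underlying functor makes `𝒳'` fibred in groupoids over `𝒴`, the category `𝒳'` over `𝒴` (through
`F'`) is a gerbe over the site `𝒴` with the topology inherited from `J`. (Only this implication is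
stated; the converse is asserted in the published item with its verification not carried out.) -/
theorem result {C : Type u} [Category.{v} C]
    (J : GrothendieckTopology C) {𝒳 𝒴 𝒳' : BasedCategory.{v, max u v} C}
    (h𝒳 : Stk.IsStack J 𝒳) (h𝒴 : Stk.IsStack J 𝒴) (F : 𝒳 ⥤ᵇ 𝒴) (hF : Gerb.IsGerbeOver J F)
    (a : 𝒳 ⥤ᵇ 𝒳') (ha : FibCat.IsEquivOver a) (F' : 𝒳' ⥤ᵇ 𝒴) (hF' : FibCat.IsFibGrpd F'.toFunctor)
    (hfac : BasedFunctor.comp a F' = F) :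
    Gerb.IsGerbe (𝒴.p.restrictedTopology J) (BasedCategory.ofFunctor F'.toFunctor) := by
  subst hfac
  have := h𝒳.1
  have := h𝒴.1
  have hX' := Groth.Agent.ASt.isStack_of_isEquivOver ha h𝒳
  have := hX'.1
  have : FibCat.IsFibGrpd (BasedCategory.ofFunctor F'.toFunctor).p := hF'
  have e : BasedCategory.ofFunctor (F'.toFunctor ⋙ 𝒴.p) = 𝒳' := congrArg BasedCategory.ofFunctor F'.w
  exact ⟨Groth.Agent.RepOne.isStack_of_tower (𝒳 := 𝒴) (𝒴 := BasedCategory.ofFunctor F'.toFunctor) J h𝒴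
      (Eq.mpr (congrArg (Stk.IsStack J) e) hX'),
    gerbe_restricted J F' hF' (gerbeOver_of_equiv J a ha F' hF)⟩

end Groth.Agent.S16886
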