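import Groth.Statements.S16894
import Groth.Agent.NakaiLib.Apps

set_option autoImplicit false
universe u
open CategoryTheory CategoryTheory.Limits AlgebraicGeometry
open Vanish

namespace Groth.Agent.S16894

/-- Let k be an algebraically closed field and X an irreducible proper smooth k-scheme of dimension n
with an ample invertible O_X-module A (a projective manifold), and let L be an invertible
O_X-module. Then L is numerically effective, i.e. the degree of the pullback of L to every integral
one-dimensional closed subscheme Y ⊆ X is non-negative, if and only if L^⊗ν ⊗ A is ample for every ν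
> 0. (The published lemma says 'for an ample sheaf A'; the equivalence is stated here for any given
ample A, which is what the argument gives.) -/
theorem result (k : Type u) [Field k] [IsAlgClosed k]
    (X : Scheme.{u}) [X.Over (Spec (CommRingCat.of k))] [IsProper (X ↘ Spec (CommRingCat.of k))]
    [Smooth (X ↘ Spec (CommRingCat.of k))] [IrreducibleSpace X] (n : ℕ) (hn : topologicalKrullDim X = n)
    (A : X.Modules) (hA : CohB1.IsAmple A) (L : X.Modules) (hL : PicF.IsInvertible L) :
    (∀ (Y : Scheme.{u}) (i : Y ⟶ X) [IsClosedImmersion i], IsIntegral Y → topologicalKrullDim Y = 1 →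
      0 ≤ Pic13.curveDeg k (i ≫ (X ↘ Spec (CommRingCat.of k))) ((Scheme.Modules.pullback i).obj L)) ↔
      ∀ ν : ℕ, 0 < ν → CohB1.IsAmple (CohB1.tensorMod (CohB1.tensorPow L ν) A) := by
  haveI := Groth.Agent.EulerIneqLib.isNoetherian_proper (X := X) k
  have hcl : ∀ ν : ℕ, ∀ hM : PicF.IsInvertible (CohB1.tensorMod (CohB1.tensorPow L ν) A),
      Groth.Agent.Nakai.cl hM - ((ν : Groth.Agent.IntLib.PicRing X) * Groth.Agent.Nakai.cl hL +
        ((1 : ℕ) : Groth.Agent.IntLib.PicRing X) * Groth.Agent.Nakai.cl hA.1) ∈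
          Groth.Agent.Nakai.Aug X ^ 2 := fun ν hM => by
    rw [show Groth.Agent.Nakai.cl hM = _ from
      Groth.Agent.Nakai.cl_tensor (Groth.Agent.AmpleLib.isInvertible_tensorPow hL ν) hA.1]
    have h2 : Groth.Agent.Nakai.cl (Groth.Agent.AmpleLib.isInvertible_tensorPow hL ν) * Groth.Agent.Nakai.cl hA.1 ∈
        Groth.Agent.Nakai.Aug X ^ 2 := by
      rw [pow_two]; exact Ideal.mul_mem_mul (Groth.Agent.Nakai.cl_mem _) (Groth.Agent.Nakai.cl_mem _)
    convert Ideal.add_mem _ (Groth.Agent.Nakai.cl_tensorPow_sub_mem hL ν) h2 using 1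
    push_cast
    ring
  have hinv := fun ν => Groth.Agent.AmpleLib.isInvertible_tensor
    (Groth.Agent.AmpleLib.isInvertible_tensorPow hL ν) hA.1
  constructor
  · intro h ν _
    exact Groth.Agent.Nakai.isAmple_of_cl k hL hA (Groth.Agent.Nakai.nefP_of_curveDeg k hL h) (hinv ν)
      one_pos (hcl ν (hinv ν))
  · intro h Y i _ _ hY
    haveI : IsLocallyNoetherian Y := LocallyOfFiniteType.isLocallyNoetherian i
    have hY' : topologicalKrullDim Y = ((1 : ℕ) : WithBot ℕ∞) := hY.trans Nat.cast_one.symm
    rw [Groth.Agent.Nakai.curveDeg_eq k hL i hY']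
    obtain ⟨F, hF⟩ : ∃ F, F = (Scheme.Modules.pushforward i).obj (Coh.structureModule Y) := ⟨_, rfl⟩
    have hFc : Coh.IsCoh F :=
      hF ▸ Groth.Agent.DevLib.isCoh_pushforward_closed i (Groth.Agent.DevLib.isCoh_structureModule Y)
    have hFd : topologicalKrullDim (CohB1.support F) < ((1 + 1 : ℕ) : WithBot ℕ∞) := by
      subst hF
      refine lt_of_le_of_lt ((Topology.IsEmbedding.inclusion
        (Groth.Agent.IntLib.support_pushforward_subset i _)).isInducing.topologicalKrullDim_le.trans (le_of_eq ?_))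
        (show ((1 : ℕ) : WithBot ℕ∞) < _ by exact_mod_cast Nat.lt_succ_self 1)
      rw [← i.isEmbedding.toHomeomorph.isHomeomorph.topologicalKrullDim_eq]
      exact hY'
    rw [← hF]
    by_contra hneg
    obtain ⟨ν, hν⟩ : ∃ ν : ℕ, ν = (Groth.Agent.IntLib.pairing k F (Groth.Agent.Nakai.cl hA.1)).toNat + 1 := ⟨_, rfl⟩
    have h1 := (Groth.Agent.Nakai.isPos_cl_pow k (h ν (by omega)) 1 F hFc hFd).1
    rw [pow_one, Groth.Agent.Nakai.pairing_congr k (hcl ν _) hFc hFd, ← nsmul_eq_mul, ← nsmul_eq_mul,
      map_add, map_nsmul, map_nsmul, nsmul_eq_mul, one_nsmul] at h1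
    push_cast at h1
    have h2 : (ν : ℤ) * Groth.Agent.IntLib.pairing k F (Groth.Agent.Nakai.cl hL) ≤ -(ν : ℤ) := by nlinarith
    have h3 : Groth.Agent.IntLib.pairing k F (Groth.Agent.Nakai.cl hA.1) < (ν : ℤ) := by omega
    omega

end Groth.Agent.S16894
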