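import Groth.Statements.S1690
import Groth.Agent.RefOne.Extend
import Groth.Agent.PullbackMod.LocFree
import Groth.Agent.PullbackMod.LimFree
import Groth.Agent.FlatLocus.FibreCritMod
import Groth.Agent.QCohLib.FiniteType


set_option autoImplicit false
universe u
open CategoryTheory CategoryTheory.Limits AlgebraicGeometry TopologicalSpace
open SDiv

namespace Groth.Agent.S1690

open CategoryTheory CategoryTheory.Limits AlgebraicGeometry

open Groth.Agent.RefOne Groth.Agent.PullbackMod

/-- (1) if and only if (3): let X be an integral locally Noetherian normal scheme and F a coherent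
module. Then F is reflexive (stalkwise) if and only if there is an open subscheme j : U ⟶ X such
that every point outside U has local ring of dimension at least 2, the restriction of F to U is
finite locally free, and the canonical map F ⟶ j_* j^* F is an isomorphism. -/
theorem result (X : Scheme.{u}) [IsIntegral X] [IsLocallyNoetherian X] (hX : Pi1.IsNormalScheme X)
    (F : X.Modules) (hF : Coh.IsCoh F) :
    (∀ x : ↥X, Module.IsReflexive (X.presheaf.stalk x) (F.presheaf.stalk x)) ↔
      ∃ U : X.Opens, (∀ x : ↥X, x ∉ U → (2 : WithBot ℕ∞) ≤ ringKrullDim (X.presheaf.stalk x)) ∧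
        FlatMod.IsFinLocFree (F.restrict U.ι) ∧ IsIso ((Scheme.Modules.restrictAdjunction U.ι).unit.app F) := by
  have hdepth : ∀ x : ↥X, (2 : WithBot ℕ∞) ≤ ringKrullDim (X.presheaf.stalk x) →
      (2 : ℕ∞) ≤ LocCoh.depth (X.presheaf.stalk x) (X.presheaf.stalk x) := fun x hx =>
    ParaFLib.two_le_depth_stalk_of_normal x (hX x) hx
  haveI := hF.1
  constructor
  · intro hr
    have hfree : ∀ x : ↥X, ¬ (2 : WithBot ℕ∞) ≤ ringKrullDim (X.presheaf.stalk x) →
        Module.Free (X.presheaf.stalk x) (F.presheaf.stalk x) := fun x hx => by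
      haveI := PullbackMod.finite_stalk_of_isFT hF.2 x
      haveI := (hX x).1
      haveI : IsPrincipalIdealRing (X.presheaf.stalk x) := by
        by_cases h0 : Order.coheight x = 0
        · have hxη : x = genericPoint ↥X := ((show x ⤳ genericPoint ↥X from
            Order.coheight_eq_zero.1 h0 ((genericPoint_spec ↥X).specializes (Set.mem_univ x))).antisymm
              ((genericPoint_spec ↥X).specializes (Set.mem_univ x))).eq
          subst hxη
          exact (isField_gen (X := X)).isPrincipalIdealRing
        · haveI := isDVR hX (y := x) (by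
            rw [ringKrullDim_stalk_eq_coheight] at hx
            refine le_antisymm (Order.le_of_lt_add_one ?_) (Order.one_le_iff_pos.2 (pos_iff_ne_zero.2 h0))
            exact not_le.1 fun h => hx (WithBot.coe_le_coe.2 h))
          infer_instance
      haveI : Module.IsTorsionFree (X.presheaf.stalk x) (F.presheaf.stalk x) :=
        Module.IsTorsionFree.of_smul_eq_zero fun a m ham =>
          (eq_or_ne a 0).imp_right fun ha => isTorsionFree_of_reflexiveAt (hr x) ha ham
      exact Module.free_of_finite_type_torsion_free'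
    have hFP := QCohLib.isFP_of_isCoh F hF
    let U : X.Opens := ⟨{x | ∃ n, FreeAt n F x}, by
      refine isOpen_iff_forall_mem_open.2 fun x hx => ?_
      obtain ⟨n, hn⟩ := hx
      obtain ⟨V, hxV, ⟨i⟩⟩ := exists_nhd_freeAt F hFP hn
      exact ⟨V, fun y hy => ⟨n, freeAt_of_restrict_iso F i hy⟩, V.2, hxV⟩⟩
    have hmem : ∀ x, x ∉ U → (2 : WithBot ℕ∞) ≤ ringKrullDim (X.presheaf.stalk x) := fun x hx => by
      by_contra h
      haveI := hfree x h
      haveI := PullbackMod.finite_stalk_of_isFT hF.2 x
      exact hx ⟨_, ⟨(Module.finBasis (X.presheaf.stalk x) (F.presheaf.stalk x)).equivFun⟩⟩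
    refine ⟨U, hmem, ?_, isIso_unit U hF hr fun x hx => hdepth x (hmem x hx)⟩
    have hc := ProjBundleLib.isCoh_restrict_open hF.1 hF.2 U
    refine (isFinLocFree_iff _).2 ⟨hc.1, QCohLib.isFP_of_isCoh _ hc, fun x => ?_⟩
    obtain ⟨n, hn⟩ := x.2
    obtain ⟨e⟩ := (show FreeAt n F (U.ι x) from hn)
    obtain ⟨h1, -⟩ := (DCohLib.free_finite_stalk_restrict_iff U.ι F x).2 ⟨Module.Free.of_equiv e.symm, Module.Finite.equiv e.symm⟩
    haveI := h1
    exact (inferInstance : Module.Flat ((U : Scheme.{u}).presheaf.stalk x) (((Scheme.Modules.restrictFunctor U.ι).obj F).presheaf.stalk x))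
  · rintro ⟨U, hU, hlf, hunit⟩
    have hrU : ∀ x ∈ U, RefHull.IsReflexiveAt F x := fun x hx => by
      refine (isReflexiveAt_restrict_iff U.ι F ⟨x, hx⟩).1 ?_
      obtain ⟨hq, hfp, hflat⟩ := (isFinLocFree_iff _).1 hlf
      haveI := hq
      haveI := FlatLocus.finite_stalk _ hfp (⟨x, hx⟩ : (U : Scheme.{u}))
      haveI : Module.Flat ((U : Scheme.{u}).presheaf.stalk ⟨x, hx⟩) ((F.restrict U.ι).presheaf.stalk ⟨x, hx⟩) := hflat _
      haveI : Module.Free ((U : Scheme.{u}).presheaf.stalk ⟨x, hx⟩) ((F.restrict U.ι).presheaf.stalk ⟨x, hx⟩) :=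
        Module.free_of_flat_of_isLocalRing
      exact (inferInstance : Module.IsReflexive ((U : Scheme.{u}).presheaf.stalk ⟨x, hx⟩) ((F.restrict U.ι).presheaf.stalk ⟨x, hx⟩))
    exact (isReflexive_iff hF).1 (isIso_bidual_of_unit U hF hrU (fun x hx => hdepth x (hU x hx)) hunit)

end Groth.Agent.S1690
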