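import Groth.Statements.S16900
import Groth.Agent.CyclicRootLib.Model

set_option autoImplicit false
universe u
open Polynomial
open Vanish

namespace Groth.Agent.S16900

open Groth.Agent.CyclicRootLib


/-- Let k be an algebraically closed field and B an integral domain of finite type over k all of whose
localizations at primes are regular (an affine open Spec B of a manifold); let N ≥ 1 be invertible
in k, u a unit of B, α a natural number and f₁ ≠ 0 an element of B such that all local rings of
B/f₁B are regular (the divisor D₁ = V(f₁) is non-singular; f₁ may be a unit). With A' = B[t]/(t^N −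
u·f₁^α) (the algebra of the N-th root of the section u·f₁^α) and K = A'[1/f₁], let A ⊆ K be the
B-subalgebra generated by the N elements t^i · f₁^(−⌊iα/N⌋), 0 ≤ i < N. Then A is finite over B, A
is the integral closure of A' in K (Spec A is the normalization of Spec A', finite and normal over
Spec B), and Spec A is non-singular: every localization of A at a prime ideal is a regular local
ring. -/
theorem result (k : Type u) [Field k] [IsAlgClosed k]
    (B : Type u) [CommRing B] [IsDomain B] [Algebra k B] [Algebra.FiniteType k B]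
    (hreg : ∀ (P : Ideal B) [P.IsPrime], IsRegularLocalRing (Localization.AtPrime P))
    (N : ℕ) (hN : 0 < N) (hNk : IsUnit ((N : ℕ) : k)) (u : Bˣ) (α : ℕ) (f₁ : B) (hf₁ : f₁ ≠ 0)
    (hD : ∀ (P : Ideal (B ⧸ Ideal.span ({f₁} : Set B))) [P.IsPrime], IsRegularLocalRing (Localization.AtPrime P))
    (A : Subalgebra B (Localization.Away
      (algebraMap B (AdjoinRoot (X ^ N - C ((u : B) * f₁ ^ α) : B[X])) f₁)))
    (hA : A = Algebra.adjoin B (Set.range fun i : Fin N =>
      algebraMap (AdjoinRoot (X ^ N - C ((u : B) * f₁ ^ α) : B[X])) (Localization.Away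
        (algebraMap B (AdjoinRoot (X ^ N - C ((u : B) * f₁ ^ α) : B[X])) f₁))
        (AdjoinRoot.root (X ^ N - C ((u : B) * f₁ ^ α) : B[X]) ^ (i : ℕ)) *
      IsLocalization.Away.invSelf (S := Localization.Away
        (algebraMap B (AdjoinRoot (X ^ N - C ((u : B) * f₁ ^ α) : B[X])) f₁))
        (algebraMap B (AdjoinRoot (X ^ N - C ((u : B) * f₁ ^ α) : B[X])) f₁) ^ ((i : ℕ) * α / N))) :
    Module.Finite B A ∧
      IsIntegralClosure A (AdjoinRoot (X ^ N - C ((u : B) * f₁ ^ α) : B[X]))
        (Localization.Away (algebraMap B (AdjoinRoot (X ^ N - C ((u : B) * f₁ ^ α) : B[X])) f₁)) ∧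
      ∀ (Q : Ideal A) [Q.IsPrime], IsRegularLocalRing (Localization.AtPrime Q) := by
  haveI : IsNoetherianRing B := Algebra.FiniteType.isNoetherianRing k B
  haveI : IsRegularRing B := isRegularRing_iff.2 hreg
  haveI : IsRegularRing (B ⧸ Ideal.span ({f₁} : Set B)) := isRegularRing_iff.2 hD
  let P : B[X] := X ^ N - C ((u : B) * f₁ ^ α)
  let K := Localization.Away (algebraMap B (AdjoinRoot P) f₁)
  let t : K := algebraMap (AdjoinRoot P) K (AdjoinRoot.root P)
  have hroot : AdjoinRoot.root P ^ N = algebraMap B (AdjoinRoot P) ((u : B) * f₁ ^ α) := by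
    have h := AdjoinRoot.eval₂_root P
    simp only [P, eval₂_sub, eval₂_X_pow, eval₂_C, sub_eq_zero] at h
    exact h
  have ht : t ^ N = algebraMap B K ((u : B) * f₁ ^ α) := by
    rw [← map_pow, hroot, ← IsScalarTower.algebraMap_apply]
  have hfu : IsUnit (algebraMap B K f₁) := by
    rw [IsScalarTower.algebraMap_apply B (AdjoinRoot P) K]
    exact IsLocalization.Away.algebraMap_isUnit _
  have htu : IsUnit t := (isUnit_pow_iff hN.ne').1 (by
    rw [ht, map_mul, map_pow]; exact (u.isUnit.map _).mul (hfu.pow α))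
  have hinv : IsLocalization.Away.invSelf (S := K) (algebraMap B (AdjoinRoot P) f₁) =
      ((hfu.unit⁻¹ : Kˣ) : K) := by
    rw [← Units.mul_left_inj hfu.unit, Units.inv_mul, IsUnit.unit_spec,
      IsScalarTower.algebraMap_apply B (AdjoinRoot P) K, mul_comm]
    exact IsLocalization.Away.mul_invSelf _
  have hNu : IsUnit ((N : ℕ) : B) := by simpa using hNk.map (algebraMap k B)
  haveI : Module.Finite B (AdjoinRoot P) := (monic_X_pow_sub_C _ hN.ne').finite_adjoinRoot
  obtain ⟨hregA, hfinA, htA, hclosed⟩ := main f₁ hf₁ N hN hNu u α K t htu.unit hfu.unit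
    (IsUnit.unit_spec _) (IsUnit.unit_spec _) ht
    (fun C' _ _ c hc hf => by
      let φ : AdjoinRoot P →ₐ[B] C' := AdjoinRoot.liftAlgHom P (Algebra.ofId B C') c (by
        simp only [P, eval₂_sub, eval₂_X_pow, eval₂_C, sub_eq_zero]
        exact hc)
      have hφ : IsUnit (φ (algebraMap B (AdjoinRoot P) f₁)) := by rwa [AlgHom.commutes]
      exact ⟨IsLocalization.Away.liftAlgHom (algebraMap B (AdjoinRoot P) f₁) hφ,
        (IsLocalization.Away.lift_eq (algebraMap B (AdjoinRoot P) f₁) hφ _).trans
          (AdjoinRoot.liftAlgHom_root _ _ _ _)⟩)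
    (fun z => by
      obtain ⟨n, a, ha⟩ := IsLocalization.Away.surj (algebraMap B (AdjoinRoot P) f₁) z
      refine ⟨n, ?_⟩
      rw [← IsScalarTower.algebraMap_apply] at ha
      rw [ha]
      have h : IsScalarTower.toAlgHom B (AdjoinRoot P) K a ∈
          (Algebra.adjoin B {AdjoinRoot.root P}).map (IsScalarTower.toAlgHom B (AdjoinRoot P) K) :=
        ⟨a, by rw [AdjoinRoot.adjoinRoot_eq_top]; trivial, rfl⟩
      rw [AlgHom.map_adjoin, Set.image_singleton] at h
      exact h)
    A (by
      rw [hA]
      congr 1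
      refine congrArg Set.range (funext fun a => ?_)
      rw [map_pow, ← hinv])
  haveI := hfinA
  refine ⟨hfinA, ?_, fun Q _ => hregA.isRegularLocalRing_localization Q⟩
  refine ⟨Subtype.val_injective, fun {x} => ⟨fun hx => ⟨⟨x, hclosed x (isIntegral_trans x hx)⟩, rfl⟩, ?_⟩⟩
  rintro ⟨y, rfl⟩
  exact ((Algebra.IsIntegral.isIntegral (R := B) y).map A.val).tower_top

end Groth.Agent.S16900
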