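import Groth.Statements.S16904
import Groth.Agent.NakaiLib.GenGrowth

set_option autoImplicit false
universe u
open CategoryTheory CategoryTheory.Limits AlgebraicGeometry
open Vanish

namespace Groth.Agent.S16904

/-- Let k be an algebraically closed field of characteristic zero and X an irreducible proper smooth
k-scheme of dimension n with an ample invertible O_X-module (a projective manifold); let L be a
semi-ample invertible O_X-module (some L^⊗μ with μ > 0 is globally generated; such L is numerically
effective) with tensor inverse L⁻¹. Then for every natural number m, c_1(L)^m is numerically trivial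
— (L^m · V) = 0 for every integral closed subscheme V ⊆ X of dimension m — if and only if κ(L) < m
in the growth form: there are no ν > 0 and a > 0 with μ^m ≤ a · dim_k H^0(X, L^⊗νμ) for all μ ≥ 1.
(This expresses ν(L) = κ(L) for semi-ample L; characteristic zero only.) -/
theorem result (k : Type u) [Field k] [IsAlgClosed k] [CharZero k]
    (X : Scheme.{u}) [X.Over (Spec (CommRingCat.of k))] [IsProper (X ↘ Spec (CommRingCat.of k))]
    [Smooth (X ↘ Spec (CommRingCat.of k))] [IrreducibleSpace X] (n : ℕ) (hn : topologicalKrullDim X = n)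
    (H : X.Modules) (hH : CohB1.IsAmple H) (L Linv : X.Modules) (hL : PicF.IsInvertible L) (hLinv : ClSub.IsInverseOf Linv L)
    (hsa : ∃ μ : ℕ, 0 < μ ∧ Curv2.IsGloballyGenerated (CohB1.tensorPow L μ))
    (m : ℕ) :
    (∀ (V : Scheme.{u}) (i : V ⟶ X) [IsClosedImmersion i], IsIntegral V → topologicalKrullDim V = (m : ℕ) →
      FGA.intNum k X n (fun _ : Fin m => Linv) ((Scheme.Modules.pushforward i).obj (Coh.structureModule V)) = 0) ↔ ¬ (∃ ν a : ℕ, 0 < ν ∧ 0 < a ∧ ∀ μ : ℕ, 1 ≤ μ →
        μ ^ m ≤ a * Module.finrank k (Coh.HH X (CohB1.tensorPow L (ν * μ)) 0)) := by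
  haveI := Groth.Agent.EulerIneqLib.isNoetherian_proper (X := X) k
  obtain ⟨μ, hμ, hgen⟩ := hsa
  constructor
  · intro hV
    exact Groth.Agent.Nakai.not_growth k hL hH (Groth.Agent.Nakai.nefP_of_semiample k hL hμ hgen) hn
      (Groth.Agent.Nakai.pairing_compMod_eq_zero k hn hL hLinv hV)
  · intro hng V i _ hVi hVd
    haveI := hVi
    have hF := Groth.Agent.DevLib.isCoh_pushforward_closed i (Groth.Agent.DevLib.isCoh_structureModule V)
    have hcl : closure ({i (genericPoint V)} : Set X) = Set.range i := by
      rw [← Set.image_singleton, i.isClosedEmbedding.isClosedMap.closure_image_eq_of_continuous i.continuous,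
        genericPoint_closure, Set.image_univ]
    have hξ : topologicalKrullDim (closure {i (genericPoint V)} : Set X) = (m : WithBot ℕ∞) := by
      rw [hcl, ← i.isEmbedding.toHomeomorph.isHomeomorph.topologicalKrullDim_eq, hVd]
    have hP := Groth.Agent.DevLib.isPiece_pushUnit i
    have hlt : topologicalKrullDim (closure {i (genericPoint V)} : Set X) < ((m + 1 : ℕ) : WithBot ℕ∞) := by
      rw [hξ]; exact_mod_cast Nat.lt_succ_self m
    have hd := Groth.Agent.Nakai.dim_supp_le hP.supp hlt
    have hN := Groth.Agent.AmpleLib.isInvertible_tensorPow hL μ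
    rw [Groth.Agent.Nakai.intNum_pow_eq k hn hL hLinv hF hd]
    by_contra hne
    refine hng (Groth.Agent.Nakai.exists_growth_of_generated k hμ hN hgen (ξ := i (genericPoint V)) hξ ?_)
    rw [← Groth.Agent.Nakai.pairing_piece k hP (Groth.Agent.IntLib.isPiece_compMod _) hlt
      (Ideal.pow_mem_pow (Groth.Agent.Nakai.cl_mem hN) m)]
    refine lt_of_le_of_ne (Groth.Agent.Nakai.pairing_pow_nonneg_of_generated k hN hgen m _ hF hd) (Ne.symm ?_)
    rw [Groth.Agent.Nakai.pairing_cl_tensorPow_pow k hL μ m hN hF hd]
    exact mul_ne_zero (pow_ne_zero _ (by exact_mod_cast hμ.ne')) hne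

end Groth.Agent.S16904
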