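import Groth.Statements.S16909
import Groth.Agent.AmpleLib.FinProd
import Groth.Agent.AmpleLib.RelLocal
import Groth.Agent.HilbObsLib.Ideal
import Groth.Agent.OmegaAffLib.Ideal
open CategoryTheory CategoryTheory.Limits AlgebraicGeometry TopologicalSpace Opposite
open Groth.Agent.ParaFLib Groth.Agent.PullbackMod Groth.Agent.DCohLib Groth.Agent.AmpleLib
-- import your own Groth.Agent.* helpers here

set_option autoImplicit false
universe u
open CategoryTheory CategoryTheory.Limits AlgebraicGeometry
open ResProp

namespace Groth.Agent.S16909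

/-- Let `X` be a quasi-compact and quasi-separated scheme on which every quasi-coherent module is
globally generated (a quotient of a free module on some index type, i.e. the structure sheaf is a
generating family). Then `X` is quasi-affine. No separatedness hypothesis is made; it follows. (The
published statement is for an algebraic stack over an algebraic space with affine stabilizer groups
at closed points and concludes that it is representable by a quasi-affine morphism; that general
case rests on results outside this text, and this row is the final step of its proof, the case of a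
scheme.) -/
theorem result (X : Scheme.{u}) [CompactSpace X]
    [QuasiSeparatedSpace X] (h : ∀ M : X.Modules, Coh.IsQCoh M → Curv2.IsGloballyGenerated M) :
    X.IsQuasiAffine := by
  refine (isQuasiAffine_iff (X := X)).2 ⟨isInvertible_structureModule, inferInstance, fun x => ?_⟩
  obtain ⟨_, ⟨U, hU, rfl⟩, hxU, -⟩ := X.isBasis_affineOpens.exists_subset_of_mem_open (Set.mem_univ x) isOpen_univ
  let I := Scheme.IdealSheafData.vanishingIdeal ⟨(U : Set X)ᶜ, U.2.isClosed_compl⟩
  have hsupp : ∀ y, y ∈ Set.range I.subschemeι ↔ y ∉ U := fun y => by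
    rw [Scheme.IdealSheafData.range_subschemeι, Scheme.IdealSheafData.coe_support_vanishingIdeal]
    rfl
  suffices ∃ s : Coh.structureModule X ⟶ Coh.structureModule X,
      x ∈ CohB1.genLocus _ s ∧ CohB1.genLocus _ s ≤ U by
    obtain ⟨s, hxs, hsU⟩ := this
    refine ⟨0, s ≫ (powOne (Coh.structureModule X)).symm.hom, ?_⟩
    rw [genLocus_comp_iso]
    refine ⟨hxs, ?_⟩
    have := isAffineOpen_inf_genLocus isInvertible_structureModule s hU
    rwa [inf_eq_left.2 hsU] at this
  have hle : ∀ t : Coh.structureModule X ⟶ ClSub.idealMod I,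
      CohB1.genLocus _ (t ≫ ClSub.idealModι I) ≤ U := fun t y hy => by
    by_contra hyU
    have hg := (mem_genLocus_iff isInvertible_structureModule).1 hy
    obtain ⟨r, hr⟩ := (bijective_oneG y).2 ((Coh.structureModule X).presheaf.germ ⊤ y trivial
      (sec (t ≫ ClSub.idealModι I)))
    have hr' : r ∈ IntMult.stalkIdeal I y := (Groth.Agent.HilbObsLib.mem_range_idealModι I y r).1
      ⟨(ClSub.idealMod I).presheaf.germ ⊤ y trivial (sec t),
        (stalkLin_germ (ClSub.idealModι I) (U := ⊤) y trivial _).trans hr.symm⟩
    rw [← hr] at hg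
    have hu : IsUnit r := (bijective_smul_iff (bijective_oneG y) r).1 hg
    obtain ⟨w, rfl⟩ := (hsupp y).2 hyU
    rw [← Groth.Agent.IdealStalkLib.ker_stalkMap_subschemeι, RingHom.mem_ker] at hr'
    exact not_isUnit_zero (hr' ▸ hu.map (I.subschemeι.stalkMap w).hom)
  obtain ⟨n, hn⟩ : ∃ n, stalkLin (ClSub.idealModι I) x n = (1 : X.presheaf.stalk x) • oneG x :=
    (Groth.Agent.HilbObsLib.mem_range_idealModι I x 1).2 (by
      rw [Groth.Agent.HilbObsLib.stalkIdeal_eq_top I (fun h => (hsupp x).1 h hxU)]
      trivial)
  obtain ⟨ι, p, hp⟩ := h (ClSub.idealMod I) (Groth.Agent.OmegaAffLib.isQCoh_idealMod I)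
  by_contra hne
  push Not at hne
  let S : Submodule (X.presheaf.stalk x) ((Coh.structureModule X).presheaf.stalk x) :=
    Submodule.map (LinearMap.toSpanSingleton (X.presheaf.stalk x) _ (oneG x))
      (IsLocalRing.maximalIdeal (X.presheaf.stalk x))
  let l := S.mkQ ∘ₗ stalkLin (ClSub.idealModι I) x
  haveI := hp
  have hψ : (toSky l : ClSub.idealMod I ⟶ _) = 0 := by
    refine (@cancel_epi X.Modules _ _ _ _ p hp (toSky l) 0).1 ?_
    refine Eq.trans ?_ (comp_zero (C := X.Modules) (f := p)).symm
    refine Cofan.IsColimit.hom_ext (SheafOfModules.isColimitFreeCofan ι) _ _ fun i => ?_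
    let t : Coh.structureModule X ⟶ ClSub.idealMod I := SheafOfModules.ιFree i ≫ p
    refine Eq.trans ?_ (comp_zero (C := X.Modules) (f := SheafOfModules.ιFree i)).symm
    refine (Category.assoc (obj := X.Modules) (SheafOfModules.ιFree i) p (toSky l)).symm.trans ?_
    show t ≫ toSky l = 0
    refine hom_unit_ext ?_
    refine funext fun hx => ?_
    show l ((ClSub.idealMod I).presheaf.germ ⊤ x hx.down (sec t)) = 0
    rw [LinearMap.comp_apply, Submodule.mkQ_apply, Submodule.Quotient.mk_eq_zero]
    obtain ⟨c, hc⟩ := (bijective_oneG x).2 (stalkLin (ClSub.idealModι I) x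
      ((ClSub.idealMod I).presheaf.germ ⊤ x hx.down (sec t)))
    refine ⟨c, fun hu => hne (t ≫ ClSub.idealModι I) ?_ (hle t), hc⟩
    rw [mem_genLocus_iff isInvertible_structureModule]
    have hcg : c • oneG x = (Coh.structureModule X).presheaf.germ ⊤ x trivial (sec (t ≫ ClSub.idealModι I)) :=
      hc.trans (stalkLin_germ (ClSub.idealModι I) (U := ⊤) x hx.down _)
    rw [← hcg, bijective_smul_iff (bijective_oneG x)]
    exact hu
  obtain ⟨V, hxV, m, hm⟩ := TopCat.Presheaf.exists_germ_eq (ClSub.idealMod I).presheaf n
  have h0 : l n = 0 := by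
    rw [← hm, ← toSky_app l V m ⟨hxV⟩, hψ]
    rfl
  rw [LinearMap.comp_apply, hn, Submodule.mkQ_apply, Submodule.Quotient.mk_eq_zero] at h0
  obtain ⟨r, hr, hre⟩ := h0
  have hr1 : r = 1 := (bijective_oneG x).1 hre
  exact hr (hr1 ▸ isUnit_one)

end Groth.Agent.S16909
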