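import Groth.Statements.S16916
import Groth.Agent.QuotDiagFppf.Basic
-- import your own Groth.Agent.* helpers here

set_option autoImplicit false
set_option backward.isDefEq.respectTransparency false
set_option backward.isDefEq.respectTransparency.types false
universe u
open CategoryTheory CategoryTheory.Limits AlgebraicGeometry MonoidalCategory
open ResProp

namespace Groth.Agent.S16916

/-- Let `G` be a group scheme over a scheme `S`, affine, flat and locally of finite presentation over
`S`, acting on a scheme `X` quasi-compact and quasi-separated over `S`. Then the quotient stack
`[X/G]` (fppf `G`-torsors given as schemes with an equivariant morphism to `X`) has quasi-affine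
diagonal over `S`: its diagonal over `(Sch/S)` is representable by algebraic spaces and
quasi-affine. (The published statement is for an arbitrary property of morphisms of stacks that is
stable under base change and fppf local on the base: for a quasi-compact quasi-separated algebraic
stack `X` over `S` acted on by a separated, flat, finitely presented group algebraic space `G` such
that `G → S` has the property, the diagonal of `[X/G]` over `S` has it as soon as the diagonal of
`X` over `S` does; here the property is quasi-affine, `X` and `G` are schemes over a scheme `S` with
`G` affine, and the diagonal of `X` over `S` is quasi-affine because `X` is quasi-separated over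
`S`.) -/
theorem result (S : Scheme.{u}) (G : Over S) [GrpObj G]
    [IsAffineHom G.hom] [Flat G.hom] [LocallyOfFinitePresentation G.hom]
    (X : Over S) [QuasiCompact X.hom] [QuasiSeparated X.hom] (aX : AlgGrp.Action G X) :
    AlgSt.RepByAlgSpWith AlgSp.IsQuasiAffineMor
      (FibCat.diag (FibCat.toSelf (AlgSt.QuotSt Scheme.fppfPrecoverage G aX))) := by
  have h : (Limits.diag X).left ≫ (Over.prodLeftIsoPullback X X).hom = pullback.diagonal X.hom := by
    ext
    · simp [← Over.comp_left]
    · simp [← Over.comp_left]
  have hd : (@IsImmersion ⊓ @QuasiCompact : MorphismProperty Scheme.{u}) (Limits.diag X).left :=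
    (MorphismProperty.cancel_right_of_respectsIso (P := @IsImmersion ⊓ @QuasiCompact) _
      (Over.prodLeftIsoPullback X X).hom).1 (h ▸ ⟨inferInstance, inferInstance⟩)
  refine QuotDiagFppf.diag_quot_of_diag QAffDiagLib.compLocal_qaff QAffDiagLib.isLocalOnBase_fppf
    (fun _ _ _ hf Z hZ g => ?_) fun k a b sq => ?_
  · obtain ⟨W, i, fst, hW, hWa⟩ := hf hZ g
    haveI := hWa
    exact ⟨W, i, fst, hW, inferInstance⟩
  · exact ASp.isQuasiAffineMor_of_qcImmersion (ASp.repWith_yon_map
      (MorphismProperty.of_isPullback (sq.map (Over.forget S)) hd))

end Groth.Agent.S16916
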