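import Groth.Statements.S16917
import Mathlib
import Groth.Agent.UncountLib.Basic
import Groth.Agent.FlatDim.Trdeg

set_option autoImplicit false
open CategoryTheory AlgebraicGeometry
universe u
open Variety

namespace Groth.Agent.S16917

/-- Let k be an uncountable algebraically closed field, X a k-scheme of finite type and Z₀, Z₁, …
countably many closed subsets of X. Then the countable union of the Zₙ, read through closed points,
has a unique irredundant decomposition: there is exactly one countable family S of irreducible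
closed subsets of X, pairwise not contained in one another, such that a closed point of X lies in
some member of S if and only if it lies in some Zₙ. (The published statement is the existence and
uniqueness of the irredundant decomposition of a countable union of algebraic varieties into
c-components, a variety being read through its closed points; with all points of the scheme the
uniqueness would not need the uncountable field.) -/
theorem result (k : Type u) [Field k] [IsAlgClosed k]
    [Uncountable k] (X : Scheme.{u}) (sX : X ⟶ Spec (CommRingCat.of k)) [LocallyOfFiniteType sX]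
    [QuasiCompact sX] (Z : ℕ → TopologicalSpace.Closeds X) :
    ∃! S : Set (TopologicalSpace.Closeds X), S.Countable ∧ (∀ T ∈ S, IsIrreducible (T : Set X)) ∧
      IsAntichain (· ≤ ·) S ∧
      {x : X | IsClosed ({x} : Set X) ∧ ∃ T ∈ S, x ∈ T} =
        {x : X | IsClosed ({x} : Set X) ∧ ∃ n, x ∈ Z n} := by
  classical
  haveI : IsLocallyNoetherian X := LocallyOfFiniteType.isLocallyNoetherian sX
  haveI : CompactSpace ↥X := QuasiCompact.compactSpace_of_compactSpace sX
  haveI : IsNoetherian X := { }
  haveI : TopologicalSpace.NoetherianSpace ↥X := inferInstance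
  rcases isEmpty_or_nonempty ↥X with hX | hX
  · refine ⟨∅, ⟨Set.countable_empty, fun T hT => hT.elim, Set.subsingleton_empty.isAntichain _, ?_⟩, ?_⟩
    · ext x; exact (IsEmpty.false x).elim
    · rintro S ⟨-, hirr, -, -⟩
      exact Set.eq_empty_of_forall_notMem fun T hT => IsEmpty.false (hirr T hT).nonempty.some
  let C : Set (TopologicalSpace.Closeds ↥X) := ⋃ n,
    {T | ∃ W ∈ irreducibleComponents ↥(Z n : Set ↥X), (T : Set ↥X) = Subtype.val '' W}
  have hC : C.Countable := Set.countable_iUnion fun n => by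
    have hfin : (irreducibleComponents ↥(Z n : Set ↥X)).Finite :=
      TopologicalSpace.NoetherianSpace.finite_irreducibleComponents
    refine ((hfin.image fun W => Subtype.val '' W).preimage ?_).countable.mono ?_
      (s₂ := SetLike.coe ⁻¹' ((fun W => Subtype.val '' W) '' irreducibleComponents ↥(Z n : Set ↥X)))
    · exact fun a _ b _ h => SetLike.coe_injective h
    · rintro T ⟨W, hW, h⟩
      exact ⟨W, hW, h.symm⟩
  have hCirr : ∀ T ∈ C, IsIrreducible (T : Set ↥X) := by
    intro T hT
    obtain ⟨n, W, hW, h⟩ := Set.mem_iUnion.1 hT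
    rw [h]
    exact hW.1.image _ continuous_subtype_val.continuousOn
  -- a bound on the lengths of chains
  have hdim : ∀ x : ↥X, ∃ t : ℕ, Order.height x = t := fun x => by
    obtain ⟨a, t, -, -, -, ht⟩ := Groth.Agent.DimFormulaLib.field_dims sX x
    exact ⟨t, ht⟩
  choose t ht using hdim
  obtain ⟨N, hN⟩ : ∃ N : ℕ, ∀ x : ↥X, t x ≤ N := by
    have hfin : (irreducibleComponents ↥X).Finite := TopologicalSpace.NoetherianSpace.finite_irreducibleComponents
    have hgen : ∀ W ∈ irreducibleComponents ↥X, ∃ g : ↥X, IsGenericPoint g W := fun W hW =>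
      QuasiSober.sober hW.1 (isClosed_of_mem_irreducibleComponents W hW)
    choose! g hg using hgen
    refine ⟨hfin.toFinset.sup fun W => t (g W), fun x => ?_⟩
    have hW := irreducibleComponent_mem_irreducibleComponents x
    refine le_trans ?_ (Finset.le_sup (f := fun W => t (g W)) (hfin.mem_toFinset.2 hW))
    have hsp : g (irreducibleComponent x) ⤳ x := (hg _ hW).specializes mem_irreducibleComponent
    have := Order.height_mono (Scheme.le_iff_specializes.2 hsp)
    rw [ht, ht] at this
    exact_mod_cast this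
  have hgen : ∀ T ∈ C, ∃ g : ↥X, IsGenericPoint g (T : Set ↥X) := fun T hT =>
    QuasiSober.sober (hCirr T hT) T.isClosed
  choose! g hg using hgen
  have hex : ∀ T ∈ C, ∃ T' ∈ C, T ≤ T' ∧ ∀ T'' ∈ C, T' ≤ T'' → T'' = T' := by
    intro T hT
    let P : ℕ → Prop := fun m => ∃ T' ∈ C, T ≤ T' ∧ N - t (g T') = m
    have hP : ∃ m, P m := ⟨_, T, hT, le_rfl, rfl⟩
    obtain ⟨T', hT', hle, hm⟩ := Nat.find_spec hP
    refine ⟨T', hT', hle, fun T'' hT'' hle' => ?_⟩
    by_contra hne
    have hmin := Nat.find_min' hP (m := N - t (g T'')) ⟨T'', hT'', hle.trans hle', rfl⟩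
    have hsp : g T'' ⤳ g T' := (hg T'' hT'').specializes (hle' (hg T' hT').mem)
    have hlt : g T' < g T'' := by
      refine lt_iff_le_not_ge.2 ⟨Scheme.le_iff_specializes.2 hsp, fun h => hne ?_⟩
      have he : g T'' = g T' := (hsp.antisymm (Scheme.le_iff_specializes.1 h)).eq
      exact SetLike.coe_injective ((hg T'' hT'').def.symm.trans (he ▸ (hg T' hT').def))
    have := Order.height_strictMono hlt (by rw [ht]; exact ENat.natCast_lt_top _)
    rw [ht, ht] at this
    have h1 : t (g T') < t (g T'') := by exact_mod_cast this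
    have := hN (g T'')
    omega
  let S : Set (TopologicalSpace.Closeds ↥X) := {T | T ∈ C ∧ ∀ T' ∈ C, T ≤ T' → T' = T}
  have hSanti : IsAntichain (· ≤ ·) S := fun T hT T' hT' hne hle => hne (hT.2 T' hT'.1 hle).symm
  have hSeq : {x : ↥X | IsClosed ({x} : Set ↥X) ∧ ∃ T ∈ S, x ∈ T} =
      {x : ↥X | IsClosed ({x} : Set ↥X) ∧ ∃ n, x ∈ Z n} := by
    ext x
    refine and_congr_right fun _ => ⟨?_, ?_⟩
    · rintro ⟨T, hT, hxT⟩
      obtain ⟨n, W, -, h⟩ := Set.mem_iUnion.1 hT.1
      have hxW : x ∈ Subtype.val '' W := h ▸ hxT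
      obtain ⟨y, -, rfl⟩ := hxW
      exact ⟨n, y.2⟩
    · rintro ⟨n, hn⟩
      let W := irreducibleComponent (⟨x, hn⟩ : ↥(Z n : Set ↥X))
      let T : TopologicalSpace.Closeds ↥X := ⟨Subtype.val '' W,
        (Z n).isClosed.isClosedEmbedding_subtypeVal.isClosedMap _ isClosed_irreducibleComponent⟩
      obtain ⟨T', hT', hle, hmax⟩ := hex T (Set.mem_iUnion.2
        ⟨n, W, irreducibleComponent_mem_irreducibleComponents _, rfl⟩)
      exact ⟨T', ⟨hT', hmax⟩, hle ⟨⟨x, hn⟩, mem_irreducibleComponent, rfl⟩⟩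
  refine ⟨S, ⟨hC.mono fun T hT => hT.1, fun T hT => hCirr T hT.1, hSanti, hSeq⟩, ?_⟩
  rintro S' ⟨hS'c, hS'irr, hS'anti, hS'eq⟩
  have key : ∀ (S₁ S₂ : Set (TopologicalSpace.Closeds ↥X)), S₂.Countable →
      (∀ T ∈ S₁, IsIrreducible (T : Set ↥X)) →
      {x : ↥X | IsClosed ({x} : Set ↥X) ∧ ∃ T ∈ S₁, x ∈ T} =
        {x : ↥X | IsClosed ({x} : Set ↥X) ∧ ∃ T ∈ S₂, x ∈ T} →
      ∀ T ∈ S₁, ∃ T' ∈ S₂, T ≤ T' := by
    intro S₁ S₂ h2 h1 he T hT
    by_contra hno
    push Not at hno
    rcases S₂.eq_empty_or_nonempty with rfl | hne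
    · obtain ⟨x, hx, hxc, -⟩ := UncountLib.exists_closedPoint_notMem sX (h1 T hT) T.isClosed (fun _ => ∅)
        (fun _ => isClosed_empty) (fun _ h => (h1 T hT).nonempty.elim fun y hy => h hy)
      obtain ⟨-, T', hT', -⟩ := he.le ⟨hxc, T, hT, hx⟩
      exact hT'
    · obtain ⟨e, he'⟩ := h2.exists_eq_range hne
      obtain ⟨x, hx, hxc, hxF⟩ := UncountLib.exists_closedPoint_notMem sX (h1 T hT) T.isClosed
        (fun n => (e n : Set ↥X)) (fun n => (e n).isClosed)
        (fun n => hno (e n) (he'.symm ▸ Set.mem_range_self n))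
      obtain ⟨-, T', hT', hxT'⟩ := he.le ⟨hxc, T, hT, hx⟩
      rw [he'] at hT'
      obtain ⟨n, rfl⟩ := hT'
      exact hxF n hxT'
  have e1 := hS'eq.trans hSeq.symm
  ext T
  constructor
  · intro hT
    obtain ⟨T', hT', h1⟩ := key S' S (hC.mono fun T hT => hT.1) hS'irr e1 T hT
    obtain ⟨T'', hT'', h2⟩ := key S S' hS'c (fun T hT => hCirr T hT.1) e1.symm T' hT'
    have := hS'anti.eq hT hT'' (h1.trans h2)
    rw [← this] at h2
    rwa [le_antisymm h1 h2]
  · intro hT
    obtain ⟨T', hT', h1⟩ := key S S' hS'c (fun T hT => hCirr T hT.1) e1.symm T hT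
    obtain ⟨T'', hT'', h2⟩ := key S' S (hC.mono fun T hT => hT.1) hS'irr e1 T' hT'
    have := hSanti.eq hT hT'' (h1.trans h2)
    rw [← this] at h2
    rwa [le_antisymm h1 h2]

end Groth.Agent.S16917
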