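import Groth.Statements.S16918
import Groth.Agent.UncountLib.Basic
import Groth.Agent.DimFormulaLib.Field
import Mathlib.AlgebraicGeometry.AlgClosed.Basic

set_option autoImplicit false
universe u
open CategoryTheory MonoidalCategory CartesianMonoidalCategory MonObj GrpObj AlgebraicGeometry
open GrpSch

namespace Groth.Agent.S16918

open CategoryTheory CategoryTheory.Limits AlgebraicGeometry

set_option backward.isDefEq.respectTransparency false
set_option backward.defeqAttrib.useBackward true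
set_option linter.style.haveILetI false

open MonoidalCategory CartesianMonoidalCategory TopologicalSpace Groth.Agent

variable {k : Type u} [Field k] {A : Over (Spec (CommRingCat.of k))}

/-- The point of the scheme under a rational point. -/
noncomputable def pt (x : 𝟙_ (Over (Spec (CommRingCat.of k))) ⟶ A) : ↥A.left := x.left.base (IsLocalRing.closedPoint k)

theorem range_subset_iff (x : 𝟙_ (Over (Spec (CommRingCat.of k))) ⟶ A) (S : Set ↥A.left) :
    Set.range ⇑x.left.base ⊆ S ↔ pt x ∈ S := by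
  refine ⟨fun h => h ⟨_, rfl⟩, ?_⟩
  rintro h _ ⟨z, rfl⟩
  rw [show z = IsLocalRing.closedPoint k from Subsingleton.elim (α := PrimeSpectrum k) _ _]
  exact h

theorem pt_comp (x : 𝟙_ (Over (Spec (CommRingCat.of k))) ⟶ A) (h : A ⟶ A) : pt (x ≫ h) = h.left.base (pt x) := rfl

variable [IsAlgClosed k] [LocallyOfFiniteType A.hom]

theorem exists_pt {a : ↥A.left} (ha : IsClosed ({a} : Set ↥A.left)) :
    ∃ x : 𝟙_ (Over (Spec (CommRingCat.of k))) ⟶ A, pt x = a := by
  let p := (pointEquivClosedPoint A.hom).symm ⟨a, ha⟩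
  refine ⟨Over.homMk p.1 p.2, ?_⟩
  exact congrArg Subtype.val ((pointEquivClosedPoint A.hom).apply_symm_apply ⟨a, ha⟩)

theorem subset_of_pts [Uncountable k] {T : Set ↥A.left} (hT : IsIrreducible T) (hTc : IsClosed T)
    (E : ℕ → Set ↥A.left) (hE : ∀ n, IsClosed (E n))
    (h : ∀ x : 𝟙_ (Over (Spec (CommRingCat.of k))) ⟶ A, pt x ∈ T → ∃ n, pt x ∈ E n) : ∃ n, T ⊆ E n := by
  by_contra hno
  push Not at hno
  obtain ⟨a, haT, hac, ha⟩ := UncountLib.exists_closedPoint_notMem A.hom hT hTc E hE hno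
  obtain ⟨x, rfl⟩ := exists_pt hac
  obtain ⟨n, hn⟩ := h x haT
  exact ha n hn

theorem subset_of_pts' [Uncountable k] {T : Set ↥A.left} (hT : IsIrreducible T) (hTc : IsClosed T)
    (C : Set ↥A.left) (hC : IsClosed C)
    (h : ∀ x : 𝟙_ (Over (Spec (CommRingCat.of k))) ⟶ A, pt x ∈ T → pt x ∈ C) : T ⊆ C := by
  obtain ⟨n, hn⟩ := subset_of_pts hT hTc (fun _ => C) (fun _ => hC) fun x hx => ⟨0, h x hx⟩
  exact hn

theorem lift_comp_lift_assoc_aux [GrpObj A] (x y : 𝟙_ (Over (Spec (CommRingCat.of k))) ⟶ A) :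
    lift x y ≫ lift (fst A A) (snd A A ≫ GrpObj.inv) ≫ MonObj.mul = x * y⁻¹ := by
  rw [← Category.assoc, comp_lift, lift_fst, lift_snd_assoc, Hom.mul_def, Hom.inv_def]

/-- The values of a binary operation on two admissible sets lie in an admissible set. -/
theorem exists_image [Uncountable k] (g : A ⊗ A ⟶ A) (K : Set (𝟙_ (Over (Spec (CommRingCat.of k))) ⟶ A))
    (Z : ℕ → Closeds ↥A.left) (hK : ∀ x, x ∈ K ↔ ∃ n, pt x ∈ Z n) (hg : ∀ x y, x ∈ K → y ∈ K → lift x y ≫ g ∈ K)
    {T T' : Closeds ↥A.left} (hT : IsIrreducible (T : Set ↥A.left)) (hTK : ∀ x, pt x ∈ T → x ∈ K)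
    (hT' : IsIrreducible (T' : Set ↥A.left)) (hTK' : ∀ x, pt x ∈ T' → x ∈ K) :
    ∃ W : Closeds ↥A.left, IsIrreducible (W : Set ↥A.left) ∧ (∃ n, W ≤ Z n) ∧
      ∀ x y, pt x ∈ T → pt y ∈ T' → pt (lift x y ≫ g) ∈ W := by
  let L : (𝟙_ (Over (Spec (CommRingCat.of k))) ⟶ A) → (A ⟶ A) := fun x => lift (toUnit A ≫ x) (𝟙 A) ≫ g
  let R : (𝟙_ (Over (Spec (CommRingCat.of k))) ⟶ A) → (A ⟶ A) := fun y => lift (𝟙 A) (toUnit A ≫ y) ≫ g
  have hL : ∀ x y, pt (lift x y ≫ g) = (L x).left.base (pt y) := fun x y => by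
    rw [← pt_comp, show y ≫ L x = lift x y ≫ g from by simp [L, comp_lift_assoc, toUnit_unique (y ≫ toUnit A) (𝟙 _)]]
  have hR : ∀ x y, pt (lift x y ≫ g) = (R y).left.base (pt x) := fun x y => by
    rw [← pt_comp, show x ≫ R y = lift x y ≫ g from by simp [R, comp_lift_assoc, toUnit_unique (x ≫ toUnit A) (𝟙 _)]]
  let pull : Set ↥A.left → Set ↥A.left := fun C =>
    ⋂ y ∈ {y : 𝟙_ (Over (Spec (CommRingCat.of k))) ⟶ A | pt y ∈ T'}, (R y).left.base ⁻¹' C
  have hpc : ∀ C, IsClosed C → IsClosed (pull C) := fun C hC =>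
    isClosed_biInter fun y _ => hC.preimage (R y).left.base.hom.continuous
  have hmem : ∀ C x, pt x ∈ pull C ↔ ∀ y, pt y ∈ T' → pt (lift x y ≫ g) ∈ C := fun C x => by
    simp only [pull, Set.mem_iInter, Set.mem_setOf_eq, Set.mem_preimage, hR]
  obtain ⟨n, hn⟩ := subset_of_pts hT T.isClosed (fun n => pull (Z n)) (fun n => hpc _ (Z n).isClosed) fun x hx => by
    obtain ⟨n, hn⟩ := subset_of_pts hT' T'.isClosed (fun n => (L x).left.base ⁻¹' (Z n : Set ↥A.left))
      (fun n => (Z n).isClosed.preimage (L x).left.base.hom.continuous) fun y hy => by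
        obtain ⟨n, hn⟩ := (hK _).1 (hg x y (hTK x hx) (hTK' y hy))
        exact ⟨n, by rw [Set.mem_preimage, ← hL]; exact hn⟩
    exact ⟨n, (hmem _ x).2 fun y hy => by rw [hL]; exact hn hy⟩
  let P : Set ↥A.left := {a | ∃ x y, pt x ∈ T ∧ pt y ∈ T' ∧ pt (lift x y ≫ g) = a}
  refine ⟨⟨closure P, isClosed_closure⟩, ⟨?_, ?_⟩, ⟨n, ?_⟩, fun x y hx hy => subset_closure ⟨x, y, hx, hy, rfl⟩⟩
  · have hne : ∀ {S : Closeds ↥A.left}, IsIrreducible (S : Set ↥A.left) → ∃ x, pt x ∈ S := fun {S} hS => by
      by_contra hc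
      push Not at hc
      exact hS.nonempty.elim fun a ha => (subset_of_pts' hS S.isClosed ∅ isClosed_empty fun x hx => absurd hx (hc x)) ha
    obtain ⟨x, hx⟩ := hne hT
    obtain ⟨y, hy⟩ := hne hT'
    exact ⟨_, subset_closure ⟨x, y, hx, hy, rfl⟩⟩
  · rw [isPreirreducible_iff_isClosed_union_isClosed]
    intro C D hC hD hCD
    have hP : ∀ x y, pt x ∈ T → pt y ∈ T' → pt (lift x y ≫ g) ∈ C ∪ D := fun x y hx hy =>
      hCD (subset_closure ⟨x, y, hx, hy, rfl⟩)
    have h1 : (T : Set ↥A.left) ⊆ pull C ∪ pull D :=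
      subset_of_pts' hT T.isClosed _ ((hpc C hC).union (hpc D hD)) fun x hx => by
        have h2 : (T' : Set ↥A.left) ⊆ (L x).left.base ⁻¹' C ∪ (L x).left.base ⁻¹' D :=
          subset_of_pts' hT' T'.isClosed _
            ((hC.preimage (L x).left.base.hom.continuous).union (hD.preimage (L x).left.base.hom.continuous))
            fun y hy => by
              have := hP x y hx hy
              rw [hL] at this
              exact this
        rcases isPreirreducible_iff_isClosed_union_isClosed.1 hT'.isPreirreducible _ _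
            (hC.preimage (L x).left.base.hom.continuous) (hD.preimage (L x).left.base.hom.continuous) h2 with h | h
        · exact .inl ((hmem C x).2 fun y hy => by rw [hL]; exact h hy)
        · exact .inr ((hmem D x).2 fun y hy => by rw [hL]; exact h hy)
    rcases isPreirreducible_iff_isClosed_union_isClosed.1 hT.isPreirreducible _ _ (hpc C hC) (hpc D hD) h1 with h | h
    · exact .inl (closure_minimal (fun _ ⟨x, y, hx, hy, e⟩ => e ▸ (hmem C x).1 (h hx) y hy) hC)
    · exact .inr (closure_minimal (fun _ ⟨x, y, hx, hy, e⟩ => e ▸ (hmem D x).1 (h hx) y hy) hD)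
  · exact closure_minimal (fun _ ⟨x, y, hx, hy, e⟩ => e ▸ (hmem _ x).1 (hn hx) y hy) (Z n).isClosed


/-- Let k be an uncountable algebraically closed field, A an abelian variety over k (a proper,
geometrically integral group scheme over k) and K a subgroup of the group of k-points of A (sections
of A over Spec k, a group through the group structure of A) which is the trace of a countable union
of closed subsets: a k-point belongs to K exactly when its image point lies in some Zₙ. Call an
irreducible closed subset T of A admissible when every k-point whose image lies in T belongs to K.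
Then there is exactly one maximal admissible T containing the image of the neutral element; that T
is contained in some Zₙ, and the k-points landing in T are closed under x, y ↦ x·y⁻¹, so that T is a
closed irreducible subgroup variety of A lying in one of the Zₙ. (The published statement says that
the irredundant decomposition of K has a unique component through 0 and that it is an abelian
subvariety; the maximal admissible subsets are exactly the components of that decomposition, each of
which lies in some Zₙ, and this containment is the part of the conclusion that uses the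
uncountability of k.) -/
theorem result (k : Type u)
    [Field k] [IsAlgClosed k] [Uncountable k] (A : Over (Spec (CommRingCat.of k))) [GrpObj A]
    [IsProper A.hom] [GeometricallyIntegral A.hom]
    (K : Subgroup (𝟙_ (Over (Spec (CommRingCat.of k))) ⟶ A))
    (Z : ℕ → TopologicalSpace.Closeds ↥A.left)
    (hK : ∀ x : 𝟙_ (Over (Spec (CommRingCat.of k))) ⟶ A,
      x ∈ K ↔ Set.range ⇑x.left.base ⊆ ⋃ n, (Z n : Set ↥A.left)) :
    (∃! T : TopologicalSpace.Closeds ↥A.left,
      Maximal (fun T : TopologicalSpace.Closeds ↥A.left => IsIrreducible (T : Set ↥A.left) ∧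
        ∀ x : 𝟙_ (Over (Spec (CommRingCat.of k))) ⟶ A, Set.range ⇑x.left.base ⊆ (T : Set ↥A.left) → x ∈ K) T ∧
      Set.range ⇑(1 : 𝟙_ (Over (Spec (CommRingCat.of k))) ⟶ A).left.base ⊆ (T : Set ↥A.left)) ∧
    ∀ T : TopologicalSpace.Closeds ↥A.left,
      Maximal (fun T : TopologicalSpace.Closeds ↥A.left => IsIrreducible (T : Set ↥A.left) ∧
        ∀ x : 𝟙_ (Over (Spec (CommRingCat.of k))) ⟶ A, Set.range ⇑x.left.base ⊆ (T : Set ↥A.left) → x ∈ K) T →
      Set.range ⇑(1 : 𝟙_ (Over (Spec (CommRingCat.of k))) ⟶ A).left.base ⊆ (T : Set ↥A.left) →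
      (∃ n, (T : Set ↥A.left) ⊆ (Z n : Set ↥A.left)) ∧
      ∀ x y : 𝟙_ (Over (Spec (CommRingCat.of k))) ⟶ A,
        Set.range ⇑x.left.base ⊆ (T : Set ↥A.left) → Set.range ⇑y.left.base ⊆ (T : Set ↥A.left) →
        Set.range ⇑(x * y⁻¹).left.base ⊆ (T : Set ↥A.left) := by
  classical
  haveI : IsIntegral A.left := GeometricallyIntegral.isIntegral_of_subsingleton A.hom
  let P : TopologicalSpace.Closeds ↥A.left → Prop := fun T => IsIrreducible (T : Set ↥A.left) ∧
    ∀ x : 𝟙_ (Over (Spec (CommRingCat.of k))) ⟶ A, Set.range ⇑x.left.base ⊆ (T : Set ↥A.left) → x ∈ K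
  have hKp : ∀ x, x ∈ (K : Set (𝟙_ (Over (Spec (CommRingCat.of k))) ⟶ A)) ↔ ∃ n, pt x ∈ Z n := fun x => by
    rw [SetLike.mem_coe, hK, range_subset_iff, Set.mem_iUnion]
    rfl
  have hP : ∀ {T}, P T → ∀ x, pt x ∈ T → x ∈ K := fun hT x hx => hT.2 x ((range_subset_iff x _).2 hx)
  have hPW : ∀ {W : TopologicalSpace.Closeds ↥A.left}, IsIrreducible (W : Set ↥A.left) → (∃ n, W ≤ Z n) → P W :=
    fun hW ⟨n, hn⟩ => ⟨hW, fun x hx => (hKp x).2 ⟨n, hn ((range_subset_iff x _).1 hx)⟩⟩
  -- a maximal admissible set through the neutral element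
  let one' : 𝟙_ (Over (Spec (CommRingCat.of k))) ⟶ A := 1
  have hdim : ∀ a : ↥A.left, ∃ t : ℕ, Order.height a = t := fun a => by
    obtain ⟨_, t, -, -, -, ht⟩ := Groth.Agent.DimFormulaLib.field_dims A.hom a
    exact ⟨t, ht⟩
  choose t ht using hdim
  have hN : ∀ a, t a ≤ t (genericPoint ↥A.left) := fun a => by
    have := Order.height_mono (Scheme.le_iff_specializes.2 (genericPoint_specializes a))
    rw [ht, ht] at this
    exact_mod_cast this
  have hc1 : IsClosed ({pt one'} : Set ↥A.left) :=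
    (pointEquivClosedPoint A.hom ⟨one'.left, Over.w one'⟩).2
  let T₀ : TopologicalSpace.Closeds ↥A.left := ⟨{pt one'}, hc1⟩
  have hT₀ : P T₀ := ⟨isIrreducible_singleton, fun x hx => by
    have e : pt x = pt one' := (range_subset_iff x _).1 hx
    exact (hKp x).2 (e ▸ (hKp one').1 K.one_mem)⟩
  have hgen : ∀ T : TopologicalSpace.Closeds ↥A.left, IsIrreducible (T : Set ↥A.left) →
      ∃ g : ↥A.left, IsGenericPoint g (T : Set ↥A.left) := fun T hT => QuasiSober.sober hT T.isClosed
  choose! g hg using hgen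
  let Q : ℕ → Prop := fun m => ∃ T, P T ∧ pt one' ∈ T ∧ t (genericPoint ↥A.left) - t (g T) = m
  have hQ : ∃ m, Q m := ⟨_, T₀, hT₀, rfl, rfl⟩
  obtain ⟨T, hT, h1T, hm⟩ := Nat.find_spec hQ
  have hmax : Maximal P T := ⟨hT, fun T'' hT'' hle => by
    by_contra hne
    have hmin := Nat.find_min' hQ (m := t (genericPoint ↥A.left) - t (g T'')) ⟨T'', hT'', hle h1T, rfl⟩
    have hsp : g T'' ⤳ g T := (hg T'' hT''.1).specializes (hle (hg T hT.1).mem)
    have hlt : g T < g T'' := by
      refine lt_iff_le_not_ge.2 ⟨Scheme.le_iff_specializes.2 hsp, fun h => hne ?_⟩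
      have he : g T'' = g T := (hsp.antisymm (Scheme.le_iff_specializes.1 h)).eq
      intro a ha
      have : (T'' : Set ↥A.left) = T := (hg T'' hT''.1).def.symm.trans (he ▸ (hg T hT.1).def)
      exact this.le ha
    have := Order.height_strictMono hlt (by rw [ht]; exact ENat.natCast_lt_top _)
    rw [ht, ht] at this
    have h1 : t (g T) < t (g T'') := by exact_mod_cast this
    have := hN (g T'')
    omega⟩
  have key : ∀ T T', Maximal P T → pt one' ∈ T → Maximal P T' → pt one' ∈ T' → T' ≤ T := by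
    intro T T' hT h1 hT' h1'
    obtain ⟨W, hW, hWZ, hmem⟩ := exists_image μ[A] K Z hKp
      (fun x y hx hy => by rw [← Hom.mul_def]; exact K.mul_mem hx hy) hT.1.1 (hP hT.1) hT'.1.1 (hP hT'.1)
    have hTW : T ≤ W := subset_of_pts' hT.1.1 T.isClosed _ W.isClosed fun x hx => by
      have := hmem x one' hx h1'
      rwa [← Hom.mul_def, _root_.mul_one] at this
    have hTW' : T' ≤ W := subset_of_pts' hT'.1.1 T'.isClosed _ W.isClosed fun y hy => by
      have := hmem one' y h1 hy
      rwa [← Hom.mul_def, _root_.one_mul] at this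
    exact hTW'.trans (hT.2 (hPW hW hWZ) hTW)
  refine ⟨⟨T, ⟨hmax, (range_subset_iff one' _).2 h1T⟩, fun T' hT' => ?_⟩, fun T hT h1 => ?_⟩
  · have h1' := (range_subset_iff one' _).1 hT'.2
    exact le_antisymm (key T T' hmax h1T hT'.1 h1') (key T' T hT'.1 h1' hmax h1T)
  · have h1' := (range_subset_iff one' _).1 h1
    obtain ⟨W, hW, hWZ, hmem⟩ := exists_image (lift (fst A A) (snd A A ≫ ι[A]) ≫ μ[A]) K Z hKp
      (fun x y hx hy => by
        rw [lift_comp_lift_assoc_aux x y]
        exact K.mul_mem hx (K.inv_mem hy)) hT.1.1 (hP hT.1) hT.1.1 (hP hT.1)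
    simp only [lift_comp_lift_assoc_aux] at hmem
    have hTW : T ≤ W := subset_of_pts' hT.1.1 T.isClosed _ W.isClosed fun x hx => by
      have := hmem x one' hx h1'
      rwa [inv_one, _root_.mul_one] at this
    have hWT : W ≤ T := hT.2 (hPW hW hWZ) hTW
    obtain ⟨n, hn⟩ := hWZ
    exact ⟨⟨n, fun a ha => hn (hTW ha)⟩, fun x y hx hy =>
      (range_subset_iff _ _).2 (hWT (hmem x y ((range_subset_iff x _).1 hx) ((range_subset_iff y _).1 hy)))⟩

end Groth.Agent.S16918
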