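import Groth.Statements.S16919
import Mathlib

set_option autoImplicit false
universe u
open TensorProduct
open CAlg

open Algebra
namespace Groth.Agent.S16919

theorem aux (k₀ k R₀ R L : Type u) [Field k₀] [Field k] [IsAlgClosed k] [CommRing R₀] [IsDomain R₀]
    [CommRing R] [IsDomain R] [Field L] [IsAlgClosed L]
    [Algebra k₀ k] [Algebra k₀ R₀] [Algebra k₀ L] [Algebra k R] [Algebra k L] [Algebra R L]
    [IsScalarTower k₀ k L] [IsScalarTower k R L]
    [Algebra.FiniteType k₀ R₀] [Algebra.FiniteType k R] [Algebra.IsAlgebraic R L] [FaithfulSMul R L]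
    (hinf : ∃ x : ℕ → k, AlgebraicIndependent k₀ x)
    (f : R₀ →ₐ[k₀] k) (g : R₀ →ₐ[k₀] L) (hf : Function.Injective f) (hg : Function.Injective g) :
    ∃ E : L ≃+* k, ∀ r : R₀, E (g r) = f r := by
  classical
  letI algk : Algebra R₀ k := f.toRingHom.toAlgebra
  letI algL : Algebra R₀ L := g.toRingHom.toAlgebra
  haveI : IsScalarTower k₀ R₀ k := IsScalarTower.of_algebraMap_eq fun c => (f.commutes c).symm
  haveI : IsScalarTower k₀ R₀ L := IsScalarTower.of_algebraMap_eq fun c => (g.commutes c).symm
  haveI : FaithfulSMul R₀ k := (faithfulSMul_iff_algebraMap_injective _ _).mpr hf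
  haveI : FaithfulSMul R₀ L := (faithfulSMul_iff_algebraMap_injective _ _).mpr hg
  haveI : FaithfulSMul k₀ R₀ :=
    (faithfulSMul_iff_algebraMap_injective _ _).mpr (algebraMap k₀ R₀).injective
  haveI : FaithfulSMul k₀ k :=
    (faithfulSMul_iff_algebraMap_injective _ _).mpr (algebraMap k₀ k).injective
  haveI : FaithfulSMul k R :=
    (faithfulSMul_iff_algebraMap_injective _ _).mpr (algebraMap k R).injective
  -- transcendence degrees
  have hκ : Cardinal.aleph0 ≤ Algebra.trdeg k₀ k := by
    obtain ⟨x, hx⟩ := hinf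
    simpa using hx.lift_cardinalMk_le_trdeg
  have hcancel : ∀ a b c : Cardinal.{u}, a + b = c → a < Cardinal.aleph0 → Cardinal.aleph0 ≤ c →
      b = c := by
    intro a b c h ha hc
    have hb : Cardinal.aleph0 ≤ b := by
      by_contra hb
      exact absurd hc (not_le.mpr (h ▸ Cardinal.add_lt_aleph0 ha (not_le.mp hb)))
    rw [← h, Cardinal.add_eq_right hb (ha.le.trans hb)]
  have hR₀ : Algebra.trdeg k₀ R₀ < Cardinal.aleph0 := trdeg_lt_aleph0_of_finiteType
  have h1 : Algebra.trdeg R₀ k = Algebra.trdeg k₀ k :=
    hcancel _ _ _ (trdeg_add_eq k₀ R₀ (A := k)) hR₀ hκ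
  have h2 : Algebra.trdeg k₀ L = Algebra.trdeg k₀ k := by
    rw [← trdeg_add_eq k₀ k (A := L), ← trdeg_add_eq k R (A := L),
      trdeg_eq_zero (R := R) (A := L), add_zero]
    exact Cardinal.add_eq_left hκ (trdeg_lt_aleph0_of_finiteType.le.trans hκ)
  have h3 : Algebra.trdeg R₀ L = Algebra.trdeg R₀ k := by
    rw [h1]
    exact hcancel _ _ _ ((trdeg_add_eq k₀ R₀ (A := L)).trans h2) hR₀ hκ
  obtain ⟨s, hs⟩ := exists_isTranscendenceBasis R₀ L
  obtain ⟨t, ht⟩ := exists_isTranscendenceBasis R₀ k
  obtain ⟨eι⟩ : Nonempty (s ≃ t) := by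
    rw [← Cardinal.eq, hs.cardinalMk_eq_trdeg, ht.cardinalMk_eq_trdeg, h3]
  letI := IsAlgClosed.isAlgClosure_of_transcendence_basis _ hs
  letI := IsAlgClosed.isAlgClosure_of_transcendence_basis _ ht
  let e0 := hs.1.aevalEquiv.symm.trans ((MvPolynomial.renameEquiv R₀ eι).trans ht.1.aevalEquiv)
  let E := IsAlgClosure.equivOfEquiv L k e0.toRingEquiv
  refine ⟨E, fun r => ?_⟩
  show E (algebraMap R₀ L r) = algebraMap R₀ k r
  rw [IsScalarTower.algebraMap_apply R₀ (Algebra.adjoin R₀ (Set.range ((↑) : s → L))) L,
    IsAlgClosure.equivOfEquiv_algebraMap, AlgEquiv.toRingEquiv_eq_coe,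
    AlgEquiv.coe_ringEquiv, AlgEquiv.commutes, ← IsScalarTower.algebraMap_apply]


/-- Let k₀ → k be an extension of fields with k algebraically closed and of infinite transcendence
degree over k₀, R₀ a finitely generated k₀-algebra whose base change R = k ⊗ R₀ is an integral
domain (so Spec R is an integral affine k-scheme of finite type with the model Spec R₀ over k₀), and
P a k-point of Spec R, i.e. a k-algebra homomorphism ev : R → k, lying over the generic point of
Spec R₀, i.e. with ev injective on R₀. Then there is a field isomorphism e from an algebraic closure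
of the fraction field of R (the function field of Spec R) onto k such that e(1 ⊗ r) = ev(1 ⊗ r) for
every r in R₀: e extends evaluation at P on R₀. (The published setting has k algebraically closed of
characteristic zero and of infinite transcendence degree over its prime field, and k₀ the subfield
generated by the coefficients of equations of Spec R, which is finitely generated over the prime
field, so that k has infinite transcendence degree over k₀; only this last property and no
characteristic assumption enter here. The isomorphism is not canonical.) -/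
theorem result (k₀ k : Type u)
    [Field k₀] [Field k] [Algebra k₀ k] [IsAlgClosed k] (hinf : ∃ x : ℕ → k, AlgebraicIndependent k₀ x)
    (R₀ : Type u) [CommRing R₀] [Algebra k₀ R₀] [Algebra.FiniteType k₀ R₀] [IsDomain (k ⊗[k₀] R₀)]
    (ev : k ⊗[k₀] R₀ →ₐ[k] k) (hP : Function.Injective fun r : R₀ => ev (1 ⊗ₜ[k₀] r)) :
    ∃ e : AlgebraicClosure (FractionRing (k ⊗[k₀] R₀)) ≃+* k,
      ∀ r : R₀, e (algebraMap (k ⊗[k₀] R₀) (AlgebraicClosure (FractionRing (k ⊗[k₀] R₀)))
        (1 ⊗ₜ[k₀] r)) = ev (1 ⊗ₜ[k₀] r) := by
  classical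
  let R := k ⊗[k₀] R₀
  let F := FractionRing R
  let L := AlgebraicClosure F
  let incl : R₀ →ₐ[k₀] R := Algebra.TensorProduct.includeRight
  have hincl : Function.Injective incl :=
    Algebra.TensorProduct.includeRight_injective (algebraMap k₀ k).injective
  haveI : IsDomain R₀ := Function.Injective.isDomain incl hincl
  have hRL : Function.Injective (algebraMap R L) := by
    rw [IsScalarTower.algebraMap_eq R F L, RingHom.coe_comp]
    exact (algebraMap F L).injective.comp (IsFractionRing.injective R F)
  haveI : FaithfulSMul R L := (faithfulSMul_iff_algebraMap_injective _ _).mpr hRL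
  haveI : Algebra.IsAlgebraic R L :=
    (IsFractionRing.comap_isAlgebraic_iff (A := R) (K := F) (C := L)).mpr inferInstance
  exact aux k₀ k R₀ R L hinf ((ev.restrictScalars k₀).comp incl)
    ((IsScalarTower.toAlgHom k₀ R L).comp incl) hP (hRL.comp hincl)
end Groth.Agent.S16919
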