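import Groth.Statements.S1692
import Mathlib

set_option autoImplicit false
universe u
open CategoryTheory CategoryTheory.Limits AlgebraicGeometry TopologicalSpace
open SDiv

namespace Groth.Agent.S1692

/-- Let X be a locally Noetherian integral scheme and f a nonzero rational function. Then the closures
of the codimension-one points at which f has nonzero order of vanishing form a locally finite family
of closed subsets of X. -/
theorem result (X : Scheme.{u}) [IsIntegral X] [IsLocallyNoetherian X] (f : ↑X.functionField) (hf : f ≠ 0) :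
    LocallyFinite (fun ξ : {ξ : ↥X // Order.coheight ξ = 1 ∧ Scheme.ord f ξ ≠ 0} => closure ({ξ.1} : Set ↥X)) := by
  classical
  obtain ⟨U, -, f', hUne, hf', hu⟩ := exists_isUnit_germ_eq X f hf
  haveI := hUne
  intro x
  obtain ⟨V, hV, hxV, -⟩ := exists_isAffineOpen_mem_and_subset (x := x) (U := ⊤) trivial
  haveI : Nonempty V := ⟨⟨x, hxV⟩⟩
  have hgU : genericPoint X ∈ U :=
    ((genericPoint_spec X).mem_open_set_iff U.isOpen).mpr (by simpa using hUne)
  have hgV : genericPoint X ∈ V :=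
    ((genericPoint_spec X).mem_open_set_iff V.isOpen).mpr (by simpa using (inferInstance : Nonempty V))
  obtain ⟨b, hb, hgb⟩ := hV.exists_basicOpen_le (V := U) ⟨genericPoint X, hgU⟩ hgV
  have hb0 : b ≠ 0 := fun h => by
    rw [h] at hgb
    simp at hgb
  haveI : IsNoetherianRing Γ(X, V) := IsLocallyNoetherian.component_noetherian ⟨V, hV⟩
  haveI : IsDomain Γ(X, V) := inferInstance
  refine ⟨V, V.isOpen.mem_nhds hxV, ?_⟩
  have hmem : ∀ ξ : {ξ : ↥X // Order.coheight ξ = 1 ∧ Scheme.ord f ξ ≠ 0},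
      (closure ({ξ.1} : Set X) ∩ (V : Set X)).Nonempty → ξ.1 ∈ V := fun ξ hξ => by
    obtain ⟨y, hy, hyV⟩ := hξ
    obtain ⟨_, hz, rfl⟩ := mem_closure_iff.1 hy V V.isOpen hyV
    exact hz
  have key : ∀ ξ : {ξ : ↥X // Order.coheight ξ = 1 ∧ Scheme.ord f ξ ≠ 0}, ∀ h : ξ.1 ∈ V,
      (hV.primeIdealOf ⟨ξ.1, h⟩).asIdeal ∈ (Ideal.span {b}).minimalPrimes := fun ξ h => by
    have hloc := hV.isLocalization_stalk ⟨ξ.1, h⟩
    letI := (X.presheaf.germ V ξ.1 h).hom.toAlgebra
    haveI : IsLocalization.AtPrime (X.presheaf.stalk ξ.1) (hV.primeIdealOf ⟨ξ.1, h⟩).asIdeal := hloc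
    set p := (hV.primeIdealOf ⟨ξ.1, h⟩).asIdeal
    have hbp : b ∈ p := by
      by_contra hbp
      suffices h' : ξ.1 ∈ X.basicOpen b by
        have h'' := Scheme.ord_of_isUnit (X := X) hu (hb h')
        rw [hf'] at h''
        exact ξ.2.2 h''
      rw [Scheme.mem_basicOpen X b ξ.1 h]
      exact (IsLocalization.AtPrime.isUnit_to_map_iff (X.presheaf.stalk ξ.1) p b).2 hbp
    have hp : p.height = 1 := by
      have h1 := IsLocalization.AtPrime.ringKrullDim_eq_height p (X.presheaf.stalk ξ.1)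
      rw [ringKrullDim_stalk_eq_coheight, ξ.2.1] at h1
      exact_mod_cast h1.symm
    refine Ideal.mem_minimalPrimes_of_height_eq ((Ideal.span_singleton_le_iff_mem _).2 hbp) ?_
    have hu' : ¬ IsUnit b := fun hu' => (hV.primeIdealOf ⟨ξ.1, h⟩).isPrime.ne_top
      (Ideal.eq_top_of_isUnit_mem _ hbp hu')
    rw [hp, Ideal.height_span_singleton_eq_one_of_mem_nonZeroDivisors
      (mem_nonZeroDivisors_of_ne_zero hb0) hu']
  let F : ↥{ξ : {ξ : ↥X // Order.coheight ξ = 1 ∧ Scheme.ord f ξ ≠ 0} |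
      (closure ({ξ.1} : Set X) ∩ (V : Set X)).Nonempty} → (Ideal.span {b}).minimalPrimes :=
    fun ξ => ⟨_, key ξ.1 (hmem _ ξ.2)⟩
  haveI : Finite ((Ideal.span {b}).minimalPrimes) :=
    (Ideal.finite_minimalPrimes_of_isNoetherianRing _ _).to_subtype
  have hF : Function.Injective F := fun ξ η h => by
    have h1 : hV.primeIdealOf ⟨ξ.1.1, hmem _ ξ.2⟩ = hV.primeIdealOf ⟨η.1.1, hmem _ η.2⟩ :=
      PrimeSpectrum.ext (congrArg Subtype.val h)
    have h2 := congrArg (fun p => hV.fromSpec p) h1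
    simp only [IsAffineOpen.fromSpec_primeIdealOf] at h2
    exact Subtype.ext (Subtype.ext h2)
  exact Set.finite_coe_iff.1 (Finite.of_injective F hF)

end Groth.Agent.S1692
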