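import Groth.Statements.S1693
import Mathlib

set_option autoImplicit false
universe u
open CategoryTheory CategoryTheory.Limits AlgebraicGeometry TopologicalSpace
open SDiv

namespace Groth.Agent.S1693

/-- Let X be a locally Noetherian scheme and Z a closed subset. Then the irreducible components of Z
form a locally finite family of subsets of X. -/
theorem result (X : Scheme.{u}) [IsLocallyNoetherian X] (Z : Set ↥X) (hZ : IsClosed Z) :
    LocallyFinite (fun T : ↥(irreducibleComponents ↥Z) => ((↑) '' (T.1 : Set ↥Z) : Set ↥X)) := by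
  intro x
  obtain ⟨U, hU, hxU⟩ : ∃ U : X.Opens, IsAffineOpen U ∧ x ∈ U := by
    obtain ⟨_, ⟨U, hU, rfl⟩, hx, -⟩ := X.isBasis_affineOpens.exists_subset_of_mem_open (Set.mem_univ x) isOpen_univ
    exact ⟨U, hU, hx⟩
  refine ⟨(U : Set X), U.2.mem_nhds hxU, ?_⟩
  haveI : TopologicalSpace.NoetherianSpace (U : Set X) := by
    haveI := hU
    haveI : IsNoetherianRing Γ(X, U) := IsLocallyNoetherian.component_noetherian ⟨U, hU⟩
    exact noetherianSpace_of_isAffineOpen U hU
  let e : {z : Z // (z : X) ∈ U} → (U : Set X) := fun z => ⟨(z.1 : X), z.2⟩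
  have he : Topology.IsInducing e := (Topology.IsInducing.subtypeVal.of_comp_iff).1
    (show Topology.IsInducing (Subtype.val ∘ e) from
      Topology.IsInducing.comp (g := fun z : Z => (z : X)) (f := fun z : {z : Z // (z : X) ∈ U} => z.1)
        Topology.IsInducing.subtypeVal Topology.IsInducing.subtypeVal)
  haveI : TopologicalSpace.NoetherianSpace {z : Z // (z : X) ∈ U} := he.noetherianSpace
  have hfin := TopologicalSpace.NoetherianSpace.finite_irreducibleComponents (α := {z : Z // (z : X) ∈ U})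
  have hUo : IsOpen {z : Z | (z : X) ∈ U} := U.2.preimage continuous_subtype_val
  have hoe : Topology.IsOpenEmbedding (Subtype.val : {z : Z // (z : X) ∈ U} → Z) := hUo.isOpenEmbedding_subtypeVal
  refine Set.Finite.of_finite_image (hfin.subset ?_) (f := fun T : ↥(irreducibleComponents ↥Z) =>
    (Subtype.val ⁻¹' (T.1 : Set Z) : Set {z : Z // (z : X) ∈ U})) ?_
  · rintro _ ⟨T, ⟨_, ⟨z, hz, rfl⟩, hzU⟩, rfl⟩
    exact preimage_mem_irreducibleComponents T.2 hoe ⟨z, hz, ⟨⟨z, hzU⟩, rfl⟩⟩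
  · rintro T ⟨_, ⟨z, hz, rfl⟩, hzU⟩ T' ⟨_, ⟨z', hz', rfl⟩, hzU'⟩ h
    have hd : ∀ S : ↥(irreducibleComponents ↥Z), (∃ w ∈ (S.1 : Set Z), (w : X) ∈ U) →
        closure (S.1 ∩ {w : Z | (w : X) ∈ U}) = S.1 := by
      rintro S ⟨w, hw, hwU⟩
      refine subset_antisymm (closure_minimal Set.inter_subset_left (isClosed_of_mem_irreducibleComponents _ S.2)) ?_
      exact subset_closure_inter_of_isPreirreducible_of_isOpen S.2.1.2 hUo ⟨w, hw, hwU⟩
    apply Subtype.ext
    rw [← hd T ⟨z, hz, hzU⟩, ← hd T' ⟨z', hz', hzU'⟩]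
    congr 1
    ext w
    constructor
    · rintro ⟨hw, hwU⟩
      exact ⟨(Set.ext_iff.1 h ⟨w, hwU⟩).1 hw, hwU⟩
    · rintro ⟨hw, hwU⟩
      exact ⟨(Set.ext_iff.1 h ⟨w, hwU⟩).2 hw, hwU⟩

end Groth.Agent.S1693
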