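import Groth.Statements.S16949
import Groth.Agent.GenBCLib.Helpers

set_option autoImplicit false
universe u
open Coherent

namespace Groth.Agent.S16949

set_option backward.isDefEq.respectTransparency false
set_option linter.style.haveILetI false

open AlgebraicGeometry CategoryTheory Scheme.Modules in
/-- In a general degree p, written p = q + 2 here: let π : X → Y be proper of finite presentation, F a
quasi-coherent O_X-module of finite presentation, flat over Y, and q a natural number. Suppose that
for every point y of Y the cohomology H^{q+2}(X_y, F|_{X_y}) of the restriction of F to the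
scheme-theoretic fibre vanishes and the degree-q base change map of the fibre square at y, κ(y)^*
R^q π_* F → R^q (X_y → Spec κ(y))_* (F|_{X_y}), is an epimorphism; here R^q is the q-th right
derived functor of direct image on O-modules and the base change map is the pinned one of the
structure GenBC, relative to pinned comparison data for π and for the fibre morphisms, given at
every point. Then R^{q+1} π_* F is finite locally free. (The source concludes local freeness; its
argument produces finite local freeness.) -/
theorem result
    {X Y : Scheme.{u}} (π : X ⟶ Y) [IsProper π] [LocallyOfFinitePresentation π]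
    [HasInjectiveResolutions X.Modules] [∀ y : Y, HasInjectiveResolutions (π.fiber y).Modules]
    (F : X.Modules) [Coh.IsQCoh F] (hfp : CohB1.IsFP F) (hfl : FlatMod.IsFlatOver π F) (q : ℕ)
    {Δ : RDer.DerivedLES (pushforward π)} (E : CohCmp.SectCmp π Δ)
    (Δy : ∀ y : Y, RDer.DerivedLES (pushforward (π.fiberToSpecResidueField y)))
    (Ey : ∀ y : Y, CohCmp.SectCmp (π.fiberToSpecResidueField y) (Δy y))
    (By : ∀ y : Y, CohCmp.GenBC π (Y.fromSpecResidueField y) (π.fiberToSpecResidueField y) (π.fiberι y) (π.fiber_fac y) E (Ey y))
    (hq2 : ∀ y : Y, Subsingleton (CohIII.fiberH π F y (q + 2)))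
    (hq : ∀ y : Y, Epi ((By y).bc q F)) :
    FlatMod.IsFinLocFree ((Coh.Rpush π (q + 1)).obj F) := by
  refine GenBCLib.isFinLocFree_of_nhds _ fun y => ?_
  obtain ⟨V, D, hy⟩ := GenBCLib.exists_dat_at hfp hfl y
  obtain ⟨a, ha, hga⟩ := D.exists_good hy ((D.epi_iff_surjAt hy (By y) q).1 (hq y))
  obtain ⟨b, hb, -, hsb, -⟩ := D.exists_vanish hy (hq2 y)
  exact ⟨Y.basicOpen (a * b), by rw [Y.basicOpen_mul]; exact ⟨ha, hb⟩,
    D.isFinLocFree_basicOpen (n := q + 1) (hsb.mul_left a) (hga.mul_right b)⟩

end Groth.Agent.S16949
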