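import Groth.Statements.S16951
import Groth.Agent.GenSeesawLib.PushTriv
-- import your own Groth.Agent.* helpers here

set_option autoImplicit false
set_option backward.isDefEq.respectTransparency false
set_option backward.isDefEq.respectTransparency.types false
set_option linter.style.haveILetI false
universe u
open PicF

namespace Groth.Agent.S16951

open AlgebraicGeometry CategoryTheory Scheme.Modules in
/-- Let f : X → S be a proper flat morphism of locally Noetherian schemes whose fibres are geometrically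
integral, and let L be an invertible O_X-module with an inverse M (an isomorphism L ⊗ M ≅ O_X). Then
the following are equivalent: (a) L ≅ f^* L₀ for some invertible O_S-module L₀; (b) for N = L and
for N = M, at every point s of S the space H^0(X_s, N|_{X_s}) of sections over the scheme-theoretic
fibre is nonzero and the degree-0 base change map of the fibre square, κ(s)^* f_* N → (X_s → Spec
κ(s))_* (N|_{X_s}), is an epimorphism. When this holds, dim_{κ(s)} H^0(X_s, N|_{X_s}) = 1 for every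
s and both N, the counit f^* f_* L → L is an isomorphism, and any invertible L₀ with L ≅ f^* L₀ is
isomorphic to f_* L. -/
theorem result
    {X S : Scheme.{u}} (f : X ⟶ S) [IsProper f] [Flat f] [IsLocallyNoetherian X] [IsLocallyNoetherian S]
    [GeometricallyIntegral f] (L M : X.Modules) (hL : PicF.IsInvertible L)
    (hM : Nonempty (CohB1.tensorMod L M ≅ Coh.structureModule X)) :
    ((∃ L₀ : S.Modules, PicF.IsInvertible L₀ ∧ Nonempty (L ≅ (pullback f).obj L₀)) ↔
      ((∀ s : S, Nontrivial (CohIII.fiberH f L s 0)) ∧ (∀ s : S, Nontrivial (CohIII.fiberH f M s 0)) ∧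
        (∀ s : S, Epi (CohBC.bc0 f (S.fromSpecResidueField s) (f.fiberToSpecResidueField s) (f.fiberι s) (f.fiber_fac s) L)) ∧ (∀ s : S, Epi (CohBC.bc0 f (S.fromSpecResidueField s) (f.fiberToSpecResidueField s) (f.fiberι s) (f.fiber_fac s) M)))) ∧
    (((∀ s : S, Nontrivial (CohIII.fiberH f L s 0)) ∧ (∀ s : S, Nontrivial (CohIII.fiberH f M s 0)) ∧
        (∀ s : S, Epi (CohBC.bc0 f (S.fromSpecResidueField s) (f.fiberToSpecResidueField s) (f.fiberι s) (f.fiber_fac s) L)) ∧ (∀ s : S, Epi (CohBC.bc0 f (S.fromSpecResidueField s) (f.fiberToSpecResidueField s) (f.fiberι s) (f.fiber_fac s) M))) →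
      (∀ s : S, CohIII.fiberRank f L 0 s = 1 ∧ CohIII.fiberRank f M 0 s = 1) ∧
      IsIso ((pullbackPushforwardAdjunction f).counit.app L) ∧
      ∀ L₀ : S.Modules, PicF.IsInvertible L₀ → Nonempty (L ≅ (pullback f).obj L₀) →
        Nonempty (L₀ ≅ (pushforward f).obj L)) := by
  haveI : LocallyOfFinitePresentation f := inferInstance
  obtain ⟨e⟩ := hM
  have hMi : PicF.IsInvertible M := AmpleLib.isInvertible_of_tensor_iso (AmpleLib.comm M L ≪≫ e)
  have hL' := GenSeesawLib.iso_pullback_iff f hL hMi e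
  have hM' := GenSeesawLib.iso_pullback_iff f hMi hL (AmpleLib.comm M L ≪≫ e)
  have key : (∃ L₀ : S.Modules, PicF.IsInvertible L₀ ∧ Nonempty (L ≅ (pullback f).obj L₀)) →
      ∃ N : S.Modules, PicF.IsInvertible N ∧ Nonempty ((Scheme.Modules.pullback f).obj N ≅ M) := fun ⟨N, hN, ⟨i⟩⟩ => by
    obtain ⟨N', hN', ⟨e'⟩⟩ := AmpleEmb.exists_isInverseOf hN
    refine ⟨N', hN', ⟨?_⟩⟩
    exact (AmpleLib.unitL _).symm ≪≫ AmpleLib.tIso (AmpleLib.comm M L ≪≫ e).symm (Iso.refl _) ≪≫
      AmpleLib.assoc M L _ ≪≫ AmpleLib.tIso (Iso.refl M) (AmpleLib.tIso i (Iso.refl _) ≪≫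
        (AmpleLib.pullTensor f N N').symm ≪≫ (Scheme.Modules.pullback f).mapIso e' ≪≫ AmpleLib.pullO f) ≪≫
      AmpleLib.comm M _ ≪≫ AmpleLib.unitL M
  constructor
  · constructor
    · intro h
      have h1 := hL'.1 (by obtain ⟨N, hN, ⟨i⟩⟩ := h; exact ⟨N, hN, ⟨i.symm⟩⟩)
      have h2 := hM'.1 (key h)
      exact ⟨fun s => (h1 s).1, fun s => (h1 s).2.1, fun s => (h1 s).2.2, fun s => (h2 s).2.2⟩
    · intro ⟨h1, h2, h3, _⟩
      obtain ⟨N, hN, ⟨i⟩⟩ := hL'.2 fun s => ⟨h1 s, h2 s, h3 s⟩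
      exact ⟨N, hN, ⟨i.symm⟩⟩
  · intro ⟨h1, h2, h3, h4⟩
    obtain ⟨N, hN, ⟨i⟩⟩ := hL'.2 fun s => ⟨h1 s, h2 s, h3 s⟩
    obtain ⟨N', hN', ⟨i'⟩⟩ := hM'.2 fun s => ⟨h2 s, h1 s, h4 s⟩
    refine ⟨fun s => ?_, ?_, fun L₀ hL₀ ⟨j⟩ => GenSeesawLib.nonempty_iso_pushforward f (GenSeesawLib.bijective_app f) hL₀ j.symm⟩
    · obtain ⟨U, hsU, σ, hσ⟩ := GenSeesawLib.exists_gen_nhd_of_iso_pullback f hN i s
      obtain ⟨U', hsU', σ', hσ'⟩ := GenSeesawLib.exists_gen_nhd_of_iso_pullback f hN' i' s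
      exact ⟨CubeLib.fiberRank_eq_one_of_triv f s (AVLib.bijective_fiber f s)
          (GenSeesawLib.triv_fibre_of_gen f hL hσ hsU),
        CubeLib.fiberRank_eq_one_of_triv f s (AVLib.bijective_fiber f s)
          (GenSeesawLib.triv_fibre_of_gen f hMi hσ' hsU')⟩
    · exact GenSeesawLib.isIso_counit f hL fun y => GenSeesawLib.exists_gen_nhd_of_iso_pullback f hN i y

end Groth.Agent.S16951
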