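import Groth.Statements.S16953
import Groth.Agent.GenBCLib.PushEdge

set_option autoImplicit false
universe u
open Coherent

namespace Groth.Agent.S16953

open AlgebraicGeometry CategoryTheory Scheme.Modules in
/-- Let f : X → Y be an affine morphism of schemes and F a quasi-coherent O_X-module. Then the canonical
map H^1(Y, f_* F) → H^1(X, F) (the edge map: pullback of cohomology classes along f followed by the
map induced by the counit f^* f_* F → F) is bijective. -/
theorem result
    {X Y : Scheme.{u}} (f : X ⟶ Y) [IsAffineHom f] (F : X.Modules) [Coh.IsQCoh F] :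
    Function.Bijective (CohPull.pushEdge f F 1) := by
  have h := GenBCLib.bijective_edgeH f.base (B := fun V : Y.Opens => IsAffineOpen V)
    (fun W y hy => by
      obtain ⟨_, ⟨V : Y.Opens, hV, rfl⟩, hyV, hVW⟩ :=
        Y.isBasis_affineOpens.exists_subset_of_mem_open (a := y) hy W.2
      exact ⟨V, hV, hyV, hVW⟩) 1 (G := Coh.toAb F) (fun V hV m => CohBase.affine_vanishing F (hV.preimage f) m)
  rwa [show ⇑(CohPull.pushEdge f F 1) = ⇑(GenBCLib.edgeH f.base (Coh.toAb F) 1) from
    funext (GenBCLib.pushEdge_eq f F 1)]

end Groth.Agent.S16953
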