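import Groth.Statements.S1696
import Groth.Agent.PullbackMod.Hom
import Groth.Agent.BlowExistsLib.Chart
import Groth.Agent.IdealStalkLib.Cartier


set_option autoImplicit false
universe u
open CategoryTheory CategoryTheory.Limits AlgebraicGeometry TopologicalSpace
open SDiv

namespace Groth.Agent.S1696

open CategoryTheory CategoryTheory.Limits AlgebraicGeometry

open Groth.Agent.PullbackMod

/-- Let b : S' → S be the blowing-up of a scheme S in a quasi-coherent sheaf of ideals 𝓘 and F a
quasi-coherent O_S-module which is flat at every point of V(𝓘), the support of O_S/𝓘. Then the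
pullback b^*F is its own strict transform (via the identity map): no nonzero local section of b^*F
is annihilated by a power of the exceptional ideal. -/
theorem result {S S' : Scheme.{u}} (𝓘 : S.IdealSheafData) (b : S' ⟶ S) (hb : BlowUp.IsBlowUp b 𝓘)
    (F : S.Modules) (hF : Coh.IsQCoh F) (hflat : ∀ s : ↥S, s ∈ 𝓘.support → FlatMod.IsFlatAt F s) :
    BlowUp.IsStrictTransform b 𝓘 F ((Scheme.Modules.pullback b).obj F) (𝟙 _) := by
  refine ⟨inferInstance, fun V m => ⟨fun h => ⟨0, fun a _ => ?_⟩, ?_⟩⟩
  · rw [show m = 0 from h]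
    exact smul_zero a
  · rintro ⟨n, hn⟩
    show m = 0
    let P := (Scheme.Modules.pullback b).obj F
    refine TopCat.Presheaf.section_ext (⟨P.presheaf, P.isSheaf⟩ : TopCat.Sheaf Ab S') V.1 m 0 fun x hx => ?_
    refine Eq.trans ?_ (map_zero _).symm
    show P.presheaf.germ V.1 x hx m = 0
    obtain ⟨g, hg, hgI⟩ := BlowExistsLib.exists_stalk_generator hb.1 x
    let K : Ideal (S'.presheaf.stalk x) :=
      LinearMap.ker (LinearMap.toSpanSingleton (S'.presheaf.stalk x) (P.presheaf.stalk x) (P.presheaf.germ V.1 x hx m))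
    have hK : g ^ n ∈ K := by
      have h1 : ((BlowUp.exceptional b 𝓘 ^ n).ideal V).map (S'.presheaf.germ V.1 x hx).hom ≤ K :=
        Ideal.map_le_iff_le_comap.2 fun a ha => by
          show S'.presheaf.germ V.1 x hx a • P.presheaf.germ V.1 x hx m = 0
          rw [← Mero.germ_smul, hn a ha]
          exact map_zero _
      refine h1 ?_
      rw [Scheme.IdealSheafData.ideal_pow, Pi.pow_apply, Ideal.map_pow, ← IdealStalkLib.stalkIdeal_eq _ V x hx, hgI]
      exact Ideal.pow_mem_pow (Ideal.mem_span_singleton_self g) n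
    have hK' : g ^ n • P.presheaf.germ V.1 x hx m = 0 := hK
    by_cases hs : b x ∈ 𝓘.support
    · letI : Algebra (S.presheaf.stalk (b x)) (S'.presheaf.stalk x) := (b.stalkMap x).hom.toAlgebra
      letI : Module (S.presheaf.stalk (b x)) (P.presheaf.stalk x) :=
        Module.compHom (P.presheaf.stalk x) (b.stalkMap x).hom
      haveI : IsScalarTower (S.presheaf.stalk (b x)) (S'.presheaf.stalk x) (P.presheaf.stalk x) :=
        .of_algebraMap_smul fun _ _ => rfl
      haveI : Module.Flat (S.presheaf.stalk (b x)) (F.presheaf.stalk (b x)) := hflat _ hs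
      haveI : Module.Flat (S'.presheaf.stalk x) (P.presheaf.stalk x) :=
        Module.Flat.of_linearEquiv (isBaseChange_pullStalkL' b F x).equiv.symm
      have hreg : IsSMulRegular (P.presheaf.stalk x) (g ^ n) :=
        Module.Flat.isSMulRegular_of_nonZeroDivisors (pow_mem hg n)
      exact hreg (hK'.trans (smul_zero _).symm)
    · have hsE : x ∉ (BlowUp.exceptional b 𝓘).support := fun h => hs (by
        rw [Scheme.IdealSheafData.support_comap] at h
        exact h)
      obtain ⟨U, hxU, hU⟩ := IdealStalkLib.exists_unit_nhd _ hsE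
      have h1 : IntMult.stalkIdeal (BlowUp.exceptional b 𝓘) x = ⊤ := by
        rw [IdealStalkLib.stalkIdeal_eq _ U x hxU, hU, Ideal.map_top]
      rw [hgI, Ideal.span_singleton_eq_top] at h1
      exact (h1.pow n).smul_eq_zero.1 hK' 

end Groth.Agent.S1696
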