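import Groth.Statements.S16960
import Groth.Agent.FinQuotLib.Stack

set_option backward.isDefEq.respectTransparency false
set_option backward.isDefEq.respectTransparency.types false

set_option autoImplicit false
universe u
open ConstAct

namespace Groth.Agent.S16960

open CategoryTheory AlgebraicGeometry in
/-- Let R be a Noetherian commutative ring, A a commutative R-algebra of finite type, and G a finite
group acting on A by R-algebra automorphisms, with ring of invariants A^G. Let [Spec A/G] be the
quotient stack of Spec A by the constant group scheme of G over Spec R, the category over (Sch/Spec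
R) whose objects are torsors under the constant group scheme, locally trivial for the fppf topology,
with an equivariant morphism to Spec A; and let π : [Spec A/G] → Spec A^G be a functor over
(Sch/Spec R) whose composite with the canonical functor Spec A → [Spec A/G] is the functor of the
morphism Spec A → Spec A^G induced by the inclusion A^G ⊆ A. Then (a) π is a coarse moduli space:
every functor over (Sch/Spec R) from [Spec A/G] to the category of an algebraic space over Spec R
factors through π by exactly one morphism of algebraic spaces (up to 2-isomorphism), and for every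
algebraically closed field Ω over R the functor π induces a bijection from the isomorphism classes
of objects of [Spec A/G] lying over Spec Ω onto the Ω-points of Spec A^G; and (b) Spec A → Spec A^G
is bijective on Ω-points modulo G for every algebraically closed field Ω over R: every R-algebra map
A^G → Ω extends to A, and two R-algebra maps A → Ω with the same restriction to A^G differ by the
action of an element of G. (Together (a) and (b) say that Spec A → Spec A^G is a geometric quotient:
bijective on geometric points modulo G and universal for G-invariant maps to algebraic spaces.) (The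
published statement puts no finiteness condition on A; the published proof uses that A is finite
over A^G, which holds when A is of finite type over a Noetherian ring, the case stated here.) -/
theorem result (R : Type u) [CommRing R] [IsNoetherianRing R]
    (A : Type u) [CommRing A] [Algebra R A] [Algebra.FiniteType R A]
    (G : Type u) [Group G] [Fintype G] [DecidableEq G] [MulSemiringAction G A] [SMulCommClass G R A]
    (π : ConstAct.quotSt R A G Scheme.fppfPrecoverage ⥤ᵇ AlgSt.ofSch (ConstAct.specInv R A G))
    (hπ : BasedFunctor.comp
        (AlgSt.quotMap Scheme.fppfPrecoverage (ConstAct.GR R G) (ConstAct.gaction R A G)) π =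
      AlgSt.ofSpMap ((AlgSp.yon (Spec (CommRingCat.of R))).map (ConstAct.quot R A G))) :
    AlgSt.IsCoarseModuli π ∧
      ∀ (Ω : Type u) [Field Ω] [IsAlgClosed Ω] [Algebra R Ω],
        (∀ y : ↥(ConstAct.inv R A G) →ₐ[R] Ω, ∃ x : A →ₐ[R] Ω, x.comp (ConstAct.inv R A G).val = y) ∧
        (∀ x x' : A →ₐ[R] Ω, x.comp (ConstAct.inv R A G).val = x'.comp (ConstAct.inv R A G).val →
          ∃ g : G, x' = x.comp (MulSemiringAction.toAlgEquiv R A g : A →ₐ[R] A)) := by
  have hG := Groth.Agent.FinQuotLib.isFinQuot_constAct R A G
  refine ⟨Groth.Agent.S16721.result _ (ConstAct.GR R G) (ConstAct.X R A) (ConstAct.specInv R A G)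
    (ConstAct.gaction R A G) (ConstAct.quot R A G) ?_
    (fun Ω _ _ t => Groth.Agent.FinQuotLib.geomOrbits R A G Ω t)
    (fun N ψ h => hG.existsUnique_desc N.property ψ (Groth.Agent.FinQuotLib.act_comp_of_gaction R A G ψ h))
    π ⟨CategoryTheory.eqToIso hπ⟩, fun Ω _ _ _ => ?_⟩
  · apply (AlgSp.yon _).map_injective
    rw [CategoryTheory.Functor.map_comp, CategoryTheory.Functor.map_comp]
    exact Groth.Agent.DecSec.QuotSch.invariant_of_factor π hπ
  · refine ⟨fun y => ?_, fun x x' e => ?_⟩
    · obtain ⟨p, hp⟩ := (Groth.Agent.FinQuotLib.geomOrbits R A G Ω
        (Spec.map (CommRingCat.ofHom (algebraMap R Ω)))).1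
        (CategoryTheory.Over.homMk (Spec.map (CommRingCat.ofHom y.toRingHom)) (by
          change Spec.map _ ≫ Spec.map _ = Spec.map _
          rw [← Spec.map_comp]
          congr 1
          ext r
          exact y.commutes r))
      obtain ⟨φ, hφ⟩ : ∃ φ, Spec.map φ = p.left := ⟨_, Spec.map_preimage _⟩
      have hw := CategoryTheory.Over.w p
      change p.left ≫ Spec.map (CommRingCat.ofHom (algebraMap R A)) = Spec.map _ at hw
      rw [← hφ, ← Spec.map_comp] at hw
      refine ⟨⟨φ.hom, fun r => congrArg (fun f => f.hom r) (Spec.map_injective hw)⟩, ?_⟩
      have hp' := congrArg CommaMorphism.left hp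
      change p.left ≫ Spec.map _ = Spec.map _ at hp'
      rw [← hφ, ← Spec.map_comp] at hp'
      exact AlgHom.ext fun a => congrArg (fun f => f.hom a) (Spec.map_injective hp')
    · obtain ⟨g, hg⟩ := Groth.Agent.S18899.result x.toRingHom x'.toRingHom
        fun a ha => DFunLike.congr_fun e ⟨a, ha⟩
      exact ⟨g, AlgHom.ext hg⟩
end Groth.Agent.S16960
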