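import Mathlib
import Groth.Statements.S16962

set_option autoImplicit false
universe u
open ConstAct

namespace Groth.Agent.S16962
open scoped TensorProduct

/-- value at `γ` of the function part. -/
noncomputable def ex (R : Type u) [CommRing R] (B : Type u) [CommRing B] [Algebra R B] {Γ : Type u}
    (γ : Γ) : B ⊗[R] ConstGrp.F R Γ →ₐ[R] B :=
  (Algebra.TensorProduct.rid R R B).toAlgHom.comp
    (Algebra.TensorProduct.map (AlgHom.id R B) (ConstGrp.ev R γ))

@[simp] theorem ex_tmul {R : Type u} [CommRing R] {B : Type u} [CommRing B] [Algebra R B] {Γ : Type u}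
    (γ : Γ) (b : B) (f : ConstGrp.F R Γ) : ex R B γ (b ⊗ₜ f) = f γ • b := by
  simp [ex]

theorem eq_sum_ex {R : Type u} [CommRing R] {B : Type u} [CommRing B] [Algebra R B] {Γ : Type u}
    [Fintype Γ] [DecidableEq Γ] (x : B ⊗[R] ConstGrp.F R Γ) :
    x = ∑ γ, ex R B γ x ⊗ₜ[R] ConstGrp.e R γ := by
  induction x with
  | zero => simp
  | tmul b f =>
    conv_lhs => rw [ConstGrp.eq_sum_smul_e f]
    simp only [TensorProduct.tmul_sum, ex_tmul, TensorProduct.smul_tmul]
  | add x y hx hy =>
    simp only [map_add, TensorProduct.add_tmul, Finset.sum_add_distrib, ← hx, ← hy]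

theorem ex_sum {R : Type u} [CommRing R] {B : Type u} [CommRing B] [Algebra R B] {Γ : Type u}
    [Fintype Γ] [DecidableEq Γ] (γ : Γ) (v : Γ → B) :
    ex R B γ (∑ δ, v δ ⊗ₜ[R] ConstGrp.e R δ) = v γ := by
  rw [map_sum, Finset.sum_eq_single γ]
  · simp
  · intro δ _ h
    rw [ex_tmul, ConstGrp.e_apply_of_ne (Ne.symm h), zero_smul]
  · simp


theorem msa_ext {M : Type u} [Monoid M] {A : Type u} [Semiring A] {a b : MulSemiringAction M A}
    (h : ∀ (γ : M) (x : A), a.smul γ x = b.smul γ x) : a = b := by
  have hd : a.toDistribMulAction = b.toDistribMulAction := DistribMulAction.ext (funext₂ h)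
  cases a; cases b; cases hd; rfl

open TensorProduct in
/-- Let R be a commutative ring, Γ a finite group and B a commutative R-algebra equipped with a comodule
structure over the Hopf algebra of R-valued functions on Γ (the coordinate ring of the constant
group scheme of Γ over Spec R, with basis the indicator functions e_γ) whose coaction B → B ⊗ Fun(Γ,
R) is a homomorphism of algebras, i.e. an action of the constant group scheme on Spec B. Then there
is exactly one action of Γ on B by R-algebra automorphisms whose associated coaction b ↦ Σ_γ (γ · b)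
⊗ e_γ is the given coaction; and for that action the ring of invariants of the comodule algebra (the
b whose coaction is b ⊗ 1) equals the ring of elements fixed by Γ. (That the coaction associated
with an action is a comodule algebra structure is the other direction of the published equivalence
and is a construction here.) -/
theorem result (R : Type u) [CommRing R]
    (B : Type u) [CommRing B] [Algebra R B] (Γ : Type u) [Group Γ] [Fintype Γ] [DecidableEq Γ]
    [HopfRep.Comod R (ConstGrp.F R Γ) B] [GLin.IsCoactAlg R (ConstGrp.F R Γ) B] :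
    ∃! a : MulSemiringAction Γ B, ∃ _ : SMulCommClass Γ R B,
      ConstAct.coactLin R B Γ = HopfRep.Comod.coact (k := R) (A := ConstGrp.F R Γ) (V := B) ∧
        GLin.invariants R (ConstGrp.F R Γ) B = ConstAct.inv R B Γ := by
  let σ : Γ → B →ₐ[R] B := fun γ => (ex R B γ).comp (GLin.coactAlgHom R (ConstGrp.F R Γ) B)
  have hσ : ∀ γ b, σ γ b = ex R B γ (HopfRep.Comod.coact (k := R) (A := ConstGrp.F R Γ) b) :=
    fun γ b => rfl
  have h1 : ∀ b, σ 1 b = b := by
    intro b
    have hc := LinearMap.congr_fun (HopfRep.Comod.counit_comp (k := R) (A := ConstGrp.F R Γ) (V := B)) b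
    simp only [LinearMap.coe_comp, Function.comp_apply, LinearMap.flip_apply,
      TensorProduct.mk_apply] at hc
    have : ∀ x : B ⊗[R] ConstGrp.F R Γ, ex R B 1 x = TensorProduct.rid R B
        ((CoalgebraStruct.counit (R := R) (A := ConstGrp.F R Γ)).lTensor B x) := by
      intro x
      induction x with
      | zero => simp
      | tmul b f => simp
      | add x y hx hy => simp only [map_add, hx, hy]
    rw [hσ, this, hc, TensorProduct.rid_tmul, one_smul]
  have hmul : ∀ g h b, σ (g * h) b = σ g (σ h b) := by
    intro g h b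
    let E : B ⊗[R] (ConstGrp.F R Γ ⊗[R] ConstGrp.F R Γ) →ₗ[R] B :=
      (TensorProduct.rid R B).toLinearMap ∘ₗ
        ((LinearMap.mul' R R) ∘ₗ TensorProduct.map (ConstGrp.ev R g).toLinearMap
          (ConstGrp.ev R h).toLinearMap).lTensor B
    have hc := LinearMap.congr_fun (HopfRep.Comod.coassoc (k := R) (A := ConstGrp.F R Γ) (V := B)) b
    simp only [LinearMap.coe_comp, Function.comp_apply, LinearEquiv.coe_coe] at hc
    have hr : ∀ x : B ⊗[R] ConstGrp.F R Γ,
        E ((CoalgebraStruct.comul (R := R) (A := ConstGrp.F R Γ)).lTensor B x) =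
          ex R B (g * h) x := by
      intro x
      induction x with
      | zero => simp
      | tmul b f =>
        simp only [E, LinearMap.coe_comp, Function.comp_apply, LinearMap.lTensor_tmul, ex_tmul,
          LinearEquiv.coe_coe, TensorProduct.rid_tmul]
        congr 1
        rw [ConstGrp.comul_eq_sum]
        simp [ConstGrp.e_apply]
      | add x y hx hy => simp only [map_add, hx, hy]
    have hl : ∀ x : B ⊗[R] ConstGrp.F R Γ,
        E (TensorProduct.assoc R B (ConstGrp.F R Γ) (ConstGrp.F R Γ)
          ((HopfRep.Comod.coact (k := R) (A := ConstGrp.F R Γ) (V := B)).rTensor _ x)) =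
          σ g (ex R B h x) := by
      intro x
      induction x with
      | zero => simp
      | tmul b f =>
        rw [LinearMap.rTensor_tmul, ex_tmul, map_smul, hσ]
        generalize HopfRep.Comod.coact (k := R) (A := ConstGrp.F R Γ) b = y
        induction y with
        | zero => simp
        | tmul c f' => simp [E, smul_smul, mul_comm]
        | add x y hx hy => simp only [TensorProduct.add_tmul, map_add, smul_add, hx, hy]
      | add x y hx hy => simp only [map_add, hx, hy]
    rw [hσ, ← hr, ← hc, hl]
    rfl
  let act : MulSemiringAction Γ B :=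
    { smul := fun γ b => σ γ b
      one_smul := h1
      mul_smul := hmul
      smul_zero := fun γ => map_zero (σ γ)
      smul_add := fun γ => map_add (σ γ)
      smul_one := fun γ => map_one (σ γ)
      smul_mul := fun γ => map_mul (σ γ) }
  letI := act
  have hcomm : SMulCommClass Γ R B := ⟨fun γ r b => map_smul (σ γ) r b⟩
  refine ⟨act, ⟨hcomm, ?_, ?_⟩, ?_⟩
  · apply LinearMap.ext
    intro b
    rw [ConstAct.coactLin_apply]
    exact (eq_sum_ex _).symm
  · ext b
    change HopfRep.Comod.coact (k := R) (A := ConstGrp.F R Γ) b = b ⊗ₜ[R] (1 : ConstGrp.F R Γ) ↔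
      ∀ γ, σ γ b = b
    constructor
    · intro h γ
      rw [hσ, h, ex_tmul, ConstGrp.one_apply, one_smul]
    · intro h
      rw [eq_sum_ex (HopfRep.Comod.coact (k := R) (A := ConstGrp.F R Γ) b),
        eq_sum_ex (b ⊗ₜ[R] (1 : ConstGrp.F R Γ))]
      refine Finset.sum_congr rfl fun γ _ => ?_
      rw [← hσ, h γ, ex_tmul, ConstGrp.one_apply, one_smul]
  · rintro a ⟨hc, ha, -⟩
    refine msa_ext fun γ b => ?_
    letI := a
    have h := congrArg (ex R B γ) (LinearMap.congr_fun ha b)
    rw [ConstAct.coactLin_apply, ex_sum] at h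
    exact h

end Groth.Agent.S16962
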