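import Mathlib
import Groth.Statements.S16963
-- import your own Groth.Agent.* helpers here

set_option autoImplicit false
universe u
open scoped BigOperators
open ConstAct

namespace Groth.Agent.S16963

open TensorProduct in
/-- Let R be a commutative ring and Γ a finite group acting on a commutative R-algebra B by R-algebra
automorphisms; regard B as a comodule algebra over the Hopf algebra of R-valued functions on Γ (the
constant group scheme of Γ acting on Spec B) through the coaction b ↦ Σ_γ (γ · b) ⊗ e_γ. Then the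
action is tame — there is a comodule map α from the Hopf algebra, with its regular coaction, to B
with α(1) = 1 (a total integral) — if and only if the trace b ↦ Σ_γ γ · b, which takes values in the
ring of invariants B^Γ, maps B onto B^Γ. -/
theorem result (R : Type u) [CommRing R]
    (B : Type u) [CommRing B] [Algebra R B] (Γ : Type u) [Group Γ] [Fintype Γ] [DecidableEq Γ]
    [MulSemiringAction Γ B] [SMulCommClass Γ R B] :
    letI := ConstAct.comod R B Γ
    (∃ α : ConstGrp.F R Γ →ₗ[R] B, Hoch.IsComodHom (ConstGrp.F R Γ) α ∧ α 1 = 1) ↔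
      ∀ c : B, c ∈ ConstAct.inv R B Γ → ∃ b : B, ∑ γ : Γ, γ • b = c := by
  classical
  letI := ConstAct.comod R B Γ
  let co : Γ → B ⊗[R] ConstGrp.F R Γ →ₗ[R] B := fun g =>
    (TensorProduct.rid R B).toLinearMap ∘ₗ LinearMap.lTensor B (ConstGrp.ev R g).toLinearMap
  have hco : ∀ (g h : Γ) (x : B), co g (x ⊗ₜ ConstGrp.e R h) = if g = h then x else 0 := by
    intro g h x
    simp [co, ConstGrp.e_apply]
  have key : ∀ α : ConstGrp.F R Γ →ₗ[R] B, Hoch.IsComodHom (ConstGrp.F R Γ) α ↔
      ∀ g h : Γ, g • α (ConstGrp.e R h) = α (ConstGrp.e R (h * g⁻¹)) := by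
    intro α
    have hL : ∀ h, (HopfRep.Comod.coact (k := R) (A := ConstGrp.F R Γ) (V := B) ∘ₗ α) (ConstGrp.e R h) =
        ∑ g : Γ, (g • α (ConstGrp.e R h)) ⊗ₜ[R] ConstGrp.e R g := fun h =>
      ConstAct.coactLin_apply R B Γ _
    have hR : ∀ h, α.rTensor (ConstGrp.F R Γ) (Coalgebra.comul (R := R) (ConstGrp.e R h)) =
        ∑ g : Γ, α (ConstGrp.e R (h * g⁻¹)) ⊗ₜ[R] ConstGrp.e R g := by
      intro h
      rw [ConstGrp.comul_e, map_sum]
      refine Fintype.sum_equiv ((Equiv.inv Γ).trans (Equiv.mulRight h)) _ _ fun a => ?_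
      simp [mul_inv_rev]
    constructor
    · intro hα g h
      have := congrArg (co g) (LinearMap.congr_fun hα (ConstGrp.e R h))
      rw [hL] at this
      change co g _ = co g (α.rTensor _ (Coalgebra.comul (R := R) (ConstGrp.e R h))) at this
      rw [hR, map_sum, map_sum] at this
      simpa [hco] using this
    · intro hα
      apply LinearMap.ext
      intro f
      rw [ConstGrp.eq_sum_smul_e f, map_sum, map_sum]
      refine Finset.sum_congr rfl fun h _ => ?_
      rw [map_smul, map_smul, hL]
      change _ = (f h) • α.rTensor _ (Coalgebra.comul (R := R) (ConstGrp.e R h))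
      rw [hR]
      simp only [hα]
  constructor
  · rintro ⟨α, hα, hα1⟩ c hc
    refine ⟨α (ConstGrp.e R 1) * c, ?_⟩
    have h1 : ∑ g : Γ, g • α (ConstGrp.e R 1) = 1 := by
      rw [← hα1, ← ConstGrp.sum_e, map_sum]
      refine Fintype.sum_equiv (Equiv.inv Γ) _ _ fun g => ?_
      rw [(key α).mp hα g 1, one_mul]
      rfl
    simp only [smul_mul', (ConstAct.mem_inv R B Γ c).mp hc, ← Finset.sum_mul, h1, one_mul]
  · intro htr
    obtain ⟨b, hb⟩ := htr 1 (one_mem _)
    let α : ConstGrp.F R Γ →ₗ[R] B :=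
      ∑ h : Γ, (LinearMap.toSpanSingleton R B (h⁻¹ • b)) ∘ₗ (ConstGrp.ev R h).toLinearMap
    have hα : ∀ h, α (ConstGrp.e R h) = h⁻¹ • b := by
      intro h
      simp [α, ConstGrp.e_apply]
    refine ⟨α, (key α).mpr fun g h => by rw [hα, hα, smul_smul, mul_inv_rev, inv_inv], ?_⟩
    rw [← ConstGrp.sum_e, map_sum]
    simp only [hα]
    rw [← hb]
    exact Fintype.sum_equiv (Equiv.inv Γ) _ _ fun g => rfl

end Groth.Agent.S16963
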