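import Groth.Statements.S16966
import Groth.Agent.CurveFF.Sections

set_option autoImplicit false
universe u
open CategoryTheory CategoryTheory.Limits AlgebraicGeometry Opposite
open Curves

namespace Groth.Agent.S16966

/-- Let X be a smooth projective curve over an algebraically closed field k of characteristic 0 (an
integral scheme, proper over k, of dimension one, with all local rings regular), of genus g ≥ 1, and
L an invertible O_X-module with deg L > 2g. Then the morphism to projective space given by the
complete linear system of L is linearly stable, stated through the criterion by invertible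
subsheaves: for every invertible module M and every monomorphism ι : M ⟶ L that is not an
isomorphism, with dim_k H^0(X, M) ≥ 2, one has deg L · (h^0(M) - 1) < deg M · (h^0(L) - 1), i.e. the
reduced degree deg M / (h^0(M) - 1) of the projection exceeds the reduced degree deg L / (h^0(L) -
1). Degrees are χ(·) - χ(O_X). -/
theorem result (k : Type u) [Field k] [IsAlgClosed k] [CharZero k] (X : Scheme.{u}) [X.Over (Spec (CommRingCat.of k))]
    [IsIntegral X] [IsProper (X ↘ (Spec (CommRingCat.of k)))] (hdim : topologicalKrullDim X = 1)
    (hreg : ∀ x : X, IsRegularLocalRing (X.presheaf.stalk x))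
    (hg : 1 ≤ Curv2.genus k X) (L : X.Modules) (hL : PicF.IsInvertible L)
    (hdeg : 2 * (Curv2.genus k X : ℤ) < Curv2.deg k X L 1)
    (M : X.Modules) (hM : PicF.IsInvertible M) (ι : M ⟶ L) [Mono ι] (hι : ¬ IsIso ι)
    (h2 : 2 ≤ Module.finrank k (Coh.HH X M 0)) :
    Curv2.deg k X L 1 * ((Module.finrank k (Coh.HH X M 0) : ℤ) - 1) <
      Curv2.deg k X M 1 * ((Module.finrank k (Coh.HH X L 0) : ℤ) - 1) := by
  haveI := Groth.Agent.CurveFF.isRegCurve_of_regular hdim.le hreg
  haveI := Groth.Agent.EulerIneqLib.isNoetherian_proper (X := X) k
  have h0 := Groth.Agent.CurveFF.h0_eq_one k hdim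
  have hlt := Groth.Agent.CurveFF.deg_lt_of_mono (k := k) hdim hM hL ι hι
  have hm := Groth.Agent.CurveFF.deg_nonneg_of_section (k := k) hdim hM
    (Module.nontrivial_of_finrank_pos (R := k) (by omega))
  haveI := Groth.Agent.CurveFF.subsingleton_H1 (k := k) hdim h0 hL (by omega)
  have hO := Groth.Agent.CurveLib.euler_eq_sub (k := k) (M := Coh.structureModule X) hdim.le
  rw [h0, show Module.finrank k (Coh.HH X (Coh.structureModule X) 1) = Curv2.genus k X from rfl] at hO
  have heL := Groth.Agent.CurveLib.euler_eq_sub (k := k) (M := L) hdim.le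
  rw [show Module.finrank k (Coh.HH X L 1) = 0 from Module.finrank_zero_of_subsingleton] at heL
  have heM := Groth.Agent.CurveLib.euler_eq_sub (k := k) (M := M) hdim.le
  have hdL : Curv2.deg k X L 1 = Module.finrank k (Coh.HH X L 0) + (Curv2.genus k X : ℤ) - 1 := by
    unfold Curv2.deg; omega
  rcases Nat.eq_zero_or_pos (Module.finrank k (Coh.HH X M 1)) with hz | hp
  · have hdM : Curv2.deg k X M 1 = Module.finrank k (Coh.HH X M 0) + (Curv2.genus k X : ℤ) - 1 := by
      unfold Curv2.deg; omega
    nlinarith
  · have hm2 : Curv2.deg k X M 1 < 2 * (Curv2.genus k X : ℤ) - 1 := by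
      by_contra hge
      push Not at hge
      haveI := Groth.Agent.CurveFF.subsingleton_H1 (k := k) hdim h0 hM hge
      rw [Module.finrank_zero_of_subsingleton] at hp
      omega
    have hcl := Groth.Agent.CurveFF.clifford (k := k) hdim hM hm (by omega)
    nlinarith

end Groth.Agent.S16966
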