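import Groth.Statements.S16968
import Groth.Agent.CurveFF.LinSer

set_option autoImplicit false
universe u
open CategoryTheory CategoryTheory.Limits AlgebraicGeometry Opposite
open Curves

namespace Groth.Agent.S16968

/-- Let X be a smooth projective curve over an algebraically closed field k of characteristic 0
(integral, proper over k, of dimension one, all local rings regular) of genus g ≥ 3 which is
hyperelliptic, with a g^1_2 given as an invertible module N of degree 2 and two k-linearly
independent global sections t_0, t_1. Then the canonical morphism of X is linearly semistable but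
not linearly stable, stated through the criterion by invertible subsheaves: (i) for every invertible
module M and every monomorphism ι : M ⟶ Ω_{X/k} which is not an isomorphism, with dim_k H^0(X, M) ≥
2, one has deg Ω_{X/k} · (h^0(M) - 1) ≤ deg M · (h^0(Ω_{X/k}) - 1); (ii) N admits a monomorphism
into Ω_{X/k} which is not an isomorphism and for which equality holds. Degrees are χ(·) - χ(O_X).
(The published statement gives no genus bound for the hyperelliptic case; here g ≥ 3 is assumed,
since for g = 2 the module N is the canonical module itself and clause (ii) fails.) -/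
theorem result (k : Type u) [Field k] [IsAlgClosed k] [CharZero k] (X : Scheme.{u}) [X.Over (Spec (CommRingCat.of k))]
    [IsIntegral X] [IsProper (X ↘ (Spec (CommRingCat.of k)))] (hdim : topologicalKrullDim X = 1)
    (hreg : ∀ x : X, IsRegularLocalRing (X.presheaf.stalk x))
    (hg : 3 ≤ Curv2.genus k X)
    (N : X.Modules) (t : Fin 2 → LinSer.Sect X N) (hN : LinSer.IsLinSer k X N 2 1 t) :
    (∀ (M : X.Modules) (ι : M ⟶ Omega.sheaf (X ↘ (Spec (CommRingCat.of k)))), PicF.IsInvertible M → Mono ι → ¬ IsIso ι →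
        2 ≤ Module.finrank k (Coh.HH X M 0) →
        Curv2.deg k X (Omega.sheaf (X ↘ (Spec (CommRingCat.of k)))) 1 * ((Module.finrank k (Coh.HH X M 0) : ℤ) - 1) ≤
          Curv2.deg k X M 1 * ((Module.finrank k (Coh.HH X (Omega.sheaf (X ↘ (Spec (CommRingCat.of k)))) 0) : ℤ) - 1)) ∧
      ∃ ι : N ⟶ Omega.sheaf (X ↘ (Spec (CommRingCat.of k))), Mono ι ∧ ¬ IsIso ι ∧
        Curv2.deg k X (Omega.sheaf (X ↘ (Spec (CommRingCat.of k)))) 1 * ((Module.finrank k (Coh.HH X N 0) : ℤ) - 1) =
          Curv2.deg k X N 1 * ((Module.finrank k (Coh.HH X (Omega.sheaf (X ↘ (Spec (CommRingCat.of k)))) 0) : ℤ) - 1) := by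
  haveI := Groth.Agent.CurveFF.isRegCurve_of_regular hdim.le hreg
  have hΩ := Groth.Agent.CurveFF.omega_invertible k hdim
  have hdΩ : Curv2.deg k X (Omega.sheaf (X ↘ (Spec (CommRingCat.of k)))) 1 = 2 * (Curv2.genus k X : ℤ) - 2 :=
    Groth.Agent.CurveFF.omega_deg k hdim
  have hω : Module.finrank k (Coh.HH X (Omega.sheaf (X ↘ (Spec (CommRingCat.of k)))) 0) = Curv2.genus k X :=
    Groth.Agent.CurveFF.omega_h0 k hdim
  rw [hω, hdΩ]
  refine ⟨fun M ι hM hm' hι h2 => ?_, ?_⟩
  · haveI := hm'
    have hlt := Groth.Agent.CurveFF.deg_lt_of_mono (k := k) hdim hM hΩ ι hι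
    have hm := Groth.Agent.CurveFF.deg_nonneg_of_section (k := k) hdim hM
      (Module.nontrivial_of_finrank_pos (R := k) (by omega))
    change Curv2.deg k X M 1 < Curv2.deg k X (Omega.sheaf (X ↘ (Spec (CommRingCat.of k)))) 1 at hlt
    rw [hdΩ] at hlt
    have hcl := Groth.Agent.CurveFF.clifford (k := k) hdim hM hm (by omega)
    nlinarith
  · have hd : Curv2.deg k X N 1 = 2 := by rw [hN.2.1]; rfl
    have h2 := Groth.Agent.CurveFF.le_finrank_H0_of_linIndep hN.1 hN.2.2
    have hcl := Groth.Agent.CurveFF.clifford (k := k) hdim hN.1 (by omega) (by omega)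
    have h2' : Module.finrank k (Coh.HH X N 0) = 2 := by omega
    obtain ⟨M, hM, ⟨φ⟩⟩ := Groth.Agent.AmpleEmb.exists_isInverseOf hN.1
    have hdual := Groth.Agent.CurveFF.h1_eq_h0_dual (k := k) hdim hN.1 (M := M) ⟨φ⟩
    have he := Groth.Agent.CurveLib.euler_eq_sub (k := k) (M := N) hdim.le
    have hO := Groth.Agent.CurveLib.euler_eq_sub (k := k) (M := Coh.structureModule X) hdim.le
    rw [Groth.Agent.CurveFF.h0_eq_one k hdim,
      show Module.finrank k (Coh.HH X (Coh.structureModule X) 1) = Curv2.genus k X from rfl] at hO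
    have hd' := hd
    unfold Curv2.deg at hd'
    haveI : Nontrivial (Coh.HH X (CohB1.tensorMod M (Groth.Agent.CurveFF.om k X)) 0) :=
      Module.nontrivial_of_finrank_pos (R := k) (by
        rw [Groth.Agent.ShBCLib.finrank_HH_iso (Groth.Agent.AmpleLib.comm M (Groth.Agent.CurveFF.om k X)) 0, ← hdual]
        omega)
    obtain ⟨ι, hι⟩ := Groth.Agent.CurveFF.exists_mono_of_section k hdim.le hN.1 hM hΩ φ
    refine ⟨ι, hι, fun hiso => ?_, ?_⟩
    · haveI := hiso
      have := Groth.Agent.CurveLib.deg_iso (k := k) (CategoryTheory.asIso ι) 1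
      rw [hd] at this
      change 2 = Curv2.deg k X (Omega.sheaf (X ↘ (Spec (CommRingCat.of k)))) 1 at this
      rw [hdΩ] at this
      omega
    · rw [hd, h2']
      ring

end Groth.Agent.S16968
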