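import Groth.Statements.S16969
import Groth.Agent.CliffOneLib.Stability

set_option autoImplicit false
universe u
open CategoryTheory CategoryTheory.Limits AlgebraicGeometry Opposite
open Curves

namespace Groth.Agent.S16969

open CategoryTheory CategoryTheory.Limits AlgebraicGeometry

set_option backward.isDefEq.respectTransparency false
set_option backward.isDefEq.respectTransparency.types false
set_option linter.style.haveILetI false
set_option maxHeartbeats 1000000
attribute [local instance] Curv2.stalkAlgebra
attribute [local instance high] FunFld.Place.algRes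


/-- Let X be a smooth projective curve over an algebraically closed field k of characteristic 0
(integral, proper over k, of dimension one, all local rings regular) of genus g ≥ 5 which is neither
hyperelliptic nor trigonal (no invertible module of degree 2, resp. 3, with two k-linearly
independent global sections) and which, if g = 6, is not a plane curve (admits no closed immersion
into P^2_k over k). Let V ⊂ H^0(X, Ω_{X/k}) be a hyperplane without base points, given by g - 1
global sections σ_i : O_X ⟶ Ω_{X/k} that are k-linearly independent and generate Ω_{X/k} at every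
point; V defines the projection of the canonical image of X from a point not on it. Then this
projection is linearly stable: for every m with 2 ≤ m < g - 1, every k-linearly independent family
w_1, …, w_m of global sections of Ω_{X/k} lying in the k-span of the σ_i, and every invertible
module M with a monomorphism ι : M ⟶ Ω_{X/k} through whose global sections all the w_j factor, one
has deg Ω_{X/k} · (m - 1) < deg M · (g - 2); that is, every proper projection has reduced degree
larger than (2g - 2)/(g - 2). -/
theorem result (k : Type u) [Field k] [IsAlgClosed k] [CharZero k] (X : Scheme.{u}) [X.Over (Spec (CommRingCat.of k))]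
    [IsIntegral X] [IsProper (X ↘ (Spec (CommRingCat.of k)))] (hdim : topologicalKrullDim X = 1)
    (hreg : ∀ x : X, IsRegularLocalRing (X.presheaf.stalk x))
    (hg : 5 ≤ Curv2.genus k X)
    (hnh : ¬ ∃ (N : X.Modules) (t : Fin 2 → LinSer.Sect X N), LinSer.IsLinSer k X N 2 1 t)
    (hnt : ¬ ∃ (N : X.Modules) (t : Fin 2 → LinSer.Sect X N), LinSer.IsLinSer k X N 3 1 t)
    (hpl : Curv2.genus k X = 6 → ∀ i : X ⟶ CohB1.ProjSpace 2 k, IsClosedImmersion i →
      i ≫ CohB1.ProjSpace.toSpec 2 k ≠ X ↘ Spec (CommRingCat.of k))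
    (σ : Fin (Curv2.genus k X - 1) → (Coh.structureModule X ⟶ Omega.sheaf (X ↘ (Spec (CommRingCat.of k)))))
    (hσ : LinSer.LinIndep k X (Omega.sheaf (X ↘ (Spec (CommRingCat.of k)))) (fun i => PicF2.secVal (Omega.sheaf (X ↘ (Spec (CommRingCat.of k)))) (σ i) ⊤))
    (hbpf : ⨆ i, CohB1.genLocus (Omega.sheaf (X ↘ (Spec (CommRingCat.of k)))) (σ i) = ⊤) :
    ∀ (m : ℕ) (w : Fin m → LinSer.Sect X (Omega.sheaf (X ↘ (Spec (CommRingCat.of k))))), 2 ≤ m → m + 1 < Curv2.genus k X →
      LinSer.LinIndep k X (Omega.sheaf (X ↘ (Spec (CommRingCat.of k)))) w →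
      (∀ j, ∃ c : Fin (Curv2.genus k X - 1) → k,
        w j = ∑ i, (Coh.toGlobal (X ↘ Spec (CommRingCat.of k)) (c i)) • PicF2.secVal (Omega.sheaf (X ↘ (Spec (CommRingCat.of k)))) (σ i) ⊤) →
      ∀ (M : X.Modules) (ι : M ⟶ Omega.sheaf (X ↘ (Spec (CommRingCat.of k)))), PicF.IsInvertible M → Mono ι →
        (∀ j, ∃ v : LinSer.Sect X M, (ι.val.app (op ⊤)).hom v = w j) →
        Curv2.deg k X (Omega.sheaf (X ↘ (Spec (CommRingCat.of k)))) 1 * ((m : ℤ) - 1) < Curv2.deg k X M 1 * ((Curv2.genus k X : ℤ) - 2) := by
  intro m w hm2 hmg hw hwspan M ι hM hι hfac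
  haveI := Groth.Agent.CurveFF.isRegCurve_of_regular hdim.le hreg
  haveI := Groth.Agent.EulerIneqLib.isNoetherian_proper (X := X) k
  have hΩ := Groth.Agent.CurveFF.omega_invertible (X := X) k hdim
  have hΩd : Curv2.deg k X (Omega.sheaf (X ↘ Spec (CommRingCat.of k))) 1 = 2 * (Curv2.genus k X : ℤ) - 2 :=
    Groth.Agent.CurveFF.omega_deg (X := X) k hdim
  obtain ⟨⟨v, hv, hvi⟩, hle⟩ := Groth.Agent.CliffOneLib.factor_bounds hdim hΩ hM ι hw (by omega) hfac
  have hH := Groth.Agent.CurveFF.le_finrank_H0_of_linIndep hM hvi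
  have hrr := Groth.Agent.CliffOneLib.h0_sub_h1 (k := k) (M := M) hdim
  rw [hΩd] at hle ⊢
  have hmin : ∀ M' : X.Modules, PicF.IsInvertible M' → 2 ≤ Module.finrank k (Coh.HH X M' 0) →
      2 ≤ Module.finrank k (Coh.HH X M' 1) →
      2 * (Module.finrank k (Coh.HH X M' 0) : ℤ) - 1 ≤ Curv2.deg k X M' 1 :=
    fun M' h1 h2 h3 => Groth.Agent.CliffOneLib.cliff_one_le hdim hnh h1 h2 h3
  rcases lt_or_ge (Module.finrank k (Coh.HH X M 1)) 2 with h1 | h1
  · rcases eq_or_lt_of_le hle with he | he
    · rw [he]; nlinarith
    · nlinarith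
  · have hc := hmin M hM (by omega) h1
    rcases eq_or_lt_of_le hc with he | he
    · exfalso
      rcases Groth.Agent.CliffOneLib.trigonal_or_quintic hdim ⟨M, hM, by omega, h1, he.symm⟩ hmin with h | ⟨h6, i, hi, hi'⟩
      · exact hnt h
      · exact hpl h6 i hi hi'
    · nlinarith

end Groth.Agent.S16969
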