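import Groth.Statements.S16970
import Groth.Agent.CliffOneLib.Stability

set_option autoImplicit false
universe u
open CategoryTheory CategoryTheory.Limits AlgebraicGeometry Opposite
open Curves

namespace Groth.Agent.S16970

open CategoryTheory CategoryTheory.Limits AlgebraicGeometry

set_option backward.isDefEq.respectTransparency false
set_option backward.isDefEq.respectTransparency.types false
set_option linter.style.haveILetI false
set_option maxHeartbeats 1000000
attribute [local instance] Curv2.stalkAlgebra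
attribute [local instance high] FunFld.Place.algRes


/-- Let X be a smooth projective curve over an algebraically closed field k of characteristic 0
(integral, proper over k, of dimension one, all local rings regular) of genus 6 which is neither
hyperelliptic nor trigonal (no invertible module of degree 2, resp. 3, with two k-linearly
independent global sections) and which is a plane curve: there is a closed immersion i : X ⟶ P^2_k
over k (so X is a smooth plane quintic; such a curve is in fact neither hyperelliptic nor trigonal,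
but both hypotheses are kept as in the published statement, whose proof uses the absence of a g^1_3
in this case too). Let V ⊂ H^0(X, Ω_{X/k}) be a hyperplane without base points, given by 5 global
sections σ_i : O_X ⟶ Ω_{X/k} that are k-linearly independent and generate Ω_{X/k} at every point.
Then the projection of the canonical image from the corresponding point is linearly semistable: for
every m with 2 ≤ m < 5, every k-linearly independent family w_1, …, w_m of global sections of
Ω_{X/k} in the k-span of the σ_i, and every invertible module M with a monomorphism ι : M ⟶ Ω_{X/k}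
through whose global sections all the w_j factor, deg Ω_{X/k} · (m - 1) ≤ deg M · (g - 2). -/
theorem result (k : Type u) [Field k] [IsAlgClosed k] [CharZero k] (X : Scheme.{u}) [X.Over (Spec (CommRingCat.of k))]
    [IsIntegral X] [IsProper (X ↘ (Spec (CommRingCat.of k)))] (hdim : topologicalKrullDim X = 1)
    (hreg : ∀ x : X, IsRegularLocalRing (X.presheaf.stalk x))
    (hg : Curv2.genus k X = 6)
    (hnh : ¬ ∃ (N : X.Modules) (t : Fin 2 → LinSer.Sect X N), LinSer.IsLinSer k X N 2 1 t)
    (hnt : ¬ ∃ (N : X.Modules) (t : Fin 2 → LinSer.Sect X N), LinSer.IsLinSer k X N 3 1 t)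
    (i : X ⟶ CohB1.ProjSpace 2 k) [IsClosedImmersion i] (hi : i ≫ CohB1.ProjSpace.toSpec 2 k = X ↘ Spec (CommRingCat.of k))
    (σ : Fin (Curv2.genus k X - 1) → (Coh.structureModule X ⟶ Omega.sheaf (X ↘ (Spec (CommRingCat.of k)))))
    (hσ : LinSer.LinIndep k X (Omega.sheaf (X ↘ (Spec (CommRingCat.of k)))) (fun i => PicF2.secVal (Omega.sheaf (X ↘ (Spec (CommRingCat.of k)))) (σ i) ⊤))
    (hbpf : ⨆ i, CohB1.genLocus (Omega.sheaf (X ↘ (Spec (CommRingCat.of k)))) (σ i) = ⊤) :
    ∀ (m : ℕ) (w : Fin m → LinSer.Sect X (Omega.sheaf (X ↘ (Spec (CommRingCat.of k))))), 2 ≤ m → m + 1 < Curv2.genus k X →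
      LinSer.LinIndep k X (Omega.sheaf (X ↘ (Spec (CommRingCat.of k)))) w →
      (∀ j, ∃ c : Fin (Curv2.genus k X - 1) → k,
        w j = ∑ i, (Coh.toGlobal (X ↘ Spec (CommRingCat.of k)) (c i)) • PicF2.secVal (Omega.sheaf (X ↘ (Spec (CommRingCat.of k)))) (σ i) ⊤) →
      ∀ (M : X.Modules) (ι : M ⟶ Omega.sheaf (X ↘ (Spec (CommRingCat.of k)))), PicF.IsInvertible M → Mono ι →
        (∀ j, ∃ v : LinSer.Sect X M, (ι.val.app (op ⊤)).hom v = w j) →
        Curv2.deg k X (Omega.sheaf (X ↘ (Spec (CommRingCat.of k)))) 1 * ((m : ℤ) - 1) ≤ Curv2.deg k X M 1 * ((Curv2.genus k X : ℤ) - 2) := by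
  intro m w hm2 hmg hw hwspan M ι hM hι hfac
  haveI := Groth.Agent.CurveFF.isRegCurve_of_regular hdim.le hreg
  haveI := Groth.Agent.EulerIneqLib.isNoetherian_proper (X := X) k
  have hΩ := Groth.Agent.CurveFF.omega_invertible (X := X) k hdim
  have hΩd : Curv2.deg k X (Omega.sheaf (X ↘ Spec (CommRingCat.of k))) 1 = 2 * (Curv2.genus k X : ℤ) - 2 :=
    Groth.Agent.CurveFF.omega_deg (X := X) k hdim
  obtain ⟨⟨v, hv, hvi⟩, hle⟩ := Groth.Agent.CliffOneLib.factor_bounds hdim hΩ hM ι hw (by omega) hfac
  have hH := Groth.Agent.CurveFF.le_finrank_H0_of_linIndep hM hvi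
  have hrr := Groth.Agent.CliffOneLib.h0_sub_h1 (k := k) (M := M) hdim
  rw [hΩd] at hle ⊢
  have hmin : ∀ M' : X.Modules, PicF.IsInvertible M' → 2 ≤ Module.finrank k (Coh.HH X M' 0) →
      2 ≤ Module.finrank k (Coh.HH X M' 1) →
      2 * (Module.finrank k (Coh.HH X M' 0) : ℤ) - 1 ≤ Curv2.deg k X M' 1 :=
    fun M' h1 h2 h3 => Groth.Agent.CliffOneLib.cliff_one_le hdim hnh h1 h2 h3
  rcases lt_or_ge (Module.finrank k (Coh.HH X M 1)) 2 with h1 | h1
  · rcases eq_or_lt_of_le hle with he | he
    · rw [he]; nlinarith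
    · nlinarith
  · have hc := hmin M hM (by omega) h1
    rw [hg] at hle hrr hmg ⊢
    push_cast at hle hrr hmg ⊢
    rcases eq_or_lt_of_le hc with he | he
    · by_contra hlt
      have hM4 : Module.finrank k (Coh.HH X M 0) = 4 := by omega
      obtain ⟨C, hC⟩ := Groth.Agent.FF.exists_canonical (Groth.Agent.CurveFF.isFF (X := X) k hdim)
      have h00 := Groth.Agent.CurveFF.h0_eq_one (X := X) k hdim
      obtain ⟨e, he'⟩ := Groth.Agent.CurveFF.exists_base hM
      obtain ⟨D, hD⟩ := Groth.Agent.CurveFF.exists_isDiv hdim h00 hM he'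
      obtain ⟨hgK, hdD⟩ := Groth.Agent.CurveFF.genus_and_deg hdim h00 hM he' hD
      have hl1 := Groth.Agent.CurveFF.finrank_H1_eq hdim h00 hM he' hD hC
      obtain ⟨hC1, hC2⟩ := Groth.Agent.FF.canonical_deg (Groth.Agent.CurveFF.isFF (X := X) k hdim) hC
      obtain ⟨N, eN, hN, heN, hDN⟩ := Groth.Agent.CurveFF.exists_module hdim h00 (C - D)
      obtain ⟨s, hs⟩ := Groth.Agent.CurveFF.exists_linIndep (k := k) (L := N) (n := 2)
        (by rw [Groth.Agent.CurveFF.finrank_H0_eq_ell hdim hN heN hDN]; omega)
      refine hnt ⟨N, s, hN, ?_, hs⟩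
      rw [(Groth.Agent.CurveFF.genus_and_deg hdim h00 hN heN hDN).2, Groth.Agent.FF.deg_sub]
      omega
    · omega

end Groth.Agent.S16970
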