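import Groth.Statements.S16972
import Groth.Agent.CliffOneLib.Stability

set_option autoImplicit false
universe u
open CategoryTheory CategoryTheory.Limits AlgebraicGeometry Opposite
open Curves

namespace Groth.Agent.S16972

open CategoryTheory CategoryTheory.Limits AlgebraicGeometry

set_option backward.isDefEq.respectTransparency false
set_option backward.isDefEq.respectTransparency.types false
set_option linter.style.haveILetI false
set_option maxHeartbeats 1000000
attribute [local instance] Curv2.stalkAlgebra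
attribute [local instance high] FunFld.Place.algRes


/-- Let X be a smooth projective curve over an algebraically closed field k of characteristic 0
(integral, proper over k, of dimension one, all local rings regular) of genus g ≥ 5 which is
trigonal (carries an invertible module of degree 3 with two k-linearly independent global sections)
and not hyperelliptic (no such module of degree 2). Let V ⊂ H^0(X, Ω_{X/k}) be a hyperplane without
base points, given by g - 1 global sections σ_i : O_X ⟶ Ω_{X/k}, k-linearly independent and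
generating Ω_{X/k} at every point, i.e. the projection of the canonical image from a point p not on
it; assume p lies on no trisecant line of the canonical curve: for every invertible module N with a
monomorphism ι : N ⟶ Ω_{X/k}, deg N = 2g - 5 and dim_k H^0(X, N) = g - 2 (so N = Ω_{X/k}(-D) for a
divisor D of degree 3 moving in a pencil), some global section of N has image outside the k-span of
the σ_i. Then the projection is linearly stable: for every m with 2 ≤ m < g - 1, every k-linearly
independent family w_1, …, w_m of global sections of Ω_{X/k} in the span of the σ_i, and every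
invertible module M with a monomorphism M ⟶ Ω_{X/k} through whose global sections all w_j factor,
deg Ω_{X/k} · (m - 1) < deg M · (g - 2). -/
theorem result (k : Type u) [Field k] [IsAlgClosed k] [CharZero k] (X : Scheme.{u}) [X.Over (Spec (CommRingCat.of k))]
    [IsIntegral X] [IsProper (X ↘ (Spec (CommRingCat.of k)))] (hdim : topologicalKrullDim X = 1)
    (hreg : ∀ x : X, IsRegularLocalRing (X.presheaf.stalk x))
    (hg : 5 ≤ Curv2.genus k X)
    (hnh : ¬ ∃ (N : X.Modules) (t : Fin 2 → LinSer.Sect X N), LinSer.IsLinSer k X N 2 1 t)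
    (htr : ∃ (N : X.Modules) (t : Fin 2 → LinSer.Sect X N), LinSer.IsLinSer k X N 3 1 t)
    (σ : Fin (Curv2.genus k X - 1) → (Coh.structureModule X ⟶ Omega.sheaf (X ↘ (Spec (CommRingCat.of k)))))
    (hσ : LinSer.LinIndep k X (Omega.sheaf (X ↘ (Spec (CommRingCat.of k)))) (fun i => PicF2.secVal (Omega.sheaf (X ↘ (Spec (CommRingCat.of k)))) (σ i) ⊤))
    (hbpf : ⨆ i, CohB1.genLocus (Omega.sheaf (X ↘ (Spec (CommRingCat.of k)))) (σ i) = ⊤)
    (hsec : ∀ (N : X.Modules) (ι : N ⟶ Omega.sheaf (X ↘ (Spec (CommRingCat.of k)))), PicF.IsInvertible N → Mono ι →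
      Curv2.deg k X N 1 + 5 = 2 * (Curv2.genus k X : ℤ) → Module.finrank k (Coh.HH X N 0) + 2 = Curv2.genus k X →
      ∃ v : LinSer.Sect X N, ∀ c : Fin (Curv2.genus k X - 1) → k,
        (ι.val.app (op ⊤)).hom v ≠ ∑ i, (Coh.toGlobal (X ↘ Spec (CommRingCat.of k)) (c i)) • PicF2.secVal (Omega.sheaf (X ↘ (Spec (CommRingCat.of k)))) (σ i) ⊤) :
    ∀ (m : ℕ) (w : Fin m → LinSer.Sect X (Omega.sheaf (X ↘ (Spec (CommRingCat.of k))))), 2 ≤ m → m + 1 < Curv2.genus k X →
      LinSer.LinIndep k X (Omega.sheaf (X ↘ (Spec (CommRingCat.of k)))) w →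
      (∀ j, ∃ c : Fin (Curv2.genus k X - 1) → k,
        w j = ∑ i, (Coh.toGlobal (X ↘ Spec (CommRingCat.of k)) (c i)) • PicF2.secVal (Omega.sheaf (X ↘ (Spec (CommRingCat.of k)))) (σ i) ⊤) →
      ∀ (M : X.Modules) (ι : M ⟶ Omega.sheaf (X ↘ (Spec (CommRingCat.of k)))), PicF.IsInvertible M → Mono ι →
        (∀ j, ∃ v : LinSer.Sect X M, (ι.val.app (op ⊤)).hom v = w j) →
        Curv2.deg k X (Omega.sheaf (X ↘ (Spec (CommRingCat.of k)))) 1 * ((m : ℤ) - 1) < Curv2.deg k X M 1 * ((Curv2.genus k X : ℤ) - 2) := by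
  intro m w hm2 hmg hw hwspan M ι hM hι hfac
  haveI := Groth.Agent.CurveFF.isRegCurve_of_regular hdim.le hreg
  haveI := Groth.Agent.EulerIneqLib.isNoetherian_proper (X := X) k
  have hΩ := Groth.Agent.CurveFF.omega_invertible (X := X) k hdim
  have hΩd : Curv2.deg k X (Omega.sheaf (X ↘ Spec (CommRingCat.of k))) 1 = 2 * (Curv2.genus k X : ℤ) - 2 :=
    Groth.Agent.CurveFF.omega_deg (X := X) k hdim
  obtain ⟨⟨v, hv, hvi⟩, hle⟩ := Groth.Agent.CliffOneLib.factor_bounds hdim hΩ hM ι hw (by omega) hfac
  have hH := Groth.Agent.CurveFF.le_finrank_H0_of_linIndep hM hvi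
  have hrr := Groth.Agent.CliffOneLib.h0_sub_h1 (k := k) (M := M) hdim
  rw [hΩd] at hle ⊢
  have hmin : ∀ M' : X.Modules, PicF.IsInvertible M' → 2 ≤ Module.finrank k (Coh.HH X M' 0) →
      2 ≤ Module.finrank k (Coh.HH X M' 1) →
      2 * (Module.finrank k (Coh.HH X M' 0) : ℤ) - 1 ≤ Curv2.deg k X M' 1 :=
    fun M' h1 h2 h3 => Groth.Agent.CliffOneLib.cliff_one_le hdim hnh h1 h2 h3
  rcases lt_or_ge (Module.finrank k (Coh.HH X M 1)) 2 with h1 | h1
  · rcases eq_or_lt_of_le hle with he | he
    · rw [he]; nlinarith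
    · nlinarith
  · have hc := hmin M hM (by omega) h1
    by_cases h2m : 2 * (m : ℤ) ≤ Curv2.deg k X M 1
    · nlinarith
    by_cases h2g : 2 * m < Curv2.genus k X
    · nlinarith
    have hHm : Module.finrank k (Coh.HH X M 0) = m := by omega
    have hd : Curv2.deg k X M 1 = 2 * (m : ℤ) - 1 := by omega
    exfalso
    rcases eq_or_lt_of_le h1 with h12 | h13
    · obtain ⟨s, hs⟩ := hsec M ι hM hι (by omega) (by omega)
      haveI : Module.Finite k (Coh.HH X M 0) :=
        Groth.Agent.EulerIneqLib.finite_HH (k := k) (Groth.Agent.CurveLib.isCoh_of_isInvertible hM) 0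
      let y : Fin m → Coh.HH X M 0 := fun i => (Groth.Agent.CurveLib.secOf M).symm (v i)
      have hy : LinearIndependent k y := Fintype.linearIndependent_iff.2 fun c hc i => by
        refine congrFun (hvi c ?_) i
        have h := congrArg (Groth.Agent.CurveLib.secOf M) hc
        rw [Groth.Agent.CurveFF.secOf_sum, map_zero] at h
        exact (Finset.sum_congr rfl fun j _ => congrArg _ ((Groth.Agent.CurveLib.secOf M).apply_symm_apply (v j)).symm).trans h
      haveI : Nonempty (Fin m) := ⟨⟨0, by omega⟩⟩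
      have hspan := hy.span_eq_top_of_card_eq_finrank (by rw [Fintype.card_fin, hHm])
      obtain ⟨d, hd⟩ := (Submodule.mem_span_range_iff_exists_fun k).1
        (hspan.ge (Submodule.mem_top (x := (Groth.Agent.CurveLib.secOf M).symm s)))
      choose c hc' using hwspan
      refine hs (fun i => ∑ j, d j * c j i) ?_
      have h := congrArg (Groth.Agent.CurveLib.secOf M) hd
      rw [Groth.Agent.CurveFF.secOf_sum, AddEquiv.apply_symm_apply] at h
      rw [← h, map_sum]
      simp only [map_sum, map_mul, mul_smul, Finset.sum_smul]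
      rw [Finset.sum_comm]
      refine Finset.sum_congr rfl fun j _ => ?_
      rw [← Finset.smul_sum, ← hc' j, map_smul]
      simp only [y, AddEquiv.apply_symm_apply, hv]
    · have hK := Groth.Agent.CurveFF.isFF (X := X) k hdim
      have h00 := Groth.Agent.CurveFF.h0_eq_one (X := X) k hdim
      obtain ⟨C, hC⟩ := Groth.Agent.FF.exists_canonical hK
      obtain ⟨e, he'⟩ := Groth.Agent.CurveFF.exists_base hM
      obtain ⟨D, hD⟩ := Groth.Agent.CurveFF.exists_isDiv hdim h00 hM he'
      obtain ⟨hgK, hdD⟩ := Groth.Agent.CurveFF.genus_and_deg hdim h00 hM he' hD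
      have hl1 := Groth.Agent.CurveFF.finrank_H1_eq hdim h00 hM he' hD hC
      obtain ⟨hC1, hC2⟩ := Groth.Agent.FF.canonical_deg hK hC
      obtain ⟨T, t, hT⟩ := htr
      obtain ⟨eT, heT⟩ := Groth.Agent.CurveFF.exists_base hT.1
      obtain ⟨A, hA⟩ := Groth.Agent.CurveFF.exists_isDiv hdim h00 hT.1 heT
      refine Groth.Agent.CliffOneLib.no_large_cliff_one hK (A := A) (B := C - D) (fun E hE => ?_) ?_ ?_ ?_ (by omega) (by omega)
      · by_contra hlt
        obtain ⟨N, eN, hN, heN, hDN⟩ := Groth.Agent.CurveFF.exists_module hdim h00 E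
        obtain ⟨s, hs⟩ := Groth.Agent.CurveFF.exists_linIndep (k := k) (L := N) (n := 2)
          (by rw [Groth.Agent.CurveFF.finrank_H0_eq_ell hdim hN heN hDN]; omega)
        exact hnh ⟨N, s, hN, by rw [(Groth.Agent.CurveFF.genus_and_deg hdim h00 hN heN hDN).2, hE]; rfl, hs⟩
      · rw [← (Groth.Agent.CurveFF.genus_and_deg hdim h00 hT.1 heT hA).2]; exact hT.2.1
      · rw [← Groth.Agent.CurveFF.finrank_H0_eq_ell hdim hT.1 heT hA]
        exact Groth.Agent.CurveFF.le_finrank_H0_of_linIndep hT.1 hT.2.2
      · rw [Groth.Agent.FF.deg_sub, hC2]; omega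

end Groth.Agent.S16972
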