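import Groth.Statements.S16973
import Groth.Agent.CastSeveriLib.Core
import Groth.Agent.CurveFF.GenusLe
import Groth.Agent.CurveFF.Morph
import Groth.Agent.CurveFF.GenEtale
import Groth.Agent.CurveFF.Duality

set_option autoImplicit false
universe u
open CategoryTheory CategoryTheory.Limits AlgebraicGeometry Opposite
open Curves

namespace Groth.Agent.S16973

open CategoryTheory CategoryTheory.Limits AlgebraicGeometry

set_option backward.isDefEq.respectTransparency false
set_option linter.style.haveILetI false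
set_option maxHeartbeats 1000000

attribute [local instance] Curv2.stalkAlgebra

open Groth.Agent in
theorem tower {k : Type u} [Field k] {X Y : Scheme.{u}} [X.Over (Spec (CommRingCat.of k))] [Y.Over (Spec (CommRingCat.of k))]
    [IsIntegral X] [IsIntegral Y] (f : X ⟶ Y) [IsFinite f] [Surjective f]
    (hf : f ≫ (Y ↘ Spec (CommRingCat.of k)) = X ↘ Spec (CommRingCat.of k)) :
    letI := NormHomLib.ffAlg f
    IsScalarTower k Y.functionField X.functionField := by
  have hcomm : (NormHomLib.ffMap f).hom.comp (Curv2.stalkMap k Y (genericPoint Y)) =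
      Curv2.stalkMap k X (genericPoint X) := by
    have h1 := CurveFF.fromSpecStalk_over k (X := X) (genericPoint X)
    rw [← hf, ← Category.assoc, CurveFF.fromSpecStalk_ffMap, Category.assoc, CurveFF.fromSpecStalk_over k, ← Spec.map_comp] at h1
    exact congrArg CommRingCat.Hom.hom (Spec.map_injective h1)
  letI := NormHomLib.ffAlg f
  exact IsScalarTower.of_algebraMap_eq fun c => (RingHom.congr_fun hcomm c).symm


/-- Let F be a smooth projective curve over an algebraically closed field k of characteristic 0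
(integral, proper over k, of dimension one, all local rings regular) of genus g, and γ ≥ 1 an
integer with g > 4γ + 1. Then F carries at most one involution whose quotient has genus at most γ;
equivalently, degree-2 covers of curves of genus ≤ γ by F are unique: if for i = 1, 2, P_i is a
smooth projective curve over k of genus dim_k H^1(P_i, O) ≤ γ and f_i : F ⟶ P_i is a morphism over k
which is finite and flat of constant rank 2, then there is an isomorphism e : P_1 ≅ P_2 over k with
f_1 ≫ e = f_2. -/
theorem result (k : Type u) [Field k] [IsAlgClosed k] [CharZero k] (X : Scheme.{u}) [X.Over (Spec (CommRingCat.of k))]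
    [IsIntegral X] [IsProper (X ↘ (Spec (CommRingCat.of k)))] (hdim : topologicalKrullDim X = 1)
    (hreg : ∀ x : X, IsRegularLocalRing (X.presheaf.stalk x))
    (γ : ℕ) (hγ : 1 ≤ γ) (hg : 4 * γ + 1 < Curv2.genus k X)
    (P₁ : Scheme.{u}) [P₁.Over (Spec (CommRingCat.of k))] [IsIntegral P₁] [IsProper (P₁ ↘ (Spec (CommRingCat.of k)))]
    (hdim₁ : topologicalKrullDim P₁ = 1) (hreg₁ : ∀ y : P₁, IsRegularLocalRing (P₁.presheaf.stalk y)) (hγ₁ : Curv2.genus k P₁ ≤ γ)
    (P₂ : Scheme.{u}) [P₂.Over (Spec (CommRingCat.of k))] [IsIntegral P₂] [IsProper (P₂ ↘ (Spec (CommRingCat.of k)))]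
    (hdim₂ : topologicalKrullDim P₂ = 1) (hreg₂ : ∀ y : P₂, IsRegularLocalRing (P₂.presheaf.stalk y)) (hγ₂ : Curv2.genus k P₂ ≤ γ)
    (f₁ : X ⟶ P₁) (hf₁ : f₁ ≫ (P₁ ↘ Spec (CommRingCat.of k)) = X ↘ Spec (CommRingCat.of k))
    [IsFinite f₁] [Flat f₁] (hr₁ : ∀ y : P₁, Scheme.Hom.finrank f₁ y = 2)
    (f₂ : X ⟶ P₂) (hf₂ : f₂ ≫ (P₂ ↘ Spec (CommRingCat.of k)) = X ↘ Spec (CommRingCat.of k))
    [IsFinite f₂] [Flat f₂] (hr₂ : ∀ y : P₂, Scheme.Hom.finrank f₂ y = 2) :
    ∃ e : P₁ ≅ P₂, e.hom ≫ (P₂ ↘ Spec (CommRingCat.of k)) = (P₁ ↘ Spec (CommRingCat.of k)) ∧ f₁ ≫ e.hom = f₂ := by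
  classical
  haveI := Groth.Agent.CurveFF.isRegCurve_of_regular hdim.le hreg
  haveI := Groth.Agent.CurveFF.isRegCurve_of_regular hdim₁.le hreg₁
  haveI := Groth.Agent.CurveFF.isRegCurve_of_regular hdim₂.le hreg₂
  haveI : Surjective f₁ := (Scheme.Hom.one_le_finrank_iff_surjective f₁).1 fun y => by rw [Pi.one_apply, hr₁ y]; norm_num
  haveI : Surjective f₂ := (Scheme.Hom.one_le_finrank_iff_surjective f₂).1 fun y => by rw [Pi.one_apply, hr₂ y]; norm_num
  haveI : LocallyOfFinitePresentation f₁ := by
    haveI : IsLocallyNoetherian P₁ := LocallyOfFiniteType.isLocallyNoetherian (P₁ ↘ Spec (CommRingCat.of k))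
    infer_instance
  haveI : LocallyOfFinitePresentation f₂ := by
    haveI : IsLocallyNoetherian P₂ := LocallyOfFiniteType.isLocallyNoetherian (P₂ ↘ Spec (CommRingCat.of k))
    infer_instance
  letI := Groth.Agent.NormHomLib.ffAlg f₁
  letI := Groth.Agent.NormHomLib.ffAlg f₂
  haveI : IsScalarTower k P₁.functionField X.functionField := tower f₁ hf₁
  haveI : IsScalarTower k P₂.functionField X.functionField := tower f₂ hf₂
  haveI : FiniteDimensional P₁.functionField X.functionField := Groth.Agent.NormHomLib.finite_functionField f₁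
  haveI : FiniteDimensional P₂.functionField X.functionField := Groth.Agent.NormHomLib.finite_functionField f₂
  have d₁ : Module.finrank P₁.functionField X.functionField = 2 := by
    rw [← Groth.Agent.CurveFF.GenEtale.residueDegree_eq_finrank f₁,
      ← Groth.Agent.CurveFF.GenEtale.finrank_eq_residueDegree f₁ (genericPoint P₁), hr₁]
  have d₂ : Module.finrank P₂.functionField X.functionField = 2 := by
    rw [← Groth.Agent.CurveFF.GenEtale.residueDegree_eq_finrank f₂,
      ← Groth.Agent.CurveFF.GenEtale.finrank_eq_residueDegree f₂ (genericPoint P₂), hr₂]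
  have hX : Module.finrank k (Coh.HH X (Coh.structureModule X) 0) = 1 := Groth.Agent.CurveLib.finrank_H0_structure
  have h1 : Module.finrank k (Coh.HH P₁ (Coh.structureModule P₁) 0) = 1 := Groth.Agent.CurveLib.finrank_H0_structure
  have h2 : Module.finrank k (Coh.HH P₂ (Coh.structureModule P₂) 0) = 1 := Groth.Agent.CurveLib.finrank_H0_structure
  rw [Groth.Agent.CurveFF.genus_eq hdim hX] at hg
  rw [Groth.Agent.CurveFF.genus_eq hdim₁ h1] at hγ₁
  rw [Groth.Agent.CurveFF.genus_eq hdim₂ h2] at hγ₂
  have heq : (IsScalarTower.toAlgHom k P₁.functionField X.functionField).fieldRange =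
      (IsScalarTower.toAlgHom k P₂.functionField X.functionField).fieldRange := by
    by_contra hne
    have := Groth.Agent.CastSeveriLib.genus_le (Groth.Agent.CurveFF.isFunctionField k hdim hX)
      (Groth.Agent.CurveFF.isFunctionField k hdim₁ h1) (Groth.Agent.CurveFF.isFunctionField k hdim₂ h2) d₁ d₂ hne
    omega
  let e : P₂.functionField ≃ₐ[k] P₁.functionField :=
    ((AlgEquiv.ofInjectiveField (IsScalarTower.toAlgHom k P₂.functionField X.functionField)).trans
      (IntermediateField.equivOfEq heq.symm)).trans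
      (AlgEquiv.ofInjectiveField (IsScalarTower.toAlgHom k P₁.functionField X.functionField)).symm
  have he : ∀ a, algebraMap P₁.functionField X.functionField (e a) = algebraMap P₂.functionField X.functionField a :=
    fun a => congrArg Subtype.val ((AlgEquiv.ofInjectiveField
      (IsScalarTower.toAlgHom k P₁.functionField X.functionField)).apply_symm_apply _)
  obtain ⟨σ, hσ, hσ'⟩ := Groth.Agent.CurveFF.exists_iso_of_algEquiv hdim₁ hdim₂ e
  refine ⟨σ, hσ, ?_⟩
  haveI := Groth.Agent.CurveFF.isDominant_fromSpecStalk_generic (X := X)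
  refine ext_of_isDominant_of_isSeparated (P₂ ↘ Spec (CommRingCat.of k)) ?_ (X.fromSpecStalk (genericPoint X)) ?_
  · rw [Category.assoc, hσ, hf₁, hf₂]
  · rw [← Category.assoc, Groth.Agent.CurveFF.fromSpecStalk_ffMap, Category.assoc, hσ', ← Category.assoc,
      ← Spec.map_comp, Groth.Agent.CurveFF.fromSpecStalk_ffMap]
    congr 2
    exact CommRingCat.hom_ext (RingHom.ext he)

end Groth.Agent.S16973
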