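import Groth.Statements.S16978
import Groth.Agent.CurveFormsLib.Nondeg
import Groth.Agent.CurveFF.Sections

set_option autoImplicit false
universe u
open CategoryTheory CategoryTheory.Limits AlgebraicGeometry Opposite
open Curves

namespace Groth.Agent.S16978

open CategoryTheory CategoryTheory.Limits AlgebraicGeometry

set_option backward.isDefEq.respectTransparency false
set_option backward.isDefEq.respectTransparency.types false
set_option linter.style.haveILetI false
set_option maxHeartbeats 1000000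


/-- Let X be a smooth projective curve over an algebraically closed field k of characteristic 0
(integral, proper over k, of dimension one, all local rings regular), and L an invertible O_X-module
of degree d which is special (dim_k H^1(X, L) ≥ 1) with dim_k H^0(X, L) = r + 1. Suppose the map of
the complete linear system of L factors as X ⟶ Γ ⟶ Y ⟶ P^r_k where π : X ⟶ Γ is a k-morphism, finite
and flat of constant rank a, onto a smooth projective curve Γ over k of genus γ, Y ⟶ P^r_k is an
integral closed subscheme, ψ : Γ ⟶ Y restricts to an isomorphism over a nonempty open subset of Y,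
the pullback of O(1) along the composite embeds in L by a monomorphism ι, and every nonzero global
section of O(1) pulls back to a nonzero section (so the composite is the map of the complete linear
system, through an a-sheeted cover followed by a birational map). Then: (1) if a = 2, either 2r + 2γ
≤ d or 4r ≤ d; (2) if a ≥ 3, 3r ≤ d. Degrees are χ(·) - χ(O_X). -/
theorem result (k : Type u) [Field k] [IsAlgClosed k] [CharZero k] (X : Scheme.{u}) [X.Over (Spec (CommRingCat.of k))]
    [IsIntegral X] [IsProper (X ↘ (Spec (CommRingCat.of k)))] (hdim : topologicalKrullDim X = 1)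
    (hreg : ∀ x : X, IsRegularLocalRing (X.presheaf.stalk x))
    (L : X.Modules) (hL : PicF.IsInvertible L) (r : ℕ)
    (h0 : Module.finrank k (Coh.HH X L 0) = r + 1) (h1 : 1 ≤ Module.finrank k (Coh.HH X L 1))
    (Γ : Scheme.{u}) [Γ.Over (Spec (CommRingCat.of k))] [IsIntegral Γ] [IsProper (Γ ↘ (Spec (CommRingCat.of k)))]
    (hdimΓ : topologicalKrullDim Γ = 1) (hregΓ : ∀ y : Γ, IsRegularLocalRing (Γ.presheaf.stalk y))
    (π : X ⟶ Γ) (hπ : π ≫ (Γ ↘ Spec (CommRingCat.of k)) = X ↘ Spec (CommRingCat.of k))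
    [IsFinite π] [Flat π] (a : ℕ) (ha : ∀ y : Γ, Scheme.Hom.finrank π y = a)
    (Y : Scheme.{u}) [IsIntegral Y] (j : Y ⟶ CohB1.ProjSpace r k) [IsClosedImmersion j] (ψ : Γ ⟶ Y)
    (hψ : ψ ≫ j ≫ CohB1.ProjSpace.toSpec r k = Γ ↘ Spec (CommRingCat.of k))
    (hbir : ∃ U : Y.Opens, (U : Set Y).Nonempty ∧ IsIso (ψ ∣_ U))
    (ι : (Scheme.Modules.pullback (π ≫ ψ ≫ j)).obj (Twist.twistProjSpace r k 1) ⟶ L) [Mono ι]
    (hnd : ∀ s : LinSer.Sect (CohB1.ProjSpace r k) (Twist.twistProjSpace r k 1), s ≠ 0 → OmegaSh.pullSect (π ≫ ψ ≫ j) (Twist.twistProjSpace r k 1) ⊤ s ≠ 0) :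
    (a = 2 → 2 * (r : ℤ) + 2 * Curv2.genus k Γ ≤ Curv2.deg k X L 1 ∨ 4 * (r : ℤ) ≤ Curv2.deg k X L 1) ∧
      (3 ≤ a → 3 * (r : ℤ) ≤ Curv2.deg k X L 1) := by
  haveI := Groth.Agent.CurveFF.isRegCurve_of_regular hdim.le hreg
  haveI := Groth.Agent.CurveFF.isRegCurve_of_regular hdimΓ.le hregΓ
  rcases Nat.eq_zero_or_pos a with rfl | hapos
  · exact ⟨fun h => absurd h (by omega), fun h => absurd h (by omega)⟩
  obtain ⟨e, he, hre, hcases⟩ := Groth.Agent.CurveFormsLib.deg_of_cover hdim hdimΓ π hπ ha hapos (ψ ≫ j)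
    (by rw [Category.assoc]; exact hψ) hnd
  have hP : PicF.IsInvertible ((Scheme.Modules.pullback (π ≫ ψ ≫ j)).obj (Twist.twistProjSpace r k 1)) :=
    Groth.Agent.AmpleLib.isInvertible_pullback _ (Groth.Agent.AmpleEmb.isInvertible_twistOne r k)
  have hne : ι ≠ 0 := by
    rintro rfl
    have hz : 𝟙 ((Scheme.Modules.pullback (π ≫ ψ ≫ j)).obj (Twist.twistProjSpace r k 1)) = 0 := by
      rw [← cancel_mono (0 : (Scheme.Modules.pullback (π ≫ ψ ≫ j)).obj (Twist.twistProjSpace r k 1) ⟶ L)]; simp
    obtain ⟨b, hb⟩ := Groth.Agent.CurveFF.exists_base hP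
    obtain ⟨U, hU, m, rfl⟩ := TopCat.Presheaf.exists_germ_eq _ b
    have h3 := congrArg (fun f => Scheme.Modules.Hom.app f U m) hz
    change m = 0 at h3
    subst h3
    exact one_ne_zero (α := X.presheaf.stalk (genericPoint X)) (hb.1 (by simp))
  have hle := (Groth.Agent.CurveLib.deg_le_of_ne_zero (k := k) hdim.le hP hL hne).1
  rw [he] at hle
  refine ⟨fun h2 => ?_, fun h3 => ?_⟩
  · subst h2
    omega
  · have : (3 : ℤ) * e ≤ a * e := mul_le_mul_of_nonneg_right (by exact_mod_cast h3) (by omega)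
    omega

end Groth.Agent.S16978
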