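import Groth.Statements.S16979
import Mathlib

set_option autoImplicit false
universe u v
open CAlg

namespace Groth.Agent.S16979

/-- Let R be an integral domain with fraction field K and φ a square matrix over R whose characteristic
polynomial becomes separable in K[T] (equivalently, K[T] modulo the characteristic polynomial is
geometrically reduced over K). Then a polynomial f over R satisfies f(φ) = 0 exactly when the
characteristic polynomial of φ divides f in R[T]: the kernel of evaluation at φ (the minimal ideal
of φ) is the principal ideal generated by the characteristic polynomial. -/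
theorem result
    {R : Type u} [CommRing R] [IsDomain R] {n : Type v} [Fintype n] [DecidableEq n]
    (φ : Matrix n n R)
    (hsep : (φ.charpoly.map (algebraMap R (FractionRing R))).Separable) :
    RingHom.ker (Polynomial.aeval (R := R) φ) = Ideal.span {φ.charpoly} := by
  classical
  refine le_antisymm (fun f hf => ?_) ?_
  · rw [Ideal.mem_span_singleton]
    let L := AlgebraicClosure (FractionRing R)
    let ι : R →+* L := (algebraMap (FractionRing R) L).comp (algebraMap R (FractionRing R))
    have hι : Function.Injective ι := (algebraMap (FractionRing R) L).injective.comp (IsFractionRing.injective R _)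
    rw [← Polynomial.map_dvd_map ι hι φ.charpoly_monic]
    have hsep' : (φ.charpoly.map ι).Separable := by
      rw [← Polynomial.map_map]; exact hsep.map
    have hψ : φ.charpoly.map ι = (φ.map ι).charpoly := (Matrix.charpoly_map φ ι).symm
    by_cases hf0 : f.map ι = 0
    · rw [hf0]; exact dvd_zero _
    refine ((IsAlgClosed.splits _).dvd_iff_roots_le_roots hsep'.ne_zero hf0).mpr
      ((Multiset.le_iff_subset (Polynomial.nodup_roots hsep')).mpr fun μ hμ => ?_)
    rw [Polynomial.mem_roots hsep'.ne_zero, hψ, Polynomial.IsRoot.def, Matrix.eval_charpoly] at hμ
    obtain ⟨v, hv0, hv⟩ := Matrix.exists_mulVec_eq_zero_iff.mpr hμ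
    rw [Polynomial.mem_roots hf0, Polynomial.IsRoot.def]
    have hv' : Module.End.HasEigenvector (Matrix.toLin' (φ.map ι)) μ v := by
      refine ⟨Module.End.mem_eigenspace_iff.mpr ?_, hv0⟩
      rw [Matrix.toLin'_apply]
      rw [Matrix.sub_mulVec, sub_eq_zero] at hv
      rw [← hv]
      ext i
      simp [Matrix.scalar_apply, Matrix.mulVec_diagonal]
    have hz : Polynomial.aeval (Matrix.toLin' (φ.map ι)) (f.map ι) = 0 := by
      have h1 : Polynomial.aeval (φ.map ι) (f.map ι) = 0 := by
        have h2 : (ι.mapMatrix : Matrix n n R →+* Matrix n n L) (Polynomial.aeval φ f) = 0 := by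
          rw [show Polynomial.aeval φ f = 0 from hf, map_zero]
        rw [Polynomial.aeval_def, Polynomial.eval₂_map]
        rw [Polynomial.aeval_def, Polynomial.hom_eval₂] at h2
        convert h2 using 2
        · ext r : 1
          ext i j
          simp [Algebra.algebraMap_eq_smul_one, Matrix.one_apply, apply_ite ι]
        · rfl
      rw [show Matrix.toLin' (φ.map ι) = Matrix.toLinAlgEquiv' (φ.map ι) from rfl, Polynomial.aeval_algHom_apply, h1, map_zero]
    have := Module.End.aeval_apply_of_hasEigenvector (p := f.map ι) hv'
    rw [hz] at this
    rw [LinearMap.zero_apply, eq_comm, smul_eq_zero] at this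
    exact this.resolve_right hv0
  · rw [Ideal.span_singleton_le_iff_mem, RingHom.mem_ker]
    exact Matrix.aeval_self_charpoly φ

end Groth.Agent.S16979
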