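import Groth.Statements.S1698
import Groth.Agent.CAlgBasics.Depth
import Groth.Agent.DCohLib.ClosedPush
import Mathlib.RingTheory.Regular.Flat
import Groth.Agent.S5090

set_option autoImplicit false
universe u
open CategoryTheory CategoryTheory.Limits AlgebraicGeometry TopologicalSpace
open SDiv
open scoped Pointwise

set_option linter.style.haveILetI false
set_option linter.unusedSectionVars false
set_option backward.isDefEq.respectTransparency false

namespace Groth.Agent.S1698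

open Groth.Agent.DCohLib Opposite IsLocalRing RingTheory.Sequence

section Prep

variable {X S : Scheme.{u}} (f : X ⟶ S) (F : X.Modules) {s : ↥S}

/-- Quasi-compact opens over a neighbourhood only see the points over the generisations. -/
theorem exists_nhd_le {U : X.Opens} (hU : IsCompact (U : Set X)) {V : S.Opens} (hV : IsAffineOpen V)
    (hs : s ∈ V) (hUV : U ≤ f ⁻¹ᵁ V) (W : X.Opens) (h : ∀ y ∈ U, f y ⤳ s → y ∈ W) :
    ∃ V' ≤ V, s ∈ V' ∧ IsAffineOpen V' ∧ U ⊓ f ⁻¹ᵁ V' ≤ W := by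
  classical
  have key : ∀ (C : X.Opens), IsAffineOpen C → C ≤ U →
      ∃ a : Γ(S, V), s ∈ S.basicOpen a ∧ C ⊓ f ⁻¹ᵁ S.basicOpen a ≤ W := by
    intro C hC hCU
    let φ := (f.appLE V C (hCU.trans hUV)).hom
    have hpre : ∀ a : Γ(S, V), C ⊓ f ⁻¹ᵁ S.basicOpen a = X.basicOpen (φ a) := fun a => by
      show _ = X.basicOpen ((X.presheaf.map (homOfLE (hCU.trans hUV)).op) (f.app V a))
      rw [Scheme.basicOpen_res, Scheme.preimage_basicOpen]
    obtain ⟨J, hJ⟩ := (PrimeSpectrum.isClosed_iff_zeroLocus_ideal _).1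
      (hC.fromSpec ⁻¹ᵁ W).2.isClosed_compl
    let M : Submonoid Γ(S, V) :=
      { carrier := {a | s ∈ S.basicOpen a}
        one_mem' := by
          show s ∈ S.basicOpen (1 : Γ(S, V))
          rw [Scheme.basicOpen_of_isUnit _ isUnit_one]
          exact hs
        mul_mem' := fun {a b} ha hb => by
          show s ∈ S.basicOpen (a * b)
          rw [Scheme.basicOpen_mul]
          exact ⟨ha, hb⟩ }
    by_cases hd : Disjoint (J.radical : Set Γ(X, C)) (M.map φ : Set Γ(X, C))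
    · exfalso
      obtain ⟨P, hP, hle, hPd⟩ := Ideal.exists_le_prime_disjoint _ _ hd
      let q : PrimeSpectrum Γ(X, C) := ⟨P, hP⟩
      let y := hC.fromSpec q
      have hy : y ∈ C := by
        have : y ∈ Set.range hC.fromSpec := ⟨q, rfl⟩
        rwa [hC.range_fromSpec] at this
      have hyW : y ∈ W := h y (hCU hy) (by
        refine specializes_iff_forall_open.2 fun O hO hsO => ?_
        obtain ⟨a, haO, hsa⟩ := hV.exists_basicOpen_le (V := ⟨O, hO⟩) ⟨s, hsO⟩ hs
        refine haO ((?_ : y ∈ C ⊓ f ⁻¹ᵁ S.basicOpen a).2)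
        rw [hpre]
        show q ∈ hC.fromSpec ⁻¹ᵁ X.basicOpen (φ a)
        rw [hC.fromSpec_preimage_basicOpen]
        exact fun ha => Set.disjoint_left.1 hPd ha ⟨a, hsa, rfl⟩)
      have hq : q ∈ PrimeSpectrum.zeroLocus (J : Set Γ(X, C)) :=
        (PrimeSpectrum.mem_zeroLocus q (J : Set Γ(X, C))).2 (Ideal.le_radical.trans hle)
      have hq' : q ∈ ((hC.fromSpec ⁻¹ᵁ W).carrier)ᶜ := hJ.symm ▸ hq
      exact hq' hyW
    · obtain ⟨b, hb, a, ha, rfl⟩ := Set.not_disjoint_iff.1 hd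
      refine ⟨a, ha, fun z hz => ?_⟩
      rw [hpre] at hz
      obtain ⟨q, rfl⟩ : z ∈ Set.range hC.fromSpec := by
        rw [hC.range_fromSpec]
        exact X.basicOpen_le _ hz
      have hz' : q ∈ hC.fromSpec ⁻¹ᵁ X.basicOpen (φ a) := hz
      rw [hC.fromSpec_preimage_basicOpen] at hz'
      by_contra hzW
      have hq : q ∈ PrimeSpectrum.zeroLocus (J : Set Γ(X, C)) := hJ ▸ hzW
      rw [← PrimeSpectrum.zeroLocus_radical] at hq
      exact hz' (hq hb)
  choose a ha hale using key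
  obtain ⟨t, ht⟩ := hU.elim_finite_subcover (fun C : {C : X.Opens // IsAffineOpen C ∧ C ≤ U} => (C.1 : Set X))
    (fun C => C.1.2) (fun x hx => by
      obtain ⟨_, ⟨C : X.Opens, hC, rfl⟩, hxC, hCU⟩ := X.isBasis_affineOpens.exists_subset_of_mem_open hx U.2
      exact Set.mem_iUnion.2 ⟨⟨C, hC, hCU⟩, hxC⟩)
  let A : Γ(S, V) := ∏ C ∈ t, a C.1 C.2.1 C.2.2
  have hle : ∀ C ∈ t, S.basicOpen A ≤ S.basicOpen (a C.1 C.2.1 C.2.2) := fun C hC => by
    simp only [A]
    rw [← Finset.mul_prod_erase _ _ hC, Scheme.basicOpen_mul]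
    exact inf_le_left
  refine ⟨S.basicOpen A, S.basicOpen_le A, ?_, hV.basicOpen A, fun z hz => ?_⟩
  · refine (S.mem_basicOpen A s hs).2 ?_
    simp only [A, map_prod]
    exact IsUnit.prod_iff.2 fun C _ => (S.mem_basicOpen _ s hs).1 (ha C.1 C.2.1 C.2.2)
  · obtain ⟨C, hC, hzC⟩ := Set.mem_iUnion₂.1 (ht hz.1)
    exact hale C.1 C.2.1 C.2.2 ⟨hzC, hle C hC hz.2⟩

variable (s) in
/-- The stalk of the direct image at `s`. -/
noncomputable abbrev M := ((Scheme.Modules.pushforward f).obj F).presheaf.stalk s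

/-- The local ring at `s` acting at a point over a generisation. -/
noncomputable abbrev σ (y : X) (h : f y ⤳ s) : S.presheaf.stalk s →+* X.presheaf.stalk y :=
  (f.stalkMap y).hom.comp (S.presheaf.stalkSpecializes h).hom

/-- Evaluation at a point over a generisation. -/
noncomputable def ev (y : X) (h : f y ⤳ s) : M f F s →+ F.presheaf.stalk y :=
  (pushStalk f F y).comp (((Scheme.Modules.pushforward f).obj F).presheaf.stalkSpecializes h).hom

theorem ev_germ {V : S.Opens} (hs : s ∈ V) (z : Γ(F, f ⁻¹ᵁ V)) (y : X) (h : f y ⤳ s) :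
    ev f F y h (((Scheme.Modules.pushforward f).obj F).presheaf.germ V s hs z) =
      F.presheaf.germ (f ⁻¹ᵁ V) y (h.mem_open V.2 hs) z := by
  show pushStalk f F y ((((Scheme.Modules.pushforward f).obj F).presheaf.stalkSpecializes h).hom
    (((Scheme.Modules.pushforward f).obj F).presheaf.germ V s hs z)) = _
  erw [TopCat.Presheaf.germ_stalkSpecializes_apply]
  exact pushStalk_germ f F y _ z

theorem σ_germ {V : S.Opens} (hs : s ∈ V) (b : Γ(S, V)) (y : X) (h : f y ⤳ s) :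
    σ f y h (S.presheaf.germ V s hs b) = X.presheaf.germ (f ⁻¹ᵁ V) y (h.mem_open V.2 hs) (f.app V b) := by
  show f.stalkMap y (S.presheaf.stalkSpecializes h (S.presheaf.germ V s hs b)) = _
  erw [TopCat.Presheaf.germ_stalkSpecializes_apply]
  exact Scheme.Hom.germ_stalkMap_apply f V y _ b

theorem ev_smul (y : X) (h : f y ⤳ s) (a : S.presheaf.stalk s) (x : M f F s) :
    ev f F y h (a • x) = σ f y h a • ev f F y h x := by
  show pushStalk f F y ((((Scheme.Modules.pushforward f).obj F).presheaf.stalkSpecializes h).hom (a • x)) = _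
  have e : (((Scheme.Modules.pushforward f).obj F).presheaf.stalkSpecializes h).hom (a • x) =
      S.presheaf.stalkSpecializes h a • (((Scheme.Modules.pushforward f).obj F).presheaf.stalkSpecializes h).hom x := by
    obtain ⟨V, hV, b, rfl⟩ := TopCat.Presheaf.exists_germ_eq S.presheaf a
    obtain ⟨V', hV', z, rfl⟩ := TopCat.Presheaf.exists_germ_eq ((Scheme.Modules.pushforward f).obj F).presheaf x
    rw [← S.presheaf.germ_res_apply (homOfLE (inf_le_left : V ⊓ V' ≤ V)) s ⟨hV, hV'⟩ b,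
      ← ((Scheme.Modules.pushforward f).obj F).presheaf.germ_res_apply (homOfLE (inf_le_right : V ⊓ V' ≤ V')) s
        ⟨hV, hV'⟩ z]
    erw [← PresheafOfModules.germ_smul (R := S.presheaf) ((Scheme.Modules.pushforward f).obj F).val]
    erw [TopCat.Presheaf.germ_stalkSpecializes_apply, TopCat.Presheaf.germ_stalkSpecializes_apply,
      TopCat.Presheaf.germ_stalkSpecializes_apply]
    exact PresheafOfModules.germ_smul (R := S.presheaf) ((Scheme.Modules.pushforward f).obj F).val _ _ _ _ _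
  rw [e]
  exact pushStalk_smul f F y _ _

/-- Every element of the stalk comes from an affine neighbourhood. -/
theorem exists_rep (x : M f F s) {V₀ : S.Opens} (h₀ : s ∈ V₀) :
    ∃ (V : S.Opens) (hs : s ∈ V), IsAffineOpen V ∧ V ≤ V₀ ∧
      ∃ z : Γ(F, f ⁻¹ᵁ V), ((Scheme.Modules.pushforward f).obj F).presheaf.germ V s hs z = x := by
  obtain ⟨V, hV, z, rfl⟩ := TopCat.Presheaf.exists_germ_eq ((Scheme.Modules.pushforward f).obj F).presheaf x
  obtain ⟨_, ⟨C : S.Opens, hC, rfl⟩, hsC, hCV⟩ :=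
    S.isBasis_affineOpens.exists_subset_of_mem_open (a := s) (u := ↑(V ⊓ V₀)) ⟨hV, h₀⟩ (V ⊓ V₀).2
  exact ⟨C, hsC, hC, fun _ h => (hCV h).2,
    ((Scheme.Modules.pushforward f).obj F).presheaf.map (homOfLE fun _ h => (hCV h).1).op z,
    ((Scheme.Modules.pushforward f).obj F).presheaf.germ_res_apply _ s hsC z⟩

/-- The open where a section vanishes. -/
def zlocus {O : X.Opens} (z : Γ(F, O)) : X.Opens :=
  ⨆ (O' : X.Opens) (h : O' ≤ O) (_ : F.presheaf.map (homOfLE h).op z = 0), O'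

theorem germ_eq_zero_of_mem {O : X.Opens} (z : Γ(F, O)) {y : X} (hy : y ∈ zlocus F z) (hyO : y ∈ O) :
    F.presheaf.germ O y hyO z = 0 := by
  simp only [zlocus, Opens.mem_iSup] at hy
  obtain ⟨O', h, h0, hy'⟩ := hy
  rw [← F.presheaf.germ_res_apply (homOfLE h) y hy' z, h0, map_zero]

theorem mem_zlocus {O : X.Opens} (z : Γ(F, O)) {y : X} (hyO : y ∈ O) (h : F.presheaf.germ O y hyO z = 0) :
    y ∈ zlocus F z := by
  obtain ⟨W, hW, i₁, i₂, hW0⟩ := TopCat.Presheaf.germ_eq F.presheaf y hyO hyO z 0 (h.trans (map_zero _).symm)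
  rw [map_zero] at hW0
  simp only [zlocus, Opens.mem_iSup]
  exact ⟨W, i₁.le, hW0, hW⟩

variable [QuasiCompact f]

/-- Detection at the points over the generisations. -/
theorem ext_ev {x : M f F s} (h : ∀ (y : X) (hy : f y ⤳ s), ev f F y hy x = 0) : x = 0 := by
  obtain ⟨V, hs, hV, -, z, rfl⟩ := exists_rep f F x (V₀ := ⊤) trivial
  obtain ⟨V', hle, hs', -, hV'⟩ := exists_nhd_le f (U := f ⁻¹ᵁ V) (f.isCompact_preimage hV.isCompact) hV hs le_rfl
    (zlocus F z) fun y hy hsp => mem_zlocus F z hy ((ev_germ f F hs z y hsp).symm.trans (h y hsp))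
  rw [← ((Scheme.Modules.pushforward f).obj F).presheaf.germ_res_apply (homOfLE hle) s hs' z]
  suffices hz : F.presheaf.map (homOfLE (f.preimage_mono hle)).op z = 0 by
    exact (congrArg (((Scheme.Modules.pushforward f).obj F).presheaf.germ V' s hs') hz).trans (map_zero _)
  refine TopCat.Presheaf.section_ext (⟨F.presheaf, F.isSheaf⟩ : TopCat.Sheaf Ab X) (f ⁻¹ᵁ V') _ _ fun y hy => ?_
  show F.presheaf.germ (f ⁻¹ᵁ V') y hy (F.presheaf.map _ z) = F.presheaf.germ (f ⁻¹ᵁ V') y hy 0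
  rw [F.presheaf.germ_res_apply, map_zero]
  exact germ_eq_zero_of_mem F z (hV' ⟨f.preimage_mono hle hy, hy⟩) _

theorem eq_of_ev {x x' : M f F s} (h : ∀ (y : X) (hy : f y ⤳ s), ev f F y hy x = ev f F y hy x') : x = x' :=
  sub_eq_zero.1 (ext_ev f F fun y hy => by rw [map_sub, h, sub_self])

variable [QuasiSeparated f]

/-- Compatible locally given germs over the generisations come from the stalk. -/
theorem exists_ev (ω : ∀ (y : X), f y ⤳ s → F.presheaf.stalk y)
    (hloc : ∀ (y : X), f y ⤳ s → ∃ (O : X.Opens) (u : Γ(F, O)), y ∈ O ∧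
      ∀ (y' : X) (hy' : f y' ⤳ s) (hO : y' ∈ O), F.presheaf.germ O y' hO u = ω y' hy') :
    ∃ x : M f F s, ∀ (y : X) (hy : f y ⤳ s), ev f F y hy x = ω y hy := by
  classical
  obtain ⟨_, ⟨V : S.Opens, hV, rfl⟩, hs, -⟩ :=
    S.isBasis_affineOpens.exists_subset_of_mem_open (Set.mem_univ s) isOpen_univ
  let Ch := {C : X.Opens // IsAffineOpen C ∧ C ≤ f ⁻¹ᵁ V ∧
    ∃ u : Γ(F, C), ∀ (y : X) (hy : f y ⤳ s) (hC : y ∈ C), F.presheaf.germ C y hC u = ω y hy}
  choose u hu using fun C : Ch => C.2.2.2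
  obtain ⟨V₁, hle₁, hs₁, hV₁, hW₁⟩ := exists_nhd_le f (U := f ⁻¹ᵁ V) (f.isCompact_preimage hV.isCompact) hV hs
    le_rfl (⨆ C : Ch, C.1) fun y hy hsp => by
      obtain ⟨O, v, hyO, hv⟩ := hloc y hsp
      obtain ⟨_, ⟨C : X.Opens, hC, rfl⟩, hyC, hCO⟩ :=
        X.isBasis_affineOpens.exists_subset_of_mem_open (u := ↑(O ⊓ f ⁻¹ᵁ V)) (a := y) ⟨hyO, hy⟩ (O ⊓ f ⁻¹ᵁ V).2
      exact Opens.mem_iSup.2 ⟨⟨C, hC, fun _ h => (hCO h).2,
        F.presheaf.map (homOfLE fun _ h => (hCO h).1).op v, fun y' hy' hC' =>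
        (F.presheaf.germ_res_apply _ y' hC' v).trans (hv y' hy' (hCO hC').1)⟩, hyC⟩
  obtain ⟨t, ht⟩ := (f.isCompact_preimage hV₁.isCompact).elim_finite_subcover (fun C : Ch => (C.1 : Set X))
    (fun C => C.1.2) (fun y hy => by
      simpa using Opens.mem_iSup.1 (hW₁ ⟨f.preimage_mono hle₁ hy, hy⟩))
  have hpair : ∀ C D : Ch, ∃ V' ≤ V, s ∈ V' ∧ ∀ (y : X) (hC : y ∈ C.1) (hD : y ∈ D.1), f y ∈ V' →
      F.presheaf.germ C.1 y hC (u C) = F.presheaf.germ D.1 y hD (u D) := by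
    intro C D
    have hKc : IsCompact ((C.1 ⊓ D.1 : X.Opens) : Set X) :=
      (f.isQuasiSeparated_preimage hV.isQuasiSeparated) _ _ C.2.2.1 C.1.2 C.2.1.isCompact
        D.2.2.1 D.1.2 D.2.1.isCompact
    let d : Γ(F, C.1 ⊓ D.1) := F.presheaf.map (homOfLE inf_le_left).op (u C) -
      F.presheaf.map (homOfLE inf_le_right).op (u D)
    obtain ⟨V', hle, hs', -, hW⟩ := exists_nhd_le f hKc hV hs (inf_le_left.trans C.2.2.1) (zlocus F d)
      fun y hy hsp => mem_zlocus F d hy (by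
        simp only [d, map_sub]
        rw [F.presheaf.germ_res_apply, F.presheaf.germ_res_apply, hu C y hsp, hu D y hsp, sub_self])
    refine ⟨V', hle, hs', fun y hC hD hy => ?_⟩
    have h0 := germ_eq_zero_of_mem F d (hW ⟨⟨hC, hD⟩, hy⟩) ⟨hC, hD⟩
    simp only [d, map_sub] at h0
    rwa [F.presheaf.germ_res_apply, F.presheaf.germ_res_apply, sub_eq_zero] at h0
  choose Vp hVp hsp hcomp using hpair
  let Ve : t × t → S.Opens := fun p => Vp p.1.1 p.2.1
  let V₂ : S.Opens := V₁ ⊓ Finset.univ.inf Ve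
  have hs₂ : s ∈ V₂ := by
    refine ⟨hs₁, ?_⟩
    induction (Finset.univ : Finset (t × t)) using Finset.induction_on with
    | empty => exact trivial
    | insert p T _ ih => rw [Finset.inf_insert]; exact ⟨hsp _ _, ih⟩
  obtain ⟨z, hz, -⟩ := TopCat.Sheaf.existsUnique_gluing' (⟨F.presheaf, F.isSheaf⟩ : TopCat.Sheaf Ab X)
    (fun C : t => C.1.1 ⊓ f ⁻¹ᵁ V₂) (f ⁻¹ᵁ V₂) (fun C => homOfLE inf_le_right) (fun y hy => by
      obtain ⟨C, hC, hyC⟩ := Set.mem_iUnion₂.1 (ht (hy : f y ∈ V₂).1)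
      exact Opens.mem_iSup.2 ⟨⟨C, hC⟩, hyC, hy⟩)
    (fun C => F.presheaf.map (homOfLE inf_le_left).op (u C.1)) fun C D => by
      refine TopCat.Presheaf.section_ext (⟨F.presheaf, F.isSheaf⟩ : TopCat.Sheaf Ab X) _ _ _ fun y hy => ?_
      show F.presheaf.germ _ y hy (F.presheaf.map _ _) = F.presheaf.germ _ y hy (F.presheaf.map _ _)
      rw [F.presheaf.germ_res_apply, F.presheaf.germ_res_apply, F.presheaf.germ_res_apply,
        F.presheaf.germ_res_apply]
      exact hcomp C.1 D.1 y hy.1.1 hy.2.1 ((Finset.inf_le (f := Ve) (Finset.mem_univ (C, D))) hy.1.2.2)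
  refine ⟨((Scheme.Modules.pushforward f).obj F).presheaf.germ V₂ s hs₂ z, fun y hy => ?_⟩
  rw [ev_germ]
  obtain ⟨C, hC, hyC⟩ := Set.mem_iUnion₂.1 (ht (hy.mem_open V₁.2 hs₁ : f y ∈ V₁))
  have hm : y ∈ C.1 ⊓ f ⁻¹ᵁ V₂ := ⟨hyC, hy.mem_open V₂.2 hs₂⟩
  rw [← F.presheaf.germ_res_apply (homOfLE (inf_le_right : C.1 ⊓ f ⁻¹ᵁ V₂ ≤ _)) y hm z]
  erw [hz ⟨C, hC⟩]
  exact (F.presheaf.germ_res_apply _ y hm _).trans (hu C y hy hyC)

/-- Points off the fibre over `s` see a unit in the maximal ideal. -/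
theorem exists_isUnit_σ (hns : s ∉ Set.range fun x => f x) (y : X) (h : f y ⤳ s) :
    ∃ a ∈ maximalIdeal (S.presheaf.stalk s), IsUnit (σ f y h a) := by
  obtain ⟨_, ⟨V : S.Opens, hV, rfl⟩, hs, -⟩ :=
    S.isBasis_affineOpens.exists_subset_of_mem_open (Set.mem_univ s) isOpen_univ
  have hn : ¬ s ⤳ f y := fun h' => hns ⟨y, (h.antisymm h').eq⟩
  rw [specializes_iff_forall_open] at hn
  push Not at hn
  obtain ⟨O, hO, hyO, hsO⟩ := hn
  obtain ⟨b, hb, hyb⟩ := hV.exists_basicOpen_le (V := ⟨O, hO⟩) ⟨f y, hyO⟩ (h.mem_open V.2 hs)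
  refine ⟨S.presheaf.germ V s hs b, fun hu => hsO (hb ((S.mem_basicOpen b s hs).2 hu)), ?_⟩
  rw [σ_germ]
  refine (X.mem_basicOpen (f.app V b) y (h.mem_open V.2 hs)).1 ?_
  rw [← Scheme.preimage_basicOpen]
  exact hyb

/-- The socle of the stalk and of its quotients vanishes off the image. -/
theorem socle (hns : s ∉ Set.range fun x => f x) :
    CAlgBasics.SocleZero (S.presheaf.stalk s) (M f F s) ∧ ∀ r ∈ maximalIdeal (S.presheaf.stalk s),
      IsSMulRegular (M f F s) r → CAlgBasics.SocleZeroMod (S.presheaf.stalk s) (M f F s) r := by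
  classical
  refine ⟨fun x hx => ext_ev f F fun y hy => ?_, fun r _ hreg x hx => ?_⟩
  · obtain ⟨a, ha, hu⟩ := exists_isUnit_σ f hns y hy
    rw [← hu.smul_eq_zero, ← ev_smul, hx a ha, map_zero]
  choose w hw using hx
  choose a₀ ha₀ hu₀ using fun (y : X) (hy : f y ⤳ s) => exists_isUnit_σ f hns y hy
  let ω := fun (y : X) (hy : f y ⤳ s) => (↑(hu₀ y hy).unit⁻¹ : X.presheaf.stalk y) • ev f F y hy (w _ (ha₀ y hy))
  have hcross : ∀ a b (ha : a ∈ maximalIdeal (S.presheaf.stalk s)) (hb : b ∈ maximalIdeal (S.presheaf.stalk s)),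
      a • w b hb = b • w a ha := fun a b ha hb => hreg (by
    show r • (a • w b hb) = r • (b • w a ha)
    rw [smul_comm r a, ← hw b hb, smul_comm r b, ← hw a ha, smul_comm])
  have hω : ∀ (y : X) (hy : f y ⤳ s) a (ha : a ∈ maximalIdeal (S.presheaf.stalk s)),
      σ f y hy a • ω y hy = ev f F y hy (w a ha) := fun y hy a ha => by
    apply (hu₀ y hy).smul_left_cancel.1
    simp only [ω]
    rw [smul_comm (σ f y hy a), smul_smul, (hu₀ y hy).mul_val_inv, one_smul, ← ev_smul, ← ev_smul,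
      hcross a _ ha (ha₀ y hy)]
  obtain ⟨v, hv⟩ := exists_ev f F ω fun y hy => by
    obtain ⟨V, hs, hV, -, z, hz⟩ := exists_rep f F (w _ (ha₀ y hy)) (V₀ := ⊤) trivial
    obtain ⟨V', hs', b, hb⟩ := TopCat.Presheaf.exists_germ_eq S.presheaf (a₀ y hy)
    let b' := f.app V' b
    let O : X.Opens := X.basicOpen b' ⊓ f ⁻¹ᵁ V
    have hOb : O ≤ f ⁻¹ᵁ V' := inf_le_left.trans (X.basicOpen_le _)
    have hbu : IsUnit (X.presheaf.map (homOfLE hOb).op b') := by
      have h1 := X.toRingedSpace.isUnit_res_basicOpen b'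
      have h2 := h1.map (X.presheaf.map (homOfLE (inf_le_left : O ≤ X.basicOpen b')).op).hom
      convert h2 using 1
      show _ = (X.presheaf.map _ ≫ X.presheaf.map _) b'
      rw [← X.presheaf.map_comp]
      rfl
    refine ⟨O, (↑hbu.unit⁻¹ : Γ(X, O)) • F.presheaf.map (homOfLE (inf_le_right : O ≤ f ⁻¹ᵁ V)).op z,
      ⟨?_, hy.mem_open V.2 hs⟩, fun y' hy' hO => ?_⟩
    · refine (X.mem_basicOpen b' y (hy.mem_open V'.2 hs')).2 ?_
      rw [← σ_germ f hs' b y hy, hb]
      exact hu₀ y hy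
    · erw [PresheafOfModules.germ_smul (R := X.presheaf) F.val]
      erw [F.presheaf.germ_res_apply]
      rw [← ev_germ f F hs z y' hy', hz, ← hω y' hy' _ (ha₀ y hy), smul_smul]
      have : σ f y' hy' (a₀ y hy) = X.presheaf.germ O y' hO (X.presheaf.map (homOfLE hOb).op b') := by
        rw [X.presheaf.germ_res_apply, ← hb, σ_germ]
      rw [this, ← map_mul, hbu.val_inv_mul, map_one, one_smul]
  refine ⟨v, eq_of_ev f F fun y hy => ?_⟩
  apply (hu₀ y hy).smul_left_cancel.1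
  rw [← ev_smul, hw _ (ha₀ y hy), ev_smul, ev_smul, hv, ← hω y hy _ (ha₀ y hy), smul_comm]

omit [QuasiCompact f] [QuasiSeparated f] in
theorem regular_ev (hfl : FlatMod.IsFlatOver f F) {rs : List (S.presheaf.stalk s)}
    (hrs : IsWeaklyRegular (S.presheaf.stalk s) rs) (y : X) (h : f y ⤳ s) :
    IsWeaklyRegular (F.presheaf.stalk y) (rs.map (σ f y h)) := by
  let ρ := (S.presheaf.stalkSpecializes h).hom
  letI := ρ.toAlgebra
  haveI : Module.Flat (S.presheaf.stalk s) (S.presheaf.stalk (f y)) :=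
    by
    haveI := Groth.Agent.S5090.isLocalization_stalkSpecializes h
    exact IsLocalization.flat _ ((maximalIdeal (S.presheaf.stalk (f y))).comap (S.presheaf.stalkSpecializes h).hom).primeCompl
  letI := FlatMod.moduleStalkOver f F y
  haveI : Module.Flat (S.presheaf.stalk (f y)) (F.presheaf.stalk y) := hfl y
  have h1 := (hrs.of_flat (S := S.presheaf.stalk (f y))).isWeaklyRegular_rTensor (M₂ := F.presheaf.stalk y)
  have h2 := ((TensorProduct.lid (S.presheaf.stalk (f y)) (F.presheaf.stalk y)).isWeaklyRegular_congr _).1 h1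
  rw [show rs.map (σ f y h) = (rs.map (algebraMap (S.presheaf.stalk s) (S.presheaf.stalk (f y)))).map
    (f.stalkMap y).hom from by rw [List.map_map]; rfl]
  exact ((AddEquiv.refl (F.presheaf.stalk y)).isWeaklyRegular_congr
    (bs := (rs.map (algebraMap (S.presheaf.stalk s) (S.presheaf.stalk (f y)))).map (f.stalkMap y).hom)
    (List.forall₂_map_right_iff.mpr (List.forall₂_same.mpr fun r _ x => rfl))).1 h2

end Prep

/-- Let f : X ⟶ S be quasi-compact and quasi-separated, F a quasi-coherent module on X and s a point of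
S such that the stalk (f_* F)_s is a finite module over O_{S,s}. (3) If s is not in the image of f
and O_{S,s} is Noetherian, then (f_* F)_s has depth at least 2. (6) If F is flat over S, then (f_*
F)_s has depth at least min(2, depth O_{S,s}). -/
theorem result {X S : Scheme.{u}} (f : X ⟶ S) [QuasiCompact f] [QuasiSeparated f] (F : X.Modules)
    (hF : Coh.IsQCoh F) (s : ↥S)
    [Module.Finite (S.presheaf.stalk s) (((Scheme.Modules.pushforward f).obj F).presheaf.stalk s)] :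
    ((s ∉ Set.range (fun x => f x)) → IsNoetherianRing (S.presheaf.stalk s) →
        (2 : ℕ∞) ≤ LocCoh.depth (S.presheaf.stalk s) (((Scheme.Modules.pushforward f).obj F).presheaf.stalk s)) ∧
      (FlatMod.IsFlatOver f F →
        min (2 : ℕ∞) (LocCoh.depth (S.presheaf.stalk s) (S.presheaf.stalk s)) ≤
          LocCoh.depth (S.presheaf.stalk s) (((Scheme.Modules.pushforward f).obj F).presheaf.stalk s)) := by
  refine ⟨fun hns hN => CAlgBasics.two_le_depth_iff.2 (socle f F hns), fun hfl => ?_⟩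
  let A := S.presheaf.stalk s
  by_cases htop : maximalIdeal A • (⊤ : Submodule A (M f F s)) = ⊤
  · refine le_top.trans (le_of_eq ?_)
    show ⊤ = LocCoh.idealDepth _ _
    rw [LocCoh.idealDepth, if_pos htop]
  have hAtop : maximalIdeal A • (⊤ : Submodule A A) ≠ ⊤ := by
    rw [Ideal.smul_top_eq_map, Algebra.algebraMap_self, Ideal.map_id]
    intro h
    exact (maximalIdeal.isMaximal A).ne_top (by simpa using h)
  rcases le_total (2 : ℕ∞) (LocCoh.depth A (M f F s)) with h2 | h2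
  · exact (min_le_left _ _).trans h2
  show min 2 (LocCoh.idealDepth _ _) ≤ LocCoh.idealDepth _ _
  rw [LocCoh.idealDepth, if_neg hAtop, LocCoh.idealDepth, if_neg htop, inf_iSup_eq]
  refine iSup_le fun rs => ?_
  rw [inf_iSup_eq]
  refine iSup_le fun ⟨hreg, hm⟩ => ?_
  rcases rs with _ | ⟨r₁, rs⟩
  · simp
  rw [isWeaklyRegular_cons_iff] at hreg
  have hy1 : ∀ (y : X) (hy : f y ⤳ s), IsSMulRegular (F.presheaf.stalk y) (σ f y hy r₁) := fun y hy =>
    ((isWeaklyRegular_cons_iff _ _ _).1 (regular_ev f F hfl (rs := [r₁])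
      ((isWeaklyRegular_cons_iff _ _ _).2 ⟨hreg.1, IsWeaklyRegular.nil _ _⟩) y hy)).1
  have hM1 : IsSMulRegular (M f F s) r₁ := fun a b hab => eq_of_ev f F fun y hy => hy1 y hy (by
    simp only
    rw [← ev_smul, ← ev_smul]
    exact congrArg _ hab)
  rcases rs with _ | ⟨r₂, rs⟩
  · refine le_trans ?_ (le_iSup₂_of_le [r₁] ⟨(isWeaklyRegular_cons_iff _ _ _).2 ⟨hM1,
      IsWeaklyRegular.nil _ _⟩, hm⟩ le_rfl)
    simp
  rw [isWeaklyRegular_cons_iff] at hreg
  refine le_trans ?_ (le_iSup₂_of_le [r₁, r₂] ⟨(isWeaklyRegular_cons_iff _ _ _).2 ⟨hM1,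
    (isWeaklyRegular_cons_iff _ _ _).2 ⟨?_, IsWeaklyRegular.nil _ _⟩⟩, fun r hr => by rcases List.mem_pair.mp hr with rfl | rfl <;> exact hm _ (by simp)⟩ le_rfl)
  · simp
  have hmem : ∀ {R N : Type u} [CommRing R] [AddCommGroup N] [Module R N] (r : R) (z : N),
      z ∈ r • (⊤ : Submodule R N) ↔ ∃ w : N, r • w = z := fun r z => by
    simp [Submodule.mem_smul_pointwise_iff_exists]
  have hy2 : ∀ (y : X) (hy : f y ⤳ s) (a b : F.presheaf.stalk y),
      σ f y hy r₂ • a = σ f y hy r₁ • b → ∃ c, σ f y hy r₁ • c = a := fun y hy a b hab => by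
    have h := ((isWeaklyRegular_cons_iff _ _ _).1 ((isWeaklyRegular_cons_iff _ _ _).1 (regular_ev f F hfl
      (rs := [r₁, r₂]) ((isWeaklyRegular_cons_iff _ _ _).2 ⟨hreg.1, (isWeaklyRegular_cons_iff _ _ _).2
        ⟨hreg.2.1, IsWeaklyRegular.nil _ _⟩⟩) y hy)).2).1
    rw [← hmem, ← Submodule.Quotient.mk_eq_zero]
    refine IsSMulRegular.right_eq_zero_of_smul h ?_
    rw [← Submodule.Quotient.mk_smul, Submodule.Quotient.mk_eq_zero, hmem]
    exact ⟨b, hab.symm⟩
  rw [isSMulRegular_iff_right_eq_zero_of_smul]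
  intro q hq
  obtain ⟨x, rfl⟩ := Submodule.Quotient.mk_surjective _ q
  rw [← Submodule.Quotient.mk_smul, Submodule.Quotient.mk_eq_zero, hmem] at hq
  obtain ⟨v, hv⟩ := hq
  rw [Submodule.Quotient.mk_eq_zero, hmem]
  choose ω hω using fun (y : X) (hy : f y ⤳ s) => hy2 y hy (ev f F y hy x) (ev f F y hy v)
    (by rw [← ev_smul, ← ev_smul, hv])
  obtain ⟨w, hw⟩ := exists_ev f F ω fun y hy => by
    obtain ⟨V, hs, hV, -, z, hz⟩ := exists_rep f F x (V₀ := ⊤) trivial
    obtain ⟨V', hs', b, hb⟩ := TopCat.Presheaf.exists_germ_eq S.presheaf r₁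
    obtain ⟨O, hyO, c, hc⟩ := TopCat.Presheaf.exists_germ_eq F.presheaf (ω y hy)
    let O₁ : X.Opens := O ⊓ (f ⁻¹ᵁ V ⊓ f ⁻¹ᵁ V')
    have hy₁ : y ∈ O₁ := ⟨hyO, hy.mem_open V.2 hs, hy.mem_open V'.2 hs'⟩
    let c₁ : Γ(F, O₁) := F.presheaf.map (homOfLE inf_le_left).op c
    let z₁ : Γ(F, O₁) := F.presheaf.map (homOfLE (inf_le_right.trans inf_le_left)).op z
    let b₁ : Γ(X, O₁) := X.presheaf.map (homOfLE (inf_le_right.trans inf_le_right)).op (f.app V' b)
    have hg : ∀ (y' : X) (hy' : f y' ⤳ s) (h' : y' ∈ O₁), F.presheaf.germ O₁ y' h' (b₁ • c₁ - z₁) =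
        σ f y' hy' r₁ • F.presheaf.germ O y' h'.1 c - ev f F y' hy' x := fun y' hy' h' => by
      rw [map_sub]
      erw [PresheafOfModules.germ_smul (R := X.presheaf) F.val]
      simp only [c₁, z₁, b₁]
      erw [F.presheaf.germ_res_apply, F.presheaf.germ_res_apply, X.presheaf.germ_res_apply]
      rw [← hz, ev_germ, ← hb, σ_germ]
    have hy0 : y ∈ zlocus F (b₁ • c₁ - z₁) := mem_zlocus F _ hy₁ (by rw [hg y hy, hc, hω, sub_self])
    refine ⟨O₁ ⊓ zlocus F (b₁ • c₁ - z₁), F.presheaf.map (homOfLE (inf_le_left.trans inf_le_left)).op c,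
      ⟨hy₁, hy0⟩, fun y' hy' hO => ?_⟩
    have e := germ_eq_zero_of_mem F _ hO.2 hO.1
    rw [hg y' hy', sub_eq_zero] at e
    rw [F.presheaf.germ_res_apply]
    exact hy1 y' hy' (e.trans (hω y' hy').symm)
  exact ⟨w, eq_of_ev f F fun y hy => by rw [ev_smul, hw, hω]⟩

end Groth.Agent.S1698
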