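import Groth.Statements.S16981
import Mathlib
import Groth.Agent.AdicLemmas.Basic

set_option autoImplicit false
universe u v
open CAlg

namespace Groth.Agent.S16981

/-- Let A be a complete Noetherian local ring and f : E → A a surjective ring homomorphism whose kernel
has square zero and is finitely generated (equivalently, is a finite A-module for the induced module
structure). Then E is separated and complete for the adic topology of the inverse image of the
maximal ideal of A. (The published statement takes A to be the completion of a local ring of a
scheme of finite type over an Artinian local ring and the kernel the completion of a finite module;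
this row assumes only that A is complete Noetherian local and the kernel finitely generated.) -/
theorem result
    {A : Type u} {E : Type v} [CommRing A] [CommRing E] [IsNoetherianRing A] [IsLocalRing A]
    [IsAdicComplete (IsLocalRing.maximalIdeal A) A]
    (f : E →+* A) (hf : Function.Surjective f)
    (hsq : RingHom.ker f ^ 2 = ⊥) (hfg : (RingHom.ker f).FG) :
    IsAdicComplete ((IsLocalRing.maximalIdeal A).comap f) E := by
  set K := RingHom.ker f
  set m := IsLocalRing.maximalIdeal A
  have hKP : ∀ P : Ideal E, P.IsPrime → K ≤ P := fun P hP =>
    hP.le_of_pow_le (n := 2) (hsq ▸ bot_le)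
  have hN : IsNoetherianRing E := by
    refine IsNoetherianRing.of_prime fun P hP => ?_
    obtain ⟨s, hs⟩ := (P.map f).fg_of_isNoetherianRing
    classical
    choose g hg using hf
    have : P = Ideal.span ((s.image g : Finset E) : Set E) ⊔ K := by
      refine le_antisymm ?_ (sup_le (Ideal.span_le.mpr fun x hx => ?_) (hKP P hP))
      · intro x hx
        have hx' : f x ∈ (Ideal.span ((s.image g : Finset E) : Set E)).map f := by
          rw [Ideal.map_span, Finset.coe_image, ← Set.image_comp, show f ∘ g = id from funext hg, Set.image_id]
          rw [hs]; exact Ideal.mem_map_of_mem f hx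
        rw [show (_ ⊔ K) = ((Ideal.span ((s.image g : Finset E) : Set E)).map f).comap f from (Ideal.comap_map_of_surjective f (fun a => ⟨g a, hg a⟩) _).symm]
        exact hx'
      · obtain ⟨a, ha, rfl⟩ := Finset.mem_image.mp hx
        obtain ⟨p, hp, hpa⟩ := (Ideal.mem_map_iff_of_surjective f (fun a => ⟨g a, hg a⟩)).mp
          (show a ∈ P.map f from hs ▸ Submodule.subset_span ha)
        have : g a - p ∈ P := hKP P hP (by rw [RingHom.sub_mem_ker_iff, hg, hpa])
        simpa using add_mem this hp
    rw [this]
    exact Submodule.FG.sup ⟨_, rfl⟩ hfg
  have hKc : IsAdicComplete K E := by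
    have h2 : ∀ n, 2 ≤ n → (K ^ n • ⊤ : Submodule E E) = ⊥ := fun n hn => by
      rw [eq_bot_iff]
      refine (Submodule.smul_mono_left (Ideal.pow_le_pow_right hn)).trans ?_
      rw [hsq]; simp
    have hH : IsHausdorff K E := ⟨fun x hx => by
      have := hx 2; rwa [h2 2 le_rfl, SModEq.bot] at this⟩
    have hP : IsPrecomplete K E := ⟨fun s hs => ⟨s 2, fun n => by
      rcases le_total n 2 with h | h
      · exact hs h
      · have := hs h; rw [h2 2 le_rfl, SModEq.bot] at this; rw [this]⟩⟩
    constructor
  let e : A ≃+* E ⧸ K := (RingHom.quotientKerEquivOfSurjective hf).symm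
  have hmap : (m.comap f).map (Ideal.Quotient.mk K) = m.map e := by
    have he : (e : A →+* E ⧸ K).comp f = Ideal.Quotient.mk K := by
      ext x
      show (RingHom.quotientKerEquivOfSurjective hf).symm (f x) = _
      rw [RingEquiv.symm_apply_eq]
      rfl
    rw [← he, ← Ideal.map_map, Ideal.map_comap_of_surjective f hf]
    rfl
  have : IsAdicComplete ((m.comap f).map (Ideal.Quotient.mk K)) (E ⧸ K) := by
    rw [hmap]; exact (IsAdicComplete.congr_ringEquiv m e).mpr inferInstance
  exact AdicLemmas.isAdicComplete_of_quotient K (m.comap f)

end Groth.Agent.S16981
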