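import Mathlib
import Groth.Agent.S16981
import Groth.Statements.S16982

set_option autoImplicit false
universe u v w w'
open CAlg

namespace Groth.Agent.S16982

/-- Let R be a commutative ring, A a complete Noetherian local R-algebra written as a quotient of a
power series ring over R in finitely many variables by a surjective R-algebra map π, and f : E → A a
surjective R-algebra map whose kernel has square zero and is finitely generated. Then π lifts along
f to an R-algebra map λ from the power series ring to E with f ∘ λ = π. (The published statement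
takes R Artinian local and asks for a lift that is continuous for the adic topologies; this row
allows any commutative R and asks for any lift.) -/
theorem result
    {R : Type u} [CommRing R] {σ : Type v} [Finite σ]
    {A : Type w} {E : Type w'} [CommRing A] [CommRing E] [Algebra R A] [Algebra R E]
    [IsNoetherianRing A] [IsLocalRing A] [IsAdicComplete (IsLocalRing.maximalIdeal A) A]
    (π : MvPowerSeries σ R →ₐ[R] A) (hπ : Function.Surjective π)
    (f : E →ₐ[R] A) (hf : Function.Surjective f)
    (hsq : RingHom.ker f.toRingHom ^ 2 = ⊥) (hfg : (RingHom.ker f.toRingHom).FG) :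
    ∃ l : MvPowerSeries σ R →ₐ[R] E, f.comp l = π := by
  classical
  let m := IsLocalRing.maximalIdeal A
  let n : Ideal E := m.comap f.toRingHom
  have hE : IsAdicComplete n E := Groth.Agent.S16981.result f.toRingHom hf hsq hfg
  let P := MvPolynomial σ R
  let J := MvPolynomial.idealOfVars σ R
  let S := MvPowerSeries σ R
  have hX : ∀ i, π (MvPowerSeries.X i) ∈ m := by
    intro i hu
    obtain ⟨v, hv⟩ := hu
    obtain ⟨w, hw⟩ := hπ (↑v⁻¹ : A)
    have h1 : IsUnit ((1 : S) - MvPowerSeries.X i * w) := by
      rw [MvPowerSeries.isUnit_iff_constantCoeff]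
      simp
    have h2 := h1.map π
    rw [map_sub, map_one, map_mul, hw, ← hv, Units.mul_inv, sub_self] at h2
    exact not_isUnit_zero h2
  choose e he using fun i => hf (π (MvPowerSeries.X i))
  let φ : P →ₐ[R] E := MvPolynomial.aeval e
  have hJ : J.map φ.toRingHom ≤ n := by
    rw [show J = Ideal.span (Set.range MvPolynomial.X) from rfl, Ideal.map_span, Ideal.span_le]
    rintro _ ⟨_, ⟨i, rfl⟩, rfl⟩
    change f (MvPolynomial.aeval e (MvPolynomial.X i)) ∈ m
    rw [MvPolynomial.aeval_X, he]
    exact hX i
  have hJk : ∀ k, J ^ k ≤ (n ^ k).comap φ.toRingHom := fun k => by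
    rw [← Ideal.map_le_iff_le_comap, Ideal.map_pow]
    exact Ideal.pow_right_mono hJ k
  let lev : (k : ℕ) → S →ₐ[R] E ⧸ n ^ k := fun k =>
    (Ideal.quotientMapₐ (n ^ k) φ (hJk k)).comp ((MvPowerSeries.truncTotalAlgHom σ R k).restrictScalars R)
  have hlev : ∀ k g, lev k g = Ideal.Quotient.mk (n ^ k) (φ (MvPowerSeries.truncTotal k g)) :=
    fun k g => rfl
  have hcompat : ∀ {a b : ℕ} (hle : a ≤ b),
      (Ideal.Quotient.factorₐ R (Ideal.pow_le_pow_right hle)).comp (lev b) = lev a := by
    intro a b hle
    ext g
    simp only [AlgHom.comp_apply, hlev]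
    change Ideal.Quotient.mk (n ^ a) (φ (MvPowerSeries.truncTotal b g)) = _
    rw [Ideal.Quotient.eq, ← map_sub]
    exact hJk a (MvPowerSeries.truncTotal_sub_truncTotal_mem_pow_idealOfVars hle le_rfl g)
  let l : S →ₐ[R] E := IsAdicComplete.liftAlgHom n lev hcompat
  let ψ : P →ₐ[R] A := π.comp (MvPolynomial.coeToMvPowerSeries.algHom R)
  have hψ : ψ = f.comp φ := by
    apply MvPolynomial.algHom_ext
    intro i
    simp [ψ, φ, he]
  have hJψ : J.map ψ.toRingHom ≤ m := by
    rw [hψ]
    rw [show ((f.comp φ).toRingHom) = f.toRingHom.comp φ.toRingHom from rfl, ← Ideal.map_map]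
    exact Ideal.map_le_iff_le_comap.2 hJ
  refine ⟨l, AlgHom.ext fun g => ?_⟩
  have hH : IsHausdorff m A := inferInstance
  rw [← sub_eq_zero]
  apply hH.haus
  intro k
  rw [SModEq.zero, smul_eq_mul, Ideal.mul_top]
  -- modulo `m^k` both sides are given by the truncation
  let t : P := MvPowerSeries.truncTotal k g
  have h1 : f (l g) - f (φ t) ∈ m ^ k := by
    have : l g - φ t ∈ n ^ k := by
      rw [← Ideal.Quotient.eq, ← hlev]
      exact IsAdicComplete.mk_liftAlgHom n lev hcompat k g
    have h := Ideal.mem_map_of_mem f.toRingHom this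
    rw [Ideal.map_pow, Ideal.map_comap_of_surjective f.toRingHom hf] at h
    simpa using h
  have h2 : π g - ψ t ∈ m ^ k := by
    let d : S := g - (t : MvPowerSeries σ R)
    let e' := MvPowerSeries.toAdicCompletionAlgEquiv σ R
    have hd : e' d ∈ (J ^ k • ⊤ : Submodule P (AdicCompletion J P)) := by
      rw [AdicCompletion.pow_smul_top_eq_ker_eval (Submodule.fg_span (Set.finite_range _))]
      rw [LinearMap.mem_ker]
      change (e' d).val k = 0
      have : (e' (g : S)).val k = (e' (t : MvPowerSeries σ R)).val k := by
        simp only [e', MvPowerSeries.toAdicCompletionAlgEquiv_apply,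
          MvPowerSeries.toAdicCompletion_apply_eq_mk_truncTotal]
        refine (Submodule.Quotient.eq _).2 ?_
        rw [smul_eq_mul, Ideal.mul_top, MvPolynomial.mem_pow_idealOfVars_iff']
        intro x hx
        rw [MvPolynomial.coeff_sub, MvPowerSeries.coeff_truncTotal _ hx,
          MvPowerSeries.coeff_truncTotal _ hx, MvPolynomial.coeff_coe, sub_eq_zero,
          MvPowerSeries.coeff_truncTotal _ hx]
      simp only [d, map_sub, AdicCompletion.val_sub, Pi.sub_apply, this, sub_self]
    have hd' : d ∈ (J ^ k • ⊤ : Submodule P S) := by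
      have h := Submodule.mem_map_of_mem (f := e'.symm.toLinearMap) hd
      rw [Submodule.map_smul'', Submodule.map_top, LinearMap.range_eq_top.2 e'.symm.surjective] at h
      simpa using h
    rw [Ideal.smul_top_eq_map, Submodule.restrictScalars_mem] at hd'
    have h := Ideal.mem_map_of_mem π.toRingHom hd'
    rw [Ideal.map_map] at h
    have h' : (J ^ k).map ψ.toRingHom ≤ m ^ k := by
      rw [Ideal.map_pow]; exact Ideal.pow_right_mono hJψ k
    have h3 : π d ∈ m ^ k := h' h
    have ht : ψ t = π (t : MvPowerSeries σ R) := congrArg π (by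
      refine (MvPolynomial.coeToMvPowerSeries.algHom_apply (A := R) t).trans ?_
      simp [MvPowerSeries.map_id])
    rw [ht, ← map_sub]
    exact h3
  rw [hψ] at h2
  have := (m ^ k).sub_mem h1 h2
  simpa [sub_sub_sub_cancel_right] using this

end Groth.Agent.S16982
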