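import Groth.Statements.S16986
import Groth.Agent.QuadSchemeLib.Orth

set_option autoImplicit false
universe u
open CategoryTheory AlgebraicGeometry
open QuadGrp

namespace Groth.Agent.S16986

open Groth.Agent.CliffRegLib Groth.Agent.QuadSchemeLib in
theorem isUnit_det_polar {n : ℕ} {R : Type u} [CommRing R] {A : Type u} [CommRing A] [Algebra R A]
    (Q : QuadraticForm R (Fin n → R))
    (hQ : QuadGrp.IsNondeg (Pi.basisFun R (Fin n)) (LinearEquiv.refl R R) Q) (h : Even n ∨ IsUnit (2 : R)) :
    IsUnit (QuadGrpLib.polarOf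
      (algebraMap R A ∘ QuadGrp.coeffs (Pi.basisFun R (Fin n)) (LinearEquiv.refl R R) Q)).det := by
  rw [← QuadGrpLib.map_polarOf, ← RingHom.mapMatrix_apply, ← RingHom.map_det]
  refine IsUnit.map _ ?_
  rcases Nat.even_or_odd n with hn | hn
  · rw [← QuadGrpLib.polarMat_eq_polarOf]
    exact QuadGrpLib.isUnit_det_polarMat _ (hQ.1 hn)
  · rcases h with h | h
    · exact absurd h (Nat.not_even_iff_odd.2 hn)
    · rw [← QuadGrpLib.two_mul_hd hn]
      exact h.mul (hQ.2 hn)

open Groth.Agent.CliffRegLib Groth.Agent.QuadSchemeLib in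
theorem no_lift {m : ℕ} {K A : Type u} [Field K] [CommRing A] (ι : K →+* A) (h2K : (2 : K) = 0)
    (b : Sym2 (Fin (2 * m + 1)) → K) (hhd : QuadGrpLib.hd b ≠ 0) (ε : A) (hε : ε ^ 3 = 0)
    (hinj : ∀ c, ε ^ 2 * ι c = 0 → c = 0) :
    ∃ (I : Ideal A) (gb : Matrix (Fin (2 * m + 1)) (Fin (2 * m + 1)) (A ⧸ I)), I ^ 2 = ⊥ ∧
      IsIsom (Ideal.Quotient.mk I ∘ (ι ∘ b)) gb ∧
      ∀ g, IsIsom (ι ∘ b) g → g.map (Ideal.Quotient.mk I) ≠ gb := by
  classical
  obtain ⟨z, hz, hPz⟩ := Matrix.exists_mulVec_eq_zero_iff.2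
    (show (QuadGrpLib.polarOf b).det = 0 by rw [← QuadGrpLib.two_mul_hd ⟨m, rfl⟩, h2K, zero_mul])
  have hQz : dotProduct z (Matrix.mulVec (upMat b) z) ≠ 0 := fun h => hhd (hd_eq_zero_of_null b z hz hPz h)
  obtain ⟨i, hi⟩ := Function.ne_iff.1 hz
  let I : Ideal A := Ideal.span {ε ^ 2}
  have hI : I ^ 2 = ⊥ := by
    rw [Ideal.span_singleton_pow, Ideal.span_singleton_eq_bot]
    linear_combination ε * hε
  set aA : Sym2 (Fin (2 * m + 1)) → A := ι ∘ b with haA'
  set U := upMat aA with hU
  have hU' : U = (upMat b).map ι := by rw [hU, haA', QuadSplitLib.map_upMat ι]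
  let φ : Fin (2 * m + 1) → K := Pi.single i (z i)⁻¹
  have hφ : dotProduct φ z = 1 := by rw [single_dotProduct, inv_mul_cancel₀ hi]
  let k : Matrix (Fin (2 * m + 1)) (Fin (2 * m + 1)) A := ε • (Matrix.vecMulVec z φ).map ι
  let g₀ : Matrix (Fin (2 * m + 1)) (Fin (2 * m + 1)) A := 1 + k
  have hPk : QuadGrpLib.polarOf aA * k = 0 := by
    rw [Matrix.mul_smul, haA', ← QuadGrpLib.map_polarOf, ← Matrix.map_mul, Matrix.mul_vecMulVec, hPz]
    have : Matrix.vecMulVec (0 : Fin (2 * m + 1) → K) φ = 0 := by ext r s; simp [Matrix.vecMulVec]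
    rw [this, Matrix.map_zero _ (map_zero ι), smul_zero]
  have hkk : ∀ r s, (k.transpose * U * k) r s ∈ I := fun r s => by
    have : k.transpose * U * k =
        (ε ^ 2) • (((Matrix.vecMulVec z φ).map ι).transpose * U * (Matrix.vecMulVec z φ).map ι) := by
      rw [Matrix.transpose_smul, Matrix.smul_mul, Matrix.smul_mul, Matrix.mul_smul, smul_smul, pow_two]
    rw [this, Matrix.smul_apply]
    exact I.mul_mem_right _ (Ideal.mem_span_singleton_self _)
  have hco : QuadGrpLib.co (g₀.transpose * U * g₀) = aA + QuadGrpLib.co (k.transpose * U * k) := by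
    rw [Matrix.transpose_add, Matrix.transpose_one,
      show (1 + k.transpose) * U * (1 + k) = U + (k.transpose * U + U * k) + k.transpose * U * k by noncomm_ring,
      co_add, co_add, co_add, ← co_transpose (k.transpose * U), Matrix.transpose_mul, Matrix.transpose_transpose,
      ← co_add, ← Matrix.add_mul, add_comm U.transpose, hU, upMat_add_transpose', hPk, co_upMat]
    have h0 : QuadGrpLib.co (0 : Matrix (Fin (2 * m + 1)) (Fin (2 * m + 1)) A) = 0 := by
      have := co_smul (0 : A) (0 : Matrix (Fin (2 * m + 1)) (Fin (2 * m + 1)) A)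
      rwa [zero_smul, zero_smul] at this
    rw [h0, add_zero]
  have hdet : IsUnit g₀.det := by
    refine IsUnit.map Matrix.detMonoidHom (IsNilpotent.isUnit_one_add ⟨3, ?_⟩)
    rw [show k = ε • (Matrix.vecMulVec z φ).map ι from rfl, smul_pow, hε, zero_smul]
  let gb := g₀.map (Ideal.Quotient.mk I)
  have hgb : IsIsom (Ideal.Quotient.mk I ∘ aA) gb := by
    refine ⟨?_, ?_⟩
    · rw [show gb.det = Ideal.Quotient.mk I g₀.det from (RingHom.map_det _ _).symm]
      exact hdet.map _
    · have h := QuadGrpLib.map_co (Ideal.Quotient.mk I) (g₀.transpose * U * g₀)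
      rw [Matrix.map_mul, Matrix.map_mul, Matrix.transpose_map, hU, QuadSplitLib.map_upMat (Ideal.Quotient.mk I)] at h
      refine Eq.trans h.symm (funext fun q => ?_)
      rw [Function.comp_apply, ← hU, hco, Pi.add_apply, map_add]
      refine (add_eq_left.2 (Ideal.Quotient.eq_zero_iff_mem.2 ?_)).trans rfl
      induction q using Sym2.ind with
      | h r s =>
        rw [QuadGrpLib.co_mk]
        split_ifs
        · exact hkk _ _
        · exact I.add_mem (hkk _ _) (hkk _ _)
  refine ⟨I, gb, hI, hgb, fun g hiso hmap => hQz (hinj _ ?_)⟩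
  have hdiff : ∀ r s, g r s - g₀ r s ∈ I := fun r s =>
    Ideal.Quotient.eq.1 (congrFun (congrFun hmap r) s)
  let zA : Fin (2 * m + 1) → A := ι ∘ z
  let w := Matrix.mulVec (g - g₀) zA
  have hgz : Matrix.mulVec g zA = (1 + ε) • zA + w := by
    have h0 : Matrix.mulVec g₀ zA = (1 + ε) • zA := by
      rw [Matrix.add_mulVec, Matrix.one_mulVec, add_smul, one_smul, Matrix.smul_mulVec]
      congr 2
      funext r
      have := RingHom.map_mulVec ι (Matrix.vecMulVec z φ) z r
      rw [Matrix.vecMulVec_mulVec, hφ] at this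
      exact this.symm.trans (congrArg ι (by simp))
    rw [← h0, ← Matrix.add_mulVec, add_sub_cancel]
  have hw : ∀ r, w r ∈ I := fun r => show ∑ s, (g r s - g₀ r s) * zA s ∈ I from
    Ideal.sum_mem _ fun s _ => I.mul_mem_right _ (hdiff r s)
  have hq : dotProduct (Matrix.mulVec g zA) (Matrix.mulVec U (Matrix.mulVec g zA)) =
      dotProduct zA (Matrix.mulVec U zA) := by
    have e1 : ∀ (M : Matrix (Fin (2 * m + 1)) (Fin (2 * m + 1)) A) (v : Fin (2 * m + 1) → A),
        qf (QuadGrpLib.co M) v = dotProduct v (Matrix.mulVec M v) := fun M v => by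
      rw [qf_co, LinearMap.BilinMap.toQuadraticMap_apply, Matrix.toBilin'_apply']
    have h : qf (QuadGrpLib.co (g.transpose * upMat aA * g)) zA = qf aA zA :=
      congrArg (fun t => qf t zA) hiso.2
    rw [e1] at h
    rw [show qf aA zA = dotProduct zA (Matrix.mulVec U zA) by rw [← e1, hU, co_upMat]] at h
    rw [← h, ← hU, ← Matrix.mulVec_mulVec, ← Matrix.mulVec_mulVec, Matrix.dotProduct_mulVec zA g.transpose,
      Matrix.vecMul_transpose]
  have hP : ∀ v, dotProduct zA (Matrix.mulVec U v) + dotProduct v (Matrix.mulVec U zA) = 0 := fun v => by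
    rw [Matrix.dotProduct_mulVec, ← Matrix.mulVec_transpose, dotProduct_comm, ← dotProduct_add,
      ← Matrix.add_mulVec, add_comm U.transpose, hU, upMat_add_transpose', haA', ← QuadGrpLib.map_polarOf,
      show Matrix.mulVec ((QuadGrpLib.polarOf b).map ι) zA = ι ∘ Matrix.mulVec (QuadGrpLib.polarOf b) z from
        funext fun r => (RingHom.map_mulVec ι _ z r).symm, hPz]
    simp
  have hww : dotProduct w (Matrix.mulVec U w) = 0 :=
    Finset.sum_eq_zero fun r _ => mul_eq_zero_of_mem hI (hw r)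
      (show ∑ s, U r s * w s ∈ I from Ideal.sum_mem _ fun s _ => I.mul_mem_left _ (hw s))
  have hQz' : dotProduct zA (Matrix.mulVec U zA) = ι (dotProduct z (Matrix.mulVec (upMat b) z)) := by
    rw [RingHom.map_dotProduct, hU', show Matrix.mulVec ((upMat b).map ι) zA = ι ∘ Matrix.mulVec (upMat b) z from
        funext fun r => (RingHom.map_mulVec ι _ z r).symm]
  have h2A : (2 : A) = 0 := by rw [← map_ofNat ι 2, h2K, map_zero]
  rw [hgz] at hq
  simp only [Matrix.mulVec_add, Matrix.mulVec_smul, add_dotProduct, dotProduct_add, smul_dotProduct,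
    dotProduct_smul, smul_eq_mul, hww, add_zero] at hq
  have key : ε ^ 2 * ι (dotProduct z (Matrix.mulVec (upMat b) z)) = 0 := by
    rw [← hQz']
    linear_combination hq - (1 + ε) * hP w - ε * dotProduct zA (Matrix.mulVec U zA) * h2A
  exact key

open Groth.Agent.CliffRegLib Groth.Agent.QuadSchemeLib in
theorem not_lifts {m : ℕ} {R : Type u} [CommRing R] (Q : QuadraticForm R (Fin (2 * m + 1) → R))
    (hQ : QuadGrp.IsSemiregular (Pi.basisFun R (Fin (2 * m + 1))) (LinearEquiv.refl R R) Q)
    (h2 : ¬ IsUnit (2 : R)) : ¬ Lifts (eqns Q false) := by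
  classical
  intro hL
  obtain ⟨p, hp, h2p⟩ := exists_max_ideal_of_mem_nonunits h2
  letI := Ideal.Quotient.field p
  set a : Sym2 (Fin (2 * m + 1)) → R :=
    QuadGrp.coeffs (Pi.basisFun R (Fin (2 * m + 1))) (LinearEquiv.refl R R) Q with ha
  have h2K : (2 : R ⧸ p) = 0 := by
    rw [← map_ofNat (Ideal.Quotient.mk p) 2]
    exact Ideal.Quotient.eq_zero_iff_mem.2 h2p
  have hhd : QuadGrpLib.hd (Ideal.Quotient.mk p ∘ a) ≠ 0 := by
    rw [← QuadGrpLib.map_hd]
    exact (IsUnit.map (Ideal.Quotient.mk p) hQ).ne_zero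
  obtain ⟨I, gb, hI, hgb, hno⟩ := no_lift
    (A := Polynomial (R ⧸ p) ⧸ Ideal.span {(Polynomial.X : Polynomial (R ⧸ p)) ^ 3})
    ((Ideal.Quotient.mk _).comp Polynomial.C) h2K (Ideal.Quotient.mk p ∘ a) hhd
    (Ideal.Quotient.mk _ Polynomial.X)
    (by rw [← map_pow]; exact Ideal.Quotient.eq_zero_iff_mem.2 (Ideal.mem_span_singleton_self _))
    (fun c hc => by
      rw [← map_pow, RingHom.comp_apply, ← map_mul, Ideal.Quotient.eq_zero_iff_mem, Ideal.mem_span_singleton,
        Polynomial.X_pow_dvd_iff] at hc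
      have := hc 2 (by norm_num)
      rwa [mul_comm, Polynomial.coeff_C_mul_X_pow, if_pos rfl] at this)
  obtain ⟨x', hx', hxx⟩ := hL (Polynomial (R ⧸ p) ⧸ Ideal.span {(Polynomial.X : Polynomial (R ⧸ p)) ^ 3}) I hI
    (fun o => o.elim (↑hgb.1.unit⁻¹) fun q => gb q.1 q.2)
    ((eqns_iff Q false _).2 ⟨hgb, IsUnit.mul_val_inv hgb.1, by simp⟩)
  exact hno _ ((eqns_iff Q false x').1 hx').1 (Matrix.ext fun r s => congrFun hxx (some (r, s)))

/-- Let Q be a quadratic form on R^n, n ≥ 1, over a commutative ring R, non-degenerate in the sense that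
its polar form is a perfect pairing when n is even and its half-discriminant (in the standard basis)
is a unit when n is odd, and let G be a group scheme over Spec R which is the orthogonal group of Q
(its A-valued points are the isometries of the base change Q_A, naturally in the R-algebra A). Then
G is smooth over Spec R if and only if n is even or 2 is a unit in R. (The published statement is
for a line-bundle-valued form on a vector bundle over an arbitrary scheme; the case of a free module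
over an affine base with trivialised values is stated.) -/
theorem result (R : Type u) [CommRing R] (n : ℕ) (hn : 1 ≤ n)
    (Q : QuadraticForm R (Fin n → R))
    (hQ : QuadGrp.IsNondeg (Pi.basisFun R (Fin n)) (LinearEquiv.refl R R) Q)
    (G : Over (Spec (CommRingCat.of R))) [GrpObj G] (D : QuadGrp.OrthRep Q G) :
    AlgebraicGeometry.Smooth G.hom ↔ (Even n ∨ IsUnit (2 : R)) := by
  obtain ⟨D'⟩ := QuadSchemeLib.exists_model_orth D
  rw [D'.smooth_iff.1]
  constructor
  · intro hL
    by_contra h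
    push Not at h
    obtain ⟨m, rfl⟩ := Nat.not_even_iff_odd.1 h.1
    exact not_lifts Q (hQ.2 ⟨m, rfl⟩) h.2 hL
  · intro h
    refine QuadSchemeLib.lifts_of false fun A _ _ I hI gb hgb _ => ?_
    obtain ⟨g, hg, hmap⟩ := QuadSchemeLib.exists_lift_regular hI _ (isUnit_det_polar Q hQ h) gb hgb
    exact ⟨g, hg, by simp, hmap⟩

end Groth.Agent.S16986
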