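import Groth.Statements.S16987
import Groth.Agent.QuadSchemeLib.Orth

set_option autoImplicit false
universe u
open CategoryTheory AlgebraicGeometry
open QuadGrp

namespace Groth.Agent.S16987

/-- Let Q be a quadratic form on R^n, n ≥ 1, over a commutative ring R, non-degenerate (perfect polar
pairing for even n, unit half-discriminant in the standard basis for odd n), and let G be a group
scheme over Spec R which is the naive special orthogonal group of Q (its A-valued points are the
isometries of Q_A of determinant one, naturally in A). If n is odd or 2 is a unit in R, then G is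
smooth over Spec R. (The published statement also asserts the converse, that smoothness forces n odd
or 2 a unit; the converse fails over any base of characteristic 2: there every isometry of a
non-degenerate form of even rank has determinant one, so the naive group is the whole orthogonal
group, which is smooth — for instance the split form x₀x₁ over the field with two elements. Only the
implication the published proof establishes is stated. The published statement is for a
line-bundle-valued form on a vector bundle over an arbitrary scheme; the free affine case is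
stated.) -/
theorem result (R : Type u) [CommRing R] (n : ℕ) (hn : 1 ≤ n)
    (Q : QuadraticForm R (Fin n → R))
    (hQ : QuadGrp.IsNondeg (Pi.basisFun R (Fin n)) (LinearEquiv.refl R R) Q)
    (G : Over (Spec (CommRingCat.of R))) [GrpObj G] (D : QuadGrp.SOrth'Rep Q G)
    (h : Odd n ∨ IsUnit (2 : R)) :
    AlgebraicGeometry.Smooth G.hom := by
  obtain ⟨D'⟩ := QuadSchemeLib.exists_model_sorth' D
  rw [D'.smooth_iff.1]
  refine QuadSchemeLib.lifts_of true fun A _ _ I hI gb hgb hdet => ?_
  rcases Nat.even_or_odd n with hn' | hn'
  · have h2 : IsUnit (2 : A) := by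
      rw [← map_ofNat (algebraMap R A) 2]
      exact IsUnit.map _ (h.resolve_left (Nat.not_odd_iff_even.2 hn'))
    have hu : IsUnit (QuadGrpLib.polarOf
        (algebraMap R A ∘ QuadGrp.coeffs (Pi.basisFun R (Fin n)) (LinearEquiv.refl R R) Q)).det := by
      rw [← QuadGrpLib.map_polarOf, ← RingHom.mapMatrix_apply, ← RingHom.map_det]
      refine IsUnit.map _ ?_
      rw [← QuadGrpLib.polarMat_eq_polarOf]
      exact QuadGrpLib.isUnit_det_polarMat _ (hQ.1 hn')
    obtain ⟨g, hg, hmap⟩ := QuadSchemeLib.exists_lift_regular hI _ hu gb hgb
    exact ⟨g, hg, fun hs => QuadSchemeLib.det_eq_one_of_lift hI h2 _ hu hg (by rw [hmap]; exact hdet hs), hmap⟩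
  · obtain ⟨m, rfl⟩ := hn'
    have hu : IsUnit (QuadGrpLib.hd
        (algebraMap R A ∘ QuadGrp.coeffs (Pi.basisFun R (Fin (2 * m + 1))) (LinearEquiv.refl R R) Q)) := by
      rw [← QuadGrpLib.map_hd]
      exact IsUnit.map _ (hQ.2 ⟨m, rfl⟩)
    obtain ⟨g, hg, hd, hmap⟩ := QuadSchemeLib.exists_lift_odd hI _ hu gb hgb (hdet rfl)
    exact ⟨g, hg, fun _ => hd, hmap⟩

end Groth.Agent.S16987
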