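import Groth.Statements.S16989
import Groth.Agent.CliffRegLib.DicksonDet

set_option autoImplicit false
universe u v
open QuadGrp

namespace Groth.Agent.S16989

/-- Over a commutative ring with connected prime spectrum, for a quadratic form Q on a finite free
module of even rank 2m ≥ 2 whose polar form is a perfect pairing, an isometry of Q which does not
satisfy the Dickson condition has determinant −1. (The published statement is the identity of
homomorphisms to μ₂ expressing the determinant on the orthogonal group as the composite of the
Dickson invariant with the map from the constant group ℤ/2 sending 1 to −1. Over a disconnected base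
an isometry may satisfy the Dickson condition on one component only, so connectedness of the base is
needed for this points-level form.) -/
theorem result {R : Type u} [CommRing R] (hc : ConnectedSpace (PrimeSpectrum R))
    {M : Type v} [AddCommGroup M] [Module R M] [Module.Free R M] [Module.Finite R M]
    (m : ℕ) (hm : 1 ≤ m) (hM : Module.finrank R M = 2 * m) (Q : QuadraticForm R M) (hQ : QuadGrp.IsRegular Q)
    (g : M ≃ₗ[R] M) (hg : g ∈ QuadGrp.O Q) (hD : ¬ QuadGrp.IsDicksonTrivial Q g hg) :
    LinearEquiv.det g = -1 := by
  haveI : Nontrivial R := by
    by_contra h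
    haveI := not_nontrivial_iff_subsingleton.1 h
    have := hc.toNonempty
    exact this.elim fun p => p.isPrime.ne_top (Ideal.eq_top_of_isUnit_mem _ p.asIdeal.zero_mem (isUnit_of_subsingleton _))
  obtain ⟨ε, hε, hdet, hiff⟩ := CliffRegLib.exists_dickson_det hm hM hQ g hg
  have h0 : ε = 0 ∨ ε = 1 := by
    have he : IsIdempotentElem ε := hε
    rcases isClopen_iff.1 (PrimeSpectrum.isClopen_iff.2 ⟨ε, he, rfl⟩ :
      IsClopen (PrimeSpectrum.basicOpen ε : Set (PrimeSpectrum R))) with h | h
    · refine Or.inl (PrimeSpectrum.basicOpen_injOn_isIdempotentElem he IsIdempotentElem.zero ?_)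
      rw [PrimeSpectrum.basicOpen_zero]
      exact TopologicalSpace.Opens.coe_eq_empty.1 h
    · refine Or.inr (PrimeSpectrum.basicOpen_injOn_isIdempotentElem he IsIdempotentElem.one ?_)
      rw [PrimeSpectrum.basicOpen_one]
      exact TopologicalSpace.Opens.coe_eq_univ.1 h
  rcases h0 with h | h
  · apply Units.ext
    rw [hdet, h, mul_zero, zero_sub, Units.val_neg, Units.val_one]
  · exact absurd (hiff.2 h) hD

end Groth.Agent.S16989
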