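import Groth.Statements.S16990
import Groth.Agent.CliffRegLib.DicksonDet

set_option autoImplicit false
universe u v
open QuadGrp

namespace Groth.Agent.S16990

/-- Comparison with SO′: over a commutative ring in which 2 is invertible, for a quadratic form Q on a
finite free module of even rank 2m ≥ 2 whose polar form is a perfect pairing, the isometries
satisfying the Dickson condition are exactly the isometries of determinant one. -/
theorem result {R : Type u} [CommRing R] [Invertible (2 : R)]
    {M : Type v} [AddCommGroup M] [Module R M] [Module.Free R M] [Module.Finite R M]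
    (m : ℕ) (hm : 1 ≤ m) (hM : Module.finrank R M = 2 * m) (Q : QuadraticForm R M) (hQ : QuadGrp.IsRegular Q) :
    QuadGrp.SOeven Q = QuadGrp.SO' Q := by
  ext g
  constructor
  · rintro ⟨hg, hD⟩
    refine ⟨hg, MonoidHom.mem_ker.2 ?_⟩
    rcases subsingleton_or_nontrivial R with hR | hR
    · exact CliffRegLib.det_eq_one_of_subsingleton g
    obtain ⟨ε, -, hdet, hiff⟩ := CliffRegLib.exists_dickson_det hm hM hQ g hg
    refine Units.ext ?_
    rw [hdet, hiff.1 hD, Units.val_one]
    norm_num
  · rintro ⟨hg, hdet'⟩
    refine ⟨hg, ?_⟩
    rcases subsingleton_or_nontrivial R with hR | hR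
    · intro z _
      haveI : Subsingleton (CliffordAlgebra Q) := Module.subsingleton R _
      exact Subsingleton.elim _ _
    obtain ⟨ε, -, hdet, hiff⟩ := CliffRegLib.exists_dickson_det hm hM hQ g hg
    refine hiff.2 ((isUnit_of_invertible (2 : R)).mul_left_cancel ?_)
    rw [MonoidHom.mem_ker.1 hdet', Units.val_one] at hdet
    linear_combination -hdet

end Groth.Agent.S16990
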