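import Groth.Statements.S16991
import Groth.Agent.QuadGrpLib.Polar
import Mathlib.Algebra.CharP.Two
import Mathlib.Algebra.Field.ZMod

set_option autoImplicit false
universe u v
open QuadGrp

namespace Groth.Agent.S16991

open Matrix MvPolynomial in
theorem pf_congr_aux {R : Type u} [CommRing R] [CharP R 2] {n : ℕ}
    (B G : Matrix (Fin n) (Fin n) R) :
    QuadGrpLib.pf (G.transpose * (B + B.transpose) * G) = G.det * QuadGrpLib.pf (B + B.transpose) := by
  classical
  let U := MvPolynomial ((Fin n × Fin n) ⊕ (Fin n × Fin n)) (ZMod 2)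
  have h2U : (2 : U) = 0 := by
    rw [← map_ofNat C 2, show (2 : ZMod 2) = 0 from rfl, map_zero]
  haveI : Fact (Nat.Prime 2) := ⟨Nat.prime_two⟩
  let B₀ : Matrix (Fin n) (Fin n) U := Matrix.of fun i j => X (Sum.inl (i, j))
  let G₀ : Matrix (Fin n) (Fin n) U := Matrix.of fun i j => X (Sum.inr (i, j))
  have hd : ∀ (A : Matrix (Fin n) (Fin n) U) i, (A + A.transpose) i i = 0 := fun A i => by
    rw [Matrix.add_apply, Matrix.transpose_apply, ← two_mul, h2U, zero_mul]
  have hs : ∀ (A : Matrix (Fin n) (Fin n) U) i j, (A + A.transpose) i j = (A + A.transpose) j i :=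
    fun A i j => by simp only [Matrix.add_apply, Matrix.transpose_apply, add_comm]
  have hconj : G₀.transpose * (B₀ + B₀.transpose) * G₀ =
      G₀.transpose * B₀ * G₀ + (G₀.transpose * B₀ * G₀).transpose := by
    rw [Matrix.transpose_mul, Matrix.transpose_mul, Matrix.transpose_transpose, Matrix.mul_add,
      Matrix.add_mul, Matrix.mul_assoc G₀.transpose B₀.transpose]
  have huniv : QuadGrpLib.pf (G₀.transpose * (B₀ + B₀.transpose) * G₀) =
      G₀.det * QuadGrpLib.pf (B₀ + B₀.transpose) := by
    set p := QuadGrpLib.pf (G₀.transpose * (B₀ + B₀.transpose) * G₀) with hp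
    set q := G₀.det * QuadGrpLib.pf (B₀ + B₀.transpose) with hq
    have h : p ^ 2 = q ^ 2 := by
      rw [hp, hq, mul_pow, ← QuadGrpLib.det_eq_pf_sq h2U _ (hd B₀) (hs B₀),
        ← QuadGrpLib.det_eq_pf_sq h2U _ (by rw [hconj]; exact hd _) (by rw [hconj]; exact hs _),
        Matrix.det_mul, Matrix.det_mul, Matrix.det_transpose]
      ring
    have : (p - q) ^ 2 = 0 := by linear_combination h + (-p * q + q ^ 2) * h2U
    exact sub_eq_zero.1 (pow_eq_zero_iff two_ne_zero |>.1 this)
  let ι : ZMod 2 →+* R := ZMod.castHom (dvd_refl 2) R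
  let f : U →+* R := eval₂Hom ι (Sum.elim (fun p => B p.1 p.2) fun p => G p.1 p.2)
  have hB : B₀.map f = B := by ext i j; exact eval₂Hom_X' _ _ _
  have hG : G₀.map f = G := by ext i j; exact eval₂Hom_X' _ _ _
  have hpf : ∀ A : Matrix (Fin n) (Fin n) U, f (QuadGrpLib.pf A) = QuadGrpLib.pf (A.map f) := fun A => by
    simp only [QuadGrpLib.pf, map_sum, map_prod, Matrix.map_apply]
  have h := congrArg f huniv
  rw [map_mul, hpf, hpf, RingHom.map_det, RingHom.mapMatrix_apply, Matrix.map_mul, Matrix.map_mul,
    Matrix.map_add f (map_add f), Matrix.transpose_map, Matrix.transpose_map, hB, hG] at h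
  exact h

/-- Over a commutative ring in which 2 = 0, for a quadratic form Q on a finite free module of even rank
2m ≥ 2 whose polar form is a perfect pairing, every isometry of Q has determinant one. (The
published statement is the equality of the naive special orthogonal group with the orthogonal group
on fibres in characteristic 2; its proof gives this equality over every base of characteristic 2,
which is the form stated.) -/
theorem result {R : Type u} [CommRing R] [CharP R 2]
    {M : Type v} [AddCommGroup M] [Module R M] [Module.Free R M] [Module.Finite R M]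
    (m : ℕ) (hm : 1 ≤ m) (hM : Module.finrank R M = 2 * m) (Q : QuadraticForm R M) (hQ : QuadGrp.IsRegular Q) :
    QuadGrp.O Q = QuadGrp.SO' Q := by
  classical
  refine le_antisymm (fun g hg => ⟨hg, ?_⟩) inf_le_left
  haveI : Nontrivial R := CharP.nontrivial_of_char_ne_one (by norm_num : (2 : ℕ) ≠ 1)
  let b := Module.finBasisOfFinrankEq R M hM
  obtain ⟨B, hB⟩ := LinearMap.BilinMap.toQuadraticMap_surjective Q
  have h2 : (2 : R) = 0 := CharTwo.two_eq_zero
  let B' : Matrix (Fin (2 * m)) (Fin (2 * m)) R := Matrix.of fun i j => B (b i) (b j)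
  have hP : QuadGrpLib.polarMat b Q = B' + B'.transpose := by
    ext i j
    rw [QuadGrpLib.polarMat, Matrix.of_apply, ← hB, LinearMap.BilinMap.polar_toQuadraticMap]
    rfl
  have h := pf_congr_aux B' (LinearMap.toMatrix b b g.toLinearMap)
  rw [← hP, QuadGrpLib.polarMat_isometry b Q g hg] at h
  have hu : IsUnit (QuadGrpLib.pf (QuadGrpLib.polarMat b Q)) := by
    have hd := QuadGrpLib.isUnit_det_polarMat b hQ
    rw [QuadGrpLib.det_eq_pf_sq h2 _ (fun i => by
        rw [hP, Matrix.add_apply, Matrix.transpose_apply, ← two_mul, h2, zero_mul])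
      (fun i j => by rw [hP]; simp only [Matrix.add_apply, Matrix.transpose_apply, add_comm])] at hd
    exact (isUnit_pow_iff two_ne_zero).1 hd
  change LinearEquiv.det g = 1
  apply Units.ext
  rw [LinearEquiv.coe_det, Units.val_one, ← LinearMap.det_toMatrix b]
  exact (hu.mul_right_cancel ((one_mul _).trans h)).symm

end Groth.Agent.S16991
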