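import Groth.Statements.S16996
import Groth.Agent.CliffRegLib.OddInner

set_option autoImplicit false
universe u v
open QuadGrp

namespace Groth.Agent.S16996

/-- Points over a local ring: over a local ring, let Q be a quadratic form on a finite free module M
with a basis indexed by Fin (2m+1) whose half-discriminant in that basis is a unit. Then every unit
of the Clifford algebra C(Q) normalising M is the product of a central unit of C(Q) and a point of
the even Clifford group (an even, locally homogeneous unit normalising M). (The published statement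
is the equality GPin′(q) = Z_q^× ×^{G_m} GSpin(q) of group schemes, a Zariski-local product
decomposition; over a local base it is the factorisation given.) -/
theorem result {R : Type u} [CommRing R] [IsLocalRing R]
    {M : Type v} [AddCommGroup M] [Module R M] [Module.Free R M] [Module.Finite R M]
    (m : ℕ) (b : Module.Basis (Fin (2 * m + 1)) R M) (Q : QuadraticForm R M)
    (hQ : QuadGrp.IsSemiregular b (LinearEquiv.refl R R) Q)
    (u' : (CliffordAlgebra Q)ˣ) (hu' : u' ∈ QuadGrp.GPin' Q) :
    ∃ z : CliffordAlgebra Q, z ∈ Subalgebra.center R (CliffordAlgebra Q) ∧ IsUnit z ∧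
      ∃ u ∈ QuadGrp.GSpin Q, (u' : CliffordAlgebra Q) = z * u := by
  obtain ⟨g, hg, -, hc'⟩ := CliffRegLib.exists_conj_isometry b hu'
  obtain ⟨u, hu, -, hc⟩ :=
    CliffRegLib.exists_GSpin_conj b hQ g hg (CliffRegLib.det_eq_one_of_conj b hQ hg hc')
  refine ⟨(u' * u⁻¹ : (CliffordAlgebra Q)ˣ), Subalgebra.mem_center_iff.2 fun x => ?_, Units.isUnit _,
    u, hu, by rw [Units.val_mul, mul_assoc, Units.inv_mul, mul_one]⟩
  obtain ⟨y, rfl⟩ : ∃ y, CliffRegLib.fmap g hg y = x := ⟨_, CliffRegLib.fmap_fmap_inv g hg x⟩
  have h : CliffRegLib.fmap g hg y = (u : CliffordAlgebra Q) * y * ↑u⁻¹ := by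
    rw [← hc, mul_assoc, Units.mul_inv, mul_one]
  calc CliffRegLib.fmap g hg y * ((u' * u⁻¹ : (CliffordAlgebra Q)ˣ) : CliffordAlgebra Q)
      = (u' : CliffordAlgebra Q) * y * ↑u⁻¹ := by rw [Units.val_mul, ← mul_assoc, hc']
    _ = _ := by simp [h, mul_assoc]

end Groth.Agent.S16996
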