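import Groth.Statements.S16997
import Groth.Agent.CliffRegLib.OddInner

set_option autoImplicit false
universe u v
open QuadGrp

namespace Groth.Agent.S16997

/-- Over a commutative ring in which 2 is invertible, let Q be a quadratic form on a finite free module
with a basis indexed by Fin (2m+1), m odd (rank congruent to 3 mod 4), whose half-discriminant in
that basis is a unit. Then every unit of the Clifford algebra normalising the module and of Clifford
norm one is locally homogeneous: the Pin group equals the naive Pin group. (The published statement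
adds the converse: for rank 1 mod 4, or when 2 is not a unit on the base, the two group schemes
differ.) -/
theorem result {R : Type u} [CommRing R] [Invertible (2 : R)]
    {M : Type v} [AddCommGroup M] [Module R M] [Module.Free R M] [Module.Finite R M]
    (m : ℕ) (hm : Odd m) (b : Module.Basis (Fin (2 * m + 1)) R M) (Q : QuadraticForm R M)
    (hQ : QuadGrp.IsSemiregular b (LinearEquiv.refl R R) Q) :
    QuadGrp.Pin Q = QuadGrp.Pin' Q := by
  classical
  refine le_antisymm (fun u hu => ⟨hu.1.1, hu.2⟩) ?_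
  rintro u ⟨hu, hn⟩
  refine ⟨⟨hu, ?_⟩, hn⟩
  obtain ⟨g, hg, hv, hc⟩ := CliffRegLib.exists_conj_isometry b hu
  obtain ⟨η, t, D, hs⟩ := CliffRegLib.exists_oddDatum b hQ
  rw [Even.neg_one_pow hm.add_one, one_smul] at hs
  obtain ⟨y₀, y₁, hy₁, huy⟩ := CliffRegLib.exists_parts Q (u : CliffordAlgebra Q)
  have hy₀ : (y₀ : CliffordAlgebra Q) ∈ CliffordAlgebra.evenOdd Q 0 := y₀.2
  have hstar : ∀ {i : ZMod 2} {x : CliffordAlgebra Q}, x ∈ CliffordAlgebra.evenOdd Q i →
      star x ∈ CliffordAlgebra.evenOdd Q i := fun h => by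
    rw [CliffordAlgebra.star_def]
    exact (CliffordAlgebra.reverse_mem_evenOdd_iff Q).2 ((CliffordAlgebra.involute_mem_evenOdd_iff Q).2 h)
  have hm0 : star (y₀ : CliffordAlgebra Q) * y₀ ∈ CliffordAlgebra.evenOdd Q 0 := by
    have h := SetLike.mul_mem_graded (hstar hy₀) hy₀
    rwa [add_zero] at h
  have hp : ∀ x z : CliffordAlgebra Q, x ∈ CliffordAlgebra.evenOdd Q 0 → z ∈ CliffordAlgebra.evenOdd Q 1 →
      ∀ x' z' : CliffordAlgebra Q, x' ∈ CliffordAlgebra.evenOdd Q 0 → z' ∈ CliffordAlgebra.evenOdd Q 1 →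
      x + z = x' + z' → x = x' ∧ z = z' := by
    intro x z hx hz x' z' hx' hz' h
    have h0 := congrArg (CliffRegLib.p0 Q) h
    rw [map_add, map_add, CliffRegLib.p0_odd Q hz, CliffRegLib.p0_odd Q hz', add_zero, add_zero] at h0
    have e1 : CliffRegLib.p0 Q x = ⟨x, hx⟩ := CliffRegLib.p0_even Q ⟨x, hx⟩
    have e2 : CliffRegLib.p0 Q x' = ⟨x', hx'⟩ := CliffRegLib.p0_even Q ⟨x', hx'⟩
    have hxx : x = x' := congrArg Subtype.val (e1.symm.trans (h0.trans e2))
    exact ⟨hxx, add_left_cancel (hxx ▸ h)⟩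
  have hint : ∀ v, CliffordAlgebra.ι Q (g v) * y₀ = y₀ * CliffordAlgebra.ι Q v ∧
      CliffordAlgebra.ι Q (g v) * y₁ = y₁ * CliffordAlgebra.ι Q v := by
    intro v
    have h := hc (CliffordAlgebra.ι Q v)
    rw [CliffRegLib.fmap_ι, huy, mul_add, add_mul, add_comm, add_comm (_ * CliffordAlgebra.ι Q v)] at h
    have h' := hp _ _ (CliffRegLib.mul_mem_even Q (CliffordAlgebra.ι_mem_evenOdd_one Q _) hy₁)
      (CliffRegLib.mul_mem_odd Q (CliffordAlgebra.ι_mem_evenOdd_one Q _) hy₀) _ _
      (CliffRegLib.mul_mem_even Q hy₁ (CliffordAlgebra.ι_mem_evenOdd_one Q _))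
      (CliffRegLib.mul_mem_odd' Q hy₀ (CliffordAlgebra.ι_mem_evenOdd_one Q _)) h
    exact ⟨h'.2, h'.1⟩
  have hcen : ∀ y z : CliffordAlgebra Q, (∀ v, CliffordAlgebra.ι Q (g v) * y = y * CliffordAlgebra.ι Q v) →
      (∀ v, CliffordAlgebra.ι Q (g v) * z = z * CliffordAlgebra.ι Q v) →
      ∀ x, x * (star y * z) = star y * z * x := fun y z hy hz =>
    CliffRegLib.commute_of_basis b Q _ fun i => by
      have h := congrArg star (hy (b i))
      simp only [star_mul, CliffordAlgebra.star_ι, mul_neg, neg_mul, neg_inj] at h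
      rw [← mul_assoc, ← h, mul_assoc, hz, mul_assoc]
  obtain ⟨a, ha⟩ := CliffRegLib.scalar_of_commute_even b hQ
    (y := star (y₀ : CliffordAlgebra Q) * y₀) hm0
    fun x _ => hcen _ _ (fun v => (hint v).1) (fun v => (hint v).1) x
  obtain ⟨d, hd⟩ := D.odd_centre_eq b hQ (hcen _ y₁ (fun v => (hint v).1) (fun v => (hint v).2))
    (CliffRegLib.mul_mem_odd' Q (hstar hy₀) hy₁)
  have hd' : star y₁ * (y₀ : CliffordAlgebra Q) = d • η := by
    have := congrArg star hd
    rwa [star_mul, star_star, CliffordAlgebra.star_smul, hs] at this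
  have hn' : star (u : CliffordAlgebra Q) * u = 1 := hn
  have hsu : (u : CliffordAlgebra Q) * star (u : CliffordAlgebra Q) = 1 := by
    rw [← Units.inv_eq_of_mul_eq_one_left hn', Units.mul_inv]
  have hd0 : d = 0 := by
    have h := hn'
    rw [huy, star_add, mul_add, add_mul, add_mul, hd, hd',
      show star (y₀ : CliffordAlgebra Q) * y₀ + d • η + (d • η + star y₁ * y₁) =
        (star (y₀ : CliffordAlgebra Q) * y₀ + star y₁ * y₁) + (d + d) • η by rw [add_smul]; abel,
      ← add_zero (1 : CliffordAlgebra Q)] at h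
    have h' := hp _ _ (Submodule.add_mem _ hm0
      (CliffRegLib.mul_mem_even Q (hstar hy₁) hy₁)) (Submodule.smul_mem _ _ D.odd) _ _
      (SetLike.one_mem_graded _) (Submodule.zero_mem _) h
    have h2 := (D.indep b (a := 0) (c := d + d) (by rw [map_zero, zero_add]; exact h'.2)).2
    rw [← two_mul] at h2
    exact (isUnit_of_invertible (2 : R)).mul_right_eq_zero.1 h2
  have h0u : star (y₀ : CliffordAlgebra Q) * u = algebraMap R _ a := by
    rw [huy, mul_add, ha, hd, hd0, zero_smul, add_zero]
  have hkey : star (y₀ : CliffordAlgebra Q) = a • star (y₀ : CliffordAlgebra Q) + a • star y₁ := by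
    rw [← smul_add, ← star_add, ← huy, Algebra.smul_def, ← h0u, mul_assoc, hsu, mul_one]
  rw [← add_zero (star (y₀ : CliffordAlgebra Q))] at hkey
  obtain ⟨k0, k1⟩ := hp _ _ (hstar hy₀) (Submodule.zero_mem _) _ _
    (Submodule.smul_mem _ a (by simpa using hstar hy₀)) (Submodule.smul_mem _ a (hstar hy₁))
    (by simpa using hkey)
  have e0 : a • (y₀ : CliffordAlgebra Q) = y₀ := by
    have := congrArg star k0
    rw [star_star, CliffordAlgebra.star_smul, star_star] at this
    exact this.symm
  have e1 : a • y₁ = 0 := by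
    have := congrArg star k1
    rw [star_zero, CliffordAlgebra.star_smul, star_star] at this
    exact this.symm
  refine ⟨a, ?_, ?_, ?_⟩
  · refine CliffRegLib.algebraMap_injective b Q ?_
    rw [map_mul]
    nth_rewrite 2 [← ha]
    rw [← Algebra.smul_def, ← mul_smul_comm, e0, ha]
  · rw [huy, smul_add, e0, e1, add_zero]; exact hy₀
  · rw [huy, sub_smul, one_smul, smul_add, e0, e1, add_zero, add_sub_cancel_left]; exact hy₁

end Groth.Agent.S16997
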