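import Groth.Statements.S16998
import Groth.Agent.CliffRegLib.OddInner

set_option autoImplicit false
universe u
open scoped TensorProduct
open QuadGrp

namespace Groth.Agent.S16998

/-- Let Q be a quadratic form on a free module M with a basis indexed by Fin (2m+1) over a commutative
ring R, whose half-discriminant in that basis is a unit. Then (a) fppf-locally on R the even
Clifford algebra is a matrix algebra of size 2^m (some faithfully flat finitely presented R-algebra
R′ realises it); (b) the even central elements of the Clifford algebra C(Q) are the scalars; (c) the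
multiplication map from (centre of C(Q)) ⊗ (even part) to C(Q) is bijective; (d) M → C(Q) is
injective onto a direct summand. (The published statement, for a vector bundle over a scheme, also
says that the odd part of the centre is an invertible module squaring to the structure sheaf and
that C(Q) is locally free of rank 2^(2m+1); the first of these is stated separately over a local
base.) -/
theorem result {R : Type u} [CommRing R] {M : Type u} [AddCommGroup M] [Module R M]
    (m : ℕ) (b : Module.Basis (Fin (2 * m + 1)) R M) (Q : QuadraticForm R M)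
    (hQ : QuadGrp.IsSemiregular b (LinearEquiv.refl R R) Q) :
    (∃ (R' : Type u) (_ : CommRing R') (_ : Algebra R R'), Module.FaithfullyFlat R R' ∧ Algebra.FinitePresentation R R' ∧
        Nonempty ((R' ⊗[R] ↥(CliffordAlgebra.even Q)) ≃ₐ[R'] Matrix (Fin (2 ^ m)) (Fin (2 ^ m)) R')) ∧
    (∀ z ∈ Subalgebra.center R (CliffordAlgebra Q), z ∈ CliffordAlgebra.evenOdd Q 0 →
        z ∈ (algebraMap R (CliffordAlgebra Q)).range) ∧
    Function.Bijective (TensorProduct.lift
        (((LinearMap.mul R (CliffordAlgebra Q)).comp (Subalgebra.center R (CliffordAlgebra Q)).val.toLinearMap).compl₂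
          (CliffordAlgebra.even Q).val.toLinearMap)) ∧
    (Function.Injective (CliffordAlgebra.ι Q) ∧
      ∃ W : Submodule R (CliffordAlgebra Q), IsCompl (LinearMap.range (CliffordAlgebra.ι Q)) W) := by
  classical
  refine ⟨CliffRegLib.exists_even_matrix b hQ, fun z hz hz0 => ?_, ?_, CliffRegLib.ι_injective_basis b Q, ?_⟩
  · obtain ⟨r, hr⟩ := CliffRegLib.scalar_of_commute_even b hQ hz0 fun x _ =>
      (Subalgebra.mem_center_iff (R := R) (A := CliffordAlgebra Q)).1 hz x
    exact ⟨r, hr.symm⟩
  · obtain ⟨η, t, D, -⟩ := CliffRegLib.exists_oddDatum b hQ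
    obtain ⟨w, hw⟩ := D.unit
    set Z := Subalgebra.center R (CliffordAlgebra Q) with hZ
    set C0 := CliffordAlgebra.even Q with hC0
    let ηZ : ↥Z := ⟨η, Subalgebra.mem_center_iff.2 D.comm⟩
    set L := TensorProduct.lift
        (((LinearMap.mul R (CliffordAlgebra Q)).comp Z.val.toLinearMap).compl₂ C0.val.toLinearMap) with hL
    have hLt : ∀ (z : ↥Z) (y : ↥C0), L (z ⊗ₜ[R] y) = (z : CliffordAlgebra Q) * y := fun z y => rfl
    let φ : CliffordAlgebra Q →ₗ[R] ↥Z ⊗[R] ↥C0 :=
      (TensorProduct.mk R ↥Z ↥C0 1).comp (CliffRegLib.p0 Q) +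
      (↑w⁻¹ : R) • (TensorProduct.mk R ↥Z ↥C0 ηZ).comp ((CliffRegLib.p0 Q).comp (LinearMap.mulLeft R η))
    have hwη : (↑w⁻¹ : R) • (η * η) = 1 := by
      rw [D.sq, ← hw, Algebra.smul_def, ← map_mul, Units.inv_mul, map_one]
    have h0 : ∀ x : ↥C0, φ (x : CliffordAlgebra Q) = (1 : ↥Z) ⊗ₜ[R] x := fun x => by
      simp only [φ, LinearMap.add_apply, LinearMap.comp_apply, LinearMap.smul_apply,
        LinearMap.mulLeft_apply, TensorProduct.mk_apply]
      rw [CliffRegLib.p0_odd Q (CliffRegLib.mul_mem_odd Q D.odd x.2), TensorProduct.tmul_zero, smul_zero,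
        add_zero]
      exact congrArg _ (CliffRegLib.p0_even Q x)
    have h1 : ∀ x : ↥C0, φ (η * x) = ηZ ⊗ₜ[R] x := fun x => by
      simp only [φ, LinearMap.add_apply, LinearMap.comp_apply, LinearMap.smul_apply,
        LinearMap.mulLeft_apply, TensorProduct.mk_apply]
      rw [CliffRegLib.p0_odd Q (CliffRegLib.mul_mem_odd Q D.odd x.2), TensorProduct.tmul_zero, zero_add,
        ← TensorProduct.tmul_smul, ← map_smul]
      refine congrArg _ (Eq.trans (congrArg _ ?_) (CliffRegLib.p0_even Q x))
      rw [← mul_assoc, ← smul_mul_assoc, hwη, one_mul]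
    refine Function.bijective_iff_has_inverse.2 ⟨φ, fun q => ?_, fun x => ?_⟩
    · induction q using TensorProduct.induction_on with
      | zero => rw [map_zero, map_zero]
      | tmul z y =>
        obtain ⟨a, c, hzac⟩ := D.centre_eq b hQ (Subalgebra.mem_center_iff.1 z.2)
        have hz : z = a • (1 : ↥Z) + c • ηZ := Subtype.ext (by
          rw [hzac, Algebra.algebraMap_eq_smul_one]; rfl)
        rw [hLt, hzac, add_mul, map_add, Algebra.algebraMap_eq_smul_one, smul_mul_assoc, one_mul,
          smul_mul_assoc, map_smul, map_smul, h0, h1, hz, TensorProduct.add_tmul,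
          ← TensorProduct.smul_tmul', ← TensorProduct.smul_tmul']
      | add p q hp hq => rw [map_add, map_add, hp, hq]
    · obtain ⟨x₀, x₁, hx₁, rfl⟩ := CliffRegLib.exists_parts Q x
      have hx : x₁ = η * ((⟨(↑w⁻¹ : R) • (η * x₁),
          Submodule.smul_mem _ _ (CliffRegLib.mul_mem_even Q D.odd hx₁)⟩ : ↥C0) : CliffordAlgebra Q) := by
        change x₁ = η * ((↑w⁻¹ : R) • (η * x₁))
        rw [mul_smul_comm, ← mul_assoc, ← smul_mul_assoc, hwη, one_mul]
      rw [map_add, h0, hx, h1, map_add, hLt, hLt, OneMemClass.coe_one, one_mul]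
  · let p : CliffordAlgebra Q →ₗ[R] M := ∑ i, ((CliffRegLib.cbasis b Q).coord {i}).smulRight (b i)
    have hp : ∀ v, p (CliffordAlgebra.ι Q v) = v := fun v => by
      simp only [p, LinearMap.sum_apply, LinearMap.smulRight_apply, Module.Basis.coord_apply,
        CliffRegLib.ι_repr, b.sum_repr]
    refine ⟨LinearMap.ker (CliffordAlgebra.ι Q ∘ₗ p), ?_⟩
    have h := LinearMap.isCompl_of_proj (p := LinearMap.range (CliffordAlgebra.ι Q))
      (f := (CliffordAlgebra.ι Q ∘ₗ p).codRestrict _ fun x => LinearMap.mem_range_self _ _)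
      (by rintro ⟨_, v, rfl⟩; exact Subtype.ext (congrArg (CliffordAlgebra.ι Q) (hp v)))
    rwa [LinearMap.ker_codRestrict] at h

end Groth.Agent.S16998
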