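import Groth.Statements.S16999
import Groth.Agent.CliffRegLib.OddStruct

set_option autoImplicit false
universe u v
open QuadGrp

namespace Groth.Agent.S16999

/-- Centre over a local base: over a local ring R, let Q be a quadratic form on a free module M with a
basis indexed by Fin (2m+1) whose half-discriminant in that basis is a unit. Then the centre of the
Clifford algebra C(Q) is generated by the square root of a unit: there is a central unit z, odd for
the ℤ/2-grading, with z² a scalar, such that 1, z are linearly independent and span the centre. (The
published statement: the centre is a ℤ/2-graded locally free module of rank 2 with degree-0 part the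
structure sheaf and degree-1 part an invertible sheaf squaring to it; over a local base this is the
form stated.) -/
theorem result {R : Type u} [CommRing R] [IsLocalRing R]
    {M : Type v} [AddCommGroup M] [Module R M]
    (m : ℕ) (b : Module.Basis (Fin (2 * m + 1)) R M) (Q : QuadraticForm R M)
    (hQ : QuadGrp.IsSemiregular b (LinearEquiv.refl R R) Q) :
    ∃ z : CliffordAlgebra Q, z ∈ Subalgebra.center R (CliffordAlgebra Q) ∧ z ∈ CliffordAlgebra.evenOdd Q 1 ∧ IsUnit z ∧
      z * z ∈ (algebraMap R (CliffordAlgebra Q)).range ∧ LinearIndependent R ![(1 : CliffordAlgebra Q), z] ∧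
      Subalgebra.toSubmodule (Subalgebra.center R (CliffordAlgebra Q)) = Submodule.span R {1, z} := by
  classical
  obtain ⟨η, t, D, -⟩ := CliffRegLib.exists_oddDatum b hQ
  have hc : η ∈ Subalgebra.center R (CliffordAlgebra Q) := Subalgebra.mem_center_iff.2 D.comm
  refine ⟨η, hc, D.odd, D.isUnit_η, ⟨t, D.sq.symm⟩, ?_, ?_⟩
  · refine LinearIndependent.pair_iff.2 fun a c h => ?_
    refine D.indep b ?_
    rwa [Algebra.algebraMap_eq_smul_one]
  · refine le_antisymm (fun x hx => ?_) (Submodule.span_le.2 ?_)
    · obtain ⟨a, c, rfl⟩ := D.centre_eq b hQ ((Subalgebra.mem_center_iff (R := R) (A := CliffordAlgebra Q)).1 hx)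
      exact Submodule.mem_span_pair.2 ⟨a, c, by rw [Algebra.algebraMap_eq_smul_one]⟩
    · rintro x (rfl | rfl)
      · exact Subalgebra.one_mem _
      · exact hc

end Groth.Agent.S16999
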