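import Groth.Statements.S1700
import Groth.Agent.InvExt.Codim1

set_option autoImplicit false
universe u
open CategoryTheory CategoryTheory.Limits AlgebraicGeometry TopologicalSpace
open SDiv

namespace Groth.Agent.S1700

open CategoryTheory CategoryTheory.Limits AlgebraicGeometry


open TopologicalSpace Opposite Groth.Agent.InvExt

lemma maximalIdeal_mem_ass {X : Scheme.{u}} [IsLocallyNoetherian X] (𝓘 : X.IdealSheafData) (W : X.affineOpens) (a : Γ(X, W.1))
    (z : ↥𝓘.subscheme) (hz : 𝓘.subschemeι z ∈ W.1)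
    (hcol : ∀ r, r * a ∈ 𝓘.ideal W ↔ r ∈ (W.2.primeIdealOf ⟨_, hz⟩).asIdeal) :
    IsAssociatedPrime (IsLocalRing.maximalIdeal ↑(𝓘.subscheme.presheaf.stalk z)) ↑(𝓘.subscheme.presheaf.stalk z) := by
  set φ := (𝓘.subschemeι.stalkMap z).hom with hφdef
  letI : Algebra Γ(X, W.1) (X.presheaf.stalk (𝓘.subschemeι z)) :=
    TopCat.Presheaf.algebra_section_stalk X.presheaf ⟨_, hz⟩
  haveI := W.2.isLocalization_stalk ⟨_, hz⟩
  set Q := (W.2.primeIdealOf ⟨_, hz⟩).asIdeal with hQdef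
  let g : Γ(X, W.1) →+* X.presheaf.stalk (𝓘.subschemeι z) := (X.presheaf.germ W.1 _ hz).hom
  have hφ : Function.Surjective φ := 𝓘.subschemeι.stalkMap_surjective z
  have hgerm : ∀ s : Γ(X, W.1), φ (g s) =
      𝓘.subscheme.presheaf.germ (𝓘.subschemeι ⁻¹ᵁ W.1) z hz (𝓘.subschemeι.app W.1 s) := fun s =>
    Scheme.Hom.germ_stalkMap_apply 𝓘.subschemeι W.1 z hz s
  have hzero : ∀ s ∈ 𝓘.ideal W, φ (g s) = 0 := fun s hs => by
    rw [hgerm]
    rw [← Scheme.IdealSheafData.ker_subschemeι_app, RingHom.mem_ker] at hs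
    exact (congrArg _ hs).trans (map_zero _)
  have ha : φ (g a) ≠ 0 := by
    intro h0
    rw [hgerm, ← map_zero (𝓘.subscheme.presheaf.germ (𝓘.subschemeι ⁻¹ᵁ W.1) z hz).hom] at h0
    obtain ⟨V, hzV, j, j', hres⟩ := TopCat.Presheaf.germ_eq 𝓘.subscheme.presheaf z _ _ _ _ h0
    obtain ⟨V₀, hV₀, hV₀V⟩ := (𝓘.subschemeι.isClosedEmbedding.isInducing.isOpen_iff).1 V.2
    have hzV₀ : 𝓘.subschemeι z ∈ (⟨V₀, hV₀⟩ : X.Opens) := by
      have h : z ∈ V.carrier := hzV
      rw [← hV₀V] at h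
      exact h
    obtain ⟨f, hf, hzf⟩ := W.2.exists_basicOpen_le (V := ⟨V₀, hV₀⟩) ⟨_, hzV₀⟩ hz
    have hle : 𝓘.subschemeι ⁻¹ᵁ X.basicOpen f ≤ V := fun p hp => by
      show p ∈ V.carrier
      rw [← hV₀V]
      exact hf hp
    have h1 : X.presheaf.map (homOfLE (X.basicOpen_le f)).op a ∈ 𝓘.ideal (X.affineBasicOpen f) := by
      rw [← Scheme.IdealSheafData.ker_subschemeι_app]
      refine RingHom.mem_ker.2 ?_
      refine (ConcreteCategory.congr_hom (𝓘.subschemeι.naturality (homOfLE (X.basicOpen_le f)).op) a).trans ?_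
      have h2 := congrArg (𝓘.subscheme.presheaf.map (homOfLE hle).op) hres
      rw [map_zero, map_zero, ← CommRingCat.comp_apply, ← Functor.map_comp] at h2
      exact h2
    rw [← 𝓘.map_ideal_basicOpen W f] at h1
    haveI := W.2.isLocalization_basicOpen f
    obtain ⟨⟨⟨i, hi⟩, ⟨_, n, rfl⟩⟩, hn⟩ :=
      (IsLocalization.mem_map_algebraMap_iff (Submonoid.powers f) Γ(X, X.basicOpen f)).1 h1
    have hn' : algebraMap Γ(X, W.1) Γ(X, X.basicOpen f) (a * f ^ n) = algebraMap _ _ i := by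
      rw [map_mul]
      exact hn
    obtain ⟨⟨_, m, rfl⟩, hm⟩ := (IsLocalization.eq_iff_exists (Submonoid.powers f) Γ(X, X.basicOpen f)).1 hn'
    have hmem : f ^ (m + n) * a ∈ 𝓘.ideal W := by
      have h3 : f ^ (m + n) * a = f ^ m * i := by
        refine Eq.trans ?_ hm
        show _ = f ^ m * (a * f ^ n)
        ring
      rw [h3]
      exact (𝓘.ideal W).mul_mem_left _ hi
    exact (mem_basicOpen_iff_not_mem W.2 _ hz f).1 hzf (Ideal.IsPrime.mem_of_pow_mem inferInstance _ ((hcol _).1 hmem))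
  haveI : IsNoetherianRing ↑(𝓘.subscheme.presheaf.stalk z) := isNoetherianRing_of_surjective _ _ φ hφ
  rw [isAssociatedPrime_iff]
  refine ⟨inferInstance, φ (g a), ?_⟩
  ext y
  rw [Submodule.mem_colon_singleton, Submodule.mem_bot, smul_eq_mul]
  constructor
  · intro hy
    obtain ⟨y, rfl⟩ := hφ y
    have hy' : y ∈ IsLocalRing.maximalIdeal (X.presheaf.stalk (𝓘.subschemeι z)) :=
      (IsLocalRing.mem_maximalIdeal _).2 fun hu => (IsLocalRing.mem_maximalIdeal _).1 hy (hu.map φ)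
    rw [← IsLocalization.AtPrime.map_eq_maximalIdeal Q] at hy'
    obtain ⟨⟨⟨r, hr⟩, u⟩, hu⟩ := (IsLocalization.mem_map_algebraMap_iff Q.primeCompl _).1 hy'
    have hu1 : y * g (u : Γ(X, W.1)) = g r := hu
    have hunit : IsUnit (φ (g (u : Γ(X, W.1)))) := (IsLocalization.map_units _ u).map φ
    refine hunit.mul_left_cancel ?_
    rw [mul_zero, ← mul_assoc, ← map_mul, mul_comm (g _), hu1, ← map_mul, ← map_mul]
    exact hzero _ ((hcol r).2 hr)
  · intro hy
    refine (IsLocalRing.mem_maximalIdeal _).2 fun hu => ha ?_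
    exact hu.mul_left_cancel (hy.trans (mul_zero y).symm)

/-- Let X be a Noetherian scheme and 𝓘 a quasi-coherent ideal sheaf with closed subscheme Z such that
(1) Z has no embedded points: every point of Z whose local ring has its maximal ideal associated is
a maximal point of Z; (2) every maximal point of Z has codimension 1 in X (the local ring of X there
has dimension 1); (3) the local ring of X at every point of Z is a unique factorisation domain. Then
𝓘 is the ideal sheaf of an effective Cartier divisor. -/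
theorem result (X : Scheme.{u}) [IsNoetherian X] (𝓘 : X.IdealSheafData)
    (h1 : ∀ z : ↥𝓘.subscheme, IsAssociatedPrime (IsLocalRing.maximalIdeal ↑(𝓘.subscheme.presheaf.stalk z)) ↑(𝓘.subscheme.presheaf.stalk z) → ∀ z' : ↥𝓘.subscheme, z' ⤳ z → z' = z)
    (h2 : ∀ z : ↥𝓘.subscheme, (∀ z' : ↥𝓘.subscheme, z' ⤳ z → z' = z) →
      ringKrullDim (X.presheaf.stalk (𝓘.subschemeι z)) = 1)
    (h3 : ∀ x : ↥X, x ∈ 𝓘.support → IsDomain (X.presheaf.stalk x) ∧ UniqueFactorizationMonoid (X.presheaf.stalk x)) :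
    BlowUp.IsEffCartierIdeal 𝓘 := by

  intro x
  by_cases hx : x ∈ 𝓘.support
  swap
  · exact exists_cartier_nhd_of_not_mem hx
  obtain ⟨_, _⟩ := h3 x hx
  have hrange : ∀ q ∈ 𝓘.support, ∃ z, 𝓘.subschemeι z = q := fun q hq => by
    have : q ∈ Set.range 𝓘.subschemeι := by rw [Scheme.IdealSheafData.range_subschemeι]; exact hq
    exact this
  refine exists_cartier_nhd 𝓘 x (fun W hxW hint hbot => ?_) (fun W hxW hint a ha q hq hqx hcol => ?_)
  · haveI := hint
    haveI : IsDomain Γ(X, W.1) := isDomain_sections (W₀ := W.1) le_rfl ⟨x, hxW⟩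
    obtain ⟨q, hq, hqI⟩ := exists_point_primeIdealOf W.2 (⊥ : Ideal Γ(X, W.1)) Ideal.isPrime_bot
    obtain ⟨z, rfl⟩ := hrange q ((mem_support_iff_le W q hq).2 (hbot ▸ bot_le))
    have hmax : ∀ z' : ↥𝓘.subscheme, z' ⤳ z → z' = z := fun z' hz' => by
      have h1 := hz'.map 𝓘.subschemeι.continuous
      have hz'W := h1.mem_open W.1.2 hq
      have h2 : 𝓘.subschemeι z ⤳ 𝓘.subschemeι z' :=
        specializes_of_primeIdealOf_le W.2 hq hz'W (hqI.le.trans bot_le)
      exact 𝓘.subschemeι.isClosedEmbedding.injective (h1.antisymm h2).eq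
    have hdim := h2 z hmax
    letI : Algebra Γ(X, W.1) (X.presheaf.stalk (𝓘.subschemeι z)) :=
      TopCat.Presheaf.algebra_section_stalk X.presheaf ⟨_, hq⟩
    haveI := W.2.isLocalization_stalk ⟨_, hq⟩
    have hfield : IsField (X.presheaf.stalk (𝓘.subschemeι z)) := by
      haveI : IsDomain (X.presheaf.stalk (𝓘.subschemeι z)) :=
        IsLocalization.isDomain_of_atPrime _ (W.2.primeIdealOf ⟨_, hq⟩).asIdeal
      rw [IsLocalRing.isField_iff_maximalIdeal_eq, ← IsLocalization.AtPrime.map_eq_maximalIdeal (W.2.primeIdealOf ⟨_, hq⟩).asIdeal]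
      rw [hqI, Ideal.map_bot]
    rw [ringKrullDim_eq_zero_of_isField hfield] at hdim
    exact zero_ne_one hdim
  · have hqS : q ∈ 𝓘.support := (mem_support_iff_le W q hq).2 fun r hr => (hcol r).1 (Ideal.mul_mem_right _ _ hr)
    obtain ⟨z, rfl⟩ := hrange q hqS
    have hdim := h2 z (h1 z (maximalIdeal_mem_ass 𝓘 W a z hq hcol))
    obtain ⟨_, _⟩ := h3 _ hqS
    haveI := isPrincipalIdealRing_of_dim_le_one _ hdim.le
    letI : Algebra Γ(X, W.1) (X.presheaf.stalk (𝓘.subschemeι z)) :=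
      TopCat.Presheaf.algebra_section_stalk X.presheaf ⟨_, hq⟩
    haveI := W.2.isLocalization_stalk ⟨_, hq⟩
    exact principalAt_of_isPrincipal_loc _ _ (X.presheaf.stalk (𝓘.subschemeι z)) (IsPrincipalIdealRing.principal _)


end Groth.Agent.S1700
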