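import Groth.Statements.S17000
import Groth.Agent.QuadSchemeLib.Orth
import Groth.Agent.CliffRegLib.DicksonDet
import Groth.Agent.QuadGrpLib.Refl
import Groth.Agent.S9407
import Mathlib.RingTheory.TensorProduct.Quotient
import Mathlib.RingTheory.Flat.TorsionFree
import Mathlib.AlgebraicGeometry.Morphisms.Flat

set_option autoImplicit false
open CategoryTheory AlgebraicGeometry
open QuadGrp

namespace Groth.Agent.S17000

open TensorProduct Groth.Agent.QuadSchemeLib Groth.Agent.CliffRegLib in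
theorem key (m : ℕ) (hm : 1 ≤ m) (Q : QuadraticForm ℤ (Fin (2 * m) → ℤ))
    (hQ : IsUnit (QuadGrpLib.polarOf (QuadGrp.coeffs (Pi.basisFun ℤ (Fin (2 * m))) (LinearEquiv.refl ℤ ℤ) Q)).det)
    (u : Fin (2 * m) → ℤ) (hu : IsUnit (Q u)) :
    _root_.IsReduced (MvPolynomial (Option (Fin (2 * m) × Fin (2 * m))) ℤ ⧸
        Ideal.span (eqns Q true : Set (MvPolynomial (Option (Fin (2 * m) × Fin (2 * m))) ℤ))) ∧
      ¬ Module.Flat ℤ (MvPolynomial (Option (Fin (2 * m) × Fin (2 * m))) ℤ ⧸
        Ideal.span (eqns Q true : Set (MvPolynomial (Option (Fin (2 * m) × Fin (2 * m))) ℤ))) := by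
  classical
  set a := QuadGrp.coeffs (Pi.basisFun ℤ (Fin (2 * m))) (LinearEquiv.refl ℤ ℤ) Q with ha
  set J := Ideal.span (eqns Q false : Set (MvPolynomial (Option (Fin (2 * m) × Fin (2 * m))) ℤ)) with hJ
  set J' := Ideal.span (eqns Q true : Set (MvPolynomial (Option (Fin (2 * m) × Fin (2 * m))) ℤ)) with hJ'
  set B := MvPolynomial (Option (Fin (2 * m) × Fin (2 * m))) ℤ ⧸ J with hB
  set d := (univMat (R := ℤ) (n := 2 * m)).det with hd
  have hJJ : J' = J ⊔ Ideal.span {d - 1} := by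
    rw [hJ, hJ', ← Ideal.span_union]
    congr 1
    ext p
    simp only [Groth.Agent.QuadSchemeLib.eqns, Finset.mem_coe, Set.mem_union, Set.mem_singleton_iff]
    simp [d]
    tauto
  set x₀ : Option (Fin (2 * m) × Fin (2 * m)) → B := fun o => Ideal.Quotient.mk J (MvPolynomial.X o) with hx₀
  have hev : ∀ p : MvPolynomial (Option (Fin (2 * m) × Fin (2 * m))) ℤ,
      MvPolynomial.aeval x₀ p = Ideal.Quotient.mk J p := fun p => Model.aeval_mk (E := eqns Q false) p
  obtain ⟨h1, h2, -⟩ := (eqns_iff Q false x₀).1 fun p hp => by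
    rw [hev]; exact Ideal.Quotient.eq_zero_iff_mem.2 (Ideal.subset_span hp)
  have hdx : (matOf x₀).det = Ideal.Quotient.mk J d := by
    rw [hd, RingHom.map_det]; rfl
  let ru : B →ₗ[ℤ] B := LinearMap.id
  -- a point with determinant minus one
  have hQu : IsUnit (QuadGrp.baseChangeForm ℤ Q ((1 : ℤ) ⊗ₜ[ℤ] u)) := by
    rw [QuadSplitLib.baseChangeForm_one_tmul]; exact hu.map _
  haveI : Module.Free ℤ (TensorProduct ℤ ℤ (Fin (2 * m) → ℤ)) := Module.Free.of_basis (bA (n := 2 * m) ℤ)
  haveI : Module.Finite ℤ (TensorProduct ℤ ℤ (Fin (2 * m) → ℤ)) := Module.Finite.of_basis (bA (n := 2 * m) ℤ)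
  set σ := QuadGrpLib.refl (QuadGrp.baseChangeForm ℤ Q) hQu with hσ
  have hσO : σ ∈ QuadGrp.orth Q ℤ := fun v =>
    (AlgebraTensorModule.rid ℤ ℤ ℤ).injective (QuadGrpLib.refl_mem_O (QuadGrp.baseChangeForm ℤ Q) hQu v)
  have hσdet : ((LinearEquiv.det σ : ℤˣ) : ℤ) = -1 := by
    rw [hσ, QuadGrpLib.det_refl]; rfl
  set xσ := coordsOf σ with hxσ
  have hmatσ : (matOf xσ).det = -1 := by
    rw [← hσdet, LinearEquiv.coe_det, ← LinearMap.det_toMatrix (bA (R := ℤ) ℤ)]
    rfl
  have hxσ' : ∀ p ∈ eqns Q false, MvPolynomial.aeval xσ p = 0 := (eqns_iff Q false xσ).2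
    ⟨(mem_orth_iff ℤ Q σ).1 hσO, by
      rw [hmatσ]
      change -1 * ((LinearEquiv.det σ⁻¹ : ℤˣ) : ℤ) = 1
      rw [← hσdet, map_inv, Units.mul_inv], by simp⟩
  let χ : B →ₐ[ℤ] ℤ := Ideal.Quotient.liftₐ J (MvPolynomial.aeval xσ) fun p hp =>
    (Ideal.span_le (I := RingHom.ker (MvPolynomial.aeval xσ))).2 hxσ' hp
  have hχd : χ (Ideal.Quotient.mk J d) = -1 := by
    rw [← hmatσ]
    change MvPolynomial.aeval xσ d = _
    rw [hd, AlgHom.map_det]
    congr 1
    exact Matrix.ext fun i j => MvPolynomial.aeval_X _ _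
  haveI : Nontrivial B := χ.toRingHom.domain_nontrivial
  -- the Dickson invariant of the universal isometry
  obtain ⟨g, hg⟩ : ∃ g : TensorProduct ℤ B (Fin (2 * m) → ℤ) ≃ₗ[B] TensorProduct ℤ B (Fin (2 * m) → ℤ),
      LinearMap.toMatrix (bA B) (bA B) g.toLinearMap = matOf x₀ :=
    ⟨Matrix.toLinearEquiv (bA (R := ℤ) B) (matOf x₀) h1.1, LinearMap.toMatrix_toLin _ _ _⟩
  haveI : Module.Free B (TensorProduct ℤ B (Fin (2 * m) → ℤ)) := Module.Free.of_basis (bA (n := 2 * m) B)
  haveI : Module.Finite B (TensorProduct ℤ B (Fin (2 * m) → ℤ)) := Module.Finite.of_basis (bA (n := 2 * m) B)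
  have hgO : g ∈ QuadGrp.O (QuadGrp.baseChangeForm B Q) := fun v =>
    congrArg (AlgebraTensorModule.rid ℤ B B) ((mem_orth_iff B Q g).2 (hg ▸ h1) v)
  have hco : QuadGrp.coeffs (bA B) (LinearEquiv.refl B B) (QuadGrp.baseChangeForm B Q) = algebraMap ℤ B ∘ a := by
    funext p
    induction p using Sym2.ind with
    | h i j =>
      simp only [ha, Function.comp_apply, QuadGrp.coeffs_mk, LinearEquiv.refl_apply,
        Module.Basis.baseChange_apply, QuadraticMap.polar, ← TensorProduct.tmul_add,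
        QuadSplitLib.baseChangeForm_one_tmul, ← map_sub]
      split_ifs <;> rfl
  have hreg : QuadGrp.IsRegular (QuadGrp.baseChangeForm B Q) := isRegular_of_isUnit_det (bA B) (by
    rw [QuadGrpLib.polarMat_eq_polarOf, hco, ← QuadGrpLib.map_polarOf, ← RingHom.mapMatrix_apply, ← RingHom.map_det]
    exact hQ.map _)
  obtain ⟨ε, hε, hdet, -⟩ := exists_dickson_det hm
    (by rw [Module.finrank_eq_card_basis (bA (n := 2 * m) B), Fintype.card_fin]) hreg g hgO
  have hdB : Ideal.Quotient.mk J d = 2 * ε - 1 := by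
    rw [← hdet, LinearEquiv.coe_det, ← LinearMap.det_toMatrix (bA (R := ℤ) B), hg, hdx]
  -- `B` and `B / 2` are reduced
  haveI : Algebra.FinitePresentation ℤ B := Algebra.FinitePresentation.quotient ⟨eqns Q false, rfl⟩
  haveI : Algebra.FormallySmooth ℤ B := (formallySmooth_iff_lifts (eqns Q false)).2 (lifts_of false
    fun A _ _ I hI gb hgb _ => by
      obtain ⟨G, hG, hmap⟩ := exists_lift_regular hI _
        (by rw [← QuadGrpLib.map_polarOf, ← RingHom.mapMatrix_apply, ← RingHom.map_det]; exact hQ.map _) gb hgb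
      exact ⟨G, hG, by simp, hmap⟩)
  haveI : Algebra.Smooth ℤ B := ⟨inferInstance, inferInstance⟩
  haveI : _root_.IsReduced B := S9407.result ℤ B
  haveI : (Ideal.span {(2 : ℤ)}).IsPrime :=
    (Ideal.span_singleton_prime (by norm_num)).2 Int.prime_two
  haveI : _root_.IsReduced (TensorProduct ℤ (ℤ ⧸ Ideal.span {(2 : ℤ)}) B) :=
    S9407.result (ℤ ⧸ Ideal.span {(2 : ℤ)}) (TensorProduct ℤ (ℤ ⧸ Ideal.span {(2 : ℤ)}) B)
  haveI hB2 : _root_.IsReduced (B ⧸ (Ideal.span {(2 : ℤ)}).map (algebraMap ℤ B)) :=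
    isReduced_of_injective _ (Algebra.TensorProduct.quotIdealMapEquivQuotTensor B (Ideal.span {(2 : ℤ)})).injective
  set π := Ideal.Quotient.factor (S := J) (T := J') (hJJ ▸ le_sup_left) with hπ
  have hker : ∀ x, π x = 0 → ∃ c, x = c * (2 * (ε - 1)) := fun x hx => by
    obtain ⟨p, rfl⟩ := Ideal.Quotient.mk_surjective x
    rw [hπ, Ideal.Quotient.factor_mk, Ideal.Quotient.eq_zero_iff_mem, hJJ] at hx
    obtain ⟨y, hy, z, hz, rfl⟩ := Submodule.mem_sup.1 hx
    obtain ⟨c, rfl⟩ := Ideal.mem_span_singleton'.1 hz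
    refine ⟨Ideal.Quotient.mk J c, ?_⟩
    rw [map_add, map_mul, map_sub, map_one, Ideal.Quotient.eq_zero_iff_mem.2 hy, hdB]
    ring
  have hπd : π (2 * (ε - 1)) = 0 := by
    rw [show 2 * (ε - 1) = Ideal.Quotient.mk J (d - 1) by rw [map_sub, map_one, hdB]; ring, hπ,
      Ideal.Quotient.factor_mk, Ideal.Quotient.eq_zero_iff_mem, hJJ]
    exact Ideal.mem_sup_right (Ideal.mem_span_singleton_self _)
  refine ⟨⟨fun y ⟨k, hk⟩ => ?_⟩, fun hflat => ?_⟩
  · obtain ⟨x, rfl⟩ := Ideal.Quotient.factor_surjective (hJJ ▸ le_sup_left : J ≤ J') y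
    rw [← hπ] at hk ⊢
    obtain ⟨c, hc⟩ := hker (x ^ (k + 1)) (by rw [map_pow, pow_succ, hk, zero_mul])
    have hxe : x * ε = 0 := IsNilpotent.eq_zero ⟨k + 1, by
      rw [mul_pow, hc, show ε ^ (k + 1) = ε from IsIdempotentElem.pow_succ_eq k hε]
      linear_combination (2 * c) * hε⟩
    have hx2 : Ideal.Quotient.mk ((Ideal.span {(2 : ℤ)}).map (algebraMap ℤ B)) x = 0 :=
      IsNilpotent.eq_zero ⟨k + 1, by
        rw [← map_pow, Ideal.Quotient.eq_zero_iff_mem, hc, Ideal.map_span, Set.image_singleton, map_ofNat,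
          Ideal.mem_span_singleton]
        exact ⟨c * (ε - 1), by ring⟩⟩
    rw [Ideal.Quotient.eq_zero_iff_mem, Ideal.map_span, Set.image_singleton, map_ofNat, Ideal.mem_span_singleton] at hx2
    obtain ⟨y, rfl⟩ := hx2
    rw [show (2 : B) * y = 2 * (ε - 1) * (-y) by linear_combination hxe, map_mul, hπd, zero_mul]
  · let q : MvPolynomial (Option (Fin (2 * m) × Fin (2 * m))) ℤ ⧸ J' →+* ZMod 2 :=
      Ideal.Quotient.lift J' ((Int.castRingHom (ZMod 2)).comp (MvPolynomial.aeval xσ).toRingHom) fun p hp => by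
        rw [hJJ] at hp
        obtain ⟨y, hy, z, hz, rfl⟩ := Submodule.mem_sup.1 hp
        obtain ⟨c, rfl⟩ := Ideal.mem_span_singleton'.1 hz
        have hy0 : MvPolynomial.aeval xσ y = 0 :=
          (Ideal.span_le (I := RingHom.ker (MvPolynomial.aeval xσ))).2 hxσ' hy
        have hd1 : MvPolynomial.aeval xσ d = -1 := hχd
        simp only [RingHom.comp_apply, AlgHom.toRingHom_eq_coe, RingHom.coe_coe, map_add, map_mul, map_sub, map_one,
          hy0, hd1, map_zero, zero_add, map_neg]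
        rw [show (-1 - 1 : ZMod 2) = 0 by decide, mul_zero]
    have hqπ : ∀ x, q (π x) = (Int.castRingHom (ZMod 2)) (χ x) := fun x => by
      obtain ⟨p, rfl⟩ := Ideal.Quotient.mk_surjective x
      rfl
    have hχε : χ ε = 0 := by
      have h := congrArg χ hdB
      rw [hχd, map_sub, map_mul, map_ofNat, map_one] at h
      omega
    have h2 : π (ε - 1) = 0 := by
      refine (Module.Flat.isSMulRegular_of_nonZeroDivisors (R := ℤ)
        (mem_nonZeroDivisors_of_ne_zero (by norm_num : (2 : ℤ) ≠ 0))).right_eq_zero_of_smul ?_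
      rw [zsmul_eq_mul, Int.cast_ofNat, ← map_ofNat π 2, ← map_mul, hπd]
    have := hqπ (ε - 1)
    rw [h2, map_zero, map_sub, map_one, hχε, map_sub, map_zero, map_one] at this
    revert this
    decide

/-- For m ≥ 1, a group scheme over Spec ℤ which is the naive special orthogonal group (kernel of the
determinant on the orthogonal group) of the standard split quadratic form in 2m variables is a
reduced scheme and is not flat over ℤ. (The published statement also identifies the complement of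
the Dickson special orthogonal group inside it with the non-identity component of the orthogonal
group in characteristic 2.) -/
theorem result (m : ℕ) (hm : 1 ≤ m)
    (G : Over (Spec (CommRingCat.of ℤ))) [GrpObj G] (D : QuadGrp.SOrth'Rep (QuadGrp.splitForm ℤ (2 * m)) G) :
    AlgebraicGeometry.IsReduced G.left ∧ ¬ AlgebraicGeometry.Flat G.hom := by
  obtain ⟨D'⟩ := QuadSchemeLib.exists_model_sorth' D
  obtain ⟨f, hf⟩ := D'.exists_iso
  classical
  have hsplit : ∀ x : Fin (2 * m) → ℤ, QuadGrp.splitForm ℤ (2 * m) x =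
      ∑ i : Fin ((2 * m) / 2), x ⟨2 * i + (2 * m) % 2, by omega⟩ * x ⟨2 * i + 1 + (2 * m) % 2, by omega⟩ := fun x => by
    unfold QuadGrp.splitForm
    rw [dif_neg (by omega), add_zero, QuadraticMap.sum_apply]
    rfl
  have hdet : IsUnit (QuadGrpLib.polarOf (QuadGrp.coeffs (Pi.basisFun ℤ (Fin (2 * m))) (LinearEquiv.refl ℤ ℤ)
      (QuadGrp.splitForm ℤ (2 * m)))).det := by
    rw [← QuadGrpLib.polarMat_eq_polarOf]
    set P := QuadGrpLib.polarMat (Pi.basisFun ℤ (Fin (2 * m))) (QuadGrp.splitForm ℤ (2 * m)) with hP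
    let q : Fin (2 * m) → Fin (2 * m) := fun i =>
      if h : i.1 % 2 = 0 then ⟨i.1 + 1, by omega⟩ else ⟨i.1 - 1, by omega⟩
    have hq : ∀ i, (q i).1 = if i.1 % 2 = 0 then i.1 + 1 else i.1 - 1 := fun i => by
      simp only [q]; split_ifs <;> rfl
    have hPij : ∀ i j, P i j = if j = q i then 1 else 0 := by
      intro i j
      simp only [hP, QuadGrpLib.polarMat, Matrix.of_apply, QuadraticMap.polar, hsplit, ← Finset.sum_sub_distrib,
        Pi.add_apply, Pi.basisFun_apply]
      rw [Finset.sum_eq_single ⟨i.1 / 2, by omega⟩]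
      · simp only [Pi.single_apply, Fin.ext_iff, hq, Nat.mul_mod_right, add_zero]
        split_ifs <;> first
          | omega
          | norm_num
      · intro k _ hk
        have : k.1 ≠ i.1 / 2 := fun h => hk (Fin.ext h)
        simp only [Pi.single_apply, Fin.ext_iff, Nat.mul_mod_right, add_zero]
        rw [if_neg (show ¬ 2 * k.1 = i.1 by omega), if_neg (show ¬ 2 * k.1 + 1 = i.1 by omega)]
        ring
      · simp
    have hPP : P * P = 1 := by
      refine Matrix.ext fun i j => ?_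
      rw [Matrix.mul_apply, Finset.sum_eq_single (q i)]
      · rw [hPij, hPij, if_pos rfl, one_mul, Matrix.one_apply]
        have : q (q i) = i := by
          apply Fin.ext
          rw [hq, hq]
          split_ifs <;> omega
        rw [this]
        simp [eq_comm]
      · intro k _ hk
        rw [hPij i k, if_neg hk, zero_mul]
      · simp
    exact IsUnit.of_mul_eq_one _ (by rw [← Matrix.det_mul, hPP, Matrix.det_one])
  have hu : IsUnit (QuadGrp.splitForm ℤ (2 * m) fun i => if i.1 < 2 then 1 else 0) := by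
    rw [hsplit, Finset.sum_eq_single ⟨0, by omega⟩]
    · simp [Nat.mul_mod_right]
    · intro i _ hi
      have : i.1 ≠ 0 := fun h => hi (Fin.ext h)
      simp only
      rw [if_neg (by omega), zero_mul]
    · simp
  obtain ⟨hred, hflat⟩ := key m hm (QuadGrp.splitForm ℤ (2 * m)) hdet _ hu
  have hG : G.hom = inv f.left ≫ Spec.map (CommRingCat.ofHom (algebraMap ℤ D'.Ring)) :=
    (IsIso.eq_inv_comp f.left).2 (Over.w f)
  refine ⟨?_, fun h => hflat ?_⟩
  · haveI : _root_.IsReduced D'.Ring := hred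
    haveI : AlgebraicGeometry.IsReduced (QuadGrp.specOver ℤ D'.Ring).left :=
      inferInstanceAs (AlgebraicGeometry.IsReduced (Spec (CommRingCat.of D'.Ring)))
    exact isReduced_of_isOpenImmersion (inv f.left)
  · rw [hG, MorphismProperty.cancel_left_of_respectsIso (P := @AlgebraicGeometry.Flat)] at h
    exact RingHom.flat_algebraMap_iff.1
      ((HasRingHomProperty.Spec_iff (P := @AlgebraicGeometry.Flat) (φ := CommRingCat.ofHom (algebraMap ℤ D'.Ring))).1 h)

end Groth.Agent.S17000
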