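import Groth.Statements.S17003
import Groth.Agent.QuadSplitLib.BaseChangeForm

set_option autoImplicit false
universe u
open scoped TensorProduct
open QuadGrp

namespace Groth.Agent.S17003

/-- Let Q be a quadratic form on R^{2m+1} over a commutative ring R whose half-discriminant in the
standard basis is a unit. Then fppf-locally on R the form Q is isometric to the standard split form
in 2m+1 variables: there is a faithfully flat finitely presented R-algebra A and an isometry between
the base changes to A of Q and of the split form. (For even rank the étale-local statement is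
already available; for odd rank with 2 not a unit the fppf topology is needed.) -/
theorem result (R : Type u) [CommRing R] (m : ℕ)
    (Q : QuadraticForm R (Fin (2 * m + 1) → R))
    (hQ : QuadGrp.IsSemiregular (Pi.basisFun R (Fin (2 * m + 1))) (LinearEquiv.refl R R) Q) :
    ∃ (A : Type u) (_ : CommRing A) (_ : Algebra R A), Module.FaithfullyFlat R A ∧ Algebra.FinitePresentation R A ∧
      Nonempty ((QuadGrp.baseChangeForm A Q).IsometryEquiv
        (QuadGrp.baseChangeForm A (QuadGrp.splitForm R (2 * m + 1)))) := by
  classical
  obtain ⟨A, iC, iA, hff, hfp, g, hg⟩ :=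
    QuadSplitLib.exists_split_odd (QuadGrp.coeffs (Pi.basisFun R (Fin (2 * m + 1))) (LinearEquiv.refl R R) Q) hQ
  refine ⟨A, iC, iA, hff, hfp, ⟨?_⟩⟩
  refine
    { toLinearEquiv := ((QuadSplitLib.coordEquiv A).trans g.symm).trans
        ((LinearEquiv.funCongrLeft A A (QuadSplitLib.splitIdx m).symm).trans (QuadSplitLib.coordEquiv A).symm)
      map_app' := fun x => ?_ }
  change QuadGrp.baseChangeForm A (QuadGrp.splitForm R (2 * m + 1))
    ((QuadSplitLib.coordEquiv A).symm ((LinearEquiv.funCongrLeft A A (QuadSplitLib.splitIdx m).symm)
      (g.symm (QuadSplitLib.coordEquiv A x)))) = QuadGrp.baseChangeForm A Q x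
  rw [QuadSplitLib.baseChangeForm_eq, QuadSplitLib.baseChangeForm_eq, LinearEquiv.apply_symm_apply,
    QuadSplitLib.bq_splitForm, QuadSplitLib.splitForm_apply]
  conv_rhs => rw [← g.apply_symm_apply (QuadSplitLib.coordEquiv A x), hg]
  simp [LinearEquiv.funCongrLeft_apply, LinearMap.funLeft_apply]

end Groth.Agent.S17003
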