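import Groth.Statements.S17006
import Groth.Agent.QuadGrpLib.Scalar

set_option autoImplicit false
universe u
open scoped TensorProduct
open QuadGrp

namespace Groth.Agent.S17006

/-- Let Q be a quadratic form on R^{2m}, m ≥ 2, over a commutative ring R, whose polar form is a perfect
pairing. An isometry g of Q satisfying the Dickson condition commutes, after base change to every
R-algebra A, with every isometry of Q_A satisfying the Dickson condition if and only if g is
multiplication by a scalar whose square is one. (Points-level form of: for even rank at least 4 the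
functorial centre of the special orthogonal group is the central μ₂ and coincides with that of the
naive one.) -/
theorem result (R : Type u) [CommRing R] (m : ℕ) (hm : 2 ≤ m)
    (Q : QuadraticForm R (Fin (2 * m) → R)) (hQ : QuadGrp.IsRegular Q)
    (g : (Fin (2 * m) → R) ≃ₗ[R] (Fin (2 * m) → R)) (hg : g ∈ QuadGrp.SO Q) :
    (∀ (A : Type u) [CommRing A] [Algebra R A], ∀ h ∈ QuadGrp.sorth Q A,
        g.baseChange R A (Fin (2 * m) → R) (Fin (2 * m) → R) * h = h * g.baseChange R A (Fin (2 * m) → R) (Fin (2 * m) → R)) ↔
      ∃ c : R, c * c = 1 ∧ ∀ v, g v = c • v := by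
  refine ⟨fun H => ?_, fun ⟨c, _, hc⟩ A _ _ h _ => QuadGrpLib.baseChange_scalar_comm g hc A h⟩
  refine QuadGrpLib.scalar_of_commRefl (by omega) (Pi.basisFun R (Fin (2 * m))) Q (Or.inl hQ) g ?_ ?_
  · unfold QuadGrp.SO at hg
    split_ifs at hg
    · exact hg.1
    · exact hg.1
  · intro A _ _ U V hU hV y
    exact LinearEquiv.congr_fun (H A _ (QuadGrpLib.refl_mul_refl_mem_SO _ hU hV)) y

end Groth.Agent.S17006
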