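import Groth.Statements.S17007
import Groth.Agent.CliffRegLib.StructEven

set_option autoImplicit false
universe u v
open QuadGrp

namespace Groth.Agent.S17007

/-- Over a local ring, for a quadratic form Q on a finite free module of even rank 2m ≥ 2 whose polar
form is a perfect pairing, the isometries satisfying the Dickson condition form a subgroup of index
2 in the group of all isometries. (Points-level form, over a local base, of: the Dickson invariant
from the orthogonal group onto the constant group ℤ/2 is surjective with kernel the special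
orthogonal group.) -/
theorem result {R : Type u} [CommRing R] [IsLocalRing R]
    {M : Type v} [AddCommGroup M] [Module R M] [Module.Free R M] [Module.Finite R M]
    (m : ℕ) (hm : 1 ≤ m) (hM : Module.finrank R M = 2 * m) (Q : QuadraticForm R M) (hQ : QuadGrp.IsRegular Q) :
    ((QuadGrp.SOeven Q).subgroupOf (QuadGrp.O Q)).index = 2 := by
  classical
  let b := Module.finBasisOfFinrankEq R M hM
  obtain ⟨z, s, t, D⟩ := CliffRegLib.exists_centreDatum b hQ
  have hspan := CliffRegLib.span_range_eq_top b (by omega) hQ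
  obtain ⟨u, hu⟩ := CliffRegLib.exists_isUnit_value hspan
  let r : ↥(QuadGrp.O Q) := ⟨QuadGrpLib.refl Q hu, QuadGrpLib.refl_mem_O Q hu⟩
  rw [Subgroup.index_eq_two_iff]
  refine ⟨r, fun g => ?_⟩
  have hiff : ∀ (h : ↥(QuadGrp.O Q)), h ∈ (QuadGrp.SOeven Q).subgroupOf (QuadGrp.O Q) ↔
      CliffRegLib.fmap (h : M ≃ₗ[R] M) h.2 z = z := fun h => by
    rw [Subgroup.mem_subgroupOf]
    constructor
    · rintro ⟨hh, hd⟩
      exact (D.dicksonTrivial_iff _ hh hspan b hQ).1 hd
    · intro hh
      exact ⟨h.2, (D.dicksonTrivial_iff _ h.2 hspan b hQ).2 hh⟩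
  rw [hiff, hiff]
  have hcomp : CliffRegLib.fmap ((g * r : ↥(QuadGrp.O Q)) : M ≃ₗ[R] M) (g * r).2 =
      (CliffRegLib.fmap (g : M ≃ₗ[R] M) g.2).comp (CliffRegLib.fmap (r : M ≃ₗ[R] M) r.2) :=
    CliffordAlgebra.hom_ext (LinearMap.ext fun v => by simp)
  have hgr : CliffRegLib.fmap ((g * r : ↥(QuadGrp.O Q)) : M ≃ₗ[R] M) (g * r).2 z =
      algebraMap R _ s - CliffRegLib.fmap (g : M ≃ₗ[R] M) g.2 z := by
    rw [hcomp, AlgHom.comp_apply, D.fmap_refl hu, map_sub, AlgHom.commutes]
  rw [hgr]
  obtain ⟨ε, hε, hεz⟩ := D.exists_dickson (g : M ≃ₗ[R] M) g.2 hspan b hQ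
  have hne : algebraMap R (CliffordAlgebra Q) s - z ≠ z := fun h => by
    have := D.eq_zero_of_anticomm (x := 1) (by rw [mul_one, two_smul, sub_eq_zero]; exact (sub_eq_iff_eq_add.1 h).symm)
    exact one_ne_zero (CliffRegLib.algebraMap_injective b Q (by rw [map_one, map_zero]; exact this))
  have hloc : ε = 0 ∨ ε = 1 := by
    rcases IsLocalRing.isUnit_or_isUnit_one_sub_self ε with h | h
    · exact Or.inr (h.mul_left_cancel (by rw [hε, mul_one]))
    · exact Or.inl (h.mul_left_cancel (by linear_combination -hε))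
  rcases hloc with rfl | rfl
  · simp only [zero_smul, sub_zero, one_smul, zero_add] at hεz
    rw [hεz, sub_sub_cancel]
    exact Or.inl ⟨rfl, hne⟩
  · simp only [one_smul, sub_self, zero_smul, add_zero] at hεz
    rw [hεz]
    exact Or.inr ⟨rfl, hne⟩

end Groth.Agent.S17007
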