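import Groth.Statements.S17009
import Groth.Agent.CliffRegLib.StructEven

set_option autoImplicit false
universe u v
open QuadGrp

namespace Groth.Agent.S17009

/-- For a quadratic form Q on a finite free module M of even rank 2m ≥ 2 over a commutative ring whose
polar form is a perfect pairing, every unit of the Clifford algebra normalising M is locally
homogeneous for the ℤ/2-grading (some idempotent e of the base has e u even and (1 − e) u odd), so
the naive Clifford group is contained in, hence equal to, the Clifford group of locally homogeneous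
normalising units. (False for degenerate forms: for the zero form on a rank-two module over the
field with two elements, 1 + v normalises the module and is not locally homogeneous.) -/
theorem result {R : Type u} [CommRing R] {M : Type v} [AddCommGroup M] [Module R M] [Module.Free R M] [Module.Finite R M]
    (m : ℕ) (hm : 1 ≤ m) (hM : Module.finrank R M = 2 * m) (Q : QuadraticForm R M) (hQ : QuadGrp.IsRegular Q) :
    QuadGrp.GPin' Q ≤ QuadGrp.LH Q := by
  intro u hu
  classical
  by_cases hR : Subsingleton R
  · haveI := hR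
    haveI : Subsingleton (CliffordAlgebra Q) := Module.subsingleton R _
    exact ⟨1, one_mul 1, by rw [Subsingleton.elim ((1 : R) • (u : CliffordAlgebra Q)) 0]; exact Submodule.zero_mem _,
      by rw [Subsingleton.elim ((1 - 1 : R) • (u : CliffordAlgebra Q)) 0]; exact Submodule.zero_mem _⟩
  haveI : Nontrivial R := not_subsingleton_iff_nontrivial.1 hR
  let b := Module.finBasisOfFinrankEq R M hM
  obtain ⟨z, s, t, D⟩ := CliffRegLib.exists_centreDatum b hQ
  have hspan := CliffRegLib.span_range_eq_top b (by omega) hQ
  have hinj : Function.Injective (CliffordAlgebra.ι Q) := fun x y hxy => by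
    refine b.ext_elem fun i => ?_
    have h : ∀ v, (CliffRegLib.cbasis b Q).repr (CliffordAlgebra.ι Q v) {i} = b.repr v i := fun v => by
      conv_lhs => rw [← b.sum_repr v]
      simp only [map_sum, map_smul, ← CliffRegLib.cbasis_singleton b Q, Module.Basis.repr_self,
        Finsupp.coe_finsetSum, Finset.sum_apply, Finsupp.smul_apply]
      rw [Finset.sum_eq_single i]
      · simp
      · intro j _ hj; simp [Ne.symm hj]
      · simp
    rw [← h x, ← h y, hxy]
  -- the isometry induced by conjugation
  have hmem : ∀ v, ∃ w, CliffordAlgebra.ι Q w = (u : CliffordAlgebra Q) * CliffordAlgebra.ι Q v * ↑u⁻¹ := by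
    intro v
    rw [QuadGrp.mem_GPin'] at hu
    have : ConjAct.toConjAct u • CliffordAlgebra.ι Q v ∈ LinearMap.range (CliffordAlgebra.ι Q) := by
      rw [← hu]; exact Submodule.smul_mem_pointwise_smul _ _ _ ⟨v, rfl⟩
    obtain ⟨w, hw⟩ := this
    exact ⟨w, hw.trans (by rw [ConjAct.units_smul_def]; simp)⟩
  have hmem' : ∀ v, ∃ w, CliffordAlgebra.ι Q w = (↑u⁻¹ : CliffordAlgebra Q) * CliffordAlgebra.ι Q v * u := by
    intro v
    have hu' := (QuadGrp.GPin' Q).inv_mem hu
    rw [QuadGrp.mem_GPin'] at hu'
    have : ConjAct.toConjAct u⁻¹ • CliffordAlgebra.ι Q v ∈ LinearMap.range (CliffordAlgebra.ι Q) := by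
      rw [← hu']; exact Submodule.smul_mem_pointwise_smul _ _ _ ⟨v, rfl⟩
    obtain ⟨w, hw⟩ := this
    exact ⟨w, hw.trans (by rw [ConjAct.units_smul_def]; simp)⟩
  choose g₀ hg₀ using hmem
  choose g₁ hg₁ using hmem'
  let g : M ≃ₗ[R] M :=
    { toFun := g₀
      invFun := g₁
      map_add' := fun x y => hinj (by simp only [map_add, hg₀, mul_add, add_mul])
      map_smul' := fun r x => hinj (by
        simp only [map_smul, hg₀, mul_smul_comm, smul_mul_assoc, RingHom.id_apply])
      left_inv := fun x => hinj (by simp [hg₁, hg₀, mul_assoc])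
      right_inv := fun x => hinj (by simp [hg₁, hg₀, mul_assoc]) }
  have hg : g ∈ QuadGrp.O Q := fun v => CliffRegLib.algebraMap_injective b Q (by
    rw [← CliffordAlgebra.ι_sq_scalar, ← CliffordAlgebra.ι_sq_scalar]
    change CliffordAlgebra.ι Q (g₀ v) * CliffordAlgebra.ι Q (g₀ v) = _
    rw [hg₀, mul_assoc, ← mul_assoc (↑u⁻¹ : CliffordAlgebra Q), ← mul_assoc (↑u⁻¹ : CliffordAlgebra Q),
      Units.inv_mul, one_mul, ← mul_assoc, mul_assoc (u : CliffordAlgebra Q),
      CliffordAlgebra.ι_sq_scalar, ← Algebra.commutes, mul_assoc, Units.mul_inv, mul_one])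
  have hconj : ∀ x, CliffRegLib.fmap g hg x * u = u * x := by
    intro x
    induction x using CliffordAlgebra.induction with
    | algebraMap r => rw [AlgHom.commutes, Algebra.commutes]
    | ι y =>
      rw [CliffRegLib.fmap_ι]
      change CliffordAlgebra.ι Q (g₀ y) * _ = _
      rw [hg₀, mul_assoc, Units.inv_mul, mul_one]
    | mul p q hp hq => rw [map_mul, mul_assoc, hq, ← mul_assoc, hp, mul_assoc]
    | add p q hp hq => rw [map_add, add_mul, hp, hq, mul_add]
  obtain ⟨ε, hε, hεz⟩ := D.exists_dickson g hg hspan b hQ
  have hz := hconj z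
  rw [hεz] at hz
  refine ⟨ε, hε, D.mem_even_of_commute ?_, D.mem_odd_of_anticommute ?_⟩
  · have h := congrArg (ε • ·) hz
    simp only [smul_smul, add_mul, smul_mul_assoc, mul_smul_comm, smul_add, mul_sub, mul_one, hε,
      sub_self, zero_smul, add_zero] at h
    rw [mul_smul_comm, smul_mul_assoc]
    exact h
  · have h := congrArg ((1 - ε) • ·) hz
    simp only [smul_smul, add_mul, smul_mul_assoc, mul_smul_comm, smul_add] at h
    rw [show (1 - ε) * ε = 0 by linear_combination -hε, zero_smul, zero_add,
      show (1 - ε) * (1 - ε) = 1 - ε by linear_combination hε] at h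
    rw [mul_smul_comm, smul_mul_assoc]
    exact h.symm

end Groth.Agent.S17009
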