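import Groth.Statements.S1701
import Groth.Agent.RelDivLib.Alg
import Groth.Agent.IdealStalkLib.Cartier

set_option autoImplicit false
universe u
open CategoryTheory CategoryTheory.Limits AlgebraicGeometry TopologicalSpace
open SDiv

namespace Groth.Agent.S1701

open CategoryTheory CategoryTheory.Limits AlgebraicGeometry

set_option backward.isDefEq.respectTransparency false
set_option backward.defeqAttrib.useBackward true
set_option linter.style.haveILetI false

/-- Let f : X ⟶ S be a morphism, 𝓘 the ideal sheaf of an effective Cartier divisor D ⊂ X such that D ⟶ S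
is flat (a relative effective Cartier divisor), and x a point of D at which the local ring of X is
Noetherian. Then f is flat at x. -/
theorem result {X S : Scheme.{u}} (f : X ⟶ S) (𝓘 : X.IdealSheafData)
    (hD : (BlowUp.IsEffCartierIdeal 𝓘 ∧ Flat (𝓘.subschemeι ≫ f))) (d : ↥𝓘.subscheme) [IsNoetherianRing (X.presheaf.stalk (𝓘.subschemeι d))] :
    (f.stalkMap (𝓘.subschemeι d)).hom.Flat := by

  obtain ⟨hI, hfl⟩ := hD
  set j := 𝓘.subschemeι
  obtain ⟨U, hxU, g, hg, hIU⟩ := hI (j d)
  letI : Algebra Γ(X, U.1) (X.presheaf.stalk (j d)) := TopCat.Presheaf.algebra_section_stalk X.presheaf ⟨j d, hxU⟩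
  haveI := U.2.isLocalization_stalk ⟨j d, hxU⟩
  let a : X.presheaf.stalk (j d) := algebraMap Γ(X, U.1) _ g
  have ha : a ∈ nonZeroDivisors (X.presheaf.stalk (j d)) :=
    IsLocalization.map_nonZeroDivisors_le (U.2.primeIdealOf ⟨j d, hxU⟩).asIdeal.primeCompl _ ⟨g, hg, rfl⟩
  have hspan : IntMult.stalkIdeal 𝓘 (j d) = Ideal.span {a} := by
    rw [IdealStalkLib.stalkIdeal_eq 𝓘 U (j d) hxU, hIU, Ideal.map_span, Set.image_singleton]
    rfl
  have hk : RingHom.ker (j.stalkMap d).hom = Ideal.span {a} := (IdealStalkLib.ker_stalkMap_subschemeι 𝓘 d).trans hspan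
  have hsupp : j d ∈ 𝓘.support := by
    rw [← SetLike.mem_coe, ← 𝓘.range_subschemeι]
    exact Set.mem_range_self d
  have ham : a ∈ IsLocalRing.maximalIdeal (X.presheaf.stalk (j d)) :=
    IdealStalkLib.stalkIdeal_le_maximal 𝓘 hsupp (hspan.symm ▸ Ideal.mem_span_singleton_self a)
  letI := (f.stalkMap (j d)).hom.toAlgebra
  letI : Algebra (S.presheaf.stalk (f (j d))) (𝓘.subscheme.presheaf.stalk d) := ((j ≫ f).stalkMap d).hom.toAlgebra
  haveI hflat : Module.Flat (S.presheaf.stalk (f (j d))) (𝓘.subscheme.presheaf.stalk d) := Flat.stalkMap (j ≫ f) d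
  let e : (X.presheaf.stalk (j d) ⧸ Ideal.span {a}) ≃+* 𝓘.subscheme.presheaf.stalk d :=
    (Ideal.quotEquivOfEq hk.symm).trans (RingHom.quotientKerEquivOfSurjective (f := (j.stalkMap d).hom) (j.stalkMap_surjective d))
  let E : (X.presheaf.stalk (j d) ⧸ Ideal.span {a}) ≃ₗ[S.presheaf.stalk (f (j d))] 𝓘.subscheme.presheaf.stalk d :=
    (AlgEquiv.ofRingEquiv (f := e) fun r => by
      show (j.stalkMap d).hom ((f.stalkMap (j d)).hom r) = ((j ≫ f).stalkMap d).hom r
      rw [Scheme.Hom.stalkMap_comp]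
      rfl).toLinearEquiv
  haveI := Module.Flat.of_linearEquiv E
  exact RelDivLib.flat_of_flat_quot (A := S.presheaf.stalk (f (j d))) ha ham


end Groth.Agent.S1701
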