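import Groth.Statements.S17010
import Groth.Agent.QuadSchemeLib.CliffLift
import Groth.Agent.S17009

set_option autoImplicit false
universe u
open CategoryTheory AlgebraicGeometry
open QuadGrp

namespace Groth.Agent.S17010

/-- Let Q be a quadratic form on R^{2m}, m ≥ 1, over a commutative ring R, whose polar form is a perfect
pairing, and let G be a group scheme over Spec R which is the Clifford group of Q (its A-valued
points are the locally homogeneous units of the Clifford algebra of Q_A normalising the module,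
naturally in A). Then G is smooth and affine over Spec R. -/
theorem result (R : Type u) [CommRing R] (m : ℕ) (hm : 1 ≤ m)
    (Q : QuadraticForm R (Fin (2 * m) → R)) (hQ : QuadGrp.IsRegular Q)
    (G : Over (Spec (CommRingCat.of R))) [GrpObj G] (D : QuadGrp.GPinRep Q G) :
    AlgebraicGeometry.Smooth G.hom ∧ IsAffineHom G.hom := by
  obtain ⟨D'⟩ := QuadSchemeLib.exists_cmodel (n := 2 * m) false _ D fun A _ _ u => ⟨fun h => ⟨h, by simp⟩, fun h => h.1⟩
  refine ⟨D'.smooth_iff.1.2 ?_, D'.smooth_iff.2⟩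
  refine QuadSchemeLib.clifts_of Q false fun A _ _ I hI ub hub => ?_
  classical
  rcases subsingleton_or_nontrivial A with hA | hA
  · haveI : Subsingleton (A ⧸ I) := Quotient.instSubsingletonQuotient _
    haveI : Subsingleton (QuadSchemeLib.CQ Q (A ⧸ I)) := Module.subsingleton (A ⧸ I) _
    exact ⟨1, ⟨one_mem _, by simp⟩, Subsingleton.elim _ _⟩
  have hreg : ∀ (B : Type u) [CommRing B] [Algebra R B],
      QuadGrp.IsRegular (QuadGrp.baseChangeForm B Q) := fun B _ _ => by
    have h : IsUnit (QuadGrpLib.polarOf (QuadSchemeLib.tab Q B)).det := by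
      rw [← QuadGrpLib.map_polarOf, ← RingHom.mapMatrix_apply, ← RingHom.map_det]
      refine IsUnit.map _ ?_
      rw [← QuadGrpLib.polarMat_eq_polarOf]
      exact QuadGrpLib.isUnit_det_polarMat _ hQ
    exact CliffRegLib.isRegular_of_isUnit_det (QuadSchemeLib.bA B)
      (by rw [QuadGrpLib.polarMat_eq_polarOf, QuadSchemeLib.coeffs_baseChangeForm]; exact h)
  obtain ⟨gb, hgb, -, hub'⟩ := CliffRegLib.exists_conj_isometry (QuadSchemeLib.bA (A ⧸ I)) hub.1.1
  have hdet : IsUnit (QuadGrpLib.polarOf (QuadSchemeLib.tab Q A)).det := by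
    rw [← QuadGrpLib.map_polarOf, ← RingHom.mapMatrix_apply, ← RingHom.map_det]
    refine IsUnit.map _ ?_
    rw [← QuadGrpLib.polarMat_eq_polarOf]
    exact QuadGrpLib.isUnit_det_polarMat _ hQ
  obtain ⟨G, hG, hmap⟩ := QuadSchemeLib.exists_lift_regular hI _ hdet _ ((QuadSchemeLib.mem_O_iff Q gb).1 hgb)
  obtain ⟨g, hg, -, hnat⟩ := QuadSchemeLib.exists_isometry_lift Q gb hgb G hG hmap
  obtain ⟨z, s, t, D₀⟩ := CliffRegLib.exists_centreDatum (QuadSchemeLib.bA A) (hreg A)
  have hsurj := D₀.mulLeftRight_surjective (QuadSchemeLib.bA A) (hreg A)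
  obtain ⟨y, hy⟩ := QuadSchemeLib.bc_surjective Q (Ideal.Quotient.mkₐ R I) Ideal.Quotient.mk_surjective
    (ub : QuadSchemeLib.CQ Q (A ⧸ I))
  obtain ⟨u, hu, hFu⟩ := QuadSchemeLib.exists_intertwiner_lift
    (CliffRegLib.bijective_mulLeftRight (CliffRegLib.cbasis (QuadSchemeLib.bA A) _) hsurj)
    ((CliffRegLib.cbasis (QuadSchemeLib.bA A) _).coord ∅)
    (by rw [← CliffRegLib.one_eq_cbasis (QuadSchemeLib.bA A) (QuadGrp.baseChangeForm A Q), Module.Basis.coord_apply,
      Module.Basis.repr_self, Finsupp.single_eq_same])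
    (CliffRegLib.fmap g hg) (QuadSchemeLib.bc Q (Ideal.Quotient.mkₐ R I)) y
    (fun a => by rw [map_mul, map_mul, hnat, hy]; exact hub' _)
  rw [hy] at hFu
  have hu_unit : IsUnit u := QuadSchemeLib.isUnit_of_bc Q hI (by rw [hFu]; exact ub.isUnit)
  obtain ⟨U, rfl⟩ := hu_unit
  have hU : U ∈ QuadGrp.GPin' (QuadGrp.baseChangeForm A Q) := CliffRegLib.mem_GPin'_of_conj g fun v => by
    rw [← hu, mul_assoc, Units.mul_inv, mul_one]
    exact CliffRegLib.fmap_ι g hg v
  haveI := Module.Free.of_basis (QuadSchemeLib.bA (R := R) (n := 2 * m) A)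
  haveI := Module.Finite.of_basis (QuadSchemeLib.bA (R := R) (n := 2 * m) A)
  exact ⟨U, ⟨⟨hU, S17009.result m hm
    (by rw [Module.finrank_eq_card_basis (QuadSchemeLib.bA (R := R) (n := 2 * m) A), Fintype.card_fin])
    _ (hreg A) hU⟩, by simp⟩, hFu⟩

end Groth.Agent.S17010
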