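import Groth.Statements.S17015
import Groth.Agent.QuadGrpLib.Generic
import Groth.Agent.QuadGrpLib.Polar
import Mathlib.RingTheory.LocalRing.ResidueField.Ideal
import Mathlib.LinearAlgebra.Matrix.ToLinearEquiv
import Mathlib.LinearAlgebra.QuadraticForm.Radical
import Mathlib.LinearAlgebra.Dimension.DivisionRing

set_option autoImplicit false
universe u v
open QuadGrp

namespace Groth.Agent.S17015

open QuadGrpLib MvPolynomial in
theorem hd_zero_row {R : Type u} [CommRing R] {n : ℕ} (hn : Odd (n + 1))
    (a : Sym2 (Fin (n + 1)) → R) (ha : ∀ j, j ≠ 0 → a (Sym2.mk 0 j) = 0) :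
    hd a = a (Sym2.mk 0 0) * ((polarOf a).submatrix Fin.succ Fin.succ).det := by
  classical
  let U := MvPolynomial (Sym2 (Fin (n + 1))) ℤ
  let a₀ : Sym2 (Fin (n + 1)) → U := fun z =>
    if (0 : Fin (n + 1)) ∈ z ∧ z ≠ Sym2.mk 0 0 then 0 else X z
  have hU : (2 : U) ≠ 0 := fun h => by
    have := congrArg (constantCoeff : U →+* ℤ) h
    simp [map_ofNat] at this
  have hrow : ∀ j, j ≠ 0 → a₀ (Sym2.mk 0 j) = 0 := fun j hj => by
    simp only [a₀]
    rw [if_pos ⟨Sym2.mem_mk_left _ _, fun h => hj (Sym2.congr_right.1 h)⟩]
  have h0 : hd a₀ = a₀ (Sym2.mk 0 0) * ((polarOf a₀).submatrix Fin.succ Fin.succ).det := by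
    apply mul_left_cancel₀ hU
    rw [two_mul_hd hn, Matrix.det_succ_row_zero, Finset.sum_eq_single 0]
    · simp [polarOf, mul_assoc]
    · intro j _ hj
      simp [polarOf, Ne.symm hj, hrow j hj]
    · simp
  let f : U →+* R := eval₂Hom (Int.castRingHom R) a
  have hfa : f ∘ a₀ = a := by
    funext z
    simp only [Function.comp_apply, a₀]
    split_ifs with h
    · obtain ⟨j, rfl⟩ := Sym2.mem_iff_exists.1 h.1
      rw [map_zero, ha j]
      rintro rfl
      exact h.2 rfl
    · exact eval₂Hom_X' _ _ _
  have := congrArg f h0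
  rw [map_hd, hfa, map_mul, RingHom.map_det, RingHom.mapMatrix_apply, ← Matrix.submatrix_map,
    map_polarOf, hfa, show f (a₀ (Sym2.mk 0 0)) = a (Sym2.mk 0 0) from congrFun hfa _] at this
  exact this

open QuadGrpLib in
theorem halfDisc_ne_zero_iff {k : Type u} [Field k] {V : Type v} [AddCommGroup V] [Module k V]
    (m : ℕ) (b : Module.Basis (Fin (2 * m + 1)) k V) (Q : QuadraticForm k V) :
    QuadGrp.halfDisc b (LinearEquiv.refl k k) Q ≠ 0 ↔ Q.Nondegenerate := by
  classical
  haveI := Module.Finite.of_basis b
  have hodd : Odd (2 * m + 1) := ⟨m, rfl⟩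
  have htwo : 2 * QuadGrp.halfDisc b (LinearEquiv.refl k k) Q = (polarMat b Q).det := by
    rw [polarMat_eq_polarOf, ← two_mul_hd hodd]; rfl
  have hker : ∀ (b : Module.Basis (Fin (2 * m + 1)) k V) (w : V),
      w ∈ Q.polarBilin.ker ↔ ∀ j, QuadraticMap.polar Q w (b j) = 0 := fun b w =>
    ⟨fun h j => LinearMap.congr_fun h (b j), fun h => b.ext h⟩
  have hdet : ∀ w, w ∈ Q.polarBilin.ker → w ≠ 0 → (polarMat b Q).det = 0 := fun w hw hw0 => by
    refine Matrix.exists_vecMul_eq_zero_iff.1 ⟨b.repr w, fun h => hw0 ?_, ?_⟩
    · exact b.repr.map_eq_zero_iff.1 (DFunLike.coe_injective h)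
    · funext j
      exact (polar_eq_sum b Q w j).symm.trans ((hker b w).1 hw j)
  by_cases h2 : (2 : k) = 0
  swap
  · have hrad : Q.radical = Q.polarBilin.ker := by
      refine le_antisymm QuadraticMap.radical_le_ker_polarBilin fun w hw => ⟨?_, hw⟩
      have := LinearMap.congr_fun hw w
      rw [QuadraticMap.polarBilin_apply_apply, QuadraticMap.polar_self, LinearMap.zero_apply,
        nsmul_eq_mul, Nat.cast_ofNat] at this
      exact (mul_eq_zero.1 this).resolve_left h2
    constructor
    · intro h
      have hbot : Q.polarBilin.ker = ⊥ := (Submodule.eq_bot_iff _).2 fun w hw => by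
        by_contra hw0
        exact mul_ne_zero h2 h (htwo.trans (hdet w hw hw0))
      exact ⟨hrad.trans hbot, by rw [hbot]; simp⟩
    · intro h h0
      rw [h0, mul_zero] at htwo
      obtain ⟨c, hc, hc0⟩ := Matrix.exists_vecMul_eq_zero_iff.2 htwo.symm
      have hmem : b.equivFun.symm c ∈ Q.polarBilin.ker := (hker b _).2 fun j => by
        rw [polar_eq_sum b]
        simpa [Matrix.vecMul, dotProduct, Module.Basis.equivFun_symm_apply, Finsupp.single_apply]
          using congrFun hc0 j
      rw [← hrad, h.radical_eq_bot, Submodule.mem_bot, LinearEquiv.map_eq_zero_iff] at hmem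
      exact hc hmem
  · obtain ⟨v, hv, hv0⟩ : ∃ v ∈ Q.polarBilin.ker, v ≠ 0 := by
      rw [h2, zero_mul] at htwo
      obtain ⟨c, hc, hc0⟩ := Matrix.exists_vecMul_eq_zero_iff.2 htwo.symm
      refine ⟨b.equivFun.symm c, (hker b _).2 fun j => ?_, fun h =>
        hc ((LinearEquiv.map_eq_zero_iff _).1 h)⟩
      rw [polar_eq_sum b]
      simpa [Matrix.vecMul, dotProduct, Module.Basis.equivFun_symm_apply, Finsupp.single_apply]
        using congrFun hc0 j
    obtain ⟨b', hb'⟩ : ∃ b' : Module.Basis (Fin (2 * m + 1)) k V, b' 0 = v := by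
      have hli : LinearIndepOn k id ({v} : Set V) := LinearIndepOn.singleton (by simpa using hv0)
      let B := Module.Basis.extend hli
      haveI : Fintype (hli.extend (Set.subset_univ _)) := FiniteDimensional.fintypeBasisIndex B
      let e := B.indexEquiv b
      let i₀ : hli.extend (Set.subset_univ _) := ⟨v, Module.Basis.subset_extend hli rfl⟩
      refine ⟨B.reindex (e.trans (Equiv.swap (e i₀) 0)), ?_⟩
      simp [B, i₀]
    let g := b.equiv b' (Equiv.refl _)
    have hco : QuadGrp.coeffs b (LinearEquiv.refl k k) (Q.comp g.toLinearMap) =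
        QuadGrp.coeffs b' (LinearEquiv.refl k k) Q := by
      funext z
      induction z using Sym2.ind with
      | h i j =>
        simp only [QuadGrp.coeffs_mk, QuadraticMap.polar, QuadraticMap.comp_apply, map_add,
          LinearEquiv.coe_coe, g, Module.Basis.equiv_apply, Equiv.refl_apply]
    have hchange : QuadGrp.halfDisc b' (LinearEquiv.refl k k) Q =
        LinearMap.det g.toLinearMap ^ 2 * QuadGrp.halfDisc b (LinearEquiv.refl k k) Q := by
      rw [← halfDisc_comp m b Q g.toLinearMap]
      simp only [QuadGrp.halfDisc, hco]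
    have hg : LinearMap.det g.toLinearMap ≠ 0 := g.isUnit_det'.ne_zero
    set a := QuadGrp.coeffs b' (LinearEquiv.refl k k) Q with ha
    have hrow : ∀ j, j ≠ 0 → a (Sym2.mk 0 j) = 0 := fun j hj => by
      rw [ha, QuadGrp.coeffs_mk, if_neg (Ne.symm hj), hb']
      exact (hker b' v).1 hv j
    have hhd : QuadGrp.halfDisc b' (LinearEquiv.refl k k) Q =
        Q v * ((polarMat b' Q).submatrix Fin.succ Fin.succ).det := by
      rw [polarMat_eq_polarOf, ← ha]
      change hd a = _
      rw [hd_zero_row hodd a hrow, ha, QuadGrp.coeffs_mk, if_pos rfl, hb']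
      rfl
    have hP0 : ∀ y, polarMat b' Q 0 y = 0 := fun y => by
      rw [polarMat, Matrix.of_apply, hb']; exact (hker b' v).1 hv y
    have hsub : ((polarMat b' Q).submatrix Fin.succ Fin.succ).det ≠ 0 ↔
        Q.polarBilin.ker ≤ Submodule.span k {v} := by
      constructor
      · intro h w hw
        have hz : (fun i => b'.repr w (Fin.succ i)) = 0 := by
          by_contra hne
          refine h (Matrix.exists_vecMul_eq_zero_iff.1 ⟨_, hne, funext fun y => ?_⟩)
          have := (polar_eq_sum b' Q w y.succ).symm.trans ((hker b' w).1 hw y.succ)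
          rw [Fin.sum_univ_succ, hP0, mul_zero, zero_add] at this
          exact this
        refine Submodule.mem_span_singleton.2 ⟨b'.repr w 0, ?_⟩
        conv_rhs => rw [← b'.sum_repr w, Fin.sum_univ_succ]
        rw [hb', Finset.sum_eq_zero fun i _ => by rw [show b'.repr w i.succ = 0 from congrFun hz i, zero_smul],
          add_zero]
      · intro h hd0
        obtain ⟨c, hc, hc0⟩ := Matrix.exists_vecMul_eq_zero_iff.2 hd0
        let w := b'.equivFun.symm (Fin.cons 0 c)
        have hw : ∀ i, b'.repr w i = (Fin.cons 0 c : Fin (2 * m + 1) → k) i := fun i => by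
          simp [w, Module.Basis.equivFun_symm_apply, Finsupp.single_apply]
        have hmem : w ∈ Q.polarBilin.ker := (hker b' w).2 fun j => by
          induction j using Fin.cases with
          | zero =>
            rw [hb', QuadraticMap.polar_comm, ← QuadraticMap.polarBilin_apply_apply]
            exact LinearMap.congr_fun hv w
          | succ y =>
            rw [polar_eq_sum b', Fin.sum_univ_succ, hP0, mul_zero, zero_add]
            simp only [hw, Fin.cons_succ]
            exact congrFun hc0 y
        obtain ⟨t, ht⟩ := Submodule.mem_span_singleton.1 (h hmem)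
        refine hc (funext fun i => ?_)
        have := congrArg (fun x => b'.repr x i.succ) ht
        simpa [hw, ← hb', Fin.succ_ne_zero, eq_comm] using this.symm
    constructor
    · intro h
      have h' : Q v * ((polarMat b' Q).submatrix Fin.succ Fin.succ).det ≠ 0 := by
        rw [← hhd, hchange]
        exact mul_ne_zero (pow_ne_zero 2 hg) h
      have hle := hsub.1 (right_ne_zero_of_mul h')
      refine ⟨(Submodule.eq_bot_iff _).2 fun w hw => ?_, ?_⟩
      · obtain ⟨t, rfl⟩ := Submodule.mem_span_singleton.1 (hle hw.2)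
        have := hw.1
        rw [QuadraticMap.map_smul, smul_eq_mul, mul_eq_zero] at this
        rcases this with h1 | h1
        · rw [mul_self_eq_zero.1 h1, zero_smul]
        · exact absurd h1 (left_ne_zero_of_mul h')
      · exact (rank_submodule_le_one_iff _).2 ⟨v, hv, hle⟩
    · intro h h0
      obtain ⟨u, hu, hle⟩ := (rank_submodule_le_one_iff _).1 h.rank_rad_polar_le
      have hle' : Q.polarBilin.ker ≤ Submodule.span k {v} := by
        obtain ⟨t, ht⟩ := Submodule.mem_span_singleton.1 (hle hv)
        have ht0 : t ≠ 0 := fun e => hv0 (by rw [← ht, e, zero_smul])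
        rw [← ht, Submodule.span_singleton_smul_eq (isUnit_iff_ne_zero.2 ht0)]
        exact hle
      have hQv : Q v ≠ 0 := fun e => hv0 (by
        have : v ∈ Q.radical := ⟨e, hv⟩
        rwa [h.radical_eq_bot, Submodule.mem_bot] at this)
      rw [h0, mul_zero] at hchange
      exact mul_ne_zero hQv (hsub.2 hle') (hhd.symm.trans hchange)

theorem halfDisc_baseChange {R : Type u} [CommRing R] {M : Type v} [AddCommGroup M] [Module R M]
    [Module.Free R M] {n : ℕ} (b : Module.Basis (Fin n) R M) (Q : QuadraticForm R M)
    (A : Type u) [CommRing A] [Algebra R A] :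
    QuadGrp.halfDisc (Algebra.TensorProduct.basis A b) (LinearEquiv.refl A A)
        (QuadGrp.baseChangeForm A Q) =
      algebraMap R A (QuadGrp.halfDisc b (LinearEquiv.refl R R) Q) := by
  change QuadGrpLib.hd _ = algebraMap R A (QuadGrpLib.hd _)
  rw [QuadGrpLib.map_hd]
  congr 1
  funext z
  induction z using Sym2.ind with
  | h i j =>
    simp only [Function.comp_apply, QuadGrp.coeffs_mk, Algebra.TensorProduct.basis_apply,
      LinearEquiv.refl_apply, QuadGrpLib.baseChangeForm_one_tmul, QuadGrpLib.polar_one_tmul]
    split_ifs <;> rfl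

/-- For a quadratic form Q on a free module with a basis b indexed by Fin (2m+1) over a commutative ring
R, the half-discriminant of Q relative to b is a unit if and only if for every prime ideal p of R
the base change of Q to the residue field of p is nondegenerate (zero quadratic radical and polar
kernel of dimension at most one — over a field this is the fibrewise non-degeneracy of the source:
smooth projective quadric, defect one with non-zero restriction in characteristic two). -/
theorem result {R : Type u} [CommRing R]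
    {M : Type v} [AddCommGroup M] [Module R M] [Module.Free R M]
    (m : ℕ) (b : Module.Basis (Fin (2 * m + 1)) R M) (Q : QuadraticForm R M) :
    IsUnit (QuadGrp.halfDisc b (LinearEquiv.refl R R) Q) ↔
      ∀ (p : Ideal R) [p.IsPrime], QuadraticMap.Nondegenerate (Q := QuadGrp.baseChangeForm p.ResidueField Q) := by
  constructor
  · intro h p _
    refine (halfDisc_ne_zero_iff m (Algebra.TensorProduct.basis p.ResidueField b) _).1 ?_
    rw [halfDisc_baseChange]
    exact (h.map _).ne_zero
  · intro h
    by_contra hu
    obtain ⟨p, hp, hmem⟩ := exists_max_ideal_of_mem_nonunits hu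
    haveI := hp.isPrime
    have := (halfDisc_ne_zero_iff m (Algebra.TensorProduct.basis p.ResidueField b) _).2 (h p)
    rw [halfDisc_baseChange] at this
    exact this (Ideal.algebraMap_residueField_eq_zero.2 hmem)

end Groth.Agent.S17015
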