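import Groth.Statements.S17016
import Groth.Prelude.Def_QuadGrp
import Mathlib.Data.List.FinRange

set_option autoImplicit false
universe u
open QuadGrp

namespace Groth.Agent.S17016

open CliffordAlgebra in
theorem split_apply (R : Type u) [CommRing R] (m : ℕ) (x : Fin (m * 2) → R) :
    QuadGrp.splitForm R (m * 2) x =
      ∑ i : Fin m, x (finProdFinEquiv (i, 0)) * x (finProdFinEquiv (i, 1)) := by
  unfold QuadGrp.splitForm
  rw [dif_neg (by omega), add_zero, QuadraticMap.sum_apply]
  have hm : m * 2 / 2 = m := by omega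
  refine Fintype.sum_equiv (finCongr hm) _ _ fun i => ?_
  rw [QuadraticMap.linMulLin_apply, LinearMap.proj_apply, LinearMap.proj_apply]
  congr 2 <;> (apply Fin.ext; simp [finProdFinEquiv]; try omega)

theorem split_ι_sq (R : Type u) [CommRing R] (m : ℕ) (j : Fin (m * 2)) :
    CliffordAlgebra.ι (QuadGrp.splitForm R (m * 2)) (Pi.single j 1) *
      CliffordAlgebra.ι (QuadGrp.splitForm R (m * 2)) (Pi.single j 1) = 0 := by
  rw [CliffordAlgebra.ι_sq_scalar, split_apply, Finset.sum_eq_zero, map_zero]
  intro i _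
  rcases eq_or_ne (finProdFinEquiv (i, 0)) j with h | h
  · have h' : finProdFinEquiv (i, 1) ≠ j := by
      rw [← h]; simp
    rw [Pi.single_eq_of_ne h', mul_zero]
  · rw [Pi.single_eq_of_ne h, zero_mul]

theorem split_ι_swap (R : Type u) [CommRing R] (m : ℕ) (i i' : Fin m) (k k' : Fin 2)
    (hk : (i, k) ≠ (i', k')) :
    CliffordAlgebra.ι (QuadGrp.splitForm R (m * 2)) (Pi.single (finProdFinEquiv (i, k)) 1) *
        CliffordAlgebra.ι (QuadGrp.splitForm R (m * 2)) (Pi.single (finProdFinEquiv (i', k')) 1) +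
      CliffordAlgebra.ι (QuadGrp.splitForm R (m * 2)) (Pi.single (finProdFinEquiv (i', k')) 1) *
        CliffordAlgebra.ι (QuadGrp.splitForm R (m * 2)) (Pi.single (finProdFinEquiv (i, k)) 1) =
      if i = i' then 1 else 0 := by
  classical
  rw [CliffordAlgebra.ι_mul_ι_add_swap, QuadraticMap.polar, split_apply, split_apply, split_apply]
  simp only [← Finset.sum_sub_distrib, Pi.add_apply, Pi.single_apply, finProdFinEquiv.injective.eq_iff,
    Prod.mk.injEq]
  split_ifs with h
  · subst h
    rw [← map_one (algebraMap R (CliffordAlgebra _))]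
    congr 1
    rw [Finset.sum_eq_single i]
    · fin_cases k <;> fin_cases k' <;> simp at hk ⊢
    · intro l _ hl
      simp [hl]
    · simp
  · rw [← map_zero (algebraMap R (CliffordAlgebra _))]
    congr 1
    refine Finset.sum_eq_zero fun l _ => ?_
    by_cases h1 : l = i
    · subst h1
      fin_cases k <;> simp [h]
    · by_cases h2 : l = i'
      · subst h2
        fin_cases k' <;> simp [h1]
      · simp [h1, h2]

theorem commute_ring {A : Type u} [Ring A] {a c : A} (e : A) (ha : e * a + a * e = 0)
    (hc : e * c + c * e = 0) : e * (1 - 2 * (a * c)) = (1 - 2 * (a * c)) * e := by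
  rw [eq_neg_of_add_eq_zero_left ha |> fun h => (show e * (1 - 2 * (a * c)) = e - 2 * (e * a * c) by
    simp only [two_mul, mul_sub, mul_one, mul_add, mul_assoc]), eq_neg_of_add_eq_zero_left ha]
  rw [neg_mul, mul_assoc, eq_neg_of_add_eq_zero_left hc]
  simp only [two_mul, sub_mul, one_mul, add_mul, mul_assoc, mul_neg, neg_neg]

theorem pair_ring {A : Type u} [Ring A] {a c : A} (ha : a * a = 0) (hc : c * c = 0)
    (h : a * c + c * a = 1) :
    (1 - 2 * (a * c)) * (1 - 2 * (a * c)) = 1 ∧
      a * (1 - 2 * (a * c)) = -((1 - 2 * (a * c)) * a) ∧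
      c * (1 - 2 * (a * c)) = -((1 - 2 * (a * c)) * c) := by
  have hca : c * a = 1 - a * c := eq_sub_of_add_eq' h
  have hca' : ∀ y, c * (a * y) = y - a * (c * y) := fun y => by
    rw [← mul_assoc, hca, sub_mul, one_mul, mul_assoc]
  have ha' : ∀ y, a * (a * y) = 0 := fun y => by rw [← mul_assoc, ha, zero_mul]
  simp only [two_mul, mul_sub, sub_mul, mul_one, one_mul, mul_add, add_mul, mul_assoc, hca, hca',
    ha, ha', hc, mul_zero, zero_mul, sub_zero, add_zero, zero_sub, zero_add]
  refine ⟨?_, ?_, ?_⟩ <;> abel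

theorem prod_signs {A : Type u} [Ring A] {ι : Type*} (f : ι → A) (e : A) (i₀ : ι)
    (h0 : e * f i₀ = -(f i₀ * e)) (h : ∀ i, i ≠ i₀ → e * f i = f i * e) :
    ∀ L : List ι, L.Nodup →
      (i₀ ∈ L → e * (L.map f).prod = -((L.map f).prod * e)) ∧
      (i₀ ∉ L → e * (L.map f).prod = (L.map f).prod * e)
  | [], _ => by simp
  | a :: L, hL => by
    obtain ⟨ha, hL'⟩ := List.nodup_cons.1 hL
    obtain ⟨h1, h2⟩ := prod_signs f e i₀ h0 h L hL'
    simp only [List.map_cons, List.prod_cons]
    constructor
    · intro hm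
      rcases List.mem_cons.1 hm with rfl | hm
      · rw [← mul_assoc, h0, neg_mul, mul_assoc, h2 ha, mul_assoc]
      · rw [← mul_assoc, h a fun e => ha (e ▸ hm), mul_assoc, h1 hm, mul_neg, mul_assoc]
    · intro hm
      simp only [List.mem_cons, not_or] at hm
      rw [← mul_assoc, h a (Ne.symm hm.1), mul_assoc, h2 hm.2, mul_assoc]

theorem prod_sq {A : Type u} [Ring A] {ι : Type*} (f : ι → A) (hsq : ∀ i, f i * f i = 1)
    (hc : ∀ i j, Commute (f i) (f j)) : ∀ L : List ι, (L.map f).prod * (L.map f).prod = 1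
  | [] => by simp
  | a :: L => by
    have hcomm : Commute (L.map f).prod (f a) := by
      refine Commute.list_prod_left _ _ fun x hx => ?_
      obtain ⟨j, -, rfl⟩ := List.mem_map.1 hx
      exact hc j a
    rw [List.map_cons, List.prod_cons, mul_assoc, ← mul_assoc (L.map f).prod, hcomm.eq, mul_assoc,
      prod_sq f hsq hc L, mul_one, hsq]

/-- For the standard split quadratic form Σ x_{2i} x_{2i+1} on R^{2m} over any commutative ring R, with
standard basis vectors e_j in the Clifford algebra, the product w of the elements 1 − 2 e_{2i}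
e_{2i+1} (i < m, which pairwise commute) satisfies w² = 1 and anticommutes with every e_j. (Hence w
is central in the even Clifford algebra; over rings in which 2 is invertible (1 − w)/2 is the
non-trivial central idempotent of the even part.) -/
theorem result (R : Type u) [CommRing R] (m : ℕ) :
    let Q := QuadGrp.splitForm R (m * 2)
    let e : Fin (m * 2) → CliffordAlgebra Q := fun j => CliffordAlgebra.ι Q (Pi.single j 1)
    let w : CliffordAlgebra Q :=
      ((List.finRange m).map fun i => 1 - 2 * (e (finProdFinEquiv (i, 0)) * e (finProdFinEquiv (i, 1)))).prod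
    w * w = 1 ∧ ∀ j : Fin (m * 2), e j * w = -(w * e j) := by
  intro Q e w
  let f : Fin m → CliffordAlgebra Q := fun i =>
    1 - 2 * (e (finProdFinEquiv (i, 0)) * e (finProdFinEquiv (i, 1)))
  have hp := fun i => pair_ring (split_ι_sq R m (finProdFinEquiv (i, 0)))
    (split_ι_sq R m (finProdFinEquiv (i, 1)))
    ((split_ι_swap R m i i 0 1 (by simp)).trans (if_pos rfl))
  have hcomm : ∀ (i : Fin m) (k : Fin 2) (i' : Fin m), i' ≠ i →
      e (finProdFinEquiv (i, k)) * f i' = f i' * e (finProdFinEquiv (i, k)) := fun i k i' h =>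
    commute_ring _ ((split_ι_swap R m i i' k 0 (by simp [Ne.symm h])).trans (if_neg (Ne.symm h)))
      ((split_ι_swap R m i i' k 1 (by simp [Ne.symm h])).trans (if_neg (Ne.symm h)))
  refine ⟨prod_sq f (fun i => (hp i).1) (fun i i' => ?_) _, fun j => ?_⟩
  · rcases eq_or_ne i' i with rfl | h
    · exact Commute.refl _
    · have h0 : Commute (e (finProdFinEquiv (i, 0))) (f i') := hcomm i 0 i' h
      have h1 : Commute (e (finProdFinEquiv (i, 1))) (f i') := hcomm i 1 i' h
      exact ((Commute.one_left _).sub_left ((Commute.ofNat_left 2 _).mul_left (h0.mul_left h1)))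
  · obtain ⟨⟨i, k⟩, rfl⟩ := finProdFinEquiv.surjective j
    refine (prod_signs f _ i ?_ (hcomm i k) (List.finRange m) (List.nodup_finRange m)).1
      (List.mem_finRange i)
    fin_cases k
    · exact (hp i).2.1
    · exact (hp i).2.2

end Groth.Agent.S17016
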