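import Groth.Statements.S17017
import Groth.Prelude.Def_QuadGrp
import Mathlib.Algebra.QuadraticAlgebra.Defs
import Mathlib.LinearAlgebra.Matrix.Trace

set_option autoImplicit false
universe u
open QuadGrp

namespace Groth.Agent.S17017

open CliffordAlgebra in
theorem split3_apply (k : Type u) [Field k] (x : Fin 3 → k) :
    QuadGrp.splitForm k 3 x = x 1 * x 2 + x 0 * x 0 := by
  unfold QuadGrp.splitForm
  rw [dif_pos (by norm_num), QuadraticMap.add_apply, QuadraticMap.sum_apply]
  simp [QuadraticMap.linMulLin_apply, QuadraticMap.comp_apply, QuadraticMap.sq_apply]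

/-- The representation on `2 × 2` matrices over `k[z]/(z² - 1)`. -/
def rep0 (k : Type u) [Field k] :
    (Fin 3 → k) →ₗ[k] Matrix (Fin 2) (Fin 2) (QuadraticAlgebra k 1 0) where
  toFun x := !![⟨0, x 0⟩, ⟨x 1, 0⟩; ⟨x 2, 0⟩, ⟨0, -x 0⟩]
  map_add' x y := by ext i j <;> fin_cases i <;> fin_cases j <;> simp [add_comm]
  map_smul' c x := by ext i j <;> fin_cases i <;> fin_cases j <;> simp

noncomputable def rep (k : Type u) [Field k] :
    CliffordAlgebra (QuadGrp.splitForm k 3) →ₐ[k] Matrix (Fin 2) (Fin 2) (QuadraticAlgebra k 1 0) :=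
  CliffordAlgebra.lift (QuadGrp.splitForm k 3) ⟨rep0 k, fun x => by
    ext i j <;> fin_cases i <;> fin_cases j <;>
      simp [rep0, split3_apply, Matrix.mul_apply, Matrix.algebraMap_matrix_apply] <;> ring⟩

/-- The coefficient of the trivector. -/
noncomputable def tri (k : Type u) [Field k] : CliffordAlgebra (QuadGrp.splitForm k 3) → k :=
  fun x => (Matrix.trace (rep k x)).im

theorem rep_ι (k : Type u) [Field k] (v : Fin 3 → k) :
    rep k (CliffordAlgebra.ι _ v) = rep0 k v :=
  by simp [rep]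

theorem rels (k : Type u) [Field k] :
    let e : Fin 3 → CliffordAlgebra (QuadGrp.splitForm k 3) := fun i =>
      CliffordAlgebra.ι _ (Pi.single i 1)
    e 0 * e 0 = 1 ∧ e 1 * e 1 = 0 ∧ e 2 * e 2 = 0 ∧ e 1 * e 0 = -(e 0 * e 1) ∧
      e 2 * e 0 = -(e 0 * e 2) ∧ e 2 * e 1 = 1 - e 1 * e 2 := by
  refine ⟨?_, ?_, ?_, eq_neg_of_add_eq_zero_left ?_, eq_neg_of_add_eq_zero_left ?_,
    eq_sub_of_add_eq ?_⟩
  all_goals simp [CliffordAlgebra.ι_sq_scalar, CliffordAlgebra.ι_mul_ι_add_swap, QuadraticMap.polar,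
    split3_apply, Pi.single_apply]

theorem ι_mem (k : Type u) [Field k] (m : Fin 3 → k) {y : CliffordAlgebra (QuadGrp.splitForm k 3)}
    {E : Submodule k (CliffordAlgebra (QuadGrp.splitForm k 3))}
    (h : ∀ i, CliffordAlgebra.ι _ (Pi.single i 1 : Fin 3 → k) * y ∈ E) :
    CliffordAlgebra.ι _ m * y ∈ E := by
  conv => arg 2; rw [pi_eq_sum_univ' m]
  rw [map_sum, Finset.sum_mul]
  refine Submodule.sum_mem _ fun i _ => ?_
  rw [map_smul, smul_mul_assoc]
  exact Submodule.smul_mem _ _ (h i)

theorem odd_form (k : Type u) [Field k] (x : CliffordAlgebra (QuadGrp.splitForm k 3))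
    (hx : x ∈ CliffordAlgebra.evenOdd (QuadGrp.splitForm k 3) 1) (h : tri k x = 0) :
    x ∈ LinearMap.range (CliffordAlgebra.ι (QuadGrp.splitForm k 3)) := by
  classical
  let Q := QuadGrp.splitForm k 3
  let e : Fin 3 → CliffordAlgebra Q := fun i => CliffordAlgebra.ι _ (Pi.single i 1)
  obtain ⟨haa, hbb, hcc, hba, hca, hcb⟩ : e 0 * e 0 = 1 ∧ e 1 * e 1 = 0 ∧ e 2 * e 2 = 0 ∧
      e 1 * e 0 = -(e 0 * e 1) ∧ e 2 * e 0 = -(e 0 * e 2) ∧ e 2 * e 1 = 1 - e 1 * e 2 := rels k
  have haa' : ∀ y, e 0 * (e 0 * y) = y := fun y => by rw [← mul_assoc, haa, one_mul]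
  have hbb' : ∀ y, e 1 * (e 1 * y) = 0 := fun y => by rw [← mul_assoc, hbb, zero_mul]
  have hcc' : ∀ y, e 2 * (e 2 * y) = 0 := fun y => by rw [← mul_assoc, hcc, zero_mul]
  have hba' : ∀ y, e 1 * (e 0 * y) = -(e 0 * (e 1 * y)) := fun y => by
    rw [← mul_assoc, hba, neg_mul, mul_assoc]
  have hca' : ∀ y, e 2 * (e 0 * y) = -(e 0 * (e 2 * y)) := fun y => by
    rw [← mul_assoc, hca, neg_mul, mul_assoc]
  have hcb' : ∀ y, e 2 * (e 1 * y) = y - e 1 * (e 2 * y) := fun y => by
    rw [← mul_assoc, hcb, sub_mul, one_mul, mul_assoc]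
  let S : Submodule k (CliffordAlgebra Q) :=
    Submodule.span k {e 0, e 1, e 2, e 0 * (e 1 * e 2)}
  let E : Submodule k (CliffordAlgebra Q) :=
    Submodule.span k {1, e 0 * e 1, e 0 * e 2, e 1 * e 2}
  have sa : e 0 ∈ S := Submodule.subset_span (by simp)
  have sb : e 1 ∈ S := Submodule.subset_span (by simp)
  have sc : e 2 ∈ S := Submodule.subset_span (by simp)
  have st : e 0 * (e 1 * e 2) ∈ S := Submodule.subset_span (by simp)
  have e1 : (1 : CliffordAlgebra Q) ∈ E := Submodule.subset_span (by simp)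
  have eab : e 0 * e 1 ∈ E := Submodule.subset_span (by simp)
  have eac : e 0 * e 2 ∈ E := Submodule.subset_span (by simp)
  have ebc : e 1 * e 2 ∈ E := Submodule.subset_span (by simp)
  have hSE : ∀ m, ∀ y ∈ S, CliffordAlgebra.ι Q m * y ∈ E := by
    intro m y hy
    refine ι_mem k m fun i => ?_
    change e i * y ∈ E
    induction hy using Submodule.span_induction with
    | mem g hg =>
      rcases hg with rfl | rfl | rfl | rfl <;> fin_cases i <;>
        simp only [mul_assoc, haa, hbb, hcc, hba, hca, hcb, haa', hbb', hcc', hba', hca', hcb',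
          mul_sub, mul_one, mul_neg, mul_zero, neg_neg, sub_zero, neg_zero, sub_self,
          Fin.zero_eta, Fin.mk_one, Fin.reduceFinMk] <;>
        (repeat' first
          | assumption
          | exact Submodule.zero_mem _
          | apply Submodule.neg_mem
          | apply Submodule.sub_mem
          | apply Submodule.add_mem)
    | zero => simp
    | add a b _ _ ha hb => rw [mul_add]; exact E.add_mem ha hb
    | smul c a _ ha => rw [mul_smul_comm]; exact E.smul_mem c ha
  have hES : ∀ m, ∀ y ∈ E, CliffordAlgebra.ι Q m * y ∈ S := by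
    intro m y hy
    refine ι_mem k m fun i => ?_
    change e i * y ∈ S
    induction hy using Submodule.span_induction with
    | mem g hg =>
      rcases hg with rfl | rfl | rfl | rfl <;> fin_cases i <;>
        simp only [mul_assoc, haa, hbb, hcc, hba, hca, hcb, haa', hbb', hcc', hba', hca', hcb',
          mul_sub, mul_one, mul_neg, mul_zero, neg_neg, sub_zero, neg_zero, sub_self,
          Fin.zero_eta, Fin.mk_one, Fin.reduceFinMk] <;>
        (repeat' first
          | assumption
          | exact Submodule.zero_mem _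
          | apply Submodule.neg_mem
          | apply Submodule.sub_mem
          | apply Submodule.add_mem)
    | zero => simp
    | add a b _ _ ha hb => rw [mul_add]; exact S.add_mem ha hb
    | smul c a _ ha => rw [mul_smul_comm]; exact S.smul_mem c ha
  have hxS : x ∈ S := by
    clear h
    induction x, hx using CliffordAlgebra.evenOdd_induction with
    | range_ι_pow v hv =>
      rw [show (1 : ZMod 2).val = 1 from rfl, pow_one] at hv
      obtain ⟨m, rfl⟩ := hv
      rw [show CliffordAlgebra.ι Q m = CliffordAlgebra.ι Q m * 1 from (mul_one _).symm]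
      exact hES m 1 e1
    | add a b _ _ ha hb => exact S.add_mem ha hb
    | ι_mul_ι_mul m₁ m₂ a _ ha => rw [mul_assoc]; exact hES m₁ _ (hSE m₂ a ha)
  simp only [S, Submodule.mem_span_insert, Submodule.mem_span_singleton] at hxS
  obtain ⟨a, _, ⟨b, _, ⟨c, _, ⟨d, rfl⟩, rfl⟩, rfl⟩, rfl⟩ := hxS
  have hd : d = 0 := by
    simpa [tri, e, Q, map_add, map_smul, map_mul, rep_ι, rep0, Matrix.trace_fin_two,
      Matrix.mul_apply, Pi.single_apply] using h
  subst hd
  refine Submodule.add_mem _ (Submodule.smul_mem _ a ⟨_, rfl⟩) (Submodule.add_mem _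
    (Submodule.smul_mem _ b ⟨_, rfl⟩) (Submodule.add_mem _ (Submodule.smul_mem _ c ⟨_, rfl⟩) ?_))
  rw [zero_smul]
  exact Submodule.zero_mem _

theorem conj_mem (k : Type u) [Field k] (u : (CliffordAlgebra (QuadGrp.splitForm k 3))ˣ)
    (hu : u ∈ QuadGrp.evenUnits (QuadGrp.splitForm k 3)) (v : Fin 3 → k) :
    (u : CliffordAlgebra _) * CliffordAlgebra.ι (QuadGrp.splitForm k 3) v *
      ((u⁻¹ : (CliffordAlgebra (QuadGrp.splitForm k 3))ˣ) : CliffordAlgebra (QuadGrp.splitForm k 3)) ∈
      LinearMap.range (CliffordAlgebra.ι (QuadGrp.splitForm k 3)) := by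
  refine odd_form k _ ?_ ?_
  · have h1 := SetLike.mul_mem_graded (SetLike.mul_mem_graded hu (CliffordAlgebra.ι_mem_evenOdd_one _ v))
      ((QuadGrp.evenUnits _).inv_mem hu)
    simpa using h1
  · rw [tri, map_mul, map_mul, Matrix.trace_mul_comm, ← mul_assoc, ← map_mul, Units.inv_mul,
      map_one, one_mul, rep_ι]
    simp [rep0, Matrix.trace_fin_two]

/-- Over a field k, for the standard split quadratic form x₀² + x₁x₂ on k³, every even unit of the
Clifford algebra normalises the subspace k³, i.e. lies in the naive Clifford group; so the even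
Clifford group is the whole unit group of the even Clifford algebra. (The published claim is made
over fields of characteristic different from 2; here it is stated for every field.) -/
theorem result (k : Type u) [Field k] :
    QuadGrp.evenUnits (QuadGrp.splitForm k 3) ≤ QuadGrp.GPin' (QuadGrp.splitForm k 3) := by
  intro u hu
  rw [QuadGrp.mem_GPin']
  ext x
  rw [Submodule.mem_smul_pointwise_iff_exists]
  constructor
  · rintro ⟨_, ⟨v, rfl⟩, rfl⟩
    exact conj_mem k u hu v
  · rintro ⟨v, rfl⟩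
    refine ⟨_, conj_mem k u⁻¹ ((QuadGrp.evenUnits _).inv_mem hu) v, ?_⟩
    rw [ConjAct.units_smul_def]
    simp [mul_assoc]

end Groth.Agent.S17017
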