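import Groth.Statements.S17018
import Mathlib
import Groth.Agent.IdealStalkLib.Comap
import Groth.Agent.RegIdealLib.Immersion
import Groth.Agent.MonoFibre.HomFlat
import Groth.Agent.HilbCurveLib.Split

set_option autoImplicit false
universe u
open CategoryTheory CategoryTheory.Limits AlgebraicGeometry
open scoped TensorProduct
open Models

namespace Groth.Agent.S17018

theorem stalkIdeal_ker' {X Y : Scheme.{u}} (j : Y ⟶ X) [IsClosedImmersion j] (y : Y) :
    IntMult.stalkIdeal j.ker (j y) = RingHom.ker (j.stalkMap y).hom := by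
  obtain ⟨_, ⟨W, hW, rfl⟩, hy, -⟩ :=
    X.isBasis_affineOpens.exists_subset_of_mem_open (Set.mem_univ (j y)) isOpen_univ
  rw [RegIdealLib.ker_stalkMap j hW
      (IsZariskiLocalAtTarget.restrict (P := @IsClosedImmersion) inferInstance _) y hy,
    IdealStalkLib.stalkIdeal_eq j.ker ⟨W, hW⟩ (j y) hy, Scheme.Hom.ker_apply]

theorem ker_iso_comp {A A' B B' : CommRingCat.{u}} (i : A' ≅ A) (φ : A ⟶ B) (j : B' ≅ B) :
    RingHom.ker (i.hom ≫ (φ ≫ j.inv)).hom = (RingHom.ker φ.hom).map i.inv.hom := by
  ext s
  rw [Ideal.mem_map_iff_of_surjective _ (ConcreteCategory.bijective_of_isIso i.inv).2]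
  constructor
  · intro hs
    refine ⟨i.hom s, ?_, by simp⟩
    exact (map_eq_zero_iff _ (ConcreteCategory.bijective_of_isIso j.inv).1).1 hs
  · rintro ⟨a, ha, rfl⟩
    show j.inv (φ (i.hom (i.inv a))) = 0
    rw [show i.hom (i.inv a) = a by simp, show φ a = 0 from ha, map_zero]

theorem map_eq_ker {R : Type u} [CommRing R] [IsLocalRing R] {X Y : Scheme.{u}} (f : X ⟶ Spec (CommRingCat.of R))
    (g : Y ⟶ X) (p : Y ⟶ Spec (CommRingCat.of (IsLocalRing.ResidueField R)))
    (h : IsPullback g p f (Spec.map (CommRingCat.ofHom (IsLocalRing.residue R)))) (y : Y) :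
    RingHom.ker (g.stalkMap y).hom =
      (IsLocalRing.maximalIdeal R).map ((X.presheaf.germ ⊤ (g y) trivial).hom.comp (Coh.toGlobal f)) := by
  let r := Spec.map (CommRingCat.ofHom (IsLocalRing.residue R))
  haveI : IsClosedImmersion r :=
    IsClosedImmersion.spec_of_surjective (CommRingCat.ofHom (IsLocalRing.residue R)) IsLocalRing.residue_surjective
  haveI : IsClosedImmersion g := MorphismProperty.of_isPullback h.flip (inferInstance : IsClosedImmersion r)
  rw [← stalkIdeal_ker' g y, HilbCurveLib.ker_of_isPullback h, IdealStalkLib.stalkIdeal_comap,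
    IdealStalkLib.stalkIdeal_eq _ ⟨⊤, isAffineOpen_top _⟩ _ trivial, Scheme.Hom.ker_apply]
  have h1 : RingHom.ker (r.app ⊤).hom =
      (IsLocalRing.maximalIdeal R).map (Scheme.ΓSpecIso (CommRingCat.of R)).inv.hom := by
    have h2 : r.app ⊤ = (Scheme.ΓSpecIso (CommRingCat.of R)).hom ≫
        (CommRingCat.ofHom (IsLocalRing.residue R) ≫
          (Scheme.ΓSpecIso (CommRingCat.of (IsLocalRing.ResidueField R))).inv) := by
      rw [Scheme.ΓSpecIso_inv_naturality, Iso.hom_inv_id_assoc]
    rw [h2]
    exact (ker_iso_comp (Scheme.ΓSpecIso _) _ (Scheme.ΓSpecIso _)).trans (congrArg (Ideal.map _) IsLocalRing.ker_residue)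
  rw [h1, Ideal.map_map, Ideal.map_map]
  congr 1
  ext a
  exact Scheme.Hom.germ_stalkMap_apply f ⊤ (g y) trivial _

/-- Let R be a discrete valuation ring with algebraically closed residue field and f : X → Spec R a
proper flat morphism whose generic fibre (base change to the fraction field of R) is smooth of
relative dimension 1 and connected and whose special fibre (base change to the residue field) is
connected and reduced; let ξ be the generic point of an irreducible component of the special fibre
and B a discrete valuation ring given with an isomorphism from the local ring of X at ξ under which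
R → B is the map induced by f. Then the maximal ideal of B is the extension of the maximal ideal of
R: a uniformizer of R maps to a uniformizer of B. (The published setting takes everything
essentially of finite type over a field of characteristic zero; the printed argument does not use
this and it is not imposed here.) -/
theorem result
    (R : Type u) [CommRing R] [IsDomain R] [IsDiscreteValuationRing R]
    [IsAlgClosed (IsLocalRing.ResidueField R)]
    (X : Scheme.{u}) (f : X ⟶ Spec (CommRingCat.of R)) [IsProper f] [Flat f]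
    (XK : Scheme.{u}) (gK : XK ⟶ X) (fK : XK ⟶ Spec (CommRingCat.of (FractionRing R)))
    (hK : IsPullback gK fK f (Spec.map (CommRingCat.ofHom (algebraMap R (FractionRing R)))))
    [SmoothOfRelativeDimension 1 fK] [ConnectedSpace XK]
    (Xs : Scheme.{u}) (gs : Xs ⟶ X) (fs : Xs ⟶ Spec (CommRingCat.of (IsLocalRing.ResidueField R)))
    (hs : IsPullback gs fs f (Spec.map (CommRingCat.ofHom (IsLocalRing.residue R))))
    [ConnectedSpace Xs] [IsReduced Xs]
    (ξ : Xs) (hξ : closure ({ξ} : Set Xs) ∈ irreducibleComponents Xs)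
    (B : Type u) [CommRing B] [IsDomain B] [IsDiscreteValuationRing B] [Algebra R B]
    (e : X.presheaf.stalk (gs.base ξ) ≅ CommRingCat.of B)
    (he : e.hom.hom.comp ((X.presheaf.germ ⊤ (gs.base ξ) trivial).hom.comp (Coh.toGlobal f)) =
      algebraMap R B) :
    IsLocalRing.maximalIdeal B = Ideal.map (algebraMap R B) (IsLocalRing.maximalIdeal R) := by
  have hmax : MonoFibre.IsMaxPt ξ :=
    MonoFibre.isMaxPt_generic hξ (isGenericPoint_def.2 rfl)
  have hF : IsField (Xs.presheaf.stalk ξ) := MonoFibre.isField_stalk_of_isMaxPt hmax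
  haveI : IsClosedImmersion (Spec.map (CommRingCat.ofHom (IsLocalRing.residue R))) :=
    IsClosedImmersion.spec_of_surjective (CommRingCat.ofHom (IsLocalRing.residue R)) IsLocalRing.residue_surjective
  haveI : IsClosedImmersion gs := MorphismProperty.of_isPullback hs.flip inferInstance
  have hk := map_eq_ker f gs fs hs ξ
  have hmaxI : (RingHom.ker (gs.stalkMap ξ).hom).IsMaximal := by
    letI := hF.toField
    exact RingHom.ker_isMaximal_of_surjective _ (gs.stalkMap_surjective ξ)
  rw [hk] at hmaxI
  let ee := e.commRingCatIsoToRingEquiv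
  have h2 : Ideal.map (algebraMap R B) (IsLocalRing.maximalIdeal R) =
      ((IsLocalRing.maximalIdeal R).map ((X.presheaf.germ ⊤ (gs.base ξ) trivial).hom.comp (Coh.toGlobal f))).map
        (ee : X.presheaf.stalk (gs.base ξ) →+* B) := by
    rw [Ideal.map_map, ← he]
    rfl
  rw [h2]
  exact (IsLocalRing.eq_maximalIdeal (Ideal.map_isMaximal_of_equiv ee)).symm

end Groth.Agent.S17018
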