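import Groth.Statements.S17019
import Groth.Agent.StalkFieldLib.Geom
import Groth.Agent.StalkFieldLib.Dvr
import Groth.Agent.S17018

set_option autoImplicit false
universe u
open CategoryTheory CategoryTheory.Limits AlgebraicGeometry
open scoped TensorProduct
open Models

namespace Groth.Agent.S17019

open CategoryTheory CategoryTheory.Limits AlgebraicGeometry

set_option backward.isDefEq.respectTransparency false
set_option backward.defeqAttrib.useBackward true
set_option linter.style.haveILetI false


/-- Let R be a discrete valuation ring with algebraically closed residue field and f : X → Spec R a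
proper flat morphism whose generic fibre (base change to the fraction field of R) is smooth of
relative dimension 1 and connected and whose special fibre (base change to the residue field) is
connected and reduced; let ξ be the generic point of an irreducible component of the special fibre
and B a discrete valuation ring given with an isomorphism from the local ring of X at ξ under which
R → B is the map induced by f; let R' be a discrete valuation ring with an injective local
homomorphism R → R' which is generically finite (Frac R ⊗_R R' is a finite module over Frac R). Then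
B ⊗_R R' is an integral domain and a discrete valuation ring. (The published setting takes
everything essentially of finite type over a field of characteristic zero; the printed argument does
not use this and it is not imposed here.) -/
theorem result
    (R : Type u) [CommRing R] [IsDomain R] [IsDiscreteValuationRing R]
    [IsAlgClosed (IsLocalRing.ResidueField R)]
    (X : Scheme.{u}) (f : X ⟶ Spec (CommRingCat.of R)) [IsProper f] [Flat f]
    (XK : Scheme.{u}) (gK : XK ⟶ X) (fK : XK ⟶ Spec (CommRingCat.of (FractionRing R)))
    (hK : IsPullback gK fK f (Spec.map (CommRingCat.ofHom (algebraMap R (FractionRing R)))))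
    [SmoothOfRelativeDimension 1 fK] [ConnectedSpace XK]
    (Xs : Scheme.{u}) (gs : Xs ⟶ X) (fs : Xs ⟶ Spec (CommRingCat.of (IsLocalRing.ResidueField R)))
    (hs : IsPullback gs fs f (Spec.map (CommRingCat.ofHom (IsLocalRing.residue R))))
    [ConnectedSpace Xs] [IsReduced Xs]
    (ξ : Xs) (hξ : closure ({ξ} : Set Xs) ∈ irreducibleComponents Xs)
    (B : Type u) [CommRing B] [IsDomain B] [IsDiscreteValuationRing B] [Algebra R B]
    (e : X.presheaf.stalk (gs.base ξ) ≅ CommRingCat.of B)
    (he : e.hom.hom.comp ((X.presheaf.germ ⊤ (gs.base ξ) trivial).hom.comp (Coh.toGlobal f)) =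
      algebraMap R B)
    (R' : Type u) [CommRing R'] [IsDomain R'] [IsDiscreteValuationRing R'] [Algebra R R']
    (hinj : Function.Injective (algebraMap R R')) [IsLocalHom (algebraMap R R')]
    [Module.Finite (FractionRing R) (FractionRing R ⊗[R] R')] :
    ∃ _ : IsDomain (B ⊗[R] R'), IsDiscreteValuationRing (B ⊗[R] R') := by
  have hm := Groth.Agent.S17018.result R X f XK gK fK hK Xs gs fs hs ξ hξ B e he
  haveI : Smooth fK := SmoothOfRelativeDimension.smooth (n := 1) fK
  haveI := Groth.Agent.StalkFieldLib.geometricallyConnected f Xs gs fs hs
  let F := AlgebraicClosure (FractionRing R)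
  have hF : Function.Injective (algebraMap R F) := by
    rw [IsScalarTower.algebraMap_eq R (FractionRing R) F]
    exact (algebraMap (FractionRing R) F).injective.comp (IsFractionRing.injective R (FractionRing R))
  haveI := Groth.Agent.StalkFieldLib.nontrivial_tensor hm F hF
  haveI hdom : IsDomain (B ⊗[R] F) :=
    Groth.Agent.StalkFieldLib.isDomain_tensor_stalk f gK fK hK (gs.base ξ) B e he F
  let K' := FractionRing R'
  have hRK' : Function.Injective (algebraMap R K') := by
    rw [IsScalarTower.algebraMap_eq R R' K']
    exact (IsFractionRing.injective R' K').comp hinj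
  haveI : FaithfulSMul R K' := (faithfulSMul_iff_algebraMap_injective R K').2 hRK'
  letI : Algebra (FractionRing R) K' := FractionRing.liftAlgebra R K'
  let p : FractionRing R ⊗[R] R' →ₐ[FractionRing R] K' :=
    Algebra.TensorProduct.lift (Algebra.ofId _ _) (IsScalarTower.toAlgHom R R' K') (fun _ _ => Commute.all _ _)
  have hp : Function.Surjective p := by
    haveI : Algebra.IsIntegral (FractionRing R) p.range := by
      haveI : Module.Finite (FractionRing R) p.range :=
        Module.Finite.of_surjective p.rangeRestrict.toLinearMap p.rangeRestrict_surjective
      exact Algebra.IsIntegral.of_finite _ _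
    have hfield : IsField p.range := isField_of_isIntegral_of_isField' (Field.toIsField (FractionRing R))
    have hmem : ∀ a : R', algebraMap R' K' a ∈ p.range := fun a => ⟨1 ⊗ₜ a, by simp [p]⟩
    intro x
    obtain ⟨a, s, hs, rfl⟩ := IsFractionRing.div_surjective (A := R') x
    have hs0 : algebraMap R' K' s ≠ 0 :=
      (map_ne_zero_iff _ (IsFractionRing.injective R' K')).2 (nonZeroDivisors.ne_zero hs)
    obtain ⟨⟨v, hv⟩, hv'⟩ := hfield.mul_inv_cancel (a := ⟨_, hmem s⟩) (fun h => hs0 (congrArg Subtype.val h))
    have : v = (algebraMap R' K' s)⁻¹ := eq_inv_of_mul_eq_one_right (congrArg Subtype.val hv')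
    rw [div_eq_mul_inv, ← this]
    exact p.range.mul_mem (hmem a) hv
  haveI : FiniteDimensional (FractionRing R) K' := Module.Finite.of_surjective p.toLinearMap hp
  haveI : IsDomain (B ⊗[R] K') := by
    haveI : Nontrivial (B ⊗[R] K') := Groth.Agent.StalkFieldLib.nontrivial_tensor hm K' hRK'
    haveI : Algebra.IsAlgebraic (FractionRing R) K' := inferInstance
    let σ : K' →ₐ[R] F := (IsAlgClosed.lift : K' →ₐ[FractionRing R] F).restrictScalars R
    haveI := Groth.Agent.StalkFieldLib.flat hm
    let Θ : B ⊗[R] K' →ₐ[R] B ⊗[R] F := Algebra.TensorProduct.map (AlgHom.id R B) σ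
    exact Function.Injective.isDomain Θ.toRingHom
      (Module.Flat.lTensor_preserves_injective_linearMap (M := B) σ.toLinearMap σ.toRingHom.injective)
  exact Groth.Agent.StalkFieldLib.isDVR_tensor hm hinj K'


end Groth.Agent.S17019
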