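import Groth.Statements.S17021
import Groth.Agent.ParaFDescLib.Basic
import Groth.Agent.ParaFLib.Depth
import Groth.Agent.DCohLib.OpenD
import Groth.Agent.AmpleLib.Pullback
import Groth.Agent.GeomRk.Alg
-- import your own Groth.Agent.* helpers here

set_option autoImplicit false
universe u
open CategoryTheory CategoryTheory.Limits AlgebraicGeometry
open PicF

namespace Groth.Agent.S17021

open Groth.Agent

section
open CategoryTheory CategoryTheory.Limits AlgebraicGeometry

theorem two_le_depth (R : Type u) [CommRing R] [IsNoetherianRing R] [IsLocalRing R]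
    (h : LocCoh.HasSk 2 R R) (hd : ringKrullDim R = 2) : (2 : ℕ∞) ≤ LocCoh.depth R R := by
  let m := IsLocalRing.maximalIdeal R
  let Rm := Localization.AtPrime m
  have eR : R ≃ₐ[R] Rm := IsLocalization.atUnits R m.primeCompl (fun x hx => by
    exact IsLocalRing.notMem_maximalIdeal.1 hx)
  let e : LocalizedModule m.primeCompl R ≃ₗ[Rm] Rm :=
    (IsLocalizedModule.iso m.primeCompl (Algebra.linearMap R Rm)).extendScalarsOfIsLocalization m.primeCompl Rm
  have h2 := h m
  rw [Module.supportDim_eq_of_equiv e, Depth.depth_congr e, Module.supportDim_self_eq_ringKrullDim,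
    ← ringKrullDim_eq_of_ringEquiv eR.toRingEquiv, hd] at h2
  have h3 : (2 : ℕ∞) ≤ LocCoh.depth Rm Rm := WithBot.coe_le_coe.1 ((min_self (2 : WithBot ℕ∞)).ge.trans h2)
  exact h3.trans_eq (GeomRk.depth_congr_ringEquiv eR.toRingEquiv)

set_option backward.isDefEq.respectTransparency false in
theorem extends_of_local {X : Scheme.{u}} [IsLocallyNoetherian X] (U : X.Opens)
    (hU : ∀ x : X, x ∉ U → (2 : ℕ∞) ≤ LocCoh.depth (X.presheaf.stalk x) (X.presheaf.stalk x))
    (L : (U : Scheme.{u}).Modules) (hL : PicF.IsInvertible L)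
    (hloc : ∀ x : X, x ∉ U → ∃ (A : Scheme.{u}) (a : A ⟶ X) (M : A.Modules), CompactSpace A ∧ Flat a ∧
      LocallyOfFinitePresentation a ∧ x ∈ Set.range a ∧ PicF.IsInvertible M ∧
        Nonempty ((Scheme.Modules.pullback (a ⁻¹ᵁ U).ι).obj M ≅ (Scheme.Modules.pullback (a ∣_ U)).obj L)) :
    ∃ N : X.Modules, PicF.IsInvertible N ∧ Nonempty ((Scheme.Modules.pullback U.ι).obj N ≅ L) := by
  let P := (Scheme.Modules.pushforward U.ι).obj L
  let cnt : P.restrict U.ι ≅ L := (Scheme.Modules.restrictFunctorAdjCounitIso U.ι).app L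
  refine ⟨P, ParaFLib.isInvertible_of_locally fun x => ?_,
    ⟨((Scheme.Modules.restrictFunctorIsoPullback U.ι).app P).symm ≪≫ cnt⟩⟩
  by_cases hx : x ∈ U
  · exact ⟨U, hx, ParaFLib.isInvertible_of_iso cnt.symm hL⟩
  obtain ⟨A, a, M, hA, ha, ha', ⟨z, rfl⟩, hM, ⟨σ⟩⟩ := hloc x hx
  haveI := hA; haveI := ha; haveI := ha'
  haveI : IsLocallyNoetherian A := LocallyOfFiniteType.isLocallyNoetherian a
  haveI : IsNoetherian A := {}
  haveI : UniversallyOpen a := inferInstance
  let O : X.Opens := ⟨Set.range a, a.isOpenMap.isOpen_range⟩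
  have haO : a ⁻¹ᵁ O = ⊤ := top_le_iff.1 fun w _ => ⟨w, rfl⟩
  let fO := U.ι ∣_ O
  let g : A ⟶ (O : Scheme.{u}) := A.topIso.inv ≫ (A.isoOfEq haO).inv ≫ a ∣_ O
  have hgι : g ≫ O.ι = a := by
    simp [g, morphismRestrict_ι]
  haveI : Surjective g := ⟨fun w => by
    obtain ⟨v, hv⟩ := w.2
    refine ⟨v, O.ι.isOpenEmbedding.injective ?_⟩
    show (g ≫ O.ι) v = w.1
    rw [hgι]; exact hv⟩
  haveI : QuasiCompact g := inferInstance
  haveI : Flat g := inferInstance
  haveI : QuasiCompact U.ι := inferInstance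
  haveI : QuasiCompact fO := inferInstance
  have hfb : ∀ V : (O : Scheme.{u}).Opens, Function.Bijective (fO.app V) := by
    intro V
    have h1 : Function.Bijective (U.ι.app (O.ι ''ᵁ V)) := by
      rw [Scheme.Opens.ι_app]
      exact ParaFLib.bij_structureModule_of_depth (U := U.ι ''ᵁ U.ι ⁻¹ᵁ (O.ι ''ᵁ V)) (W := O.ι ''ᵁ V)
        (U.ι.image_preimage_le _) (fun y hy hyU => hU y fun hyU' => hyU ⟨⟨y, hyU'⟩, hy, rfl⟩)
        (U.ι.image_preimage_le _)
    haveI : IsIso (U.ι.app (O.ι ''ᵁ V)) := (ConcreteCategory.isIso_iff_bijective _).2 h1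
    rw [← ConcreteCategory.isIso_iff_bijective, morphismRestrict_app]
    infer_instance
  let L₀ := L.restrict (U.ι ⁻¹ᵁ O).ι
  have hL₀ : PicF.IsInvertible L₀ := ParaFLib.isInvertible_restrict _ hL
  let P' := pullback fO g
  let s : P' ⟶ A := pullback.snd fO g
  let q : P' ⟶ (U : Scheme.{u}) := pullback.fst fO g ≫ (U.ι ⁻¹ᵁ O).ι
  have hq : q ≫ U.ι = s ≫ a := by
    simp only [q, s, Category.assoc, ← morphismRestrict_ι, ← hgι]
    exact pullback.condition_assoc _
  let w : P' ⟶ (a ⁻¹ᵁ U : A.Opens) := (isPullback_morphismRestrict a U).lift q s hq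
  have e₁ : (Scheme.Modules.pullback s).obj M ≅ (Scheme.Modules.pullback q).obj L :=
    (Scheme.Modules.pullbackCongr ((isPullback_morphismRestrict a U).lift_snd q s hq).symm).app M ≪≫
      ((Scheme.Modules.pullbackComp w _).app M).symm ≪≫ (Scheme.Modules.pullback w).mapIso σ ≪≫
      (Scheme.Modules.pullbackComp w _).app L ≪≫
      (Scheme.Modules.pullbackCongr ((isPullback_morphismRestrict a U).lift_fst q s hq)).app L
  have e₂ : (Scheme.Modules.pullback s).obj M ≅ (Scheme.Modules.pullback (pullback.fst fO g)).obj L₀ :=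
    e₁ ≪≫ ((Scheme.Modules.pullbackComp (pullback.fst fO g) (U.ι ⁻¹ᵁ O).ι).app L).symm ≪≫
      (Scheme.Modules.pullback (pullback.fst fO g)).mapIso
        ((Scheme.Modules.restrictFunctorIsoPullback (U.ι ⁻¹ᵁ O).ι).app L).symm
  exact ⟨O, ⟨z, rfl⟩, ParaFLib.isInvertible_of_iso ((DCohLib.restrictPushIso U.ι O).app L).symm
    (ParaFDescLib.isInvertible_pushforward fO hfb g hL₀ hM e₂)⟩

end

open AlgebraicGeometry CategoryTheory CategoryTheory.Limits

/-- Let X be a locally Noetherian scheme all of whose local rings satisfy Serre's condition (S₂), p a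
closed point of X whose local ring has Krull dimension 2, U the open complement of p and L an
invertible O_U-module. Suppose L extends to an invertible module over an étale neighbourhood of p:
there are an étale morphism j : V → X, a point q of V with j(q) = p and an invertible O_V-module M
whose pullback to j⁻¹(U) is isomorphic to the pullback of L along j⁻¹(U) → U. Then L extends to X:
some invertible O_X-module has pullback to U isomorphic to L. (Stated for schemes; the published
statement is for a Deligne–Mumford stack of dimension 2 satisfying (S₂) and its proof passes to a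
scheme on an étale chart. Dimension 2 is imposed here on the local ring at p. The published setting
takes everything essentially of finite type over a field of characteristic zero; here X is only
assumed locally Noetherian.) -/
theorem result {X : Scheme.{u}} [IsLocallyNoetherian X]
    (hS2 : ∀ x : X, LocCoh.HasSk 2 (X.presheaf.stalk x) (X.presheaf.stalk x))
    (p : X) (hp : IsClosed ({p} : Set X)) (hdim : ringKrullDim (X.presheaf.stalk p) = 2)
    (U : X.Opens) (hU : (U : Set X) = {p}ᶜ)
    (L : (U : Scheme.{u}).Modules) (hL : PicF.IsInvertible L)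
    {V : Scheme.{u}} (j : V ⟶ X) [Etale j] (q : V) (hq : j.base q = p)
    (M : V.Modules) (hM : PicF.IsInvertible M)
    (e : (Scheme.Modules.pullback (j ⁻¹ᵁ U).ι).obj M ≅ (Scheme.Modules.pullback (j ∣_ U)).obj L) :
    ∃ N : X.Modules, PicF.IsInvertible N ∧ Nonempty ((Scheme.Modules.pullback U.ι).obj N ≅ L) := by
  have hU' : ∀ x : X, x ∉ U → (2 : ℕ∞) ≤ LocCoh.depth (X.presheaf.stalk x) (X.presheaf.stalk x) := by
    intro x hx
    have : x = p := by
      by_contra hne
      exact hx (show x ∈ (U : Set X) from hU ▸ hne)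
    subst this
    exact two_le_depth _ (hS2 x) hdim
  refine extends_of_local U hU' L hL fun x hx => ?_
  have hxp : x = p := by
    by_contra hne
    exact hx (show x ∈ (U : Set X) from hU ▸ hne)
  subst hxp
  obtain ⟨_, ⟨A : V.Opens, hA, rfl⟩, hqA, -⟩ :=
    V.isBasis_affineOpens.exists_subset_of_mem_open (Set.mem_univ q) isOpen_univ
  haveI : IsAffine (A : Scheme.{u}) := hA
  let w : (((A.ι ≫ j) ⁻¹ᵁ U : (A : Scheme.{u}).Opens) : Scheme.{u}) ⟶ (j ⁻¹ᵁ U : V.Opens) :=
    A.ι ∣_ (j ⁻¹ᵁ U)
  have h1 : w ≫ (j ⁻¹ᵁ U).ι = ((A.ι ≫ j) ⁻¹ᵁ U).ι ≫ A.ι := morphismRestrict_ι A.ι (j ⁻¹ᵁ U)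
  have h2 : w ≫ (j ∣_ U) = (A.ι ≫ j) ∣_ U := (morphismRestrict_comp A.ι j U).symm
  exact ⟨(A : Scheme.{u}), A.ι ≫ j, (Scheme.Modules.pullback A.ι).obj M, inferInstance, inferInstance, inferInstance,
    ⟨⟨q, hqA⟩, hq⟩, AmpleLib.isInvertible_pullback A.ι hM,
    ⟨(Scheme.Modules.pullbackComp _ A.ι).app M ≪≫ (Scheme.Modules.pullbackCongr h1.symm).app M ≪≫
      ((Scheme.Modules.pullbackComp w _).app M).symm ≪≫ (Scheme.Modules.pullback w).mapIso e ≪≫
      (Scheme.Modules.pullbackComp w _).app L ≪≫ (Scheme.Modules.pullbackCongr h2).app L⟩⟩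

end Groth.Agent.S17021
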