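import Groth.Statements.S17022
import Groth.Agent.CurveFF.TwoBranch
import Groth.Agent.CurveFF.MapPlaces
import Groth.Agent.CurveP1Lib.GeomP1
import Groth.Agent.S9566

set_option autoImplicit false
universe u
open CategoryTheory CategoryTheory.Limits AlgebraicGeometry
open Curves

namespace Groth.Agent.S17022

open Groth.Agent

set_option backward.isDefEq.respectTransparency false
set_option maxHeartbeats 1000000
attribute [local instance] Curv2.stalkAlgebra
attribute [local instance high] FunFld.Place.algRes

theorem main {k : Type u} [Field k] [IsAlgClosed k] [CharZero k] {C P : Scheme.{u}}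
    [C.Over (Spec (CommRingCat.of k))] [IsProper (C ↘ Spec (CommRingCat.of k))] [IsIntegral C] [VBLib.IsRegCurve C]
    [P.Over (Spec (CommRingCat.of k))] [IsProper (P ↘ Spec (CommRingCat.of k))] [IsIntegral P] [VBLib.IsRegCurve P]
    (hC : topologicalKrullDim C = 1) (hP : topologicalKrullDim P = 1) (hgP : Curv2.genus k P = 0)
    (f : C ⟶ P) (hf : f ≫ (P ↘ Spec (CommRingCat.of k)) = C ↘ Spec (CommRingCat.of k)) [Surjective f]
    (p q : P) (hp : IsClosed ({p} : Set P)) (hq : IsClosed ({q} : Set P))
    (W : P.Opens) (hW : (W : Set P) = {p, q}ᶜ) [Etale (f ∣_ W)] :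
    Curv2.genus k C = 0 ∧ (∀ x y : C, f.base x = p → f.base y = p → x = y) ∧
      (∀ x y : C, f.base x = q → f.base y = q → x = y) := by
  classical
  haveI : IsProper (f ≫ (P ↘ Spec (CommRingCat.of k))) := by rw [hf]; infer_instance
  haveI : LocallyOfFiniteType f := locallyOfFiniteType_of_comp f (P ↘ Spec (CommRingCat.of k))
  haveI : IsLocallyNoetherian P := LocallyOfFiniteType.isLocallyNoetherian (P ↘ Spec (CommRingCat.of k))
  have hgen : f (genericPoint C) = genericPoint P := by
    obtain ⟨z, hz⟩ := f.surjective (genericPoint P)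
    have h1 : f (genericPoint C) ⤳ f z := ((genericPoint_spec C).specializes (y := z) trivial).map f.continuous
    rw [hz] at h1
    exact (h1.antisymm ((genericPoint_spec P).specializes (y := f (genericPoint C)) trivial)).eq
  haveI := CurveFF.isFinite_of_map_generic hC hP f hf hgen
  have h0C : Module.finrank k (Coh.HH C (Coh.structureModule C) 0) = 1 := CurveLib.finrank_H0_structure
  have h0P : Module.finrank k (Coh.HH P (Coh.structureModule P) 0) = 1 := CurveLib.finrank_H0_structure
  have hKC := CurveFF.isFunctionField k hC h0C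
  have hKP := CurveFF.isFunctionField k hP h0P
  have hgPF : FunFld.genus k P.functionField = 0 := (CurveFF.genus_eq hP h0P).symm.trans hgP
  have hψ := CurveFF.fromSpecStalk_ffMap f
  let ψ : P.functionField →+* C.functionField := (NormHomLib.ffMap f).hom
  have hψk : ∀ c : k, ψ (algebraMap k P.functionField c) = algebraMap k C.functionField c := by
    have h1 := CurveFF.fromSpecStalk_over k (X := C) (genericPoint C)
    rw [← hf, ← Category.assoc, hψ, Category.assoc, CurveFF.fromSpecStalk_over k, ← Spec.map_comp] at h1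
    exact fun c => congr($(Spec.map_injective h1).hom c)
  set Pq := CurveFF.placeOf k hP q hq with hPq
  set Pp := CurveFF.placeOf k hP p hp with hPp
  obtain ⟨t₀, ht0, htL, hto⟩ := CurveFF.exists_coord_simple_pole hKP hgPF Pq
  obtain ⟨c₀, hc₀⟩ : ∃ c₀ : k, p ≠ q → Pp.1 (t₀ - algebraMap k _ c₀) < 1 := by
    by_cases hpq : p = q
    · exact ⟨0, fun h => absurd hpq h⟩
    have hne : Pp ≠ Pq := fun h => hpq (CurveFF.placeOf_injective hP hp hq h)
    have hle : Pp.1 t₀ ≤ 1 := by
      have := htL Pp
      rwa [Finsupp.single_eq_of_ne hne, WithZero.exp_zero] at this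
    obtain ⟨c, hc⟩ := FF.exists_const hKP Pp hle
    exact ⟨c, fun _ => hc⟩
  have hpos : ¬ Pq.1 t₀ ≤ 1 := by
    rw [FF.v_le_one_iff _ ht0, hto]; norm_num
  set t := ψ t₀
  have ht : t ≠ 0 := (map_ne_zero ψ).2 ht0
  have hclosed : ∀ x : C, IsClosed ({x} : Set C) → IsClosed ({f x} : Set P) := fun x hx => by
    simpa using f.isClosedMap _ hx
  have hpolex : ∀ (x : C) (hx : IsClosed ({x} : Set C)), f x = q → (CurveFF.placeOf k hC x hx).ord t < 0 := by
    intro x hx hxq
    subst hxq
    rw [← not_le, ← FF.v_le_one_iff _ ht]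
    exact fun h => hpos (CurveFF.le_one_of_place_map hC hP f ψ hψ hx hq t₀ h)
  have hcl : ∀ x : C, IsClosed ({f x} : Set P) → IsClosed ({x} : Set C) := fun x hy => by
    by_contra hx
    have h := CurveFF.eq_generic_of_not_closed k hC hx
    rw [h, hgen] at hy
    exact CurveFF.ne_generic hP hy rfl
  have hpole : ∃ Q : FunFld.Place k C.functionField, Q.ord t < 0 := by
    obtain ⟨x, hx⟩ := f.surjective q
    exact ⟨_, hpolex x (hcl x (hx ▸ hq)) hx⟩
  have hsimple : ∀ (Q : FunFld.Place k C.functionField) (c : k), c ≠ c₀ →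
      Q.1 (t - algebraMap k C.functionField c) < 1 → Q.ord (t - algebraMap k C.functionField c) = 1 := by
    intro Q c hc hlt
    obtain ⟨x, hx, rfl⟩ := CurveFF.placeOf_surjective hC Q
    have hy := hclosed x hx
    rw [show t - algebraMap k C.functionField c = ψ (t₀ - algebraMap k _ c) by rw [map_sub, hψk]] at hlt ⊢
    have hlt' := CurveFF.lt_one_of_place_map hC hP f ψ hψ hx hy _ hlt
    have hRne : CurveFF.placeOf k hP (f x) hy ≠ Pq := fun h => by
      rw [h] at hlt'
      refine hpos ?_
      have := Pq.1.map_add_le hlt'.le (Pq.2.1 c)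
      rwa [sub_add_cancel] at this
    obtain ⟨hne0, hdiv⟩ := FF.div_sub_const hKP ht0 htL hto hRne hlt'
    have ho : (CurveFF.placeOf k hP (f x) hy).ord (t₀ - algebraMap k _ c) = 1 := by
      rw [← FF.div_apply hKP, hdiv, Finsupp.sub_apply, Finsupp.single_eq_same, Finsupp.single_eq_of_ne hRne, sub_zero]
    have hxW : f x ∈ W := by
      show f x ∈ (W : Set P)
      rw [hW]
      rintro (h | h)
      · subst h
        by_cases hpq : f x = q
        · subst hpq; exact hRne rfl
        · have h2 := Valuation.map_sub_lt (CurveFF.placeOf k hP (f x) hy).1 hlt' (hc₀ hpq)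
          rw [sub_sub_sub_cancel_left, ← map_sub] at h2
          refine absurd h2 (not_lt.2 ?_)
          have h3 := (CurveFF.placeOf k hP (f x) hy).2.1 (c₀ - c)⁻¹
          rw [map_inv₀, map_inv₀] at h3
          exact (inv_le_one₀ (zero_lt_iff.2 ((map_ne_zero _).2 ((map_ne_zero _).2 (sub_ne_zero.2 (Ne.symm hc)))))).1 h3
      · subst h; exact hRne rfl
    have het : ∃ U : C.Opens, x ∈ U ∧ Etale (U.ι ≫ f) :=
      ⟨f ⁻¹ᵁ W, hxW, by rw [← morphismRestrict_ι]; infer_instance⟩
    have hm := ((S9566.result f x).1 het).2.1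
    have hv : (CurveFF.placeOf k hC x hx).1 (ψ (t₀ - algebraMap k _ c)) = WithZero.exp (-1) :=
      CurveFF.place_map_eq_exp hC hP f ψ hψ hx hy _ hm (by rw [FF.v_eq_exp _ hne0, ho])
    exact (FF.ord_eq_iff _ ((map_ne_zero ψ).2 hne0)).2 hv
  obtain ⟨hg, hinf, hzero⟩ := CurveFF.genus_zero_of_two_branch hKC hpole hsimple
  have hqq : ∀ x y : C, f.base x = q → f.base y = q → x = y := fun x y hxq hyq => by
    have hx := hcl x (hxq ▸ hq)
    have hy := hcl y (hyq ▸ hq)
    exact CurveFF.placeOf_injective hC hx hy (hinf _ _ (hpolex x hx hxq) (hpolex y hy hyq))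
  refine ⟨(CurveFF.genus_eq hC h0C).trans hg, fun x y hxp hyp => ?_, hqq⟩
  by_cases hpq : p = q
  · exact hqq x y (hxp.trans hpq) (hyp.trans hpq)
  have hx := hcl x (hxp ▸ hp)
  have hy := hcl y (hyp ▸ hp)
  have key : ∀ (z : C) (hz : IsClosed ({z} : Set C)), f z = p →
      (CurveFF.placeOf k hC z hz).1 (t - algebraMap k C.functionField c₀) < 1 := fun z hz hzp => by
    subst hzp
    rw [show t - algebraMap k C.functionField c₀ = ψ (t₀ - algebraMap k _ c₀) by rw [map_sub, hψk]]
    exact CurveFF.place_map_lt_one hC hP f ψ hψ hz hp _ (hc₀ hpq)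
  exact CurveFF.placeOf_injective hC hx hy (hzero _ _ (key x hx hxp) (key y hy hyp))

/-- Let k be an algebraically closed field of characteristic zero, C a connected scheme which is proper
and smooth of relative dimension 1 over k, and f : C → P¹_k a surjective morphism over k which is
étale over the complement of two closed points p, q of P¹_k (p = q is allowed). Then C is isomorphic
to P¹_k over k, and f has exactly one point over p and exactly one point over q. (Existence of an
isomorphism only; the published statement moreover identifies f, in suitable coordinates, with (a :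
b) ↦ (aⁿ : bⁿ) for some n. The published statement leaves implicit that the ground field is
algebraically closed and that C is a connected smooth proper curve; its argument uses both, and over
a non-closed field the projective line over a finite extension is a connected cover with no
ramification.) -/
theorem result (k : Type u) [Field k]
    [IsAlgClosed k] [CharZero k] {C : Scheme.{u}} (s : C ⟶ Spec (CommRingCat.of k))
    [IsProper s] [SmoothOfRelativeDimension 1 s] [ConnectedSpace C]
    (f : C ⟶ CohB1.ProjSpace 1 k) (hf : f ≫ CohB1.ProjSpace.toSpec 1 k = s) [Surjective f]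
    (p q : ↥(CohB1.ProjSpace 1 k)) (hp : IsClosed ({p} : Set ↥(CohB1.ProjSpace 1 k))) (hq : IsClosed ({q} : Set ↥(CohB1.ProjSpace 1 k)))
    (W : (CohB1.ProjSpace 1 k).Opens) (hW : (W : Set ↥(CohB1.ProjSpace 1 k)) = {p, q}ᶜ) [Etale (f ∣_ W)] :
    (∃ e : C ≅ CohB1.ProjSpace 1 k, e.hom ≫ CohB1.ProjSpace.toSpec 1 k = s) ∧
      (∀ x y : C, f.base x = p → f.base y = p → x = y) ∧
      (∀ x y : C, f.base x = q → f.base y = q → x = y) := by
  letI : C.Over (Spec (CommRingCat.of k)) := ⟨s⟩
  haveI : IsProper (C ↘ Spec (CommRingCat.of k)) := inferInstanceAs (IsProper s)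
  haveI : Smooth (C ↘ Spec (CommRingCat.of k)) := SmoothOfRelativeDimension.smooth 1 s
  haveI := Groth.Agent.EulerIneqLib.isNoetherian_proper (X := C) k
  haveI : IsIntegral C := Groth.Agent.CurveLib.isIntegral_of_smooth k
  have hC := Groth.Agent.CurveFF.dim_eq_one_of_smooth s
  haveI := Groth.Agent.VBLib.isRegCurve_of_smooth k hC.le
  haveI : IsProper (CohB1.ProjSpace 1 k ↘ Spec (CommRingCat.of k)) :=
    inferInstanceAs (IsProper (CohB1.ProjSpace.toSpec 1 k))
  haveI : Smooth (CohB1.ProjSpace 1 k ↘ Spec (CommRingCat.of k)) := Groth.Agent.ProjSmoothLib.smooth_toSpec 1 k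
  haveI : IsIntegral (CohB1.ProjSpace 1 k) := Groth.Agent.REqLib.isIntegral_projSpace 1 k
  have hP : topologicalKrullDim (CohB1.ProjSpace 1 k) = 1 := by exact_mod_cast Groth.Agent.S10829.result k 1
  haveI := Groth.Agent.VBLib.isRegCurve_of_smooth (X := CohB1.ProjSpace 1 k) k hP.le
  obtain ⟨hg, h1, h2⟩ := main hC hP (Groth.Agent.CurveFF.genus_projSpace_one k) f hf p q hp hq W hW
  exact ⟨Groth.Agent.CurveP1Lib.exists_iso_P1_of_algClosed hC hg, h1, h2⟩

end Groth.Agent.S17022
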