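import Groth.Statements.S17037
import Groth.Agent.FComplLib.GlobalPres
import Groth.Agent.S3855
set_option backward.isDefEq.respectTransparency false
-- import your own Groth.Agent.* helpers here

set_option autoImplicit false
open CategoryTheory CategoryTheory.Limits
universe u
open FSch

namespace Groth.Agent.S17037

/-- Let A be a Noetherian ring, I an ideal, and 𝔛 the affine Noetherian formal scheme presented by the
system Spec(A/I^(n+1)) (the formal spectrum of the I-adic completion of A; the published statement
is for an arbitrary affine Noetherian formal scheme, which is of this form). Then an O_𝔛-module is a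
small filtered colimit of coherent O_𝔛-modules if and only if it is isomorphic to the cokernel of a
morphism of free O_𝔛-modules (direct sums of copies of O_𝔛 over arbitrary small index sets). -/
theorem result (A : Type u) [CommRing A] [IsNoetherianRing A] (I : Ideal A)
    (h : (FSch.spf A I).IsFormal) (𝔉 : FSch.ModF (FSch.spf A I) h) :
    (ObjectProperty.ind.{u} fun 𝔊 : FSch.ModF (FSch.spf A I) h => FSch.IsCohF (FSch.spf A I) h 𝔊) 𝔉 ↔
      ∃ (α β : Type u) (φ : (SheafOfModules.free α : FSch.ModF (FSch.spf A I) h) ⟶ SheafOfModules.free β),
        Nonempty (cokernel φ ≅ 𝔉) := by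
  have hL := Groth.Agent.S3855.result A I
  constructor
  · rintro ⟨J, _, _, pres, hp⟩
    haveI : AlgebraicGeometry.IsAffine ((FSch.spf A I).X 0) := inferInstanceAs (AlgebraicGeometry.IsAffine (AlgebraicGeometry.Spec _))
    obtain ⟨K, t, hg, hr⟩ := Groth.Agent.FCompl.affQC_colim hL pres.isColimit hp ⊤ (AlgebraicGeometry.isAffineOpen_top _)
    exact Groth.Agent.FCompl.exists_cokernel_free (isTerminalTop) hg hr
  · rintro ⟨α, β, φ, ⟨e⟩⟩
    exact Groth.Agent.FCompl.ind_cokernel_free hL φ e

end Groth.Agent.S17037
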