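import Groth.Statements.S1704
import Mathlib
import Groth.Agent.AssLib.Noetherian


set_option autoImplicit false
universe u
open CategoryTheory CategoryTheory.Limits AlgebraicGeometry TopologicalSpace
open SDiv

namespace Groth.Agent.S1704

/-- Let X be a locally Noetherian scheme and F a quasi-coherent module. Then F is zero if and only if F
has no associated point. -/
theorem result (X : Scheme.{u}) [IsLocallyNoetherian X] (F : X.Modules) (hF : Coh.IsQCoh F) :
    IsZero F ↔ ∀ x : ↥X, ¬ Curv2.IsAssPoint F x := by
  haveI := hF
  constructor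
  · intro h x hx
    haveI := Groth.Agent.AssLib.nontrivial_of_isAssPoint hx
    obtain ⟨t, ht⟩ := exists_ne (0 : F.presheaf.stalk x)
    obtain ⟨V, hxV, s, rfl⟩ := TopCat.Presheaf.exists_germ_eq F.presheaf t
    refine ht ?_
    rw [show s = 0 from ?_, map_zero]
    exact congrArg (fun φ : F ⟶ F => φ.app V s) (h.eq_of_src (𝟙 F) 0)
  · intro h
    rw [Limits.IsZero.iff_id_eq_zero]
    refine Scheme.Modules.hom_ext _ _ fun V => ?_
    ext s
    exact Groth.Agent.AssLib.eq_zero_of_germ_ass s fun x _ hx => absurd hx (h x)


end Groth.Agent.S1704
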