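import Groth.Statements.S17042
import Groth.Agent.FSchHomLib.QC
import Groth.Agent.FComplLib.QuasiCoh
-- import your own Groth.Agent.* helpers here

set_option autoImplicit false
open CategoryTheory CategoryTheory.Limits
universe u
open FSch

namespace Groth.Agent.S17042

open CategoryTheory.Limits TopologicalSpace Opposite AlgebraicGeometry
open Groth.Agent.FCompl Groth.Agent.FSchHomLib

set_option backward.isDefEq.respectTransparency false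
set_option backward.isDefEq.respectTransparency.types false

variable {𝔛 : FSch.Sys.{u}} {h : 𝔛.IsFormal}

/-- Near every point: an affine open with relation data for the target and kernel data for the hom sheaf. -/
theorem exists_data (𝔉 𝔊 : FSch.ModF 𝔛 h) (h𝔉 : FSch.IsCohF 𝔛 h 𝔉) [ModSite.HasSheafHom 𝔉]
    [SheafOfModules.IsQuasicoherent.{u} 𝔊] {W : (𝔛.X 0).Opens} {x : 𝔛.X 0} (hx : x ∈ W) :
    ∃ (U V V' : (𝔛.X 0).Opens) (_ : U ≤ V) (_ : U ≤ V'), IsAffineOpen U ∧ x ∈ U ∧ U ≤ W ∧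
      Nonempty (LocKer ((ModSite.sheafHom 𝔉).obj 𝔊) 𝔊 V) ∧ Nonempty (RelData 𝔊 V') := by
  obtain ⟨S, hS, hS'⟩ := FPLocal.exists_sieve_presentation (R := ModSite.ringSh (𝔛.Osh h)) 𝔉 W
  obtain ⟨V, g, hg, hxV⟩ := hS x hx
  obtain ⟨P, hP⟩ := hS' g hg
  haveI : SheafOfModules.Presentation.IsFinite (M := (ModSite.restr (𝔛.Osh h) V).obj 𝔉) P := hP
  haveI : HasFiniteBiproducts (ModSite.Mod ((𝔛.Osh h).over V)) := HasFiniteBiproducts.of_hasFiniteProducts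
  obtain ⟨V', hV'V, hxV', ⟨D⟩⟩ := exists_relData (𝔉 := 𝔊) hxV
  obtain ⟨U, hU, hxU, hUV'⟩ := exists_affine_le (𝔛 := 𝔛) hxV'
  exact ⟨U, V, V', hUV'.trans hV'V, hUV', hU, hxU, (hUV'.trans hV'V).trans (leOfHom g),
    nonempty_locKer_sheafHom 𝔉 𝔊 P, ⟨D⟩⟩

theorem isQuasicoherent_hom (hL : 𝔛.IsLocNoethFormal) (𝔉 𝔊 : FSch.ModF 𝔛 h) (h𝔉 : FSch.IsCohF 𝔛 h 𝔉)
    [ModSite.HasSheafHom 𝔉] [SheafOfModules.IsQuasicoherent.{u} 𝔊] :
    SheafOfModules.IsQuasicoherent.{u} ((ModSite.sheafHom 𝔉).obj 𝔊) := by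
  let H := (ModSite.sheafHom 𝔉).obj 𝔊
  refine isQuasicoherent_of_genFin H fun W =>
    ⟨{ arrows := fun Z _ => ∃ (U : (𝔛.X 0).Opens) (_ : Z ⟶ U) (I : Type u) (t : I → H.val.obj (op U)),
        GenFin H t ∧ RelFin H t
       downward_closed := fun {Y Z} _ ⟨U, f, hU⟩ k => ⟨U, k ≫ f, hU⟩ }, fun x hx => ?_, fun Z g hg => hg⟩
  obtain ⟨U, V, V', hUV, hUV', hU, hxU, hUW, ⟨L⟩, ⟨D⟩⟩ := exists_data 𝔉 𝔊 h𝔉 hx
  exact ⟨U, homOfLE hUW, ⟨U, 𝟙 U, _, _, genFin_locKer L hL D hU hUV hUV', relFin_locKer L hL D hU hUV hUV'⟩, hxU⟩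

theorem noeth_fun {R M : Type u} [Ring R] [AddCommGroup M] [Module R M] (hM : _root_.IsNoetherian R M)
    (ι : Type u) [Finite ι] : _root_.IsNoetherian R (ι → M) := isNoetherian_pi

theorem noeth_of_inj {R M N : Type u} [Ring R] [AddCommGroup M] [Module R M] [AddCommGroup N] [Module R N]
    (hN : _root_.IsNoetherian R N) (f : M →ₗ[R] N) (hf : Function.Injective f) : _root_.IsNoetherian R M :=
  isNoetherian_of_injective f hf

theorem isCoh_hom (hL : 𝔛.IsLocNoethFormal) (𝔉 𝔊 : FSch.ModF 𝔛 h) (h𝔉 : FSch.IsCohF 𝔛 h 𝔉)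
    [ModSite.HasSheafHom 𝔉] [SheafOfModules.IsQuasicoherent.{u} 𝔊] (h𝔊 : FSch.IsCohF 𝔛 h 𝔊) :
    FSch.IsCohF 𝔛 h ((ModSite.sheafHom 𝔉).obj 𝔊) := by
  classical
  haveI := isQuasicoherent_hom hL 𝔉 𝔊 h𝔉
  let H := (ModSite.sheafHom 𝔉).obj 𝔊
  haveI : SheafOfModules.IsFiniteType.{u} H := by
    refine FPLocal.isFiniteType_of_hasGen H fun W =>
      ⟨{ arrows := fun Z _ => FPLocal.HasGen H Z
         downward_closed := fun {Y Z} _ hZ k => hZ.restrict k }, fun x hx => ?_, fun Z g hg => hg⟩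
    obtain ⟨U, V, V', hUV, hUV', hU, hxU, hUW, ⟨L⟩, ⟨D⟩⟩ := exists_data 𝔉 𝔊 h𝔉 hx
    refine ⟨U, homOfLE hUW, ?_, hxU⟩
    letI := L.fI
    haveI := isNoetherian_sections hL h𝔊 hU
    have hN := noeth_fun (isNoetherian_sections hL h𝔊 hU) L.I
    haveI : _root_.IsNoetherian (OR 𝔛 h U) (H.val.obj (op U)) :=
      noeth_of_inj hN (L.ev (homOfLE hUV)) (L.inj _)
    obtain ⟨n, s, hs⟩ := Submodule.fg_iff_exists_fin_generating_family.1
      (IsNoetherian.noetherian (⊤ : Submodule (OR 𝔛 h U) (H.val.obj (op U))))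
    have hco : ∀ t : H.val.obj (op U), ∃ b : Fin n → OR 𝔛 h U, ∑ j, b j • s j = t := fun t =>
      (Submodule.mem_span_range_iff_exists_fun _).1 (hs.symm ▸ Submodule.mem_top)
    choose b hb using hco
    refine ⟨ULift.{u} (Fin n), inferInstance, fun j => s j.down, fun Y g m => ?_⟩
    refine (genFin_locKer L hL D hU hUV hUV' g m).mono fun Z q hq => ?_
    obtain ⟨S, a, ha⟩ := hq
    refine ⟨fun j => ∑ t ∈ S, (show OR 𝔛 h Z from a t) * rsO 𝔛 h (leOfHom (q ≫ g)) (b t j.down), Eq.trans ?_ ha⟩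
    have e : ∀ t, FPLocal.mres H (q ≫ g).op (id t) =
        ∑ j : ULift.{u} (Fin n), rsO 𝔛 h (leOfHom (q ≫ g)) (b t j.down) • FPLocal.mres H (q ≫ g).op (s j.down) := fun t => by
      rw [id_eq]
      conv_lhs => rw [← hb t, map_sum]
      refine (Fintype.sum_equiv Equiv.ulift.symm _ _ fun j => ?_)
      exact PresheafOfModules.map_smul H.val (q ≫ g).op (b t j) (s j)
    simp only [Finset.sum_smul, mul_smul]
    rw [Finset.sum_comm]
    refine Finset.sum_congr rfl fun t _ => ?_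
    refine Eq.trans ?_ (congrArg (a t • ·) (e t)).symm
    exact Finset.smul_sum.symm
  exact isCohF_of_qc_ft hL _

/-- On a locally Noetherian formal scheme 𝔛 (an adic system of thickenings with locally Noetherian
levels), for a coherent O_𝔛-module F and a quasi-coherent O_𝔛-module G the sheaf Hom(F, G) of
O_𝔛-modules is quasi-coherent, and it is coherent if G is also coherent. -/
theorem result (𝔛 : FSch.Sys.{u}) (h𝔛 : 𝔛.IsLocNoethFormal)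
    (𝔉 𝔊 : FSch.ModF 𝔛 h𝔛.1) (h𝔉 : FSch.IsCohF 𝔛 h𝔛.1 𝔉) [SheafOfModules.IsQuasicoherent.{u} 𝔊]
    [ModSite.HasSheafHom 𝔉] :
    SheafOfModules.IsQuasicoherent.{u} ((ModSite.sheafHom 𝔉).obj 𝔊) ∧
      (FSch.IsCohF 𝔛 h𝔛.1 𝔊 → FSch.IsCohF 𝔛 h𝔛.1 ((ModSite.sheafHom 𝔉).obj 𝔊)) := by
  exact ⟨isQuasicoherent_hom h𝔛 𝔉 𝔊 h𝔉, fun h𝔊 => isCoh_hom h𝔛 𝔉 𝔊 h𝔉 h𝔊⟩

end Groth.Agent.S17042
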