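import Groth.Statements.S17055
import Groth.Agent.TorsInjLib.Derived
set_option backward.isDefEq.respectTransparency false
-- import your own Groth.Agent.* helpers here

set_option autoImplicit false
open CategoryTheory CategoryTheory.Limits
universe u
attribute [local instance] HasDerivedCategory.standard
open FTors

namespace Groth.Agent.S17055

/-- On a locally Noetherian formal scheme 𝔛 (an adic system of thickenings with locally Noetherian
levels), with RΓ'_𝔛 the total right derived functor of the torsion functor (assumed to exist), an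
object E of D(O_𝔛) has torsion cohomology sheaves if and only if the canonical morphism RΓ'_𝔛 E ⟶ E
is an isomorphism. -/
theorem result (𝔛 : FSch.Sys.{u}) (h𝔛 : 𝔛.IsLocNoethFormal)
    [FTors.HasRgammaT 𝔛 h𝔛.1] (E : DerivedCategory (FSch.ModF 𝔛 h𝔛.1)) :
    FTors.IsDTorsF 𝔛 h𝔛.1 E ↔ IsIso ((FTors.RgammaTε 𝔛 h𝔛.1).app E) := by
  refine ⟨Groth.Agent.TorsInj.isIso_ε_app h𝔛 E, fun hE => ?_⟩
  haveI := hE
  exact Groth.Agent.TorsInj.isDTorsF_of_iso (asIso ((FTors.RgammaTε 𝔛 h𝔛.1).app E))
    (Groth.Agent.TorsInj.isDTorsF_RgammaT h𝔛 E)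

end Groth.Agent.S17055
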