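import Groth.Statements.S1706
import Mathlib
import Groth.Agent.AssLib.Weak


set_option autoImplicit false
universe u
open CategoryTheory CategoryTheory.Limits AlgebraicGeometry TopologicalSpace
open SDiv

namespace Groth.Agent.S1706

/-- Let X be a scheme, F a quasi-coherent module and U an open subset containing every weakly associated
point of F. Then the restriction map Γ(X, F) → Γ(U, F) is injective. -/
theorem result (X : Scheme.{u}) (F : X.Modules) (hF : Coh.IsQCoh F)
    (U : X.Opens) (hU : ∀ x : ↥X, Curv2.IsWeakAssPoint F x → x ∈ U) :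
    Function.Injective (F.presheaf.map (homOfLE (le_top : U ≤ ⊤)).op) := by
  haveI := hF
  refine (injective_iff_map_eq_zero _).mpr fun s hs => Groth.Agent.AssLib.eq_zero_of_germ F s fun x hx => ?_
  by_contra hne
  obtain ⟨y, hy, -, hya, hys⟩ := Groth.Agent.AssLib.exists_isWeakAssPoint s hx hne
  refine hys ?_
  rw [← F.presheaf.germ_res_apply (homOfLE (le_top : U ≤ ⊤)) y (hU y hya) s, hs, map_zero]


end Groth.Agent.S1706
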