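import Mathlib
import Groth.Statements.S17065

set_option autoImplicit false
universe u
open CAlg

namespace Groth.Agent.S17065

/-- The local algebraic statement its proof establishes: let A be a Noetherian ring, I ≤ J radical
ideals and Â the J-adic completion of A. If J^n Â ⊆ I Â for some n, then the closed set V(J) is open
inside V(I) ⊆ Spec A. (Globally: if X₂ ⊆ X₁ are the completions of a locally Noetherian scheme along
nested closed subsets Z₂ ⊆ Z₁ and the ideal of Z₁ generates an ideal of definition of X₂, then X₂ is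
a union of connected components of X₁.) -/
theorem result (A : Type u) [CommRing A] [IsNoetherianRing A]
    (I J : Ideal A) (hIJ : I ≤ J) (hI : I.IsRadical) (hJ : J.IsRadical) (n : ℕ)
    (h : (J ^ n).map (algebraMap A (AdicCompletion J A)) ≤ I.map (algebraMap A (AdicCompletion J A))) :
    IsOpen ((fun x : PrimeSpectrum.zeroLocus (I : Set A) => (x : PrimeSpectrum A)) ⁻¹'
      PrimeSpectrum.zeroLocus (J : Set A)) := by
  have hle : ∀ k, J ^ n ≤ I ⊔ J ^ k := fun k x hx => by
    have hIm : (I.map (algebraMap A (AdicCompletion J A))).map (AdicCompletion.evalₐ J k).toRingHom =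
        I.map (Ideal.Quotient.mk (J ^ k)) := by
      rw [Ideal.map_map]
      congr 1
    have h1 := Ideal.mem_map_of_mem (AdicCompletion.evalₐ J k).toRingHom (h (Ideal.mem_map_of_mem _ hx))
    rw [hIm, AlgHom.toRingHom_eq_coe, RingHom.coe_coe, AlgHom.commutes] at h1
    have h2 : x ∈ (I.map (Ideal.Quotient.mk (J ^ k))).comap (Ideal.Quotient.mk (J ^ k)) := h1
    rw [Ideal.comap_map_of_surjective _ Ideal.Quotient.mk_surjective, ← RingHom.ker_eq_comap_bot,
      Ideal.mk_ker] at h2
    exact h2
  let N : Submodule A (A ⧸ I) := Submodule.map (Submodule.mkQ I) (J ^ n)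
  have hN : N ≤ J • N := by
    rintro _ ⟨x, hx, rfl⟩
    obtain ⟨i, hi, j, hj, rfl⟩ := Submodule.mem_sup.mp (hle (n + 1) hx)
    rw [map_add, show Submodule.mkQ I i = 0 from (Submodule.Quotient.mk_eq_zero _).mpr hi, zero_add,
      show J • N = Submodule.map (Submodule.mkQ I) (J • J ^ n) from (Submodule.map_smul'' _ _ _).symm]
    refine Submodule.mem_map_of_mem ?_
    rwa [smul_eq_mul, ← pow_succ']
  obtain ⟨r, hr1, hr⟩ := Submodule.exists_sub_one_mem_and_smul_eq_zero_of_fg_of_le_smul J N
    (IsNoetherian.noetherian N) hN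
  have hrJ : ∀ x ∈ J, r * x ∈ I := fun x hx => by
    rcases Nat.eq_zero_or_pos n with rfl | hn
    · have := hr (Submodule.mkQ I 1) (Submodule.mem_map_of_mem (by simp))
      rw [← map_smul, Submodule.mkQ_apply, Submodule.Quotient.mk_eq_zero, smul_eq_mul, mul_one] at this
      exact I.mul_mem_right x this
    · refine hI ⟨n, ?_⟩
      have := hr (Submodule.mkQ I (x ^ n)) (Submodule.mem_map_of_mem (Ideal.pow_mem_pow hx n))
      rw [← map_smul, Submodule.mkQ_apply, Submodule.Quotient.mk_eq_zero, smul_eq_mul] at this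
      rw [mul_pow, show r ^ n * x ^ n = r ^ (n - 1) * (r * x ^ n) by
        rw [← mul_assoc, ← pow_succ, Nat.sub_add_cancel hn]]
      exact I.mul_mem_left _ this
  convert (PrimeSpectrum.basicOpen r).isOpen.preimage continuous_subtype_val using 1
  ext ⟨p, hp⟩
  simp only [Set.mem_preimage, PrimeSpectrum.mem_zeroLocus, SetLike.coe_subset_coe, SetLike.mem_coe,
    PrimeSpectrum.mem_basicOpen] at hp ⊢
  constructor
  · intro hJp hrp
    apply p.isPrime.ne_top
    rw [Ideal.eq_top_iff_one, show (1 : A) = r - (r - 1) by ring]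
    exact sub_mem hrp (hJp hr1)
  · intro hrp x hx
    exact (p.isPrime.mem_or_mem (hp (hrJ x hx))).resolve_left hrp

end Groth.Agent.S17065
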