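import Groth.Statements.S1707
import Mathlib
import Groth.Agent.AssLib.Weak


set_option autoImplicit false
universe u
open CategoryTheory CategoryTheory.Limits AlgebraicGeometry TopologicalSpace
open SDiv

namespace Groth.Agent.S1707

/-- Let X be a scheme, F a quasi-coherent module and x a point of the support of F such that no other
point of the support specializes to x. Then x is weakly associated to F. -/
theorem result (X : Scheme.{u}) (F : X.Modules) (hF : Coh.IsQCoh F) (x : ↥X)
    (hx : x ∈ CohB1.support F) (hmax : ∀ y : ↥X, y ∈ CohB1.support F → y ⤳ x → y = x) : Curv2.IsWeakAssPoint F x := by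
  haveI := hF
  haveI := not_subsingleton_iff_nontrivial.mp hx
  obtain ⟨t, ht⟩ := exists_ne (0 : F.presheaf.stalk x)
  obtain ⟨V, hxV, s, rfl⟩ := TopCat.Presheaf.exists_germ_eq F.presheaf t
  obtain ⟨y, hy, hyx, hya, hys⟩ := Groth.Agent.AssLib.exists_isWeakAssPoint s hxV ht
  obtain rfl := hmax y (fun hsub => hys (@Subsingleton.elim _ hsub _ _)) hyx
  exact hya


end Groth.Agent.S1707
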