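import Groth.Statements.S17073
import Mathlib
import Groth.Agent.TopHTensorLib.Basic

set_option autoImplicit false
open CategoryTheory
universe u
open LocCoh

namespace Groth.Agent.S17073




section
variable {R S : Type u} [CommRing R] [CommRing S] [Algebra R S] (J : Ideal S) (d : ℕ) (F : Type u)
  [AddCommGroup F] [Module R F]

/-- The top local cohomology with scalars restricted. -/
noncomputable abbrev G : ModuleCat.{u} S ⥤ ModuleCat.{u} R := localCohomology J d ⋙ ModuleCat.restrictScalars (algebraMap R S)

/-- Multiplication by `s`, as an `R`-linear map. -/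
noncomputable def L (E : ModuleCat.{u} S) (s : S) : ((G (R := R) J d).obj E : Type u) →ₗ[R] ((G (R := R) J d).obj E : Type u) :=
  ((ModuleCat.restrictScalars (algebraMap R S)).map
    (ModuleCat.ofHom ((s • LinearMap.id : ((localCohomology J d).obj E : Type u) →ₗ[S] _)))).hom

lemma L_apply (E : ModuleCat.{u} S) (s : S) (z : LocCoh.H J d E) : L (R := R) J d E s z = s • z := rfl

lemma L_one (E : ModuleCat.{u} S) : L (R := R) J d E 1 = LinearMap.id :=
  LinearMap.ext fun (z : LocCoh.H J d E) => one_smul S z

lemma L_mul (E : ModuleCat.{u} S) (s t : S) : L (R := R) J d E (s * t) = L J d E t ∘ₗ L J d E s :=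
  LinearMap.ext fun (z : LocCoh.H J d E) => (show (s * t) • z = t • s • z by rw [mul_comm, mul_smul])

lemma L_add (E : ModuleCat.{u} S) (s t : S) : L (R := R) J d E (s + t) = L J d E s + L J d E t :=
  LinearMap.ext fun (z : LocCoh.H J d E) => add_smul s t z

lemma L_zero (E : ModuleCat.{u} S) : L (R := R) J d E 0 = 0 :=
  LinearMap.ext fun (z : LocCoh.H J d E) => zero_smul S z

/-- The representing module. -/
def N : Type u := ((G (R := R) J d).obj (ModuleCat.of S S) : Type u) →ₗ[R] F

noncomputable instance : AddCommGroup (N (R := R) J d F) :=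
  inferInstanceAs (AddCommGroup (((G (R := R) J d).obj (ModuleCat.of S S) : Type u) →ₗ[R] F))

/-- An element of `N` as a linear map. -/
def toMap (φ : N (R := R) J d F) : ((G (R := R) J d).obj (ModuleCat.of S S) : Type u) →ₗ[R] F := φ

noncomputable instance : SMul S (N (R := R) J d F) where
  smul s φ := (toMap J d F φ).comp (L J d _ s)

lemma smul_def (s : S) (φ : N (R := R) J d F) :
    s • φ = ((toMap J d F φ).comp (L J d _ s) : N (R := R) J d F) := rfl

noncomputable instance : Module S (N (R := R) J d F) where
  one_smul φ := (congrArg (toMap J d F φ).comp (L_one J d _)).trans (LinearMap.comp_id _)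
  mul_smul s t φ := (congrArg (toMap J d F φ).comp (L_mul J d _ s t)).trans (LinearMap.comp_assoc _ _ _).symm
  smul_zero _ := LinearMap.zero_comp _
  smul_add _ φ ψ := LinearMap.add_comp _ (toMap J d F ψ) (toMap J d F φ)
  add_smul s t φ := (congrArg (toMap J d F φ).comp (L_add J d _ s t)).trans (LinearMap.comp_add _ _ _)
  zero_smul φ := (congrArg (toMap J d F φ).comp (L_zero J d _)).trans (LinearMap.comp_zero _)

lemma toMap_smul (s : S) (φ : N (R := R) J d F) (z : LocCoh.H J d S) :
    toMap J d F (s • φ) z = toMap J d F φ (L J d _ s z) := by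
  rw [smul_def]; rfl

/-- Evaluation. -/
noncomputable def ev {E : ModuleCat.{u} S} (ξ : E ⟶ ModuleCat.of S (N (R := R) J d F)) (x : E)
    (z : LocCoh.H J d S) : F :=
  toMap J d F (ξ.hom x) z

variable [IsNoetherianRing S] (hcd : LocCoh.CdLE S J d)

/-- The pairing on the tensor product. -/
noncomputable def pairing {E : ModuleCat.{u} S} (ξ : E ⟶ ModuleCat.of S (N (R := R) J d F)) :
    TensorProduct S E (LocCoh.H J d S) →+ F :=
  TensorProduct.liftAddHom
    (AddMonoidHom.mk' (fun x => AddMonoidHom.mk' (fun z => ev J d F ξ x z)
        (fun z z' => map_add (toMap J d F (ξ.hom x)) _ _))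
      fun x y => by
        ext z
        show ev J d F ξ (x + y) z = ev J d F ξ x z + ev J d F ξ y z
        unfold ev; rw [map_add]; rfl)
    (fun s x z => by
      show ev J d F ξ (s • x) z = ev J d F ξ x (s • z)
      unfold ev; rw [map_smul]
      exact toMap_smul J d F s (ξ.hom x) z)

lemma pairing_smul {E : ModuleCat.{u} S} (ξ : E ⟶ ModuleCat.of S (N (R := R) J d F)) (r : R)
    (w : TensorProduct S E (LocCoh.H J d S)) :
    pairing J d F ξ (algebraMap R S r • w) = r • pairing J d F ξ w := by
  induction w with
  | zero => rw [smul_zero, map_zero, smul_zero]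
  | tmul x z =>
    rw [← TensorProduct.tmul_smul]
    exact map_smul (toMap J d F (ξ.hom x)) r _
  | add x y hx hy => rw [smul_add, map_add, hx, hy, map_add, smul_add]

/-- Adjunction. -/
noncomputable def adj (E : ModuleCat.{u} S) :
    (E ⟶ ModuleCat.of S (N (R := R) J d F)) ≃ ((G (R := R) J d).obj E ⟶ ModuleCat.of R F) :=
  let e := LinearEquiv.ofBijective _ (TopHTensorLib.bijective_comp hcd E)
  { toFun := fun ξ => ModuleCat.ofHom (X := ((G (R := R) J d).obj E : Type u)) (Y := F)
      { toFun := fun w => pairing J d F ξ (e.symm w)
        map_add' := fun a b =>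
          (congrArg (pairing J d F ξ) (map_add e.symm (a : LocCoh.H J d E) (b : LocCoh.H J d E))).trans (map_add _ _ _)
        map_smul' := fun r a =>
          (congrArg (pairing J d F ξ) (e.symm.map_smul (algebraMap R S r) a)).trans (pairing_smul J d F ξ r _) }
    invFun := fun g => ModuleCat.ofHom (Y := N (R := R) J d F)
      { toFun := fun x => LinearMap.comp g.hom
          ((G (R := R) J d).map (ModuleCat.ofHom (LinearMap.toSpanSingleton S E x))).hom
        map_add' := fun x y => LinearMap.ext fun z =>
          (congrArg g.hom (TopHTensorLib.spanH_add J d x y z)).trans (map_add g.hom _ _)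
        map_smul' := fun s x => LinearMap.ext fun (z : LocCoh.H J d S) => congrArg g.hom
          ((CanonLib.spanH_smul J d s x z).trans (map_smul (CanonLib.spanH J d x) s z).symm) }
    left_inv := fun ξ => ModuleCat.hom_ext (LinearMap.ext fun x => LinearMap.ext fun (z : LocCoh.H J d S) => by
      show pairing J d F ξ (e.symm (CanonLib.spanH J d x z)) = ev J d F ξ x z
      rw [show e.symm (CanonLib.spanH J d x z) = x ⊗ₜ z from e.symm_apply_eq.mpr rfl]
      rfl)
    right_inv := fun g => ModuleCat.hom_ext (LinearMap.ext fun w => by
      obtain ⟨v, rfl⟩ := e.surjective w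
      show pairing J d F _ (e.symm (e v)) = g.hom (e v)
      rw [e.symm_apply_apply]
      induction v with
      | zero => rw [map_zero, map_zero]; exact (map_zero g.hom).symm
      | tmul x z => rfl
      | add x y hx hy => rw [map_add, hx, hy, map_add]; exact (map_add g.hom _ _).symm) }

end


/-- Let R → S be a homomorphism of Noetherian rings, J an ideal of S containing elements u₁, …, u_d such
that S/(u₁, …, u_d) is a finite R-module and J lies in the radical of (u₁, …, u_d), and let F be a
finite R-module. Then the functor sending an S-module E to the set Hom_R(H^d_J(E), F) (d-th local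
cohomology supported in J, scalars restricted to R) is representable by an S-module. (The published
statement gives the representing module as the degree −d cohomology of RHom_R(RΓ_J S, F) and a
bifunctorial isomorphism; only representability is asserted here.) -/
theorem result
    (R S : Type u) [CommRing R] [CommRing S] [IsNoetherianRing R] [IsNoetherianRing S] [Algebra R S]
    (J : Ideal S) (d : ℕ) (u : Fin d → S) (hu : ∀ i, u i ∈ J)
    (hJ : J ≤ (Ideal.span (Set.range u)).radical) [Module.Finite R (S ⧸ Ideal.span (Set.range u))]
    (F : Type u) [AddCommGroup F] [Module R F] [Module.Finite R F] :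
    ((localCohomology J d ⋙ ModuleCat.restrictScalars (algebraMap R S)).op ⋙
      yoneda.obj (ModuleCat.of R F)).IsRepresentable := by

  have hcd := TopHTensorLib.cdLE_of_radical J d u hu hJ
  refine ⟨⟨ModuleCat.of S (N (R := R) J d F), ⟨{ homEquiv := fun {E} => adj J d F hcd E, homEquiv_comp := fun {E E'} f ξ => ?_ }⟩⟩⟩
  refine ModuleCat.hom_ext (LinearMap.ext fun w => ?_)
  obtain ⟨v, rfl⟩ := (TopHTensorLib.bijective_comp hcd E).2 w
  let e := LinearEquiv.ofBijective _ (TopHTensorLib.bijective_comp hcd E')
  let e' := LinearEquiv.ofBijective _ (TopHTensorLib.bijective_comp hcd E)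
  show pairing J d F (f ≫ ξ) (e'.symm (e' v)) =
    pairing J d F ξ (e.symm (((localCohomology J d).map f).hom (TopHTensorLib.comp J d E v)))
  rw [e'.symm_apply_apply, show f = ModuleCat.ofHom f.hom from rfl, TopHTensorLib.comp_natural,
    show e.symm (TopHTensorLib.comp J d E' (f.hom.rTensor _ v)) = f.hom.rTensor _ v from e.symm_apply_apply _]
  induction v with
  | zero => simp
  | tmul x z => rfl
  | add x y hx hy => rw [map_add, map_add, map_add, hx, hy]

end Groth.Agent.S17073
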