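import Groth.Statements.S17074
import Groth.Agent.FComplLib.FinPres
import Groth.Agent.IndExtLib.Exact
-- import your own Groth.Agent.* helpers here

set_option autoImplicit false
open CategoryTheory CategoryTheory.Limits
universe v' u' u
open FSch

namespace Groth.Agent.S17074

/-- Let 𝔛 be a Noetherian formal scheme (an adic system of thickenings with locally Noetherian levels
and quasi-compact underlying space); let A_c be the full subcategory of coherent O_𝔛-modules
(assumed, as holds, to contain 0 and to be closed under kernels, cokernels and finite products,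
hence abelian) inside the full subcategory A of small filtered colimits of coherent modules. For an
abelian category A' with exact small filtered colimits and an exact functor G : A_c ⥤ A', the
pointwise left Kan extension of G along the inclusion A_c ⥤ A (assumed to exist; it is the
filtered-colimit-preserving extension of G, whose value at a module M is the colimit of G over the
coherent submodules of M) is exact: it preserves finite limits and finite colimits. (The published
statement assumes 𝔛 only locally Noetherian. On the scheme glued from the spectra of the local rings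
ℤ_(p), p ranging over all primes, along their common generic point, viewed as a formal scheme with
zero ideal of definition, the structure sheaf is the increasing union of the coherent ideals J_n
equal to the unit ideal at the first n closed points and to the maximal ideal at the others; for G
the product over all closed points of the stalk functors, with values in abelian groups, the
extension of G does not carry the epimorphism from the direct sum of the J_n onto the structure
sheaf to an epimorphism. The last step of the published proof needs every coherent module to be a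
Noetherian object, so 𝔛 is taken Noetherian here, which is the case in which the lemma is applied.) -/
theorem result (𝔛 : FSch.Sys.{u}) (h𝔛 : 𝔛.IsLocNoethFormal)
    [CompactSpace (𝔛.X 0)]
    [ObjectProperty.ContainsZero (fun 𝔊 : FSch.ModF 𝔛 h𝔛.1 => FSch.IsCohF 𝔛 h𝔛.1 𝔊)] [ObjectProperty.IsClosedUnderKernels (fun 𝔊 : FSch.ModF 𝔛 h𝔛.1 => FSch.IsCohF 𝔛 h𝔛.1 𝔊)]
    [ObjectProperty.IsClosedUnderCokernels (fun 𝔊 : FSch.ModF 𝔛 h𝔛.1 => FSch.IsCohF 𝔛 h𝔛.1 𝔊)] [ObjectProperty.IsClosedUnderFiniteProducts (fun 𝔊 : FSch.ModF 𝔛 h𝔛.1 => FSch.IsCohF 𝔛 h𝔛.1 𝔊)]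
    {A' : Type u'} [Category.{v'} A'] [Abelian A'] [HasFilteredColimitsOfSize.{u, u} A'] [AB5OfSize.{u, u} A']
    (G : ObjectProperty.FullSubcategory (fun 𝔊 : FSch.ModF 𝔛 h𝔛.1 => FSch.IsCohF 𝔛 h𝔛.1 𝔊) ⥤ A') [PreservesFiniteLimits G] [PreservesFiniteColimits G]
    [(ObjectProperty.ιOfLE (ObjectProperty.le_ind (fun 𝔊 : FSch.ModF 𝔛 h𝔛.1 => FSch.IsCohF 𝔛 h𝔛.1 𝔊) : (fun 𝔊 : FSch.ModF 𝔛 h𝔛.1 => FSch.IsCohF 𝔛 h𝔛.1 𝔊) ≤ ObjectProperty.ind.{u} (fun 𝔊 : FSch.ModF 𝔛 h𝔛.1 => FSch.IsCohF 𝔛 h𝔛.1 𝔊))).HasPointwiseLeftKanExtension G] :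
    PreservesFiniteLimits ((ObjectProperty.ιOfLE (ObjectProperty.le_ind (fun 𝔊 : FSch.ModF 𝔛 h𝔛.1 => FSch.IsCohF 𝔛 h𝔛.1 𝔊) : (fun 𝔊 : FSch.ModF 𝔛 h𝔛.1 => FSch.IsCohF 𝔛 h𝔛.1 𝔊) ≤ ObjectProperty.ind.{u} (fun 𝔊 : FSch.ModF 𝔛 h𝔛.1 => FSch.IsCohF 𝔛 h𝔛.1 𝔊))).pointwiseLeftKanExtension G) ∧
      PreservesFiniteColimits ((ObjectProperty.ιOfLE (ObjectProperty.le_ind (fun 𝔊 : FSch.ModF 𝔛 h𝔛.1 => FSch.IsCohF 𝔛 h𝔛.1 𝔊) : (fun 𝔊 : FSch.ModF 𝔛 h𝔛.1 => FSch.IsCohF 𝔛 h𝔛.1 𝔊) ≤ ObjectProperty.ind.{u} (fun 𝔊 : FSch.ModF 𝔛 h𝔛.1 => FSch.IsCohF 𝔛 h𝔛.1 𝔊))).pointwiseLeftKanExtension G) := by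
  let P : ObjectProperty (FSch.ModF 𝔛 h𝔛.1) := fun 𝔊 => FSch.IsCohF 𝔛 h𝔛.1 𝔊
  let Q : ObjectProperty (FSch.ModF 𝔛 h𝔛.1) := ObjectProperty.ind.{u} P
  haveI : Q.ContainsZero := ⟨by
    obtain ⟨Z, hZ, hPZ⟩ := P.exists_prop_of_containsZero
    exact ⟨Z, hZ, ObjectProperty.le_ind P _ hPZ⟩⟩
  haveI : Q.IsClosedUnderKernels := ⟨by
    rintro _ ⟨f, k, hk, hf⟩
    exact Q.prop_of_iso ((kernelIsKernel f).conePointUniqueUpToIso hk)
      (Groth.Agent.FCompl.isInd_kernel h𝔛 f hf.1 hf.2)⟩
  haveI : Q.IsClosedUnderCokernels := ⟨by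
    rintro _ ⟨f, k, hk, hf⟩
    exact Q.prop_of_iso ((cokernelIsCokernel f).coconePointUniqueUpToIso hk)
      (Groth.Agent.FCompl.isInd_cokernel h𝔛 f hf.1 hf.2)⟩
  haveI : Q.IsClosedUnderFiniteProducts :=
    ObjectProperty.IsClosedUnderFiniteProducts.of_isClosedUnderLimitsOfShape.{u} (P := Q) fun J _ => ⟨by
      rintro X ⟨hX⟩
      haveI := Fintype.ofFinite J
      let g : J → FSch.ModF 𝔛 h𝔛.1 := fun j => hX.diag.obj ⟨j⟩
      let F : Fan g := Fan.mk X fun j => (hX.π.app ⟨j⟩ : X ⟶ g j)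
      let e : hX.diag ≅ Discrete.functor g := Discrete.natIso fun _ => Iso.refl _
      let hF : IsLimit F := IsLimit.ofIsoLimit ((IsLimit.postcomposeHomEquiv e _).symm hX.isLimit)
        (Cone.ext (Iso.refl _) (by rintro ⟨j⟩; simp [F, e]))
      haveI : HasFiniteBiproducts (FSch.ModF 𝔛 h𝔛.1) := Abelian.hasFiniteBiproducts
      refine Q.prop_of_iso (IsLimit.conePointUniqueUpToIso (biproduct.isLimit g) hF) ?_
      exact Groth.Agent.FCompl.ind_closed h𝔛
        ({ diag := Discrete.functor g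
           ι := (biproduct.bicone g).toCocone.ι
           isColimit := biproduct.isColimit _ } : ColimitPresentation (Discrete J) (⨁ g))
        fun j => hX.prop_diag_obj ⟨j.as⟩⟩
  refine Groth.Agent.IndExtLib.preservesFiniteLimits_and_colimits (ObjectProperty.le_ind P) G
    ⟨fun M hM => ?_, fun {J} _ _ {M} p hp {Y} hY σ => Groth.Agent.FCompl.exists_factor_colimit p.isColimit h𝔛 hY σ, ?_⟩
  · obtain ⟨J, _, _, q, hq⟩ := hM
    exact Groth.Agent.FCompl.exists_mono_presentation h𝔛 q hq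
  · intro F K π _ hF hK Y hY y
    haveI := Groth.Agent.FCompl.isQuasicoherent_of_ind h𝔛 hF
    exact Groth.Agent.FCompl.exists_coh_lift h𝔛 π (Groth.Agent.FCompl.isInd_kernel h𝔛 π hF hK) hY y

end Groth.Agent.S17074
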