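import Groth.Statements.S17076
import Groth.Agent.FibIsoOpen.Basic

set_option backward.isDefEq.respectTransparency false
set_option linter.style.haveILetI false

set_option autoImplicit false
universe u
open CategoryTheory CategoryTheory.Limits AlgebraicGeometry
open MorSch

namespace Groth.Agent.S17076

theorem lfp_of_noetherian {U V : Scheme.{u}} (f : U ⟶ V) [LocallyOfFiniteType f]
    [IsLocallyNoetherian V] : LocallyOfFinitePresentation f := by
  rw [HasRingHomProperty.iff_appLE (P := @LocallyOfFinitePresentation)]
  intro W E e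
  haveI : IsNoetherianRing ↥Γ(V, W) := IsLocallyNoetherian.component_noetherian W
  exact RingHom.FinitePresentation.of_finiteType.1
    (HasRingHomProperty.appLE (P := @LocallyOfFiniteType) f ‹_› W E e)

/-- Base change of `f` over `S` is a base change of `f` along the projection. -/
theorem isPullback_map {X Y S S' : Scheme.{u}} (f : X ⟶ Y) (g : Y ⟶ S) (h : S' ⟶ S)
    (F : pullback (f ≫ g) h ⟶ pullback g h) (h₁ : F ≫ pullback.fst g h = pullback.fst (f ≫ g) h ≫ f)
    (h₂ : F ≫ pullback.snd g h = pullback.snd (f ≫ g) h) :
    IsPullback (pullback.fst (f ≫ g) h) F f (pullback.fst g h) := by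
  refine IsPullback.flip (IsPullback.of_right ?_ h₁ (IsPullback.of_hasPullback g h).flip)
  rw [h₂]
  exact (IsPullback.of_hasPullback (f ≫ g) h).flip

theorem iff_fibres {X Y S : Scheme.{u}} (f : X ⟶ Y) (g : Y ⟶ S) (gX : X ⟶ S) (w : f ≫ g = gX)
    [IsLocallyNoetherian S] [IsProper gX] [Flat gX] [IsProper g] :
    ∃ S₀ : S.Opens, ∀ (S' : Scheme.{u}) (h : S' ⟶ S) (F : pullback gX h ⟶ pullback g h)
      (_ : F ≫ pullback.fst g h = pullback.fst gX h ≫ f) (_ : F ≫ pullback.snd g h = pullback.snd gX h),
      Set.range h ⊆ (S₀ : Set S) ↔ IsIso F := by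
  subst w
  haveI := lfp_of_noetherian (f ≫ g)
  obtain ⟨U, hU, hiso⟩ := FibIsoOpen.exists_open f g
  refine ⟨U, fun S' h F h₁ h₂ => ⟨fun hr => ?_, fun hF => ?_⟩⟩
  · let W := g ⁻¹ᵁ U
    have hrW : Set.range (pullback.fst g h) ⊆ Set.range W.ι := by
      rw [Scheme.Opens.range_ι]
      rintro _ ⟨p, rfl⟩
      show g (pullback.fst g h p) ∈ U
      rw [← Scheme.Hom.comp_apply, pullback.condition, Scheme.Hom.comp_apply]
      exact hr ⟨_, rfl⟩
    let l := IsOpenImmersion.lift W.ι (pullback.fst g h) hrW
    have hp := ((IsPullback.of_hasPullback (f ∣_ W) l).paste_horiz (isPullback_morphismRestrict f W).flip)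
    rw [IsOpenImmersion.lift_fac] at hp
    rw [← (isPullback_map f g h F h₁ h₂).isoPullback_hom_snd]
    haveI : IsIso (pullback.snd f (pullback.fst g h)) := by
      rw [← hp.isoPullback_inv_snd]
      infer_instance
    infer_instance
  · rintro _ ⟨s', rfl⟩
    rw [SetLike.mem_coe, hU]
    let a := Spec.map (h.residueFieldMap s')
    haveI : Surjective a := ⟨fun p => ⟨IsLocalRing.closedPoint _, Subsingleton.elim _ _⟩⟩
    haveI : Flat a := by
      rw [HasRingHomProperty.Spec_iff (P := @Flat)]
      letI := (h.residueFieldMap s').hom.toAlgebra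
      show Module.Flat _ _
      infer_instance
    let c := pullback.fst (g.fiberToSpecResidueField (h s')) a
    have hc : (@Surjective ⊓ @Flat ⊓ @QuasiCompact : MorphismProperty Scheme.{u}) c :=
      ⟨⟨inferInstanceAs (Surjective (pullback.fst _ a)), inferInstanceAs (Flat (pullback.fst _ a))⟩,
        inferInstanceAs (QuasiCompact (pullback.fst _ a))⟩
    have hfac : ∃ m, c ≫ g.fiberι (h s') = m ≫ pullback.fst g h := by
      refine ⟨pullback.lift (c ≫ g.fiberι (h s'))
        (pullback.snd (g.fiberToSpecResidueField (h s')) a ≫ S'.fromSpecResidueField s') ?_, (pullback.lift_fst _ _ _).symm⟩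
      rw [Category.assoc, Category.assoc, g.fiber_fac, ← Category.assoc, pullback.condition,
        Category.assoc, h.SpecMap_residueFieldMap_fromSpecResidueField]
    obtain ⟨m, hm⟩ := hfac
    haveI : IsIso (pullback.snd f (pullback.fst g h)) := by
      rw [← (isPullback_map f g h F h₁ h₂).isoPullback_inv_snd]
      infer_instance
    have hp := ((IsPullback.of_hasPullback (pullback.snd f (pullback.fst g h)) m).paste_horiz
      (IsPullback.of_hasPullback f (pullback.fst g h)))
    rw [← hm] at hp
    have t := FlatLocus.isPullback_fiberMap f g (h s')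
    let q := pullback.snd (pullback.snd f (pullback.fst g h)) m
    have e : (pullback.fst (pullback.snd f (pullback.fst g h)) m ≫ pullback.fst f (pullback.fst g h)) ≫ f =
        (q ≫ c) ≫ g.fiberι (h s') := hp.w.trans (Category.assoc _ _ _).symm
    have hq : IsPullback (t.lift _ _ e) q (MoreMor.fiberMap f g (h s')) c := by
      refine IsPullback.of_right ?_ (t.lift_snd _ _ e) t
      rw [t.lift_fst]
      exact hp
    exact MorphismProperty.of_isPullback_of_descendsAlong (P := MorphismProperty.isomorphisms Scheme)
      hq.flip hc (show IsIso q from inferInstance)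

/-- Let S be a locally Noetherian scheme, X and Y schemes proper over S with X flat over S, and f : X →
Y an S-morphism. Then there is an open subset S₀ of S such that, for every locally Noetherian scheme
S' and every morphism h : S' → S, the image of h lies in S₀ if and only if the base change X ×_S S'
→ Y ×_S S' of f is an isomorphism. (The published statement also supposes that some fibre of f is an
isomorphism; that hypothesis only serves to make S₀ nonempty and is not needed.) -/
theorem result
    {S : Scheme.{u}} [IsLocallyNoetherian S] (X Y : Over S) [IsProper X.hom] [IsProper Y.hom]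
    [Flat X.hom] (f : X ⟶ Y) :
    ∃ S₀ : S.Opens, ∀ (S' : Scheme.{u}) [IsLocallyNoetherian S'] (h : S' ⟶ S),
      Set.range h ⊆ (S₀ : Set S) ↔ IsIso ((Over.pullback h).map f).left := by
  obtain ⟨S₀, hS₀⟩ := iff_fibres f.left Y.hom X.hom (Over.w f)
  refine ⟨S₀, fun S' _ h => hS₀ S' h _ ?_ ?_⟩
  · exact pullback.lift_fst _ _ _
  · exact pullback.lift_snd _ _ _

end Groth.Agent.S17076
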