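import Groth.Statements.S17077
import Mathlib

set_option autoImplicit false
universe u
open RatCurve

namespace Groth.Agent.S17077

open CategoryTheory CategoryTheory.Limits AlgebraicGeometry

open MvPolynomial in
lemma eval₂_scale {k : Type u} [CommRing k] {S : Type u} [CommRing S] (φ : k →+* S) {F : MvPolynomial (Fin 2) k}
    {d : ℕ} (hF : F.IsHomogeneous d) (c : S) (x : Fin 2 → S) :
    eval₂ φ (fun i => c * x i) F = c ^ d * eval₂ φ x F := by
  rw [eval₂_eq' φ (fun i => c * x i) F, eval₂_eq' φ x F, Finset.mul_sum]
  refine Finset.sum_congr rfl fun e he => ?_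
  have he' : e 0 + e 1 = d := by
    rw [hF.degree_eq_sum_deg_support he]
    simp [Finsupp.degree, Finset.sum_subset (Finset.subset_univ e.support) (fun x _ hx => by simpa using hx),
      Fin.sum_univ_two]
  simp only [Fin.prod_univ_two, mul_pow, ← he', pow_add]
  ring


/-- Let k be an algebraically closed field and F_0, …, F_{n-1} homogeneous polynomials in k[u, v] (of
possibly different degrees). Then the F_i have a common factor which is not a unit if and only if
they have a common zero (a, b) ≠ (0, 0) in k², that is, a common zero in the projective line. -/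
theorem result
    {k : Type u} [Field k] [IsAlgClosed k] {n : ℕ} (F : Fin n → MvPolynomial (Fin 2) k)
    (d : Fin n → ℕ) (hF : ∀ i, (F i).IsHomogeneous (d i)) :
    (∃ H : MvPolynomial (Fin 2) k, ¬ IsUnit H ∧ ∀ i, H ∣ F i) ↔
      ∃ a : Fin 2 → k, a ≠ 0 ∧ ∀ i, MvPolynomial.eval a (F i) = 0 := by
  classical
  constructor
  · rintro ⟨H, hH, hdvd⟩
    suffices ∃ a : Fin 2 → k, a ≠ 0 ∧ MvPolynomial.eval a H = 0 by
      obtain ⟨a, ha, h0⟩ := this
      exact ⟨a, ha, fun i => by
        obtain ⟨c, hc⟩ := hdvd i
        rw [hc, map_mul, h0, zero_mul]⟩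
    let e := MvPolynomial.finSuccEquiv k 1
    have heval : ∀ (u v : k), MvPolynomial.eval ![u, v] H =
        ((e H).map (MvPolynomial.eval fun _ => v)).eval u := fun u v => by
      rw [show (![u, v] : Fin 2 → k) = Fin.cons u (fun _ => v) from by
        funext i
        fin_cases i <;> rfl, MvPolynomial.eval_eq_eval_mv_eval']
    by_cases hdeg : (e H).natDegree = 0
    · obtain ⟨h0, hh0⟩ := Polynomial.natDegree_eq_zero.1 hdeg
      let e1 := MvPolynomial.uniqueAlgEquiv k (Fin 1)
      by_cases hd0 : (e1 h0).natDegree = 0
      · obtain ⟨c, hc⟩ := Polynomial.natDegree_eq_zero.1 hd0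
        by_cases hc0 : c = 0
        · refine ⟨![1, 0], fun h => one_ne_zero (congr_fun h 0), ?_⟩
          have : h0 = 0 := e1.injective (by rw [← hc, hc0, map_zero, map_zero])
          rw [heval, ← hh0, this]
          simp
        · refine absurd ?_ hH
          have hu : IsUnit (e1 h0) := hc ▸ (isUnit_iff_ne_zero.2 hc0).map Polynomial.C
          have hu' : IsUnit h0 := by simpa using hu.map e1.symm
          have : IsUnit (e H) := hh0 ▸ hu'.map Polynomial.C
          simpa [e] using this.map e.symm
      · obtain ⟨v, hv⟩ := IsAlgClosed.exists_root (e1 h0) (fun h => hd0 (Polynomial.natDegree_eq_of_degree_eq_some h))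
        refine ⟨![1, v], fun h => one_ne_zero (congr_fun h 0), ?_⟩
        rw [heval, ← hh0, Polynomial.map_C, Polynomial.eval_C]
        have hz : ∀ p : MvPolynomial (Fin 1) k, (e1 p).eval v = MvPolynomial.eval (fun _ => v) p := fun p => by
          induction p using MvPolynomial.induction_on' with
          | monomial d r => simp [e1, MvPolynomial.eval_monomial, Finsupp.prod_fintype]
          | add p q hp hq => rw [map_add, map_add, Polynomial.eval_add, hp, hq]
        rw [← hz]
        exact hv
    · have hlc : (e H).leadingCoeff ≠ 0 := by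
        rw [Polynomial.leadingCoeff_ne_zero]
        intro h
        exact hdeg (by simp [h])
      obtain ⟨v, hv0, hv⟩ : ∃ v : k, v ≠ 0 ∧ MvPolynomial.eval (fun _ => v) (e H).leadingCoeff ≠ 0 := by
        by_contra hc
        push Not at hc
        refine hlc ?_
        have : MvPolynomial.X 0 * (e H).leadingCoeff = 0 := MvPolynomial.funext fun x => by
          have hx : x = fun _ => x 0 := funext fun i => by rw [Subsingleton.elim i 0]
          rcases eq_or_ne (x 0) 0 with h | h
          · simp [h]
          · rw [map_mul, map_zero, hx, hc _ h, mul_zero]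
        exact (mul_eq_zero.1 this).resolve_left (MvPolynomial.X_ne_zero 0)
      obtain ⟨u, hu⟩ := IsAlgClosed.exists_root ((e H).map (MvPolynomial.eval fun _ => v)) (fun h => hdeg (by
        rw [← Polynomial.natDegree_map_of_leadingCoeff_ne_zero _ hv]
        exact Polynomial.natDegree_eq_of_degree_eq_some h))
      exact ⟨![u, v], fun h => hv0 (congr_fun h 1), by rw [heval]; exact hu⟩
  · rintro ⟨a, ha, h0⟩
    obtain ⟨j, hj⟩ : ∃ j, a j ≠ 0 := by
      by_contra h
      push Not at h
      exact ha (funext h)
    let l : Fin 2 := 1 - j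
    let H : MvPolynomial (Fin 2) k := MvPolynomial.X l - MvPolynomial.C (a l / a j) * MvPolynomial.X j
    refine ⟨H, fun hu => ?_, fun i => ?_⟩
    · have := hu.map (MvPolynomial.eval a)
      simp [H, div_mul_cancel₀ _ hj] at this
    · let q := Ideal.Quotient.mk (Ideal.span {H})
      have hrel : q (MvPolynomial.X l) = q (MvPolynomial.C (a l / a j) * MvPolynomial.X j) :=
        Ideal.Quotient.eq.2 (Ideal.mem_span_singleton_self H)
      have hq : q (F i) = MvPolynomial.eval₂ (q.comp MvPolynomial.C)
          (fun m => q (MvPolynomial.C (1 / a j) * MvPolynomial.X j) * (q.comp MvPolynomial.C) (a m)) (F i) := by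
        conv_lhs => rw [← MvPolynomial.eval₂_eta (F i), MvPolynomial.eval₂_comp_left q]
        congr 1
        funext m
        have hm : m = j ∨ m = l := by
          simp only [l]
          fin_cases j <;> fin_cases m <;> simp
        simp only [Function.comp_apply, RingHom.comp_apply, ← map_mul]
        rcases hm with rfl | rfl
        · congr 1
          rw [mul_right_comm, ← map_mul, one_div, inv_mul_cancel₀ hj, map_one, one_mul]
        · rw [hrel]
          congr 1
          rw [mul_right_comm, ← map_mul, one_div, inv_mul_eq_div]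
      rw [← Ideal.mem_span_singleton, ← Ideal.Quotient.eq_zero_iff_mem]
      show q (F i) = 0
      rw [hq, eval₂_scale _ (hF i), show MvPolynomial.eval₂ (q.comp MvPolynomial.C)
        (fun m => (q.comp MvPolynomial.C) (a m)) (F i) = (q.comp MvPolynomial.C) (MvPolynomial.eval a (F i)) from
          (MvPolynomial.eval₂_comp_left (q.comp MvPolynomial.C) (RingHom.id k) a (F i)).symm, h0 i, map_zero, mul_zero]

end Groth.Agent.S17077
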