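import Groth.Statements.S17078
import Mathlib
import Groth.Agent.S17077
import Groth.Agent.CMGraded.Free

set_option autoImplicit false
universe u
open RatCurve

namespace Groth.Agent.S17078

/-- Let k be an algebraically closed field and F_0, …, F_{n-1} homogeneous polynomials of degree d in
k[u, v]. Then the F_i have no common factor other than units if and only if there is an integer m ≥
d such that every homogeneous polynomial of degree m can be written Σ_i F_i G_i with each G_i
homogeneous of degree m − d, i.e. the k-linear map (G_i)_i ↦ Σ_i F_i G_i from n copies of k[u,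
v]_{m−d} to k[u, v]_m is surjective. -/
theorem result
    {k : Type u} [Field k] [IsAlgClosed k] {n : ℕ} (F : Fin n → MvPolynomial (Fin 2) k)
    (d : ℕ) (hF : ∀ i, (F i).IsHomogeneous d) :
    (¬ ∃ H : MvPolynomial (Fin 2) k, ¬ IsUnit H ∧ ∀ i, H ∣ F i) ↔
      ∃ m : ℕ, d ≤ m ∧ ∀ P : MvPolynomial (Fin 2) k, P.IsHomogeneous m →
        ∃ G : Fin n → MvPolynomial (Fin 2) k, (∀ i, (G i).IsHomogeneous (m - d)) ∧
          P = ∑ i, F i * G i := by
  classical
  rw [S17077.result F (fun _ => d) hF, not_exists]
  constructor
  · intro h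
    let J : Ideal (MvPolynomial (Fin 2) k) := Ideal.span (Set.range F)
    have hX : ∀ j : Fin 2, ∃ N : ℕ, MvPolynomial.X j ^ N ∈ J := fun j => by
      have : (MvPolynomial.X j : MvPolynomial (Fin 2) k) ∈ J.radical := by
        rw [← MvPolynomial.vanishingIdeal_zeroLocus_eq_radical (K := k)]
        intro a ha
        have ha0 : a = 0 := by
          by_contra hne
          exact h a ⟨hne, fun i => by
            have := ha (F i) (Ideal.subset_span ⟨i, rfl⟩)
            rwa [MvPolynomial.aeval_eq_eval] at this⟩
        simp [ha0]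
      exact this
    obtain ⟨N0, h0⟩ := hX 0
    obtain ⟨N1, h1⟩ := hX 1
    refine ⟨d + N0 + N1, by omega, fun P hP => ?_⟩
    have hPJ : P ∈ J := by
      rw [P.as_sum]
      refine Ideal.sum_mem _ fun e he => ?_
      have he' : e 0 + e 1 = d + N0 + N1 := by
        rw [hP.degree_eq_sum_deg_support he]
        simp [Finsupp.degree, Finset.sum_subset (Finset.subset_univ e.support) (fun x _ hx => by simpa using hx),
          Fin.sum_univ_two]
      rw [MvPolynomial.monomial_eq, Finsupp.prod_fintype _ _ (fun _ => pow_zero _), Fin.prod_univ_two]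
      refine Ideal.mul_mem_left _ _ ?_
      rcases le_or_gt N0 (e 0) with hle | hlt
      · exact Ideal.mul_mem_right _ _ (J.pow_mem_of_pow_mem h0 hle)
      · exact Ideal.mul_mem_left _ _ (J.pow_mem_of_pow_mem h1 (by omega))
    obtain ⟨G, hG⟩ := Ideal.mem_span_range_iff_exists_fun.1 hPJ
    refine ⟨fun i => MvPolynomial.homogeneousComponent (d + N0 + N1 - d) (G i),
      fun i => MvPolynomial.homogeneousComponent_isHomogeneous _ _, ?_⟩
    conv_lhs => rw [← MvPolynomial.homogeneousComponent_eq_self hP, ← hG, map_sum]
    refine Finset.sum_congr rfl fun i _ => ?_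
    rw [CMGraded.homogeneousComponent_mul_of_isHomogeneous (hF i), if_pos (by omega), mul_comm]
  · rintro ⟨m, _, hm⟩ a ⟨ha, h0⟩
    obtain ⟨j, hj⟩ : ∃ j, a j ≠ 0 := by
      by_contra hc
      push Not at hc
      exact ha (funext hc)
    obtain ⟨G, -, hG⟩ := hm _ (MvPolynomial.isHomogeneous_X_pow j m)
    have := congr_arg (MvPolynomial.eval a) hG
    simp [h0, hj] at this

end Groth.Agent.S17078
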