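import Groth.Statements.S17079
import Mathlib

set_option autoImplicit false
universe u
open CategoryTheory CategoryTheory.Limits AlgebraicGeometry
open MorSch

namespace Groth.Agent.S17079

/-- Let gX : X → S and gY : Y → S be morphisms and suppose the functor Mor_S(X, Y) — sending an S-scheme
T to the set of S-morphisms T ×_S X → Y, with base change as transition maps — is represented by an
S-scheme M. Then for every morphism h : S' → S the functor Mor_{S'}(X ×_S S', Y ×_S S') on
S'-schemes is represented by M ×_S S'. (The published statement assumes X and Y projective over S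
with X flat and S, S' locally Noetherian; this row assumes only that the functor is represented by
M. Only the existence of a representing structure on M ×_S S' is asserted, not its compatibility
with the one on M.) -/
theorem result
    {X Y S S' : Scheme.{u}} (gX : X ⟶ S) (gY : Y ⟶ S) (h : S' ⟶ S)
    (M : Over S) (e : (Flatn.morS gX gY).RepresentableBy M) :
    Nonempty ((Flatn.morS (pullback.snd gX h) (pullback.snd gY h)).RepresentableBy
      (Over.mk (pullback.snd M.hom h))) := by
  let p := pullback.snd gX h
  let α : ∀ T : Over S', (Over.map h).obj ((Over.map p).obj ((Over.pullback p).obj T)) ≅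
      (Over.map gX).obj ((Over.pullback gX).obj ((Over.map h).obj T)) := fun T =>
    Over.isoMk
      ({ hom := pullback.lift (pullback.fst T.hom p) (pullback.snd T.hom p ≫ pullback.fst gX h) (by
            change pullback.fst T.hom p ≫ T.hom ≫ h = _
            rw [Category.assoc, pullback.condition, ← Category.assoc, pullback.condition, Category.assoc])
         inv := pullback.lift (pullback.fst (T.hom ≫ h) gX) (pullback.lift (pullback.snd (T.hom ≫ h) gX)
            (pullback.fst (T.hom ≫ h) gX ≫ T.hom) (by rw [← pullback.condition, Category.assoc]))
            (pullback.lift_snd _ _ _).symm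
         hom_inv_id := by
           apply pullback.hom_ext
           · rw [Category.assoc, Category.id_comp]; erw [pullback.lift_fst, pullback.lift_fst]
           · rw [Category.assoc, Category.id_comp]; erw [pullback.lift_snd]
             apply pullback.hom_ext
             · rw [Category.assoc]; erw [pullback.lift_fst, pullback.lift_snd]
             · rw [Category.assoc]; erw [pullback.lift_snd, pullback.lift_fst_assoc]; exact pullback.condition
         inv_hom_id := by
           apply pullback.hom_ext
           · rw [Category.assoc, Category.id_comp]; erw [pullback.lift_fst, pullback.lift_fst]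
           · rw [Category.assoc, Category.id_comp]
             refine (congrArg (_ ≫ ·) (pullback.lift_snd _ _ _)).trans ?_
             exact (pullback.lift_snd_assoc _ _ _ _).trans (pullback.lift_fst _ _ _) } :
        pullback T.hom p ≅ pullback (T.hom ≫ h) gX) (by
      change pullback.lift _ _ _ ≫ pullback.snd (T.hom ≫ h) gX ≫ gX = (pullback.snd T.hom p ≫ p) ≫ h
      rw [pullback.lift_snd_assoc]
      simp only [p, Category.assoc, pullback.condition])
  have hα : ∀ {T T' : Over S'} (φ : T' ⟶ T), (Over.map h).map ((Over.map p).map ((Over.pullback p).map φ)) ≫ (α T).hom =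
      (α T').hom ≫ (Over.map gX).map ((Over.pullback gX).map ((Over.map h).map φ)) := by
    intro T T' φ
    apply Over.OverMorphism.ext
    apply pullback.hom_ext
    · refine (Category.assoc _ _ _).trans (Eq.trans ?_ (Category.assoc _ _ _).symm)
      exact ((congrArg (_ ≫ ·) (pullback.lift_fst _ _ _)).trans (pullback.lift_fst _ _ _)).trans
        ((congrArg (_ ≫ ·) (pullback.lift_fst _ _ _)).trans (pullback.lift_fst_assoc _ _ _ _)).symm
    · refine (Category.assoc _ _ _).trans (Eq.trans ?_ (Category.assoc _ _ _).symm)
      exact ((congrArg (_ ≫ ·) (pullback.lift_snd _ _ _)).trans (pullback.lift_snd_assoc _ _ _ _)).trans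
        ((congrArg (_ ≫ ·) (pullback.lift_snd _ _ _)).trans (pullback.lift_snd _ _ _)).symm
  refine ⟨{ homEquiv := fun {T} =>
      ((Over.mapPullbackAdj h).homEquiv T M).symm.trans (e.homEquiv.trans
        ((α T).symm.homFromEquiv.trans ((Over.mapPullbackAdj h).homEquiv _ (Over.mk gY)))), homEquiv_comp := ?_ }⟩
  intro T' T φ a
  change (Over.mapPullbackAdj h).homEquiv _ (Over.mk gY) ((α T').hom ≫ e.homEquiv (((Over.mapPullbackAdj h).homEquiv T' M).symm (φ ≫ a))) =
    (Over.map p).map ((Over.pullback p).map φ) ≫
      (Over.mapPullbackAdj h).homEquiv _ (Over.mk gY) ((α T).hom ≫ e.homEquiv (((Over.mapPullbackAdj h).homEquiv T M).symm a))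
  rw [Adjunction.homEquiv_naturality_left_symm, e.homEquiv_comp, ← Adjunction.homEquiv_naturality_left,
    reassoc_of% hα]
  rfl

end Groth.Agent.S17079
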