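import Groth.Statements.S17080
import Mathlib

set_option backward.isDefEq.respectTransparency false
set_option autoImplicit false
universe u
open CategoryTheory CategoryTheory.Limits AlgebraicGeometry
open MorSch

namespace Groth.Agent.S17080

/-- Let gX : X → S be proper and flat, gY : Y → S separated and j : U → Y an open immersion, and suppose
the functor Mor_S(X, Y) — S-schemes T ↦ S-morphisms T ×_S X → Y — is represented by an S-scheme M
via e. Then there are an open subset M₀ of M and a representation e₀ of Mor_S(X, U) by the open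
subscheme M₀ (viewed over S through M) which is compatible with e: for every S-morphism φ : T → M₀,
the S-morphism T ×_S X → Y classified by φ followed by the inclusion M₀ → M is the S-morphism T ×_S
X → U classified by φ, followed by j. In particular the morphism Mor_S(X, U) → Mor_S(X, Y) induced
by j is an open immersion. (Published for X projective and flat and Y quasi-projective over a
locally Noetherian S, which is how M is known to exist there; representability is taken as a
hypothesis here.) -/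
theorem result
    {X Y U S : Scheme.{u}} (gX : X ⟶ S) [IsProper gX] [Flat gX] (gY : Y ⟶ S) [IsSeparated gY]
    (j : U ⟶ Y) [IsOpenImmersion j] (M : Over S) (e : (Flatn.morS gX gY).RepresentableBy M) :
    ∃ (M₀ : M.left.Opens)
      (e₀ : (Flatn.morS gX (j ≫ gY)).RepresentableBy (Over.mk (M₀.ι ≫ M.hom))),
      ∀ (T : Over S) (φ : T ⟶ Over.mk (M₀.ι ≫ M.hom)),
        (e.homEquiv (φ ≫ Over.homMk M₀.ι rfl) :
            (Over.map gX).obj ((Over.pullback gX).obj T) ⟶ Over.mk gY) =
          (e₀.homEquiv φ : (Over.map gX).obj ((Over.pullback gX).obj T) ⟶ Over.mk (j ≫ gY)) ≫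
            (Over.homMk j rfl : Over.mk (j ≫ gY) ⟶ Over.mk gY) := by
  let jH : Over.mk (j ≫ gY) ⟶ Over.mk gY := Over.homMk j rfl
  let u := e.homEquiv (𝟙 M)
  let C : Set ↥(pullback M.hom gX) := u.left.base ⁻¹' (Set.range j.base)ᶜ
  have hC : IsClosed C := j.isOpenEmbedding.isOpen_range.isClosed_compl.preimage u.left.continuous
  let M₀ : M.left.Opens :=
    ⟨(pullback.fst M.hom gX '' C)ᶜ, ((pullback.fst M.hom gX).isClosedMap _ hC).isOpen_compl⟩
  let ι₀ : Over.mk (M₀.ι ≫ M.hom) ⟶ M := Over.homMk M₀.ι rfl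
  have key : ∀ (T : Over S) (φ : T ⟶ M),
      Set.range (e.homEquiv φ).left.base ⊆ Set.range j.base ↔ Set.range φ.left.base ⊆ Set.range M₀.ι.base := by
    intro T φ
    have hb : e.homEquiv φ = (Over.map gX).map ((Over.pullback gX).map φ) ≫ u := e.homEquiv_eq φ
    have hp : IsPullback (pullback.fst T.hom gX) ((Over.pullback gX).map φ).left φ.left
        (pullback.fst M.hom gX) := by
      refine IsPullback.flip (IsPullback.of_right ?_ (by simp) (IsPullback.of_hasPullback M.hom gX).flip)
      simpa [Over.w φ] using (IsPullback.of_hasPullback T.hom gX).flip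
    rw [Scheme.Opens.range_ι]
    constructor
    · rintro h _ ⟨t, rfl⟩ ⟨z, hz, hzt⟩
      have hs : T.hom t = gX (pullback.snd M.hom gX z) := by
        have : M.hom (φ.left t) = T.hom t := by rw [← Scheme.Hom.comp_apply, Over.w φ]
        rw [← this, ← hzt, ← Scheme.Hom.comp_apply, ← Scheme.Hom.comp_apply, pullback.condition]
      obtain ⟨w, hw, -⟩ : ∃ w : ↥(pullback T.hom gX),
          ((Over.pullback gX).map φ).left w = z ∧ pullback.fst T.hom gX w = t := by
        obtain ⟨w, hw₁, hw₂⟩ := Scheme.Pullback.exists_preimage_pullback t z hzt.symm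
        refine ⟨hp.isoPullback.inv w, ?_, ?_⟩
        · exact (congr($(hp.isoPullback_inv_snd) w)).trans hw₂
        · exact (congr($(hp.isoPullback_inv_fst) w)).trans hw₁
      refine hz ?_
      rw [← hw]
      exact h ⟨w, by rw [hb, Over.comp_left, Scheme.Hom.comp_apply]; rfl⟩
    · rintro h _ ⟨w, rfl⟩
      by_contra hn
      refine h ⟨pullback.fst T.hom gX w, rfl⟩ ⟨((Over.pullback gX).map φ).left w, ?_, ?_⟩
      · rw [hb, Over.comp_left, Scheme.Hom.comp_apply] at hn
        exact hn
      · exact (congr($(hp.w) w)).symm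
  let toFun₀ : ∀ T : Over S, (T ⟶ Over.mk (M₀.ι ≫ M.hom)) →
      (Flatn.morS gX (j ≫ gY)).obj (Opposite.op T) := fun T ψ =>
    Over.homMk (IsOpenImmersion.lift j (e.homEquiv (ψ ≫ ι₀)).left
      ((key T (ψ ≫ ι₀)).2 (by rintro _ ⟨t, rfl⟩; exact ⟨ψ.left t, (Scheme.Hom.comp_apply _ _ _).symm⟩)))
      (by
        show IsOpenImmersion.lift j _ _ ≫ j ≫ gY = _
        rw [IsOpenImmersion.lift_fac_assoc]
        exact Over.w (e.homEquiv (ψ ≫ ι₀)))
  have hto : ∀ T ψ, (toFun₀ T ψ) ≫ jH = e.homEquiv (ψ ≫ ι₀) := fun T ψ =>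
    Over.OverMorphism.ext (IsOpenImmersion.lift_fac _ _ _)
  have hlift : ∀ (T : Over S) (b : (Flatn.morS gX (j ≫ gY)).obj (Opposite.op T)),
      Set.range (e.homEquiv.symm (b ≫ jH)).left.base ⊆ Set.range M₀.ι.base := fun T b => by
    refine (key T _).1 ?_
    rw [Equiv.apply_symm_apply]
    rintro _ ⟨w, rfl⟩
    exact ⟨b.left w, (Scheme.Hom.comp_apply _ _ _).symm⟩
  let invFun₀ : ∀ T : Over S, (Flatn.morS gX (j ≫ gY)).obj (Opposite.op T) →
      (T ⟶ Over.mk (M₀.ι ≫ M.hom)) := fun T b =>
    Over.homMk (IsOpenImmersion.lift M₀.ι (e.homEquiv.symm (b ≫ jH)).left (hlift T b)) (by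
      show IsOpenImmersion.lift _ _ _ ≫ M₀.ι ≫ M.hom = _
      rw [IsOpenImmersion.lift_fac_assoc]
      exact Over.w (e.homEquiv.symm (b ≫ jH)))
  have hinv : ∀ T b, invFun₀ T b ≫ ι₀ = e.homEquiv.symm (b ≫ jH) := fun T b =>
    Over.OverMorphism.ext (IsOpenImmersion.lift_fac _ _ _)
  haveI hmj : Mono jH := (Over.forget S).mono_of_mono_map (show Mono j from inferInstance)
  haveI hmι : Mono ι₀ := (Over.forget S).mono_of_mono_map (show Mono M₀.ι from inferInstance)
  refine ⟨M₀, ⟨fun {T} => ⟨toFun₀ T, invFun₀ T, fun ψ => ?_, fun b => ?_⟩, fun {T T'} φ ψ => ?_⟩,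
    fun T φ => (hto T φ).symm⟩
  · rw [← cancel_mono ι₀, hinv, hto, Equiv.symm_apply_apply]
  · rw [← cancel_mono jH, hto, hinv, Equiv.apply_symm_apply]
  · change toFun₀ T (φ ≫ ψ) = (Over.map gX).map ((Over.pullback gX).map φ) ≫ toFun₀ T' ψ
    rw [← cancel_mono jH, hto, Category.assoc, e.homEquiv_comp]
    refine Eq.trans ?_ (Category.assoc _ _ _).symm
    rw [show toFun₀ T' ψ ≫ jH = e.homEquiv (ψ ≫ ι₀) from hto T' ψ]
    rfl

end Groth.Agent.S17080
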