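import Groth.Statements.S17084
import Mathlib

set_option backward.isDefEq.respectTransparency false
set_option autoImplicit false
universe u
open CategoryTheory CategoryTheory.Limits AlgebraicGeometry
open MorSch

namespace Groth.Agent.S17084

/-- Let (X_i)_{i ∈ ι} be a finite family of schemes over S with structure morphisms g_i : X_i → S, let Y
→ S be a scheme over S and T an S-scheme. Then for every family of S-morphisms a_i : T ×_S X_i → Y
there is a unique S-morphism b : T ×_S (∐_i X_i) → Y whose restriction along each T ×_S X_i → T ×_S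
(∐_i X_i) is a_i. In other words the canonical map Mor_S(∐_i X_i, Y) → ∏_i Mor_S(X_i, Y) of functors
on S-schemes is an isomorphism. -/
theorem result
    {S Y : Scheme.{u}} {ι : Type u} [Finite ι] (X : ι → Scheme.{u}) (g : ∀ i, X i ⟶ S)
    (gY : Y ⟶ S) (T : Over S) (a : ∀ i, (Flatn.morS (g i) gY).obj (Opposite.op T)) :
    ∃! b : (Flatn.morS (Sigma.desc g) gY).obj (Opposite.op T),
      ∀ i, pullback.map T.hom (g i) T.hom (Sigma.desc g) (𝟙 T.left) (Sigma.ι X i) (𝟙 S)
          ((Category.comp_id _).trans (Category.id_comp _).symm)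
          ((Category.comp_id _).trans (Sigma.ι_desc g i).symm) ≫ b.left = (a i).left := by
  let P : ι → Scheme.{u} := fun i => pullback T.hom (g i)
  let m : ∀ i, P i ⟶ pullback T.hom (Sigma.desc g) := fun i =>
    pullback.map T.hom (g i) T.hom (Sigma.desc g) (𝟙 T.left) (Sigma.ι X i) (𝟙 S)
      ((Category.comp_id _).trans (Category.id_comp _).symm)
      ((Category.comp_id _).trans (Sigma.ι_desc g i).symm)
  have hm : ∀ i, IsPullback (m i) (pullback.snd T.hom (g i)) (pullback.snd T.hom (Sigma.desc g)) (Sigma.ι X i) :=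
    fun i => by
    refine IsPullback.of_right ?_ (by simp [m]) (IsPullback.of_hasPullback T.hom (Sigma.desc g)).flip.flip
    simpa [m] using IsPullback.of_hasPullback T.hom (g i)
  have hau : IsUniversalColimit (Cofan.mk _ (Sigma.ι X)) :=
    FinitaryPreExtensive.isUniversal_finiteCoproducts (coproductIsCoproduct X)
  obtain ⟨hc⟩ := hau (Cofan.mk _ m) (Discrete.natTrans fun ⟨i⟩ => pullback.snd T.hom (g i))
    (pullback.snd T.hom (Sigma.desc g)) (by ext ⟨i⟩; exact (hm i).w.symm)
    (NatTrans.Equifibered.of_discrete _) (fun ⟨i⟩ => hm i)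
  let b₀ : pullback T.hom (Sigma.desc g) ⟶ Y := Cofan.IsColimit.desc hc fun i => (a i).left
  have hb₀ : ∀ i, m i ≫ b₀ = (a i).left := Cofan.IsColimit.fac hc _
  refine ⟨Over.homMk b₀ ?_, hb₀, fun b hb => ?_⟩
  · refine Cofan.IsColimit.hom_ext hc _ _ fun i => ?_
    show m i ≫ b₀ ≫ gY = m i ≫ pullback.snd T.hom (Sigma.desc g) ≫ Sigma.desc g
    rw [reassoc_of% (hb₀ i), reassoc_of% (hm i).w, Sigma.ι_desc]
    exact Over.w (a i)
  · refine Over.OverMorphism.ext (Cofan.IsColimit.hom_ext hc _ _ fun i => ?_)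
    exact (hb i).trans (hb₀ i).symm

end Groth.Agent.S17084
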