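import Groth.Statements.S7629
import Groth.Agent.NormalSch.CurveVal
set_option maxHeartbeats 800000
set_option backward.isDefEq.respectTransparency false
-- import your own Groth.Agent.* helpers here

set_option autoImplicit false
universe u
open CategoryTheory CategoryTheory.Limits AlgebraicGeometry
open Variety

namespace Groth.Agent.S7629

/-- (2) ⇒ (3): let X and Y be varieties over a field k (integral, separated, of finite type) and suppose
the function fields k(X) and k(Y) are isomorphic as k-algebras. Then there are nonempty open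
subschemes U ⊆ X and V ⊆ Y which are isomorphic as schemes over k. -/
theorem result (k : Type u) [Field k] (X : Scheme.{u}) [X.Over (Spec (CommRingCat.of k))] [IsIntegral X] [IsSeparated (X ↘ (Spec (CommRingCat.of k)))] [LocallyOfFiniteType (X ↘ (Spec (CommRingCat.of k)))] [QuasiCompact (X ↘ (Spec (CommRingCat.of k)))]
    (Y : Scheme.{u}) [Y.Over (Spec (CommRingCat.of k))] [IsIntegral Y] [IsSeparated (Y ↘ (Spec (CommRingCat.of k)))] [LocallyOfFiniteType (Y ↘ (Spec (CommRingCat.of k)))] [QuasiCompact (Y ↘ (Spec (CommRingCat.of k)))]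
    (e : X.functionField ≅ Y.functionField)
    (he : e.hom.hom.comp (Curv2.stalkMap k X (genericPoint X)) = Curv2.stalkMap k Y (genericPoint Y)) :
    ∃ (U : X.Opens) (V : Y.Opens), (U : Set ↥X).Nonempty ∧
      ∃ φ : (U : Scheme.{u}) ≅ (V : Scheme.{u}), φ.hom ≫ V.ι ≫ (Y ↘ (Spec (CommRingCat.of k))) = U.ι ≫ (X ↘ (Spec (CommRingCat.of k))) := by
  let sX := X ↘ (Spec (CommRingCat.of k))
  let sY := Y ↘ (Spec (CommRingCat.of k))
  let ηX := genericPoint X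
  let ηY := genericPoint Y
  have hX := fun x => Groth.Agent.NormalSch.fromSpecStalk_over (k := k) (X := X) x
  have hY := fun y => Groth.Agent.NormalSch.fromSpecStalk_over (k := k) (X := Y) y
  let φX : Spec (X.presheaf.stalk ηX) ⟶ Y := Spec.map e.inv ≫ Y.fromSpecStalk ηY
  let φY : Spec (Y.presheaf.stalk ηY) ⟶ X := Spec.map e.hom ≫ X.fromSpecStalk ηX
  have he' : CommRingCat.ofHom (Curv2.stalkMap k X ηX) ≫ e.hom = CommRingCat.ofHom (Curv2.stalkMap k Y ηY) := by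
    ext c; exact RingHom.congr_fun he c
  have hφX : φX ≫ sY = X.fromSpecStalk ηX ≫ sX := by
    simp only [φX, sX, sY, Category.assoc, hX, hY, ← Spec.map_comp]
    rw [← he', Category.assoc, Iso.hom_inv_id, Category.comp_id]
  have hφY : φY ≫ sX = Y.fromSpecStalk ηY ≫ sY := by
    simp only [φY, sX, sY, Category.assoc, hX, hY, ← Spec.map_comp]
    rw [he']
  obtain ⟨U, hU, f, hf, hfs⟩ := spread_out_of_isGermInjective' sX sY φX hφX
  obtain ⟨V, hV, g, hg, hgs⟩ := spread_out_of_isGermInjective' sY sX φY hφY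
  haveI : Subsingleton ↥(Spec X.functionField) := inferInstanceAs (Subsingleton (PrimeSpectrum X.functionField))
  haveI : Subsingleton ↥(Spec Y.functionField) := inferInstanceAs (Subsingleton (PrimeSpectrum Y.functionField))
  have hfη : f ⟨ηX, hU⟩ = ηY := by
    have h := congr($hf (IsLocalRing.closedPoint _))
    simp only [φX, Scheme.Hom.comp_apply] at h
    rw [show (Spec.map e.inv) (IsLocalRing.closedPoint _) = IsLocalRing.closedPoint _ from Subsingleton.elim _ _,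
      Scheme.fromSpecStalk_closedPoint] at h
    rw [h]
    congr 1
    refine U.ι.injective ?_
    rw [← Scheme.Hom.comp_apply, Scheme.Opens.fromSpecStalkOfMem_ι, Scheme.fromSpecStalk_closedPoint]
    rfl
  have hgη : g ⟨ηY, hV⟩ = ηX := by
    have h := congr($hg (IsLocalRing.closedPoint _))
    simp only [φY, Scheme.Hom.comp_apply] at h
    rw [show (Spec.map e.hom) (IsLocalRing.closedPoint _) = IsLocalRing.closedPoint _ from Subsingleton.elim _ _,
      Scheme.fromSpecStalk_closedPoint] at h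
    rw [h]
    congr 1
    refine V.ι.injective ?_
    rw [← Scheme.Hom.comp_apply, Scheme.Opens.fromSpecStalkOfMem_ι, Scheme.fromSpecStalk_closedPoint]
    rfl
  -- compositions are the inclusions near the generic points
  have key : ∀ {P Q : Scheme.{u}} [IsIntegral P] [IsIntegral Q] (U : P.Opens) (V : Q.Opens)
      (f : (U : Scheme.{u}) ⟶ Q) (g : (V : Scheme.{u}) ⟶ P) (hU : genericPoint P ∈ U) (hV : genericPoint Q ∈ V)
      (a : Q.presheaf.stalk (genericPoint Q) ⟶ P.presheaf.stalk (genericPoint P))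
      (b : P.presheaf.stalk (genericPoint P) ⟶ Q.presheaf.stalk (genericPoint Q)),
      b ≫ a = 𝟙 _ → Spec.map a ≫ Q.fromSpecStalk _ = U.fromSpecStalkOfMem _ hU ≫ f →
      Spec.map b ≫ P.fromSpecStalk _ = V.fromSpecStalkOfMem _ hV ≫ g → f ⟨_, hU⟩ = genericPoint Q →
      ∃ (A : P.Opens) (hA : A ≤ U) (h : (A : Scheme.{u}) ⟶ (V : Scheme.{u})),
        genericPoint P ∈ A ∧ h ≫ V.ι = P.homOfLE hA ≫ f ∧ h ≫ g = A.ι := by
    intro P Q _ _ U V f g hU hV a b hba ha hb hfη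
    let W : P.Opens := U.ι ''ᵁ (f ⁻¹ᵁ V)
    have hWU : W ≤ U := U.ι_image_le _
    have hηW : genericPoint P ∈ W := ⟨⟨_, hU⟩, show f ⟨_, hU⟩ ∈ V by rw [hfη]; exact hV, rfl⟩
    have hWr : Set.range (P.homOfLE hWU ≫ f) ⊆ Set.range V.ι := by
      rintro _ ⟨⟨w, u, hu, rfl⟩, rfl⟩
      rw [V.range_ι, Scheme.Hom.comp_apply]
      rw [show P.homOfLE hWU ⟨_, u, hu, rfl⟩ = u from U.ι.injective (by rw [← Scheme.Hom.comp_apply, Scheme.homOfLE_ι]; rfl)]
      exact hu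
    let h₀ : (W : Scheme.{u}) ⟶ (V : Scheme.{u}) := IsOpenImmersion.lift V.ι (P.homOfLE hWU ≫ f) hWr
    have hh₀ : h₀ ≫ V.ι = P.homOfLE hWU ≫ f := IsOpenImmersion.lift_fac _ _ _
    have hst : W.fromSpecStalkOfMem _ hηW ≫ P.homOfLE hWU = U.fromSpecStalkOfMem _ hU := by
      rw [← cancel_mono U.ι, Category.assoc, Scheme.homOfLE_ι, Scheme.Opens.fromSpecStalkOfMem_ι,
        Scheme.Opens.fromSpecStalkOfMem_ι]
    have h1 : W.fromSpecStalkOfMem _ hηW ≫ h₀ = Spec.map a ≫ V.fromSpecStalkOfMem _ hV := by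
      rw [← cancel_mono V.ι, Category.assoc, hh₀, reassoc_of% hst, ← ha, Category.assoc, Scheme.Opens.fromSpecStalkOfMem_ι]
    have h2 : W.fromSpecStalkOfMem _ hηW ≫ h₀ ≫ g = W.fromSpecStalkOfMem _ hηW ≫ W.ι := by
      rw [reassoc_of% h1, ← hb, ← Spec.map_comp_assoc, hba, Spec.map_id, Category.id_comp,
        Scheme.Opens.fromSpecStalkOfMem_ι]
    haveI : Nonempty W := ⟨⟨_, hηW⟩⟩
    haveI : IsIntegral (W : Scheme.{u}) := isIntegral_of_isOpenImmersion W.ι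
    obtain ⟨T, hT, hTeq⟩ := spread_out_unique_of_isGermInjective' (x := (⟨genericPoint P, hηW⟩ : ↥(W : Scheme.{u}))) (h₀ ≫ g) W.ι (by
      rw [← cancel_epi (Spec.map (inv (W.ι.stalkMap ⟨genericPoint P, hηW⟩)))]
      simp only [Scheme.Opens.fromSpecStalkOfMem, Category.assoc] at h2 ⊢
      exact h2)
    have hle : W.ι ''ᵁ T ≤ W := W.ι_image_le _
    refine ⟨W.ι ''ᵁ T, hle.trans hWU, P.homOfLE hle ≫ h₀, ⟨_, hT, rfl⟩, ?_, ?_⟩
    · rw [Category.assoc, hh₀, Scheme.homOfLE_homOfLE_assoc]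
    · rw [Category.assoc, show P.homOfLE hle = (W.ι.isoImage T).inv ≫ T.ι by
        rw [← cancel_mono W.ι, Scheme.homOfLE_ι, Category.assoc]; exact (Scheme.Hom.isoImage_inv_ι W.ι T).symm, Category.assoc, hTeq]
      exact (Scheme.Hom.isoImage_inv_ι W.ι T)
  obtain ⟨A₀, hA₀, h₁, hηA, hh₁, hh₁'⟩ := key U V f g hU hV e.inv e.hom e.hom_inv_id hf hg hfη
  obtain ⟨B₀, hB₀, h₂, hηB, hh₂, hh₂'⟩ := key V U g f hV hU e.hom e.inv e.inv_hom_id hg hf hgη
  -- shrink to mutually inverse opens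
  let fA : (A₀ : Scheme.{u}) ⟶ Y := X.homOfLE hA₀ ≫ f
  let A : X.Opens := A₀.ι ''ᵁ (fA ⁻¹ᵁ B₀)
  have hAA : A ≤ A₀ := A₀.ι_image_le _
  let gB : (B₀ : Scheme.{u}) ⟶ X := Y.homOfLE hB₀ ≫ g
  let B : Y.Opens := B₀.ι ''ᵁ (gB ⁻¹ᵁ A)
  have hBB : B ≤ B₀ := B₀.ι_image_le _
  have hfr : Set.range (X.homOfLE hAA ≫ fA) ⊆ Set.range B.ι := by
    rintro _ ⟨⟨a, a₀, ha₀, rfl⟩, rfl⟩
    have e1 : X.homOfLE hAA ⟨_, a₀, ha₀, rfl⟩ = a₀ :=
      A₀.ι.injective (by rw [← Scheme.Hom.comp_apply, Scheme.homOfLE_ι]; rfl)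
    rw [B.range_ι, Scheme.Hom.comp_apply, e1]
    refine ⟨⟨fA a₀, ha₀⟩, ?_, rfl⟩
    have e2 : Y.homOfLE hB₀ ⟨fA a₀, ha₀⟩ = h₁ a₀ := V.ι.injective (by
      rw [← Scheme.Hom.comp_apply, Scheme.homOfLE_ι, ← Scheme.Hom.comp_apply, hh₁]; rfl)
    show gB ⟨fA a₀, ha₀⟩ ∈ A
    rw [Scheme.Hom.comp_apply, e2, ← Scheme.Hom.comp_apply, hh₁']
    exact ⟨a₀, ha₀, rfl⟩
  have hgr : Set.range (Y.homOfLE hBB ≫ gB) ⊆ Set.range A.ι := by
    rintro _ ⟨⟨b, b₀, hb₀, rfl⟩, rfl⟩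
    have e1 : Y.homOfLE hBB ⟨_, b₀, hb₀, rfl⟩ = b₀ :=
      B₀.ι.injective (by rw [← Scheme.Hom.comp_apply, Scheme.homOfLE_ι]; rfl)
    rw [A.range_ι, Scheme.Hom.comp_apply, e1]
    exact hb₀
  let a := IsOpenImmersion.lift B.ι (X.homOfLE hAA ≫ fA) hfr
  let b := IsOpenImmersion.lift A.ι (Y.homOfLE hBB ≫ gB) hgr
  have ha : a ≫ B.ι = X.homOfLE hAA ≫ fA := IsOpenImmersion.lift_fac _ _ _
  have hb : b ≫ A.ι = Y.homOfLE hBB ≫ gB := IsOpenImmersion.lift_fac _ _ _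
  have hab : a ≫ b = 𝟙 _ := by
    rw [← cancel_mono A.ι, Category.assoc, hb, Category.id_comp]
    have e1 : a ≫ Y.homOfLE hBB ≫ Y.homOfLE hB₀ = X.homOfLE hAA ≫ h₁ := by
      rw [← cancel_mono V.ι]
      simp only [Category.assoc, Scheme.homOfLE_ι, ha, hh₁, fA]
    simp only [gB]
    rw [reassoc_of% e1, hh₁', Scheme.homOfLE_ι]
  have hba : b ≫ a = 𝟙 _ := by
    rw [← cancel_mono B.ι, Category.assoc, ha, Category.id_comp]
    have e1 : b ≫ X.homOfLE hAA ≫ X.homOfLE hA₀ = Y.homOfLE hBB ≫ h₂ := by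
      rw [← cancel_mono U.ι]
      simp only [Category.assoc, Scheme.homOfLE_ι, hb, hh₂, gB]
    simp only [fA]
    rw [reassoc_of% e1, hh₂', Scheme.homOfLE_ι]
  refine ⟨A, B, ⟨ηX, ⟨ηX, hηA⟩, ?_, rfl⟩, ⟨a, b, hab, hba⟩, ?_⟩
  · show fA ⟨ηX, hηA⟩ ∈ B₀
    rw [Scheme.Hom.comp_apply]
    rw [show X.homOfLE hA₀ ⟨ηX, hηA⟩ = ⟨ηX, hU⟩ from U.ι.injective (by rw [← Scheme.Hom.comp_apply, Scheme.homOfLE_ι]; rfl), hfη]
    exact hηB
  · rw [reassoc_of% ha]
    simp only [fA, Category.assoc]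
    show X.homOfLE hAA ≫ X.homOfLE hA₀ ≫ f ≫ sY = A.ι ≫ sX
    rw [hfs, Scheme.homOfLE_ι_assoc, Scheme.homOfLE_ι_assoc]

end Groth.Agent.S7629
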