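import Groth.Statements.S17085
import Groth.Agent.RatCurveLib.P1
import Groth.Agent.S7629
import Groth.Agent.DimFormulaLib.Scheme
import Groth.Agent.DimFormulaLib.Closed

set_option autoImplicit false
universe u
open CategoryTheory CategoryTheory.Limits AlgebraicGeometry
open RatCurve

namespace Groth.Agent.S17085

open CategoryTheory CategoryTheory.Limits AlgebraicGeometry

open Groth.Agent
set_option backward.isDefEq.respectTransparency false
set_option linter.style.haveILetI false
set_option maxHeartbeats 1000000
set_option maxRecDepth 4000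

theorem ker_eq_bot_of_denseRange {X Y : Scheme.{u}} (g : X ⟶ Y) [QuasiCompact g] [IsReduced Y] (hg : DenseRange g) :
    g.ker = ⊥ := by
  have h : g.ker.support = ⊤ := by
    refine TopologicalSpace.Closeds.ext ?_
    rw [Scheme.Hom.support_ker]
    exact hg.closure_range
  refine le_bot_iff.1 ((Scheme.IdealSheafData.le_radical g.ker).trans ?_)
  rw [← Scheme.IdealSheafData.vanishingIdeal_support, h, Scheme.IdealSheafData.vanishingIdeal_top,
    Scheme.nilradical_eq_bot]

/-- Let k be an algebraically closed field and C ⊆ P^n_k a closed subscheme which is an integral scheme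
of dimension one (a projective curve). Then C is rational — some nonempty open subscheme of C is
isomorphic over k to an open subscheme of the projective line P^1_k — if and only if C is the
scheme-theoretic image of some k-morphism f : P^1_k → P^n_k, i.e. the ideal sheaf of C in P^n_k is
the kernel ideal sheaf of f. -/
theorem result
    {k : Type u} [Field k] [IsAlgClosed k] {n : ℕ} (C : Scheme.{u})
    (i : C ⟶ CohB1.ProjSpace n k) [IsClosedImmersion i] [IsIntegral C]
    (hdim : topologicalKrullDim C = 1) :
    (∃ (U : C.Opens) (V : (CohB1.ProjSpace 1 k).Opens) (e : (↑U : Scheme.{u}) ≅ ↑V),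
        Nonempty U ∧
          e.hom ≫ V.ι ≫ CohB1.ProjSpace.toSpec 1 k = U.ι ≫ i ≫ CohB1.ProjSpace.toSpec n k) ↔
      ∃ f : CohB1.ProjSpace 1 k ⟶ CohB1.ProjSpace n k,
        f ≫ CohB1.ProjSpace.toSpec n k = CohB1.ProjSpace.toSpec 1 k ∧ f.ker = i.ker := by
  haveI hP1 : IsIntegral (CohB1.ProjSpace 1 k) := REqLib.isIntegral_projSpace 1 k
  let P : Scheme.{u} := CohB1.ProjSpace 1 k
  letI : C.Over (Spec (CommRingCat.of k)) := ⟨i ≫ CohB1.ProjSpace.toSpec n k⟩
  haveI hPn : IsProper (CohB1.ProjSpace.toSpec n k) := inferInstance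
  haveI hC : IsProper (C ↘ Spec (CommRingCat.of k)) := by
    show IsProper (i ≫ CohB1.ProjSpace.toSpec n k)
    infer_instance
  haveI hP : IsProper (P ↘ Spec (CommRingCat.of k)) := by
    show IsProper (CohB1.ProjSpace.toSpec 1 k)
    infer_instance
  obtain ⟨hcurve, hnorm⟩ := RatCurveLib.curve_facts (K := k)
  constructor
  · rintro ⟨U, V, e, hU, he⟩
    have hVne : (V : Set P).Nonempty := ⟨_, (e.hom hU.some).2⟩
    have hVd : Dense (V : Set P) := V.2.dense hVne
    have hψ : (e.inv ≫ U.ι) ≫ (C ↘ Spec (CommRingCat.of k)) = V.ι ≫ (P ↘ Spec (CommRingCat.of k)) := by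
      show (e.inv ≫ U.ι) ≫ i ≫ CohB1.ProjSpace.toSpec n k = V.ι ≫ CohB1.ProjSpace.toSpec 1 k
      rw [Category.assoc, ← he, Iso.inv_hom_id_assoc]
    obtain ⟨g, ⟨hg1, hg2⟩, -⟩ := NormalSch.existsUnique_extension (k := k) (X := P) hcurve hnorm
      (C ↘ Spec (CommRingCat.of k)) V hVd (e.inv ≫ U.ι) hψ
    refine ⟨g ≫ i, by rw [Category.assoc]; exact hg2, ?_⟩
    haveI : IsProper (g ≫ (C ↘ Spec (CommRingCat.of k))) := hg2 ▸ hP
    haveI : IsProper g := IsProper.of_comp g (C ↘ Spec (CommRingCat.of k))
    have hdense : DenseRange g := by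
      refine Dense.mono ?_ (U.2.dense (let ⟨x⟩ := hU; ⟨_, x.2⟩) : Dense (U : Set C))
      intro x hx
      refine ⟨V.ι (e.hom ⟨x, hx⟩), ?_⟩
      rw [← Scheme.Hom.comp_apply, hg1, ← Scheme.Hom.comp_apply, Iso.hom_inv_id_assoc]
      rfl
    rw [Scheme.Hom.ker_comp, ker_eq_bot_of_denseRange g hdense, Scheme.IdealSheafData.map_bot]
  · rintro ⟨f, hf, hker⟩
    haveI : IsProper (f ≫ CohB1.ProjSpace.toSpec n k) := hf ▸ hP
    haveI : IsProper f := IsProper.of_comp f (CohB1.ProjSpace.toSpec n k)
    let g : P ⟶ C := IsClosedImmersion.lift i f hker.ge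
    have hgi : g ≫ i = f := IsClosedImmersion.lift_fac i f hker.ge
    have hg : g ≫ (C ↘ Spec (CommRingCat.of k)) = P ↘ Spec (CommRingCat.of k) := by
      show g ≫ i ≫ CohB1.ProjSpace.toSpec n k = CohB1.ProjSpace.toSpec 1 k
      rw [← Category.assoc, hgi, hf]
    have hdense : DenseRange g := by
      intro x
      have h1 : closure (Set.range f) = closure (Set.range i) := by
        rw [← Scheme.Hom.support_ker, ← Scheme.Hom.support_ker, hker]
      have h2 : i x ∈ i '' closure (Set.range g) := by
        rw [← i.isClosedEmbedding.closure_image_eq, ← Set.range_comp,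
          show Set.range (i ∘ g) = Set.range f by rw [← hgi]; rfl, h1]
        exact subset_closure ⟨x, rfl⟩
      obtain ⟨y, hy, hyx⟩ := h2
      exact i.isClosedEmbedding.injective hyx ▸ hy
    have hη : g (genericPoint P) = genericPoint C := by
      refine IsGenericPoint.eq ?_ (genericPoint_spec C)
      have h : Set.range g ⊆ closure {g (genericPoint P)} := by
        rw [← Set.image_singleton, ← Set.image_univ, ← (genericPoint_spec P)]
        exact image_closure_subset_closure_image g.continuous
      exact Set.eq_univ_of_univ_subset (hdense.closure_range ▸ closure_minimal h isClosed_closure)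
    let φ : C.functionField →+* P.functionField :=
      (g.stalkMap (genericPoint P)).hom.comp (C.presheaf.stalkSpecializes (specializes_of_eq hη)).hom
    have hφ : ∀ r : k, φ (Curv2.stalkMap k C (genericPoint C) r) = Curv2.stalkMap k P (genericPoint P) r := fun r => by
      show (g.stalkMap _).hom ((C.presheaf.stalkSpecializes _).hom _) = _
      rw [RatCurveLib.stalkSpecializes_stalkMap, RatCurveLib.stalkMap_natural g hg]
    obtain ⟨θ, hθ⟩ := RatCurveLib.exists_functionField_equiv (K := k)
    letI : Algebra k C.functionField := (Curv2.stalkMap k C (genericPoint C)).toAlgebra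
    let ψ : C.functionField →ₐ[k] RatFunc k :=
      { θ.toRingHom.comp φ with
        commutes' := fun r => by
          show θ (φ (Curv2.stalkMap k C (genericPoint C) r)) = _
          rw [hφ, hθ] }
    have hbot : ψ.fieldRange ≠ ⊥ := by
      intro hbot
      have hsurj : ∀ a : C.functionField, ∃ r : k, Curv2.stalkMap k C (genericPoint C) r = a := fun a => by
        have : ψ a ∈ (⊥ : IntermediateField k (RatFunc k)) := hbot ▸ ⟨a, rfl⟩
        obtain ⟨r, hr⟩ := IntermediateField.mem_bot.1 this
        exact ⟨r, ψ.toRingHom.injective ((ψ.commutes r).trans hr)⟩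
      have h0 : ∀ x : C, ringKrullDim (C.presheaf.stalk x) = 0 := fun x => by
        have hbij : Function.Bijective (Curv2.stalkMap k C x) := by
          refine ⟨(Curv2.stalkMap k C x).injective, fun b => ?_⟩
          obtain ⟨r, hr⟩ := hsurj (algebraMap (C.presheaf.stalk x) C.functionField b)
          refine ⟨r, IsFractionRing.injective (C.presheaf.stalk x) C.functionField ?_⟩
          rw [← hr]
          exact RatCurveLib.stalkSpecializes_stalkMap _ r
        rw [← ringKrullDim_eq_of_ringEquiv (RingEquiv.ofBijective (Curv2.stalkMap k C x) hbij)]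
        exact ringKrullDim_eq_zero_of_field k
      rw [DimFormulaLib.topologicalKrullDim_eq_iSup_stalk] at hdim
      have : Nonempty C := inferInstance
      simp [h0] at hdim
    let χ : C.functionField ≃ₐ[k] RatFunc k :=
      (AlgEquiv.ofInjectiveField ψ).trans (RatFunc.Luroth.algEquiv hbot).symm
    have he : ((χ.toRingEquiv.trans θ.symm).toCommRingCatIso).hom.hom.comp (Curv2.stalkMap k C (genericPoint C)) =
        Curv2.stalkMap k P (genericPoint P) := by
      ext r
      show θ.symm (χ (algebraMap k C.functionField r)) = _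
      rw [AlgEquiv.commutes, RingEquiv.symm_apply_eq, hθ]
    obtain ⟨U, V, hU, ξ, hξ⟩ := S7629.result k C P (χ.toRingEquiv.trans θ.symm).toCommRingCatIso he
    exact ⟨U, V, ξ, hU.to_subtype, hξ⟩

end Groth.Agent.S17085
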