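import Groth.Statements.S17086
import Groth.Agent.REqLib.P1Line

set_option autoImplicit false
universe u
open CategoryTheory CategoryTheory.Limits AlgebraicGeometry
open RatCurve

namespace Groth.Agent.S17086

open CategoryTheory CategoryTheory.Limits AlgebraicGeometry

open Groth.Agent AlgebraicGeometry
set_option backward.isDefEq.respectTransparency false

/-- Let k be an algebraically closed field, X a closed subscheme of P^n_k, Z ⊆ X a closed subscheme and
σ : B → X a blow-up of X along Z (the inverse image ideal of Z is effective Cartier and σ is final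
with this property). Then every k-morphism f : P^1_k → X whose image is not contained in Z lifts
uniquely along σ: there is exactly one morphism g : P^1_k → B with g ≫ σ = f. Equivalently, over the
open locus of morphisms meeting X ∖ Z, the morphism Mor(P^1_k, B) → Mor(P^1_k, X) induced by σ is a
bijection on k-points. -/
theorem result
    {k : Type u} [Field k] [IsAlgClosed k] {n : ℕ} (X : Scheme.{u})
    (c : X ⟶ CohB1.ProjSpace n k) [IsClosedImmersion c]
    (Z : Scheme.{u}) (iZ : Z ⟶ X) [IsClosedImmersion iZ]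
    (B : Scheme.{u}) (σ : B ⟶ X) (hσ : BlowUp.IsBlowUp σ iZ.ker)
    (f : CohB1.ProjSpace 1 k ⟶ X)
    (hf : f ≫ c ≫ CohB1.ProjSpace.toSpec n k = CohB1.ProjSpace.toSpec 1 k)
    (hfZ : ¬ Set.range f ⊆ Set.range iZ) :
    ∃! g : CohB1.ProjSpace 1 k ⟶ B, g ≫ σ = f := by
  refine hσ.2 _ f fun x => ?_
  haveI hP : IsIntegral (CohB1.ProjSpace 1 k) := REqLib.isIntegral_projSpace 1 k
  obtain ⟨c', y, hy⟩ := ProjMap.exists_chart k x
  obtain ⟨hdom, hpid⟩ := REqLib.isPID_away k c'
  haveI := hdom
  haveI := hpid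
  let g := ProjMap.chart (R := k) c'
  let U : (CohB1.ProjSpace 1 k).affineOpens := ⟨g.opensRange, isAffineOpen_opensRange g⟩
  have hU : g ''ᵁ ⊤ = U.1 := g.image_top_eq_opensRange
  let e' := (((CohB1.ProjSpace 1 k).presheaf.mapIso (eqToIso hU).op) ≪≫ g.appIso ⊤ ≪≫ Scheme.ΓSpecIso _).commRingCatIsoToRingEquiv
  haveI : IsPrincipalIdealRing Γ(CohB1.ProjSpace 1 k, U.1) :=
    IsPrincipalIdealRing.of_surjective e'.symm.toRingHom e'.symm.surjective
  haveI : Nonempty (U.1 : (CohB1.ProjSpace 1 k).Opens) := ⟨⟨x, y, hy⟩⟩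
  haveI : IsDomain Γ(CohB1.ProjSpace 1 k, U.1) := inferInstance
  let I := iZ.ker.comap f
  obtain ⟨a, ha⟩ := IsPrincipalIdealRing.principal (I.ideal U)
  refine ⟨U, ⟨y, hy⟩, a, mem_nonZeroDivisors_of_ne_zero fun h0 => hfZ ?_, ha⟩
  have hbot : I.ideal U = ⊥ := by rw [ha, h0]; exact Ideal.span_singleton_eq_bot.2 rfl
  have hsub : (U.1 : Set (CohB1.ProjSpace 1 k)) ⊆ (I.support : Set _) := fun z hz => by
    rw [SetLike.mem_coe, Scheme.IdealSheafData.mem_support_iff_of_mem (U := U) hz, hbot]
    simp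
  have huniv : (I.support : Set (CohB1.ProjSpace 1 k)) = Set.univ :=
    Set.eq_univ_of_univ_subset ((((U.1.isOpen).dense ⟨x, y, hy⟩).closure_eq ▸
      closure_minimal hsub I.support.isClosed :))
  rintro _ ⟨z, rfl⟩
  have hz : z ∈ (I.support : Set (CohB1.ProjSpace 1 k)) := huniv ▸ Set.mem_univ z
  rw [Scheme.IdealSheafData.support_comap, TopologicalSpace.Closeds.coe_preimage, Scheme.Hom.support_ker] at hz
  rwa [Set.mem_preimage, iZ.isClosedEmbedding.isClosed_range.closure_eq] at hz


end Groth.Agent.S17086
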