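import Groth.Statements.S17087
import Groth.Agent.HilbCurveLib.Pull
import Groth.Agent.S17076
-- import your own Groth.Agent.* helpers here

set_option backward.isDefEq.respectTransparency false
set_option backward.isDefEq.respectTransparency.types false
set_option linter.style.haveILetI false
set_option autoImplicit false
universe u
open CategoryTheory CategoryTheory.Limits AlgebraicGeometry
open MorSch

namespace Groth.Agent.S17087

section helpers

variable {X Y S : Scheme.{u}} (gX : X ⟶ S) (gY : Y ⟶ S)

noncomputable abbrev rho (T : Over S) : PicF.XT (pullback.fst gX gY ≫ gX) T ⟶ PicF.XT gX T :=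
  pullback.map (pullback.fst gX gY ≫ gX) T.hom gX T.hom (pullback.fst gX gY) (𝟙 _) (𝟙 S)
    (by simp) (by simp)

theorem rho_proj (T : Over S) : rho gX gY T ≫ PicF.XTproj gX T = PicF.XTproj (pullback.fst gX gY ≫ gX) T := by
  simp [rho, pullback.map]

theorem rho_natural {T T' : Over S} (g : T' ⟶ T) :
    PicF.XTmap (pullback.fst gX gY ≫ gX) g ≫ rho gX gY T = rho gX gY T' ≫ PicF.XTmap gX g := by
  apply pullback.hom_ext <;> simp [rho, pullback.map, PicF.XTmap]

theorem isSeparated_rho [IsSeparated gY] (T : Over S) : IsSeparated (rho gX gY T) := by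
  have sq : IsPullback (pullback.fst (pullback.fst gX gY ≫ gX) T.hom) (rho gX gY T) (pullback.fst gX gY)
      (pullback.fst gX T.hom) := by
    refine IsPullback.of_bot ?_ (pullback.lift_fst _ _ _).symm (IsPullback.of_hasPullback gX T.hom)
    rw [rho_proj]
    exact IsPullback.of_hasPullback _ T.hom
  exact MorphismProperty.of_isPullback sq inferInstance

noncomputable abbrev graphA (T : Over S) (a : (Flatn.morS gX gY).obj (Opposite.op T)) :
    pullback T.hom gX ⟶ PicF.XT (pullback.fst gX gY ≫ gX) T :=
  pullback.lift (pullback.lift (pullback.snd T.hom gX) a.left (Over.w a).symm) (pullback.fst T.hom gX)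
    ((pullback.lift_fst_assoc _ _ _ _).trans pullback.condition.symm)

theorem graphA_rho (T : Over S) (a : (Flatn.morS gX gY).obj (Opposite.op T)) :
    graphA gX gY T a ≫ rho gX gY T = (pullbackSymmetry T.hom gX).hom := by
  apply pullback.hom_ext <;> simp [graphA, rho, pullback.map]

theorem isClosedImmersion_graphA [IsSeparated gY] (T : Over S) (a : (Flatn.morS gX gY).obj (Opposite.op T)) :
    IsClosedImmersion (graphA gX gY T a) := by
  haveI := isSeparated_rho gX gY T
  haveI : IsClosedImmersion (graphA gX gY T a ≫ rho gX gY T) := by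
    rw [graphA_rho]
    infer_instance
  exact IsClosedImmersion.of_comp _ (rho gX gY T)

theorem isIso_of_graph [IsSeparated gY] (T : Over S) (a : (Flatn.morS gX gY).obj (Opposite.op T)) :
    IsIso ((graphA gX gY T a).ker.subschemeι ≫ rho gX gY T) := by
  haveI := isClosedImmersion_graphA gX gY T a
  have h : (graphA gX gY T a).toImage ≫ (graphA gX gY T a).ker.subschemeι ≫ rho gX gY T =
      (pullbackSymmetry T.hom gX).hom := by
    rw [← Category.assoc, ← graphA_rho gX gY T a]
    exact congrArg (· ≫ rho gX gY T) (graphA gX gY T a).toImage_imageι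
  haveI : IsIso ((graphA gX gY T a).toImage ≫ (graphA gX gY T a).ker.subschemeι ≫ rho gX gY T) := by
    rw [h]; infer_instance
  exact IsIso.of_isIso_comp_left (graphA gX gY T a).toImage _

theorem exists_graph_of_iso (T : Over S) (I : (PicF.XT (pullback.fst gX gY ≫ gX) T).IdealSheafData)
    [IsIso (I.subschemeι ≫ rho gX gY T)] :
    ∃ a : (Flatn.morS gX gY).obj (Opposite.op T), (graphA gX gY T a).ker = I := by
  let j := (pullbackSymmetry T.hom gX).hom ≫ inv (I.subschemeι ≫ rho gX gY T) ≫ I.subschemeι
  have hj : j ≫ rho gX gY T = (pullbackSymmetry T.hom gX).hom := by simp [j]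
  have h1 : j ≫ pullback.fst _ T.hom ≫ pullback.fst gX gY = pullback.snd T.hom gX := by
    have := congrArg (· ≫ pullback.fst gX T.hom) hj
    simpa [rho, pullback.map] using this
  have h2 : j ≫ pullback.snd _ T.hom = pullback.fst T.hom gX := by
    have := congrArg (· ≫ pullback.snd gX T.hom) hj
    simpa [rho, pullback.map] using this
  let b : pullback T.hom gX ⟶ Y := j ≫ pullback.fst _ T.hom ≫ pullback.snd gX gY
  have hb : b ≫ gY = pullback.snd T.hom gX ≫ gX := by
    rw [← h1]
    simp [b, pullback.condition]
  let a : (Flatn.morS gX gY).obj (Opposite.op T) := Over.homMk b hb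
  have hab : a.left = b := rfl
  refine ⟨a, ?_⟩
  have hgj : graphA gX gY T a = j := by
    apply pullback.hom_ext
    · apply pullback.hom_ext
      · simp [graphA, h1]
      · simp [graphA, hab, b]
    · simp [graphA, h2]
  rw [hgj]
  show ((pullbackSymmetry T.hom gX).hom ≫ inv (I.subschemeι ≫ rho gX gY T) ≫ I.subschemeι).ker = I
  rw [← Category.assoc, Scheme.Hom.ker_comp_of_isIso, I.ker_subschemeι]

theorem graphA_ker_injective [IsSeparated gY] (T : Over S) (a b : (Flatn.morS gX gY).obj (Opposite.op T))
    (h : (graphA gX gY T a).ker = (graphA gX gY T b).ker) : a = b := by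
  have key : ∀ (I : (PicF.XT (pullback.fst gX gY ≫ gX) T).IdealSheafData) [IsIso (I.subschemeι ≫ rho gX gY T)]
      (c : (Flatn.morS gX gY).obj (Opposite.op T)), (graphA gX gY T c).ker = I →
      graphA gX gY T c = (pullbackSymmetry T.hom gX).hom ≫ inv (I.subschemeι ≫ rho gX gY T) ≫ I.subschemeι := by
    intro I _ c hc
    subst hc
    have e : (graphA gX gY T c).toImage =
        (pullbackSymmetry T.hom gX).hom ≫ inv ((graphA gX gY T c).ker.subschemeι ≫ rho gX gY T) := by
      rw [IsIso.eq_comp_inv, ← Category.assoc, ← graphA_rho gX gY T c]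
      exact congrArg (· ≫ rho gX gY T) (graphA gX gY T c).toImage_imageι
    rw [← Category.assoc, ← e]
    exact (graphA gX gY T c).toImage_imageι.symm
  haveI := isIso_of_graph gX gY T a
  have e := (key _ a rfl).trans (key _ b h.symm).symm
  refine Over.OverMorphism.ext ?_
  have := congrArg (fun m => m ≫ pullback.fst (pullback.fst gX gY ≫ gX) T.hom ≫ pullback.snd gX gY) e
  simpa [graphA] using this

theorem isIso_iff {H T : Over S} (Z : FGA.HilbSet (pullback.fst gX gY ≫ gX) H) (g : T ⟶ H)
    (F : pullback (Z.1.subschemeι ≫ PicF.XTproj (pullback.fst gX gY ≫ gX) H) g.left ⟶ pullback (PicF.XTproj gX H) g.left)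
    (h₁ : F ≫ pullback.fst _ g.left = pullback.fst _ g.left ≫ Z.1.subschemeι ≫ rho gX gY H)
    (h₂ : F ≫ pullback.snd _ g.left = pullback.snd _ g.left) :
    IsIso F ↔ IsIso ((FGA.hilbPull (pullback.fst gX gY ≫ gX) g Z.1).subschemeι ≫ rho gX gY T) := by
  let q := pullback.fst gX gY ≫ gX
  let k := pullback.snd Z.1.subschemeι (PicF.XTmap q g)
  let e₁ := (HilbCurveLib.isPullback_XTmap gX g).isoPullback
  have sq : IsPullback (pullback.fst Z.1.subschemeι (PicF.XTmap q g)) (k ≫ PicF.XTproj q T)
      (Z.1.subschemeι ≫ PicF.XTproj q H) g.left :=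
    (IsPullback.of_hasPullback Z.1.subschemeι (PicF.XTmap q g)).paste_vert (HilbCurveLib.isPullback_XTmap q g)
  have key : sq.isoPullback.hom ≫ F = (k.toImage ≫ k.ker.subschemeι ≫ rho gX gY T) ≫ e₁.hom := by
    have hk : k.toImage ≫ k.ker.subschemeι = k := k.toImage_imageι
    rw [reassoc_of% hk]
    apply pullback.hom_ext
    · rw [Category.assoc, h₁, sq.isoPullback_hom_fst_assoc, Category.assoc, Category.assoc,
        (HilbCurveLib.isPullback_XTmap gX g).isoPullback_hom_fst]
      exact ((pullback.condition (f := Z.1.subschemeι) (g := PicF.XTmap q g)) =≫ rho gX gY H).trans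
        ((Category.assoc _ _ _).trans (congrArg (k ≫ ·) (rho_natural gX gY g))) |> (Category.assoc _ _ _).symm.trans
    · rw [Category.assoc, h₂, sq.isoPullback_hom_snd, Category.assoc, Category.assoc,
        (HilbCurveLib.isPullback_XTmap gX g).isoPullback_hom_snd, rho_proj]
  show IsIso F ↔ IsIso (k.ker.subschemeι ≫ rho gX gY T)
  constructor
  · intro hF
    haveI : IsIso ((k.toImage ≫ k.ker.subschemeι ≫ rho gX gY T) ≫ e₁.hom) := by rw [← key]; infer_instance
    haveI : IsIso (k.toImage ≫ k.ker.subschemeι ≫ rho gX gY T) := IsIso.of_isIso_comp_right _ e₁.hom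
    exact IsIso.of_isIso_comp_left k.toImage _
  · intro hI
    haveI : IsIso (sq.isoPullback.hom ≫ F) := by rw [key]; infer_instance
    exact IsIso.of_isIso_comp_left sq.isoPullback.hom F

end helpers

/-- Let S be a locally Noetherian scheme, gX : X → S proper and flat, gY : Y → S separated, and (H, Z) a
pair representing the Hilbert functor of X ×_S Y over S on locally Noetherian S-schemes (H locally
Noetherian; Z ⊆ (X ×_S Y) ×_S H closed, proper and flat over H; universal). For an S-morphism a : T
×_S X → Y write Γ_a : T ×_S X → (X ×_S Y) ×_S T for its graph, a closed immersion. Then there is an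
open subset H₀ of H such that, for every locally Noetherian S-scheme T: every S-morphism a : T ×_S X
→ Y has exactly one S-morphism g : T → H with image in H₀ along which Z pulls back to the closed
subscheme defined by Γ_a; and every S-morphism g : T → H with image in H₀ pulls Z back to the graph
of exactly one such a. Thus the functor Mor_S(X, Y) on locally Noetherian S-schemes is represented
by the open subscheme H₀ of the Hilbert scheme of X ×_S Y, the universal family being a graph.
(Published for X and Y projective over S, with X flat; the Hilbert scheme is taken as given here.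
The published statement also asserts that each irreducible component of the representing scheme is
of finite type over S; that clause is not part of this row.) -/
theorem result
    {X Y S : Scheme.{u}} [IsLocallyNoetherian S] (gX : X ⟶ S) [IsProper gX] [Flat gX]
    (gY : Y ⟶ S) [IsSeparated gY]
    (H : Over S) (Z : FGA.HilbSet (pullback.fst gX gY ≫ gX) H)
    (hH : FGA.HilbRepresentedBy (pullback.fst gX gY ≫ gX) H Z) :
    ∃ H₀ : H.left.Opens, ∀ (T : Over S) [IsLocallyNoetherian T.left],
      (∀ a : (Flatn.morS gX gY).obj (Opposite.op T),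
        ∃! g : T ⟶ H, Set.range g.left ⊆ (H₀ : Set H.left) ∧
          FGA.hilbPull (pullback.fst gX gY ≫ gX) g Z.1 =
            (pullback.lift
              (pullback.lift (pullback.snd T.hom gX) a.left (Over.w a).symm)
              (pullback.fst T.hom gX)
              ((pullback.lift_fst_assoc _ _ _ _).trans pullback.condition.symm)
              : pullback T.hom gX ⟶ PicF.XT (pullback.fst gX gY ≫ gX) T).ker) ∧
      (∀ g : T ⟶ H, Set.range g.left ⊆ (H₀ : Set H.left) →
        ∃! a : (Flatn.morS gX gY).obj (Opposite.op T),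
          FGA.hilbPull (pullback.fst gX gY ≫ gX) g Z.1 =
            (pullback.lift
              (pullback.lift (pullback.snd T.hom gX) a.left (Over.w a).symm)
              (pullback.fst T.hom gX)
              ((pullback.lift_fst_assoc _ _ _ _).trans pullback.condition.symm)
              : pullback T.hom gX ⟶ PicF.XT (pullback.fst gX gY ≫ gX) T).ker) := by
  obtain ⟨hHn, hH'⟩ := hH
  haveI := hHn
  let q := pullback.fst gX gY ≫ gX
  haveI : IsProper (Z.1.subschemeι ≫ PicF.XTproj q H) := Z.2.1
  haveI : Flat (Z.1.subschemeι ≫ PicF.XTproj q H) := Z.2.2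
  haveI : IsProper (PicF.XTproj gX H) := inferInstanceAs (IsProper (pullback.snd gX H.hom))
  obtain ⟨H₀, hH₀⟩ := S17076.iff_fibres (Z.1.subschemeι ≫ rho gX gY H) (PicF.XTproj gX H)
    (Z.1.subschemeι ≫ PicF.XTproj q H) (by rw [Category.assoc, rho_proj])
  have key : ∀ (T : Over S) (g : T ⟶ H), Set.range g.left ⊆ (H₀ : Set H.left) ↔
      IsIso ((FGA.hilbPull q g Z.1).subschemeι ≫ rho gX gY T) := by
    intro T g
    let F : pullback (Z.1.subschemeι ≫ PicF.XTproj q H) g.left ⟶ pullback (PicF.XTproj gX H) g.left :=
      pullback.lift (pullback.fst _ _ ≫ Z.1.subschemeι ≫ rho gX gY H) (pullback.snd _ _) (by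
        rw [Category.assoc, Category.assoc, rho_proj]; exact pullback.condition)
    rw [hH₀ T.left g.left F (pullback.lift_fst _ _ _) (pullback.lift_snd _ _ _)]
    exact isIso_iff gX gY Z g F (pullback.lift_fst _ _ _) (pullback.lift_snd _ _ _)
  refine ⟨H₀, fun T _ => ⟨fun a => ?_, fun g hg => ?_⟩⟩
  · haveI := isIso_of_graph gX gY T a
    have e : (graphA gX gY T a).ker.subschemeι ≫ PicF.XTproj q T =
        ((graphA gX gY T a).ker.subschemeι ≫ rho gX gY T) ≫ PicF.XTproj gX T := by
      rw [Category.assoc, rho_proj]
    obtain ⟨g, hg, hu⟩ := hH' T ⟨(graphA gX gY T a).ker, by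
      rw [e]; infer_instance, by rw [e]; infer_instance⟩
    refine ⟨g, ⟨(key T g).2 ?_, hg⟩, fun g' hg' => hu g' hg'.2⟩
    rw [hg]
    exact isIso_of_graph gX gY T a
  · haveI := (key T g).1 hg
    obtain ⟨a, ha⟩ := exists_graph_of_iso gX gY T (FGA.hilbPull q g Z.1)
    exact ⟨a, ha.symm, fun b hb => graphA_ker_injective gX gY T b a (hb.symm.trans ha.symm)⟩

end Groth.Agent.S17087
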