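import Groth.Statements.S17088
import Mathlib

set_option backward.isDefEq.respectTransparency false
set_option autoImplicit false
universe u
open CategoryTheory CategoryTheory.Limits AlgebraicGeometry
open MorSch

namespace Groth.Agent.S17088

/-- Let f : X → S be a separated morphism, ι : W → X an immersion and T an S-scheme. For every closed
subscheme V of W ×_S T which is proper and flat over T — a T-point of the Hilbert functor of W over
S — the composite V → W ×_S T → X ×_S T is a closed immersion, and the map sending V to the ideal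
sheaf of this composite, from T-points of the Hilbert functor of W to ideal sheaves on X ×_S T, is
injective: an immersion induces a monomorphism of Hilbert functors. -/
theorem result
    {W X S : Scheme.{u}} (f : X ⟶ S) [IsSeparated f] (ι : W ⟶ X) [IsImmersion ι]
    (T : Over S) :
    (∀ V : FGA.HilbSet (ι ≫ f) T,
      IsClosedImmersion (V.1.subschemeι ≫ pullback.map (ι ≫ f) T.hom f T.hom ι (𝟙 T.left) (𝟙 S)
          (Category.comp_id _) ((Category.comp_id _).trans (Category.id_comp _).symm))) ∧
    Function.Injective (fun V : FGA.HilbSet (ι ≫ f) T =>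
      (V.1.subschemeι ≫ pullback.map (ι ≫ f) T.hom f T.hom ι (𝟙 T.left) (𝟙 S)
          (Category.comp_id _) ((Category.comp_id _).trans (Category.id_comp _).symm)).ker) := by
  set m := pullback.map (ι ≫ f) T.hom f T.hom ι (𝟙 T.left) (𝟙 S)
    (Category.comp_id _) ((Category.comp_id _).trans (Category.id_comp _).symm) with hm
  haveI hmono : Mono m := ⟨fun a b h => by
    apply pullback.hom_ext
    · rw [← cancel_mono ι]
      simpa [hm] using h =≫ pullback.fst f T.hom
    · simpa [hm] using h =≫ pullback.snd f T.hom⟩
  have hc : ∀ V : FGA.HilbSet (ι ≫ f) T, IsClosedImmersion (V.1.subschemeι ≫ m) := fun V => by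
    haveI : IsProper ((V.1.subschemeι ≫ m) ≫ pullback.snd f T.hom) := by
      rw [Category.assoc, hm, pullback.lift_snd, Category.comp_id]
      exact V.2.1
    haveI := IsProper.of_comp (V.1.subschemeι ≫ m) (pullback.snd f T.hom)
    exact (IsClosedImmersion.iff_isProper_and_mono (f := V.1.subschemeι ≫ m)).2 ⟨inferInstance, inferInstance⟩
  refine ⟨hc, fun V V' h => Subtype.ext ?_⟩
  haveI := hc V
  haveI := hc V'
  have h' : (V.1.subschemeι ≫ m).ker = (V'.1.subschemeι ≫ m).ker := h
  let a := IsClosedImmersion.lift (V'.1.subschemeι ≫ m) (V.1.subschemeι ≫ m) h'.ge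
  let b := IsClosedImmersion.lift (V.1.subschemeι ≫ m) (V'.1.subschemeι ≫ m) h'.le
  have ha : a ≫ V'.1.subschemeι = V.1.subschemeι := by
    rw [← cancel_mono m, Category.assoc]; exact IsClosedImmersion.lift_fac _ _ _
  have hb : b ≫ V.1.subschemeι = V'.1.subschemeι := by
    rw [← cancel_mono m, Category.assoc]; exact IsClosedImmersion.lift_fac _ _ _
  rw [← V.1.ker_subschemeι, ← V'.1.ker_subschemeι]
  refine le_antisymm ?_ ?_
  · conv_rhs => rw [← hb, Scheme.Hom.ker_comp]
    rw [← Scheme.IdealSheafData.map_bot]
    exact (Scheme.IdealSheafData.map_gc _).monotone_u bot_le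
  · conv_rhs => rw [← ha, Scheme.Hom.ker_comp]
    rw [← Scheme.IdealSheafData.map_bot]
    exact (Scheme.IdealSheafData.map_gc _).monotone_u bot_le

end Groth.Agent.S17088
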