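import Groth.Statements.S17089
import Groth.Agent.UnipSolvLib.Main
import Groth.Agent.HomogLib.Main
import Groth.Agent.GenSubLib.Nilp
import Mathlib.GroupTheory.Nilpotent

set_option linter.all false
set_option backward.isDefEq.respectTransparency false
set_option backward.isDefEq.respectTransparency.types false
set_option autoImplicit false
universe u
open CategoryTheory MonoidalCategory CartesianMonoidalCategory MonObj GrpObj AlgebraicGeometry
open AGF

namespace Groth.Agent.S17089

/-- The rational points of a connected group without subtorus over an algebraically closed field are nilpotent. -/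
theorem isNilpotent_pts {K : Type u} [Field K] [IsAlgClosed K] (U : Over (Spec (CommRingCat.of K))) [GrpObj U]
    [IsAffine U.left] [Smooth U.hom] [ConnectedSpace U.left] (hU : Red.HasNoSubtorus K U) :
    Group.IsNilpotent (𝟙_ (Over (Spec (CommRingCat.of K))) ⟶ U) := by
  obtain ⟨C⟩ := ObsLib.nonempty_chart U
  haveI : LocallyOfFiniteType U.hom := inferInstance
  haveI := ObsLib.finiteType_chart C
  haveI := Groth.Agent.S7986.result K C.A (UnipSolv.isUnipotent_chart C hU)
  let e : 𝟙_ (Over (Spec (CommRingCat.of K))) ⟶ VecGrp.pt K K :=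
    Over.homMk (𝟙 _) (by
      show 𝟙 _ ≫ Spec.map (CommRingCat.ofHom (algebraMap K K)) = 𝟙 _
      simp)
  let f : WithConv (C.A →ₐ[K] K) →* (𝟙_ (Over (Spec (CommRingCat.of K))) ⟶ U) :=
    (MonoidHom.mk' (fun x => e ≫ x) (fun a b => MonObj.comp_mul _ _ _)).comp
      ((IsMonHom.monoidHom C.e.hom (VecGrp.pt K K)).comp GModComod.pts.toMonoidHom)
  refine Group.nilpotent_of_surjective f fun x => ?_
  obtain ⟨φ, hφ⟩ := (ObsLib.pt_bijective C (D := K)).2 (toUnit _ ≫ x)
  refine ⟨WithConv.toConv φ, ?_⟩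
  show e ≫ C.pt φ = x
  rw [hφ, ← Category.assoc, toUnit_unique (e ≫ toUnit _) (𝟙 _), Category.id_comp]

/-- Let k be a field, U' an affine, smooth, connected k-group scheme whose geometric fibre contains no
non-trivial subtorus (a smooth connected unipotent group), i : U ⟶ U' a closed subgroup scheme which
is smooth and connected and whose inclusion is not an isomorphism, and n : N ⟶ U' the normalizer of
U in U'. Then N is strictly larger than U: the inclusion of N does not factor through U. -/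
theorem result (k : Type u) [Field k]
    (U' : Over (Spec (CommRingCat.of k))) [GrpObj U'] [IsAffine U'.left] [Smooth U'.hom] [ConnectedSpace ↥U'.left]
    (hU' : ∀ s : ↥(Spec (CommRingCat.of k)),
      Red.HasNoSubtorus (AlgebraicClosure ((Spec (CommRingCat.of k)).residueField s)) (Red.geomFibre s U'))
    (U : Over (Spec (CommRingCat.of k))) [GrpObj U] (i : U ⟶ U') [IsMonHom i] (hi : IsClosedImmersion i.left)
    [Smooth U.hom] [ConnectedSpace ↥U.left] (hne : ¬ IsIso i.left)
    (N : Over (Spec (CommRingCat.of k))) [GrpObj N] (n : N ⟶ U') (hn : Red.IsNormalizerOf i n) :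
    ¬ ∃ f : N ⟶ U, f ≫ i = n := by
  let pt : ↥(Spec (CommRingCat.of k)) := IsLocalRing.closedPoint k
  let K := AlgebraicClosure ((Spec (CommRingCat.of k)).residueField pt)
  obtain ⟨φ, hφ⟩ := Spec.map_surjective (Red.geomPt pt)
  letI : Algebra k K := φ.hom.toAlgebra
  let σ := Spec.map (CommRingCat.ofHom (algebraMap k K))
  have hσ : Red.geomPt pt = σ := hφ.symm
  let UK := Red.bc σ U'
  let PKo : Over (Spec (CommRingCat.of k)) := Over.mk σ
  have hnt : Red.HasNoSubtorus K UK := by
    have h := hU' pt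
    revert h
    show Red.HasNoSubtorus _ (Red.bc (Red.geomPt pt) U') → _
    rw [hσ]
    exact id
  haveI : IsAffine UK.left := by
    show IsAffine (Limits.pullback U'.hom σ)
    infer_instance
  haveI : Smooth UK.hom := MorphismProperty.pullback_snd _ _ (inferInstance : Smooth U'.hom)
  haveI : GeometricallyConnected U'.hom := GenSubLib.geometricallyConnected_of_rational η[U']
  haveI : ConnectedSpace UK.left :=
    GeometricallyConnected.geometrically_connectedSpace (f := U'.hom) σ _ _ (IsPullback.of_hasPullback _ _)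
  haveI := isNilpotent_pts UK hnt
  let e0 : PKo ≅ (Over.map σ).obj (𝟙_ (Over (Spec (CommRingCat.of K)))) :=
    Over.isoMk (Iso.refl _) (by show 𝟙 _ ≫ (𝟙 _ ≫ σ) = σ; simp)
  let adj := GenSubLib.adjPts (k := k) (K := K) U' (𝟙_ (Over (Spec (CommRingCat.of K))))
  let E : (𝟙_ (Over (Spec (CommRingCat.of K))) ⟶ UK) →* (PKo ⟶ U') :=
    (MonoidHom.mk' (fun x => e0.hom ≫ x) (fun a b => MonObj.comp_mul _ _ _)).comp adj.symm.toMonoidHom
  haveI : Group.IsNilpotent (PKo ⟶ U') := Group.nilpotent_of_surjective E fun x =>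
    ⟨adj (e0.inv ≫ x), by show e0.hom ≫ adj.symm (adj (e0.inv ≫ x)) = x; rw [adj.symm_apply_apply, Iso.hom_inv_id_assoc]⟩
  haveI : IsClosedImmersion i.left := hi
  let H : Subgroup (PKo ⟶ U') := (IsMonHom.monoidHom i PKo).range
  haveI : QuasiCompact U.hom := by rw [← Over.w i]; infer_instance
  haveI : IsReduced U'.left := Groth.Agent.ASp.isReduced_of_smooth U'.hom
  have hne' : H < ⊤ := lt_top_iff_ne_top.2 fun htop => hne (by
    haveI : Surjective i.left := SepPtsLib.surjective_of_algClosed_pts (K := K) i fun x => by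
      obtain ⟨z, hz⟩ : x ∈ H := htop ▸ Subgroup.mem_top x
      exact ⟨z, hz⟩
    exact isIso_of_isClosedImmersion_of_surjective i.left)
  obtain ⟨g, hgN, hgH⟩ := SetLike.exists_of_lt (Group.normalizerCondition_of_isNilpotent H hne')
  rintro ⟨f, hf⟩
  have fac : ∀ g : PKo ⟶ U', (∀ u : PKo ⟶ U, g * (u ≫ i) * g⁻¹ ∈ H) →
      ∃ c : PKo ⊗ U ⟶ U, c ≫ i = (fst PKo U ≫ g) * (snd PKo U ≫ i) * (fst PKo U ≫ g)⁻¹ := by
    intro g hg
    let c := (fst PKo U ≫ g) * (snd PKo U ≫ i) * (fst PKo U ≫ g)⁻¹
    haveI : Smooth (fst PKo U).left :=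
      MorphismProperty.of_isPullback (P := @Smooth) (GrpSchLib.isPullback_fst_snd).flip (inferInstance : Smooth U.hom)
    haveI : IsReduced PKo.left := inferInstanceAs (IsReduced (Spec (CommRingCat.of K)))
    haveI : IsReduced (PKo ⊗ U).left :=
      Groth.Agent.ASp.isReduced_of_smooth (X := (PKo ⊗ U).left) (fst PKo U).left
    haveI : Surjective (Limits.pullback.fst c.left i.left) := by
      refine ⟨fun w => ?_⟩
      by_contra hw
      obtain ⟨u, hu⟩ := HomogLib.exists_spt (k := k) (K := K) (Z := U)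
        ((Limits.pullback.fst c.left i.left).isClosedEmbedding.isClosed_range.isOpen_compl.isLocallyClosed) ⟨w, hw⟩
      obtain ⟨u', hu'⟩ := hg u
      have e : lift (𝟙 PKo) u ≫ c = u' ≫ i := by
        rw [show u' ≫ i = g * (u ≫ i) * g⁻¹ from hu']
        simp only [c, MonObj.comp_mul, GrpObj.comp_inv, lift_fst_assoc, lift_snd_assoc, Category.id_comp]
      apply hu
      refine ⟨(Limits.pullback.lift (lift (𝟙 PKo) u).left u'.left (congrArg CommaMorphism.left e))
        (IsLocalRing.closedPoint K), ?_⟩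
      rw [← Scheme.Hom.comp_apply, Limits.pullback.lift_fst]
      rfl
    haveI := isIso_of_isClosedImmersion_of_surjective (Limits.pullback.fst c.left i.left)
    refine ⟨Over.homMk (inv (Limits.pullback.fst c.left i.left) ≫ Limits.pullback.snd c.left i.left) ?_, ?_⟩
    · rw [Category.assoc, IsIso.inv_comp_eq, ← Over.w c, ← Over.w i, Limits.pullback.condition_assoc]
    · apply Over.OverMorphism.ext
      show (inv (Limits.pullback.fst c.left i.left) ≫ Limits.pullback.snd c.left i.left) ≫ i.left = c.left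
      rw [Category.assoc, ← Limits.pullback.condition, IsIso.inv_hom_id_assoc]
  have hn1 : ∀ u : PKo ⟶ U, g * (u ≫ i) * g⁻¹ ∈ H := fun u => (Subgroup.mem_normalizer_iff.1 hgN _).1 ⟨u, rfl⟩
  have hn2 : ∀ u : PKo ⟶ U, g⁻¹ * (u ≫ i) * g⁻¹⁻¹ ∈ H := fun u => by
    rw [_root_.inv_inv]
    exact (Subgroup.mem_normalizer_iff''.1 hgN _).1 ⟨u, rfl⟩
  obtain ⟨c1, hc1⟩ := fac g hn1
  obtain ⟨c2, hc2⟩ := fac g⁻¹ hn2
  obtain ⟨z, hz⟩ := (hn.2.2 PKo g).2 fun X' x h => by
    refine ⟨⟨lift x h ≫ c1, ?_⟩, ⟨lift x h ≫ c2, ?_⟩⟩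
    · rw [Category.assoc, hc1]
      simp only [MonObj.comp_mul, GrpObj.comp_inv, lift_fst_assoc, lift_snd_assoc]
    · rw [Category.assoc, hc2]
      simp only [MonObj.comp_mul, GrpObj.comp_inv, lift_fst_assoc, lift_snd_assoc, _root_.inv_inv]
  exact hgH ⟨z ≫ f, by show (z ≫ f) ≫ i = g; rw [Category.assoc, hf, hz]⟩

end Groth.Agent.S17089
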