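import Groth.Statements.S1709
import Mathlib
import Groth.Agent.AssLib.Push


set_option autoImplicit false
universe u
open CategoryTheory CategoryTheory.Limits AlgebraicGeometry TopologicalSpace
open SDiv

namespace Groth.Agent.S1709

/-- Let f : X ⟶ S be an affine morphism with X locally Noetherian and F a quasi-coherent module on X.
Then the following subsets of S coincide: the image of the associated points of F, the associated
points of f_* F, the weakly associated points of f_* F, and the image of the weakly associated
points of F. -/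
theorem result {X S : Scheme.{u}} (f : X ⟶ S) [IsAffineHom f] [IsLocallyNoetherian X] (F : X.Modules)
    (hF : Coh.IsQCoh F) :
    (fun x => f x) '' {x : ↥X | Curv2.IsAssPoint F x} = {s : ↥S | Curv2.IsAssPoint ((Scheme.Modules.pushforward f).obj F) s} ∧
      {s : ↥S | Curv2.IsAssPoint ((Scheme.Modules.pushforward f).obj F) s} =
        {s : ↥S | Curv2.IsWeakAssPoint ((Scheme.Modules.pushforward f).obj F) s} ∧
      {s : ↥S | Curv2.IsWeakAssPoint ((Scheme.Modules.pushforward f).obj F) s} =
        (fun x => f x) '' {x : ↥X | Curv2.IsWeakAssPoint F x} := by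
  haveI := hF
  have h1 := Groth.Agent.AssLib.ass_eq_weak F
  have h2 := Groth.Agent.AssLib.ass_eq_weak ((Coh.push f).obj F)
  have h3 := Groth.Agent.AssLib.ass_push_eq f F fun x => by
    obtain ⟨_, ⟨W : S.Opens, (hW : IsAffineOpen W), rfl⟩, hxW, -⟩ :=
      S.isBasis_affineOpens.exists_subset_of_mem_open (Set.mem_univ (f x)) isOpen_univ
    exact ⟨W, hW, hxW, hW.preimage f⟩
  refine ⟨?_, h2, h3⟩
  rw [h1, h2]
  exact h3.symm


end Groth.Agent.S1709
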