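import Groth.Statements.S17090
import Groth.Agent.S17089
import Groth.Agent.MaxOpenLib.Translate

set_option linter.all false
set_option backward.isDefEq.respectTransparency false
set_option backward.isDefEq.respectTransparency.types false
set_option autoImplicit false
universe u
open CategoryTheory MonoidalCategory CartesianMonoidalCategory MonObj GrpObj AlgebraicGeometry
open AGF

namespace Groth.Agent.S17090

section
variable {k : Type u} [Field k] {K : Type u} [Field K] [IsAlgClosed K] [Algebra k K]

/-- A morphism to `U'` whose values at `K`-points lie in a closed subscheme lands in it. -/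
theorem range_subset {U U' V : Over (Spec (CommRingCat.of k))} [LocallyOfFiniteType U.hom] [QuasiCompact U.hom]
    [LocallyOfFiniteType U'.hom] [LocallyOfFiniteType V.hom] [QuasiCompact V.hom]
    (i : U ⟶ U') [IsClosedImmersion i.left] (c : V ⟶ U')
    (h : ∀ v : Over.mk (Spec.map (CommRingCat.ofHom (algebraMap k K))) ⟶ V,
      ∃ u : Over.mk (Spec.map (CommRingCat.ofHom (algebraMap k K))) ⟶ U, u ≫ i = v ≫ c) :
    Set.range c.left ⊆ Set.range i.left := by
  let j : Over.mk (Limits.pullback.fst c.left i.left ≫ V.hom) ⟶ V := Over.homMk (Limits.pullback.fst c.left i.left) rfl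
  haveI : IsClosedImmersion (Limits.pullback.fst c.left i.left) := inferInstance
  haveI : LocallyOfFiniteType (Over.mk (Limits.pullback.fst c.left i.left ≫ V.hom)).hom :=
    inferInstanceAs (LocallyOfFiniteType (Limits.pullback.fst c.left i.left ≫ V.hom))
  haveI : QuasiCompact (Over.mk (Limits.pullback.fst c.left i.left ≫ V.hom)).hom :=
    inferInstanceAs (QuasiCompact (Limits.pullback.fst c.left i.left ≫ V.hom))
  haveI : Surjective j.left := SepPtsLib.surjective_of_algClosed_pts (K := K) j fun v => by
    obtain ⟨u, hu⟩ := h v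
    refine ⟨Over.homMk (Limits.pullback.lift v.left u.left (congrArg CommaMorphism.left hu.symm)) ?_, ?_⟩
    · show Limits.pullback.lift _ _ _ ≫ Limits.pullback.fst c.left i.left ≫ V.hom = _
      rw [Limits.pullback.lift_fst_assoc, Over.w v]
    · apply Over.OverMorphism.ext
      exact Limits.pullback.lift_fst _ _ _
  rintro _ ⟨x, rfl⟩
  obtain ⟨z, hz⟩ := Surjective.surj (f := j.left) x
  refine ⟨(Limits.pullback.snd c.left i.left) z, ?_⟩
  rw [← hz, ← Scheme.Hom.comp_apply, ← Limits.pullback.condition]
  rfl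

/-- A morphism from a reduced scheme with range in a closed subscheme factors through it. -/
theorem exists_factor_of_range {U U' V : Over (Spec (CommRingCat.of k))} [IsReduced V.left]
    (i : U ⟶ U') [IsClosedImmersion i.left] (c : V ⟶ U') (h : Set.range c.left ⊆ Set.range i.left) :
    ∃ z : V ⟶ U, z ≫ i = c := by
  haveI : Surjective (Limits.pullback.fst c.left i.left) := ⟨fun x => by
    obtain ⟨y, hy⟩ := h ⟨x, rfl⟩
    obtain ⟨z, hz, -⟩ := Scheme.Pullback.exists_preimage_pullback (f := c.left) (g := i.left) x y hy.symm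
    exact ⟨z, hz⟩⟩
  haveI := isIso_of_isClosedImmersion_of_surjective (Limits.pullback.fst c.left i.left)
  refine ⟨Over.homMk (inv (Limits.pullback.fst c.left i.left) ≫ Limits.pullback.snd c.left i.left) ?_, ?_⟩
  · rw [Category.assoc, IsIso.inv_comp_eq, ← Over.w c, ← Over.w i, Limits.pullback.condition_assoc]
  · apply Over.OverMorphism.ext
    show (inv (Limits.pullback.fst c.left i.left) ≫ Limits.pullback.snd c.left i.left) ≫ i.left = c.left
    rw [Category.assoc, ← Limits.pullback.condition, IsIso.inv_hom_id_assoc]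

/-- An irreducible closed set properly containing an irreducible closed subspace of codimension one is everything. -/
theorem eq_univ_of_dim {X Y : Type u} [TopologicalSpace X] [TopologicalSpace Y] [IrreducibleSpace X] [IrreducibleSpace Y]
    {f : X → Y} (hf : Topology.IsClosedEmbedding f) {d : ℕ} (hd : topologicalKrullDim X = (d : WithBot ℕ∞))
    (hd' : topologicalKrullDim Y = ((d + 1 : ℕ) : WithBot ℕ∞)) {Z : Set Y} (hZi : IsIrreducible Z) (hZc : IsClosed Z)
    (hsub : Set.range f ⊆ Z) (hne : Set.range f ≠ Z) : Z = Set.univ := by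
  by_contra hZ
  let tX : TopologicalSpace.IrreducibleCloseds X := ⟨Set.univ, IrreducibleSpace.isIrreducible_univ X, isClosed_univ⟩
  let tY : TopologicalSpace.IrreducibleCloseds Y := ⟨Set.univ, IrreducibleSpace.isIrreducible_univ Y, isClosed_univ⟩
  let z : TopologicalSpace.IrreducibleCloseds Y := ⟨Z, hZi, hZc⟩
  let m : TopologicalSpace.IrreducibleCloseds X → TopologicalSpace.IrreducibleCloseds Y := TopologicalSpace.IrreducibleCloseds.map f hf.continuous
  have hm : StrictMono m := TopologicalSpace.IrreducibleCloseds.map_strictMono_of_isInducing hf.isInducing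
  have hmt : ((m tX : TopologicalSpace.IrreducibleCloseds Y) : Set Y) = Set.range f := by
    show closure (f '' Set.univ) = _
    rw [Set.image_univ, hf.isClosed_range.closure_eq]
  have h1 : m tX < z := lt_of_le_of_ne (show ((m tX : TopologicalSpace.IrreducibleCloseds Y) : Set Y) ⊆ Z from hmt ▸ hsub)
    fun e => hne (hmt ▸ congrArg (fun a : TopologicalSpace.IrreducibleCloseds Y => (a : Set Y)) e)
  have h2 : z < tY := lt_of_le_of_ne (Set.subset_univ Z)
    fun e => hZ (congrArg (fun a : TopologicalSpace.IrreducibleCloseds Y => (a : Set Y)) e)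
  haveI : Nonempty (TopologicalSpace.IrreducibleCloseds X) := ⟨tX⟩
  have h3 : (d : ℕ∞) ≤ Order.height tX := by
    have : topologicalKrullDim X ≤ (Order.height tX : WithBot ℕ∞) := by
      show Order.krullDim _ ≤ _
      rw [Order.krullDim_eq_iSup_height]
      exact iSup_le fun a => WithBot.coe_le_coe.2 (Order.height_mono (show a ≤ tX from Set.subset_univ (a : Set X)))
    rw [hd] at this
    exact WithBot.coe_le_coe.1 this
  have h4 : Order.height tY ≤ (d + 1 : ℕ) := by
    have := Order.height_le_krullDim tY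
    rw [show Order.krullDim (TopologicalSpace.IrreducibleCloseds Y) = topologicalKrullDim Y from rfl, hd'] at this
    exact WithBot.coe_le_coe.1 this
  have h5 : (d : ℕ∞) + 1 + 1 ≤ (d + 1 : ℕ) :=
    ((add_le_add_left (add_le_add_left (h3.trans (Order.height_le_height_apply_of_strictMono m hm tX)) 1) 1).trans
      ((add_le_add_left (Order.height_add_one_le h1) 1).trans (Order.height_add_one_le h2))).trans h4
  norm_cast at h5
  omega

end

/-- The particular case of codimension one: let k be a field, U' an affine, smooth, connected k-group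
scheme whose geometric fibre contains no non-trivial subtorus (a smooth connected unipotent group)
and i : U ⟶ U' a closed subgroup scheme which is smooth and connected. If dim U' = dim U + 1
(dimensions of the underlying topological spaces), then U is a normal subgroup of U'. -/
theorem result (k : Type u) [Field k]
    (U' : Over (Spec (CommRingCat.of k))) [GrpObj U'] [IsAffine U'.left] [Smooth U'.hom] [ConnectedSpace ↥U'.left]
    (hU' : ∀ s : ↥(Spec (CommRingCat.of k)),
      Red.HasNoSubtorus (AlgebraicClosure ((Spec (CommRingCat.of k)).residueField s)) (Red.geomFibre s U'))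
    (U : Over (Spec (CommRingCat.of k))) [GrpObj U] (i : U ⟶ U') [IsMonHom i] (hi : IsClosedImmersion i.left)
    [Smooth U.hom] [ConnectedSpace ↥U.left]
    (d : ℕ) (hd : topologicalKrullDim ↥U.left = (d : WithBot ℕ∞))
    (hd' : topologicalKrullDim ↥U'.left = ((d + 1 : ℕ) : WithBot ℕ∞)) :
    AlgGrp.IsNormalHom i := by
  let pt : ↥(Spec (CommRingCat.of k)) := IsLocalRing.closedPoint k
  let K := AlgebraicClosure ((Spec (CommRingCat.of k)).residueField pt)
  obtain ⟨φ, hφ⟩ := Spec.map_surjective (Red.geomPt pt)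
  letI : Algebra k K := φ.hom.toAlgebra
  let σ := Spec.map (CommRingCat.ofHom (algebraMap k K))
  have hσ : Red.geomPt pt = σ := hφ.symm
  let UK := Red.bc σ U'
  let PKo : Over (Spec (CommRingCat.of k)) := Over.mk σ
  have hnt : Red.HasNoSubtorus K UK := by
    have h := hU' pt
    revert h
    show Red.HasNoSubtorus _ (Red.bc (Red.geomPt pt) U') → _
    rw [hσ]
    exact id
  haveI : IsAffine UK.left := by
    show IsAffine (Limits.pullback U'.hom σ)
    infer_instance
  haveI : Smooth UK.hom := MorphismProperty.pullback_snd _ _ (inferInstance : Smooth U'.hom)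
  haveI : GeometricallyConnected U'.hom := GenSubLib.geometricallyConnected_of_rational η[U']
  haveI : ConnectedSpace UK.left :=
    GeometricallyConnected.geometrically_connectedSpace (f := U'.hom) σ _ _ (IsPullback.of_hasPullback _ _)
  haveI := S17089.isNilpotent_pts UK hnt
  let e0 : PKo ≅ (Over.map σ).obj (𝟙_ (Over (Spec (CommRingCat.of K)))) :=
    Over.isoMk (Iso.refl _) (by show 𝟙 _ ≫ (𝟙 _ ≫ σ) = σ; simp)
  let adj := GenSubLib.adjPts (k := k) (K := K) U' (𝟙_ (Over (Spec (CommRingCat.of K))))
  let E : (𝟙_ (Over (Spec (CommRingCat.of K))) ⟶ UK) →* (PKo ⟶ U') :=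
    (MonoidHom.mk' (fun x => e0.hom ≫ x) (fun a b => MonObj.comp_mul _ _ _)).comp adj.symm.toMonoidHom
  haveI : Group.IsNilpotent (PKo ⟶ U') := Group.nilpotent_of_surjective E fun x =>
    ⟨adj (e0.inv ≫ x), by show e0.hom ≫ adj.symm (adj (e0.inv ≫ x)) = x; rw [adj.symm_apply_apply, Iso.hom_inv_id_assoc]⟩
  haveI : IsClosedImmersion i.left := hi
  haveI : QuasiCompact U'.hom := inferInstance
  haveI : QuasiCompact U.hom := by rw [← Over.w i]; infer_instance
  haveI : IrreducibleSpace U.left := GrpSchLib.irreducibleSpace_of_connectedSpace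
  haveI : IrreducibleSpace U'.left := GrpSchLib.irreducibleSpace_of_connectedSpace
  let H : Subgroup (PKo ⟶ U') := (IsMonHom.monoidHom i PKo).range
  -- iterated commutators
  let X : ℕ → Set (PKo ⟶ U') := fun n => Nat.rec Set.univ (fun _ s => {y | ∃ a, ∃ x ∈ s, y = a * x * a⁻¹ * x⁻¹}) n
  have hX : ∀ n, X n ⊆ ((⊤ : Subgroup (PKo ⟶ U')).lowerCentralSeries n : Set (PKo ⟶ U')) := by
    intro n
    induction n with
    | zero => exact fun _ _ => Subgroup.mem_top _
    | succ n ih =>
      rintro _ ⟨a, x, hx, rfl⟩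
      rw [SetLike.mem_coe, Subgroup.lowerCentralSeries_succ, Subgroup.commutator_comm]
      exact Subgroup.commutator_mem_commutator (Subgroup.mem_top a) (ih hx)
  have hreal : ∀ n, ∃ (P : Over (Spec (CommRingCat.of k))) (_ : GrpObj P) (f : P ⟶ U'), Smooth P.hom ∧ QuasiCompact P.hom ∧
      ConnectedSpace P.left ∧ (∀ v : PKo ⟶ P, v ≫ f ∈ X n) ∧ (∀ y ∈ X n, ∃ v : PKo ⟶ P, v ≫ f = y) ∧
      η[P] ≫ f = η[U'] := by
    intro n
    induction n with
    | zero => exact ⟨U', inferInstance, 𝟙 U', inferInstance, inferInstance, inferInstance, fun _ => trivial,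
        fun y _ => ⟨y, Category.comp_id y⟩, Category.comp_id _⟩
    | succ n ih =>
      obtain ⟨P, gP, f, hPs, hPq, hPc, hf, hf', hf1⟩ := ih
      let a : U' ⊗ P ⟶ U' := fst U' P
      let b : U' ⊗ P ⟶ U' := snd U' P ≫ f
      have hsm : Smooth (U' ⊗ P).hom := by
        haveI : Smooth (fst U' P).left :=
          MorphismProperty.of_isPullback (P := @Smooth) (GrpSchLib.isPullback_fst_snd).flip hPs
        rw [← Over.w (fst U' P)]
        infer_instance
      have hqc : QuasiCompact (U' ⊗ P).hom := by
        haveI : QuasiCompact (fst U' P).left :=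
          MorphismProperty.of_isPullback (P := @QuasiCompact) (GrpSchLib.isPullback_fst_snd).flip hPq
        rw [← Over.w (fst U' P)]
        infer_instance
      have hcn : ConnectedSpace (U' ⊗ P).left := by
        haveI : GeometricallyConnected P.hom := GenSubLib.geometricallyConnected_of_rational η[P]
        haveI : GeometricallyConnected (fst U' P).left :=
          MorphismProperty.of_isPullback (P := @GeometricallyConnected) (GrpSchLib.isPullback_fst_snd).flip
            (inferInstance : GeometricallyConnected P.hom)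
        haveI : Smooth (fst U' P).left :=
          MorphismProperty.of_isPullback (P := @Smooth) (GrpSchLib.isPullback_fst_snd).flip hPs
        exact GeometricallyConnected.connectedSpace (fst U' P).left (fst U' P).left.isOpenMap
      refine ⟨U' ⊗ P, inferInstance, a * b * a⁻¹ * b⁻¹, hsm, hqc, hcn, fun v => ⟨v ≫ a, v ≫ b, ?_, ?_⟩, ?_, ?_⟩
      · show v ≫ b ∈ X n
        rw [show v ≫ b = (v ≫ snd U' P) ≫ f from (Category.assoc _ _ _).symm]
        exact hf _
      · simp only [MonObj.comp_mul, GrpObj.comp_inv]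
      · rintro _ ⟨y, x, hx, rfl⟩
        obtain ⟨v, rfl⟩ := hf' x hx
        refine ⟨lift y v, ?_⟩
        simp only [a, b, MonObj.comp_mul, GrpObj.comp_inv, lift_fst, lift_snd_assoc]
      · have hb : η[U' ⊗ P] ≫ b = 1 := by
          simp only [b, ← Category.assoc, IsMonHom.one_hom, hf1]
          simp [Hom.one_def]
        simp only [MonObj.comp_mul, GrpObj.comp_inv, hb]
        simp [Hom.one_def]
  obtain ⟨N, hN⟩ := Subgroup.nilpotent_iff_lowerCentralSeries.1 (inferInstance : Group.IsNilpotent (PKo ⟶ U'))
  have hne : ¬ (X 0 ⊆ H) := by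
    intro h
    have hr : Set.range (𝟙 U' : U' ⟶ U').left ⊆ Set.range i.left :=
      range_subset (K := K) i (𝟙 U') fun v => by
        obtain ⟨u, hu⟩ := h (a := v) trivial
        exact ⟨u, hu.trans (Category.comp_id v).symm⟩
    have := i.left.isClosedEmbedding.isInducing.topologicalKrullDim_le
    have h' := (IsHomeomorph.topologicalKrullDim_eq i.left
      ((isHomeomorph_iff_isEmbedding_surjective).2 ⟨i.left.isClosedEmbedding.isEmbedding,
        fun x => hr ⟨x, rfl⟩⟩))
    rw [hd, hd'] at h'
    norm_cast at h'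
    omega
  have hlast : ∃ n, ¬ (X n ⊆ H) ∧ X (n + 1) ⊆ H := by
    by_contra hc
    push Not at hc
    have hall : ∀ n, ¬ (X n ⊆ H) := fun n => by
      induction n with
      | zero => exact hne
      | succ n ih => exact hc n ih
    exact hall N fun x hx => by
      have := hX N hx
      rw [hN, SetLike.mem_coe, Subgroup.mem_bot] at this
      rw [this]
      exact H.one_mem
  obtain ⟨n, hn, hn1⟩ := hlast
  obtain ⟨P, gP, f, hPs, hPq, hPc, hf, hf', hf1⟩ := hreal n
  haveI : IrreducibleSpace P.left := GrpSchLib.irreducibleSpace_of_connectedSpace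
  have hnorm : ∀ (v : PKo ⟶ P) (u : PKo ⟶ U), (v ≫ f) * (u ≫ i) * (v ≫ f)⁻¹ ∈ H := by
    intro v u
    have h1 : (u ≫ i)⁻¹ * (v ≫ f) * (u ≫ i)⁻¹⁻¹ * (v ≫ f)⁻¹ ∈ H := hn1 ⟨(u ≫ i)⁻¹, v ≫ f, hf v, rfl⟩
    have h2 : (u ≫ i) ∈ H := ⟨u, rfl⟩
    have h3 := H.mul_mem h2 h1
    convert h3 using 1
    group
  -- the product with the values
  haveI : Smooth (fst U P).left :=
    MorphismProperty.of_isPullback (P := @Smooth) (GrpSchLib.isPullback_fst_snd).flip hPs
  haveI : QuasiCompact (fst U P).left :=
    MorphismProperty.of_isPullback (P := @QuasiCompact) (GrpSchLib.isPullback_fst_snd).flip hPq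
  haveI : Smooth (U ⊗ P).hom := by rw [← Over.w (fst U P)]; infer_instance
  haveI : QuasiCompact (U ⊗ P).hom := by rw [← Over.w (fst U P)]; infer_instance
  haveI : ConnectedSpace (U ⊗ P).left := by
    haveI : GeometricallyConnected P.hom := GenSubLib.geometricallyConnected_of_rational η[P]
    haveI : GeometricallyConnected (fst U P).left :=
      MorphismProperty.of_isPullback (P := @GeometricallyConnected) (GrpSchLib.isPullback_fst_snd).flip
        (inferInstance : GeometricallyConnected P.hom)
    exact GeometricallyConnected.connectedSpace (fst U P).left (fst U P).left.isOpenMap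
  haveI : IrreducibleSpace (U ⊗ P).left := GrpSchLib.irreducibleSpace_of_connectedSpace
  let ψ : U ⊗ P ⟶ U' := (fst U P ≫ i) * (snd U P ≫ f)
  have hψi : lift (𝟙 U) 1 ≫ ψ = i := by
    have : (1 : U ⟶ P) ≫ f = 1 := by
      rw [Hom.one_def, Category.assoc, hf1, Hom.one_def]
    simp only [ψ, MonObj.comp_mul, lift_fst_assoc, lift_snd_assoc, Category.id_comp, this, _root_.mul_one]
  have hdense : closure (Set.range ψ.left) = Set.univ := by
    refine eq_univ_of_dim i.left.isClosedEmbedding hd hd' ?_ isClosed_closure ?_ ?_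
    · rw [← Set.image_univ]
      exact ((IrreducibleSpace.isIrreducible_univ _).image _ ψ.left.continuous.continuousOn).closure
    · refine Set.Subset.trans ?_ subset_closure
      rintro _ ⟨x, rfl⟩
      exact ⟨(lift (𝟙 U) 1 : U ⟶ U ⊗ P).left x, by rw [← Scheme.Hom.comp_apply, ← Over.comp_left, hψi]⟩
    · intro he
      have hr : Set.range ψ.left ⊆ Set.range i.left := he ▸ subset_closure
      haveI : IsReduced (U ⊗ P).left := Groth.Agent.ASp.isReduced_of_smooth (U ⊗ P).hom
      obtain ⟨z, hz⟩ := exists_factor_of_range i ψ hr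
      apply hn
      intro y hy
      obtain ⟨v, rfl⟩ := hf' y hy
      refine ⟨lift 1 v ≫ z, ?_⟩
      show (lift 1 v ≫ z) ≫ i = v ≫ f
      have : (1 : PKo ⟶ U) ≫ i = 1 := by rw [Hom.one_def, Category.assoc, IsMonHom.one_hom, Hom.one_def]
      rw [Category.assoc, hz]
      simp only [ψ, MonObj.comp_mul, lift_fst_assoc, lift_snd_assoc, this, _root_.one_mul]
  -- conjugation
  let c : U' ⊗ U ⟶ U' := fst U' U * (snd U' U ≫ i) * (fst U' U)⁻¹
  have hT : Set.range ((ψ ▷ U) ≫ c).left ⊆ Set.range i.left := by
    haveI : Smooth (fst (U ⊗ P) U).left :=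
      MorphismProperty.of_isPullback (P := @Smooth) (GrpSchLib.isPullback_fst_snd).flip (inferInstance : Smooth U.hom)
    haveI : QuasiCompact (fst (U ⊗ P) U).left :=
      MorphismProperty.of_isPullback (P := @QuasiCompact) (GrpSchLib.isPullback_fst_snd).flip (inferInstance : QuasiCompact U.hom)
    haveI : LocallyOfFiniteType ((U ⊗ P) ⊗ U).hom := by rw [← Over.w (fst (U ⊗ P) U)]; infer_instance
    haveI : QuasiCompact ((U ⊗ P) ⊗ U).hom := by rw [← Over.w (fst (U ⊗ P) U)]; infer_instance
    refine range_subset (K := K) i ((ψ ▷ U) ≫ c) fun v => ?_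
    let h : PKo ⟶ U' := (v ≫ fst (U ⊗ P) U ≫ fst U P) ≫ i
    let q : PKo ⟶ U' := (v ≫ fst (U ⊗ P) U ≫ snd U P) ≫ f
    have h1 : h * (q * ((v ≫ snd (U ⊗ P) U) ≫ i) * q⁻¹) * h⁻¹ ∈ H :=
      H.mul_mem (H.mul_mem ⟨_, rfl⟩ (hnorm _ _)) (H.inv_mem ⟨_, rfl⟩)
    obtain ⟨w, hw⟩ := h1
    refine ⟨w, hw.trans ?_⟩
    simp only [c, ψ, h, q, Category.assoc, MonObj.comp_mul, GrpObj.comp_inv, whiskerRight_fst_assoc,
      whiskerRight_snd_assoc, whiskerRight_fst]
    group
  have hall : Set.range c.left ⊆ Set.range i.left := by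
    haveI : Smooth (fst U' U).left :=
      MorphismProperty.of_isPullback (P := @Smooth) (GrpSchLib.isPullback_fst_snd).flip (inferInstance : Smooth U.hom)
    rintro _ ⟨w, rfl⟩
    by_contra hw
    let O : Set (U' ⊗ U).left := c.left ⁻¹' (Set.range i.left)ᶜ
    have hO : IsOpen O := i.left.isClosedEmbedding.isClosed_range.isOpen_compl.preimage c.left.continuous
    have hwO : (fst U' U).left w ∈ closure (Set.range ψ.left) := hdense ▸ Set.mem_univ _
    obtain ⟨_, ⟨w', hw', rfl⟩, x, hx⟩ := mem_closure_iff.1 hwO _ ((fst U' U).left.isOpenMap _ hO) ⟨w, hw, rfl⟩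
    obtain ⟨r, -, hr⟩ := Scheme.exists_preimage_of_isPullback
      (MaxOpenLib.isPullback_whiskerRight ψ U) x w' hx
    apply hw'
    rw [← hr, ← Scheme.Hom.comp_apply, ← Over.comp_left]
    exact hT ⟨r, rfl⟩
  haveI : IsReduced (U' ⊗ U).left := by
    haveI : Smooth (fst U' U).left :=
      MorphismProperty.of_isPullback (P := @Smooth) (GrpSchLib.isPullback_fst_snd).flip (inferInstance : Smooth U.hom)
    haveI : IsReduced U'.left := Groth.Agent.ASp.isReduced_of_smooth U'.hom
    exact Groth.Agent.ASp.isReduced_of_smooth (fst U' U).left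
  obtain ⟨z, hz⟩ := exists_factor_of_range i c hall
  intro T g m
  refine ⟨lift g m ≫ z, ?_⟩
  rw [Category.assoc, hz]
  simp only [c, MonObj.comp_mul, GrpObj.comp_inv, lift_fst, lift_snd_assoc]

end Groth.Agent.S17090
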