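import Groth.Statements.S17091
import Groth.Agent.UnipSolvLib.Main
import Groth.Agent.UnipSolvLib.Join
import Groth.Agent.UnipFixLib.Rad

set_option linter.all false
set_option backward.isDefEq.respectTransparency false
set_option backward.isDefEq.respectTransparency.types false
set_option autoImplicit false
universe u
open CategoryTheory MonoidalCategory CartesianMonoidalCategory MonObj GrpObj AlgebraicGeometry
open AGF

namespace Groth.Agent.S17091

/-- Let k be an algebraically closed field, G an affine, smooth, connected k-group scheme, u : U ⟶ G its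
unipotent radical (the largest normal closed subgroup scheme of G, smooth and quasi-compact over k,
whose geometric fibre is connected and contains no non-trivial subtorus), B a Borel subgroup of G
and v : V ⟶ B the unipotent radical of B. Then U is contained in V: u factors through v. -/
theorem result (k : Type u) [Field k] [IsAlgClosed k]
    (G : Over (Spec (CommRingCat.of k))) [GrpObj G] [IsAffine G.left] [Smooth G.hom] [ConnectedSpace ↥G.left]
    (U : Over (Spec (CommRingCat.of k))) [GrpObj U] (u : U ⟶ G) (hU : Par.IsUnipotentRadical u)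
    (B : Over (Spec (CommRingCat.of k))) [GrpObj B] (iB : B ⟶ G) (hB : Red.IsBorelOver k iB)
    (V : Over (Spec (CommRingCat.of k))) [GrpObj V] (v : V ⟶ B) (hV : Par.IsUnipotentRadical v) :
    ∃ f : U ⟶ V, f ≫ v ≫ iB = u := by
  obtain ⟨hmu, hcu, hnu, hsu, hqu, hfu, -⟩ := hU
  haveI := hmu
  haveI := hcu
  haveI := hsu
  haveI := hqu
  let pt : ↥(Spec (CommRingCat.of k)) := IsLocalRing.closedPoint k
  haveI : IsAffine U.left := isAffine_of_isAffineHom u.left
  haveI : Nonempty U.left := ⟨η[U].left pt⟩
  haveI : ConnectedSpace U.left := by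
    haveI : ConnectedSpace ↥(Limits.pullback U.hom (Red.geomPt pt)) := (hfu pt).1
    haveI : Surjective (Red.geomPt pt) := ⟨fun y => ⟨IsLocalRing.closedPoint _, @Subsingleton.elim _ (inferInstanceAs (Subsingleton (PrimeSpectrum k))) _ _⟩⟩
    have hs : Surjective (Limits.pullback.fst U.hom (Red.geomPt pt)) := inferInstance
    exact hs.surj.connectedSpace (Limits.pullback.fst U.hom (Red.geomPt pt)).continuous
  have hnt : Red.HasNoSubtorus k U := UnipFix.hasNoSubtorus_of_geomFibre U pt (hfu pt).2
  haveI := hB.1
  haveI : IsClosedImmersion iB.left := hB.2.1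
  haveI : Smooth B.hom := hB.2.2.1
  haveI : ConnectedSpace B.left := hB.2.2.2.1
  haveI : Mono iB := Over.mono_of_mono_left iB
  obtain ⟨M, gM, m, a', b', hm, hmc, hms, hmcon, hsol, ha', hb'⟩ :=
    UnipSolv.exists_solvable_join u iB (UnipSolv.isSolvableGrp_of_hasNoSubtorus hnt) hB.2.2.2.2.1
      (fun T y x => by obtain ⟨x', hx'⟩ := hnu T (y ≫ iB) x; exact ⟨x', by first | exact hx' | exact hx'.symm⟩)
  haveI := hB.2.2.2.2.2 M m b' hmc hms hmcon hsol hb'
  let f : U ⟶ B := a' ≫ inv b'
  have hf : f ≫ iB = u := by simp only [f, Category.assoc, ← hb', IsIso.inv_hom_id_assoc, ha']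
  haveI : IsMonHom f :=
    ⟨by rw [← cancel_mono iB, Category.assoc, hf, IsMonHom.one_hom u, IsMonHom.one_hom iB],
      by rw [← cancel_mono iB, Category.assoc, hf, IsMonHom.mul_hom u, Category.assoc, IsMonHom.mul_hom iB,
        MonoidalCategory.tensorHom_comp_tensorHom_assoc, hf]⟩
  haveI : IsClosedImmersion (f.left ≫ iB.left) := by rw [← Over.comp_left, hf]; infer_instance
  have hfc : IsClosedImmersion f.left := IsClosedImmersion.of_comp f.left iB.left
  have hfn : AlgGrp.IsNormalHom f := fun T g x => by
    obtain ⟨x', hx'⟩ := hnu T (g ≫ iB) x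
    refine ⟨x', (cancel_mono iB).1 ?_⟩
    simp only [MonObj.mul_comp, GrpObj.inv_comp, Category.assoc, hf, hx']
  obtain ⟨hmv, -, -, -, -, -, hmax⟩ := hV
  obtain ⟨l, hl⟩ := hmax U f hfc hfn hsu hqu hfu
  exact ⟨l, by rw [← Category.assoc, hl, hf]⟩

end Groth.Agent.S17091
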