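import Groth.Statements.S17100
import Groth.Agent.CenConnLib.Apps

set_option autoImplicit false
set_option backward.isDefEq.respectTransparency false
set_option backward.isDefEq.respectTransparency.types false
universe u
open CategoryTheory MonoidalCategory CartesianMonoidalCategory MonObj GrpObj AlgebraicGeometry
open AGF

namespace Groth.Agent.S17100

/-- General assertion made in its proof: let k be an algebraically closed field, G an affine, smooth,
connected k-group scheme, S a subtorus of G with centralizer c : C ⟶ G, and j : H ⟶ G a closed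
subgroup scheme which is smooth and connected and is normalised by S (conjugates of points of H by
points of S are points of H). Then the scheme-theoretic intersection C ∩ H (the fibre product of C
and H over G) is smooth over k and connected. -/
theorem result (k : Type u) [Field k] [IsAlgClosed k]
    (G : Over (Spec (CommRingCat.of k))) [GrpObj G] [IsAffine G.left] [Smooth G.hom] [ConnectedSpace ↥G.left]
    (S : Over (Spec (CommRingCat.of k))) [GrpObj S] (iS : S ⟶ G) [IsMonHom iS] [Mono iS] (hS : Red.IsTorus S)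
    (C : Over (Spec (CommRingCat.of k))) [GrpObj C] (c : C ⟶ G) (hc : Red.IsCentralizerOf iS c)
    (H : Over (Spec (CommRingCat.of k))) [GrpObj H] (j : H ⟶ G) [IsMonHom j] (hj : IsClosedImmersion j.left)
    [Smooth H.hom] [ConnectedSpace ↥H.left]
    (hnorm : ∀ (X : Over (Spec (CommRingCat.of k))) (s : X ⟶ S) (h : X ⟶ H), ∃ h' : X ⟶ H,
      (s ≫ iS) * (h ≫ j) * (s ≫ iS)⁻¹ = h' ≫ j)
    (I : Over (Spec (CommRingCat.of k))) (p : I ⟶ C) (q : I ⟶ H) (hI : IsPullback p q c j) :
    Smooth I.hom ∧ ConnectedSpace ↥I.left := by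
  haveI := hj
  haveI : Mono j := ⟨fun a b e => Over.OverMorphism.ext ((cancel_mono j.left).1 (congrArg CommaMorphism.left e))⟩
  haveI : Mono c := hc.2.1
  haveI : Mono q := hI.mono_snd_of_mono
  haveI : IsAffineHom H.hom := by rw [← Over.w j]; infer_instance
  haveI : IsAffine H.left := isAffine_of_isAffineHom H.hom
  obtain ⟨act, hact⟩ := hnorm (S ⊗ H) (fst S H) (snd S H)
  have hpt : ∀ (X : Over (Spec (CommRingCat.of k))) (s : X ⟶ S) (h : X ⟶ H),
      (lift s h ≫ act) ≫ j = (s ≫ iS) * (h ≫ j) * (s ≫ iS)⁻¹ := fun X s h => by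
    rw [Category.assoc, ← hact, MonObj.comp_mul, MonObj.comp_mul, GrpObj.comp_inv, lift_fst_assoc, lift_snd_assoc]
  let a : AlgGrp.Action S H :=
    { act := act
      one_act := by
        have h := hpt _ (fst (𝟙_ _) H ≫ η[S]) (snd (𝟙_ _) H)
        rw [← cancel_mono j, Category.assoc]
        have e : η[S] ▷ H = lift (fst (𝟙_ _) H ≫ η[S]) (snd (𝟙_ _) H) := by
          apply CartesianMonoidalCategory.hom_ext <;> simp
        rw [e, ← Category.assoc, h, leftUnitor_hom]
        have e1 : fst (𝟙_ (Over (Spec (CommRingCat.of k)))) H ≫ η[S] = 1 := by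
          rw [MonObj.one_eq_one, MonObj.comp_one]
        rw [e1, MonObj.one_comp, _root_.one_mul, inv_one, _root_.mul_one]
      mul_act := by
        rw [← cancel_mono j]
        have e : μ[S] ▷ H = lift (fst _ _ ≫ fst S S * fst _ _ ≫ snd S S) (snd (S ⊗ S) H) := by
          apply CartesianMonoidalCategory.hom_ext <;> simp [Hom.mul_def]
        have e2 : (α_ S S H).hom ≫ S ◁ act =
            lift (fst _ _ ≫ fst S S) (lift (fst _ _ ≫ snd S S) (snd (S ⊗ S) H) ≫ act) := by
          apply CartesianMonoidalCategory.hom_ext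
          · simp
          · simp only [Category.assoc, whiskerLeft_snd, lift_snd]
            rw [← Category.assoc]
            congr 1
            apply CartesianMonoidalCategory.hom_ext <;> simp
        rw [e, ← Category.assoc (α_ S S H).hom, e2, hpt, hpt, hpt, MonObj.mul_comp]
        group }
  have hmul : ∀ (X : Over (Spec (CommRingCat.of k))) (s : X ⟶ S) (h h' : X ⟶ H),
      lift s (h * h') ≫ a.act = (lift s h ≫ a.act) * (lift s h' ≫ a.act) := fun X s h h' => by
    show lift s (h * h') ≫ act = (lift s h ≫ act) * (lift s h' ≫ act)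
    rw [← cancel_mono j, MonObj.mul_comp, hpt, hpt, hpt, MonObj.mul_comp]
    group
  have hfix : ∀ (X : Over (Spec (CommRingCat.of k))) (h : X ⟶ H),
      (∃ w : X ⟶ I, w ≫ q = h) ↔ FixedSmooth.IsFixed act h := fun X h => by
    have h1 : (∃ w : X ⟶ I, w ≫ q = h) ↔ ∃ z : X ⟶ C, z ≫ c = h ≫ j :=
      ⟨fun ⟨w, hw⟩ => ⟨w ≫ p, by rw [Category.assoc, hI.w, reassoc_of% hw]⟩,
        fun ⟨z, hz⟩ => ⟨hI.lift z h hz, hI.lift_snd _ _ _⟩⟩
    rw [h1, hc.2.2]
    refine forall₃_congr fun X' x s => ?_
    rw [← cancel_mono j, hpt, mul_inv_eq_iff_eq_mul, Category.assoc]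
    exact eq_comm
  haveI := CenConn.lfp_of_isTorus hS
  haveI : IsAffineHom S.hom := FixedSmooth.isAffineHom_of_isMultTypeLoc (CenConn.isMultTypeLoc_of_isTorus hS)
  refine ⟨?_, CenConn.connectedSpace_fixed_field hS a hmul q hfix⟩
  obtain ⟨F, f, hf, hs, hF⟩ := FixedSmooth.exists_smooth_fixed (CenConn.isMultTypeLoc_of_isTorus hS) act
    (FixedSmooth.action_assoc a)
  obtain ⟨u, hu⟩ := (hfix F f).2 ((hF F f).1 ⟨𝟙 F, Category.id_comp f⟩)
  obtain ⟨v, hv⟩ := (hF I q).2 ((hfix I q).1 ⟨𝟙 I, Category.id_comp q⟩)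
  haveI := hf
  have hvu : v ≫ u = 𝟙 I := by rw [← cancel_mono q, Category.assoc, hu, hv, Category.id_comp]
  have huv : u ≫ v = 𝟙 F := by
    apply Over.OverMorphism.ext
    rw [← cancel_mono f.left, ← Over.comp_left, ← Over.comp_left, Category.assoc, hv, hu, Category.id_comp]
  haveI : IsIso v := ⟨u, hvu, huv⟩
  haveI := hs
  rw [← Over.w v]
  infer_instance

end Groth.Agent.S17100
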