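import Groth.Statements.S17102
import Groth.Agent.HilbObsLib.Ideal
import Groth.Agent.IdealStalkLib.Cartier
import Groth.Agent.TFOneLib.Modif2
import Groth.Agent.AssLib.Basic
import Groth.Agent.S10949

set_option autoImplicit false
universe u
open CategoryTheory CategoryTheory.Limits AlgebraicGeometry
open LogNCD

namespace Groth.Agent.S17102

open CategoryTheory CategoryTheory.Limits AlgebraicGeometry

set_option backward.isDefEq.respectTransparency false
set_option backward.defeqAttrib.useBackward true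
set_option linter.style.haveILetI false

open Groth.Agent Opposite TopologicalSpace

/-- Near every point all components are principal. -/
theorem exists_principal_nbhd {X S : Scheme.{u}} (f : X ⟶ S) {r : ℕ} (D : Fin r → X.IdealSheafData)
    (hD : LogNCD.IsNCD D f) (x : X) :
    ∃ W : X.Opens, x ∈ W ∧ ∀ U : X.affineOpens, U.1 ≤ W →
      ∃ g : Fin r → Γ(X, U.1), ∀ i, (D i).ideal U = Ideal.span {g i} := by
  classical
  by_cases h : Nonempty (LogNCD.Through D x)
  · obtain ⟨W, hxW, n, v, e, -, -, h1, h2⟩ := hD x h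
    refine ⟨W, hxW, fun U hU => ⟨fun i => if hi : x ∈ (D i).support then
      LogNCD.sectOn W hU (v (ULift.up (e ⟨i, hi⟩))) else 1, fun i => ?_⟩⟩
    by_cases hi : x ∈ (D i).support
    · simp only [dif_pos hi]; exact h1 ⟨i, hi⟩ U hU
    · simp only [dif_neg hi]; rw [h2 i hi U hU, Ideal.span_singleton_one]
  · have hout : ∀ i, x ∉ (D i).support := fun i hi => h ⟨⟨i, hi⟩⟩
    choose U hxU hU using fun i => IdealStalkLib.exists_unit_nhd (D i) (hout i)
    refine ⟨⟨⋂ i, ((U i).1 : Set X), isOpen_iInter_of_finite fun i => (U i).1.2⟩, Set.mem_iInter.2 hxU,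
      fun V hV => ⟨fun _ => 1, fun i => ?_⟩⟩
    rw [Ideal.span_singleton_one, ← Scheme.IdealSheafData.map_ideal (D i) (U := V) (V := U i)
      (fun z hz => Set.mem_iInter.1 (hV hz) i), hU i, Ideal.map_top]

theorem exists_affine' {X : Scheme.{u}} (x : X) {U : X.Opens} (hx : x ∈ U) :
    ∃ W : X.Opens, IsAffineOpen W ∧ x ∈ W ∧ W ≤ U := by
  obtain ⟨_, ⟨W, hW, rfl⟩, hxW, hWU⟩ := X.isBasis_affineOpens.exists_subset_of_mem_open hx U.2
  exact ⟨W, hW, hxW, hWU⟩


/-- Let f : X → S be smooth, (Ω', d) a universal receptacle for the differentials of X over S, D = (D_1,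
…, D_r) a relative strict normal crossing divisor and Ω¹(log D) the pinned sheaf of differentials
with logarithmic poles, with its inclusion ι of Ω' and residues res_j : Ω¹(log D) → O_{D_j}. Then
the residue sequence 0 → Ω' → Ω¹(log D) → ⊕_{j} O_{D_j} → 0, whose second map is the map into the
product (a finite direct sum) with components res_j, is a short exact sequence of O_X-modules. The
argument h, the vanishing of the composite, holds since every res_j ∘ ι vanishes; it is an argument
only so that the short complex can be formed. (Stated relative to an arbitrary base; the published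
statement is over an algebraically closed field.) -/
theorem result {X S : Scheme.{u}} (f : X ⟶ S) [Smooth f]
    {Ω' : X.Modules} (d : OmegaSh.Der f Ω') (hd : OmegaSh.IsUniversal d)
    {r : ℕ} (D : Fin r → X.IdealSheafData) (hD : LogNCD.IsNCD D f) (Λ : LogNCD.LogMod d D)
    (h : Λ.ι ≫ Pi.lift Λ.res = 0) :
    (ShortComplex.mk Λ.ι (Pi.lift Λ.res) h).ShortExact := by
  classical
  let L := Λ.L
  have hgen : ∀ (x : X) (z : L.presheaf.stalk x), ∀ V : X.Opens, x ∈ V → ∃ (U : X.affineOpens) (hxU : x ∈ U.1) (s : Γ(L, U.1))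
      (g : Fin r → Γ(X, U.1)), U.1 ≤ V ∧ (∀ i, (D i).ideal U = Ideal.span {g i}) ∧ L.presheaf.germ U.1 x hxU s = z := by
    intro x z V hxV
    obtain ⟨W, hxW, hW⟩ := exists_principal_nbhd f D hD x
    obtain ⟨O, hxO, s, rfl⟩ := TopCat.Presheaf.exists_germ_eq L.presheaf z
    obtain ⟨U, hU, hxU, hUO⟩ := exists_affine' x (U := V ⊓ W ⊓ O) ⟨⟨hxV, hxW⟩, hxO⟩
    obtain ⟨g, hg⟩ := hW ⟨U, hU⟩ (hUO.trans (inf_le_left.trans inf_le_right))
    exact ⟨⟨U, hU⟩, hxU, L.presheaf.map (homOfLE (hUO.trans inf_le_right)).op s, g,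
      hUO.trans (inf_le_left.trans inf_le_left), hg, L.presheaf.germ_res_apply _ _ _ _⟩
  have gsm : ∀ (M : X.Modules) (x : X) (U : X.Opens) (hx : x ∈ U) (a : Γ(X, U)) (m : Γ(M, U)),
      M.presheaf.germ U x hx (a • m) = X.presheaf.germ U x hx a • M.presheaf.germ U x hx m := fun M x U hx a m =>
    PresheafOfModules.germ_smul (R := X.presheaf) M.val x U hx a m
  have hproj : ∀ j, Pi.lift Λ.res ≫ Pi.π (fun i => ClSub.quotMod (D i)) j = Λ.res j := fun j => Pi.lift_π _ _
  let inc : ∀ j, ClSub.quotMod (D j) ⟶ ∏ᶜ fun i => ClSub.quotMod (D i) := fun j =>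
    Pi.lift fun i => if e : j = i then eqToHom (by rw [e]) else 0
  have htot : ∑ j, Pi.π (fun i => ClSub.quotMod (D i)) j ≫ inc j = 𝟙 _ := Pi.hom_ext _ _ fun i => by
    rw [Preadditive.sum_comp, Category.id_comp, Finset.sum_eq_single i]
    · simp [inc]
    · intro j _ hji
      simp [inc, hji]
    · simp
  refine { exact := ?_, mono_f := Λ.mono, epi_g := ?_ }
  · refine Groth.Agent.HilbObsLib.exact_of_stalk fun x z hz => ?_
    change PullbackMod.stalkLin (Pi.lift Λ.res) x z = 0 at hz
    obtain ⟨U₀, hxU₀, s₀, g₀, -, hg₀, rfl⟩ := hgen x z ⊤ trivial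
    have hres : ∀ j, ∃ (O : X.Opens) (_ : x ∈ O) (hle : O ≤ U₀.1),
        (Λ.res j).app O (L.presheaf.map (homOfLE hle).op s₀) = 0 := fun j => by
      have h1 : PullbackMod.stalkLin (Λ.res j) x (L.presheaf.germ U₀.1 x hxU₀ s₀) = 0 := by
        rw [← hproj j, PullbackMod.stalkLin_comp, LinearMap.comp_apply, hz, map_zero]
      rw [PullbackMod.stalkLin_germ] at h1
      obtain ⟨O, hxO, i₁, i₂, he⟩ := TopCat.Presheaf.germ_eq (ClSub.quotMod (D j)).presheaf x hxU₀ hxU₀ _ 0
        (h1.trans (map_zero _).symm)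
      refine ⟨O, hxO, i₁.le, ?_⟩
      refine (PresheafOfModules.naturality_apply (Λ.res j).val (homOfLE i₁.le).op s₀).trans ?_
      exact he.trans (map_zero _)
    choose O hxO hle hO using hres
    obtain ⟨W, hxW, hW⟩ := exists_principal_nbhd f D hD x
    obtain ⟨U, hU, hxU, hUO⟩ := exists_affine' x (U := W ⊓ U₀.1 ⊓ ⟨⋂ j, (O j : Set X), isOpen_iInter_of_finite fun j => (O j).2⟩)
      ⟨⟨hxW, hxU₀⟩, Set.mem_iInter.2 hxO⟩
    obtain ⟨g, hg⟩ := hW ⟨U, hU⟩ (hUO.trans (inf_le_left.trans inf_le_left))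
    let s : Γ(L, U) := L.presheaf.map (homOfLE (hUO.trans (inf_le_left.trans inf_le_right))).op s₀
    have hs : ∀ j, (Λ.res j).app U s = 0 := fun j => by
      have hUj : U ≤ O j := fun z hz => Set.mem_iInter.1 (hUO hz).2 j
      have e : s = L.presheaf.map (homOfLE hUj).op (L.presheaf.map (homOfLE (hle j)).op s₀) := by
        rw [← ConcreteCategory.comp_apply, ← L.presheaf.map_comp]
        rfl
      rw [e]
      refine (PresheafOfModules.naturality_apply (Λ.res j).val (homOfLE hUj).op _).trans ?_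
      exact (congrArg _ (hO j)).trans (map_zero _)
    obtain ⟨-, dl, hdl, hspan, hr1, hr0⟩ := Λ.rule ⟨U, hU⟩ g hg
    have hmem : s ∈ Submodule.span Γ(X, U) (Set.range ((Λ.ι.val.app (op U)).hom) ∪ Set.range dl) := hspan ▸ trivial
    rw [Submodule.span_union, Submodule.mem_sup] at hmem
    obtain ⟨w, hw, t, ht, hwt⟩ := hmem
    rw [← LinearMap.coe_range, Submodule.span_eq] at hw
    obtain ⟨w, rfl⟩ := hw
    obtain ⟨a, rfl⟩ := (Submodule.mem_span_range_iff_exists_fun _).1 ht
    have ha : ∀ j, ∃ b, a j = b * g j := fun j => by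
      have h1 := hs j
      rw [← hwt] at h1
      change ((Λ.res j).val.app (op U)).hom (_ + _) = 0 at h1
      rw [map_add, map_sum, Finset.sum_eq_single j (fun i _ hij => by rw [map_smul, hr0 i j hij]; exact smul_zero (M := Γ(X, U)) _) (fun h => absurd (Finset.mem_univ j) h),
        map_smul, hr1 j] at h1
      have h2 : ((Λ.res j).val.app (op U)).hom ((Λ.ι.val.app (op U)).hom w) = 0 :=
        congrArg (fun φ : Ω' ⟶ ClSub.quotMod (D j) => (φ.val.app (op U)).hom w) (Λ.res_ι j)
      rw [h2, zero_add] at h1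
      have h3 : a j ∈ RingHom.ker ((D j).subschemeι.app U).hom := by
        refine Eq.trans ?_ h1
        exact (congrArg ((D j).subschemeι.app U).hom (mul_one (a j)).symm).trans (map_mul _ _ _)
      rw [Scheme.IdealSheafData.ker_subschemeι_app (D j) ⟨U, hU⟩, hg j, Ideal.mem_span_singleton'] at h3
      obtain ⟨b, hb⟩ := h3
      exact ⟨b, hb.symm⟩
    choose b hb using ha
    let w' : Ω'.val.obj (op U) := w + ∑ j, b j • (show Ω'.val.obj (op U) from d.app U (g j))
    refine ⟨Ω'.presheaf.germ U x hxU w', ?_⟩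
    refine (PullbackMod.stalkLin_germ Λ.ι x hxU _).trans ?_
    rw [← L.presheaf.germ_res_apply (homOfLE (hUO.trans (inf_le_left.trans inf_le_right))) x hxU s₀]
    refine congrArg _ ?_
    show (Λ.ι.val.app (op U)).hom w' = s
    rw [← hwt]; simp only [w']; rw [map_add, map_sum]
    refine congrArg _ (Finset.sum_congr rfl fun j _ => ?_)
    rw [map_smul, ← hdl j, smul_smul, ← hb j]
  · refine (PullbackMod.epi_iff_stalk _).2 fun x y => ?_
    change ∃ z, PullbackMod.stalkLin (Pi.lift Λ.res) x z = y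
    have hc : ∀ j, ∃ z, PullbackMod.stalkLin (Λ.res j) x z =
        PullbackMod.stalkLin (Pi.π (fun i => ClSub.quotMod (D i)) j) x y ∧
        ∀ i, j ≠ i → PullbackMod.stalkLin (Λ.res i) x z = 0 := fun j => by
      obtain ⟨O, hxO, c, hc⟩ := TopCat.Presheaf.exists_germ_eq (ClSub.quotMod (D j)).presheaf
        (PullbackMod.stalkLin (Pi.π (fun i => ClSub.quotMod (D i)) j) x y)
      obtain ⟨W, hxW, hW⟩ := exists_principal_nbhd f D hD x
      obtain ⟨U, hU, hxU, hUO⟩ := exists_affine' x (U := W ⊓ O) ⟨hxW, hxO⟩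
      obtain ⟨g, hg⟩ := hW ⟨U, hU⟩ (hUO.trans inf_le_left)
      obtain ⟨-, dl, hdl, -, hr1, hr0⟩ := Λ.rule ⟨U, hU⟩ g hg
      obtain ⟨a, ha⟩ := (D j).subschemeι_app_surjective ⟨U, hU⟩
        ((ClSub.quotMod (D j)).presheaf.map (homOfLE (hUO.trans inf_le_right)).op c)
      refine ⟨L.presheaf.germ U x hxU (a • dl j), ?_, fun i hij => ?_⟩
      · rw [PullbackMod.stalkLin_germ, ← hc,
          ← (ClSub.quotMod (D j)).presheaf.germ_res_apply (homOfLE (hUO.trans inf_le_right)) x hxU c]
        refine congrArg _ ?_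
        show ((Λ.res j).val.app (op U)).hom (a • dl j) = _
        rw [map_smul, hr1 j]
        refine Eq.trans ?_ ha
        exact ((map_mul ((D j).subschemeι.app U).hom a 1).symm.trans (congrArg _ (mul_one a)))
      · rw [PullbackMod.stalkLin_germ]
        have h2 : (Λ.res i).app U (a • dl j) = 0 := by
          show ((Λ.res i).val.app (op U)).hom (a • dl j) = 0
          rw [map_smul, hr0 j i hij]; exact smul_zero (M := Γ(X, U)) _
        rw [h2, map_zero]
    choose z hz1 hz0 using hc
    refine ⟨∑ j, z j, ?_⟩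
    have hsum : ∀ w : (∏ᶜ fun i => ClSub.quotMod (D i) : X.Modules).presheaf.stalk x,
        (∀ i, PullbackMod.stalkLin (Pi.π (fun i => ClSub.quotMod (D i)) i) x w = 0) → w = 0 := by
      intro w hw
      have h1 : PullbackMod.stalkLin (𝟙 (∏ᶜ fun i => ClSub.quotMod (D i) : X.Modules)) x w = w := by
        obtain ⟨V, hV, m, rfl⟩ := TopCat.Presheaf.exists_germ_eq (∏ᶜ fun i => ClSub.quotMod (D i) : X.Modules).presheaf w
        rw [PullbackMod.stalkLin_germ]
        rfl
      rw [← h1, ← htot, S10949.stalkLin_sum, LinearMap.sum_apply]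
      exact Finset.sum_eq_zero fun i _ => by rw [PullbackMod.stalkLin_comp, LinearMap.comp_apply, hw i, map_zero]
    refine sub_eq_zero.1 (hsum _ fun i => ?_)
    rw [map_sub, ← LinearMap.comp_apply, ← PullbackMod.stalkLin_comp, hproj, map_sum,
      Finset.sum_eq_single i (fun j _ hji => hz0 j i hji) (by simp), hz1, sub_self]

end Groth.Agent.S17102
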