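import Groth.Statements.S17101
import Groth.Agent.LogBasisLib.Coord
import Groth.Agent.S17102
import Groth.Agent.QCohLib.Exact
import Groth.Agent.QCohLib.Push
import Groth.Agent.DCohLib.HDCoprod
import Groth.Agent.S5744
import Groth.Agent.OmegaUnivLib.Aff
import Groth.Agent.EtAlgEasy.OmegaSmooth2
import Groth.Agent.FreeFiniteLib.Basic
import Groth.Agent.PullbackMod.LimFree
-- import your own Groth.Agent.* helpers here

set_option autoImplicit false
universe u
open CategoryTheory AlgebraicGeometry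
open LogNCD

namespace Groth.Agent.S17101

set_option backward.isDefEq.respectTransparency false
set_option linter.style.haveILetI false

open CategoryTheory CategoryTheory.Limits AlgebraicGeometry Opposite TopologicalSpace
open Groth.Agent

theorem isQCoh_quotMod {X : Scheme.{u}} (I : X.IdealSheafData) : Coh.IsQCoh (ClSub.quotMod I) := by
  haveI : Coh.IsQCoh (Coh.structureModule I.subscheme) :=
    inferInstanceAs (Coh.IsQCoh (SheafOfModules.unit I.subscheme.ringCatSheaf))
  exact QCohLib.isQCoh_pushforward (Coh.structureModule I.subscheme) I.subschemeι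

theorem isQCoh_L {X S : Scheme.{u}} (f : X ⟶ S) [Smooth f] {Ω' : X.Modules} (d : OmegaSh.Der f Ω')
    (hd : OmegaSh.IsUniversal d) {r : ℕ} (D : Fin r → X.IdealSheafData) (hD : LogNCD.IsNCD D f)
    (Λ : LogNCD.LogMod d D) : Coh.IsQCoh Λ.L := by
  have h : Λ.ι ≫ Pi.lift Λ.res = 0 := Pi.hom_ext _ _ fun i => by simp [Λ.res_ι]
  refine QCohLib.isQCoh_X₂ (S17102.result f d hd D hD Λ h) (OmegaUnivLib.isQCoh_of_universal hd) ?_
  exact DCohLib.isQCoh_of_iso' (Pi.whiskerEquiv (f := fun i : ULift.{u} (Fin r) => ClSub.quotMod (D i.down))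
    Equiv.ulift fun _ => Iso.refl _) (S5744.aux_pi _ fun i => isQCoh_quotMod (D i.down))

/-- Linear algebra of the chart. -/
theorem nonempty_basis {B M N : Type u} [CommRing B] [AddCommGroup M] [Module B M] [AddCommGroup N] [Module B N]
    (ι : M →ₗ[B] N) (hι : Function.Injective ι) {n r : ℕ} (b : Module.Basis (Fin n) B M) (g : Fin r → B)
    (dl : Fin r → N) (hspan : Submodule.span B (Set.range ι ∪ Set.range dl) = ⊤)
    (htf : ∀ x : N, (∏ i, g i) • x = 0 → x = 0) {T : Fin r → Prop} (e : {i // T i} → Fin n)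
    (he : Function.Injective e) (hT : ∀ i : {i // T i}, g i.1 • dl i.1 = ι (b (e i)))
    (hnT : ∀ i, ¬ T i → dl i ∈ Set.range ι) :
    Nonempty (Module.Basis (Fin n) B N) := by
  classical
  let c : Fin n → B := fun k => if h : ∃ i, e i = k then g h.choose.1 else 1
  let w : Fin n → N := fun k => if h : ∃ i, e i = k then dl h.choose.1 else ι (b k)
  have hcw : ∀ k, c k • w k = ι (b k) := fun k => by
    simp only [c, w]
    split_ifs with h
    · exact (hT h.choose).trans (congrArg _ (congrArg _ h.choose_spec))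
    · exact one_smul _ _
  have hdvd : ∀ k, c k ∣ ∏ i, g i := fun k => by
    simp only [c]
    split_ifs with h
    · exact Finset.dvd_prod_of_mem _ (Finset.mem_univ _)
    · exact one_dvd _
  have hli : LinearIndependent B w := by
    rw [Fintype.linearIndependent_iff]
    intro a ha
    choose q hq using hdvd
    have h0 : ι (∑ k, (a k * q k) • b k) = 0 := by
      rw [map_sum]
      refine Eq.trans ?_ ((congrArg ((∏ i, g i) • ·) ha).trans (smul_zero _))
      rw [Finset.smul_sum]
      refine Finset.sum_congr rfl fun k _ => ?_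
      rw [map_smul, ← hcw k, smul_smul, smul_smul, hq k]
      ring_nf
    have h1 := Fintype.linearIndependent_iff.1 b.linearIndependent _ (hι (h0.trans (map_zero ι).symm))
    intro k
    have h2 : a k • w k = 0 := htf _ (by
      rw [smul_smul, hq k, show c k * q k * a k = a k * q k * c k by ring, mul_smul, hcw, h1 k, zero_smul])
    have h3 : ι (a k • b k) = 0 := by rw [map_smul, ← hcw, smul_comm, h2, smul_zero]
    have h4 := congrArg (fun m => b.repr m k) (hι (h3.trans (map_zero ι).symm))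
    simpa using h4
  refine ⟨Module.Basis.mk hli ?_⟩
  rw [← hspan, Submodule.span_le]
  have hsub : Set.range ι ⊆ (Submodule.span B (Set.range w) : Set N) := by
    rintro _ ⟨m, rfl⟩
    rw [← b.sum_repr m, map_sum]
    refine sum_mem fun k _ => ?_
    rw [map_smul, ← hcw k, smul_smul]
    exact Submodule.smul_mem _ _ (Submodule.subset_span ⟨k, rfl⟩)
  rintro x (hx | ⟨i, rfl⟩)
  · exact hsub hx
  · by_cases hi : T i
    · refine Submodule.subset_span ⟨e ⟨i, hi⟩, ?_⟩
      have h : ∃ j, e j = e ⟨i, hi⟩ := ⟨_, rfl⟩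
      simp only [w, dif_pos h]
      rw [he h.choose_spec]
    · exact hsub (hnT i hi)

theorem nonempty_equiv_sections {X : Scheme.{u}} (M : X.Modules) {U : X.Opens} (hU : IsAffineOpen U) (n : ℕ)
    (i : M.restrict U.ι ≅ FlatMod.freeMod (↑U) n) : Nonempty (Γ(M, U) ≃ₗ[Γ(X, U)] (Fin n → Γ(X, U))) := by
  let v : Spec Γ(X, U) ⟶ (U : Scheme.{u}) := hU.isoSpec.inv
  let F := Scheme.Modules.restrictFunctor v
  haveI : PreservesColimitsOfSize.{u, u} F :=
    (Scheme.Modules.restrictAdjunction v).leftAdjoint_preservesColimits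
  let e1 := ((Scheme.Modules.restrictFunctorComp v U.ι).symm ≪≫
      Scheme.Modules.restrictFunctorCongr (g := hU.fromSpec)
        (show v ≫ U.ι = hU.fromSpec by simp [v, IsAffineOpen.isoSpec_inv_ι])).symm.app M ≪≫
    F.mapIso i ≪≫
    F.mapIso (Sigma.whiskerEquiv (Equiv.ulift.{u, 0} (α := Fin n)) fun _ => Iso.refl _).symm ≪≫
    PreservesCoproduct.iso F _ ≪≫
    Limits.Sigma.mapIso (fun _ => Scheme.Modules.restrictUnitIso v) ≪≫
    (tildeFinsupp _).symm
  let eΓ := (moduleSpecΓFunctor (R := Γ(X, U))).mapIso e1 ≪≫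
    ((tilde.toTildeΓNatIso (R := Γ(X, U))).app _).symm
  exact ⟨((QCohLib.topEquiv M hU).symm.trans eΓ.toLinearEquiv).trans
      ((Finsupp.linearEquivFunOnFinite _ _ _).trans
        (LinearEquiv.funCongrLeft _ _ (Equiv.ulift.{u, 0} (α := Fin n)).symm))⟩

/-- Let f : X → S be smooth of relative dimension n, (Ω', d) a universal receptacle for the
differentials of X over S, D = (D_1, …, D_r) a relative strict normal crossing divisor (each point
of the divisor has an étale chart to affine n-space over S in which the components through it are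
coordinate hyperplanes) and Ω¹(log D) the sheaf of differentials with logarithmic poles along D,
pinned with its inclusion of Ω' and its residue maps by the affine-local description. Then Ω¹(log D)
is a finite locally free O_X-module of rank n; locally a basis is dv_1/v_1, …, dv_s/v_s, dv_{s+1},
…, dv_n for the chart coordinates v_i. (Stated relative to an arbitrary base scheme with étale
coordinates in place of local parameters; the published statement is for a manifold over an
algebraically closed field and also lists the induced bases of the higher exterior powers.) -/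
theorem result {X S : Scheme.{u}} (f : X ⟶ S) (n : ℕ)
    [SmoothOfRelativeDimension n f] {Ω' : X.Modules} (d : OmegaSh.Der f Ω') (hd : OmegaSh.IsUniversal d)
    {r : ℕ} (D : Fin r → X.IdealSheafData) (hD : LogNCD.IsNCD D f) (Λ : LogNCD.LogMod d D) :
    FlatMod.IsFinLocFreeOfRank n Λ.L := by
  classical
  haveI : Smooth f := SmoothOfRelativeDimension.smooth n f
  haveI := isQCoh_L f d hd D hD Λ
  haveI := OmegaUnivLib.isQCoh_of_universal hd
  intro x
  obtain ⟨U₀, m, hxU₀, ⟨e₀⟩, hdim⟩ := EtAlgEasy.OmegaSmooth.exists_freeMod_omega f hd x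
  rw [S2768.result n f x] at hdim
  obtain rfl : n = m := by exact_mod_cast hdim
  haveI : Mono Λ.ι := Λ.mono
  suffices ∃ (U : X.Opens) (k : ℕ), IsAffineOpen U ∧ x ∈ U ∧ Nonempty (Module.Basis (Fin k) Γ(X, U) Γ(Ω', U)) ∧
      Nonempty (Module.Basis (Fin k) Γ(X, U) Γ(Λ.L, U)) by
    obtain ⟨U, k, hU, hxU, ⟨b⟩, ⟨b'⟩⟩ := this
    obtain ⟨i⟩ := FlatLocus.nonempty_iso_freeMod Ω' hU k b.equivFun
    obtain rfl : k = n :=
      PullbackMod.freeAt_unique _ (PullbackMod.freeAt_of_restrict_iso _ i hxU) (PullbackMod.freeAt_of_restrict_iso _ e₀ hxU₀)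
    exact ⟨U, hxU, FlatLocus.nonempty_iso_freeMod Λ.L hU k b'.equivFun⟩
  have key : ∀ (U : X.affineOpens) {k : ℕ} (b : Module.Basis (Fin k) Γ(X, U.1) Γ(Ω', U.1)) (g : Fin r → Γ(X, U.1)),
      (∀ i, (D i).ideal U = Ideal.span {g i}) → ∀ {T : Fin r → Prop} (e : {i // T i} → Fin k), Function.Injective e →
      (∀ i : {i // T i}, b (e i) = d.app U.1 (g i.1)) → (∀ i, ¬ T i → g i = 1) →
      Nonempty (Module.Basis (Fin k) Γ(X, U.1) Γ(Λ.L, U.1)) := by
    intro U k b g hg T e he hb hnT
    obtain ⟨htf, dl, hdl, hspan, -, -⟩ := Λ.rule U g hg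
    haveI : Mono ((SheafOfModules.forget X.ringCatSheaf).map Λ.ι) := inferInstance
    let φ := (PresheafOfModules.evaluation X.ringCatSheaf.obj (op U.1)).map ((SheafOfModules.forget X.ringCatSheaf).map Λ.ι)
    have hinj : Function.Injective (Λ.ι.app U.1) := (ModuleCat.mono_iff_injective φ).1 inferInstance
    let ιU : Γ(Ω', U.1) →ₗ[Γ(X, U.1)] Γ(Λ.L, U.1) :=
      { toFun := Λ.ι.app U.1
        map_add' := map_add (Λ.ι.app U.1).hom
        map_smul' := fun a m => Scheme.Modules.Hom.app_smul Λ.ι a m }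
    refine nonempty_basis (M := Γ(Ω', U.1)) (N := Γ(Λ.L, U.1)) ιU hinj b g dl hspan htf e he
      (fun i => (hdl i.1).trans (congrArg _ (hb i).symm)) fun i hi => ⟨d.app U.1 (g i), ?_⟩
    refine (hdl i).symm.trans ?_
    rw [hnT i hi, one_smul]
  by_cases h : Nonempty (LogNCD.Through D x)
  · obtain ⟨W, hxW, k, v, e, he, hetale, h1, h2⟩ := hD x h
    obtain ⟨_, ⟨V, hV, rfl⟩, hxV, -⟩ :=
      S.isBasis_affineOpens.exists_subset_of_mem_open (Set.mem_univ (f x)) isOpen_univ
    obtain ⟨U, hU, hxU, hUle⟩ := S17102.exists_affine' x (U := W ⊓ f ⁻¹ᵁ V) ⟨hxW, hxV⟩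
    haveI := hetale
    obtain ⟨ψ, hψ, hC, hX⟩ := LogBasisLib.exists_coord_etale f W v ⟨U, hU⟩ (hUle.trans inf_le_left) ⟨V, hV⟩
      (hUle.trans inf_le_right)
    letI := (f.appLE V U (hUle.trans inf_le_right)).hom.toAlgebra
    obtain ⟨b, hb⟩ := LogBasisLib.exists_basis_D (A := Γ(S, V)) ψ hψ hC
    obtain ⟨T, hT⟩ := OmegaUnivLib.exists_lin_of_der d (hUle.trans inf_le_right)
    let E := LinearEquiv.ofBijective T (OmegaUnivLib.bijective_of_universal hV hU _ hd T hT)
    let b' : Module.Basis (Fin k) Γ(X, U) Γ(Ω', U) := (b.map E).reindex Equiv.ulift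
    refine ⟨U, k, hU, hxU, ⟨b'⟩, key ⟨U, hU⟩ b' (fun i => if hi : x ∈ (D i).support then
      LogNCD.sectOn W (hUle.trans inf_le_left) (v (ULift.up (e ⟨i, hi⟩))) else 1) (fun i => ?_)
      (T := fun i => x ∈ (D i).support) e he (fun i => ?_) fun i hi => dif_neg hi⟩
    · by_cases hi : x ∈ (D i).support
      · simp only [dif_pos hi]; exact h1 ⟨i, hi⟩ ⟨U, hU⟩ (hUle.trans inf_le_left)
      · simp only [dif_neg hi]; rw [h2 i hi ⟨U, hU⟩ (hUle.trans inf_le_left), Ideal.span_singleton_one]
    · simp only [b', Module.Basis.reindex_apply, Module.Basis.map_apply, hb, hX]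
      rw [dif_pos i.2]
      exact hT _
  · have hout : ∀ i, x ∉ (D i).support := fun i hi => h ⟨⟨i, hi⟩⟩
    choose O hxO hO using fun i => IdealStalkLib.exists_unit_nhd (D i) (hout i)
    obtain ⟨U, hU, hxU, hUle⟩ := S17102.exists_affine' x
      (U := U₀ ⊓ ⟨⋂ i, ((O i).1 : Set X), isOpen_iInter_of_finite fun i => (O i).1.2⟩) ⟨hxU₀, Set.mem_iInter.2 hxO⟩
    obtain ⟨i₀⟩ := FreeFiniteLib.nonempty_restrict_free_of_le Ω' (hUle.trans inf_le_left) e₀
    obtain ⟨E⟩ := nonempty_equiv_sections Ω' hU n i₀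
    let b := Module.Basis.ofEquivFun E
    refine ⟨U, n, hU, hxU, ⟨b⟩, key ⟨U, hU⟩ b (fun _ => 1) (fun i => ?_) (T := fun _ => False)
      (fun i => i.2.elim) (fun i => i.2.elim) (fun i => i.2.elim) fun _ _ => rfl⟩
    rw [Ideal.span_singleton_one, ← Scheme.IdealSheafData.map_ideal (D i) (U := ⟨U, hU⟩) (V := O i)
      (fun z hz => Set.mem_iInter.1 (hUle hz).2 i), hO i, Ideal.map_top]

end Groth.Agent.S17101
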