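import Groth.Statements.S17119
import Groth.Agent.H1ZeroLib.Quot

set_option autoImplicit false
universe u
open CategoryTheory CategoryTheory.Limits AlgebraicGeometry
open LogNCD

namespace Groth.Agent.S17119

open CategoryTheory CategoryTheory.Limits AlgebraicGeometry

set_option backward.isDefEq.respectTransparency false
set_option backward.defeqAttrib.useBackward true
set_option linter.style.haveILetI false

set_option maxHeartbeats 1000000

open Groth.Agent Opposite Groth.Agent.PullbackMod Groth.Agent.DCohLib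
open scoped TensorProduct

theorem mem_smul_top_of_tmul_eq_zero {A M Q : Type u} [CommRing A] [AddCommGroup M] [Module A M] [AddCommGroup Q]
    [Module A Q] (φ : A →ₗ[A] Q) (hφ : Function.Surjective φ) (I : Ideal A) (hI : LinearMap.ker φ ≤ I) (e : M)
    (h : e ⊗ₜ[A] φ 1 = 0) : e ∈ I • (⊤ : Submodule A M) := by
  obtain ⟨w, hw⟩ := (lTensor_exact M (LinearMap.exact_subtype_ker_map φ) hφ (e ⊗ₜ[A] 1)).1
    (by rw [LinearMap.lTensor_tmul]; exact h)
  have key : ∀ w, TensorProduct.rid A M ((LinearMap.ker φ).subtype.lTensor M w) ∈ I • (⊤ : Submodule A M) := by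
    intro w
    induction w with
    | zero => rw [map_zero, map_zero]; exact zero_mem _
    | tmul n a => rw [LinearMap.lTensor_tmul, TensorProduct.rid_tmul]; exact Submodule.smul_mem_smul (hI a.2) trivial
    | add a b ha hb => rw [map_add, map_add]; exact add_mem ha hb
  have := key w
  rwa [hw, TensorProduct.rid_tmul, one_smul] at this


/-- Let f : X → S be smooth, (Ω', d) a universal receptacle for the differentials of X over S, D = (D_1,
…, D_r) a relative strict normal crossing divisor with pinned log module Ω¹(log D) and residues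
res_j : Ω¹(log D) → O_{D_j}, E a finite locally free O_X-module and ∇ : E → E ⊗ Ω¹(log D) a
logarithmic connection along D (a map of abelian sheaves with the Leibniz rule). Then for every
component D_i the residue of ∇ along D_i, the composite (1 ⊗ res_i) ∘ ∇ : E → E ⊗ O_{D_i}, is
O_X-linear, i.e. it is induced by an O_X-module morphism ρ, and ρ factors through the restriction
map E ≅ E ⊗ O_X → E ⊗ O_{D_i}: there is an O_X-linear endomorphism R of E ⊗ O_{D_i} whose composite
with the restriction is ρ (the residue as an endomorphism of E restricted to D_i). (Stated relative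
to an arbitrary base; the published statement is over an algebraically closed field, with the module
as the right tensor factor.) -/
theorem result {X S : Scheme.{u}} (f : X ⟶ S) [Smooth f]
    {Ω' : X.Modules} (d : OmegaSh.Der f Ω') (hd : OmegaSh.IsUniversal d)
    {r : ℕ} (D : Fin r → X.IdealSheafData) (hD : LogNCD.IsNCD D f) (Λ : LogNCD.LogMod d D)
    (E : X.Modules) (hE : FlatMod.IsFinLocFree E)
    (nabla : Coh.toAb E ⟶ Coh.toAb (CohB1.tensorMod E Λ.L)) (hc : ConnSh.IsConn (LogNCD.der Λ) E nabla)
    (i : Fin r) :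
    ∃ ρ : E ⟶ CohB1.tensorMod E (ClSub.quotMod (D i)), LogNCD.IsResidue Λ E nabla i ρ ∧
      ∃ R : CohB1.tensorMod E (ClSub.quotMod (D i)) ⟶ CohB1.tensorMod E (ClSub.quotMod (D i)),
        (SecTwist.unitorR E).inv ≫ KoszTw.tensorMap (𝟙 E) (ClSub.toSubscheme (D i)) ≫ R = ρ := by
  classical
  let Q := ClSub.quotMod (D i)
  let T := CohB1.tensorMod E Q
  let N := KoszTw.tensorMap (𝟙 E) (Λ.res i)
  let ψ := nabla ≫ (SheafOfModules.toSheaf X.ringCatSheaf).map N
  let app : (U : X.Opens) → Γ(E, U) → Γ(T, U) := fun U e => N.app U (ConnSh.secApp nabla U e)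
  have hlin : ∀ (U : X.Opens) (t : Γ(X, U)) (e : Γ(E, U)), app U (t • e) = t • app U e := fun U t e => by
    show (N.val.app (op U)).hom (ConnSh.secApp nabla U (t • e)) = t • (N.val.app (op U)).hom (ConnSh.secApp nabla U e)
    rw [hc U t e, map_add, map_smul]
    refine add_eq_left.2 ?_
    refine (KoszTw.tensorMap_tmul _ _ U _ _).trans ?_
    have h0 : ((Λ.res i).val.app (op U)).hom ((LogNCD.der Λ).app U t) = 0 :=
      congrArg (fun φ : Ω' ⟶ Q => (φ.val.app (op U)).hom (d.app U t)) (Λ.res_ι i)
    show SecTwist.tmul E Q U e (((Λ.res i).val.app (op U)).hom ((LogNCD.der Λ).app U t)) = 0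
    rw [h0]
    show ((SecTwist.toTensor E Q).app (op U)).hom (e ⊗ₜ 0) = 0
    rw [TensorProduct.tmul_zero, map_zero]
  let ρ : E ⟶ T := ⟨PresheafOfModules.homMk ψ.hom fun U t e => hlin U.unop t e⟩
  have hρ : LogNCD.IsResidue Λ E nabla i ρ := rfl
  let p : E ⟶ T := (SecTwist.unitorR E).inv ≫ KoszTw.tensorMap (𝟙 E) (ClSub.toSubscheme (D i))
  haveI : Epi (ClSub.toSubscheme (D i)) := HilbObsLib.epi_toSubscheme (D i)
  have hp : ∀ (U : X.Opens) (e : Γ(E, U)), p.app U e =
      SecTwist.tmul E Q U e ((ClSub.toSubscheme (D i)).app U (1 : Γ(X, U))) := fun U e => by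
    have h1 : (SecTwist.unitorR E).inv.app U e = SecTwist.tmul E (Coh.structureModule X) U e (1 : Γ(X, U)) := by
      refine (congrArg ((SecTwist.unitorR E).inv.app U) ((SecTwist.unitorR_tmul E U e 1).trans (one_smul (X.ringCatSheaf.obj.obj (op U)) (show E.val.obj (op U) from e))).symm).trans ?_
      exact congrArg (fun φ : CohB1.tensorMod E (Coh.structureModule X) ⟶ _ => φ.app U
        (SecTwist.tmul E (Coh.structureModule X) U e (1 : Γ(X, U)))) (SecTwist.unitorR E).hom_inv_id
    show (KoszTw.tensorMap (𝟙 E) (ClSub.toSubscheme (D i))).app U ((SecTwist.unitorR E).inv.app U e) = _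
    rw [h1]
    exact KoszTw.tensorMap_tmul _ _ U _ _
  have hker : kernel.ι p ≫ ρ = 0 := by
    refine (eq_zero_iff_stalk _).2 fun x => LinearMap.ext fun z => ?_
    rw [stalkLin_comp, LinearMap.comp_apply, LinearMap.zero_apply]
    have hz : stalkLin p x (stalkLin (kernel.ι p) x z) = 0 := by
      rw [← LinearMap.comp_apply, ← stalkLin_comp, kernel.condition, (eq_zero_iff_stalk (0 : kernel p ⟶ T)).1 rfl x]
      rfl
    generalize stalkLin (kernel.ι p) x z = n at hz
    obtain ⟨U, hxU, e, rfl⟩ := TopCat.Presheaf.exists_germ_eq E.presheaf n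
    rw [stalkLin_germ, hp] at hz
    have hz' : E.presheaf.germ U x hxU e ⊗ₜ[X.presheaf.stalk x]
        Q.presheaf.germ U x hxU ((ClSub.toSubscheme (D i)).app U (1 : Γ(X, U))) = 0 := by
      refine (stalkTensor x E Q).injective ?_
      rw [map_zero]
      exact (stalkTensorHom_tmul x hxU e _).trans hz
    have hmem : E.presheaf.germ U x hxU e ∈ IntMult.stalkIdeal (D i) x • (⊤ : Submodule (X.presheaf.stalk x) (E.presheaf.stalk x)) := by
      refine mem_smul_top_of_tmul_eq_zero (LinearMap.toSpanSingleton _ _ (H1ZeroLib.qv (D i) x 1))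
        (fun q => ?_) _ (fun r hr => ?_) _ ?_
      · obtain ⟨r, rfl⟩ := H1ZeroLib.qv_surjective (D i) x q
        exact ⟨r, (H1ZeroLib.qv_eq_smul _ _ _).symm⟩
      · exact (H1ZeroLib.qv_eq_zero_iff _ _ _).1 ((H1ZeroLib.qv_eq_smul _ _ _).trans hr)
      · rw [LinearMap.toSpanSingleton_apply, one_smul, H1ZeroLib.qv, one_smul]
        have h1 : ParaFLib.oneG x = (Coh.structureModule X).presheaf.germ U x hxU (1 : Γ(X, U)) := by
          refine Eq.trans ?_ (congrArg ((Coh.structureModule X).presheaf.germ U x hxU) (map_one (X.presheaf.map (homOfLE (le_top : U ≤ ⊤)).op).hom))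
          exact ((Coh.structureModule X).presheaf.germ_res_apply (homOfLE (le_top : U ≤ ⊤)) x hxU _).symm
        rw [h1, stalkLin_germ]
        exact hz'
    refine Submodule.smul_induction_on hmem (fun a ha m _ => ?_) fun a b ha hb => by rw [map_add, ha, hb, add_zero]
    rw [map_smul]
    generalize stalkLin ρ x m = w
    obtain ⟨w, rfl⟩ := (stalkTensor x E Q).surjective w
    refine ((stalkTensor x E Q).map_smul a w).symm.trans ?_
    suffices h : a • w = 0 by rw [h]; exact (stalkTensor x E Q).map_zero
    induction w with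
    | zero => rw [smul_zero]
    | tmul u v => rw [← TensorProduct.tmul_smul, H1ZeroLib.killed_quotMod (D i) x a ha v, TensorProduct.tmul_zero]
    | add u v hu hv => rw [smul_add, hu, hv, add_zero]
  haveI : Epi p := by
    haveI : Epi (KoszTw.tensorMap (𝟙 E) (ClSub.toSubscheme (D i))) := by
      rw [← KoszTw.tensorBi_obj_map]
      refine (epi_iff_stalk _).2 fun x w => ?_
      obtain ⟨w, rfl⟩ := (stalkTensor x E Q).surjective w
      obtain ⟨v, hv⟩ := LinearMap.lTensor_surjective (E.presheaf.stalk x)
        ((epi_iff_stalk (ClSub.toSubscheme (D i))).1 inferInstance x) w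
      exact ⟨stalkTensor x E (Coh.structureModule X) v,
        (stalkTensor_natural_right x (ClSub.toSubscheme (D i)) v).trans (congrArg _ hv)⟩
    exact epi_comp _ _
  refine ⟨ρ, hρ, Abelian.epiDesc p ρ hker, ?_⟩
  exact (Category.assoc _ _ _).symm.trans (Abelian.comp_epiDesc p ρ hker)

end Groth.Agent.S17119
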