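import Groth.Statements.S1712
import Groth.Agent.DualCxLib.Local
-- Template for statement S1712 (row 1712; see the milestone table for weights).
-- Copy to Groth/Agent/S1712.lean and replace the sorry. The statement below is byte-identical to the frozen
-- statement Dual.GrothFrozen.S1712 (Groth/Statements/S1712.lean; the theorem Dual.support_ext_dualizing_iff_depth_add_dim);
-- the grader kernel-checks Groth.Agent.S1712.result against that frozen type. Keep the theorem IN THIS FILE
-- (a `result` declared elsewhere and merely imported here is not credited); helpers may live anywhere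
-- under Groth/Agent/.
-- helpers: DualCxLib

set_option autoImplicit false
universe u
open CategoryTheory
attribute [local instance] HasDerivedCategory.standard
open Dual Groth.Agent.DualCxLib

namespace Groth.Agent.S1712

/-- Let A be a Noetherian local ring with a normalized dualizing complex ω, M a finite A-module and E^j
the A-module of maps M → ω[-j] in D(A). A prime p is in the support of one of E^0, …, E^i if and
only if the depth of M_p over A_p plus the dimension of A/p is at most i. -/
theorem result (A : Type u) [CommRing A] [IsLocalRing A] [IsNoetherianRing A] (ω : Dual.D A) (hω : Dual.IsDualizing A ω) (hn : Dual.IsNormalized A ω) (M : Type u) [AddCommGroup M] [Module A M] [Module.Finite A M] (i : ℕ) (p : PrimeSpectrum A) : (∃ j : ℕ, j ≤ i ∧ p ∈ Module.support A (Dual.inD A M ⟶ ω⟦(-(j : ℤ))⟧)) ↔ ((LocCoh.depth (Localization.AtPrime p.asIdeal) (LocalizedModule p.asIdeal.primeCompl M) : ℕ∞) : WithBot ℕ∞) + ringKrullDim (A ⧸ p.asIdeal) ≤ (i : WithBot ℕ∞) := by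
  have hsub : p ∉ Module.support A M → ∀ j, ZeroAt p.asIdeal (HK ω j M) := fun hp j =>
    zeroAt_HK_of_primes ω j p.asIdeal M fun Q hQ hQs => (hp (Module.mem_support_mono (p := Q) (q := p) hQ hQs)).elim
  simp_rw [← not_zeroAt_iff_mem_support]
  by_cases hp : p ∈ Module.support A M
  · obtain ⟨D, hD⟩ := exists_depth_localized p hp
    obtain ⟨h1, h2⟩ := depth_bounds hω p D M hD
    have hle := dfn_nonpos hω hn p
    rw [hD, ringKrullDim_quotient hω hn p]
    have hcast : (((D : ℕ∞) : WithBot ℕ∞) + (((-dfn hω p).toNat : ℕ) : WithBot ℕ∞) ≤ (i : WithBot ℕ∞)) ↔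
        D + (-dfn hω p).toNat ≤ i := by norm_cast
    rw [hcast]
    refine ⟨fun ⟨j, hj, hne⟩ => ?_, fun h => ⟨D + (-dfn hω p).toNat, h, ?_⟩⟩
    · have := h1 _ hne
      omega
    · rw [show -((D + (-dfn hω p).toNat : ℕ) : ℤ) = dfn hω p - D by push_cast; omega]
      exact h2
  · refine iff_of_false (fun ⟨j, _, hj⟩ => hj (hsub hp _)) ?_
    haveI : Subsingleton (LocalizedModule p.asIdeal.primeCompl M) := not_nontrivial_iff_subsingleton.1 hp
    rw [CAlgBasics.depth_eq_top, ringKrullDim_quotient hω hn p]
    intro h
    have h' : ((⊤ : ℕ∞) + ((-dfn hω p).toNat : ℕ∞)) ≤ (i : ℕ∞) := by exact_mod_cast h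
    rw [top_add] at h'
    exact ENat.natCast_ne_top i (top_le_iff.1 h')

end Groth.Agent.S1712
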