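import Groth.Statements.S17128
import Groth.Agent.S17102
-- import your own Groth.Agent.* helpers here

set_option autoImplicit false
universe u
open CategoryTheory CategoryTheory.Limits AlgebraicGeometry
open LogNCD

namespace Groth.Agent.S17128

set_option backward.isDefEq.respectTransparency false
set_option linter.style.haveILetI false

open CategoryTheory CategoryTheory.Limits AlgebraicGeometry Opposite TopologicalSpace
open Groth.Agent

variable {X S : Scheme.{u}} {f : X ⟶ S} {Ω' : X.Modules} {d : OmegaSh.Der f Ω'} {r : ℕ}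
  {D : Fin (r + 1) → X.IdealSheafData} {i : Fin (r + 1)}
  (Λ : LogNCD.LogMod d D) (Λ' : LogNCD.LogMod d (D ∘ i.succAbove))

/-- A morphism read on the sections over an open. -/
noncomputable def secMap {M N : X.Modules} (φ : M ⟶ N) (U : X.Opens) : Γ(M, U) →ₗ[Γ(X, U)] Γ(N, U) where
  toFun e := φ.app U e
  map_add' a b := map_add _ a b
  map_smul' a m := Scheme.Modules.Hom.app_smul φ a m

theorem secMap_res {M N : X.Modules} (φ : M ⟶ N) {V U : X.Opens} (h : V ≤ U) (e : Γ(M, U)) :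
    secMap φ V (M.presheaf.map (homOfLE h).op e) = N.presheaf.map (homOfLE h).op (secMap φ U e) :=
  NatTrans.naturality_apply φ.mapPresheaf (homOfLE h).op e

theorem secMap_injective {M N : X.Modules} (φ : M ⟶ N) [Mono φ] (U : X.Opens) :
    Function.Injective (secMap φ U) := by
  haveI : Mono ((SheafOfModules.forget X.ringCatSheaf).map φ) := inferInstance
  exact (ModuleCat.mono_iff_injective ((PresheafOfModules.evaluation X.ringCatSheaf.obj (op U)).map
    ((SheafOfModules.forget X.ringCatSheaf).map φ))).1 inferInstance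

variable (D) in
/-- The affine opens on which all components are principal, with the equations. -/
def Eqs (U : X.affineOpens) : Type u := {g : Fin (r + 1) → Γ(X, U.1) // ∀ k, (D k).ideal U = Ideal.span {g k}}

/-- The product of the equations of the smaller family. -/
noncomputable def cof {U : X.affineOpens} (i : Fin (r + 1)) (g : Eqs D U) : Γ(X, U.1) := ∏ j, g.1 (i.succAbove j)

theorem cof_dvd {U : X.affineOpens} (g : Eqs D U) : cof i g ∣ ∏ k, g.1 k :=
  ⟨g.1 i, by rw [Fin.prod_univ_succAbove g.1 i, mul_comm]; rfl⟩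

include Λ in
theorem eq_of_cof_smul {U : X.affineOpens} (g : Eqs D U) {x : Γ(Λ.L, U.1)} (h : cof i g • x = 0) : x = 0 := by
  obtain ⟨c, hc⟩ := cof_dvd (i := i) g
  exact (Λ.rule U g.1 g.2).1 x (by rw [hc, mul_comm, mul_smul]; exact (congrArg (c • ·) h).trans (smul_zero _))

/-- Restriction of equations. -/
noncomputable def Eqs.res {U V : X.affineOpens} (g : Eqs D U) (h : V.1 ≤ U.1) : Eqs D V :=
  ⟨fun k => X.presheaf.map (homOfLE h).op (g.1 k), fun k => by
    rw [← Scheme.IdealSheafData.map_ideal (D k) (U := V) (V := U) h, g.2 k, Ideal.map_span, Set.image_singleton]; rfl⟩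

theorem cof_res {U V : X.affineOpens} (g : Eqs D U) (h : V.1 ≤ U.1) :
    cof i (g.res h) = X.presheaf.map (homOfLE h).op (cof i g) := by
  simp only [cof, map_prod]; rfl

/-- The graph of the inclusion. -/
def Rel (U : X.affineOpens) (s : Γ(Λ'.L, U.1)) (z : Γ(Λ.L, U.1)) : Prop :=
  ∃ (g : Eqs D U) (w : Γ(Ω', U.1)), secMap Λ'.ι U.1 w = cof i g • s ∧ secMap Λ.ι U.1 w = cof i g • z

theorem rel_unique {U : X.affineOpens} {s : Γ(Λ'.L, U.1)} {z z' : Γ(Λ.L, U.1)} (h : Rel Λ Λ' U s z)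
    (h' : Rel Λ Λ' U s z') : z = z' := by
  obtain ⟨g, w, hw, hz⟩ := h
  obtain ⟨g', w', hw', hz'⟩ := h'
  haveI := Λ'.mono
  have e : cof i g' • w = cof i g • w' := secMap_injective Λ'.ι U.1 (by
    rw [map_smul, map_smul, hw, hw', smul_smul, smul_smul, mul_comm])
  have h1 : cof i g' • cof i g • z = cof i g • cof i g' • z' := by
    rw [← hz, ← hz', ← map_smul, ← map_smul, e]
  have h2 : cof i g • (cof i g' • (z - z')) = 0 := by
    rw [smul_sub, smul_sub, ← h1, smul_smul, smul_smul, mul_comm, sub_self]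
  exact sub_eq_zero.1 (eq_of_cof_smul Λ g' (eq_of_cof_smul Λ g h2))

theorem rel_res {U V : X.affineOpens} (h : V.1 ≤ U.1) {s : Γ(Λ'.L, U.1)} {z : Γ(Λ.L, U.1)}
    (hr : Rel Λ Λ' U s z) :
    Rel Λ Λ' V (Λ'.L.presheaf.map (homOfLE h).op s) (Λ.L.presheaf.map (homOfLE h).op z) := by
  obtain ⟨g, w, hw, hz⟩ := hr
  refine ⟨g.res h, Ω'.presheaf.map (homOfLE h).op w, ?_, ?_⟩
  · rw [secMap_res, hw, Scheme.Modules.map_smul, cof_res]
  · rw [secMap_res, hz, Scheme.Modules.map_smul, cof_res]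

/-- The graph spanned by the generators. -/
theorem rel_gen {U : X.affineOpens} (g : Eqs D U) :
    ∃ (dl : Fin (r + 1) → Γ(Λ.L, U.1)) (dl' : Fin r → Γ(Λ'.L, U.1)),
      (∀ k, g.1 k • dl k = secMap Λ.ι U.1 (d.app U.1 (g.1 k))) ∧
      Submodule.span Γ(X, U.1) (Set.range (secMap Λ.ι U.1) ∪ Set.range dl) = ⊤ ∧
      Submodule.span Γ(X, U.1) (Set.range (secMap Λ'.ι U.1) ∪ Set.range dl') = ⊤ ∧
      ((Λ.res i).app U.1 (dl i) = LogNCD.oneOn (D i) U.1) ∧
      (∀ k, k ≠ i → (Λ.res i).app U.1 (dl k) = 0) ∧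
      ∀ j, ∃ w, secMap Λ'.ι U.1 w = cof i g • dl' j ∧ secMap Λ.ι U.1 w = cof i g • dl (i.succAbove j) := by
  classical
  obtain ⟨-, dl, h1, h2, h3, h4⟩ := Λ.rule U g.1 g.2
  obtain ⟨-, dl', h1', h2', -, -⟩ := Λ'.rule U (g.1 ∘ i.succAbove) (fun j => g.2 (i.succAbove j))
  refine ⟨dl, dl', h1, h2, h2', h3 i, fun k hk => h4 k i hk, fun j => ?_⟩
  obtain ⟨q, hq⟩ : g.1 (i.succAbove j) ∣ cof i g :=
    Finset.dvd_prod_of_mem (fun j => g.1 (i.succAbove j)) (Finset.mem_univ j)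
  refine ⟨q • d.app U.1 (g.1 (i.succAbove j)), ?_, ?_⟩
  · rw [map_smul, hq, mul_comm, mul_smul]
    exact congrArg (q • ·) (h1' j).symm
  · rw [map_smul, hq, mul_comm, mul_smul]
    exact congrArg (q • ·) (h1 (i.succAbove j)).symm

theorem rel_exists_at {U : X.affineOpens} (g : Eqs D U) (s : Γ(Λ'.L, U.1)) :
    ∃ (z : Γ(Λ.L, U.1)) (w : Γ(Ω', U.1)), secMap Λ'.ι U.1 w = cof i g • s ∧ secMap Λ.ι U.1 w = cof i g • z := by
  obtain ⟨dl, dl', -, -, hspan, -, -, hj⟩ := rel_gen Λ Λ' g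
  have hs : s ∈ Submodule.span Γ(X, U.1) (Set.range (secMap Λ'.ι U.1) ∪ Set.range dl') := hspan ▸ trivial
  induction hs using Submodule.span_induction with
  | mem y hy =>
    rcases hy with ⟨v, rfl⟩ | ⟨j, rfl⟩
    · exact ⟨secMap Λ.ι U.1 v, cof i g • v, map_smul _ _ _, map_smul _ _ _⟩
    · obtain ⟨w, hw⟩ := hj j; exact ⟨_, w, hw⟩
  | zero => exact ⟨0, 0, by rw [map_zero, smul_zero], by rw [map_zero, smul_zero]⟩
  | add a c _ _ ha hc =>
    obtain ⟨z, w, e1, e2⟩ := ha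
    obtain ⟨z', w', e1', e2'⟩ := hc
    exact ⟨z + z', w + w', by rw [map_add, e1, e1', smul_add], by rw [map_add, e2, e2', smul_add]⟩
  | smul t a _ ha =>
    obtain ⟨z, w, e1, e2⟩ := ha
    exact ⟨t • z, t • w, by rw [map_smul, e1, smul_comm], by rw [map_smul, e2, smul_comm]⟩

theorem rel_exists {U : X.affineOpens} (g : Eqs D U) (s : Γ(Λ'.L, U.1)) : ∃ z, Rel Λ Λ' U s z := by
  obtain ⟨z, w, h⟩ := rel_exists_at Λ Λ' g s
  exact ⟨z, g, w, h⟩

theorem exists_eqs (hD : LogNCD.IsNCD D f) (x : X) {O : X.Opens} (hx : x ∈ O) :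
    ∃ U : X.affineOpens, x ∈ U.1 ∧ U.1 ≤ O ∧ Nonempty (Eqs D U) := by
  obtain ⟨W, hxW, hW⟩ := S17102.exists_principal_nbhd f D hD x
  obtain ⟨U, hU, hxU, hle⟩ := S17102.exists_affine' x (U := W ⊓ O) ⟨hxW, hx⟩
  obtain ⟨g, hg⟩ := hW ⟨U, hU⟩ (hle.trans inf_le_left)
  exact ⟨⟨U, hU⟩, hxU, hle.trans inf_le_right, ⟨⟨g, hg⟩⟩⟩

theorem exists_kappa (hD : LogNCD.IsNCD D f) : ∃ κ : Λ'.L ⟶ Λ.L, LogNCD.IsSubLog Λ' Λ κ := by
  classical
  let P := {U : X.affineOpens // Nonempty (Eqs D U)}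
  have hbasis : Opens.IsBasis (Set.range fun U : P => U.1.1) := by
    rw [Opens.isBasis_iff_nbhd]
    intro O x hx
    obtain ⟨U, hxU, hle, hU⟩ := exists_eqs hD x hx
    exact ⟨U.1, ⟨⟨U, hU⟩, rfl⟩, hxU, hle⟩
  have hloc : ∀ (O : X.Opens) (a b : Γ(Λ.L, O)),
      (∀ U : P, ∀ hU : U.1.1 ≤ O, Λ.L.presheaf.map (homOfLE hU).op a = Λ.L.presheaf.map (homOfLE hU).op b) → a = b := by
    intro O a b h
    let Ns : TopCat.Sheaf Ab X := ⟨Λ.L.presheaf, Λ.L.isSheaf⟩
    refine Ns.eq_of_locally_eq' (fun U : {U : P // U.1.1 ≤ O} => U.1.1.1) O (fun U => homOfLE U.2)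
      (fun x hx => ?_) _ _ fun U => h U.1 U.2
    obtain ⟨U, hxU, hle, hU⟩ := exists_eqs hD x hx
    exact Opens.mem_iSup.2 ⟨⟨⟨U, hU⟩, hle⟩, hxU⟩
  choose z hz using fun (U : P) (s : Γ(Λ'.L, U.1.1)) => rel_exists Λ Λ' U.2.some s
  have hadd : ∀ (U : P) (a c : Γ(Λ'.L, U.1.1)), z U (a + c) = z U a + z U c := fun U a c => by
    refine rel_unique Λ Λ' (hz U (a + c)) ?_
    obtain ⟨g, w, e1, e2⟩ := hz U a
    obtain ⟨g', w', e1', e2'⟩ := hz U c
    obtain ⟨zc, v', f1, f2⟩ := rel_exists_at Λ Λ' g c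
    have hzc : zc = z U c := rel_unique Λ Λ' ⟨g, v', f1, f2⟩ (hz U c)
    exact ⟨g, w + v', by rw [map_add, e1, f1, smul_add], by rw [map_add, e2, f2, hzc, smul_add]⟩
  have hsmul : ∀ (U : P) (t : Γ(X, U.1.1)) (a : Γ(Λ'.L, U.1.1)), z U (t • a) = t • z U a := fun U t a => by
    refine rel_unique Λ Λ' (hz U (t • a)) ?_
    obtain ⟨g, w, e1, e2⟩ := hz U a
    exact ⟨g, t • w, by rw [map_smul, e1, smul_comm], by rw [map_smul, e2, smul_comm]⟩
  let Ns : TopCat.Sheaf Ab X := ⟨Λ.L.presheaf, Λ.L.isSheaf⟩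
  let nat : (inducedFunctor fun U : P => U.1.1).op ⋙ Λ'.L.presheaf ⟶
      (inducedFunctor fun U : P => U.1.1).op ⋙ Λ.L.presheaf :=
    { app := fun U => AddCommGrpCat.ofHom (AddMonoidHom.mk' (z U.unop) (hadd U.unop))
      naturality := fun W V j => by
        ext t
        exact rel_unique Λ Λ' (hz V.unop _) (rel_res Λ Λ' j.unop.hom.le (hz W.unop t)) }
  let g : Λ'.L.presheaf ⟶ Λ.L.presheaf := TopCat.Sheaf.restrictHomEquivHom Λ'.L.presheaf Ns hbasis nat
  have hg : ∀ (U : P) (t : Γ(Λ'.L, U.1.1)), g.app (op U.1.1) t = z U t := fun U t =>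
    ConcreteCategory.congr_hom (TopCat.Sheaf.extend_hom_app Λ'.L.presheaf Ns hbasis nat U) t
  refine ⟨⟨PresheafOfModules.homMk g fun U t s => ?_⟩, ?_⟩
  · change Γ(Λ'.L, U.unop) at s
    change Γ(X, U.unop) at t
    show g.app (op U.unop) (t • s) = t • g.app (op U.unop) s
    refine hloc U.unop _ _ fun W hW => ?_
    rw [Scheme.Modules.map_smul, ← NatTrans.naturality_apply g (homOfLE hW).op,
      ← NatTrans.naturality_apply g (homOfLE hW).op, Scheme.Modules.map_smul, hg, hg, hsmul]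
  · refine Scheme.Modules.hom_ext _ _ fun O => AddCommGrpCat.hom_ext (AddMonoidHom.ext fun v => ?_)
    refine hloc O _ _ fun W hW => ?_
    show Λ.L.presheaf.map (homOfLE hW).op (g.app (op O) (secMap Λ'.ι O v)) =
      Λ.L.presheaf.map (homOfLE hW).op (secMap Λ.ι O v)
    rw [← NatTrans.naturality_apply g (homOfLE hW).op, ← secMap_res, ← secMap_res, hg]
    refine rel_unique Λ Λ' (hz W _) ⟨W.2.some, cof i W.2.some • _, map_smul _ _ _, map_smul _ _ _⟩

theorem rel_kappa (κ : Λ'.L ⟶ Λ.L) (hκ : LogNCD.IsSubLog Λ' Λ κ) {U : X.affineOpens} (g : Eqs D U)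
    (s : Γ(Λ'.L, U.1)) : Rel Λ Λ' U s (secMap κ U.1 s) := by
  obtain ⟨z, w, h1, h2⟩ := rel_exists_at Λ Λ' g s
  refine ⟨g, w, h1, ?_⟩
  rw [← map_smul, ← h1]
  exact (congrArg (fun φ : Ω' ⟶ Λ.L => secMap φ U.1 w) hκ).symm

/-- Let f : X → S be smooth, (Ω', d) a universal receptacle for the differentials of X over S, D = (D_0,
…, D_r) a relative strict normal crossing divisor and i an index; let Ω¹(log D) be the pinned log
module of D and Ω¹(log(D − D_i)) the pinned log module of the family with the component D_i removed.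
Then the inclusion Ω¹(log(D − D_i)) ⊆ Ω¹(log D) exists as an O_X-linear map κ compatible with the
inclusions of Ω', and for every such κ the sequence 0 → Ω¹(log(D − D_i)) → Ω¹(log D) → O_{D_i} → 0,
whose second map is the residue along D_i (the map β_i in degree one), is short exact. The argument
h, the vanishing of the composite, holds for every such κ and is an argument only so that the short
complex can be formed. (Stated relative to an arbitrary base; the published statement, over an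
algebraically closed field, covers all degrees a with the residue β_i into the logarithmic
(a−1)-forms on D_i.) -/
theorem result {X S : Scheme.{u}} (f : X ⟶ S) [Smooth f]
    {Ω' : X.Modules} (d : OmegaSh.Der f Ω') (hd : OmegaSh.IsUniversal d)
    {r : ℕ} (D : Fin (r + 1) → X.IdealSheafData) (hD : LogNCD.IsNCD D f) (i : Fin (r + 1))
    (Λ : LogNCD.LogMod d D) (Λ' : LogNCD.LogMod d (D ∘ i.succAbove)) :
    (∃ κ : Λ'.L ⟶ Λ.L, LogNCD.IsSubLog Λ' Λ κ) ∧
      ∀ (κ : Λ'.L ⟶ Λ.L) (hκ : LogNCD.IsSubLog Λ' Λ κ) (h : κ ≫ Λ.res i = 0),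
        (ShortComplex.mk κ (Λ.res i) h).ShortExact := by
  classical
  refine ⟨exists_kappa Λ Λ' hD, fun κ hκ h => ?_⟩
  haveI := Λ'.mono
  haveI := Λ.mono
  have gsm : ∀ (M : X.Modules) (x : X) (U : X.Opens) (hx : x ∈ U) (a : Γ(X, U)) (m : Γ(M, U)),
      M.presheaf.germ U x hx (a • m) = X.presheaf.germ U x hx a • M.presheaf.germ U x hx m := fun M x U hx a m =>
    PresheafOfModules.germ_smul (R := X.presheaf) M.val x U hx a m
  have hgen : ∀ (M : X.Modules) (x : X) (z : M.presheaf.stalk x) (O : X.Opens), x ∈ O →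
      ∃ (U : X.affineOpens) (hxU : x ∈ U.1) (s : Γ(M, U.1)),
        U.1 ≤ O ∧ Nonempty (Eqs D U) ∧ M.presheaf.germ U.1 x hxU s = z := by
    intro M x z O hxO
    obtain ⟨V, hxV, s, rfl⟩ := TopCat.Presheaf.exists_germ_eq M.presheaf z
    obtain ⟨U, hxU, hle, hU⟩ := exists_eqs hD x (O := O ⊓ V) ⟨hxO, hxV⟩
    exact ⟨U, hxU, M.presheaf.map (homOfLE (hle.trans inf_le_right)).op s, hle.trans inf_le_left, hU,
      M.presheaf.germ_res_apply _ _ _ _⟩
  refine { exact := ?_, mono_f := ?_, epi_g := ?_ }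
  · refine Groth.Agent.HilbObsLib.exact_of_stalk fun x z hz => ?_
    change PullbackMod.stalkLin (Λ.res i) x z = 0 at hz
    obtain ⟨U₀, hxU₀, s₀, -, -, rfl⟩ := hgen Λ.L x z ⊤ trivial
    rw [PullbackMod.stalkLin_germ] at hz
    obtain ⟨O, hxO, i₁, i₂, he⟩ := TopCat.Presheaf.germ_eq (ClSub.quotMod (D i)).presheaf x hxU₀ hxU₀ _ 0
      (hz.trans (map_zero _).symm)
    obtain ⟨U, hxU, hle, ⟨g⟩⟩ := exists_eqs hD x hxO
    let s : Γ(Λ.L, U.1) := Λ.L.presheaf.map (homOfLE (hle.trans i₁.le)).op s₀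
    have hs : secMap (Λ.res i) U.1 s = 0 := by
      rw [secMap_res]
      have h1 : (ClSub.quotMod (D i)).presheaf.map (homOfLE hle).op
          ((ClSub.quotMod (D i)).presheaf.map i₁.op (secMap (Λ.res i) U₀.1 s₀)) = 0 :=
        (congrArg _ (he.trans (map_zero _))).trans (map_zero _)
      rwa [← ConcreteCategory.comp_apply, ← Functor.map_comp] at h1
    obtain ⟨dl, dl', hdl, hspan, -, h1, h0, hj⟩ := rel_gen Λ Λ' g
    suffices hmem : s ∈ LinearMap.range (secMap κ U.1) by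
      obtain ⟨t, ht⟩ := hmem
      refine ⟨Λ'.L.presheaf.germ U.1 x hxU t, (PullbackMod.stalkLin_germ κ x hxU t).trans ?_⟩
      refine (congrArg _ ht).trans ?_
      exact Λ.L.presheaf.germ_res_apply _ _ _ _
    have hι : ∀ v, secMap Λ.ι U.1 v ∈ LinearMap.range (secMap κ U.1) := fun v =>
      ⟨secMap Λ'.ι U.1 v, congrArg (fun φ : Ω' ⟶ Λ.L => secMap φ U.1 v) hκ⟩
    have hk : ∀ j, dl (i.succAbove j) ∈ LinearMap.range (secMap κ U.1) := fun j => by
      obtain ⟨w, hw⟩ := hj j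
      exact ⟨dl' j, rel_unique Λ Λ' (rel_kappa Λ Λ' κ hκ g (dl' j)) ⟨g, w, hw⟩⟩
    obtain ⟨w, hw, t, ht, hwt⟩ := Submodule.mem_sup.1
      (Submodule.span_union (R := Γ(X, U.1)) (Set.range (secMap Λ.ι U.1)) (Set.range dl) ▸
        (hspan ▸ trivial : s ∈ Submodule.span Γ(X, U.1) (Set.range (secMap Λ.ι U.1) ∪ Set.range dl)))
    rw [← LinearMap.coe_range, Submodule.span_eq] at hw
    obtain ⟨w, rfl⟩ := hw
    obtain ⟨a, rfl⟩ := (Submodule.mem_span_range_iff_exists_fun _).1 ht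
    rw [← hwt, map_add, map_sum, Finset.sum_eq_single i (fun k _ hk => by
        rw [map_smul]; exact (congrArg (a k • ·) (h0 k hk)).trans (smul_zero _))
        (fun h => absurd (Finset.mem_univ i) h),
      map_smul] at hs
    have h2 : secMap (Λ.res i) U.1 (secMap Λ.ι U.1 w) = 0 :=
      congrArg (fun φ : Ω' ⟶ ClSub.quotMod (D i) => secMap φ U.1 w) (Λ.res_ι i)
    rw [h2, zero_add, show secMap (Λ.res i) U.1 (dl i) = LogNCD.oneOn (D i) U.1 from h1] at hs
    have h3 : a i ∈ RingHom.ker ((D i).subschemeι.app U.1).hom := by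
      refine Eq.trans ?_ hs
      exact (congrArg ((D i).subschemeι.app U.1).hom (mul_one (a i)).symm).trans (map_mul _ _ _)
    rw [Scheme.IdealSheafData.ker_subschemeι_app (D i) U, g.2 i, Ideal.mem_span_singleton'] at h3
    obtain ⟨c, hc⟩ := h3
    rw [← hwt, Fin.sum_univ_succAbove _ i]
    refine Submodule.add_mem _ (hι w) (Submodule.add_mem _ ?_ (Submodule.sum_mem _ fun j _ => Submodule.smul_mem _ _ (hk j)))
    rw [← hc, mul_smul, hdl]
    exact Submodule.smul_mem _ _ (hι _)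
  · refine (PullbackMod.mono_iff_stalk _).2 fun x => (injective_iff_map_eq_zero _).2 fun z hz => ?_
    obtain ⟨U₀, hxU₀, s₀, -, -, rfl⟩ := hgen Λ'.L x z ⊤ trivial
    change PullbackMod.stalkLin κ x _ = 0 at hz
    rw [PullbackMod.stalkLin_germ] at hz
    obtain ⟨O, hxO, i₁, i₂, he⟩ := TopCat.Presheaf.germ_eq Λ.L.presheaf x hxU₀ hxU₀ _ 0
      (hz.trans (map_zero _).symm)
    obtain ⟨U, hxU, hle, ⟨g⟩⟩ := exists_eqs hD x hxO
    let s : Γ(Λ'.L, U.1) := Λ'.L.presheaf.map (homOfLE (hle.trans i₁.le)).op s₀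
    have hs : secMap κ U.1 s = 0 := by
      rw [secMap_res]
      have h1 : Λ.L.presheaf.map (homOfLE hle).op (Λ.L.presheaf.map i₁.op (secMap κ U₀.1 s₀)) = 0 :=
        (congrArg _ (he.trans (map_zero _))).trans (map_zero _)
      rwa [← ConcreteCategory.comp_apply, ← Functor.map_comp] at h1
    obtain ⟨w, h1, h2⟩ : ∃ w, secMap Λ'.ι U.1 w = cof i g • s ∧ secMap Λ.ι U.1 w = cof i g • secMap κ U.1 s := by
      obtain ⟨z, w, e1, e2⟩ := rel_exists_at Λ Λ' g s
      exact ⟨w, e1, by rw [e2, rel_unique Λ Λ' ⟨g, w, e1, e2⟩ (rel_kappa Λ Λ' κ hκ g s)]⟩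
    rw [hs, smul_zero] at h2
    have hw0 : w = 0 := secMap_injective Λ.ι U.1 (h2.trans (map_zero _).symm)
    rw [hw0, map_zero] at h1
    have hs0 : s = 0 := (Λ'.rule U (g.1 ∘ i.succAbove) (fun j => g.2 (i.succAbove j))).1 s h1.symm
    rw [← Λ'.L.presheaf.germ_res_apply (homOfLE (hle.trans i₁.le)) x hxU s₀]
    exact (congrArg _ hs0).trans (map_zero _)
  · refine (PullbackMod.epi_iff_stalk _).2 fun x y => ?_
    obtain ⟨U, hxU, c, -, ⟨g⟩, rfl⟩ := hgen (ClSub.quotMod (D i)) x y ⊤ trivial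
    obtain ⟨dl, dl', -, -, -, h1, -, -⟩ := rel_gen Λ Λ' g
    obtain ⟨a, ha⟩ := (D i).subschemeι_app_surjective U c
    refine ⟨Λ.L.presheaf.germ U.1 x hxU (a • dl i), (PullbackMod.stalkLin_germ _ x hxU _).trans (congrArg _ ?_)⟩
    show secMap (Λ.res i) U.1 (a • dl i) = c
    rw [map_smul, show secMap (Λ.res i) U.1 (dl i) = LogNCD.oneOn (D i) U.1 from h1]
    exact ((map_mul ((D i).subschemeι.app U.1).hom a 1).symm.trans (congrArg _ (mul_one a))).trans ha

end Groth.Agent.S17128
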