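import Groth.Statements.S1713
import Groth.Agent.DualCxLib.Duality
import Groth.Agent.MatlisLib.Basic
-- Template for statement S1713 (row 1713; see the milestone table for weights).
-- Copy to Groth/Agent/S1713.lean and replace the sorry. The statement below is byte-identical to the frozen
-- statement Dual.GrothFrozen.S1713 (Groth/Statements/S1713.lean; the theorem Dual.annihilator_ext_dualizing_eq_localCohomology);
-- the grader kernel-checks Groth.Agent.S1713.result against that frozen type. Keep the theorem IN THIS FILE
-- (a `result` declared elsewhere and merely imported here is not credited); helpers may live anywhere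
-- under Groth/Agent/.
-- helpers: DualCxLib

set_option autoImplicit false
universe u
open CategoryTheory
attribute [local instance] HasDerivedCategory.standard
open Dual Groth.Agent.DualCxLib

namespace Groth.Agent.S1713

/-- Let A be a Noetherian local ring with maximal ideal m and a normalized dualizing complex ω, and M a
finite A-module. For every i ≥ 0 the annihilator of the A-module of maps M → ω[-i] in D(A) equals
the annihilator of the local cohomology module H^i_m(M). -/
theorem result (A : Type u) [CommRing A] [IsLocalRing A] [IsNoetherianRing A] (ω : Dual.D A) (hω : Dual.IsDualizing A ω) (hn : Dual.IsNormalized A ω) (M : Type u) [AddCommGroup M] [Module A M] [Module.Finite A M] (i : ℕ) : Module.annihilator A (Dual.inD A M ⟶ ω⟦(-(i : ℤ))⟧) = Module.annihilator A (LocCoh.H (IsLocalRing.maximalIdeal A) i M) := by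
  obtain ⟨s, hs⟩ := (model hω).exists_hull_E0 hω hn
  let φ := LinearEquiv.ofBijective _
    ((model hω).bijective_phi hω hn (LinearEquiv.refl A _) hs i M (-(i : ℤ)) (neg_add_cancel _))
  let T := (model hω).equivHK M (-(i : ℤ))
  refine T.symm.annihilator_eq.trans ((MatlisLib.annihilator_dual hs _).trans ?_)
  exact (T.congrLeft (M := (model hω).E0) A).annihilator_eq.trans φ.symm.annihilator_eq

end Groth.Agent.S1713
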