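import Groth.Statements.S17137
import Groth.Agent.JacLib.AbelImm
import Groth.Agent.S14662
import Groth.Agent.S14663
import Groth.Agent.S3226
import Groth.Agent.S1551
import Groth.Agent.S1627
import Groth.Agent.S7388
import Groth.Agent.InvDescLib.RelPic
-- import your own Groth.Agent.* helpers here

set_option autoImplicit false
set_option linter.style.haveILetI false
set_option linter.unusedSectionVars false
set_option backward.isDefEq.respectTransparency false
set_option backward.isDefEq.respectTransparency.types false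
set_option maxHeartbeats 1600000
universe u
open CategoryTheory CategoryTheory.Limits AlgebraicGeometry MonoidalCategory CartesianMonoidalCategory MonObj
open Jac

namespace Groth.Agent.S17137

open Groth.Agent.PicLib Groth.Agent.PicRepLib Groth.Agent.JacLib

variable {k : Type u} [Field k] {X : Scheme.{u}} [X.Over (Spec (CommRingCat.of k))]
    [IsProper (X ↘ Spec (CommRingCat.of k))] [Smooth (X ↘ Spec (CommRingCat.of k))]
    [GeometricallyConnected (X ↘ Spec (CommRingCat.of k))]

/-- Finitely many points of a curve lie in an affine open. -/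
theorem isAF_curve (hdim : topologicalKrullDim ↥X = 1) : SymProd.IsAF (X ↘ Spec (CommRingCat.of k)) := by
  obtain ⟨hint, -, -⟩ := setup_of_smooth_connected k X hdim
  haveI := hint
  intro s T _
  rcases Groth.Agent.S1627.result k X hdim with h | ⟨d, c, hc, -⟩
  · exact ⟨⊤, isAffineOpen_top X, fun x _ => trivial⟩
  · haveI := hc
    haveI : IsImmersion (c : X ⟶ Proj (CohB1.polyGrading d k)) := inferInstanceAs (IsImmersion c)
    obtain ⟨U, hU, hT⟩ := Groth.Agent.S7388.result (CohB1.polyGrading d k) c (T : Set X) T.finite_toSet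
    exact ⟨U, hU, fun x hx => hT hx⟩

/-- A separated scheme receiving the classes of degree `n` injectively up to étale covers. -/
theorem exists_picHom (hdim : topologicalKrullDim ↥X = 1) (n : ℕ) :
    ∃ (P : Over (Spec (CommRingCat.of k))) (_ : IsSeparated P.hom) (_ : LocallyOfFiniteType P.hom)
      (φ : ∀ T : Over (Spec (CommRingCat.of k)), PicF.Cl (PicF.XT (X ↘ Spec (CommRingCat.of k)) T) → (T ⟶ P))
      (_ : PicRel.IsRelPic (X ↘ Spec (CommRingCat.of k)) P φ)
      (ψ : (ModFun.PicDeg (X ↘ Spec (CommRingCat.of k)) (n : ℤ)).Hom ⊤ P),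
      ∀ T L hT hL, ψ.app T L hT hL = φ T (PicF.cl L) := by
  let f := X ↘ Spec (CommRingCat.of k)
  obtain ⟨hint, -, -⟩ := setup_of_smooth_connected k X hdim
  haveI := hint
  haveI := EulerIneqLib.isNoetherian_proper (X := X) k
  haveI : IsSeparated (Spec (CommRingCat.of k) |> fun S => Limits.terminal.from S) := inferInstance
  haveI : X.IsSeparated := ⟨by
    rw [← terminal.comp_from f]
    infer_instance⟩
  obtain ⟨A, hA⟩ := Groth.Agent.S1551.result X hdim
  obtain ⟨m, i, hi, hif⟩ := Groth.Agent.AmpleEmb.exists_immersion_of_isAmple f hA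
  haveI : IsProper (i ≫ CohB1.ProjSpaceOver.toBase m (Spec (CommRingCat.of k))) := hif ▸ inferInstance
  haveI := IsProper.of_comp i (CohB1.ProjSpaceOver.toBase m (Spec (CommRingCat.of k)))
  haveI : IsClosedImmersion i := (IsClosedImmersion.iff_isProper_and_mono _).2 ⟨inferInstance, inferInstance⟩
  haveI : Flat (i ≫ CohB1.ProjSpaceOver.toBase m (Spec (CommRingCat.of k))) := hif ▸ inferInstance
  haveI : GeometricallyIntegral f := geometricallyIntegral_curve f
  have hgeo : ∀ (Ω : Type u) [Field Ω] [IsAlgClosed Ω] (s : Spec (CommRingCat.of Ω) ⟶ Spec (CommRingCat.of k)),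
      IsIntegral (pullback (i ≫ CohB1.ProjSpaceOver.toBase m (Spec (CommRingCat.of k))) s) := fun Ω _ _ s => by
    rw [hif]
    haveI : Subsingleton ↥(Spec (CommRingCat.of Ω)) := inferInstanceAs (Subsingleton (PrimeSpectrum Ω))
    exact GeometricallyIntegral.isIntegral_of_subsingleton (pullback.snd f s)
  obtain ⟨P, hP, hsep, hlft⟩ := Groth.Agent.S3226.result (Spec (CommRingCat.of k)) X m i hgeo
  rw [hif] at hP
  obtain ⟨φ, hφ⟩ := hP
  have hinv : ∀ {T : Over (Spec (CommRingCat.of k))} {L : (PicF.XT f T).Modules},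
      (ModFun.PicDeg f (n : ℤ)).ok T L → PicF.IsInvertible L := fun h => Groth.Agent.VBLib.isInvertible_of_rank h.1.2
  refine ⟨P, hsep, hlft, φ, hφ,
    { app := fun T L _ _ => φ T (PicF.cl L)
      natural := fun {T T'} g L _ _ hx _ => hφ.natural T T' g (PicF.cl L) ⟨L, rfl, hinv hx⟩
      resp := fun {T} L L' _ hx hy h => ?_ }, fun T L hT hL => rfl⟩
  have hL := hinv hx
  have hL' := hinv hy
  obtain ⟨M, hM, e⟩ := h
  have hc : cls hL' = cls hL * pull (PicF.XTproj f T) (cls hM) :=
    (cls_eq_cls hL' (AmpleLib.isInvertible_tensor hL (AmpleLib.isInvertible_pullback _ hM))).2 e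
  choose W htW hW using fun t : T.left => Groth.Agent.PicRepLib.exists_nhd_pull_eq_one (cls hM) t
  refine Over.OverMorphism.ext (Scheme.Cover.hom_ext (Scheme.openCoverOfIsOpenCover T.left W (TopologicalSpace.IsOpenCover.mk (eq_top_iff.2 fun t _ =>
    TopologicalSpace.Opens.mem_iSup.2 ⟨t, htW t⟩))) _ _ fun t => ?_)
  let g : Over.mk ((W t).ι ≫ T.hom) ⟶ T := Over.homMk (W t).ι rfl
  show (W t).ι ≫ (φ T (PicF.cl L)).left = (W t).ι ≫ (φ T (PicF.cl L')).left
  suffices e' : g ≫ φ T (PicF.cl L) = g ≫ φ T (PicF.cl L') from congrArg CommaMorphism.left e'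
  rw [← hφ.natural T _ g _ ⟨L, rfl, hL⟩, ← hφ.natural T _ g _ ⟨L', rfl, hL'⟩]
  congr 1
  show PicF.pullCl _ (AbDualLib.toCl (cls hL)) = PicF.pullCl _ (AbDualLib.toCl (cls hL'))
  rw [← AbDualLib.toCl_pull, ← AbDualLib.toCl_pull, hc, map_mul, pull_base_XTmap,
    show pull g.left (cls hM) = 1 from hW t, map_one, _root_.mul_one]

/-- A tuple of distinct points with a good class exists in the power of the genus. -/
theorem nonempty_distinct_good_of_field (hdim : topologicalKrullDim ↥X = 1)
    [SmoothOfRelativeDimension 1 (X ↘ Spec (CommRingCat.of k))]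
    (hd : ∀ s, topologicalKrullDim ↥((X ↘ Spec (CommRingCat.of k)).fiber s) = 1) (N : ℕ)
    (hN : CohIII.fiberRank (X ↘ Spec (CommRingCat.of k)) (Coh.structureModule X) 1 (IsLocalRing.closedPoint k) = N) :
    ((distinct (X ↘ Spec (CommRingCat.of k)) N : Set _) ∩ Good (fam (X ↘ Spec (CommRingCat.of k)) N)).Nonempty := by
  classical
  let f := X ↘ Spec (CommRingCat.of k)
  haveI := isIntegral_pow (f := f) N
  haveI : Subsingleton ↥(Spec (CommRingCat.of k)) := inferInstanceAs (Subsingleton (PrimeSpectrum k))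
  let Ω := AlgebraicClosure k
  let τ : Spec (CommRingCat.of Ω) ⟶ Spec (CommRingCat.of k) := Spec.map (CommRingCat.ofHom (algebraMap k Ω))
  haveI : Surjective τ := ⟨fun s => ⟨IsLocalRing.closedPoint Ω, Subsingleton.elim _ _⟩⟩
  obtain ⟨g₀, hg₀⟩ := exists_good_point (f := f) (n := N) τ ((congrArg _ (Subsingleton.elim _ _)).trans hN) hd
  haveI : JacobsonSpace X := LocallyOfFiniteType.jacobsonSpace f
  obtain ⟨hint, -, -⟩ := setup_of_smooth_connected k X hdim
  haveI := hint
  obtain ⟨z₁, -, hz₁⟩ := nonempty_inter_closedPoints (Z := (Set.univ : Set X))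
    Set.univ_nonempty isOpen_univ.isLocallyClosed
  obtain ⟨z₂, hz₂, hz₂c⟩ := nonempty_inter_closedPoints (Z := ({z₁}ᶜ : Set X)) (by
      by_contra hne
      haveI : Subsingleton X := ⟨fun a b => by
        have := fun c => Set.not_nonempty_iff_eq_empty.1 hne ▸ (Set.notMem_empty c)
        simp only [Set.mem_compl_iff, Set.mem_singleton_iff, not_not] at this
        exact (this a).trans (this b).symm⟩
      have h0 : topologicalKrullDim ↥X ≤ 0 := topologicalKrullDim_zero_of_discreteTopology _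
      rw [hdim] at h0
      exact not_lt_of_ge h0 (by decide))
    (hz₁.isOpen_compl).isLocallyClosed
  let XΩ := PicF.XT f (Over.mk τ)
  letI : XΩ.Over (Spec (CommRingCat.of Ω)) := ⟨PicF.XTproj f (Over.mk τ)⟩
  haveI : IsProper (XΩ ↘ Spec (CommRingCat.of Ω)) := isProper_XT f τ
  have hlift : ∀ z : X, IsClosed ({z} : Set X) → ∃ p : Over.mk τ ⟶ Over.mk f,
      p.left (IsLocalRing.closedPoint Ω) = z := fun z hz => by
    haveI : Surjective (pullback.fst f τ) := inferInstance
    obtain ⟨a₀, ha₀⟩ := (pullback.fst f τ).surjective z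
    haveI : CompactSpace XΩ := QuasiCompact.compactSpace_of_compactSpace (XΩ ↘ Spec (CommRingCat.of Ω))
    obtain ⟨a, ha, hac⟩ := (hz.preimage (pullback.fst f τ).continuous).exists_closed_singleton ⟨a₀, ha₀⟩
    refine ⟨pointHom f τ a hac, ?_⟩
    show (pointOfClosedPoint _ a hac ≫ pullback.fst f τ) _ = z
    rw [Scheme.Hom.comp_apply, pointOfClosedPoint_apply]
    exact ha
  obtain ⟨a, ha⟩ := hlift z₁ hz₁
  obtain ⟨b, hb⟩ := hlift z₂ hz₂c
  have hij : ∀ i j : Fin N, i ≠ j →
      ({t | graph f (comps f N (𝟙 _) i) t = graph f (comps f N (𝟙 _) j) t}ᶜ : Set (pow f N).left).Nonempty := by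
    intro i j hij
    let y : Fin N → (Over.mk τ ⟶ Over.mk f) := fun l => if l = i then a else b
    let w := tuple f N y
    refine ⟨w.left (IsLocalRing.closedPoint Ω), fun h => hz₂ ?_⟩
    have hg : ∀ (z : pow f N ⟶ Over.mk f) (t : (pow f N).left),
        pullback.fst f (pow f N).hom (graph f z t) = z.left t := fun z t => by
      rw [← Scheme.Hom.comp_apply, show graph f z ≫ pullback.fst f (pow f N).hom = z.left from
        pullback.lift_fst _ _ _]
      rfl
    have h2 := congrArg (pullback.fst f (pow f N).hom) h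
    rw [hg, hg, ← Scheme.Hom.comp_apply, ← Scheme.Hom.comp_apply, ← Over.comp_left, ← Over.comp_left, ← comps_eq,
      ← comps_eq, comps_tuple] at h2
    simp only [y, if_pos rfl, if_neg (Ne.symm hij), ha, hb] at h2
    exact h2.symm
  have key : ∀ O : (pow f N).left.Opens, (O : Set (pow f N).left).Nonempty → genericPoint (pow f N).left ∈ O :=
    fun O ⟨t, ht⟩ => (genericPoint_specializes t).mem_open O.2 ht
  refine ⟨genericPoint _, ?_, key ⟨_, isOpen_good hd _⟩ ⟨g₀, hg₀⟩⟩
  refine Set.mem_iInter.2 fun i => Set.mem_iInter.2 fun j => Set.mem_iInter.2 fun h => ?_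
  exact key ⟨_, (isClosed_graph_eq _ _).isOpen_compl⟩ (hij i j h)

/-- Let X be a smooth proper geometrically connected curve of genus g ≥ 1 over a field k and n ≥ 1; let
(Y, q) be the n-th symmetric power C^(n) of X over k (q : X ×_k ⋯ ×_k X → Y a quotient of the n-fold
fibre power by the symmetric group permuting the factors: affine, invariant, identifying sections of
O_Y with invariant sections, with q over k), let (J_n, ψ_n) be a coarse moduli scheme, on all
k-schemes, for line bundles of degree n on X modulo twisting from the base (the degree-n Picard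
scheme), and let j_n : Y → J_n be the morphism through which the classifying map of the family O(Γ_1
+ ⋯ + Γ_n) on X × X^n factors (Γ_i the graph of the i-th projection; the family F is pinned by F ⊗
I_{Γ_1} ⊗ ⋯ ⊗ I_{Γ_n} ≅ O), i.e. q followed by j_n is ψ_n of that family, so that j_n sends an
effective divisor D of degree n to the class of O(D). If n ≤ g, then there is a non-empty open
subscheme U of Y such that the restriction of j_n to U is an immersion: j_n is birational onto its
image W_n ⊂ J_n. (The published statement allows 0 ≤ n ≤ g; this row takes 1 ≤ n ≤ g, the case n = 0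
being the one-point scheme Spec k, the zeroth symmetric power, mapping to the class of the trivial
bundle; the printed proof itself treats 1 ≤ n ≤ g.) -/
theorem result (k : Type u) [Field k]
    (X : Scheme.{u}) [X.Over (Spec (CommRingCat.of k))]
    [IsProper (X ↘ Spec (CommRingCat.of k))] [Smooth (X ↘ Spec (CommRingCat.of k))]
    [GeometricallyConnected (X ↘ Spec (CommRingCat.of k))] (hdim : topologicalKrullDim ↥X = 1)
    (g : ℕ) (hg : Curv2.genus k X = g) (hg1 : 1 ≤ g)
    (n : ℕ) (hn : 1 ≤ n)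
    (Y : Scheme.{u}) (q : SymProd.fibPow (X ↘ Spec (CommRingCat.of k)) n ⟶ Y) (gY : Y ⟶ Spec (CommRingCat.of k))
    (hq : SymProd.IsSymProd (X ↘ Spec (CommRingCat.of k)) n q gY)
    (Jn : Over (Spec (CommRingCat.of k)))
    (ψn : (ModFun.PicDeg (X ↘ Spec (CommRingCat.of k)) (n : ℤ)).Hom ⊤ Jn)
    (hJn : ModFun.IsCoarseModuli ⊤ (ModFun.PicDeg (X ↘ Spec (CommRingCat.of k)) (n : ℤ)) Jn ψn)
    (F : (PicF.XT (X ↘ Spec (CommRingCat.of k)) (Over.mk (WidePullback.base fun (_ : Fin n) => (X ↘ Spec (CommRingCat.of k))))).Modules)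
    (hF : Nonempty (CohB1.tensorMod F (FGA.tensorList (List.ofFn fun i : Fin n =>
        ClSub.idealMod (pullback.lift (WidePullback.π (fun (_ : Fin n) => (X ↘ Spec (CommRingCat.of k))) i) (𝟙 (SymProd.fibPow (X ↘ Spec (CommRingCat.of k)) n))
          ((WidePullback.π_arrow (fun (_ : Fin n) => (X ↘ Spec (CommRingCat.of k))) i).trans (Category.id_comp _).symm) :
            SymProd.fibPow (X ↘ Spec (CommRingCat.of k)) n ⟶ PicF.XT (X ↘ Spec (CommRingCat.of k)) (Over.mk (WidePullback.base fun (_ : Fin n) => (X ↘ Spec (CommRingCat.of k))))).ker)) ≅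
      Coh.structureModule _))
    (hT : (⊤ : ObjectProperty (Over (Spec (CommRingCat.of k)))) (Over.mk (WidePullback.base fun (_ : Fin n) => (X ↘ Spec (CommRingCat.of k)))))
    (hFok : (ModFun.PicDeg (X ↘ Spec (CommRingCat.of k)) (n : ℤ)).ok (Over.mk (WidePullback.base fun (_ : Fin n) => (X ↘ Spec (CommRingCat.of k)))) F)
    (jn : Over.mk gY ⟶ Jn)
    (hjn : Over.homMk q hq.over ≫ jn = ψn.app (Over.mk (WidePullback.base fun (_ : Fin n) => (X ↘ Spec (CommRingCat.of k)))) F hT hFok)
    (hng : n ≤ g) :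
    ∃ U : Y.Opens, (U : Set ↥Y).Nonempty ∧ IsImmersion (U.ι ≫ jn.left) := by
  classical
  let S := Spec (CommRingCat.of k)
  let f := X ↘ Spec (CommRingCat.of k)
  haveI : Subsingleton ↥(Spec (CommRingCat.of k)) := inferInstanceAs (Subsingleton (PrimeSpectrum k))
  have hfib : ∀ s : Spec (CommRingCat.of k), topologicalKrullDim ↥(f.fiber s) = 1 := fun s => by
    have he : f ⁻¹' {s} = Set.univ := Set.eq_univ_of_forall fun x => Subsingleton.elim _ _
    exact ((f.fiberHomeo s).trans ((Homeomorph.setCongr he).trans (Homeomorph.Set.univ _))).isHomeomorph.topologicalKrullDim_eq.trans hdim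
  haveI : SmoothOfRelativeDimension 1 f := smoothOfRelativeDimension_one f hfib
  have hAF := isAF_curve (k := k) hdim
  obtain ⟨hgYp, hgYs⟩ := Groth.Agent.S14662.result f hAF n q gY hq
  obtain ⟨⟨hqfin, hqflat, hqlfp⟩, hqdeg⟩ := Groth.Agent.S14663.result f hAF n q gY hq
  haveI := hgYp; haveI := hgYs; haveI := hqfin; haveI := hqflat; haveI := hqlfp
  haveI : Surjective q := (Scheme.Hom.one_le_finrank_iff_surjective q).1 fun y => by
    rw [hqdeg y]; exact Nat.factorial_pos n
  obtain ⟨P, hPs, hPl, φ, hφ, ψP, hψP⟩ := exists_picHom (k := k) hdim n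
  haveI := hPs; haveI := hPl
  obtain ⟨F₀, hF₀, -⟩ := hJn.2.1 P ψP
  let Tn : Over S := Over.mk (WidePullback.base fun _ : Fin n => f)
  let π : Fin n → (Tn ⟶ Over.mk f) := fun i =>
    Over.homMk (WidePullback.π (fun _ : Fin n => f) i) (WidePullback.π_arrow (fun _ : Fin n => f) i)
  have hTn : ∀ {T : Over S} (w w' : T ⟶ Tn), (∀ i, w ≫ π i = w' ≫ π i) → w = w' := fun {T} w w' h =>
    Over.OverMorphism.ext (WidePullback.hom_ext _ _ _ (fun i => congrArg CommaMorphism.left (h i))
      ((Over.w w).trans (Over.w w').symm))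
  let toPow : Tn ⟶ pow f n := tuple f n π
  let ofPow : pow f n ⟶ Tn := Over.homMk (WidePullback.lift (pow f n).hom (fun i => (comps f n (𝟙 _) i).left)
    fun i => Over.w (comps f n (𝟙 _) i)) (WidePullback.lift_base _ _ _ _)
  have hofπ : ∀ i, ofPow ≫ π i = comps f n (𝟙 _) i := fun i => Over.OverMorphism.ext (WidePullback.lift_π _ _ _ _ i)
  have h1 : toPow ≫ ofPow = 𝟙 Tn := hTn _ _ fun i => by
    rw [Category.assoc, hofπ, Category.id_comp, ← comps_eq, comps_tuple]
  have h2 : ofPow ≫ toPow = 𝟙 _ := by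
    rw [← tuple_comps f n (ofPow ≫ toPow), ← tuple_comps f n (𝟙 (pow f n))]
    refine congrArg (tuple f n) (funext fun i => ?_)
    rw [comps_eq, Category.assoc, ← comps_eq toPow, comps_tuple, hofπ]
  haveI : IsIso ofPow.left := ⟨toPow.left, congrArg CommaMorphism.left h2, congrArg CommaMorphism.left h1⟩
  let jP : Over.mk gY ⟶ P := jn ≫ F₀
  let qn : Tn ⟶ Over.mk gY := Over.homMk q hq.over
  have hFi : PicF.IsInvertible F := Groth.Agent.VBLib.isInvertible_of_rank hFok.1.2
  have hqj : qn ≫ jP = φ Tn (PicF.cl F) := by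
    rw [show qn ≫ jP = (Over.homMk q hq.over ≫ jn) ≫ F₀ from (Category.assoc _ _ _).symm, hjn, ← hψP Tn F hT hFok]
    exact (hF₀ Tn F hT hFok).symm
  have hI : ∀ i, PicF.IsInvertible (ClSub.idealMod (graph f (π i)).ker) := fun i =>
    (Groth.Agent.S8914.result _).2 (Groth.Agent.HilbCurveLib.effCartier_of_flf (PicF.XTproj f Tn) (deg_graph (π i)).1)
  have hlist : ∀ {n : ℕ} (M : Fin n → (PicF.XT f Tn).Modules) (hM : ∀ i, PicF.IsInvertible (M i)),
      ∃ h : PicF.IsInvertible (FGA.tensorList (List.ofFn M)), cls h = ∏ i, cls (hM i) := by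
    intro n
    induction n with
    | zero =>
      intro M hM
      rw [List.ofFn_zero, Finset.univ_eq_empty, Finset.prod_empty]
      exact ⟨Groth.Agent.ParaFLib.isInvertible_structureModule, rfl⟩
    | succ n ih =>
      intro M hM
      obtain ⟨h, e⟩ := ih (fun i => M i.succ) fun i => hM i.succ
      rw [List.ofFn_succ, Fin.prod_univ_succ, ← e]
      exact ⟨Groth.Agent.AmpleLib.isInvertible_tensor (hM 0) h, cls_tensor _ _⟩
  obtain ⟨hl, hle⟩ := hlist (fun i => ClSub.idealMod (graph f (π i)).ker) hI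
  have hFc : cls hFi = ∏ i, pt f (π i) := by
    have h1 : cls hFi * cls hl = 1 := (cls_tensor hFi hl).symm.trans ((cls_eq_one _).2 hF)
    rw [eq_inv_of_mul_eq_one_left h1, hle, ← Finset.prod_inv_distrib]
    exact Finset.prod_congr rfl fun i _ => (pt_eq f (π i) (hI i)).symm
  have hφw : ∀ {T : Over S} (w : T ⟶ Tn), w ≫ qn ≫ jP = φ T (AbDualLib.toCl (∏ i, pt f (w ≫ π i))) := fun {T} w => by
    rw [hqj, ← hφ.natural Tn T w _ ⟨F, rfl, hFi⟩,
      show PicF.cl F = AbDualLib.toCl (cls hFi) from rfl, ← AbDualLib.toCl_pull, hFc, map_prod]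
    exact congrArg _ (congrArg _ (Finset.prod_congr rfl fun i _ => by apply pt_comp))
  obtain ⟨m, rfl⟩ := Nat.exists_eq_add_of_le hng
  haveI : Coh.IsQCoh (Coh.structureModule X) :=
    Groth.Agent.PicDegLib.isQCoh_invertible Groth.Agent.ParaFLib.isInvertible_structureModule
  have hrk : CohIII.fiberRank f (Coh.structureModule X) 1 (IsLocalRing.closedPoint k) = n + m := by
    rw [fiberRank_eq_finrank (k := k) (Coh.structureModule X) 1]
    exact hg
  have hGne := nonempty_distinct_good_of_field (k := k) hdim hfib (n + m) hrk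
  let G : (pow f (n + m)).left.Opens := distinct f (n + m) ⊓ ⟨Good (fam f (n + m)), isOpen_good hfib _⟩
  let ρ : pow f (n + m) ⟶ Tn := powProj f n m ≫ ofPow
  let Gt : Over S := Over.mk (G.ι ≫ (pow f (n + m)).hom)
  let ιG : Gt ⟶ pow f (n + m) := Over.homMk G.ι rfl
  let r : G.toScheme ⟶ Tn.left := G.ι ≫ (powProj f n m).left ≫ ofPow.left
  haveI : Smooth r := inferInstance
  let e : Gt ⟶ Over.mk gY := ιG ≫ ρ ≫ qn
  let es : G.toScheme ⟶ Y := r ≫ q
  have he : e.left = es := by simp [e, es, r, ρ, ιG, qn]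
  haveI : LocallyOfFinitePresentation r := inferInstance
  haveI : Flat r := inferInstance
  haveI : UniversallyOpen es := UniversallyOpen.of_flat es
  let U₁ : Y.Opens := ⟨Set.range es, es.isOpenMap.isOpen_range⟩
  haveI : Nonempty G.toScheme := ⟨⟨hGne.choose, hGne.choose_spec⟩⟩
  have hU₁ : (U₁ : Set Y).Nonempty := Set.range_nonempty _
  let Ut : Over S := Over.mk (U₁.ι ≫ gY)
  let ιU : Ut ⟶ Over.mk gY := Over.homMk U₁.ι rfl
  haveI hmono : Mono (U₁.ι ≫ jP.left) := by
    constructor
    intro Z a b hab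
    let T : Over S := Over.mk (a ≫ U₁.ι ≫ gY)
    have hb : b ≫ U₁.ι ≫ gY = a ≫ U₁.ι ≫ gY := by
      have h := congrArg (fun x => x ≫ P.hom) hab
      simp only [Category.assoc, Over.w jP, Over.mk_hom] at h
      exact h.symm
    let a' : T ⟶ Over.mk gY := Over.homMk (a ≫ U₁.ι) (Category.assoc _ _ _)
    let b' : T ⟶ Over.mk gY := Over.homMk (b ≫ U₁.ι) ((Category.assoc _ _ _).trans hb)
    have hab' : a' ≫ jP = b' ≫ jP := Over.OverMorphism.ext (by simpa [a', b'] using hab)
    rw [← cancel_mono U₁.ι]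
    -- lift `a` into the good tuples and `b` to a tuple
    let p₁ := pullback.fst (a ≫ U₁.ι) es
    haveI : Surjective p₁ := ⟨fun z => by
      obtain ⟨x, hx⟩ : (a ≫ U₁.ι) z ∈ Set.range es := (a z).2
      have : z ∈ Set.range p₁ := by rw [Scheme.Pullback.range_fst]; exact ⟨x, hx⟩
      exact this⟩
    let p₂ := pullback.fst (p₁ ≫ b ≫ U₁.ι) q
    haveI : Surjective p₂ := inferInstance
    haveI : Epi p₁ := Flat.epi_of_flat_of_surjective p₁
    haveI : Epi p₂ := Flat.epi_of_flat_of_surjective p₂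
    rw [← cancel_epi p₁, ← cancel_epi p₂]
    let T₂ : Over S := Over.mk (p₂ ≫ p₁ ≫ T.hom)
    let g₂ : T₂ ⟶ T := Over.homMk (p₂ ≫ p₁) (Category.assoc _ _ _)
    let w₁ : T₂ ⟶ Gt := Over.homMk (p₂ ≫ pullback.snd (a ≫ U₁.ι) es) (by
      show (p₂ ≫ pullback.snd _ _) ≫ G.ι ≫ (pow f (n + m)).hom = p₂ ≫ p₁ ≫ T.hom
      rw [← Over.w (ρ ≫ qn), ← Over.w a']
      simp only [Category.assoc]
      congr 1
      calc pullback.snd (a ≫ U₁.ι) es ≫ G.ι ≫ (ρ ≫ qn).left ≫ gY
          = (pullback.snd (a ≫ U₁.ι) es ≫ es) ≫ gY := by simp [es, r, ρ, qn]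
        _ = (p₁ ≫ a ≫ U₁.ι) ≫ gY := by rw [pullback.condition]
        _ = _ := by simp [a'])
    have hw₁ : w₁ ≫ e = g₂ ≫ a' := Over.OverMorphism.ext
      (show (p₂ ≫ pullback.snd _ _) ≫ e.left = (p₂ ≫ p₁) ≫ a ≫ U₁.ι by
        rw [he, Category.assoc, ← pullback.condition, Category.assoc])
    let w₂ : T₂ ⟶ Tn := Over.homMk (pullback.snd (p₁ ≫ b ≫ U₁.ι) q) (by
      show pullback.snd _ _ ≫ WidePullback.base _ = p₂ ≫ p₁ ≫ T.hom
      rw [← hq.over, ← pullback.condition_assoc, ← Over.w b']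
      simp [b', p₂])
    have hw₂ : w₂ ≫ qn = g₂ ≫ b' := Over.OverMorphism.ext (by
      show pullback.snd _ _ ≫ q = (p₂ ≫ p₁) ≫ b ≫ U₁.ι
      rw [← pullback.condition, Category.assoc])
    let v := w₁ ≫ ιG
    let v₁ : T₂ ⟶ Tn := v ≫ ρ
    have hv₁ : v₁ ≫ qn = g₂ ≫ a' := by rw [← hw₁]; simp [v₁, v, e]
    suffices hmain : v₁ ≫ qn = w₂ ≫ qn by
      rw [hv₁, hw₂] at hmain
      have := congrArg CommaMorphism.left hmain
      simpa [g₂, a', b'] using this
    have heq : φ T₂ (AbDualLib.toCl (∏ i, pt f (v₁ ≫ π i))) = φ T₂ (AbDualLib.toCl (∏ i, pt f (w₂ ≫ π i))) := by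
      rw [← hφw, ← hφw, reassoc_of% hv₁, reassoc_of% hw₂]
      exact congrArg (g₂ ≫ ·) hab'
    obtain ⟨J₀, V, hV, hcl⟩ := hφ.locallyInjective T₂ _ _ (InvDescLib.isInvertibleCl_toCl _)
      (InvDescLib.isInvertibleCl_toCl _) heq
    have hVsurj : ∀ t : T₂.left, ∃ i y, (V i).hom y = t := hV
    haveI : ∀ i, Flat (V i).hom := fun i => by haveI := (V i).prop; infer_instance
    haveI : Surjective (Sigma.desc fun i => (V i).hom) := ⟨fun t => by
      obtain ⟨i, y, hy⟩ := hVsurj t
      refine ⟨Sigma.ι (fun i => (V i).left) i y,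
        (Scheme.Hom.comp_apply (Sigma.ι (fun i => (V i).left) i) (Sigma.desc fun i => (V i).hom) y).symm.trans ?_⟩
      rw [Sigma.ι_desc]
      exact hy⟩
    haveI : Flat (Sigma.desc fun i => (V i).hom) := IsZariskiLocalAtSource.sigmaDesc fun i => inferInstance
    haveI : Epi (Sigma.desc fun i => (V i).hom) := Flat.epi_of_flat_of_surjective _
    refine Over.OverMorphism.ext ((cancel_epi (Sigma.desc fun i => (V i).hom)).1 (Sigma.hom_ext _ _ fun i => ?_))
    rw [Sigma.ι_desc_assoc, Sigma.ι_desc_assoc]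
    let gV : PicRel.ovr T₂ (V i) ⟶ T₂ := PicRel.ovrHom T₂ (V i)
    show gV.left ≫ (v₁ ≫ qn).left = gV.left ≫ (w₂ ≫ qn).left
    have hc := hcl i
    rw [← AbDualLib.toCl_pull, ← AbDualLib.toCl_pull] at hc
    have hc' := AbDualLib.toCl_injective hc
    have hc'' : ∏ l, pt f (gV ≫ v₁ ≫ π l) = ∏ l, pt f (gV ≫ w₂ ≫ π l) := by
      refine Eq.trans ?_ (hc'.trans ?_) <;> rw [map_prod] <;> refine Finset.prod_congr rfl fun l _ => ?_
      · symm; apply pt_comp
      · apply pt_comp
    let x : Fin (n + m) → (PicRel.ovr T₂ (V i) ⟶ Over.mk f) := comps f (n + m) (gV ≫ v)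
    let y : Fin (n + m) → (PicRel.ovr T₂ (V i) ⟶ Over.mk f) :=
      Fin.addCases (fun j => gV ≫ w₂ ≫ π j) fun j => x (j.natAdd n)
    have hxv : ∀ j : Fin n, x (j.castAdd m) = gV ≫ v₁ ≫ π j := fun j => by
      show comps f (n + m) (gV ≫ v) (j.castAdd m) = _
      rw [← comps_powProj, comps_eq]
      simp only [v₁, ρ, Category.assoc, hofπ]
    have hmem : ∀ t, (gV ≫ v).left t ∈ G := fun t => ((gV ≫ w₁).left t).2
    have hgood : Good (∏ l, pt f (x l)) = Set.univ := by
      rw [← pull_tuple_fam, tuple_comps]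
      exact good_pull_univ _ (by rintro _ ⟨s, rfl⟩; exact (hmem s).2)
    have hprod : ∏ l, pt f (y l) = ∏ l, pt f (x l) := by
      rw [Fin.prod_univ_add, Fin.prod_univ_add]
      simp only [y, Fin.addCases_left, Fin.addCases_right, hxv]
      rw [hc'']
    refine (Scheme.Cover.hom_ext (Scheme.openCoverOfIsOpenCover (PicRel.ovr T₂ (V i)).left
      (fun t => (exists_perm_castAdd n m x y (fun j => Fin.addCases_right j)
        (ne_of_mem_distinct _ fun t => (hmem t).1) hgood hprod t).choose)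
      (TopologicalSpace.IsOpenCover.mk (eq_top_iff.2 fun t _ => TopologicalSpace.Opens.mem_iSup.2 ⟨t,
        (exists_perm_castAdd n m x y (fun j => Fin.addCases_right j)
        (ne_of_mem_distinct _ fun t => (hmem t).1) hgood hprod t).choose_spec.choose_spec.1⟩))) _ _ fun t => ?_)
    obtain ⟨σ, -, hσ⟩ := (exists_perm_castAdd n m x y (fun j => Fin.addCases_right j)
        (ne_of_mem_distinct _ fun t => (hmem t).1) hgood hprod t).choose_spec
    let W := (exists_perm_castAdd n m x y (fun j => Fin.addCases_right j)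
        (ne_of_mem_distinct _ fun t => (hmem t).1) hgood hprod t).choose
    show W.ι ≫ gV.left ≫ (v₁ ≫ qn).left = W.ι ≫ gV.left ≫ (w₂ ≫ qn).left
    have hperm : W.ι ≫ gV.left ≫ w₂.left = (W.ι ≫ gV.left ≫ v₁.left) ≫ SymProd.permHom f n σ.symm := by
      refine WidePullback.hom_ext _ _ _ (fun j => ?_) ?_
      · rw [Category.assoc, Category.assoc, Category.assoc, SymProd.permHom_π, Category.assoc]
        have h := hσ j
        simp only [y, Fin.addCases_left, hxv] at h
        simpa [π, W, Category.assoc] using h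
      · simp only [Category.assoc, SymProd.permHom_base]
        rw [show w₂.left ≫ WidePullback.base (fun _ : Fin n => f) = T₂.hom from Over.w w₂,
          show v₁.left ≫ WidePullback.base (fun _ : Fin n => f) = T₂.hom from Over.w v₁]
    have hinv : SymProd.permHom f n σ.symm ≫ q = q := hq.isQuot.inv ⟨σ.symm⟩
    simp only [Over.comp_left, qn, Over.homMk_left]
    rw [reassoc_of% hperm, hinv]
  haveI : IsIntegral Y := by
    haveI := isIntegral_pow (f := f) n
    haveI : ConnectedSpace Y := by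
      let s : (pow f n).left ⟶ Y := ofPow.left ≫ q
      exact (Function.Surjective.connectedSpace (f := s) s.surjective s.continuous)
    exact SmoothWeil.isIntegral_of_smooth_connected gY
  haveI : Nonempty U₁.toScheme := ⟨⟨hU₁.some, hU₁.some_mem⟩⟩
  haveI : IsIntegral U₁.toScheme := isIntegral_of_isOpenImmersion U₁.ι
  haveI : IsLocallyNoetherian P.left := LocallyOfFiniteType.isLocallyNoetherian P.hom
  haveI : IsLocallyNoetherian Y := LocallyOfFiniteType.isLocallyNoetherian gY
  haveI : CompactSpace Y := QuasiCompact.compactSpace_of_compactSpace gY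
  haveI : IsNoetherian Y := ⟨⟩
  haveI : LocallyOfFiniteType (Over.mk gY).hom := inferInstanceAs (LocallyOfFiniteType gY)
  haveI : QuasiCompact (Over.mk gY).hom := inferInstanceAs (QuasiCompact gY)
  haveI : LocallyOfFiniteType jP.left :=
    haveI : LocallyOfFiniteType (jP.left ≫ P.hom) := by rw [Over.w jP]; infer_instance
    locallyOfFiniteType_of_comp jP.left P.hom
  haveI : QuasiCompact jP.left :=
    haveI : QuasiCompact (jP.left ≫ P.hom) := by rw [Over.w jP]; exact (inferInstance : QuasiCompact gY)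
    QuasiCompact.of_comp jP.left P.hom
  obtain ⟨U₂, ⟨z, hz⟩, hU₂⟩ := exists_immersion_of_mono (U₁.ι ≫ jP.left)
  let U : Y.Opens := U₁.ι ''ᵁ U₂
  refine ⟨U, ⟨U₁.ι z, z, hz, rfl⟩, ?_⟩
  haveI : IsImmersion ((U₂.ι ≫ U₁.ι ≫ jn.left) ≫ F₀.left) := by
    have : (U₂.ι ≫ U₁.ι ≫ jn.left) ≫ F₀.left = U₂.ι ≫ U₁.ι ≫ jP.left := by simp [jP]
    rw [this]; exact hU₂
  haveI := IsImmersion.of_comp (U₂.ι ≫ U₁.ι ≫ jn.left) F₀.left
  rw [← MorphismProperty.cancel_left_of_respectsIso (P := @IsImmersion) (U₁.ι.isoImage U₂).hom,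
    ← Category.assoc, Scheme.Hom.isoImage_hom_ι, Category.assoc]
  infer_instance

end Groth.Agent.S17137
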