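import Groth.Statements.S17138
import Groth.Agent.JacLib.Tuples
import Groth.Agent.JacLib.PicZero
import Groth.Agent.HilbCurveLib.Pull
import Groth.Agent.CurveLib.DegTensor
-- import your own Groth.Agent.* helpers here

set_option autoImplicit false
set_option linter.style.haveILetI false
set_option backward.isDefEq.respectTransparency false
set_option backward.isDefEq.respectTransparency.types false
set_option maxHeartbeats 1600000
universe u
open CategoryTheory CategoryTheory.Limits AlgebraicGeometry MonoidalCategory CartesianMonoidalCategory MonObj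
open Jac

namespace Groth.Agent.S17138

open Groth.Agent.JacLib Groth.Agent.PicLib

/-- Admissible families are stable under pull-back. -/
theorem ok_pull {X S : Scheme.{u}} (f : X ⟶ S) [IsProper f] (d : ℤ) {T T' : Over S} (g : T' ⟶ T) (x : (PicF.XT f T).Modules)
    (hx : (ModFun.PicDeg f d).ok T x) : (ModFun.PicDeg f d).ok T' ((Scheme.Modules.pullback (PicF.XTmap f g)).obj x) := by
  refine ⟨⟨trivial, fun z => ?_⟩, fun Ω _ _ t => ?_⟩
  · obtain ⟨U, hz, ⟨e⟩⟩ := Groth.Agent.AmpleLib.isInvertible_pullback (PicF.XTmap f g)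
      (Groth.Agent.VBLib.isInvertible_of_rank hx.1.2) z
    exact ⟨U, hz, ⟨e ≪≫ (coproductUniqueIso fun _ : Fin 1 => Coh.structureModule (↑U : Scheme.{u})).symm⟩⟩
  have aux : ∀ (s : Spec (CommRingCat.of Ω) ⟶ S) (h : s = t ≫ T'.hom) (m : Over.mk s ⟶ T), m.left = t ≫ g.left →
      (letI : (PicF.XT f (Over.mk s)).Over (Spec (CommRingCat.of Ω)) := ⟨PicF.XTproj f (Over.mk s)⟩
      Curv2.deg Ω (PicF.XT f (Over.mk s)) ((Scheme.Modules.pullback (PicF.XTmap f m)).obj x) 1 = d) →
      (letI : (PicF.XT f (Over.mk (t ≫ T'.hom))).Over (Spec (CommRingCat.of Ω)) := ⟨PicF.XTproj f (Over.mk (t ≫ T'.hom))⟩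
      Curv2.deg Ω (PicF.XT f (Over.mk (t ≫ T'.hom)))
        ((Scheme.Modules.pullback (PicF.XTmap f (Over.homMk t rfl : Over.mk (t ≫ T'.hom) ⟶ T'))).obj
          ((Scheme.Modules.pullback (PicF.XTmap f g)).obj x)) 1 = d) := by
    rintro s rfl m hm hd
    obtain rfl : m = (Over.homMk t rfl : Over.mk (t ≫ T'.hom) ⟶ T') ≫ g := Over.OverMorphism.ext hm
    letI : (PicF.XT f (Over.mk (t ≫ T'.hom))).Over (Spec (CommRingCat.of Ω)) := ⟨PicF.XTproj f (Over.mk (t ≫ T'.hom))⟩
    haveI : IsProper (PicF.XT f (Over.mk (t ≫ T'.hom)) ↘ Spec (CommRingCat.of Ω)) := inferInstanceAs (IsProper (pullback.snd f _))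
    refine (Groth.Agent.CurveLib.deg_iso ?_ 1).trans hd
    exact (Scheme.Modules.pullbackComp _ _).app x ≪≫
      (Scheme.Modules.pullbackCongr (Groth.Agent.HilbCurveLib.XTmap_comp (f := f) g _).symm).app x
  exact aux ((t ≫ g.left) ≫ T.hom) (by rw [Category.assoc, Over.w g]) (Over.homMk (t ≫ g.left) rfl) rfl
    (hx.2 Ω (t ≫ g.left))

/-- The class of an iterated tensor product. -/
theorem exists_cls_tensorList {Y : Scheme.{u}} : ∀ {n : ℕ} (M : Fin n → Y.Modules) (hM : ∀ i, PicF.IsInvertible (M i)),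
    ∃ h : PicF.IsInvertible (FGA.tensorList (List.ofFn M)), cls h = ∏ i, cls (hM i)
  | 0, M, _ => by
    rw [List.ofFn_zero, Finset.univ_eq_empty, Finset.prod_empty]
    exact ⟨Groth.Agent.ParaFLib.isInvertible_structureModule, rfl⟩
  | n + 1, M, hM => by
    obtain ⟨h, e⟩ := exists_cls_tensorList (fun i => M i.succ) fun i => hM i.succ
    rw [List.ofFn_succ, Fin.prod_univ_succ, ← e]
    exact ⟨Groth.Agent.AmpleLib.isInvertible_tensor (hM 0) h, cls_tensor _ _⟩


/-- Let X be a smooth proper geometrically connected curve of genus g ≥ 1 over a field k and n ≥ 1; let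
(Y, q) be the n-th symmetric power C^(n) of X over k (q : X ×_k ⋯ ×_k X → Y a quotient of the n-fold
fibre power by the symmetric group permuting the factors: affine, invariant, identifying sections of
O_Y with invariant sections, with q over k), let (J_n, ψ_n) be a coarse moduli scheme, on all
k-schemes, for line bundles of degree n on X modulo twisting from the base (the degree-n Picard
scheme), and let j_n : Y → J_n be the morphism through which the classifying map of the family O(Γ_1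
+ ⋯ + Γ_n) on X × X^n factors (Γ_i the graph of the i-th projection; the family F is pinned by F ⊗
I_{Γ_1} ⊗ ⋯ ⊗ I_{Γ_n} ≅ O), i.e. q followed by j_n is ψ_n of that family, so that j_n sends an
effective divisor D of degree n to the class of O(D). If g ≤ n, then j_n is surjective (on the
underlying topological spaces). -/
theorem result (k : Type u) [Field k]
    (X : Scheme.{u}) [X.Over (Spec (CommRingCat.of k))]
    [IsProper (X ↘ Spec (CommRingCat.of k))] [Smooth (X ↘ Spec (CommRingCat.of k))]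
    [GeometricallyConnected (X ↘ Spec (CommRingCat.of k))] (hdim : topologicalKrullDim ↥X = 1)
    (g : ℕ) (hg : Curv2.genus k X = g) (hg1 : 1 ≤ g)
    (n : ℕ) (hn : 1 ≤ n)
    (Y : Scheme.{u}) (q : SymProd.fibPow (X ↘ Spec (CommRingCat.of k)) n ⟶ Y) (gY : Y ⟶ Spec (CommRingCat.of k))
    (hq : SymProd.IsSymProd (X ↘ Spec (CommRingCat.of k)) n q gY)
    (Jn : Over (Spec (CommRingCat.of k)))
    (ψn : (ModFun.PicDeg (X ↘ Spec (CommRingCat.of k)) (n : ℤ)).Hom ⊤ Jn)
    (hJn : ModFun.IsCoarseModuli ⊤ (ModFun.PicDeg (X ↘ Spec (CommRingCat.of k)) (n : ℤ)) Jn ψn)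
    (F : (PicF.XT (X ↘ Spec (CommRingCat.of k)) (Over.mk (WidePullback.base fun (_ : Fin n) => (X ↘ Spec (CommRingCat.of k))))).Modules)
    (hF : Nonempty (CohB1.tensorMod F (FGA.tensorList (List.ofFn fun i : Fin n =>
        ClSub.idealMod (pullback.lift (WidePullback.π (fun (_ : Fin n) => (X ↘ Spec (CommRingCat.of k))) i) (𝟙 (SymProd.fibPow (X ↘ Spec (CommRingCat.of k)) n))
          ((WidePullback.π_arrow (fun (_ : Fin n) => (X ↘ Spec (CommRingCat.of k))) i).trans (Category.id_comp _).symm) :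
            SymProd.fibPow (X ↘ Spec (CommRingCat.of k)) n ⟶ PicF.XT (X ↘ Spec (CommRingCat.of k)) (Over.mk (WidePullback.base fun (_ : Fin n) => (X ↘ Spec (CommRingCat.of k))))).ker)) ≅
      Coh.structureModule _))
    (hT : (⊤ : ObjectProperty (Over (Spec (CommRingCat.of k)))) (Over.mk (WidePullback.base fun (_ : Fin n) => (X ↘ Spec (CommRingCat.of k)))))
    (hFok : (ModFun.PicDeg (X ↘ Spec (CommRingCat.of k)) (n : ℤ)).ok (Over.mk (WidePullback.base fun (_ : Fin n) => (X ↘ Spec (CommRingCat.of k)))) F)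
    (jn : Over.mk gY ⟶ Jn)
    (hjn : Over.homMk q hq.over ≫ jn = ψn.app (Over.mk (WidePullback.base fun (_ : Fin n) => (X ↘ Spec (CommRingCat.of k)))) F hT hFok)
    (hgn : g ≤ n) :
    Function.Surjective jn.left.base := by
  classical
  let f := X ↘ Spec (CommRingCat.of k)
  have hfib : ∀ s : Spec (CommRingCat.of k), topologicalKrullDim ↥(f.fiber s) = 1 := fun s => by
    haveI : Subsingleton ↥(Spec (CommRingCat.of k)) := inferInstanceAs (Subsingleton (PrimeSpectrum k))
    have he : f ⁻¹' {s} = Set.univ := Set.eq_univ_of_forall fun x => Subsingleton.elim _ _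
    exact ((f.fiberHomeo s).trans ((Homeomorph.setCongr he).trans (Homeomorph.Set.univ _))).isHomeomorph.topologicalKrullDim_eq.trans hdim
  haveI : SmoothOfRelativeDimension 1 f := smoothOfRelativeDimension_one f hfib
  intro p
  let Ω := AlgebraicClosure (Jn.left.residueField p)
  let qp : Spec (CommRingCat.of Ω) ⟶ Jn.left :=
    Spec.map (CommRingCat.ofHom (algebraMap (Jn.left.residueField p) Ω)) ≫ Jn.left.fromSpecResidueField p
  have hqp : qp (IsLocalRing.closedPoint Ω) = p := by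
    show (Spec.map _ ≫ Jn.left.fromSpecResidueField p) _ = p
    rw [Scheme.Hom.comp_apply]
    exact Scheme.fromSpecResidueField_apply p _
  let τ₀ : Spec (CommRingCat.of Ω) ⟶ Spec (CommRingCat.of k) := qp ≫ Jn.hom
  let g₀ : Over.mk τ₀ ⟶ Jn := Over.homMk qp rfl
  obtain ⟨E₀, hE₀, hφ₀⟩ := (hJn.2.2 Ω τ₀ trivial).1 g₀
  let τ : Spec (CommRingCat.of Ω) ⟶ Spec (CommRingCat.of k) := 𝟙 _ ≫ τ₀
  let i₀ : Over.mk τ ⟶ Over.mk τ₀ := Over.homMk (𝟙 _) rfl
  let E : (PicF.XT f (Over.mk τ)).Modules := (Scheme.Modules.pullback (PicF.XTmap f i₀)).obj E₀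
  letI : (PicF.XT f (Over.mk τ)).Over (Spec (CommRingCat.of Ω)) := ⟨PicF.XTproj f (Over.mk τ)⟩
  haveI : IsProper (PicF.XT f (Over.mk τ) ↘ Spec (CommRingCat.of Ω)) := isProper_XT f τ
  haveI : Smooth (PicF.XT f (Over.mk τ) ↘ Spec (CommRingCat.of Ω)) := smooth_XT f τ
  haveI : GeometricallyConnected (PicF.XT f (Over.mk τ) ↘ Spec (CommRingCat.of Ω)) := geometricallyConnected_XT f τ
  have hd := dim_XT f τ hfib
  obtain ⟨hint, hreg, h0⟩ := setup_of_smooth_connected Ω (PicF.XT f (Over.mk τ)) hd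
  haveI := hint
  haveI := hreg
  have hEi : PicF.IsInvertible E :=
    Groth.Agent.AmpleLib.isInvertible_pullback _ (Groth.Agent.VBLib.isInvertible_of_rank hE₀.1.2)
  have hdeg : Curv2.deg Ω (PicF.XT f (Over.mk τ)) E 1 = (n : ℤ) := hE₀.2 Ω (𝟙 _)
  have hgen : Curv2.genus Ω (PicF.XT f (Over.mk τ)) ≤ n := by
    haveI : Coh.IsQCoh (Coh.structureModule X) :=
      Groth.Agent.PicDegLib.isQCoh_invertible Groth.Agent.ParaFLib.isInvertible_structureModule
    refine (genus_XT f τ).le.trans ?_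
    rw [fiberRank_eq_finrank (k := k) (Coh.structureModule X) 1]
    exact hg.le.trans hgn
  obtain ⟨y, hy⟩ := exists_eq_prod_pt f τ hd h0 hEi n hdeg hgen
  let Tn : Over (Spec (CommRingCat.of k)) := Over.mk (WidePullback.base fun _ : Fin n => f)
  let π : Fin n → (Tn ⟶ Over.mk f) := fun i =>
    Over.homMk (WidePullback.π (fun _ : Fin n => f) i) (WidePullback.π_arrow (fun _ : Fin n => f) i)
  let w : Over.mk τ ⟶ Tn :=
    Over.homMk (WidePullback.lift τ (fun i => (y i).left) fun i => Over.w (y i)) (WidePullback.lift_base _ _ _ _)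
  have hwπ : ∀ i, w ≫ π i = y i := fun i => Over.OverMorphism.ext (WidePullback.lift_π _ _ _ _ i)
  have hI : ∀ i, PicF.IsInvertible (ClSub.idealMod (graph f (π i)).ker) := fun i =>
    (Groth.Agent.S8914.result _).2 (Groth.Agent.HilbCurveLib.effCartier_of_flf (PicF.XTproj f Tn) (deg_graph (π i)).1)
  have hFi : PicF.IsInvertible F := Groth.Agent.VBLib.isInvertible_of_rank hFok.1.2
  obtain ⟨hl, hle⟩ := exists_cls_tensorList (fun i => ClSub.idealMod (graph f (π i)).ker) hI
  have hFc : cls hFi = ∏ i, pt f (π i) := by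
    have h1 : cls hFi * cls hl = 1 := (cls_tensor hFi hl).symm.trans ((cls_eq_one _).2 hF)
    rw [eq_inv_of_mul_eq_one_left h1, hle, ← Finset.prod_inv_distrib]
    exact Finset.prod_congr rfl fun i _ => (pt_eq f (π i) (hI i)).symm
  obtain ⟨eEF⟩ : Nonempty (E ≅ (Scheme.Modules.pullback (PicF.XTmap f w)).obj F) := by
    refine (cls_eq_cls hEi (Groth.Agent.AmpleLib.isInvertible_pullback _ hFi)).1 ?_
    rw [hy, ← pull_cls _ hFi, hFc, map_prod]
    exact Finset.prod_congr rfl fun i _ => by rw [pt_comp, hwπ]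
  let P := ModFun.PicDeg f (n : ℤ)
  have hok : P.ok (Over.mk τ) (P.pull w F) := ok_pull f _ w F hFok
  have hokE : P.ok (Over.mk τ) E := ok_pull f _ i₀ E₀ hE₀
  have hr : P.r (Over.mk τ) E (P.pull w F) :=
    ⟨Coh.structureModule _, Groth.Agent.ParaFLib.isInvertible_structureModule,
      ⟨eEF.symm ≪≫ (Groth.Agent.AmpleLib.unitR E).symm ≪≫
        Groth.Agent.AmpleLib.tIso (Iso.refl E) (Groth.Agent.AmpleLib.pullO _).symm⟩⟩
  have h1 := ψn.resp E (P.pull w F) trivial hokE hok hr
  have h2 := ψn.natural w F hT trivial hFok hok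
  have h3 := ψn.natural i₀ E₀ trivial trivial hE₀ hokE
  have h4 : i₀ ≫ g₀ = w ≫ (Over.homMk q hq.over : Tn ⟶ Over.mk gY) ≫ jn := by
    rw [hjn, ← hφ₀, ← h3, ← h2]
    exact h1
  refine ⟨q (w.left (IsLocalRing.closedPoint Ω)), ?_⟩
  have h5 := congrArg (fun m : Over.mk τ ⟶ Jn => m.left (IsLocalRing.closedPoint Ω)) h4
  simp only [Over.comp_left, Scheme.Hom.comp_apply] at h5
  refine h5.symm.trans ?_
  exact hqp

end Groth.Agent.S17138
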