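import Groth.Statements.S17144
import Groth.Agent.IsocLib.Slope


set_option autoImplicit false
universe u v
open Isoc Groth.Agent.IsocLib

namespace Groth.Agent.S17144

/-- Let k be a perfect field of characteristic p, a ∈ ℤ, W = W(k) with fraction field L, and (N, F) a
σ^a-F-isocrystal over k (N finite-dimensional over L, F a bijective σ^a-semilinear endomorphism) of
height h = dim_L N. If there is a W-lattice M in N with F^(h+1)(M) ⊆ p^(-1) · M, then (N, F) is
effective, i.e. there is a W-lattice M'' in N with F(M'') ⊆ M''. -/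
theorem result (p : ℕ) [Fact p.Prime] (k : Type u) [Field k] [CharP k p] [PerfectRing k p] (a : ℤ)
    (N : Type v) [AddCommGroup N] [Module (WittVector p k) N] [Module (FractionRing (WittVector p k)) N]
    [IsScalarTower (WittVector p k) (FractionRing (WittVector p k)) N]
    (F : N →ₛₗ[Isoc.frob p k a] N) (hF : Isoc.IsIsoc F) (h : ℕ) (hh : Module.finrank (FractionRing (WittVector p k)) N = h)
    (M : Submodule (WittVector p k) N) (hM : M.IsLattice (FractionRing (WittVector p k)))
    (hFM : Isoc.latImg F (h + 1) M ≤ Isoc.pPow (-1) M) : Isoc.IsEffective F := by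
  haveI := hF.finite
  rcases subsingleton_or_nontrivial N with hN | hN
  · exact ⟨M, hM, fun x _ => by rw [Subsingleton.elim x 0]; exact zero_mem M⟩
  obtain ⟨q, hden, hq⟩ := exists_slope' (good_frob a) F hF.bijective.1
  have hle := hq.div_le_of_latImg_le (good_frob a) hF.bijective.1 hM (Nat.succ_pos h) hFM
  have hq0 : 0 ≤ q := by
    by_contra hneg
    push Not at hneg
    have hnum : q.num ≤ -1 := by have := Rat.num_neg.2 hneg; omega
    have hd0 : (0 : ℚ) < q.den := by exact_mod_cast q.den_pos
    have h1 : q * q.den ≤ -1 := by rw [Rat.mul_den_eq_num]; exact_mod_cast hnum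
    have h2 : (q.den : ℚ) ≤ h := by exact_mod_cast hh ▸ hden
    have h3 : (-1 : ℚ) ≤ q * ((h : ℚ) + 1) := by
      rw [div_le_iff₀ (by positivity)] at hle
      push_cast at hle
      exact hle
    have h4 : q * ((h : ℚ) + 1) < q * q.den := mul_lt_mul_of_neg_left (by linarith) hneg
    linarith
  obtain ⟨M', hM', h'⟩ := hq.exists_latImg_le (good_frob a) (r := 0) (s := 1) (by simpa using hq0)
  exact ⟨M', hM', by rwa [pPow_zero] at h'⟩


end Groth.Agent.S17144
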