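import Groth.Statements.S17149
import Groth.Agent.IsocLib.Isoclinic


set_option autoImplicit false
universe u v
open Isoc Groth.Agent.IsocLib

namespace Groth.Agent.S17149

/-- Let k be a perfect field of characteristic p, a ∈ ℤ, W = W(k) with fraction field L, and (N, F) a
σ^a-F-isocrystal over k (N finite-dimensional over L, F a bijective σ^a-semilinear endomorphism)
that is isoclinic of slope μ (some W-lattice M, r ∈ ℤ, s > 0 with r/s = μ and F^s(M) = p^r · M).
Then for every L-subspace P of N with F(P) ⊆ P, the quotient N/P with the σ^a-semilinear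
endomorphism induced by F is again isoclinic of slope μ. -/
theorem result (p : ℕ) [Fact p.Prime] (k : Type u) [Field k] [CharP k p] [PerfectRing k p] (a : ℤ)
    (N : Type v) [AddCommGroup N] [Module (WittVector p k) N] [Module (FractionRing (WittVector p k)) N]
    [IsScalarTower (WittVector p k) (FractionRing (WittVector p k)) N]
    (F : N →ₛₗ[Isoc.frob p k a] N) (hF : Isoc.IsIsoc F) (μ : ℚ) (hμ : Isoc.IsIsoclinic F μ)
    (P : Submodule (FractionRing (WittVector p k)) N) (hP : P ≤ P.comap F) :
    Isoc.IsIsoclinic (P.mapQ P F hP) μ := by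
  obtain ⟨M, hM, r, s, hs, hrs, hFM⟩ := hμ
  refine ⟨M.map (P.mkQ.restrictScalars (WittVector p k)), ⟨hM.fg.map _, ?_⟩, r, s, hs, hrs, ?_⟩
  · rw [span_map, hM.span_eq_top, Submodule.map_top, Submodule.range_mkQ]
  · rw [latImg_map (good_frob a) (F' := P.mapQ P F hP) (fun _ => rfl), pPow_map, hFM]


end Groth.Agent.S17149
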