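import Groth.Statements.S1715
import Groth.Agent.DualCxLib.SkOpen

set_option autoImplicit false
set_option backward.isDefEq.respectTransparency false
set_option linter.style.haveILetI false
universe u
open CategoryTheory
attribute [local instance] HasDerivedCategory.standard
open LocCoh
open Groth.Agent.DualCxLib (HK model dfn exists_supportDim_localized dim_bounds depth_bounds finite_HK' not_zeroAt_iff_mem_support mem_range_of_not_zeroAt dfn_lt mem_support_of_mem_support_HK exists_depth_localized)

namespace Groth.Agent.S1715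

/-- For an affine scheme: let A be a Noetherian ring with a dualizing complex and M a finite A-module
satisfying Serre's condition (S_k). Then there are only finitely many primes p such that M_p has
depth exactly k while its support has dimension greater than k. (The source states this for coherent
modules on a Noetherian scheme with a dualizing complex.) -/
theorem result (A : Type u) [CommRing A] [IsNoetherianRing A] (hA : ∃ ω : Dual.D A, Dual.IsDualizing A ω) (M : Type u) [AddCommGroup M] [Module A M] [Module.Finite A M] (k : ℕ) (hM : LocCoh.HasSk k A M) : Set.Finite {p : PrimeSpectrum A | LocCoh.depth (Localization.AtPrime p.asIdeal) (LocalizedModule p.asIdeal.primeCompl M) = k ∧ (k : WithBot ℕ∞) < Module.supportDim (Localization.AtPrime p.asIdeal) (LocalizedModule p.asIdeal.primeCompl M)} := by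
  classical
  obtain ⟨ω, hω⟩ := hA
  let I : ℤ × ℤ → Ideal A := fun ij =>
    Module.annihilator A (HK ω ij.1 M) ⊔ Module.annihilator A (HK ω ij.2 M)
  let S := Finset.Icc (model hω).a (model hω).b
  let F0 : Set (PrimeSpectrum A) := ⋃ ij ∈ ((S ×ˢ S : Finset (ℤ × ℤ)) : Set (ℤ × ℤ)), PrimeSpectrum.asIdeal ⁻¹' (I ij).minimalPrimes
  have hF0 : F0.Finite := (Finset.finite_toSet _).biUnion fun ij _ =>
    ((I ij).finite_minimalPrimes_of_isNoetherianRing A).preimage (fun a _ b _ h => PrimeSpectrum.ext h)
  refine hF0.subset fun p ⟨hpD, hpd⟩ => ?_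
  have hp : p ∈ Module.support A M := by
    by_contra hp
    haveI : Subsingleton (LocalizedModule p.asIdeal.primeCompl M) := not_nontrivial_iff_subsingleton.1 hp
    rw [Module.supportDim_eq_bot_of_subsingleton] at hpd
    exact not_lt_bot hpd
  obtain ⟨d, hd, -⟩ := exists_supportDim_localized hω p hp
  obtain ⟨-, hne⟩ := dim_bounds hω p d hd
  obtain ⟨-, hne'⟩ := depth_bounds hω p k M hpD
  rw [hd] at hpd
  replace hpd : k < d := by exact_mod_cast hpd
  let i : ℤ := dfn hω p - k
  let j : ℤ := dfn hω p - d
  haveI := finite_HK' hω i M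
  haveI := finite_HK' hω j M
  have hle : I (i, j) ≤ p.asIdeal := sup_le (Module.mem_support_iff_of_finite.1 ((not_zeroAt_iff_mem_support p).1 hne'))
    (Module.mem_support_iff_of_finite.1 ((not_zeroAt_iff_mem_support p).1 hne))
  obtain ⟨Q, hQ, hQp⟩ := Ideal.exists_minimalPrimes_le hle
  let Q' : PrimeSpectrum A := ⟨Q, hQ.1.1⟩
  have hij : ((i, j) : ℤ × ℤ) ∈ ((S ×ˢ S : Finset (ℤ × ℤ)) : Set (ℤ × ℤ)) :=
    Finset.mem_coe.2 (Finset.mem_product.2 ⟨Finset.mem_Icc.2 (mem_range_of_not_zeroAt hω hne'),
      Finset.mem_Icc.2 (mem_range_of_not_zeroAt hω hne)⟩)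
  have hmem : Q' ∈ F0 := Set.mem_biUnion hij hQ
  suffices h : Q' = p from h ▸ hmem
  by_contra hne2
  have := dfn_lt hω (lt_of_le_of_ne (show Q' ≤ p from hQp) hne2)
  have hi : Q' ∈ Module.support A (Groth.Agent.DualCxLib.HK ω i M) := Module.mem_support_iff_of_finite.2 (le_sup_left.trans hQ.1.2)
  have hj : Q' ∈ Module.support A (Groth.Agent.DualCxLib.HK ω j M) := Module.mem_support_iff_of_finite.2 (le_sup_right.trans hQ.1.2)
  have hp' := mem_support_of_mem_support_HK hω Q' hi
  obtain ⟨D', hD'⟩ := exists_depth_localized Q' hp'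
  obtain ⟨d', hd', -⟩ := exists_supportDim_localized hω Q' hp'
  have := ((dim_bounds hω Q' d' hd').1 j ((not_zeroAt_iff_mem_support Q').2 hj)).1
  have := (depth_bounds hω Q' D' M hD').1 i ((not_zeroAt_iff_mem_support Q').2 hi)
  have hs := @hM Q'.asIdeal Q'.isPrime
  rw [hd', hD', Groth.Agent.DualCxLib.min_coe_le_iff] at hs
  omega

end Groth.Agent.S1715
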