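import Groth.Statements.S17157
import Groth.Agent.IsocLib.FiniteField


set_option autoImplicit false
universe u
open Isoc Groth.Agent.IsocLib

namespace Groth.Agent.S17157

/-- Let k be a finite field of characteristic p, W = W(k), L its fraction field with Frobenius σ, and
let U be the σ-semilinear endomorphism of L² = (Fin 2 → L) determined by U(e₀) = e₀ and U(e₁) = e₀ +
e₁ on the standard basis. Then (L², U) is an F-isocrystal in which the sub-isocrystal L · e₀ admits
no U-stable complementary L-subspace; in particular the category of F-isocrystals over a finite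
field is not semisimple. (Over an algebraically closed field a complement exists.) -/
theorem result
    (p : ℕ) [Fact p.Prime] (k : Type u) [Field k] [CharP k p] [PerfectRing k p] [Finite k]
    (U : (Fin 2 → (FractionRing (WittVector p k))) →ₛₗ[Isoc.frob p k 1] (Fin 2 → (FractionRing (WittVector p k))))
    (hU0 : U (Pi.single 0 1) = Pi.single 0 1)
    (hU1 : U (Pi.single 1 1) = Pi.single 0 1 + Pi.single 1 1)
    (Q : Submodule (FractionRing (WittVector p k)) (Fin 2 → (FractionRing (WittVector p k)))) (hQ : ∀ x ∈ Q, U x ∈ Q) :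
    ¬ IsCompl (Submodule.span (FractionRing (WittVector p k)) {(Pi.single 0 1 : Fin 2 → (FractionRing (WittVector p k)))}) Q := by
  intro hc
  haveI := Fintype.ofFinite k
  obtain ⟨e₀, he₀⟩ : ∃ e : Fin 2 → FractionRing (WittVector p k), e = Pi.single 0 1 := ⟨_, rfl⟩
  rw [← he₀] at hU0 hU1 hc
  let σ := Isoc.frob p k 1
  obtain ⟨y, hy, x, hx, hyx⟩ := Submodule.mem_sup.1 (hc.codisjoint.eq_top.ge
    (Submodule.mem_top (x := (Pi.single 1 1 : Fin 2 → FractionRing (WittVector p k)))))
  obtain ⟨t, rfl⟩ := Submodule.mem_span_singleton.1 hy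
  have hx' : x = Pi.single 1 1 - t • e₀ := by rw [← hyx]; abel
  have hUx : U x - x = (1 - σ t + t) • e₀ := by
    rw [hx', map_sub, U.map_smulₛₗ, hU0, hU1, add_smul, sub_smul, one_smul]
    abel
  have h0 := Submodule.disjoint_def.1 hc.disjoint (U x - x)
    (hUx ▸ Submodule.smul_mem _ _ (Submodule.mem_span_singleton_self _)) (Q.sub_mem (hQ x hx) hx)
  rw [hUx, smul_eq_zero] at h0
  have hne : e₀ ≠ 0 := fun h => by simpa [he₀] using congrFun h 0
  have ht : σ t = t + 1 := by linear_combination -(h0.resolve_right hne)
  obtain ⟨m, -, hcard⟩ := FiniteField.card k p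
  have hiter : ∀ j : ℕ, (σ ^ j) t = t + j := fun j => by
    induction j with
    | zero => simp
    | succ j ih =>
      rw [pow_succ, RingHom.coe_mul, Function.comp_apply, ht, map_add, map_one, ih]
      push_cast
      ring
  have hm := hiter m
  rw [frob_pow, frob_card hcard, RingHom.id_apply, left_eq_add] at hm
  exact m.ne_zero (natCast_eq_zero hm)


end Groth.Agent.S17157
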