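import Groth.Statements.S17169
import Groth.Agent.UniruledCurveLib.Main

set_option autoImplicit false
set_option backward.isDefEq.respectTransparency false
set_option maxHeartbeats 4000000
universe u
open CategoryTheory CategoryTheory.Limits AlgebraicGeometry
open MorSch

namespace Groth.Agent.S17169

/-- Let X be a projective uniruled variety over an algebraically closed field k. Then there is a
rational curve through every closed point of X: for each closed point x there is a nonconstant
k-morphism g from the projective line to X whose image contains x. (The published remark is for X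
proper and first gives a rational curve through a general point, then through every point by
closedness of the locus swept by rational curves of bounded degree; this row takes X projective.) -/
theorem result
    (k : Type u) [Field k] [IsAlgClosed k] (X : Scheme.{u}) (pX : X ⟶ Spec (CommRingCat.of k))
    [IsIntegral X] [IsProper pX]
    (hproj : ∃ (N : ℕ) (ι : X ⟶ CohB1.ProjSpace N k), IsClosedImmersion ι ∧ ι ≫ CohB1.ProjSpace.toSpec N k = pX)
    (h : MorSch.IsUniruled k pX) (x : X) (hx : IsClosed ({x} : Set X)) :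
    ∃ g : CohB1.ProjSpace 1 k ⟶ X, g ≫ pX = CohB1.ProjSpace.toSpec 1 k ∧ (¬ ∃ y : X, Set.range g.base ⊆ {y}) ∧ x ∈ Set.range g.base := by
  obtain ⟨F, hdom, t, t', htt, hne⟩ := h
  obtain ⟨hMint, hMsep, hMlft, hMqc⟩ := F.isVar
  haveI := hMint
  haveI := hMsep
  haveI := hMlft
  haveI := hMqc
  haveI := hdom
  haveI : Smooth (CohB1.ProjSpace.toSpec 1 k) := Groth.Agent.ProjSmoothLib.smooth_toSpec 1 k
  haveI : Subsingleton ↥(Spec (CommRingCat.of k)) := inferInstanceAs (Subsingleton (PrimeSpectrum k))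
  haveI : IsIntegral (P1Prod k F.m) := Groth.Agent.S1582.result k _ F.M (CohB1.ProjSpace.toSpec 1 k) F.m
  haveI : Smooth F.toM := inferInstance
  haveI : LocallyOfFinitePresentation F.m := LocallyOfFinitePresentation.iff_locallyOfFiniteType.mpr inferInstance
  -- the pairs of points of the family with distinct images
  let prM := pullback.fst F.toM F.toM ≫ F.toM
  haveI : Smooth prM := inferInstance
  let E := pullback.fst F.ev₂ (pullback.diagonal pX)
  let W : Set ↑(pullback F.toM F.toM) := (Set.range E.base)ᶜ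
  have hWo : IsOpen W := E.isClosedEmbedding.isClosed_range.isOpen_compl
  obtain ⟨w₀, hw₀, hw₀'⟩ := Scheme.Pullback.exists_preimage_pullback (f := F.toM) (g := F.toM) t t' htt
  have hw₀W : w₀ ∈ W := by
    rintro ⟨ε, hε⟩
    have e1 : E ≫ pullback.fst F.toM F.toM ≫ F.e.hom = pullback.snd F.ev₂ (pullback.diagonal pX) := by
      rw [← F.ev₂_fst, pullback.condition_assoc, pullback.diagonal_fst, Category.comp_id]
    have e2 : E ≫ pullback.snd F.toM F.toM ≫ F.e.hom = pullback.snd F.ev₂ (pullback.diagonal pX) := by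
      rw [← F.ev₂_snd, pullback.condition_assoc, pullback.diagonal_snd, Category.comp_id]
    have e3 := congrArg (fun a : pullback F.ev₂ (pullback.diagonal pX) ⟶ X => a.base ε) (e1.trans e2.symm)
    simp only [Scheme.Hom.comp_apply, hε, hw₀, hw₀'] at e3
    exact hne e3
  let OM : F.M.Opens := ⟨prM.base '' W, prM.isOpenMap _ hWo⟩
  haveI : LocallyOfFiniteType (prM ≫ F.m) := inferInstance
  haveI : JacobsonSpace ↑(pullback F.toM F.toM) := LocallyOfFiniteType.jacobsonSpace (prM ≫ F.m)
  have hOM : ∀ mm : F.M, IsClosed ({mm} : Set F.M) → mm ∈ OM → ∃ tt tt' : Spec (CommRingCat.of k) ⟶ F.e.domain.toScheme,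
      tt ≫ F.e.domain.ι ≫ pullback.snd (CohB1.ProjSpace.toSpec 1 k) F.m ≫ F.m = 𝟙 _ ∧
      tt' ≫ F.e.domain.ι ≫ pullback.snd (CohB1.ProjSpace.toSpec 1 k) F.m ≫ F.m = 𝟙 _ ∧
      (tt ≫ F.e.domain.ι ≫ pullback.snd (CohB1.ProjSpace.toSpec 1 k) F.m) (IsLocalRing.closedPoint k) = mm ∧
      (tt' ≫ F.e.domain.ι ≫ pullback.snd (CohB1.ProjSpace.toSpec 1 k) F.m) (IsLocalRing.closedPoint k) = mm ∧
      tt ≫ F.e.hom ≠ tt' ≫ F.e.hom := by
    intro mm hmm hmem
    obtain ⟨w₁, hw₁W, hw₁⟩ := hmem
    obtain ⟨w, ⟨hwW, hwm⟩, hwc⟩ := nonempty_inter_closedPoints (show (W ∩ prM.base ⁻¹' {mm}).Nonempty from ⟨w₁, hw₁W, hw₁⟩)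
      (hWo.isLocallyClosed.inter (hmm.preimage prM.continuous).isLocallyClosed)
    let wp := pointOfClosedPoint (prM ≫ F.m) w hwc
    have hwp : wp ≫ prM ≫ F.m = 𝟙 _ := pointOfClosedPoint_comp _ _ _
    have hwpt : wp (IsLocalRing.closedPoint k) = w := pointOfClosedPoint_apply _ _ _ _
    have hsnd : prM = pullback.snd F.toM F.toM ≫ F.toM := pullback.condition
    refine ⟨wp ≫ pullback.fst F.toM F.toM, wp ≫ pullback.snd F.toM F.toM, ?_, ?_, ?_, ?_, ?_⟩
    · simpa only [prM, RatFam.toM, Category.assoc] using hwp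
    · rw [hsnd] at hwp
      simpa only [RatFam.toM, Category.assoc] using hwp
    · have : (wp ≫ prM) (IsLocalRing.closedPoint k) = mm := by rw [Scheme.Hom.comp_apply, hwpt]; exact hwm
      simpa only [prM, RatFam.toM, Category.assoc] using this
    · have : (wp ≫ prM) (IsLocalRing.closedPoint k) = mm := by rw [Scheme.Hom.comp_apply, hwpt]; exact hwm
      rw [hsnd] at this
      simpa only [RatFam.toM, Category.assoc] using this
    · intro heq
      refine hwW ?_
      let l : Spec (CommRingCat.of k) ⟶ pullback F.ev₂ (pullback.diagonal pX) :=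
        pullback.lift wp (wp ≫ pullback.fst F.toM F.toM ≫ F.e.hom) (by
          refine pullback.hom_ext ?_ ?_
          · simp only [Category.assoc, F.ev₂_fst, pullback.diagonal_fst, Category.comp_id]
          · simp only [Category.assoc, F.ev₂_snd, pullback.diagonal_snd, Category.comp_id]
            simpa only [Category.assoc] using heq.symm)
      exact ⟨l (IsLocalRing.closedPoint k), by
        rw [← Scheme.Hom.comp_apply, pullback.lift_fst, hwpt]⟩
  -- the swept open set
  let Ω : F.e.domain.toScheme.Opens := F.toM ⁻¹ᵁ OM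
  have hΩ : (Ω : Set F.e.domain.toScheme).Nonempty := ⟨t, w₀, hw₀W, by
    show prM w₀ = _
    rw [Scheme.Hom.comp_apply, hw₀]⟩
  haveI : Nonempty F.e.domain.toScheme := ⟨t⟩
  haveI : IsIntegral F.e.domain.toScheme := inferInstance
  have hηΩ : genericPoint F.e.domain.toScheme ∈ Ω :=
    (genericPoint_specializes hΩ.some).mem_open Ω.2 hΩ.some_mem
  have hgenX : F.e.hom (genericPoint F.e.domain.toScheme) = genericPoint X := by
    refine IsGenericPoint.eq ?_ (genericPoint_spec X)
    refine Set.eq_univ_of_univ_subset ?_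
    rw [← F.e.hom.denseRange.closure_range]
    refine closure_minimal ?_ isClosed_closure
    rintro _ ⟨a, rfl⟩
    exact specializes_iff_mem_closure.1 ((genericPoint_specializes a).map F.e.hom.continuous)
  haveI : IsNoetherian X :=
    { toIsLocallyNoetherian := LocallyOfFiniteType.isLocallyNoetherian pX
      toCompactSpace := QuasiCompact.compactSpace_of_compactSpace pX }
  haveI : QuasiCompact (F.e.domain.ι ≫ pullback.snd (CohB1.ProjSpace.toSpec 1 k) F.m ≫ F.m) := by
    haveI : IsNoetherian F.M :=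
      { toIsLocallyNoetherian := LocallyOfFiniteType.isLocallyNoetherian F.m
        toCompactSpace := QuasiCompact.compactSpace_of_compactSpace F.m }
    haveI : IsNoetherian (P1Prod k F.m) :=
      { toIsLocallyNoetherian := LocallyOfFiniteType.isLocallyNoetherian (pullback.snd (CohB1.ProjSpace.toSpec 1 k) F.m ≫ F.m)
        toCompactSpace := QuasiCompact.compactSpace_of_compactSpace (pullback.snd (CohB1.ProjSpace.toSpec 1 k) F.m ≫ F.m) }
    infer_instance
  haveI : LocallyOfFiniteType (F.e.hom ≫ pX) := by rw [F.comm]; infer_instance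
  haveI : IsNoetherian F.e.domain.toScheme :=
    { toIsLocallyNoetherian := LocallyOfFiniteType.isLocallyNoetherian (F.e.hom ≫ pX)
      toCompactSpace := QuasiCompact.compactSpace_of_compactSpace (F.e.domain.ι ≫ pullback.snd (CohB1.ProjSpace.toSpec 1 k) F.m ≫ F.m) }
  haveI : LocallyOfFiniteType F.e.hom := locallyOfFiniteType_of_comp F.e.hom pX
  obtain ⟨UX, hUXne, hUX⟩ := Groth.Agent.UniruledCurveLib.exists_open_subset_range (Ω.ι ≫ F.e.hom)
    ⟨⟨_, hηΩ⟩, by rw [Scheme.Hom.comp_apply]; exact hgenX⟩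
  -- a curve in X through x meeting the swept open
  letI : X.Over (Spec (CommRingCat.of k)) := ⟨pX⟩
  haveI : LocallyOfFiniteType (X ↘ Spec (CommRingCat.of k)) := inferInstanceAs (LocallyOfFiniteType pX)
  have hxgen : x ≠ genericPoint X := by
    rintro rfl
    have hall : ∀ z : X, z = genericPoint X := fun z =>
      hx.closure_eq.le (specializes_iff_mem_closure.1 (genericPoint_specializes z))
    exact hne ((hall _).trans (hall _).symm)
  have hFc : IsClosed ((UX : Set X)ᶜ ∪ {x}) := UX.2.isClosed_compl.union hx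
  have hFne : (UX : Set X)ᶜ ∪ {x} ≠ Set.univ := by
    intro hu
    rcases hu.ge (Set.mem_univ (genericPoint X)) with h1 | h1
    · exact h1 ((genericPoint_specializes hUXne.some).mem_open UX.2 hUXne.some_mem)
    · exact hxgen (Eq.symm h1)
  obtain ⟨C, hCo, hCi, hCd, hCp, hCs, Uc, φc, c₀, z, hφc, hc₀c, hc₀, hz⟩ :=
    Groth.Agent.CurveRigid.exists_curve' (k := k) x hx _ hFc (Or.inr rfl) hFne
  letI := hCo
  haveI := hCi
  haveI := hCp
  haveI : Nonempty Uc.toScheme := ⟨c₀⟩
  haveI : IsIntegral Uc.toScheme := inferInstance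
  have hξ : φc (genericPoint Uc.toScheme) ∈ UX := by
    refine ((genericPoint_specializes (α := Uc.toScheme) z).map φc.continuous).mem_open UX.2 ?_
    by_contra hn
    exact hz (Or.inl hn)
  obtain ⟨ω, hω⟩ := hUX hξ
  -- a curve in the family lying over it
  let T := pullback (Ω.ι ≫ F.e.hom) φc
  obtain ⟨τ, hτ₁, hτ₂⟩ := Scheme.Pullback.exists_preimage_pullback (f := Ω.ι ≫ F.e.hom) (g := φc) ω
    (genericPoint Uc.toScheme) hω
  let I := Scheme.IdealSheafData.vanishingIdeal (TopologicalSpace.Closeds.closure ({τ} : Set T))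
  haveI : IsIntegral I.subscheme := Groth.Agent.RelAssLib.isIntegral_vanishingIdeal_closure τ
  obtain ⟨z₁, hz₁⟩ : τ ∈ Set.range I.subschemeι := by
    rw [Scheme.IdealSheafData.range_subschemeι, Scheme.IdealSheafData.coe_support_vanishingIdeal]
    exact subset_closure rfl
  let π : I.subscheme ⟶ Uc.toScheme := I.subschemeι ≫ pullback.snd (Ω.ι ≫ F.e.hom) φc
  have hπz₁ : π z₁ = genericPoint Uc.toScheme := by rw [Scheme.Hom.comp_apply, hz₁, hτ₂]
  let qU : Uc.toScheme ⟶ Spec (CommRingCat.of k) := Uc.ι ≫ (C ↘ Spec (CommRingCat.of k))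
  letI : I.subscheme.Over (Spec (CommRingCat.of k)) := ⟨π ≫ qU⟩
  haveI : LocallyOfFiniteType (I.subscheme ↘ Spec (CommRingCat.of k)) := inferInstanceAs (LocallyOfFiniteType (π ≫ qU))
  haveI : JacobsonSpace I.subscheme := LocallyOfFiniteType.jacobsonSpace (π ≫ qU)
  obtain ⟨v, -, hvc⟩ := nonempty_inter_closedPoints (X := I.subscheme) ⟨z₁, Set.mem_univ z₁⟩ isClosed_univ.isLocallyClosed
  have hpvc : IsClosed ({π v} : Set Uc.toScheme) := by
    have h1 := ((pointEquivClosedPoint qU) ⟨pointOfClosedPoint (π ≫ qU) v hvc ≫ π, by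
      rw [Category.assoc, pointOfClosedPoint_comp]⟩).2
    change IsClosed ({(pointOfClosedPoint (π ≫ qU) v hvc ≫ π) (IsLocalRing.closedPoint k)} : Set Uc.toScheme) at h1
    rwa [Scheme.Hom.comp_apply, pointOfClosedPoint_apply] at h1
  have hgc : ¬ IsClosed ({genericPoint Uc.toScheme} : Set Uc.toScheme) := fun hc => by
    have hall : ∀ a : Uc.toScheme, a = genericPoint Uc.toScheme := fun a =>
      hc.closure_eq.le (specializes_iff_mem_closure.1 (genericPoint_specializes a))
    refine hz ?_
    rw [(hall z).trans (hall c₀).symm, hc₀]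
    exact Or.inr rfl
  obtain ⟨C', hCo', hCi', hCd', hCp', hCs', O, ψ, o₁, o₂, hψ, -, ho₁, ho₂⟩ :=
    Groth.Agent.CurveRigid.exists_curve' (k := k) v hvc (π.base ⁻¹' {π v}) (hpvc.preimage π.continuous) rfl (by
      intro hu
      have h1 : π z₁ = π v := hu.ge (Set.mem_univ z₁)
      rw [hπz₁] at h1
      exact hgc (h1 ▸ hpvc))
  letI := hCo'
  haveI := hCi'
  haveI := hCp'
  haveI := hCs'
  haveI : Nonempty O.toScheme := ⟨o₁⟩
  haveI : IsIntegral O.toScheme := inferInstance
  have hgen : (ψ ≫ π) (genericPoint O.toScheme) = genericPoint Uc.toScheme := by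
    set ζ := (ψ ≫ π) (genericPoint O.toScheme) with hζ
    have hζc : ¬ IsClosed ({ζ} : Set Uc.toScheme) := fun hc => by
      have hall : ∀ o, (ψ ≫ π) o = ζ := fun o =>
        hc.closure_eq.le (specializes_iff_mem_closure.1 ((genericPoint_specializes o).map (ψ ≫ π).continuous))
      refine ho₂ (show π (ψ o₂) = π v from ?_)
      rw [← ho₁, ← Scheme.Hom.comp_apply, ← Scheme.Hom.comp_apply, hall, hall]
    refine Uc.ι.isOpenEmbedding.injective ?_
    rw [genericPoint_eq_of_isOpenImmersion Uc.ι]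
    refine (Groth.Agent.S4443.result k C hCd).1 _ fun hc => hζc ?_
    have h1 := hc.preimage Uc.ι.continuous
    rwa [← Set.image_singleton, Set.preimage_image_eq _ Uc.ι.isOpenEmbedding.injective] at h1
  let α : O.toScheme ⟶ F.e.domain.toScheme := ψ ≫ I.subschemeι ≫ pullback.fst (Ω.ι ≫ F.e.hom) φc ≫ Ω.ι
  have hαe : α ≫ F.e.hom = (ψ ≫ π) ≫ φc := by
    simp only [α, π, Category.assoc]
    rw [pullback.condition]
  have hφc' : φc ≫ pX = qU := hφc
  have hψ' : ψ ≫ π ≫ qU = O.ι ≫ (C' ↘ Spec (CommRingCat.of k)) := hψ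
  have hαk : α ≫ F.e.hom ≫ pX = O.ι ≫ (C' ↘ Spec (CommRingCat.of k)) := by
    rw [reassoc_of% hαe, hφc', hψ']
  have hdC : topologicalKrullDim C' = 1 := Groth.Agent.CyclicCoverLib.topologicalKrullDim_eq_one (k := k) hCd'
  obtain ⟨η, hη, hOη⟩ := Groth.Agent.UniruledCurveLib.exists_extend_curve (C' ↘ Spec (CommRingCat.of k)) hdC.le pX O
    ⟨_, o₁.2⟩ (α ≫ F.e.hom) (by rw [Category.assoc, hαk])
  have hxη : x ∈ Set.range η.base := by
    haveI : IsProper (η ≫ pX) := by rw [hη]; infer_instance
    haveI : IsProper η := IsProper.of_comp η pX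
    refine ((genericPoint_specializes (α := Uc.toScheme) c₀).map φc.continuous).mem_closed η.isClosedMap.isClosed_range
      ⟨O.ι (genericPoint O.toScheme), ?_⟩ |> (fun hh => hc₀ ▸ hh)
    rw [← Scheme.Hom.comp_apply, hOη, hαe, Scheme.Hom.comp_apply, hgen]
  obtain ⟨g, hg, hgn, hgx⟩ := Groth.Agent.UniruledCurveLib.exists_line_of_section pX F.m F.e.domain F.e.hom F.comm OM hOM
    (C' ↘ Spec (CommRingCat.of k)) hdC O α (by rw [← hαk, F.comm]) o₁
    (show (α ≫ F.toM) o₁ ∈ OM from ((pullback.fst (Ω.ι ≫ F.e.hom) φc) (I.subschemeι (ψ o₁))).2)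
    η hη hOη x hx hxη
  exact ⟨g, hg, hgn, hgx⟩

end Groth.Agent.S17169
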