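import Groth.Statements.S17171
import Mathlib

set_option autoImplicit false
open QSymFn

namespace Groth.Agent.S17171

open Finsupp

def bd (e : ℕ →₀ ℕ) : ℕ := e.support.sup id + 1

theorem exists_eq_mapDomain (e : ℕ →₀ ℕ) : ∃ e' : Fin (bd e) →₀ ℕ, mapDomain Fin.val e' = e := by
  refine ⟨e.comapDomain Fin.val Fin.val_injective.injOn, mapDomain_comapDomain _ Fin.val_injective _ ?_⟩
  intro x hx
  exact ⟨⟨x, Nat.lt_succ_of_le (Finset.le_sup (f := id) hx)⟩, rfl⟩

theorem mapDomain_eq_sum {α β : Type} [LinearOrder α] (g : α → β) (e : α →₀ ℕ) :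
    mapDomain g e = ∑ t : Fin e.support.card, single (g (e.support.orderEmbOfFin rfl t)) (e (e.support.orderEmbOfFin rfl t)) := by
  rw [mapDomain, Finsupp.sum, Finset.sum_bij (fun a _ => (e.support.orderIsoOfFin rfl).symm ⟨a, by assumption⟩)]
  · intro a ha; exact Finset.mem_univ _
  · intro a ha b hb h
    exact congrArg Subtype.val ((e.support.orderIsoOfFin rfl).symm.injective h)
  · intro t _
    exact ⟨e.support.orderEmbOfFin rfl t, Finset.orderEmbOfFin_mem _ _ _, by
      rw [OrderIso.symm_apply_eq]; rfl⟩
  · intro a ha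
    rw [← Finset.coe_orderIsoOfFin_apply, OrderIso.apply_symm_apply]

/-- The ring QSym of quasisymmetric functions over ℤ, with its restriction maps to the polynomial rings
in finitely many ordered variables, is the limit of the diagram S ↦ ℤ[α_s : s ∈ S] over finite
ordered sets S and order-preserving injections (an injection φ : S → T acting by α_t ↦ α_s when t =
φ s and α_t ↦ 0 otherwise), the limit being taken in graded rings. Stated here on degree-d
components, with the variables indexed by ℕ in place of the positive integers and the finite ordered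
sets taken to be the Fin n: (a) if F is a formal power series over ℤ in variables indexed by ℕ which
is quasisymmetric (for strictly increasing i, j : Fin ℓ → ℕ and positive exponents a, the
coefficients of ∏ x_{i t}^{a t} and ∏ x_{j t}^{a t} agree) and all of whose monomials have degree d,
then its restrictions to the initial segments Fin n ⊂ ℕ are compatible with every order embedding
Fin n ↪o Fin m; (b) every family of degree-d homogeneous polynomials f n ∈ ℤ[x_s : s ∈ Fin n],
compatible with all order embeddings Fin n ↪o Fin m in this sense, is the family of restrictions of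
exactly one such quasisymmetric F of degree d. -/
theorem result (d : ℕ) :
    (∀ F : MvPowerSeries ℕ ℤ,
      (∀ (ℓ : ℕ) (i j : Fin ℓ → ℕ) (a : Fin ℓ → ℕ), StrictMono i → StrictMono j → (∀ t, 0 < a t) →
        MvPowerSeries.coeff (∑ t : Fin ℓ, Finsupp.single (i t) (a t)) F =
          MvPowerSeries.coeff (∑ t : Fin ℓ, Finsupp.single (j t) (a t)) F) →
      (∀ e : ℕ →₀ ℕ, MvPowerSeries.coeff e F ≠ 0 → e.degree = d) →
      ∀ (n m : ℕ) (φ : Fin n ↪o Fin m) (e : Fin n →₀ ℕ),
        MvPowerSeries.coeff (Finsupp.mapDomain Fin.val e) F =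
          MvPowerSeries.coeff (Finsupp.mapDomain Fin.val (Finsupp.mapDomain φ e)) F) ∧
    (∀ f : (n : ℕ) → MvPolynomial (Fin n) ℤ,
      (∀ n, (f n).IsHomogeneous d) →
      (∀ (n m : ℕ) (φ : Fin n ↪o Fin m) (e : Fin n →₀ ℕ),
        MvPolynomial.coeff e (f n) = MvPolynomial.coeff (Finsupp.mapDomain φ e) (f m)) →
      ∃! F : MvPowerSeries ℕ ℤ,
        (∀ (ℓ : ℕ) (i j : Fin ℓ → ℕ) (a : Fin ℓ → ℕ), StrictMono i → StrictMono j → (∀ t, 0 < a t) →
          MvPowerSeries.coeff (∑ t : Fin ℓ, Finsupp.single (i t) (a t)) F =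
            MvPowerSeries.coeff (∑ t : Fin ℓ, Finsupp.single (j t) (a t)) F) ∧
        (∀ e : ℕ →₀ ℕ, MvPowerSeries.coeff e F ≠ 0 → e.degree = d) ∧
        (∀ (n : ℕ) (e : Fin n →₀ ℕ),
          MvPowerSeries.coeff (Finsupp.mapDomain Fin.val e) F = MvPolynomial.coeff e (f n))) := by
  classical
  constructor
  · intro F hQS _ n m φ e
    rw [← mapDomain_comp, mapDomain_eq_sum, mapDomain_eq_sum]
    exact hQS _ _ _ _ (fun a b h => (e.support.orderEmbOfFin rfl).strictMono h)
      (fun a b h => φ.strictMono ((e.support.orderEmbOfFin rfl).strictMono h))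
      (fun t => Nat.pos_of_ne_zero (Finsupp.mem_support_iff.1 (Finset.orderEmbOfFin_mem _ _ _)))
  · intro f hhom hcomp
    choose r hr using exists_eq_mapDomain
    have G : ∀ n (e : Fin n →₀ ℕ) m (e' : Fin m →₀ ℕ), mapDomain Fin.val e = mapDomain Fin.val e' →
        MvPolynomial.coeff e (f n) = MvPolynomial.coeff e' (f m) := by
      intro n e m e' h
      rw [hcomp n (max n m) (Fin.castLEOrderEmb (le_max_left _ _)) e, hcomp m (max n m) (Fin.castLEOrderEmb (le_max_right _ _)) e']
      congr 1
      apply mapDomain_injective Fin.val_injective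
      rw [← mapDomain_comp, ← mapDomain_comp]
      exact h
    let F : MvPowerSeries ℕ ℤ := fun e => MvPolynomial.coeff (r e) (f (bd e))
    have hF : ∀ n (e : Fin n →₀ ℕ), MvPowerSeries.coeff (mapDomain Fin.val e) F = MvPolynomial.coeff e (f n) :=
      fun n e => G _ _ _ _ (hr _)
    refine ⟨F, ⟨?_, ?_, hF⟩, ?_⟩
    · intro ℓ i j a hi hj _
      have key : ∀ i : Fin ℓ → ℕ, StrictMono i → MvPowerSeries.coeff (∑ t : Fin ℓ, single (i t) (a t)) F =
          MvPolynomial.coeff (∑ t : Fin ℓ, single t (a t)) (f ℓ) := by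
        intro i hi
        let N := Finset.univ.sup i + 1
        let i' : Fin ℓ ↪o Fin N := OrderEmbedding.ofStrictMono
          (fun t => ⟨i t, Nat.lt_succ_of_le (Finset.le_sup (Finset.mem_univ t))⟩) (fun _ _ h => hi h)
        rw [hcomp ℓ N i', ← hF]
        congr 2
        simp only [mapDomain_finsetSum, mapDomain_single]
        rfl
      rw [key i hi, key j hj]
    · intro e he
      have := hhom (bd e) (d := r e) he
      rw [Finsupp.degree_eq_weight_one] at *
      rw [← hr e, ← this]
      simp [Finsupp.weight, Finsupp.linearCombination_mapDomain, Function.comp_def]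
      rfl
    · rintro F' ⟨-, -, hF'⟩
      funext e
      have := hF' _ (r e)
      rw [hr e] at this
      exact this

end Groth.Agent.S17171
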