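import Groth.Statements.S17172
import Groth.Agent.EtPurLib.Mu
import Groth.Agent.EtPurLib.Semipurity
import Groth.Agent.EtPurLib.TorsionAll
import Groth.Agent.EtDepthLib.Restriction
-- import your own Groth.Agent.* helpers here

set_option autoImplicit false
universe u
open EtCoh

set_option linter.style.haveILetI false
set_option backward.isDefEq.respectTransparency false
set_option backward.isDefEq.respectTransparency.types false
set_option maxHeartbeats 1000000

namespace Groth.Agent.S17172

open CategoryTheory CategoryTheory.Limits AlgebraicGeometry Opposite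

/-- Vanishing of the local cohomology of roots of unity follows from that of `ℤ/n`. -/
theorem isZero_locCoh_mu_of_const {X U : Scheme.{u}} (j : U ⟶ X) [IsOpenImmersion j] [EtCoh.BCCont j]
    (n : ℕ) (hn : IsUnit (n : Γ(X, ⊤))) (p : ℕ)
    (h : IsZero ((EtDual.locCoh j p).obj (EtCoh.const X (ZMod n)))) :
    IsZero ((EtDual.locCoh j p).obj (EtCoh.mu X n)) := by
  obtain ⟨X', g, hg, hs, ⟨e⟩⟩ := EtPurLib.exists_cover_mu n hn
  haveI := hg
  haveI := hs
  have hp := IsPullback.of_hasPullback j g
  obtain ⟨a⟩ := SuppCoh.nonempty_locCoh_pull j g _ _ hp p (EtCoh.mu X n)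
  obtain ⟨b⟩ := SuppCoh.nonempty_locCoh_pull j g _ _ hp p (EtCoh.const X (ZMod n))
  exact SuppCoh.isZero_of_isZero_pull g _ (((EtCoh.pull g).map_isZero h).of_iso
    (a ≪≫ (EtDual.locCoh (pullback.snd j g) p).mapIso (e ≪≫ (EtCore.pullConst g (ZMod n)).symm) ≪≫ b.symm))


open CategoryTheory AlgebraicGeometry in
/-- Let k be a field, X an integral scheme which is smooth and of finite type over k, n a natural number
invertible in k, and U ⊆ X an open subscheme whose complement has codimension at least 2 (every
point of X outside U has a local ring of Krull dimension at least 2). Then restriction along U → X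
is a bijection H²(X_ét, μ_n) → H²(U_ét, μ_n). Here μ_n is the kernel of the n-th power map on G_m on
the small étale site, μ_n on U is written as the pullback of μ_n on X along the open immersion U →
X, and the restriction map is the pullback on étale cohomology (whose finite-limit hypothesis on the
pullback functor is carried as an instance binder). The published statement covers X a
Deligne–Mumford stack with trivial generic stabilizer and U an open substack; only the case of a
scheme is stated here. -/
theorem result (k : Type u) [Field k]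
    (X : Scheme.{u}) (f : X ⟶ Spec (CommRingCat.of k)) [Smooth f] [IsIntegral X] [CompactSpace X]
    (n : ℕ) (hn : (n : k) ≠ 0) (U : X.Opens)
    (hY : ∀ x : X, x ∉ U → 2 ≤ ringKrullDim (X.presheaf.stalk x))
    [Limits.PreservesFiniteLimits (EtCoh.pull U.ι)] :
    Function.Bijective (EtCore.Hpull U.ι (EtCoh.mu X n) 2) := by
  haveI : NeZero n := ⟨fun h => hn (by rw [h, Nat.cast_zero])⟩
  have hnX : IsUnit (n : Γ(X, ⊤)) := by
    simpa using (isUnit_iff_ne_zero.2 hn).map ((Scheme.ΓSpecIso (CommRingCat.of k)).inv ≫ f.appTop).hom
  haveI : Finite (AddCommGrpCat.of (ULift.{u + 1} (ZMod n))) := inferInstanceAs (Finite (ULift.{u + 1} (ZMod n)))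
  have hd : EtDepth.DepthGE U.ι (EtCoh.mu X n) 4 := fun p hp =>
    isZero_locCoh_mu_of_const U.ι n hnX p (EtPurLib.isZero_locCoh_constantSheaf_of_primes U.ι p n
      (AddCommGrpCat.of (ULift.{u + 1} (ZMod n))) (by simp) fun ℓ hℓ hdvd =>
        EtPurLib.depthGE_smooth_field k f U.ι 2 (fun y hy => by
          rw [Scheme.Opens.range_ι] at hy
          exact hY y hy) ℓ hℓ
          (fun h => hn (by obtain ⟨m, rfl⟩ := hdvd; rw [Nat.cast_mul, h, zero_mul])) p (by omega))
  obtain ⟨-, h2, h3⟩ := (EtDepthLib.depthGE_iff U.ι (EtCoh.mu X n) 4).1 hd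
  exact (AcycCompLib.bijective_Hpull_of_unit U.ι 2 (EtCoh.mu X n) 2 (h2 (by omega))
    fun q hq1 hq => h3 q hq1 (by omega)).1 le_rfl

end Groth.Agent.S17172
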