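import Mathlib
import Groth.Agent.LabGraphLib.Twist
import Groth.Statements.S17174

set_option autoImplicit false
universe u
open LabGraph

namespace Groth.Agent.S17174

open LabGraph in
/-- Let Γ be the weighted dual graph of a Deligne–Mumford semistable curve X of genus g ≥ 3 over an
algebraically closed field (connected; every weight-zero vertex without loop is joined to the other
vertices by at least two edges), and let d, d' be two multidegrees of the same (arbitrary) total
degree D (g ≥ 3 being the paper's standing assumption) which both satisfy the Basic Inequality and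
lie in the same degree class (d - d' is a twist). Then d - d' can be written in normal form: there
is a labelling h of the vertices by natural numbers taking exactly the values 0, 1, …, q, with d -
d' equal to the twist of h (that is, d - d' = Σ_v h(v)·c_v with c_v the multidegree of O(C_v)), such
that for distinct levels i ≠ j in {0, …, q} the subcurves on h⁻¹(i) and h⁻¹(j) meet (some edge joins
the two levels) exactly when |i - j| = 1. -/
theorem result {V E : Type u} [Fintype V] [Fintype E]
    [DecidableEq V] [DecidableEq E] (ends : E → V × V) (w : V → ℕ) (hX : IsSemistableGraph ends w)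
    (hg : 3 ≤ genus ends w) (d d' : V → ℤ)
    (hBI : SatisfiesBI ends w d) (hBI' : SatisfiesBI ends w d') (heq : TwistEquiv ends d d') :
    ∃ (q : ℕ) (h : V → ℕ), (∀ v : V, h v ≤ q) ∧ (∀ i : ℕ, i ≤ q → ∃ v : V, h v = i) ∧
      (∀ v : V, d v - d' v = twist ends (fun u => (h u : ℤ)) v) ∧
      (∀ i j : ℕ, i ≤ q → j ≤ q → i ≠ j →
        ((∃ e : E, (h (ends e).1 = i ∧ h (ends e).2 = j) ∨ (h (ends e).1 = j ∧ h (ends e).2 = i)) ↔
          (i + 1 = j ∨ j + 1 = i))) := by
  classical
  set K := canDeg ends w Finset.univ with hKdef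
  have hK : 0 < K := by rw [hKdef, LabGraphLib.canDeg_univ]; linarith
  obtain ⟨φ, hφ⟩ := heq
  have hD : ∑ v, d v = ∑ v, d' v := by
    have := LabGraphLib.sum_twist_univ ends φ
    rw [← Finset.sum_congr rfl (fun v _ => hφ v), Finset.sum_sub_distrib] at this
    linarith
  have hY : ∀ Y : Finset V, |∑ v ∈ Y, twist ends φ v| ≤ (cut ends Y : ℤ) := by
    intro Y
    have h1 := hBI Y
    have h2 := hBI' Y
    rw [← hKdef] at h1 h2
    rw [← hD] at h2
    rw [← Finset.sum_congr rfl (fun v _ => hφ v), Finset.sum_sub_distrib]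
    have := abs_sub (K * (∑ v ∈ Y, d v) - (∑ v, d v) * canDeg ends w Y)
      (K * (∑ v ∈ Y, d' v) - (∑ v, d v) * canDeg ends w Y)
    rw [show K * (∑ v ∈ Y, d v) - (∑ v, d v) * canDeg ends w Y -
      (K * (∑ v ∈ Y, d' v) - (∑ v, d v) * canDeg ends w Y) =
      K * (∑ v ∈ Y, d v - ∑ v ∈ Y, d' v) by ring, abs_mul, abs_of_pos hK] at this
    nlinarith
  have hone := LabGraphLib.abs_diff_le_one ends φ hY
  haveI : Nonempty V := hX.1.1
  obtain ⟨r, -, hr⟩ := Finset.exists_min_image Finset.univ φ Finset.univ_nonempty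
  obtain ⟨s, -, hs⟩ := Finset.exists_max_image Finset.univ φ Finset.univ_nonempty
  let h : V → ℕ := fun v => (φ v - φ r).toNat
  have hh : ∀ v, (h v : ℤ) = φ v - φ r := fun v =>
    Int.toNat_of_nonneg (sub_nonneg.mpr (hr v (Finset.mem_univ v)))
  have hcast : (fun u => (h u : ℤ)) = fun u => φ u - φ r := funext hh
  have hedge : ∀ e, h (ends e).1 ≤ h (ends e).2 + 1 ∧ h (ends e).2 ≤ h (ends e).1 + 1 := by
    intro e
    have h1 := abs_le.mp (hone e)
    simp only [LabGraphLib.diff] at h1
    have := hh (ends e).1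
    have := hh (ends e).2
    constructor <;> omega
  have hle : ∀ v, h v ≤ h s := fun v => by
    have := hs v (Finset.mem_univ v)
    have := hh v
    have := hh s
    omega
  have hr0 : h r = 0 := by simp [h]
  have hstep : ∀ i, i + 1 ≤ h s → ∃ e, (h (ends e).1 = i ∧ h (ends e).2 = i + 1) ∨
      (h (ends e).1 = i + 1 ∧ h (ends e).2 = i) := by
    intro i hi
    obtain ⟨e, he⟩ := LabGraphLib.exists_crossing ends hX.1 (fun v => h v ≤ i)
      (a := r) (b := s) (by omega) (by omega)
    refine ⟨e, ?_⟩
    have := hedge e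
    omega
  refine ⟨h s, h, hle, fun i hi => ?_, fun v => ?_, fun i j hi hj hij => ⟨?_, ?_⟩⟩
  · rcases Nat.eq_zero_or_pos i with rfl | hpos
    · exact ⟨r, hr0⟩
    · obtain ⟨e, he | he⟩ := hstep (i - 1) (by omega)
      · exact ⟨(ends e).2, by omega⟩
      · exact ⟨(ends e).1, by omega⟩
  · rw [hcast, LabGraphLib.twist_sub_const]; exact hφ v
  · rintro ⟨e, he⟩
    have := hedge e
    omega
  · rintro (rfl | rfl)
    · obtain ⟨e, he⟩ := hstep i hj
      exact ⟨e, he⟩
    · obtain ⟨e, he⟩ := hstep j hi
      exact ⟨e, he.symm⟩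

end Groth.Agent.S17174
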