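import Groth.Statements.S17176
import Mathlib

set_option autoImplicit false
open Curves

namespace Groth.Agent.S17176

/-- Fix integers g ≥ 3 and d. For a complete subcurve Y of arithmetic genus g_Y of a nodal curve of
genus g, meeting the rest of the curve in k points, the lower extreme of the Basic Inequality for
line bundles of degree d is m = d(2g_Y - 2 + k)/(2g - 2) - k/2, which is an integer exactly when 2(g
- 1) divides d(2g_Y - 2 + k) - k(g - 1). Then gcd(d - g + 1, 2g - 2) = 1 if and only if m is not an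
integer for all integers g_Y, k with 0 < g_Y < g - 1, k ≥ 1 and k + 2g_Y - 2 < 2g - 2. (The row
makes explicit the bound 2g_Y - 2 + k < 2g - 2, which is automatic for subcurves of stable curves
and is satisfied by every subcurve to which the source applies the lemma; the source leaves the
ambient curve's class implicit.) -/
theorem result (g d : ℤ) (hg : 3 ≤ g) :
    Int.gcd (d - g + 1) (2 * g - 2) = 1 ↔
      ∀ gY k : ℤ, 0 < gY → gY < g - 1 → 1 ≤ k → k + 2 * gY - 2 < 2 * g - 2 →
        ¬ (2 * (g - 1) ∣ d * (2 * gY - 2 + k) - k * (g - 1)) := by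
  constructor
  · intro h gY k h1 h2 h3 h4 hdvd
    have hev : (2 * (g - 1)) ∣ (2 * gY - 2 + k) * (d - g + 1) := by
      obtain ⟨t, ht⟩ := hdvd
      refine ⟨t - (gY - 1), ?_⟩
      linear_combination ht
    have hdv : (2 * g - 2) ∣ (2 * gY - 2 + k) := by
      refine Int.dvd_of_dvd_mul_left_of_gcd_one (by rwa [show 2 * g - 2 = 2 * (g - 1) by ring]) ?_
      rw [Int.gcd_comm]; exact h
    have := Int.le_of_dvd (by omega) hdv
    omega
  · intro h
    by_contra hne
    obtain ⟨L, hL⟩ : ((Int.gcd (d - g + 1) (2 * g - 2) : ℕ) : ℤ) ∣ 2 * g - 2 := Int.gcd_dvd_right _ _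
    obtain ⟨e, he⟩ : ((Int.gcd (d - g + 1) (2 * g - 2) : ℕ) : ℤ) ∣ d - g + 1 := Int.gcd_dvd_left _ _
    have hh0 : Int.gcd (d - g + 1) (2 * g - 2) ≠ 0 := fun h0 => by
      rw [h0] at hL; simp at hL; omega
    have hh : (2 : ℤ) ≤ ((Int.gcd (d - g + 1) (2 * g - 2) : ℕ) : ℤ) := by omega
    generalize ((Int.gcd (d - g + 1) (2 * g - 2) : ℕ) : ℤ) = G at hL he hh
    have hL1 : 0 < L := by
      by_contra hle
      nlinarith
    have hL2 : 2 * L ≤ 2 * g - 2 := by nlinarith
    rcases Int.emod_two_eq_zero_or_one L with h2 | h2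
    · obtain ⟨j, rfl⟩ : (2 : ℤ) ∣ L := Int.dvd_of_emod_eq_zero h2
      refine h j 2 (by omega) (by omega) (by omega) (by omega) ⟨e + (j - 1), ?_⟩
      linear_combination (2 * j) * he - e * hL
    · obtain ⟨j, rfl⟩ : ∃ j, L = 2 * j - 1 := ⟨(L + 1) / 2, by omega⟩
      refine h j 1 (by omega) (by omega) (by omega) (by omega) ⟨e + (j - 1), ?_⟩
      linear_combination (2 * j - 1) * he - e * hL

end Groth.Agent.S17176
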