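import Groth.Statements.S17177
import Groth.Agent.SubAdjLib.NormalSheaf
import Groth.Agent.SubAdjLib.NodalSub
import Groth.Agent.HodgePnLib.EulerEnd
import Groth.Agent.OmegaUnivLib.Univ
import Groth.Agent.GrpOmega.Basic
import Groth.Agent.TanHilbLib.Finite
import Groth.Agent.GenBCLib.BcQCompat
import Groth.Agent.NodePtLib.Field

set_option autoImplicit false
universe u
open CategoryTheory CategoryTheory.Limits AlgebraicGeometry
attribute [local instance] HasDerivedCategory.standard
open Curves

namespace Groth.Agent.S17177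

open CategoryTheory CategoryTheory.Limits AlgebraicGeometry

set_option backward.isDefEq.respectTransparency false
set_option backward.isDefEq.respectTransparency.types false
set_option linter.style.haveILetI false
set_option maxHeartbeats 1000000
open Groth.Agent.SubAdjLib Groth.Agent.DCohLib Groth.Agent.PullbackMod
open scoped TensorProduct
attribute [local instance] HasDerivedCategory.standard

/-- A closed set all of whose points are closed is discrete. -/
theorem dim_le_zero {X : Scheme.{u}} {D : Set X} (hD : IsClosed D) (h : ∀ x ∈ D, IsClosed ({x} : Set X)) :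
    topologicalKrullDim D ≤ 0 := by
  refine Order.krullDim_nonpos_iff_forall_isMax.2 fun a b hab => ?_
  obtain ⟨η, hη⟩ := QuasiSober.sober (b.isIrreducible.image _ continuous_subtype_val.continuousOn)
    (hD.isClosedEmbedding_subtypeVal.isClosedMap _ b.isClosed)
  obtain ⟨η', hη', he⟩ := hη.mem
  have hb : ∀ y ∈ (b : Set D), (y : X) = η := fun y hy => by
    have h1 : (y : X) ∈ closure ({η} : Set X) := hη.def.ge ⟨y, hy, rfl⟩
    rwa [(h η (he ▸ η'.2)).closure_eq, Set.mem_singleton_iff] at h1
  obtain ⟨y₀, hy₀⟩ := a.isIrreducible.nonempty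
  intro y hy
  rwa [show y = y₀ from Subtype.ext ((hb y hy).trans (hb y₀ (hab hy₀)).symm)]

/-- A twist of the conormal map followed by an inclusion with flat quotient has left inverses on germs. -/
theorem exists_retraction_comp {Z P : Scheme.{u}} (i : Z ⟶ P) {C : Z.Modules} {Ω T : P.Modules}
    (S : ShortComplex P.Modules) (hS : S.ShortExact) (h3 : PicF.IsInvertible S.X₃) (e₁ : S.X₁ ≅ CohB1.tensorMod Ω T)
    {M : Z.Modules} (e₂ : (Scheme.Modules.pullback i).obj S.X₂ ≅ M)
    (e₀ : tmod ((Scheme.Modules.pullback i).obj T) ((Scheme.Modules.pullback i).obj Ω) ≅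
      (Scheme.Modules.pullback i).obj (CohB1.tensorMod Ω T))
    (φ : C ⟶ (Scheme.Modules.pullback i).obj Ω) {z : Z}
    (h : ∃ ρ : ((Scheme.Modules.pullback i).obj Ω).presheaf.stalk z →ₗ[Z.presheaf.stalk z] C.presheaf.stalk z,
      ∀ m, ρ (stalkLin φ z m) = m) :
    ∃ R : M.presheaf.stalk z →ₗ[Z.presheaf.stalk z] (tmod ((Scheme.Modules.pullback i).obj T) C).presheaf.stalk z,
      ∀ t, R (stalkLin ((((DCoh.tensorBi (X := Z)).obj ((Scheme.Modules.pullback i).obj T)).map φ ≫
        (e₀ ≪≫ (Scheme.Modules.pullback i).mapIso e₁.symm).hom) ≫ (Scheme.Modules.pullback i).map S.f ≫ e₂.hom) z t) = t := by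
  let L := (Scheme.Modules.pullback i).obj T
  let F := Scheme.Modules.pullback i
  obtain ⟨ρ, hρ⟩ := h
  have h3' : PicF.IsInvertible (F.obj S.X₃) := AmpleLib.isInvertible_pullback i h3
  have hS' : (S.map F).ShortExact :=
    DCohLib.shortExact_pullback_of_isFlat i S hS fun y => by
      obtain ⟨g, hg⟩ := ParaFLib.exists_stalk_gen h3 y
      exact Module.Flat.of_linearEquiv (LinearEquiv.ofBijective (LinearMap.toSpanSingleton _ _ g) hg).symm
  haveI := hS'.mono_f
  haveI := hS'.epi_g
  obtain ⟨g, hg⟩ := ParaFLib.exists_stalk_gen h3' z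
  haveI : Module.Projective (Z.presheaf.stalk z) ((S.map F).X₃.presheaf.stalk z) :=
    Module.Projective.of_equiv (LinearEquiv.ofBijective (LinearMap.toSpanSingleton _ _ g) hg)
  have hgs : Function.Surjective (stalkLin (S.map F).g z) := (epi_iff_stalk _).1 inferInstance z
  obtain ⟨s, hs⟩ := Module.projective_lifting_property (stalkLin (S.map F).g z) LinearMap.id hgs
  have hfi : Function.Injective (stalkLin (S.map F).f z) := (mono_iff_stalk _).1 inferInstance z
  obtain ⟨ret, hret⟩ : ∃ ret : (F.obj S.X₂).presheaf.stalk z →ₗ[Z.presheaf.stalk z] (F.obj S.X₁).presheaf.stalk z,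
      ∀ m, ret (stalkLin (F.map S.f) z m) = m := by
    obtain ⟨e, he1, -⟩ := (DCohLib.exact_stalkLin (S.map F) hS'.exact z).splitSurjectiveEquiv hfi ⟨s, hs⟩
    refine ⟨(LinearMap.fst _ _ _).comp e.toLinearMap, fun m => ?_⟩
    show (e (stalkLin (S.map F).f z m)).1 = m
    rw [he1]
    exact congrArg Prod.fst (e.apply_symm_apply (m, 0))
  let ee := e₀ ≪≫ F.mapIso e₁.symm
  let be : (tmod L (F.obj Ω)).presheaf.stalk z ≃ₗ[Z.presheaf.stalk z] (F.obj S.X₁).presheaf.stalk z :=
    LinearEquiv.ofBijective _ ((isIso_iff_stalk ee.hom).1 inferInstance z)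
  let b2 : (F.obj S.X₂).presheaf.stalk z ≃ₗ[Z.presheaf.stalk z] M.presheaf.stalk z :=
    LinearEquiv.ofBijective _ ((isIso_iff_stalk e₂.hom).1 inferInstance z)
  refine ⟨(stalkTensor z L C).toLinearMap ∘ₗ (ρ.lTensor _) ∘ₗ (stalkTensor z L (F.obj Ω)).symm.toLinearMap ∘ₗ
    be.symm.toLinearMap ∘ₗ ret ∘ₗ b2.symm.toLinearMap, fun t => ?_⟩
  obtain ⟨t, rfl⟩ := (stalkTensor z L C).surjective t
  rw [stalkLin_comp, stalkLin_comp, stalkLin_comp]
  show stalkTensor z L C (ρ.lTensor _ ((stalkTensor z L (F.obj Ω)).symm (be.symm (ret (b2.symm (b2 _)))))) = _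
  rw [b2.symm_apply_apply]
  show stalkTensor z L C (ρ.lTensor _ ((stalkTensor z L (F.obj Ω)).symm (be.symm (ret (stalkLin (F.map S.f) z (be _)))))) = _
  rw [hret, be.symm_apply_apply, stalkTensor_natural_right, LinearEquiv.symm_apply_apply, ← LinearMap.lTensor_comp_apply,
    show ρ ∘ₗ stalkLin φ z = LinearMap.id from LinearMap.ext hρ, LinearMap.lTensor_id, LinearMap.id_apply]

/-- Let k be an algebraically closed field, r ≥ 1, and X ⊆ P^r_k a closed subscheme, cut out by a
quasi-coherent ideal sheaf I, which is a connected nodal curve: reduced, connected, of dimension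
one, with at-worst-nodal singularities over k. Suppose H^1(X, O_X(1)) = 0, O_X(1) being the
pull-back of O(1). Let N = Hom_{O_X}(I/I², O_X) be the normal sheaf (the sheaf Hom, assumed to exist
as the right adjoint of tensoring with the conormal sheaf I/I²). Then H^1(X, N) = 0. (In the paper X
is a curve of degree d ≥ 20(g - 1) and genus g ≥ 3 whose Hilbert point is semistable, for which
H^1(X, O_X(1)) = 0 holds, and the vanishing is used to conclude that the Hilbert scheme is
nonsingular of dimension r(r + 2) + 4g - 3 at the point of X; that deduction, through the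
identification of the tangent space with H^0(X, N) and Riemann–Roch, is not part of this row.) -/
theorem result
    (k : Type u) [Field k] [IsAlgClosed k] (r : ℕ) (hr : 1 ≤ r)
    (I₀ : (CohB1.ProjSpace r k).IdealSheafData) [I₀.subscheme.Over (Spec (CommRingCat.of k))]
    (hX : I₀.subscheme ↘ Spec (CommRingCat.of k) = I₀.subschemeι ≫ (CohB1.ProjSpace r k ↘ Spec (CommRingCat.of k)))
    [IsReduced I₀.subscheme] [ConnectedSpace I₀.subscheme] (hdim : topologicalKrullDim I₀.subscheme = 1)
    (hnod : Curv2.AtWorstNodal k I₀.subscheme)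
    (h1 : Subsingleton (Coh.HH I₀.subscheme
      ((Scheme.Modules.pullback I₀.subschemeι).obj (Twist.twistProjSpace r k 1)) 1))
    [DCoh.HasSheafHom (Omega.conormal I₀.subschemeι)] :
    Subsingleton (Coh.HH I₀.subscheme
      ((DCoh.sheafHom (Omega.conormal I₀.subschemeι)).obj (Coh.structureModule I₀.subscheme)) 1) := by
  let i := I₀.subschemeι
  let p := CohB1.ProjSpace.toSpec r k
  have hp : I₀.subscheme ↘ Spec (CommRingCat.of k) = i ≫ p := hX
  haveI : IsProper (I₀.subscheme ↘ Spec (CommRingCat.of k)) := by rw [hp]; infer_instance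
  haveI := EulerIneqLib.isNoetherian_proper (X := I₀.subscheme) k
  haveI : IsNoetherian (CohB1.ProjSpace r k) := EulerIneqLib.isNoetherian_proper k
  obtain ⟨φ, hφ⟩ := GrpOmega.exists_conormalDiff i (OmegaSh.dOmega p)
  obtain ⟨S, hS, ⟨e₁⟩, ⟨e₂⟩, ⟨e₃⟩, -⟩ := HodgePnLib.exists_euler_data r k
  have hT : PicF.IsInvertible (Twist.twistProjSpace r k 1) := AmpleEmb.isInvertible_twistOne r k
  have h3 : PicF.IsInvertible S.X₃ := ParaFLib.isInvertible_of_iso e₃.symm hT
  let L := (Scheme.Modules.pullback i).obj (Twist.twistProjSpace r k 1)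
  obtain ⟨e₀⟩ : Nonempty (tmod L ((Scheme.Modules.pullback i).obj (Omega.sheaf p)) ≅
      (Scheme.Modules.pullback i).obj (CohB1.tensorMod (Omega.sheaf p) (Twist.twistProjSpace r k 1))) :=
    ⟨((ModTensor.tensorSymm I₀.subscheme.sheaf L).app _).symm ≪≫
      (AmpleLib.pullTensor i (Omega.sheaf p) (Twist.twistProjSpace r k 1)).symm⟩
  let D : Set I₀.subscheme := {x | ∃ U : I₀.subscheme.Opens, x ∈ U ∧ Smooth (U.ι ≫ (I₀.subscheme ↘ Spec (CommRingCat.of k)))}ᶜ
  have hD : IsClosed D := isClosed_compl_iff.2 (isOpen_iff_forall_mem_open.2 fun x ⟨U, hxU, hU⟩ =>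
    ⟨U, fun y hy => ⟨U, hy, hU⟩, U.2, hxU⟩)
  have hd : topologicalKrullDim D ≤ 0 := dim_le_zero hD fun x hx => by
    by_contra hc
    exact hx (NodePtLib.smooth_nhd_of_not_closed k I₀.subscheme
      (fun Z hZ => (TwistShriek.dim_irreducibleComponent k hdim hZ).le) hnod hc)
  exact Normal.subsingleton_H1_dual (k := k) hdim.le (TanHilbLib.isCoh_conormal i) (AmpleLib.isInvertible_pullback _ hT) h1
    ((((DCoh.tensorBi (X := I₀.subscheme)).obj L).map φ ≫ (e₀ ≪≫ (Scheme.Modules.pullback i).mapIso e₁.symm).hom) ≫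
      (Scheme.Modules.pullback i).map S.f ≫ ((Scheme.Modules.pullback i).mapIso e₂ ≪≫ pullFreeIso i (r + 1)).hom)
    hD hd fun x hx => by
      obtain ⟨U, hxU, hU⟩ := not_not.1 hx
      haveI : Smooth (U.ι ≫ i ≫ p) := by rw [← hp]; exact hU
      exact exists_retraction_comp i S hS h3 e₁ _ e₀ φ
        (Normal.exists_retraction_stalk i p (OmegaUnivLib.isUniversal_dOmega p) φ hφ hxU)

end Groth.Agent.S17177
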