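import Groth.Statements.S17178
import Groth.Agent.PureKillLib.Basic
import Groth.Agent.EulerIneqLib.Basic

set_option autoImplicit false
universe u
open CategoryTheory CategoryTheory.Limits AlgebraicGeometry
open Curves

namespace Groth.Agent.S17178

open CategoryTheory CategoryTheory.Limits AlgebraicGeometry

set_option backward.isDefEq.respectTransparency false
set_option backward.defeqAttrib.useBackward true
set_option linter.style.haveILetI false

open Groth.Agent Groth.Agent.PullbackMod TopologicalSpace CategoryTheory CategoryTheory.Limits AlgebraicGeometry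

/-- Let k be an algebraically closed field and X a nodal curve over k: proper over k, reduced,
connected, every irreducible component of dimension one, with at-worst-nodal singularities. Let J be
a coherent O_X-module which is pure of dimension one (every nonzero coherent submodule has
one-dimensional support), for instance a pure quotient with one-dimensional support of a rank-one
torsion-free sheaf. Let U be an open subset and f a function on U vanishing at every point of U
lying in the support Y of J. Then f acts as zero on J over U: for every x ∈ U the germ of f at x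
annihilates the stalk J_x. In other words the ideal sheaf of the reduced subcurve Y annihilates J,
so J is an O_Y-module; this is the first assertion in the proof that every such quotient q : I → J
of a rank-one torsion-free I factors through the torsion-free restriction of I to Y, the remaining
assertion (that the induced map is an isomorphism) not being part of this row. -/
theorem result
    (k : Type u) [Field k] [IsAlgClosed k] (X : Scheme.{u}) [X.Over (Spec (CommRingCat.of k))]
    [IsProper (X ↘ Spec (CommRingCat.of k))] [IsReduced X] [ConnectedSpace X]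
    (hequi : ∀ Z ∈ irreducibleComponents (X : Type u), topologicalKrullDim Z = 1)
    (hX : Curv2.AtWorstNodal k X)
    (J : X.Modules) (hJc : Coh.IsCoh J) (hJp : ShStab.IsPure X J 1)
    (U : X.Opens) (f : X.presheaf.obj (Opposite.op U))
    (hf : ∀ x : X, x ∈ U → x ∈ CohB1.support J → x ∉ X.basicOpen f)
    (x : X) (hx : x ∈ U) (t : J.presheaf.stalk x) :
    (X.presheaf.germ U x hx f) • t = 0 := by
  haveI := EulerIneqLib.isNoetherian_proper (X := X) k
  obtain ⟨V, hxV, s, rfl⟩ := TopCat.Presheaf.exists_germ_eq J.presheaf t
  let f' : Γ(X, U ⊓ V) := X.presheaf.map (homOfLE (inf_le_left : U ⊓ V ≤ U)).op f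
  let s' : Γ(J, U ⊓ V) := J.presheaf.map (homOfLE (inf_le_right : U ⊓ V ≤ V)).op s
  have key : ∀ (y : X) (hy : y ∈ U ⊓ V), J.presheaf.germ (U ⊓ V) y hy (f' • s') =
      X.presheaf.germ U y hy.1 f • J.presheaf.germ V y hy.2 s := fun y hy => by
    refine (PresheafOfModules.germ_smul (R := X.presheaf) J.val y (U ⊓ V) hy f' s').trans ?_
    exact congrArg₂ (· • ·) (X.presheaf.germ_res_apply _ y hy f) (J.presheaf.germ_res_apply _ y hy s)
  have h0 : f' • s' = 0 := PureKill.eq_zero_of_pure ⟨_, DevLib.isClosed_support hJc⟩ hJc hJp subset_rfl _ _
    fun y hy hys hyc => by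
      rw [key y hy]
      have hmax : ∀ z : X, z ⤳ y → z = y := fun z hz => by
        by_contra hne
        obtain ⟨c, hc, hcc⟩ := (isClosed_closure (s := ({y} : Set X))).exists_closed_singleton ⟨y, subset_closure rfl⟩
        have hyc' : y ⤳ c := specializes_iff_mem_closure.2 hc
        have hcy : c ≠ y := fun h => hyc (h ▸ hcc)
        obtain ⟨Z, hZ, hzZ⟩ : ∃ Z ∈ irreducibleComponents (X : Type u), z ∈ Z :=
          ⟨_, irreducibleComponent_mem_irreducibleComponents z, mem_irreducibleComponent⟩
        have hZc := isClosed_of_mem_irreducibleComponents Z hZ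
        refine (HilbLib.not_dim_lt_iff hZc 2).2 ⟨![c, y, z], fun i => ?_, fun i j hij => ?_⟩ ?_
        · fin_cases i
          · exact (hz.trans hyc').mem_closed hZc hzZ
          · exact hz.mem_closed hZc hzZ
          · exact hzZ
        · have hzc : c ≠ z := fun h => hne ((h.symm ▸ hz : c ⤳ y).antisymm hyc' |>.eq |> fun e => h.symm.trans e)
          fin_cases i <;> fin_cases j <;> first
            | exact absurd hij (by decide)
            | exact ⟨hyc', hcy⟩
            | exact ⟨hz.trans hyc', hzc⟩
            | exact ⟨hz, fun h => hne h.symm⟩
        · rw [hequi Z hZ]; norm_num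
      haveI : Subsingleton (PrimeSpectrum (X.presheaf.stalk y)) := ⟨fun p q => by
        have hinj : Function.Injective (X.fromSpecStalk y) := (X.fromSpecStalk y).injective
        have hmem : ∀ r : PrimeSpectrum (X.presheaf.stalk y), X.fromSpecStalk y r = y := fun r =>
          hmax _ (by
            have : X.fromSpecStalk y r ∈ Set.range (X.fromSpecStalk y) := ⟨r, rfl⟩
            rwa [Scheme.range_fromSpecStalk] at this)
        exact hinj ((hmem p).trans (hmem q).symm)⟩
      have hnil : IsNilpotent (X.presheaf.germ U y hy.1 f) := by
        rw [← mem_nilradical, nilradical_eq_sInf, Ideal.mem_sInf]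
        intro P hP
        have hP' : P = IsLocalRing.maximalIdeal (X.presheaf.stalk y) :=
          congrArg PrimeSpectrum.asIdeal (Subsingleton.elim (⟨P, hP⟩ : PrimeSpectrum (X.presheaf.stalk y))
            ⟨IsLocalRing.maximalIdeal (X.presheaf.stalk y), inferInstance⟩)
        rw [hP', IsLocalRing.mem_maximalIdeal, mem_nonunits_iff]
        exact fun hu => hf y hy.1 hys ((X.mem_basicOpen f y hy.1).2 hu)
      rw [hnil.eq_zero, zero_smul]
  rw [← key x ⟨hx, hxV⟩, h0, map_zero]

end Groth.Agent.S17178
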