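import Groth.Statements.S1718
import Groth.Agent.DualCxLib.HDI
-- Template for statement S1718 (row 1718; see the milestone table for weights).
-- Copy to Groth/Agent/S1718.lean and replace the sorry. The statement below is byte-identical to the frozen
-- statement Dual.GrothFrozen.S1718 (Groth/Statements/S1718.lean; the theorem Dual.localCohomology_normalized_dualizing);
-- the grader kernel-checks Groth.Agent.S1718.result against that frozen type. Keep the theorem IN THIS FILE
-- (a `result` declared elsewhere and merely imported here is not credited); helpers may live anywhere
-- under Groth/Agent/.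
-- helpers: DualCxLib

set_option autoImplicit false
universe u
open CategoryTheory
attribute [local instance] HasDerivedCategory.standard
open Dual Groth.Agent.DualCxLib

namespace Groth.Agent.S1718

/-- Let A be a Noetherian local ring with maximal ideal m, residue field κ and a normalized dualizing
complex ω, and let κ → E be an injective hull. Then the degree-0 local cohomology of ω with support
in m (the direct limit of Hom(A/m^n, ω)) is isomorphic to E, and the local cohomology of ω in every
other degree is zero. -/
theorem result (A : Type u) [CommRing A] [IsLocalRing A] [IsNoetherianRing A] (ω : Dual.D A) (hω : Dual.IsDualizing A ω) (hn : Dual.IsNormalized A ω) (E : Type u) [AddCommGroup E] [Module A E] (f : IsLocalRing.ResidueField A →ₗ[A] E) (hf : InjHull.IsInjectiveHull f) : Nonempty (Dual2.HDI A (IsLocalRing.maximalIdeal A) ω 0 ≃ₗ[A] E) ∧ ∀ i : ℤ, i ≠ 0 → Subsingleton (Dual2.HDI A (IsLocalRing.maximalIdeal A) ω i) := by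
  exact ⟨nonempty_HDI_equiv hω hn hf, fun i hi => subsingleton_HDI hω hn hi⟩

end Groth.Agent.S1718
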