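import Groth.Statements.S17180
import Groth.Agent.TwistShriek.SurfFibred
import Groth.Agent.TwistShriek.SurfSec
-- import your own Groth.Agent.* helpers here

set_option autoImplicit false
set_option backward.isDefEq.respectTransparency false
set_option maxHeartbeats 800000
set_option synthInstance.maxHeartbeats 200000
universe u
open CategoryTheory CategoryTheory.Limits AlgebraicGeometry
open Surf
open Groth.Agent Groth.Agent.TwistShriek

namespace Groth.Agent.S17180

/-- Let k be a field, X an integral proper k-scheme of dimension 2 with regular local rings which is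
geometrically irreducible over k, C an integral proper smooth k-scheme of dimension 1, and f : X → C
a surjective k-morphism. Let L be an invertible O_X-module whose intersection number with every
vertical integral curve (a closed integral one-dimensional E ⊆ X sent by f to a single point) is 0,
and whose intersection number with some horizontal integral curve P (closed, integral,
one-dimensional, with f(P) not a single point) is 0. Then (L·L) ≤ 0, and if (L·L) = 0 then L is
numerically trivial: its intersection number with every closed integral curve of X is 0. Here (L·L)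
= χ(O_X) − 2χ(L) + χ(L ⊗ L) and the number with a curve Y is χ(O_Y) − χ(L ⊗ O_Y), both packaged as
FGA.intNum. (The published assertion is the positive-definiteness of the pairing −(D·D′) on classes
of divisors of degree 0 on the generic fibre modulo classes of fibre components, after tensoring
with the rationals; this row gives that content for divisor classes up to numerical equivalence,
which is what the printed argument establishes, and leaves aside the identification of the pairing
with a canonical height. The published setting also takes X to be the relatively minimal regular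
model, projective over k, of a smooth projective geometrically irreducible curve of positive genus
over the function field of C, with C projective and geometrically irreducible; this row keeps only
the hypotheses the printed argument uses.) -/
theorem result (k : Type u) [Field k]
    (X : Scheme.{u}) [X.Over (Spec (CommRingCat.of k))] [IsProper (X ↘ Spec (CommRingCat.of k))]
    [IsIntegral X] [GeometricallyIrreducible (X ↘ Spec (CommRingCat.of k))]
    (hreg : ∀ x : X, IsRegularLocalRing (X.presheaf.stalk x)) (hdim : topologicalKrullDim X = 2)
    (C : Scheme.{u}) [C.Over (Spec (CommRingCat.of k))] [IsProper (C ↘ Spec (CommRingCat.of k))]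
    [Smooth (C ↘ Spec (CommRingCat.of k))] [IsIntegral C] (hdimC : topologicalKrullDim C = 1)
    (f : X ⟶ C) [f.IsOver (Spec (CommRingCat.of k))] [Surjective f]
    (L : X.Modules) (hL : PicF.IsInvertible L)
    (hvert : ∀ (E : Scheme.{u}) (ι : E ⟶ X) [IsClosedImmersion ι] [IsIntegral E],
      topologicalKrullDim E = 1 → (Set.range (fun e : E => f (ι e))).Subsingleton →
      FGA.intNum k X 2 ![L] ((Coh.push ι).obj (Coh.structureModule E)) = 0)
    (P : Scheme.{u}) (ιP : P ⟶ X) [IsClosedImmersion ιP] [IsIntegral P] (hP : topologicalKrullDim P = 1)
    (hPh : (Set.range (fun q : P => f (ιP q))).Nontrivial)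
    (hLP : FGA.intNum k X 2 ![L] ((Coh.push ιP).obj (Coh.structureModule P)) = 0) :
    FGA.intNum k X 2 ![L, L] (Coh.structureModule X) ≤ 0 ∧
      (FGA.intNum k X 2 ![L, L] (Coh.structureModule X) = 0 →
        ∀ (Y : Scheme.{u}) (ι : Y ⟶ X) [IsClosedImmersion ι] [IsIntegral Y], topologicalKrullDim Y = 1 →
          FGA.intNum k X 2 ![L] ((Coh.push ι).obj (Coh.structureModule Y)) = 0) := by
    haveI := EulerIneqLib.isNoetherian_proper (X := X) k
    obtain ⟨H, hH⟩ := exists_ample_of_regular (k := k) hdim hreg
    have hrange : ∀ {Z : Scheme.{u}} (i : Z ⟶ X) [IsClosedImmersion i] [IsIntegral Z],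
        Set.range (fun z : Z => f (i z)) = f '' closure {i (genericPoint Z)} := fun {Z} i _ _ => by
      rw [show closure {i (genericPoint Z)} = Set.range i by
        rw [← Set.image_singleton, i.isClosedEmbedding.closure_image_eq, genericPoint_closure, Set.image_univ],
        ← Set.range_comp]
      rfl
    have hdl : topologicalKrullDim X ≤ ((2 : ℕ) : WithBot ℕ∞) := by exact_mod_cast hdim.le
    have hv' : ∀ ξ : X, topologicalKrullDim (closure {ξ} : Set X) = ((1 : ℕ) : WithBot ℕ∞) →
        (f '' closure {ξ}).Subsingleton → IntLib.pairing k (IntLib.compMod ξ) (Nakai.cl hL) = 0 := fun ξ hξ hs => by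
      let J := Scheme.IdealSheafData.vanishingIdeal (⟨closure {ξ}, isClosed_closure⟩ : TopologicalSpace.Closeds X)
      haveI : IsIntegral J.subscheme :=
        CurveLib.isIntegral_vanishingIdeal (X := X) isClosed_closure isIrreducible_singleton.closure
      have hJd : topologicalKrullDim J.subscheme = 1 := (Nakai.dim_vanishing ξ).trans (hξ.trans Nat.cast_one)
      have h0 := hvert J.subscheme J.subschemeι hJd (hs.anti (by
        rintro _ ⟨e, rfl⟩
        exact ⟨J.subschemeι e, (Nakai.range_vanishing ξ).le ⟨e, rfl⟩, rfl⟩))
      have hgen : J.subschemeι (genericPoint J.subscheme) = ξ := by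
        refine (IsGenericPoint.eq ((genericPoint_spec J.subscheme).image J.subschemeι.continuous) ?_)
        rw [Set.image_univ, J.subschemeι.isClosedEmbedding.isClosed_range.closure_eq, Nakai.range_vanishing]
        rfl
      rw [(intNum_curve k hdl hL J.subschemeι hJd).2, hgen, neg_eq_zero] at h0
      exact h0
    obtain ⟨v, hv, hvv, hvu, hvne⟩ := exists_fibre_class k hdim hdimC f (Nakai.cl_mem hL) hv'
    obtain ⟨hPd, hPe⟩ := intNum_curve k hdl hL ιP hP
    rw [hPe, neg_eq_zero] at hLP
    have hh0 : IntLib.pairing k (IntLib.compMod (ιP (genericPoint P))) (Nakai.cl hH.1) ≠ 0 := by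
      refine ne_of_gt ?_
      exact pairing_curve_pos k hH hPd
    obtain ⟨h1, h2⟩ := hodge_fibred k hdim (Nakai.cl_mem hH.1) hv (Nakai.cl_mem hL)
      (Nakai.form_ample_pos k (by exact_mod_cast hdim) hH) hvv hvu hPd (hvne _ hPd (hrange ιP ▸ hPh)) hLP hh0
    rw [intNum_eq_form k hdl hL hL]
    refine ⟨h1, fun h0 Y ι _ _ hY => ?_⟩
    obtain ⟨hYd, hYe⟩ := intNum_curve k hdl hL ι hY
    rw [hYe, h2 h0 _ hYd, neg_zero]

end Groth.Agent.S17180
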