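import Groth.Statements.S17181
open CategoryTheory CategoryTheory.Limits AlgebraicGeometry
-- import your own Groth.Agent.* helpers here

set_option autoImplicit false
universe u
open CategoryTheory CategoryTheory.Limits AlgebraicGeometry
open FBase

namespace Groth.Agent.S17181

/-- Let k be a field, C an irreducible k-scheme which is geometrically irreducible over k, and f : X → C
a flat k-morphism locally of finite type with X irreducible. If the generic fibre of f is
geometrically irreducible over the residue field of the generic point of C, then X is geometrically
irreducible over k. (The published setting is a regular proper surface mapping onto a smooth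
projective geometrically irreducible curve with smooth projective geometrically irreducible generic
fibre; the printed argument uses only the hypotheses kept here.) -/
theorem result (k : Type u) [Field k]
    (X C : Scheme.{u}) [X.Over (Spec (CommRingCat.of k))] [C.Over (Spec (CommRingCat.of k))]
    (f : X ⟶ C) [f.IsOver (Spec (CommRingCat.of k))] [IrreducibleSpace X] [IrreducibleSpace C]
    [GeometricallyIrreducible (C ↘ Spec (CommRingCat.of k))] [Flat f] [LocallyOfFiniteType f]
    [GeometricallyIrreducible (f.fiberToSpecResidueField (genericPoint C))] :
    GeometricallyIrreducible (X ↘ Spec (CommRingCat.of k)) := by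
  refine ⟨geometrically_iff_of_isClosedUnderIsomorphisms.mpr fun K _ x => ?_⟩
  let p : pullback (C ↘ Spec (CommRingCat.of k)) x ⟶ C := pullback.fst _ _
  haveI : IrreducibleSpace ↥(pullback (C ↘ Spec (CommRingCat.of k)) x) :=
    pullback_of_geometrically (GeometricallyIrreducible.geometrically_irreducibleSpace (f := C ↘ Spec (CommRingCat.of k))) K x
  suffices h : IrreducibleSpace ↥(pullback f p) by
    have hw : f ≫ (C ↘ Spec (CommRingCat.of k)) = X ↘ Spec (CommRingCat.of k) := comp_over f _
    let e := pullbackRightPullbackFstIso (C ↘ Spec (CommRingCat.of k)) x f ≪≫ pullback.congrHom hw rfl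
    exact e.hom.homeomorph.irreducibleSpace_iff.mp h
  let q : pullback f p ⟶ pullback (C ↘ Spec (CommRingCat.of k)) x := pullback.snd f p
  let η' := genericPoint ↥(pullback (C ↘ Spec (CommRingCat.of k)) x)
  haveI : Surjective p := inferInstance
  have hη : p η' = genericPoint C := by
    have h := (genericPoint_spec ↥(pullback (C ↘ Spec (CommRingCat.of k)) x)).image p.continuous
    rw [Set.image_univ, p.surjective.range_eq, closure_univ] at h
    exact h.eq (genericPoint_spec C)
  haveI : GeometricallyIrreducible (f.fiberToSpecResidueField (p η')) := by rw [hη]; infer_instance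
  haveI : IrreducibleSpace ↥(q.fiber η') := by
    have h0 : IrreducibleSpace ↥(pullback (f.fiberToSpecResidueField (p η')) (Spec.map (p.residueFieldMap η'))) :=
      pullback_of_geometrically (GeometricallyIrreducible.geometrically_irreducibleSpace
        (f := f.fiberToSpecResidueField (p η'))) _ _
    have e : q.fiber η' ≅ pullback (f.fiberToSpecResidueField (p η')) (Spec.map (p.residueFieldMap η')) :=
      pullbackLeftPullbackSndIso f p _ ≪≫
        pullback.congrHom rfl (Scheme.Hom.SpecMap_residueFieldMap_fromSpecResidueField p η').symm ≪≫
        (pullbackLeftPullbackSndIso f _ _).symm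
    exact e.hom.homeomorph.irreducibleSpace_iff.mpr h0
  have hirr : IsIrreducible (q ⁻¹' {η'}) := by
    rw [← q.range_fiberι, ← Set.image_univ]
    exact (IrreducibleSpace.isIrreducible_univ _).image _ (q.fiberι η').continuous.continuousOn
  have hgen : GeneralizingMap q := Flat.generalizingMap q
  have huniv : closure (q ⁻¹' {η'}) = Set.univ := by
    refine Set.eq_univ_of_forall fun z => ?_
    obtain ⟨y, hy, hqy⟩ := hgen ((genericPoint_spec _).specializes (Set.mem_univ (q z)))
    exact hy.mem_closed isClosed_closure (subset_closure hqy)
  rw [irreducibleSpace_def]
  show IsIrreducible (Set.univ : Set _)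
  rw [← huniv]
  exact hirr.closure

end Groth.Agent.S17181
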