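import Groth.Statements.S17188
import Groth.Agent.CurveSchLib.Nodal
import Groth.Agent.CurveSchLib.DimOne
import Groth.Agent.CurveSchLib.Prestable

set_option autoImplicit false
universe u
open CurvSt

namespace Groth.Agent.S17188

open CategoryTheory AlgebraicGeometry in
/-- Let S be a scheme and consider the category over schemes over S whose objects over T are the
families of curves over T (an algebraic space X over S together with a proper, flat, finitely
presented morphism X → T all of whose fibres have dimension at most one; no marked sections) with
cartesian squares as morphisms. Assume this category is an algebraic stack for the fppf topology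
(the algebraicity of the stack of curves). Then the families which are prestable (etale locally on
scheme charts at-worst-nodal of relative dimension one, and every geometric fibre realised as a
scheme is connected; the source's condition that the direct image of the structure sheaf is the
structure sheaf universally is rendered by this equivalent fibre condition) form an open substack:
that condition is closed under isomorphism, the full subcategory on it is an fppf algebraic stack
and its inclusion is representable by open immersions. Moreover this substack has an object over
every algebraically closed field over S. The source works over the spectrum of the integers; over a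
base scheme S the statement is its base change. -/
theorem result (S : Scheme.{u})
    (hC : AlgSt.IsAlgStack Scheme.fppfPrecoverage (CurvSt.Curves S 0)) :
    AlgSt.IsOpenSubstack (CurvSt.Curves S 0) (fun A => CurvSt.SpIsPrestable A.obj) Scheme.fppfPrecoverage ∧
      ∀ (Ω : Type u) [Field Ω] [IsAlgClosed Ω] (t : Spec (CommRingCat.of Ω) ⟶ S),
        Nonempty ((AlgSt.fullSub (CurvSt.Curves S 0) (fun A => CurvSt.SpIsPrestable A.obj)).p.Fiber (Over.mk t)) := by
  refine ⟨Groth.Agent.CurveSchLib.isOpenSubstack_prestable hC,
    fun Ω _ _ t => Groth.Agent.CurvLocLib.nonempty_fiber_p1 Ω t (P := CurvSt.SpIsPrestable)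
      ⟨Groth.Agent.CurveSchLib.locP_nodal_p1 Ω t, ?_⟩⟩
  refine (Groth.Agent.CurvLocLib.geomFib_toSpFam_iff _ (fun _ _ _ X' _ => ConnectedSpace ↥X')).2
    fun Ω' _ _ t' X' q i hi => ?_
  haveI := Groth.Agent.CurvLocLib.smooth_p1 Ω
  haveI : Smooth (CohB1.ProjSpace.toSpec 1 Ω) := SmoothOfRelativeDimension.smooth 1 _
  haveI : IsIntegral (CohB1.ProjSpace 1 Ω) := Groth.Agent.REqLib.isIntegral_projSpace 1 Ω
  exact (Groth.Agent.CurveSchLib.invExt_connected Ω Ω' t' (CohB1.ProjSpace 1 Ω) (CohB1.ProjSpace.toSpec 1 Ω) X' q i
    inferInstance hi).1 (inferInstanceAs (ConnectedSpace ↥(CohB1.ProjSpace 1 Ω)))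

end Groth.Agent.S17188
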