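import Groth.Statements.S1719
import Groth.Agent.DualCxLib.Local
-- Template for statement S1719 (row 1719; see the milestone table for weights).
-- Copy to Groth/Agent/S1719.lean and replace the sorry. The statement below is byte-identical to the frozen
-- statement Dual.GrothFrozen.S1719 (Groth/Statements/S1719.lean; the theorem Dual.nontrivial_localized_HD_dualizing_iff_minimalPrime);
-- the grader kernel-checks Groth.Agent.S1719.result against that frozen type. Keep the theorem IN THIS FILE
-- (a `result` declared elsewhere and merely imported here is not credited); helpers may live anywhere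
-- under Groth/Agent/.
-- helpers: DualCxLib

set_option autoImplicit false
universe u
open CategoryTheory
attribute [local instance] HasDerivedCategory.standard
open Dual Groth.Agent.DualCxLib

namespace Groth.Agent.S1719

/-- Let A be a Noetherian local ring with a normalized dualizing complex ω and p a minimal prime of A
with dim(A/p) = e. Then the cohomology module H^i(ω) localized at p is nonzero if and only if i =
−e. -/
theorem result (A : Type u) [CommRing A] [IsLocalRing A] [IsNoetherianRing A] (ω : Dual.D A) (hω : Dual.IsDualizing A ω) (hn : Dual.IsNormalized A ω) (p : Ideal A) (hp : p ∈ minimalPrimes A) (e : ℕ) (he : ringKrullDim (A ⧸ p) = e) (i : ℤ) : Nontrivial (LocalizedModule (Ideal.primeCompl p (hp := hp.1.1)) (Dual.HD A ω i)) ↔ i = -(e : ℤ) := by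
  haveI := hp.1.1
  rw [← not_zeroAt_iff_nontrivial, not_zeroAt_HD_iff hω p, not_zeroAt_unit_iff hω ⟨p, hp.1.1⟩ hp]
  have h := ringKrullDim_quotient hω hn ⟨p, hp.1.1⟩
  rw [he] at h
  have he' : e = (-dfn hω ⟨p, hp.1.1⟩).toNat := by exact_mod_cast h
  have := dfn_nonpos hω hn ⟨p, hp.1.1⟩
  omega

end Groth.Agent.S1719
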