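import Groth.Statements.S1720
import Groth.Agent.DualCxLib.CdDim
import Groth.Agent.S0332
-- Template for statement S1720 (row 1720; see the milestone table for weights).
-- Copy to Groth/Agent/S1720.lean and replace the sorry. The statement below is byte-identical to the frozen
-- statement LocCoh.GrothFrozen.S1720 (Groth/Statements/S1720.lean; the theorem LocCoh.cd_lt_dim_of_localCohomology_dualizing_zero);
-- the grader kernel-checks Groth.Agent.S1720.result against that frozen type. Keep the theorem IN THIS FILE
-- (a `result` declared elsewhere and merely imported here is not credited); helpers may live anywhere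
-- under Groth/Agent/.
-- helpers: DualCxLib

set_option autoImplicit false
universe u
open CategoryTheory
attribute [local instance] HasDerivedCategory.standard
open LocCoh Groth.Agent.DualCxLib

namespace Groth.Agent.S1720

/-- Let A be a Noetherian local ring with a normalized dualizing complex ω and I an ideal. If the
degree-0 local cohomology of ω with support in I is zero, then the cohomological dimension of I is
less than dim A: for every A-module M, H^i_I(M) = 0 for all i ≥ dim A. -/
theorem result (A : Type u) [CommRing A] [IsLocalRing A] [IsNoetherianRing A] (ω : Dual.D A) (hω : Dual.IsDualizing A ω) (hn : Dual.IsNormalized A ω) (I : Ideal A) (h0 : Subsingleton (Dual2.HDI A I ω 0)) (M : Type u) [AddCommGroup M] [Module A M] (i : ℕ) (hi : ringKrullDim A ≤ (i : WithBot ℕ∞)) : Subsingleton (LocCoh.H I i M) := by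
  by_cases hI : I = ⊤
  · subst hI
    exact subsingleton_H_top M i
  obtain ⟨d, hd⟩ : ∃ d : ℕ, ringKrullDim A = d := by
    refine ⟨(IsLocalRing.maximalIdeal A).height.toNat, ?_⟩
    rw [← IsLocalRing.maximalIdeal_height_eq_ringKrullDim]
    exact congrArg WithBot.some (ENat.coe_toNat (Ideal.height_ne_top (IsLocalRing.maximalIdeal.isMaximal A).ne_top)).symm
  rw [hd] at hi
  exact Groth.Agent.S0332.result A I d hd (fun P hP _ => one_le_ringKrullDim_quot hω hn I hI h0 P hP) M i
    (by exact_mod_cast hi)

end Groth.Agent.S1720
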