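import Groth.Statements.S1721
import Groth.Agent.DualCxLib.TopDeg
import Groth.Agent.DualCxLib.FormCat
import Groth.Agent.DimFormulaLib.Local
-- Template for statement S1721 (row 1721; see the milestone table for weights).
-- Copy to Groth/Agent/S1721.lean and replace the sorry. The statement below is byte-identical to the frozen
-- statement Dual.GrothFrozen.S1721 (Groth/Statements/S1721.lean; the theorem Dual.isUniversallyCatenary_of_dualizing);
-- the grader kernel-checks Groth.Agent.S1721.result against that frozen type. Keep the theorem IN THIS FILE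
-- (a `result` declared elsewhere and merely imported here is not credited); helpers may live anywhere
-- under Groth/Agent/.
-- helpers: DualCxLib

set_option autoImplicit false
universe u
open CategoryTheory
attribute [local instance] HasDerivedCategory.standard
open Dual Groth.Agent.DualCxLib

namespace Groth.Agent.S1721

/-- A Noetherian ring admitting a dualizing complex is universally catenary. (Finiteness of the
dimension is a separate, earlier result.) -/
theorem result (A : Type u) [CommRing A] [IsNoetherianRing A] (ω : Dual.D A) (hω : Dual.IsDualizing A ω) : CAlg.IsUniversallyCatenary A := by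
  refine Groth.Agent.DimFormulaLib.isUniversallyCatenary_of_localization_maximal fun m _ => ?_
  let R := Localization.AtPrime m
  let c : PrimeSpectrum R → PrimeSpectrum A := PrimeSpectrum.comap (algebraMap A R)
  have hcle : ∀ P : PrimeSpectrum R, (c P).asIdeal ≤ m := fun P a ha => by
    by_contra hc
    exact P.isPrime.ne_top (Ideal.eq_top_of_isUnit_mem _ ha
      (IsLocalization.map_units R (⟨a, hc⟩ : m.primeCompl)))
  have hcm : ∀ P Q : PrimeSpectrum R, P < Q → c P < c Q := fun P Q h =>
    lt_of_le_of_ne (Ideal.comap_mono h.le) fun he =>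
      h.ne (PrimeSpectrum.localization_comap_injective R m.primeCompl he)
  have hclosed : c (IsLocalRing.closedPoint R) = (⟨m, inferInstance⟩ : PrimeSpectrum A) :=
    PrimeSpectrum.ext (IsLocalization.AtPrime.comap_maximalIdeal R m)
  refine Groth.Agent.RatliffLib.isUniversallyCatenary_of_formallyCatenary
    (isFormallyCatenary_of_modules (fun P => dfn hω (c P)) ?_ (fun P Q h => dfn_lt hω (hcm P Q h)) ?_)
  · intro P Q h
    refine dfn_covBy hω ⟨hcm P Q h.lt, fun T hPT hTQ => ?_⟩
    have hT : T.asIdeal ≤ m := (show T.asIdeal ≤ (c Q).asIdeal from hTQ.le).trans (hcle Q)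
    let T' : PrimeSpectrum R := ⟨T.asIdeal.map (algebraMap A R),
      IsLocalization.isPrime_of_isPrime_disjoint m.primeCompl R T.asIdeal T.2
        (Set.disjoint_left.2 fun a ha ha' => ha (hT ha'))⟩
    have hT' : c T' = T := PrimeSpectrum.ext (IsLocalization.under_map_of_isPrime_disjoint m.primeCompl R
      T.2 (Set.disjoint_left.2 fun a ha ha' => ha (hT ha')))
    have e1 : P < T' := by
      refine lt_of_le_of_ne ?_ fun he => hPT.ne (by rw [he, hT'])
      show P.asIdeal ≤ T.asIdeal.map (algebraMap A R)
      rw [← IsLocalization.map_comap m.primeCompl R P.asIdeal]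
      exact Ideal.map_mono hPT.le
    have e2 : T' < Q := by
      refine lt_of_le_of_ne ?_ fun he => hTQ.ne (by rw [← he, hT'])
      exact Ideal.map_le_iff_le_comap.2 hTQ.le
    exact h.2 e1 e2
  · intro P hP
    rw [hclosed] at hP
    let p := c P
    have hlo : ∀ Q ∈ Module.support A (A ⧸ p.asIdeal), dfn hω p ≤ dfn hω Q := fun Q hQ => by
      refine dfn_le hω (show p.asIdeal ≤ Q.asIdeal from ?_)
      have := Module.annihilator_le_of_mem_support hQ
      rwa [Ideal.annihilator_quotient] at this
    obtain ⟨x, hx, y, hy, hreg⟩ := exists_weaklyRegular_pair hω (A ⧸ p.asIdeal) hlo ⟨m, inferInstance⟩ hP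
    let T := (model hω).T (A ⧸ p.asIdeal) (dfn hω p)
    let e := (model hω).equivHK (A ⧸ p.asIdeal) (dfn hω p)
    haveI : Module.Finite A T := by
      haveI := finite_HK' hω (dfn hω p) (A ⧸ p.asIdeal)
      exact Module.Finite.equiv e.symm
    let f := LocalizedModule.mkLinearMap m.primeCompl T
    refine ⟨ModuleCat.of R (LocalizedModule m.primeCompl T),
      Module.Finite.of_isLocalizedModule m.primeCompl f, fun a ha z => ?_, ?_,
      algebraMap A R x, ?_, algebraMap A R y, ?_, ?_⟩
    · rw [← IsLocalization.map_comap m.primeCompl R P.asIdeal] at ha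
      have hle : (c P).asIdeal.map (algebraMap A R) ≤ Module.annihilator R (LocalizedModule m.primeCompl T) := by
        refine Ideal.map_le_iff_le_comap.2 fun b hb => Module.mem_annihilator.2 fun z => ?_
        obtain ⟨⟨t, s⟩, rfl⟩ := IsLocalizedModule.mk'_surjective m.primeCompl f z
        have h0 : b • t = 0 := e.injective (by
          rw [map_zero, map_smul]
          exact smul_eq_zero_of_smul ω _ (fun w => by
            obtain ⟨w, rfl⟩ := Ideal.Quotient.mk_surjective w
            exact Ideal.Quotient.eq_zero_iff_mem.2 (Ideal.mul_mem_right _ _ hb)) _)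
        rw [Function.uncurry_apply_pair, algebraMap_smul, ← IsLocalizedModule.mk'_smul, h0, IsLocalizedModule.mk'_zero]
      exact Module.mem_annihilator.1 (hle ha) z
    · refine (Groth.Agent.QGorLib.mem_support_localized_iff m P).2 ?_
      rw [← e.symm.support_eq]
      exact (not_zeroAt_iff_mem_support p).1 (not_zeroAt_dfn hω p)
    · exact (IsLocalization.AtPrime.to_map_mem_maximal_iff R m x).2 hx
    · exact (IsLocalization.AtPrime.to_map_mem_maximal_iff R m y).2 hy
    · exact ((e.isWeaklyRegular_congr [x, y]).2 hreg).of_isLocalizedModule R m.primeCompl f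

end Groth.Agent.S1721
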