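import Groth.Statements.S17210
import Groth.Agent.GenBCLib.ZeroAcyclic
import Groth.Agent.ZeroAcycLib.AcycConn
import Groth.Agent.ZeroAcycLib.Generalizing
-- import your own Groth.Agent.* helpers here

set_option autoImplicit false
universe u
open CategoryTheory CategoryTheory.Limits AlgebraicGeometry Opposite
open EtAcyc

namespace Groth.Agent.S17210

/-- Let S be a Noetherian scheme and f : X → S a morphism of finite type. There is a dense open U of S
such that for every morphism b : S' → S whose image lies in U and every cartesian square exhibiting
f' : X' → S' as the base change of f, all Milnor fibres of f' are nonempty and connected: for every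
point x' of X', all strict henselizations R of the local ring of S' at f' x' and R' of the local
ring of X' at x' with a compatible local homomorphism R → R', and every geometric point of Spec R
with values in a separably closed field algebraic over the residue field of a point of Spec R, the
fibre of Spec R' → Spec R at that geometric point is nonempty and connected. (Equivalently: for
every finite set E the constant sheaf E on X_U is universally locally acyclic for X_U → U, local
acyclicity of a sheaf of sets meaning that its sections over each strict localization map
bijectively to its sections over every Milnor fibre. The published statement asserts the conclusion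
for f itself rather than for its restriction over U, one dense open U serving both for this and for
the companion statement on principal covers of the Milnor fibres; in the unrestricted form it fails,
for instance for the inclusion of a closed point in the affine line over a field, whose Milnor fibre
over the generic point is empty; this row states it over U, which is what the proof gives.) -/
theorem result {X S : Scheme.{u}} (f : X ⟶ S) [IsNoetherian S]
    [LocallyOfFiniteType f] [QuasiCompact f] :
    ∃ U : S.Opens, Dense (U : Set S) ∧
      ∀ ⦃X' S' : Scheme.{u}⦄ (b : S' ⟶ S), Set.range b.base ⊆ (U : Set S) →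
        ∀ (f' : X' ⟶ S') (b' : X' ⟶ X), IsPullback b' f' f b →
          EtAcyc.OnStrictLocalizations f' (fun _ _ h => EtAcyc.GeomFibresAcyclicN Set.univ 0 h) := by
  refine ⟨GenBCLib.goodLocus f, GenBCLib.dense_goodLocus f, ?_⟩
  intro X' S' b hb f' b' hsq x RS RX _ _ _ _ _ _ _ _ _ _ _ _ hψ y Ω _ _ _ _
  have hg : EtAcyc.IsULocZeroAcyclic f' := GenBCLib.isULocZeroAcyclic_of_range hsq hb
  haveI : Surjective (Spec.map (CommRingCat.ofHom (algebraMap RS RX))) :=
    ZeroAcycLib.surjective_strictLoc f' hg x RS RX (algebraMap RS RX) hψ
  let π := Spec.map (CommRingCat.ofHom (algebraMap RS RX))
  let η := EtAcyc.geomPt (Spec (CommRingCat.of RS)) y Ω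
  let σ := Spec.map (CommRingCat.ofHom (algebraMap Ω (AlgebraicClosure Ω)))
  haveI := ZeroAcycLib.connectedSpace_fibre_of_acyclic f' hg x RS RX (algebraMap RS RX) hψ
    (AlgebraicClosure Ω) (σ ≫ η)
  haveI : Surjective (pullback.snd π η) := inferInstance
  refine ⟨?_, ?_, fun ℓ _ _ q h1 h2 => absurd (h1.trans h2) (by omega)⟩
  · obtain ⟨z, -⟩ := (pullback.snd π η).surjective (Classical.arbitrary (PrimeSpectrum Ω))
    exact ⟨z⟩
  · haveI : Surjective σ := ⟨fun z => ⟨Classical.arbitrary (PrimeSpectrum (AlgebraicClosure Ω)), Subsingleton.elim (α := PrimeSpectrum Ω) _ _⟩⟩
    haveI : Surjective (pullback.fst (pullback.snd π η) σ) := inferInstance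
    haveI : ConnectedSpace ↥(pullback (pullback.snd π η) σ) :=
      (pullbackLeftPullbackSndIso π η σ).hom.homeomorph.symm.surjective.connectedSpace
        (pullbackLeftPullbackSndIso π η σ).hom.homeomorph.symm.continuous
    exact (pullback.fst (pullback.snd π η) σ).surjective.connectedSpace (pullback.fst (pullback.snd π η) σ).continuous

end Groth.Agent.S17210
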