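import Groth.Statements.S1722
import Groth.Agent.DualCxLib.Local
-- Template for statement S1722 (row 1722; see the milestone table for weights).
-- Copy to Groth/Agent/S1722.lean and replace the sorry. The statement below is byte-identical to the frozen
-- statement Dual.GrothFrozen.S1722 (Groth/Statements/S1722.lean; the theorem Dual.exists_dimension_function_of_dualizing);
-- the grader kernel-checks Groth.Agent.S1722.result against that frozen type. Keep the theorem IN THIS FILE
-- (a `result` declared elsewhere and merely imported here is not credited); helpers may live anywhere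
-- under Groth/Agent/.
-- helpers: DualCxLib

set_option autoImplicit false
universe u
open CategoryTheory
attribute [local instance] HasDerivedCategory.standard
open Dual Groth.Agent.DualCxLib

namespace Groth.Agent.S1722

/-- Let ω be a dualizing complex over a Noetherian ring A. There is a function δ from Spec A to the
integers such that, for every prime p and every integer i, the localization at p of the A-module of
maps A/p → ω[i] in D(A) is nonzero exactly when i = −δ(p); and δ is a dimension function: δ(p) =
δ(q) + 1 whenever q covers p in Spec A (p ⊂ q with no prime strictly in between). -/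
theorem result (A : Type u) [CommRing A] [IsNoetherianRing A] (ω : Dual.D A) (hω : Dual.IsDualizing A ω) : ∃ δ : PrimeSpectrum A → ℤ, (∀ (p : PrimeSpectrum A) (i : ℤ), Nontrivial (LocalizedModule p.asIdeal.primeCompl (Dual.inD A (A ⧸ p.asIdeal) ⟶ ω⟦i⟧)) ↔ i = -δ p) ∧ ∀ p q : PrimeSpectrum A, p ⋖ q → δ p = δ q + 1 := by
  refine ⟨fun p => -dfn hω p, fun p i => ?_, fun p q h => ?_⟩
  · rw [neg_neg, ← not_zeroAt_iff_nontrivial]
    exact ⟨eq_dfn hω p i, fun h => h ▸ not_zeroAt_dfn hω p⟩
  · have := dfn_covBy hω h
    show -dfn hω p = -dfn hω q + 1
    omega

end Groth.Agent.S1722
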