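import Groth.Statements.S1723
import Groth.Agent.DualCxLib.FibreDual
import Groth.Agent.S1779
-- Template for statement S1723 (row 1723; see the milestone table for weights).
-- Copy to Groth/Agent/S1723.lean and replace the sorry. The statement below is byte-identical to the frozen
-- statement Dual.GrothFrozen.S1723 (Groth/Statements/S1723.lean; the theorem Dual.isGorensteinRing_formalFibre_of_dualizing);
-- the grader kernel-checks Groth.Agent.S1723.result against that frozen type. Keep the theorem IN THIS FILE
-- (a `result` declared elsewhere and merely imported here is not credited); helpers may live anywhere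
-- under Groth/Agent/.
-- helpers: DualCxLib

set_option autoImplicit false
universe u
open CategoryTheory
attribute [local instance] HasDerivedCategory.standard
open Dual Groth.Agent.DualCxLib

namespace Groth.Agent.S1723

/-- If a Noetherian local ring A has a dualizing complex, then each of its formal fibres is a Gorenstein
ring: for every prime p the ring A^ ⊗_A κ(p) (completion at the maximal ideal, tensored with the
residue field of p) is a Gorenstein ring. -/
theorem result (A : Type u) [CommRing A] [IsLocalRing A] [IsNoetherianRing A] (ω : Dual.D A) (hω : Dual.IsDualizing A ω) (p : PrimeSpectrum A) : LocCoh.IsGorensteinRing (EGA4.formalFibre A p.asIdeal) := by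
  let I := IsLocalRing.maximalIdeal A
  haveI : IsNoetherianRing (EGA4.Cpl A) :=
    RegLocal.isNoetherianRing_adicCompletion I I.fg_of_isNoetherianRing
  haveI : DRing.HasLBaseChange (algebraMap A (AdicCompletion I A)) := Groth.Agent.DRingLib.hasLBaseChange _
  exact Groth.Agent.DualCxLib.gorenstein_fibre_of_isDualizing A (AdicCompletion I A) hω
    (Groth.Agent.S1779.result A I ω hω) p.asIdeal

end Groth.Agent.S1723
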