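import Groth.Statements.S17231
import Groth.Agent.BundlePushLib.Main
-- import your own Groth.Agent.* helpers here

set_option autoImplicit false
universe u
open IntSh

namespace Groth.Agent.S17231

open CategoryTheory CategoryTheory.Limits AlgebraicGeometry in
/-- Let Y be a connected Noetherian scheme, E a locally free O_Y-module of rank r and π : X → Y a
projective bundle of E, i.e. X = P(E) with universal invertible quotient π^*E → O(1) (X Noetherian
and connected, π projective and flat); let O(−1) be an inverse of O(1), D an r-th exterior power of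
E (so D = det E) and D' an inverse of D. With λ-ring models of K^•(X), K^•(Y) and the push-forward
π_* on bundle classes (twisted by O_X), writing δ(O(1)) = 1 − [O(−1)], one has π_*(δ(O(1))^l) = 1
for every 0 ≤ l < r and π_*(δ(O(1))^r) = δ(det E) = 1 − [D']. (The source's further Segre-class
relation is not stated. X is taken connected, which it is for r ≥ 1 and Y connected.) -/
theorem result
    {X Y : Scheme.{u}} [IsNoetherian X] [IsNoetherian Y] [ConnectedSpace X] [ConnectedSpace Y] (π : X ⟶ Y)
    (hπ : RelProj.IsProjective π) [Flat π] [HasInjectiveResolutions X.Modules]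
    (r : ℕ) (E : Y.Modules) (hE : FlatMod.IsFinLocFreeOfRank r E)
    (O1 : X.Modules) (q : (Scheme.Modules.pullback π).obj E ⟶ O1) (hP : KRR.IsProjBundle π E O1 q)
    (Om : X.Modules) (hOm : PicF.IsInvertible Om) (hOOm : ClSub.IsInverseOf O1 Om)
    (D D' : Y.Modules) (hD : ExtPow.IsExtPow r E D) (hDi : PicF.IsInvertible D) (hD'i : PicF.IsInvertible D')
    (hDD' : ClSub.IsInverseOf D D')
    (KX : Type u) [CommRing KX] [LambdaRing.LambdaOps KX] (PX : LambdaRing.PosStructure KX)
    (φX : SGA6.Kvb X →+ KX) (hKX : KRR.IsModel X KX PX φX)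
    (KY : Type u) [CommRing KY] [LambdaRing.LambdaOps KY] (PY : LambdaRing.PosStructure KY)
    (φY : SGA6.Kvb Y →+ KY) (hKY : KRR.IsModel Y KY PY φY)
    (g : KX →+ KY) (hg : KDet.IsPushF π (Coh.structureModule X) φX φY g) :
    (∀ l : ℕ, l < r → g ((1 - φX (KRR.cl X Om)) ^ l) = 1) ∧
      g ((1 - φX (KRR.cl X Om)) ^ r) = 1 - φY (KRR.cl Y D') := by
  exact Groth.Agent.BundlePushLib.push_delta hE hP hOOm hKX hKY hg hD
    (Groth.Agent.CurveLib.isFinLocFree_of_isInvertible hDi) (Groth.Agent.CurveLib.isFinLocFree_of_isInvertible hD'i) hDD'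

end Groth.Agent.S17231
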