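import Groth.Statements.S17241
import Mathlib

set_option autoImplicit false
open W4c4effdivwronsk2

namespace Groth.Agent.S17241

open Polynomial

variable {k : Type*} [Field k]

/-- polynomials whose expansion at `r` is supported in `S` -/
noncomputable def sub (r : k) (S : Finset ℕ) : Submodule k k[X] where
  carrier := {R | ∀ e, e ∉ S → (taylor r R).coeff e = 0}
  zero_mem' e _ := by simp
  add_mem' {R R'} h h' e he := by rw [map_add, coeff_add, h e he, h' e he, add_zero]
  smul_mem' c R h e he := by rw [map_smul, coeff_smul, h e he, smul_zero]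

theorem mem_sub {r : k} {S : Finset ℕ} {R : k[X]} : R ∈ sub r S ↔ ∀ e, e ∉ S → (taylor r R).coeff e = 0 := Iff.rfl

theorem taylor_pow_sub (r : k) (e : ℕ) : taylor r ((X - C r) ^ e) = X ^ e := by
  simp [taylor_apply]

theorem natDegree_taylor' (r : k) (R : k[X]) : (taylor r R).natDegree = R.natDegree := natDegree_taylor R r

theorem finrank_sub (r : k) (S : Finset ℕ) : Module.finrank k ↥(sub r S) = S.card := by
  classical
  let T : ↥(sub r S) →ₗ[k] (S → k) := LinearMap.pi fun e => (lcoeff k e.1).comp ((taylor r).comp (sub r S).subtype)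
  have hT : Function.Bijective T := by
    refine ⟨(injective_iff_map_eq_zero T).2 fun R hR => Subtype.ext (taylor_injective r ?_), fun v => ?_⟩
    · ext e
      by_cases he : e ∈ S
      · simpa [T] using congrFun hR ⟨e, he⟩
      · simp [mem_sub.1 R.2 e he]
    · refine ⟨⟨∑ e : S, v e • (X - C r) ^ e.1, mem_sub.2 fun e he => ?_⟩, funext fun e => ?_⟩
      · simp only [map_sum, map_smul, taylor_pow_sub, finsetSum_coeff, coeff_smul, coeff_X_pow]
        exact Finset.sum_eq_zero fun x _ => by rw [if_neg (fun h => he (by rw [h]; exact x.2)), smul_zero]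
      · show (taylor r (∑ x : S, v x • (X - C r) ^ x.1)).coeff e.1 = v e
        simp only [map_sum, map_smul, taylor_pow_sub, finsetSum_coeff, coeff_smul, coeff_X_pow]
        rw [Finset.sum_eq_single e]
        · simp
        · intro x _ hx; rw [if_neg (fun h => hx (Subtype.ext h.symm)), smul_zero]
        · simp
  rw [(LinearEquiv.ofBijective T hT).finrank_eq, Module.finrank_pi, Fintype.card_coe]

theorem dvd_iff_taylor (r : k) (n : ℕ) (R : k[X]) : (X - C r) ^ n ∣ R ↔ ∀ e < n, (taylor r R).coeff e = 0 := by
  constructor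
  · rintro ⟨q, rfl⟩ e he
    rw [taylor_mul, taylor_pow_sub, coeff_X_pow_mul', if_neg (by omega)]
  · intro h
    obtain ⟨q, hq⟩ := X_pow_dvd_iff.2 h
    refine ⟨q.comp (X - C r), ?_⟩
    have := congrArg (fun p : k[X] => p.comp (X - C r)) hq
    simpa [taylor_apply, comp_assoc, mul_comp] using this

variable {m : ℕ}

/-- product of the linear factors -/
noncomputable def P1 (r : Fin m → k) : k[X] := ∏ j, (X - C (r j))

/-- weighted sum of partial products -/
noncomputable def Q1 (r : Fin m → k) (a : Fin m → ℕ) : k[X] := ∑ j, C (a j : k) * ∏ l ∈ Finset.univ.erase j, (X - C (r l))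

/-- numerator of the derivative -/
noncomputable def psi (r : Fin m → k) (a : Fin m → ℕ) : k[X] →ₗ[k] k[X] where
  toFun R := derivative R * P1 r - R * Q1 r a
  map_add' R R' := by rw [map_add]; ring
  map_smul' c R := by rw [map_smul, RingHom.id_apply, smul_mul_assoc, smul_mul_assoc, smul_sub]

theorem psi_apply (r : Fin m → k) (a : Fin m → ℕ) (R : k[X]) : psi r a R = derivative R * P1 r - R * Q1 r a := rfl

theorem psi_dvd_iff [CharZero k] (r : Fin m → k) (hr : Function.Injective r) (a : Fin m → ℕ) (i : Fin m) {R : k[X]}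
    (hR : (taylor (r i) R).coeff (a i) = 0) (n : ℕ) :
    ((X - C (r i)) ^ n ∣ psi r a R ↔ (X - C (r i)) ^ n ∣ R) := by
  classical
  by_cases h0 : R = 0
  · simp [h0]
  obtain ⟨R2, hR2, hnd⟩ := exists_eq_pow_rootMultiplicity_mul_and_not_dvd R h0 (r i)
  generalize rootMultiplicity (r i) R = e at hR2
  have hev : R2.eval (r i) ≠ 0 := fun h => hnd (dvd_iff_isRoot.2 h)
  have hea : e ≠ a i := by
    rintro rfl
    rw [hR2, taylor_mul, taylor_pow_sub, coeff_X_pow_mul', if_pos le_rfl, Nat.sub_self, taylor_coeff_zero] at hR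
    exact hev hR
  let P2 := ∏ l ∈ Finset.univ.erase i, (X - C (r l))
  have hP : P1 r = (X - C (r i)) * P2 := (Finset.mul_prod_erase _ _ (Finset.mem_univ i)).symm
  obtain ⟨Q2, hQ⟩ : ∃ Q2, Q1 r a = C (a i : k) * P2 + (X - C (r i)) * Q2 := by
    refine ⟨∑ j ∈ Finset.univ.erase i, C (a j : k) * ∏ l ∈ (Finset.univ.erase j).erase i, (X - C (r l)), ?_⟩
    rw [Q1, ← Finset.add_sum_erase _ _ (Finset.mem_univ i), Finset.mul_sum]
    congr 1
    refine Finset.sum_congr rfl fun j hj => ?_
    rw [← Finset.mul_prod_erase (Finset.univ.erase j) _ (Finset.mem_erase.2 ⟨(Finset.mem_erase.1 hj).1.symm, Finset.mem_univ i⟩)]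
    ring
  have hd : (X - C (r i)) * derivative R = (X - C (r i)) ^ e * (C (e : k) * R2 + (X - C (r i)) * derivative R2) := by
    rw [hR2, derivative_mul, derivative_X_sub_C_pow, map_natCast]
    rcases e with _ | e
    · simp
    · simp only [Nat.add_sub_cancel]; ring
  have hpsi : psi r a R = (X - C (r i)) ^ e *
      (C ((e : k) - a i) * R2 * P2 + (X - C (r i)) * (derivative R2 * P2 - R2 * Q2)) := by
    rw [psi_apply, hP, hQ, show derivative R * ((X - C (r i)) * P2) = ((X - C (r i)) * derivative R) * P2 by ring, hd,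
      hR2, map_sub]
    ring
  generalize hK : C ((e : k) - a i) * R2 * P2 + (X - C (r i)) * (derivative R2 * P2 - R2 * Q2) = K at hpsi
  have hK0 : K.eval (r i) ≠ 0 := by
    rw [← hK]
    simp only [eval_add, eval_mul, eval_sub, eval_X, eval_C, sub_self, zero_mul, add_zero]
    refine mul_ne_zero (mul_ne_zero (sub_ne_zero.2 fun h => hea (Nat.cast_injective h)) hev) ?_
    rw [eval_prod]
    refine Finset.prod_ne_zero_iff.2 fun l hl => ?_
    simpa [sub_eq_zero] using fun h => (Finset.mem_erase.1 hl).1 (hr h).symm
  have key : ∀ S : k[X], S.eval (r i) ≠ 0 → ((X - C (r i)) ^ n ∣ (X - C (r i)) ^ e * S ↔ n ≤ e) := fun S hS => by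
    refine ⟨fun h => ?_, fun h => dvd_mul_of_dvd_left (pow_dvd_pow _ h) _⟩
    by_contra hlt
    obtain ⟨c, hc⟩ := dvd_trans (pow_dvd_pow _ (show e + 1 ≤ n by omega)) h
    rw [pow_succ, mul_assoc] at hc
    rw [mul_left_cancel₀ (pow_ne_zero _ (X_sub_C_ne_zero _)) hc] at hS
    simp at hS
  rw [hpsi, key K hK0, hR2, key R2 hev]

theorem psi_degree [CharZero k] (r : Fin m → k) (a : Fin m → ℕ) (hm : 1 ≤ m) {R : k[X]} (h0 : R ≠ 0)
    (hR : R.coeff (∑ j, a j) = 0) :
    psi r a R ≠ 0 ∧ (psi r a R).natDegree = R.natDegree + m - 1 := by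
  classical
  have hP : (P1 r).natDegree = m := by
    rw [P1, natDegree_prod _ _ fun j _ => X_sub_C_ne_zero _]; simp
  have hPm : (P1 r).Monic := monic_prod_of_monic _ _ fun j _ => monic_X_sub_C _
  have hQ : (Q1 r a).natDegree ≤ m - 1 ∧ (Q1 r a).coeff (m - 1) = ((∑ j, a j : ℕ) : k) := by
    have hdj : ∀ j : Fin m, (∏ l ∈ Finset.univ.erase j, (X - C (r l))).natDegree = m - 1 := fun j => by
      rw [natDegree_prod _ _ fun l _ => X_sub_C_ne_zero _]; simp
    refine ⟨natDegree_sum_le_of_forall_le _ _ fun j _ => (natDegree_C_mul_le _ _).trans (hdj j).le, ?_⟩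
    rw [Q1, finsetSum_coeff, Nat.cast_sum]
    refine Finset.sum_congr rfl fun j _ => ?_
    rw [coeff_C_mul]
    conv_rhs => rw [← mul_one (a j : k)]
    congr 1
    rw [← hdj j]
    exact monic_prod_of_monic _ _ fun l _ => monic_X_sub_C _
  set e := R.natDegree with hedef
  have hle : (psi r a R).natDegree ≤ e + m - 1 := by
    rw [psi_apply]
    refine (natDegree_sub_le _ _).trans (max_le ?_ (natDegree_mul_le.trans (by omega)))
    rcases Nat.eq_zero_or_pos e with h | h
    · rw [derivative_of_natDegree_zero h, zero_mul, natDegree_zero]; omega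
    · refine natDegree_mul_le.trans ?_
      have := natDegree_derivative_le R
      omega
  have hc : (psi r a R).coeff (e + m - 1) ≠ 0 := by
    rw [psi_apply, coeff_sub, show e + m - 1 = e + (m - 1) by omega,
      coeff_mul_add_eq_of_natDegree_le (le_refl e) hQ.1, hQ.2]
    rcases Nat.eq_zero_or_pos e with h | h
    · rw [derivative_of_natDegree_zero h, zero_mul, coeff_zero, zero_sub, neg_ne_zero]
      refine mul_ne_zero (leadingCoeff_ne_zero.2 h0) fun hh => leadingCoeff_ne_zero.2 h0 ?_
      rwa [Nat.cast_eq_zero.1 hh, ← h] at hR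
    · rw [show e + (m - 1) = e - 1 + m by omega, coeff_mul_add_eq_of_natDegree_le (natDegree_derivative_le R) hP.le,
        coeff_derivative, show e - 1 + 1 = e by omega, show (P1 r).coeff m = 1 from (by have := hPm.coeff_natDegree; rwa [hP] at this), mul_one,
        ← mul_sub]
      refine mul_ne_zero (leadingCoeff_ne_zero.2 h0) (sub_ne_zero.2 fun hh => ?_)
      have he : e = ∑ j, a j := by
        have : ((e - 1 + 1 : ℕ) : k) = ((∑ j, a j : ℕ) : k) := by push_cast; exact_mod_cast hh
        have := Nat.cast_injective this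
        omega
      exact leadingCoeff_ne_zero.2 h0 (he ▸ hR : R.coeff e = 0)
  exact ⟨fun h => hc (by rw [h, coeff_zero]), le_antisymm hle (le_natDegree_of_ne_zero hc)⟩

theorem finrank_map_inj {W : Submodule k k[X]} (f : k[X] →ₗ[k] k[X]) (h : ∀ R ∈ W, f R = 0 → R = 0) :
    Module.finrank k ↥(W.map f) = Module.finrank k ↥W := by
  rw [← LinearMap.range_domRestrict]
  exact LinearMap.finrank_range_of_inj ((injective_iff_map_eq_zero _).2 fun R hR => Subtype.ext (h R.1 R.2 hR))

open Polynomial in
/-- Let `k` be a field of characteristic zero and take, on the projective line over `k`, the point `∞`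
and `m` further distinct points `r_1, …, r_m` of the affine line, with positive integers `b` (at
`∞`) and `a_1, …, a_m`; put `N = b + ∑ a_j`. The sum of the spaces of differentials with a single
pole, of order at most `b + 1` at `∞`, resp. at most `a_j + 1` at `r_j`, `V = H⁰(ω((b+1)∞)) + ∑_j
H⁰(ω((a_j+1)r_j)) ⊆ H⁰(ω((b+1)∞ + ∑_j (a_j+1)r_j)) ≅ H⁰(O(d))`, `d = b - 1 + ∑ (a_j+1)`, becomes,
after multiplying by `dX⁻¹ ∏_j (X - r_j)^(a_j+1)`, the subspace of `k[X]_{≤ d}` spanned by
`D·k[X]_{<b}` and the `D_i·k[X]_{<a_i}`, where `D = ∏_j (X - r_j)^(a_j+1)` and `D_i` omits the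
`i`-th factor; a member `h` vanishes to order `n` at a point `q` of the affine line when `(X - q)^n
∣ h`, and to order `d - deg h` at `∞`. Then `dim V = N`, and at each marked point the vanishing
orders of the members of `V` are `0, …, e - 1, e + 1, …, N`, where `e = a_i` at `r_i` and `e = b` at
`∞`: the subspace vanishing to order at least `n` there has dimension `N - n` for `n ≤ e` and `N + 1
- n` for `n > e` (so the weight at `r_i` is `∑_{j ≠ i} a_j + b`). (The published statement is over
the complex numbers, with all marked points arbitrary; one of them is placed at `∞` here.) -/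
theorem result
    (k : Type*) [Field k] [CharZero k] (m : ℕ) (r : Fin m → k) (hr : Function.Injective r)
    (a : Fin m → ℕ) (ha : ∀ j, 1 ≤ a j) (b : ℕ) (hb : 1 ≤ b) (N d : ℕ)
    (hN : N = (∑ j, a j) + b) (hd : d + 1 = (∑ j, (a j + 1)) + b)
    (V : Submodule k (Polynomial k))
    (hV : V = (Polynomial.degreeLT k b).map (LinearMap.mulLeft k (∏ j, (X - C (r j)) ^ (a j + 1))) ⊔
      ⨆ i, (Polynomial.degreeLT k (a i)).map
        (LinearMap.mulLeft k (∏ j ∈ Finset.univ.erase i, (X - C (r j)) ^ (a j + 1)))) :
    Module.finrank k ↥V = N ∧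
    (∀ (i : Fin m) (n : ℕ), Module.finrank k ↥(V ⊓ (Ideal.span {(X - C (r i)) ^ n}).restrictScalars k) =
        if n ≤ a i then N - n else N + 1 - n) ∧
    (∀ n : ℕ, Module.finrank k ↥(V ⊓ Polynomial.degreeLT k (d + 1 - n)) =
        if n ≤ b then N - n else N + 1 - n) := by
  classical
  set A := ∑ j, a j with hA
  set D : k[X] := ∏ j, (X - C (r j)) ^ (a j + 1) with hD
  set Di : Fin m → k[X] := fun i => ∏ j ∈ Finset.univ.erase i, (X - C (r j)) ^ (a j + 1) with hDi
  have hDi' : ∀ i, D = (X - C (r i)) ^ (a i + 1) * Di i := fun i => (Finset.mul_prod_erase _ _ (Finset.mem_univ i)).symm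
  have hlow : N ≤ Module.finrank k ↥V := by
    let Φ : (degreeLT k b × ((i : Fin m) → degreeLT k (a i))) →ₗ[k] k[X] :=
      LinearMap.coprod ((LinearMap.mulLeft k D).comp (degreeLT k b).subtype)
        (∑ i, (LinearMap.mulLeft k (Di i)).comp ((degreeLT k (a i)).subtype.comp (LinearMap.proj i)))
    have hΦ : ∀ p, Φ p = D * p.1.1 + ∑ i, Di i * (p.2 i).1 := fun p => by simp [Φ]
    have hinj : Function.Injective Φ := by
      rw [injective_iff_map_eq_zero]
      intro p hp
      rw [hΦ] at hp
      have hz : ∀ i, (p.2 i).1 = 0 := fun i => by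
        have hdvd : (X - C (r i)) ^ (a i + 1) ∣ Di i * (p.2 i).1 := by
          have : Di i * (p.2 i).1 = -(D * p.1.1 + ∑ j ∈ Finset.univ.erase i, Di j * (p.2 j).1) := by
            rw [← Finset.add_sum_erase _ _ (Finset.mem_univ i)] at hp
            linear_combination hp
          rw [this, dvd_neg]
          refine dvd_add ((hDi' i ▸ dvd_mul_right _ _).mul_right _) (Finset.dvd_sum fun j hj => Dvd.dvd.mul_right ?_ _)
          exact Finset.dvd_prod_of_mem _ (Finset.mem_erase.2 ⟨(Finset.mem_erase.1 hj).1.symm, Finset.mem_univ i⟩)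
        have hcop : IsCoprime ((X - C (r i)) ^ (a i + 1)) (Di i) := IsCoprime.prod_right fun j hj =>
          (isCoprime_X_sub_C_of_isUnit_sub (sub_ne_zero.2 (fun h => (Finset.mem_erase.1 hj).1 (hr h).symm)).isUnit).pow
        refine eq_zero_of_dvd_of_degree_lt (hcop.dvd_of_dvd_mul_left hdvd) ?_
        rw [degree_pow, degree_X_sub_C, nsmul_one]
        exact lt_of_lt_of_le (mem_degreeLT.1 (p.2 i).2) (by exact_mod_cast Nat.le_succ _)
      have h0 : p.1.1 = 0 := by
        simp only [hz, mul_zero, Finset.sum_const_zero, add_zero] at hp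
        exact (mul_eq_zero.1 hp).resolve_left (Finset.prod_ne_zero_iff.2 fun j _ => pow_ne_zero _ (X_sub_C_ne_zero _))
      exact Prod.ext (Subtype.ext h0) (funext fun i => Subtype.ext (hz i))
    have hrg : LinearMap.range Φ ≤ V := by
      rintro _ ⟨p, rfl⟩
      rw [hΦ, hV]
      refine Submodule.add_mem_sup ⟨_, p.1.2, rfl⟩ (Submodule.sum_mem _ fun i _ => ?_)
      exact Submodule.mem_iSup_of_mem i ⟨_, (p.2 i).2, rfl⟩
    have hVfd : Module.Finite k ↥V := by
      rw [hV]
      have : ∀ c : ℕ, Module.Finite k ↥(degreeLT k c) := fun c => Module.Finite.equiv (degreeLTEquiv k c).symm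
      infer_instance
    have hc : ∀ c : ℕ, Module.finrank k ↥(degreeLT k c) = c := fun c => by
      rw [(degreeLTEquiv k c).finrank_eq, Module.finrank_fin_fun]
    refine le_trans ?_ (Submodule.finrank_mono hrg)
    rw [LinearMap.finrank_range_of_inj hinj]
    haveI : ∀ c : ℕ, Module.Finite k ↥(degreeLT k c) := fun c => Module.Finite.equiv (degreeLTEquiv k c).symm
    rw [Module.finrank_prod, Module.finrank_pi_fintype, hc]
    simp only [hc]
    omega
  set W := sub (0 : k) (Finset.range (N + 1)) with hW
  have hmemW : ∀ R : k[X], R.natDegree ≤ N → R ∈ W := fun R h => mem_sub.2 fun e he => by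
    rw [taylor_zero]
    exact coeff_eq_zero_of_natDegree_lt (by rw [Finset.mem_range] at he; omega)
  set G : k[X] := ∏ j, (X - C (r j)) ^ (a j) with hG
  set Gi : Fin m → k[X] := fun i => ∏ j ∈ Finset.univ.erase i, (X - C (r j)) ^ (a j) with hGi
  have hPG : P1 r * G = D := by
    rw [P1, hG, hD, ← Finset.prod_mul_distrib]
    exact Finset.prod_congr rfl fun j _ => by rw [pow_succ]; ring
  have hGd : derivative G * P1 r = G * Q1 r a := by
    rw [hG, derivative_prod_finset, Finset.sum_mul, Q1, Finset.mul_sum]
    refine Finset.sum_congr rfl fun i _ => ?_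
    rw [P1, ← Finset.mul_prod_erase _ _ (Finset.mem_univ i),
      ← Finset.mul_prod_erase Finset.univ (fun j => (X - C (r j)) ^ a j) (Finset.mem_univ i), derivative_X_sub_C_pow]
    have := ha i
    conv_rhs => rw [show a i = a i - 1 + 1 by omega, pow_succ, show a i - 1 + 1 = a i by omega]
    ring
  have hpsiG : ∀ p : k[X], psi r a (p * G) = derivative p * D := fun p => by
    rw [psi_apply, derivative_mul, ← hPG]
    linear_combination p * hGd
  have hGne : G ≠ 0 := Finset.prod_ne_zero_iff.2 fun j _ => pow_ne_zero _ (X_sub_C_ne_zero _)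
  have hGN : G.natDegree = A := by
    rw [hG, natDegree_prod _ _ fun j _ => pow_ne_zero _ (X_sub_C_ne_zero _)]
    simp [hA]
  have hVle : V ≤ W.map (psi r a) := by
    rw [hV, sup_le_iff, iSup_le_iff]
    constructor
    · rintro _ ⟨p, hp, rfl⟩
      have hsum : (LinearMap.mulLeft k D) p = psi r a ((∑ e ∈ Finset.range b, C (p.coeff e / (e + 1)) * X ^ (e + 1)) * G) := by
        rw [hpsiG, LinearMap.mulLeft_apply, mul_comm, derivative_sum]
        congr 1
        conv_lhs => rw [as_sum_range' p b (by
          rcases eq_or_ne p 0 with rfl | h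
          · simp; omega
          · exact (natDegree_lt_iff_degree_lt h).2 (mem_degreeLT.1 hp))]
        refine Finset.sum_congr rfl fun e _ => ?_
        rw [derivative_C_mul, derivative_X_pow, ← C_mul_X_pow_eq_monomial, Nat.add_sub_cancel, ← mul_assoc, ← map_mul]
        congr 2
        have : (e : k) + 1 ≠ 0 := Nat.cast_add_one_ne_zero e
        push_cast
        field_simp
      rw [hsum]
      refine Submodule.mem_map_of_mem (hmemW _ (natDegree_mul_le.trans ?_))
      have : (∑ e ∈ Finset.range b, C (p.coeff e / (e + 1)) * X ^ (e + 1)).natDegree ≤ b :=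
        natDegree_sum_le_of_forall_le _ _ fun e he => (natDegree_C_mul_X_pow_le _ _).trans (by
          have := Finset.mem_range.1 he; omega)
      omega
    · intro i
      rintro _ ⟨p, hp, rfl⟩
      have hpd : p ∈ sub (r i) (Finset.range (a i)) := mem_sub.2 fun e he => by
        rw [Finset.mem_range, not_lt] at he
        rcases eq_or_ne p 0 with rfl | h0
        · simp
        refine coeff_eq_zero_of_natDegree_lt ?_
        rw [natDegree_taylor']
        exact lt_of_lt_of_le ((natDegree_lt_iff_degree_lt h0).2 (mem_degreeLT.1 hp)) he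
      have hbasic : ∀ e, e < a i → psi r a ((X - C (r i)) ^ e * Gi i) = C ((e : k) - a i) * ((X - C (r i)) ^ e * Di i) := by
        intro e he
        refine mul_left_cancel₀ (pow_ne_zero (a i) (X_sub_C_ne_zero (r i))) ?_
        have e1 : (X - C (r i)) ^ a i * ((X - C (r i)) ^ e * Gi i) = (X - C (r i)) ^ e * G := by
          rw [hG, ← Finset.mul_prod_erase _ _ (Finset.mem_univ i)]; ring
        have e2 := hpsiG ((X - C (r i)) ^ e)
        rw [← e1, psi_apply, derivative_mul, derivative_X_sub_C_pow, derivative_X_sub_C_pow, hDi' i] at e2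
        have e3 : (C (a i : k) * (X - C (r i)) ^ (a i - 1)) * P1 r =
            C (a i : k) * (X - C (r i)) ^ (a i) * ∏ l ∈ Finset.univ.erase i, (X - C (r l)) := by
          rw [P1, ← Finset.mul_prod_erase _ _ (Finset.mem_univ i)]
          have := ha i
          conv_rhs => rw [show a i = a i - 1 + 1 by omega, pow_succ, show a i - 1 + 1 = a i by omega]
          ring
        have e4 : (∏ l ∈ Finset.univ.erase i, (X - C (r l))) * Gi i = Di i := by
          rw [hGi, hDi]
          simp only [← Finset.prod_mul_distrib]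
          exact Finset.prod_congr rfl fun j _ => by rw [pow_succ]; ring
        have e5 : C (e : k) * (X - C (r i)) ^ (e - 1) * (X - C (r i)) = C (e : k) * (X - C (r i)) ^ e := by
          rcases e with _ | e
          · simp
          · rw [Nat.add_sub_cancel, pow_succ]; ring
        rw [psi_apply, map_sub]
        simp only [map_natCast] at e2 e3 e5 ⊢
        linear_combination e2 - (X - C (r i)) ^ e * Gi i * e3 - (a i : k[X]) * (X - C (r i)) ^ a i * (X - C (r i)) ^ e * e4 +
          (X - C (r i)) ^ a i * Di i * e5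
      have hrep : (LinearMap.mulLeft k (Di i)) p = psi r a (∑ e ∈ Finset.range (a i),
          ((taylor (r i) p).coeff e / ((e : k) - a i)) • ((X - C (r i)) ^ e * Gi i)) := by
        rw [map_sum, LinearMap.mulLeft_apply]
        have hp' : p = ∑ e ∈ Finset.range (a i), (taylor (r i) p).coeff e • (X - C (r i)) ^ e := by
          refine taylor_injective (r i) (Polynomial.ext fun l => ?_)
          simp only [map_sum, map_smul, taylor_pow_sub, finsetSum_coeff, coeff_smul, coeff_X_pow]
          by_cases hl : l ∈ Finset.range (a i)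
          · rw [Finset.sum_eq_single l (fun x _ hx => by rw [if_neg hx.symm, smul_zero]) (fun h => absurd hl h),
              if_pos rfl, smul_eq_mul, mul_one]
          · rw [mem_sub.1 hpd l hl, Finset.sum_eq_zero fun x hx => by rw [if_neg (fun h => hl (by rw [h]; exact hx)), smul_zero]]
        conv_lhs => rw [hp', Finset.mul_sum]
        refine Finset.sum_congr rfl fun e he => ?_
        rw [map_smul, hbasic e (Finset.mem_range.1 he), ← smul_eq_C_mul, smul_smul, div_mul_cancel₀, mul_smul_comm, mul_comm (Di i)]
        exact sub_ne_zero.2 fun h => by have := Nat.cast_injective h; have := Finset.mem_range.1 he; omega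
      rw [hrep]
      refine Submodule.mem_map_of_mem (Submodule.sum_mem _ fun e he => Submodule.smul_mem _ _ (hmemW _ (natDegree_mul_le.trans ?_)))
      have h1 : (Gi i).natDegree + a i = A := by
        rw [hA, hGi, natDegree_prod _ _ fun j _ => pow_ne_zero _ (X_sub_C_ne_zero _), ← Finset.add_sum_erase Finset.univ a (Finset.mem_univ i)]
        simp [add_comm]
      rw [natDegree_pow, natDegree_X_sub_C, mul_one]
      have := Finset.mem_range.1 he
      omega
  haveI hWfin : Module.Finite k ↥W := Module.finite_of_finrank_pos (by rw [hW, finrank_sub, Finset.card_range]; omega)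
  haveI : Module.Finite k ↥(W.map (psi r a)) := inferInstance
  have hImle : Module.finrank k ↥(W.map (psi r a)) ≤ N := by
    have hker : 0 < Module.finrank k ↥(LinearMap.ker ((psi r a).domRestrict W)) := by
      have h1 : psi r a G = 0 := by have := hpsiG 1; simpa using this
      have hx : (⟨G, hmemW G (by omega)⟩ : ↥W) ∈ LinearMap.ker ((psi r a).domRestrict W) := by simpa using h1
      haveI : Nontrivial ↥(LinearMap.ker ((psi r a).domRestrict W)) :=
        ⟨⟨⟨_, hx⟩, 0, fun h => hGne (congrArg (fun x : ↥(LinearMap.ker ((psi r a).domRestrict W)) => x.1.1) h)⟩⟩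
      exact (Module.finrank_pos_iff (R := k)).2 this
    have hrn := LinearMap.finrank_range_add_finrank_ker ((psi r a).domRestrict W)
    rw [LinearMap.range_domRestrict, hW, finrank_sub, Finset.card_range] at hrn
    rw [← hW] at hrn
    omega
  have hVeq : V = W.map (psi r a) := Submodule.eq_of_le_of_finrank_le hVle (hImle.trans hlow)
  have hVN : Module.finrank k ↥V = N := le_antisymm ((Submodule.finrank_mono hVle).trans hImle) hlow
  haveI hVfin : Module.Finite k ↥V := Submodule.finiteDimensional_of_le hVle
  refine ⟨hVN, fun i n => ?_, fun n => ?_⟩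
  · set S := (Finset.range (N + 1)).erase (a i) with hS
    have hUW : sub (r i) S ≤ W := fun R hR => hmemW R (by
      rw [← natDegree_taylor' (r i) R]
      refine natDegree_le_iff_coeff_eq_zero.2 fun e he => mem_sub.1 hR e ?_
      simp [S]; omega)
    have hd0 : ∀ R ∈ sub (r i) S, (taylor (r i) R).coeff (a i) = 0 := fun R hR => mem_sub.1 hR _ (by simp [S])
    have hinj : ∀ R ∈ sub (r i) S, psi r a R = 0 → R = 0 := fun R hR h0 => by
      by_contra hne
      have h2 := (psi_dvd_iff r hr a i (hd0 R hR) (R.natDegree + 1)).1 (by rw [h0]; exact dvd_zero _)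
      have h3 := natDegree_le_of_dvd h2 hne
      rw [natDegree_pow, natDegree_X_sub_C, mul_one] at h3
      omega
    have haN : a i < N + 1 := by
      have := Finset.single_le_sum (fun j _ => Nat.zero_le (a j)) (Finset.mem_univ i)
      omega
    have hVU : V = (sub (r i) S).map (psi r a) := by
      refine (Submodule.eq_of_le_of_finrank_le (Submodule.map_mono hUW |>.trans hVeq.ge) ?_).symm
      rw [hVN, finrank_map_inj _ hinj, finrank_sub, hS, Finset.card_erase_of_mem (Finset.mem_range.2 haN), Finset.card_range]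
      omega
    have heq : V ⊓ (Ideal.span {(X - C (r i)) ^ n}).restrictScalars k = (sub (r i) (S.filter fun e => n ≤ e)).map (psi r a) := by
      refine le_antisymm (fun v hv => ?_) ?_
      · obtain ⟨hv1, hv2⟩ := Submodule.mem_inf.1 hv
        rw [hVU] at hv1
        obtain ⟨R, hR, rfl⟩ := hv1
        refine Submodule.mem_map_of_mem (mem_sub.2 fun e he => ?_)
        by_cases heS : e ∈ S
        · have : e < n := by simp [heS] at he; exact he
          exact (dvd_iff_taylor _ n R).1 ((psi_dvd_iff r hr a i (hd0 R hR) n).1 (Ideal.mem_span_singleton.1 hv2)) e this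
        · exact mem_sub.1 hR e heS
      · rintro _ ⟨R, hR, rfl⟩
        have hR' : R ∈ sub (r i) S := mem_sub.2 fun e he => mem_sub.1 hR e fun h => he (Finset.mem_filter.1 h).1
        refine Submodule.mem_inf.2 ⟨hVU ▸ Submodule.mem_map_of_mem hR', Ideal.mem_span_singleton.2 ?_⟩
        exact (psi_dvd_iff r hr a i (hd0 R hR') n).2 ((dvd_iff_taylor _ n R).2 fun e he =>
          mem_sub.1 hR e fun h => absurd (Finset.mem_filter.1 h).2 (by omega))
    rw [heq, finrank_map_inj _ fun R hR => hinj R (mem_sub.2 fun e he => mem_sub.1 hR e fun h => he (Finset.mem_filter.1 h).1),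
      finrank_sub, show (S.filter fun e => n ≤ e) = (Finset.Ico n (N + 1)).erase (a i) by ext e; simp [S]; omega]
    split_ifs with h
    · rw [Finset.card_erase_of_mem (Finset.mem_Ico.2 ⟨h, haN⟩), Nat.card_Ico]; omega
    · rw [Finset.erase_eq_of_notMem (by simp; omega), Nat.card_Ico]
  · rcases Nat.eq_zero_or_pos m with hm | hm
    · subst hm
      have hA0 : A = 0 := by simp [hA]
      have hp : ∀ x : k[X], psi r a x = derivative x := fun x => by simp [psi_apply, P1, Q1]
      have hD1 : D = 1 := by simp [hD]
      have hVb : V = degreeLT k N := by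
        rw [hV, show N = b by simp [hN, hA0], hD1]
        simp
      rw [hVb]
      have hd' : d + 1 = N := by simp [hd, hN, hA0]
      rw [show degreeLT k N ⊓ degreeLT k (d + 1 - n) = degreeLT k (N - n) from by
        rw [inf_eq_right.2 ?_, hd']
        intro x hx
        exact mem_degreeLT.2 (lt_of_lt_of_le (mem_degreeLT.1 hx) (by exact_mod_cast (by omega : d + 1 - n ≤ N))),
        (degreeLTEquiv k _).finrank_eq, Module.finrank_fin_fun]
      split_ifs with h
      · rfl
      · have : N = b := by simp [hN, hA0]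
        omega
    set S := (Finset.range (N + 1)).erase A with hS
    have hAN : A < N + 1 := by omega
    have hd1 : d + 1 = N + m := by
      rw [hd, hN, Finset.sum_add_distrib]; simp; omega
    have hinj : ∀ R ∈ sub (0 : k) S, psi r a R = 0 → R = 0 := fun R hR h0 => by
      by_contra hne
      refine (psi_degree r a hm hne ?_).1 h0
      simpa using mem_sub.1 hR A (by simp [S])
    have hUW : sub (0 : k) S ≤ W := fun R hR => mem_sub.2 fun e he => mem_sub.1 hR e (by simp [S] at he ⊢; omega)
    have hVU : V = (sub (0 : k) S).map (psi r a) := by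
      refine (Submodule.eq_of_le_of_finrank_le (Submodule.map_mono hUW |>.trans hVeq.ge) ?_).symm
      rw [hVN, finrank_map_inj _ hinj, finrank_sub, hS, Finset.card_erase_of_mem (Finset.mem_range.2 hAN), Finset.card_range]
      omega
    have hdeg : ∀ R : k[X], R ≠ 0 → R.coeff A = 0 → (psi r a R ∈ degreeLT k (d + 1 - n) ↔ R.natDegree < N + 1 - n) := by
      intro R hne hA'
      obtain ⟨h1, h2⟩ := psi_degree r a hm hne hA'
      rw [mem_degreeLT, ← natDegree_lt_iff_degree_lt h1, h2]
      omega
    have heq : V ⊓ degreeLT k (d + 1 - n) = (sub (0 : k) (S.filter fun e => e < N + 1 - n)).map (psi r a) := by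
      refine le_antisymm (fun v hv => ?_) ?_
      · obtain ⟨hv1, hv2⟩ := Submodule.mem_inf.1 hv
        rw [hVU] at hv1
        obtain ⟨R, hR, rfl⟩ := hv1
        refine Submodule.mem_map_of_mem (mem_sub.2 fun e he => ?_)
        by_cases heS : e ∈ S
        · rcases eq_or_ne R 0 with rfl | hne
          · simp
          rw [taylor_zero]
          refine coeff_eq_zero_of_natDegree_lt ?_
          have := (hdeg R hne (by simpa using mem_sub.1 hR A (by simp [S]))).1 hv2
          simp [heS] at he
          omega
        · exact mem_sub.1 hR e heS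
      · rintro _ ⟨R, hR, rfl⟩
        have hR' : R ∈ sub (0 : k) S := mem_sub.2 fun e he => mem_sub.1 hR e fun h => he (Finset.mem_filter.1 h).1
        refine Submodule.mem_inf.2 ⟨hVU ▸ Submodule.mem_map_of_mem hR', ?_⟩
        rcases eq_or_ne R 0 with rfl | hne
        · simp
        refine (hdeg R hne (by simpa using mem_sub.1 hR' A (by simp [S]))).2 ?_
        by_contra hc
        have := mem_sub.1 hR R.natDegree fun h => absurd (Finset.mem_filter.1 h).2 hc
        rw [taylor_zero] at this
        exact leadingCoeff_ne_zero.2 hne this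
    rw [heq, finrank_map_inj _ fun R hR => hinj R (mem_sub.2 fun e he => mem_sub.1 hR e fun h => he (Finset.mem_filter.1 h).1),
      finrank_sub, show (S.filter fun e => e < N + 1 - n) = (Finset.range (N + 1 - n)).erase A by ext e; simp [S]; omega]
    split_ifs with h
    · rw [Finset.card_erase_of_mem (Finset.mem_range.2 (by omega)), Finset.card_range]; omega
    · rw [Finset.erase_eq_of_notMem (by simp; omega), Finset.card_range]

end Groth.Agent.S17241
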