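import Groth.Statements.S17242
import Mathlib

set_option autoImplicit false
open W4c4effdivwronsk2

namespace Groth.Agent.S17242

open Polynomial

variable {k : Type*} [Field k] {ι : Type*} [DecidableEq ι] (r : ι → k) (a : ι → ℕ)

/-- product of linear factors -/
noncomputable def lin (s : Finset ι) : k[X] := ∏ j ∈ s, (X - C (r j))
/-- product of powers -/
noncomputable def pw (s : Finset ι) : k[X] := ∏ j ∈ s, (X - C (r j)) ^ a j
/-- log derivative numerator -/
noncomputable def lg (s : Finset ι) : k[X] := ∑ j ∈ s, C (a j : k) * lin r (s.erase j)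

lemma lg_insert (i : ι) (s : Finset ι) (hi : i ∉ s) :
    lg r a (insert i s) = C (a i : k) * lin r s + (X - C (r i)) * lg r a s := by
  rw [lg, Finset.sum_insert hi, Finset.erase_insert hi, lg, Finset.mul_sum]
  congr 1
  refine Finset.sum_congr rfl fun j hj => ?_
  rw [Finset.erase_insert_of_ne (by rintro rfl; exact hi hj), lin, lin, Finset.prod_insert (by simp [hi])]
  ring

lemma deriv_pw (s : Finset ι) : derivative (pw r a s) * lin r s = lg r a s * pw r a s := by
  induction s using Finset.induction_on with
  | empty => simp [pw, lg, lin]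
  | insert i s hi ih =>
    simp only [lg_insert r a i s hi, pw, lin, Finset.prod_insert hi, derivative_mul, derivative_X_sub_C_pow] at ih ⊢
    rcases Nat.eq_zero_or_pos (a i) with h0 | h0
    · simp only [h0, Nat.cast_zero, map_zero, zero_mul, zero_add, pow_zero, one_mul]
      linear_combination (X - C (r i)) * ih
    · have e : (X - C (r i)) ^ a i = (X - C (r i)) ^ (a i - 1) * (X - C (r i)) := by
        rw [← pow_succ, Nat.sub_add_cancel h0]
      rw [e]
      linear_combination ((X - C (r i)) ^ (a i - 1) * (X - C (r i)) ^ 2) * ih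

lemma pw_mul_lin (s : Finset ι) : pw r a s * lin r s = ∏ j ∈ s, (X - C (r j)) ^ (a j + 1) := by
  rw [pw, lin, ← Finset.prod_mul_distrib]
  exact Finset.prod_congr rfl fun j _ => (pow_succ _ _).symm

lemma exists_anti [CharZero k] (p : k[X]) (n : ℕ) (x : k) (hp : p.degree < n) :
    ∃ q : k[X], q.degree < n ∧ (X - C x) * derivative q - C (n : k) * q = p := by
  have hm : ∀ j < n, ((j : k) - n) ≠ 0 := fun j hj => sub_ne_zero.2 (by exact_mod_cast hj.ne)
  refine ⟨∑ j ∈ Finset.range n, C ((taylor x p).coeff j / ((j : k) - n)) * (X - C x) ^ j, ?_, ?_⟩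
  · rw [← mem_degreeLT]
    refine Submodule.sum_mem _ fun j hj => ?_
    rw [mem_degreeLT]
    refine degree_le_natDegree.trans_lt (WithBot.coe_lt_coe.2 (((natDegree_C_mul_le _ _).trans ?_).trans_lt (Finset.mem_range.1 hj)))
    rw [natDegree_pow, natDegree_X_sub_C, mul_one]
  · rw [derivative_sum, Finset.mul_sum, Finset.mul_sum, ← Finset.sum_sub_distrib]
    conv_rhs => rw [← sum_taylor_eq p x]
    have hsum : (taylor x p).sum (fun i c => C c * (X - C x) ^ i) = ∑ j ∈ Finset.range n, C ((taylor x p).coeff j) * (X - C x) ^ j := by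
      by_cases h0 : p = 0
      · subst h0; simp
      refine Polynomial.sum_over_range' _ (fun _ => by simp) n ?_
      rw [natDegree_taylor]; exact (natDegree_lt_iff_degree_lt h0).2 hp
    rw [hsum]
    refine Finset.sum_congr rfl fun j hj => ?_
    rw [derivative_C_mul, derivative_X_sub_C_pow]
    have e : (taylor x p).coeff j = (taylor x p).coeff j / ((j : k) - n) * ((j : k) - n) := by
      rw [div_mul_cancel₀ _ (hm j (Finset.mem_range.1 hj))]
    conv_rhs => rw [e, map_mul, map_sub]
    rcases Nat.eq_zero_or_pos j with h0 | h0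
    · subst h0; simp; ring
    · have e2 : (X - C x) ^ j = (X - C x) * (X - C x) ^ (j - 1) := by
        rw [← pow_succ', Nat.sub_add_cancel h0]
      rw [e2]; ring

lemma exists_prim [CharZero k] (p : k[X]) (n : ℕ) (hp : p.degree < n) :
    ∃ q : k[X], q.natDegree ≤ n ∧ derivative q = p := by
  refine ⟨∑ j ∈ Finset.range n, C (p.coeff j / ((j : k) + 1)) * X ^ (j + 1), ?_, ?_⟩
  · refine natDegree_sum_le_of_forall_le _ _ fun j hj => (natDegree_C_mul_X_pow_le _ _).trans (Finset.mem_range.1 hj)
  · rw [derivative_sum]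
    by_cases h0 : p = 0
    · subst h0; simp
    conv_rhs => rw [p.as_sum_range' n ((natDegree_lt_iff_degree_lt h0).2 hp)]
    refine Finset.sum_congr rfl fun j _ => ?_
    rw [derivative_C_mul, derivative_X_pow, ← C_mul_X_pow_eq_monomial, ← mul_assoc, ← map_mul, Nat.cast_add, Nat.cast_one,
      div_mul_cancel₀ _ (Nat.cast_add_one_ne_zero j), Nat.add_sub_cancel]

open Polynomial in
/-- Let `k` be a field of characteristic zero and take, on the projective line over `k`, the point `∞`
and `m` further distinct points `r_1, …, r_m` of the affine line, with positive integers `b` (at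
`∞`) and `a_1, …, a_m`; put `N = b + ∑ a_j`. The sum of the spaces of differentials with a single
pole, of order at most `b + 1` at `∞`, resp. at most `a_j + 1` at `r_j`, `V = H⁰(ω((b+1)∞)) + ∑_j
H⁰(ω((a_j+1)r_j)) ⊆ H⁰(ω((b+1)∞ + ∑_j (a_j+1)r_j)) ≅ H⁰(O(d))`, `d = b - 1 + ∑ (a_j+1)`, becomes,
after multiplying by `dX⁻¹ ∏_j (X - r_j)^(a_j+1)`, the subspace of `k[X]_{≤ d}` spanned by
`D·k[X]_{<b}` and the `D_i·k[X]_{<a_i}`, where `D = ∏_j (X - r_j)^(a_j+1)` and `D_i` omits the
`i`-th factor; a member `h` vanishes to order `n` at a point `q` of the affine line when `(X - q)^n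
∣ h`, and to order `d - deg h` at `∞`. Then `V` (of dimension `N`) has no ramification point off the
marked points: at every point `q` of the affine line other than the `r_j` the vanishing orders are
`0, 1, …, N - 1`, i.e. no nonzero member of `V` is divisible by `(X - q)^N`. (The published
statement is over the complex numbers, where every unmarked point is such a `q` once one marked
point is placed at `∞`.) -/
theorem result
    (k : Type*) [Field k] [CharZero k] (m : ℕ) (r : Fin m → k) (hr : Function.Injective r)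
    (a : Fin m → ℕ) (ha : ∀ j, 1 ≤ a j) (b : ℕ) (hb : 1 ≤ b) (N d : ℕ)
    (hN : N = (∑ j, a j) + b) (hd : d + 1 = (∑ j, (a j + 1)) + b)
    (V : Submodule k (Polynomial k))
    (hV : V = (Polynomial.degreeLT k b).map (LinearMap.mulLeft k (∏ j, (X - C (r j)) ^ (a j + 1))) ⊔
      ⨆ i, (Polynomial.degreeLT k (a i)).map
        (LinearMap.mulLeft k (∏ j ∈ Finset.univ.erase i, (X - C (r j)) ^ (a j + 1))))
    (q : k) (hq : ∀ j, q ≠ r j) :
    V ⊓ (Ideal.span {(X - C q) ^ N}).restrictScalars k = ⊥ := by
  classical
  open Polynomial in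
  let U := (Finset.univ : Finset (Fin m))
  let E := pw r a U
  let P := lin r U
  let Φ : k[X] →ₗ[k] k[X] := (LinearMap.mulLeft k P).comp derivative - LinearMap.mulLeft k (lg r a U)
  have hΦ : ∀ G, Φ G = P * Polynomial.derivative G - lg r a U * G := fun G => rfl
  let W : Submodule k k[X] := (Polynomial.degreeLE k (N : WithBot ℕ)).map Φ
  have hdE : E.natDegree = ∑ j, a j := by
    simp only [E, pw]
    rw [Polynomial.natDegree_prod_of_monic _ _ fun j _ => (Polynomial.monic_X_sub_C _).pow _]
    simp [U]
  have hVW : V ≤ W := by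
    rw [hV]
    refine sup_le ?_ (iSup_le fun i => ?_)
    · rintro _ ⟨p, hp, rfl⟩
      obtain ⟨q, hq1, hq2⟩ := exists_prim p b (Polynomial.mem_degreeLT.1 hp)
      refine ⟨q * E, ?_, ?_⟩
      · rw [SetLike.mem_coe, Polynomial.mem_degreeLE]
        refine Polynomial.degree_le_natDegree.trans (WithBot.coe_le_coe.2 (Polynomial.natDegree_mul_le.trans ?_))
        show _ ≤ N
        omega
      · rw [hΦ, Polynomial.derivative_mul, hq2, LinearMap.mulLeft_apply, ← pw_mul_lin r a U]
        linear_combination q * deriv_pw r a U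
    · rintro _ ⟨p, hp, rfl⟩
      obtain ⟨q, hq1, hq2⟩ := exists_anti p (a i) (r i) (Polynomial.mem_degreeLT.1 hp)
      have hE' : (pw r a (U.erase i)).natDegree + a i = ∑ j, a j := by
        rw [pw, Polynomial.natDegree_prod_of_monic _ _ fun j _ => (Polynomial.monic_X_sub_C _).pow _]
        simp only [Polynomial.natDegree_pow, Polynomial.natDegree_X_sub_C, mul_one]
        exact Finset.sum_erase_add _ _ (Finset.mem_univ i)
      refine ⟨q * pw r a (U.erase i), ?_, ?_⟩
      · rw [SetLike.mem_coe, Polynomial.mem_degreeLE]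
        refine Polynomial.degree_le_natDegree.trans (WithBot.coe_le_coe.2 (Polynomial.natDegree_mul_le.trans ?_))
        show _ ≤ N
        have : q.natDegree ≤ a i := Polynomial.natDegree_le_iff_degree_le.2 hq1.le
        omega
      · have hs : U = insert i (U.erase i) := (Finset.insert_erase (Finset.mem_univ i)).symm
        have hPi : P = (Polynomial.X - Polynomial.C (r i)) * lin r (U.erase i) := by
          show lin r U = _
          conv_lhs => rw [hs, lin, Finset.prod_insert (Finset.notMem_erase i U)]
          rfl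
        have hQi : lg r a U = Polynomial.C (a i : k) * lin r (U.erase i) + (Polynomial.X - Polynomial.C (r i)) * lg r a (U.erase i) := by
          conv_lhs => rw [hs, lg_insert r a i _ (Finset.notMem_erase i U)]
        rw [hΦ, Polynomial.derivative_mul, LinearMap.mulLeft_apply, ← pw_mul_lin r a (U.erase i), hPi, hQi]
        linear_combination (q * (Polynomial.X - Polynomial.C (r i))) * deriv_pw r a (U.erase i) +
          (pw r a (U.erase i) * lin r (U.erase i)) * hq2
  rw [eq_bot_iff]
  rintro h ⟨hh, hdvd⟩
  obtain ⟨G0, hG0, rfl⟩ := hVW hh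
  have hEq : E.eval q ≠ 0 := by
    simp only [E, P, pw, lin]
    rw [Polynomial.eval_prod]
    exact Finset.prod_ne_zero_iff.2 fun j _ => by simpa using pow_ne_zero _ (sub_ne_zero.2 (hq j))
  let G := G0 - Polynomial.C (G0.eval q / E.eval q) * E
  have hGq : G.eval q = 0 := by simp [G, div_mul_cancel₀ _ hEq]
  have hΦG : Φ G = Φ G0 := by
    rw [hΦ, hΦ]
    simp only [G, Polynomial.derivative_sub, Polynomial.derivative_C_mul]
    linear_combination (-Polynomial.C (G0.eval q / E.eval q)) * deriv_pw r a U
  rw [Submodule.mem_bot]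
  rw [← hΦG] at hdvd ⊢
  suffices hG : G = 0 by rw [hG, map_zero]
  by_contra hG
  have hdeg : G.natDegree ≤ N := by
    refine Polynomial.natDegree_sub_le_of_le (Polynomial.natDegree_le_iff_degree_le.2 (Polynomial.mem_degreeLE.1 hG0)) ?_ |>.trans (le_of_eq (max_self N))
    exact (Polynomial.natDegree_C_mul_le _ _).trans (by omega)
  have hnpos : 0 < G.rootMultiplicity q := (Polynomial.rootMultiplicity_pos hG).2 hGq
  obtain ⟨R, hGR, hR⟩ := Polynomial.exists_eq_pow_rootMultiplicity_mul_and_not_dvd G hG q
  have hnN : G.rootMultiplicity q ≤ N := by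
    rw [← Polynomial.count_roots]
    exact ((Multiset.count_le_card _ _).trans (Polynomial.card_roots' G)).trans hdeg
  obtain ⟨t, ht⟩ : ∃ t, G.rootMultiplicity q = t + 1 := ⟨_, (Nat.sub_add_cancel hnpos).symm⟩
  rw [ht] at hGR hnN
  have e : Φ G = (Polynomial.X - Polynomial.C q) ^ t * (Polynomial.C ((t : k) + 1) * (R * P) +
      (Polynomial.X - Polynomial.C q) * (P * Polynomial.derivative R - lg r a U * R)) := by
    rw [hΦ, hGR, Polynomial.derivative_mul, Polynomial.derivative_X_sub_C_pow, Nat.add_sub_cancel, map_add, map_one, pow_succ]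
    push_cast
    simp only [map_add, map_one]
    ring
  obtain ⟨w, hw⟩ := Ideal.mem_span_singleton.1 hdvd
  rw [e, show (Polynomial.X - Polynomial.C q) ^ N = (Polynomial.X - Polynomial.C q) ^ t * ((Polynomial.X - Polynomial.C q) * (Polynomial.X - Polynomial.C q) ^ (N - t - 1)) by
    rw [← pow_succ', ← pow_add]; congr 1; omega, mul_assoc] at hw
  have hw' := mul_left_cancel₀ (pow_ne_zero _ (Polynomial.X_sub_C_ne_zero q)) hw
  have := congrArg (Polynomial.eval q) hw'
  simp only [Polynomial.eval_add, Polynomial.eval_mul, Polynomial.eval_sub, Polynomial.eval_X, Polynomial.eval_C, sub_self, zero_mul, add_zero] at this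
  have hPq : P.eval q ≠ 0 := by
    simp only [E, P, pw, lin]
    rw [Polynomial.eval_prod]
    exact Finset.prod_ne_zero_iff.2 fun j _ => by simpa using sub_ne_zero.2 (hq j)
  exact mul_ne_zero (Nat.cast_add_one_ne_zero t) (mul_ne_zero (fun h0 => hR (Polynomial.dvd_iff_isRoot.2 h0)) hPq) this

end Groth.Agent.S17242
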