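import Groth.Statements.S17243
import Groth.Agent.EffDivW.Unmarked

set_option autoImplicit false
open W4c4effdivwronsk2

namespace Groth.Agent.S17243

open Polynomial Groth.Agent.S17241 Groth.Agent.EffDivW

open Polynomial in
/-- Let `k` be a field of characteristic zero and take, on the projective line over `k`, the point `∞`
and `m` further distinct points `r_1, …, r_m` of the affine line, with positive integers `b` (at
`∞`) and `a_1, …, a_m`; put `N = b + ∑ a_j`. The sum of the spaces of differentials with a single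
pole, of order at most `b + 1` at `∞`, resp. at most `a_j + 1` at `r_j`, `V = H⁰(ω((b+1)∞)) + ∑_j
H⁰(ω((a_j+1)r_j)) ⊆ H⁰(ω((b+1)∞ + ∑_j (a_j+1)r_j)) ≅ H⁰(O(d))`, `d = b - 1 + ∑ (a_j+1)`, becomes,
after multiplying by `dX⁻¹ ∏_j (X - r_j)^(a_j+1)`, the subspace of `k[X]_{≤ d}` spanned by
`D·k[X]_{<b}` and the `D_i·k[X]_{<a_i}`, where `D = ∏_j (X - r_j)^(a_j+1)` and `D_i` omits the
`i`-th factor; a member `h` vanishes to order `n` at a point `q` of the affine line when `(X - q)^n
∣ h`, and to order `d - deg h` at `∞`. Let `V₁ ⊆ V` be a hyperplane (`dim V₁ = N - 1`) containing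
`H⁰(ω((b-1)∞)) + ∑_j H⁰(ω((a_j+1)r_j))`, i.e. containing `D·k[X]_{<b-2}` and every
`D_i·k[X]_{<a_i}`. Then `V₁` has at most one ramification point off the marked points, and that
point is simple: at every point `q` of the affine line other than the `r_j` the weight of `V₁` is at
most one (no nonzero member divisible by `(X - q)^N`, at most a line of members divisible by `(X -
q)^(N-2)`), and at most one such `q` has positive weight (a nonzero member divisible by `(X -
q)^(N-1)`). (The published statement is over the complex numbers with the distinguished marked point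
arbitrary; it is placed at `∞` here, so that the unmarked points are the points of the affine line
other than the `r_j`.) -/
theorem result
    (k : Type*) [Field k] [CharZero k] (m : ℕ) (r : Fin m → k) (hr : Function.Injective r)
    (a : Fin m → ℕ) (ha : ∀ j, 1 ≤ a j) (b : ℕ) (hb : 1 ≤ b) (N d : ℕ)
    (hN : N = (∑ j, a j) + b) (hd : d + 1 = (∑ j, (a j + 1)) + b)
    (V : Submodule k (Polynomial k))
    (hV : V = (Polynomial.degreeLT k b).map (LinearMap.mulLeft k (∏ j, (X - C (r j)) ^ (a j + 1))) ⊔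
      ⨆ i, (Polynomial.degreeLT k (a i)).map
        (LinearMap.mulLeft k (∏ j ∈ Finset.univ.erase i, (X - C (r j)) ^ (a j + 1))))
    (V₁ : Submodule k (Polynomial k)) (hV₁ : V₁ ≤ V) (hfin : Module.finrank k ↥V₁ + 1 = N)
    (hU : (Polynomial.degreeLT k (b - 2)).map (LinearMap.mulLeft k (∏ j, (X - C (r j)) ^ (a j + 1))) ⊔
      (⨆ i, (Polynomial.degreeLT k (a i)).map
        (LinearMap.mulLeft k (∏ j ∈ Finset.univ.erase i, (X - C (r j)) ^ (a j + 1)))) ≤ V₁) :
    (∀ q : k, (∀ j, q ≠ r j) →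
      (V₁ ⊓ (Ideal.span {(X - C q) ^ N}).restrictScalars k) = ⊥ ∧
      Module.finrank k ↥(V₁ ⊓ (Ideal.span {(X - C q) ^ (N - 2)}).restrictScalars k) ≤ 1) ∧
    (∀ q q' : k, (∀ j, q ≠ r j) → (∀ j, q' ≠ r j) →
      (V₁ ⊓ (Ideal.span {(X - C q) ^ (N - 1)}).restrictScalars k) ≠ ⊥ →
      (V₁ ⊓ (Ideal.span {(X - C q') ^ (N - 1)}).restrictScalars k) ≠ ⊥ → q = q') := by
  classical
  obtain ⟨hVN, hpsi, -⟩ := main k m r hr a ha b N hN V hV
  obtain ⟨-, hpsiU, -⟩ := main k m r hr a ha (b - 2) ((∑ j, a j) + (b - 2)) rfl _ rfl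
  haveI : Module.Finite k ↥V := Module.finite_of_finrank_pos (by rw [hVN]; omega)
  haveI : Module.Finite k ↥V₁ := Submodule.finiteDimensional_of_le hV₁
  have top : ∀ {q : k}, (∀ j, q ≠ r j) → ∀ {v : k[X]}, v ∈ V → _ := fun {q} hq {v} hv =>
    vanish_top r (N := N) ha (by omega) (by omega) hVN hpsi hq hv
  have hlow : ∀ R : k[X], R.natDegree + 2 ≤ N → psi r a R ∈ V₁ := fun R hR => hU (hpsiU R (by omega))
  have key : ∀ R S : k[X], 2 ≤ N → R.natDegree ≤ N - 1 → R.coeff (N - 1) ≠ 0 → S.natDegree ≤ N → S.coeff N ≠ 0 →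
      psi r a R ∈ V₁ → psi r a S ∈ V₁ → False := by
    intro R S h2 hR hRc hS hSc hR1 hS1
    have hstep : ∀ T : k[X], T.natDegree ≤ N - 1 → psi r a T ∈ V₁ := fun T hT => by
      set c := T.coeff (N - 1) / R.coeff (N - 1) with hc
      have h1 : (T - c • R).natDegree + 2 ≤ N := by
        have : (T - c • R).natDegree ≤ N - 2 := natDegree_le_iff_coeff_eq_zero.2 fun e he => by
          rcases Nat.lt_or_ge (N - 1) e with h | h
          · simp [coeff_eq_zero_of_natDegree_lt (hT.trans_lt h), coeff_eq_zero_of_natDegree_lt (hR.trans_lt h)]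
          · rw [show e = N - 1 by omega, coeff_sub, coeff_smul, smul_eq_mul, hc, div_mul_cancel₀ _ hRc, sub_self]
        omega
      have := V₁.add_mem (hlow _ h1) (V₁.smul_mem c hR1)
      rwa [← map_smul, ← map_add, sub_add_cancel] at this
    have hall : V ≤ V₁ := fun v hv => by
      obtain ⟨T, hT, rfl⟩ := exists_psi r ha (N := N) (by omega) (by omega) hVN hpsi hv
      set c := T.coeff N / S.coeff N with hc
      have h1 : (T - c • S).natDegree ≤ N - 1 := natDegree_le_iff_coeff_eq_zero.2 fun e he => by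
        rcases Nat.lt_or_ge N e with h | h
        · simp [coeff_eq_zero_of_natDegree_lt (hT.trans_lt h), coeff_eq_zero_of_natDegree_lt (hS.trans_lt h)]
        · rw [show e = N by omega, coeff_sub, coeff_smul, smul_eq_mul, hc, div_mul_cancel₀ _ hSc, sub_self]
      have := V₁.add_mem (hstep _ h1) (V₁.smul_mem c hS1)
      rwa [← map_smul, ← map_add, sub_add_cancel] at this
    have := Submodule.finrank_mono hall
    omega
  have hdeg : ∀ (q : k) (n : ℕ), ((X - C q) ^ n).natDegree ≤ n ∧ ((X - C q) ^ n).coeff n = 1 := fun q n => by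
    have h1 : ((X - C q) ^ n).natDegree = n := by simp
    exact ⟨h1.le, by
      conv_lhs => arg 2; rw [← h1]
      exact ((monic_X_sub_C q).pow n)⟩
  refine ⟨fun q hq => ⟨?_, ?_⟩, fun q q' hq hq' h h' => ?_⟩
  · rw [Submodule.eq_bot_iff]
    exact fun v hv => (top hq (hV₁ hv.1)).1 (Ideal.mem_span_singleton.1 hv.2)
  · rcases Nat.lt_or_ge N 2 with h2 | h2
    · exact (Submodule.finrank_mono inf_le_left).trans (by omega)
    refine finrank_le_one_of_le_span_pair (fun v hv => (top hq (hV₁ hv.1)).2.2 h2 (Ideal.mem_span_singleton.1 hv.2)) ?_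
    rintro ⟨h1, h1'⟩
    exact key _ _ h2 (hdeg q (N - 1)).1 (by rw [(hdeg q _).2]; exact one_ne_zero) (hdeg q N).1
      (by rw [(hdeg q _).2]; exact one_ne_zero) h1.1 h1'.1
  · rcases Nat.lt_or_ge N 2 with h2 | h2
    · have : V₁ = ⊥ := Submodule.finrank_eq_zero.1 (by omega)
      exact absurd (by simp [this]) h
    have get : ∀ q : k, (∀ j, q ≠ r j) → V₁ ⊓ (Ideal.span {(X - C q) ^ (N - 1)}).restrictScalars k ≠ ⊥ →
        psi r a ((X - C q) ^ N) ∈ V₁ := by
      intro q hq h
      obtain ⟨v, hv, hv0⟩ := Submodule.exists_mem_ne_zero_of_ne_bot h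
      obtain ⟨c, hc⟩ := (top hq (hV₁ hv.1)).2.1 (Ideal.mem_span_singleton.1 hv.2)
      have hc0 : c ≠ 0 := fun h0 => hv0 (by rw [hc, h0, zero_smul])
      have := V₁.smul_mem c⁻¹ (hc ▸ hv.1)
      rwa [smul_smul, inv_mul_cancel₀ hc0, one_smul] at this
    by_contra hne
    obtain ⟨n, rfl⟩ : ∃ n, N = n + 2 := ⟨N - 2, by omega⟩
    refine key ((X - C q) ^ (n + 2) - (X - C q') ^ (n + 2)) ((X - C q) ^ (n + 2)) h2 ?_ ?_ (hdeg q _).1
      (by rw [(hdeg q _).2]; exact one_ne_zero) (by rw [map_sub]; exact V₁.sub_mem (get q hq h) (get q' hq' h')) (get q hq h)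
    · refine natDegree_le_iff_coeff_eq_zero.2 fun e he => ?_
      rcases Nat.lt_or_ge (n + 2) e with h3 | h3
      · simp [coeff_eq_zero_of_natDegree_lt ((hdeg q _).1.trans_lt h3), coeff_eq_zero_of_natDegree_lt ((hdeg q' _).1.trans_lt h3)]
      · rw [show e = n + 2 by omega, coeff_sub, (hdeg q _).2, (hdeg q' _).2, sub_self]
    · rw [show n + 2 - 1 = n + 1 by omega, coeff_sub, sub_eq_add_neg X (C q), sub_eq_add_neg X (C q'), ← C_neg, ← C_neg,
        coeff_X_add_C_pow, coeff_X_add_C_pow, show n + 2 - (n + 1) = 1 by omega, pow_one, pow_one, Nat.choose_succ_self_right]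
      intro h0
      rw [← sub_mul, mul_eq_zero, sub_eq_zero, neg_inj] at h0
      exact h0.elim hne (Nat.cast_ne_zero.2 (by omega))

end Groth.Agent.S17243
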