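import Groth.Statements.S17244
import Groth.Agent.EffDivW.PolarSum

set_option autoImplicit false
open W4c4effdivwronsk2

namespace Groth.Agent.S17244

open Polynomial Groth.Agent.S17241 Groth.Agent.EffDivW

open Polynomial in
/-- Let `k` be a field of characteristic zero and take, on the projective line over `k`, the point `∞`
and `m` further distinct points `r_1, …, r_m` of the affine line, with positive integers `b` (at
`∞`) and `a_1, …, a_m`; put `N = b + ∑ a_j`. The sum of the spaces of differentials with a single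
pole, of order at most `b + 1` at `∞`, resp. at most `a_j + 1` at `r_j`, `V = H⁰(ω((b+1)∞)) + ∑_j
H⁰(ω((a_j+1)r_j)) ⊆ H⁰(ω((b+1)∞ + ∑_j (a_j+1)r_j)) ≅ H⁰(O(d))`, `d = b - 1 + ∑ (a_j+1)`, becomes,
after multiplying by `dX⁻¹ ∏_j (X - r_j)^(a_j+1)`, the subspace of `k[X]_{≤ d}` spanned by
`D·k[X]_{<b}` and the `D_i·k[X]_{<a_i}`, where `D = ∏_j (X - r_j)^(a_j+1)` and `D_i` omits the
`i`-th factor; a member `h` vanishes to order `n` at a point `q` of the affine line when `(X - q)^n
∣ h`, and to order `d - deg h` at `∞`. Let `V₁ ⊆ V` be a hyperplane (`dim V₁ = N - 1`) containing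
`D·k[X]_{<b-2}` and every `D_i·k[X]_{<a_i}` (that is, containing `H⁰(ω((b-1)∞)) + ∑_j
H⁰(ω((a_j+1)r_j))`). The weight of `V₁` at a point is `∑_{n=1}^{d} dim V₁(-n·point) - (N-1 choose
2)` (the sum of the vanishing orders minus `0 + 1 + ⋯ + (N-2)`). Then the weight of `V₁` at `r_i` is
`∑_{j≠i} a_j + b - 1 + ε_i` and its weight at `∞` is `∑_j a_j + N - 2 + ε`, with `ε_i, ε ∈ {0, 1}`.
(The published statement is over the complex numbers with the distinguished marked point arbitrary;
it is placed at `∞` here.) -/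
theorem result
    (k : Type*) [Field k] [CharZero k] (m : ℕ) (r : Fin m → k) (hr : Function.Injective r)
    (a : Fin m → ℕ) (ha : ∀ j, 1 ≤ a j) (b : ℕ) (hb : 1 ≤ b) (N d : ℕ)
    (hN : N = (∑ j, a j) + b) (hd : d + 1 = (∑ j, (a j + 1)) + b)
    (V : Submodule k (Polynomial k))
    (hV : V = (Polynomial.degreeLT k b).map (LinearMap.mulLeft k (∏ j, (X - C (r j)) ^ (a j + 1))) ⊔
      ⨆ i, (Polynomial.degreeLT k (a i)).map
        (LinearMap.mulLeft k (∏ j ∈ Finset.univ.erase i, (X - C (r j)) ^ (a j + 1))))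
    (V₁ : Submodule k (Polynomial k)) (hV₁ : V₁ ≤ V) (hfin : Module.finrank k ↥V₁ + 1 = N)
    (hU : (Polynomial.degreeLT k (b - 2)).map (LinearMap.mulLeft k (∏ j, (X - C (r j)) ^ (a j + 1))) ⊔
      (⨆ i, (Polynomial.degreeLT k (a i)).map
        (LinearMap.mulLeft k (∏ j ∈ Finset.univ.erase i, (X - C (r j)) ^ (a j + 1)))) ≤ V₁) :
    (∀ i : Fin m, ∃ ε : ℕ, ε ≤ 1 ∧
      (∑ n ∈ Finset.range d, Module.finrank k ↥(V₁ ⊓ (Ideal.span {(X - C (r i)) ^ (n + 1)}).restrictScalars k)) + 1 =
        (N - 1).choose 2 + (N - a i) + ε) ∧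
    (∃ ε : ℕ, ε ≤ 1 ∧
      (∑ n ∈ Finset.range d, Module.finrank k ↥(V₁ ⊓ Polynomial.degreeLT k (d - n))) =
        (N - 1).choose 2 + (N - b) + (N - 2) + ε) := by
  classical
  obtain ⟨hVN, hfr, hfinf⟩ := Groth.Agent.S17241.result k m r hr a ha b hb N d hN hd V hV
  obtain ⟨hUN, -, hUr⟩ := main k m r hr a ha (b - 2) ((∑ j, a j) + (b - 2)) rfl _ rfl
  generalize hUdef : (Polynomial.degreeLT k (b - 2)).map (LinearMap.mulLeft k (∏ j, (X - C (r j)) ^ (a j + 1))) ⊔
      (⨆ i, (Polynomial.degreeLT k (a i)).map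
        (LinearMap.mulLeft k (∏ j ∈ Finset.univ.erase i, (X - C (r j)) ^ (a j + 1)))) = U at hU hUN hUr
  have hd1 : d + 1 = N + m := by
    rw [hd, hN, Finset.sum_add_distrib]; simp; omega
  haveI : Module.Finite k ↥V := Module.finite_of_finrank_pos (by rw [hVN]; omega)
  haveI : Module.Finite k ↥V₁ := Submodule.finiteDimensional_of_le hV₁
  have cut : ∀ T : Submodule k k[X],
      Module.finrank k ↥(V₁ ⊓ T) ≤ Module.finrank k ↥(V ⊓ T) ∧
      Module.finrank k ↥(V ⊓ T) ≤ Module.finrank k ↥(V₁ ⊓ T) + 1 ∧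
      (¬ V ⊓ T ≤ V₁ → Module.finrank k ↥(V₁ ⊓ T) + 1 = Module.finrank k ↥(V ⊓ T)) := by
    intro T
    haveI : Module.Finite k ↥(V ⊓ T) := Submodule.finiteDimensional_of_le inf_le_left
    haveI : Module.Finite k ↥(V₁ ⊔ V ⊓ T) := Submodule.finiteDimensional_of_le (sup_le hV₁ inf_le_left)
    have h1 := Submodule.finrank_sup_add_finrank_inf_eq V₁ (V ⊓ T)
    rw [show V₁ ⊓ (V ⊓ T) = V₁ ⊓ T by rw [← inf_assoc, inf_eq_left.2 hV₁]] at h1
    have h2 : Module.finrank k ↥(V₁ ⊔ V ⊓ T) ≤ N := hVN ▸ Submodule.finrank_mono (sup_le hV₁ inf_le_left)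
    refine ⟨Submodule.finrank_mono (inf_le_inf_right T hV₁), by omega, fun h => ?_⟩
    have h3 : Module.finrank k ↥V₁ < Module.finrank k ↥(V₁ ⊔ V ⊓ T) :=
      Submodule.finrank_lt_finrank_of_lt (left_lt_sup.2 h)
    omega
  constructor
  · intro i
    have hai : a i ≤ ∑ j, a j := Finset.single_le_sum (fun j _ => Nat.zero_le (a j)) (Finset.mem_univ i)
    refine sum_cut (fun n => Module.finrank k ↥(V ⊓ (Ideal.span {(X - C (r i)) ^ (n + 1)}).restrictScalars k)) _
      (a i) N d (by omega) (by omega) (Or.inr (by have := i.pos; omega)) (fun n => hfr i (n + 1)) (fun n hn => ?_)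
      (fun n => (cut _).1) (by omega)
    refine (cut _).2.2 fun hle => ?_
    set n0 := (∑ j, a j) + (b - 2) + 1 with hn0
    have hT : V ⊓ (Ideal.span {(X - C (r i)) ^ n0}).restrictScalars k ≤ V₁ := by
      refine le_trans (inf_le_inf_left V fun x hx => ?_) hle
      exact Ideal.mem_span_singleton.2 (dvd_trans (pow_dvd_pow _ (by omega)) (Ideal.mem_span_singleton.1 hx))
    have e1 : Module.finrank k ↥(V ⊓ (Ideal.span {(X - C (r i)) ^ n0}).restrictScalars k) = N + 1 - n0 := by
      rw [hfr i n0, if_neg (by omega)]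
    have e2 : Module.finrank k ↥(U ⊓ (Ideal.span {(X - C (r i)) ^ n0}).restrictScalars k) = 0 := by
      rw [hUr i n0, if_neg (by omega)]
      omega
    have hUV : U ≤ V := hU.trans hV₁
    haveI : Module.Finite k ↥(V ⊓ (Ideal.span {(X - C (r i)) ^ n0}).restrictScalars k) :=
      Submodule.finiteDimensional_of_le inf_le_left
    haveI : Module.Finite k ↥U := Submodule.finiteDimensional_of_le hUV
    have h1 := Submodule.finrank_sup_add_finrank_inf_eq U (V ⊓ (Ideal.span {(X - C (r i)) ^ n0}).restrictScalars k)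
    rw [show U ⊓ (V ⊓ (Ideal.span {(X - C (r i)) ^ n0}).restrictScalars k) =
        U ⊓ (Ideal.span {(X - C (r i)) ^ n0}).restrictScalars k by rw [← inf_assoc, inf_eq_left.2 hUV], hUN, e1, e2] at h1
    have h2 := Submodule.finrank_mono (sup_le hU hT)
    omega
  · rcases Nat.lt_or_ge N 2 with hN2 | hN2
    · have hd0 : d = 0 := by
        rcases Nat.eq_zero_or_pos m with hm | hm
        · omega
        · have : 0 < ∑ j, a j := lt_of_lt_of_le (ha ⟨0, hm⟩) (Finset.single_le_sum (fun j _ => Nat.zero_le (a j)) (Finset.mem_univ _))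
          omega
      refine ⟨0, zero_le_one, ?_⟩
      rw [hd0, Finset.sum_range_zero, Nat.choose_eq_zero_of_lt (by omega)]
      have : b = N := by omega
      omega
    set f : ℕ → ℕ := fun n => Module.finrank k ↥(V ⊓ degreeLT k (d - n)) with hf
    set g : ℕ → ℕ := fun n => Module.finrank k ↥(V₁ ⊓ degreeLT k (d - n)) with hg
    have hfv : ∀ n, f n = if n + 1 ≤ b then N - (n + 1) else N + 1 - (n + 1) := fun n => by
      have := hfinf (n + 1); rwa [show d + 1 - (n + 1) = d - n by omega] at this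
    have hsame : ∀ n, 1 ≤ n → g n = f n := by
      have hU1 : U ≤ V ⊓ degreeLT k (d - 1) := by
        refine le_inf (hU.trans hV₁) ?_
        rw [← hUdef, sup_le_iff, iSup_le_iff]
        have hdj : ∀ s : Finset (Fin m), (∏ j ∈ s, (X - C (r j)) ^ (a j + 1)).natDegree = ∑ j ∈ s, (a j + 1) := fun s => by
          rw [natDegree_prod _ _ fun j _ => pow_ne_zero _ (X_sub_C_ne_zero _)]
          simp
        refine ⟨?_, fun j => ?_⟩
        · rintro _ ⟨q, hq, rfl⟩
          rcases eq_or_ne q 0 with rfl | hq0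
          · simp
          have h1 := (natDegree_lt_iff_degree_lt hq0).2 (mem_degreeLT.1 hq)
          refine mem_degreeLT.2 (lt_of_le_of_lt degree_le_natDegree (Nat.cast_lt.2 ?_))
          rw [LinearMap.mulLeft_apply]
          refine lt_of_le_of_lt natDegree_mul_le ?_
          rw [hdj]
          omega
        · rintro _ ⟨q, hq, rfl⟩
          rcases eq_or_ne q 0 with rfl | hq0
          · simp
          have h1 := (natDegree_lt_iff_degree_lt hq0).2 (mem_degreeLT.1 hq)
          refine mem_degreeLT.2 (lt_of_le_of_lt degree_le_natDegree (Nat.cast_lt.2 ?_))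
          rw [LinearMap.mulLeft_apply]
          refine lt_of_le_of_lt natDegree_mul_le ?_
          have h2 := Finset.add_sum_erase Finset.univ (fun j => a j + 1) (Finset.mem_univ j)
          rw [hdj]
          omega
      have hUeq : U = V ⊓ degreeLT k (d - 1) := by
        haveI : Module.Finite k ↥(V ⊓ degreeLT k (d - 1)) := Submodule.finiteDimensional_of_le inf_le_left
        refine Submodule.eq_of_le_of_finrank_le hU1 ?_
        rw [hUN, show Module.finrank k ↥(V ⊓ degreeLT k (d - 1)) = f 1 from rfl, hfv 1]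
        split_ifs <;> omega
      intro n hn
      have hsub : V ⊓ degreeLT k (d - n) ≤ V₁ := by
        refine le_trans (inf_le_inf_left V (degreeLT_mono (show d - n ≤ d - 1 by omega))) ?_
        rw [← hUeq]
        exact hU
      show Module.finrank k ↥(V₁ ⊓ degreeLT k (d - n)) = Module.finrank k ↥(V ⊓ degreeLT k (d - n))
      rw [le_antisymm (inf_le_inf_right _ hV₁) (le_inf hsub inf_le_right)]
    have hfd : f d = 0 := by
      rw [hfv d]
      rcases Nat.eq_zero_or_pos m with hm | hm
      · subst hm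
        simp at hN
        split_ifs <;> omega
      · split_ifs <;> omega
    have hF : ∀ L, L ≤ N → ∑ n ∈ Finset.range L, f n = (∑ n ∈ Finset.range L, (N - 1 - n)) + (L - b) := by
      intro L
      induction L with
      | zero => simp
      | succ L ih =>
        intro hL
        rw [Finset.sum_range_succ, Finset.sum_range_succ, ih (by omega), hfv L]
        split_ifs <;> omega
    have hFd : ∑ n ∈ Finset.range d, f n = N.choose 2 + (N - b) := by
      have h1 : ∑ n ∈ Finset.range (d + 1), f n = ∑ n ∈ Finset.range N, f n :=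
        (Finset.sum_subset (Finset.range_subset_range.2 (by omega)) fun n _ hn => by
          rw [Finset.mem_range, not_lt] at hn
          rw [hfv n]; split_ifs <;> omega).symm
      rw [Finset.sum_range_succ, hfd, add_zero, hF N le_rfl, Finset.sum_range_reflect (fun n => n) N,
        Finset.sum_range_id, ← Nat.choose_two_right] at h1
      exact h1
    have hch : N.choose 2 = (N - 1).choose 2 + (N - 1) := by
      obtain ⟨M, rfl⟩ := Nat.exists_eq_add_of_le (show 1 ≤ N by omega)
      rw [show 1 + M - 1 = M by omega, add_comm 1 M, Nat.choose_succ_succ, Nat.choose_one_right]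
      exact add_comm _ _
    obtain ⟨d', rfl⟩ : ∃ d', d = d' + 1 := ⟨d - 1, by omega⟩
    rw [Finset.sum_range_succ'] at hFd
    have htail : ∑ n ∈ Finset.range d', g (n + 1) = ∑ n ∈ Finset.range d', f (n + 1) :=
      Finset.sum_congr rfl fun n _ => hsame _ (by omega)
    have h01 := (cut (degreeLT k (d' + 1 - 0))).1
    have h02 := (cut (degreeLT k (d' + 1 - 0))).2.1
    change g 0 ≤ f 0 at h01
    change f 0 ≤ g 0 + 1 at h02
    refine ⟨1 - (f 0 - g 0), by omega, ?_⟩
    show ∑ n ∈ Finset.range (d' + 1), g n = _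
    rw [Finset.sum_range_succ', htail]
    omega

end Groth.Agent.S17244
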