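import Groth.Statements.S17245
import Groth.Agent.EffDivW.Unmarked

set_option autoImplicit false
open W4c4effdivwronsk2

namespace Groth.Agent.S17245

open Polynomial Groth.Agent.S17241 Groth.Agent.EffDivW

open Polynomial in
/-- Let `k` be a field of characteristic zero and take, on the projective line over `k`, the point `∞`
and `m` further distinct points `r_1, …, r_m` of the affine line, with positive integers `b` (at
`∞`) and `a_1, …, a_m`; put `N = b + ∑ a_j`. The sum of the spaces of differentials with a single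
pole, of order at most `b + 1` at `∞`, resp. at most `a_j + 1` at `r_j`, `V = H⁰(ω((b+1)∞)) + ∑_j
H⁰(ω((a_j+1)r_j)) ⊆ H⁰(ω((b+1)∞ + ∑_j (a_j+1)r_j)) ≅ H⁰(O(d))`, `d = b - 1 + ∑ (a_j+1)`, becomes,
after multiplying by `dX⁻¹ ∏_j (X - r_j)^(a_j+1)`, the subspace of `k[X]_{≤ d}` spanned by
`D·k[X]_{<b}` and the `D_i·k[X]_{<a_i}`, where `D = ∏_j (X - r_j)^(a_j+1)` and `D_i` omits the
`i`-th factor; a member `h` vanishes to order `n` at a point `q` of the affine line when `(X - q)^n
∣ h`, and to order `d - deg h` at `∞`. Let `p` be a further point of the affine line, distinct from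
the `r_j`, and `V₁ = V(-p)` the members divisible by `X - p`, an `(N-1)`-dimensional system in the
line bundle twisted down by `p` (its vanishing orders at points `q ≠ p`, and at `∞`, are read off
exactly as for `V`; at `p` itself they are one less than the order of divisibility by `X - p`). Then
`dim V₁ = N - 1`, the point `p` is not a ramification point of `V₁` (no nonzero member of `V₁` is
divisible by `(X - p)^N`), and `V₁` has at most one ramification point off the marked points, a
simple one: at every `q` other than `p` and the `r_j`, no nonzero member is divisible by `(X - q)^N`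
and at most a line of members is divisible by `(X - q)^(N-2)`, and at most one such `q` has a
nonzero member divisible by `(X - q)^(N-1)`. (The published statement is over the complex numbers
with all points arbitrary; one marked point is placed at `∞` here and `p` is taken distinct from the
marked points.) -/
theorem result
    (k : Type*) [Field k] [CharZero k] (m : ℕ) (r : Fin m → k) (hr : Function.Injective r)
    (a : Fin m → ℕ) (ha : ∀ j, 1 ≤ a j) (b : ℕ) (hb : 1 ≤ b) (N d : ℕ)
    (hN : N = (∑ j, a j) + b) (hd : d + 1 = (∑ j, (a j + 1)) + b)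
    (V : Submodule k (Polynomial k))
    (hV : V = (Polynomial.degreeLT k b).map (LinearMap.mulLeft k (∏ j, (X - C (r j)) ^ (a j + 1))) ⊔
      ⨆ i, (Polynomial.degreeLT k (a i)).map
        (LinearMap.mulLeft k (∏ j ∈ Finset.univ.erase i, (X - C (r j)) ^ (a j + 1))))
    (p : k) (hp : ∀ j, p ≠ r j) (V₁ : Submodule k (Polynomial k))
    (hV₁ : V₁ = V ⊓ (Ideal.span {X - C p}).restrictScalars k) :
    Module.finrank k ↥V₁ + 1 = N ∧
    (V₁ ⊓ (Ideal.span {(X - C p) ^ N}).restrictScalars k) = ⊥ ∧
    (∀ q : k, (∀ j, q ≠ r j) → q ≠ p →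
      (V₁ ⊓ (Ideal.span {(X - C q) ^ N}).restrictScalars k) = ⊥ ∧
      Module.finrank k ↥(V₁ ⊓ (Ideal.span {(X - C q) ^ (N - 2)}).restrictScalars k) ≤ 1) ∧
    (∀ q q' : k, (∀ j, q ≠ r j) → q ≠ p → (∀ j, q' ≠ r j) → q' ≠ p →
      (V₁ ⊓ (Ideal.span {(X - C q) ^ (N - 1)}).restrictScalars k) ≠ ⊥ →
      (V₁ ⊓ (Ideal.span {(X - C q') ^ (N - 1)}).restrictScalars k) ≠ ⊥ → q = q') := by
  classical
  obtain ⟨hVN, hpsi, -⟩ := main k m r hr a ha b N hN V hV
  haveI : Module.Finite k ↥V := Module.finite_of_finrank_pos (by rw [hVN]; omega)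
  have top : ∀ {q : k}, (∀ j, q ≠ r j) → ∀ {v : k[X]}, v ∈ V → _ := fun {q} hq {v} hv =>
    vanish_top r (N := N) ha (by omega) (by omega) hVN hpsi hq hv
  have hker : V₁ = V ⊓ LinearMap.ker (leval p) := by
    rw [hV₁]
    congr 1
    ext x
    simp [Ideal.mem_span_singleton, dvd_iff_isRoot, leval_apply]
  have hsub : ∀ v ∈ V₁, v ∈ V ∧ v.eval p = 0 := fun v hv => by
    rw [hker] at hv
    exact ⟨hv.1, by simpa [leval_apply] using hv.2⟩
  have hbot : ∀ q : k, (∀ j, q ≠ r j) → V₁ ⊓ (Ideal.span {(X - C q) ^ N}).restrictScalars k = ⊥ := fun q hq => by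
    rw [Submodule.eq_bot_iff]
    intro v hv
    exact (top hq (hsub v hv.1).1).1 (Ideal.mem_span_singleton.1 hv.2)
  have hN1 : ∀ (q : k) (n : ℕ), (∀ j, q ≠ r j) → q ≠ p → (psi r a ((X - C q) ^ (n + 1))).eval p = 0 →
      (n + 1 : k) * (P1 r).eval p = (p - q) * (Q1 r a).eval p := fun q n hq hqp h => by
    rw [psi_pow_eval] at h
    exact sub_eq_zero.1 ((mul_eq_zero.1 h).resolve_left (pow_ne_zero _ (sub_ne_zero.2 hqp.symm)))
  refine ⟨?_, hbot p hp, fun q hq hqp => ⟨hbot q hq, ?_⟩, fun q q' hq hqp hq' hqp' h h' => ?_⟩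
  · rw [hker, ← hVN]
    refine (finrank_cut V (leval p)).2.2 ?_
    have hD0 : (∏ j, (X - C (r j)) ^ (a j + 1)) ∈ V := by
      rw [hV]
      refine Submodule.mem_sup_left ⟨1, mem_degreeLT.2 ?_, by simp⟩
      rw [degree_one]
      exact_mod_cast hb
    exact ⟨_, hD0, by
      simp only [leval_apply, eval_prod]
      exact Finset.prod_ne_zero_iff.2 fun j _ => by simp [sub_eq_zero, hp j]⟩
  · rcases Nat.lt_or_ge N 2 with h2 | h2
    · have h1 : Module.finrank k ↥V₁ ≤ 1 := (Submodule.finrank_mono fun v hv => (hsub v hv).1).trans (by omega)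
      haveI : Module.Finite k ↥V₁ := Submodule.finiteDimensional_of_le fun v hv => (hsub v hv).1
      exact (Submodule.finrank_mono inf_le_left).trans h1
    refine finrank_le_one_of_le_span_pair (fun v hv => (top hq (hsub v hv.1).1).2.2 h2 (Ideal.mem_span_singleton.1 hv.2)) ?_
    rintro ⟨h1, h2'⟩
    obtain ⟨n, rfl⟩ : ∃ n, N = n + 2 := ⟨N - 2, by omega⟩
    have e1 := hN1 q n hq hqp (by simpa using (hsub _ h1.1).2)
    have e2 := hN1 q (n + 1) hq hqp (by simpa using (hsub _ h2'.1).2)
    push_cast at e2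
    exact P1_eval r hp (by linear_combination e2 - e1)
  · have get : ∀ q : k, (∀ j, q ≠ r j) → q ≠ p → V₁ ⊓ (Ideal.span {(X - C q) ^ (N - 1)}).restrictScalars k ≠ ⊥ →
        (N : k) * (P1 r).eval p = (p - q) * (Q1 r a).eval p := by
      intro q hq hqp h
      obtain ⟨v, hv, hv0⟩ := Submodule.exists_mem_ne_zero_of_ne_bot h
      obtain ⟨c, hc⟩ := (top hq (hsub v hv.1).1).2.1 (Ideal.mem_span_singleton.1 hv.2)
      have hc0 : c ≠ 0 := fun h0 => hv0 (by rw [hc, h0, zero_smul])
      have he := (hsub v hv.1).2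
      rw [hc, eval_smul, smul_eq_mul, mul_eq_zero] at he
      obtain ⟨n, hn⟩ : ∃ n, N = n + 1 := ⟨N - 1, by omega⟩
      have := hN1 q n hq hqp (hn ▸ he.resolve_left hc0)
      rw [hn]
      push_cast
      exact this
    have e1 := get q hq hqp h
    have e2 := get q' hq' hqp' h'
    have hQ : (Q1 r a).eval p ≠ 0 := fun h0 => by
      rw [h0, mul_zero] at e1
      exact mul_ne_zero (Nat.cast_ne_zero.2 (by omega)) (P1_eval r hp) e1
    have := mul_right_cancel₀ hQ (e1.symm.trans e2)
    linear_combination -this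

end Groth.Agent.S17245
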