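import Groth.Statements.S17246
import Groth.Agent.EffDivW.PolarSum

set_option autoImplicit false
open W4c4effdivwronsk2

namespace Groth.Agent.S17246

open Polynomial Groth.Agent.S17241 Groth.Agent.EffDivW

open Polynomial in
/-- Let `k` be a field of characteristic zero and take, on the projective line over `k`, the point `∞`
and `m` further distinct points `r_1, …, r_m` of the affine line, with positive integers `b` (at
`∞`) and `a_1, …, a_m`; put `N = b + ∑ a_j`. The sum of the spaces of differentials with a single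
pole, of order at most `b + 1` at `∞`, resp. at most `a_j + 1` at `r_j`, `V = H⁰(ω((b+1)∞)) + ∑_j
H⁰(ω((a_j+1)r_j)) ⊆ H⁰(ω((b+1)∞ + ∑_j (a_j+1)r_j)) ≅ H⁰(O(d))`, `d = b - 1 + ∑ (a_j+1)`, becomes,
after multiplying by `dX⁻¹ ∏_j (X - r_j)^(a_j+1)`, the subspace of `k[X]_{≤ d}` spanned by
`D·k[X]_{<b}` and the `D_i·k[X]_{<a_i}`, where `D = ∏_j (X - r_j)^(a_j+1)` and `D_i` omits the
`i`-th factor; a member `h` vanishes to order `n` at a point `q` of the affine line when `(X - q)^n
∣ h`, and to order `d - deg h` at `∞`. Let `p` be a further point of the affine line, distinct from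
the `r_j`, and `V₁ = V(-p)` the members divisible by `X - p` (an `(N-1)`-dimensional system in the
line bundle twisted down by `p`, with vanishing orders at the marked points read off as for `V`).
With the weight of `V₁` at a marked point defined as `∑_{n=1}^{d} dim V₁(-n·point) - (N-1 choose
2)`: the weight at `r_i` is `∑_{j≠i} a_j + b - 1 + ε_i` and the weight at `∞` is `∑_j a_j - 1 + ε`,
with all `ε` in `{0, 1}`. (The published statement is over the complex numbers with all points
arbitrary; one marked point is placed at `∞` here and `p` is taken distinct from the marked points.) -/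
theorem result
    (k : Type*) [Field k] [CharZero k] (m : ℕ) (r : Fin m → k) (hr : Function.Injective r)
    (a : Fin m → ℕ) (ha : ∀ j, 1 ≤ a j) (b : ℕ) (hb : 1 ≤ b) (N d : ℕ)
    (hN : N = (∑ j, a j) + b) (hd : d + 1 = (∑ j, (a j + 1)) + b)
    (V : Submodule k (Polynomial k))
    (hV : V = (Polynomial.degreeLT k b).map (LinearMap.mulLeft k (∏ j, (X - C (r j)) ^ (a j + 1))) ⊔
      ⨆ i, (Polynomial.degreeLT k (a i)).map
        (LinearMap.mulLeft k (∏ j ∈ Finset.univ.erase i, (X - C (r j)) ^ (a j + 1))))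
    (p : k) (hp : ∀ j, p ≠ r j) (V₁ : Submodule k (Polynomial k))
    (hV₁ : V₁ = V ⊓ (Ideal.span {X - C p}).restrictScalars k) :
    (∀ i : Fin m, ∃ ε : ℕ, ε ≤ 1 ∧
      (∑ n ∈ Finset.range d, Module.finrank k ↥(V₁ ⊓ (Ideal.span {(X - C (r i)) ^ (n + 1)}).restrictScalars k)) + 1 =
        (N - 1).choose 2 + (N - a i) + ε) ∧
    (∃ ε : ℕ, ε ≤ 1 ∧
      (∑ n ∈ Finset.range d, Module.finrank k ↥(V₁ ⊓ Polynomial.degreeLT k (d - n))) + 1 =
        (N - 1).choose 2 + (N - b) + ε) := by
  classical
  obtain ⟨hVN, hpsi, -⟩ := main k m r hr a ha b N hN V hV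
  obtain ⟨-, hfr, hfinf⟩ := Groth.Agent.S17241.result k m r hr a ha b hb N d hN hd V hV
  have hd1 : d + 1 = N + m := by
    rw [hd, hN, Finset.sum_add_distrib]; simp; omega
  haveI : Module.Finite k ↥V := Module.finite_of_finrank_pos (by rw [hVN]; omega)
  have hker : V₁ = V ⊓ LinearMap.ker (leval p) := by
    rw [hV₁]
    congr 1
    ext x
    simp [Ideal.mem_span_singleton, dvd_iff_isRoot, leval_apply]
  have hP : (P1 r).eval p ≠ 0 := by
    rw [P1, eval_prod]
    exact Finset.prod_ne_zero_iff.2 fun j _ => by simpa [sub_eq_zero] using hp j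
  have cut : ∀ T : Submodule k k[X],
      Module.finrank k ↥(V₁ ⊓ T) ≤ Module.finrank k ↥(V ⊓ T) ∧
      ((∃ v ∈ V ⊓ T, v.eval p ≠ 0) → Module.finrank k ↥(V₁ ⊓ T) + 1 = Module.finrank k ↥(V ⊓ T)) := by
    intro T
    haveI : Module.Finite k ↥(V ⊓ T) := Submodule.finiteDimensional_of_le inf_le_left
    obtain ⟨h1, -, h3⟩ := finrank_cut (V ⊓ T) (leval p)
    rw [hker, inf_right_comm]
    exact ⟨h1, fun h => h3 (by simpa [leval_apply] using h)⟩
  constructor
  · intro i
    have hai : a i + 1 ≤ N := by
      have := Finset.single_le_sum (fun j _ => Nat.zero_le (a j)) (Finset.mem_univ i)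
      omega
    refine sum_cut (fun n => Module.finrank k ↥(V ⊓ (Ideal.span {(X - C (r i)) ^ (n + 1)}).restrictScalars k)) _
      (a i) N d (by omega) (by omega) (Or.inr (by have := i.pos; omega)) (fun n => hfr i (n + 1)) (fun n hn => ?_)
      (fun n => (cut _).1) (by omega)
    refine (cut _).2 ?_
    obtain ⟨P2, hP2⟩ : (X - C (r i)) ∣ P1 r := Finset.dvd_prod_of_mem _ (Finset.mem_univ i)
    have hdvd : ∀ e, (X - C (r i)) ^ e ∣ psi r a ((X - C (r i)) ^ e) := fun e => by
      refine ⟨(e : k[X]) * P2 - Q1 r a, ?_⟩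
      rw [psi_apply, derivative_X_sub_C_pow, map_natCast, hP2]
      rcases e with _ | e
      · simp
      · rw [Nat.add_sub_cancel, pow_succ]; ring
    have hmem : ∀ e, n + 1 ≤ e → e ≤ N → psi r a ((X - C (r i)) ^ e) ∈
        V ⊓ (Ideal.span {(X - C (r i)) ^ (n + 1)}).restrictScalars k := fun e h1 h2 =>
      Submodule.mem_inf.2 ⟨hpsi _ (by rw [natDegree_pow, natDegree_X_sub_C, mul_one]; exact h2),
        Ideal.mem_span_singleton.2 (dvd_trans (pow_dvd_pow _ h1) (hdvd e))⟩
    have key : psi r a ((X - C (r i)) ^ (N - 1 + 1)) - (X - C (r i)) * psi r a ((X - C (r i)) ^ (N - 1)) =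
        (X - C (r i)) ^ (N - 1) * P1 r := by
      rw [psi_apply, psi_apply, pow_succ, derivative_mul, derivative_X_sub_C]
      ring
    by_cases h0 : (psi r a ((X - C (r i)) ^ (N - 1))).eval p = 0
    · refine ⟨_, hmem (N - 1 + 1) (by omega) (by omega), ?_⟩
      have := congrArg (eval p) key
      rw [eval_sub, eval_mul, h0, mul_zero, sub_zero] at this
      rw [this, eval_mul, eval_pow]
      exact mul_ne_zero (pow_ne_zero _ (by simpa [sub_eq_zero] using hp i)) hP
    · exact ⟨_, hmem _ (by omega) (by omega), h0⟩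
  · have hbN : b ≤ N := by omega
    refine sum_cut (fun n => Module.finrank k ↥(V ⊓ degreeLT k (d - n))) _ b N d hbN (by omega)
      (by
        rcases Nat.eq_zero_or_pos m with hm | hm
        · subst hm
          simp at hN
          exact Or.inl hN.symm
        · exact Or.inr (by omega))
      (fun n => by have := hfinf (n + 1); rwa [show d + 1 - (n + 1) = d - n by omega] at this) (fun n hn => ?_)
      (fun n => (cut _).1) (by omega)
    refine (cut _).2 ?_
    have hQ : (Q1 r a).natDegree ≤ m - 1 := natDegree_sum_le_of_forall_le _ _ fun j _ =>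
      (natDegree_C_mul_le _ _).trans (by rw [natDegree_prod _ _ fun l _ => X_sub_C_ne_zero _]; simp)
    have hQ0 : m = 0 → Q1 r a = 0 := fun h => by subst h; simp [Q1]
    have hPm : (P1 r).natDegree ≤ m := by
      rw [P1, natDegree_prod _ _ fun j _ => X_sub_C_ne_zero _]; simp
    have hmem : ∀ R : k[X], R.natDegree ≤ N → (psi r a R).natDegree ≤ m →
        psi r a R ∈ V ⊓ degreeLT k (d - n) := fun R h1 h2 => Submodule.mem_inf.2 ⟨hpsi R h1,
      mem_degreeLT.2 (lt_of_le_of_lt degree_le_natDegree (by exact_mod_cast (by omega : (psi r a R).natDegree < d - n)))⟩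
    by_cases h0 : (psi r a 1).eval p = 0
    · refine ⟨_, hmem X (natDegree_X_le.trans (by omega)) ?_, ?_⟩
      · rw [psi_apply, derivative_X, one_mul]
        refine (natDegree_sub_le _ _).trans (max_le hPm ?_)
        rcases Nat.eq_zero_or_pos m with hm | hm
        · simp [hQ0 hm]
        · exact natDegree_mul_le.trans (by have := natDegree_X_le (R := k); omega)
      · rw [psi_apply] at h0 ⊢
        simp only [derivative_one, derivative_X, zero_mul, one_mul, zero_sub, eval_neg, eval_sub, eval_mul,
          eval_X, neg_eq_zero] at h0 ⊢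
        rw [h0, mul_zero, sub_zero]
        exact hP
    · refine ⟨_, hmem 1 (by simp) ?_, h0⟩
      rw [psi_apply, derivative_one, zero_mul, zero_sub, one_mul, natDegree_neg]
      omega

end Groth.Agent.S17246
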