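import Groth.Statements.S17247
import Mathlib
import Groth.Agent.FF.Series

set_option autoImplicit false
open FunFld
open Groth.Agent.FF

namespace Groth.Agent.S17247

/-- Let `K/k` be a function field of one variable of genus one over an algebraically closed field `k` of
characteristic zero (an elliptic curve `E`), `A` a place, and `g ≥ 3` an odd integer. Inside
`H⁰(O_E((2g-2)A)) = L((2g-2)A)` consider `V = L(gA)` (dimension `g`) and any hyperplane `V₁` of it
containing `L((g-2)A)`: `L((g-2)A) ⊆ V₁ ⊆ L(gA)`, `dim V₁ = g - 1`. Vanishing orders are those of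
sections of `O_E((2g-2)A)`: a member `f` vanishes to order at least `n` at a place `Q` when `f ∈
L((2g-2)A - nQ)`, and the weight of `V₁` at `Q` is `∑_{n=1}^{2g-2} dim (V₁ ∩ L((2g-2)A - nQ)) - (g-1
choose 2)` (the sum of the `g - 1` vanishing orders minus `0 + 1 + ⋯ + (g-2)`). Then the weight of
`V₁` at every place `Q ≠ A` is at most `2`. (The published statement is for a smooth elliptic curve
over the complex numbers and allows every odd positive `g`; for `g = 1` the inclusion `O(gA) ⊆
O((2g-2)A)` it uses fails, so `g ≥ 3` here.) -/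
theorem result
    (k K : Type*) [Field k] [IsAlgClosed k] [CharZero k] [Field K] [Algebra k K]
    (hK : FunFld.IsFunctionField k K) (hg1 : FunFld.genus k K = 1)
    (g : ℕ) (hodd : Odd g) (h3 : 3 ≤ g) (A : FunFld.Place k K)
    (V₁ : Submodule k K) (hlo : FunFld.L (Finsupp.single A ((g : ℤ) - 2)) ≤ V₁)
    (hhi : V₁ ≤ FunFld.L (Finsupp.single A (g : ℤ))) (hdim : Module.finrank k ↥V₁ + 1 = g)
    (Q : FunFld.Place k K) (hQ : Q ≠ A) :
    (∑ n ∈ Finset.range (2 * g - 2), Module.finrank k
        ↥(V₁ ⊓ FunFld.L (Finsupp.single A (2 * (g : ℤ) - 2) - Finsupp.single Q ((n : ℤ) + 1)))) ≤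
      (g - 1).choose 2 + 2 := by
  classical
  have hdQ : ∀ a b : ℤ, Divisor.deg (Finsupp.single A a - Finsupp.single Q b : Divisor k K) = a - b := fun a b => by
    rw [deg_sub_single hK, deg_single_ac hK]
  have hell : ∀ a b : ℤ, b < a → (ell (Finsupp.single A a - Finsupp.single Q b : Divisor k K) : ℤ) = a - b :=
    fun a b h => by
      have := ell_of_deg_large hK (D := (Finsupp.single A a - Finsupp.single Q b : Divisor k K))
        (by rw [hg1, hdQ]; omega)
      rw [hg1, hdQ] at this; omega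
  haveI := finite_L hK (Finsupp.single A (g : ℤ) : Divisor k K)
  haveI : FiniteDimensional k V₁ := Submodule.finiteDimensional_of_le hhi
  have hsub : V₁ ≤ L (Finsupp.single A (2 * (g : ℤ) - 2) : Divisor k K) :=
    hhi.trans (L_mono (Finsupp.single_mono (by omega)))
  let F : ℤ → ℕ := fun n => Module.finrank k ↥(V₁ ⊓ L (Finsupp.single A (2 * (g : ℤ) - 2) - Finsupp.single Q n))
  let E : ℤ → ℤ → ℕ := fun a n => ell (Finsupp.single A a - Finsupp.single Q n : Divisor k K)
  -- bound through the top series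
  have htop : ∀ n, F n ≤ E g n := fun n => by
    haveI := finite_L hK (Finsupp.single A (g : ℤ) - Finsupp.single Q n : Divisor k K)
    refine Submodule.finrank_mono fun x hx => ?_
    obtain ⟨hxV, hxL⟩ := Submodule.mem_inf.1 hx
    intro R
    rcases eq_or_ne R Q with rfl | hR
    · simpa [Finsupp.single_eq_of_ne hQ] using hxL R
    · simpa [Finsupp.single_eq_of_ne hR] using hhi hxV R
  -- bound through the bottom series
  have hbot : ∀ n : ℤ, 0 ≤ n → (F n : ℤ) ≤ ((g : ℤ) - 1) - ((g : ℤ) - 2) + E ((g : ℤ) - 2) n := fun n hn => by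
    set T := Finsupp.single A (2 * (g : ℤ) - 2) - Finsupp.single Q n
    haveI := finite_L hK (Finsupp.single A ((g : ℤ) - 2) - Finsupp.single Q n : Divisor k K)
    haveI : FiniteDimensional k ↥(V₁ ⊓ L T) := Submodule.finiteDimensional_of_le inf_le_left
    haveI : FiniteDimensional k (L (Finsupp.single A ((g : ℤ) - 2) : Divisor k K)) := finite_L hK _
    have hle : (V₁ ⊓ L T) ⊓ L (Finsupp.single A ((g : ℤ) - 2) : Divisor k K) ≤
        L (Finsupp.single A ((g : ℤ) - 2) - Finsupp.single Q n) := fun x hx R => by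
      obtain ⟨h1, h2⟩ := Submodule.mem_inf.1 hx
      have h3 := (Submodule.mem_inf.1 h1).2
      rcases eq_or_ne R Q with rfl | hR
      · simpa [T, Finsupp.single_eq_of_ne hQ] using h3 R
      · simpa [Finsupp.single_eq_of_ne hR] using h2 R
    have h1 := Submodule.finrank_sup_add_finrank_inf_eq (V₁ ⊓ L T) (L (Finsupp.single A ((g : ℤ) - 2) : Divisor k K))
    have h2 := Submodule.finrank_mono hle
    have h3 : Module.finrank k ↥((V₁ ⊓ L T) ⊔ L (Finsupp.single A ((g : ℤ) - 2) : Divisor k K)) ≤ Module.finrank k V₁ :=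
      Submodule.finrank_mono (sup_le inf_le_left hlo)
    have h4 := hell ((g : ℤ) - 2) 0 (by omega)
    rw [Finsupp.single_zero, sub_zero, sub_zero, ell] at h4
    simp only [F, E, ell, T] at *
    omega
  have hzero : ∀ n : ℤ, (g : ℤ) < n → F n = 0 := fun n hn => by
    have h1 := htop n
    have h2 : E g n = 0 := ell_eq_zero_of_deg_neg hK (by rw [hdQ]; omega)
    omega
  have hδ : ∀ a : ℤ, E a a ≤ 1 := fun a => by
    have := ell_le_of_deg_nonneg hK (E := (Finsupp.single A a - Finsupp.single Q a : Divisor k K)) (by rw [hdQ]; simp)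
    rw [hdQ] at this
    simp only [E]
    omega
  have hnot : E g g + E ((g : ℤ) - 2) ((g : ℤ) - 2) ≤ 1 := by
    by_contra hcon
    have hmk : ∀ a : ℤ, 0 < E a a → ∃ z : K, z ≠ 0 ∧ FunFld.div k z = Finsupp.single Q a - Finsupp.single A a :=
      fun a ha => by
        obtain ⟨z, hz, hzL⟩ := exists_ne_zero_of_ell_pos ha
        refine ⟨z, hz, ?_⟩
        have he := eq_zero_of_nonneg_of_deg hK (le_add_div_of_mem_L hK hz hzL)
          (by rw [deg_add, deg_div hK, hdQ]; simp)
        linear_combination (norm := abel) he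
    obtain ⟨z, hz, hdz⟩ := hmk g (by have := hδ g; have := hδ ((g : ℤ) - 2); omega)
    obtain ⟨w, hw, hdw⟩ := hmk ((g : ℤ) - 2) (by have := hδ g; have := hδ ((g : ℤ) - 2); omega)
    obtain ⟨s, hs⟩ := hodd
    -- an element whose divisor is `Q - A`
    set y := z * ((z * w⁻¹) ^ s)⁻¹ with hy
    have hy0 : y ≠ 0 := mul_ne_zero hz (inv_ne_zero (pow_ne_zero s (mul_ne_zero hz (inv_ne_zero hw))))
    have hdy : FunFld.div k y = Finsupp.single Q 1 - Finsupp.single A 1 := by
      rw [hy, Groth.Agent.FF.div_mul hK hz (inv_ne_zero (pow_ne_zero s (mul_ne_zero hz (inv_ne_zero hw)))),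
        Groth.Agent.FF.div_inv hK, div_pow hK, Groth.Agent.FF.div_mul hK hz (inv_ne_zero hw),
        Groth.Agent.FF.div_inv hK, hdz, hdw]
      ext R
      simp only [Finsupp.single_apply, Finsupp.coe_add, Pi.add_apply, Finsupp.coe_smul, Pi.smul_apply,
        Finsupp.coe_sub, Pi.sub_apply, Finsupp.coe_neg, Pi.neg_apply, smul_eq_mul, hs]
      split_ifs <;> push_cast <;> ring
    have hmem : y ∈ L (Finsupp.single A 1 : Divisor k K) := (mem_L_iff_ord hy0).2 fun R => by
      rw [← div_apply hK, hdy, Finsupp.sub_apply, sub_add_cancel, Finsupp.single_apply]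
      split <;> norm_num
    haveI := finite_L hK (Finsupp.single A 1 : Divisor k K)
    have hA1 := hell 1 0 (by norm_num)
    rw [Finsupp.single_zero, sub_zero] at hA1
    rw [← Submodule.eq_of_le_of_finrank_eq (L_mono (Finsupp.single_nonneg.2 zero_le_one) :
      L (0 : Divisor k K) ≤ L (Finsupp.single A 1)) (show ell _ = ell _ by rw [ell_zero hK]; omega),
      L_zero hK, Submodule.mem_one] at hmem
    obtain ⟨c, hc⟩ := hmem
    rw [← hc, div_algebraMap hK] at hdy
    have := DFunLike.congr_fun hdy Q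
    simp [Finsupp.single_eq_of_ne hQ] at this
  obtain ⟨m, rfl⟩ : ∃ m, g = m + 3 := ⟨g - 3, by omega⟩
  have hsplit : 2 * (m + 3) - 2 = m + (3 + (m + 1)) := by omega
  change ∑ n ∈ Finset.range (2 * (m + 3) - 2), F ((n : ℤ) + 1) ≤ _
  rw [hsplit, Finset.sum_range_add, Finset.sum_range_add, Finset.sum_eq_zero (s := Finset.range (m + 1))
    (fun x _ => hzero _ (by push_cast; omega)), Finset.sum_range_succ, Finset.sum_range_succ, Finset.sum_range_one]
  have e1 : ∀ n ∈ Finset.range m, F ((n : ℤ) + 1) ≤ (m - n) + 1 := fun n hn => by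
    rw [Finset.mem_range] at hn
    have h1 := hbot ((n : ℤ) + 1) (by omega)
    have h2 := hell (((m + 3 : ℕ) : ℤ) - 2) ((n : ℤ) + 1) (by push_cast; omega)
    simp only [E] at h1
    push_cast at h1 h2 ⊢
    omega
  have s1 := Finset.sum_le_sum e1
  rw [Finset.sum_add_distrib, Finset.sum_const, Finset.card_range, smul_eq_mul, mul_one] at s1
  have s2 := two_mul_sum_range_sub m m le_rfl
  have n1 := hbot ((m : ℤ) + 1) (by omega)
  have n2 := htop ((m : ℤ) + 2)
  have n2' := hell ((m : ℤ) + 3) ((m : ℤ) + 2) (by omega)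
  have n3 := htop ((m : ℤ) + 3)
  have hc : 2 * (m + 3 - 1).choose 2 = m * (m + 1) + 2 * (m + 1) := by
    rw [show m + 3 - 1 = m + 2 by omega, Nat.choose_two_right, show m + 2 - 1 = m + 1 by omega,
      Nat.mul_div_cancel' ((Nat.mul_comm (m + 1) (m + 2)) ▸ (Nat.even_mul_succ_self (m + 1)).two_dvd)]
    ring
  simp only [E] at n1 n2 n3 hnot
  push_cast at *
  simp only [add_zero, show (m : ℤ) + 1 + 1 = (m : ℤ) + 2 by ring, show (m : ℤ) + 2 + 1 = (m : ℤ) + 3 by ring,
    show (m : ℤ) + 3 - 2 = (m : ℤ) + 1 by ring] at *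
  omega

end Groth.Agent.S17247
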