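import Groth.Statements.S17248
import Mathlib
import Groth.Agent.FF.Series

set_option autoImplicit false
open FunFld
open Groth.Agent.FF

namespace Groth.Agent.S17248

/-- Let `K/k` be a function field of one variable of genus one over an algebraically closed field `k` of
characteristic zero (an elliptic curve `E`), `A` a place, and `g ≥ 3` an integer. Inside
`H⁰(O_E((2g-2)A)) = L((2g-2)A)` consider `V = L(gA)` (dimension `g`) and any hyperplane `V₁` of it
containing `L((g-2)A)`: `L((g-2)A) ⊆ V₁ ⊆ L(gA)`, `dim V₁ = g - 1`. Vanishing orders are those of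
sections of `O_E((2g-2)A)`: a member `f` vanishes to order at least `n` at a place `Q` when `f ∈
L((2g-2)A - nQ)`, and the weight of `V₁` at `Q` is `∑_{n=1}^{2g-2} dim (V₁ ∩ L((2g-2)A - nQ)) - (g-1
choose 2)` (the sum of the `g - 1` vanishing orders minus `0 + 1 + ⋯ + (g-2)`). Then the weight of
`V₁` at `A` is `(g-1)² + ε` with `ε ∈ {0, 1}`. (The published statement is for a smooth elliptic
curve over the complex numbers and `g` odd positive; `g ≥ 3` here since the ambient inclusion needs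
it; this row does not assume `g` odd.) -/
theorem result
    (k K : Type*) [Field k] [IsAlgClosed k] [CharZero k] [Field K] [Algebra k K]
    (hK : FunFld.IsFunctionField k K) (hg1 : FunFld.genus k K = 1)
    (g : ℕ) (h3 : 3 ≤ g) (A : FunFld.Place k K)
    (V₁ : Submodule k K) (hlo : FunFld.L (Finsupp.single A ((g : ℤ) - 2)) ≤ V₁)
    (hhi : V₁ ≤ FunFld.L (Finsupp.single A (g : ℤ))) (hdim : Module.finrank k ↥V₁ + 1 = g) :
    ∃ ε : ℕ, ε ≤ 1 ∧
      (∑ n ∈ Finset.range (2 * g - 2), Module.finrank k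
        ↥(V₁ ⊓ FunFld.L (Finsupp.single A (2 * (g : ℤ) - 2) - Finsupp.single A ((n : ℤ) + 1)))) =
      (g - 1).choose 2 + (g - 1) ^ 2 + ε := by
  classical
  have hdeg : ∀ n : ℤ, Divisor.deg (Finsupp.single A n : Divisor k K) = n := fun n => deg_single_ac hK A n
  have hell : ∀ e : ℤ, 1 ≤ e → (ell (Finsupp.single A e : Divisor k K) : ℤ) = e := fun e he => by
    have := ell_of_deg_large hK (D := (Finsupp.single A e : Divisor k K)) (by rw [hg1, hdeg]; omega)
    rw [hg1, hdeg] at this; omega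
  haveI := finite_L hK (Finsupp.single A (g : ℤ) : Divisor k K)
  haveI : FiniteDimensional k V₁ := Submodule.finiteDimensional_of_le hhi
  let F : ℤ → ℕ := fun e => Module.finrank k ↥(V₁ ⊓ L (Finsupp.single A e : Divisor k K))
  have hlow : ∀ e : ℤ, e ≤ (g : ℤ) - 2 → F e = ell (Finsupp.single A e : Divisor k K) := fun e he => by
    change Module.finrank k ↥(V₁ ⊓ L _) = _
    rw [inf_eq_right.2 ((L_mono (Finsupp.single_mono he)).trans hlo)]; rfl
  have hhigh : ∀ e : ℤ, (g : ℤ) ≤ e → F e + 1 = g := fun e he => by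
    change Module.finrank k ↥(V₁ ⊓ L _) + 1 = _
    rw [inf_eq_left.2 (hhi.trans (L_mono (Finsupp.single_mono he))), hdim]
  have hmid1 : F ((g : ℤ) - 2) ≤ F ((g : ℤ) - 1) := Submodule.finrank_mono
    (inf_le_inf_left _ (L_mono (Finsupp.single_mono (by omega))))
  have hmid2 : F ((g : ℤ) - 1) + 1 ≤ g := by
    have : F ((g : ℤ) - 1) ≤ Module.finrank k V₁ := Submodule.finrank_mono inf_le_left
    omega
  have h2 := hlow ((g : ℤ) - 2) le_rfl
  have h2' := hell ((g : ℤ) - 2) (by omega)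
  refine ⟨F ((g : ℤ) - 1) - (g - 2), by omega, ?_⟩
  rw [← Finset.sum_range_reflect]
  have key : ∀ j ∈ Finset.range (2 * g - 2), Module.finrank k ↥(V₁ ⊓ L (Finsupp.single A (2 * (g : ℤ) - 2) -
      Finsupp.single A (((2 * g - 2 - 1 - j : ℕ) : ℤ) + 1))) = F (j : ℤ) := fun j hj => by
    rw [Finset.mem_range] at hj
    change Module.finrank k ↥(V₁ ⊓ L _) = Module.finrank k ↥(V₁ ⊓ L _)
    rw [← Finsupp.single_sub, show 2 * (g : ℤ) - 2 - (((2 * g - 2 - 1 - j : ℕ) : ℤ) + 1) = (j : ℤ) by omega]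
  rw [Finset.sum_congr rfl key]
  obtain ⟨m, rfl⟩ : ∃ m, g = m + 3 := ⟨g - 3, by omega⟩
  rw [show 2 * (m + 3) - 2 = (1 + (m + 1)) + (1 + (m + 1)) by omega, Finset.sum_range_add,
    Finset.sum_range_add (fun x : ℕ => F (x : ℤ)) 1 (m + 1),
    Finset.sum_range_add (fun x : ℕ => F ((1 + (m + 1) + x : ℕ) : ℤ)) 1 (m + 1)]
  have e0 : F ((0 : ℕ) : ℤ) = 1 := by
    rw [hlow _ (by push_cast; omega)]; simpa using ell_zero hK
  have e1 : ∀ x, x < m + 1 → F ((1 + x : ℕ) : ℤ) = 1 + x := fun x hx => by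
    have := hell ((1 + x : ℕ) : ℤ) (by omega)
    rw [hlow _ (by omega)]
    omega
  have e2 : ∀ x, x < m + 1 → F ((1 + (m + 1) + (1 + x) : ℕ) : ℤ) = m + 2 := fun x hx => by
    have := hhigh ((1 + (m + 1) + (1 + x) : ℕ) : ℤ) (by push_cast; omega)
    omega
  simp only [Finset.sum_range_one, add_zero]
  rw [e0, Finset.sum_congr rfl (fun x hx => e1 x (Finset.mem_range.1 hx)),
    Finset.sum_congr rfl (fun x hx => e2 x (Finset.mem_range.1 hx)), Finset.sum_add_distrib, Finset.sum_const,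
    Finset.sum_const, Finset.card_range, smul_eq_mul, smul_eq_mul]
  have e3 : ((1 + (m + 1) : ℕ) : ℤ) = ((m + 3 : ℕ) : ℤ) - 1 := by push_cast; ring
  rw [e3]
  have hc : 2 * (m + 3 - 1).choose 2 = (m + 2) * (m + 1) := by
    rw [show m + 3 - 1 = m + 2 by omega, Nat.choose_two_right, show m + 2 - 1 = m + 1 by omega]
    exact Nat.mul_div_cancel' ((Nat.mul_comm (m + 1) (m + 2)) ▸ (Nat.even_mul_succ_self (m + 1)).two_dvd)
  have hi := Finset.sum_range_id_mul_two (m + 1)
  rw [Nat.add_sub_cancel] at hi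
  have hq : (m + 2) * (m + 1) = (m + 1) * m + 2 * (m + 1) := by ring
  have hs : (m + 3 - 1) ^ 2 = (m + 2) * (m + 1) + (m + 2) := by rw [show m + 3 - 1 = m + 2 by omega]; ring
  have hr : (m + 1) * (m + 2) = (m + 2) * (m + 1) := mul_comm _ _
  rw [show m + 3 - 1 = m + 2 by omega] at hc hs ⊢
  push_cast at h2' hmid1 hmid2 h2 ⊢
  omega

end Groth.Agent.S17248
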