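import Groth.Statements.S17249
import Mathlib
import Groth.Agent.FF.Series

set_option autoImplicit false
open FunFld
open Groth.Agent.FF

namespace Groth.Agent.S17249

/-- Let `K/k` be a function field of one variable of genus two over an algebraically closed field `k` of
characteristic zero (a smooth curve `X` of genus `2`), `C` a canonical divisor, `A` a place with
`ℓ(2A) = 1` (not a Weierstrass point), and `P`, `Q` places with `Q ≠ A`. Then `ℓ(C + 2A - P - 3Q) =
1` and `ℓ(C + 2A - P - Q) = 2` do not both hold: the two-dimensional complete system `H⁰(ω_X(2A -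
P))` (of degree `3`) has no point `Q ≠ A` of weight three. (The published statement concerns a
general pointed curve `(X, A)` of genus two over the complex numbers and a point `P` of `X`; this
row assumes only `ℓ(2A) = 1`.) -/
theorem result
    (k K : Type*) [Field k] [IsAlgClosed k] [CharZero k] [Field K] [Algebra k K]
    (hK : FunFld.IsFunctionField k K) (hg : FunFld.genus k K = 2)
    (C : FunFld.Divisor k K) (hC : FunFld.IsCanonical k K C)
    (A P Q : FunFld.Place k K) (hA : Module.finrank k ↥(FunFld.L (Finsupp.single A (2 : ℤ))) = 1) (hQ : Q ≠ A) :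
    ¬ (Module.finrank k ↥(FunFld.L (C + Finsupp.single A (2 : ℤ) - Finsupp.single P (1 : ℤ) - Finsupp.single Q (3 : ℤ))) = 1 ∧
       Module.finrank k ↥(FunFld.L (C + Finsupp.single A (2 : ℤ) - Finsupp.single P (1 : ℤ) - Finsupp.single Q (1 : ℤ))) = 2) := by
  classical
  rintro ⟨-, h2⟩
  change ell _ = 2 at h2
  obtain ⟨-, hd⟩ := canonical_deg hK hC
  rw [hg] at hd; push_cast at hd
  have hrr := riemann_roch hK hC (Finsupp.single P 1 + Finsupp.single Q 1 - Finsupp.single A 2 : Divisor k K)
  rw [show C - (Finsupp.single P 1 + Finsupp.single Q 1 - Finsupp.single A 2) =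
    C + Finsupp.single A 2 - Finsupp.single P 1 - Finsupp.single Q 1 by abel, h2, deg_sub_single hK, deg_add,
    deg_single_ac hK, deg_single_ac hK, hg] at hrr
  push_cast at hrr
  obtain ⟨z, hz, hzL⟩ := exists_ne_zero_of_ell_pos
    (D := (Finsupp.single P 1 + Finsupp.single Q 1 - Finsupp.single A 2 : Divisor k K)) (by omega)
  have he := eq_zero_of_nonneg_of_deg hK (le_add_div_of_mem_L hK hz hzL)
    (by rw [deg_add, deg_div hK, deg_sub_single hK, deg_add, deg_single_ac hK, deg_single_ac hK]; norm_num)
  have hdiv : FunFld.div k z = Finsupp.single A 2 - Finsupp.single P 1 - Finsupp.single Q 1 := by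
    linear_combination (norm := abel) he
  have hmem : z⁻¹ ∈ L (Finsupp.single A 2 : Divisor k K) := by
    refine (mem_L_iff_ord (inv_ne_zero hz)).2 fun R => ?_
    rw [← div_apply hK, Groth.Agent.FF.div_inv hK, hdiv]
    simp only [Finsupp.coe_neg, Pi.neg_apply, Finsupp.coe_sub, Pi.sub_apply, Finsupp.single_apply]
    split_ifs <;> norm_num
  haveI := finite_L hK (Finsupp.single A 2 : Divisor k K)
  have hconst : L (Finsupp.single A 2 : Divisor k K) = L (0 : Divisor k K) :=
    (Submodule.eq_of_le_of_finrank_eq (L_mono (Finsupp.single_nonneg.2 (by norm_num))) (by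
      rw [hA]; exact ell_zero hK)).symm
  rw [hconst, L_zero hK, Submodule.mem_one] at hmem
  obtain ⟨c, hc⟩ := hmem
  have h0 : FunFld.div k z⁻¹ = 0 := by rw [← hc]; exact div_algebraMap hK c
  rw [Groth.Agent.FF.div_inv hK, hdiv] at h0
  have := DFunLike.congr_fun h0 Q
  simp only [Finsupp.coe_neg, Pi.neg_apply, Finsupp.coe_sub, Pi.sub_apply, Finsupp.single_apply, if_neg hQ.symm,
    Finsupp.coe_zero, Pi.zero_apply] at this
  split_ifs at this <;> omega

end Groth.Agent.S17249
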