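import Groth.Statements.S17250
import Mathlib
import Groth.Agent.FF.Series

set_option autoImplicit false
open FunFld
open Groth.Agent.FF

namespace Groth.Agent.S17250

/-- Let `K/k` be a function field of one variable of genus two over an algebraically closed field `k` of
characteristic zero (a smooth curve `X` of genus `2`), `C` a canonical divisor, `A` a place with
`ℓ(2A) = 1`, and `P`, `Q` places different from `A`. Then `ℓ(C + 3A - P - 4Q) = 1` and `ℓ(C + 3A - P
- 2Q) = 2` do not both hold (the three-dimensional complete system `H⁰(ω_X(3A - P))`, of degree `4`,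
has no point `Q ≠ A` with two independent sections vanishing to order at least `2` there and one
vanishing to order at least `4`). (The published statement concerns a general pointed curve `(X, A)`
of genus two over the complex numbers and a point `P ≠ A`; this row assumes `ℓ(2A) = 1` in place of
generality.) -/
theorem result
    (k K : Type*) [Field k] [IsAlgClosed k] [CharZero k] [Field K] [Algebra k K]
    (hK : FunFld.IsFunctionField k K) (hg : FunFld.genus k K = 2)
    (C : FunFld.Divisor k K) (hC : FunFld.IsCanonical k K C)
    (A P Q : FunFld.Place k K) (hA : Module.finrank k ↥(FunFld.L (Finsupp.single A (2 : ℤ))) = 1) (hP : P ≠ A) (hQ : Q ≠ A) :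
    ¬ (Module.finrank k ↥(FunFld.L (C + Finsupp.single A (3 : ℤ) - Finsupp.single P (1 : ℤ) - Finsupp.single Q (4 : ℤ))) = 1 ∧
       Module.finrank k ↥(FunFld.L (C + Finsupp.single A (3 : ℤ) - Finsupp.single P (1 : ℤ) - Finsupp.single Q (2 : ℤ))) = 2) := by
  classical
  rintro ⟨h4, h2⟩
  change ell _ = 1 at h4
  change ell _ = 2 at h2
  obtain ⟨-, hd⟩ := canonical_deg hK hC
  rw [hg] at hd; push_cast at hd
  have hrr := riemann_roch hK hC (Finsupp.single P 1 + Finsupp.single Q 2 - Finsupp.single A 3 : Divisor k K)
  rw [show C - (Finsupp.single P 1 + Finsupp.single Q 2 - Finsupp.single A 3) =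
    C + Finsupp.single A 3 - Finsupp.single P 1 - Finsupp.single Q 2 by abel, h2, deg_sub_single hK, deg_add,
    deg_single_ac hK, deg_single_ac hK, hg] at hrr
  push_cast at hrr
  obtain ⟨w, hw, hwL⟩ := exists_ne_zero_of_ell_pos
    (D := (Finsupp.single P 1 + Finsupp.single Q 2 - Finsupp.single A 3 : Divisor k K)) (by omega)
  have hew := eq_zero_of_nonneg_of_deg hK (le_add_div_of_mem_L hK hw hwL)
    (by rw [deg_add, deg_div hK, deg_sub_single hK, deg_add, deg_single_ac hK, deg_single_ac hK]; norm_num)
  obtain ⟨z, hz, hzL⟩ := exists_ne_zero_of_ell_pos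
    (D := C + Finsupp.single A 3 - Finsupp.single P 1 - Finsupp.single Q 4) (by rw [h4]; norm_num)
  have hez := eq_zero_of_nonneg_of_deg hK (le_add_div_of_mem_L hK hz hzL)
    (by rw [deg_add, deg_div hK, deg_sub_single hK, deg_sub_single hK, deg_add, deg_single_ac hK, hd]; norm_num)
  have hC2 : ell (C - Finsupp.single Q 2) = 1 := by
    rw [← ell_add_div hK _ (mul_ne_zero hw hz), Groth.Agent.FF.div_mul hK hw hz,
      show C - Finsupp.single Q 2 + (FunFld.div k w + FunFld.div k z) = 0 from by
        have e : (Finsupp.single Q 4 : Divisor k K) = Finsupp.single Q 2 + Finsupp.single Q 2 := by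
          rw [← Finsupp.single_add]; norm_num
        rw [e] at hez
        linear_combination (norm := abel) hew + hez]
    exact ell_zero hK
  have hrr2 := riemann_roch hK hC (Finsupp.single Q 2 : Divisor k K)
  rw [hC2, deg_single_ac hK, hg] at hrr2
  push_cast at hrr2
  have hPQ : (ell (Finsupp.single P 1 + Finsupp.single Q 2 : Divisor k K) : ℤ) = 2 := by
    have := ell_of_deg_large hK (D := (Finsupp.single P 1 + Finsupp.single Q 2 : Divisor k K))
      (by rw [deg_add, deg_single_ac hK, deg_single_ac hK, hg]; norm_num)
    rw [deg_add, deg_single_ac hK, deg_single_ac hK, hg] at this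
    push_cast at this; omega
  haveI := finite_L hK (Finsupp.single P 1 + Finsupp.single Q 2 : Divisor k K)
  have hsame : L (Finsupp.single Q 2 : Divisor k K) = L (Finsupp.single P 1 + Finsupp.single Q 2 : Divisor k K) :=
    Submodule.eq_of_le_of_finrank_eq (L_mono (le_add_of_nonneg_left (Finsupp.single_nonneg.2 zero_le_one)))
      (show ell _ = ell _ by omega)
  have hdw : FunFld.div k w = Finsupp.single A 3 - Finsupp.single P 1 - Finsupp.single Q 2 := by
    linear_combination (norm := abel) hew
  have hmem : w ∈ L (Finsupp.single P 1 + Finsupp.single Q 2 : Divisor k K) := (mem_L_iff_ord hw).2 fun R => by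
    rw [← div_apply hK, hdw]
    simp only [Finsupp.coe_add, Pi.add_apply, Finsupp.coe_sub, Pi.sub_apply, Finsupp.single_apply]
    split_ifs <;> norm_num
  rw [← hsame] at hmem
  have := (mem_L_iff_ord hw).1 hmem P
  rw [← div_apply hK, hdw] at this
  simp only [Finsupp.coe_sub, Pi.sub_apply, Finsupp.single_apply, if_neg hP.symm, if_true] at this
  split_ifs at this <;> omega

end Groth.Agent.S17250
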