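import Groth.Statements.S17251
import Mathlib
import Groth.Agent.FF.Series

set_option autoImplicit false
open FunFld
open Groth.Agent.FF

namespace Groth.Agent.S17251

/-- Let `K/k` be a function field of one variable of genus two over an algebraically closed field `k` of
characteristic zero (a smooth curve `Y` of genus `2`), `C` a canonical divisor, `B` a place with
`ℓ(2B) = 1` (not a Weierstrass point) and `Q ≠ B` a place. Then `ℓ(C + B - 2Q) = 1` and `ℓ(C + 3B -
4Q) = 1` do not both hold: the complete systems `H⁰(ω_Y(B))` (dimension `2`, degree `3`) and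
`H⁰(ω_Y(3B))` (dimension `4`, degree `5`) have no ramification point in common on `Y` minus `B`.
(The published statement concerns a general pointed curve `(Y, B)` of genus two over the complex
numbers; this row assumes only `ℓ(2B) = 1`.) -/
theorem result
    (k K : Type*) [Field k] [IsAlgClosed k] [CharZero k] [Field K] [Algebra k K]
    (hK : FunFld.IsFunctionField k K) (hg : FunFld.genus k K = 2)
    (C : FunFld.Divisor k K) (hC : FunFld.IsCanonical k K C)
    (B Q : FunFld.Place k K) (hB : Module.finrank k ↥(FunFld.L (Finsupp.single B (2 : ℤ))) = 1) (hQ : Q ≠ B) :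
    ¬ (Module.finrank k ↥(FunFld.L (C + Finsupp.single B (1 : ℤ) - Finsupp.single Q (2 : ℤ))) = 1 ∧
       Module.finrank k ↥(FunFld.L (C + Finsupp.single B (3 : ℤ) - Finsupp.single Q (4 : ℤ))) = 1) := by
  classical
  rintro ⟨h1, h3⟩
  change ell _ = 1 at h1
  change ell _ = 1 at h3
  change ell _ = 1 at hB
  obtain ⟨hl, hd⟩ := canonical_deg hK hC
  rw [hg] at hd hl; push_cast at hd
  have hl3 : ∀ E : Divisor k K, E.deg = 3 → ell E = 2 := fun E hE => by
    have := ell_of_deg_large hK (D := E) (by rw [hg, hE]; norm_num)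
    rw [hg, hE] at this; push_cast at this; omega
  have hbase : ∀ (E : Divisor k K) (R : Place k K) (u : K), E.deg = 2 → ell E = 2 → u ≠ 0 →
      u ∈ L (E + Finsupp.single R 1) → u ∈ L E := fun E R u hE hE2 _ hu => by
    haveI := finite_L hK (E + Finsupp.single R 1)
    rwa [Submodule.eq_of_le_of_finrank_eq (L_mono (le_add_of_nonneg_right (Finsupp.single_nonneg.2 zero_le_one)) :
      L E ≤ L (E + Finsupp.single R 1)) (show ell _ = ell _ by
        rw [hE2, hl3 _ (by rw [deg_add, hE, deg_single_ac hK]; norm_num)])]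
  obtain ⟨u, hu, huL⟩ := exists_ne_zero_of_ell_pos (D := C + Finsupp.single B 1 - Finsupp.single Q 2) (by rw [h1]; norm_num)
  obtain ⟨R, -, hR⟩ := exists_eq_single_of_deg_one hK (le_add_div_of_mem_L hK hu huL)
    (by rw [deg_add, deg_div hK, deg_sub_single hK, deg_add, deg_single_ac hK, hd]; norm_num)
  have hdu : FunFld.div k u = Finsupp.single R 1 + Finsupp.single Q 2 - Finsupp.single B 1 - C := by
    linear_combination (norm := abel) hR
  have huC : u ∈ L C := hbase C B u hd hl hu ((mem_L_iff_ord hu).2 fun S => by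
    rw [← div_apply hK, hdu]
    simp only [Finsupp.coe_add, Pi.add_apply, Finsupp.coe_sub, Pi.sub_apply, Finsupp.single_apply]
    split_ifs <;> omega)
  have hRB : R = B := by
    by_contra hne
    have := (mem_L_iff_ord hu).1 huC B
    rw [← div_apply hK, hdu] at this
    simp only [Finsupp.coe_add, Pi.add_apply, Finsupp.coe_sub, Pi.sub_apply, Finsupp.single_apply, if_neg hne,
      if_neg hQ, if_true] at this
    omega
  subst hRB
  have hQ2 : ell (Finsupp.single Q 2 : Divisor k K) = 2 := by
    rw [← hl, ← ell_add_div hK C hu, hdu]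
    congr 1; abel
  obtain ⟨v, hv, hvL⟩ := exists_ne_zero_of_ell_pos (D := C + Finsupp.single R 3 - Finsupp.single Q 4) (by rw [h3]; norm_num)
  obtain ⟨S, -, hS⟩ := exists_eq_single_of_deg_one hK (le_add_div_of_mem_L hK hv hvL)
    (by rw [deg_add, deg_div hK, deg_sub_single hK, deg_add, deg_single_ac hK, hd]; norm_num)
  have hdw : FunFld.div k (u * v⁻¹) = Finsupp.single R 3 - Finsupp.single S 1 - Finsupp.single Q 2 := by
    rw [Groth.Agent.FF.div_mul hK hu (inv_ne_zero hv), Groth.Agent.FF.div_inv hK, hdu]
    have e : (Finsupp.single Q 4 : Divisor k K) = Finsupp.single Q 2 + Finsupp.single Q 2 := by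
      rw [← Finsupp.single_add]; norm_num
    rw [e] at hS
    linear_combination (norm := abel) -hS
  set w := u * v⁻¹
  have hw : w ≠ 0 := mul_ne_zero hu (inv_ne_zero hv)
  have hwQ : w ∈ L (Finsupp.single Q 2 : Divisor k K) := hbase _ S w (deg_single_ac hK Q 2) hQ2 hw
    ((mem_L_iff_ord hw).2 fun T => by
      rw [← div_apply hK, hdw]
      simp only [Finsupp.coe_add, Pi.add_apply, Finsupp.coe_sub, Pi.sub_apply, Finsupp.single_apply]
      split_ifs <;> omega)
  have hSR : S = R := by
    by_contra hne
    have := (mem_L_iff_ord hw).1 hwQ S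
    rw [← div_apply hK, hdw] at this
    simp only [Finsupp.coe_sub, Pi.sub_apply, Finsupp.single_apply, if_neg (Ne.symm hne), if_true] at this
    split_ifs at this <;> omega
  subst hSR
  have hmem : w⁻¹ ∈ L (Finsupp.single S 2 : Divisor k K) := (mem_L_iff_ord (inv_ne_zero hw)).2 fun T => by
    rw [← div_apply hK, Groth.Agent.FF.div_inv hK, hdw]
    simp only [Finsupp.coe_neg, Pi.neg_apply, Finsupp.coe_sub, Pi.sub_apply, Finsupp.single_apply]
    split_ifs <;> omega
  haveI := finite_L hK (Finsupp.single S 2 : Divisor k K)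
  rw [← Submodule.eq_of_le_of_finrank_eq (L_mono (Finsupp.single_nonneg.2 (by norm_num)) :
      L (0 : Divisor k K) ≤ L (Finsupp.single S 2)) (show ell _ = ell _ by rw [hB, ell_zero hK]),
    L_zero hK, Submodule.mem_one] at hmem
  obtain ⟨c, hc⟩ := hmem
  have h0 : FunFld.div k w⁻¹ = 0 := by rw [← hc]; exact div_algebraMap hK c
  rw [Groth.Agent.FF.div_inv hK, hdw] at h0
  have := DFunLike.congr_fun h0 Q
  simp only [Finsupp.coe_neg, Pi.neg_apply, Finsupp.coe_sub, Pi.sub_apply, Finsupp.single_apply, if_neg hQ.symm,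
    if_true, Finsupp.coe_zero, Pi.zero_apply] at this
  omega

end Groth.Agent.S17251
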