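import Groth.Statements.S17252
import Groth.Agent.AbSchLib.Main
import Groth.Agent.AVLib.GeomInt

set_option autoImplicit false
universe u
open CategoryTheory CategoryTheory.Limits MonoidalCategory CartesianMonoidalCategory MonObj GrpObj AlgebraicGeometry
open AbSch

namespace Groth.Agent.S17252

open CategoryTheory CategoryTheory.Limits AlgebraicGeometry

open Groth.Agent CategoryTheory.Limits
set_option backward.isDefEq.respectTransparency false

/-- Let S be a scheme, A an abelian scheme over S (an S-group scheme whose structure morphism is smooth
and proper with geometrically connected fibres) and m an integer whose image in Γ(S, O_S) is a unit.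
Then multiplication by m, the m-th power [m] of the identity in the group of S-endomorphisms of A,
is surjective locally for the étale topology: for every S-scheme T and every α ∈ A(T) there are an
étale surjective S-morphism φ : T′ → T and β ∈ A(T′) with [m] ∘ β = α ∘ φ. With A[m] the kernel of
[m], this is the exactness on the right of the Kummer sequence 0 → A[m] → A → A → 0 of étale
sheaves; in particular it holds for every étale S-scheme T, the case expressing exactness on the
small étale site of S, and it is stated here for all S-schemes T. -/
theorem result {S : Scheme.{u}} (A : Over S) [GrpObj A]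
    [Smooth A.hom] [IsProper A.hom] [GeometricallyConnected A.hom]
    (m : ℤ) (hm : IsUnit (m : Γ(S, ⊤))) (T : Over S) (α : T ⟶ A) :
    ∃ (T' : Over S) (φ : T' ⟶ T) (β : T' ⟶ A),
      Etale φ.left ∧ Surjective φ.left ∧ β ≫ (𝟙 A ^ m) = φ ≫ α := by
  haveI := AVLib.geometricallyReduced_of_smooth A.hom
  haveI := (AbSchLib.etale_zpow A m hm).2
  have hs : Surjective (𝟙 A ^ m : A ⟶ A).left := by
    by_cases h0 : m = 0
    · subst h0
      rw [Int.cast_zero, isUnit_zero_iff] at hm
      haveI : IsEmpty A.left := by
        refine ⟨fun x => ?_⟩
        have := congrArg (S.presheaf.germ ⊤ (A.hom x) trivial ≫ S.residue (A.hom x)).hom hm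
        rw [map_zero, map_one] at this
        exact zero_ne_one this
      exact ⟨fun x => isEmptyElim x⟩
    · exact (AbSchLib.zpow_spec A m h0).2.2
  let u := (𝟙 A ^ m : A ⟶ A)
  refine ⟨Over.mk (pullback.fst α.left u.left ≫ T.hom), Over.homMk (pullback.fst α.left u.left) rfl,
    Over.homMk (pullback.snd α.left u.left) ?_, MorphismProperty.pullback_fst _ _ ‹_›,
    MorphismProperty.pullback_fst _ _ hs, ?_⟩
  · show pullback.snd α.left u.left ≫ A.hom = pullback.fst α.left u.left ≫ T.hom
    have h1 := (pullback.condition (f := α.left) (g := u.left)) =≫ A.hom
    rw [Category.assoc, Category.assoc, Over.w α, Over.w u] at h1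
    exact h1.symm
  · exact Over.OverMorphism.ext pullback.condition.symm

end Groth.Agent.S17252
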