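import Groth.Statements.S17258
import Groth.Agent.SubAdjLib.Count

set_option autoImplicit false
universe u
open Curves

namespace Groth.Agent.S17258

open CategoryTheory CategoryTheory.Limits AlgebraicGeometry

set_option backward.isDefEq.respectTransparency false
set_option backward.isDefEq.respectTransparency.types false
set_option linter.style.haveILetI false
set_option maxHeartbeats 1000000
open Groth.Agent.SubAdjLib Groth.Agent.CliffCurveLib
attribute [local instance] HasDerivedCategory.standard

open CategoryTheory AlgebraicGeometry in
/-- Let Ω be an algebraically closed field of characteristic zero and let C be a scheme proper over Ω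
which is connected, of dimension one and has at-worst-nodal singularities. Then the first cohomology
of the structure sheaf of C vanishes if and only if C is a rational tree: every irreducible
component of C is the image of a closed immersion of the projective line over Ω, and the number of
nodes of C plus one equals the number of irreducible components. (The source phrases the second
condition as the absence of closed chains of components; for a connected nodal curve whose
components are projective lines the two conditions agree, a connected graph being a tree exactly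
when it has one more vertex than edges. The source takes Ω an algebraically closed extension of the
complex numbers.) -/
theorem result (Ω : Type u) [Field Ω] [IsAlgClosed Ω] [CharZero Ω]
    (C : Scheme.{u}) [C.Over (Spec (CommRingCat.of Ω))] [IsProper (C ↘ Spec (CommRingCat.of Ω))]
    [ConnectedSpace ↥C] (hdim : topologicalKrullDim ↥C = 1) (hnod : Curv2.AtWorstNodal Ω C) :
    Curv2.genus Ω C = 0 ↔
      ((∀ E ∈ irreducibleComponents (↥C : Type u), CurvSt.IsSmRatComp Ω C (C ↘ Spec (CommRingCat.of Ω)) E) ∧
        {x : ↥C | Curv2.IsNode Ω C x}.encard + 1 = (irreducibleComponents (↥C : Type u)).encard) := by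
  classical
  haveI := EulerIneqLib.isNoetherian_proper (X := C) Ω
  haveI := NodePtLib.isReduced_of_atWorstNodal
    (fun _ hZ => TwistShriek.dim_irreducibleComponent Ω hdim hZ) hnod
  have hfinC : (irreducibleComponents (↥C : Type u)).Finite :=
    TopologicalSpace.NoetherianSpace.finite_irreducibleComponents
  haveI := hfinC.fintype
  obtain ⟨hfinD, hform⟩ := genus_eq_count Ω hdim hnod
  have key : (∀ E ∈ irreducibleComponents (↥C : Type u), CurvSt.IsSmRatComp Ω C (C ↘ Spec (CommRingCat.of Ω)) E) →
      {x : ↥C | Curv2.IsNode Ω C x} = doublePts (X := C) Finset.univ ∧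
      ∑ E : irreducibleComponents (↥C : Type u), (1 - (gS Ω (compo E.2) : ℤ)) = (irreducibleComponents (↥C : Type u)).ncard := by
    intro hall
    refine ⟨Set.Subset.antisymm (fun x hx => ?_) ?_, ?_⟩
    · obtain ⟨C', hC', hne, hx'⟩ := exists_other_component (irreducibleComponent_mem_irreducibleComponents x)
        (exists_two_of_node Ω hdim hx (irreducibleComponent_mem_irreducibleComponents x) mem_irreducibleComponent
          (hall _ (irreducibleComponent_mem_irreducibleComponents x)))
      exact ⟨⟨_, irreducibleComponent_mem_irreducibleComponents x⟩, Finset.mem_univ _, ⟨C', hC'⟩, Finset.mem_univ _,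
        fun e => hne (congrArg Subtype.val e).symm, mem_irreducibleComponent, hx'⟩
    · rintro x ⟨A, -, B, -, hne, hxA, hxB⟩
      exact boundary_subset_nodes Ω hdim hnod (isSub_compo Ω hdim A.2)
        ⟨hxA, subset_closure_compl A.2 B.2 (fun e => hne (Subtype.ext e.symm)) hxB⟩
    · rw [Finset.sum_congr rfl fun E _ => by rw [(isSmRatComp_iff Ω hdim E.2).1 (hall _ E.2)]]
      simp only [Nat.cast_zero, sub_zero, Finset.sum_const, Finset.card_univ, nsmul_one, ← Nat.card_eq_fintype_card,
        Nat.card_coe_set_eq]
  constructor
  · intro hg
    have hall : ∀ E ∈ irreducibleComponents (↥C : Type u), CurvSt.IsSmRatComp Ω C (C ↘ Spec (CommRingCat.of Ω)) E :=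
      fun E hE => (isSmRatComp_iff Ω hdim hE).2 (by
        have := gS_le_genus Ω hdim.le (compo hE)
        omega)
    obtain ⟨hN, hsum⟩ := key hall
    refine ⟨hall, ?_⟩
    rw [hsum, hg] at hform
    rw [hN, ← hfinD.cast_ncard_eq, ← hfinC.cast_ncard_eq]
    have h2 : (doublePts (X := C) Finset.univ).ncard + 1 = (irreducibleComponents (↥C : Type u)).ncard := by omega
    exact_mod_cast h2
  · rintro ⟨hall, hcount⟩
    obtain ⟨hN, hsum⟩ := key hall
    rw [hN, ← hfinD.cast_ncard_eq, ← hfinC.cast_ncard_eq] at hcount
    have h2 : (doublePts (X := C) Finset.univ).ncard + 1 = (irreducibleComponents (↥C : Type u)).ncard := by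
      exact_mod_cast hcount
    rw [hsum] at hform
    omega

end Groth.Agent.S17258
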