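import Mathlib
import Groth.Statements.S17259

set_option autoImplicit false
open CAlg

namespace Groth.Agent.S17259

/-- Let A, B, C be rings, f : B → A and g : B → C ring homomorphisms, and φ : A → B a homomorphism of
additive groups such that the sequence A → B → C → 0 (maps φ, g) is exact and f ∘ φ is
multiplication by a central element a of A which is not a zero divisor. Then the projection p : A →
A/(a) composed with f factors through g as a ring homomorphism q : C → A/(a), the homomorphism (f,
g) : B → A × C is injective, and its image is the fibre product of A and C over A/(a) along p and q;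
thus (f, g) is a ring isomorphism from B onto that fibre product. (The two-sidedness of the ideal
generated by a, automatic for a central element, is carried as an instance hypothesis.) -/
theorem result {A B C : Type*} [Ring A] [Ring B] [Ring C]
    (f : B →+* A) (g : B →+* C) (φ : A →+ B) (a : A)
    (hc : ∀ x : A, Commute a x) (ha : a ∈ nonZeroDivisors A)
    (hex : Function.Exact φ g) (hg : Function.Surjective g)
    (hφ : ∀ x : A, f (φ x) = a * x)
    [(Ideal.span ({a} : Set A)).IsTwoSided] :
    ∃ q : C →+* A ⧸ Ideal.span ({a} : Set A),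
      q.comp g = (Ideal.Quotient.mk (Ideal.span ({a} : Set A))).comp f ∧
      Function.Injective (f.prod g) ∧
      (f.prod g).range = (Ideal.Quotient.mk (Ideal.span ({a} : Set A))).pullback q := by
  classical
  have hinj : Function.Injective (f.prod g) := by
    refine (injective_iff_map_eq_zero _).2 fun b hb => ?_
    obtain ⟨h1, h2⟩ : f b = 0 ∧ g b = 0 := ⟨congrArg Prod.fst hb, congrArg Prod.snd hb⟩
    obtain ⟨x, rfl⟩ := (hex b).1 h2
    rw [hφ] at h1
    rw [ha.1 x h1, map_zero]
  have hker : ∀ b, g b = 0 → Ideal.Quotient.mk (Ideal.span ({a} : Set A)) (f b) = 0 := by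
    intro b hb
    obtain ⟨x, rfl⟩ := (hex b).1 hb
    rw [hφ, Ideal.Quotient.eq_zero_iff_mem, (hc x).eq]
    exact Ideal.mul_mem_left _ _ (Ideal.mem_span_singleton_self a)
  let q : C →+* A ⧸ Ideal.span ({a} : Set A) :=
    g.liftOfSurjective hg ⟨(Ideal.Quotient.mk _).comp f, fun b hb => RingHom.mem_ker.2 (hker b hb)⟩
  have hq : ∀ b, q (g b) = Ideal.Quotient.mk _ (f b) := fun b => g.liftOfRightInverse_comp_apply _ _ _ b
  refine ⟨q, RingHom.ext hq, hinj, SetLike.ext fun z => ⟨?_, fun hz => ?_⟩⟩
  · rintro ⟨b, rfl⟩
    exact (hq b).symm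
  · have hz' : Ideal.Quotient.mk (Ideal.span ({a} : Set A)) z.1 = q z.2 := hz
    obtain ⟨b, hb⟩ := hg z.2
    rw [← hb, hq, Ideal.Quotient.eq, Ideal.mem_span_singleton'] at hz'
    obtain ⟨x, hx⟩ := hz'
    refine ⟨b + φ x, Prod.ext ?_ ?_⟩
    · show f (b + φ x) = z.1
      rw [map_add, hφ, (hc x).eq, hx]
      abel
    · show g (b + φ x) = z.2
      rw [map_add, (hex (φ x)).2 ⟨x, rfl⟩, add_zero, hb]

end Groth.Agent.S17259
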