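import Groth.Statements.S17262
import Groth.Agent.SubAdjLib.FewNodes

set_option autoImplicit false
universe u
open CategoryTheory CategoryTheory.Limits AlgebraicGeometry
attribute [local instance] HasDerivedCategory.standard
open Curves

namespace Groth.Agent.S17262

open CategoryTheory CategoryTheory.Limits AlgebraicGeometry

set_option backward.isDefEq.respectTransparency false
set_option backward.isDefEq.respectTransparency.types false
set_option linter.style.haveILetI false
set_option maxHeartbeats 1000000
open Groth.Agent.SubAdjLib Groth.Agent.CliffCurveLib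
attribute [local instance] HasDerivedCategory.standard

/-- Let Ω be an algebraically closed field of characteristic zero and C a scheme proper over Ω which is
connected, of dimension one, at-worst-nodal, with vanishing first cohomology of the structure sheaf,
and with at most three nodes. Let ω be the dualizing module of C over Ω (via the upper-shriek
functor, whose existence is assumed) and ω' an O_C-module with ω' ⊗ ω ≅ O_C. Then ω ⊗ ω has no
nonzero global sections, the first cohomology of ω' vanishes, and the global sections of ω' form a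
three-dimensional Ω-vector space. (The source states that for a family of such curves with at most
three nodes in each fibre the direct image of the inverse of the relative dualizing sheaf is locally
free of rank three and commutes with base change; this row is the statement on each geometric fibre
from which that follows. The published statement is over the complex numbers; it is stated here over
any algebraically closed field of characteristic zero.) -/
theorem result (Ω : Type u) [Field Ω] [IsAlgClosed Ω] [CharZero Ω]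
    (C : Scheme.{u}) [C.Over (Spec (CommRingCat.of Ω))] [IsProper (C ↘ Spec (CommRingCat.of Ω))] [ConnectedSpace ↥C]
    (hdim : topologicalKrullDim ↥C = 1) (hnod : Curv2.AtWorstNodal Ω C) (hg : Curv2.genus Ω C = 0)
    (h3 : {x : ↥C | Curv2.IsNode Ω C x}.encard ≤ 3)
    [DCoh.HasRpush (C ↘ Spec (CommRingCat.of Ω))] (h : DCoh.RpushPreservesQCoh (C ↘ Spec (CommRingCat.of Ω))) [DCoh.HasShriek (C ↘ Spec (CommRingCat.of Ω)) h]
    (OY : DCoh.DQCoh (Spec (CommRingCat.of Ω))) (hOY : Nonempty (OY.obj ≅ DCoh.inD (Spec (CommRingCat.of Ω)) (Coh.structureModule (Spec (CommRingCat.of Ω)))))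
    (ωd : C.Modules) (hωd : ClSub.IsInverseOf ωd (DCoh.dualizingMod (C ↘ Spec (CommRingCat.of Ω)) h OY 1)) :
    Subsingleton (Coh.HH C (CohB1.tensorPow (DCoh.dualizingMod (C ↘ Spec (CommRingCat.of Ω)) h OY 1) 2) 0) ∧
      Subsingleton (Coh.HH C ωd 1) ∧ Module.finrank Ω (Coh.HH C ωd 0) = 3 := by
  haveI := EulerIneqLib.isNoetherian_proper (X := C) Ω
  haveI := NodePtLib.isReduced_of_atWorstNodal
    (fun _ hZ => TwistShriek.dim_irreducibleComponent Ω hdim hZ) hnod
  have hGor := isInvertible_dualizingMod_nodal h OY hOY hdim hnod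
  have hωd' : PicF.IsInvertible ωd := AmpleLib.isInvertible_of_tensor_iso hωd.some
  have hg0 : ∀ S : TopologicalSpace.Closeds C, gS Ω S = 0 := fun S => by
    have h1 := gS_le_genus Ω hdim.le S
    omega
  have hg1 : Subsingleton (Coh.HH C (Coh.structureModule C) 1) := by
    haveI := EulerIneqLib.finite_HH (k := Ω) (DevLib.isCoh_structureModule C) 1
    exact (Module.finrank_eq_zero_iff_of_free Ω _).1 hg
  have hfin : {x : ↥C | Curv2.IsNode Ω C x}.Finite := Set.finite_of_encard_le_coe (k := 3) h3
  have h3' : {x : ↥C | Curv2.IsNode Ω C x}.ncard ≤ 3 := by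
    rw [← Nat.cast_le (α := ℕ∞), hfin.cast_ncard_eq]
    exact h3
  have hkc : ∀ S, IsSub S → ((S : Set C) ∩ SubAdjLib.compl S).ncard ≤ 3 := fun S hS =>
    (Set.ncard_le_ncard (boundary_subset_nodes Ω hdim hnod hS) hfin).trans h3'
  have hw : ∀ S, IsSub S → degS Ω (DCoh.dualizingMod (C ↘ Spec (CommRingCat.of Ω)) h OY 1) S = -2 + (((S : Set C) ∩ SubAdjLib.compl S).ncard : ℤ) := fun S hS => by
    rw [degS_omega Ω hdim h OY hOY hGor hS, kc_eq_card Ω hdim hnod hS, hg0, Nat.card_coe_set_eq]
    simp
  have hwd : ∀ S, IsSub S → degS Ω ωd S = - degS Ω (DCoh.dualizingMod (C ↘ Spec (CommRingCat.of Ω)) h OY 1) S := fun S hS => by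
    have h1 := degS_tensor Ω hωd' hGor hdim.le hS
    rw [degS_iso Ω hωd.some, degS_unit] at h1
    omega
  haveI hH1 : Subsingleton (Coh.HH C ωd 1) := subsingleton_H1_of_degS Ω hdim hωd' fun S hS => by
    rw [hwd S hS, hw S hS, hg0]
    have := hkc S hS
    omega
  refine ⟨?_, hH1, ?_⟩
  · obtain ⟨E₀, hE₀, hmax⟩ : ∃ E₀, ∃ _ : E₀ ∈ irreducibleComponents (C : Type u), ∀ E ∈ irreducibleComponents (C : Type u),
        E ≠ E₀ → (E ∩ closure Eᶜ).ncard ≤ 2 := by
      by_cases hex : ∃ E ∈ irreducibleComponents (C : Type u), 3 ≤ (E ∩ closure Eᶜ).ncard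
      · obtain ⟨E₀, hE₀, hcard⟩ := hex
        refine ⟨E₀, hE₀, fun E hE hne => not_lt.1 fun h3E => ?_⟩
        have hA := isSub_compo Ω hdim hE
        have hB := isSub_compo Ω hdim hE₀
        have hd : topologicalKrullDim ((compo hE : Set C) ∩ compo hE₀ : Set C) ≤ 0 :=
          CliffCurveLib.dim_mono (Set.inter_subset_inter_right _ (SubAdjLib.subset_closure_compl hE hE₀ hne.symm))
            (dim_compl_inter Ω hdim.le (compo hE))
        have e1 : E ∩ closure Eᶜ = {x : ↥C | Curv2.IsNode Ω C x} :=
          Set.eq_of_subset_of_ncard_le (boundary_subset_nodes Ω hdim hnod hA) (h3'.trans h3E) hfin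
        have e2 : E₀ ∩ closure E₀ᶜ = {x : ↥C | Curv2.IsNode Ω C x} :=
          Set.eq_of_subset_of_ncard_le (boundary_subset_nodes Ω hdim hnod hB) (h3'.trans hcard) hfin
        have hsub : E ∩ closure Eᶜ ⊆ (compo hE : Set C) ∩ compo hE₀ := fun x hx =>
          ⟨hx.1, (e2.symm ▸ e1 ▸ hx : x ∈ E₀ ∩ closure E₀ᶜ).1⟩
        have h1 := (card_inter_le_kk Ω (compo hE) (compo hE₀) hd).trans (kk_le_one_of_tree Ω hdim hg0 hA hB hd)
        rw [Nat.card_coe_set_eq] at h1
        have h2 := Set.ncard_le_ncard hsub (CurveLib.finite_of_dim_le_zero ((compo hE).isClosed.inter (compo hE₀).isClosed) hd)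
        omega
      · push Not at hex
        exact ⟨irreducibleComponent (Classical.arbitrary C), irreducibleComponent_mem_irreducibleComponents _,
          fun E hE _ => Nat.le_of_lt_succ (hex E hE)⟩
    refine subsingleton_H0_tree Ω hdim hnod hg1 (AmpleLib.isInvertible_tensorPow hGor 2) hE₀ fun E hE => ⟨fun _ => ?_, fun hne => ?_⟩
    · rw [degS_tensorPow Ω hGor hdim.le (isSub_compo Ω hdim hE), hw _ (isSub_compo Ω hdim hE)]
      have := hkc _ (isSub_compo Ω hdim hE)
      show (2 : ℤ) * (-2 + ((E ∩ closure Eᶜ).ncard : ℤ)) ≤ _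
      change (E ∩ closure Eᶜ).ncard ≤ 3 at this
      omega
    · rw [degS_tensorPow Ω hGor hdim.le (isSub_compo Ω hdim hE), hw _ (isSub_compo Ω hdim hE)]
      have := hmax E hE hne
      show (2 : ℤ) * (-2 + ((E ∩ closure Eᶜ).ncard : ℤ)) ≤ _
      omega
  · have hS := isSub_top (X := C) hdim
    have h1 := hwd _ hS
    rw [omega_top Ω hdim h OY hOY hGor, hg, degS_top] at h1
    have h2 := euler_quot Ω hdim.le hS
    rw [gS_top, hg] at h2
    have h4 : Curv2.euler Ω C (ClSub.quotMod (vI (⊤ : TopologicalSpace.Closeds C))) = Curv2.euler Ω C (Coh.structureModule C) :=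
      CurveLib.euler_iso (K := Ω) ((DCohLib.tensorStructureIso _).symm ≪≫
        CategoryTheory.eqToIso (congrArg (fun J => H1ZeroLib.LJ J (Coh.structureModule C)) (vI_top (X := C))) ≪≫ ljBot _)
    unfold Curv2.deg at h1
    rw [h4] at h2
    rw [CurveLib.euler_eq_sub (k := Ω) (M := ωd) hdim.le,
      Module.finrank_zero_of_subsingleton (R := Ω) (M := Coh.HH C ωd 1)] at h1
    simp only [Nat.cast_one, one_mul] at h1
    omega

end Groth.Agent.S17262
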