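import Groth.Statements.S17266
import Groth.Agent.ASt.FibMaps
import Groth.Agent.ASt.Fp
-- import your own Groth.Agent.* helpers here

set_option autoImplicit false
open CategoryTheory
universe v u
open Stk

namespace Groth.Agent.S17266

/-- Let C be a category with a Grothendieck topology J and let F : 𝒳 → 𝒴, G : 𝒴 → 𝒵 be functors over C
between categories fibred in groupoids over C. Say that a functor H : 𝒜 → ℬ over C is covering when
for every object U of C and every functor b : C/U → ℬ over C there is a J-covering sieve of U such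
that for each of its arrows h : V → U the composite of C/V → C/U with b is 2-isomorphic over C to H
∘ a for some functor a : C/V → 𝒜 over C (locally on the base every object of ℬ lifts to 𝒜 up to
isomorphism). If F and G are covering, then the composite G ∘ F is covering. -/
theorem result {C : Type u} [Category.{v} C] (J : GrothendieckTopology C)
    {𝒳 𝒴 𝒵 : BasedCategory.{v, max u v} C}
    (h𝒳 : FibCat.IsFibGrpd 𝒳.p) (h𝒴 : FibCat.IsFibGrpd 𝒴.p) (h𝒵 : FibCat.IsFibGrpd 𝒵.p)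
    (F : 𝒳 ⥤ᵇ 𝒴) (G : 𝒴 ⥤ᵇ 𝒵)
    (hF : (∀ (U : C) (y : FibCat.overCat U ⥤ᵇ 𝒴), ∃ R ∈ J U, ∀ ⦃V : C⦄ (h : V ⟶ U), R.arrows h →
        ∃ x : FibCat.overCat V ⥤ᵇ 𝒳,
          Nonempty (BasedFunctor.comp x F ≅ BasedFunctor.comp (⟨Over.map h, Over.mapForget_eq h⟩ : FibCat.overCat V ⥤ᵇ FibCat.overCat U) y)))
    (hG : (∀ (U : C) (y : FibCat.overCat U ⥤ᵇ 𝒵), ∃ R ∈ J U, ∀ ⦃V : C⦄ (h : V ⟶ U), R.arrows h →
        ∃ x : FibCat.overCat V ⥤ᵇ 𝒴,
          Nonempty (BasedFunctor.comp x G ≅ BasedFunctor.comp (⟨Over.map h, Over.mapForget_eq h⟩ : FibCat.overCat V ⥤ᵇ FibCat.overCat U) y))) :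
    (∀ (U : C) (y : FibCat.overCat U ⥤ᵇ 𝒵), ∃ R ∈ J U, ∀ ⦃V : C⦄ (h : V ⟶ U), R.arrows h →
        ∃ x : FibCat.overCat V ⥤ᵇ 𝒳,
          Nonempty (BasedFunctor.comp x (BasedFunctor.comp F G) ≅ BasedFunctor.comp (⟨Over.map h, Over.mapForget_eq h⟩ : FibCat.overCat V ⥤ᵇ FibCat.overCat U) y)) := by
  intro U z
  obtain ⟨R, hR, h⟩ := hG U z
  choose y hy using @h
  have hS : ∀ ⦃V : C⦄ (k : V ⟶ U) (hk : R.arrows k), ∃ S ∈ J V, ∀ ⦃W : C⦄ (l : W ⟶ V), S.arrows l →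
      ∃ x : FibCat.overCat W ⥤ᵇ 𝒳, Nonempty (BasedFunctor.comp x F ≅
        BasedFunctor.comp (⟨Over.map l, Over.mapForget_eq l⟩ : FibCat.overCat W ⥤ᵇ FibCat.overCat V) (y k hk)) :=
    fun V k hk => hF V (y k hk)
  choose S hSJ hx using hS
  refine ⟨Sieve.bind R.arrows S, J.bind_covering hR hSJ, ?_⟩
  rintro W _ ⟨V, l, k, hk, hl, rfl⟩
  obtain ⟨x, ⟨α⟩⟩ := hx k hk l hl
  obtain ⟨β⟩ := hy k hk
  refine ⟨x, ⟨(Groth.Agent.ASt.wR α G).trans ((Groth.Agent.ASt.wL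
    (⟨Over.map l, Over.mapForget_eq l⟩ : FibCat.overCat W ⥤ᵇ FibCat.overCat V) β).trans
    (Groth.Agent.ASt.wR (Groth.Agent.ASt.funIso
      (y := BasedFunctor.comp (⟨Over.map l, Over.mapForget_eq l⟩ : FibCat.overCat W ⥤ᵇ FibCat.overCat V)
        (⟨Over.map k, Over.mapForget_eq k⟩ : FibCat.overCat V ⥤ᵇ FibCat.overCat U))
      (y' := (⟨Over.map (l ≫ k), Over.mapForget_eq (l ≫ k)⟩ : FibCat.overCat W ⥤ᵇ FibCat.overCat U))
      (Groth.Agent.ASt.ovHom (𝟙 W) (by simp) :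
      Groth.Agent.ASt.ov ((𝟙 W ≫ l) ≫ k) ⟶ Groth.Agent.ASt.ov (𝟙 W ≫ l ≫ k)) rfl) z))⟩⟩

end Groth.Agent.S17266
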