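import Groth.Statements.S17275
import Groth.Agent.KVbLib.Model
import Groth.Agent.VBLib.DualDeg
import Groth.Agent.ExtStabLib.FamilyH0
import Groth.Agent.WeilAVLib.FrobPull
import Groth.Agent.CogenLib.Frob
import Groth.Agent.CurveLib.MaxSections
import Groth.Agent.PBundleLib.Split
import Groth.Agent.DCohLib.Pullback

set_option backward.isDefEq.respectTransparency false
set_option backward.isDefEq.respectTransparency.types false

set_option autoImplicit false
universe u
open CategoryTheory CategoryTheory.Limits AlgebraicGeometry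
open VBCurve

namespace Groth.Agent.S17275

open Groth.Agent

set_option backward.isDefEq.respectTransparency false
set_option linter.style.haveILetI false

section

variable {p : ℕ} [Fact p.Prime] {k : Type u} [Field k] [IsAlgClosed k] {X : Scheme.{u}}
  [X.Over (Spec (CommRingCat.of k))] [IsIntegral X] [IsProper (X ↘ Spec (CommRingCat.of k))]
  [Smooth (X ↘ Spec (CommRingCat.of k))] (hdim : topologicalKrullDim X = 1) [FrobSch.IsCharP X p]

local notation "G" => Functor.obj (Scheme.Modules.pullback (FrobSch.frob X p))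

theorem isFlat_of_rank {n : ℕ} {M : X.Modules} (hM : FlatMod.IsFinLocFreeOfRank n M) : FlatMod.IsFlat M := fun x => by
  obtain ⟨e⟩ := CurveLib.freeAt_of_isFinLocFreeOfRank hM x
  exact Module.Flat.of_linearEquiv e

theorem iterate_rank {n : ℕ} {E : X.Modules} (hE : FlatMod.IsFinLocFreeOfRank n E) (m : ℕ) :
    FlatMod.IsFinLocFreeOfRank n ((G)^[m] E) := by
  induction m with
  | zero => exact hE
  | succ m ih => rw [Function.iterate_succ_apply']; exact PBundleLib.isFinLocFreeOfRank_pullback _ ih

theorem iterate_ses {n : ℕ} {A B Q : X.Modules} (hQ : FlatMod.IsFinLocFreeOfRank n Q)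
    (h : ∃ (i : A ⟶ B) (q : B ⟶ Q) (w : i ≫ q = 0), (ShortComplex.mk i q w).ShortExact) (m : ℕ) :
    ∃ (i : (G)^[m] A ⟶ (G)^[m] B) (q : (G)^[m] B ⟶ (G)^[m] Q) (w : i ≫ q = 0),
      (ShortComplex.mk i q w).ShortExact := by
  induction m with
  | zero => exact h
  | succ m ih =>
    obtain ⟨i, q, w, hS⟩ := ih
    rw [Function.iterate_succ_apply', Function.iterate_succ_apply', Function.iterate_succ_apply']
    exact ⟨_, _, _, DCohLib.shortExact_pullback_of_isFlat (FrobSch.frob X p) _ hS
      (isFlat_of_rank (iterate_rank hQ m))⟩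

include hdim in
theorem deg_iterate {L : X.Modules} (hL : PicF.IsInvertible L) (m : ℕ) :
    PicF.IsInvertible ((G)^[m] L) ∧ Curv2.deg k X ((G)^[m] L) 1 = (p : ℤ) ^ m * Curv2.deg k X L 1 := by
  induction m with
  | zero => exact ⟨hL, by simp⟩
  | succ m ih =>
    rw [Function.iterate_succ_apply']
    obtain ⟨h1, h2⟩ := ih
    refine ⟨AmpleLib.isInvertible_pullback _ h1, ?_⟩
    obtain ⟨e⟩ := WeilAVLib.nonempty_pullback_frob (CogenLib.isQFrob_frob X p) h1
    rw [CurveLib.deg_iso (k := k) e, CurveLib.deg_tensorPow (k := k) hdim.le h1, h2]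
    ring

include hdim in
theorem h0_line {L : X.Modules} (hL : PicF.IsInvertible L) :
    Module.finrank k (Coh.HH X L 0) ≤ (Curv2.deg k X L 1).natAbs + 1 := by
  rcases subsingleton_or_nontrivial (Coh.HH X L 0) with h | h
  · rw [Module.finrank_zero_of_subsingleton]; omega
  · have := (CurveLib.h0_le_deg_add_one (k := k) hdim.le CurveLib.finrank_H0_structure hL).1
    omega

include hdim in
theorem bound : ∀ (r : ℕ) {E : X.Modules}, FlatMod.IsFinLocFreeOfRank r E → ∀ {L : X.Modules}, PicF.IsInvertible L →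
    ∃ M : ℕ, ∀ m : ℕ, Module.finrank k (Coh.HH X (CohB1.tensorMod ((G)^[m] E) L) 0) ≤ M * p ^ m
  | 0, E, hE, L, hL => by
    haveI := EulerIneqLib.isNoetherian_proper (X := X) k
    refine ⟨0, fun m => ?_⟩
    have hz : IsZero (CohB1.tensorMod ((G)^[m] E) L) := (CurveLib.tensR L).map_isZero
      (VBLib.isZero_of_mono (𝟙 _) (VBLib.isCoh_of_rank (iterate_rank hE m)) (iterate_rank hE m)
        (VBLib.grk_of_rank (iterate_rank hE m)))
    haveI : Subsingleton (Coh.HH X (CohB1.tensorMod ((G)^[m] E) L) 0) := by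
      refine subsingleton_of_forall_eq 0 fun z => ?_
      rw [← VBLib.Dual.hMap_id k (CohB1.tensorMod ((G)^[m] E) L) 0 z, (IsZero.iff_id_eq_zero _).1 hz,
        VBLib.Dual.hMap_zero]
    rw [Module.finrank_zero_of_subsingleton]
    exact Nat.zero_le _
  | r + 1, E, hE, L, hL => by
    haveI := EulerIneqLib.isNoetherian_proper (X := X) k
    haveI := VBLib.isRegCurve_of_smooth k (X := X) hdim.le
    obtain ⟨A, Q, f, g, w, hA, hQ, hS⟩ := VBLib.DualDeg.exists_line_quot k hdim hE
    obtain ⟨M, hM⟩ := bound r hQ hL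
    refine ⟨(Curv2.deg k X A 1).natAbs + (Curv2.deg k X L 1).natAbs + 1 + M, fun m => ?_⟩
    obtain ⟨i, q, w', hT⟩ := iterate_ses (p := p) hQ ⟨f, g, w, hS⟩ m
    have hLr := CurveLib.isFinLocFreeOfRank_one hL
    have hT' := CurveLib.shortExact_tensR hT (CurveLib.freeAt_of_isFinLocFreeOfRank hLr)
    obtain ⟨hAi, hdA⟩ := deg_iterate (p := p) (k := k) hdim hA m
    have h := ExtStab.finrank_H0_mid_le k hT'
      (CurveLib.isCoh_tmod (VBLib.isCoh_of_rank (CurveLib.isFinLocFreeOfRank_one hAi)) (VBLib.isCoh_of_rank hLr))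
      (CurveLib.isCoh_tmod (VBLib.isCoh_of_rank (iterate_rank hE m)) (VBLib.isCoh_of_rank hLr))
      (CurveLib.isCoh_tmod (VBLib.isCoh_of_rank (iterate_rank hQ m)) (VBLib.isCoh_of_rank hLr))
    refine h.trans ?_
    rw [add_mul]
    refine Nat.add_le_add ?_ (hM m)
    refine (h0_line hdim (AmpleLib.isInvertible_tensor hAi hL)).trans ?_
    rw [CurveLib.deg_tensor_add (k := k) hdim.le hAi hL, hdA]
    refine (Nat.add_le_add_right (Int.natAbs_add_le _ _) 1).trans ?_
    have hp : 1 ≤ p ^ m := Nat.one_le_pow _ _ (Fact.out : p.Prime).pos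
    rw [Int.natAbs_mul, Int.natAbs_pow, Int.natAbs_natCast]
    nlinarith [Nat.le_mul_of_pos_right (Curv2.deg k X L 1).natAbs hp]

end


/-- Let p be a prime, k an algebraically closed field whose characteristic is p, and X an integral
curve, smooth and proper over k (of dimension one), with absolute Frobenius F : X → X. For every
finite locally free O_X-module E and every invertible O_X-module L there are natural numbers M and N
such that dim_k H⁰(X, (Fⁿ)^*E ⊗ L) ≤ M·pⁿ for all n ≥ N, where (Fⁿ)^* is the n-fold iterate of the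
module pullback along F. (This is the bound established inside the printed proof for vector bundles
on the auxiliary curve, in the case where that curve is a scheme; the printed lemma itself concerns
sheaves on a two-dimensional Deligne–Mumford stack.) -/
theorem result (p : ℕ) [Fact p.Prime]
    (k : Type u) [Field k] [IsAlgClosed k] [CharP k p]
    (X : Scheme.{u}) [X.Over (Spec (CommRingCat.of k))] [IsIntegral X]
    [IsProper (X ↘ Spec (CommRingCat.of k))] [Smooth (X ↘ Spec (CommRingCat.of k))]
    (hdim : topologicalKrullDim X = 1) [FrobSch.IsCharP X p]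
    (E : X.Modules) (hE : FlatMod.IsFinLocFree E) (L : X.Modules) (hL : PicF.IsInvertible L) :
    ∃ M N : ℕ, ∀ n : ℕ, N ≤ n →
      Module.finrank k (Coh.HH X (CohB1.tensorMod
        (((Scheme.Modules.pullback (FrobSch.frob X p)).obj)^[n] E) L) 0) ≤ M * p ^ n := by
  obtain ⟨r, hr⟩ := (⟨_, KVb.rank_of_flf hE⟩ : ∃ r, FlatMod.IsFinLocFreeOfRank r E)
  obtain ⟨M, hM⟩ := bound (p := p) (k := k) hdim r hr hL
  exact ⟨M, 0, fun n _ => hM n⟩

end Groth.Agent.S17275
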