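import Groth.Statements.S17277
import Groth.Agent.VolLib.HiLim
import Groth.Agent.IntLib.Divisor
import Groth.Agent.RefOne.Divisor

set_option autoImplicit false
universe u
open CategoryTheory CategoryTheory.Limits AlgebraicGeometry TopologicalSpace
open Variety

namespace Groth.Agent.S17277

open CategoryTheory CategoryTheory.Limits AlgebraicGeometry

set_option backward.isDefEq.respectTransparency false
set_option linter.style.haveILetI false
open Groth.Agent.HiGrowth Groth.Agent.AmpleLib

/-- Let X be a proper scheme over a field k of dimension d and L an invertible O_X-module that is big: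
there is a real constant c > 0 with dim_k H^0(X, L^{⊗n}) > c·n^d for all sufficiently large n. Then
for every closed subscheme Z ⊆ X of dimension < d, with quasi-coherent ideal sheaf I_Z, there is an
integer m > 0 with H^0(X, I_Z ⊗ L^{⊗m}) ≠ 0. -/
theorem result (k : Type u) [Field k] (X : Scheme.{u})
    [X.Over (Spec (CommRingCat.of k))] [IsProper (X ↘ (Spec (CommRingCat.of k)))]
    (d : ℕ) (hdim : topologicalKrullDim X = d) (L : X.Modules) (hL : PicF.IsInvertible L)
    (hbig : ∃ c : ℝ, 0 < c ∧ ∀ᶠ n : ℕ in Filter.atTop,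
      c * (n : ℝ) ^ d < (Module.finrank k (Coh.HH X (CohB1.tensorPow L n) 0) : ℝ))
    (Z : X.IdealSheafData) (hZ : topologicalKrullDim (Z.support : Set X) < d) :
    ∃ m : ℕ, 0 < m ∧
      Nontrivial (Coh.HH X (CohB1.tensorMod (ClSub.idealMod Z) (CohB1.tensorPow L m)) 0) := by
  haveI := EulerIneqLib.isNoetherian_proper (X := X) k
  haveI := Groth.Agent.SerreAff.epi_unitToPush Z.subschemeι
  haveI : Mono (ClSub.idealModι Z) := inferInstanceAs (Mono (kernel.ι _))
  let S : ShortComplex X.Modules := ShortComplex.mk (ClSub.idealModι Z) (ClSub.toSubscheme Z) (kernel.condition _)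
  have hS : S.ShortExact := ShortComplex.ShortExact.mk'
    (ShortComplex.exact_of_f_is_kernel _ (kernelIsKernel _)) (inferInstanceAs (Mono (ClSub.idealModι Z)))
    (inferInstanceAs (Epi (ClSub.toSubscheme Z)))
  have hI := Groth.Agent.RefOne.isCoh_idealMod Z
  have hQ := Groth.Agent.IntLib.isCoh_quotMod Z
  have hO := CurveLib.isCoh_of_isInvertible (ParaFLib.isInvertible_structureModule (X := X))
  obtain ⟨C, hC⟩ := boundLT k hL d (ClSub.quotMod Z) hQ (lt_of_le_of_lt
    ((Topology.IsEmbedding.inclusion (Groth.Agent.IntLib.support_quotMod_subset Z)).isInducing.topologicalKrullDim_le) hZ) 0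
  obtain ⟨c, hc, hev⟩ := hbig
  have hlim : ∀ᶠ m : ℕ in Filter.atTop, (C : ℝ) * ((B d m : ℝ) / (m : ℝ) ^ d) < c :=
    ((tendsto_B d).const_mul (C : ℝ)).eventually (gt_mem_nhds (by simpa using hc))
  obtain ⟨m, ⟨h1, h2⟩, hm⟩ := ((hev.and hlim).and (Filter.eventually_gt_atTop 0)).exists
  refine ⟨m, hm, Module.nontrivial_of_finrank_pos (R := k) (Nat.pos_of_ne_zero fun h0 => ?_)⟩
  have hine := (ineqs k hL hS hI hO hQ 0 m).2.1
  have e0 : hi k L (Coh.structureModule X) 0 m ≤ C * B d m := by
    refine hine.trans ((Nat.add_le_add (le_of_eq ?_) (hC m)).trans_eq (Nat.zero_add _))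
    exact h0
  rw [← hh_congr k (unitL (CohB1.tensorPow L m)) 0] at h1
  change c * (m : ℝ) ^ d < ((hi k L (Coh.structureModule X) 0 m : ℕ) : ℝ) at h1
  have hm0 : (0 : ℝ) < (m : ℝ) ^ d := pow_pos (by exact_mod_cast hm) d
  rw [← mul_div_assoc, div_lt_iff₀ hm0] at h2
  have : ((hi k L (Coh.structureModule X) 0 m : ℕ) : ℝ) ≤ (C : ℝ) * (B d m : ℝ) := by exact_mod_cast e0
  linarith


end Groth.Agent.S17277
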