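import Groth.Statements.S17278
import Groth.Agent.NakaiLib.BigApps

set_option autoImplicit false
universe u
open CategoryTheory CategoryTheory.Limits AlgebraicGeometry TopologicalSpace
open Variety

namespace Groth.Agent.S17278

/-- Let X be a projective variety over a field k (an integral scheme, proper over k, carrying an ample
invertible module A₀) of dimension d, and L an invertible O_X-module. Then L is big, meaning that
for some real c > 0 one has dim_k H^0(X, L^{⊗n}) > c·n^d for all sufficiently large n, if and only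
if for every ample invertible O_X-module A, with a tensor inverse A' (A' ⊗ A ≅ O_X), there is an
integer m > 0 with H^0(X, A' ⊗ L^{⊗m}) ≠ 0. -/
theorem result (k : Type u) [Field k]
    (X : Scheme.{u}) [X.Over (Spec (CommRingCat.of k))] [IsProper (X ↘ (Spec (CommRingCat.of k)))] [IsIntegral X]
    (A₀ : X.Modules) (hA₀ : CohB1.IsAmple A₀)
    (d : ℕ) (hdim : topologicalKrullDim X = d) (L : X.Modules) (hL : PicF.IsInvertible L) :
    (∃ c : ℝ, 0 < c ∧ ∀ᶠ n : ℕ in Filter.atTop,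
        c * (n : ℝ) ^ d < (Module.finrank k (Coh.HH X (CohB1.tensorPow L n) 0) : ℝ)) ↔
      ∀ (A A' : X.Modules), CohB1.IsAmple A → ClSub.IsInverseOf A' A →
        ∃ m : ℕ, 0 < m ∧ Nontrivial (Coh.HH X (CohB1.tensorMod A' (CohB1.tensorPow L m)) 0) := by
  haveI := Groth.Agent.EulerIneqLib.isNoetherian_proper (X := X) k
  constructor
  · rintro ⟨c, hc, hev⟩ A A' hA ⟨e⟩
    obtain ⟨m₁, hm₁⟩ := Filter.eventually_atTop.1 hev
    obtain ⟨ν, B, φ, hν, hB, hφ⟩ := (Groth.Agent.Nakai.exists_growth_iff_exists_mono k hdim hA₀ hL).1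
      ⟨c, hc, m₁, fun m hm => (hm₁ m hm).le⟩
    obtain ⟨m, hm, hh, -⟩ := Groth.Agent.Nakai.forall_exists_mono k hB hL hν φ hA.1
      (Groth.Agent.AmpleLib.isInvertible_of_tensor_iso e) e
    exact ⟨m, hm, Module.nontrivial_of_finrank_pos (R := k) (Nat.pos_of_ne_zero hh)⟩
  · intro h
    obtain ⟨A', hA', ⟨ι⟩⟩ := Groth.Agent.AmpleEmb.exists_isInverseOf hA₀.1
    obtain ⟨m, hm, hn⟩ := h A₀ A' hA₀ ⟨Groth.Agent.AmpleLib.comm A' A₀ ≪≫ ι⟩
    haveI := Groth.Agent.EulerIneqLib.finite_HH (k := k) (Groth.Agent.CurveLib.isCoh_of_isInvertible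
      (Groth.Agent.AmpleLib.isInvertible_tensor hA' (Groth.Agent.AmpleLib.isInvertible_tensorPow hL m))) 0
    obtain ⟨φ, hφ⟩ := Groth.Agent.Nakai.exists_mono_of_h k hA₀.1 hA'
      (Groth.Agent.AmpleLib.comm A' A₀ ≪≫ ι) hL (m := m)
      (Module.finrank_pos (R := k) (M := Coh.HH X (CohB1.tensorMod A' (CohB1.tensorPow L m)) 0)).ne'
    obtain ⟨C, hC, m₁, hg⟩ := (Groth.Agent.Nakai.exists_growth_iff_exists_mono k hdim hA₀ hL).2
      ⟨m, A₀, φ, hm, hA₀, hφ⟩
    refine ⟨C / 2, by positivity, Filter.eventually_atTop.2 ⟨max m₁ 1, fun n hn => ?_⟩⟩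
    have hpos : (0 : ℝ) < (n : ℝ) ^ d := pow_pos (by exact_mod_cast (le_max_right m₁ 1).trans hn) d
    have h2 : C * (n : ℝ) ^ d ≤ (Module.finrank k (Coh.HH X (CohB1.tensorPow L n) 0) : ℝ) :=
      hg n ((le_max_left _ _).trans hn)
    nlinarith

end Groth.Agent.S17278
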