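import Groth.Statements.S17279
import Groth.Agent.NefBundleLib.Deg

set_option autoImplicit false
universe u
open CategoryTheory CategoryTheory.Limits AlgebraicGeometry TopologicalSpace
open Variety

namespace Groth.Agent.S17279

open CategoryTheory CategoryTheory.Limits AlgebraicGeometry

set_option backward.isDefEq.respectTransparency false
set_option backward.defeqAttrib.useBackward true
set_option linter.style.haveILetI false

open Groth.Agent


/-- (i) ⇔ (iii), Barton–Kleiman criterion; scheme case: let X be a proper scheme over a field k and E a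
finite locally free O_X-module. Then E is nef, meaning that the fundamental invertible module O(1)
of the projective bundle P(E) = Proj(Sym E) is nef (χ(O_C ⊗ O(1)) - χ(O_C) ≥ 0 for every integral
closed subscheme C ⊆ P(E) of dimension one; here P(E) → X is given by any relative-Proj data of the
graded symmetric algebra of E together with its O(1)), if and only if for every regular projective
curve C over k (integral, proper over k, of dimension one, all local rings regular), every
k-morphism f : C → X and every invertible quotient f^*E → M, one has deg M = χ(M) - χ(O_C) ≥ 0. (The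
source states this for proper algebraic spaces over k; this is the case of schemes.) -/
theorem result (k : Type u) [Field k] (X : Scheme.{u})
    [X.Over (Spec (CommRingCat.of k))] [IsProper (X ↘ (Spec (CommRingCat.of k)))] (E : X.Modules) (hE : FlatMod.IsFinLocFree E) :
    (∀ (𝒮 : RelProj.QCGrAlg X) (j : E ⟶ 𝒮.toModule) (P : Scheme.{u}) (p : P ⟶ X)
        (chart : ∀ (U : X.Opens) (hU : IsAffineOpen U),
          (((p ⁻¹ᵁ U : P.Opens) : Scheme.{u}) ≅ Proj (𝒮.deg U hU)))
        (O1 : P.Modules)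
        (lam : ∀ (U : X.Opens) (hU : IsAffineOpen U),
          O1 ⟶ (Scheme.Modules.pushforward (RelProj.emb p chart U hU)).obj (GrTwist.twist (𝒮.deg U hU) 1)),
        RelProj.IsGrSymAlg E 𝒮 j → RelProj.IsRelProj 𝒮 p chart → RelProj.IsRelTwist 𝒮 p chart 1 O1 lam →
        ∀ C : P.IdealSheafData, IsIntegral C.subscheme → topologicalKrullDim (C.support : Set P) = 1 →
          0 ≤ @Curv2.euler k _ P ⟨p ≫ (X ↘ (Spec (CommRingCat.of k)))⟩ (CohB1.tensorMod (ClSub.quotMod C) O1) -
              @Curv2.euler k _ P ⟨p ≫ (X ↘ (Spec (CommRingCat.of k)))⟩ (ClSub.quotMod C)) ↔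
    (∀ (C : Scheme.{u}) [C.Over (Spec (CommRingCat.of k))] [IsProper (C ↘ (Spec (CommRingCat.of k)))] [IsIntegral C],
      topologicalKrullDim C = 1 → (∀ x : C, IsRegularLocalRing (C.presheaf.stalk x)) →
      ∀ (f : C ⟶ X), f ≫ (X ↘ (Spec (CommRingCat.of k))) = C ↘ (Spec (CommRingCat.of k)) →
      ∀ (M : C.Modules), PicF.IsInvertible M →
      ∀ (q : (Scheme.Modules.pullback f).obj E ⟶ M), Epi q → 0 ≤ Curv2.deg k C M 1) := by
  haveI : Coh.IsQCoh E := (PullbackMod.isQCoh_and_isFP_of_isFinLocFree E hE).1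
  haveI := EulerIneqLib.isNoetherian_proper (X := X) k
  have hEc : Coh.IsCoh E := CurveLib.isCoh_of_isFinLocFree hE
  constructor
  · intro h N _ _ _ hN hreg f hf M hM q hq
    haveI := hq
    obtain ⟨P, p, O1, φ, ⟨D⟩⟩ := ProjBundleLib.exists_bundle hEc.1
    obtain ⟨q₀, hP⟩ : ∃ q₀, KRR.IsProjBundle p E O1 q₀ := ⟨_, (GrassShLib.isGrass_of_pdata D).isProjBundle⟩
    haveI : IsProper p := D.isProper hEc.2
    letI : P.Over (Spec (CommRingCat.of k)) := ⟨p ≫ (X ↘ Spec (CommRingCat.of k))⟩
    haveI : IsProper (P ↘ Spec (CommRingCat.of k)) :=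
      (inferInstanceAs (IsProper (p ≫ (X ↘ Spec (CommRingCat.of k)))))
    obtain ⟨g, ⟨hg, e, -⟩, -⟩ := hP.univ N f M (CurveLib.isFinLocFreeOfRank_one hM) q hq
    obtain ⟨δN, hδN⟩ := CycLib.exists_delta k N
    obtain ⟨δ, hδ⟩ := CycLib.exists_delta k P
    have hO := D.isInvertible_O1
    have hgk : g ≫ (P ↘ Spec (CommRingCat.of k)) = N ↘ Spec (CommRingCat.of k) := by
      show g ≫ p ≫ _ = _
      rw [← Category.assoc, hg, hf]
    obtain ⟨hη, hD⟩ := CycLib.deg_eq_neg_pairing_generic k hN hδN (AmpleLib.isInvertible_pullback g hO)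
    rw [← CurveLib.deg_iso (k := k) e 1, hD]
    have hp := CycLib.pairing_pullback k hgk hδN hδ 1 (fun _ : Fin 1 => O1) (fun _ => hO) (genericPoint N)
      (by rw [hη]; rfl)
    rw [Fin.prod_univ_one, Fin.prod_univ_one] at hp
    rw [hp, neg_nonneg]
    by_cases hd : δN (genericPoint N) = δ (g (genericPoint N))
    · exact mul_nonpos_of_nonneg_of_nonpos (Int.natCast_nonneg _) ((CycLib.nef_iff k hO hδ).1
        (h D.S D.j P p D.chart O1 D.lam D.hj D.hP D.hO1) _ (hd ▸ hη))
    · rw [AlgebraicCycle.mapCoeff, if_neg hd, Nat.cast_zero, zero_mul]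
  · intro h 𝒮 j P p chart O1 lam hj hPr hO1 C hC hdC
    obtain ⟨φ, ⟨D⟩⟩ := ProjBundleLib.exists_φ hEc.1 hj hPr hO1
    obtain ⟨q₀, hP⟩ : ∃ q₀, KRR.IsProjBundle p E O1 q₀ := ⟨_, (GrassShLib.isGrass_of_pdata D).isProjBundle⟩
    haveI : IsProper p := D.isProper hEc.2
    haveI := hP.epi
    letI : P.Over (Spec (CommRingCat.of k)) := ⟨p ≫ (X ↘ Spec (CommRingCat.of k))⟩
    haveI : IsProper (P ↘ Spec (CommRingCat.of k)) :=
      (inferInstanceAs (IsProper (p ≫ (X ↘ Spec (CommRingCat.of k)))))
    obtain ⟨δ, hδ⟩ := CycLib.exists_delta k P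
    haveI := EulerIneqLib.isNoetherian_proper (X := P) k
    refine (CycLib.nef_iff k D.isInvertible_O1 hδ).2 (fun x hx => ?_) C hC hdC
    have hn := NefBundleLib.nefP_of_quotNef k h rfl D.isInvertible_O1 q₀ x (CycLib.dim_closure_eq k hδ x (t := 1) hx)
    rw [Nakai.cl_eq_neg_dif, map_neg] at hn
    linarith

end Groth.Agent.S17279
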