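import Groth.Statements.S17280
import Groth.Agent.VBLib.GenusOneTwo
import Groth.Agent.VBLib.Point

set_option autoImplicit false
universe u
open CategoryTheory CategoryTheory.Limits AlgebraicGeometry TopologicalSpace
open Variety

namespace Groth.Agent.S17280

/-- Scheme case, curve-test form of nefness: let X be a proper scheme over a field k and 0 → E' → E →
E'' → 0 a short exact sequence whose three terms are finite locally free O_X-modules. Assume that E'
and E'' are nef in the curve-test sense: for every regular projective curve C over k (integral,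
proper over k, of dimension one, all local rings regular), every k-morphism f : C → X and every
invertible quotient M of the pulled-back module, deg M = χ(M) - χ(O_C) ≥ 0. Then E is nef in the
same sense. (The source states this for proper algebraic spaces and nefness of O(1) on P(E); on
proper schemes the two senses agree by the Barton–Kleiman criterion.) -/
theorem result (k : Type u) [Field k] (X : Scheme.{u})
    [X.Over (Spec (CommRingCat.of k))] [IsProper (X ↘ (Spec (CommRingCat.of k)))] (S : ShortComplex X.Modules) (hS : S.ShortExact)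
    (h₁ : FlatMod.IsFinLocFree S.X₁) (h₂ : FlatMod.IsFinLocFree S.X₂) (h₃ : FlatMod.IsFinLocFree S.X₃)
    (hnef₁ : ∀ (C : Scheme.{u}) [C.Over (Spec (CommRingCat.of k))] [IsProper (C ↘ (Spec (CommRingCat.of k)))] [IsIntegral C],
      topologicalKrullDim C = 1 → (∀ x : C, IsRegularLocalRing (C.presheaf.stalk x)) →
      ∀ (f : C ⟶ X), f ≫ (X ↘ (Spec (CommRingCat.of k))) = C ↘ (Spec (CommRingCat.of k)) →
      ∀ (M : C.Modules), PicF.IsInvertible M →
      ∀ (q : (Scheme.Modules.pullback f).obj S.X₁ ⟶ M), Epi q → 0 ≤ Curv2.deg k C M 1)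
    (hnef₃ : ∀ (C : Scheme.{u}) [C.Over (Spec (CommRingCat.of k))] [IsProper (C ↘ (Spec (CommRingCat.of k)))] [IsIntegral C],
      topologicalKrullDim C = 1 → (∀ x : C, IsRegularLocalRing (C.presheaf.stalk x)) →
      ∀ (f : C ⟶ X), f ≫ (X ↘ (Spec (CommRingCat.of k))) = C ↘ (Spec (CommRingCat.of k)) →
      ∀ (M : C.Modules), PicF.IsInvertible M →
      ∀ (q : (Scheme.Modules.pullback f).obj S.X₃ ⟶ M), Epi q → 0 ≤ Curv2.deg k C M 1) :
    ∀ (C : Scheme.{u}) [C.Over (Spec (CommRingCat.of k))] [IsProper (C ↘ (Spec (CommRingCat.of k)))] [IsIntegral C],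
    topologicalKrullDim C = 1 → (∀ x : C, IsRegularLocalRing (C.presheaf.stalk x)) →
    ∀ (f : C ⟶ X), f ≫ (X ↘ (Spec (CommRingCat.of k))) = C ↘ (Spec (CommRingCat.of k)) →
    ∀ (M : C.Modules), PicF.IsInvertible M →
    ∀ (q : (Scheme.Modules.pullback f).obj S.X₂ ⟶ M), Epi q → 0 ≤ Curv2.deg k C M 1 := by
  intro C _ _ _ hdimC hregC f hf M hM q hq
  haveI : Groth.Agent.VBLib.IsRegCurve C := ⟨fun x => by
    haveI := hregC x
    refine Groth.Agent.VBLib.isPrincipalIdealRing_of_regular _ ?_
    rw [ringKrullDim_stalk_eq_coheight]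
    have hd := hdimC.le
    rw [Groth.Agent.ASp.topologicalKrullDim_eq_krullDim] at hd
    exact (Order.coheight_le_krullDim x).trans hd⟩
  haveI := Groth.Agent.EulerIneqLib.isNoetherian_proper (X := C) k
  haveI := hS.epi_g
  haveI := hq
  let F := Scheme.Modules.pullback f
  haveI : PreservesColimitsOfSize.{0, 0} F := (Scheme.Modules.pullbackPushforwardAdjunction f).leftAdjoint_preservesColimits
  haveI : F.PreservesZeroMorphisms := Functor.preservesZeroMorphisms_of_additive F
  by_cases hu : F.map S.f ≫ q = 0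
  · let hc := CokernelCofork.mapIsColimit _ hS.gIsCokernel F
    have hfac : F.map S.g ≫ hc.desc (CokernelCofork.ofπ q hu) = q := hc.fac (CokernelCofork.ofπ q hu) WalkingParallelPair.one
    exact hnef₃ C hdimC hregC f hf M hM (hc.desc (CokernelCofork.ofπ q hu)) (epi_of_epi_fac hfac)
  · have hMr := Groth.Agent.CurveLib.isFinLocFreeOfRank_one hM
    have hAc : Coh.IsCoh (F.obj S.X₁) :=
      Groth.Agent.CurveLib.isCoh_of_isFinLocFree (Groth.Agent.PullbackMod.isFinLocFree_pullback f _ h₁)
    obtain ⟨I, a, b, hb, ha, hab, hI, -, -, -⟩ :=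
      Groth.Agent.VBLib.exists_image k (F.map S.f ≫ q) hAc (Groth.Agent.VBLib.isCoh_of_rank hMr)
    haveI := hb
    have hI0 : Groth.Agent.VBLib.grk I ≠ 0 := fun hz => hu (by
      rw [← hab, (Groth.Agent.VBLib.isZero_of_mono b hI hMr hz).eq_of_tgt a 0, zero_comp])
    obtain ⟨-, hr, -⟩ := Groth.Agent.VBLib.coker_add k b hI (Groth.Agent.VBLib.isCoh_of_rank hMr)
    rw [Groth.Agent.VBLib.grk_of_rank hMr] at hr
    have hIr := Groth.Agent.VBLib.rank_of_mono b hI hMr
    rw [show Groth.Agent.VBLib.grk I = 1 by omega] at hIr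
    have h0 := hnef₁ C hdimC hregC f hf I (Groth.Agent.VBLib.isInvertible_of_rank hIr) a ha
    have hle := (Groth.Agent.VBLib.dg_le_of_mono k hdimC.le b hI (Groth.Agent.VBLib.isCoh_of_rank hMr)
      (by rw [Groth.Agent.VBLib.grk_of_rank hIr, Groth.Agent.VBLib.grk_of_rank hMr])).1
    rw [Groth.Agent.VBLib.dg_eq k hIr, Groth.Agent.VBLib.dg_eq k hMr] at hle
    omega

end Groth.Agent.S17280
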