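import Groth.Statements.S17282
import Groth.Agent.NefBundleLib.Tensor
import Groth.Agent.NefBundleLib.Ext
import Groth.Agent.AmpleLib.Pullback
import Groth.Agent.DCohLib.TensorPerf
import Groth.Agent.CurveFF.PointIdeal
import Groth.Agent.KVbLib.Lam

set_option autoImplicit false
universe u
open CategoryTheory CategoryTheory.Limits AlgebraicGeometry TopologicalSpace
open Variety

namespace Groth.Agent.S17282

open CategoryTheory CategoryTheory.Limits AlgebraicGeometry

set_option backward.isDefEq.respectTransparency false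
set_option backward.defeqAttrib.useBackward true
set_option linter.style.haveILetI false

universe v

variable (k : Type v) [Field k] {X : Scheme.{v}} [X.Over (Spec (CommRingCat.of k))]
  [IsProper (X ↘ Spec (CommRingCat.of k))]

open Groth.Agent

include k in
theorem quotNef_tensor {A B : X.Modules} (hA : FlatMod.IsFinLocFree A) (hB : FlatMod.IsFinLocFree B)
    (hnA : NefBundleLib.QuotNef k A) (hnB : NefBundleLib.QuotNef k B) :
    NefBundleLib.QuotNef k (CohB1.tensorMod A B) := by
  intro N _ _ _ hN hreg f hf M hM q hq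
  haveI := hq
  haveI := CurveFF.isRegCurve_of_regular hN.le hreg
  haveI := EulerIneqLib.isNoetherian_proper (X := N) k
  have hA' := PullbackMod.isFinLocFree_pullback f A hA
  obtain ⟨b, hb⟩ := KRRAmple.exists_isFinLocFreeOfRank (PullbackMod.isFinLocFree_pullback f B hB)
  exact NefBundleLib.deg_nonneg_of_tensor_quot k hN (CurveLib.isCoh_of_isFinLocFree hA') hb
    (NefBundleLib.quotNef_pullback k hnA f hf) (NefBundleLib.quotNef_pullback k hnB f hf) hM
    ((AmpleLib.pullTensor f A B).inv ≫ q) (epi_comp _ _)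

include k in
theorem quotNef_one : NefBundleLib.QuotNef k (Coh.structureModule X) := by
  intro N _ _ _ hN hreg f hf M hM q hq
  haveI := hq
  haveI := CurveFF.isRegCurve_of_regular hN.le hreg
  haveI := EulerIneqLib.isNoetherian_proper (X := N) k
  have hne : (AmpleLib.pullO f).inv ≫ q ≠ 0 := fun h0 =>
    VBLib.nonzero_of_rank k Nat.one_pos (CurveLib.isFinLocFreeOfRank_one hM)
      ((IsZero.iff_id_eq_zero M).2 (by rw [← cancel_epi ((AmpleLib.pullO f).inv ≫ q), h0, zero_comp, zero_comp]))
  have h := (CurveLib.deg_le_of_ne_zero (k := k) hN.le ParaFLib.isInvertible_structureModule hM hne).1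
  rwa [CurveLib.deg_structureModule] at h

include k in
theorem quotNef_pow {E : X.Modules} (hE : FlatMod.IsFinLocFree E) (hn : NefBundleLib.QuotNef k E) :
    ∀ n, FlatMod.IsFinLocFree (CohB1.tensorPow E n) ∧ NefBundleLib.QuotNef k (CohB1.tensorPow E n)
  | 0 => ⟨VBLib.DualDeg.flf_of_rank (CurveLib.isFinLocFreeOfRank_one ParaFLib.isInvertible_structureModule),
      quotNef_one k⟩
  | n + 1 => ⟨DCohLib.isFinLocFree_tensor (quotNef_pow hE hn n).1 hE,
      quotNef_tensor k (quotNef_pow hE hn n).1 hE (quotNef_pow hE hn n).2 hn⟩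

include k in
theorem quotNef_ext {E : X.Modules} (hE : FlatMod.IsFinLocFree E) (hn : NefBundleLib.QuotNef k E) :
    ∀ (n : ℕ) (L : X.Modules), ExtPow.IsExtPow n E L → NefBundleLib.QuotNef k L
  | 0, L, hL => by
      obtain ⟨e⟩ := ExtPowLib.nonempty_iso (KVb.isExtPow_zero E) hL
      exact (quotNef_one k).of_epi k e.hom
  | n + 1, L, hL => by
      haveI : Coh.IsQCoh E := (PullbackMod.isQCoh_and_isFP_of_isFinLocFree E hE).1
      obtain ⟨L₀, hf, hL₀⟩ := KVb.hasExt n E hE
      obtain ⟨π, hπ⟩ := NefBundleLib.exists_epi_wedge hL₀ hL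
      exact (quotNef_tensor k hf hE (quotNef_ext hE hn n L₀ hL₀) hn).of_epi k π


/-- Scheme case, curve-test form of nefness: let X be a proper scheme over a field k and E, E' finite
locally free O_X-modules, both nef in the curve-test sense: for every regular projective curve C
over k (integral, proper over k, of dimension one, all local rings regular), every k-morphism f : C
→ X and every invertible quotient M of the pulled-back module, deg M = χ(M) - χ(O_C) ≥ 0. Then E ⊗
E', the tensor powers E^{⊗n} (n ≥ 0) and the exterior powers Λ^n E (any module that is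
affine-locally the n-th exterior power of E, compatibly with restrictions) are nef in the same
sense. (The source states this for proper algebraic spaces, with nefness of O(1) on P(E), and also
for the symmetric and divided powers, which are not stated here; on proper schemes the two senses of
nef agree by the Barton–Kleiman criterion.) -/
theorem result (k : Type u) [Field k] (X : Scheme.{u})
    [X.Over (Spec (CommRingCat.of k))] [IsProper (X ↘ (Spec (CommRingCat.of k)))]
    (E E' : X.Modules) (hE : FlatMod.IsFinLocFree E) (hE' : FlatMod.IsFinLocFree E')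
    (hnef : ∀ (C : Scheme.{u}) [C.Over (Spec (CommRingCat.of k))] [IsProper (C ↘ (Spec (CommRingCat.of k)))] [IsIntegral C],
      topologicalKrullDim C = 1 → (∀ x : C, IsRegularLocalRing (C.presheaf.stalk x)) →
      ∀ (f : C ⟶ X), f ≫ (X ↘ (Spec (CommRingCat.of k))) = C ↘ (Spec (CommRingCat.of k)) →
      ∀ (M : C.Modules), PicF.IsInvertible M →
      ∀ (q : (Scheme.Modules.pullback f).obj E ⟶ M), Epi q → 0 ≤ Curv2.deg k C M 1)
    (hnef' : ∀ (C : Scheme.{u}) [C.Over (Spec (CommRingCat.of k))] [IsProper (C ↘ (Spec (CommRingCat.of k)))] [IsIntegral C],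
      topologicalKrullDim C = 1 → (∀ x : C, IsRegularLocalRing (C.presheaf.stalk x)) →
      ∀ (f : C ⟶ X), f ≫ (X ↘ (Spec (CommRingCat.of k))) = C ↘ (Spec (CommRingCat.of k)) →
      ∀ (M : C.Modules), PicF.IsInvertible M →
      ∀ (q : (Scheme.Modules.pullback f).obj E' ⟶ M), Epi q → 0 ≤ Curv2.deg k C M 1) :
    (∀ (C : Scheme.{u}) [C.Over (Spec (CommRingCat.of k))] [IsProper (C ↘ (Spec (CommRingCat.of k)))] [IsIntegral C],
      topologicalKrullDim C = 1 → (∀ x : C, IsRegularLocalRing (C.presheaf.stalk x)) →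
      ∀ (f : C ⟶ X), f ≫ (X ↘ (Spec (CommRingCat.of k))) = C ↘ (Spec (CommRingCat.of k)) →
      ∀ (M : C.Modules), PicF.IsInvertible M →
      ∀ (q : (Scheme.Modules.pullback f).obj (CohB1.tensorMod E E') ⟶ M), Epi q → 0 ≤ Curv2.deg k C M 1) ∧
    (∀ n : ℕ, ∀ (C : Scheme.{u}) [C.Over (Spec (CommRingCat.of k))] [IsProper (C ↘ (Spec (CommRingCat.of k)))] [IsIntegral C],
        topologicalKrullDim C = 1 → (∀ x : C, IsRegularLocalRing (C.presheaf.stalk x)) →
        ∀ (f : C ⟶ X), f ≫ (X ↘ (Spec (CommRingCat.of k))) = C ↘ (Spec (CommRingCat.of k)) →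
        ∀ (M : C.Modules), PicF.IsInvertible M →
        ∀ (q : (Scheme.Modules.pullback f).obj (CohB1.tensorPow E n) ⟶ M), Epi q → 0 ≤ Curv2.deg k C M 1) ∧
    (∀ (n : ℕ) (Λ : X.Modules), ExtPow.IsExtPow n E Λ →
      ∀ (C : Scheme.{u}) [C.Over (Spec (CommRingCat.of k))] [IsProper (C ↘ (Spec (CommRingCat.of k)))] [IsIntegral C],
        topologicalKrullDim C = 1 → (∀ x : C, IsRegularLocalRing (C.presheaf.stalk x)) →
        ∀ (f : C ⟶ X), f ≫ (X ↘ (Spec (CommRingCat.of k))) = C ↘ (Spec (CommRingCat.of k)) →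
        ∀ (M : C.Modules), PicF.IsInvertible M →
        ∀ (q : (Scheme.Modules.pullback f).obj Λ ⟶ M), Epi q → 0 ≤ Curv2.deg k C M 1) := by
  exact ⟨fun C _ _ _ => quotNef_tensor k hE hE' hnef hnef' C, fun n C _ _ _ => (quotNef_pow k hE hnef n).2 C,
    fun n L hL C _ _ _ => quotNef_ext k hE hnef n L hL C⟩

end Groth.Agent.S17282
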