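import Groth.Statements.S17283
import Groth.Agent.CycLib.CurveNef

set_option autoImplicit false
universe u
open CategoryTheory CategoryTheory.Limits AlgebraicGeometry TopologicalSpace
open Variety

namespace Groth.Agent.S17283

open CategoryTheory CategoryTheory.Limits AlgebraicGeometry

open Groth.Agent
set_option backward.isDefEq.respectTransparency false

/-- Scheme case, curve-test form of nefness: let f : Y → X be a surjective k-morphism of proper schemes
over a field k and E a finite locally free O_X-module. If the pullback f^*E is nef on Y in the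
curve-test sense (for every regular projective curve C over k — integral, proper over k, of
dimension one, all local rings regular — every k-morphism g : C → Y and every invertible quotient M
of g^*(f^*E), deg M = χ(M) - χ(O_C) ≥ 0), then E is nef on X in the same sense. (The source states
this for proper algebraic spaces with nefness of O(1) on P(E); on proper schemes the senses agree by
the Barton–Kleiman criterion.) -/
theorem result (k : Type u) [Field k] (X Y : Scheme.{u})
    [X.Over (Spec (CommRingCat.of k))] [IsProper (X ↘ (Spec (CommRingCat.of k)))] [Y.Over (Spec (CommRingCat.of k))] [IsProper (Y ↘ (Spec (CommRingCat.of k)))]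
    (f : Y ⟶ X) (hf : f ≫ (X ↘ (Spec (CommRingCat.of k))) = Y ↘ (Spec (CommRingCat.of k))) [Surjective f]
    (E : X.Modules) (hE : FlatMod.IsFinLocFree E)
    (hnef : ∀ (C : Scheme.{u}) [C.Over (Spec (CommRingCat.of k))] [IsProper (C ↘ (Spec (CommRingCat.of k)))] [IsIntegral C],
      topologicalKrullDim C = 1 → (∀ x : C, IsRegularLocalRing (C.presheaf.stalk x)) →
      ∀ (g : C ⟶ Y), g ≫ (Y ↘ (Spec (CommRingCat.of k))) = C ↘ (Spec (CommRingCat.of k)) →
      ∀ (M : C.Modules), PicF.IsInvertible M →
      ∀ (q : (Scheme.Modules.pullback g).obj ((Scheme.Modules.pullback f).obj E) ⟶ M), Epi q → 0 ≤ Curv2.deg k C M 1) :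
    ∀ (C : Scheme.{u}) [C.Over (Spec (CommRingCat.of k))] [IsProper (C ↘ (Spec (CommRingCat.of k)))] [IsIntegral C],
    topologicalKrullDim C = 1 → (∀ x : C, IsRegularLocalRing (C.presheaf.stalk x)) →
    ∀ (g : C ⟶ X), g ≫ (X ↘ (Spec (CommRingCat.of k))) = C ↘ (Spec (CommRingCat.of k)) →
    ∀ (M : C.Modules), PicF.IsInvertible M →
    ∀ (q : (Scheme.Modules.pullback g).obj E ⟶ M), Epi q → 0 ≤ Curv2.deg k C M 1 := by
  intro C _ _ _ hdim _ g hg M hM q hq
  haveI := hq
  haveI : IsProper f := by
    haveI : IsProper (f ≫ (X ↘ Spec (CommRingCat.of k))) := hf ▸ inferInstance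
    exact IsProper.of_comp f (X ↘ Spec (CommRingCat.of k))
  let P := pullback g f
  let π : P ⟶ C := pullback.fst g f
  haveI : Surjective π := MorphismProperty.pullback_fst g f inferInstance
  haveI : IsProper π := MorphismProperty.pullback_fst g f inferInstance
  letI : P.Over (Spec (CommRingCat.of k)) := ⟨π ≫ (C ↘ Spec (CommRingCat.of k))⟩
  haveI : IsProper (P ↘ Spec (CommRingCat.of k)) := inferInstanceAs (IsProper (π ≫ (C ↘ Spec (CommRingCat.of k))))
  haveI := EulerIneqLib.isNoetherian_proper (X := C) k
  obtain ⟨δ, hδ⟩ := CycLib.exists_delta k C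
  obtain ⟨δP, hδP⟩ := CycLib.exists_delta k P
  obtain ⟨hη, hD⟩ := CycLib.deg_eq_neg_pairing_generic k hdim hδ hM
  obtain ⟨y, hy, hy1, -⟩ := CycLib.exists_finite_point π (CycLib.deltaCompat_of_over k rfl hδP hδ) (genericPoint C)
  rw [hη] at hy1
  obtain ⟨N, _, _, _, h₀, hh₀, hh₀y, hN, hreg⟩ := CycLib.exists_regular_curve k hδP y hy1
  subst hh₀y
  obtain ⟨q₁, hq₁⟩ := CycLib.exists_epi_comp (h₀ ≫ π) g q
  let e : (Scheme.Modules.pullback (h₀ ≫ pullback.snd g f)).obj ((Scheme.Modules.pullback f).obj E) ≅
      (Scheme.Modules.pullback ((h₀ ≫ π) ≫ g)).obj E :=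
    (Scheme.Modules.pullbackComp _ f).app E ≪≫ (Scheme.Modules.pullbackCongr (by
      rw [Category.assoc, Category.assoc, pullback.condition])).app E
  have hN' := hnef N hN hreg (h₀ ≫ pullback.snd g f) (by
      rw [← hh₀, Category.assoc, ← hf, ← Category.assoc (pullback.snd g f), ← pullback.condition, Category.assoc, hg]
      rfl) _
    (AmpleLib.isInvertible_pullback (h₀ ≫ π) hM) (e.hom ≫ q₁) inferInstance
  have hb : (h₀ ≫ π) (genericPoint N) = genericPoint C := hy
  have h := CycLib.pairing_nonpos_of_deg k hN (h₀ ≫ π) (by rw [← hh₀, Category.assoc]; rfl) hδ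
    (by rw [hb]; exact hη) hM hN'
  rw [hb] at h
  rw [hD]
  linarith


end Groth.Agent.S17283
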