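import Groth.Statements.S17285
import Groth.Agent.VolLib.GenFinite

set_option autoImplicit false
universe u
open CategoryTheory CategoryTheory.Limits AlgebraicGeometry TopologicalSpace
open Variety

namespace Groth.Agent.S17285

open CategoryTheory CategoryTheory.Limits AlgebraicGeometry

set_option backward.isDefEq.respectTransparency false
set_option linter.style.haveILetI false
open Groth.Agent.HiGrowth Groth.Agent.AmpleLib

/-- Let X and Y be proper varieties over a field k (integral schemes, proper over k) of the same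
dimension d, f : Y → X a birational k-morphism (generic point to generic point, with a single point
in that fibre and the same residue field there), and L an invertible O_X-module. Then L is big,
meaning that some real c > 0 has dim_k H^0(X, L^{⊗n}) > c·n^d for all sufficiently large n, if and
only if f^*L is big on Y in the same sense. (The source states this for birational morphisms of
proper schemes over k; it is stated here for integral X and Y, the case in which the printed
argument's injectivity of O_X → f_*O_Y holds.) -/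
theorem result (k : Type u) [Field k] (X Y : Scheme.{u})
    [X.Over (Spec (CommRingCat.of k))] [IsProper (X ↘ (Spec (CommRingCat.of k)))] [IsIntegral X]
    [Y.Over (Spec (CommRingCat.of k))] [IsProper (Y ↘ (Spec (CommRingCat.of k)))] [IsIntegral Y]
    (f : Y ⟶ X) (hf : f ≫ (X ↘ (Spec (CommRingCat.of k))) = Y ↘ (Spec (CommRingCat.of k))) (hbir : RadPt.IsBirational f)
    (d : ℕ) (hdimX : topologicalKrullDim X = d) (hdimY : topologicalKrullDim Y = d)
    (L : X.Modules) (hL : PicF.IsInvertible L) :
    (∃ c : ℝ, 0 < c ∧ ∀ᶠ n : ℕ in Filter.atTop,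
        c * (n : ℝ) ^ d < (Module.finrank k (Coh.HH X (CohB1.tensorPow L n) 0) : ℝ)) ↔
      (∃ c : ℝ, 0 < c ∧ ∀ᶠ n : ℕ in Filter.atTop,
        c * (n : ℝ) ^ d < (Module.finrank k (Coh.HH Y (CohB1.tensorPow ((Scheme.Modules.pullback f).obj L) n) 0) : ℝ)) := by
  haveI := EulerIneqLib.isNoetherian_proper (X := X) k
  haveI := EulerIneqLib.isNoetherian_proper (X := Y) k
  haveI : IsProper (f ≫ (X ↘ Spec (CommRingCat.of k))) := by rw [hf]; infer_instance
  haveI : IsProper f := IsProper.of_comp f (X ↘ Spec (CommRingCat.of k))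
  haveI : HasInjectiveResolutions Y.Modules := inferInstance
  have hgX : genericPoints X = {genericPoint X} := genericPoints_eq_singleton
  have hgY : genericPoints Y = {genericPoint Y} := genericPoints_eq_singleton
  have hdom : f.base (genericPoint Y) = genericPoint X := by
    have h := hbir.1.mapsTo (show genericPoint Y ∈ genericPoints Y by rw [hgY]; rfl)
    rwa [hgX] at h
  obtain ⟨huniq, hres⟩ := hbir.2 (genericPoint X) (by rw [hgX]; rfl)
  have hres' := hres (genericPoint Y) hdom
  have hdeg : f.residueDegree (genericPoint Y) = 1 :=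
    WeilCohLib.residueDegree_eq_one_of_surjective f _ hres'.2
  set M := Coh.structureModule Y with hMdef
  have hMi : PicF.IsInvertible M := ParaFLib.isInvertible_structureModule
  have hMc := CurveLib.isCoh_of_isInvertible hMi
  haveI := hMc.1
  set G := (Scheme.Modules.pushforward f).obj M with hGdef
  have hG : Coh.IsCoh G := RpushLib.isCoh_push f hMc
  have hO := CurveLib.isCoh_of_isInvertible (ParaFLib.isInvertible_structureModule (X := X))
  haveI := hG.1
  letI : Field (X.presheaf.stalk (genericPoint X)) := (inferInstance : Field X.functionField)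
  haveI := Groth.Agent.PullbackMod.finite_stalk_of_isFT hG.2 (genericPoint X)
  haveI := hO.1
  haveI := Groth.Agent.PullbackMod.finite_stalk_of_isFT hO.2 (genericPoint X)
  obtain ⟨θ⟩ : Nonempty (G.presheaf.stalk (genericPoint X) ≃ₗ[X.presheaf.stalk (genericPoint X)]
      (Coh.structureModule X).presheaf.stalk (genericPoint X)) := by
    refine ⟨LinearEquiv.ofFinrankEq _ _ ?_⟩
    have h1 : Module.finrank (X.presheaf.stalk (genericPoint X))
        ((Coh.structureModule X).presheaf.stalk (genericPoint X)) = 1 := by
      rw [← (LinearEquiv.ofBijective (LinearMap.toSpanSingleton _ _ (ParaFLib.oneG (genericPoint X)))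
        (ParaFLib.bijective_oneG (genericPoint X))).finrank_eq]
      exact Module.finrank_self _
    exact ((finrank_push_stalk k hf hdom (fun z hz => huniq z (genericPoint Y) hz hdom) hMi).trans hdeg).trans h1.symm
  obtain ⟨C, hC⟩ := near_of_genericStalk k hL hdimX hG hO θ 0
  have hY : ∀ m, Module.finrank k (Coh.HH Y (CohB1.tensorPow ((Scheme.Modules.pullback f).obj L) m) 0) =
      hi k L G 0 m := by
    intro m
    set E := CohB1.tensorPow L m with hEdef
    obtain ⟨p0⟩ := DCohLib.nonempty_projection_flf f M
      (CurveLib.isFinLocFree_of_isInvertible (isInvertible_tensorPow hL m)) 0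
    have e0 := Functor.rightDerivedZeroIsoSelf (Scheme.Modules.pushforward f)
    let T := CohB1.tensorMod M ((Scheme.Modules.pullback f).obj E)
    have ep : CohB1.tensorMod G E ≅ (Scheme.Modules.pushforward f).obj T :=
      tIso (e0.app M).symm (Iso.refl E) ≪≫ p0 ≪≫ e0.app T
    let ee : Coh.HH Y T 0 ≃+ Coh.HH X ((Scheme.Modules.pushforward f).obj T) 0 :=
      (RpushLib.h0Γ T).symm.trans (RpushLib.h0Γ ((Scheme.Modules.pushforward f).obj T))
    let eL : Coh.HH Y T 0 ≃ₗ[k] Coh.HH X ((Scheme.Modules.pushforward f).obj T) 0 :=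
      { ee with
        map_smul' := fun a x => by
          obtain ⟨s, rfl⟩ := (RpushLib.h0Γ T).surjective x
          have htg : Coh.toGlobal (Y ↘ Spec (CommRingCat.of k)) a =
              f.appTop.hom (Coh.toGlobal (X ↘ Spec (CommRingCat.of k)) a) := by
            rw [← hf]; rfl
          show ee (Coh.toGlobal (Y ↘ Spec (CommRingCat.of k)) a • RpushLib.h0Γ T s) =
            Coh.toGlobal (X ↘ Spec (CommRingCat.of k)) a • ee (RpushLib.h0Γ T s)
          simp only [ee, AddEquiv.trans_apply, AddEquiv.symm_apply_apply]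
          rw [htg, ← RpushLib.h0Γ_smul, AddEquiv.symm_apply_apply]
          exact RpushLib.h0Γ_smul ((Scheme.Modules.pushforward f).obj T) _ _ }
    calc Module.finrank k (Coh.HH Y (CohB1.tensorPow ((Scheme.Modules.pullback f).obj L) m) 0)
        = Module.finrank k (Coh.HH Y T 0) := hh_congr k ((pullPow f L m).symm ≪≫ (unitL _).symm) 0
      _ = Module.finrank k (Coh.HH X ((Scheme.Modules.pushforward f).obj T) 0) := eL.finrank_eq
      _ = hi k L G 0 m := (hh_congr k ep 0).symm
  have hX : ∀ m, Module.finrank k (Coh.HH X (CohB1.tensorPow L m) 0) = hi k L (Coh.structureModule X) 0 m :=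
    fun m => (hh_congr k (unitL (CohB1.tensorPow L m)) 0).symm
  simp only [hY, hX]
  have key : ∀ u v : ℕ → ℕ, (∀ m, u m ≤ v m + C * B d m) →
      (∃ c : ℝ, 0 < c ∧ ∀ᶠ m : ℕ in Filter.atTop, c * (m : ℝ) ^ d < (u m : ℝ)) →
        ∃ c : ℝ, 0 < c ∧ ∀ᶠ m : ℕ in Filter.atTop, c * (m : ℝ) ^ d < (v m : ℝ) := by
    rintro u v huv ⟨c, hc, hev⟩
    refine ⟨c / 2, by positivity, ((hev.and (((tendsto_B d).const_mul (C : ℝ)).eventually
      (gt_mem_nhds (show (C : ℝ) * 0 < c / 2 by rw [mul_zero]; positivity)))).and
        (Filter.eventually_gt_atTop 0)).mono ?_⟩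
    rintro m ⟨⟨h1, h2⟩, hm⟩
    have hm0 : (0 : ℝ) < (m : ℝ) ^ d := pow_pos (by exact_mod_cast hm) d
    rw [← mul_div_assoc, div_lt_iff₀ hm0] at h2
    have h3 : (u m : ℝ) ≤ (v m : ℝ) + (C : ℝ) * (B d m : ℝ) := by exact_mod_cast huv m
    linarith
  exact ⟨key _ _ fun m => (hC m).2, key _ _ fun m => (hC m).1⟩


end Groth.Agent.S17285
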