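import Groth.Statements.S17286
import Groth.Agent.NefBundleLib.Deg
import Groth.Agent.NakaiLib.Apps
import Groth.Agent.AmpleLib.Pullback
import Groth.Agent.VBLib.Twist
import Groth.Agent.DCohLib.TensorPerf
import Groth.Agent.CurveLib.Ample
import Groth.Agent.S2331
import Groth.Agent.S4381
import Groth.Agent.S2327
import Groth.Agent.VBLib.DualDeg

set_option autoImplicit false
universe u
open CategoryTheory CategoryTheory.Limits AlgebraicGeometry TopologicalSpace
open Variety

namespace Groth.Agent.S17286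

open CategoryTheory CategoryTheory.Limits AlgebraicGeometry

set_option backward.isDefEq.respectTransparency false
set_option backward.defeqAttrib.useBackward true
set_option linter.style.haveILetI false

universe v

open Groth.Agent

variable (k : Type v) [Field k] {C : Scheme.{v}} [C.Over (Spec (CommRingCat.of k))]
  [IsProper (C ↘ Spec (CommRingCat.of k))]

include k in
theorem isAmple_twist {F H : C.Modules} (hF : FlatMod.IsFinLocFree F) (hn : NefBundleLib.QuotNef k F)
    (hH : CohB1.IsAmple H) {P : Scheme.{v}} {p : P ⟶ C} {O1 : P.Modules}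
    {φ : CohB1.tensorMod H F ⟶ (Scheme.Modules.pushforward p).obj O1}
    (D : ProjBundleLib.PData p (CohB1.tensorMod H F) O1 φ) : CohB1.IsAmple O1 := by
  haveI := EulerIneqLib.isNoetherian_proper (X := C) k
  have hG : FlatMod.IsFinLocFree (CohB1.tensorMod H F) :=
    DCohLib.isFinLocFree_tensor (VBLib.DualDeg.flf_of_rank (CurveLib.isFinLocFreeOfRank_one hH.1)) hF
  obtain ⟨q₀, hP⟩ : ∃ q₀, KRR.IsProjBundle p (CohB1.tensorMod H F) O1 q₀ :=
    ⟨_, (GrassShLib.isGrass_of_pdata D).isProjBundle⟩
  haveI := hP.epi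
  haveI : IsProper p := D.isProper (CurveLib.isCoh_of_isFinLocFree hG).2
  letI : P.Over (Spec (CommRingCat.of k)) := ⟨p ≫ (C ↘ Spec (CommRingCat.of k))⟩
  haveI : IsProper (P ↘ Spec (CommRingCat.of k)) :=
    (inferInstanceAs (IsProper (p ≫ (C ↘ Spec (CommRingCat.of k)))))
  haveI := EulerIneqLib.isNoetherian_proper (X := P) k
  have hO := D.isInvertible_O1
  haveI : P.IsSeparated := ⟨by rw [← terminal.comp_from (P ↘ Spec (CommRingCat.of k))]; infer_instance⟩
  obtain ⟨H', hH', ⟨η⟩⟩ := AmpleEmb.exists_isInverseOf hH.1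
  let hp (L : C.Modules) := (Scheme.Modules.pullback p).obj L
  have hpH : PicF.IsInvertible (hp H) := AmpleLib.isInvertible_pullback p hH.1
  have hpH' : PicF.IsInvertible (hp H') := AmpleLib.isInvertible_pullback p hH'
  let ξ := CohB1.tensorMod O1 (hp H')
  have hξ : PicF.IsInvertible ξ := AmpleLib.isInvertible_tensor hO hpH'
  let u : F ≅ CohB1.tensorMod (CohB1.tensorMod H F) H' :=
    ((VBLib.untwist η).app F).symm ≪≫ (CurveLib.tensR H').mapIso (AmpleLib.comm F H)
  haveI : (CurveLib.tensR (hp H')).IsEquivalence :=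
    VBLib.isEquivalence_tensR (A := hp H') (B := hp H)
      (AmpleLib.comm _ _ ≪≫ (AmpleLib.pullTensor p H H').symm ≪≫ (Scheme.Modules.pullback p).mapIso η ≪≫
        AmpleLib.pullO p)
  haveI : Epi ((CurveLib.tensR (hp H')).map q₀) := inferInstance
  have hnξ : Nakai.NefP k hξ := NefBundleLib.nefP_of_quotNef k hn rfl hξ
    (((Scheme.Modules.pullback p).mapIso u ≪≫ AmpleLib.pullTensor p _ H').hom ≫ (CurveLib.tensR (hp H')).map q₀)
  obtain ⟨n, -, hA⟩ := S2331.result p (C ↘ Spec (CommRingCat.of k)) ((Scheme.Modules.pullback (𝟙 P)).obj O1) H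
    (D.isRelAmple_pullback (𝟙 P) (Category.id_comp _) Topology.IsInducing.id) ((S4381.result _ H).2 hH)
  have hA' := (S4381.result _ _).1 (hA n le_rfl)
  have hO' : PicF.IsInvertible ((Scheme.Modules.pullback (𝟙 P)).obj O1) := AmpleLib.isInvertible_pullback _ hO
  have hpn : PicF.IsInvertible (CohB1.tensorPow (hp H) n) := AmpleLib.isInvertible_tensorPow hpH n
  refine (S2327.result P O1 hO (n + 1) n.succ_pos).2
    (Nakai.isAmple_of_cl k hξ hA' hnξ (AmpleLib.isInvertible_tensorPow hO (n + 1)) (a := n) (b := 1) Nat.one_pos ?_)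
  have hsq : ∀ {L M : P.Modules} (hL : PicF.IsInvertible L) (hM : PicF.IsInvertible M),
      Nakai.cl hL * Nakai.cl hM ∈ Nakai.Aug P ^ 2 := fun hL hM => by
    rw [pow_two]; exact Ideal.mul_mem_mul (Nakai.cl_mem hL) (Nakai.cl_mem hM)
  have e1 := Nakai.cl_tensor hO' (AmpleLib.isInvertible_pullback p (AmpleLib.isInvertible_tensorPow hH.1 n))
  rw [Nakai.cl_congr hO' hO ((Scheme.Modules.pullbackId P).app O1),
    Nakai.cl_congr (AmpleLib.isInvertible_pullback p (AmpleLib.isInvertible_tensorPow hH.1 n)) hpn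
      (AmpleLib.pullPow p H n)] at e1
  have e2 := Nakai.cl_tensor hO hpH'
  have e3 := Nakai.cl_tensor hpH hpH'
  rw [Nakai.cl_congr (AmpleLib.isInvertible_tensor hpH hpH') ParaFLib.isInvertible_structureModule
    ((AmpleLib.pullTensor p H H').symm ≪≫ (Scheme.Modules.pullback p).mapIso η ≪≫ AmpleLib.pullO p)] at e3
  have e4 : Nakai.cl (ParaFLib.isInvertible_structureModule (X := P)) = 0 := by
    rw [Nakai.cl, show IntLib.inv' (ParaFLib.isInvertible_structureModule (X := P)) = 1 from Subtype.ext rfl,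
      map_one, sub_self]
  rw [e4] at e3
  rw [e2, Nat.cast_one, one_mul, show Nakai.cl hA'.1 = _ from e1]
  have hc := Ideal.sub_mem _ (Nakai.cl_tensorPow_sub_mem hO (n + 1))
    (Ideal.add_mem _ (Nakai.cl_tensorPow_sub_mem hpH n) (Ideal.add_mem _ (hsq hO hpn)
      (Ideal.mul_mem_left _ (n : IntLib.PicRing P) (Ideal.sub_mem _ (hsq hO hpH') (hsq hpH hpH')))))
  convert hc using 1
  push_cast
  linear_combination (n : IntLib.PicRing P) * e3


/-- (iii) ⇔ (iv), algebraically closed base field; scheme case: let X be a proper scheme over an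
algebraically closed field k and E a finite locally free O_X-module. Then E is nef in the curve-test
sense (for every regular projective curve C over k — integral, proper over k, of dimension one, all
local rings regular — every k-morphism f : C → X and every invertible quotient f^*E → M, deg M =
χ(M) - χ(O_C) ≥ 0) if and only if for every such f : C → X and every ample invertible O_C-module H,
the finite locally free module H ⊗ f^*E is ample: the fundamental module O(1) of its projective
bundle P(H ⊗ f^*E) = Proj(Sym(H ⊗ f^*E)) → C (any relative-Proj data of the graded symmetric algebra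
with its O(1)) is ample. (The source states this for proper algebraic spaces X; this is the case of
schemes.) -/
theorem result (k : Type u) [Field k] [IsAlgClosed k]
    (X : Scheme.{u}) [X.Over (Spec (CommRingCat.of k))] [IsProper (X ↘ (Spec (CommRingCat.of k)))] (E : X.Modules) (hE : FlatMod.IsFinLocFree E) :
    (∀ (C : Scheme.{u}) [C.Over (Spec (CommRingCat.of k))] [IsProper (C ↘ (Spec (CommRingCat.of k)))] [IsIntegral C],
      topologicalKrullDim C = 1 → (∀ x : C, IsRegularLocalRing (C.presheaf.stalk x)) →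
      ∀ (f : C ⟶ X), f ≫ (X ↘ (Spec (CommRingCat.of k))) = C ↘ (Spec (CommRingCat.of k)) →
      ∀ (M : C.Modules), PicF.IsInvertible M →
      ∀ (q : (Scheme.Modules.pullback f).obj E ⟶ M), Epi q → 0 ≤ Curv2.deg k C M 1) ↔
    (∀ (C : Scheme.{u}) [C.Over (Spec (CommRingCat.of k))] [IsProper (C ↘ (Spec (CommRingCat.of k)))] [IsIntegral C],
      topologicalKrullDim C = 1 → (∀ x : C, IsRegularLocalRing (C.presheaf.stalk x)) →
      ∀ (f : C ⟶ X), f ≫ (X ↘ (Spec (CommRingCat.of k))) = C ↘ (Spec (CommRingCat.of k)) →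
      ∀ (H : C.Modules), CohB1.IsAmple H →
      ∀ (𝒮 : RelProj.QCGrAlg C) (j : (CohB1.tensorMod H ((Scheme.Modules.pullback f).obj E)) ⟶ 𝒮.toModule) (P : Scheme.{u}) (p : P ⟶ C)
        (chart : ∀ (U : C.Opens) (hU : IsAffineOpen U),
          (((p ⁻¹ᵁ U : P.Opens) : Scheme.{u}) ≅ Proj (𝒮.deg U hU)))
        (O1 : P.Modules)
        (lam : ∀ (U : C.Opens) (hU : IsAffineOpen U),
          O1 ⟶ (Scheme.Modules.pushforward (RelProj.emb p chart U hU)).obj (GrTwist.twist (𝒮.deg U hU) 1)),
        RelProj.IsGrSymAlg (CohB1.tensorMod H ((Scheme.Modules.pullback f).obj E)) 𝒮 j → RelProj.IsRelProj 𝒮 p chart → RelProj.IsRelTwist 𝒮 p chart 1 O1 lam →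
        CohB1.IsAmple O1) := by
  constructor
  · intro h C _ _ _ hC hreg f hf H hH 𝒮 j P p chart O1 lam hj hPr hO1
    have hF := PullbackMod.isFinLocFree_pullback f E hE
    haveI := EulerIneqLib.isNoetherian_proper (X := C) k
    have hG : FlatMod.IsFinLocFree (CohB1.tensorMod H ((Scheme.Modules.pullback f).obj E)) :=
      DCohLib.isFinLocFree_tensor (VBLib.DualDeg.flf_of_rank (CurveLib.isFinLocFreeOfRank_one hH.1)) hF
    obtain ⟨φ, ⟨D⟩⟩ := ProjBundleLib.exists_φ (PullbackMod.isQCoh_and_isFP_of_isFinLocFree _ hG).1 hj hPr hO1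
    exact isAmple_twist k hF (NefBundleLib.quotNef_pullback k h f hf) hH D
  · intro h C _ _ _ hC hreg f hf M hM q hq
    haveI := hq
    haveI := EulerIneqLib.isNoetherian_proper (X := C) k
    by_contra hneg
    push Not at hneg
    obtain ⟨H, hH, ⟨η⟩⟩ := AmpleEmb.exists_isInverseOf hM
    have hdeg := CurveLib.deg_tensor_add (k := k) hC.le hM hH
    rw [CurveLib.deg_iso (k := k) η 1, CurveLib.deg_structureModule] at hdeg
    have hHa : CohB1.IsAmple H := (CurveLib.isAmple_iff_deg_pos (k := k) hC hH).2 (by omega)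
    have hG : FlatMod.IsFinLocFree (CohB1.tensorMod H ((Scheme.Modules.pullback f).obj E)) :=
      DCohLib.isFinLocFree_tensor (VBLib.DualDeg.flf_of_rank (CurveLib.isFinLocFreeOfRank_one hH))
        (PullbackMod.isFinLocFree_pullback f E hE)
    obtain ⟨P, p, O1, φ, ⟨D⟩⟩ := ProjBundleLib.exists_bundle (PullbackMod.isQCoh_and_isFP_of_isFinLocFree _ hG).1
    obtain ⟨q₀, hP⟩ : ∃ q₀, KRR.IsProjBundle p _ O1 q₀ := ⟨_, (GrassShLib.isGrass_of_pdata D).isProjBundle⟩
    haveI : IsProper p := D.isProper (CurveLib.isCoh_of_isFinLocFree hG).2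
    have hA := h C hC hreg f hf H hHa D.S D.j P p D.chart O1 D.lam D.hj D.hP D.hO1
    haveI : Epi ((CurveLib.tensR H).map q) :=
      haveI := VBLib.isEquivalence_tensR (A := H) (B := M) (AmpleLib.comm H M ≪≫ η)
      inferInstance
    haveI : Epi (AmpleLib.comm H ((Scheme.Modules.pullback f).obj E)).hom := inferInstance
    obtain ⟨g, ⟨hg, e, -⟩, -⟩ := hP.univ C (𝟙 C) (Coh.structureModule C)
      (CurveLib.isFinLocFreeOfRank_one ParaFLib.isInvertible_structureModule)
      ((Scheme.Modules.pullbackId C).hom.app _ ≫ ((AmpleLib.comm H ((Scheme.Modules.pullback f).obj E)).hom ≫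
        (CurveLib.tensR H).map q) ≫ η.hom) inferInstance
    haveI : IsClosedImmersion (g ≫ p) := hg ▸ inferInstance
    haveI : IsClosedImmersion g := IsClosedImmersion.of_comp g p
    have := (CurveLib.isAmple_iff_deg_pos (k := k) hC ParaFLib.isInvertible_structureModule).1
      (AmpleLib.isAmple_of_iso e (AmpleLib.isAmple_pullback g hA))
    rw [CurveLib.deg_structureModule] at this
    exact lt_irrefl _ this

end Groth.Agent.S17286
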