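import Groth.Statements.S17287
import Groth.Agent.CycLib.IntPull
import Groth.Agent.DimFormulaLib.FibrePoints


set_option autoImplicit false
universe u
open CategoryTheory CategoryTheory.Limits AlgebraicGeometry TopologicalSpace
open Variety

namespace Groth.Agent.S17287

open CategoryTheory CategoryTheory.Limits AlgebraicGeometry

open Groth.Agent
set_option backward.isDefEq.respectTransparency false

/-- Let f : Y → X be a surjective k-morphism of proper schemes over a field k and C ⊆ X an integral
closed subscheme of dimension one. Then there is an integral closed subscheme C' ⊆ Y of dimension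
one with f(C') = C as closed subsets. (The source states this for proper algebraic spaces over k;
this is the case of schemes.) -/
theorem result (k : Type u) [Field k] (X Y : Scheme.{u})
    [X.Over (Spec (CommRingCat.of k))] [IsProper (X ↘ (Spec (CommRingCat.of k)))] [Y.Over (Spec (CommRingCat.of k))] [IsProper (Y ↘ (Spec (CommRingCat.of k)))]
    (f : Y ⟶ X) (hf : f ≫ (X ↘ (Spec (CommRingCat.of k))) = Y ↘ (Spec (CommRingCat.of k))) [Surjective f]
    (C : X.IdealSheafData) [IsIntegral C.subscheme] (hC : topologicalKrullDim (C.support : Set X) = 1) :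
    ∃ C' : Y.IdealSheafData, IsIntegral C'.subscheme ∧ topologicalKrullDim (C'.support : Set Y) = 1 ∧
      f.base '' (C'.support : Set Y) = (C.support : Set X) := by
  classical
  haveI : IsProper f := by
    haveI : IsProper (f ≫ (X ↘ Spec (CommRingCat.of k))) := hf ▸ inferInstance
    exact IsProper.of_comp f (X ↘ Spec (CommRingCat.of k))
  haveI := EulerIneqLib.isNoetherian_proper (X := X) k
  obtain ⟨δY, hδY⟩ := CycLib.exists_delta k Y
  obtain ⟨δX, hδX⟩ := CycLib.exists_delta k X
  have hd := CycLib.deltaCompat_of_over k hf hδY hδX
  have hs : closure {C.subschemeι (genericPoint C.subscheme)} = (C.support : Set X) := by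
    have := (genericPoint_spec C.subscheme).image C.subschemeι.continuous
    rwa [Set.image_univ, Scheme.IdealSheafData.range_subschemeι, C.support.isClosed.closure_eq] at this
  set η := C.subschemeι (genericPoint C.subscheme) with hη
  have hη1 : δX η = 1 := CycLib.delta_eq_of_dim k hδX η (t := 1) (by rw [hs, hC]; rfl)
  haveI : CompactSpace (f.fiber η) := inferInstance
  obtain ⟨y₀, hy₀⟩ := f.surjective η
  haveI : Nonempty (f.fiber η) := ⟨(f.fiberHomeo η).symm ⟨y₀, hy₀⟩⟩
  obtain ⟨z, -, hz⟩ := (isClosed_univ (X := f.fiber η)).exists_closed_singleton Set.univ_nonempty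
  set y := (f.fiberHomeo η z).1 with hy
  have hfy : f y = η := (f.fiberHomeo η z).2
  have hh : Order.height z = 0 := Order.height_eq_zero.2 fun w hw => by
    have := (Scheme.le_iff_specializes.1 hw).mem_closed hz rfl
    rw [Set.mem_singleton_iff] at this
    exact this ▸ le_rfl
  obtain ⟨n, hn, e⟩ := hd y
  have hn' := DimFormulaLib.height_in_fibre f η z n hn
  rw [hh] at hn'
  have hn0 : n = 0 := by exact_mod_cast hn'.symm
  have hy1 : δY y = 1 := by rw [e, hfy, hη1, hn0]; rfl
  let J := Scheme.IdealSheafData.vanishingIdeal (⟨closure {y}, isClosed_closure⟩ : TopologicalSpace.Closeds Y)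
  have hJ : (J.support : Set Y) = closure {y} := by
    rw [Scheme.IdealSheafData.coe_support_vanishingIdeal]
    rfl
  refine ⟨J, CurveLib.isIntegral_vanishingIdeal isClosed_closure isIrreducible_singleton.closure, ?_, ?_⟩
  · rw [hJ, CycLib.dim_closure_eq k hδY y (t := 1) hy1]
    rfl
  · rw [hJ, ← hs, ← f.isClosedMap.closure_image_eq_of_continuous f.continuous, Set.image_singleton, hfy]

end Groth.Agent.S17287
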