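import Groth.Statements.S17288
import Groth.Agent.NakaiLib.Main
import Groth.Agent.AVLib.DivSection
import Groth.Agent.AmpleEmb.SectionsGe

set_option autoImplicit false
universe u
open CategoryTheory CategoryTheory.Limits AlgebraicGeometry TopologicalSpace
open Variety

namespace Groth.Agent.S17288

open CategoryTheory CategoryTheory.Limits AlgebraicGeometry

open Groth.Agent
open Groth.Agent.PullbackMod Groth.Agent.DCohLib Groth.Agent.AmpleLib Groth.Agent.ParaFLib
open Groth.Agent.CurveLib (tmap tensR hMap secOf)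
set_option backward.isDefEq.respectTransparency false
set_option linter.style.haveILetI false

/-- A section generating exactly off an effective Cartier divisor is regular. -/
theorem mono_of_genLocus {X : Scheme.{u}} [IsLocallyNoetherian X] {D : X.IdealSheafData}
    (hD : BlowUp.IsEffCartierIdeal D) {L : X.Modules} (hL : PicF.IsInvertible L) (s : Coh.structureModule X ⟶ L)
    (hs : CohB1.genLocus L s = D.support.compl) : Mono s := by
  refine (mono_iff_stalk s).2 fun x => (injective_iff_map_eq_zero _).2 fun z hz => ?_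
  obtain ⟨U, hxU, f, hf, hfU⟩ := hD x
  obtain ⟨W, e, hxW, he⟩ := exists_gen_nhd hL x
  obtain ⟨g, hgW, hxg⟩ := U.2.exists_basicOpen_le (V := W) ⟨x, hxW⟩ hxU
  have hV := U.2.basicOpen g
  let V := X.basicOpen g
  have hle : X.basicOpen g ≤ U.1 := X.basicOpen_le g
  have heV : Gen V (L.presheaf.map (homOfLE hgW).op e) := he.res hgW
  obtain ⟨a, ha⟩ := (heV V le_rfl).2 (AmpleLib.resT (AmpleLib.sec s) V)
  replace ha : a • L.presheaf.map (homOfLE hgW).op e = AmpleLib.resT (AmpleLib.sec s) V :=
    (congrArg (a • ·) (ParaFLib.res_self (le_refl V) (L.presheaf.map (homOfLE hgW).op e)).symm).trans ha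
  let f' := X.presheaf.map (homOfLE hle).op f
  have hb : X.basicOpen f' ≤ X.basicOpen a := by
    have hbo := AmpleLib.genLocus_inf_eq_basicOpen s heV (a := a) ha
    rw [← hbo, hs]
    intro y hy
    have hy' : y ∈ X.basicOpen f := by
      rw [Scheme.basicOpen_res] at hy
      exact hy.2
    refine ⟨fun hyD => ?_, X.basicOpen_le f' hy⟩
    have hyD' : y ∈ (D.support : Set X) ∩ U.1 := ⟨hyD, X.basicOpen_le f hy'⟩
    rw [Scheme.IdealSheafData.coe_support_inter, hfU, Scheme.zeroLocus_span] at hyD'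
    exact ((Scheme.mem_zeroLocus_iff X _ y).1 hyD'.1 f rfl) hy'
  have hrad : f' ∈ (Ideal.span {a}).radical := by
    have h2 := (Scheme.Hom.preimage_mono hV.fromSpec hb)
    rw [hV.fromSpec_preimage_basicOpen, hV.fromSpec_preimage_basicOpen] at h2
    exact (PrimeSpectrum.basicOpen_le_basicOpen_iff _ _).1 h2
  obtain ⟨n, hn⟩ := hrad
  obtain ⟨b, hb'⟩ := Ideal.mem_span_singleton.1 hn
  have hfx : X.presheaf.germ U.1 x hxU f ∈ nonZeroDivisors (X.presheaf.stalk x) := by
    haveI := U.2.isLocalization_stalk ⟨x, hxU⟩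
    letI := X.presheaf.algebra_section_stalk ⟨x, hxU⟩
    exact IsLocalization.map_nonZeroDivisors_le (U.2.primeIdealOf ⟨x, hxU⟩).asIdeal.primeCompl
      (X.presheaf.stalk x) ⟨f, hf, rfl⟩
  have hf'x : X.presheaf.germ V x hxg f' ∈ nonZeroDivisors (X.presheaf.stalk x) := by
    rw [TopCat.Presheaf.germ_res_apply]
    exact hfx
  have hax : X.presheaf.germ V x hxg a ∈ nonZeroDivisors (X.presheaf.stalk x) := by
    have h3 := pow_mem hf'x n
    rw [← map_pow, hb', map_mul] at h3
    exact (mul_mem_nonZeroDivisors.1 h3).1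
  obtain ⟨r, rfl⟩ := (bijective_oneG x).2 z
  have hone : stalkLin s x (oneG x) = L.presheaf.germ ⊤ x trivial (AmpleLib.sec s) :=
    stalkLin_germ s (U := ⊤) x trivial _
  have hse : L.presheaf.germ ⊤ x trivial (AmpleLib.sec s) =
      X.presheaf.germ V x hxg a • L.presheaf.germ V x hxg (L.presheaf.map (homOfLE hgW).op e) := by
    rw [← germ_smul', ha, AmpleLib.resT, TopCat.Presheaf.germ_res_apply]
  change stalkLin s x (r • oneG x) = 0 at hz
  rw [map_smul, hone, hse, smul_smul] at hz
  have hr : r * X.presheaf.germ V x hxg a = 0 := (heV.bijective_germ x hxg).1 (hz.trans (zero_smul _ _).symm)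
  show r • oneG x = 0
  rw [(mul_right_mem_nonZeroDivisors_eq_zero_iff hax).1 hr, zero_smul]

/-- Powers of a generating section generate. -/
theorem mem_genLocus_powS {X : Scheme.{u}} {L : X.Modules} (hL : PicF.IsInvertible L)
    (s : Coh.structureModule X ⟶ L) {x : X} (hx : x ∈ CohB1.genLocus L s) :
    ∀ n, x ∈ CohB1.genLocus _ (powS s n)
  | 0 => by
    show x ∈ CohB1.genLocus (Coh.structureModule X) (𝟙 _)
    rw [genLocus_id]
    exact trivial
  | n + 1 => by
    show x ∈ CohB1.genLocus _ (tensorS (powS s n) s)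
    rw [genLocus_tensorS (isInvertible_tensorPow hL n) hL]
    exact ⟨mem_genLocus_powS hL s hx n, hx⟩

/-- Sections in two consecutive powers give sections in all large powers. -/
theorem exists_combination {X : Scheme.{u}} {L : X.Modules} (hL : PicF.IsInvertible L) {n : ℕ} (hn : 0 < n)
    (σ : Coh.structureModule X ⟶ CohB1.tensorPow L n) (τ : Coh.structureModule X ⟶ CohB1.tensorPow L (n + 1))
    {x : X} (hσ : x ∈ CohB1.genLocus _ σ) (hτ : x ∈ CohB1.genLocus _ τ) {m : ℕ} (hm : n * n ≤ m) :
    ∃ ρ : Coh.structureModule X ⟶ CohB1.tensorPow L m, x ∈ CohB1.genLocus _ ρ := by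
  have h1 : n ≤ m / n := (Nat.le_div_iff_mul_le hn).2 hm
  have h2 : m % n < n := Nat.mod_lt _ hn
  have h3 : n * (m / n - m % n) + (n + 1) * (m % n) = m := by
    obtain ⟨c, hc⟩ := Nat.exists_eq_add_of_le (h2.le.trans h1)
    have h4 := Nat.div_add_mod m n
    rw [hc] at h4
    rw [hc, Nat.add_sub_cancel_left]
    calc n * c + (n + 1) * (m % n) = n * (m % n + c) + m % n := by ring
      _ = m := h4
  have hP := isInvertible_tensorPow hL
  refine ⟨tensorS (powS σ (m / n - m % n)) (powS τ (m % n)) ≫ (tIso (powMul L n _) (powMul L (n + 1) _) ≪≫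
    (powAdd L _ _).symm ≪≫ eqToIso (congrArg (CohB1.tensorPow L) h3)).hom, ?_⟩
  rw [genLocus_comp_iso, genLocus_tensorS (isInvertible_tensorPow (hP n) _) (isInvertible_tensorPow (hP (n + 1)) _)]
  exact ⟨mem_genLocus_powS (hP n) σ hσ _, mem_genLocus_powS (hP (n + 1)) τ hτ _⟩

/-- Let X be a proper scheme over a field k, D ⊆ X an effective Cartier divisor, i.e. a closed subscheme
whose quasi-coherent ideal I_D is an invertible O_X-module, and O_X(D) an invertible module with
O_X(D) ⊗ I_D ≅ O_X. If the restriction of O_X(D) to D is ample on D, then O_X(mD) = O_X(D)^{⊗m} is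
generated by its global sections for all sufficiently large m. (The source states this for proper
algebraic spaces over k; this is the case of schemes.) -/
theorem result (k : Type u) [Field k] (X : Scheme.{u})
    [X.Over (Spec (CommRingCat.of k))] [IsProper (X ↘ (Spec (CommRingCat.of k)))] (D : X.IdealSheafData)
    (hD : PicF.IsInvertible (ClSub.idealMod D)) (LD : X.Modules) (hLD : ClSub.IsInverseOf LD (ClSub.idealMod D))
    (hample : CohB1.IsAmple ((Scheme.Modules.pullback D.subschemeι).obj LD)) :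
    ∀ᶠ m : ℕ in Filter.atTop, Curv2.IsGloballyGenerated (CohB1.tensorPow LD m) := by
  classical
  haveI := EulerIneqLib.isNoetherian_proper (X := X) k
  have hDc : BlowUp.IsEffCartierIdeal D := (S8914.result D).1 hD
  have hLD' : PicF.IsInvertible LD := by
    obtain ⟨ι⟩ := hLD
    exact AmpleLib.isInvertible_of_tensor_iso ι
  obtain ⟨s, hs⟩ := AVLib.exists_section_genLocus_compl hDc hLD' hLD
  haveI := mono_of_genLocus hDc hLD' s hs
  have hgood : ∀ F : X.Modules, Coh.IsCoh F → CohB1.support F ⊆ (D.support : Set X) → Nakai.Good LD F := by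
    intro F hF hsupp
    refine Nakai.good_of_components k hLD' (D.support : Set X) (fun ξ _ hsub => ?_) hF hsupp
    let J := Scheme.IdealSheafData.vanishingIdeal
      (⟨closure {ξ}, isClosed_closure⟩ : TopologicalSpace.Closeds X)
    have hle : D ≤ J := Scheme.IdealSheafData.le_support_iff_le_vanishingIdeal.1 hsub
    haveI : IsClosedImmersion (Scheme.IdealSheafData.inclusion hle) := by
      haveI : IsClosedImmersion (Scheme.IdealSheafData.inclusion hle ≫ D.subschemeι) := by
        rw [Scheme.IdealSheafData.inclusion_subschemeι]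
        infer_instance
      exact IsClosedImmersion.of_comp _ D.subschemeι
    refine AmpleLib.isAmple_of_iso ((Scheme.Modules.pullbackComp (Scheme.IdealSheafData.inclusion hle) D.subschemeι).app LD ≪≫
      (Scheme.Modules.pullbackCongr (Scheme.IdealSheafData.inclusion_subschemeι hle)).app LD) ?_
    exact AmpleLib.isAmple_pullback _ hample
  have hcoh : ∀ {M : X.Modules}, PicF.IsInvertible M → Coh.IsCoh M := fun h => CurveLib.isCoh_of_isInvertible h
  have hC : Coh.IsCoh (cokernel s) := (QCohLib.isCoh_kernel_cokernel s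
    (hcoh ParaFLib.isInvertible_structureModule) (hcoh hLD')).2
  have hCsupp : CohB1.support (cokernel s) ⊆ (D.support : Set X) := fun y hy => by
    by_contra hyD
    exact hy (DevLib.subsingleton_coker s
      (CurveLib.bijective_stalkLin_of_mem_genLocus hLD' (hs.ge hyD)).2)
  obtain ⟨c, hc⟩ := Nakai.surjective_coker k hLD' hLD' one_pos ⟨(AmpleLib.powOne LD).symm⟩ s (hgood _ hC hCsupp)
  have hloc : ∀ x : X, IsClosed ({x} : Set X) → ∃ (n : ℕ) (σ : Coh.structureModule X ⟶ CohB1.tensorPow LD n)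
      (τ : Coh.structureModule X ⟶ CohB1.tensorPow LD (n + 1)), 0 < n ∧ x ∈ CohB1.genLocus _ σ ∧ x ∈ CohB1.genLocus _ τ := by
    intro x hx
    suffices h : ∃ N, ∀ q, N ≤ q → ∃ σ : Coh.structureModule X ⟶ CohB1.tensorPow LD (1 + q),
        x ∈ CohB1.genLocus _ σ by
      obtain ⟨N, hN⟩ := h
      obtain ⟨σ, hσ⟩ := hN N le_rfl
      obtain ⟨τ, hτ⟩ := hN (N + 1) (Nat.le_succ N)
      exact ⟨1 + N, σ, τ ≫ (eqToIso (congrArg (CohB1.tensorPow LD) (by omega))).hom, by omega, hσ,
        by rw [AmpleLib.genLocus_comp_iso]; exact hτ⟩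
    by_cases hxs : x ∈ CohB1.genLocus LD s
    · refine ⟨0, fun q _ => ?_⟩
      have := mem_genLocus_powS hLD' s hxs (1 + q)
      exact ⟨_, this⟩
    have hCx : ¬ Subsingleton ((cokernel s).presheaf.stalk x) := fun h =>
      hxs (Nakai.mem_genLocus_of_subsingleton hLD' s h)
    obtain ⟨hQx, hQm⟩ := Nakai.compMod_tensor_stalk x hC hCx
    obtain ⟨ν, hν⟩ := Nakai.exists_epi_compMod x (cokernel s)
    have hQ := CurveLib.isCoh_tmod (IntLib.isPiece_compMod x).coh hC
    let S' : ShortComplex X.Modules := ShortComplex.mk (kernel.ι ν) ν (kernel.condition ν)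
    have hS' : S'.ShortExact := ShortComplex.ShortExact.mk'
      (ShortComplex.exact_of_f_is_kernel _ (kernelIsKernel _)) (inferInstanceAs (Mono (kernel.ι ν))) hν
    obtain ⟨b, hb⟩ := Nakai.surjective_of_good k hLD' hS' (hgood _ (QCohLib.isCoh_kernel_cokernel ν hC hQ).1
      fun y hy => hCsupp (DevLib.support_subset_of_mono (kernel.ι ν) hy))
    refine ⟨max b c, fun q hq => ?_⟩
    obtain ⟨σ, hσ⟩ := Nakai.exists_section_gen k hx hLD' (AmpleLib.isInvertible_tensorPow hLD' (1 * q)) s rfl ν hQ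
      (Nakai.support_tensor_compMod hx) hQx hQm (hc q ((le_max_right b c).trans hq))
      (hb _ (by rw [one_mul]; exact (le_max_left b c).trans hq))
    refine ⟨σ ≫ (AmpleLib.tIso (AmpleLib.powOne LD).symm (Iso.refl _) ≪≫ (AmpleLib.powAdd LD 1 (1 * q)).symm ≪≫
      eqToIso (congrArg (CohB1.tensorPow LD) (by ring))).hom, ?_⟩
    rwa [AmpleLib.genLocus_comp_iso]
  choose n σ τ hn hσ hτ using hloc
  let V : {x : X // IsClosed ({x} : Set X)} → X.Opens := fun x =>
    CohB1.genLocus _ (σ x.1 x.2) ⊓ CohB1.genLocus _ (τ x.1 x.2)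
  haveI : JacobsonSpace X := LocallyOfFiniteType.jacobsonSpace (X ↘ Spec (CommRingCat.of k))
  obtain ⟨T, hT⟩ := isCompact_univ.elim_finite_subcover (fun x => (V x : Set X)) (fun x => (V x).2) fun y _ => by
    obtain ⟨x, hx, hxc⟩ := (isClosed_closure (s := ({y} : Set X))).exists_closed_singleton ⟨y, subset_closure rfl⟩
    exact Set.mem_iUnion.2 ⟨⟨x, hxc⟩, (specializes_iff_mem_closure.2 hx).mem_open (V ⟨x, hxc⟩).2
      ⟨hσ x hxc, hτ x hxc⟩⟩
  refine Filter.eventually_atTop.2 ⟨T.sup fun x => n x.1 x.2 * n x.1 x.2, fun m hm => ?_⟩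
  have key : ∀ y : X, ∃ ρ : Coh.structureModule X ⟶ CohB1.tensorPow LD m, y ∈ CohB1.genLocus _ ρ := fun y => by
    obtain ⟨x, hxT, hy⟩ := Set.mem_iUnion₂.1 (hT (Set.mem_univ y))
    exact exists_combination hLD' (hn x.1 x.2) (σ x.1 x.2) (τ x.1 x.2) hy.1 hy.2
      ((Finset.le_sup (f := fun x : {x : X // IsClosed ({x} : Set X)} => n x.1 x.2 * n x.1 x.2) hxT).trans hm)
  choose ρ hρ using key
  exact AmpleEmb.isGloballyGenerated_of_genLocus (AmpleLib.isInvertible_tensorPow hLD' m) ρ fun y => ⟨y, hρ y⟩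


end Groth.Agent.S17288
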