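import Groth.Statements.S17289
import Groth.Agent.ProjBundleLib.EpiClosed
import Groth.Agent.AmpleLib.Pullback
import Groth.Agent.PullbackMod.LocFree

set_option autoImplicit false
universe u
open CategoryTheory CategoryTheory.Limits AlgebraicGeometry TopologicalSpace
open Variety

namespace Groth.Agent.S17289

/-- Suppose X is a proper scheme over a field k, and E, F are finite locally free O_X-modules with E → F
surjective. Assume E is ample, meaning that the fundamental module O(1) of the projective bundle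
P(E) = Proj(Sym E) → X is ample (for any relative-Proj data of the graded symmetric algebra of E
with its O(1)); then F is ample in the same sense. (The source states this for proper algebraic
spaces over k, together with the analogous assertion for nef modules; this is the ample assertion in
the case of schemes.) -/
theorem result (k : Type u) [Field k] (X : Scheme.{u})
    [X.Over (Spec (CommRingCat.of k))] [IsProper (X ↘ (Spec (CommRingCat.of k)))] (E F : X.Modules)
    (hE : FlatMod.IsFinLocFree E) (hF : FlatMod.IsFinLocFree F) (φ : E ⟶ F) [Epi φ]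
    (hample : ∀ (𝒮 : RelProj.QCGrAlg X) (j : E ⟶ 𝒮.toModule) (P : Scheme.{u}) (p : P ⟶ X)
        (chart : ∀ (U : X.Opens) (hU : IsAffineOpen U),
          (((p ⁻¹ᵁ U : P.Opens) : Scheme.{u}) ≅ Proj (𝒮.deg U hU)))
        (O1 : P.Modules)
        (lam : ∀ (U : X.Opens) (hU : IsAffineOpen U),
          O1 ⟶ (Scheme.Modules.pushforward (RelProj.emb p chart U hU)).obj (GrTwist.twist (𝒮.deg U hU) 1)),
        RelProj.IsGrSymAlg E 𝒮 j → RelProj.IsRelProj 𝒮 p chart → RelProj.IsRelTwist 𝒮 p chart 1 O1 lam →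
        CohB1.IsAmple O1) :
    ∀ (𝒮 : RelProj.QCGrAlg X) (j : F ⟶ 𝒮.toModule) (P : Scheme.{u}) (p : P ⟶ X)
      (chart : ∀ (U : X.Opens) (hU : IsAffineOpen U),
        (((p ⁻¹ᵁ U : P.Opens) : Scheme.{u}) ≅ Proj (𝒮.deg U hU)))
      (O1 : P.Modules)
      (lam : ∀ (U : X.Opens) (hU : IsAffineOpen U),
        O1 ⟶ (Scheme.Modules.pushforward (RelProj.emb p chart U hU)).obj (GrTwist.twist (𝒮.deg U hU) 1)),
      RelProj.IsGrSymAlg F 𝒮 j → RelProj.IsRelProj 𝒮 p chart → RelProj.IsRelTwist 𝒮 p chart 1 O1 lam →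
      CohB1.IsAmple O1 := by
  intro 𝒮 j P p chart O1 lam hj hP hO1
  have hEq : Coh.IsQCoh E := (Groth.Agent.PullbackMod.isQCoh_and_isFP_of_isFinLocFree E hE).1
  have hFq : Coh.IsQCoh F := (Groth.Agent.PullbackMod.isQCoh_and_isFP_of_isFinLocFree F hF).1
  obtain ⟨φF, ⟨D'⟩⟩ := Groth.Agent.ProjBundleLib.exists_φ hFq hj hP hO1
  obtain ⟨Q, q, OQ, ψ, ⟨D⟩⟩ := Groth.Agent.ProjBundleLib.exists_bundle hEq
  obtain ⟨k, hk, -, -, ⟨τ⟩⟩ := Groth.Agent.ProjBundleLib.exists_closed_of_epi D D' φ
  haveI := hk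
  exact Groth.Agent.AmpleLib.isAmple_of_iso τ (Groth.Agent.AmpleLib.isAmple_pullback k
    (hample D.S D.j Q q D.chart OQ D.lam D.hj D.hP D.hO1))

end Groth.Agent.S17289
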