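import Groth.Statements.S1729
import Mathlib.RingTheory.Nakayama
-- import your own Groth.Agent.* helpers here

set_option autoImplicit false
universe u
open Dual2

namespace Groth.Agent.S1729

/-- Over a local ring, every finite module M admits a projective cover: a surjection from a projective
module P onto M such that no proper submodule of P maps onto M. -/
theorem result (R : Type u) [CommRing R] [IsLocalRing R] (M : Type u) [AddCommGroup M] [Module R M] [Module.Finite R M] : ∃ (P : Type u) (_ : AddCommGroup P) (_ : Module R P) (f : P →ₗ[R] M), Dual2.IsProjectiveCover f := by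
  classical
  have hex : ∃ n : ℕ, ∃ v : Fin n → M, Submodule.span R (Set.range v) = ⊤ := Module.Finite.exists_fin
  obtain ⟨v, hv⟩ := Nat.find_spec hex
  let f : (Fin (Nat.find hex) → R) →ₗ[R] M := Fintype.linearCombination R v
  have hsurj : Function.Surjective f := LinearMap.range_eq_top.1 (by rw [Fintype.range_linearCombination, hv])
  refine ⟨_, inferInstance, inferInstance, f, ⟨inferInstance, hsurj, fun N hN => ?_⟩⟩
  have hker : ∀ x : Fin (Nat.find hex) → R, f x = 0 → ∀ i, x i ∈ IsLocalRing.maximalIdeal R := by
    intro x hx i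
    by_contra hi
    obtain ⟨m, hm⟩ : ∃ m, Nat.find hex = m + 1 := ⟨Nat.find hex - 1, by have := i.2; omega⟩
    have hu : IsUnit (x i) := by simpa [IsLocalRing.mem_maximalIdeal] using hi
    let j : Fin (m + 1) := Fin.cast hm i
    refine Nat.find_min hex (m := m) (by omega) ⟨fun l => v (Fin.cast hm.symm (j.succAbove l)), ?_⟩
    rw [eq_top_iff]
    refine hv.ge.trans (Submodule.span_le.2 ?_)
    rintro _ ⟨l, rfl⟩
    have hmem : ∀ l, l ≠ i → v l ∈ Submodule.span R (Set.range fun t => v (Fin.cast hm.symm (j.succAbove t))) := by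
      intro l hl
      obtain ⟨t, ht⟩ := Fin.exists_succAbove_eq (x := Fin.cast hm l) (y := j) (by simpa [j] using hl)
      exact Submodule.subset_span ⟨t, by simp [ht]⟩
    rcases eq_or_ne l i with rfl | hl
    · have h0 : x l • v l + ∑ t ∈ Finset.univ.erase l, x t • v t = 0 := by
        rw [Finset.add_sum_erase _ (fun t => x t • v t) (Finset.mem_univ l)]
        exact hx
      rw [SetLike.mem_coe, ← Submodule.smul_mem_iff_of_isUnit _ hu, eq_neg_of_add_eq_zero_left h0]
      exact neg_mem (Submodule.sum_mem _ fun t ht => Submodule.smul_mem _ _ (hmem t (Finset.ne_of_mem_erase ht)))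
    · exact hmem l hl
  refine eq_top_iff.2 (Submodule.le_of_le_smul_of_le_jacobson_bot (I := IsLocalRing.maximalIdeal R) Module.Finite.fg_top
    (IsLocalRing.maximalIdeal_le_jacobson _) fun x _ => ?_)
  have hfx : f x ∈ Submodule.map f N := by rw [hN]; trivial
  obtain ⟨y, hy, hxy⟩ := hfx
  rw [show x = y + (x - y) by abel]
  refine Submodule.add_mem_sup hy ?_
  have hz := hker (x - y) (by rw [map_sub, hxy, sub_self])
  rw [pi_eq_sum_univ (x - y)]
  exact Submodule.sum_mem _ fun t _ => Submodule.smul_mem_smul (hz t) Submodule.mem_top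

end Groth.Agent.S1729
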