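import Groth.Statements.S17290
import Groth.Agent.NefBundleLib.Deg
import Groth.Agent.CycLib.NefPull
import Groth.Agent.S16716

set_option autoImplicit false
universe u
open CategoryTheory CategoryTheory.Limits AlgebraicGeometry TopologicalSpace
open Variety

namespace Groth.Agent.S17290

open CategoryTheory CategoryTheory.Limits AlgebraicGeometry

set_option backward.isDefEq.respectTransparency false
set_option backward.defeqAttrib.useBackward true
set_option linter.style.haveILetI false

universe v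

open Groth.Agent

theorem exists_bundle_pullback_flf {X : Scheme.{v}} [IsLocallyNoetherian X] {E : X.Modules} (hE : FlatMod.IsFinLocFree E)
    {P : Scheme.{v}} {p : P ⟶ X} {O1 : P.Modules} {q : (Scheme.Modules.pullback p).obj E ⟶ O1}
    (hP : KRR.IsProjBundle p E O1 q) {Y : Scheme.{v}} [IsLocallyNoetherian Y] (f : Y ⟶ X) :
    ∃ (P₁ : Scheme.{v}) (p₁ : P₁ ⟶ Y) (O₁ : P₁.Modules)
      (q₁ : (Scheme.Modules.pullback p₁).obj ((Scheme.Modules.pullback f).obj E) ⟶ O₁) (g : P₁ ⟶ P),
      KRR.IsProjBundle p₁ ((Scheme.Modules.pullback f).obj E) O₁ q₁ ∧ IsProper p₁ ∧ IsPullback g p₁ p f ∧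
        Nonempty ((Scheme.Modules.pullback g).obj O1 ≅ O₁) := by
  have hq : Coh.IsQCoh E := (CurveLib.isCoh_of_isFinLocFree hE).1
  have hE' := PullbackMod.isFinLocFree_pullback f E hE
  have hq' : Coh.IsQCoh ((Scheme.Modules.pullback f).obj E) := (CurveLib.isCoh_of_isFinLocFree hE').1
  obtain ⟨P₀, p₀, O₀, φ₀, ⟨D⟩⟩ := ProjBundleLib.exists_bundle hq
  obtain ⟨P₁, p₁, O₁, φ₁, ⟨D'⟩⟩ := ProjBundleLib.exists_bundle hq'
  obtain ⟨v, hv, τ, hiso, -⟩ := CycLib.PB.exists_iso_of_isGrass (GrassShLib.isGrass_of_pdata D) (Grass.IsGrass.of_isProjBundle hP)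
  haveI := hiso
  obtain ⟨k, hk, -⟩ := D.existsUnique_compat_of_gens D'.isInvertible_O1 (D'.gens.down f D.hE)
  have hkc : k ≫ p₀ = p₁ ≫ f := hk.1.trans (Category.id_comp _)
  choose c hc huniq using fun s : PullbackCone p₀ f => ProjBundleLib.exists_lift f D' hk D s.fst s.snd s.condition
  have hsq₁ : IsPullback k p₁ p₀ f := IsPullback.of_isLimit' ⟨hkc⟩ (PullbackCone.IsLimit.mk hkc c
    (fun s => (hc s).1) (fun s => (hc s).2) fun s m h1 h2 => huniq s m ⟨h1, h2⟩)
  obtain ⟨hr, τ₁, -⟩ := D.exists_iso_of_compat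
    (((Scheme.Modules.pullbackPushforwardAdjunction (p₁ ≫ f)).homEquiv E _).symm (ProjBundleLib.down f φ₁))
    (r := k) (by simpa only [ProjBundleLib.sigma, Equiv.apply_symm_apply] using hk)
  have hG₁ := GrassShLib.isGrass_of_pdata D'
  haveI : Coh.IsQCoh ((Scheme.Modules.pullback f).obj E) := hq'
  refine ⟨P₁, p₁, O₁, _, k ≫ inv v, hG₁.isProjBundle, D'.isProper (CurveLib.isCoh_of_isFinLocFree hE').2, ?_, ⟨?_⟩⟩
  · have hinv : inv v ≫ p = p₀ := by rw [IsIso.inv_comp_eq, hv]
    have h := hsq₁.paste_horiz (IsPullback.of_horiz_isIso (fst := inv v) (snd := p₀) (f := p) (g := 𝟙 X)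
      ⟨by rw [hinv, Category.comp_id]⟩)
    rwa [Category.comp_id] at h
  · exact ((Scheme.Modules.pullbackComp k (inv v)).app O1).symm ≪≫
      (Scheme.Modules.pullback k).mapIso ((Scheme.Modules.pullback (inv v)).mapIso τ.symm ≪≫
        (Scheme.Modules.pullbackComp (inv v) v).app O₀ ≪≫ (Scheme.Modules.pullbackCongr (IsIso.inv_hom_id v)).app O₀ ≪≫
        (Scheme.Modules.pullbackId P₀).app O₀) ≪≫ τ₁


variable (k : Type v) [Field k] {X : Scheme.{v}} [X.Over (Spec (CommRingCat.of k))]
  [IsProper (X ↘ Spec (CommRingCat.of k))]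

include k in
theorem nef_iff_quotNef {E : X.Modules} {P : Scheme.{v}} [P.Over (Spec (CommRingCat.of k))]
    [IsProper (P ↘ Spec (CommRingCat.of k))] {p : P ⟶ X}
    (hp : p ≫ (X ↘ Spec (CommRingCat.of k)) = P ↘ Spec (CommRingCat.of k)) {O1 : P.Modules}
    {q : (Scheme.Modules.pullback p).obj E ⟶ O1} (hP : KRR.IsProjBundle p E O1 q) :
    (∀ C : P.IdealSheafData, IsIntegral C.subscheme → topologicalKrullDim (C.support : Set P) = 1 →
      0 ≤ Curv2.euler k P (CohB1.tensorMod (ClSub.quotMod C) O1) - Curv2.euler k P (ClSub.quotMod C)) ↔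
      NefBundleLib.QuotNef k E := by
  have hO : PicF.IsInvertible O1 := VBLib.isInvertible_of_rank hP.invertible
  haveI := hP.epi
  obtain ⟨δ, hδ⟩ := CycLib.exists_delta k P
  haveI := EulerIneqLib.isNoetherian_proper (X := P) k
  constructor
  · intro h N _ _ _ hN hreg f hf M hM r hr
    haveI := hr
    obtain ⟨g, ⟨hg, e, -⟩, -⟩ := hP.univ N f M (CurveLib.isFinLocFreeOfRank_one hM) r hr
    obtain ⟨δN, hδN⟩ := CycLib.exists_delta k N
    have hgk : g ≫ (P ↘ Spec (CommRingCat.of k)) = N ↘ Spec (CommRingCat.of k) := by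
      rw [← hp, ← Category.assoc, hg, hf]
    obtain ⟨hη, hD⟩ := CycLib.deg_eq_neg_pairing_generic k hN hδN (AmpleLib.isInvertible_pullback g hO)
    rw [← CurveLib.deg_iso (k := k) e 1, hD]
    have h1 := CycLib.pairing_pullback k hgk hδN hδ 1 (fun _ : Fin 1 => O1) (fun _ => hO) (genericPoint N)
      (by rw [hη]; rfl)
    rw [Fin.prod_univ_one, Fin.prod_univ_one] at h1
    rw [h1, neg_nonneg]
    by_cases hd : δN (genericPoint N) = δ (g (genericPoint N))
    · exact mul_nonpos_of_nonneg_of_nonpos (Int.natCast_nonneg _) ((CycLib.nef_iff k hO hδ).1 h _ (hd ▸ hη))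
    · rw [AlgebraicCycle.mapCoeff, if_neg hd, Nat.cast_zero, zero_mul]
  · intro h
    refine (CycLib.nef_iff k hO hδ).2 fun x hx => ?_
    have hn := NefBundleLib.nefP_of_quotNef k h hp hO q x (CycLib.dim_closure_eq k hδ x (t := 1) hx)
    rw [Nakai.cl_eq_neg_dif, map_neg] at hn
    linarith


/-- Scheme case, curve-test form of nefness: let X be a proper scheme over a field k, E a finite locally
free O_X-module, k'/k a field extension, X' = X ×_k Spec k' and E' the pullback of E to X'. Then E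
is nef over k in the curve-test sense (for every regular projective curve C over k — integral,
proper over k, of dimension one, all local rings regular — every k-morphism f : C → X and every
invertible quotient f^*E → M, deg M = χ(M) - χ(O_C) ≥ 0) if and only if E' is nef over k' in the
same sense (test curves being regular projective curves over k' with k'-morphisms to X'). (The
published statement asserts that E is nef if and only if its pullback is nef for every field
extension k' of k, and its converse is the case k' = k; this row states the equivalence for one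
given extension k', so its converse, that nefness over k' implies nefness over k, is stronger than
the published one. The source states this for proper algebraic spaces with nefness of O(1) on P(E);
on proper schemes the two senses of nef agree by the Barton–Kleiman criterion.) -/
theorem result (k : Type u) [Field k] (X : Scheme.{u})
    [X.Over (Spec (CommRingCat.of k))] [IsProper (X ↘ (Spec (CommRingCat.of k)))] (E : X.Modules) (hE : FlatMod.IsFinLocFree E)
    (k' : Type u) [Field k'] [Algebra k k'] :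
    (∀ (C : Scheme.{u}) [C.Over (Spec (CommRingCat.of k))] [IsProper (C ↘ (Spec (CommRingCat.of k)))] [IsIntegral C],
      topologicalKrullDim C = 1 → (∀ x : C, IsRegularLocalRing (C.presheaf.stalk x)) →
      ∀ (f : C ⟶ X), f ≫ (X ↘ (Spec (CommRingCat.of k))) = C ↘ (Spec (CommRingCat.of k)) →
      ∀ (M : C.Modules), PicF.IsInvertible M →
      ∀ (q : (Scheme.Modules.pullback f).obj E ⟶ M), Epi q → 0 ≤ Curv2.deg k C M 1) ↔
    (∀ (C' : Scheme.{u}) [C'.Over (Spec (CommRingCat.of k'))] [IsProper (C' ↘ (Spec (CommRingCat.of k')))] [IsIntegral C'],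
      topologicalKrullDim C' = 1 → (∀ x : C', IsRegularLocalRing (C'.presheaf.stalk x)) →
      ∀ (g : C' ⟶ (Curv2.bc k X k')), g ≫ Curv2.bcSnd k X k' = C' ↘ (Spec (CommRingCat.of k')) →
      ∀ (M : C'.Modules), PicF.IsInvertible M →
      ∀ (q : (Scheme.Modules.pullback g).obj ((Scheme.Modules.pullback (Curv2.bcFst k X k')).obj E) ⟶ M), Epi q → 0 ≤ Curv2.deg k' C' M 1) := by
  haveI := EulerIneqLib.isNoetherian_proper (X := X) k
  have hEc : Coh.IsCoh E := CurveLib.isCoh_of_isFinLocFree hE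
  letI : (Curv2.bc k X k').Over (Spec (CommRingCat.of k')) := ⟨Curv2.bcSnd k X k'⟩
  haveI : IsProper (Curv2.bc k X k' ↘ Spec (CommRingCat.of k')) := inferInstanceAs (IsProper (Curv2.bcSnd k X k'))
  haveI := EulerIneqLib.isNoetherian_proper (X := Curv2.bc k X k') k'
  obtain ⟨P, p, O1, φ, ⟨D⟩⟩ := ProjBundleLib.exists_bundle hEc.1
  obtain ⟨q, hP⟩ : ∃ q, KRR.IsProjBundle p E O1 q := ⟨_, (GrassShLib.isGrass_of_pdata D).isProjBundle⟩
  haveI : IsProper p := D.isProper hEc.2
  letI : P.Over (Spec (CommRingCat.of k)) := ⟨p ≫ (X ↘ Spec (CommRingCat.of k))⟩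
  haveI : IsProper (P ↘ Spec (CommRingCat.of k)) :=
    (inferInstanceAs (IsProper (p ≫ (X ↘ Spec (CommRingCat.of k)))))
  letI : (Curv2.bc k P k').Over (Spec (CommRingCat.of k')) := ⟨Curv2.bcSnd k P k'⟩
  haveI : IsProper (Curv2.bc k P k' ↘ Spec (CommRingCat.of k')) := inferInstanceAs (IsProper (Curv2.bcSnd k P k'))
  let F := (Scheme.Modules.pullback (Curv2.bcFst k X k')).obj E
  have hF : FlatMod.IsFinLocFree F := PullbackMod.isFinLocFree_pullback _ E hE
  let p' : Curv2.bc k P k' ⟶ Curv2.bc k X k' :=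
    Limits.pullback.map _ _ _ _ p (𝟙 _) (𝟙 _) (by rw [Category.comp_id]; rfl) (by simp)
  have hp' : p' ≫ Curv2.bcSnd k X k' = Curv2.bcSnd k P k' :=
    (Limits.pullback.lift_snd _ _ _).trans (Category.comp_id _)
  have hsq : IsPullback (Curv2.bcFst k P k') p' p (Curv2.bcFst k X k') := by
    refine IsPullback.of_bot ?_ (Limits.pullback.lift_fst _ _ _).symm
      (IsPullback.of_hasPullback (X ↘ Spec (CommRingCat.of k)) (Spec.map (CommRingCat.ofHom (algebraMap k k'))))
    rw [hp']
    exact IsPullback.of_hasPullback (P ↘ Spec (CommRingCat.of k)) _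
  obtain ⟨P₁, p₁, O₁, q₁, g, hP₁, hp₁, hsq₁, ⟨e⟩⟩ := exists_bundle_pullback_flf hE hP (Curv2.bcFst k X k')
  haveI := hp₁
  let v := hsq₁.isoIsPullback _ _ hsq
  letI : P₁.Over (Spec (CommRingCat.of k')) := ⟨p₁ ≫ Curv2.bcSnd k X k'⟩
  haveI : IsProper (P₁ ↘ Spec (CommRingCat.of k')) :=
    (inferInstanceAs (IsProper (p₁ ≫ Curv2.bcSnd k X k')))
  have hv : v.hom ≫ (Curv2.bc k P k' ↘ Spec (CommRingCat.of k')) = P₁ ↘ Spec (CommRingCat.of k') := by
    show v.hom ≫ Curv2.bcSnd k P k' = p₁ ≫ Curv2.bcSnd k X k'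
    rw [← hp', ← Category.assoc, hsq₁.isoIsPullback_hom_snd]
  have hO1 : PicF.IsInvertible ((Scheme.Modules.pullback (Curv2.bcFst k P k')).obj O1) :=
    AmpleLib.isInvertible_pullback _ D.isInvertible_O1
  let τ : (Scheme.Modules.pullback v.hom).obj ((Scheme.Modules.pullback (Curv2.bcFst k P k')).obj O1) ≅ O₁ :=
    (Scheme.Modules.pullbackComp v.hom _).app O1 ≪≫
      (Scheme.Modules.pullbackCongr (hsq₁.isoIsPullback_hom_fst _ _ hsq)).app O1 ≪≫ e
  rw [show (∀ (C : Scheme.{u}) [C.Over (Spec (CommRingCat.of k))] [IsProper (C ↘ (Spec (CommRingCat.of k)))]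
      [IsIntegral C], _) ↔ _ from (nef_iff_quotNef k (p := p) rfl hP).symm]
  refine (S16716.result k P O1 D.isInvertible_O1 k').trans
    ((CycLib.nef_pullback_iff k' v.hom hv hO1).trans (Iff.trans ?_ (nef_iff_quotNef k' (p := p₁) rfl hP₁)))
  refine forall_congr' fun C => imp_congr_right fun _ => imp_congr_right fun _ => ?_
  have he := CurveLib.euler_iso (K := k') (((DCoh.tensorBi (X := P₁)).obj (ClSub.quotMod C)).mapIso τ)
  change Curv2.euler k' P₁ (CohB1.tensorMod (ClSub.quotMod C) _) = Curv2.euler k' P₁ (CohB1.tensorMod (ClSub.quotMod C) O₁) at he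
  rw [he]


end Groth.Agent.S17290
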