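import Groth.Statements.S17292
import Groth.Agent.CycLib.Chern.Bundle
import Groth.Agent.CycLib.PB.Transport
import Groth.Agent.AmpleFibLib.Nbhd
import Groth.Agent.NefBundleLib.Deg
import Groth.Agent.AmpleLib.Pullback

set_option autoImplicit false
universe u
open CategoryTheory CategoryTheory.Limits AlgebraicGeometry TopologicalSpace
open Variety

namespace Groth.Agent.S17292

open CategoryTheory CategoryTheory.Limits AlgebraicGeometry

set_option backward.isDefEq.respectTransparency false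
set_option backward.defeqAttrib.useBackward true
set_option linter.style.haveILetI false

universe v

open Groth.Agent

theorem exists_bundle_pullback_flf {X : Scheme.{v}} [IsLocallyNoetherian X] {E : X.Modules} (hE : FlatMod.IsFinLocFree E)
    {P : Scheme.{v}} {p : P ⟶ X} {O1 : P.Modules} {q : (Scheme.Modules.pullback p).obj E ⟶ O1}
    (hP : KRR.IsProjBundle p E O1 q) {Y : Scheme.{v}} [IsLocallyNoetherian Y] (f : Y ⟶ X) :
    ∃ (P₁ : Scheme.{v}) (p₁ : P₁ ⟶ Y) (O₁ : P₁.Modules)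
      (q₁ : (Scheme.Modules.pullback p₁).obj ((Scheme.Modules.pullback f).obj E) ⟶ O₁) (g : P₁ ⟶ P),
      KRR.IsProjBundle p₁ ((Scheme.Modules.pullback f).obj E) O₁ q₁ ∧ IsProper p₁ ∧ IsPullback g p₁ p f ∧
        Nonempty ((Scheme.Modules.pullback g).obj O1 ≅ O₁) := by
  have hq : Coh.IsQCoh E := (CurveLib.isCoh_of_isFinLocFree hE).1
  have hE' := PullbackMod.isFinLocFree_pullback f E hE
  have hq' : Coh.IsQCoh ((Scheme.Modules.pullback f).obj E) := (CurveLib.isCoh_of_isFinLocFree hE').1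
  obtain ⟨P₀, p₀, O₀, φ₀, ⟨D⟩⟩ := ProjBundleLib.exists_bundle hq
  obtain ⟨P₁, p₁, O₁, φ₁, ⟨D'⟩⟩ := ProjBundleLib.exists_bundle hq'
  obtain ⟨v, hv, τ, hiso, -⟩ := CycLib.PB.exists_iso_of_isGrass (GrassShLib.isGrass_of_pdata D) (Grass.IsGrass.of_isProjBundle hP)
  haveI := hiso
  obtain ⟨k, hk, -⟩ := D.existsUnique_compat_of_gens D'.isInvertible_O1 (D'.gens.down f D.hE)
  have hkc : k ≫ p₀ = p₁ ≫ f := hk.1.trans (Category.id_comp _)
  choose c hc huniq using fun s : PullbackCone p₀ f => ProjBundleLib.exists_lift f D' hk D s.fst s.snd s.condition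
  have hsq₁ : IsPullback k p₁ p₀ f := IsPullback.of_isLimit' ⟨hkc⟩ (PullbackCone.IsLimit.mk hkc c
    (fun s => (hc s).1) (fun s => (hc s).2) fun s m h1 h2 => huniq s m ⟨h1, h2⟩)
  obtain ⟨hr, τ₁, -⟩ := D.exists_iso_of_compat
    (((Scheme.Modules.pullbackPushforwardAdjunction (p₁ ≫ f)).homEquiv E _).symm (ProjBundleLib.down f φ₁))
    (r := k) (by simpa only [ProjBundleLib.sigma, Equiv.apply_symm_apply] using hk)
  have hG₁ := GrassShLib.isGrass_of_pdata D'
  haveI : Coh.IsQCoh ((Scheme.Modules.pullback f).obj E) := hq'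
  refine ⟨P₁, p₁, O₁, _, k ≫ inv v, hG₁.isProjBundle, D'.isProper (CurveLib.isCoh_of_isFinLocFree hE').2, ?_, ⟨?_⟩⟩
  · have hinv : inv v ≫ p = p₀ := by rw [IsIso.inv_comp_eq, hv]
    have h := hsq₁.paste_horiz (IsPullback.of_horiz_isIso (fst := inv v) (snd := p₀) (f := p) (g := 𝟙 X)
      ⟨by rw [hinv, Category.comp_id]⟩)
    rwa [Category.comp_id] at h
  · exact ((Scheme.Modules.pullbackComp k (inv v)).app O1).symm ≪≫
      (Scheme.Modules.pullback k).mapIso ((Scheme.Modules.pullback (inv v)).mapIso τ.symm ≪≫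
        (Scheme.Modules.pullbackComp (inv v) v).app O₀ ≪≫ (Scheme.Modules.pullbackCongr (IsIso.inv_hom_id v)).app O₀ ≪≫
        (Scheme.Modules.pullbackId P₀).app O₀) ≪≫ τ₁


theorem isAmple_iff_of_iso {X Z : Scheme.{v}} (v : X ⟶ Z) [IsIso v] {L : Z.Modules} {M : X.Modules}
    (e : (Scheme.Modules.pullback v).obj L ≅ M) : CohB1.IsAmple M ↔ CohB1.IsAmple L := by
  refine ⟨fun h => ?_, fun h => AmpleLib.isAmple_of_iso e (AmpleLib.isAmple_pullback v h)⟩
  exact AmpleLib.isAmple_of_iso ((Scheme.Modules.pullback (inv v)).mapIso e.symm ≪≫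
    (Scheme.Modules.pullbackComp (inv v) v).app L ≪≫ (Scheme.Modules.pullbackCongr (IsIso.inv_hom_id v)).app L ≪≫
    (Scheme.Modules.pullbackId Z).app L) (AmpleLib.isAmple_pullback (inv v) h)

theorem isOpen_ample_fibres {Z Y : Scheme.{v}} (h : Z ⟶ Y) [IsProper h] {L : Z.Modules} (hL : PicF.IsInvertible L) :
    IsOpen {y : Y | CohB1.IsAmple ((Scheme.Modules.pullback (h.fiberι y)).obj L)} := by
  refine isOpen_iff_forall_mem_open.2 fun y hy => ?_
  obtain ⟨V, hyV, hA⟩ := AmpleFibLib.exists_isRelAmple_nhd h hL y hy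
  refine ⟨(V : Set Y), fun y' hy' => ?_, V.2, hyV⟩
  let t : Spec (CommRingCat.of (Y.residueField y')) ⟶ V.toScheme :=
    IsOpenImmersion.lift V.ι (Y.fromSpecResidueField y') (by
      rintro _ ⟨z, rfl⟩
      rw [Scheme.Opens.range_ι]
      exact ((Scheme.fromSpecResidueField_apply y' z).symm ▸ hy' :))
  have ht : t ≫ V.ι = Y.fromSpecResidueField y' := IsOpenImmersion.lift_fac _ _ _
  have hsq : IsPullback (pullback.fst (h ∣_ V) t ≫ (h ⁻¹ᵁ V).ι) (pullback.snd (h ∣_ V) t) h
      (Y.fromSpecResidueField y') := by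
    rw [← ht]
    exact (IsPullback.of_hasPullback _ t).paste_horiz (isPullback_morphismRestrict h V).flip
  haveI : IsProper (h ∣_ V) := IsZariskiLocalAtTarget.restrict (P := @IsProper) inferInstance V
  have hA' := (AmpleLib.isRelAmple_iff_isAmple (pullback.snd (h ∣_ V) t)).1 (AmpleLib.isRelAmple_baseChange (h ∣_ V) t hA)
  refine (isAmple_iff_of_iso hsq.isoPullback.hom ?_).1 hA'
  exact (Scheme.Modules.pullbackComp hsq.isoPullback.hom _).app L ≪≫
    (Scheme.Modules.pullbackCongr hsq.isoPullback_hom_fst).app L ≪≫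
    ((Scheme.Modules.pullbackComp _ _).app L).symm ≪≫
    (Scheme.Modules.pullback _).mapIso ((Scheme.Modules.restrictFunctorIsoPullback (h ⁻¹ᵁ V).ι).app L).symm


/-- Let Y be a Noetherian scheme, f : X → Y a proper morphism of schemes and E a finite locally free
O_X-module. Then the set of points y of Y such that the restriction E_y of E to the fibre X_y is
ample — meaning that the fundamental module O(1) of the projective bundle P(E_y) = Proj(Sym E_y) →
X_y is ample, for any relative-Proj data of the graded symmetric algebra of E_y with its O(1) — is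
open in Y: if E_y is ample then E_{y'} is ample for every y' in some open neighbourhood of y. (The
source allows X to be an algebraic space proper over Y; this is the case of schemes.) -/
theorem result (X Y : Scheme.{u}) [IsNoetherian Y] (f : X ⟶ Y) [IsProper f]
    (E : X.Modules) (hE : FlatMod.IsFinLocFree E) :
    IsOpen {y : Y | ∀ (𝒮 : RelProj.QCGrAlg (f.fiber y)) (j : ((Scheme.Modules.pullback (f.fiberι y)).obj E) ⟶ 𝒮.toModule) (P : Scheme.{u}) (p : P ⟶ (f.fiber y))
        (chart : ∀ (U : (f.fiber y).Opens) (hU : IsAffineOpen U),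
          (((p ⁻¹ᵁ U : P.Opens) : Scheme.{u}) ≅ Proj (𝒮.deg U hU)))
        (O1 : P.Modules)
        (lam : ∀ (U : (f.fiber y).Opens) (hU : IsAffineOpen U),
          O1 ⟶ (Scheme.Modules.pushforward (RelProj.emb p chart U hU)).obj (GrTwist.twist (𝒮.deg U hU) 1)),
        RelProj.IsGrSymAlg ((Scheme.Modules.pullback (f.fiberι y)).obj E) 𝒮 j → RelProj.IsRelProj 𝒮 p chart → RelProj.IsRelTwist 𝒮 p chart 1 O1 lam →
        CohB1.IsAmple O1} := by
  haveI : IsLocallyNoetherian X := LocallyOfFiniteType.isLocallyNoetherian f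
  have hEc : Coh.IsCoh E := CurveLib.isCoh_of_isFinLocFree hE
  obtain ⟨P, p, O1, φ, ⟨D⟩⟩ := ProjBundleLib.exists_bundle hEc.1
  obtain ⟨q, hP⟩ : ∃ q, KRR.IsProjBundle p E O1 q := ⟨_, (GrassShLib.isGrass_of_pdata D).isProjBundle⟩
  haveI : IsProper p := D.isProper hEc.2
  convert isOpen_ample_fibres (p ≫ f) D.isInvertible_O1 using 1
  refine Set.ext fun y => ?_
  simp only [Set.mem_ofPred_eq]
  haveI : IsLocallyNoetherian (f.fiber y) := by
    haveI : LocallyOfFiniteType (f.fiberToSpecResidueField y) :=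
      MorphismProperty.pullback_snd _ _ inferInstance
    exact LocallyOfFiniteType.isLocallyNoetherian (f.fiberToSpecResidueField y)
  obtain ⟨P₁, p₁, O₁, q₁, g, hP₁, hp₁, hsq₁, ⟨e⟩⟩ := exists_bundle_pullback_flf hE hP (f.fiberι y)
  have hsq : IsPullback g (p₁ ≫ f.fiberToSpecResidueField y) (p ≫ f) (Y.fromSpecResidueField y) :=
    hsq₁.paste_vert (IsPullback.of_hasPullback f (Y.fromSpecResidueField y))
  refine Iff.trans ?_ (isAmple_iff_of_iso hsq.isoPullback.hom ((Scheme.Modules.pullbackComp hsq.isoPullback.hom _).app O1 ≪≫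
    (Scheme.Modules.pullbackCongr hsq.isoPullback_hom_fst).app O1 ≪≫ e))
  have hE' := PullbackMod.isFinLocFree_pullback (f.fiberι y) E hE
  haveI : Coh.IsQCoh ((Scheme.Modules.pullback (f.fiberι y)).obj E) := (CurveLib.isCoh_of_isFinLocFree hE').1
  have hG₁ := Grass.IsGrass.of_isProjBundle hP₁
  refine ⟨fun h => ?_, fun h 𝒮 j Q r chart OQ lam hj hQ hO => ?_⟩
  · obtain ⟨Q, r, OQ, ψ, ⟨DQ⟩⟩ := ProjBundleLib.exists_bundle (CurveLib.isCoh_of_isFinLocFree hE').1
    obtain ⟨v, hv, τ, hiso, -⟩ := CycLib.PB.exists_iso_of_isGrass (GrassShLib.isGrass_of_pdata DQ) hG₁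
    haveI := hiso
    exact (isAmple_iff_of_iso v τ).2 (h DQ.S DQ.j Q r DQ.chart OQ DQ.lam DQ.hj DQ.hP DQ.hO1)
  · obtain ⟨ψ, ⟨DQ⟩⟩ := ProjBundleLib.exists_φ (CurveLib.isCoh_of_isFinLocFree hE').1 hj hQ hO
    obtain ⟨v, hv, τ, hiso, -⟩ := CycLib.PB.exists_iso_of_isGrass (GrassShLib.isGrass_of_pdata DQ) hG₁
    haveI := hiso
    exact (isAmple_iff_of_iso v τ).1 h

end Groth.Agent.S17292
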