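import Groth.Statements.S17299
import Groth.Agent.CurvLocLib.P1Loc
import Groth.Agent.CurvLocLib.SmoothSpace
import Groth.Agent.S10689
import Groth.Agent.S0341

set_option autoImplicit false
universe u
open CurvSt

namespace Groth.Agent.S17299

open CategoryTheory AlgebraicGeometry in
/-- Assume the stack of curves over the base scheme S (families with algebraic-space total space, flat,
proper, of finite presentation and of relative dimension at most 1, no marked points) is an
algebraic stack for the fppf topology. Then, inside it, the families whose structure morphism is a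
Gorenstein morphism (read etale locally on every chart diagram: at every point flat with Gorenstein
fibre local ring) and has relative dimension exactly 1 (at every point of the total space some etale
chart diagram through it has fibre of local dimension 1 there) form an open substack for the fppf
topology; moreover this substack has an object over every algebraically closed field point of S.
(The source works over the integers; the statement over S is its form over a base.) -/
theorem result (S : Scheme.{u})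
    (hC : AlgSt.IsAlgStack Scheme.fppfPrecoverage (CurvSt.Curves S 0)) :
    AlgSt.IsOpenSubstack (CurvSt.Curves S 0) (fun A => AlgSp.LocP (fun _ _ g => ∀ x, (g.stalkMap x).hom.Flat ∧
            LocCoh.IsGorensteinLocalRing ((g.fiber (g x)).presheaf.stalk (g.asFiber x))) A.obj.f ∧
          (∀ x : AlgSp.Points A.obj.X,
            AlgSp.HasAtMor (fun _ _ h u => FlatMor.fibreDimAt h u = ((1 : ℕ) : WithBot ℕ∞)) A.obj.f x)) Scheme.fppfPrecoverage ∧
      ∀ (Ω : Type u) [Field Ω] [IsAlgClosed Ω] (t : Spec (CommRingCat.of Ω) ⟶ S),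
        Nonempty ((AlgSt.fullSub (CurvSt.Curves S 0) (fun A => AlgSp.LocP (fun _ _ g => ∀ x, (g.stalkMap x).hom.Flat ∧
            LocCoh.IsGorensteinLocalRing ((g.fiber (g x)).presheaf.stalk (g.asFiber x))) A.obj.f ∧
          (∀ x : AlgSp.Points A.obj.X,
            AlgSp.HasAtMor (fun _ _ h u => FlatMor.fibreDimAt h u = ((1 : ℕ) : WithBot ℕ∞)) A.obj.f x))).p.Fiber (Over.mk t)) := by
  let P : CurvSt.SpFamObj S 0 → Prop := fun A => AlgSp.LocP (fun _ _ g => ∀ x, (g.stalkMap x).hom.Flat ∧
    LocCoh.IsGorensteinLocalRing ((g.fiber (g x)).presheaf.stalk (g.asFiber x))) A.f ∧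
    (∀ x : AlgSp.Points A.X, AlgSp.HasAtMor (fun _ _ h u => FlatMor.fibreDimAt h u = ((1 : ℕ) : WithBot ℕ∞)) A.f x)
  refine ⟨Groth.Agent.CurvLocLib.isOpenSubstack_curves hC (P := P) fun A => ?_,
    fun Ω _ _ t => Groth.Agent.CurvLocLib.nonempty_fiber_p1 Ω t (P := P) ?_⟩
  · obtain ⟨hA, hf1, -, hf2, -⟩ := id A.property
    obtain ⟨ho, hbc⟩ := Groth.Agent.S10689.result (X := ⟨_, hA⟩) (Y := ⟨_, AlgSp.IsAlgSpace.yon_obj _⟩)
      (ObjectProperty.homMk A.obj.f) hf1 hf2.1
    refine ⟨_, ho.inter (Groth.Agent.CurvLocLib.isOpen_cmDimLocus hA (AlgSp.IsAlgSpace.yon_obj _) hf1 hf2.1 1), fun {B} φ => ?_⟩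
    obtain ⟨hB, -, -, -, -⟩ := id B.property
    have h1 := Set.ext_iff.1 (hbc ⟨_, hB⟩ ⟨_, AlgSp.IsAlgSpace.yon_obj _⟩ (ObjectProperty.homMk _)
      (ObjectProperty.homMk φ.hom.top) (ObjectProperty.homMk B.obj.f) φ.hom.cart)
    have h2 := fun x' => Groth.Agent.CurvLocLib.hasAtMor_dim_baseChange_iff hA (AlgSp.IsAlgSpace.yon_obj _) hf1 hf2.1 hB
      (AlgSp.IsAlgSpace.yon_obj _) φ.hom.cart x' ((1 : ℕ) : WithBot ℕ∞)
    constructor
    · intro h x'
      have hg := (h1 x').1 fun U V a b k u ha hb e _ => h.1 a b k ha hb e u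
      refine ⟨hg, fun U V a b k u ha hb e he => ?_, (h2 x').1 (h.2 x')⟩
      obtain ⟨hfl, hgor⟩ := hg a b k u ha hb e he
      exact ⟨hfl, Groth.Agent.S0341.result _⟩
    · exact fun h => ⟨fun U V a b k ha hb e u => (h1 (AlgSp.Points.ofPt a u)).2 (h _).1 a b k u ha hb e rfl,
        fun x' => (h2 x').2 (h x').2.2⟩
  · obtain ⟨hs1, hs2⟩ := (Groth.Agent.CurvLocLib.locP_smoothRelDimOne_iff (AlgSp.IsAlgSpace.yon_obj _) (AlgSp.IsAlgSpace.yon_obj _)).1
      (Groth.Agent.CurvLocLib.locP_smooth1_p1 Ω t)
    exact ⟨Groth.Agent.CurvLocLib.locP_gor_p1 Ω t, hs2⟩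

end Groth.Agent.S17299
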