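import Groth.Statements.S1730
import Mathlib.RingTheory.Nakayama
-- import your own Groth.Agent.* helpers here

set_option autoImplicit false
universe u
open Dual2

namespace Groth.Agent.S1730

/-- If f : P → M and f' : P' → M are two projective covers of an R-module M, then there is an
isomorphism P ≃ P' compatible with the maps to M. -/
theorem result (R : Type u) [CommRing R] (M P P' : Type u) [AddCommGroup M] [Module R M] [AddCommGroup P] [Module R P] [AddCommGroup P'] [Module R P'] (f : P →ₗ[R] M) (f' : P' →ₗ[R] M) (hf : Dual2.IsProjectiveCover f) (hf' : Dual2.IsProjectiveCover f') : ∃ e : P ≃ₗ[R] P', f' ∘ₗ e.toLinearMap = f := by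
  haveI := hf.projective
  haveI := hf'.projective
  obtain ⟨e, he⟩ := Module.projective_lifting_property f' f hf'.surjective
  have hes : Function.Surjective e := LinearMap.range_eq_top.1 (hf'.essential _ (by
    rw [← LinearMap.range_comp, he, LinearMap.range_eq_top.2 hf.surjective]))
  obtain ⟨s, hs⟩ := Module.projective_lifting_property e LinearMap.id hes
  have hss : Function.Surjective s := LinearMap.range_eq_top.1 (hf.essential _ (by
    rw [← LinearMap.range_comp, ← he, LinearMap.comp_assoc, hs, LinearMap.comp_id,
      LinearMap.range_eq_top.2 hf'.surjective]))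
  have hinj : Function.Injective e := fun x y h => by
    obtain ⟨x, rfl⟩ := hss x
    obtain ⟨y, rfl⟩ := hss y
    rw [← LinearMap.comp_apply, ← LinearMap.comp_apply, hs] at h
    exact congrArg s h
  exact ⟨LinearEquiv.ofBijective e ⟨hinj, hes⟩, he⟩

end Groth.Agent.S1730
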