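import Groth.Statements.S17307
import Groth.Agent.CurvLocLib.FieldRows

set_option autoImplicit false
universe u
open CurvSt

namespace Groth.Agent.S17307

open CategoryTheory AlgebraicGeometry in
/-- Let X be a proper scheme of dimension at most 1 over a field k, and Spec k → S a point of the base.
The classifying object of X in the stack of curves over S lies in the Gorenstein open substack — by
definition: the morphism of sheaves h_X → h_{Spec k} induced by X → Spec k is, in every etale chart
diagram, at every point flat with Gorenstein fibre local ring — if and only if X is Gorenstein, i.e.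
all local rings of X are Gorenstein local rings. -/
theorem result (S : Scheme.{u}) (k : Type u) [Field k] (t : Spec (CommRingCat.of k) ⟶ S)
    (X : Scheme.{u}) (p : X ⟶ Spec (CommRingCat.of k)) [IsProper p] (hdim : topologicalKrullDim ↥X ≤ 1) :
    AlgSp.LocP (fun _ _ g => ∀ x, (g.stalkMap x).hom.Flat ∧
        LocCoh.IsGorensteinLocalRing ((g.fiber (g x)).presheaf.stalk (g.asFiber x))) ((AlgSp.yon S).map (Over.homMk p rfl : Over.mk (p ≫ t) ⟶ Over.mk t)) ↔
      ∀ x : ↥X, LocCoh.IsGorensteinLocalRing (X.presheaf.stalk x) := by
  refine ⟨fun h x => (Groth.Agent.CurvLocLib.gorAt_iff_stalk p x (Groth.Agent.DimFormulaLib.isField_stalk _ _).1).1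
      (h (𝟙 _) (𝟙 _) (Over.homMk p rfl) (AlgSp.repWith_id _ _) (AlgSp.repWith_id _ _)
        (by rw [Category.id_comp, Category.comp_id]) x), ?_⟩
  intro hX U V a b h ha hb e r
  obtain ⟨u, v, hu, hv, huv⟩ := Groth.Agent.CurvLocLib.exists_chart_yon_map ha hb e
  haveI := hu
  haveI := hv
  show Dual3.IsGorensteinAt h.left r
  rw [← Groth.Agent.GorSp.gorMap_postcomp_etale h.left v r, ← huv,
    Groth.Agent.GorSp.gorMap_precomp_etale u _ r,
    Groth.Agent.CurvLocLib.gorAt_iff_stalk _ _ (Groth.Agent.DimFormulaLib.isField_stalk _ _).1]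
  exact hX _

end Groth.Agent.S17307
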