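import Groth.Statements.S17324
import Mathlib
import Groth.Agent.FinAlgClosed.Basic

set_option autoImplicit false
universe u v
open CAlg

namespace Groth.Agent.S17324

/-- (i) ⟺ (ii): let k be an algebraically closed field, A a commutative k-algebra which is
finite-dimensional as a k-vector space and is a local ring with maximal ideal m, and a_1, …, a_m ∈
m. Then A is generated as a k-algebra by a_1, …, a_m if and only if m is generated as an ideal by
a_1, …, a_m. (The printed lemma has a third equivalent condition, that the images of the a_i span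
m/m²; its equivalence with (ii) is Nakayama's lemma.) -/
theorem result (k : Type u) [Field k] [IsAlgClosed k]
    (A : Type v) [CommRing A] [Algebra k A] [Module.Finite k A] [IsLocalRing A]
    (m : ℕ) (a : Fin m → A) (ha : ∀ i, a i ∈ IsLocalRing.maximalIdeal A) :
    Algebra.adjoin k (Set.range a) = ⊤ ↔ Ideal.span (Set.range a) = IsLocalRing.maximalIdeal A := by
  have hpt : ∀ x : A, ∃ c : k, x - algebraMap k A c ∈ IsLocalRing.maximalIdeal A := fun x =>
    ⟨_, FinAlgClosed.sub_point_mem k A (IsLocalRing.maximalIdeal A) x⟩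
  constructor
  · intro h
    refine le_antisymm (Ideal.span_le.mpr fun x hx => by obtain ⟨i, rfl⟩ := hx; exact ha i) fun x hx => ?_
    have hall : ∀ y ∈ Algebra.adjoin k (Set.range a), ∃ c : k, y - algebraMap k A c ∈ Ideal.span (Set.range a) := by
      intro y hy
      induction hy using Algebra.adjoin_induction with
      | mem y hy => exact ⟨0, by simpa using Ideal.subset_span hy⟩
      | algebraMap c => exact ⟨c, by simp⟩
      | add y z _ _ h1 h2 =>
        obtain ⟨c, hc⟩ := h1; obtain ⟨d, hd⟩ := h2
        exact ⟨c + d, by rw [map_add, add_sub_add_comm]; exact add_mem hc hd⟩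
      | mul y z _ _ h1 h2 =>
        obtain ⟨c, hc⟩ := h1; obtain ⟨d, hd⟩ := h2
        refine ⟨c * d, ?_⟩
        rw [show y * z - algebraMap k A (c * d) = (y - algebraMap k A c) * z + algebraMap k A c * (z - algebraMap k A d) by rw [map_mul]; ring]
        exact add_mem (Ideal.mul_mem_right _ _ hc) (Ideal.mul_mem_left _ _ hd)
    obtain ⟨c, hc⟩ := hall x (h ▸ trivial)
    rcases eq_or_ne c 0 with rfl | hc0
    · simpa using hc
    · exfalso
      have h1 : algebraMap k A c ∈ IsLocalRing.maximalIdeal A := by
        have := sub_mem hx (Ideal.span_le.mpr (fun y hy => by obtain ⟨i, rfl⟩ := hy; exact ha i) hc)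
        simpa using this
      exact h1 ((isUnit_iff_ne_zero.mpr hc0).map (algebraMap k A))
  · intro h
    have hart : IsArtinianRing A := IsArtinianRing.of_finite k A
    obtain ⟨n, hn⟩ := (isArtinianRing_iff_isNilpotent_maximalIdeal A).mp hart
    set S := Algebra.adjoin k (Set.range a)
    have hgen : ∀ j, ∀ x ∈ IsLocalRing.maximalIdeal A ^ j, ∃ s ∈ S, x - s ∈ IsLocalRing.maximalIdeal A ^ (j+1) ∧ s ∈ IsLocalRing.maximalIdeal A ^ j := by
      intro j
      induction j with
      | zero =>
        intro x _
        obtain ⟨c, hc⟩ := hpt x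
        exact ⟨_, S.algebraMap_mem c, by simpa using hc, by simp⟩
      | succ j ih =>
        intro x hx
        rw [pow_succ] at hx
        refine Submodule.mul_induction_on hx (fun y hy z hz => ?_) ?_
        · obtain ⟨s, hs, hys, hsm⟩ := ih y hy
          rw [← h] at hz
          refine Submodule.span_induction (p := fun z _ => ∃ t ∈ S, y * z - t ∈ IsLocalRing.maximalIdeal A ^ (j+1+1) ∧ t ∈ IsLocalRing.maximalIdeal A ^ (j+1)) ?_ ?_ ?_ ?_ hz
          · rintro _ ⟨i, rfl⟩
            refine ⟨s * a i, mul_mem hs (Algebra.subset_adjoin (Set.mem_range_self i)), ?_, ?_⟩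
            · rw [← sub_mul, pow_succ]; exact Ideal.mul_mem_mul hys (ha i)
            · rw [pow_succ]; exact Ideal.mul_mem_mul hsm (ha i)
          · exact ⟨0, zero_mem _, by simp, by simp⟩
          · rintro z w - - ⟨t, ht, h1, h2⟩ ⟨t', ht', h1', h2'⟩
            exact ⟨t + t', add_mem ht ht', by rw [mul_add, add_sub_add_comm]; exact add_mem h1 h1', add_mem h2 h2'⟩
          · rintro r z hz' ⟨t, ht, h1, h2⟩
            obtain ⟨c, hc⟩ := hpt r
            refine ⟨algebraMap k A c * t, mul_mem (S.algebraMap_mem c) ht, ?_, Ideal.mul_mem_left _ _ h2⟩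
            rw [smul_eq_mul, show y * (r * z) - algebraMap k A c * t = (r - algebraMap k A c) * (y * z) + algebraMap k A c * (y * z - t) by ring]
            refine add_mem ?_ (Ideal.mul_mem_left _ _ h1)
            rw [pow_succ' _ (j+1)]
            refine Ideal.mul_mem_mul hc ?_
            rw [pow_succ]
            exact Ideal.mul_mem_mul hy (h ▸ hz')
        · rintro y z ⟨t, ht, h1, h2⟩ ⟨t', ht', h1', h2'⟩
          exact ⟨t + t', add_mem ht ht', by rw [add_sub_add_comm]; exact add_mem h1 h1', add_mem h2 h2'⟩
    have hsteps : ∀ (x : A) j, ∃ s ∈ S, x - s ∈ IsLocalRing.maximalIdeal A ^ j := by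
      intro x j; induction j with
      | zero => exact ⟨0, zero_mem _, by simp⟩
      | succ j ih =>
        obtain ⟨s, hs, hxs⟩ := ih
        obtain ⟨t, ht, h1, -⟩ := hgen j _ hxs
        exact ⟨s + t, add_mem hs ht, by rwa [← sub_sub]⟩
    refine top_le_iff.mp fun x _ => ?_
    obtain ⟨s, hs, hxs⟩ := hsteps x n
    rw [hn] at hxs
    rw [sub_eq_zero.mp hxs]; exact hs

end Groth.Agent.S17324
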