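import Groth.Statements.S17325
import Mathlib
-- import your own Groth.Agent.* helpers here

set_option autoImplicit false
universe u v
open LieAlg

namespace Groth.Agent.S17325

/-- Let k be an algebraically closed field of characteristic p > 0, V a finite-dimensional k-vector
space and g a nonzero k-linear subspace of End_k(V) closed under the p-th power map u ↦ u^p. Then g
contains a nonzero u with u^p = c u for some c ∈ k, i.e. a line k u closed under p-th powers. (The
published lemma concerns an abstract nonzero finite-dimensional restricted Lie algebra; this row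
concerns subspaces of End_k(V) closed under p-th powers, a class that contains every restricted Lie
subalgebra of gl(V).) -/
theorem result (k : Type u) [Field k] [IsAlgClosed k]
    (p : ℕ) [Fact p.Prime] [CharP k p] (V : Type v) [AddCommGroup V] [Module k V] [FiniteDimensional k V]
    (g : Submodule k (Module.End k V)) (hg : ∀ u ∈ g, u ^ p ∈ g) (hne : g ≠ ⊥) :
    ∃ u ∈ g, u ≠ 0 ∧ ∃ c : k, u ^ p = c • u := by
  classical
  obtain ⟨u0, hu0g, hu0⟩ := (Submodule.ne_bot_iff g).mp hne
  let v : ℕ → Module.End k V := fun j => u0 ^ p ^ j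
  have hv : ∀ j, v j ∈ g := by
    intro j
    induction j with
    | zero => simpa [v] using hu0g
    | succ j ih => have := hg _ ih; simpa only [v, pow_succ p, pow_mul] using this
  have hvs : ∀ j, v j ^ p = v (j + 1) := fun j => by simp only [v, pow_succ p, pow_mul]
  have hex : ∃ j, v j ∈ Submodule.span k (Set.range fun i : Fin j => v i) := by
    by_contra hcon
    push Not at hcon
    have hli : ∀ j, LinearIndependent k (fun i : Fin j => v i) := by
      intro j
      induction j with
      | zero => exact linearIndependent_empty_type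
      | succ j ih =>
        rw [linearIndependent_finSucc']
        exact ⟨ih, hcon j⟩
    have := (hli (Module.finrank k (Module.End k V) + 1)).fintype_card_le_finrank
    rw [Fintype.card_fin] at this
    omega
  obtain ⟨m', hm'⟩ : ∃ m', Nat.find hex = m' + 1 := by
    refine Nat.exists_eq_succ_of_ne_zero fun h0 => hu0 ?_
    have := Nat.find_spec hex
    rw [h0] at this
    simpa [v, Set.range_eq_empty] using this
  have hmem := Nat.find_spec hex
  rw [hm'] at hmem
  have hmin : v m' ∉ Submodule.span k (Set.range fun i : Fin m' => v i) :=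
    Nat.find_min hex (by omega)
  obtain ⟨a', ha'⟩ := Submodule.mem_span_range_iff_exists_fun k |>.mp hmem
  let a : ℕ → k := fun j => if h : j < m' + 1 then a' ⟨j, h⟩ else 0
  have ha : ∑ j ∈ Finset.range (m' + 1), a j • v j = v (m' + 1) := by
    rw [← ha', Finset.sum_range]
    exact Finset.sum_congr rfl fun i _ => by simp only [a, dif_pos i.isLt]
  have hvm : v m' ≠ 0 := fun h => hmin (h ▸ zero_mem _)
  let P : ℕ → Polynomial k := fun j => Nat.rec (Polynomial.C (a 0) * Polynomial.X ^ p)
    (fun j Q => Q ^ p + Polynomial.C (a (j + 1)) * Polynomial.X ^ p) j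
  have hP0 : P 0 = Polynomial.C (a 0) * Polynomial.X ^ p := rfl
  have hPs : ∀ j, P (j + 1) = P j ^ p + Polynomial.C (a (j + 1)) * Polynomial.X ^ p := fun _ => rfl
  have hp2 : 2 ≤ p := (Fact.out : p.Prime).two_le
  have hX : ∀ j, Polynomial.X ^ 2 ∣ P j := by
    intro j
    induction j with
    | zero => exact dvd_mul_of_dvd_right (pow_dvd_pow _ hp2) _
    | succ j ih =>
      rw [hPs]
      exact dvd_add (ih.trans (dvd_pow_self _ (by omega))) (dvd_mul_of_dvd_right (pow_dvd_pow _ hp2) _)
  have hzero : ∀ j, P j = 0 → ∀ i ≤ j, a i = 0 := by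
    intro j
    induction j with
    | zero =>
      intro h i hi
      obtain rfl : i = 0 := by omega
      simpa [hP0] using h
    | succ j ih =>
      intro h i hi
      rw [hPs] at h
      rcases eq_or_ne (P j) 0 with hj | hj
      · rw [hj, zero_pow (by omega), zero_add] at h
        rcases Nat.lt_or_ge i (j + 1) with hi' | hi'
        · exact ih hj i (by omega)
        · obtain rfl : i = j + 1 := by omega
          simpa using h
      · exfalso
        have h2 := Polynomial.natDegree_le_of_dvd (hX j) hj
        rw [Polynomial.natDegree_X_pow] at h2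
        have h4 : (P j ^ p).natDegree = (Polynomial.C (a (j + 1)) * Polynomial.X ^ p).natDegree := by
          rw [eq_neg_of_add_eq_zero_left h, Polynomial.natDegree_neg]
        have h5 := Polynomial.natDegree_C_mul_X_pow_le (a (j + 1)) p
        rw [← h4, Polynomial.natDegree_pow] at h5
        nlinarith
  rcases eq_or_ne (P m') 0 with hall | hall
  · refine ⟨v m', hv m', hvm, 0, ?_⟩
    rw [hvs, zero_smul, ← ha]
    refine Finset.sum_eq_zero fun j hj => ?_
    rw [hzero m' hall j (Nat.le_of_lt_succ (Finset.mem_range.mp hj)), zero_smul]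
  obtain ⟨R, hR⟩ := hX m'
  let Q : Polynomial k := Polynomial.X * R - 1
  have hQ : Q.degree ≠ 0 := by
    intro h0
    have h1 : R ≠ 0 := fun h => hall (by rw [hR, h, mul_zero])
    have h2 := Polynomial.eq_C_of_degree_eq_zero h0
    have h3 := congrArg (fun F => Polynomial.coeff F (R.natDegree + 1)) h2
    simp [Q, Polynomial.coeff_one, Polynomial.coeff_C, Polynomial.leadingCoeff_ne_zero.mpr h1,
      Polynomial.coeff_X_mul, Polynomial.coeff_natDegree] at h3
  obtain ⟨T, hT⟩ := IsAlgClosed.exists_root Q hQ
  have hTR : T * R.eval T = 1 := by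
    simpa [Polynomial.IsRoot, Q, sub_eq_zero] using hT
  have hT0 : T ≠ 0 := left_ne_zero_of_mul_eq_one hTR
  have hPT : (P m').eval T = T := by
    rw [hR, Polynomial.eval_mul, Polynomial.eval_pow, Polynomial.eval_X]
    linear_combination T * hTR
  let x : ℕ → k := fun j => (P j).eval T
  let X : Module.End k V := ∑ j ∈ Finset.range (m' + 1), x j • v j
  refine ⟨X, Submodule.sum_mem _ fun j _ => g.smul_mem _ (hv j), ?_, 1, ?_⟩
  · intro h0
    apply hmin
    have e : x m' • v m' = -(∑ j ∈ Finset.range m', x j • v j) := by
      simp only [X, Finset.sum_range_succ] at h0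
      exact eq_neg_of_add_eq_zero_right h0
    have : x m' • v m' ∈ Submodule.span k (Set.range fun i : Fin m' => v i) := by
      rw [e]
      exact neg_mem (Submodule.sum_mem _ fun j hj => Submodule.smul_mem _ _
        (Submodule.subset_span ⟨⟨j, Finset.mem_range.mp hj⟩, rfl⟩))
    exact (Submodule.smul_mem_iff _ (show x m' ≠ 0 by simpa [x, hPT] using hT0)).mp this
  · rw [one_smul]
    let F : Polynomial k := ∑ j ∈ Finset.range (m' + 1), Polynomial.C (x j) * Polynomial.X ^ p ^ j
    have hF : Polynomial.aeval u0 F = X := by
      simp [F, X, v, map_sum, Algebra.smul_def]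
    have hFp : Polynomial.aeval u0 (F ^ p) = ∑ j ∈ Finset.range (m' + 1), x j ^ p • v (j + 1) := by
      simp [F, v, sum_pow_char, mul_pow, ← pow_mul, ← pow_succ, map_sum, Algebra.smul_def]
    rw [← hF, ← map_pow, hFp, hF]
    simp only [X]
    rw [Finset.sum_range_succ, show x m' = T from hPT, ← ha, Finset.smul_sum]
    simp only [smul_smul]
    conv_lhs => rw [Finset.sum_range_succ' (fun j => (T ^ p * a j) • v j), ← add_assoc,
      ← Finset.sum_add_distrib]
    rw [Finset.sum_range_succ']
    congr 1
    · refine Finset.sum_congr rfl fun j _ => ?_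
      rw [← add_smul]
      simp only [x, hPs, Polynomial.eval_add, Polynomial.eval_mul, Polynomial.eval_pow,
        Polynomial.eval_C, Polynomial.eval_X, mul_comm (T ^ p)]
    · simp only [x, hP0, Polynomial.eval_mul, Polynomial.eval_pow,
        Polynomial.eval_C, Polynomial.eval_X, mul_comm (T ^ p)]

end Groth.Agent.S17325
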