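import Groth.Statements.S17327
import Mathlib
import Groth.Agent.ConnEt.Extension
-- import your own Groth.Agent.* helpers here

set_option autoImplicit false
universe u v
open Hopf

namespace Groth.Agent.S17327

/-- Let k be an algebraically closed field of characteristic p > 0, A a commutative Hopf algebra over k
which is finite-dimensional as a k-vector space (a finite group scheme G = Spec A), I the
augmentation ideal (kernel of the counit) and n ≥ 1. The n-th Frobenius kernel G_n is the closed
subgroup scheme cut out by the ideal generated by the p^n-th powers f^(p^n), f ∈ I; it is trivial,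
i.e. that ideal equals I, if and only if G is reduced. -/
theorem result (k : Type u) [Field k] [IsAlgClosed k]
    (p : ℕ) [Fact p.Prime] [CharP k p] (A : Type v) [CommRing A] [HopfAlgebra k A] [Module.Finite k A]
    (n : ℕ) (hn : 1 ≤ n) :
    Ideal.span ((fun f : A => f ^ p ^ n) '' (RingHom.ker (Bialgebra.counitAlgHom k A) : Set A)) =
      RingHom.ker (Bialgebra.counitAlgHom k A) ↔ IsReduced A := by
  haveI : IsArtinianRing A := .of_finite k A
  have hq : 2 ≤ p ^ n := le_trans (Fact.out : p.Prime).two_le (Nat.le_self_pow (by omega) p)
  set I : Ideal A := RingHom.ker (Bialgebra.counitAlgHom k A) with hI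
  have hle : Ideal.span ((fun f : A => f ^ p ^ n) '' (I : Set A)) ≤ I ^ 2 := by
    rw [Ideal.span_le]
    rintro _ ⟨f, hf, rfl⟩
    exact Ideal.pow_le_pow_right hq (Ideal.pow_mem_pow hf _)
  constructor
  · intro h
    have hid : IsIdempotentElem I := le_antisymm Ideal.mul_le_left (by rw [← sq]; exact (h.symm.le).trans hle)
    obtain ⟨f, hf, hspan⟩ := (Ideal.isIdempotentElem_iff_of_fg _ (IsNoetherian.noetherian I)).mp hid
    have hf0 : Bialgebra.counitAlgHom k A f = 0 := by
      have : f ∈ I := hspan ▸ Submodule.mem_span_singleton_self f
      exact this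
    have hone : Bialgebra.counitAlgHom k A (1 - f) = 1 := by rw [map_sub, map_one, hf0, sub_zero]
    have hrel : ∀ x, (1 - f) * x = Bialgebra.counitAlgHom k A x • (1 - f) := fun x => by
      have hx : x - algebraMap k A (Bialgebra.counitAlgHom k A x) ∈ I := by
        rw [hI, RingHom.mem_ker, map_sub, AlgHom.commutes]; exact sub_self _
      rw [hspan] at hx
      obtain ⟨c, hc⟩ := Ideal.mem_span_singleton'.mp hx
      rw [Algebra.smul_def]
      linear_combination (-(1 - f)) * hc + (-c) * hf.eq
    haveI := ConnEt.formallyUnramified_of_sepElem (ConnEt.sepElemOfIdem (R := k) (1 - f) hone hrel)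
    exact Algebra.FormallyUnramified.isReduced_of_field k A
  · intro h
    refine le_antisymm (hle.trans (Ideal.pow_le_self two_ne_zero)) ?_
    haveI : IsSemisimpleRing A := IsArtinianRing.isSemisimpleRing_of_isReduced A
    obtain ⟨f, hf, hspan⟩ := IsSemisimpleRing.ideal_eq_span_idempotent I
    have hfI : f ∈ I := hspan ▸ Submodule.mem_span_singleton_self f
    rw [hspan]
    refine (Ideal.span_singleton_le_iff_mem _).mpr ?_
    refine Ideal.subset_span ⟨f, ?_, ?_⟩
    · exact Submodule.mem_span_singleton_self f
    · exact hf.pow_eq (by omega)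

end Groth.Agent.S17327
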