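import Groth.Statements.S17328
import Groth.Agent.FinHopf.Exponent

set_option autoImplicit false
universe u v
open Hopf

namespace Groth.Agent.S17328

/-- Let k be an algebraically closed field of characteristic p > 0 and A a commutative Hopf algebra over
k, finite-dimensional as a k-vector space, with augmentation ideal I (kernel of the counit), such
that f^p = 0 for every f ∈ I (the finite group scheme G = Spec A is infinitesimal of height at most
one: A is then a local ring with maximal ideal I). Then the order of G is dim_k A = p^n where n =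
dim_k I/I² is the dimension of the Lie algebra of G. -/
theorem result (k : Type u) [Field k] [IsAlgClosed k]
    (p : ℕ) [Fact p.Prime] [CharP k p] (A : Type v) [CommRing A] [HopfAlgebra k A] [Module.Finite k A]
    (h1 : ∀ f : A, Bialgebra.counitAlgHom k A f = 0 → f ^ p = 0) :
    Module.finrank k A = p ^ Module.finrank k (RingHom.ker (Bialgebra.counitAlgHom k A)).Cotangent := by
  open Groth.Agent.FinHopf in
  obtain ⟨r, x, ξ, hx, hξx, hξ, hgen⟩ := exists_coords (Bialgebra.counitAlgHom k A)
  haveI : IsArtinianRing A := isArtinian_of_tower k inferInstance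
  haveI := (Bialgebra.counitAlgHom k A).toRingHom.domain_nontrivial
  obtain ⟨N, hN⟩ := IsArtinianRing.isNilpotent_nilradical (R := A)
  have hnil : RingHom.ker (Bialgebra.counitAlgHom k A) ^ N = ⊥ := by
    rw [eq_bot_iff]
    exact (Ideal.pow_right_mono (fun f hf => mem_nilradical.2 ⟨p, h1 f hf⟩) N).trans hN.le
  have hΔ := Groth.Agent.FinHopf.isCounital_bialgebra k A
  obtain ⟨d, hd⟩ := Groth.Agent.FinHopf.exists_partials _ hnil x
    (fun i => Groth.Agent.FinHopf.invDer _ _ hΔ.right (ξ i) (hξ i))
    fun i j => by rw [Groth.Agent.FinHopf.apply_invDer _ _ hΔ.left hΔ.right, hξx]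
  have htop := Groth.Agent.FinHopf.adjoin_eq_top _ hnil x hx hgen
  rw [Groth.Agent.FinHopf.finrank_eq_pow_mul p x d hd htop,
    Groth.Agent.FinHopf.powSub_eq_bot p _ h1, Subalgebra.finrank_bot, mul_one]
  congr 1
  let I := RingHom.ker (Bialgebra.counitAlgHom k A)
  let v : Fin r → I.Cotangent := fun i => I.toCotangent ⟨x i, hx i⟩
  have hv : LinearIndependent k v := by
    rw [Fintype.linearIndependent_iff]
    intro c hc j
    have hmem : ∑ i, c i • x i ∈ I ^ 2 := by
      have h0 : I.toCotangent (∑ i, algebraMap k A (c i) • (⟨x i, hx i⟩ : I)) = 0 := by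
        rw [map_sum, ← hc]
        refine Finset.sum_congr rfl fun i _ => ?_
        rw [LinearMap.map_smul, algebraMap_smul]
      rw [Ideal.toCotangent_eq_zero] at h0
      simpa [Algebra.smul_def] using h0
    have hz : ∀ a ∈ I ^ 2, ξ j a = 0 := by
      intro a ha
      rw [pow_two] at ha
      induction ha using Submodule.mul_induction_on' with
      | mem_mul_mem f hf g hg => rw [hξ, show Bialgebra.counitAlgHom k A f = 0 from hf, show Bialgebra.counitAlgHom k A g = 0 from hg, zero_mul, zero_mul, add_zero]
      | add a _ b _ ha hb => rw [map_add, ha, hb, add_zero]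
    have := hz _ hmem
    rw [map_sum, Finset.sum_eq_single j] at this
    · rwa [map_smul, hξx, if_pos rfl, smul_eq_mul, mul_one] at this
    · intro i _ hij; rw [map_smul, hξx, if_neg (Ne.symm hij), smul_zero]
    · simp
  have hs : ⊤ ≤ Submodule.span k (Set.range v) := by
    intro z _
    obtain ⟨⟨a, ha⟩, rfl⟩ := I.toCotangent_surjective z
    obtain ⟨c, hc⟩ := hgen a ha
    have : I.toCotangent ⟨a, ha⟩ = ∑ i, c i • v i := by
      have h0 : I.toCotangent (⟨a, ha⟩ - ∑ i, algebraMap k A (c i) • (⟨x i, hx i⟩ : I)) = 0 := by
        rw [Ideal.toCotangent_eq_zero]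
        simpa [Algebra.smul_def] using hc
      rw [map_sub, sub_eq_zero, map_sum] at h0
      rw [h0]
      refine Finset.sum_congr rfl fun i _ => ?_
      rw [LinearMap.map_smul, algebraMap_smul]
    rw [this]
    exact Submodule.sum_mem _ fun i _ => Submodule.smul_mem _ _ (Submodule.subset_span ⟨i, rfl⟩)
  rw [Module.finrank_eq_card_basis (Module.Basis.mk hv hs), Fintype.card_fin]

end Groth.Agent.S17328
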