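import Groth.Statements.S17329
import Groth.Agent.HopfGalois.Quotient
import Mathlib
-- import your own Groth.Agent.* helpers here

set_option autoImplicit false
universe u v
open scoped TensorProduct
open Hopf

namespace Groth.Agent.S17329

/-- Let k be an algebraically closed field, A a commutative Hopf algebra over k which is
finite-dimensional as a k-vector space (a finite group scheme G = Spec A), and I a Hopf ideal of A
(a subgroup scheme H = Spec (A/I) of G, of order dim_k (A/I)). Let B ⊆ A be the k-subalgebra of
functions invariant under right multiplication by H: the equaliser of the two algebra maps A → A ⊗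
(A/I), a ↦ (id ⊗ π)(Δ a) and a ↦ a ⊗ 1, so that Spec B is the quotient G/H. Then the quotient
morphism G → G/H is finite locally free of rank |H|: A is a free B-module of rank dim_k (A/I) (B
being a finite product of local rings, locally free of constant rank is the same as free of that
rank). -/
theorem result (k : Type u) [Field k] [IsAlgClosed k]
    (A : Type v) [CommRing A] [HopfAlgebra k A] [Module.Finite k A] (I : Ideal A) [I.IsHopfIdeal k] :
    Module.Free
        ↥(AlgHom.equalizer
          ((Algebra.TensorProduct.map (AlgHom.id k A) (Ideal.Quotient.mkₐ k I)).comp (Bialgebra.comulAlgHom k A))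
          (Algebra.TensorProduct.includeLeft : A →ₐ[k] A ⊗[k] (A ⧸ I))) A ∧
      Module.finrank
        ↥(AlgHom.equalizer
          ((Algebra.TensorProduct.map (AlgHom.id k A) (Ideal.Quotient.mkₐ k I)).comp (Bialgebra.comulAlgHom k A))
          (Algebra.TensorProduct.includeLeft : A →ₐ[k] A ⊗[k] (A ⧸ I))) A =
        Module.finrank k (A ⧸ I) := by
  letI := HopfGalois.quotComod (R := k) I
  haveI := HopfGalois.quot_isCoactAlg (R := k) I
  haveI : Module.Finite k (A ⧸ I) := inferInstance
  rw [← HopfGalois.quot_invariants_eq (R := k) I]
  have hs := HopfGalois.quot_canR_surjective (R := k) I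
  obtain ⟨hfin, hproj⟩ := HopfGalois.finite_projective hs
  let B := GLin.invariants k (A ⧸ I) A
  have hrk : ∀ P : PrimeSpectrum B, Module.rankAtStalk A P = Module.finrank k (A ⧸ I) := fun P => by
    rw [HopfGalois.rankAtStalk_eq hs, Module.rankAtStalk_eq_finrank_of_free]; rfl
  haveI : Module.Finite k B := Module.Finite.of_injective B.val.toLinearMap Subtype.val_injective
  haveI : IsArtinianRing B := IsArtinianRing.of_finite k B
  haveI : Module.Free B A := Module.free_of_flat_of_finrank_eq B A (Module.finrank k (A ⧸ I)) fun P => by
    letI := Ideal.Quotient.field P.1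
    rw [← hrk ⟨P.1, P.2.isPrime⟩, ← show PrimeSpectrum.comap (algebraMap B (B ⧸ P.1)) ⊥ = ⟨P.1, P.2.isPrime⟩ from
      PrimeSpectrum.ext (by simp [← RingHom.ker_eq_comap_bot]), ← Module.rankAtStalk_baseChange,
      Module.rankAtStalk_eq_finrank_of_free]
    rfl
  refine ⟨inferInstance, ?_⟩
  haveI : Nontrivial A := (Bialgebra.counitAlgHom k A).toRingHom.domain_nontrivial
  obtain ⟨P⟩ : Nonempty (PrimeSpectrum B) := inferInstance
  rw [← hrk P, Module.rankAtStalk_eq_finrank_of_free]
  rfl

end Groth.Agent.S17329
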