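import Groth.Statements.S17330
import Mathlib
import Groth.Agent.FinHopf.HeightOne
-- import your own Groth.Agent.* helpers here

set_option autoImplicit false
universe u v
open Hopf

namespace Groth.Agent.S17330

/-- Let k be an algebraically closed field of characteristic p > 0 and A a commutative Hopf algebra over
k, finite-dimensional as a k-vector space and not reduced (a non-reduced finite group scheme G =
Spec A). Then G contains a subgroup scheme isomorphic to μ_p or to α_p: there is a surjective
bialgebra homomorphism from A onto the group algebra of the cyclic group of order p (the Hopf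
algebra of μ_p, group elements group-like) or onto k[X]/(X^p) with X primitive (the Hopf algebra of
α_p). -/
theorem result (k : Type u) [Field k] [IsAlgClosed k]
    (p : ℕ) [Fact p.Prime] [CharP k p] (A : Type v) [CommRing A] [HopfAlgebra k A] [Module.Finite k A]
    (hA : ¬ IsReduced A) :
    (∃ f : A →ₐc[k] MonoidAlgebra k (Multiplicative (ZMod p)), Function.Surjective f) ∨
      (∃ f : A →ₐc[k] AlphaP.A p k, Function.Surjective f) := by
  have hloc : ∀ {H : Type u} [CommRing H] [Bialgebra k H] (z : H),
      Ideal.span {z} = RingHom.ker (Bialgebra.counitAlgHom k H) → z ^ p = 0 → IsLocalRing H := by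
    intro H _ _ z hz hzp
    haveI : Nontrivial H := (Bialgebra.counitAlgHom k H).toRingHom.domain_nontrivial
    haveI hm : (RingHom.ker (Bialgebra.counitAlgHom k H)).IsMaximal :=
      RingHom.ker_isMaximal_of_surjective (Bialgebra.counitAlgHom k H) fun r => ⟨algebraMap k H r, AlgHom.commutes _ r⟩
    refine IsLocalRing.of_unique_max_ideal ⟨_, hm, fun P hP => (hm.eq_of_le hP.ne_top ?_).symm⟩
    rw [← hz, Ideal.span_singleton_le_iff_mem]
    exact hP.isPrime.mem_of_pow_mem p (hzp ▸ zero_mem _)
  obtain ⟨ψ, hψ, hne, h0 | h1⟩ := FinHopf.exists_eigen_tangent (k := k) p hA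
  · obtain ⟨M, hM⟩ := FinHopf.alpha_model (k := k) p
    haveI : IsLocalRing (AlphaP.A p k) := hloc (AlphaP.x p k) (by
      refine le_antisymm ((Ideal.span_singleton_le_iff_mem _).mpr (AlphaP.counit_x p k)) fun y hy => ?_
      obtain ⟨q, rfl⟩ := AlphaP.mk_surjective p k y
      have h := Polynomial.aeval_algHom_apply (Bialgebra.counitAlgHom k (AlphaP.A p k)) (AlphaP.x p k) q
      rw [AlphaP.aeval_x, show Bialgebra.counitAlgHom k (AlphaP.A p k) (AlphaP.x p k) = 0 from AlphaP.counit_x p k] at h
      rw [RingHom.mem_ker] at hy
      rw [hy, Polynomial.coe_aeval_eq_eval, ← Polynomial.coeff_zero_eq_eval_zero] at h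
      obtain ⟨q', rfl⟩ := Polynomial.X_dvd_iff.mpr h
      rw [map_mul]
      exact Ideal.mul_mem_right _ _ (Ideal.subset_span rfl)) (AlphaP.x_pow p k)
    exact Or.inr (M.exists_surjective ψ hψ (by rw [hM]; exact h0) hne)
  · obtain ⟨M, hM⟩ := FinHopf.mu_model (k := k) p
    haveI : IsLocalRing (MonoidAlgebra k (Multiplicative (ZMod p))) := by
      haveI : CharP (MonoidAlgebra k (Multiplicative (ZMod p))) p :=
        charP_of_injective_algebraMap (algebraMap k _).injective p
      haveI : Nontrivial (MonoidAlgebra k (Multiplicative (ZMod p))) :=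
        (Bialgebra.counitAlgHom k _).toRingHom.domain_nontrivial
      have hm : (RingHom.ker (Bialgebra.counitAlgHom k (MonoidAlgebra k (Multiplicative (ZMod p))))).IsMaximal :=
        RingHom.ker_isMaximal_of_surjective _ fun r => ⟨algebraMap k _ r, AlgHom.commutes _ r⟩
      refine IsLocalRing.of_unique_max_ideal ⟨_, hm, fun P hP => (hm.eq_of_le hP.ne_top fun y hy => ?_).symm⟩
      refine hP.isPrime.mem_of_pow_mem p ?_
      have key : ∀ y : MonoidAlgebra k (Multiplicative (ZMod p)),
          y ^ p = algebraMap k _ (Coalgebra.counit (R := k) y ^ p) := by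
        intro y
        induction y using MonoidAlgebra.induction_linear with
        | zero => simp [zero_pow (Fact.out : p.Prime).ne_zero]
        | add a b ha hb => rw [add_pow_char, ha, hb, map_add, add_pow_char, map_add]
        | single m r =>
          rw [MonoidAlgebra.single_pow, MonoidAlgebra.counit_single, CommSemiring.counit_apply,
            show m ^ p = 1 by rw [← ofAdd_toAdd m, ← ofAdd_nsmul, nsmul_eq_mul, ZMod.natCast_self, zero_mul]; rfl]
          simp
      rw [key y, show Coalgebra.counit (R := k) y = 0 from hy, zero_pow (Fact.out : p.Prime).ne_zero, map_zero]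
      exact zero_mem _
    exact Or.inl (M.exists_surjective ψ hψ (by rw [hM]; exact h1) hne)

end Groth.Agent.S17330
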