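import Groth.Statements.S17332
import Mathlib

set_option autoImplicit false
universe u v w
open CAlg

namespace Groth.Agent.S17332

/-- Let k be a field, E and F finite sets, and O(E), O(F) the k-algebras of k-valued functions with
pointwise operations. Then every k-algebra homomorphism u : O(F) → O(E) is pull-back along a unique
map φ : E → F, i.e. u(g) = g ∘ φ for all g. (In the source k is algebraically closed; the printed
argument only uses that k is a field.) -/
theorem result (k : Type u) [Field k] (E : Type v) [Finite E]
    (F : Type w) [Finite F] (u : (F → k) →ₐ[k] (E → k)) :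
    ∃! φ : E → F, ∀ g : F → k, u g = g ∘ φ := by
  classical
  cases nonempty_fintype F
  have h1 : ∀ e : E, ∃ i : F, u (Pi.single i 1) e = 1 := by
    intro e
    have hsum : ∑ i, u (Pi.single i (1:k)) e = 1 := by
      rw [← Finset.sum_apply, ← map_sum, Finset.univ_sum_single (fun _ : F => (1:k))]
      exact congrFun (map_one u) e
    by_contra hne
    push_neg at hne
    have : ∀ i, u (Pi.single i (1:k)) e = 0 := fun i => by
      have hid : u (Pi.single i (1:k)) e * u (Pi.single i (1:k)) e = u (Pi.single i (1:k)) e := by
        rw [← Pi.mul_apply, ← map_mul, ← Pi.single_mul, one_mul]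
      rcases eq_or_ne (u (Pi.single i (1:k)) e) 0 with h | h
      · exact h
      · exact absurd (mul_left_cancel₀ h (hid.trans (mul_one _).symm)) (hne i)
    simp [this] at hsum
  choose φ hφ using h1
  refine ⟨φ, fun g => funext fun e => ?_, fun ψ hψ => funext fun e => ?_⟩
  · have : g * Pi.single (φ e) 1 = g (φ e) • Pi.single (φ e) (1:k) := by
      funext i; rcases eq_or_ne i (φ e) with rfl | h <;> simp [*]
    have := congrFun (congrArg u this) e
    simpa [hφ] using this
  · have := congrFun (hψ (Pi.single (φ e) 1)) e
    rw [hφ, Function.comp_apply] at this
    by_contra h; rw [Pi.single_eq_of_ne h] at this; exact one_ne_zero this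

end Groth.Agent.S17332
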