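import Groth.Statements.S17333
import Mathlib

set_option autoImplicit false
universe u v w
open CAlg

namespace Groth.Agent.S17333

/-- Let k be a field and A = B × C a decomposable commutative k-algebra. Then the natural map Der(B) ×
Der(C) → Der(A) is bijective: every k-derivation D : A → A is (b, c) ↦ (D₁ b, D₂ c) for a unique
pair of k-derivations D₁ : B → B, D₂ : C → C. Compatibility with brackets is not stated. (The
published statement takes k algebraically closed; this row takes any field.) -/
theorem result (k : Type u) [Field k] (B : Type v) [CommRing B] [Algebra k B]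
    (C : Type w) [CommRing C] [Algebra k C] (D : Derivation k (B × C) (B × C)) :
    ∃! P : Derivation k B B × Derivation k C C, ∀ (b : B) (c : C), D (b, c) = (P.1 b, P.2 c) := by
  have he : D (1, 0) = 0 := by
    have h := D.leibniz ((1:B), (0:C)) (1, 0)
    simp [Prod.ext_iff] at h ⊢
    exact h
  have hf : D (0, 1) = 0 := by
    have h := D.map_one_eq_zero
    rw [show (1 : B × C) = (1, 0) + (0, 1) by ext <;> simp, map_add, he, zero_add] at h
    exact h
  have hbc : ∀ b c, D (b, c) = ((D (b, 0)).1, (D (0, c)).2) := by
    intro b c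
    have hb2 : (D (b, 0)).2 = 0 := by
      have := D.leibniz ((1:B), (0:C)) (b, 0)
      simp [he, Prod.ext_iff] at this
      exact this
    have hc1 : (D (0, c)).1 = 0 := by
      have := D.leibniz ((0:B), (1:C)) (0, c)
      simp [hf, Prod.ext_iff] at this
      exact this
    rw [show (b, c) = ((b, 0) : B × C) + (0, c) by simp, map_add]
    ext <;> simp [hb2, hc1]
  have lz1 : ∀ x y : B, (D (x * y, 0)).1 = x * (D (y, 0)).1 + y * (D (x, 0)).1 := fun x y => by
    simpa using congrArg Prod.fst (D.leibniz ((x:B), (0:C)) (y, 0))
  have lz2 : ∀ x y : C, (D (0, x * y)).2 = x * (D (0, y)).2 + y * (D (0, x)).2 := fun x y => by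
    simpa using congrArg Prod.snd (D.leibniz ((0:B), (x:C)) (0, y))
  let l1 : B →ₗ[k] B := (LinearMap.fst k B C).comp (D.toLinearMap.comp (LinearMap.inl k B C))
  let l2 : C →ₗ[k] C := (LinearMap.snd k B C).comp (D.toLinearMap.comp (LinearMap.inr k B C))
  refine ⟨(Derivation.mk' l1 (fun x y => by simpa [l1] using lz1 x y), Derivation.mk' l2 (fun x y => by simpa [l2] using lz2 x y)), fun b c => by simpa [l1, l2] using hbc b c, ?_⟩
  rintro ⟨P1, P2⟩ hP
  ext x
  · have h := hP x 0
    simp only [map_zero] at h
    show P1 x = (D (x, 0)).1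
    rw [h]
  · have h := hP 0 x
    simp only [map_zero] at h
    show P2 x = (D (0, x)).2
    rw [h]

end Groth.Agent.S17333
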