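import Groth.Statements.S17335
import Mathlib
import Groth.Agent.FinAlgClosed.Basic

set_option autoImplicit false
universe u v
open CAlg

namespace Groth.Agent.S17335

/-- Let k be an algebraically closed field and A a commutative k-algebra which is finite-dimensional as
a k-vector space, and let E be the set of k-algebra homomorphisms A → k. Then E is finite, and the
evaluation homomorphism A → O(E) = (E → k), a ↦ (f ↦ f(a)), is surjective with kernel the nilradical
of A; it therefore induces an isomorphism of A_red = A/nilradical(A) onto O(E). -/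
theorem result (k : Type u) [Field k]
    [IsAlgClosed k] (A : Type v) [CommRing A] [Algebra k A] [Module.Finite k A] :
    Finite (A →ₐ[k] k) ∧
      Function.Surjective (AlgHom.pi (R := k) (fun f : A →ₐ[k] k => f)) ∧
      RingHom.ker (AlgHom.pi (R := k) (fun f : A →ₐ[k] k => f)) = nilradical A := by
  have hart : IsArtinianRing A := IsArtinianRing.of_finite k A
  have hker : RingHom.ker (AlgHom.pi (R := k) (fun f : A →ₐ[k] k => f)) = nilradical A := by
    ext a
    rw [FinAlgClosed.nilradical_eq_point_ker k A, RingHom.mem_ker]
    exact funext_iff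
  let e : (A →ₐ[k] k) → MaximalSpectrum A := fun f =>
    ⟨RingHom.ker f, RingHom.ker_isMaximal_of_surjective _ fun x => ⟨algebraMap k A x, f.commutes x⟩⟩
  have he : Function.Injective e := by
    intro f g h
    have h' : RingHom.ker f = RingHom.ker g := congrArg MaximalSpectrum.asIdeal h
    ext a
    have : a - algebraMap k A (f a) ∈ RingHom.ker g := by
      rw [← h', RingHom.mem_ker, map_sub, AlgHom.commutes]; exact sub_self _
    rw [RingHom.mem_ker, map_sub, AlgHom.commutes, sub_eq_zero] at this
    exact this.symm
  have hfin : Finite (A →ₐ[k] k) := Finite.of_injective e he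
  refine ⟨hfin, ?_, hker⟩
  intro y
  obtain ⟨a, ha⟩ := Ideal.pi_quotient_surjective (I := fun f : A →ₐ[k] k => (e f).asIdeal)
    (fun f g h => Ideal.isCoprime_iff_sup_eq.mpr ((e f).isMaximal.coprime_of_ne (e g).isMaximal fun hh => h (he (MaximalSpectrum.ext hh))))
    (fun f => Ideal.Quotient.mk _ (algebraMap k A (y f)))
  refine ⟨a, funext fun f => ?_⟩
  have hmem : a - algebraMap k A (y f) ∈ (e f).asIdeal := Ideal.Quotient.eq.mp (ha f)
  have hmem' : f (a - algebraMap k A (y f)) = 0 := hmem
  rw [map_sub, AlgHom.commutes] at hmem'
  exact sub_eq_zero.mp hmem'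

end Groth.Agent.S17335
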