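import Groth.Statements.S17337
import Groth.Agent.PBW.Restricted
-- import your own Groth.Agent.* helpers here

set_option autoImplicit false
set_option backward.isDefEq.respectTransparency false
universe u v
open PLie

namespace Groth.Agent.S17337

/-- Let k be a field of characteristic p > 0 and (L, x ↦ x^[p]) a finite-dimensional restricted Lie
algebra over k. Then L is isomorphic to a restricted Lie subalgebra of gl_n(k) for some n: there is
an injective k-linear map e : L → M_n(k) with e[x, y] = e(x)e(y) − e(y)e(x) and e(x^[p]) = e(x)^p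
for all x, y. (The published statement takes k algebraically closed; this row takes any field of
characteristic p.) -/
theorem result (k : Type u) [Field k] (p : ℕ) [Fact p.Prime] [CharP k p]
    (L : Type v) [LieRing L] [LieAlgebra k L] [Module.Finite k L] (φ : PLie.PMap k p L) :
    ∃ (n : ℕ) (e : L →ₗ[k] Matrix (Fin n) (Fin n) k), PLie.IsPSubOfAssoc φ e := by
  classical
  let b := Module.finBasis k L
  let B := (Groth.Agent.PBW.rbasis b φ).reindex (Fintype.equivFin _)
  refine ⟨_, (LinearMap.toMatrixAlgEquiv B).toLinearMap ∘ₗ (Algebra.lmul k (Groth.Agent.PBW.Res φ)).toLinearMap ∘ₗ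
    ⟨⟨fun x => Groth.Agent.PBW.rι φ x, fun x y => map_add (Groth.Agent.PBW.rι φ) x y⟩,
      fun c x => map_smul (Groth.Agent.PBW.rι φ) c x⟩, ?_, ?_, ?_⟩
  · intro x y h
    apply Groth.Agent.PBW.rι_injective b φ
    have h2 := Algebra.lmul_injective ((LinearMap.toMatrixAlgEquiv B).injective h)
    exact h2
  · intro x y
    simp only [LinearMap.coe_comp, LinearMap.coe_mk, AddHom.coe_mk, Function.comp_apply, AlgHom.toLinearMap_apply,
      AlgEquiv.toLinearMap_apply]
    rw [Groth.Agent.PBW.rι_lie, map_sub, map_mul, map_mul, map_sub, map_mul, map_mul]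
  · intro x
    simp only [LinearMap.coe_comp, LinearMap.coe_mk, AddHom.coe_mk, Function.comp_apply, AlgHom.toLinearMap_apply,
      AlgEquiv.toLinearMap_apply]
    rw [Groth.Agent.PBW.rι_pow, map_pow, map_pow]

end Groth.Agent.S17337
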