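import Groth.Statements.S17338
import Groth.Agent.PBW.RestrictedDual
-- import your own Groth.Agent.* helpers here

set_option autoImplicit false
set_option backward.isDefEq.respectTransparency false
universe u v
open Hopf

namespace Groth.Agent.S17338

/-- Let k be an algebraically closed field of characteristic p > 0 and (L, x ↦ x^[p]) a
finite-dimensional restricted Lie algebra over k. Then L is the Lie algebra of an infinitesimal
group scheme of height at most one: there are a commutative Hopf algebra A over k,
finite-dimensional as a k-vector space, with f^p = 0 for every f in the augmentation ideal, and an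
injective k-linear map e from L to the k-derivations of A whose image is exactly the set of
left-invariant derivations (those D with Δ ∘ D = (id ⊗ D) ∘ Δ), such that e takes brackets to
commutators of derivations and x^[p] to the p-th power of e(x) as an endomorphism of A. (The
assignment G ↦ Lie(G) is moreover fully faithful on height ≤ 1 groups; that half is not stated
here.) -/
theorem result (k : Type u) [Field k]
    [IsAlgClosed k] (p : ℕ) [Fact p.Prime] [CharP k p]
    (L : Type u) [LieRing L] [LieAlgebra k L] [Module.Finite k L] (φ : PLie.PMap k p L) :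
    ∃ (A : Type u) (_ : CommRing A) (_ : HopfAlgebra k A), Module.Finite k A ∧
      (∀ f : A, Bialgebra.counitAlgHom k A f = 0 → f ^ p = 0) ∧
      ∃ e : L →ₗ[k] Derivation k A A, Function.Injective e ∧
        Set.range e = {D : Derivation k A A | CoalgebraStruct.comul (R := k) (A := A) ∘ₗ D.toLinearMap =
          LinearMap.lTensor A D.toLinearMap ∘ₗ CoalgebraStruct.comul (R := k) (A := A)} ∧
        (∀ x y : L, e ⁅x, y⁆ = ⁅e x, e y⁆) ∧
        (∀ x : L, (e (φ x)).toLinearMap = (e x).toLinearMap ^ p) := by
  classical
  let b := Module.finBasis k L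
  haveI : Module.Finite k (Groth.Agent.PBW.Res φ) := Module.Finite.of_basis (Groth.Agent.PBW.rbasis b φ)
  refine ⟨CartDual.D k (Groth.Agent.PBW.Res φ), inferInstance, inferInstance, inferInstance, ?_, ?_⟩
  · intro f hf
    exact Groth.Agent.PBW.pow_char_eq_zero f hf
  let e : L →ₗ[k] Derivation k (CartDual.D k (Groth.Agent.PBW.Res φ)) (CartDual.D k (Groth.Agent.PBW.Res φ)) :=
    { toFun := fun x => Groth.Agent.PBW.translD φ x
      map_add' := fun x y => Derivation.ext fun f => WithConv.ext (LinearMap.ext fun a => by
        show f.ofConv (a * Groth.Agent.PBW.rι φ (x + y)) =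
          f.ofConv (a * Groth.Agent.PBW.rι φ x) + f.ofConv (a * Groth.Agent.PBW.rι φ y)
        rw [map_add, mul_add, map_add])
      map_smul' := fun c x => Derivation.ext fun f => WithConv.ext (LinearMap.ext fun a => by
        show f.ofConv (a * Groth.Agent.PBW.rι φ (c • x)) = c • f.ofConv (a * Groth.Agent.PBW.rι φ x)
        rw [map_smul, mul_smul_comm, map_smul]) }
  have he : ∀ x f a, e x f a = f (a * Groth.Agent.PBW.rι φ x) := fun x f a => rfl
  have hext : ∀ {u w : Groth.Agent.PBW.Res φ}, (∀ f : Module.Dual k (Groth.Agent.PBW.Res φ), f u = f w) → u = w :=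
    fun {u w} h => sub_eq_zero.1 ((Module.forall_dual_apply_eq_zero_iff k _).1 fun f => by rw [map_sub, h, sub_self])
  refine ⟨e, ?_, ?_, ?_, ?_⟩
  · intro x y hxy
    apply Groth.Agent.PBW.rι_injective b φ
    refine hext fun f => ?_
    have := congrArg (fun D : Derivation k (CartDual.D k (Groth.Agent.PBW.Res φ)) (CartDual.D k (Groth.Agent.PBW.Res φ)) =>
      D (WithConv.toConv f) (1 : Groth.Agent.PBW.Res φ)) hxy
    rw [he, he, one_mul, one_mul] at this
    exact this
  · ext D
    constructor
    · rintro ⟨x, rfl⟩
      apply LinearMap.ext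
      intro f
      apply (CartDual.ev₂ k (Groth.Agent.PBW.Res φ)).injective
      apply TensorProduct.ext'
      intro a c
      show CartDual.ev₂ k _ (Coalgebra.comul (R := k) (e x f)) (a ⊗ₜ c) =
        CartDual.ev₂ k _ (LinearMap.lTensor _ (e x).toLinearMap (Coalgebra.comul (R := k) f)) (a ⊗ₜ c)
      have : ∀ t, CartDual.ev₂ k _ (LinearMap.lTensor _ (e x).toLinearMap t) (a ⊗ₜ c) =
          CartDual.ev₂ k _ t (a ⊗ₜ (c * Groth.Agent.PBW.rι φ x)) := by
        intro t
        induction t using TensorProduct.induction_on with
        | zero => simp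
        | tmul g h =>
          rw [LinearMap.lTensor_tmul, CartDual.ev₂_tmul, CartDual.ev₂_tmul]
          rfl
        | add t t' ht ht' => simp [ht, ht']
      rw [this, CartDual.ev₂_coalgebra_comul_tmul, CartDual.ev₂_coalgebra_comul_tmul, he, mul_assoc]
    · intro hD
      let δ : Module.Dual k (Module.Dual k (Groth.Agent.PBW.Res φ)) :=
        (LinearMap.applyₗ (1 : Groth.Agent.PBW.Res φ)) ∘ₗ (CartDual.toDual k _).toLinearMap ∘ₗ D.toLinearMap ∘ₗ
          (CartDual.toDual k _).symm.toLinearMap
      obtain ⟨w, hw⟩ := (Module.evalEquiv k (Groth.Agent.PBW.Res φ)).surjective δ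
      have hw' : ∀ f : CartDual.D k (Groth.Agent.PBW.Res φ), f w = D f 1 := fun f =>
        LinearMap.congr_fun hw f.ofConv
      have key : ∀ (f : CartDual.D k (Groth.Agent.PBW.Res φ)) a, D f a = f (a * w) := by
        intro f a
        have h1 := congrArg (fun z => CartDual.ev₂ k _ z (a ⊗ₜ[k] (1 : Groth.Agent.PBW.Res φ)))
          (LinearMap.congr_fun hD f)
        simp only [LinearMap.comp_apply, CartDual.ev₂_coalgebra_comul_tmul, mul_one] at h1
        have : ∀ t, CartDual.ev₂ k _ (LinearMap.lTensor _ D.toLinearMap t) (a ⊗ₜ (1 : Groth.Agent.PBW.Res φ)) =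
            CartDual.ev₂ k _ t (a ⊗ₜ w) := by
          intro t
          induction t using TensorProduct.induction_on with
          | zero => simp
          | tmul g h => rw [LinearMap.lTensor_tmul, CartDual.ev₂_tmul, CartDual.ev₂_tmul, hw']; rfl
          | add t t' ht ht' => simp [ht, ht']
        rw [this, CartDual.ev₂_coalgebra_comul_tmul] at h1
        exact h1
      obtain ⟨x, hx⟩ := Groth.Agent.PBW.mem_range_of_primitive (φ := φ) b (w := w) (by
        refine sub_eq_zero.1 ((Module.forall_dual_apply_eq_zero_iff k _).1 ?_)
        intro F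
        rw [map_sub, sub_eq_zero]
        obtain ⟨t, rfl⟩ := (CartDual.ev₂ k (Groth.Agent.PBW.Res φ)).surjective F
        induction t using TensorProduct.induction_on with
        | zero => simp
        | tmul g h =>
          have hgh : CartDual.ev₂ k _ (g ⊗ₜ h) (Coalgebra.comul (R := k) w) = (g * h) w := by
            rw [Groth.Agent.PBW.conv_apply, CartDual.ev₂_tmul_eq']; rfl
          rw [hgh, map_add, CartDual.ev₂_tmul, CartDual.ev₂_tmul, hw', hw', hw', D.leibniz, smul_eq_mul, smul_eq_mul,
            mul_comm h (D g)]
          show (g * D h + D g * h).ofConv 1 = _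
          rw [WithConv.ofConv_add, LinearMap.add_apply]
          show (g * D h) 1 + (D g * h) 1 = _
          rw [Groth.Agent.PBW.conv_one, Groth.Agent.PBW.conv_one, add_comm]
        | add t t' ht ht' => simp only [map_add, LinearMap.add_apply] at ht ht' ⊢; rw [ht, ht']; abel)
      exact ⟨x, Derivation.ext fun f => WithConv.ext (LinearMap.ext fun a => by
        show e x f a = D f a
        rw [he, key, hx])⟩
  · intro x y
    refine Derivation.ext fun f => WithConv.ext (LinearMap.ext fun a => ?_)
    show e ⁅x, y⁆ f a = ⁅e x, e y⁆ f a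
    rw [Derivation.commutator_apply, he, Groth.Agent.PBW.rι_lie, mul_sub, ← mul_assoc, ← mul_assoc]
    show f.ofConv _ = (e x (e y f) - e y (e x f)).ofConv a
    rw [map_sub, WithConv.ofConv_sub, LinearMap.sub_apply]
    rfl
  · intro x
    refine LinearMap.ext fun f => WithConv.ext (LinearMap.ext fun a => ?_)
    show e (φ x) f a = ((Groth.Agent.PBW.transl φ x) ^ p) f a
    rw [he, Groth.Agent.PBW.transl_pow_apply, Groth.Agent.PBW.rι_pow]

end Groth.Agent.S17338
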