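import Groth.Statements.S17344
import Groth.Agent.TwistShriek.SurfSections
import Groth.Agent.TwistShriek.SurfH1
import Groth.Agent.AVExtLib.FatPoints
-- import your own Groth.Agent.* helpers here

set_option autoImplicit false
set_option backward.isDefEq.respectTransparency false
set_option linter.style.haveILetI false
set_option maxHeartbeats 1000000
universe u
open CategoryTheory CategoryTheory.Limits AlgebraicGeometry
open AdjLin

open Groth.Agent Groth.Agent.TwistShriek Groth.Agent.Nakai
open Groth.Agent.IntLib (PicRing)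

namespace Groth.Agent.S17344

theorem count {a b c N m h0 h1 : ℤ} (hN : 0 ≤ N) (ha : 4 * N + 1 ≤ a) (h1n : 0 ≤ h1)
    (h : 2 * (h0 - h1) = m * (m * a) - m * b + 2 * c) (hm : |b| + 2 * |c| + 8 * N + 1 ≤ m) :
    N * ((2 * m + 1) * (2 * m + 1 + 1)) < 2 * h0 := by
  have hb := abs_nonneg b
  have hc := abs_nonneg c
  have e1 : m * b ≤ m * |b| := mul_le_mul_of_nonneg_left (le_abs_self b) (by omega)
  have e2 : -c ≤ |c| := neg_le_abs c
  have e3 : m * (|b| + 2 * |c| + 8 * N + 1) ≤ m * m := mul_le_mul_of_nonneg_left hm (by omega)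
  have e4 : m * m * (4 * N + 1) ≤ m * m * a := mul_le_mul_of_nonneg_left ha (mul_self_nonneg m)
  have e5 : |c| * 1 ≤ |c| * m := mul_le_mul_of_nonneg_left (by omega) hc
  have e6 : N * 1 ≤ N * m := mul_le_mul_of_nonneg_left (by omega) hN
  nlinarith


/-- Let k be an algebraically closed field of characteristic zero, X a smooth projective surface over k
(irreducible, proper, smooth of dimension 2, with an ample invertible module), L an ample invertible
O_X-module with tensor inverse L⁻¹, and Z a finite set of closed points of X such that the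
self-intersection number (L²), the alternating sum of Euler characteristics attached to two copies
of L⁻¹, exceeds 4 · #Z. Then for every sufficiently large m there is a non-zero global section of
(⋂_{z ∈ Z} m_z^(2m+1)) ⊗ L^{⊗m}: a divisor in the linear series of L^{⊗m} with multiplicity greater
than 2m at every point of Z. (In the source L is the ample determinant of a globally generated
rank-2 bundle E and Z the reduced zero set of a section of E, so that (L²) = c_1(E)² and #Z =
c_2(E); the assertion is the dimension count under c_1(E)² > 4 c_2(E).) -/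
theorem result (k : Type u) [Field k] [IsAlgClosed k] [CharZero k]
    (X : Scheme.{u}) [X.Over (Spec (CommRingCat.of k))] [IsProper (X ↘ (Spec (CommRingCat.of k)))]
    [Smooth (X ↘ (Spec (CommRingCat.of k)))] [IrreducibleSpace X] (hdim : topologicalKrullDim X = 2)
    (H : X.Modules) (hH : CohB1.IsAmple H)
    (L Linv : X.Modules) (hL : CohB1.IsAmple L) (hLinv : ClSub.IsInverseOf Linv L)
    (Z : Finset X) (hZ : ∀ z ∈ Z, IsClosed ({z} : Set X))
    (hsq : 4 * (Z.card : ℤ) < FGA.intNum k X 2 (fun _ : Fin 2 => Linv) (Coh.structureModule X)) :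
    ∃ m₀ : ℕ, ∀ m : ℕ, m₀ ≤ m →
      Nontrivial (Coh.HH X (CohB1.tensorMod
        (ClSub.idealMod (⨅ z : ↥Z, (W4c2seshadripos.pointIdeal (z : X) (hZ z z.2)) ^ (2 * m + 1)))
        (CohB1.tensorPow L m)) 0) := by
  haveI := EulerIneqLib.isNoetherian_proper (X := X) k
  haveI := CurveLib.isIntegral_of_smooth (X := X) k
  obtain ⟨W, hW⟩ := exists_canonical_proper k (X := X)
  obtain ⟨hWi, hdual, hdj⟩ := canonical_data_proper k hdim hW
  obtain ⟨eInv⟩ := hLinv
  have hLi := hL.1
  have e' : CohB1.tensorMod L Linv ≅ Coh.structureModule X := CurveLib.tmodComm L Linv ≪≫ eInv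
  have hLinvI : PicF.IsInvertible Linv := AmpleLib.isInvertible_of_tensor_iso eInv
  have h1 : form k (cl hLi) (cl hLi) = form k (cl hLinvI) (cl hLinvI) := by
    rw [form_inverse k hdim hLi hLinvI e' (cl_mem hLi), form_comm,
      form_inverse k hdim hLi hLinvI e' (cl_mem hLinvI), neg_neg]
  rw [show (fun _ : Fin 2 => Linv) = ![Linv, Linv] from funext fun i => by fin_cases i <;> rfl,
    intNum_eq_form k hdim.le hLinvI hLinvI, ← h1] at hsq
  set a := form k (cl hLi) (cl hLi) with ha
  set b := form k (cl hLi) (cl hWi) with hb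
  set w := form k (cl hWi) (cl hLi) with hw
  set c := Curv2.euler k X (Coh.structureModule X) with hc
  have hn : NefP k hLi := fun ξ hξ => by
    have := (isPos_cl_pow k hL 1 _ (IntLib.isPiece_compMod ξ).coh (lt_of_le_of_lt
      ((Topology.IsEmbedding.inclusion ((IntLib.support_quotMod_subset _).trans
        (Scheme.IdealSheafData.coe_support_vanishingIdeal _).le)).isInducing.topologicalKrullDim_le.trans hξ.le)
      (by exact_mod_cast Nat.lt_succ_self 1))).1
    rwa [pow_one] at this
  refine ⟨(|b| + 2 * |c| + |w| + 8 * Z.card + 1).toNat, fun m hm => ?_⟩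
  have hm1 : |b| + 2 * |c| + |w| + 8 * (Z.card : ℤ) + 1 ≤ (m : ℤ) :=
    le_trans (Int.self_le_toNat _) (by exact_mod_cast hm)
  have hwm : w < (m : ℤ) * a :=
    (num_big (b := 0) (c := 0) (by have := abs_nonneg b; have := abs_nonneg c; omega) le_rfl le_rfl
      (show 0 < a by omega)).2
  have hP := AmpleLib.isInvertible_tensorPow hLi m
  obtain ⟨P', hP', ⟨eP⟩⟩ := AmpleEmb.exists_isInverseOf hP
  have hpow := cl_tensorPow_sub_mem hLi m
  have hf : ∀ {v : PicRing X}, v ∈ Aug X → form k (cl hP) v = (m : ℤ) * form k (cl hLi) v := fun {v} hv => by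
    rw [form_congr k hdim hpow hv, form, form, mul_assoc, ← nsmul_eq_mul, map_nsmul, nsmul_eq_mul]
  have hrr := two_mul_euler_of_duality k hdim.le hWi hdual hP
  rw [intNum_eq_form k hdim.le hP hP, intNum_eq_form k hdim.le hP hWi, hf (cl_mem hP), form_comm k (cl hLi),
    hf (cl_mem hLi), hf (cl_mem hWi)] at hrr
  have h2z : Module.finrank k (Coh.HH X (CohB1.tensorPow L m) 2) = 0 := by
    have h := hdj _ P' hP ⟨eP⟩ 0 (by omega)
    rw [Nat.sub_zero] at h
    rw [← h]
    by_contra hne
    have hWP := AmpleLib.isInvertible_tensor hWi hP'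
    have h1' := form_nef_section k hdim hn hWP (Module.nontrivial_of_finrank_pos (Nat.pos_of_ne_zero hne))
    rw [form_congr k hdim (u := cl hWP) (w := cl hWi + cl hP') (by
      rw [cl_tensor hWi hP', add_sub_cancel_left, pow_two]
      exact Ideal.mul_mem_mul (cl_mem _) (cl_mem _)) (cl_mem hLi), form_add_left] at h1'
    have h2 := form_inverse k hdim hP hP' eP (cl_mem hLi)
    rw [hf (cl_mem hLi)] at h2
    exact num_neg h1' h2 hwm
  rw [CurveLib.euler_eq_sum (K := k) (CohB1.tensorPow L m) 3 fun p hp =>
      CurveLib.subsingleton_HH_of_dim _ (d := 2) hdim.le (by omega),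
    Finset.sum_range_succ, Finset.sum_range_succ, Finset.sum_range_succ, Finset.sum_range_zero, h2z] at hrr
  simp only [pow_zero, pow_one, one_mul, neg_one_mul, zero_add, Nat.cast_zero, mul_zero, add_zero,
    ← sub_eq_add_neg] at hrr
  have hcount := count (N := (Z.card : ℤ)) (b := b) (c := c) (a := a) (Int.natCast_nonneg _) (by omega)
    (Int.natCast_nonneg _) hrr (by have := abs_nonneg w; omega)
  have hfat := AVExtLib.two_mul_h0_le k (fun x hx => ⟨CurveLib.isRegularLocalRing_stalk_of_smooth (k := k) x, by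
    exact_mod_cast TwistShriek.dim_closed_point_integral (X ↘ Spec (CommRingCat.of k)) (n := 2)
      (by exact_mod_cast hdim) x hx⟩) hP Z hZ (2 * m + 1)
  replace hfat := hfat.trans_eq (congrArg (fun t => _ + 2 * t) (CurveLib.hMap_bijective_finrank (k := k)
    (CurveLib.tmodComm (CohB1.tensorPow L m) _) 0))
  refine Module.nontrivial_of_finrank_pos (R := k) (Nat.pos_of_ne_zero fun h0 => ?_)
  change _ ≤ _ + 2 * Module.finrank k (Coh.HH X (CohB1.tensorMod
    (ClSub.idealMod (⨅ z : ↥Z, (W4c2seshadripos.pointIdeal (z : X) (hZ z z.2)) ^ (2 * m + 1)))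
    (CohB1.tensorPow L m)) 0) at hfat
  rw [h0, mul_zero, add_zero] at hfat
  have hfat' : 2 * (Module.finrank k (Coh.HH X (CohB1.tensorPow L m) 0) : ℤ) ≤
      (Z.card : ℤ) * ((2 * (m : ℤ) + 1) * (2 * (m : ℤ) + 1 + 1)) := by exact_mod_cast hfat
  omega

end Groth.Agent.S17344
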