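import Groth.Statements.S17359
import Groth.Agent.AzInvLib.Unitary
-- import your own Groth.Agent.* helpers here

set_option autoImplicit false
set_option backward.isDefEq.respectTransparency false
universe u w
open scoped TensorProduct
open AzInv

namespace Groth.Agent.S17359

/-- Let `R` be a nontrivial commutative ring with connected spectrum in which `2` is a unit, with the
trivial involution (so that the involutions considered are of the first kind and the quotient is the
trivial one). Then there are exactly two types, the orthogonal and the symplectic one; this row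
states the first half: every involution of the first kind `t` of an Azumaya `R`-algebra `A` of
degree `n ≥ 1` has the same type either as the identity of `R` or as the standard symplectic
involution `x ↦ J xᵀ J⁻¹` of the `2 × 2` matrix algebra, `J` the matrix with rows `(0, -1)` and `(1,
0)` (same type: suitable matrix algebras over the two, with the induced involutions, become
isomorphic as `R`-algebras with involution after an etale faithfully flat base change of `R`). (The
source states that the monoid of types is isomorphic to the group of global square roots of `1`, for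
a locally ringed topos with trivial involution and `2` invertible; the row is the affine case with
connected spectrum, where that group is `{1, -1}`.) -/
theorem result (R : Type u) [CommRing R] (hlam : ∀ r : R, (AlgEquiv.refl : R ≃ₐ[R] R) ((AlgEquiv.refl : R ≃ₐ[R] R) r) = r)
    [Nontrivial R] [ConnectedSpace (PrimeSpectrum R)] (h2 : IsUnit (2 : R))
    (J : (Matrix (Fin 2) (Fin 2) R)ˣ) (hJ : (↑J : Matrix (Fin 2) (Fin 2) R) = Matrix.of ![![0, -1], ![1, 0]])
    (hJt : AzInv.LamInv.transpose (AlgEquiv.refl : R ≃ₐ[R] R) (Fin 2) hlam (↑J : Matrix (Fin 2) (Fin 2) R) = (-1 : R) • (↑J : Matrix (Fin 2) (Fin 2) R))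
    (hneg : (AlgEquiv.refl : R ≃ₐ[R] R) (-1) * (-1) = 1)
    (A : Type w) [Ring A] [Algebra R A]
    (n : ℕ) (hn : 0 < n) (hA : AzInv.IsAzumayaDeg R A n) (t : AzInv.LamInv R A (AlgEquiv.refl : R ≃ₐ[R] R)) :
    AzInv.SameType R (AlgEquiv.refl : R ≃ₐ[R] R) t (AzInv.LamInv.self (AlgEquiv.refl : R ≃ₐ[R] R) hlam) ∨
      AzInv.SameType R (AlgEquiv.refl : R ≃ₐ[R] R) t ((AzInv.LamInv.transpose (AlgEquiv.refl : R ≃ₐ[R] R) (Fin 2) hlam).conj J (-1) hJt hneg) := by
  haveI : NeZero n := ⟨hn.ne'⟩
  have hfix : RInv.IsFixedRing R R (AlgEquiv.refl : R ≃ₐ[R] R).toRingEquiv :=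
    ⟨fun _ _ h => h, fun r => ⟨fun _ => ⟨r, rfl⟩, fun _ => rfl⟩⟩
  have hs := AzInvLib.sqrtSH_of_two h2
  rcases Nat.even_or_odd n with hev | ho
  swap
  · exact Or.inl (AzInvLib.sameType_self_of_orth hlam hA t fun p =>
      AzInvLib.orthAt_of_odd hlam hfix hs hA t ho p)
  have hram : ∀ p : PrimeSpectrum R, ∀ r : R, (AlgEquiv.refl : R ≃ₐ[R] R) r - r ∈ p.asIdeal := fun p r => by
    rw [AlgEquiv.coe_refl, id_eq, sub_self]; exact p.asIdeal.zero_mem
  have hclop := AzInvLib.isClopen_orthAt hlam hfix h2 hA t hev fun p => ⟨p, rfl, hram p⟩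
  rcases isClopen_iff.1 hclop with h0 | h1
  swap
  · exact Or.inl (AzInvLib.sameType_self_of_orth hlam hA t fun p => Set.eq_univ_iff_forall.1 h1 p)
  refine Or.inr ?_
  obtain ⟨k, hk⟩ := hev
  haveI : NeZero k := ⟨by omega⟩
  have hev2 : Even (2 : ℕ) := even_two
  refine AzInvLib.sameType_of_local hA (AzInvLib.isAzumayaDeg_matrix_self 2) t _ 1 k (by omega) fun p => Or.inr
    ⟨⟨⟨k, hk⟩, ?_⟩, hev2, ?_⟩
  · rcases AzInvLib.orth_or_symp hlam hfix h2 hA t p with h | ⟨-, h⟩
    · exact absurd h (Set.eq_empty_iff_forall_notMem.1 h0 p)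
    · exact h
  · obtain ⟨E, hE⟩ := AzInvLib.adapted_conj_transpose (S := R) hlam (AzInvLib.SH R p) J (-1) hJt hneg
    have e1 : (↑J : Matrix (Fin 2) (Fin 2) R) = -AzInvLib.JN 2 := by
      rw [hJ]; ext i j; fin_cases i <;> fin_cases j <;> simp [AzInvLib.JN, RInvLib.J₂]
    have e2 : (↑J⁻¹ : Matrix (Fin 2) (Fin 2) R) = AzInvLib.JN 2 := by
      refine Units.inv_eq_of_mul_eq_one_right ?_
      rw [e1, neg_mul, ← mul_neg, AzInvLib.JN_mul_neg' hev2]
    rw [e1, e2] at hE
    exact ⟨E, hE.congr_mul fun i j a b => by rw [Matrix.neg_apply, Matrix.neg_apply, neg_mul, mul_neg]⟩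

end Groth.Agent.S17359
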