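import Groth.Statements.S1736
import Groth.Agent.LocCohLib.TopArtinian

set_option autoImplicit false
universe u
open LocCoh

namespace Groth.Agent.S1736

open CategoryTheory CategoryTheory.Limits AlgebraicGeometry



/-- Let A be a Noetherian ring of finite dimension d and I ⊆ I' ideals with I' contained in the Jacobson
radical of A. If cd(A, I') < d, i.e. H^i_{I'}(M) = 0 for all A-modules M and all i ≥ d, then also
cd(A, I) < d: H^i_I(M) = 0 for all A-modules M and all i ≥ d. -/
theorem result (A : Type u) [CommRing A] [IsNoetherianRing A] (d : ℕ) (hd : ringKrullDim A = d) (I I' : Ideal A) (hII' : I ≤ I') (hJ : I' ≤ (⊥ : Ideal A).jacobson) (h : ∀ (M : Type u) [AddCommGroup M] [Module A M] (i : ℕ), d ≤ i → Subsingleton (LocCoh.H I' i M)) (M : Type u) [AddCommGroup M] [Module A M] (i : ℕ) (hi : d ≤ i) : Subsingleton (LocCoh.H I i M) := by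
  classical
  obtain ⟨s, hs⟩ := (IsNoetherian.noetherian I' : I'.FG)
  suffices key : ∀ t : Finset A, (t : Set A) ⊆ I' →
      Subsingleton ((localCohomology (I ⊔ Ideal.span (t : Set A)) i).obj (ModuleCat.of A M) : Type u) →
      Subsingleton (LocCoh.H I i M) by
    refine key s (fun y hy => hs ▸ Ideal.subset_span hy) ?_
    rw [show I ⊔ Ideal.span (s : Set A) = I' by rw [Ideal.span, hs, sup_eq_right]; exact hII']
    exact h M i hi
  intro t
  induction t using Finset.induction_on with
  | empty =>
    intro _ h0
    rwa [Finset.coe_empty, Ideal.span_empty, sup_bot_eq] at h0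
  | insert x t hxt ih =>
    intro hsub h0
    rw [Finset.coe_insert, Set.insert_subset_iff] at hsub
    refine ih hsub.2 ?_
    rw [Finset.coe_insert, Ideal.span_insert, sup_comm (Ideal.span {x}), ← sup_assoc] at h0
    have hz : ∀ z : (localCohomology (I ⊔ Ideal.span (t : Set A)) i).obj (ModuleCat.of A M),
        ∃ k : ℕ, x ^ k • z = 0 := by
      intro z
      let B := Localization.Away x
      haveI : IsNoetherianRing B := IsLocalization.isNoetherianRing (Submonoid.powers x) B inferInstance
      haveI : Module.Flat A B := IsLocalization.flat B (Submonoid.powers x)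
      obtain ⟨e⟩ := Groth.Agent.LocCohLib.exists_baseChange B (I ⊔ Ideal.span (t : Set A)) M i
      have hlt : ringKrullDim B < (d : WithBot ℕ∞) := by
        by_contra hcon
        obtain ⟨l, hl⟩ := Order.le_krullDim_iff.mp (not_lt.mp hcon)
        let c : PrimeSpectrum B → PrimeSpectrum A := PrimeSpectrum.comap (algebraMap A B)
        have hc : StrictMono c := Monotone.strictMono_of_injective (fun p q hpq => Ideal.comap_mono hpq)
          (PrimeSpectrum.localization_comap_injective B (Submonoid.powers x))
        let l₁ : LTSeries (PrimeSpectrum A) := l.map c hc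
        obtain ⟨m, hm, hlm⟩ := Ideal.exists_le_maximal _ l₁.last.2.ne_top
        have hxm : x ∈ m := (Ideal.mem_sInf.mp (hJ hsub.1)) ⟨bot_le, hm⟩
        have hxl : x ∉ l₁.last.asIdeal := by
          rw [show l₁.last = c l.last from LTSeries.last_map l c hc]
          exact fun hx => l.last.2.ne_top (Ideal.eq_top_of_isUnit_mem _ hx
            (IsLocalization.map_units B (⟨x, Submonoid.mem_powers x⟩ : Submonoid.powers x)))
        let l' : LTSeries (PrimeSpectrum A) := l₁.snoc ⟨m, hm.isPrime⟩
          (show l₁.last < (⟨m, hm.isPrime⟩ : PrimeSpectrum A) from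
            lt_of_le_not_ge hlm fun hge => hxl (hge hxm))
        have h' := Order.LTSeries.length_le_krullDim l'
        rw [show Order.krullDim (PrimeSpectrum A) = (d : WithBot ℕ∞) from hd] at h'
        have h'' : l'.length ≤ d := by exact_mod_cast h'
        have : l'.length = l.length + 1 := by
          simp [l', l₁, RelSeries.snoc, RelSeries.append, RelSeries.map, LTSeries.map]
        omega
      haveI := Groth.Agent.LocCohLib.subsingleton_of_supportDim_lt ((I ⊔ Ideal.span (t : Set A)).map (algebraMap A B))
        (TensorProduct A B M) i (((Module.supportDim_le_ringKrullDim _ _).trans_lt hlt).trans_le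
          (by exact_mod_cast hi))
      haveI : Subsingleton (LocalizedModule (Submonoid.powers x)
          ((localCohomology (I ⊔ Ideal.span (t : Set A)) i).obj (ModuleCat.of A M) : Type u)) :=
        ((LocalizedModule.equivTensorProduct (Submonoid.powers x) _).trans e).injective.subsingleton
      obtain ⟨r, ⟨k, rfl⟩, hk⟩ := LocalizedModule.subsingleton_iff.mp this z
      exact ⟨k, hk⟩
    obtain ⟨g, hg⟩ := Groth.Agent.LocCohLib.exists_surjective_of_sup_span (I ⊔ Ideal.span (t : Set A)) x i
      (ModuleCat.of A M) hz
    exact hg.subsingleton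

end Groth.Agent.S1736
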