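import Groth.Statements.S17360
import Groth.Agent.AzInvLib.Unitary
-- import your own Groth.Agent.* helpers here

set_option autoImplicit false
set_option backward.isDefEq.respectTransparency false
universe u
open scoped TensorProduct
open AzInv

namespace Groth.Agent.S17360

/-- Let `R` be a nontrivial commutative ring in which `2` is a unit, with the trivial involution. This
row states the second half of the count of types: the identity of `R` (the orthogonal type) and the
standard symplectic involution `x ↦ J xᵀ J⁻¹` of the `2 × 2` matrix algebra, `J` the matrix with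
rows `(0, -1)` and `(1, 0)`, do not have the same type, i.e. for no positive sizes do the matrix
algebras over `R` with the transpose and over `M_2(R)` with the involution induced by the symplectic
one become isomorphic as `R`-algebras with involution after an etale faithfully flat base change of
`R`. (The source states that the monoid of types is isomorphic to the group of global square roots
of `1`, for a locally ringed topos with trivial involution and `2` invertible; the row is the affine
case.) -/
theorem result (R : Type u) [CommRing R] (hlam : ∀ r : R, (AlgEquiv.refl : R ≃ₐ[R] R) ((AlgEquiv.refl : R ≃ₐ[R] R) r) = r)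
    [Nontrivial R] (h2 : IsUnit (2 : R))
    (J : (Matrix (Fin 2) (Fin 2) R)ˣ) (hJ : (↑J : Matrix (Fin 2) (Fin 2) R) = Matrix.of ![![0, -1], ![1, 0]])
    (hJt : AzInv.LamInv.transpose (AlgEquiv.refl : R ≃ₐ[R] R) (Fin 2) hlam (↑J : Matrix (Fin 2) (Fin 2) R) = (-1 : R) • (↑J : Matrix (Fin 2) (Fin 2) R))
    (hneg : (AlgEquiv.refl : R ≃ₐ[R] R) (-1) * (-1) = 1) :
    ¬ AzInv.SameType R (AlgEquiv.refl : R ≃ₐ[R] R) (AzInv.LamInv.self (AlgEquiv.refl : R ≃ₐ[R] R) hlam) ((AzInv.LamInv.transpose (AlgEquiv.refl : R ≃ₐ[R] R) (Fin 2) hlam).conj J (-1) hJt hneg) := by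
  intro h
  have hfix : RInv.IsFixedRing R R (AlgEquiv.refl : R ≃ₐ[R] R).toRingEquiv :=
    ⟨fun _ _ h => h, fun r => ⟨fun _ => ⟨r, rfl⟩, fun _ => rfl⟩⟩
  obtain ⟨q⟩ : Nonempty (PrimeSpectrum R) := inferInstance
  have hram : ∀ r : R, (AlgEquiv.refl : R ≃ₐ[R] R) r - r ∈ q.asIdeal := fun r => by
    rw [AlgEquiv.coe_refl, id_eq, sub_self]; exact q.asIdeal.zero_mem
  have hev2 : Even (2 : ℕ) := even_two
  refine AzInvLib.not_orth_and_symp hlam hfix h2 (AzInvLib.isAzumayaDeg_matrix_self 2) _ q hram hev2
    (AzInvLib.orth_of_sameType hlam hfix h2 AzInvLib.isAzumayaDeg_self (AzInvLib.isAzumayaDeg_matrix_self 2) h q hram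
      (AzInvLib.orthAt_self hlam _)) ?_
  obtain ⟨E, hE⟩ := AzInvLib.adapted_conj_transpose (S := R) hlam
    (AzInvLib.SH R (PrimeSpectrum.comap (algebraMap R R) q)) J (-1) hJt hneg
  have e1 : (↑J : Matrix (Fin 2) (Fin 2) R) = -AzInvLib.JN 2 := by
    rw [hJ]; ext i j; fin_cases i <;> fin_cases j <;> simp [AzInvLib.JN, RInvLib.J₂]
  have e2 : (↑J⁻¹ : Matrix (Fin 2) (Fin 2) R) = AzInvLib.JN 2 := by
    refine Units.inv_eq_of_mul_eq_one_right ?_
    rw [e1, neg_mul, ← mul_neg, AzInvLib.JN_mul_neg' hev2]
  rw [e1, e2] at hE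
  exact ⟨E, hE.congr_mul fun i j a b => by rw [Matrix.neg_apply, Matrix.neg_apply, neg_mul, mul_neg]⟩

end Groth.Agent.S17360
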