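import Groth.Statements.S17362
import Groth.Agent.AzInvLib.Unitary
-- import your own Groth.Agent.* helpers here

set_option autoImplicit false
set_option backward.isDefEq.respectTransparency false
universe u v w
open scoped TensorProduct
open AzInv

namespace Groth.Agent.S17362

/-- Let `R` be a commutative ring with an involution `lam` whose fixed ring is exactly `S`, with `2` a
unit in `S`, and let `(A, t)` be an Azumaya `R`-algebra of degree `n ≥ 1` with a `lam`-involution.
For a prime `q` of `R` in the ramification locus (`lam` is the identity modulo `q`) call `t`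
orthogonal at `q` when the images of the `t`-symmetric elements of `A` span a subspace of `k(q) ⊗_R
A` of dimension `n (n + 1) / 2` over `k(q)` (the induced involution of the central simple algebra
`k(q) ⊗_R A` is then orthogonal, and symplectic otherwise). Then this orthogonal/symplectic sign is
locally constant on the ramification locus: every such `q` has a basic open neighbourhood `D(f)`
such that at every prime of the ramification locus inside `D(f)` the sign is the same as at `q`.
(The source states this for a good quotient of schemes by an involution with `2` invertible, as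
local constancy of a sign function on the ramification locus; the row is the affine case with the
sign spelled out by dimensions of symmetric elements.) -/
theorem result (S : Type u) (R : Type v) [CommRing S] [CommRing R] [Algebra S R]
    (lam : R ≃ₐ[S] R) (hlam : ∀ r, lam (lam r) = r) (hfix : RInv.IsFixedRing S R lam.toRingEquiv)
    (h2 : IsUnit (2 : S))
    (A : Type w) [Ring A] [Algebra S A] [Algebra R A] [IsScalarTower S R A]
    (n : ℕ) (hn : 0 < n) (hA : AzInv.IsAzumayaDeg R A n) (t : AzInv.LamInv R A lam)
    (q : PrimeSpectrum R) (hq : ∀ r : R, lam r - r ∈ q.asIdeal) :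
    ∃ f : R, f ∉ q.asIdeal ∧ ∀ q' : PrimeSpectrum R, (∀ r : R, lam r - r ∈ q'.asIdeal) → f ∉ q'.asIdeal →
      (Module.finrank q'.asIdeal.ResidueField
          (Submodule.span q'.asIdeal.ResidueField
            (Set.range fun a : {a : A // t a = a} => (1 : q'.asIdeal.ResidueField) ⊗ₜ[R] (a : A))) = Nat.choose (n + 1) 2 ↔
        Module.finrank q.asIdeal.ResidueField
            (Submodule.span q.asIdeal.ResidueField
              (Set.range fun a : {a : A // t a = a} => (1 : q.asIdeal.ResidueField) ⊗ₜ[R] (a : A))) = Nat.choose (n + 1) 2) := by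
  haveI : NeZero n := ⟨hn.ne'⟩
  obtain ⟨U, hU, hqU, hconst⟩ : ∃ U : Set (PrimeSpectrum R), IsOpen U ∧ q ∈ U ∧
      ∀ q' ∈ U, (∀ r : R, lam r - r ∈ q'.asIdeal) →
        (AzInvLib.OrthAt t n (PrimeSpectrum.comap (algebraMap S R) q') ↔
          AzInvLib.OrthAt t n (PrimeSpectrum.comap (algebraMap S R) q)) := by
    rcases AzInvLib.orth_or_symp hlam hfix h2 hA t (PrimeSpectrum.comap (algebraMap S R) q) with ho | ⟨hev, hsy⟩
    · exact ⟨_, (AzInvLib.isOpen_orthAt t n).preimage (PrimeSpectrum.continuous_comap (algebraMap S R)), ho,
        fun q' h' _ => iff_of_true h' ho⟩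
    · exact ⟨_, (AzInvLib.isOpen_sympAt t n).preimage (PrimeSpectrum.continuous_comap (algebraMap S R)), hsy,
        fun q' h' hq' => iff_of_false (fun h => AzInvLib.not_orth_and_symp hlam hfix h2 hA t q' hq' hev h h')
          fun h => AzInvLib.not_orth_and_symp hlam hfix h2 hA t q hq hev h hsy⟩
  obtain ⟨_, ⟨f, rfl⟩, hqf, hfU⟩ := PrimeSpectrum.isTopologicalBasis_basic_opens.exists_subset_of_mem_open hqU hU
  exact ⟨f, hqf, fun q' hq' hf => (AzInvLib.orth_iff_dim hlam hfix h2 hA t q' hq').symm.trans
    ((hconst q' (hfU hf) hq').trans (AzInvLib.orth_iff_dim hlam hfix h2 hA t q hq))⟩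

end Groth.Agent.S17362
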