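import Groth.Statements.S17363
import Groth.Agent.RInvLib.Hermitian
import Mathlib.RingTheory.Localization.Away.Basic
-- import your own Groth.Agent.* helpers here

set_option autoImplicit false
set_option backward.isDefEq.respectTransparency false
universe u v
open scoped TensorProduct
open RInv

namespace Groth.Agent.S17363

theorem key_calc {T : Type*} [CommRing T] (L : T →+* T) (a d b b' h₁₀ e e' w u wi hf : T) (hLw : L w = w)
    (hLu : L u = u) (hLwi : L wi = wi) (hLhf : L hf = hf) (hLa : L a = -a) (hLd : L d = -d)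
    (hLe : L e = e') (hLe' : L e' = e) (hww : w * w = 1 + a * d * (e * e')) (hwu : (1 + w) * u = 1)
    (hwi : w * wi = 1) (hh2 : 2 * hf = 1) (hbe : b * e = 1) (hbe' : e' * b' = 1) (h10 : h₁₀ = -b')
    (H : Matrix (Fin 2) (Fin 2) T) (H00 : H 0 0 = a) (H01 : H 0 1 = b) (H10 : H 1 0 = h₁₀) (H11 : H 1 1 = d)
    (J : Matrix (Fin 2) (Fin 2) T) (hJ : Matrix.of ![![(0 : T), 1], ![-1, 0]] = J) :
    ∃ v : Matrix (Fin 2) (Fin 2) T, IsUnit v ∧ (v.map L).transpose * H * v = J := by
  obtain ⟨c, hc⟩ : ∃ c, c = -(a * u) := ⟨_, rfl⟩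
  obtain ⟨k, hk⟩ : ∃ k, k = d * (e * e') * (wi * wi) * hf := ⟨_, rfl⟩
  have hLc : L c = -c := by rw [hc, map_neg, map_mul, hLa, hLu]; ring
  have hLk : L k = -k := by rw [hk]; simp only [map_mul, hLd, hLe, hLe', hLwi, hLhf]; ring
  have hq : a + 2 * c - c * c * (d * (e * e')) = 0 := by
    rw [hc]
    linear_combination (a * u * u) * hww - (a * ((w - 1) * u + 1)) * hwu
  have hw' : 1 - c * (d * (e * e')) = w := by
    rw [hc]
    linear_combination -u * hww + (w - 1) * hwu
  refine ⟨Matrix.of ![![1, k], ![e * c, e * (wi + c * k)]], ?_, ?_⟩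
  · rw [Matrix.isUnit_iff_isUnit_det, Matrix.det_fin_two]
    refine IsUnit.of_mul_eq_one (b * w) ?_
    simp only [Matrix.of_apply, Matrix.cons_val_zero, Matrix.cons_val_one, Matrix.cons_val_fin_one]
    linear_combination w * wi * hbe + hwi
  · subst hJ
    ext p r
    fin_cases p <;> fin_cases r <;>
      simp only [Matrix.mul_apply, Fin.sum_univ_two, Matrix.transpose_apply, Matrix.map_apply, Matrix.of_apply,
        Fin.zero_eta, Fin.mk_one, Matrix.cons_val_zero, Matrix.cons_val_one, Matrix.cons_val_fin_one, H00, H01, H10, H11,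
        map_one, map_mul, map_add, hLc, hLk, hLe, hLwi, h10]
    · linear_combination hq + c * hbe + c * hbe'
    · linear_combination (wi + c * k) * hbe + (c * k) * hbe' + k * hq + wi * hw' + hwi
    · linear_combination (-c * k) * hbe - (wi + c * k) * hbe' - k * hq - wi * hw' - hwi
    · have hk2 : d * (e * e') * (wi * wi) = 2 * k := by rw [hk]; linear_combination -(d * (e * e') * (wi * wi)) * hh2
      linear_combination (-(k * (wi + c * k))) * hbe - k * (wi + c * k) * hbe' - k ^ 2 * hq - 2 * k * wi * hw' - 2 * k * hwi + hk2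


/-- Let `A` be a commutative ring with an involution `lam` whose fixed ring `B` is local; assume that
`lam` is the identity modulo the Jacobson radical of `A`, that `2` is a unit of `A`, and that `h` is
an invertible `2 × 2` matrix over `A` with `h = -(lam h)ᵀ` whose entries are congruent modulo the
Jacobson radical to those of the matrix with rows `(0, 1)`, `(-1, 0)`. Then there are units `s, t`
of `B`, finitely many elements `f_i` of `B' = B[X, Y]/(X² - s, Y² - t)` (`B` with square roots of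
`s` and `t` adjoined) that generate the unit ideal, and for every `i` an invertible `2 × 2` matrix
`v` over `B'_{f_i} ⊗_B A` (that is, `A` with the two square roots adjoined, localised at `f_i`;
`lam` extends so as to fix the square roots) such that `(lam v)ᵀ h v` is the matrix with rows `(0,
1)`, `(-1, 0)`. (The published statement writes the congruence with the plain transpose `vᵀ h v`,
which fails in general: for a field `k` of characteristic not `2`, the ring `A` of formal power
series in `y` over `k`, with `B` its subring of series in `y²`, `lam y = -y` and `h` with rows `(y,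
1)`, `(-1, y)`, satisfies every hypothesis, while `vᵀ h v` equal to the matrix with rows `(0, 1)`,
`(-1, 0)` would, added to its transpose, give `2y · vᵀ v = 0` and hence `det v = 0` over a nonzero
ring in which `y` is not a zero divisor. The proof computes the Gram matrix of the hermitian form
`(a, b) ↦ (lam a)ᵀ h b` in a new basis, which is `(lam v)ᵀ h v`, and that is what is stated here.) -/
theorem result (B : Type u) (A : Type v) [CommRing B] [CommRing A]
    [Algebra B A] (lam : A ≃ₐ[B] A) (hlam : ∀ a, lam (lam a) = a) (hB : RInv.IsFixedRing B A lam.toRingEquiv)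
    [IsLocalRing B] (hid : ∀ a : A, lam a - a ∈ Ring.jacobson A) (h2 : IsUnit (2 : A))
    (h : Matrix (Fin 2) (Fin 2) A) (hh : IsUnit h) (herm : -(h.map lam).transpose = h)
    (hJ : ∀ i j : Fin 2, h i j - Matrix.of ![![(0 : A), 1], ![-1, 0]] i j ∈ Ring.jacobson A) :
    ∃ (s t : Bˣ) (r : ℕ) (f : Fin r → (MvPolynomial (Fin 2) B ⧸ Ideal.span ({MvPolynomial.X 0 ^ 2 - MvPolynomial.C (s : B), MvPolynomial.X 1 ^ 2 - MvPolynomial.C (t : B)} : Set (MvPolynomial (Fin 2) B)))),
      Ideal.span (Set.range f) = ⊤ ∧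
      ∀ i : Fin r, ∃ v : Matrix (Fin 2) (Fin 2) (Localization.Away (f i) ⊗[B] A), IsUnit v ∧
        (v.map (Algebra.TensorProduct.congr (AlgEquiv.refl : Localization.Away (f i) ≃ₐ[Localization.Away (f i)] Localization.Away (f i)) lam)).transpose * h.map (Algebra.TensorProduct.includeRight : A →ₐ[B] Localization.Away (f i) ⊗[B] A) * v
          = (Matrix.of ![![(0 : A), 1], ![-1, 0]]).map (Algebra.TensorProduct.includeRight : A →ₐ[B] Localization.Away (f i) ⊗[B] A) := by
  classical
  have hlam' : Function.Involutive lam.toRingEquiv := hlam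
  haveI := Groth.Agent.RInvLib.isLocalRing_of_trivial hlam' hB hid
  have hentry : ∀ i j, -lam (h j i) = h i j := fun i j => congrArg (fun M => M i j) herm
  have hb : IsUnit (h 0 1) := by
    have h1 : h 0 1 - 1 ∈ IsLocalRing.maximalIdeal A :=
      Groth.Agent.RInvLib.mem_of_forall (by simpa using hJ 0 1) _
    by_contra hu
    exact (IsLocalRing.maximalIdeal A).ne_top_iff_one.1 (IsLocalRing.maximalIdeal.isMaximal A).ne_top
      (by simpa using sub_mem (show h 0 1 ∈ IsLocalRing.maximalIdeal A from hu) h1)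
  obtain ⟨β, hβ⟩ := hb.exists_right_inv
  have hlβ : lam β * lam (h 0 1) = 1 := by rw [← map_mul, mul_comm, hβ, map_one]
  obtain ⟨σ, hσ⟩ := Groth.Agent.RInvLib.exists_fixed hB (r := 1 + h 0 0 * h 1 1 * (β * lam β)) (by
    show lam (1 + h 0 0 * h 1 1 * (β * lam β)) = _
    rw [map_add, map_one, map_mul, map_mul, map_mul, hlam,
      show lam (h 0 0) = -h 0 0 from neg_eq_iff_eq_neg.1 (hentry 0 0),
      show lam (h 1 1) = -h 1 1 from neg_eq_iff_eq_neg.1 (hentry 1 1)]
    ring)
  have hσu : IsUnit σ := by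
    refine Groth.Agent.RInvLib.isUnit_of_isUnit_algebraMap hB ?_
    by_contra hu
    have h1 : algebraMap B A σ ∈ IsLocalRing.maximalIdeal A := hu
    rw [hσ] at h1
    have h00 : h 0 0 ∈ IsLocalRing.maximalIdeal A := Groth.Agent.RInvLib.mem_of_forall (by simpa using hJ 0 0) _
    exact (IsLocalRing.maximalIdeal A).ne_top_iff_one.1 (IsLocalRing.maximalIdeal.isMaximal A).ne_top
      (by simpa using sub_mem h1 (Ideal.mul_mem_right (β * lam β) _ (Ideal.mul_mem_right (h 1 1) _ h00)))
  have h2B : IsUnit (2 : B) := Groth.Agent.RInvLib.isUnit_of_isUnit_algebraMap hB (by rwa [map_ofNat])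
  obtain ⟨half, hhalf⟩ := h2B.exists_right_inv
  refine ⟨hσu.unit, 1, 2, ![Ideal.Quotient.mk _ (1 + MvPolynomial.X 0), Ideal.Quotient.mk _ (1 - MvPolynomial.X 0)], ?_, ?_⟩
  · refine Ideal.eq_top_of_isUnit_mem _ (Ideal.add_mem _
      (Ideal.subset_span ⟨0, rfl⟩) (Ideal.subset_span ⟨1, rfl⟩)) ?_
    simp only [Matrix.cons_val_zero, Matrix.cons_val_one, Matrix.cons_val_fin_one]
    rw [← map_add, show (1 + MvPolynomial.X 0 : MvPolynomial (Fin 2) B) + (1 - MvPolynomial.X 0) =
      MvPolynomial.C (2 : B) by rw [map_ofNat]; ring]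
    exact (h2B.map MvPolynomial.C).map _
  intro i
  set I : Ideal (MvPolynomial (Fin 2) B) := Ideal.span ({MvPolynomial.X 0 ^ 2 - MvPolynomial.C (hσu.unit : B), MvPolynomial.X 1 ^ 2 - MvPolynomial.C ((1 : Bˣ) : B)} : Set (MvPolynomial (Fin 2) B))
  set x : MvPolynomial (Fin 2) B ⧸ I := Ideal.Quotient.mk I (MvPolynomial.X 0)
  have hx : x * x = algebraMap B _ σ := by
    rw [← map_mul]
    refine Ideal.Quotient.eq.2 ?_
    rw [← pow_two, MvPolynomial.algebraMap_eq]
    exact Ideal.subset_span (Or.inl rfl)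
  obtain ⟨w₀, hw0, hw1⟩ : ∃ w₀ : MvPolynomial (Fin 2) B ⧸ I, w₀ * w₀ = algebraMap B _ σ ∧
      (![Ideal.Quotient.mk I (1 + MvPolynomial.X 0), Ideal.Quotient.mk I (1 - MvPolynomial.X 0)] i) = 1 + w₀ := by
    fin_cases i
    · exact ⟨x, hx, by simp [x]⟩
    · exact ⟨-x, (neg_mul_neg x x).trans hx, by simp [x, sub_eq_add_neg]⟩
  generalize ![Ideal.Quotient.mk I (1 + MvPolynomial.X 0), Ideal.Quotient.mk I (1 - MvPolynomial.X 0)] i = f at hw1 ⊢
  set C := Localization.Away f
  obtain ⟨u₀, hu₀⟩ : ∃ u₀ : C, algebraMap _ C f * u₀ = 1 := (IsLocalization.Away.algebraMap_isUnit f).exists_right_inv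
  obtain ⟨σ', hσ'⟩ := hσu.exists_right_inv
  let L := Algebra.TensorProduct.congr (AlgEquiv.refl : C ≃ₐ[C] C) lam
  let ι : A →ₐ[B] C ⊗[B] A := Algebra.TensorProduct.includeRight
  have hLι : ∀ a, L (ι a) = ι (lam a) := fun a => rfl
  set j : C →+* C ⊗[B] A := Algebra.TensorProduct.includeLeftRingHom
  have hLj : ∀ c, L (j c) = j c := fun c => L.commutes c
  have hjb : ∀ b : B, j (algebraMap B C b) = ι (algebraMap B A b) := fun b => by
    show algebraMap B C b ⊗ₜ[B] (1 : A) = 1 ⊗ₜ algebraMap B A b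
    rw [Algebra.algebraMap_eq_smul_one, Algebra.algebraMap_eq_smul_one, TensorProduct.smul_tmul]
  set w : C ⊗[B] A := j (algebraMap _ C w₀)
  set u : C ⊗[B] A := j u₀
  set wi : C ⊗[B] A := w * ι (algebraMap B A σ')
  set a : C ⊗[B] A := ι (h 0 0)
  set d : C ⊗[B] A := ι (h 1 1)
  set b : C ⊗[B] A := ι (h 0 1)
  set e : C ⊗[B] A := ι β
  set e' : C ⊗[B] A := ι (lam β)
  set hf : C ⊗[B] A := ι (algebraMap B A half)
  have hww : w * w = 1 + a * d * (e * e') := by
    rw [← map_mul, ← map_mul, hw0, ← IsScalarTower.algebraMap_apply, hjb, hσ]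
    simp [a, d, e, e', map_add, map_mul]
  have hwu : (1 + w) * u = 1 := by
    have h1w : j (algebraMap _ C f) = 1 + w := by rw [congrArg (algebraMap _ C) hw1, map_add, map_one, map_add, map_one]
    rw [← h1w, ← map_mul, hu₀, map_one]
  have hwi : w * wi = 1 := by
    rw [← mul_assoc, ← map_mul, ← map_mul, hw0, ← IsScalarTower.algebraMap_apply, hjb, ← map_mul, ← map_mul, hσ',
      map_one, map_one]
  have hh2 : (2 : C ⊗[B] A) * hf = 1 := by
    rw [← map_ofNat ι 2, ← map_ofNat (algebraMap B A) 2, ← map_mul, ← map_mul, hhalf, map_one, map_one]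
  have hbe : b * e = 1 := by rw [← map_mul, hβ, map_one]
  have hbe' : e' * ι (lam (h 0 1)) = 1 := by rw [← map_mul, hlβ, map_one]
  have hh10 : ι (h 1 0) = -ι (lam (h 0 1)) := by rw [← map_neg, hentry 1 0]
  exact key_calc L.toRingHom a d b (ι (lam (h 0 1))) (ι (h 1 0)) e e' w u wi hf (hLj _) (hLj _)
    (by show L wi = wi; rw [map_mul, hLj, hLι, AlgEquiv.commutes])
    (by show L hf = hf; rw [hLι, AlgEquiv.commutes])
    (by show L a = -a; rw [hLι, neg_eq_iff_eq_neg.1 (hentry 0 0), map_neg])
    (by show L d = -d; rw [hLι, neg_eq_iff_eq_neg.1 (hentry 1 1), map_neg])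
    (hLι β) (by show L e' = e; rw [hLι, hlam]) hww hwu hwi hh2 hbe hbe' hh10
    (h.map ι) rfl rfl rfl rfl _ (by ext p r; fin_cases p <;> fin_cases r <;> simp [TensorProduct.tmul_neg, Algebra.TensorProduct.one_def])

end Groth.Agent.S17363
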