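import Groth.Statements.S17365
import Groth.Agent.RhoShLib.HomExt
import Groth.Agent.RhoShLib.Hartogs
import Groth.Agent.RefOne.Class
import Groth.Agent.DCohLib.PerfCoh
import Groth.Agent.DCohLib.PerfLocFree

set_option autoImplicit false
universe u
open CategoryTheory CategoryTheory.Limits AlgebraicGeometry TopologicalSpace
open CInt

namespace Groth.Agent.S17365

open CategoryTheory CategoryTheory.Limits AlgebraicGeometry

set_option backward.isDefEq.respectTransparency false
set_option backward.defeqAttrib.useBackward true
set_option linter.style.haveILetI false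


/-- Let k be an algebraically closed field, X a smooth proper k-scheme admitting an ample invertible
sheaf, and S a locally Noetherian k-scheme. Let E be a finite locally free module on S ×_k X and Z a
closed subset of S ×_k X whose intersection with every fibre {s} × X has codimension at least 2
there, i.e. at every point of Z the local ring of the fibre of the projection S ×_k X ⟶ S has Krull
dimension at least 2. Then, with j the inclusion of the complement of Z, the natural map E ⟶ j_*
(E|_{S × X ∖ Z}) is an isomorphism. -/
theorem result
    (k : Type u) [Field k] [IsAlgClosed k] (S X : Scheme.{u})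
    (b : S ⟶ Spec (CommRingCat.of k)) (a : X ⟶ Spec (CommRingCat.of k))
    [IsLocallyNoetherian S] [Smooth a] [IsProper a]
    (hproj : ∃ H : X.Modules, CohB1.IsAmple H)
    (E : (pullback b a).Modules) (hE : FlatMod.IsFinLocFree E)
    (Z : Closeds ↥(pullback b a))
    (hZ : ∀ x : ↥(pullback b a), x ∈ Z →
      (2 : WithBot ℕ∞) ≤ ringKrullDim ↑(CInt.fiberStalk (pullback.fst b a) x)) :
    IsIso ((Scheme.Modules.restrictAdjunction (Scheme.Opens.ι (Z.compl : (pullback b a).Opens))).unit.app E) := by
  haveI : Smooth (pullback.fst b a) := MorphismProperty.pullback_fst (P := @Smooth) b a inferInstance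
  haveI : IsLocallyNoetherian (pullback b a) := LocallyOfFiniteType.isLocallyNoetherian (pullback.fst b a)
  have hbij : ∀ V : (pullback b a).Opens, Function.Bijective
      ((Coh.structureModule (pullback b a)).presheaf.map
        (homOfLE (inf_le_left : V ⊓ Z.compl ≤ V)).op) :=
    RhoShLib.bijective_restrict (pullback.fst b a) Z.compl fun x hx => hZ x (not_not.1 hx)
  have hEc : Coh.IsCoh E := DCohLib.isCoh_of_isFinLocFree hE
  have hd := RefOne.isCoh_dual hEc
  haveI := hd.1
  haveI : IsIso (RefHull.bidualMap E) := (PullbackMod.isIso_iff_stalk _).2 fun x => by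
    obtain ⟨hfree, hfin⟩ := DCohLib.free_finite_stalk_of_flf hE x
    refine (RefOne.bijective_bidual_stalk_iff hEc x).2 ?_
    show Module.IsReflexive _ _
    infer_instance
  haveI : IsIso ((Scheme.Modules.restrictAdjunction (Scheme.Opens.ι Z.compl)).unit.app (RefHull.ddual E)) :=
    RhoShLib.isIso_unit_homSh Z.compl (M := RefHull.dual E) hbij
  exact (NatTrans.isIso_app_iff_of_iso
    ((Scheme.Modules.restrictAdjunction (Scheme.Opens.ι Z.compl)).unit) (asIso (RefHull.bidualMap E))).2 ‹_›

end Groth.Agent.S17365
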