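import Groth.Statements.S17367
import Groth.Agent.SqZeroLiftLib.Basic
-- import your own Groth.Agent.* helpers here

set_option autoImplicit false
universe u
open scoped TensorProduct
open Deform

namespace Groth.Agent.S17367

/-- The affine computation, for a square-zero extension of Noetherian rings. Let A' be a Noetherian
ring, J an ideal with J·J = 0 and A = A'/J; let B' be a flat A'-algebra, B = B'/JB', I an ideal of B
with B/I flat over A, and I', I'' two ideals of B' with A'-flat quotients whose images in B are both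
I (two deformations over A' of the closed subscheme V(I) of Spec B inside Spec B'). Then there is
exactly one B'-linear map φ from I to (B/I) ⊗_{A'} J (that is, Hom_B(I, (B/I) ⊗_A J)) such that for
every x in I, all lifts x' in I' and x'' in I'' of x, and every z in B' ⊗_{A'} J whose image under
multiplication is x'' - x', the image of z in (B/I) ⊗_{A'} J equals φ(x). (The published statement
is global (X' a separated scheme over A') and does not assume X' flat over A'; this row is the
affine case X' = Spec B' and assumes B' flat over A'.) -/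
theorem result (A' : Type u) [CommRing A'] [IsNoetherianRing A']
    (J : Ideal A') (hJ : J * J = ⊥) (B' : Type u) [CommRing B'] [Algebra A' B'] [Module.Flat A' B']
    (I : Ideal (B' ⧸ J.map (algebraMap A' B')))
    [Module.Flat (A' ⧸ J) ((B' ⧸ J.map (algebraMap A' B')) ⧸ I)]
    (I' I'' : Ideal B') [Module.Flat A' (B' ⧸ I')] [Module.Flat A' (B' ⧸ I'')]
    (hI' : I'.map (Ideal.Quotient.mk (J.map (algebraMap A' B'))) = I)
    (hI'' : I''.map (Ideal.Quotient.mk (J.map (algebraMap A' B'))) = I) :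
    ∃! φ : ↥I →ₗ[B'] (((B' ⧸ J.map (algebraMap A' B')) ⧸ I) ⊗[A'] ↥J),
      (∀ (x : (B' ⧸ J.map (algebraMap A' B'))) (hx : x ∈ I) (x' x'' : B'), x' ∈ I' → x'' ∈ I'' →
          Ideal.Quotient.mk (J.map (algebraMap A' B')) x' = x → Ideal.Quotient.mk (J.map (algebraMap A' B')) x'' = x →
          ∀ z : B' ⊗[A'] ↥J, TensorProduct.rid A' B' (LinearMap.lTensor B' (Submodule.subtype J) z) = x'' - x' →
            LinearMap.rTensor ↥J (IsScalarTower.toAlgHom A' B' ((B' ⧸ J.map (algebraMap A' B')) ⧸ I)).toLinearMap z = φ ⟨x, hx⟩) := by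
  classical
  have hlift' : ∀ x : I, ∃ y ∈ I', Ideal.Quotient.mk (J.map (algebraMap A' B')) y = x := fun x =>
    (Ideal.mem_map_iff_of_surjective _ Ideal.Quotient.mk_surjective).1 (hI'.symm ▸ x.2)
  have hlift'' : ∀ x : I, ∃ y ∈ I'', Ideal.Quotient.mk (J.map (algebraMap A' B')) y = x := fun x =>
    (Ideal.mem_map_iff_of_surjective _ Ideal.Quotient.mk_surjective).1 (hI''.symm ▸ x.2)
  choose a' ha' hxa' using hlift'
  choose a'' ha'' hxa'' using hlift''
  have hex : ∀ x : I, ∃ z : B' ⊗[A'] ↥J, SqZeroLiftLib.nu z = a'' x - a' x := fun x =>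
    SqZeroLiftLib.exists_nu_eq (Ideal.Quotient.eq.1 ((hxa'' x).trans (hxa' x).symm))
  choose Z hZ using hex
  have key : ∀ (x : I) (x' x'' : B'), x' ∈ I' → x'' ∈ I'' → Ideal.Quotient.mk (J.map (algebraMap A' B')) x' = x →
      Ideal.Quotient.mk (J.map (algebraMap A' B')) x'' = x → ∀ z : B' ⊗[A'] ↥J, SqZeroLiftLib.nu z = x'' - x' →
        SqZeroLiftLib.proj I z = SqZeroLiftLib.proj I (Z x) := by
    intro x x' x'' hx' hx'' e' e'' z hz
    obtain ⟨u, hu⟩ := SqZeroLiftLib.exists_nu_eq (Ideal.Quotient.eq.1 (e'.trans (hxa' x).symm))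
    obtain ⟨v, hv⟩ := SqZeroLiftLib.exists_nu_eq (Ideal.Quotient.eq.1 (e''.trans (hxa'' x).symm))
    have hu0 := SqZeroLiftLib.proj_eq_zero hI'.le u (hu ▸ sub_mem hx' (ha' x))
    have hv0 := SqZeroLiftLib.proj_eq_zero hI''.le v (hv ▸ sub_mem hx'' (ha'' x))
    have : z = Z x + v - u := SqZeroLiftLib.nu_injective (by rw [map_sub, map_add, hz, hZ, hu, hv]; ring)
    rw [this, map_sub, map_add, hu0, hv0, add_zero, sub_zero]
  refine ⟨{ toFun := fun x => SqZeroLiftLib.proj I (Z x)
            map_add' := fun x y => ?_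
            map_smul' := fun b x => ?_ }, ?_, fun ψ hψ => ?_⟩
  · rw [← key (x + y) (a' x + a' y) (a'' x + a'' y) (add_mem (ha' x) (ha' y)) (add_mem (ha'' x) (ha'' y))
      (by simp [hxa']) (by simp [hxa'']) (Z x + Z y) (by rw [map_add, hZ, hZ]; ring), map_add]
  · rw [← key (b • x) (b * a' x) (b * a'' x) (I'.mul_mem_left b (ha' x)) (I''.mul_mem_left b (ha'' x))
      (by simp [hxa', Algebra.smul_def]) (by simp [hxa'', Algebra.smul_def]) (b • Z x)
      (by rw [SqZeroLiftLib.nu_smul, hZ, mul_sub]), SqZeroLiftLib.proj_smul]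
    rfl
  · intro x hx x' x'' h' h'' e' e'' z hz
    exact key ⟨x, hx⟩ x' x'' h' h'' e' e'' z hz
  · ext x
    exact (hψ x.1 x.2 _ _ (ha' x) (ha'' x) (hxa' x) (hxa'' x) (Z x) (hZ x)).symm

end Groth.Agent.S17367
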