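import Groth.Statements.S17368
import Groth.Agent.SqZeroLiftLib.Basic
-- import your own Groth.Agent.* helpers here

set_option autoImplicit false
universe u
open scoped TensorProduct
open Deform

namespace Groth.Agent.S17368

/-- The affine computation, for a square-zero extension of Noetherian rings. Let A' be a Noetherian
ring, J an ideal with J·J = 0 and A = A'/J; let B' be a flat A'-algebra, B = B'/JB', I an ideal of B
with B/I flat over A, I' an ideal of B' with A'-flat quotient whose image in B is I, and φ a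
B'-linear map from I to (B/I) ⊗_{A'} J. Then there is exactly one ideal I'' of B' with A'-flat
quotient and image I in B whose difference from I' is φ: for every x in I, all lifts x' in I' and
x'' in I'' of x, and every z in B' ⊗_{A'} J whose image under multiplication is x'' - x', the image
of z in (B/I) ⊗_{A'} J equals φ(x). Together with the uniqueness of the difference this makes the
set of such ideals, when non-empty, a torsor under Hom_B(I, (B/I) ⊗_A J). (The published statement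
is global (X' a separated scheme over A') and does not assume X' flat over A'; this row is the
affine case X' = Spec B' and assumes B' flat over A'.) -/
theorem result (A' : Type u) [CommRing A'] [IsNoetherianRing A']
    (J : Ideal A') (hJ : J * J = ⊥) (B' : Type u) [CommRing B'] [Algebra A' B'] [Module.Flat A' B']
    (I : Ideal (B' ⧸ J.map (algebraMap A' B')))
    [Module.Flat (A' ⧸ J) ((B' ⧸ J.map (algebraMap A' B')) ⧸ I)]
    (I' : Ideal B') [Module.Flat A' (B' ⧸ I')]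
    (hI' : I'.map (Ideal.Quotient.mk (J.map (algebraMap A' B'))) = I)
    (φ : ↥I →ₗ[B'] (((B' ⧸ J.map (algebraMap A' B')) ⧸ I) ⊗[A'] ↥J)) :
    ∃! I'' : Ideal B', Module.Flat A' (B' ⧸ I'') ∧
      I''.map (Ideal.Quotient.mk (J.map (algebraMap A' B'))) = I ∧
      (∀ (x : (B' ⧸ J.map (algebraMap A' B'))) (hx : x ∈ I) (x' x'' : B'), x' ∈ I' → x'' ∈ I'' →
          Ideal.Quotient.mk (J.map (algebraMap A' B')) x' = x → Ideal.Quotient.mk (J.map (algebraMap A' B')) x'' = x →
          ∀ z : B' ⊗[A'] ↥J, TensorProduct.rid A' B' (LinearMap.lTensor B' (Submodule.subtype J) z) = x'' - x' →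
            LinearMap.rTensor ↥J (IsScalarTower.toAlgHom A' B' ((B' ⧸ J.map (algebraMap A' B')) ⧸ I)).toLinearMap z = φ ⟨x, hx⟩) := by
  classical
  set mkB := Ideal.Quotient.mk (J.map (algebraMap A' B')) with hmkB
  let I'' : Ideal B' :=
    { carrier := {y | ∃ hx : mkB y ∈ I, ∃ x' ∈ I', mkB x' = mkB y ∧
        ∃ z : B' ⊗[A'] ↥J, SqZeroLiftLib.nu z = y - x' ∧ SqZeroLiftLib.proj I z = φ ⟨mkB y, hx⟩}
      add_mem' := by
        rintro y₁ y₂ ⟨h₁, x₁, hx₁, e₁, z₁, hz₁, hp₁⟩ ⟨h₂, x₂, hx₂, e₂, z₂, hz₂, hp₂⟩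
        refine ⟨by rw [map_add]; exact add_mem h₁ h₂, x₁ + x₂, add_mem hx₁ hx₂, by rw [map_add, map_add, e₁, e₂],
          z₁ + z₂, by rw [map_add, hz₁, hz₂]; ring, ?_⟩
        rw [map_add, hp₁, hp₂, ← map_add]
        congr 1
      zero_mem' := ⟨by simp, 0, zero_mem _, rfl, 0, by simp, by
        rw [map_zero, show (⟨mkB 0, _⟩ : I) = 0 from Subtype.ext (map_zero mkB), map_zero]⟩
      smul_mem' := by
        rintro b y ⟨h₁, x₁, hx₁, e₁, z₁, hz₁, hp₁⟩
        refine ⟨by rw [smul_eq_mul, map_mul]; exact I.mul_mem_left _ h₁, b * x₁, I'.mul_mem_left b hx₁,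
          by rw [smul_eq_mul, map_mul, map_mul, e₁], b • z₁, by rw [SqZeroLiftLib.nu_smul, hz₁, smul_eq_mul, mul_sub], ?_⟩
        rw [SqZeroLiftLib.proj_smul, hp₁, ← map_smul]
        congr 1 }
  have hmap : I''.map mkB = I := by
    refine le_antisymm (Ideal.map_le_iff_le_comap.2 fun y hy => hy.1) fun x hx => ?_
    obtain ⟨x', hx', rfl⟩ := (Ideal.mem_map_iff_of_surjective _ Ideal.Quotient.mk_surjective).1 (hI'.symm ▸ hx)
    obtain ⟨z, hz⟩ := SqZeroLiftLib.proj_surjective (I := I) (φ ⟨mkB x', hx⟩)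
    have h0 : mkB (SqZeroLiftLib.nu z) = 0 := Ideal.Quotient.eq_zero_iff_mem.2 (SqZeroLiftLib.nu_mem_map z)
    have he : mkB (x' + SqZeroLiftLib.nu z) = mkB x' := by rw [map_add, h0, add_zero]
    refine he ▸ Ideal.mem_map_of_mem _ ⟨he.symm ▸ hx, x', hx', he.symm, z, by ring, ?_⟩
    rw [hz]
    congr 1
    exact Subtype.ext he.symm
  have hzero : ∀ z : B' ⊗[A'] ↥J, SqZeroLiftLib.nu z ∈ I'' → SqZeroLiftLib.proj I z = 0 := by
    rintro z ⟨h₁, x', hx', e', w, hw, hp⟩
    have hy : mkB (SqZeroLiftLib.nu z) = 0 := Ideal.Quotient.eq_zero_iff_mem.2 (SqZeroLiftLib.nu_mem_map z)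
    rw [show (⟨mkB (SqZeroLiftLib.nu z), h₁⟩ : I) = 0 from Subtype.ext hy, map_zero] at hp
    have : SqZeroLiftLib.nu (z - w) ∈ I' := by rw [map_sub, hw]; simpa using hx'
    have h2 := SqZeroLiftLib.proj_eq_zero hI'.le _ this
    rwa [map_sub, hp, sub_zero] at h2
  have hprop : ∀ (x : (B' ⧸ J.map (algebraMap A' B'))) (hx : x ∈ I) (x' x'' : B'), x' ∈ I' → x'' ∈ I'' →
      mkB x' = x → mkB x'' = x → ∀ z : B' ⊗[A'] ↥J, SqZeroLiftLib.nu z = x'' - x' →
        SqZeroLiftLib.proj I z = φ ⟨x, hx⟩ := by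
    rintro x hx x' x'' hx' ⟨h₁, y, hy, ey, w, hw, hp⟩ e' e'' z hz
    have : SqZeroLiftLib.nu (z - w) ∈ I' := by
      rw [map_sub, hz, hw]
      simpa using sub_mem hy hx'
    have h2 := SqZeroLiftLib.proj_eq_zero hI'.le _ this
    rw [map_sub, sub_eq_zero, hp] at h2
    rw [h2]
    congr 1
    exact Subtype.ext e''
  refine ⟨I'', ⟨SqZeroLiftLib.flat_lift hJ I'' hmap hzero, hmap, hprop⟩, fun K ⟨_, hK, hKp⟩ => ?_⟩
  have hKI : K ≤ I'' := by
    intro y hy
    have hx : mkB y ∈ I := hK ▸ Ideal.mem_map_of_mem _ hy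
    obtain ⟨x', hx', e'⟩ := (Ideal.mem_map_iff_of_surjective _ Ideal.Quotient.mk_surjective).1 (hI'.symm ▸ hx)
    obtain ⟨z, hz⟩ := SqZeroLiftLib.exists_nu_eq (Ideal.Quotient.eq.1 e'.symm)
    exact ⟨hx, x', hx', e', z, hz, hKp _ hx x' y hx' hy e' rfl z hz⟩
  refine le_antisymm hKI fun y hy => ?_
  obtain ⟨k, hk, ek⟩ := (Ideal.mem_map_iff_of_surjective _ Ideal.Quotient.mk_surjective).1
    (hK.symm ▸ hy.1 : mkB y ∈ K.map mkB)
  obtain ⟨z, hz⟩ := SqZeroLiftLib.exists_nu_eq (Ideal.Quotient.eq.1 ek.symm)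
  have h1 : SqZeroLiftLib.nu z ∈ K :=
    SqZeroLiftLib.nu_mem_of_proj_eq_zero hJ hK.ge z (hzero z (hz ▸ sub_mem hy (hKI hk)))
  have := add_mem h1 hk
  rwa [hz, sub_add_cancel] at this

end Groth.Agent.S17368
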