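import Groth.Statements.S17371
import Groth.Agent.AlgzGrLib.AR
import Groth.Agent.AlgzGrLib.GrMap
import Groth.Agent.AlgzGrLib.Base
-- import your own Groth.Agent.* helpers here

set_option autoImplicit false
set_option maxHeartbeats 1600000
set_option linter.style.haveILetI false
universe u
open CategoryTheory CategoryTheory.Limits
open Algz
open Groth.Agent

namespace Groth.Agent.S17371

/-- Functor form. Let k be an algebraically closed field and F a set-valued functor on commutative
k-algebras which preserves filtered colimits (limit preserving). Let R be a complete local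
Noetherian k-algebra with residue field k, ξ an element of F(R) and N a natural number. Then there
exist a finitely generated k-algebra A, a maximal ideal m of A with residue field k, an element η of
F(A) and a k-algebra isomorphism φ from R/m_R^(N+1) to A/m^(N+1) such that the images of ξ and η in
F(A/m^(N+1)) agree (ξ pushed forward along R → R/m_R^(N+1) followed by φ, η along A → A/m^(N+1)),
and moreover a ring isomorphism between the associated graded rings of R along m_R and of A along m
which carries each graded piece m_R^n/m_R^(n+1) into m^n/m^(n+1) and commutes with the scalars from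
k. (The published statement is for limit-preserving prestacks over k-schemes and does not require
the residue field of R to be k, without which it fails (R = k(t)); this row is stated for set-valued
functors on k-algebras and assumes residue field k.) -/
theorem result (k : Type u) [Field k] [IsAlgClosed k]
    (F : CommAlgCat.{u} k ⥤ Type u)
    (hF : ∀ (J : Type u) [SmallCategory J] [IsFiltered J], PreservesColimitsOfShape J F)
    (R : Type u) [CommRing R] [Algebra k R] [IsLocalRing R] [IsNoetherianRing R]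
    [IsAdicComplete (IsLocalRing.maximalIdeal R) R]
    (hres : Function.Surjective (fun c : k => IsLocalRing.residue R (algebraMap k R c)))
    (ξ : F.obj (CommAlgCat.of k R)) (N : ℕ) :
    ∃ (A : Type u) (_ : CommRing A) (_ : Algebra k A) (_ : Algebra.FiniteType k A)
      (m : Ideal A) (_ : m.IsMaximal)
      (_ : Function.Surjective (fun c : k => Ideal.Quotient.mk m (algebraMap k A c)))
      (η : F.obj (CommAlgCat.of k A))
      (φ : (R ⧸ IsLocalRing.maximalIdeal R ^ (N + 1)) ≃ₐ[k] (A ⧸ m ^ (N + 1))),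
      F.map (CommAlgCat.ofHom (φ.toAlgHom.comp
          (Ideal.Quotient.mkₐ k (IsLocalRing.maximalIdeal R ^ (N + 1))))) ξ =
        F.map (CommAlgCat.ofHom (Ideal.Quotient.mkₐ k (m ^ (N + 1)))) η ∧
      ∃ e : AssocGr.GrRing (FiltBl.IdealFiltration.adic (IsLocalRing.maximalIdeal R)) ≃+*
          AssocGr.GrRing (FiltBl.IdealFiltration.adic m),
        (∀ (n : ℕ) (x : AssocGr.GrRing (FiltBl.IdealFiltration.adic (IsLocalRing.maximalIdeal R))),
            x ∈ AssocGr.gr (FiltBl.IdealFiltration.adic (IsLocalRing.maximalIdeal R)) n →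
              e x ∈ AssocGr.gr (FiltBl.IdealFiltration.adic m) n) ∧
        (∀ c : k, e (algebraMap R _ (algebraMap k R c)) = algebraMap A _ (algebraMap k A c)) := by
  classical
  -- polynomial coordinates
  obtain ⟨n, x, hx⟩ := Submodule.fg_iff_exists_fin_generating_family.1
    (IsLocalRing.maximalIdeal R).fg_of_isNoetherianRing
  let C := MvPolynomial (Fin n) k
  let P : Ideal C := RingHom.ker (MvPolynomial.aeval (R := k) (0 : Fin n → k)).toRingHom
  haveI : P.IsMaximal := RingHom.ker_isMaximal_of_surjective _ fun c => ⟨MvPolynomial.C c, MvPolynomial.aeval_C _ c⟩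
  let A₀ := Localization.AtPrime P
  haveI : IsNoetherianRing A₀ := IsLocalization.isNoetherianRing P.primeCompl A₀ inferInstance
  haveI := RegLocal.isNoetherianRing_completion A₀ (IsLocalRing.maximalIdeal A₀)
  haveI := RegLocal.isLocalRing_completion A₀ (IsLocalRing.maximalIdeal A₀) (IsLocalRing.maximalIdeal.isMaximal A₀).ne_top
  let M : Ideal (AdicCompletion (IsLocalRing.maximalIdeal A₀) A₀) :=
    (IsLocalRing.maximalIdeal A₀).map (algebraMap A₀ (AdicCompletion (IsLocalRing.maximalIdeal A₀) A₀))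
  have hG : CAlg.IsGRing A₀ := ExcLib.isGRing_of_isLocalization P.primeCompl
    (GRingCompleteLib.isGRing_of_finiteType k (AlgzGrLib.isGRing_field k) C)
  have hreg := ArtinApproxLib.isRegularHom_atPrime_completion P hG
  let ρ : C →ₐ[k] R := MvPolynomial.aeval x
  have hxm : ∀ i, x i ∈ IsLocalRing.maximalIdeal R := fun i => hx ▸ Submodule.subset_span ⟨i, rfl⟩
  have hρP : P = (IsLocalRing.maximalIdeal R).comap ρ.toRingHom := by
    refine Ideal.IsMaximal.eq_of_le (inferInstance : P.IsMaximal) ?_ ?_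
    · exact Ideal.comap_ne_top _ (IsLocalRing.maximalIdeal.isMaximal R).ne_top
    · intro p hp
      have h : (IsLocalRing.residue R).comp ρ.toRingHom =
          ((IsLocalRing.residue R).comp (algebraMap k R)).comp (MvPolynomial.aeval (R := k) (0 : Fin n → k)).toRingHom := by
        refine MvPolynomial.ringHom_ext (fun c => by
          show IsLocalRing.residue R (ρ (MvPolynomial.C c)) =
            IsLocalRing.residue R (algebraMap k R (MvPolynomial.aeval (R := k) (0 : Fin n → k) (MvPolynomial.C c)))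
          rw [show ρ (MvPolynomial.C c) = algebraMap k R c from MvPolynomial.aeval_C x c,
            show MvPolynomial.aeval (R := k) (0 : Fin n → k) (MvPolynomial.C c) = c from MvPolynomial.aeval_C _ c]) (fun i => ?_)
        show IsLocalRing.residue R (ρ (MvPolynomial.X i)) =
          IsLocalRing.residue R (algebraMap k R (MvPolynomial.aeval (R := k) (0 : Fin n → k) (MvPolynomial.X i)))
        rw [show ρ (MvPolynomial.X i) = x i from MvPolynomial.aeval_X x i,
          show MvPolynomial.aeval (R := k) (0 : Fin n → k) (MvPolynomial.X i) = 0 from MvPolynomial.aeval_X _ i,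
          map_zero, map_zero]
        exact (IsLocalRing.residue_eq_zero_iff _).2 (hxm i)
      rw [Ideal.mem_comap, ← IsLocalRing.residue_eq_zero_iff, ← RingHom.comp_apply, h, RingHom.comp_apply,
        show (MvPolynomial.aeval (R := k) (0 : Fin n → k)).toRingHom p = 0 from hp, map_zero]
  let ρ₀ : A₀ →+* R := IsLocalization.lift (M := P.primeCompl) (g := ρ.toRingHom) fun y =>
    IsLocalRing.notMem_maximalIdeal.1 fun h => y.2 (hρP.ge h)
  have hρ₀ : ∀ c, ρ₀ (algebraMap C A₀ c) = ρ c := fun c => IsLocalization.lift_eq _ c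
  have hρm : (IsLocalRing.maximalIdeal A₀).map ρ₀ ≤ IsLocalRing.maximalIdeal R := by
    rw [← IsLocalization.AtPrime.map_eq_maximalIdeal P A₀, Ideal.map_map, Ideal.map_le_iff_le_comap]
    intro c hc
    rw [Ideal.mem_comap, RingHom.comp_apply, hρ₀]
    exact hρP.le hc
  let π : AdicCompletion (IsLocalRing.maximalIdeal A₀) A₀ →+* R :=
    (AdicCompletion.ofAlgEquiv (IsLocalRing.maximalIdeal R)).symm.toRingEquiv.toRingHom.comp
      (CMCat.complHom ρ₀ (IsLocalRing.maximalIdeal A₀) (IsLocalRing.maximalIdeal R) hρm)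
  have hπ0 : ∀ a : A₀, π (algebraMap A₀ _ a) = ρ₀ a := fun a => by
    show (AdicCompletion.ofAlgEquiv (IsLocalRing.maximalIdeal R)).symm
      (CMCat.complHom ρ₀ _ _ hρm (algebraMap A₀ _ a)) = _
    rw [CMCat.complHom_algebraMap]
    exact (AdicCompletion.ofAlgEquiv (IsLocalRing.maximalIdeal R)).symm.commutes (ρ₀ a)
  have hπC : ∀ c : C, π (algebraMap C _ c) = ρ c := fun c => by
    rw [IsScalarTower.algebraMap_apply C A₀ (AdicCompletion _ A₀), hπ0, hρ₀]
  have hρk : ∀ c : k, π (algebraMap C _ (algebraMap k C c)) = algebraMap k R c := fun c => by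
    rw [hπC, AlgHom.commutes]
  have hπM : M.map π = IsLocalRing.maximalIdeal R := by
    refine le_antisymm ?_ ?_
    · show ((IsLocalRing.maximalIdeal A₀).map _).map π ≤ _
      rw [Ideal.map_map, show π.comp (algebraMap A₀ _) = ρ₀ from RingHom.ext hπ0]
      exact hρm
    · rw [← hx, Submodule.span_le]
      rintro _ ⟨i, rfl⟩
      rw [SetLike.mem_coe, show x i = π (algebraMap C _ (MvPolynomial.X i)) by rw [hπC]; exact (MvPolynomial.aeval_X x i).symm]
      refine Ideal.mem_map_of_mem π ?_
      rw [← pow_one M, AlgzGrLib.algebraMap_mem_complPow_iff P, pow_one]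
      exact MvPolynomial.aeval_X _ i
  haveI : IsAdicComplete M (AdicCompletion (IsLocalRing.maximalIdeal A₀) A₀) :=
    AdicCompletion.isAdicComplete_self _ (IsLocalRing.maximalIdeal A₀).fg_of_isNoetherianRing
  have hπs : Function.Surjective π := by
    haveI : IsHausdorff (M.map π) R := by rw [hπM]; infer_instance
    refine surjective_of_mk_map_comp_surjective (I := M) π fun y => ?_
    obtain ⟨y, rfl⟩ := Ideal.Quotient.mk_surjective y
    obtain ⟨c, hc⟩ := hres (IsLocalRing.residue R y)
    refine ⟨algebraMap C _ (algebraMap k C c), ?_⟩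
    show Ideal.Quotient.mk _ (π _) = _
    rw [hρk, Ideal.Quotient.eq, hπM]
    exact Ideal.Quotient.eq.1 hc
  have hπpow : ∀ (j : ℕ) y, π y ∈ IsLocalRing.maximalIdeal R ^ j ↔ y ∈ RingHom.ker π ⊔ M ^ j := by
    intro j y
    rw [← hπM, ← Ideal.map_pow, ← Ideal.mem_comap, Ideal.comap_map_of_surjective' π hπs, sup_comm]
  -- kernel and syzygies
  obtain ⟨r, f, hf⟩ := Submodule.fg_iff_exists_fin_generating_family.1 (RingHom.ker π).fg_of_isNoetherianRing
  let Î := AdicCompletion (IsLocalRing.maximalIdeal A₀) A₀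
  let fu : ULift.{u} (Fin r) → Î := fun i => f i.down
  have hfu : RingHom.ker π = Ideal.span (Set.range fu) := by
    rw [show Set.range fu = Set.range f by ext z; simp [fu]]; exact hf.symm
  obtain ⟨s, σ, hσ⟩ := Submodule.fg_iff_exists_fin_generating_family.1
    (IsNoetherian.noetherian (LinearMap.ker (Fintype.linearCombination Î fu)))
  let σu : ULift.{u} (Fin s) → ULift.{u} (Fin r) → Î := fun l => σ l.down
  obtain ⟨c₀, hc₀⟩ := AlgzGrLib.exists_perturb_bound M fu σu fun a ha => by
    have h : a ∈ LinearMap.ker (Fintype.linearCombination Î fu) := by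
      simpa [Fintype.linearCombination_apply] using ha
    rw [← hσ, Submodule.mem_span_range_iff_exists_fun] at h
    obtain ⟨b, hb⟩ := h
    refine ⟨fun l => b l.down, fun i => ?_⟩
    rw [← hb, Finset.sum_apply, ← Equiv.ulift.{u}.sum_comp]
    rfl
  have hsyz : ∀ l, ∑ i, σu l i * fu i = 0 := fun l => by
    have h : σ l.down ∈ LinearMap.ker (Fintype.linearCombination Î fu) := hσ ▸ Submodule.subset_span ⟨l.down, rfl⟩
    simpa [Fintype.linearCombination_apply] using h
  -- a finite type model of the element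
  obtain ⟨B, hB, h, ξ₀, hξ⟩ := AlgzGrLib.exists_ft_element k F hF R ξ
  obtain ⟨t, πB, hπB, rel, hrel⟩ := hB.out
  choose y₀ hy₀ using fun j => hπs (h (πB (MvPolynomial.X j)))
  let ev : MvPolynomial (Fin t) k → Î := fun g =>
    MvPolynomial.aeval y₀ (MvPolynomial.map (algebraMap k C) g)
  have hev : ∀ g, π (ev g) = h (πB g) := by
    intro g
    refine RingHom.congr_fun (?_ : π.comp ((MvPolynomial.aeval y₀).toRingHom.comp (MvPolynomial.map (algebraMap k C))) =
      h.toRingHom.comp πB.toRingHom) g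
    refine MvPolynomial.ringHom_ext (fun c => ?_) (fun j => ?_)
    · simp only [RingHom.comp_apply, AlgHom.toRingHom_eq_coe, RingHom.coe_coe, MvPolynomial.map_C,
        MvPolynomial.aeval_C, hρk]
      rw [← MvPolynomial.algebraMap_eq, πB.commutes, h.commutes]
    · simpa using hy₀ j
  have hq : ∀ g : rel, ∃ q : ULift.{u} (Fin r) → Î, ∑ i, q i * fu i = ev g.1 := fun g => by
    rw [← AlgzGrLib.mem_span_range_iff, ← hfu, RingHom.mem_ker, hev,
      show πB g.1 = 0 from RingHom.mem_ker.1 (hrel ▸ Ideal.subset_span g.2), map_zero]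
  choose q hq using hq
  -- the system
  let ι := Fin t ⊕ ULift.{u} (Fin r) ⊕ (ULift.{u} (Fin s) × ULift.{u} (Fin r)) ⊕ (rel × ULift.{u} (Fin r))
  let vy : Fin t → ι := Sum.inl
  let vf : ULift.{u} (Fin r) → ι := fun i => Sum.inr (Sum.inl i)
  let vσ : ULift.{u} (Fin s) → ULift.{u} (Fin r) → ι := fun l i => Sum.inr (Sum.inr (Sum.inl (l, i)))
  let vq : rel → ULift.{u} (Fin r) → ι := fun g i => Sum.inr (Sum.inr (Sum.inr (g, i)))
  let sys : ULift.{u} (Fin s) ⊕ rel → MvPolynomial ι C := Sum.elim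
    (fun l => ∑ i, MvPolynomial.X (vσ l i) * MvPolynomial.X (vf i))
    (fun g => MvPolynomial.rename vy (MvPolynomial.map (algebraMap k C) g.1) -
      ∑ i, MvPolynomial.X (vq g i) * MvPolynomial.X (vf i))
  let sol : ι → Î := Sum.elim y₀ (Sum.elim fu (Sum.elim (fun p => σu p.1 p.2) fun p => q p.1 p.2))
  have hsol : ∀ j, MvPolynomial.aeval sol (sys j) = 0 := by
    rintro (l | g)
    · simpa [sys, map_sum, sol, vσ, vf] using hsyz l
    · simp only [sys, Sum.elim_inr, map_sub, map_sum, map_mul, MvPolynomial.aeval_X, MvPolynomial.aeval_rename]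
      simp only [sol, vy, vq, vf, Sum.elim_comp_inl, Sum.elim_inr, Sum.elim_inl]
      rw [hq g, sub_eq_zero]; rfl
  let N' := max (c₀ + 1) (N + 1)
  obtain ⟨C', _, _, hC', ψ, p', hp', hcomap, hresC, hψp, b, hb, hab⟩ :=
    AlgzGrLib.exists_solution P hreg sys sol hsol N'
  haveI := hC'
  obtain ⟨hmaxi, hlev⟩ := AlgzGrLib.nbhd_truncations (A := A₀) P p' ψ hcomap hψp hresC
  haveI := hmaxi
  letI : Algebra k C' := ((algebraMap C C').comp (algebraMap k C)).toAlgebra
  haveI : IsScalarTower k C C' := IsScalarTower.of_algebraMap_eq fun _ => rfl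
  haveI : Algebra.FiniteType k C' := Algebra.FiniteType.trans (R := k) (S := C) inferInstance inferInstance
  have happC : ∀ (j : ℕ) (y : Î), ∃ c : C', y - ψ c ∈ M ^ j := fun j y => by
    obtain ⟨c, hc⟩ := AlgzGrLib.exists_sub_mem_complPow P y j
    exact ⟨algebraMap C C' c, by rwa [AlgHom.commutes]⟩
  let f' : ULift.{u} (Fin r) → C' := fun i => b (vf i)
  have hbs : ∀ l, ∑ i, b (vσ l i) * f' i = 0 := fun l => by
    simpa [sys, map_sum] using hb (Sum.inl l)
  have hff : ∀ i, ψ (f' i) - fu i ∈ M ^ N' := fun i => by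
    rw [← neg_sub]; exact neg_mem (hab (vf i))
  have hAR := hc₀ (fun i => ψ (f' i)) (fun l i => ψ (b (vσ l i)))
    (fun i => Ideal.pow_le_pow_right (le_max_left _ _) (hff i))
    (fun l i => Ideal.pow_le_pow_right (le_max_left _ _) (by rw [← neg_sub]; exact neg_mem (hab (vσ l i))))
    (fun l => by rw [← map_zero ψ, ← hbs l, map_sum]; simp only [map_mul])
  let I' : Ideal C' := Ideal.span (Set.range f')
  have hfM : ∀ i, fu i ∈ M := fun i => by
    have h1 : fu i ∈ RingHom.ker π := hfu ▸ Ideal.subset_span ⟨i, rfl⟩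
    have h2 : π (fu i) ∈ IsLocalRing.maximalIdeal R := by rw [RingHom.mem_ker.1 h1]; exact zero_mem _
    haveI : M.IsMaximal := ArtinApproxLib.map_maximalIdeal_isMaximal
    rw [IsLocalRing.eq_maximalIdeal (inferInstance : M.IsMaximal)]
    exact IsLocalRing.le_maximalIdeal (RingHom.ker_ne_top π) h1
  have hI'p : I' ≤ p' := Ideal.span_le.2 <| by
    rintro _ ⟨i, rfl⟩
    rw [SetLike.mem_coe, ← pow_one p', ← hlev, pow_one]
    have := add_mem (Ideal.pow_le_self (Nat.pos_iff_ne_zero.1 (le_max_right _ _ |>.trans_lt' (Nat.succ_pos N))) (hff i)) (hfM i)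
    simpa using this
  have key : ∀ (j : ℕ) (z : C'), z ∈ I' ⊔ p' ^ j ↔ ψ z ∈ Ideal.span (Set.range fun i => ψ (f' i)) ⊔ M ^ j := by
    intro j z
    constructor
    · intro hz
      obtain ⟨a, ha, m, hm, rfl⟩ := Submodule.mem_sup.1 hz
      obtain ⟨u, rfl⟩ := (AlgzGrLib.mem_span_range_iff f' a).1 ha
      rw [map_add, map_sum]
      exact Submodule.add_mem_sup ((AlgzGrLib.mem_span_range_iff _ _).2 ⟨fun i => ψ (u i), by simp⟩) ((hlev j m).2 hm)
    · intro hz
      obtain ⟨a, ha, m, hm, ham⟩ := Submodule.mem_sup.1 hz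
      obtain ⟨u, rfl⟩ := (AlgzGrLib.mem_span_range_iff _ a).1 ha
      choose u' hu' using fun i => happC j (u i)
      have h1 : z - ∑ i, u' i * f' i ∈ p' ^ j := by
        rw [← hlev, map_sub, map_sum, ← ham, add_sub_right_comm, ← Finset.sum_sub_distrib]
        refine add_mem (Ideal.sum_mem _ fun i _ => ?_) hm
        rw [map_mul, ← sub_mul]
        exact Ideal.mul_mem_right _ _ (hu' i)
      rw [← sub_add_cancel z (∑ i, u' i * f' i), add_comm]
      exact Submodule.add_mem_sup ((AlgzGrLib.mem_span_range_iff _ _).2 ⟨u', rfl⟩) h1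
  -- the algebra
  let Θ : C' →ₐ[k] R :=
    { toRingHom := π.comp ψ.toRingHom
      commutes' := fun c => by
        show π (ψ (algebraMap C C' (algebraMap k C c))) = _
        rw [AlgHom.commutes, hρk] }
  have hΘ : ∀ z, Θ z = π (ψ z) := fun _ => rfl
  let A := C' ⧸ I'
  let m : Ideal A := p'.map (Ideal.Quotient.mk I')
  have hm : m.IsMaximal := Ideal.IsMaximal.map_of_surjective_of_ker_le Ideal.Quotient.mk_surjective
    (by rw [Ideal.mk_ker]; exact hI'p)
  have hmk : ∀ (j : ℕ) (z : C'), Ideal.Quotient.mk I' z ∈ m ^ j ↔ z ∈ I' ⊔ p' ^ j := fun j z => by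
    rw [← Ideal.map_pow, Ideal.mem_quotient_iff_mem_sup, sup_comm]
  have hconst : ∀ z : C', ∃ c : k, z - algebraMap k C' c ∈ p' := fun z => by
    obtain ⟨c, hc⟩ := hres (IsLocalRing.residue R (Θ z))
    refine ⟨c, ?_⟩
    have hc' : Θ (z - algebraMap k C' c) ∈ IsLocalRing.maximalIdeal R := by
      rw [map_sub, AlgHom.commutes, ← neg_sub]
      exact neg_mem (Ideal.Quotient.eq.1 hc)
    rw [← pow_one (IsLocalRing.maximalIdeal R), hΘ, hπpow, pow_one] at hc'
    rw [← pow_one p', ← hlev, pow_one]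
    refine (sup_le (hfu ▸ Ideal.span_le.2 ?_) le_rfl : RingHom.ker π ⊔ M ≤ M) hc'
    rintro _ ⟨i, rfl⟩
    exact hfM i
  have hresA : Function.Surjective (fun c : k => Ideal.Quotient.mk m (algebraMap k A c)) := fun z => by
    obtain ⟨z, rfl⟩ := Ideal.Quotient.mk_surjective z
    obtain ⟨z, rfl⟩ := Ideal.Quotient.mk_surjective z
    obtain ⟨c, hc⟩ := hconst z
    refine ⟨c, (Ideal.Quotient.eq.2 ?_).symm⟩
    show Ideal.Quotient.mk I' z - Ideal.Quotient.mk I' (algebraMap k C' c) ∈ m
    rw [← map_sub]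
    exact Ideal.mem_map_of_mem _ hc
  let qy : Fin t → A := fun j => Ideal.Quotient.mk I' (b (vy j))
  have hker : RingHom.ker πB.toRingHom ≤ RingHom.ker (MvPolynomial.aeval (R := k) qy).toRingHom := by
    rw [← hrel, Ideal.span_le]
    intro g hg
    have h0 := hb (Sum.inr ⟨g, hg⟩)
    simp only [sys, Sum.elim_inr, map_sub, map_sum, map_mul, MvPolynomial.aeval_X, MvPolynomial.aeval_rename,
      sub_eq_zero, MvPolynomial.aeval_map_algebraMap] at h0
    rw [SetLike.mem_coe, RingHom.mem_ker]
    show MvPolynomial.aeval qy g = 0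
    rw [show qy = fun j => (Ideal.Quotient.mkₐ k I') (b (vy j)) from rfl, ← MvPolynomial.comp_aeval_apply,
      show MvPolynomial.aeval (fun j => b (vy j)) g = _ from h0]
    refine Ideal.Quotient.eq_zero_iff_mem.2 (Ideal.sum_mem _ fun i _ => ?_)
    exact Ideal.mul_mem_left _ _ (Ideal.subset_span ⟨i, rfl⟩)
  let qB : ↑B →ₐ[k] A := AlgHom.liftOfSurjective πB hπB (MvPolynomial.aeval qy) hker
  -- truncations
  let R' := R ⧸ IsLocalRing.maximalIdeal R ^ (N + 1)
  let A' := A ⧸ m ^ (N + 1)
  let ΘN : C' →ₐ[k] R' := (Ideal.Quotient.mkₐ k _).comp Θ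
  let ΦN : C' →ₐ[k] A' := (Ideal.Quotient.mkₐ k _).comp (Ideal.Quotient.mkₐ k I')
  have hΦ : Function.Surjective ΦN := Ideal.Quotient.mk_surjective.comp Ideal.Quotient.mk_surjective
  have hΘs : Function.Surjective ΘN := fun z => by
    obtain ⟨z, rfl⟩ := Ideal.Quotient.mk_surjective z
    obtain ⟨y, rfl⟩ := hπs z
    obtain ⟨c, hc⟩ := happC (N + 1) y
    refine ⟨c, (Ideal.Quotient.eq.2 ?_).symm⟩
    show π y - π (ψ c) ∈ _
    rw [← map_sub, hπpow]
    exact Ideal.mem_sup_right hc
  have hsame : RingHom.ker π ⊔ M ^ (N + 1) = Ideal.span (Set.range fun i => ψ (f' i)) ⊔ M ^ (N + 1) := by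
    rw [hfu]
    refine le_antisymm (sup_le (Ideal.span_le.2 ?_) le_sup_right) (sup_le (Ideal.span_le.2 ?_) le_sup_right) <;>
      rintro _ ⟨i, rfl⟩
    · beta_reduce
      rw [SetLike.mem_coe, ← sub_sub_cancel (ψ (f' i)) (fu i)]
      exact sub_mem (Ideal.mem_sup_left (Ideal.subset_span ⟨i, rfl⟩))
        (Ideal.mem_sup_right (Ideal.pow_le_pow_right (le_max_right _ _) (hff i)))
    · beta_reduce
      rw [SetLike.mem_coe, ← sub_add_cancel (ψ (f' i)) (fu i)]
      exact add_mem (Ideal.mem_sup_right (Ideal.pow_le_pow_right (le_max_right _ _) (hff i)))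
        (Ideal.mem_sup_left (Ideal.subset_span ⟨i, rfl⟩))
  have hkN : ∀ z, ΘN z = 0 ↔ ΦN z = 0 := fun z => by
    show Ideal.Quotient.mk _ (Θ z) = 0 ↔ Ideal.Quotient.mk _ (Ideal.Quotient.mk I' z) = 0
    rw [Ideal.Quotient.eq_zero_iff_mem, Ideal.Quotient.eq_zero_iff_mem]
    show π (ψ z) ∈ _ ↔ _
    rw [hπpow, hmk, key, hsame]
  let φ₀ : R' →ₐ[k] A' := AlgHom.liftOfSurjective ΘN hΘs ΦN fun z hz => (hkN z).1 hz
  have hφ₀ : ∀ z, φ₀ (ΘN z) = ΦN z := fun z => AlgHom.liftOfSurjective_apply ..
  have hφb : Function.Bijective φ₀ := by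
    refine ⟨(injective_iff_map_eq_zero φ₀).2 fun z hz => ?_, fun z => ?_⟩
    · obtain ⟨z, rfl⟩ := hΘs z
      exact (hkN z).2 ((hφ₀ z).symm.trans hz)
    · obtain ⟨z, rfl⟩ := hΦ z
      exact ⟨_, hφ₀ z⟩
  refine ⟨A, inferInstance, inferInstance, inferInstance, m, hm, hresA, F.map (CommAlgCat.ofHom qB) ξ₀,
    AlgEquiv.ofBijective φ₀ hφb, ?_, ?_⟩
  · rw [← hξ, ← ConcreteCategory.comp_apply, ← Functor.map_comp, ← ConcreteCategory.comp_apply, ← Functor.map_comp,
      ← CommAlgCat.ofHom_comp, ← CommAlgCat.ofHom_comp]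
    congr 4
    refine (AlgHom.cancel_right hπB).1 (MvPolynomial.algHom_ext fun j => ?_)
    show φ₀ (Ideal.Quotient.mk _ (h (πB (MvPolynomial.X j)))) = Ideal.Quotient.mk _ (qB (πB (MvPolynomial.X j)))
    rw [AlgHom.liftOfSurjective_apply, MvPolynomial.aeval_X]
    have h1 : Ideal.Quotient.mk (IsLocalRing.maximalIdeal R ^ (N + 1)) (h (πB (MvPolynomial.X j))) = ΘN (b (vy j)) := by
      refine Ideal.Quotient.eq.2 ?_
      show _ - π (ψ _) ∈ _
      rw [← hy₀, ← map_sub, hπpow]
      exact Ideal.mem_sup_right (Ideal.pow_le_pow_right (le_max_right _ _) (hab (vy j)))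
    rw [h1, hφ₀]
    rfl
  · obtain ⟨e, he, hes⟩ := AlgzGrLib.exists_grEquiv Θ.toRingHom p' (IsLocalRing.maximalIdeal R)
      (by
        refine Ideal.map_le_iff_le_comap.2 fun z hz => ?_
        show π (ψ z) ∈ IsLocalRing.maximalIdeal R
        rw [← pow_one (IsLocalRing.maximalIdeal R), hπpow, pow_one]
        exact Ideal.mem_sup_right (hψp z hz))
      (Ideal.Quotient.mk I') m le_rfl
      (fun j y hy => by
        rw [← hπM, ← Ideal.map_pow, Ideal.mem_map_iff_of_surjective π hπs] at hy
        obtain ⟨y, hy, rfl⟩ := hy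
        obtain ⟨c, hc⟩ := happC (j + 1) y
        refine ⟨c, (hlev j c).1 ?_, ?_⟩
        · simpa using sub_mem hy (Ideal.pow_le_pow_right j.le_succ hc)
        · show π (ψ c) - π y ∈ _
          rw [← map_sub, hπpow, ← neg_sub]
          exact Ideal.mem_sup_right (neg_mem hc))
      (fun j y hy => by
        rw [← Ideal.map_pow, Ideal.mem_map_iff_of_surjective _ Ideal.Quotient.mk_surjective] at hy
        obtain ⟨y, hy, rfl⟩ := hy
        exact ⟨y, hy, by simp⟩)
      (fun j z hz => by
        show π (ψ z) ∈ _ ↔ _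
        rw [hπpow, hmk, key, hfu]
        exact hAR j (ψ z) ((hlev j z).2 hz))
    refine ⟨e, he, fun c => ?_⟩
    have h2 := hes (algebraMap k C' c)
    rwa [show Θ.toRingHom (algebraMap k C' c) = algebraMap k R c from Θ.commutes c] at h2

end Groth.Agent.S17371
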