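import Groth.Statements.S17372
import Groth.Agent.S17371
-- import your own Groth.Agent.* helpers here

set_option autoImplicit false
set_option maxHeartbeats 800000
set_option linter.style.haveILetI false
universe u
open CategoryTheory CategoryTheory.Limits
open Algz
open Groth.Agent

namespace Groth.Agent.S17372

theorem artinian_quot_pow {A : Type u} [CommRing A] [IsNoetherianRing A] (q : Ideal A) [q.IsMaximal] (n : ℕ) :
    IsArtinianRing (A ⧸ q ^ (n + 1)) ∧ IsLocalRing (A ⧸ q ^ (n + 1)) := by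
  have huniq : ∀ P : Ideal (A ⧸ q ^ (n + 1)), P.IsPrime → P = q.map (Ideal.Quotient.mk _) := fun P hP => by
    have h1 : q ≤ P.comap (Ideal.Quotient.mk _) := by
      refine (Ideal.IsPrime.pow_le_iff (hP := hP.comap _) (Nat.succ_ne_zero n)).1 fun a ha => ?_
      rw [Ideal.mem_comap, Ideal.Quotient.eq_zero_iff_mem.2 ha]
      exact P.zero_mem
    have h2 : q = P.comap (Ideal.Quotient.mk _) := Ideal.IsMaximal.eq_of_le ‹_› (hP.comap _).ne_top h1
    exact (Ideal.map_comap_of_surjective _ Ideal.Quotient.mk_surjective P).symm.trans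
      (congrArg (Ideal.map (Ideal.Quotient.mk (q ^ (n + 1)))) h2.symm)
  haveI : Nontrivial (A ⧸ q ^ (n + 1)) := Ideal.Quotient.nontrivial_iff.2 fun e =>
    Ideal.IsMaximal.ne_top ‹q.IsMaximal› (top_le_iff.1 (e ▸ Ideal.pow_le_self (Nat.succ_ne_zero n)))
  haveI : Ring.KrullDimLE 0 (A ⧸ q ^ (n + 1)) := Ring.krullDimLE_zero_iff.2 fun P hP => by
    obtain ⟨M, hM, hPM⟩ := Ideal.exists_le_maximal P hP.ne_top
    rwa [huniq P hP, ← huniq M hM.isPrime]
  refine ⟨IsNoetherianRing.isArtinianRing_of_krullDimLE_zero, IsLocalRing.of_unique_max_ideal ?_⟩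
  obtain ⟨M, hM⟩ := Ideal.exists_maximal (A ⧸ q ^ (n + 1))
  exact ⟨M, hM, fun P hP => (huniq P hP.isPrime).trans (huniq M hM.isPrime).symm⟩

theorem residue_surjective_quot_pow {k A : Type u} [Field k] [CommRing A] [Algebra k A] (q : Ideal A) [q.IsMaximal]
    (hq : Function.Surjective (fun c : k => Ideal.Quotient.mk q (algebraMap k A c))) (n : ℕ)
    [IsLocalRing (A ⧸ q ^ (n + 1))] :
    Function.Surjective (fun c : k => IsLocalRing.residue (A ⧸ q ^ (n + 1)) (algebraMap k _ c)) := fun z => by
  obtain ⟨z, rfl⟩ := IsLocalRing.residue_surjective z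
  obtain ⟨a, rfl⟩ := Ideal.Quotient.mk_surjective z
  obtain ⟨c, hc⟩ := hq (Ideal.Quotient.mk q a)
  refine ⟨c, Ideal.Quotient.eq.2 ?_⟩
  show Ideal.Quotient.mk (q ^ (n + 1)) (algebraMap k A c) - Ideal.Quotient.mk _ a ∈ IsLocalRing.maximalIdeal _
  rw [← map_sub]
  refine (IsLocalRing.mem_maximalIdeal _).2 fun hu => ?_
  have h := hu.map (Ideal.Quotient.factor (Ideal.pow_le_self (Nat.succ_ne_zero n)))
  rw [Ideal.Quotient.factor_mk, Ideal.Quotient.eq_zero_iff_mem.2 (Ideal.Quotient.eq.1 hc)] at h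
  haveI : Nontrivial (A ⧸ q) := Ideal.Quotient.nontrivial_iff.2 (Ideal.IsMaximal.ne_top inferInstance)
  exact not_isUnit_zero h

/-- Factor map of truncations as an algebra map. -/
noncomputable def fac (k : Type u) {A : Type u} [Field k] [CommRing A] [Algebra k A] (q : Ideal A) {i j : ℕ} (h : i ≤ j) :
    (A ⧸ q ^ j) →ₐ[k] (A ⧸ q ^ i) :=
  { Ideal.Quotient.factorPow q h with commutes' := fun _ => rfl }

theorem fac_mk (k : Type u) {A : Type u} [Field k] [CommRing A] [Algebra k A] (q : Ideal A) {i j : ℕ} (h : i ≤ j) (a : A) :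
    fac k q h (Ideal.Quotient.mk (q ^ j) a) = Ideal.Quotient.mk (q ^ i) a := rfl

theorem fac_comp (k : Type u) {A : Type u} [Field k] [CommRing A] [Algebra k A] (q : Ideal A) {i j l : ℕ}
    (h : i ≤ j) (h' : j ≤ l) : (fac k q h).comp (fac k q h') = fac k q (h.trans h') :=
  AlgHom.ext fun z => by
    obtain ⟨a, rfl⟩ := Ideal.Quotient.mk_surjective z
    rw [AlgHom.comp_apply, fac_mk, fac_mk, fac_mk]

theorem fac_comp_mk (k : Type u) {A : Type u} [Field k] [CommRing A] [Algebra k A] (q : Ideal A) {i j : ℕ}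
    (h : i ≤ j) : (fac k q h).comp (Ideal.Quotient.mkₐ k (q ^ j)) = Ideal.Quotient.mkₐ k (q ^ i) :=
  AlgHom.ext fun a => fac_mk k q h a

/-- Compatible lifts of a versal element through all truncations. -/
theorem exists_lifts (k : Type u) [Field k] (F : CommAlgCat.{u} k ⥤ Type u)
    (R : Type u) [CommRing R] [Algebra k R]
    (ξ : F.obj (CommAlgCat.of k R))
    (hvers : ∀ (B B₀ : Type u) [CommRing B] [Algebra k B] [IsLocalRing B] [IsArtinianRing B]
        [CommRing B₀] [Algebra k B₀] [IsLocalRing B₀] [IsArtinianRing B₀],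
        Function.Surjective (fun c : k => IsLocalRing.residue B (algebraMap k B c)) →
        ∀ (π : B →ₐ[k] B₀), Function.Surjective π →
          ∀ (g₀ : R →ₐ[k] B₀) (y : F.obj (CommAlgCat.of k B)),
            F.map (CommAlgCat.ofHom π) y = F.map (CommAlgCat.ofHom g₀) ξ →
              ∃ g : R →ₐ[k] B, π.comp g = g₀ ∧ F.map (CommAlgCat.ofHom g) ξ = y)
    (A : Type u) [CommRing A] [Algebra k A] [IsNoetherianRing A] (m : Ideal A) [m.IsMaximal]
    (hresA : Function.Surjective (fun c : k => Ideal.Quotient.mk m (algebraMap k A c)))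
    (η : F.obj (CommAlgCat.of k A)) {i₀ : ℕ} (hi : i₀ = 0 + 2) (h₀ : R →ₐ[k] A ⧸ m ^ i₀)
    (hh₀ : F.map (CommAlgCat.ofHom h₀) ξ = F.map (CommAlgCat.ofHom (Ideal.Quotient.mkₐ k (m ^ i₀))) η) :
    ∃ G : ∀ n, R →ₐ[k] A ⧸ m ^ n, (∀ i j (h : i ≤ j), (fac k m h).comp (G j) = G i) ∧ G i₀ = h₀ ∧
      ∀ n, F.map (CommAlgCat.ofHom (G n)) ξ = F.map (CommAlgCat.ofHom (Ideal.Quotient.mkₐ k (m ^ n))) η := by
  classical
  subst hi
  let St : ℕ → Type u := fun n => {h : R →ₐ[k] A ⧸ m ^ (n + 2) //
    F.map (CommAlgCat.ofHom h) ξ = F.map (CommAlgCat.ofHom (Ideal.Quotient.mkₐ k (m ^ (n + 2)))) η}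
  have step : ∀ (n : ℕ) (h : St n), ∃ h' : St (n + 1), (fac k m (n + 2).le_succ).comp h'.1 = h.1 := by
    intro n h
    haveI := (artinian_quot_pow m (n + 2)).1
    haveI := (artinian_quot_pow m (n + 2)).2
    haveI := (artinian_quot_pow m (n + 1)).1
    haveI := (artinian_quot_pow m (n + 1)).2
    obtain ⟨g, hg, hgy⟩ := hvers (A ⧸ m ^ (n + 2 + 1)) (A ⧸ m ^ (n + 1 + 1)) (residue_surjective_quot_pow m hresA (n + 2))
      (fac k m (n + 2).le_succ)
      (fun z => by
        obtain ⟨a, rfl⟩ := Ideal.Quotient.mk_surjective z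
        exact ⟨Ideal.Quotient.mk _ a, fac_mk k m _ a⟩) h.1
      (F.map (CommAlgCat.ofHom (Ideal.Quotient.mkₐ k (m ^ (n + 2 + 1)))) η) (by
        rw [h.2, ← ConcreteCategory.comp_apply, ← Functor.map_comp, ← CommAlgCat.ofHom_comp, fac_comp_mk])
    exact ⟨⟨g, hgy⟩, hg⟩
  choose nxt hnxt using step
  let st : ∀ n, St n := fun n => Nat.rec (motive := St) ⟨h₀, hh₀⟩ (fun n h => nxt n h) n
  have hst : ∀ i j, (hij : i ≤ j) → (fac k m (Nat.add_le_add_right hij 2)).comp (st j).1 = (st i).1 := by
    intro i j hij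
    induction hij with
    | refl =>
      refine AlgHom.ext fun r => ?_
      obtain ⟨a, ha⟩ := Ideal.Quotient.mk_surjective ((st i).1 r)
      rw [AlgHom.comp_apply, ← ha, fac_mk]
    | @step j hij ih =>
      rw [← ih, ← hnxt j (st j), ← AlgHom.comp_assoc, fac_comp]
  refine ⟨fun n => (fac k m (Nat.le_add_right n 2)).comp (st n).1, fun i j h => ?_, ?_, fun n => ?_⟩
  · beta_reduce
    rw [← hst i j h, ← AlgHom.comp_assoc, fac_comp, ← AlgHom.comp_assoc, fac_comp]
  · exact hst 0 (0 + 2) (Nat.zero_le _)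
  · rw [CommAlgCat.ofHom_comp, Functor.map_comp, ConcreteCategory.comp_apply, (st n).2,
      ← ConcreteCategory.comp_apply, ← Functor.map_comp, ← CommAlgCat.ofHom_comp, fac_comp_mk]

/-- Functor form. Let k be an algebraically closed field and F a set-valued functor on commutative
k-algebras which preserves filtered colimits (limit preserving). Let R be a complete local
Noetherian k-algebra with residue field k and ξ an element of F(R) which is versal: for every
surjection π : B → B₀ of local Artinian k-algebras with residue field k, every k-algebra map g₀ : R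
→ B₀ and every y in F(B) whose image in F(B₀) is the image of ξ under g₀, there is a k-algebra map g
: R → B lifting g₀ along π with image of ξ equal to y. Then there exist a finitely generated
k-algebra A, a maximal ideal m of A with residue field k, an element η of F(A) and a ring
isomorphism α from R to the m-adic completion of A commuting with the scalars from k, such that for
every n, pushing ξ forward along the k-algebra map R → A/m^(n+1) obtained from α and the evaluation
of the completion gives the image of η under A → A/m^(n+1). (The published statement is for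
limit-preserving prestacks over k-schemes; this row is stated for set-valued functors on k-algebras,
with the residue field k that a formal deformation carries by definition made an explicit
hypothesis.) -/
theorem result (k : Type u) [Field k] [IsAlgClosed k]
    (F : CommAlgCat.{u} k ⥤ Type u)
    (hF : ∀ (J : Type u) [SmallCategory J] [IsFiltered J], PreservesColimitsOfShape J F)
    (R : Type u) [CommRing R] [Algebra k R] [IsLocalRing R] [IsNoetherianRing R]
    [IsAdicComplete (IsLocalRing.maximalIdeal R) R]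
    (hres : Function.Surjective (fun c : k => IsLocalRing.residue R (algebraMap k R c)))
    (ξ : F.obj (CommAlgCat.of k R))
    (hvers : ∀ (B B₀ : Type u) [CommRing B] [Algebra k B] [IsLocalRing B] [IsArtinianRing B]
        [CommRing B₀] [Algebra k B₀] [IsLocalRing B₀] [IsArtinianRing B₀],
        Function.Surjective (fun c : k => IsLocalRing.residue B (algebraMap k B c)) →
        ∀ (π : B →ₐ[k] B₀), Function.Surjective π →
          ∀ (g₀ : R →ₐ[k] B₀) (y : F.obj (CommAlgCat.of k B)),
            F.map (CommAlgCat.ofHom π) y = F.map (CommAlgCat.ofHom g₀) ξ →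
              ∃ g : R →ₐ[k] B, π.comp g = g₀ ∧ F.map (CommAlgCat.ofHom g) ξ = y) :
    ∃ (A : Type u) (_ : CommRing A) (_ : Algebra k A) (_ : Algebra.FiniteType k A)
      (m : Ideal A) (_ : m.IsMaximal)
      (_ : Function.Surjective (fun c : k => Ideal.Quotient.mk m (algebraMap k A c)))
      (η : F.obj (CommAlgCat.of k A))
      (α : R ≃+* AdicCompletion m A),
      (∀ c : k, α (algebraMap k R c) = algebraMap A (AdicCompletion m A) (algebraMap k A c)) ∧
      ∀ (n : ℕ) (ψ : R →ₐ[k] A ⧸ m ^ (n + 1)),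
        ψ.toRingHom = (AdicCompletion.evalₐ m (n + 1) :
            AdicCompletion m A →ₐ[A] A ⧸ m ^ (n + 1)).toRingHom.comp α.toRingHom →
          F.map (CommAlgCat.ofHom ψ) ξ = F.map (CommAlgCat.ofHom (Ideal.Quotient.mkₐ k (m ^ (n + 1)))) η := by
  classical
  obtain ⟨A, iA, iA', hft, m, hm, hresA, η, φ, hφ, e, -, -⟩ := S17371.result k F hF R hres ξ 1
  haveI : IsNoetherianRing A := Algebra.FiniteType.isNoetherianRing k A
  haveI := hft
  haveI := hm
  refine ⟨A, iA, iA', hft, m, hm, hresA, η, ?_⟩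
  obtain ⟨G, hG, hG₂, hGη⟩ := exists_lifts k F R ξ hvers A m hresA η (i₀ := 1 + 1) (by norm_num) (φ.toAlgHom.comp (Ideal.Quotient.mkₐ k _)) hφ
  have hfg : m.FG := m.fg_of_isNoetherianRing
  let g : R →+* AdicCompletion m A := AdicCompletion.liftRingHom m (fun n => (G n).toRingHom) (fun h => congrArg AlgHom.toRingHom (hG _ _ h))
  have hg : ∀ n r, AdicCompletion.evalₐ m n (g r) = G n r := fun n r =>
    AdicCompletion.evalₐ_liftRingHom m _ (fun h => congrArg AlgHom.toRingHom (hG _ _ h)) n r
  have hgk : ∀ c : k, g (algebraMap k R c) = algebraMap A (AdicCompletion m A) (algebraMap k A c) := fun c =>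
    AdicCompletion.ext_evalₐ fun n => by
      rw [hg, AlgHom.commutes, AlgHom.commutes]
      rfl
  let MM : Ideal (AdicCompletion m A) := m.map (algebraMap A (AdicCompletion m A))
  haveI : IsAdicComplete MM (AdicCompletion m A) := AdicCompletion.isAdicComplete_self _ hfg
  have hpow : ∀ n z, z ∈ MM ^ n ↔ AdicCompletion.evalₐ m n z = 0 := fun n z => by
    rw [← Ideal.map_pow, CMCat.evalₐ_eq_zero_iff hfg]
  have hmR : ∀ r, r ∈ IsLocalRing.maximalIdeal R → g r ∈ MM := by
    intro r hr
    rw [← pow_one MM, hpow, hg]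
    by_contra hne
    haveI : Nontrivial (A ⧸ m ^ 1) := Ideal.Quotient.nontrivial_iff.2 (by rw [pow_one]; exact hm.ne_top)
    obtain ⟨a, ha⟩ := Ideal.Quotient.mk_surjective (G 1 r)
    obtain ⟨c, hc⟩ := hresA (Ideal.Quotient.mk m a)
    have hc0 : c ≠ 0 := fun h0 => hne <| by
      rw [← ha, Ideal.Quotient.eq_zero_iff_mem, pow_one, ← Ideal.Quotient.eq_zero_iff_mem, ← hc, h0]
      simp
    have hu : IsUnit (r - algebraMap k R c) := by
      refine IsLocalRing.notMem_maximalIdeal.1 fun h => ?_
      exact IsLocalRing.notMem_maximalIdeal.2 ((isUnit_iff_ne_zero.2 hc0).map (algebraMap k R))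
        (by simpa using sub_mem hr h)
    have h0 : G 1 (r - algebraMap k R c) = 0 := by
      rw [map_sub, AlgHom.commutes, ← ha]
      show Ideal.Quotient.mk (m ^ 1) a - Ideal.Quotient.mk (m ^ 1) (algebraMap k A c) = 0
      rw [← map_sub, Ideal.Quotient.eq_zero_iff_mem, pow_one]
      exact Ideal.Quotient.eq.1 hc.symm
    exact not_isUnit_zero (h0 ▸ hu.map (G 1))
  have hmap : (IsLocalRing.maximalIdeal R).map g = MM := by
    refine le_antisymm (Ideal.map_le_iff_le_comap.2 hmR) ?_
    refine Submodule.le_of_le_smul_of_le_jacobson_bot (hfg.map _) (IsAdicComplete.le_jacobson_bot MM) ?_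
    rw [smul_eq_mul, ← pow_two, show (2 : ℕ) = 1 + 1 from rfl]
    refine Ideal.map_le_iff_le_comap.2 fun a ha => ?_
    obtain ⟨r, hr⟩ := φ.surjective (Ideal.Quotient.mk (m ^ (1 + 1)) a)
    obtain ⟨r, rfl⟩ := Ideal.Quotient.mk_surjective r
    have hd : algebraMap A (AdicCompletion m A) a - g r ∈ MM ^ (1 + 1) := by
      rw [hpow, map_sub, AlgHom.commutes, hg]
      rw [hG₂, AlgHom.comp_apply, Ideal.Quotient.mkₐ_eq_mk]
      show Ideal.Quotient.mk (m ^ (1 + 1)) a - φ (Ideal.Quotient.mk _ r) = 0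
      rw [hr, sub_self]
    rw [Ideal.mem_comap, ← add_sub_cancel (g r) (algebraMap A (AdicCompletion m A) a)]
    refine Submodule.add_mem_sup (Ideal.mem_map_of_mem g ?_) hd
    by_contra hu
    have hgu : IsUnit (g r) := (IsLocalRing.notMem_maximalIdeal.1 hu).map g
    have h1 : g r ∈ MM := by
      have := sub_mem (Ideal.mem_map_of_mem (algebraMap A (AdicCompletion m A)) ha) (Ideal.pow_le_self (Nat.succ_ne_zero 1) hd)
      simpa using this
    refine Ideal.IsPrime.ne_top (I := m) inferInstance ?_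
    rw [Ideal.eq_top_iff_one]
    have h2 := Ideal.eq_top_of_isUnit_mem _ h1 hgu
    have h3 : (1 : AdicCompletion m A) ∈ MM ^ 1 := by rw [pow_one, h2]; trivial
    rw [hpow, map_one, ← map_one (Ideal.Quotient.mk (m ^ 1)), Ideal.Quotient.eq_zero_iff_mem, pow_one] at h3
    exact h3
  have hgs : Function.Surjective g := by
    haveI : IsHausdorff ((IsLocalRing.maximalIdeal R).map g) (AdicCompletion m A) := by rw [hmap]; infer_instance
    refine surjective_of_mk_map_comp_surjective (I := IsLocalRing.maximalIdeal R) g fun y => ?_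
    obtain ⟨y, rfl⟩ := Ideal.Quotient.mk_surjective y
    obtain ⟨a, ha⟩ := Ideal.Quotient.mk_surjective (AdicCompletion.evalₐ m 1 y)
    obtain ⟨c, hc⟩ := hresA (Ideal.Quotient.mk m a)
    refine ⟨algebraMap k R c, ?_⟩
    show Ideal.Quotient.mk _ (g _) = _
    rw [hgk, Ideal.Quotient.eq, hmap, ← pow_one MM, hpow, map_sub, AlgHom.commutes, ← ha]
    show Ideal.Quotient.mk (m ^ 1) _ - Ideal.Quotient.mk (m ^ 1) a = 0
    rw [← map_sub, Ideal.Quotient.eq_zero_iff_mem, pow_one]
    exact Ideal.Quotient.eq.1 hc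
  -- injectivity from the graded rings
  let ι := AlgzGrLib.grMap (algebraMap A (AdicCompletion m A)) m MM le_rfl
  have hι : Function.Bijective ι := by
    refine ⟨AlgzGrLib.grMap_injective _ _ _ _ fun n a _ h => ?_, AlgzGrLib.grMap_surjective _ _ _ _ fun n z hz => ?_⟩
    · rwa [hpow, AlgHom.commutes, Ideal.Quotient.algebraMap_eq, Ideal.Quotient.eq_zero_iff_mem] at h
    · obtain ⟨a, ha⟩ := Ideal.Quotient.mk_surjective (AdicCompletion.evalₐ m (n + 1) z)
      have hd : algebraMap A (AdicCompletion m A) a - z ∈ MM ^ (n + 1) := by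
        rw [hpow, map_sub, AlgHom.commutes, ← ha]
        exact sub_self _
      refine ⟨a, ?_, hd⟩
      have h1 := add_mem hz (Ideal.pow_le_pow_right n.le_succ hd)
      rwa [add_sub_cancel, hpow, AlgHom.commutes, Ideal.Quotient.algebraMap_eq, Ideal.Quotient.eq_zero_iff_mem] at h1
  let Ψ := AlgzGrLib.grMap g (IsLocalRing.maximalIdeal R) MM hmap.le
  have hΨ : Function.Surjective Ψ := AlgzGrLib.grMap_surjective _ _ _ _ fun n z hz => by
    rw [← hmap, ← Ideal.map_pow, Ideal.mem_map_iff_of_surjective g hgs] at hz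
    obtain ⟨r, hr, rfl⟩ := hz
    exact ⟨r, hr, by simp⟩
  haveI := AlgzGrLib.isNoetherianRing_grRing (IsLocalRing.maximalIdeal R)
  let endo := (e.symm.toRingHom.comp (RingEquiv.ofBijective ι hι).symm.toRingHom).comp Ψ
  have hendo : Function.Injective endo := AlgzGrLib.injective_of_surjective_endo endo
    (e.symm.surjective.comp ((RingEquiv.ofBijective ι hι).symm.surjective.comp hΨ))
  have hΨi : Function.Injective Ψ := fun a b h => hendo (by simp only [endo, RingHom.comp_apply, h])
  have hgi : Function.Injective g := by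
    rw [injective_iff_map_eq_zero]
    intro r hr
    refine IsHausdorff.haus (I := IsLocalRing.maximalIdeal R) inferInstance r fun n => SModEq.zero.2 ?_
    rw [smul_eq_mul, Ideal.mul_top]
    induction n with
    | zero => simp
    | succ n ih =>
      have h0 : Ψ (AssocGr.inDeg (FiltBl.IdealFiltration.adic (IsLocalRing.maximalIdeal R)) n ⟨r, ih⟩ :
          AssocGr.GrRing (FiltBl.IdealFiltration.adic (IsLocalRing.maximalIdeal R))) = 0 := by
        rw [AlgzGrLib.grMap_inDeg, Submodule.coe_eq_zero, AssocGr.inDeg_eq_zero_iff]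
        show g r ∈ _
        rw [hr]
        exact zero_mem _
      rw [← map_zero Ψ] at h0
      exact (AssocGr.inDeg_eq_zero_iff _ n ⟨r, ih⟩).1 (Submodule.coe_eq_zero.1 (hΨi h0))
  refine ⟨RingEquiv.ofBijective g ⟨hgi, hgs⟩, hgk, fun n ψ hψ => ?_⟩
  have hψ' : ψ = G (n + 1) := AlgHom.ext fun r => (RingHom.congr_fun hψ r).trans (hg (n + 1) r)
  rw [hψ']
  exact hGη (n + 1)

end Groth.Agent.S17372
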