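import Groth.Statements.S17373
import Groth.Agent.NumBddLib.Ample

set_option autoImplicit false
universe u
open CategoryTheory CategoryTheory.Limits AlgebraicGeometry
open Variety

namespace Groth.Agent.S17373

open CategoryTheory CategoryTheory.Limits AlgebraicGeometry


open Groth.Agent Groth.Agent.AmpleLib
set_option backward.isDefEq.respectTransparency false
set_option linter.style.haveILetI false

/-- Let X be a geometrically integral scheme proper over a field k and L an ample invertible module on
X. Then there is an integer m₀ such that for all m ≥ m₀ and every numerically trivial invertible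
module N (degree zero on every integral closed one-dimensional subscheme), H^0(X, L^m ⊗ N) has the
same k-dimension as H^0(X, L^m), and that dimension is positive. (The published statement is for a
big divisor D and asserts that every invertible module numerically equivalent to O(mD) comes from an
effective divisor for m large; its argument reduces to ample D and establishes exactly the equality
of dimensions stated here.) -/
theorem result (k : Type u) [Field k] (X : Scheme.{u})
    [X.Over (Spec (CommRingCat.of k))] [IsIntegral X] [GeometricallyIntegral (X ↘ Spec (CommRingCat.of k))]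
    [IsProper (X ↘ Spec (CommRingCat.of k))]
    (L : X.Modules) (hL : CohB1.IsAmple L) :
    ∃ m₀ : ℕ, ∀ m : ℕ, m₀ ≤ m → ∀ N : X.Modules, PicF.IsInvertible N → Pic13.IsNumEquivZero k X N →
      Module.finrank k (Coh.HH X (CohB1.tensorMod (CohB1.tensorPow L m) N) 0) =
          Module.finrank k (Coh.HH X (CohB1.tensorPow L m) 0) ∧
        0 < Module.finrank k (Coh.HH X (CohB1.tensorPow L m) 0) := by
  obtain ⟨m₀, hm₀⟩ := NumBdd.exists_uniform k hL (DevLib.isCoh_structureModule X)
  obtain ⟨q, hq⟩ := Nakai.exists_h_ne_zero k hL (ParaFLib.isInvertible_structureModule (X := X))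
  refine ⟨max m₀ q, fun m hm N hN hn => ?_⟩
  have hm1 : m₀ ≤ m := (le_max_left _ _).trans hm
  have hm2 : q ≤ m := (le_max_right _ _).trans hm
  have key : ∀ P : X.Modules, PicF.IsInvertible P → Pic13.IsNumEquivZero k X P →
      (Module.finrank k (Coh.HH X (CohB1.tensorMod (CohB1.tensorPow L m) P) 0) : ℤ) =
        Curv2.euler k X (CohB1.tensorMod (Coh.structureModule X) (CohB1.tensorPow L m)) := by
    intro P hP hPn
    rw [← (hm₀ P hP hPn m hm1).2, CurveLib.euler_eq_sum (K := k) _ 1 fun p hp => (hm₀ P hP hPn m hm1).1 p (by omega),
      Finset.sum_range_one, pow_zero, one_mul]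
    exact congrArg Nat.cast (CMRegLib.hh_finrank_iso (k := k)
      (tIso (unitL P) (Iso.refl _) ≪≫ comm P _) 0).symm
  have h1 := key N hN hn
  have h2 := key _ ParaFLib.isInvertible_structureModule (NumBdd.numTriv_unit k)
  have h3 : Module.finrank k (Coh.HH X (CohB1.tensorMod (CohB1.tensorPow L m) (Coh.structureModule X)) 0) =
      Module.finrank k (Coh.HH X (CohB1.tensorPow L m) 0) := CMRegLib.hh_finrank_iso (k := k) (unitR _) 0
  refine ⟨by omega, Nat.pos_of_ne_zero fun h0 => hq m hm2 ?_⟩
  exact (VolLib.h_congr k (unitL (CohB1.tensorPow L m))).trans h0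

end Groth.Agent.S17373
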