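import Groth.Statements.S17374
import Groth.Agent.VolLib.NumInv

set_option autoImplicit false
universe u
open CategoryTheory CategoryTheory.Limits AlgebraicGeometry
open scoped ENNReal
open Variety

namespace Groth.Agent.S17374

open CategoryTheory CategoryTheory.Limits AlgebraicGeometry

set_option backward.isDefEq.respectTransparency false
open Groth.Agent.HiGrowth

/-- Let X be a geometrically integral scheme of dimension d, proper over a field k and admitting an
ample invertible module, and let L, N be invertible modules on X with N numerically trivial (degree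
zero on every integral closed one-dimensional subscheme). Then the upper limits of dim_k H^0(X, (L ⊗
N)^m) / m^d and of dim_k H^0(X, L^m) / m^d as m → ∞, taken in the extended non-negative reals,
agree; that is, the volume of an invertible module depends only on its numerical equivalence class. -/
theorem result (k : Type u) [Field k] (X : Scheme.{u})
    [X.Over (Spec (CommRingCat.of k))] [IsIntegral X] [GeometricallyIntegral (X ↘ Spec (CommRingCat.of k))]
    [IsProper (X ↘ Spec (CommRingCat.of k))]
    (hproj : ∃ A : X.Modules, CohB1.IsAmple A) (d : ℕ) (hd : topologicalKrullDim X = d)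
    (L N : X.Modules) (hL : PicF.IsInvertible L) (hN : PicF.IsInvertible N) (hNum : Pic13.IsNumEquivZero k X N) :
    Filter.limsup (fun m : ℕ => (Module.finrank k (Coh.HH X (CohB1.tensorPow (CohB1.tensorMod L N) m) 0) : ℝ≥0∞) /
        (m : ℝ≥0∞) ^ d) Filter.atTop =
      Filter.limsup (fun m : ℕ => (Module.finrank k (Coh.HH X (CohB1.tensorPow L m) 0) : ℝ≥0∞) /
        (m : ℝ≥0∞) ^ d) Filter.atTop := by
  haveI := EulerIneqLib.isNoetherian_proper (X := X) k
  obtain ⟨H, hH⟩ := hproj
  obtain ⟨N', hN', ⟨e⟩⟩ := Groth.Agent.AmpleEmb.exists_isInverseOf hN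
  have hnef : Groth.Agent.Nakai.NefP k hN :=
    Groth.Agent.Nakai.nefP_of_curveDeg k hN fun Y i _ hY hdY => (hNum Y i hY hdY).ge
  have h1 := evol_le_nef k hd hL hN hnef hH
  have h2 := (evol_le_nef k hd (Groth.Agent.AmpleLib.isInvertible_tensor hL hN) hN'
    (nefP_inverse k hN hN' e hNum) hH).trans_eq
      (evol_congr k d (Groth.Agent.AmpleLib.assoc L N N' ≪≫ Groth.Agent.AmpleLib.tIso (Iso.refl L) e ≪≫
        Groth.Agent.AmpleLib.unitR L))
  exact le_antisymm h2 h1


end Groth.Agent.S17374
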