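import Groth.Statements.S17375
import Groth.Agent.VolLib.GenFinite
import Groth.Agent.VolLib.HiLim
import Groth.Agent.VolLib.HiSplit

set_option autoImplicit false
universe u
open CategoryTheory CategoryTheory.Limits AlgebraicGeometry Asymptotics
open Variety

namespace Groth.Agent.S17375

open CategoryTheory CategoryTheory.Limits AlgebraicGeometry

set_option backward.isDefEq.respectTransparency false
open Groth.Agent.HiGrowth Groth.Agent.AmpleLib


/-- Let X and Y be geometrically integral schemes proper over a field k, each admitting an ample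
invertible module, with X of dimension d, and let f : Y → X be a k-morphism which is dominant and
generically finite of degree n ≥ 1: f maps the generic point of Y to the generic point of X and the
induced extension of function fields has finite degree n. Then for every invertible module L on X
the difference dim_k H^0(Y, (f^*L)^m) − n · dim_k H^0(X, L^m) is O(m^(d−1)) as m → ∞ (so the volume
of f^*L is n times that of L). -/
theorem result (k : Type u) [Field k] (X Y : Scheme.{u})
    [X.Over (Spec (CommRingCat.of k))] [Y.Over (Spec (CommRingCat.of k))] [IsIntegral X] [IsIntegral Y]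
    [GeometricallyIntegral (X ↘ Spec (CommRingCat.of k))] [GeometricallyIntegral (Y ↘ Spec (CommRingCat.of k))]
    [IsProper (X ↘ Spec (CommRingCat.of k))] [IsProper (Y ↘ Spec (CommRingCat.of k))]
    (hXproj : ∃ A : X.Modules, CohB1.IsAmple A) (hYproj : ∃ B : Y.Modules, CohB1.IsAmple B)
    (d : ℕ) (hd : topologicalKrullDim X = d)
    (f : Y ⟶ X) (hf : f ≫ (X ↘ Spec (CommRingCat.of k)) = Y ↘ Spec (CommRingCat.of k))
    (hdom : f.base (genericPoint Y) = genericPoint X) (n : ℕ) (hn : f.residueDegree (genericPoint Y) = n) (hn0 : 0 < n)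
    (L : X.Modules) (hL : PicF.IsInvertible L) :
    (fun m : ℕ => (Module.finrank k (Coh.HH Y (CohB1.tensorPow ((Scheme.Modules.pullback f).obj L) m) 0) : ℝ) -
        n * Module.finrank k (Coh.HH X (CohB1.tensorPow L m) 0)) =O[Filter.atTop]
      (fun m : ℕ => (m : ℝ) ^ (d - 1)) := by
  haveI := Groth.Agent.EulerIneqLib.isNoetherian_proper (X := Y) k
  haveI := Groth.Agent.EulerIneqLib.isNoetherian_proper (X := X) k
  obtain ⟨B', hB⟩ := hYproj
  obtain ⟨M, hMi, hGc, htr⟩ := exists_transfer k hf hB
  have hO := Groth.Agent.CurveLib.isCoh_of_isInvertible (Groth.Agent.ParaFLib.isInvertible_structureModule (X := Y))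
  have hMc := Groth.Agent.CurveLib.isCoh_of_isInvertible hMi
  have hfL := isInvertible_pullback f hL
  obtain ⟨θ⟩ := nonempty_stalk_invertible hMi (genericPoint Y)
  obtain ⟨hY, hfib⟩ := dim_and_fibre k hf hd hdom (by omega)
  obtain ⟨G, hG, ⟨θG⟩, hGe⟩ := exists_rank k (X := X) n
  haveI := hGc.1
  letI : Field (X.presheaf.stalk (genericPoint X)) := (inferInstance : Field X.functionField)
  haveI := Groth.Agent.PullbackMod.finite_stalk_of_isFT hGc.2 (genericPoint X)
  obtain ⟨θ'⟩ : Nonempty (((Scheme.Modules.pushforward f).obj M).presheaf.stalk (genericPoint X)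
      ≃ₗ[X.presheaf.stalk (genericPoint X)] (Fin n → X.presheaf.stalk (genericPoint X))) :=
    ⟨LinearEquiv.ofFinrankEq _ _ (((finrank_push_stalk k hf hdom hfib hMi).trans hn).trans
      (Module.finrank_fin_fun _).symm)⟩
  obtain ⟨C₁, h₁⟩ := near_of_genericStalk k hfL hY hMc hO θ 0
  obtain ⟨C₂, h₂⟩ := near_of_genericStalk k hL hd hGc hG (θ'.trans θG.symm) 0
  refine Asymptotics.IsBigO.of_bound (((C₁ : ℝ) + C₂) * 2 ^ (d - 1)) (Filter.eventually_atTop.2 ⟨1, fun m hm => ?_⟩)
  have e : ∀ {Z : Scheme.{u}} [Z.Over (Spec (CommRingCat.of k))] (N : Z.Modules),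
      Module.finrank k (Coh.HH Z (CohB1.tensorPow N m) 0) = hi k N (Coh.structureModule Z) 0 m :=
    fun {Z} _ N => (hh_congr k (unitL (CohB1.tensorPow N m)) 0).symm
  have hB' : (B d m : ℝ) ≤ 2 ^ (d - 1) * (m : ℝ) ^ (d - 1) := by
    cases d with
    | zero => simp [B]
    | succ d =>
      rw [← mul_pow]
      push_cast [B]
      refine pow_le_pow_left₀ (by positivity) ?_ _
      have : (1 : ℝ) ≤ m := by exact_mod_cast hm
      linarith
  obtain ⟨a₁, b₁⟩ := h₁ m
  obtain ⟨a₂, b₂⟩ := h₂ m
  rw [← htr L hL 0 m, hGe L hL 0 m] at a₂ b₂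
  rw [e, e, Real.norm_eq_abs, Real.norm_eq_abs, abs_of_nonneg (show (0 : ℝ) ≤ (m : ℝ) ^ (d - 1) by positivity)]
  rify at a₁ b₁ a₂ b₂
  refine le_trans ?_ (le_of_le_of_eq (mul_le_mul_of_nonneg_left hB' (by positivity : (0 : ℝ) ≤ (C₁ : ℝ) + C₂)) (by ring))
  rw [abs_sub_le_iff]
  constructor <;> linarith

end Groth.Agent.S17375
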