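import Groth.Statements.S17376
import Mathlib

set_option autoImplicit false
universe u
open scoped TensorProduct
open CAlg

namespace Groth.Agent.S17376

section

open Module Polynomial

/-- The determinant of a matrix over a domain which is integral over a subring is integral. -/
theorem isIntegral_det {A D : Type*} [CommRing A] [CommRing D] [IsDomain D] [Algebra A D]
    {ι : Type*} [Fintype ι] [DecidableEq ι] {M : Matrix ι ι D} (hM : IsIntegral A M) :
    IsIntegral A M.det := by
  rcases isEmpty_or_nonempty ι with hι | hι
  · rw [Matrix.det_isEmpty]; exact isIntegral_one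
  let Ω := AlgebraicClosure (FractionRing D)
  have hf : Function.Injective (algebraMap D Ω) := by
    rw [IsScalarTower.algebraMap_eq D (FractionRing D) Ω]
    exact (algebraMap (FractionRing D) Ω).injective.comp (IsFractionRing.injective D (FractionRing D))
  rw [← isIntegral_algHom_iff (IsScalarTower.toAlgHom A D Ω) hf]
  obtain ⟨P, hP, hPM⟩ := hM
  let M' : Matrix ι ι Ω := (IsScalarTower.toAlgHom A D Ω).mapMatrix M
  have hM' : Polynomial.aeval M' (P.map (algebraMap A Ω)) = 0 := by
    rw [Polynomial.aeval_map_algebraMap, Polynomial.aeval_algHom_apply]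
    rw [← Polynomial.aeval_def] at hPM
    rw [hPM, map_zero]
  rw [AlgHom.map_det]
  show IsIntegral A M'.det
  rw [Matrix.det_eq_prod_roots_charpoly]
  refine IsIntegral.multiset_prod fun r hr => ⟨P, hP, ?_⟩
  have hspec : r ∈ spectrum Ω M' := by
    rw [Matrix.mem_spectrum_iff_isRoot_charpoly]
    exact Polynomial.isRoot_of_mem_roots hr
  have := spectrum.subset_polynomial_aeval M' (P.map (algebraMap A Ω)) ⟨r, hspec, rfl⟩
  rw [hM', spectrum.zero_eq, Set.mem_singleton_iff] at this
  simpa only [Polynomial.eval_map] using this

theorem lmm_pushout {K T L S : Type*} [CommRing K] [CommRing T] [CommRing L] [CommRing S]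
    [Algebra K T] [Algebra K L] [Algebra L S] [Algebra T S] [Algebra K S]
    [IsScalarTower K T S] [IsScalarTower K L S] [h : Algebra.IsPushout K T L S]
    {ι : Type*} [Fintype ι] [DecidableEq ι] (b : Basis ι K L) (l : L) :
    Algebra.leftMulMatrix (h.out.basis b) (algebraMap L S l) =
      (Algebra.leftMulMatrix b l).map (algebraMap K T) := by
  ext i j
  rw [Algebra.leftMulMatrix_eq_repr_mul, Matrix.map_apply, Algebra.leftMulMatrix_eq_repr_mul,
    IsBaseChange.basis_apply]
  show (h.out.basis b).repr (algebraMap L S l * algebraMap L S (b j)) i = _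
  rw [← map_mul]
  exact IsBaseChange.basis_repr_comp_apply b h.out _ i

theorem isRegular_iff_det {T S : Type*} [CommRing T] [CommRing S] [Algebra T S]
    {ι : Type*} [Fintype ι] [DecidableEq ι] (b : Basis ι T S) (x : S) :
    IsRegular x ↔ IsRegular (Algebra.leftMulMatrix b x).det := by
  rw [isRegular_iff_mem_nonZeroDivisors, isRegular_iff_mem_nonZeroDivisors (r := Matrix.det _),
    ← Matrix.nonsingular_iff_det_mem_nonZeroDivisors, ← Matrix.linearIndependent_col_iff,
    ← Matrix.mulVec_injective_iff, mem_nonZeroDivisors_iff_right]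
  constructor
  · intro h v w hvw
    obtain ⟨y, rfl⟩ := b.equivFun.surjective v
    obtain ⟨z, rfl⟩ := b.equivFun.surjective w
    simp only [Basis.equivFun_apply, Algebra.leftMulMatrix_mulVec_repr] at hvw
    congr 1
    exact sub_eq_zero.1 (h _ (by rw [sub_mul, sub_eq_zero, mul_comm y, mul_comm z]
                                 exact b.repr.injective (DFunLike.coe_injective hvw)))
  · intro h y hy
    refine b.repr.injective (DFunLike.coe_injective (h ?_))
    simp only [Algebra.leftMulMatrix_mulVec_repr, mul_comm x, hy, map_zero]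
    simp

end

/-- Let k be a field, A an integrally closed domain over k with fraction field K, L a finite extension
of K, B the integral closure of A in L, and R an arbitrary commutative k-algebra; view L ⊗_k R as an
algebra over K ⊗_k R through K → L. Then L ⊗_k R is finite free over K ⊗_k R, so the norm
(determinant of multiplication) L ⊗_k R → K ⊗_k R is defined; the norm of any element β of B ⊗_k R
(mapped into L ⊗_k R) lies in the image of A ⊗_k R; and β is a nonzerodivisor in B ⊗_k R if and only
if its norm is a nonzerodivisor in K ⊗_k R. (Nonzerodivisors of A ⊗_k R are exactly its elements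
that are nonzerodivisors in K ⊗_k R, the latter being a localisation of the former at
nonzerodivisors, so this is the source's formulation with the norm regarded in A ⊗_k R.) -/
theorem result (k A K L R : Type u) [Field k]
    [CommRing A] [IsDomain A] [IsIntegrallyClosed A] [Algebra k A]
    [Field K] [Algebra A K] [IsFractionRing A K] [Algebra k K] [IsScalarTower k A K]
    [Field L] [Algebra K L] [FiniteDimensional K L] [Algebra A L] [IsScalarTower A K L]
    [Algebra k L] [IsScalarTower k K L] [IsScalarTower k A L]
    [CommRing R] [Algebra k R] :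
    letI : Algebra (K ⊗[k] R) (L ⊗[k] R) :=
      (Algebra.TensorProduct.map (IsScalarTower.toAlgHom k K L) (AlgHom.id k R)).toRingHom.toAlgebra
    Module.Free (K ⊗[k] R) (L ⊗[k] R) ∧ Module.Finite (K ⊗[k] R) (L ⊗[k] R) ∧
      ∀ b : (integralClosure A L) ⊗[k] R,
        Algebra.norm (K ⊗[k] R)
            (Algebra.TensorProduct.map ((integralClosure A L).val.restrictScalars k) (AlgHom.id k R) b) ∈
          Set.range (Algebra.TensorProduct.map (IsScalarTower.toAlgHom k A K) (AlgHom.id k R)) ∧
        (IsRegular b ↔ IsRegular (Algebra.norm (K ⊗[k] R)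
            (Algebra.TensorProduct.map ((integralClosure A L).val.restrictScalars k) (AlgHom.id k R) b))) := by
  classical
  letI aTS : Algebra (K ⊗[k] R) (L ⊗[k] R) :=
    (Algebra.TensorProduct.map (IsScalarTower.toAlgHom k K L) (AlgHom.id k R)).toRingHom.toAlgebra
  have haTS : ∀ x, algebraMap (K ⊗[k] R) (L ⊗[k] R) x =
    Algebra.TensorProduct.map (IsScalarTower.toAlgHom k K L) (AlgHom.id k R) x := fun _ => rfl
  haveI t1 : IsScalarTower K (K ⊗[k] R) (L ⊗[k] R) := IsScalarTower.of_algebraMap_eq fun x => by
    rw [haTS]; simp [Algebra.TensorProduct.algebraMap_apply]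
  haveI hpo : Algebra.IsPushout K (K ⊗[k] R) L (L ⊗[k] R) :=
    (Algebra.IsPushout.tensorProduct_tensorProduct k R K L (by ext r; simp [haTS])).symm
  let bL := Module.finBasis K L
  let bS := hpo.out.basis bL
  refine ⟨Module.Free.of_basis bS, Module.Finite.of_basis bS, fun b => ?_⟩
  let φ := Algebra.TensorProduct.map ((integralClosure A L).val.restrictScalars k) (AlgHom.id k R)
  show Algebra.norm (K ⊗[k] R) (φ b) ∈ _ ∧ (IsRegular b ↔ IsRegular (Algebra.norm (K ⊗[k] R) (φ b)))
  rw [Algebra.norm_eq_matrix_det bS, ← isRegular_iff_det bS]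
  constructor
  · obtain ⟨m, β, r, hb⟩ : ∃ (m : ℕ) (β : Fin m → integralClosure A L) (r : Fin m → R),
        b = ∑ i, β i ⊗ₜ[k] r i := by
      obtain ⟨s, hs⟩ := TensorProduct.exists_finset b
      refine ⟨s.card, fun i => (s.equivFin.symm i).1.1, fun i => (s.equivFin.symm i).1.2, ?_⟩
      rw [hs, ← Finset.sum_coe_sort s, ← s.equivFin.symm.sum_comp]
    let P := MvPolynomial (Fin m) K
    let Q := MvPolynomial (Fin m) L
    let A' := MvPolynomial (Fin m) A
    letI : Algebra P Q := MvPolynomial.algebraMvPolynomial
    letI : Algebra A' P := MvPolynomial.algebraMvPolynomial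
    letI : Algebra A' Q := MvPolynomial.algebraMvPolynomial
    haveI : IsScalarTower A' P Q := IsScalarTower.of_algebraMap_eq fun x => by
      simp only [P, Q, A', MvPolynomial.algebraMap_def, MvPolynomial.map_map,
        ← IsScalarTower.algebraMap_eq]
    haveI hpq : Algebra.IsPushout K P L Q := inferInstance
    let bQ := hpq.out.basis bL
    let x : Q := ∑ i, (algebraMap P Q (MvPolynomial.X i)) * algebraMap L Q (β i : L)
    let M := Algebra.leftMulMatrix bQ x
    have hx : IsIntegral A' x := IsIntegral.sum _ fun i _ => IsIntegral.mul (by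
        rw [← MvPolynomial.map_X (algebraMap A K) i, show MvPolynomial.map (algebraMap A K)
          (MvPolynomial.X i) = algebraMap A' P (MvPolynomial.X i) from rfl,
          ← IsScalarTower.algebraMap_apply A' P Q]
        exact isIntegral_algebraMap) (by
        rw [MvPolynomial.isIntegral_iff_isIntegral_coeff]
        intro n
        rw [MvPolynomial.algebraMap_eq, MvPolynomial.coeff_C]
        split
        · exact (β i).2
        · exact isIntegral_zero)
    have hM : IsIntegral A' M := hx.map ((Algebra.leftMulMatrix bQ).restrictScalars A')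
    have hdet := MvPolynomial.isIntegral_iff_isIntegral_coeff.1 (isIntegral_det hM)
    obtain ⟨d, hd⟩ : M.det ∈ Set.range (MvPolynomial.map (algebraMap A K)) :=
      MvPolynomial.mem_range_map_iff_coeffs_subset.2 fun c hc => by
        obtain ⟨n, -, rfl⟩ := MvPolynomial.mem_coeffs_iff.1 hc
        exact IsIntegrallyClosed.isIntegral_iff.1 (hdet n)
    let ev : P →ₐ[K] K ⊗[k] R := MvPolynomial.aeval fun i => (1 : K) ⊗ₜ[k] r i
    have hmat : Algebra.leftMulMatrix bS (φ b) = M.map ev := by
      have e1 : φ b = ∑ i, algebraMap (K ⊗[k] R) (L ⊗[k] R) (1 ⊗ₜ r i) * algebraMap L (L ⊗[k] R) (β i : L) := by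
        rw [hb, map_sum]
        refine Finset.sum_congr rfl fun i _ => ?_
        rw [haTS]
        simp [φ, Algebra.TensorProduct.algebraMap_apply]
      rw [e1]
      show _ = ev.mapMatrix M
      simp only [M, x, map_sum, map_mul, AlgHom.commutes, bS, bQ, lmm_pushout]
      refine Finset.sum_congr rfl fun i _ => ?_
      congr 1
      · ext a c
        rw [Matrix.algebraMap_matrix_apply]
        simp only [AlgHom.mapMatrix_apply, Matrix.map_apply, Matrix.algebraMap_matrix_apply]
        rw [apply_ite (ev : P → K ⊗[k] R), map_zero]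
        simp only [ev]
        erw [MvPolynomial.aeval_X]
        simp
      · ext a c
        simp [ev]
    rw [hmat, show M.map ev = ev.mapMatrix M from rfl, ← AlgHom.map_det, ← hd]
    refine ⟨MvPolynomial.aeval (fun i => (1 : A) ⊗ₜ[k] r i) d, ?_⟩
    clear hd
    induction d using MvPolynomial.induction_on with
    | C a =>
      simp only [ev, MvPolynomial.map_C]
      erw [MvPolynomial.aeval_C, MvPolynomial.aeval_C]
      simp [Algebra.TensorProduct.algebraMap_apply]
    | add p q hp hq => simp only [map_add, hp, hq]
    | mul_X p i hp => simp only [map_mul, hp, MvPolynomial.map_X, ev, MvPolynomial.aeval_X,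
        Algebra.TensorProduct.map_tmul, map_one, AlgHom.coe_id, id_eq]; erw [MvPolynomial.aeval_X]
  · have hinj : Function.Injective φ := by
      show Function.Injective (TensorProduct.map ((integralClosure A L).val.restrictScalars k).toLinearMap
        (AlgHom.id k R).toLinearMap)
      exact TensorProduct.map_injective_of_flat_flat _ _ Subtype.val_injective (fun _ _ h => h)
    have hAK := IsFractionRing.injective A K
    have hAL : Function.Injective (algebraMap A L) := by
      rw [IsScalarTower.algebraMap_eq A K L]
      exact (algebraMap K L).injective.comp hAK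
    have hloc : ∀ s : L ⊗[k] R, ∃ (y : integralClosure A L ⊗[k] R) (a : A), a ≠ 0 ∧
        φ y = algebraMap L (L ⊗[k] R) (algebraMap A L a) * s := by
      intro s
      induction s with
      | zero => exact ⟨0, 1, one_ne_zero, by simp⟩
      | tmul l r =>
        obtain ⟨a, ha, hl⟩ := exists_integral_multiples A K ({l} : Finset L)
        exact ⟨⟨a • l, hl l (Finset.mem_singleton_self l)⟩ ⊗ₜ r, a, ha, by
          simp [φ, Algebra.TensorProduct.algebraMap_apply, Algebra.smul_def]⟩
      | add s t hs ht =>
        obtain ⟨y, a, ha, hy⟩ := hs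
        obtain ⟨z, c, hc, hz⟩ := ht
        refine ⟨(algebraMap A (integralClosure A L) c ⊗ₜ 1) * y +
          (algebraMap A (integralClosure A L) a ⊗ₜ 1) * z, a * c, mul_ne_zero ha hc, ?_⟩
        rw [map_add, map_mul, map_mul, hy, hz]
        simp only [φ, Algebra.TensorProduct.map_tmul, Algebra.TensorProduct.algebraMap_apply,
          AlgHom.coe_id, id_eq, map_mul]
        simp only [mul_one, Algebra.TensorProduct.tmul_mul_tmul, map_mul, Subalgebra.coe_algebraMap,
          AlgHom.coe_restrictScalars', Subalgebra.coe_val]
        simp only [mul_add, ← mul_assoc, Algebra.TensorProduct.tmul_mul_tmul, mul_one, Algebra.algebraMap_self_apply]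
        rw [mul_comm (algebraMap A L c)]
    simp only [isRegular_iff_mem_nonZeroDivisors, mem_nonZeroDivisors_iff_right]
    constructor
    · intro h s hs
      obtain ⟨y, a, ha, hy⟩ := hloc s
      have : y = 0 := h y (hinj (by rw [map_mul, map_zero, hy, mul_assoc, hs, mul_zero]))
      rw [this, map_zero] at hy
      exact ((IsUnit.mk0 _ (fun h0 => ha ((map_eq_zero_iff _ hAL).1 h0))).map
        (algebraMap L (L ⊗[k] R))).mul_right_eq_zero.1 hy.symm
    · intro h y hy
      exact hinj (by rw [map_zero]; exact h _ (by rw [← map_mul, hy, map_zero]))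

end Groth.Agent.S17376
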