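import Groth.Statements.S17377
import Groth.Agent.FpqcDesc.Misc
import Groth.Agent.BlowCompLib.Flat
import Groth.Agent.BlowCompLib.Compose
import Groth.Agent.BlowProdLib.Basic
import Groth.Agent.Unibranch.NormalStalk
import Groth.Agent.JacEquidimLib.RectDepth
import Groth.Agent.ASp.RedSub

set_option autoImplicit false
universe u
open CategoryTheory CategoryTheory.Limits AlgebraicGeometry
open Variety

namespace Groth.Agent.S17377

open CategoryTheory CategoryTheory.Limits AlgebraicGeometry


open Topology in
/-- On a locally noetherian scheme with domains as local rings, the closure of a maximal point is open. -/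
theorem isOpen_closure_of_max {P : Scheme.{u}} [IsLocallyNoetherian P] (hd : ∀ x : P, IsDomain (P.presheaf.stalk x))
    (p : P) (hp : ∀ w, w ⤳ p → w = p) : IsOpen (closure ({p} : Set P)) := by
  refine Groth.Agent.FpqcMisc.isOpen_of_closed_generalization _ isClosed_closure fun y w hwy hy => ?_
  haveI := hd y
  obtain ⟨η, hη⟩ := QuasiSober.sober (α := P) isIrreducible_irreducibleComponent
    (isClosed_irreducibleComponent (x := w))
  have hηw : η ⤳ w := hη.specializes mem_irreducibleComponent
  have hmax : ∀ v, v ⤳ η → v = η := fun v hv => by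
    have hsub : irreducibleComponent w ⊆ closure ({v} : Set P) := by
      rw [← hη.def]
      exact hv.closure_subset
    have heq := eq_irreducibleComponent (x := w) (isIrreducible_singleton (x := v)).closure.isPreirreducible hsub
    exact IsGenericPoint.eq (show IsGenericPoint v (irreducibleComponent w) from heq) hη
  have hp' : p ⤳ y := specializes_iff_mem_closure.2 hy
  have heq := Groth.Agent.JacEquidimLib.eq_of_maximal_of_isDomain y hp' (hηw.trans hwy) hp hmax
  exact specializes_iff_mem_closure.1 (heq ▸ hηw)

/-- Two points of a discrete fibre are not in proper specialization. -/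
theorem eq_of_specializes_fibre {X Y : Scheme.{u}} (f : X ⟶ Y) [LocallyQuasiFinite f] {a b : X}
    (h : f a = f b) (hab : a ⤳ b) : a = b := by
  have hd := (f.isDiscrete_preimage_singleton (f b)).to_subtype
  have h2 : (⟨a, h⟩ : ↥(f ⁻¹' {f b})) ⤳ ⟨b, rfl⟩ := subtype_specializes_iff _ _ |>.2 hab
  exact congrArg Subtype.val h2.eq

open Topology in
/-- A finite étale morphism to an irreducible scheme with one trivial point over the generic point is an iso. -/
theorem isIso_of_degree_one {Q D : Scheme.{u}} [IsIntegral D] (g : Q ⟶ D) [IsFinite g] [Etale g] (e : Q)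
    (he : g e = genericPoint D) (hu : ∀ q, g q = g e → q = e) (hdeg : g.residueDegree e = 1) : IsIso g := by
  haveI : IsReduced (g.fiber (g e)) := by
    haveI : Etale (g.fiberToSpecResidueField (g e)) := MorphismProperty.pullback_snd _ _ ‹_›
    exact Groth.Agent.ASp.isReduced_of_etale (g.fiberToSpecResidueField (g e))
  haveI : IsIso (g.residueFieldMap e) := by
    letI := (g.residueFieldMap e).hom.toAlgebra
    have h1 : Module.finrank (D.residueField (g e)) (Q.residueField e) = 1 := hdeg
    haveI : Module.Finite (D.residueField (g e)) (Q.residueField e) := Module.finite_of_finrank_eq_succ h1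
    refine (ConcreteCategory.isIso_iff_bijective _).2 ⟨(g.residueFieldMap e).hom.injective, ?_⟩
    have := bijective_algebraMap_of_linearEquiv
      (LinearEquiv.ofFinrankEq (D.residueField (g e)) (Q.residueField e) (by rw [h1, Module.finrank_self]))
    exact this.2
  haveI : IsClosedImmersion (g.asFiberHom e) := by
    haveI : IsClosedImmersion (g.asFiberHom e ≫ g.fiberToSpecResidueField (g e)) := by
      rw [g.asFiberHom_fiberToSpecResidueField]; infer_instance
    exact IsClosedImmersion.of_comp _ (g.fiberToSpecResidueField (g e))
  haveI : Surjective (g.asFiberHom e) := ⟨fun q => by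
    have hq : g.fiberι (g e) q ∈ g ⁻¹' {g e} := by rw [← g.range_fiberι]; exact ⟨q, rfl⟩
    have h0 : q = g.asFiber e := (g.fiberι (g e)).isEmbedding.injective (by rw [g.fiberι_asFiber]; exact hu _ hq)
    obtain ⟨z⟩ : Nonempty ↥(Spec (Q.residueField e)) := inferInstance
    exact ⟨z, (g.asFiberHom_apply e z).trans h0.symm⟩⟩
  haveI : IsIso (g.asFiberHom e) := isIso_of_isClosedImmersion_of_surjective _
  haveI : IsIso (g.fiberToSpecResidueField (g e)) := by
    haveI : IsIso (g.asFiberHom e ≫ g.fiberToSpecResidueField (g e)) := by
      rw [g.asFiberHom_fiberToSpecResidueField]; infer_instance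
    exact IsIso.of_isIso_comp_left (g.asFiberHom e) _
  obtain ⟨z⟩ : Nonempty ↥(Spec (D.residueField (g e))) := inferInstance
  have h1 : g.finrank (g e) = 1 := by
    have h2 := Scheme.Hom.finrank_pullback_snd g (D.fromSpecResidueField (g e)) z
    rw [Scheme.fromSpecResidueField_apply] at h2
    rw [← h2]
    exact congrFun (Scheme.Hom.finrank_eq_one_of_isIso (g.fiberToSpecResidueField (g e))) z
  rw [Scheme.Hom.isIso_iff_finrank_eq]
  funext d
  exact ((Scheme.Hom.isLocallyConstant_finrank g).apply_eq_of_preconnectedSpace d (g e)).trans h1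

open Topology in
/-- A closed subscheme which is an open piece of a Cartier divisor is a Cartier divisor. -/
theorem isEffCartier_of_open_piece {Y Q : Scheme.{u}} (J E : Y.IdealSheafData) (hJ : BlowUp.IsEffCartierIdeal J)
    (q : Q ⟶ Y) [IsClosedImmersion q] (hq : q.ker = J) (i : E.subscheme ⟶ Q) [IsOpenImmersion i]
    (hi : i ≫ q = E.subschemeι) : BlowUp.IsEffCartierIdeal E := by
  refine Groth.Agent.BlowProdLib.isEffCartier_of_local E fun y => ?_
  by_cases hy : y ∈ E.support
  · let F : Set Y := q '' (Set.range i)ᶜ
    have hF : IsClosed F := q.isClosedEmbedding.isClosedMap _ i.isOpenEmbedding.isOpen_range.isClosed_compl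
    let W : Y.Opens := ⟨Fᶜ, hF.isOpen_compl⟩
    have hyW : y ∈ W := by
      have hy' : y ∈ Set.range E.subschemeι := by rw [Scheme.IdealSheafData.range_subschemeι]; exact hy
      obtain ⟨a, rfl⟩ := hy'
      rintro ⟨b, hb, hb'⟩
      rw [← hi, Scheme.Hom.comp_apply] at hb'
      exact hb ⟨a, (q.isEmbedding.injective hb').symm⟩
    refine ⟨_, W.ι, inferInstance, ⟨y, hyW⟩, rfl, ?_⟩
    let μ : pullback W.ι E.subschemeι ⟶ pullback W.ι q :=
      pullback.map W.ι E.subschemeι W.ι q (𝟙 _) i (𝟙 _) (by simp) (by simp [hi])
    haveI : IsOpenImmersion μ := by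
      dsimp [μ]
      infer_instance
    haveI : Surjective μ := ⟨fun p => by
      have h1 : p ∈ Set.range μ := by
        rw [Scheme.Pullback.range_map]
        refine ⟨by simp, ?_⟩
        by_contra hn
        have h2 : q (pullback.snd W.ι q p) ∈ F := ⟨_, hn, rfl⟩
        have h3 : W.ι (pullback.fst W.ι q p) = q (pullback.snd W.ι q p) := by
          rw [← Scheme.Hom.comp_apply, ← Scheme.Hom.comp_apply, pullback.condition]
        exact (pullback.fst W.ι q p).2 (by rw [← h3] at h2; exact h2)
      exact h1⟩
    haveI : Epi μ.base := (TopCat.epi_iff_surjective _).2 μ.surjective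
    haveI : IsIso μ := IsOpenImmersion.isIso μ
    have h1 : E.comap W.ι = J.comap W.ι := by
      rw [← hq, ← Scheme.IdealSheafData.ker_fst_of_isClosedImmersion q W.ι]
      show (pullback.fst W.ι E.subschemeι).ker = _
      rw [show pullback.fst W.ι E.subschemeι = μ ≫ pullback.fst W.ι q from (by dsimp only [μ, pullback.map]; rw [pullback.lift_fst, Category.comp_id]),
        Scheme.Hom.ker_comp_of_isIso]
    rw [h1]
    exact Groth.Agent.BlowCompLib.isEffCartier_comap_openImmersion hJ W.ι
  · let W : Y.Opens := E.support.compl
    refine ⟨_, W.ι, inferInstance, ⟨y, hy⟩, rfl, ?_⟩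
    have h1 : E.comap W.ι = ⊤ := by
      rw [← Scheme.IdealSheafData.support_eq_bot_iff]
      refine SetLike.coe_injective (Set.eq_empty_of_forall_notMem fun w hw => ?_)
      rw [Scheme.IdealSheafData.support_comap] at hw
      exact w.2 hw
    rw [h1]
    exact Groth.Agent.BlowCompLib.isEffCartier_top

open Topology in
theorem main (X Y : Scheme.{u}) [IsLocallyNoetherian Y] [IsIntegral X]
    (f : Y ⟶ X) [IsFinite f] [Etale f]
    (D : X.IdealSheafData) (hD : FGA.IsEffCartier D) [IsIntegral D.subscheme] (hDn : Pi1.IsNormalScheme D.subscheme)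
    (E : Y.IdealSheafData) [IsIntegral E.subscheme]
    (g : (E.subscheme : Scheme.{u}) ⟶ D.subscheme) (hg : g ≫ D.subschemeι = E.subschemeι ≫ f)
    (hsurj : Function.Surjective g.base) (hdeg : g.residueDegree (genericPoint E.subscheme) = 1) :
    IsIso g ∧ FGA.IsEffCartier E := by
  let p1 := pullback.snd f D.subschemeι
  let q := pullback.fst f D.subschemeι
  haveI : IsClosedImmersion q := MorphismProperty.pullback_fst _ _ inferInstance
  haveI : Etale p1 := MorphismProperty.pullback_snd _ _ ‹_›
  haveI : IsFinite p1 := MorphismProperty.pullback_snd _ _ ‹_›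
  haveI : IsLocallyNoetherian (pullback f D.subschemeι) := LocallyOfFiniteType.isLocallyNoetherian q
  let i : E.subscheme ⟶ pullback f D.subschemeι := pullback.lift E.subschemeι g hg.symm
  have hi : i ≫ q = E.subschemeι := pullback.lift_fst _ _ _
  have hip : i ≫ p1 = g := pullback.lift_snd _ _ _
  haveI : IsClosedImmersion i := by
    haveI : IsClosedImmersion (i ≫ q) := by rw [hi]; infer_instance
    exact IsClosedImmersion.of_comp i q
  set e := genericPoint E.subscheme
  have hspec : ∀ x : E.subscheme, e ⤳ x := fun x => genericPoint_specializes x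
  have he : g e = genericPoint D.subscheme := by
    obtain ⟨x, hx⟩ := hsurj (genericPoint D.subscheme)
    have h1 : g e ⤳ genericPoint D.subscheme := hx ▸ (hspec x).map g.continuous
    exact (h1.antisymm (genericPoint_specializes _)).eq
  have hd : ∀ x : (pullback f D.subschemeι : Scheme.{u}), IsDomain ((pullback f D.subschemeι).presheaf.stalk x) :=
    fun x => (Groth.Agent.Unibranch.normal_stalk_of_etale p1 x (hDn _)).1
  have hmax : ∀ w, w ⤳ i e → w = i e := fun w hw => by
    refine eq_of_specializes_fibre p1 ?_ hw
    have h1 : p1 w ⤳ g e := by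
      rw [← hip, Scheme.Hom.comp_apply]
      exact hw.map p1.continuous
    rw [← Scheme.Hom.comp_apply, hip]
    exact (h1.antisymm (he ▸ genericPoint_specializes _)).eq
  have hrange : Set.range i = closure ({i e} : Set (pullback f D.subschemeι : Scheme.{u})) := by
    refine subset_antisymm ?_ (closure_minimal (by rintro _ rfl; exact ⟨e, rfl⟩) i.isClosedEmbedding.isClosed_range)
    rintro _ ⟨x, rfl⟩
    exact specializes_iff_mem_closure.1 ((hspec x).map i.continuous)
  haveI : IsReduced (pullback f D.subschemeι) := Groth.Agent.ASp.isReduced_of_etale p1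
  let R : (pullback f D.subschemeι : Scheme.{u}).Opens := ⟨Set.range i, hrange ▸ isOpen_closure_of_max hd _ hmax⟩
  let i' : E.subscheme ⟶ R := IsOpenImmersion.lift R.ι i (by rw [Scheme.Opens.range_ι]; exact subset_rfl)
  have hi' : i' ≫ R.ι = i := IsOpenImmersion.lift_fac _ _ _
  haveI : IsClosedImmersion i' := by
    haveI : IsClosedImmersion (i' ≫ R.ι) := by rw [hi']; infer_instance
    exact IsClosedImmersion.of_comp i' R.ι
  haveI : Surjective i' := ⟨fun r => by
    obtain ⟨a, ha⟩ : R.ι r ∈ Set.range i := r.2
    refine ⟨a, R.ι.isOpenEmbedding.injective ?_⟩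
    rw [← Scheme.Hom.comp_apply, hi']
    exact ha⟩
  haveI : IsIso i' := isIso_of_isClosedImmersion_of_surjective _
  haveI : IsOpenImmersion i := by rw [← hi']; infer_instance
  haveI : Etale g := by rw [← hip]; infer_instance
  haveI : IsFinite g := by rw [← hip]; infer_instance
  have hu : ∀ x, g x = g e → x = e := fun x hx => (eq_of_specializes_fibre g hx.symm (hspec x)).symm
  refine ⟨isIso_of_degree_one g e he hu hdeg, ?_⟩
  exact isEffCartier_of_open_piece (D.comap f) E (Groth.Agent.BlowCompLib.isEffCartier_comap_flat hD f) q rfl i hi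


/-- Let X and Y be integral normal schemes locally of finite type over a field k and f : Y → X a finite
étale k-morphism; let D ⊆ X be a closed subscheme which is an effective Cartier divisor and is
integral and normal as a scheme, and E ⊆ Y an integral closed subscheme mapping to D by a surjective
morphism g compatible with the inclusions whose residue-field extension at the generic point of E
has degree 1 (so E is a prime divisor of Y over D with the same function field: D splits in Y at the
level of Weil divisors). Then g is an isomorphism and E is an effective Cartier divisor on Y; in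
particular D is the image of the relative Cartier divisor E (D is c-split). (The source works with
projective, geometrically normal and geometrically integral X, Y of dimension at least 2 and
geometrically normal, geometrically integral D; those hypotheses only serve base change to extension
fields and are dropped here.) -/
theorem result (k : Type u) [Field k] (X Y : Scheme.{u})
    [X.Over (Spec (CommRingCat.of k))] [Y.Over (Spec (CommRingCat.of k))]
    [LocallyOfFiniteType (X ↘ Spec (CommRingCat.of k))] [LocallyOfFiniteType (Y ↘ Spec (CommRingCat.of k))]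
    [IsIntegral X] [IsIntegral Y] (hX : Pi1.IsNormalScheme X) (hY : Pi1.IsNormalScheme Y)
    (f : Y ⟶ X) (hf : f ≫ (X ↘ Spec (CommRingCat.of k)) = Y ↘ Spec (CommRingCat.of k)) [IsFinite f] [Etale f]
    (D : X.IdealSheafData) (hD : FGA.IsEffCartier D) [IsIntegral D.subscheme] (hDn : Pi1.IsNormalScheme D.subscheme)
    (E : Y.IdealSheafData) [IsIntegral E.subscheme]
    (g : (E.subscheme : Scheme.{u}) ⟶ D.subscheme) (hg : g ≫ D.subschemeι = E.subschemeι ≫ f)
    (hsurj : Function.Surjective g.base) (hdeg : g.residueDegree (genericPoint E.subscheme) = 1) :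
    IsIso g ∧ FGA.IsEffCartier E := by
  haveI := LocallyOfFiniteType.isLocallyNoetherian (Y ↘ Spec (CommRingCat.of k))
  exact main X Y f D hD hDn E g hg hsurj hdeg

end Groth.Agent.S17377
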