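import Groth.Statements.S1738
import Groth.Agent.S1737
import Groth.Agent.FaltingsAnnLib.Main
import Groth.Agent.FaltingsAnnLib.Transfer
import Groth.Agent.LocCohLib.DTCoh
import Groth.Agent.CAlgBasics.Depth
import Groth.Agent.CAlgBasics.ReflexiveDepth
import Groth.Agent.FlatSecLib.DepthTwo

set_option autoImplicit false
universe u
open CategoryTheory
attribute [local instance] HasDerivedCategory.standard
open LocCoh

namespace Groth.Agent.S1738

open CategoryTheory CategoryTheory.Limits AlgebraicGeometry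


open Groth.Agent Groth.Agent.DualCxLib Groth.Agent.FaltingsAnnLib Groth.Agent.LocCohLib CategoryTheory
attribute [local instance] HasDerivedCategory.standard
set_option backward.isDefEq.respectTransparency false
set_option linter.style.haveILetI false

variable {A : Type u} [CommRing A] [IsNoetherianRing A]

/-- The depth at a point. -/
noncomputable abbrev depthAt (p : PrimeSpectrum A) (M : Type u) [AddCommGroup M] [Module A M] : ℕ∞ :=
  LocCoh.depth (Localization.AtPrime p.asIdeal) (LocalizedModule p.asIdeal.primeCompl M)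

theorem depthAt_eq_zero_of_ass {M : Type u} [AddCommGroup M] [Module A M] [Module.Finite A M]
    {p : PrimeSpectrum A} (hp : p.asIdeal ∈ associatedPrimes A M) : depthAt p M = 0 := by
  let L := Localization.AtPrime p.asIdeal
  haveI : IsNoetherianRing L := IsLocalization.isNoetherianRing p.asIdeal.primeCompl L inferInstance
  haveI : Module.Finite L (LocalizedModule p.asIdeal.primeCompl M) :=
    Module.Finite.of_isLocalizedModule p.asIdeal.primeCompl (LocalizedModule.mkLinearMap p.asIdeal.primeCompl M)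
  have h := Module.associatedPrimes.preimage_comap_associatedPrimes_eq_associatedPrimes_of_isLocalizedModule
    p.asIdeal.primeCompl L (LocalizedModule.mkLinearMap p.asIdeal.primeCompl M)
  have hm : IsLocalRing.maximalIdeal L ∈ associatedPrimes L (LocalizedModule p.asIdeal.primeCompl M) := by
    rw [← h, Set.mem_preimage, show (IsLocalRing.maximalIdeal L).comap (algebraMap A L) = p.asIdeal from
      IsLocalization.AtPrime.comap_maximalIdeal _ p.asIdeal]
    exact hp
  haveI : Nontrivial (LocalizedModule p.asIdeal.primeCompl M) := by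
    by_contra hc
    rw [not_nontrivial_iff_subsingleton] at hc
    rw [associatedPrimes.eq_empty_of_subsingleton] at hm
    exact hm
  obtain ⟨-, y, hy⟩ := isAssociatedPrime_iff.1 hm
  refine (Depth.idealDepth_eq_zero_iff CAlgBasics.maximalIdeal_smul_top_ne_top).2 ⟨y, ?_, fun r hr => ?_⟩
  · rintro rfl
    exact (IsLocalRing.maximalIdeal.isMaximal L).ne_top (by rw [hy]; simp)
  · rw [hy] at hr
    simpa [Submodule.mem_colon_singleton] using hr

/-- Localization of a map whose kernel and cokernel are killed outside `p`. -/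
theorem bijective_map_of_killed {N N' : Type u} [AddCommGroup N] [Module A N] [AddCommGroup N'] [Module A N']
    (g : N →ₗ[A] N') (p : Ideal A) [p.IsPrime] (hk : ∀ x, g x = 0 → ∃ s ∉ p, s • x = 0)
    (hc : ∀ y, ∃ s ∉ p, ∃ x, g x = s • y) : Function.Bijective (LocalizedModule.map p.primeCompl g) := by
  constructor
  · rw [injective_iff_map_eq_zero]
    intro x
    induction x using LocalizedModule.induction_on with
    | h m s =>
      intro h
      rw [LocalizedModule.map_mk] at h
      rw [← LocalizedModule.zero_mk 1, LocalizedModule.mk_eq] at h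
      obtain ⟨c, hc'⟩ := h
      simp only [smul_zero, one_smul] at hc'
      obtain ⟨t, ht, htx⟩ := hk ((c : A) • m) (by rw [map_smul]; exact hc')
      rw [← LocalizedModule.zero_mk 1, LocalizedModule.mk_eq]
      refine ⟨⟨t * c, p.primeCompl.mul_mem ht c.2⟩, ?_⟩
      simp only [smul_zero, one_smul]
      show (t * (c : A)) • m = 0
      rw [mul_smul, htx]
  · intro y
    induction y using LocalizedModule.induction_on with
    | h m s =>
      obtain ⟨t, ht, x, hx⟩ := hc m
      refine ⟨LocalizedModule.mk x (⟨t, ht⟩ * s), ?_⟩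
      rw [LocalizedModule.map_mk, LocalizedModule.mk_eq]
      exact ⟨1, by rw [one_smul, one_smul, hx]; show (s : A) • t • m = (t * (s : A)) • m; rw [smul_smul, mul_comm]⟩

/-- Collecting denominators over a finitely generated ideal. -/
theorem exists_common_den {N : Type u} [AddCommGroup N] [Module A N] (P : Submodule A N) (p : Ideal A) [p.IsPrime]
    (K : Ideal A) (y : N) (h : ∀ c ∈ K, ∃ t ∉ p, t • c • y ∈ P) : ∃ t ∉ p, ∀ c ∈ K, c • t • y ∈ P := by
  classical
  obtain ⟨s, hs⟩ := IsNoetherian.noetherian K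
  choose! t ht htm using fun c (hc : c ∈ K) => h c hc
  have hsK : ∀ c ∈ s, c ∈ K := fun c hc => hs ▸ Ideal.subset_span hc
  refine ⟨∏ c ∈ s, t c, fun hmem => ?_, fun c hc => ?_⟩
  · obtain ⟨c, hc, hct⟩ := Ideal.IsPrime.prod_mem_iff.1 hmem
    exact ht c (hsK c hc) hct
  · rw [← hs] at hc
    have hle : Ideal.span (s : Set A) ≤ (P.colon {(∏ c ∈ s, t c) • y}) := Ideal.span_le.2 fun c hc' => by
      show c ∈ P.colon _
      rw [Submodule.mem_colon_singleton, ← Finset.prod_erase_mul s t hc', smul_smul,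
        show c * ((∏ x ∈ s.erase c, t x) * t c) = (∏ x ∈ s.erase c, t x) * (t c * c) by ring, mul_smul, mul_smul]
      exact P.smul_mem _ (htm c (hsK c hc'))
    exact Submodule.mem_colon_singleton.1 (hle hc)

variable {M : Type u} [AddCommGroup M] [Module A M] [Module.Finite A M] {T : Set (PrimeSpectrum A)}

/-- A regular element in an ideal supported where the depth is positive. -/
theorem exists_regular_mem (hd : ∀ p ∈ T, 1 ≤ depthAt p M) (K : Ideal A)
    (hK : PrimeSpectrum.zeroLocus (K : Set A) ⊆ T) : ∃ x ∈ K, IsSMulRegular M x := by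
  obtain ⟨x, hx, hxp⟩ := FlatSecLib.exists_mem_notMem_associatedPrimes K (associatedPrimes A M)
    (associatedPrimes.finite A M) (fun p hp => hp.isPrime) fun p hp hle => by
      have h := hd ⟨p, hp.isPrime⟩ (hK ((PrimeSpectrum.mem_zeroLocus _ _).2 hle))
      rw [depthAt_eq_zero_of_ass (p := (⟨p, hp.isPrime⟩ : PrimeSpectrum A)) hp] at h
      simp at h
  refine ⟨x, hx, isSMulRegular_iff_right_eq_zero_of_smul.2 fun m hm => ?_⟩
  by_contra hne
  have hz : x ∈ (⋃ p ∈ associatedPrimes A M, (p : Set A)) := by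
    rw [biUnion_associatedPrimes_eq_zero_divisors]
    exact ⟨m, hne, hm⟩
  simp only [Set.mem_iUnion, SetLike.mem_coe, exists_prop] at hz
  obtain ⟨p, hp, h⟩ := hz
  exact hxp p hp h

/-- Positive depth on `T`: no torsion supported in `T`. -/
theorem torsion_eq_zero (hd : ∀ p ∈ T, 1 ≤ depthAt p M) (K : Ideal A)
    (hK : PrimeSpectrum.zeroLocus (K : Set A) ⊆ T) {x : M} {n : ℕ} (hx : ∀ a ∈ K ^ n, a • x = 0) : x = 0 := by
  obtain ⟨a, ha, hreg⟩ := exists_regular_mem hd K hK
  refine (hreg.pow n) ?_
  show a ^ n • x = a ^ n • 0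
  rw [hx _ (Ideal.pow_mem_pow ha n), smul_zero]

theorem injective_toDT (hd : ∀ p ∈ T, 1 ≤ depthAt p M) (K : Ideal A)
    (hK : PrimeSpectrum.zeroLocus (K : Set A) ⊆ T) : Function.Injective (LocCoh.toDT K M) :=
  (injective_iff_map_eq_zero _).2 fun x hx => by
    obtain ⟨n, hn⟩ := (toDT_eq_zero_iff x).1 hx
    exact torsion_eq_zero hd K hK hn

theorem isSMulRegular_DT (K : Ideal A) (hinj : Function.Injective (LocCoh.toDT K M)) {a : A}
    (ha : IsSMulRegular M a) : IsSMulRegular (LocCoh.DT K M) a := by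
  refine isSMulRegular_iff_right_eq_zero_of_smul.2 fun z hz => ?_
  obtain ⟨n, hn⟩ := exists_smul_mem_range z
  refine eq_of_smul_eq (IsNoetherian.noetherian K) n fun c hc => ?_
  obtain ⟨x, hx⟩ := hn c hc
  have hax : a • x = 0 := hinj (by rw [map_smul, hx, smul_comm, hz, smul_zero, map_zero])
  rw [← hx, isSMulRegular_iff_right_eq_zero_of_smul.1 ha x hax, map_zero, smul_zero]

/-- Killing of the cohomology with supports in `T` kills all ideal transforms inside `T`. -/
theorem smul_mem_range_toDT (hd : ∀ p ∈ T, 1 ≤ depthAt p M) (S : InjRep (Dual.inD A M)) (hS : S.a = 0) {a : A}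
    (ha : KillT S.E a T (1 : ℤ)) (K : Ideal A) (hK : PrimeSpectrum.zeroLocus (K : Set A) ⊆ T)
    (z : LocCoh.DT K M) : ∃ w, LocCoh.toDT K M w = a • z := by
  have h0 : ∀ y ∈ gamma T (S.E.X ((1 : ℤ) - 1)), S.E.d ((1 : ℤ) - 1) 1 y = 0 → y = 0 := by
    show ∀ y ∈ gamma T (S.E.X (0 : ℤ)), S.E.d 0 1 y = 0 → y = 0
    intro y hy hdy
    let D : Ideal A := annElt (A := A) y
    have hD : PrimeSpectrum.zeroLocus (D : Set A) ⊆ T := zeroLocus_annElt_subset hy
    have hyD : y ∈ gamma (PrimeSpectrum.zeroLocus (D : Set A)) (S.E.X (0 : ℤ)) :=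
      mem_gamma_of_smul D subset_rfl fun c hc => mem_annElt.1 hc
    haveI : Subsingleton (HYT S.E (PrimeSpectrum.zeroLocus (D : Set A)) ((0 : ℕ) : ℤ)) := by
      haveI : Subsingleton (DRing.torsionSub D M) := ⟨fun u v => Subtype.ext (by
        obtain ⟨n, hn⟩ := u.2
        obtain ⟨m, hm⟩ := v.2
        rw [torsion_eq_zero hd D hD hn, torsion_eq_zero hd D hD hm])⟩
      haveI : Subsingleton (LocCoh.H D 0 M) := (LocCohLib.h0Equiv D (ModuleCat.of A M)).injective.subsingleton
      exact (eH S D 0).symm.injective.subsingleton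
    have h := Subsingleton.elim (Submodule.Quotient.mk ⟨y, hyD, hdy⟩ :
      HYT S.E (PrimeSpectrum.zeroLocus (D : Set A)) ((0 : ℕ) : ℤ)) 0
    rw [Submodule.Quotient.mk_eq_zero] at h
    obtain ⟨w, -, hw⟩ := h
    haveI : Subsingleton (S.E.X ((0 : ℤ) - 1)) := ModuleCat.subsingleton_of_isZero (S.vanishes _ (by omega))
    exact hw.symm.trans (by rw [Subsingleton.elim w 0, map_zero])
  obtain ⟨e⟩ := nonempty_coker_equiv K M
  let φ : (LocCoh.DT K M ⧸ LinearMap.range (LocCoh.toDT K M)) ≃ₗ[A] HYT S.E (PrimeSpectrum.zeroLocus (K : Set A)) 1 :=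
    e ≪≫ₗ eH S K 1
  have hinj : Function.Injective (inclT (Y := S.E) (i := (1 : ℤ)) hK) := by
    rw [injective_iff_map_eq_zero]
    intro x hx
    obtain ⟨⟨y, hy, hdy⟩, rfl⟩ := Submodule.Quotient.mk_surjective _ x
    rw [inclT_mk, Submodule.Quotient.mk_eq_zero] at hx
    obtain ⟨w, hw, hwy⟩ := hx
    obtain ⟨n, hn⟩ := (mem_torsionSub_iff_gamma K y).2 hy
    rw [Submodule.Quotient.mk_eq_zero]
    refine ⟨w, (mem_torsionSub_iff_gamma K w).1 ⟨n, fun c hc => h0 _ (Submodule.smul_mem _ c hw) ?_⟩, hwy⟩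
    rw [map_smul]
    exact (congrArg (c • ·) hwy).trans (hn c hc)
  have h : (Submodule.Quotient.mk (a • z) : LocCoh.DT K M ⧸ LinearMap.range (LocCoh.toDT K M)) = 0 := by
    rw [Submodule.Quotient.mk_smul]
    apply φ.injective
    rw [map_smul, map_zero]
    apply hinj
    rw [map_smul, map_zero]
    exact (killT_iff a).1 ha _
  exact (Submodule.Quotient.mk_eq_zero _).1 h

/-- Let A be a Noetherian ring with a dualizing complex, T' ⊆ Spec A stable under specialization, and M
a finite A-module such that depth(M_p) ≥ 1 whenever q covers p in Spec A with q in T' and p outside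
T'. Then there are a finite A-module M'' and a map M → M'' which is bijective after localizing at
every prime outside T' and such that M''_p has depth ≥ 2 for every p in T'. (The source: coherent
modules on a Noetherian scheme locally having a dualizing complex, with uniqueness and a pullback
clause.) -/
theorem result (A : Type u) [CommRing A] [IsNoetherianRing A] (hA : ∃ ω : Dual.D A, Dual.IsDualizing A ω) (T' : Set (PrimeSpectrum A)) (hT : StableUnderSpecialization T') (M : Type u) [AddCommGroup M] [Module A M] [Module.Finite A M] (hM : ∀ p q : PrimeSpectrum A, p ⋖ q → q ∈ T' → p ∉ T' → 1 ≤ LocCoh.depth (Localization.AtPrime p.asIdeal) (LocalizedModule p.asIdeal.primeCompl M)) : ∃ (M'' : Type u) (_ : AddCommGroup M'') (_ : Module A M'') (_ : Module.Finite A M'') (f : M →ₗ[A] M''), (∀ p : PrimeSpectrum A, p ∉ T' → Function.Bijective (LocalizedModule.map p.asIdeal.primeCompl f)) ∧ ∀ p : PrimeSpectrum A, p ∈ T' → 2 ≤ LocCoh.depth (Localization.AtPrime p.asIdeal) (LocalizedModule p.asIdeal.primeCompl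 M'') := by
  classical
  obtain ⟨M', _, _, _, f, -, hfb, hd⟩ := S1737.result A T' hT M
  obtain ⟨S, hS⟩ := exists_injRep_eq (Dual.inD A M') 0
  -- the criterion for `M'`
  have hcrit : ∀ p q : PrimeSpectrum A, p ∉ T' → q ∈ T' → p ≤ q → ((1 : ℕ) : WithBot ℕ∞) <
      ((LocCoh.depth (Localization.AtPrime p.asIdeal) (LocalizedModule p.asIdeal.primeCompl M') : ℕ∞) : WithBot ℕ∞) +
        Order.krullDim (Set.Icc p q) := by
    intro p q hp hq hpq
    have hlt : p < q := lt_of_le_of_ne hpq fun h => hp (h ▸ hq)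
    have h1 : ((1 : ℕ) : WithBot ℕ∞) ≤ Order.krullDim (Set.Icc p q) :=
      Order.le_krullDim_iff.2 ⟨(RelSeries.singleton _ (⟨p, le_rfl, hpq⟩ : Set.Icc p q)).snoc ⟨q, hpq, le_rfl⟩
        (show (⟨p, le_rfl, hpq⟩ : Set.Icc p q) < ⟨q, hpq, le_rfl⟩ from hlt), rfl⟩
    by_cases hcov : p ⋖ q
    · have hdp : (1 : ℕ∞) ≤ LocCoh.depth (Localization.AtPrime p.asIdeal) (LocalizedModule p.asIdeal.primeCompl M') := by
        rw [← CAlgBasics.depth_congr (LinearEquiv.ofBijective _ (hfb p hp))]
        exact hM p q hcov hq hp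
      refine lt_of_lt_of_le ?_ (add_le_add (WithBot.coe_le_coe.2 hdp) h1)
      exact_mod_cast (show (1 : ℕ) < 1 + 1 by omega)
    · obtain ⟨r, hpr, hrq⟩ := exists_lt_lt_of_not_covBy hlt hcov
      have h2 : ((2 : ℕ) : WithBot ℕ∞) ≤ Order.krullDim (Set.Icc p q) :=
        Order.le_krullDim_iff.2 ⟨((RelSeries.singleton _ (⟨p, le_rfl, hpq⟩ : Set.Icc p q)).snoc ⟨r, hpr.le, hrq.le⟩
          (show (⟨p, le_rfl, hpq⟩ : Set.Icc p q) < ⟨r, hpr.le, hrq.le⟩ from hpr)).snoc ⟨q, hpq, le_rfl⟩
          (by simpa [SetRel] using hrq), rfl⟩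
      refine lt_of_lt_of_le ?_ (add_le_add (WithBot.coe_le_coe.2 (zero_le (a := LocCoh.depth (Localization.AtPrime p.asIdeal) (LocalizedModule p.asIdeal.primeCompl M')))) h2)
      exact lt_of_lt_of_le (show ((1 : ℕ) : WithBot ℕ∞) < ((2 : ℕ) : WithBot ℕ∞) by exact_mod_cast (show 1 < 2 by omega)) (le_add_of_nonneg_left le_rfl)
  obtain ⟨J, hJT, hkill⟩ := (annihilator_module T' hA hT hT 1 M' S hS).2 hcrit
  have hkr : ∀ a ∈ J, ∀ (K : Ideal A), PrimeSpectrum.zeroLocus (K : Set A) ⊆ T' → ∀ z : LocCoh.DT K M',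
      ∃ w, LocCoh.toDT K M' w = a • z := fun a ha K hK z =>
    smul_mem_range_toDT hd S hS (hkill 1 le_rfl a ha) K hK z
  let N := LocCoh.DT J M'
  let ι : M' →ₗ[A] N := LocCoh.toDT J M'
  have hιinj : Function.Injective ι := injective_toDT hd J hJT
  obtain ⟨a₀, ha₀, ha₀r⟩ := exists_regular_mem hd J hJT
  haveI : Module.Finite A N := by
    let g : N →ₗ[A] N := LinearMap.lsmul A N a₀
    have hg : Function.Injective g := isSMulRegular_DT J hιinj ha₀r
    have hr : ∀ z, g z ∈ LinearMap.range ι := fun z => hkr a₀ ha₀ J hJT z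
    haveI : Module.Finite A (LinearMap.range ι) := Module.Finite.range ι
    exact Module.Finite.of_injective (g.codRestrict (LinearMap.range ι) hr) fun x y h => hg (congrArg Subtype.val h)
  refine ⟨N, inferInstance, inferInstance, inferInstance, ι ∘ₗ f, fun p hp => ?_, fun p hp => ?_⟩
  · obtain ⟨c, hcJ, hcp⟩ := SetLike.not_le_iff_exists.1 fun hle : J ≤ p.asIdeal =>
      hp (hJT ((PrimeSpectrum.mem_zeroLocus _ _).2 hle))
    have hb : Function.Bijective (LocalizedModule.map p.asIdeal.primeCompl ι) :=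
      bijective_map_of_killed ι p.asIdeal (fun x hx => ⟨c, hcp, by rw [hιinj (hx.trans (map_zero ι).symm), smul_zero]⟩)
        fun y => ⟨c, hcp, hkr c hcJ J hJT y⟩
    refine bijective_map_of_killed _ p.asIdeal (fun x hx => ?_) fun y => ?_
    · have hx' : f x = 0 := hιinj (hx.trans (map_zero ι).symm)
      have h0 := (hfb p hp).1 (a₁ := LocalizedModule.mk x 1) (a₂ := 0) (by
        rw [LocalizedModule.map_mk, hx', LocalizedModule.zero_mk, map_zero])
      rw [← LocalizedModule.zero_mk 1, LocalizedModule.mk_eq] at h0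
      obtain ⟨s, hs⟩ := h0
      exact ⟨s, s.2, by simpa [Submonoid.smul_def] using hs⟩
    · obtain ⟨w, hw⟩ := hkr c hcJ J hJT y
      obtain ⟨v, hv⟩ := (hfb p hp).2 (LocalizedModule.mk w 1)
      induction v using LocalizedModule.induction_on with
      | h m s =>
        rw [LocalizedModule.map_mk, LocalizedModule.mk_eq] at hv
        obtain ⟨t, ht⟩ := hv
        simp only [Submonoid.smul_def, OneMemClass.coe_one, one_smul] at ht
        refine ⟨(t : A) * s * c, p.2.mul_notMem (p.2.mul_notMem t.2 s.2) hcp, (t : A) • m, ?_⟩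
        rw [LinearMap.comp_apply, map_smul, ht, map_smul, map_smul, show ι w = c • y from hw, smul_smul, smul_smul]
  -- depth two on `T'`
  have hKp : PrimeSpectrum.zeroLocus (p.asIdeal : Set A) ⊆ T' := fun r hr =>
    hT ((PrimeSpectrum.le_iff_specializes p r).1 ((PrimeSpectrum.mem_zeroLocus _ _).1 hr)) hp
  obtain ⟨x, hxp, hxr⟩ := exists_regular_mem hd p.asIdeal hKp
  have hxN : IsSMulRegular N x := isSMulRegular_DT J hιinj hxr
  -- the key property of `N`
  have key : ∀ y : N, (∀ c ∈ p.asIdeal, ∃ m : N, c • y = x • m) → ∃ t ∉ p.asIdeal, ∃ m : N, t • y = x • m := by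
    intro y hy
    by_cases hJp : J ≤ p.asIdeal
    · let g : N →ₗ[A] N := LinearMap.lsmul A N x
      have hg : Function.Injective g := hxN
      have hmem : ∀ c : ↥(J ^ 1), (c : A) • y ∈ LinearMap.range g := fun c => by
        obtain ⟨m, hm⟩ := hy _ (hJp (by simpa using c.2))
        exact ⟨m, hm.symm⟩
      let φ : ↥(J ^ 1) →ₗ[A] N := (LinearEquiv.ofInjective g hg).symm.toLinearMap ∘ₗ
        (LinearMap.toSpanSingleton A N y ∘ₗ (J ^ 1).subtype).codRestrict _ hmem
      have hφ : ∀ c, x • φ c = (c : A) • y := fun c =>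
        congrArg Subtype.val ((LinearEquiv.ofInjective g hg).apply_symm_apply _)
      obtain ⟨z, hz⟩ := (bijective_toDT_DT J M').2 (dι J N 1 φ)
      refine ⟨1, (Ideal.ne_top_iff_one _).1 p.2.ne_top, z, ?_⟩
      rw [one_smul]
      refine eq_of_smul_eq (IsNoetherian.noetherian J) 1 fun c hc => ?_
      have hcz : c • z = φ ⟨c, hc⟩ := (bijective_toDT_DT J M').1 (by rw [map_smul, hz, smul_dι hc])
      rw [smul_comm c x z, hcz, hφ]
    · obtain ⟨b, hbJ, hbp⟩ := SetLike.not_le_iff_exists.1 hJp
      obtain ⟨y', hy'⟩ := hkr b hbJ J hJT y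
      let g : M' →ₗ[A] M' := LinearMap.lsmul A M' x
      have hg : Function.Injective g := hxr
      have hmem : ∀ c : ↥(p.asIdeal ^ 1), (c : A) • (b • y') ∈ LinearMap.range g := fun c => by
        obtain ⟨m, hm⟩ := hy _ (by simpa using c.2 : (c : A) ∈ p.asIdeal)
        obtain ⟨m', hm'⟩ := hkr b hbJ J hJT m
        refine ⟨b • m', hιinj ?_⟩
        show ι (x • b • m') = ι ((c : A) • b • y')
        rw [map_smul, map_smul, map_smul, map_smul, show ι m' = b • m from hm', show ι y' = b • y from hy',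
          smul_comm (c : A) b, smul_comm (c : A) b, hm, smul_comm x b, smul_comm x b]
      let φ : ↥(p.asIdeal ^ 1) →ₗ[A] M' := (LinearEquiv.ofInjective g hg).symm.toLinearMap ∘ₗ
        (LinearMap.toSpanSingleton A M' (b • y') ∘ₗ (p.asIdeal ^ 1).subtype).codRestrict _ hmem
      have hφ : ∀ c, x • φ c = (c : A) • (b • y') := fun c =>
        congrArg Subtype.val ((LinearEquiv.ofInjective g hg).apply_symm_apply _)
      obtain ⟨w, hw⟩ := hkr b hbJ p.asIdeal hKp (dι p.asIdeal M' 1 φ)
      have hxw : x • w = b • b • y' := by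
        refine sub_eq_zero.1 (torsion_eq_zero hd p.asIdeal hKp (n := 1) fun c hc => ?_)
        have hcw : c • w = b • φ ⟨c, hc⟩ := injective_toDT hd p.asIdeal hKp (by
          rw [map_smul, hw, map_smul, smul_comm, smul_dι hc])
        rw [smul_sub, smul_comm c x w, hcw, smul_comm x b, hφ]
        show b • c • b • y' - c • b • b • y' = 0
        rw [smul_comm b c, sub_self]
      refine ⟨b * b * b, p.2.mul_notMem (p.2.mul_notMem hbp hbp) hbp, ι w, ?_⟩
      rw [← map_smul, hxw, map_smul, map_smul, show ι y' = b • y from hy', smul_smul, smul_smul]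
  let L := Localization.AtPrime p.asIdeal
  let Np := LocalizedModule p.asIdeal.primeCompl N
  haveI : Module.Finite L Np :=
    Module.Finite.of_isLocalizedModule p.asIdeal.primeCompl (LocalizedModule.mkLinearMap p.asIdeal.primeCompl N)
  have hxL : IsSMulRegular Np (algebraMap A L x) := by
    refine isSMulRegular_iff_right_eq_zero_of_smul.2 fun z hz => ?_
    induction z using LocalizedModule.induction_on with
    | h m s =>
      rw [algebraMap_smul, LocalizedModule.smul'_mk, ← LocalizedModule.zero_mk 1, LocalizedModule.mk_eq] at hz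
      obtain ⟨t, ht⟩ := hz
      simp only [smul_zero, one_smul, Submonoid.smul_def] at ht
      rw [smul_comm] at ht
      rw [← LocalizedModule.zero_mk 1, LocalizedModule.mk_eq]
      exact ⟨t, by simp only [smul_zero, one_smul, Submonoid.smul_def]; exact hxN (ht.trans (smul_zero x).symm)⟩
  have hxm : algebraMap A L x ∈ IsLocalRing.maximalIdeal L := by
    rw [← Localization.AtPrime.map_eq_maximalIdeal]; exact Ideal.mem_map_of_mem _ hxp
  rw [CAlgBasics.two_le_depth_iff]
  refine ⟨fun z hz => hxL (show algebraMap A L x • z = algebraMap A L x • 0 by rw [hz _ hxm, smul_zero]), fun r hr hreg =>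
    CAlgBasics.socleZeroMod_of_socleZeroMod hreg hxL hxm ?_⟩
  intro z hz
  induction z using LocalizedModule.induction_on with
  | h y s =>
    let P : Submodule A N := LinearMap.range (LinearMap.lsmul A N x)
    obtain ⟨t, htp, hty⟩ := exists_common_den P p.asIdeal p.asIdeal y fun c hc => by
      obtain ⟨w, hw⟩ := hz (algebraMap A L c) (by
        rw [← Localization.AtPrime.map_eq_maximalIdeal]; exact Ideal.mem_map_of_mem _ hc)
      induction w using LocalizedModule.induction_on with
      | h m s' =>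
        rw [algebraMap_smul, algebraMap_smul, LocalizedModule.smul'_mk, LocalizedModule.smul'_mk,
          LocalizedModule.mk_eq] at hw
        obtain ⟨t, ht⟩ := hw
        simp only [Submonoid.smul_def] at ht
        refine ⟨(t : A) * s', p.2.mul_notMem t.2 s'.2, (t : A) • (s : A) • m, ?_⟩
        show x • (t : A) • (s : A) • m = ((t : A) * s') • c • y
        rw [mul_smul, ht, smul_comm x (t : A), smul_comm x (s : A)]
    obtain ⟨t', ht', m, hm⟩ := key (t • y) fun c hc => by
      obtain ⟨m, hm⟩ := hty c hc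
      exact ⟨m, hm.symm⟩
    refine ⟨LocalizedModule.mk m (⟨t', ht'⟩ * ⟨t, htp⟩ * s), ?_⟩
    rw [algebraMap_smul, LocalizedModule.smul'_mk, LocalizedModule.mk_eq]
    refine ⟨1, ?_⟩
    simp only [one_smul, Submonoid.smul_def, Submonoid.coe_mul]
    rw [← hm, smul_smul, smul_smul]
    congr 1
    ring

end Groth.Agent.S1738
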