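import Groth.Statements.S17380
import Groth.Agent.NumBddLib.Ample
import Groth.Agent.S17373
import Groth.Agent.VanGrowLib.Freq

set_option autoImplicit false
universe u
open CategoryTheory CategoryTheory.Limits AlgebraicGeometry
open scoped ENNReal
open Variety

namespace Groth.Agent.S17380

open CategoryTheory CategoryTheory.Limits AlgebraicGeometry


open Groth.Agent Groth.Agent.AmpleLib
set_option backward.isDefEq.respectTransparency false
set_option linter.style.haveILetI false

/-- Let X be a geometrically integral scheme of dimension d, proper over a field k and admitting an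
ample invertible module, and L an invertible module on X which is big, i.e. the lower limit of dim_k
H^0(X, L^m)/m^d as m → ∞ is positive. Then some power L^a, a > 0, is such that H^0(X, L^(aj) ⊗ N) ≠
0 for every j > 0 and every numerically trivial invertible module N (degree zero on every integral
closed one-dimensional subscheme); in other words every invertible module numerically equivalent to
L^(aj) comes from an effective divisor. (The published statement asserts this for all sufficiently
large powers of L; its printed reduction to an ample module yields one power a and its multiples,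
which is what is stated.) -/
theorem result (k : Type u) [Field k] (X : Scheme.{u})
    [X.Over (Spec (CommRingCat.of k))] [IsIntegral X] [GeometricallyIntegral (X ↘ Spec (CommRingCat.of k))]
    [IsProper (X ↘ Spec (CommRingCat.of k))] (hproj : ∃ A : X.Modules, CohB1.IsAmple A)
    (d : ℕ) (hd : topologicalKrullDim X = d) (L : X.Modules) (hL : PicF.IsInvertible L)
    (hbig : 0 < Filter.liminf (fun m : ℕ => (Module.finrank k (Coh.HH X (CohB1.tensorPow L m) 0) : ℝ≥0∞) /
        (m : ℝ≥0∞) ^ d) Filter.atTop) :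
    ∃ a : ℕ, 0 < a ∧ ∀ j : ℕ, 0 < j → ∀ N : X.Modules, PicF.IsInvertible N → Pic13.IsNumEquivZero k X N →
      0 < Module.finrank k (Coh.HH X (CohB1.tensorMod (CohB1.tensorPow L (a * j)) N) 0) := by
  haveI := EulerIneqLib.isNoetherian_proper (X := X) k
  obtain ⟨H, hH⟩ := hproj
  have h : 0 < Filter.limsup (fun m : ℕ => (Module.finrank k (Coh.HH X (CohB1.tensorPow L m) 0) : ℝ≥0∞) /
      (m : ℝ≥0∞) ^ d) Filter.atTop :=
    lt_of_lt_of_le hbig (Filter.liminf_le_limsup (by isBoundedDefault) (by isBoundedDefault))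
  obtain ⟨b, hb, hb'⟩ := exists_between h
  have hbt : b ≠ ⊤ := ne_top_of_lt hb'
  obtain ⟨ν, A, φ, hν, hA, hφ⟩ := VanGrow.exists_mono_of_freq k hd hH hL
    (c := b.toReal) (ENNReal.toReal_pos hb.ne' hbt)
    ((Filter.frequently_lt_of_lt_limsup (by isBoundedDefault) hb').mono fun m hm => by
      have h1 := (ENNReal.toReal_le_toReal (ENNReal.mul_ne_top hbt (ENNReal.pow_ne_top (ENNReal.natCast_ne_top m)))
        (ENNReal.natCast_ne_top _)).2 ((ENNReal.mul_lt_of_lt_div hm).le)
      simpa using h1)
  obtain ⟨A', hA', ⟨ι⟩⟩ := AmpleEmb.exists_isInverseOf hA.1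
  have hLν := isInvertible_tensorPow hL ν
  have hE : PicF.IsInvertible (CohB1.tensorMod (CohB1.tensorPow L ν) A') := isInvertible_tensor hLν hA'
  haveI := hφ
  have hEh : VolLib.h k (CohB1.tensorMod (CohB1.tensorPow L ν) A') ≠ 0 := fun h0 => by
    refine VanGrow.h_unit_ne_zero k (X := X) (Nat.eq_zero_of_le_zero ?_)
    haveI := CurveLib.mono_tmap φ (CurveLib.freeAt_one_of_isInvertible hA')
    have h1 : VolLib.h k (CohB1.tensorMod A A') ≤ VolLib.h k (CohB1.tensorMod (CohB1.tensorPow L ν) A') :=
      VanGrow.h_mono k (CurveLib.tmap φ A') (CurveLib.isCoh_of_isInvertible hE)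
    rw [h0] at h1
    exact (VolLib.h_congr k ι).ge.trans h1
  obtain ⟨m₀, hm₀⟩ := S17373.result k X A hA
  refine ⟨ν * (m₀ + 1), Nat.mul_pos hν m₀.succ_pos, fun j hj N hN hn => ?_⟩
  obtain ⟨h1, h2⟩ := hm₀ ((m₀ + 1) * j) (by nlinarith) N hN hn
  obtain ⟨s, hs⟩ : ∃ s, (m₀ + 1) * j = s + 1 :=
    ⟨(m₀ + 1) * j - 1, (Nat.succ_pred_eq_of_pos (Nat.mul_pos m₀.succ_pos hj)).symm⟩
  rw [← h1] at h2
  refine lt_of_lt_of_le h2 ?_
  refine (VolLib.h_le_tensor k (isInvertible_tensor (isInvertible_tensorPow hA.1 _) hN)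
    (isInvertible_tensorPow hE ((m₀ + 1) * j)) (hs ▸ VolLib.h_pow_ne_zero k hE hEh s)).trans_eq (VolLib.h_congr k ?_)
  exact tIso (comm _ N) (Iso.refl _) ≪≫ AmpleLib.assoc N _ _ ≪≫ comm N _ ≪≫ tIso ((powTensor _ _ _).symm ≪≫
    powCongr (comm _ _ ≪≫ AmpleLib.assoc _ _ _ ≪≫ tIso (Iso.refl _) (comm A' A ≪≫ ι) ≪≫ unitR _) _ ≪≫
    powMul L ν _ ≪≫ eqToIso (congrArg (CohB1.tensorPow L) (Nat.mul_assoc ν (m₀ + 1) j).symm)) (Iso.refl N)

end Groth.Agent.S17380
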