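import Groth.Statements.S17385
import Groth.Agent.BlowCompLib.Strict
-- import your own Groth.Agent.* helpers here

set_option autoImplicit false
universe u
open BlowUp

namespace Groth.Agent.S17385

open AlgebraicGeometry CategoryTheory Limits TopologicalSpace in
/-- Let X be any scheme, I and J quasi-coherent ideals on X, b : X' → X a blowing up of X in I, Z ⊆ X
the closed subscheme of J, b' : Z' → Z a blowing up of Z in the inverse image ideal I·O_Z, and k :
Z' → X' the morphism with k ≫ b = b' ≫ (Z → X) (it exists and is unique by the universal property).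
Then k is a closed immersion (its image is the strict transform of Z); writing U for the open
complement of the support of I and W ⊆ Z' for the preimage of U, the restriction W → X' of k is an
affine morphism, and its scheme-theoretic image is the whole image of k: the kernel ideal sheaf of W
→ X' equals that of k. No Noetherian or finite-type hypothesis is needed. -/
theorem result
    {X X' Z' : Scheme.{u}} (𝓘 𝓙 : X.IdealSheafData) (b : X' ⟶ X) (hb : BlowUp.IsBlowUp b 𝓘)
    (b' : Z' ⟶ 𝓙.subscheme) (hb' : BlowUp.IsBlowUp b' (𝓘.comap 𝓙.subschemeι))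
    (k : Z' ⟶ X') (hk : k ≫ b = b' ≫ 𝓙.subschemeι) :
    IsClosedImmersion k ∧
      IsAffineHom ((k ⁻¹ᵁ (b ⁻¹ᵁ 𝓘.support.compl)).ι ≫ k) ∧
      ((k ⁻¹ᵁ (b ⁻¹ᵁ 𝓘.support.compl)).ι ≫ k).ker = k.ker := by
  haveI : IsClosedImmersion k := BlowCompLib.isClosedImmersion_blowUp_map 𝓘 𝓙.subschemeι b hb b' hb' k hk
  have e : (k ⁻¹ᵁ (b ⁻¹ᵁ 𝓘.support.compl) : Z'.Opens) = ((𝓘.comap 𝓙.subschemeι).comap b').support.compl := by
    rw [← Scheme.IdealSheafData.comap_comp, ← hk]
    ext z
    show b (k z) ∉ 𝓘.support ↔ z ∉ (𝓘.comap (k ≫ b)).support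
    rw [Scheme.IdealSheafData.support_comap]
    rfl
  rw [e]
  obtain ⟨haff, hdom⟩ := S1571.result Z' _ hb'.1
  haveI := haff
  haveI := hdom
  refine ⟨inferInstance, inferInstance, ?_⟩
  rw [Scheme.Hom.ker_comp, Scheme.Hom.ker_eq_bot, Scheme.IdealSheafData.map_bot]

end Groth.Agent.S17385
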