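import Groth.Statements.S17386
import Groth.Agent.BlowCompLib.Flat
-- import your own Groth.Agent.* helpers here

set_option autoImplicit false
universe u
open BlowUp

namespace Groth.Agent.S17386

open AlgebraicGeometry CategoryTheory Limits in
/-- Let X be any scheme, J_1, …, J_n quasi-coherent ideals on X with closed subschemes Y_i, and b : X' →
X a blowing up of X in the ideal J_1 + ⋯ + J_n of the intersection of the Y_i. For each i let b_i' :
Y_i' → Y_i be a blowing up of Y_i in the inverse image of J_1 + ⋯ + J_n and k_i : Y_i' → X' the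
morphism with k_i ≫ b = b_i' ≫ (Y_i → X), so that the image of k_i is the strict transform of Y_i.
Then the strict transforms have empty common intersection: no point of X' lies in the image of every
k_i. -/
theorem result
    {X X' : Scheme.{u}} {n : ℕ} (𝓙 : Fin n → X.IdealSheafData) (b : X' ⟶ X)
    (hb : BlowUp.IsBlowUp b (⨆ i, 𝓙 i))
    (Y' : Fin n → Scheme.{u}) (b' : ∀ i, Y' i ⟶ (𝓙 i).subscheme)
    (hb' : ∀ i, BlowUp.IsBlowUp (b' i) ((⨆ j, 𝓙 j).comap (𝓙 i).subschemeι))
    (k : ∀ i, Y' i ⟶ X') (hk : ∀ i, k i ≫ b = b' i ≫ (𝓙 i).subschemeι) :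
    (⋂ i, Set.range (fun y => k i y)) = (∅ : Set X') := by
  classical
  refine Set.eq_empty_iff_forall_notMem.2 fun x hx => ?_
  rw [Set.mem_iInter] at hx
  choose y hy using hx
  obtain ⟨V, hxV, a, ha, hI⟩ := hb.1 x
  have hsum : ((⨆ i, 𝓙 i).comap b).ideal V = ⨆ i, ((𝓙 i).comap b).ideal V := by
    rw [show (⨆ i, 𝓙 i).comap b = ⨆ i, (𝓙 i).comap b from
      (Scheme.IdealSheafData.map_gc b).l_iSup, Scheme.IdealSheafData.ideal_iSup, iSup_apply]
  have hmem : a ∈ ⨆ i, ((𝓙 i).comap b).ideal V := by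
    rw [← hsum, hI]; exact Ideal.mem_span_singleton_self a
  obtain ⟨μ, hμ, hμa⟩ := (Submodule.mem_iSup_iff_exists_finsupp _ _).1 hmem
  have hdiv : ∀ i, ∃ r, r * a = μ i := fun i => Ideal.mem_span_singleton'.1
    (hI ▸ hsum ▸ (le_iSup (fun i => ((𝓙 i).comap b).ideal V) i) (hμ i))
  choose r hr using hdiv
  have hone : ∑ i, r i = 1 := by
    refine (mul_cancel_right_mem_nonZeroDivisors ha).1 ?_
    rw [Finset.sum_mul, one_mul]
    simp only [hr]
    rw [← hμa, Finsupp.sum_fintype _ _ (fun i => rfl)]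
  let γ : Γ(X', V.1) →+* X'.presheaf.stalk x := (X'.presheaf.germ V.1 x hxV).hom
  have hvanish : ∀ i, γ (r i) ∈ IsLocalRing.maximalIdeal (X'.presheaf.stalk x) := by
    intro i
    have hky : k i (y i) = x := hy i
    have hex : ((⨆ j, 𝓙 j).comap (𝓙 i).subschemeι).comap (b' i) = ((⨆ j, 𝓙 j).comap b).comap (k i) := by
      rw [← Scheme.IdealSheafData.comap_comp, ← Scheme.IdealSheafData.comap_comp, hk i]
    obtain ⟨W₀, hyW₀, t, ht, hIt⟩ := (hb' i).1 (y i)
    obtain ⟨s, hsle, hys⟩ := W₀.2.exists_basicOpen_le (V := W₀.1 ⊓ k i ⁻¹ᵁ V.1)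
      ⟨y i, hyW₀, show k i (y i) ∈ V.1 from hky ▸ hxV⟩ hyW₀
    let W := (Y' i).affineBasicOpen (U := W₀) s
    obtain ⟨t', ht', hIt'⟩ : ∃ g : Γ(Y' i, W.1), g ∈ nonZeroDivisors Γ(Y' i, W.1) ∧
        (((⨆ j, 𝓙 j).comap (𝓙 i).subschemeι).comap (b' i)).ideal W = Ideal.span {g} :=
      RelDivLib.generator_res _ W₀ s ht hIt
    let θ := ((k i).appLE V.1 W.1 (hsle.trans inf_le_right)).hom
    have hθ : ∀ 𝓚 : X'.IdealSheafData, ∀ z ∈ 𝓚.ideal V, θ z ∈ (𝓚.comap (k i)).ideal W := fun 𝓚 z hz => by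
      rw [IdealStalkLib.comap_ideal 𝓚 (k i) V.2 W.2 (hsle.trans inf_le_right)]
      exact Ideal.mem_map_of_mem _ hz
    have hspan : Ideal.span {θ a} = Ideal.span {t'} := by
      rw [← hIt', hex, BlowCompLib.ideal_comap_span _ (k i) hI W (hsle.trans inf_le_right)]
    have hθa : θ a ∈ nonZeroDivisors Γ(Y' i, W.1) := by
      obtain ⟨c, hc⟩ := Ideal.mem_span_singleton'.1 (hspan.ge (Ideal.mem_span_singleton_self t'))
      obtain ⟨d, hd⟩ := Ideal.mem_span_singleton'.1 (hspan.le (Ideal.mem_span_singleton_self (θ a)))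
      have hcd : c * d = 1 := (mul_cancel_right_mem_nonZeroDivisors ht').1 (by rw [one_mul, mul_assoc, hd, hc])
      rw [← hd]
      exact mul_mem (IsUnit.of_mul_eq_one c (by rw [mul_comm, hcd])).mem_nonZeroDivisors ht'
    have hzero : (((𝓙 i).comap b).comap (k i)) = ⊥ := by
      rw [← Scheme.IdealSheafData.comap_comp, hk i, Scheme.IdealSheafData.comap_comp,
        show (𝓙 i).comap (𝓙 i).subschemeι = ⊥ from le_bot_iff.1
          (Scheme.IdealSheafData.le_map_iff_comap_le.1 (by rw [Scheme.IdealSheafData.map_bot, Scheme.IdealSheafData.ker_subschemeι])),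
        Scheme.IdealSheafData.comap_bot]
    have hθr : θ (r i) = 0 := by
      refine (mul_cancel_right_mem_nonZeroDivisors hθa).1 ?_
      rw [zero_mul, ← map_mul, hr]
      have h0 := hθ _ _ (hμ i)
      rw [hzero, Scheme.IdealSheafData.ideal_bot] at h0
      exact h0
    subst hky
    rw [IsLocalRing.mem_maximalIdeal, mem_nonunits_iff]
    intro hu
    have h1 : (Y' i).presheaf.germ W.1 (y i) hys (θ (r i)) = (k i).stalkMap (y i) (γ (r i)) := by
      simp [θ, γ, Scheme.Hom.appLE]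
    rw [hθr, map_zero] at h1
    exact not_isUnit_zero (h1 ▸ hu.map ((k i).stalkMap (y i)).hom)
  have h1 : (1 : X'.presheaf.stalk x) ∈ IsLocalRing.maximalIdeal (X'.presheaf.stalk x) := by
    rw [← map_one γ, ← hone, map_sum]
    exact Ideal.sum_mem _ fun i _ => hvanish i
  exact (IsLocalRing.maximalIdeal.isMaximal _).ne_top ((Ideal.eq_top_iff_one _).2 h1)

end Groth.Agent.S17386
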