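import Groth.Statements.S1739
import Groth.Agent.UnivExtLib.BoundedTor

set_option autoImplicit false
set_option backward.isDefEq.respectTransparency false
set_option linter.style.haveILetI false
universe u
open CategoryTheory
attribute [local instance] HasDerivedCategory.standard
open LocCoh

namespace Groth.Agent.S1739

/-- Let A be a Noetherian ring and I an ideal generated by at most t elements. There is an integer c ≥ 0
such that for every A-module M, every i > t and every q ≥ 0, the module Tor_i^A(M, A/I^q) is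
annihilated by I^c. -/
theorem result (A : Type u) [CommRing A] [IsNoetherianRing A] (I : Ideal A) (t : ℕ) (s : Finset A) (hs : I = Ideal.span (s : Set A)) (ht : s.card ≤ t) : ∃ c : ℕ, ∀ (M : Type u) [AddCommGroup M] [Module A M] (i q : ℕ), t < i → ∀ a ∈ I ^ c, ∀ x : DRing.Tor A i M (A ⧸ I ^ q), a • x = 0 := by
  obtain ⟨c, hc⟩ := Groth.Agent.UnivExtLib.exists_shift_tor_map_eq_zero I s hs
  refine ⟨c, fun M _ _ i q hi a ha x => ?_⟩
  let X := ModuleCat.of A M
  let N := ModuleCat.of A (A ⧸ I ^ q)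
  let T := ((Tor (ModuleCat.{u} A) i).obj X)
  let mu : N ⟶ ModuleCat.of A (A ⧸ I ^ (q + c)) := ModuleCat.ofHom (Submodule.mapQ (I ^ q) (I ^ (q + c))
    (LinearMap.lsmul A A a) fun z hz => by
      show a * z ∈ I ^ (q + c)
      rw [add_comm, pow_add]
      exact Ideal.mul_mem_mul ha hz)
  have hfac : mu ≫ Groth.Agent.UnivExtLib.projP I (Nat.le_add_right q c) = a • 𝟙 N := ModuleCat.hom_ext (LinearMap.ext fun z => by
    obtain ⟨z, rfl⟩ := Submodule.Quotient.mk_surjective _ z
    rfl)
  let L := projectiveResolution N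
  have hz : T.map (a • 𝟙 N) = 0 := by
    rw [← hfac]
    refine ((T.map_comp _ _).trans (congrArg (T.map mu ≫ ·) (hc q (q + c) _ le_rfl X i (by omega)))).trans Limits.comp_zero
  have comm : (a • 𝟙 L.complex).f 0 ≫ L.π.f 0 = L.π.f 0 ≫ (a • 𝟙 N) :=
    ModuleCat.hom_ext (LinearMap.ext fun z => (L.π.f 0).hom.map_smul a z)
  have hn := Groth.Agent.TorLib.torIso_nat_left (P := L) (Q := L) X (a • 𝟙 N) (a • 𝟙 L.complex) comm i
  rw [show ((Tor (ModuleCat.{u} A) i).obj X).map (a • 𝟙 N) = 0 from hz, Limits.zero_comp] at hn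
  let e := (Groth.Agent.TorLib.torIso L X i).toLinearEquiv
  refine e.injective ((map_smul e a x).trans (Eq.trans ?_ (map_zero e).symm))
  refine Eq.trans ?_ (congr($(hn).hom x)).symm
  obtain ⟨z, hz'⟩ := Groth.Agent.LocCohLib.cls_surjective (Groth.Agent.TorLib.cx L X) i (e x)
  show a • e x = (HomologicalComplex.homologyMap (Groth.Agent.TorLib.cxLeft L L X (a • 𝟙 L.complex)) i).hom (e x)
  rw [← hz', Groth.Agent.LocCohLib.homologyMap_cls, ← map_smul]
  refine congrArg _ (Subtype.ext ?_)
  show a • (z : (Groth.Agent.TorLib.cx L X).X i) = ((a • 𝟙 (L.complex.X i)).hom.lTensor X) z.1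
  rw [ModuleCat.hom_smul, ModuleCat.hom_id, LinearMap.lTensor_smul, LinearMap.lTensor_id]
  rfl

end Groth.Agent.S1739
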