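import Groth.Statements.S17391
import Groth.Agent.BlowAvoidLib.Core
-- import your own Groth.Agent.* helpers here

set_option autoImplicit false
universe u
open BlowUp

namespace Groth.Agent.S17391

open AlgebraicGeometry CategoryTheory Limits in
/-- Let X and Z be schemes, p : Z → X a morphism, U ⊆ V ⊆ X open subschemes, and f : Y → Z a
quasi-compact immersion whose composite with p lands in U. Let I₁ be a quasi-coherent ideal on X
whose support contains V ∖ U and is disjoint from U, and I₂ a quasi-coherent ideal whose support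
lies in supp(I₁) ∖ V. Assume that the closed subscheme p⁻¹(V(I₁²)) ∩ Ȳ of Z, where Ȳ is the
scheme-theoretic image of f, is contained in p⁻¹(V(I₂)) as a closed subscheme: the inverse image
ideal of I₂ on Z lies in the sum of the inverse image ideal of I₁² and the kernel ideal of f. Then
for every blowing up q : X' → X of X in I₁ + I₂, writing Z' = Z ×_X X' → X' and Y' = Y ×_Z Z' → Z'
for the base changes, the closure in Z' of the image of Y' is disjoint from the preimage in Z' of
the closure in X' of q⁻¹(V ∖ U). (The blowing up is an isomorphism over V, since the support of I₁ +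
I₂ is that of I₂ and lies in X ∖ V; the point is that the closure of q⁻¹(V ∖ U) in X', which may
reach over X ∖ V, still misses the closure of Y'.) -/
theorem result
    {X Y Z X' : Scheme.{u}} (p : Z ⟶ X) (U V : X.Opens) (hUV : U ≤ V)
    (f : Y ⟶ Z) [IsImmersion f] [QuasiCompact f] (hY : Set.range (fun y => p (f y)) ⊆ (U : Set X))
    (𝓘₁ 𝓘₂ : X.IdealSheafData)
    (h₁ : (V : Set X) \ (U : Set X) ⊆ (𝓘₁.support : Set X)) (h₁' : Disjoint (𝓘₁.support : Set X) (U : Set X))
    (h₂ : (𝓘₂.support : Set X) ⊆ (𝓘₁.support : Set X) \ (V : Set X))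
    (hincl : 𝓘₂.comap p ≤ (𝓘₁ * 𝓘₁).comap p ⊔ f.ker)
    (q : X' ⟶ X) (hq : BlowUp.IsBlowUp q (𝓘₁ ⊔ 𝓘₂)) :
    Disjoint (closure (Set.range (fun y => (pullback.snd f (pullback.fst p q)) y)))
      ((fun z => (pullback.snd p q) z) ⁻¹'
        closure ((fun x' => q x') ⁻¹' ((V : Set X) \ (U : Set X)))) := by
  let E := (𝓘₁ ⊔ 𝓘₂).comap q
  let A₁ := 𝓘₁.comap q
  let A₂ := 𝓘₂.comap q
  let B := f.ker.comap (pullback.fst p q)
  let π := pullback.snd p q
  refine Set.disjoint_left.2 fun z hz hz' => ?_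
  obtain ⟨Ω, W, g, hg, hI, hW, hzW⟩ := BlowAvoidLib.exists_chart E hq.1 π z
  have hA₁E : A₁ ≤ E := Scheme.IdealSheafData.comap_mono q le_sup_left
  have hA₂E : A₂ ≤ E := Scheme.IdealSheafData.comap_mono q le_sup_right
  have hA : (fun x' => q x') ⁻¹' ((V : Set X) \ (U : Set X)) ⊆ (A₁.support : Set X') := by
    intro s hs
    simp only [A₁, Scheme.IdealSheafData.support_comap]
    exact h₁ hs
  have hE : ∀ s ∈ (fun x' => q x') ⁻¹' ((V : Set X) \ (U : Set X)), s ∉ E.support := by
    intro s hs hsE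
    simp only [E, Scheme.IdealSheafData.support_comap, Scheme.IdealSheafData.support_sup] at hsE
    exact (h₂ hsE.2).2 hs.1
  have hgmem : g ∈ A₁.ideal Ω ⊔ A₂.ideal Ω := by
    have h : g ∈ E.ideal Ω := hI ▸ Ideal.mem_span_singleton_self g
    simp only [E, Scheme.IdealSheafData.comap_sup, Scheme.IdealSheafData.ideal_sup] at h
    exact h
  obtain ⟨a₁, ha₁, a₂, ha₂, hsum⟩ := Submodule.mem_sup.1 hgmem
  obtain ⟨k₁, hk₁⟩ := Ideal.mem_span_singleton'.1 (hI ▸ hA₁E Ω ha₁)
  obtain ⟨k₂, hk₂⟩ := Ideal.mem_span_singleton'.1 (hI ▸ hA₂E Ω ha₂)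
  have hone : k₁ + k₂ = 1 := (mul_cancel_right_mem_nonZeroDivisors hg).1 (by rw [add_mul, hk₁, hk₂, hsum, one_mul])
  have hxU : π z ∈ Ω.1 := hW hzW
  have hk₁' : k₁ ∈ BlowAvoidLib.offIdeal Ω.1 (π z) hxU :=
    BlowAvoidLib.mem_offIdeal_of_closure A₁ E Ω hI (by rw [mul_comm, hk₁]; exact ha₁) hxU _ hz' hA hE
  have hk₂' : π z ∈ X'.basicOpen k₂ := by
    by_contra h
    refine BlowAvoidLib.one_notMem_offIdeal hxU ?_
    rw [← hone]
    exact Ideal.add_mem _ hk₁' (BlowAvoidLib.mem_offIdeal.2 h)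
  let θ := (π.appLE Ω.1 W.1 hW).hom
  let J := BlowAvoidLib.offIdeal W.1 z hzW
  have h4 : A₂.comap π ≤ A₁.comap π * A₁.comap π ⊔ B := by
    have h5 := Scheme.IdealSheafData.comap_mono (pullback.fst p q) hincl
    simp only [Scheme.IdealSheafData.comap_sup] at h5
    rw [← Scheme.IdealSheafData.comap_comp, ← Scheme.IdealSheafData.comap_comp, pullback.condition,
      Scheme.IdealSheafData.comap_comp, Scheme.IdealSheafData.comap_comp, BlowCompLib.comap_mul,
      BlowCompLib.comap_mul] at h5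
    exact h5
  have hmem : θ g * θ k₂ ∈ (A₁.comap π).ideal W * (A₁.comap π).ideal W ⊔ B.ideal W := by
    refine h4 W ?_
    rw [← map_mul, mul_comm, hk₂, IdealStalkLib.comap_ideal A₂ π Ω.2 W.2 hW]
    exact Ideal.mem_map_of_mem _ ha₂
  obtain ⟨a, ha, i, hi, hai⟩ := Submodule.mem_sup.1 hmem
  have hle : (A₁.comap π).ideal W ≤ Ideal.span {θ g} * J :=
    BlowAvoidLib.ideal_comap_le_mul A₁ E hA₁E π Ω W hW hI hzW _ hz' hA hE
  obtain ⟨m, hm, hma⟩ := Ideal.mem_span_singleton_mul.1
    (Ideal.mul_mono le_rfl Ideal.mul_le_left ((Ideal.mul_mono hle (hle.trans Ideal.mul_le_left)).trans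
      (mul_assoc _ _ _).le ha) : a ∈ Ideal.span {θ g} * J)
  refine BlowAvoidLib.notMem_closure E B π Ω W hW hI hzW (c := θ k₂ - m) (fun hc => ?_) ?_ _ ?_ ?_ hz
  · have h : θ k₂ ∈ J := by simpa using Ideal.add_mem _ hc hm
    exact BlowAvoidLib.mem_offIdeal.1 h ((BlowAvoidLib.mem_basicOpen_appLE π hW k₂ hzW).2 hk₂')
  · have he : θ g * (θ k₂ - m) = i := by
      rw [mul_sub, hma]
      exact sub_eq_of_eq_add' hai.symm
    exact he ▸ hi
  · rintro _ ⟨y, rfl⟩
    simp only [B, Scheme.IdealSheafData.support_comap]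
    refine f.range_subset_ker_support ⟨pullback.fst f (pullback.fst p q) y, ?_⟩
    rw [← Scheme.Hom.comp_apply, ← Scheme.Hom.comp_apply, pullback.condition]
  · rintro _ ⟨y, rfl⟩ hsE
    simp only [E, Scheme.IdealSheafData.support_comap, Scheme.IdealSheafData.support_sup] at hsE
    have e1 : ∀ w, q (π w) = p (pullback.fst p q w) := fun w => by
      rw [← Scheme.Hom.comp_apply, ← Scheme.Hom.comp_apply, pullback.condition]
    have e2 : pullback.fst p q (pullback.snd f (pullback.fst p q) y) = f (pullback.fst f (pullback.fst p q) y) := by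
      rw [← Scheme.Hom.comp_apply, ← Scheme.Hom.comp_apply, pullback.condition]
    have hc := (e1 (pullback.snd f (pullback.fst p q) y)).trans (congrArg p e2)
    refine Set.disjoint_left.1 h₁' hsE.1 ?_
    show q _ ∈ U
    rw [hc]
    exact hY ⟨_, rfl⟩

end Groth.Agent.S17391
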