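import Groth.Statements.S17392
import Groth.Agent.BlowAvoidLib.FT
-- import your own Groth.Agent.* helpers here

set_option autoImplicit false
universe u
open BlowUp

namespace Groth.Agent.S17392

open AlgebraicGeometry CategoryTheory Limits in
/-- Let X₁ and X₂ be quasi-compact quasi-separated schemes, q : X₂ → X₁ a quasi-compact separated
morphism, V₁ ⊆ X₁ a quasi-compact open subscheme and U ⊆ q⁻¹(V₁) an open subscheme of X₂ on which q
restricts to an open immersion (so U is identified with an open of V₁). Let Z₁ ⊆ X₁ be a closed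
subset whose open complement is quasi-compact, put Y₁ = Z₁ ∩ V₁, and let Z₂ ⊆ X₂ be a closed subset
whose open complement is also quasi-compact, with q⁻¹(Y₁) ⊆ Z₂. Then there is a quasi-coherent ideal
E of finite type on X₁ with support contained in Z₁ ∖ V₁ (so that blowing up E is V₁-admissible)
such that, for every blowing up c : X₁' → X₁ of X₁ in E with base change q' : X₂' = X₂ ×_{X₁} X₁' →
X₁' and c₂ : X₂' → X₂, one has q'⁻¹(closure of c⁻¹(Y₁)) ∩ closure(c₂⁻¹(U)) ⊆ c₂⁻¹(Z₂) as subsets of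
X₂'. -/
theorem result
    {X₁ X₂ : Scheme.{u}} [CompactSpace X₁] [QuasiSeparatedSpace X₁] [CompactSpace X₂] [QuasiSeparatedSpace X₂]
    (q : X₂ ⟶ X₁) [QuasiCompact q] [IsSeparated q]
    (V₁ : X₁.Opens) (hV₁ : IsCompact (V₁ : Set X₁))
    (U : X₂.Opens) (hU : U ≤ q ⁻¹ᵁ V₁) [IsOpenImmersion (U.ι ≫ q)]
    (Z₁ : Set X₁) (hZ₁ : IsClosed Z₁) (hZ₁c : IsCompact Z₁ᶜ)
    (Z₂ : Set X₂) (hZ₂ : IsClosed Z₂) (hZ₂c : IsCompact Z₂ᶜ)
    (hYZ : (fun x => q x) ⁻¹' (Z₁ ∩ (V₁ : Set X₁)) ⊆ Z₂) :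
    ∃ 𝓔 : X₁.IdealSheafData, BlowUp.IsFiniteTypeIdeal 𝓔 ∧ (𝓔.support : Set X₁) ⊆ Z₁ \ (V₁ : Set X₁) ∧
      ∀ (X₁' : Scheme.{u}) (c : X₁' ⟶ X₁), BlowUp.IsBlowUp c 𝓔 →
        (fun z => (pullback.snd q c) z) ⁻¹' closure ((fun x => c x) ⁻¹' (Z₁ ∩ (V₁ : Set X₁))) ∩
            closure ((fun z => (pullback.fst q c) z) ⁻¹' (U : Set X₂)) ⊆
          (fun z => (pullback.fst q c) z) ⁻¹' Z₂ := by
  classical
  let Zo : X₂.Opens := ⟨Z₂ᶜ, hZ₂.isOpen_compl⟩
  haveI : CompactSpace Zo.toScheme := isCompact_iff_compactSpace.mp hZ₂c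
  let r := Zo.ι ≫ q
  haveI : QuasiCompact r := inferInstance
  obtain ⟨I₁, hI₁le, hI₁fg, hI₁s⟩ := BlowAvoidLib.exists_ft_le_support
    (Scheme.IdealSheafData.vanishingIdeal ⟨Z₁, hZ₁⟩) hZ₁c
    (by rw [Scheme.IdealSheafData.coe_support_vanishingIdeal]; exact subset_rfl)
  have hI₁s' : Z₁ ⊆ (I₁.support : Set X₁) := fun x hx => Scheme.IdealSheafData.support_antitone hI₁le
    (by rw [← SetLike.mem_coe, Scheme.IdealSheafData.coe_support_vanishingIdeal]; exact hx)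
  let M := (I₁ * I₁).comap r
  let J := (M.subschemeι ≫ r).ker
  let T : Set X₁ := Z₁ ∩ (V₁ : Set X₁)ᶜ
  have hTc : IsCompact Tᶜ := by
    rw [show Tᶜ = Z₁ᶜ ∪ (V₁ : Set X₁) by simp only [T, Set.compl_inter, compl_compl]]
    exact hZ₁c.union hV₁
  have hJT : (J.support : Set X₁) ⊆ T := by
    simp only [J, Scheme.Hom.support_ker, TopologicalSpace.Closeds.coe_closure]
    refine closure_minimal ?_ (hZ₁.inter V₁.isOpen.isClosed_compl)
    rintro _ ⟨w, rfl⟩
    have hw : M.subschemeι w ∈ M.support := by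
      rw [← SetLike.mem_coe, ← Scheme.IdealSheafData.range_subschemeι]; exact ⟨w, rfl⟩
    simp only [M, Scheme.IdealSheafData.support_comap, Scheme.IdealSheafData.support_mul, sup_idem] at hw
    have hZ : r (M.subschemeι w) ∈ Z₁ := hI₁s hw
    refine ⟨by simpa using hZ, fun hV => (M.subschemeι w).2 (hYZ ⟨?_, ?_⟩)⟩
    · simpa [r] using hZ
    · simpa [r] using hV
  obtain ⟨I₂, hI₂le, hI₂fg, hI₂s⟩ := BlowAvoidLib.exists_ft_le_support J hTc hJT
  have hincl : I₂.comap r ≤ M := by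
    rw [← Scheme.IdealSheafData.le_map_iff_comap_le]
    refine hI₂le.trans ?_
    simp only [J]
    rw [← Scheme.IdealSheafData.map_ker, Scheme.IdealSheafData.ker_subschemeι]
  refine ⟨I₁ ⊔ I₂, fun V => ?_, fun x hx => ?_, fun X₁' c hc => ?_⟩
  · rw [Scheme.IdealSheafData.ideal_sup, Pi.sup_apply]
    exact Submodule.FG.sup (hI₁fg V) (hI₂fg V)
  · exact hI₂s (Scheme.IdealSheafData.support_antitone le_sup_right hx)
  intro z₀ hz₀
  by_contra hzZ
  let O : (pullback q c).Opens := pullback.fst q c ⁻¹ᵁ Zo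
  let π := O.ι ≫ pullback.snd q c
  let t := pullback.fst q c ∣_ Zo
  have ht : t ≫ Zo.ι = O.ι ≫ pullback.fst q c := morphismRestrict_ι _ _
  have hsq : π ≫ c = t ≫ r := by
    simp only [π, r]
    rw [Category.assoc, ← pullback.condition, reassoc_of% ht]
  let z : O.toScheme := ⟨z₀, hzZ⟩
  have hz' : π z ∈ closure ((fun x => c x) ⁻¹' (Z₁ ∩ (V₁ : Set X₁))) := hz₀.1
  have hzS : z ∈ closure ((fun w => O.ι w) ⁻¹' ((fun z => (pullback.fst q c) z) ⁻¹' (U : Set X₂))) := by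
    rw [← O.ι.isOpenEmbedding.isOpenMap.preimage_closure_eq_closure_preimage O.ι.continuous]
    exact hz₀.2
  let E := (I₁ ⊔ I₂).comap c
  let A₁ := I₁.comap c
  let A₂ := I₂.comap c
  obtain ⟨Ω, W, g, hg, hI, hW, hzW⟩ := BlowAvoidLib.exists_chart E hc.1 π z
  have hA₁E : A₁ ≤ E := Scheme.IdealSheafData.comap_mono c le_sup_left
  have hA₂E : A₂ ≤ E := Scheme.IdealSheafData.comap_mono c le_sup_right
  have hA : (fun x => c x) ⁻¹' (Z₁ ∩ (V₁ : Set X₁)) ⊆ (A₁.support : Set X₁') := by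
    intro s hs
    simp only [A₁, Scheme.IdealSheafData.support_comap]
    exact hI₁s' hs.1
  have hE : ∀ s, c s ∈ V₁ → s ∉ E.support := by
    intro s hs hsE
    simp only [E, Scheme.IdealSheafData.support_comap, Scheme.IdealSheafData.support_sup] at hsE
    exact (hI₂s hsE.2).2 hs
  have hgmem : g ∈ A₁.ideal Ω ⊔ A₂.ideal Ω := by
    have h : g ∈ E.ideal Ω := hI ▸ Ideal.mem_span_singleton_self g
    simp only [E, Scheme.IdealSheafData.comap_sup, Scheme.IdealSheafData.ideal_sup] at h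
    exact h
  obtain ⟨a₁, ha₁, a₂, ha₂, hsum⟩ := Submodule.mem_sup.1 hgmem
  obtain ⟨k₁, hk₁⟩ := Ideal.mem_span_singleton'.1 (hI ▸ hA₁E Ω ha₁)
  obtain ⟨k₂, hk₂⟩ := Ideal.mem_span_singleton'.1 (hI ▸ hA₂E Ω ha₂)
  have hone : k₁ + k₂ = 1 := (mul_cancel_right_mem_nonZeroDivisors hg).1 (by rw [add_mul, hk₁, hk₂, hsum, one_mul])
  have hxU : π z ∈ Ω.1 := hW hzW
  have hk₁' : k₁ ∈ BlowAvoidLib.offIdeal Ω.1 (π z) hxU :=
    BlowAvoidLib.mem_offIdeal_of_closure A₁ E Ω hI (by rw [mul_comm, hk₁]; exact ha₁) hxU _ hz' hA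
      (fun s hs => hE s hs.2)
  have hk₂' : π z ∈ X₁'.basicOpen k₂ := by
    by_contra h
    refine BlowAvoidLib.one_notMem_offIdeal hxU ?_
    rw [← hone]
    exact Ideal.add_mem _ hk₁' (BlowAvoidLib.mem_offIdeal.2 h)
  let θ := (π.appLE Ω.1 W.1 hW).hom
  let Q := BlowAvoidLib.offIdeal W.1 z hzW
  have h4 : A₂.comap π ≤ A₁.comap π * A₁.comap π := by
    have h5 := Scheme.IdealSheafData.comap_mono t hincl
    have e : ∀ K : X₁.IdealSheafData, (K.comap r).comap t = (K.comap c).comap π := fun K => by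
      rw [← Scheme.IdealSheafData.comap_comp, ← Scheme.IdealSheafData.comap_comp, hsq]
    simp only [M, BlowCompLib.comap_mul, e] at h5
    exact h5
  have hmem : θ g * θ k₂ ∈ (A₁.comap π).ideal W * (A₁.comap π).ideal W := by
    refine h4 W ?_
    rw [← map_mul, mul_comm, hk₂, IdealStalkLib.comap_ideal A₂ π Ω.2 W.2 hW]
    exact Ideal.mem_map_of_mem _ ha₂
  have hle : (A₁.comap π).ideal W ≤ Ideal.span {θ g} * Q :=
    BlowAvoidLib.ideal_comap_le_mul A₁ E hA₁E π Ω W hW hI hzW _ hz' hA (fun s hs => hE s hs.2)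
  obtain ⟨m, hm, hma⟩ := Ideal.mem_span_singleton_mul.1
    (Ideal.mul_mono le_rfl Ideal.mul_le_left ((Ideal.mul_mono hle (hle.trans Ideal.mul_le_left)).trans
      (mul_assoc _ _ _).le hmem) : θ g * θ k₂ ∈ Ideal.span {θ g} * Q)
  refine BlowAvoidLib.notMem_closure E ⊥ π Ω W hW hI hzW (c := θ k₂ - m) (fun hc' => ?_) ?_ _ ?_ ?_ hzS
  · have h : θ k₂ ∈ Q := by simpa using Ideal.add_mem _ hc' hm
    exact BlowAvoidLib.mem_offIdeal.1 h ((BlowAvoidLib.mem_basicOpen_appLE π hW k₂ hzW).2 hk₂')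
  · have he : θ g * (θ k₂ - m) = 0 := by rw [mul_sub, hma, sub_self]
    exact he ▸ Ideal.zero_mem _
  · intro s _
    simp
  · intro s hs
    refine hE _ ?_
    have hc' : c (π s) = q (pullback.fst q c (O.ι s)) := by
      simp only [π, ← Scheme.Hom.comp_apply, Category.assoc, pullback.condition]
    rw [hc']
    exact hU hs

end Groth.Agent.S17392
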