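import Groth.Statements.S17393
import Groth.Agent.BlowCompLib.Flat
-- import your own Groth.Agent.* helpers here

set_option autoImplicit false
universe u
open BlowUp

namespace Groth.Agent.S17393

open AlgebraicGeometry CategoryTheory Limits in
/-- Let X be any scheme, I and I' quasi-coherent ideals on X (of closed subschemes Y and Y'), b : X' → X
a blowing up of X in I + I' (the ideal of Y ∩ Y'), b' : Ỹ → Y a blowing up of Y = V(I) in the
inverse image of I + I' and k : Ỹ → X' the morphism with k ≫ b = b' ≫ (Y → X), whose image is the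
strict transform of Y. For an affine open V of X, a section s of I over V, and an affine open V' ⊆
b⁻¹(V) of X' which meets the image of k, the ideal of the inverse image ideal sheaf (I + I')·O_X' on
V' is not the principal ideal generated by the pullback of s. Equivalently the strict transform of Y
does not meet the open locus U(s) where s generates the (invertible) inverse image ideal; since the
U(s) for s ranging over local sections of I and of I' cover X', the strict transform of Y lies in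
the union of the U(s) with s a local section of I'. -/
theorem result
    {X X' Yt : Scheme.{u}} (𝓘 𝓘' : X.IdealSheafData) (b : X' ⟶ X) (hb : BlowUp.IsBlowUp b (𝓘 ⊔ 𝓘'))
    (b' : Yt ⟶ 𝓘.subscheme) (hb' : BlowUp.IsBlowUp b' ((𝓘 ⊔ 𝓘').comap 𝓘.subschemeι))
    (k : Yt ⟶ X') (hk : k ≫ b = b' ≫ 𝓘.subschemeι)
    (V : X.affineOpens) (s : Γ(X, V.1)) (hs : s ∈ 𝓘.ideal V)
    (V' : X'.affineOpens) (hV' : V'.1 ≤ b ⁻¹ᵁ V.1)
    (hmeet : (Set.range (fun y => k y) ∩ (V'.1 : Set X')).Nonempty) :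
    ((𝓘 ⊔ 𝓘').comap b).ideal V' ≠ Ideal.span {(b.appLE V.1 V'.1 hV').hom s} := by
  intro heq
  obtain ⟨x, ⟨y, hy⟩, hxV⟩ := hmeet
  have hky : k y ∈ V'.1 := by
    have hy' : k y = x := hy
    rw [hy']; exact hxV
  obtain ⟨W₀, hyW₀, t, ht, hIt⟩ := hb'.1 y
  obtain ⟨g, hgle, hyg⟩ := W₀.2.exists_basicOpen_le (V := W₀.1 ⊓ k ⁻¹ᵁ V'.1) ⟨y, hyW₀, hky⟩ hyW₀
  let W := Yt.affineBasicOpen (U := W₀) g
  obtain ⟨t', ht', hIt'⟩ : ∃ e : Γ(Yt, W.1), e ∈ nonZeroDivisors Γ(Yt, W.1) ∧
      (((𝓘 ⊔ 𝓘').comap 𝓘.subschemeι).comap b').ideal W = Ideal.span {e} :=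
    RelDivLib.generator_res _ W₀ g ht hIt
  let a := (b.appLE V.1 V'.1 hV').hom s
  let θ := (k.appLE V'.1 W.1 (hgle.trans inf_le_right)).hom
  have hex : ((𝓘 ⊔ 𝓘').comap 𝓘.subschemeι).comap b' = ((𝓘 ⊔ 𝓘').comap b).comap k := by
    rw [← Scheme.IdealSheafData.comap_comp, ← Scheme.IdealSheafData.comap_comp, hk]
  have hspan : Ideal.span {θ a} = Ideal.span {t'} := by
    rw [← hIt', hex, BlowCompLib.ideal_comap_span _ k heq W (hgle.trans inf_le_right)]
  have hzero : (𝓘.comap b).comap k = ⊥ := by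
    rw [← Scheme.IdealSheafData.comap_comp, hk, Scheme.IdealSheafData.comap_comp,
      show 𝓘.comap 𝓘.subschemeι = ⊥ from le_bot_iff.1
        (Scheme.IdealSheafData.le_map_iff_comap_le.1 (by rw [Scheme.IdealSheafData.map_bot, Scheme.IdealSheafData.ker_subschemeι])),
      Scheme.IdealSheafData.comap_bot]
  have ha : a ∈ (𝓘.comap b).ideal V' := by
    rw [IdealStalkLib.comap_ideal 𝓘 b V.2 V'.2 hV']
    exact Ideal.mem_map_of_mem _ hs
  have h0 : θ a ∈ ((𝓘.comap b).comap k).ideal W := by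
    rw [IdealStalkLib.comap_ideal (𝓘.comap b) k V'.2 W.2 (hgle.trans inf_le_right)]
    exact Ideal.mem_map_of_mem _ ha
  rw [hzero, Scheme.IdealSheafData.ideal_bot] at h0
  have h0' : θ a = 0 := h0
  rw [h0'] at hspan
  obtain ⟨c, hc⟩ := Ideal.mem_span_singleton'.1 (hspan.ge (Ideal.mem_span_singleton_self t'))
  rw [mul_zero] at hc
  have ht0 : (0 : Γ(Yt, W.1)) ∈ nonZeroDivisors Γ(Yt, W.1) := hc ▸ ht'
  haveI : Nonempty W.1 := ⟨⟨y, hyg⟩⟩
  exact zero_notMem_nonZeroDivisors ht0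

end Groth.Agent.S17393
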