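import Groth.Statements.S17394
import Groth.Agent.S17392
import Groth.Agent.BlowAvoidLib.Sep
import Groth.Agent.BlowExistsLib.Glue
-- import your own Groth.Agent.* helpers here

set_option autoImplicit false
universe u
open FlatMor

namespace Groth.Agent.S17394

open AlgebraicGeometry CategoryTheory Limits in
/-- Let S be a quasi-compact quasi-separated scheme, X → S separated of finite type, and for i = 1, …, m
let X̄_i → S be proper, o_i : X_i → X̄_i a quasi-compact open immersion and q_i : X_i → X a proper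
S-morphism; let U be a scheme with quasi-compact open immersions jU : U → X and v_i : U → X_i such
that v_i ≫ q_i = jU, with U dense in X, in each X_i and in each X̄_i (via v_i ≫ o_i). Let Y_i ⊆ X_i
be closed subschemes of finite presentation. Let Ū ⊆ X̄_1 ×_S ⋯ ×_S X̄_m be the closure of the image
of U (the scheme-theoretic closure, the morphism being quasi-compact) with projections π_i : Ū →
X̄_i, and assume ⋂_i π_i⁻¹(Y_i) = ∅. Then there are blowing ups c_i : X̄_i' → X̄_i in quasi-coherent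
ideals of finite type with support disjoint from X_i (X_i-admissible), with the lifts v_i' : U →
X̄_i' of v_i ≫ o_i, such that, writing Ū' for the closure of the image of U in X̄_1' ×_S ⋯ ×_S X̄_m'
with projections π_i' and Ȳ_i' for the closure in X̄_i' of c_i⁻¹(Y_i), one has ⋂_i (π_i')⁻¹(Ȳ_i') =
∅. -/
theorem result
    {S X U : Scheme.{u}} [CompactSpace S] [QuasiSeparatedSpace S] {m : ℕ}
    (gX : X ⟶ S) [IsSeparated gX] [QuasiCompact gX] [LocallyOfFiniteType gX]
    (Xi Xb : Fin m → Scheme.{u}) (gb : ∀ i, Xb i ⟶ S) [∀ i, IsProper (gb i)]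
    (o : ∀ i, Xi i ⟶ Xb i) [∀ i, IsOpenImmersion (o i)] [∀ i, QuasiCompact (o i)]
    (q : ∀ i, Xi i ⟶ X) [∀ i, IsProper (q i)] (hq : ∀ i, q i ≫ gX = o i ≫ gb i)
    (jU : U ⟶ X) [IsOpenImmersion jU] [QuasiCompact jU] [IsDominant jU]
    (v : ∀ i, U ⟶ Xi i) [∀ i, IsOpenImmersion (v i)] [∀ i, QuasiCompact (v i)] [∀ i, IsDominant (v i)]
    [∀ i, IsDominant (v i ≫ o i)]
    (hv : ∀ i, v i ≫ q i = jU) (w : ∀ i, (v i ≫ o i) ≫ gb i = jU ≫ gX)
    (Y : ∀ i, (Xi i).IdealSheafData) (hY : ∀ i, BlowUp.IsFiniteTypeIdeal (Y i))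
    (hempty : ∀ z ∈ closure (Set.range (fun x => (WidePullback.lift (jU ≫ gX) (fun i => v i ≫ o i) w) x)),
      ∃ i, (WidePullback.π gb i) z ∉ (fun x => o i x) '' ((Y i).support : Set (Xi i))) :
    ∃ (𝓔 : ∀ i, (Xb i).IdealSheafData) (Xb' : Fin m → Scheme.{u}) (c : ∀ i, Xb' i ⟶ Xb i)
      (v' : ∀ i, U ⟶ Xb' i) (w' : ∀ i, v' i ≫ c i ≫ gb i = jU ≫ gX),
      (∀ i, BlowUp.IsBlowUp (c i) (𝓔 i) ∧ BlowUp.IsAdmissibleFor (o i).opensRange (𝓔 i) ∧
        v' i ≫ c i = v i ≫ o i) ∧
      ∀ z ∈ closure (Set.range (fun x => (WidePullback.lift (jU ≫ gX) (fun i => v' i) w') x)),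
        ∃ i, (WidePullback.π (fun i => c i ≫ gb i) i) z ∉
          closure ((fun y => c i y) ⁻¹' ((fun x => o i x) '' ((Y i).support : Set (Xi i)))) := by
  classical
  rcases Nat.eq_zero_or_pos m with hm | hm
  · subst hm
    have hU : IsEmpty U := ⟨fun x => (hempty _ (subset_closure ⟨x, rfl⟩)).elim fun i _ => i.elim0⟩
    refine ⟨fun i => i.elim0, fun i => i.elim0, fun i => i.elim0, fun i => i.elim0, fun i => i.elim0,
      fun i => i.elim0, fun z hz => ?_⟩
    rw [Set.range_eq_empty, closure_empty] at hz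
    exact hz.elim
  let i₀ : Fin m := ⟨0, hm⟩
  haveI : IsProper (WidePullback.base gb) := BlowAvoidLib.isProper_base Xb gb inferInstance
  haveI : CompactSpace (widePullback S Xb gb).carrier :=
    QuasiCompact.compactSpace_of_compactSpace (WidePullback.base gb)
  haveI : QuasiSeparatedSpace (widePullback S Xb gb).carrier :=
    quasiSeparatedSpace_of_quasiSeparated (WidePullback.base gb)
  haveI hπp : ∀ i, IsProper (WidePullback.π gb i) := fun i => by
    haveI : IsProper (WidePullback.π gb i ≫ gb i) := by rw [WidePullback.π_arrow]; infer_instance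
    exact IsProper.of_comp (WidePullback.π gb i) (gb i)
  haveI : ∀ i, CompactSpace (Xb i) := fun i => QuasiCompact.compactSpace_of_compactSpace (gb i)
  haveI : ∀ i, QuasiSeparatedSpace (Xb i) := fun i => quasiSeparatedSpace_of_quasiSeparated (gb i)
  haveI : ∀ i, CompactSpace (Xi i) := fun i => QuasiCompact.compactSpace_of_compactSpace (o i)
  let p : U ⟶ widePullback S Xb gb := WidePullback.lift (jU ≫ gX) (fun i => v i ≫ o i) w
  have hp : ∀ i, p ≫ WidePullback.π gb i = v i ≫ o i := fun i => WidePullback.lift_π ..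
  haveI : IsImmersion (p ≫ WidePullback.π gb i₀) := by rw [hp]; infer_instance
  haveI : IsImmersion p := IsImmersion.of_comp p (WidePullback.π gb i₀)
  haveI : QuasiCompact (p ≫ WidePullback.π gb i₀) := by rw [hp]; infer_instance
  haveI : QuasiCompact p := QuasiCompact.of_comp p (WidePullback.π gb i₀)
  -- all projections of a point of the closure lie in the open pieces as soon as one does
  have hall : ∀ z ∈ closure (Set.range p), ∀ i j, WidePullback.π gb i z ∈ Set.range (o i) →
      WidePullback.π gb j z ∈ Set.range (o j) := by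
    intro z hz i j hzi
    let O : (widePullback S Xb gb).Opens := WidePullback.π gb i ⁻¹ᵁ (o i).opensRange
    have hzO : z ∈ O := hzi
    let a : O.toScheme ⟶ Xi i := IsOpenImmersion.lift (o i) (O.ι ≫ WidePullback.π gb i) (by
      rintro _ ⟨y, rfl⟩; exact y.2)
    have ha : a ≫ o i = O.ι ≫ WidePullback.π gb i := IsOpenImmersion.lift_fac _ _ _
    let h : O.toScheme ⟶ pullback (o i ≫ gb i) (gb j) := pullback.lift a (O.ι ≫ WidePullback.π gb j) (by
      rw [reassoc_of% ha, WidePullback.π_arrow, Category.assoc, WidePullback.π_arrow])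
    let k : pullback (q i) (q j) ⟶ pullback (o i ≫ gb i) (gb j) :=
      pullback.lift (pullback.fst _ _) (pullback.snd _ _ ≫ o j) (by
        rw [← hq i, Category.assoc, ← hq j, pullback.condition_assoc])
    haveI : IsProper (k ≫ pullback.fst _ _) := by rw [pullback.lift_fst]; infer_instance
    haveI : IsProper k := IsProper.of_comp k (pullback.fst _ _)
    let u : U ⟶ O.toScheme := IsOpenImmersion.lift O.ι p (by
      rintro _ ⟨x, rfl⟩
      rw [Scheme.Opens.range_ι]
      show WidePullback.π gb i (p x) ∈ Set.range (o i)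
      rw [← Scheme.Hom.comp_apply, hp, Scheme.Hom.comp_apply]
      exact ⟨_, rfl⟩)
    have hu : u ≫ O.ι = p := IsOpenImmersion.lift_fac _ _ _
    have hua : u ≫ a = v i := by rw [← cancel_mono (o i), Category.assoc, ha, reassoc_of% hu, hp]
    have huh : u ≫ h = pullback.lift (v i) (v j) (by rw [hv, hv]) ≫ k := by
      apply pullback.hom_ext
      · rw [Category.assoc, pullback.lift_fst, hua, Category.assoc, pullback.lift_fst, pullback.lift_fst]
      · rw [Category.assoc, pullback.lift_snd, reassoc_of% hu, hp, Category.assoc, pullback.lift_snd,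
          pullback.lift_snd_assoc]
    have hzu : (⟨z, hzO⟩ : O.toScheme) ∈ closure (Set.range u) := by
      have e : Set.range u = (fun y => O.ι y) ⁻¹' Set.range p := by
        ext y
        constructor
        · rintro ⟨x, rfl⟩; exact ⟨x, by rw [← hu, Scheme.Hom.comp_apply]⟩
        · rintro ⟨x, hx⟩
          refine ⟨x, O.ι.isOpenEmbedding.injective ?_⟩
          rw [← Scheme.Hom.comp_apply, hu]
          exact hx
      rw [e, ← O.ι.isOpenEmbedding.isOpenMap.preimage_closure_eq_closure_preimage O.ι.continuous]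
      exact hz
    have hh : h ⟨z, hzO⟩ ∈ Set.range k := by
      refine closure_minimal ?_ k.isClosedMap.isClosed_range
        (image_closure_subset_closure_image h.continuous ⟨_, hzu, rfl⟩)
      rintro _ ⟨_, ⟨x, rfl⟩, rfl⟩
      rw [← Scheme.Hom.comp_apply, huh, Scheme.Hom.comp_apply]
      exact ⟨_, rfl⟩
    obtain ⟨y, hy⟩ := hh
    refine ⟨pullback.snd (q i) (q j) y, ?_⟩
    have e : pullback.snd (o i ≫ gb i) (gb j) (k y) = pullback.snd (o i ≫ gb i) (gb j) (h ⟨z, hzO⟩) := by rw [hy]
    rw [← Scheme.Hom.comp_apply, ← Scheme.Hom.comp_apply, pullback.lift_snd, pullback.lift_snd,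
      Scheme.Hom.comp_apply, Scheme.Hom.comp_apply] at e
    exact e
  -- closed extensions of the supports
  have hZ : ∀ i, ∃ Z : Set (Xb i), IsClosed Z ∧ IsCompact Zᶜ ∧
      Z ∩ Set.range (o i) = (fun x => o i x) '' ((Y i).support : Set (Xi i)) := by
    intro i
    refine ⟨((fun x => o i x) '' ((Y i).support : Set (Xi i))ᶜ)ᶜ, ?_, ?_, ?_⟩
    · exact ((o i).isOpenEmbedding.isOpenMap _ (Y i).support.isClosed.isOpen_compl).isClosed_compl
    · rw [compl_compl]
      exact (BlowAvoidLib.isCompact_compl_support (Y i) (hY i)).image (o i).continuous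
    · ext y
      constructor
      · rintro ⟨hy, x, rfl⟩
        exact ⟨x, by_contra fun h => hy ⟨x, h, rfl⟩, rfl⟩
      · rintro ⟨x, hx, rfl⟩
        refine ⟨?_, x, rfl⟩
        rintro ⟨x', hx', he⟩
        exact hx' ((o i).isOpenEmbedding.injective he ▸ hx)
  choose Z hZcl hZc hZo using hZ
  have hI : ∀ i, ∃ I : (Xb i).IdealSheafData, (∀ V, (I.ideal V).FG) ∧ (I.support : Set (Xb i)) = Z i := by
    intro i
    obtain ⟨I, hle, hfg, hs⟩ := BlowAvoidLib.exists_ft_le_support
      (Scheme.IdealSheafData.vanishingIdeal ⟨Z i, hZcl i⟩) (hZc i)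
      (by rw [Scheme.IdealSheafData.coe_support_vanishingIdeal]; exact subset_rfl)
    refine ⟨I, hfg, subset_antisymm hs fun x hx => Scheme.IdealSheafData.support_antitone hle ?_⟩
    rw [← SetLike.mem_coe, Scheme.IdealSheafData.coe_support_vanishingIdeal]; exact hx
  choose I hIfg hIs using hI
  let ι := p.imageι
  haveI : CompactSpace p.image := QuasiCompact.compactSpace_of_compactSpace ι
  haveI : QuasiSeparatedSpace p.image := quasiSeparatedSpace_of_quasiSeparated ι
  have hιcl : ∀ x, ι x ∈ closure (Set.range p) := fun x => by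
    have h : ι x ∈ (p.ker.support : Set (widePullback S Xb gb).carrier) := by
      rw [← Scheme.IdealSheafData.range_subschemeι]; exact ⟨x, rfl⟩
    rwa [Scheme.Hom.support_ker] at h
  let A : Fin m → p.image.IdealSheafData := fun i => (I i).comap (ι ≫ WidePullback.π gb i)
  let K : p.image.IdealSheafData := ⨆ i, A i
  have hK : BlowUp.IsFiniteTypeIdeal K := fun V => by
    rw [Scheme.IdealSheafData.ideal_iSup, iSup_apply]
    exact Submodule.fg_iSup _ fun i => BlowAvoidLib.fg_comap _ _ (hIfg i) V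
  have hKs : ∀ x i, WidePullback.π gb i (ι x) ∈ Set.range (o i) → x ∉ K.support := by
    intro x i hxi hxK
    obtain ⟨j, hj⟩ := hempty (ι x) (hιcl x)
    have h : x ∈ (A j).support := Scheme.IdealSheafData.support_antitone (le_iSup A j) hxK
    simp only [A, Scheme.IdealSheafData.support_comap] at h
    have h' : WidePullback.π gb j (ι x) ∈ Z j := by rw [← hIs j]; exact h
    exact hj (hZo j ▸ ⟨h', hall _ (hιcl x) i j hxi⟩)
  obtain ⟨W, b, hb⟩ := BlowExistsLib.exists_isBlowUp (𝓘 := K)
  haveI : IsProper b := BlowExistsLib.isProper_of_FG hb hK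
  haveI : CompactSpace W := QuasiCompact.compactSpace_of_compactSpace b
  haveI : QuasiSeparatedSpace W := quasiSeparatedSpace_of_quasiSeparated b
  obtain ⟨ut, hut, huto⟩ := BlowAvoidLib.exists_lift_off_centre K b hb p.toImage (fun x => hKs _ i₀ (by
    simp only [← Scheme.Hom.comp_apply, ι, Scheme.Hom.toImage_imageι_assoc, Category.assoc, hp]
    rw [Scheme.Hom.comp_apply]
    exact ⟨_, rfl⟩))
  haveI : IsOpenImmersion ut := huto inferInstance
  let r : ∀ i, W ⟶ Xb i := fun i => b ≫ ι ≫ WidePullback.π gb i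
  have hr : ∀ i, ut ≫ r i = v i ≫ o i := fun i => by
    simp only [r, reassoc_of% hut, ι, Scheme.Hom.toImage_imageι_assoc, hp]
  let F : Fin m → Set W := fun i => closure ((fun x => r i x) ⁻¹' ((fun x => o i x) '' ((Y i).support : Set (Xi i))))
  have hF : ∀ z, ∃ i, z ∉ F i := by
    have hsup : (⨆ i, (A i).comap b) = K.comap b := ((Scheme.IdealSheafData.map_gc b).l_iSup).symm
    refine BlowAvoidLib.exists_notMem_closure (fun i => (A i).comap b) (by rw [hsup]; exact hb.1) _ ?_ ?_
    · intro i s hs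
      simp only [A, Scheme.IdealSheafData.support_comap]
      show r i s ∈ (I i).support
      rw [← SetLike.mem_coe, hIs i]
      exact (hZo i ▸ hs : r i s ∈ Z i ∩ Set.range (o i)).1
    · intro i s hs hsE
      rw [hsup, Scheme.IdealSheafData.support_comap] at hsE
      exact hKs (b s) i (hZo i ▸ hs : r i s ∈ Z i ∩ Set.range (o i)).2 hsE
  obtain ⟨Z₂, hZ₂, hZ₂e⟩ := BlowAvoidLib.exists_closed_cover F (fun i => isClosed_closure) hF
  have hE : ∀ i, ∃ 𝓔 : (Xb i).IdealSheafData, BlowUp.IsFiniteTypeIdeal 𝓔 ∧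
      (𝓔.support : Set (Xb i)) ⊆ Z i \ ((o i).opensRange : Set (Xb i)) ∧
      ∀ (X₁' : Scheme.{u}) (c : X₁' ⟶ Xb i), BlowUp.IsBlowUp c 𝓔 →
        (fun z => (pullback.snd (r i) c) z) ⁻¹' closure ((fun x => c x) ⁻¹' (Z i ∩ ((o i).opensRange : Set (Xb i)))) ∩
            closure ((fun z => (pullback.fst (r i) c) z) ⁻¹' (ut.opensRange : Set W)) ⊆
          (fun z => (pullback.fst (r i) c) z) ⁻¹' Z₂ i := by
    intro i
    haveI : IsOpenImmersion (ut.opensRange.ι ≫ r i) := by
      rw [← ut.isoOpensRange_inv_comp, Category.assoc, hr]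
      infer_instance
    refine S17392.result (r i) (o i).opensRange (isCompact_range (o i).continuous) ut.opensRange ?_
      (Z i) (hZcl i) (hZc i) (Z₂ i) (hZ₂ i).1 (hZ₂ i).2.1 ?_
    · rintro _ ⟨x, rfl⟩
      show r i (ut x) ∈ Set.range (o i)
      rw [← Scheme.Hom.comp_apply, hr, Scheme.Hom.comp_apply]
      exact ⟨_, rfl⟩
    · intro x hx
      refine (hZ₂ i).2.2 (subset_closure ?_)
      show r i x ∈ (fun x => o i x) '' ((Y i).support : Set (Xi i))
      rw [← hZo i]
      exact hx
  choose 𝓔 h𝓔ft h𝓔s h𝓔 using hE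
  have hex : ∀ i, ∃ (X' : Scheme.{u}) (c : X' ⟶ Xb i), BlowUp.IsBlowUp c (𝓔 i) := fun i =>
    BlowExistsLib.exists_isBlowUp (𝓘 := 𝓔 i)
  choose Xb' c hc using hex
  have hadm : ∀ i, BlowUp.IsAdmissibleFor (o i).opensRange (𝓔 i) := fun i =>
    ⟨h𝓔ft i, Set.disjoint_left.2 fun x hx => (h𝓔s i hx).2⟩
  have hlift : ∀ i, ∃ l : U ⟶ Xb' i, l ≫ c i = v i ≫ o i := fun i => by
    obtain ⟨l, hl, -⟩ := BlowAvoidLib.exists_lift_off_centre (𝓔 i) (c i) (hc i) (v i ≫ o i) fun x hx =>
      (h𝓔s i hx).2 (by rw [Scheme.Hom.comp_apply]; exact ⟨_, rfl⟩)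
    exact ⟨l, hl⟩
  choose v' hv' using hlift
  have w' : ∀ i, v' i ≫ c i ≫ gb i = jU ≫ gX := fun i => by rw [reassoc_of% hv' i, ← w i, Category.assoc]
  refine ⟨𝓔, Xb', c, v', w', fun i => ⟨hc i, hadm i, hv' i⟩, fun z hz => ?_⟩
  let g : widePullback S Xb' (fun i => c i ≫ gb i) ⟶ widePullback S Xb gb :=
    WidePullback.lift (WidePullback.base _) (fun i => WidePullback.π (fun i => c i ≫ gb i) i ≫ c i)
      (fun i => by rw [Category.assoc, WidePullback.π_arrow (fun i => c i ≫ gb i)])
  have hg : ∀ i, g ≫ WidePullback.π gb i = WidePullback.π (fun i => c i ≫ gb i) i ≫ c i := fun i =>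
    WidePullback.lift_π ..
  let p' : U ⟶ widePullback S Xb' (fun i => c i ≫ gb i) := WidePullback.lift (jU ≫ gX) (fun i => v' i) w'
  have hp'g : p' ≫ g = p := WidePullback.hom_ext _ _ _
    (fun i => by rw [Category.assoc, hg, WidePullback.lift_π_assoc, hv', hp])
    (by rw [Category.assoc, WidePullback.lift_base, WidePullback.lift_base, WidePullback.lift_base])
  let uT : U ⟶ pullback (b ≫ ι) g := pullback.lift ut p' (by
    rw [reassoc_of% hut, hp'g]; exact Scheme.Hom.toImage_imageι p)
  obtain ⟨t, ht, rfl⟩ : z ∈ (fun t => pullback.snd (b ≫ ι) g t) '' closure (Set.range uT) := by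
    refine closure_minimal ?_ ((pullback.snd (b ≫ ι) g).isClosedMap _ isClosed_closure) hz
    rintro _ ⟨x, rfl⟩
    refine ⟨uT x, subset_closure ⟨x, rfl⟩, ?_⟩
    show pullback.snd (b ≫ ι) g (uT x) = p' x
    rw [← Scheme.Hom.comp_apply, pullback.lift_snd]
  by_contra hcon
  push Not at hcon
  obtain ⟨i, hi⟩ := hZ₂e (pullback.fst (b ≫ ι) g t)
  apply hi
  let h : pullback (b ≫ ι) g ⟶ pullback (r i) (c i) :=
    pullback.lift (pullback.fst _ _) (pullback.snd _ _ ≫ WidePullback.π (fun i => c i ≫ gb i) i) (by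
      simp only [r, Category.assoc, ← hg, ← pullback.condition_assoc])
  have h1 := h𝓔 i (Xb' i) (c i) (hc i)
  have hmem : h t ∈ (fun z => (pullback.fst (r i) (c i)) z) ⁻¹' Z₂ i := by
    refine h1 ⟨?_, ?_⟩
    · rw [Set.mem_preimage]
      rw [← Scheme.Hom.comp_apply, pullback.lift_snd, Scheme.Hom.comp_apply, Scheme.Hom.coe_opensRange, hZo i]
      exact hcon i
    · refine closure_mono ?_ (image_closure_subset_closure_image h.continuous ⟨_, ht, rfl⟩)
      rintro _ ⟨_, ⟨x, rfl⟩, rfl⟩
      show pullback.fst (r i) (c i) (h (uT x)) ∈ ut.opensRange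
      rw [← Scheme.Hom.comp_apply, ← Scheme.Hom.comp_apply, pullback.lift_fst, pullback.lift_fst]
      exact ⟨x, rfl⟩
  have := hmem
  rwa [Set.mem_preimage, ← Scheme.Hom.comp_apply, pullback.lift_fst] at this

end Groth.Agent.S17394
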