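import Groth.Statements.S1740
import Mathlib
import Groth.Agent.TorLib.Balance
import Groth.Agent.PureExtLib.Basic

open CategoryTheory CategoryTheory.Limits TensorProduct Groth.Agent.TorLib
namespace Groth.Agent.S1740

open TensorProduct

universe w in
theorem factor_of_tor_zero {R : Type w} [CommRing R] {K F M K' F' M' : Type w}
    [AddCommGroup K] [Module R K] [AddCommGroup F] [Module R F] [AddCommGroup M] [Module R M]
    [AddCommGroup K'] [Module R K'] [AddCommGroup F'] [Module R F'] [AddCommGroup M'] [Module R M']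
    [Module.FinitePresentation R M]
    (ι₁ : K →ₗ[R] F) (π₁ : F →ₗ[R] M) (ι₂ : K' →ₗ[R] F') (π₂ : F' →ₗ[R] M') (κ : K →ₗ[R] K') (γ : F →ₗ[R] F')
    (α : M →ₗ[R] M') (hγ : ∀ w, π₂ (γ w) = α (π₁ w)) (hκ : ∀ w, ι₂ (κ w) = γ (ι₁ w))
    (hex₁ : Function.Exact ι₁ π₁) (hex₂ : Function.Exact ι₂ π₂)
    (hπ₁ : Function.Surjective π₁) (hπ₂ : Function.Surjective π₂) (hι₂ : Function.Injective ι₂)
    (hzero : ∀ (N : Type w) [AddCommGroup N] [Module R N] (z : K ⊗[R] N), ι₁.rTensor N z = 0 → κ.rTensor N z = 0) :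
    ∃ gg : M →ₗ[R] F', α = π₂ ∘ₗ gg := by
  classical
  let E : Submodule R (M × F') :=
    LinearMap.ker (α ∘ₗ LinearMap.fst R M _ - π₂ ∘ₗ LinearMap.snd R M _)
  have hE : ∀ m v, (m, v) ∈ E ↔ α m = π₂ v := fun m v => by
    simp only [E, LinearMap.mem_ker, LinearMap.sub_apply, LinearMap.comp_apply, LinearMap.fst_apply, LinearMap.snd_apply, sub_eq_zero]
  let g : E →ₗ[R] M := LinearMap.fst R M _ ∘ₗ E.subtype
  have hg : Function.Surjective g := fun m => by
    obtain ⟨v, hv⟩ := hπ₂ (α m)
    exact ⟨⟨(m, v), (hE m v).2 hv.symm⟩, rfl⟩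
  have hui : CAlgX.UniversallyInjective R (M := ↥(LinearMap.ker g)) (N := ↥E) (LinearMap.ker g).subtype := by
    let P : (K' × F) →ₗ[R] E :=
      LinearMap.codRestrict E (LinearMap.prod (π₁ ∘ₗ LinearMap.snd R _ _)
        (γ ∘ₗ LinearMap.snd R _ _ + ι₂ ∘ₗ LinearMap.fst R _ _)) fun kx => (hE _ _).2 (by
          simp only [LinearMap.prod_apply, Pi.prod, LinearMap.comp_apply, LinearMap.add_apply, LinearMap.snd_apply,
            LinearMap.fst_apply, map_add, hγ, hex₂.apply_apply_eq_zero, add_zero])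
    let J : K →ₗ[R] (K' × F) := LinearMap.prod (-κ) ι₁
    have hP : Function.Surjective P := by
      rintro ⟨⟨m, v⟩, hmv⟩
      obtain ⟨w, hw⟩ := hπ₁ m
      obtain ⟨k, hk⟩ := (hex₂ (v - γ w)).1 (by
        rw [map_sub, hγ, show π₁ w = m from hw, ← (hE m v).1 hmv, sub_self])
      exact ⟨(k, w), Subtype.ext (Prod.ext hw (by
        change γ w + ι₂ k = v
        rw [hk]; abel))⟩
    have hJP : Function.Exact J P := by
      rintro ⟨k, w⟩
      refine ⟨fun h0 => ?_, ?_⟩
      · obtain ⟨c, hc⟩ := (hex₁ w).1 (congrArg (fun x : E => x.1.1) h0)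
        refine ⟨c, Prod.ext ?_ hc⟩
        refine hι₂ ?_
        change ι₂ (-κ c) = ι₂ k
        have h2 : γ w + ι₂ k = 0 := congrArg (fun x : E => x.1.2) h0
        rw [map_neg, hκ, hc, neg_eq_iff_add_eq_zero, h2]
      · rintro ⟨c, hc⟩
        rw [← hc]
        refine Subtype.ext (Prod.ext (hex₁.apply_apply_eq_zero c) ?_)
        change γ (ι₁ c) + ι₂ (-κ c) = 0
        rw [map_neg, hκ, add_neg_cancel]
    let j : K' →ₗ[R] LinearMap.ker g :=
      LinearMap.codRestrict _ (P ∘ₗ LinearMap.inl R _ _) fun k => by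
        change π₁ 0 = 0
        exact map_zero _
    have hj : Function.Surjective j := by
      rintro ⟨⟨⟨m, v⟩, hmv⟩, hm0⟩
      have hm : m = 0 := hm0
      subst hm
      obtain ⟨k, hk⟩ := (hex₂ v).1 (by rw [← (hE 0 v).1 hmv, map_zero])
      exact ⟨k, Subtype.ext (Subtype.ext (Prod.ext (map_zero π₁) (by
        change γ 0 + ι₂ k = v
        rw [map_zero, zero_add, hk])))⟩
    intro N _ _
    letI : AddCommGroup ↥(LinearMap.ker g) := Submodule.addCommGroup _
    letI : AddCommGroup (↥(LinearMap.ker g) ⊗[R] N) := TensorProduct.addCommGroup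
    refine (injective_iff_map_eq_zero _).2 fun z hz => ?_
    obtain ⟨u, rfl⟩ := LinearMap.rTensor_surjective N hj z
    have hu : P.rTensor N ((LinearMap.inl R _ _).rTensor N u) = 0 := by
      rw [← LinearMap.rTensor_comp_apply]
      rw [← LinearMap.rTensor_comp_apply] at hz
      exact hz
    obtain ⟨w, hw⟩ := (rTensor_exact N hJP hP _).1 hu
    have hs : ι₁.rTensor N w = 0 := by
      have := congrArg ((LinearMap.snd R _ _).rTensor N) hw
      rw [← LinearMap.rTensor_comp_apply, ← LinearMap.rTensor_comp_apply, LinearMap.snd_comp_inl, LinearMap.rTensor_zero] at this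
      exact this
    have hf := congrArg ((LinearMap.fst R _ _).rTensor N) hw
    rw [← LinearMap.rTensor_comp_apply, ← LinearMap.rTensor_comp_apply, LinearMap.fst_comp_inl, LinearMap.rTensor_id,
      LinearMap.id_apply, LinearMap.fst_prod, LinearMap.rTensor_neg, LinearMap.neg_apply, hzero N w hs, neg_zero] at hf
    rw [← hf, map_zero]
  obtain ⟨ψ, hψ⟩ := Groth.Agent.PureExtLib.pproj_of_fp M inferInstance g hg hui LinearMap.id
  refine ⟨LinearMap.snd R M _ ∘ₗ E.subtype ∘ₗ ψ, LinearMap.ext fun m => ?_⟩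
  have h1 : (ψ m).1.1 = m := LinearMap.congr_fun hψ m
  have h2 := (hE _ _).1 (ψ m).2
  rw [h1] at h2
  exact h2

end Groth.Agent.S1740

set_option autoImplicit false
universe u
open CategoryTheory
attribute [local instance] HasDerivedCategory.standard
open LocCoh

namespace Groth.Agent.S1740

/-- Let α : M → M' be a map of R-modules with M finitely presented such that the induced map Tor_1(M, N)
→ Tor_1(M', N) is zero for every R-module N. Then α is the composite of a map from M into a free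
R-module and a map from that free module to M'. -/
theorem result (R : Type u) [CommRing R] (M M' : Type u) [AddCommGroup M] [Module R M] [Module.FinitePresentation R M] [AddCommGroup M'] [Module R M'] (α : M →ₗ[R] M') (h : ∀ (N : Type u) [AddCommGroup N] [Module R N], ((CategoryTheory.Tor (ModuleCat.{u} R) 1).map (ModuleCat.ofHom α)).app (ModuleCat.of R N) = 0) : ∃ (ι : Type u) (g : M →ₗ[R] (ι →₀ R)) (h : (ι →₀ R) →ₗ[R] M'), α = h ∘ₗ g := by
  classical
  let X := ModuleCat.of R M
  let Y := ModuleCat.of R M'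
  let ι₁ := ((covι R).app X).hom
  let π₁ := ((freeCovπ R).app X).hom
  let ι₂ := ((covι R).app Y).hom
  let π₂ := ((freeCovπ R).app Y).hom
  let κ := ((covK R).map (ModuleCat.ofHom α)).hom
  let γ := ((freeCov R).map (ModuleCat.ofHom α)).hom
  have hγ : ∀ w, π₂ (γ w) = α (π₁ w) := fun w =>
    ConcreteCategory.congr_hom ((freeCovπ R).naturality (ModuleCat.ofHom α)) w
  have hκ : ∀ w, ι₂ (κ w) = γ (ι₁ w) := fun w =>
    ConcreteCategory.congr_hom ((covι R).naturality (ModuleCat.ofHom α)) w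
  have hex₁ : Function.Exact ι₁ π₁ := exact_cov X
  have hex₂ : Function.Exact ι₂ π₂ := exact_cov Y
  have hzero : ∀ (N : Type u) [AddCommGroup N] [Module R N] (z : ↑((covK R).obj X) ⊗[R] N),
      ι₁.rTensor N z = 0 → κ.rTensor N z = 0 := by
    intro N _ _ z hz
    have h0 : ((kerFun R).map (ModuleCat.ofHom α)).app (ModuleCat.of R N) = 0 := by
      have e := NatTrans.congr_app ((torOne (A := R)).hom.naturality (ModuleCat.ofHom α)) (ModuleCat.of R N)
      simp only [NatTrans.comp_app, h N, zero_comp] at e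
      exact (cancel_epi (((torOne (A := R)).hom.app X).app (ModuleCat.of R N))).1 (e.symm.trans comp_zero.symm)
    exact congrArg Subtype.val (ConcreteCategory.congr_hom h0
      (⟨z, hz⟩ : kerObj R X (ModuleCat.of R N)))
  obtain ⟨gg, hgg⟩ := factor_of_tor_zero (M := M) (M' := M') ι₁ π₁ ι₂ π₂ κ γ α hγ hκ hex₁ hex₂ (surj_cov X) (surj_cov Y) (inj_cov Y) hzero
  exact ⟨M', gg, π₂, hgg⟩


end Groth.Agent.S1740
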