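import Groth.Statements.S17409
import Mathlib

set_option autoImplicit false
universe u
open Prym5

namespace Groth.Agent.S17409

open MvPolynomial
set_option backward.isDefEq.respectTransparency false

/-- Over a perfect field K of characteristic different from 2 and 3, let G₂, G₃, G₄ be polynomials in
two variables x, y and consider G₂ z² + 2 G₃ z + G₄ as a polynomial in the three variables x, y, z.
If it lies in the square of the ideal (x, y, z) — the surface it defines has a double point at the
origin — then the discriminant G₃² − G₂ G₄ lies in the square of the ideal (x, y) of K[x, y], so the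
plane curve G₃² − G₂ G₄ = 0 is singular at the origin. (This is the affine-local form used in the
published proof: the surface is a quartic with a node at the centre of projection placed at infinity
on the z-axis, and the curve is the branch sextic of that projection.) -/
theorem result (K : Type u) [Field K] [PerfectField K]
    (h2 : (2 : K) ≠ 0) (h3 : (3 : K) ≠ 0) (G₂ G₃ G₄ : MvPolynomial (Fin 2) K)
    (h : MvPolynomial.rename (Fin.castSucc : Fin 2 → Fin 3) G₂ * MvPolynomial.X (2 : Fin 3) ^ 2
        + 2 * MvPolynomial.rename (Fin.castSucc : Fin 2 → Fin 3) G₃ * MvPolynomial.X (2 : Fin 3)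
        + MvPolynomial.rename (Fin.castSucc : Fin 2 → Fin 3) G₄
        ∈ (Ideal.span (Set.range (MvPolynomial.X : Fin 3 → MvPolynomial (Fin 3) K))) ^ 2) :
    G₃ ^ 2 - G₂ * G₄ ∈ (Ideal.span (Set.range (MvPolynomial.X : Fin 2 → MvPolynomial (Fin 2) K))) ^ 2 := by
  set m2 := Ideal.span (Set.range (MvPolynomial.X : Fin 2 → MvPolynomial (Fin 2) K))
  have h3' : G₃ ∈ m2 := by
    let e : MvPolynomial (Fin 3) K →ₐ[K] DualNumber K := MvPolynomial.aeval ![0, 0, DualNumber.eps]
    have hle : (Ideal.span (Set.range (MvPolynomial.X : Fin 3 → MvPolynomial (Fin 3) K))) ^ 2 ≤ RingHom.ker e := by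
      rw [sq, Ideal.span_mul_span', Ideal.span_le]
      rintro _ ⟨_, ⟨i, rfl⟩, _, ⟨j, rfl⟩, rfl⟩
      fin_cases i <;> fin_cases j <;> simp [e, RingHom.mem_ker]
    have hr : ∀ G : MvPolynomial (Fin 2) K, e (rename Fin.castSucc G) = algebraMap K _ (constantCoeff G) := by
      intro G
      have : ((![0, 0, DualNumber.eps] : Fin 3 → DualNumber K) ∘ Fin.castSucc) = 0 := by
        funext i; fin_cases i <;> rfl
      rw [show e (rename Fin.castSucc G) = _ from MvPolynomial.aeval_rename _ _ _, this, MvPolynomial.aeval_zero]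
    have h0 : e _ = 0 := hle h
    simp only [map_add, map_mul, map_pow, map_ofNat, hr] at h0
    have h1 := congrArg TrivSqZeroExt.snd h0
    simp [e, sq, TrivSqZeroExt.algebraMap_eq_inl, h2, show (2 : DualNumber K) = TrivSqZeroExt.inl 2 from rfl] at h1
    rw [← pow_one m2, MvPolynomial.mem_pow_idealOfVars_iff']
    intro d hd
    have hd0 : d = 0 := by
      rw [← Finsupp.degree_eq_zero_iff]
      omega
    rw [hd0, ← MvPolynomial.constantCoeff_eq]
    exact h1
  have h4' : G₄ ∈ m2 ^ 2 := by
    let e : MvPolynomial (Fin 3) K →ₐ[K] MvPolynomial (Fin 2) K := MvPolynomial.aeval ![X 0, X 1, 0]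
    have hle : Ideal.map e.toRingHom (Ideal.span (Set.range (MvPolynomial.X : Fin 3 → MvPolynomial (Fin 3) K))) ≤ m2 := by
      rw [Ideal.map_span, Ideal.span_le]
      rintro _ ⟨_, ⟨i, rfl⟩, rfl⟩
      fin_cases i <;> simp [e, m2] <;> exact Ideal.subset_span ⟨_, rfl⟩
    have h0 := Ideal.pow_right_mono hle 2 (Ideal.map_pow e.toRingHom _ 2 ▸ Ideal.mem_map_of_mem e.toRingHom h)
    have hr : ∀ G : MvPolynomial (Fin 2) K, e (rename Fin.castSucc G) = G := by
      intro G
      have : ((![X 0, X 1, 0] : Fin 3 → MvPolynomial (Fin 2) K) ∘ Fin.castSucc) = X := by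
        funext i; fin_cases i <;> rfl
      rw [show e (rename Fin.castSucc G) = _ from MvPolynomial.aeval_rename _ _ _, this, MvPolynomial.aeval_X_left_apply]
    have hz : e (X (2 : Fin 3)) = 0 := by simp [e]
    change e _ ∈ _ at h0
    simpa only [map_add, map_mul, map_pow, map_ofNat, hr, hz, mul_zero, zero_add, zero_pow two_ne_zero] using h0
  exact sub_mem (Ideal.pow_mem_pow h3' 2) (Ideal.mul_mem_left _ _ h4')

end Groth.Agent.S17409
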