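import Groth.Statements.S1741
import Groth.Agent.UnivExtLib.TorExt
import Groth.Agent.S6318

set_option autoImplicit false
set_option backward.isDefEq.respectTransparency false
set_option linter.style.haveILetI false
universe u
open CategoryTheory
attribute [local instance] HasDerivedCategory.standard
open LocCoh

namespace Groth.Agent.S1741

/-- Equivalence of (4) and (7) in the Noetherian case. Let R be a Noetherian ring, α : M → M' a map of
R-modules with M finite, and e ≥ 0. Then precomposition with α kills all classes in Ext^{e+1}(M', N)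
(maps M' → N[e+1] in D(R)) for every module N if and only if the map Tor_{e+1}(M, N) → Tor_{e+1}(M',
N) induced by α is zero for every module N. -/
theorem result (R : Type u) [CommRing R] [IsNoetherianRing R] (M M' : Type u) [AddCommGroup M] [Module R M] [Module.Finite R M] [AddCommGroup M'] [Module R M'] (α : M →ₗ[R] M') (e : ℕ) : (∀ (N : Type u) [AddCommGroup N] [Module R N] (φ : Dual.inD R M' ⟶ (Dual.inD R N)⟦((e : ℤ) + 1)⟧), (DerivedCategory.singleFunctor (ModuleCat.{u} R) 0).map (ModuleCat.ofHom α) ≫ φ = 0) ↔ (∀ (N : Type u) [AddCommGroup N] [Module R N], ((CategoryTheory.Tor (ModuleCat.{u} R) (e + 1)).map (ModuleCat.ofHom α)).app (ModuleCat.of R N) = 0) := by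
  obtain ⟨P, hP⟩ := Groth.Agent.S6318.result R M
  let P' := projectiveResolution (ModuleCat.of R M')
  let a : ModuleCat.of R M ⟶ ModuleCat.of R M' := ModuleCat.ofHom α
  let φ := ProjectiveResolution.lift a P P'
  have comm : φ.f 0 ≫ P'.π.f 0 = P.π.f 0 ≫ a := ProjectiveResolution.lift_commutes_zero a _ _
  have hE := Groth.Agent.UnivExtLib.ext_iff_factors a P P' φ comm e
  constructor
  · intro h N _ _
    rw [Groth.Agent.UnivExtLib.tor_left_eq_zero_iff a (ModuleCat.of R N) (e + 1),
      Groth.Agent.UnivExtLib.tor_right_iff_tensorZero a P P' φ comm e]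
    refine fun z hz => Groth.Agent.UnivExtLib.tensorZero_of_factors P P' φ e (hE.1 ?_) N z hz
    intro K x
    refine Abelian.Ext.ext ?_
    rw [Abelian.Ext.comp_hom, Abelian.Ext.mk₀_hom, ShiftedHom.mk₀_comp, Abelian.Ext.zero_hom]
    exact h K x.hom
  · intro h N _ _ ψ
    haveI := (hP (e + 1)).1
    haveI := (hP (e + 1)).2
    haveI := (hP e).1
    haveI := (hP e).2
    have hT : Groth.Agent.UnivExtLib.TensorZero P P' φ e := fun W _ _ =>
      (Groth.Agent.UnivExtLib.tor_right_iff_tensorZero a P P' φ comm e (ModuleCat.of R W)).1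
        ((Groth.Agent.UnivExtLib.tor_left_eq_zero_iff a (ModuleCat.of R W) (e + 1)).1 (h W))
    obtain ⟨x, rfl⟩ := (Abelian.Ext.homEquiv (X := ModuleCat.of R M') (Y := ModuleCat.of R N) (n := e + 1)).surjective ψ
    have h' := congrArg Abelian.Ext.hom (hE.2 (Groth.Agent.UnivExtLib.factors_of_tensorZero P P' φ e hT) _ x)
    rw [Abelian.Ext.comp_hom, Abelian.Ext.mk₀_hom, ShiftedHom.mk₀_comp, Abelian.Ext.zero_hom] at h'
    exact h'

end Groth.Agent.S1741
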