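import Groth.Statements.S17410
import Mathlib

set_option autoImplicit false
universe u
open Prym5

namespace Groth.Agent.S17410

open Polynomial
set_option backward.isDefEq.respectTransparency false
set_option maxHeartbeats 1000000

lemma finrank_eq (R : Type u) [CommRing R] [IsDomain R] (h : R[X]) (hne : h ≠ 0) :
    Module.finrank (FractionRing R) (TensorProduct R (FractionRing R) (AdjoinRoot h)) = h.natDegree := by
  let K := FractionRing R
  let hK := h.map (algebraMap R K)
  have hK0 : hK ≠ 0 := (Polynomial.map_ne_zero_iff (IsFractionRing.injective R K)).2 hne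
  let g0 : AdjoinRoot h →ₐ[R] AdjoinRoot hK := AdjoinRoot.liftAlgHom h (Algebra.ofId _ _) (AdjoinRoot.root hK) (by
    have e := AdjoinRoot.eval₂_root hK
    rw [Polynomial.eval₂_map] at e
    exact e)
  let g : TensorProduct R K (AdjoinRoot h) →ₐ[K] AdjoinRoot hK :=
    Algebra.TensorProduct.lift (Algebra.ofId _ _) g0 fun _ _ => .all _ _
  let f : AdjoinRoot hK →ₐ[K] TensorProduct R K (AdjoinRoot h) := AdjoinRoot.liftAlgHom hK (Algebra.ofId _ _)
    ((Algebra.TensorProduct.includeRight : AdjoinRoot h →ₐ[R] _) (AdjoinRoot.root h)) (by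
    show hK.eval₂ (algebraMap K _) _ = 0
    rw [← Polynomial.aeval_def, Polynomial.aeval_map_algebraMap, Polynomial.aeval_algHom_apply, AdjoinRoot.aeval_eq, AdjoinRoot.mk_self, map_zero])
  have h1 : g.comp f = AlgHom.id K _ := AdjoinRoot.algHom_ext (by simp [f, g, g0])
  have h2 : f.comp g = AlgHom.id K _ := Algebra.TensorProduct.ext (by ext) (AdjoinRoot.algHom_ext (by simp [f, g, g0]))
  rw [(AlgEquiv.ofAlgHom g f h1 h2).toLinearEquiv.finrank_eq, (AdjoinRoot.powerBasis hK0).finrank,
    AdjoinRoot.powerBasis_dim, Polynomial.natDegree_map_eq_of_injective (IsFractionRing.injective R K)]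
lemma main (R : Type u) [CommRing R] [IsDomain R] (h : R[X]) (S : Submonoid R) :
    Algebra.IsIntegral (Localization S) (Localization (Algebra.algebraMapSubmonoid (AdjoinRoot h) S))
        ↔ IsUnit (algebraMap R (Localization S) h.leadingCoeff) := by
  let B := AdjoinRoot h
  let RS := Localization S
  let BS := Localization (Algebra.algebraMapSubmonoid B S)
  haveI : IsScalarTower R RS BS := inferInstance
  constructor
  · intro hint
    by_cases h0 : (0 : R) ∈ S
    · have := IsLocalization.subsingleton (S := RS) h0
      exact isUnit_of_subsingleton _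
    obtain ⟨m, P, hP, hPm⟩ := IsIntegral.exists_multiple_integral_of_isLocalization (M := S) (Rₘ := RS)
      (algebraMap B BS (AdjoinRoot.root h)) (hint.isIntegral _)
    have e : algebraMap B BS (Polynomial.aeval ((m : R) • AdjoinRoot.root h) P) = 0 := by
      rw [← IsScalarTower.coe_toAlgHom' R B BS, ← Polynomial.aeval_algHom_apply, map_smul, IsScalarTower.coe_toAlgHom']
      exact hPm
    obtain ⟨⟨_, t, ht, rfl⟩, hc⟩ := (IsLocalization.map_eq_zero_iff (Algebra.algebraMapSubmonoid B S) BS _).1 e
    have hm0 : (m : R) ≠ 0 := fun e => h0 (e ▸ m.2)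
    have ht0 : t ≠ 0 := fun e => h0 (e ▸ ht)
    let Q : Polynomial R := Polynomial.C t * P.comp (Polynomial.C (m : R) * Polynomial.X)
    have hQ : Polynomial.aeval (AdjoinRoot.root h) Q = 0 := by
      rw [map_mul, Polynomial.aeval_C, Polynomial.aeval_comp, map_mul, Polynomial.aeval_C, Polynomial.aeval_X, ← Algebra.smul_def (m : R) (AdjoinRoot.root h)]
      exact hc
    rw [AdjoinRoot.aeval_eq, AdjoinRoot.mk_eq_zero] at hQ
    obtain ⟨D, hD⟩ := hQ
    have hlc : Q.leadingCoeff = t * (m : R) ^ P.natDegree := by
      rw [Polynomial.leadingCoeff_mul, Polynomial.leadingCoeff_C, Polynomial.leadingCoeff_comp, hP.leadingCoeff, one_mul,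
        Polynomial.leadingCoeff_mul, Polynomial.leadingCoeff_C, Polynomial.leadingCoeff_X, mul_one]
      rw [Polynomial.natDegree_C_mul_X _ hm0]; exact one_ne_zero
    rw [hD, Polynomial.leadingCoeff_mul] at hlc
    have hu : IsUnit (algebraMap R RS (h.leadingCoeff * D.leadingCoeff)) := by
      rw [hlc]
      exact IsLocalization.map_units RS (⟨t * (m : R) ^ P.natDegree, S.mul_mem ht (S.pow_mem m.2 _)⟩ : S)
    rw [map_mul] at hu
    exact isUnit_of_mul_isUnit_left hu
  · intro hu
    obtain ⟨u, hu⟩ := hu
    have hroot : IsIntegral RS (algebraMap B BS (AdjoinRoot.root h)) := by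
      refine ⟨Polynomial.C ((u⁻¹ : (Localization S)ˣ) : Localization S) * h.map (algebraMap R RS), ?_, ?_⟩
      · apply Polynomial.monic_of_natDegree_le_of_coeff_eq_one h.natDegree
        · exact (Polynomial.natDegree_C_mul_le _ _).trans Polynomial.natDegree_map_le
        · rw [Polynomial.coeff_C_mul, Polynomial.coeff_map, Polynomial.coeff_natDegree, ← hu, Units.inv_mul]
      · rw [Polynomial.eval₂_mul, Polynomial.eval₂_C, Polynomial.eval₂_map, ← IsScalarTower.algebraMap_eq, ← Polynomial.aeval_def,
          ← IsScalarTower.coe_toAlgHom' R B BS, Polynomial.aeval_algHom_apply, AdjoinRoot.aeval_eq, AdjoinRoot.mk_self, map_zero, mul_zero]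
    refine ⟨fun z => ?_⟩
    obtain ⟨b, ⟨_, s, hs, rfl⟩, rfl⟩ := IsLocalization.exists_mk'_eq (Algebra.algebraMapSubmonoid B S) z
    obtain ⟨q, rfl⟩ := AdjoinRoot.mk_surjective b
    have hb : IsIntegral RS (algebraMap B BS (AdjoinRoot.mk h q)) := by
      rw [← AdjoinRoot.aeval_eq, ← IsScalarTower.coe_toAlgHom' R B BS, ← Polynomial.aeval_algHom_apply, IsScalarTower.coe_toAlgHom',
        ← Polynomial.aeval_map_algebraMap RS]
      exact IsIntegral.of_mem_of_fg _ hroot.fg_adjoin_singleton _ (Polynomial.aeval_mem_adjoin_singleton _ _)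
    have hs' : IsIntegral RS (algebraMap RS BS (IsLocalization.mk' RS (1 : R) ⟨s, hs⟩)) := isIntegral_algebraMap
    have e : IsLocalization.mk' BS (AdjoinRoot.mk h q) (⟨algebraMap R B s, s, hs, rfl⟩ : Algebra.algebraMapSubmonoid B S) =
        algebraMap B BS (AdjoinRoot.mk h q) * algebraMap RS BS (IsLocalization.mk' RS (1 : R) ⟨s, hs⟩) := by
      rw [IsLocalization.mk'_eq_iff_eq_mul]
      show algebraMap B BS _ = _ * algebraMap B BS (algebraMap R B s)
      rw [show algebraMap B BS (algebraMap R B s) = algebraMap RS BS (algebraMap R RS s) by rw [← IsScalarTower.algebraMap_apply, ← IsScalarTower.algebraMap_apply],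
        mul_assoc, ← map_mul, IsLocalization.mk'_spec, map_one, map_one, mul_one]
    exact e ▸ hb.mul hs'

/-- Over a perfect field K of characteristic different from 2 and 3, let h be an irreducible polynomial
of degree 2 in the variable z with coefficients in K[x, y] and A = K[x, y][z]/(h). For every
multiplicative subset S of K[x, y], the localisation S⁻¹A is integral over S⁻¹K[x, y] if and only if
the leading coefficient of h is invertible in S⁻¹K[x, y]; and K(x, y) ⊗ A is a K(x, y)-vector space
of dimension 2. (Geometrically: for a quartic surface with an ordinary double point, written u₂ x₃²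
+ 2 u₃ x₃ + u₄ = 0 with the node at (0:0:0:1), the projection from the node restricted to a standard
affine chart of the plane is given by such an algebra A with leading coefficient the dehomogenised
u₂, so the projection is finite of degree two exactly over the locus u₂ ≠ 0. Stated for any
irreducible h of degree 2, which is all the argument uses.) -/
theorem result (K : Type u) [Field K]
    [PerfectField K] (h2 : (2 : K) ≠ 0) (h3 : (3 : K) ≠ 0)
    (h : Polynomial (MvPolynomial (Fin 2) K)) (hirr : Irreducible h) (hdeg : h.natDegree = 2)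
    (S : Submonoid (MvPolynomial (Fin 2) K)) :
    (Algebra.IsIntegral (Localization S) (Localization (Algebra.algebraMapSubmonoid (AdjoinRoot h) S))
        ↔ IsUnit (algebraMap (MvPolynomial (Fin 2) K) (Localization S) h.leadingCoeff))
      ∧ Module.finrank (FractionRing (MvPolynomial (Fin 2) K))
          (TensorProduct (MvPolynomial (Fin 2) K) (FractionRing (MvPolynomial (Fin 2) K)) (AdjoinRoot h)) = 2 := by
  refine ⟨main _ h S, ?_⟩
  exact (finrank_eq _ h hirr.ne_zero).trans hdeg

end Groth.Agent.S17410
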