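import Groth.Statements.S17411
import Mathlib
import Groth.Agent.FlatDim.Trdeg

set_option autoImplicit false
universe u
open CategoryTheory AlgebraicGeometry
open Prym5

namespace Groth.Agent.S17411

open AlgebraicGeometry CategoryTheory
set_option backward.isDefEq.respectTransparency false

/-- Let k be an algebraically closed field of characteristic zero and X, Y, Z schemes of finite type
over k, with Y and Z irreducible of the same dimension, η : Y → Z a dominant k-morphism and ρ : X →
Y a k-morphism. Then the composite ρ ≫ η is dominant exactly when ρ is dominant. (The published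
statement concerns the forgetful map from the moduli space of étale double covers of genus-five
curves to the moduli space of genus-five curves, both irreducible of dimension 12, and a morphism
into the former; its argument uses only the hypotheses kept here.) -/
theorem result (k : Type u) [Field k] [IsAlgClosed k]
    [CharZero k] (X Y Z : Scheme.{u}) [X.Over (Spec (CommRingCat.of k))] [Y.Over (Spec (CommRingCat.of k))]
    [Z.Over (Spec (CommRingCat.of k))]
    [LocallyOfFiniteType (X ↘ Spec (CommRingCat.of k))] [QuasiCompact (X ↘ Spec (CommRingCat.of k))]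
    [LocallyOfFiniteType (Y ↘ Spec (CommRingCat.of k))] [QuasiCompact (Y ↘ Spec (CommRingCat.of k))]
    [LocallyOfFiniteType (Z ↘ Spec (CommRingCat.of k))] [QuasiCompact (Z ↘ Spec (CommRingCat.of k))]
    [IrreducibleSpace Y] [IrreducibleSpace Z] (hdim : topologicalKrullDim Y = topologicalKrullDim Z)
    (ρ : X ⟶ Y) [ρ.IsOver (Spec (CommRingCat.of k))] (η : Y ⟶ Z) [η.IsOver (Spec (CommRingCat.of k))]
    [IsDominant η] :
    IsDominant (ρ ≫ η) ↔ IsDominant ρ := by
  refine ⟨fun h => ?_, fun h => inferInstance⟩
  haveI := h
  let qX := X ↘ Spec (CommRingCat.of k)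
  let qY := Y ↘ Spec (CommRingCat.of k)
  let qZ := Z ↘ Spec (CommRingCat.of k)
  haveI : IsLocallyNoetherian X := LocallyOfFiniteType.isLocallyNoetherian qX
  haveI : CompactSpace X := QuasiCompact.compactSpace_of_compactSpace qX
  haveI : AlgebraicGeometry.IsNoetherian X := ⟨⟩
  obtain ⟨x, hx⟩ : ∃ x, (ρ ≫ η) x = genericPoint Z := by
    have hfin := TopologicalSpace.NoetherianSpace.finite_irreducibleComponents (α := X)
    choose g hg using fun C : irreducibleComponents X => Groth.Agent.FlatDim.exists_generic_of_component C.2
    haveI := hfin.to_subtype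
    have hsub : Set.range (ρ ≫ η) ⊆ ⋃ C : irreducibleComponents X, closure {(ρ ≫ η) (g C)} := by
      rintro _ ⟨p, rfl⟩
      refine Set.mem_iUnion.2 ⟨⟨irreducibleComponent p, irreducibleComponent_mem_irreducibleComponents p⟩, ?_⟩
      refine specializes_iff_mem_closure.1 (((specializes_iff_mem_closure.2 ?_)).map (ρ ≫ η).continuous)
      rw [(hg _).1]; exact mem_irreducibleComponent
    have hd : genericPoint Z ∈ ⋃ C : irreducibleComponents X, closure {(ρ ≫ η) (g C)} := by
      have h1 := closure_minimal hsub (isClosed_iUnion_of_finite fun _ => isClosed_closure)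
      rw [(ρ ≫ η).denseRange.closure_range] at h1
      exact h1 trivial
    obtain ⟨C, hC⟩ := Set.mem_iUnion.1 hd
    exact ⟨g C, ((specializes_iff_mem_closure.2 hC).antisymm (genericPoint_specializes _)).eq⟩
  have hq : η ≫ qZ = qY := CategoryTheory.comp_over η _
  obtain ⟨t, ht, hct⟩ := Groth.Agent.FlatDim.topologicalKrullDim_closure k qY (ρ x)
  obtain ⟨n, hn, hcn⟩ := Groth.Agent.FlatDim.topologicalKrullDim_closure k qY (genericPoint Y)
  obtain ⟨m, hm, hcm⟩ := Groth.Agent.FlatDim.topologicalKrullDim_closure k qZ (genericPoint Z)
  have hnm : n = m := by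
    have h1 := Groth.Agent.DimFormulaLib.topologicalKrullDim_eq_trdeg qY n hn
    have h2 := Groth.Agent.DimFormulaLib.topologicalKrullDim_eq_trdeg qZ m hm
    rw [hdim, h2] at h1
    exact_mod_cast h1.symm
  have hmt : m ≤ t := by
    have h1 := Groth.Agent.FlatDim.resTrdegAt_comp η qZ (ρ x)
    rw [Groth.Agent.FlatDim.resTrdegAt_congr hq, ht, show η (ρ x) = genericPoint Z from hx, hm] at h1
    have : (m : Cardinal) ≤ t := by rw [h1]; exact self_le_add_right _ _
    exact_mod_cast this
  have hy : ρ x = genericPoint Y := by
    by_contra hne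
    have hlt : ρ x < genericPoint Y :=
      lt_of_le_not_ge (Scheme.le_iff_specializes.2 (genericPoint_specializes _))
        (fun hle => hne ((Scheme.le_iff_specializes.1 hle).antisymm (genericPoint_specializes _)).eq)
    rw [Groth.Agent.DimFormulaLib.topologicalKrullDim_closure_singleton] at hct hcn
    have h1 : Order.height (ρ x) = (t : ℕ∞) := by exact_mod_cast hct
    have h2 : Order.height (genericPoint Y) = (n : ℕ∞) := by exact_mod_cast hcn
    have h3 := Order.height_add_one_le hlt
    rw [h1, h2] at h3
    have : t + 1 ≤ n := by exact_mod_cast h3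
    omega
  refine ⟨dense_iff_closure_eq.2 (Set.eq_univ_of_univ_subset ?_)⟩
  rw [← (genericPoint_spec Y).def]
  exact closure_mono (Set.singleton_subset_iff.2 ⟨x, hy⟩)

end Groth.Agent.S17411
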