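import Groth.Statements.S17412
import Groth.Agent.CanCurveLib.ProjEquiv
import Groth.Agent.CurveFF.BC

set_option autoImplicit false
universe u
open CategoryTheory CategoryTheory.Limits AlgebraicGeometry
open Prym5

namespace Groth.Agent.S17412

open Groth.Agent.ProjUPLib Groth.Agent.S7676 TopologicalSpace Opposite

set_option backward.isDefEq.respectTransparency false
set_option maxHeartbeats 1000000


/-- Let k be an algebraically closed field of characteristic zero, g ≥ 3, and X₁, X₂ smooth proper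
integral curves of genus g over k. Suppose each X_j is canonically embedded: i_j : X_j → P^{g-1}_k
is a closed immersion over k, the pullback i_j^* O(1) is isomorphic to the sheaf of differentials of
X_j over k, and X_j lies in no hyperplane (the restriction map from the global sections of O(1) to
those of i_j^* O(1) is injective). Then X₁ and X₂ are isomorphic over k exactly when they are
projectively equivalent: there are a k-automorphism σ of P^{g-1}_k and an isomorphism ψ : X₁ ≅ X₂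
with i₁ ≫ σ = ψ ≫ i₂. (Projective equivalence is expressed through k-automorphisms of the scheme
P^{g-1}_k; that these are exactly the projective linear transformations is classical and not
restated.) -/
theorem result (k : Type u) [Field k] [IsAlgClosed k]
    [CharZero k] (g : ℕ) (hg : 3 ≤ g)
    (X₁ X₂ : Scheme.{u}) [X₁.Over (Spec (CommRingCat.of k))] [X₂.Over (Spec (CommRingCat.of k))]
    [AlgebraicGeometry.IsIntegral X₁] [AlgebraicGeometry.IsIntegral X₂]
    [IsProper (X₁ ↘ Spec (CommRingCat.of k))] [IsProper (X₂ ↘ Spec (CommRingCat.of k))]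
    [Smooth (X₁ ↘ Spec (CommRingCat.of k))] [Smooth (X₂ ↘ Spec (CommRingCat.of k))]
    (hd₁ : topologicalKrullDim X₁ = 1) (hd₂ : topologicalKrullDim X₂ = 1)
    (hg₁ : Curv2.genus k X₁ = g) (hg₂ : Curv2.genus k X₂ = g)
    (i₁ : X₁ ⟶ CohB1.ProjSpace (g - 1) k) (i₂ : X₂ ⟶ CohB1.ProjSpace (g - 1) k)
    [IsClosedImmersion i₁] [IsClosedImmersion i₂]
    (hi₁ : i₁ ≫ CohB1.ProjSpace.toSpec (g - 1) k = X₁ ↘ Spec (CommRingCat.of k))
    (hi₂ : i₂ ≫ CohB1.ProjSpace.toSpec (g - 1) k = X₂ ↘ Spec (CommRingCat.of k))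
    (e₁ : (Scheme.Modules.pullback i₁).obj (Twist.twistProjSpace (g - 1) k 1)
      ≅ Omega.sheaf (X₁ ↘ Spec (CommRingCat.of k)))
    (e₂ : (Scheme.Modules.pullback i₂).obj (Twist.twistProjSpace (g - 1) k 1)
      ≅ Omega.sheaf (X₂ ↘ Spec (CommRingCat.of k)))
    (hnd₁ : Function.Injective
      (((Scheme.Modules.pullbackPushforwardAdjunction i₁).unit.app (Twist.twistProjSpace (g - 1) k 1)).app ⊤))
    (hnd₂ : Function.Injective
      (((Scheme.Modules.pullbackPushforwardAdjunction i₂).unit.app (Twist.twistProjSpace (g - 1) k 1)).app ⊤)) :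
    (∃ φ : X₁ ≅ X₂, φ.hom ≫ (X₂ ↘ Spec (CommRingCat.of k)) = X₁ ↘ Spec (CommRingCat.of k)) ↔
      ∃ (σ : CohB1.ProjSpace (g - 1) k ≅ CohB1.ProjSpace (g - 1) k) (ψ : X₁ ≅ X₂),
        σ.hom ≫ CohB1.ProjSpace.toSpec (g - 1) k = CohB1.ProjSpace.toSpec (g - 1) k ∧
        i₁ ≫ σ.hom = ψ.hom ≫ i₂ := by
  classical
  constructor
  swap
  · rintro ⟨σ, ψ, hσ, hψ⟩
    exact ⟨ψ, by rw [← hi₂, ← Category.assoc, ← hψ, Category.assoc, hσ, hi₁]⟩
  rintro ⟨φ, hφ⟩
  obtain ⟨m, rfl⟩ : ∃ m, g = m + 1 := ⟨g - 1, by omega⟩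
  let T := Twist.twistProjSpace (m + 1 - 1) k 1
  let N := m + 1 - 1
  let x := ProjUP.coord N k
  let p₁ := X₁ ↘ Spec (CommRingCat.of k)
  let p₂ := X₂ ↘ Spec (CommRingCat.of k)
  let r₂ := φ.hom ≫ i₂
  have hr₂ : r₂ ≫ CohB1.ProjSpace.toSpec N k = p₁ := by
    simp only [r₂, Category.assoc]; rw [hi₂, hφ]
  obtain ⟨c, hc, -⟩ := Groth.Agent.S9370.result p₂ p₁ φ.hom (𝟙 _) (by rw [Category.comp_id]; exact hφ.symm)
    _ _ (OmegaUnivLib.isUniversal_dOmega _) _ _ (OmegaUnivLib.isUniversal_dOmega _)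
  haveI := Groth.Agent.S9386.result p₂ (𝟙 _) φ.hom p₁
    (IsPullback.of_horiz_isIso ⟨by rw [Category.comp_id]; exact hφ⟩)
    _ _ (OmegaUnivLib.isUniversal_dOmega _) _ _ (OmegaUnivLib.isUniversal_dOmega _) c hc
  let θ : (Scheme.Modules.pullback r₂).obj T ≅ (Scheme.Modules.pullback i₁).obj T :=
    (Scheme.Modules.pullbackComp φ.hom i₂).symm.app T ≪≫ (Scheme.Modules.pullback φ.hom).mapIso e₂ ≪≫
      asIso c ≪≫ e₁.symm
  let u : Fin (N + 1) → ProjUP.Γm ((Scheme.Modules.pullback i₁).obj T) := fun j => ProjUP.pullSec i₁ T (x j)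
  let v : Fin (N + 1) → ProjUP.Γm ((Scheme.Modules.pullback i₁).obj T) := fun j =>
    θ.hom.app ⊤ (ProjUP.pullSec r₂ T (x j))
  have hu : Function.Injective (combine p₁ u) := fun a b h => by
    refine HodgePnLib.combine_coord_injective (hnd₁ ?_)
    show ProjUP.pullSec i₁ T (combine (CohB1.ProjSpace.toSpec N k) x a) =
      ProjUP.pullSec i₁ T (combine (CohB1.ProjSpace.toSpec N k) x b)
    rw [pullSec_combine, pullSec_combine, combine_congr hi₁ (fun _ => rfl), combine_congr hi₁ (fun _ => rfl)]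
    exact h
  have hv : Function.Injective (combine p₁ v) := fun a b h => by
    refine HodgePnLib.combine_coord_injective (hnd₂ ((ASBunKS.bijective_pullSec φ.hom
      ((Scheme.Modules.pullback i₂).obj T)).1 ?_))
    show ProjUP.pullSec φ.hom _ (ProjUP.pullSec i₂ T (combine (CohB1.ProjSpace.toSpec N k) x a)) =
      ProjUP.pullSec φ.hom _ (ProjUP.pullSec i₂ T (combine (CohB1.ProjSpace.toSpec N k) x b))
    rw [← pullSec_comp_inv, ← pullSec_comp_inv]
    refine congrArg _ (app_iso_injective θ ?_)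
    rw [pullSec_combine, pullSec_combine, app_combine, app_combine, combine_congr hr₂ (fun _ => rfl),
      combine_congr hr₂ (fun _ => rfl)]
    exact h
  let L := (Scheme.Modules.pullback i₁).obj T
  letI := ASBunKS.secMod p₁ L
  let e : Coh.HH X₁ L 0 ≃ₗ[k] ProjUP.Γm L :=
    { (CurveLib.secOf L) with map_smul' := fun r c => CurveLib.secOf_smul (k := k) _ r c }
  haveI := VBLib.isRegCurve_of_smooth k (X := X₁) hd₁.le
  haveI := EulerIneqLib.isNoetherian_proper (X := X₁) k
  have hdimL : Module.finrank k (ProjUP.Γm L) = N + 1 := by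
    rw [← e.finrank_eq, ShBCLib.finrank_HH_iso e₁ 0]
    refine (CurveFF.omega_h0 k hd₁).trans ?_
    rw [hg₁]
    omega
  haveI : Module.Finite k (ProjUP.Γm L) := Module.finite_of_finrank_pos (by rw [hdimL]; omega)
  have surj : ∀ w : Fin (N + 1) → ProjUP.Γm L, Function.Injective (combine p₁ w) →
      Function.Surjective (combine p₁ w) := fun w hw => by
    let l : (Fin (N + 1) → k) →ₗ[k] ProjUP.Γm L :=
      { toFun := combine p₁ w
        map_add' := map_add _
        map_smul' := fun a c => combine_smul p₁ w a c }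
    exact (LinearMap.injective_iff_surjective_of_finrank_eq_finrank (f := l)
      (by rw [hdimL, Module.finrank_fin_fun])).1 hw
  choose A hA using fun j => surj u hu (v j)
  choose B hB using fun j => surj v hv (u j)
  have hAB : Matrix.of B * Matrix.of A = 1 := by
    refine funext fun j => hu ?_
    rw [Matrix.mul_apply_eq_vecMul, CanCurveLib.combine_one_row, ← CanCurveLib.combine_combine]
    exact (combine_congr rfl (fun i => hA i) _).trans (hB j)
  obtain ⟨σ, hσ, τ, hτ⟩ := CanCurveLib.exists_aut (mul_eq_one_comm.1 hAB) hAB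
  obtain ⟨ρ, hρ⟩ := CanCurveLib.exists_compIso i₁ σ.hom hσ τ (Matrix.of A) hτ
  refine ⟨σ, φ, hσ, ?_⟩
  refine hom_ext_projSpace _ _ (by rw [Category.assoc, hσ, hi₁]; exact hr₂.symm) (ρ ≪≫ θ.symm) fun j => ?_
  show θ.inv.app ⊤ (ρ.hom.app ⊤ _) = _
  rw [hρ, combine_congr hi₁ (fun _ => rfl)]
  refine (congrArg (θ.inv.app ⊤) (hA j)).trans ?_
  exact congr($(θ.hom_inv_id).app ⊤ (ProjUP.pullSec r₂ T (x j)))
end Groth.Agent.S17412
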