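import Groth.Statements.S17413
import Groth.Agent.CotangentInjLib.Basic
import Groth.Agent.GenSmoothLib.Basic
import Groth.Agent.GenSmooth.Rat
import Groth.Agent.S1561
import Mathlib.AlgebraicGeometry.AlgClosed.Basic

set_option autoImplicit false
universe u
open CategoryTheory AlgebraicGeometry
open Prym5

namespace Groth.Agent.S17413

/-- Let k be an algebraically closed field of characteristic zero, X a reduced scheme of finite type
over k, Y an integral scheme of finite type over k and u : X → Y a k-morphism. Then u is dominant if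
and only if there is a closed point P of X such that X is regular at P and the differential of u at
P is surjective onto the tangent space of Y at u(P); surjectivity of the differential is written
dually as injectivity of the map of cotangent spaces m_{u(P)}/m_{u(P)}² → m_P/m_P² induced by the
local homomorphism of u at P. (The published statement asks only that Y be irreducible, puts no
condition on P and concludes that the scheme-theoretic image is all of Y. Without regularity at P
the backward implication fails: the inclusion of the union of the two coordinate axes into the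
affine plane induces a bijection of tangent spaces at the origin and is not dominant. Without
reducedness of Y the forward implication fails: the reduced line inside the doubled line y² = 0 is
dominant but its differential is nowhere surjective. For Y integral and u quasi-compact, dominance
is the same as the scheme-theoretic image being Y.) -/
theorem result (k : Type u) [Field k]
    [IsAlgClosed k] [CharZero k] (X Y : Scheme.{u})
    [X.Over (Spec (CommRingCat.of k))] [Y.Over (Spec (CommRingCat.of k))]
    [LocallyOfFiniteType (X ↘ Spec (CommRingCat.of k))] [QuasiCompact (X ↘ Spec (CommRingCat.of k))]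
    [LocallyOfFiniteType (Y ↘ Spec (CommRingCat.of k))] [QuasiCompact (Y ↘ Spec (CommRingCat.of k))]
    [AlgebraicGeometry.IsReduced X] [AlgebraicGeometry.IsIntegral Y] (u : X ⟶ Y) [u.IsOver (Spec (CommRingCat.of k))] :
    IsDominant u ↔
      ∃ P : X, IsClosed ({P} : Set X) ∧ IsRegularLocalRing (X.presheaf.stalk P) ∧
        ∀ a ∈ IsLocalRing.maximalIdeal (Y.presheaf.stalk (u P)),
          (u.stalkMap P).hom a ∈ IsLocalRing.maximalIdeal (X.presheaf.stalk P) ^ 2 →
            a ∈ IsLocalRing.maximalIdeal (Y.presheaf.stalk (u P)) ^ 2 := by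
  have hu : u ≫ (Y ↘ Spec (CommRingCat.of k)) = X ↘ Spec (CommRingCat.of k) := comp_over _ _
  haveI : LocallyOfFiniteType (u ≫ (Y ↘ Spec (CommRingCat.of k))) := hu ▸ inferInstance
  haveI : LocallyOfFiniteType u := locallyOfFiniteType_of_comp u (Y ↘ Spec (CommRingCat.of k))
  haveI : IsLocallyNoetherian Y := LocallyOfFiniteType.isLocallyNoetherian (Y ↘ Spec (CommRingCat.of k))
  haveI : IsLocallyNoetherian X := LocallyOfFiniteType.isLocallyNoetherian (X ↘ Spec (CommRingCat.of k))
  haveI : LocallyOfFinitePresentation (X ↘ Spec (CommRingCat.of k)) :=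
    (LocallyOfFinitePresentation.iff_locallyOfFiniteType).2 inferInstance
  haveI : LocallyOfFinitePresentation u := (LocallyOfFinitePresentation.iff_locallyOfFiniteType).2 inferInstance
  haveI : CompactSpace X := QuasiCompact.compactSpace_of_compactSpace (X ↘ Spec (CommRingCat.of k))
  haveI : IsNoetherian X := {}
  haveI : JacobsonSpace X := LocallyOfFiniteType.jacobsonSpace (X ↘ Spec (CommRingCat.of k))
  -- rational closed points
  have hres : ∀ P : X, IsClosed ({P} : Set X) → ∀ b : X.presheaf.stalk P, ∃ a : Y.presheaf.stalk (u P),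
      b - (u.stalkMap P).hom a ∈ IsLocalRing.maximalIdeal (X.presheaf.stalk P) := by
    intro P hP b
    let ψY := Spec.preimage (Y.fromSpecResidueField (u P) ≫ (Y ↘ Spec (CommRingCat.of k)))
    have hψ : ψY ≫ u.residueFieldMap P = (residueFieldIsoBase (X ↘ Spec (CommRingCat.of k)) P hP).inv := by
      apply Spec.map_injective
      rw [Spec.map_comp, Spec.map_preimage, SpecMap_residueFieldIsoBase_inv,
        Scheme.Hom.SpecMap_residueFieldMap_fromSpecResidueField_assoc, hu]
    obtain ⟨c, hc⟩ := (ConcreteCategory.bijective_of_isIso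
      (residueFieldIsoBase (X ↘ Spec (CommRingCat.of k)) P hP).inv).2 ((X.residue P).hom b)
    rw [← hψ] at hc
    obtain ⟨a, ha⟩ := Y.residue_surjective (u P) (ψY.hom c)
    refine ⟨a, Ideal.Quotient.eq.1 ?_⟩
    show (X.residue P).hom b = (X.residue P).hom ((u.stalkMap P).hom a)
    rw [← hc, CommRingCat.comp_apply, ← ha]
    exact (ConcreteCategory.congr_hom (Scheme.residue_residueFieldMap u P) a)
  constructor
  · intro hd
    -- a point over the generic point of `Y` which is generic in `X`
    obtain ⟨ξ, hξ, hmax⟩ : ∃ ξ : X, u ξ = genericPoint Y ∧ Groth.Agent.GenSmooth.IsMaxPt X ξ := by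
      have hfin : (irreducibleComponents X).Finite := TopologicalSpace.NoetherianSpace.finite_irreducibleComponents
      haveI := hfin.to_subtype
      have hcov : (Set.univ : Set Y) ⊆ ⋃ C : irreducibleComponents X, closure (u '' (C : Set X)) := by
        rw [← hd.denseRange.closure_eq]
        refine closure_minimal ?_ (isClosed_iUnion_of_finite fun _ => isClosed_closure)
        rintro _ ⟨z, rfl⟩
        obtain ⟨C, hC, hzC⟩ := exists_mem_irreducibleComponents_subset_of_isIrreducible ({z} : Set X) isIrreducible_singleton
        exact Set.mem_iUnion.2 ⟨⟨C, hC⟩, subset_closure ⟨z, hzC rfl, rfl⟩⟩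
      obtain ⟨⟨C, hC⟩, hηC⟩ := Set.mem_iUnion.1 (hcov (Set.mem_univ (genericPoint Y)))
      obtain ⟨ξ, hξ⟩ := QuasiSober.sober hC.1 (isClosed_of_mem_irreducibleComponents C hC)
      refine ⟨ξ, ?_, fun y hy => ?_⟩
      · have h1 : genericPoint Y ∈ closure ({u ξ} : Set Y) := by
          rw [(hξ.image u.continuous).def]
          exact hηC
        exact ((specializes_iff_mem_closure.2 h1).antisymm ((genericPoint_spec Y).specializes trivial)).eq
      · have h1 : C ⊆ closure ({y} : Set X) := hξ.def ▸ hy.closure_subset
        have h2 : y ∈ C := hC.2 isIrreducible_singleton.closure h1 (subset_closure rfl)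
        exact (hy.antisymm (hξ.specializes h2)).eq
    haveI : IsRegularLocalRing (X.presheaf.stalk ξ) := by
      letI := (Groth.Agent.GenSmooth.isField_stalk_maxPt hmax).toField
      infer_instance
    have hmem : ξ ∈ u.smoothLocus :=
      Groth.Agent.GenSmoothLib.mem_smoothLocus_of_regular (Y ↘ Spec (CommRingCat.of k)) u ξ hξ
    obtain ⟨hreg, hdense⟩ := Groth.Agent.S1561.result k X
    obtain ⟨z, hz⟩ := hdense.inter_open_nonempty (u.smoothLocus : Set X) u.smoothLocus.2 ⟨ξ, hmem⟩
    obtain ⟨P, ⟨hP1, hP2⟩, hP⟩ := nonempty_inter_closedPoints (Z := (u.smoothLocus : Set X) ∩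
      ((X ↘ (Spec (CommRingCat.of k))).smoothLocus : Set X)) ⟨z, hz⟩
      (u.smoothLocus.2.inter (X ↘ (Spec (CommRingCat.of k))).smoothLocus.2).isLocallyClosed
    refine ⟨P, hP, (hreg P).1 hP2, fun a _ ha2 => ?_⟩
    letI : Algebra (Y.presheaf.stalk (u P)) (X.presheaf.stalk P) := (u.stalkMap P).hom.toAlgebra
    haveI : IsLocalHom (algebraMap (Y.presheaf.stalk (u P)) (X.presheaf.stalk P)) :=
      inferInstanceAs (IsLocalHom (u.stalkMap P).hom)
    haveI : Algebra.FormallySmooth (Y.presheaf.stalk (u P)) (X.presheaf.stalk P) := Scheme.Hom.mem_smoothLocus.1 hP1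
    exact Groth.Agent.CotangentInjLib.mem_sq_of_formallySmooth (hres P hP) ha2
  · rintro ⟨P, hP, hreg, hinj⟩
    letI : Algebra (Y.presheaf.stalk (u P)) (X.presheaf.stalk P) := (u.stalkMap P).hom.toAlgebra
    haveI : IsLocalHom (algebraMap (Y.presheaf.stalk (u P)) (X.presheaf.stalk P)) :=
      inferInstanceAs (IsLocalHom (u.stalkMap P).hom)
    have hinj' : Function.Injective (u.stalkMap P).hom :=
      Groth.Agent.CotangentInjLib.injective_of_cotangent (hres P hP) hinj
    have hη : genericPoint Y ∈ Set.range (Y.fromSpecStalk (u P)) := by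
      rw [Scheme.range_fromSpecStalk]
      exact (genericPoint_spec Y).specializes trivial
    obtain ⟨p, hp⟩ := hη
    obtain ⟨q, hq, hqc⟩ := Ideal.exists_comap_eq_of_mem_minimalPrimes (f := (u.stalkMap P).hom) (I := ⊥) (⊥ : Ideal (Y.presheaf.stalk (u P))) (by
      rw [← RingHom.ker_eq_comap_bot, (RingHom.injective_iff_ker_eq_bot _).1 hinj',
        Ideal.minimalPrimes_eq_subsingleton_self]
      exact Set.mem_singleton _)
    refine ⟨?_⟩
    have hgen : u ((X.fromSpecStalk P) ⟨q, hq⟩) = genericPoint Y := by
      rw [← Scheme.Hom.comp_apply, ← Scheme.SpecMap_stalkMap_fromSpecStalk, Scheme.Hom.comp_apply]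
      refine (Specializes.antisymm ?_ ((genericPoint_spec Y).specializes trivial)).eq
      rw [← hp]
      refine Specializes.map ((PrimeSpectrum.le_iff_specializes _ _).1 ?_) (Y.fromSpecStalk (u P)).continuous
      show q.comap (u.stalkMap P).hom ≤ p.asIdeal
      rw [hqc.2]
      exact bot_le
    refine Dense.mono (Set.singleton_subset_iff.2 ⟨_, hgen⟩) ?_
    rw [dense_iff_closure_eq]
    exact genericPoint_spec Y

end Groth.Agent.S17413
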