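import Groth.Statements.S17414
import Mathlib.RingTheory.MvPolynomial.Ideal

set_option autoImplicit false
universe u
open Prym5

namespace Groth.Agent.S17414

open MvPolynomial

theorem mem_m_iff {n : ℕ} {K : Type u} [CommRing K] (p : MvPolynomial (Fin n) K) :
    p ∈ Ideal.span (Set.range (X : Fin n → MvPolynomial (Fin n) K)) ↔ constantCoeff p = 0 := by
  have := MvPolynomial.mem_pow_idealOfVars_iff' (σ := Fin n) (R := K) 1 p
  rw [pow_one] at this
  refine this.trans ⟨fun h => ?_, fun h x hx => ?_⟩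
  · rw [MvPolynomial.constantCoeff_eq]; exact h 0 (by simp)
  · have hx0 : x = 0 := (Finsupp.degree_eq_zero_iff x).mp (by omega)
    subst hx0; rwa [MvPolynomial.constantCoeff_eq] at h

/-- Over a perfect field K of characteristic different from 2 and 3, let G₂, G₃, G₄ be polynomials in x,
y, let h = G₂ z² + 2 G₃ z + G₄ in K[x, y, z] and D = G₃² − G₂ G₄ in K[x, y]. Suppose h ∈ (x, y, z) —
the origin Q lies on the surface h = 0 — and D ∈ (x, y) — the image of Q under (x, y, z) ↦ (x, y)
lies on the discriminant curve D = 0. Then D ∈ (x, y)², i.e. the image point is singular on the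
discriminant curve, if and only if either h ∈ (x, y, z)², i.e. Q is a singular point of the surface,
or G₂, G₃, G₄ ∈ (x, y), i.e. Q lies on all three cones G₂ = G₃ = G₄ = 0. (Affine-local form, in a
chart where the node projected from sits at infinity on the z-axis and Q at the origin, of the
published claim: for a point Q ≠ P of the nodal quartic whose projection lies on the branch sextic,
the projection is singular on the sextic exactly when Q is singular on the quartic or lies on the
cones u₂ = u₃ = u₄ = 0.) -/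
theorem result (K : Type u) [Field K] [PerfectField K]
    (h2 : (2 : K) ≠ 0) (h3 : (3 : K) ≠ 0) (G₂ G₃ G₄ : MvPolynomial (Fin 2) K)
    (hQ : MvPolynomial.rename (Fin.castSucc : Fin 2 → Fin 3) G₂ * MvPolynomial.X (2 : Fin 3) ^ 2
        + 2 * MvPolynomial.rename (Fin.castSucc : Fin 2 → Fin 3) G₃ * MvPolynomial.X (2 : Fin 3)
        + MvPolynomial.rename (Fin.castSucc : Fin 2 → Fin 3) G₄
        ∈ Ideal.span (Set.range (MvPolynomial.X : Fin 3 → MvPolynomial (Fin 3) K)))
    (hD : G₃ ^ 2 - G₂ * G₄ ∈ Ideal.span (Set.range (MvPolynomial.X : Fin 2 → MvPolynomial (Fin 2) K))) :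
    G₃ ^ 2 - G₂ * G₄ ∈ (Ideal.span (Set.range (MvPolynomial.X : Fin 2 → MvPolynomial (Fin 2) K))) ^ 2 ↔
      (MvPolynomial.rename (Fin.castSucc : Fin 2 → Fin 3) G₂ * MvPolynomial.X (2 : Fin 3) ^ 2
          + 2 * MvPolynomial.rename (Fin.castSucc : Fin 2 → Fin 3) G₃ * MvPolynomial.X (2 : Fin 3)
          + MvPolynomial.rename (Fin.castSucc : Fin 2 → Fin 3) G₄
          ∈ (Ideal.span (Set.range (MvPolynomial.X : Fin 3 → MvPolynomial (Fin 3) K))) ^ 2 ∨
        (G₂ ∈ Ideal.span (Set.range (MvPolynomial.X : Fin 2 → MvPolynomial (Fin 2) K)) ∧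
          G₃ ∈ Ideal.span (Set.range (MvPolynomial.X : Fin 2 → MvPolynomial (Fin 2) K)) ∧
          G₄ ∈ Ideal.span (Set.range (MvPolynomial.X : Fin 2 → MvPolynomial (Fin 2) K)))) := by
  classical
  set m := Ideal.span (Set.range (MvPolynomial.X : Fin 2 → MvPolynomial (Fin 2) K)) with hm
  set M := Ideal.span (Set.range (MvPolynomial.X : Fin 3 → MvPolynomial (Fin 3) K)) with hM
  have h4 : MvPolynomial.constantCoeff G₄ = 0 := by
    have := (mem_m_iff _).1 hQ
    simpa [MvPolynomial.constantCoeff_rename] using this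
  have h3' : MvPolynomial.constantCoeff G₃ = 0 := by
    have := (mem_m_iff _).1 hD
    simpa [h4] using this
  have m4 : G₄ ∈ m := (mem_m_iff _).2 h4
  have m3 : G₃ ∈ m := (mem_m_iff _).2 h3'
  have hren : m.map (MvPolynomial.rename (Fin.castSucc : Fin 2 → Fin 3)).toRingHom ≤ M := by
    rw [hm, Ideal.map_span, Ideal.span_le]
    rintro _ ⟨_, ⟨i, rfl⟩, rfl⟩
    exact Ideal.subset_span ⟨Fin.castSucc i, by simp⟩
  let σ : MvPolynomial (Fin 3) K →ₐ[K] MvPolynomial (Fin 2) K :=
    MvPolynomial.aeval ![MvPolynomial.X 0, MvPolynomial.X 1, 0]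
  have hσM : M.map σ.toRingHom ≤ m := by
    rw [hM, Ideal.map_span, Ideal.span_le]
    rintro _ ⟨_, ⟨i, rfl⟩, rfl⟩
    show σ (MvPolynomial.X i) ∈ m
    simp only [σ, MvPolynomial.aeval_X]
    fin_cases i
    · exact Ideal.subset_span ⟨0, by simp⟩
    · exact Ideal.subset_span ⟨1, by simp⟩
    · exact Submodule.zero_mem _
  have hσr : ∀ g : MvPolynomial (Fin 2) K, σ (MvPolynomial.rename (Fin.castSucc : Fin 2 → Fin 3) g) = g := by
    intro g
    have : σ.comp (MvPolynomial.rename (Fin.castSucc : Fin 2 → Fin 3)) = AlgHom.id K _ := by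
      apply MvPolynomial.algHom_ext
      intro i
      fin_cases i <;> simp [σ]
    exact AlgHom.congr_fun this g
  have sq : ∀ a b : MvPolynomial (Fin 2) K, a ∈ m → b ∈ m → a * b ∈ m ^ 2 := fun a b ha hb => by
    rw [pow_two]; exact Ideal.mul_mem_mul ha hb
  constructor
  · intro hDD
    by_cases h2' : MvPolynomial.constantCoeff G₂ = 0
    · exact Or.inr ⟨(mem_m_iff _).2 h2', m3, m4⟩
    · left
      have h44 : G₂ * G₄ ∈ m ^ 2 := by
        have := (m ^ 2).sub_mem (sq _ _ m3 m3) hDD
        convert this using 1; ring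
      have h45 : MvPolynomial.C (MvPolynomial.constantCoeff G₂) * G₄ ∈ m ^ 2 := by
        have := (m ^ 2).sub_mem h44 (sq (G₂ - MvPolynomial.C (MvPolynomial.constantCoeff G₂)) G₄
          ((mem_m_iff _).2 (by simp)) m4)
        convert this using 1; ring
      have h46 : G₄ ∈ m ^ 2 := by
        have := (m ^ 2).mul_mem_left (MvPolynomial.C (MvPolynomial.constantCoeff G₂)⁻¹) h45
        rwa [← mul_assoc, ← map_mul, inv_mul_cancel₀ h2', map_one, one_mul] at this
      have hz : (MvPolynomial.X (2 : Fin 3) : MvPolynomial (Fin 3) K) ∈ M := Ideal.subset_span ⟨2, rfl⟩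
      have h3r : MvPolynomial.rename (Fin.castSucc : Fin 2 → Fin 3) G₃ ∈ M := hren (Ideal.mem_map_of_mem _ m3)
      have h4r : MvPolynomial.rename (Fin.castSucc : Fin 2 → Fin 3) G₄ ∈ M ^ 2 := by
        have := Ideal.mem_map_of_mem (MvPolynomial.rename (Fin.castSucc : Fin 2 → Fin 3)).toRingHom h46
        rw [Ideal.map_pow] at this
        exact Ideal.pow_right_mono hren 2 this
      refine Submodule.add_mem _ (Submodule.add_mem _ ?_ ?_) h4r
      · exact (M ^ 2).mul_mem_left _ (Ideal.pow_mem_pow hz 2)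
      · rw [pow_two, mul_assoc]
        exact (M * M).mul_mem_left _ (Ideal.mul_mem_mul h3r hz)
  · rintro (hh | ⟨m2, -, -⟩)
    · have hh2 := Ideal.mem_map_of_mem σ.toRingHom hh
      rw [Ideal.map_pow] at hh2
      have hh3 : G₄ ∈ m ^ 2 := by
        have := Ideal.pow_right_mono hσM 2 hh2
        have e : σ (MvPolynomial.X (2 : Fin 3)) = 0 := by simp [σ]
        simpa [hσr, e] using this
      exact (m ^ 2).sub_mem (Ideal.pow_mem_pow m3 2) ((m ^ 2).mul_mem_left _ hh3)
    · exact (m ^ 2).sub_mem (Ideal.pow_mem_pow m3 2) (sq _ _ m2 m4)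

end Groth.Agent.S17414
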