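import Groth.Statements.S17417
import Groth.Agent.PullbackMod.Flat
import Groth.Agent.PullbackMod.Props
import Groth.Agent.FibreDepth.Loci
-- import your own Groth.Agent.* helpers here

set_option autoImplicit false
open CategoryTheory CategoryTheory.Limits AlgebraicGeometry
set_option backward.isDefEq.respectTransparency false
universe u
open ModSt

namespace Groth.Agent.S17417

open CategoryTheory CategoryTheory.Limits AlgebraicGeometry ModSt

/-- The unit of the inverse and direct image adjunction is cartesian. -/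
theorem isCart_unit {Y Z : Scheme.{u}} (h : Y ⟶ Z) (N : Z.Modules) :
    ModSt.IsCart h ((Scheme.Modules.pullbackPushforwardAdjunction h).unit.app N) := fun M' => by
  have heq : (fun v : (Scheme.Modules.pullback h).obj N ⟶ M' =>
      (Scheme.Modules.pullbackPushforwardAdjunction h).unit.app N ≫ (Scheme.Modules.pushforward h).map v) =
      (Scheme.Modules.pullbackPushforwardAdjunction h).homEquiv N M' := by
    funext v; rw [Adjunction.homEquiv_unit]
  rw [heq]; exact Equiv.bijective _

theorem heq_congr {Y Z : Scheme.{u}} {h h' : Y ⟶ Z} (e : h = h') (M : Y.Modules) (U : Z.Opens)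
    (y : Γ((Scheme.Modules.pushforward h).obj M, U)) :
    HEq (((Scheme.Modules.pushforwardCongr e).hom.app M).app U y) y := by
  subst e
  rw [Scheme.Modules.pushforwardCongr_hom_app_app, eqToHom_refl, op_id, CategoryTheory.Functor.map_id]
  rfl

theorem exists_lift_fam {X S : Scheme.{u}} {f : X ⟶ S} (A : ModSt.Obj f) (hA : ModSt.IsCohObj A) {V : Over S}
    (g : V ⟶ A.base) : ∃ (B : ModSt.Obj f) (_ : ModSt.IsCohObj B) (φ : B ⟶ A) (e : B.base = V),
      φ.base = eqToHom e ≫ g := by
  let top := pullback.fst A.q g.left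
  have hsq : IsPullback top (pullback.snd A.q g.left) A.q g.left := IsPullback.of_hasPullback _ _
  have hpb : IsPullback (top ≫ A.p) (pullback.snd A.q g.left) f V.hom := by
    have := hsq.paste_horiz A.isPullback
    rwa [Over.w g] at this
  let B : ModSt.Obj f := ⟨V, _, top ≫ A.p, pullback.snd A.q g.left, hpb, (Scheme.Modules.pullback top).obj A.E⟩
  haveI : Coh.IsQCoh A.E := by
    exact Groth.Agent.FibreDepth.isQCoh_of_isFP A.E hA.2
  refine ⟨B, ⟨fun x => Groth.Agent.PullbackMod.isFlatOverAt_baseChange hsq A.E x (hA.1 _),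
    Groth.Agent.PullbackMod.isFP_pullback top A.E hA.2⟩,
    ⟨g, top, rfl, hsq.w, _, isCart_unit top A.E⟩, rfl, (Category.id_comp g).symm⟩

theorem existsUnique_factor {X S : Scheme.{u}} {f : X ⟶ S} {A B C : ModSt.Obj f} (φ : B ⟶ A) (ψ : C ⟶ A)
    (g : C.base ⟶ B.base) (hg : g ≫ φ.base = ψ.base) :
    ∃! χ : C ⟶ B, χ.base = g ∧ χ ≫ φ = ψ := by
  have hsq := φ.isPullback_top
  obtain ⟨top, ht1, ht2⟩ : ∃ top : C.XT ⟶ B.XT, top ≫ φ.top = ψ.top ∧ top ≫ B.q = C.q ≫ g.left :=
    ⟨hsq.lift ψ.top (C.q ≫ g.left) (by rw [ψ.w_q, Category.assoc, ← Over.comp_left, hg]), hsq.lift_fst _ _ _, hsq.lift_snd _ _ _⟩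
  let tr := (Scheme.Modules.pushforwardComp top φ.top ≪≫ Scheme.Modules.pushforwardCongr ht1).app C.E
  obtain ⟨c, hc, hcu⟩ := (φ.cart _).existsUnique (ψ.c ≫ tr.inv)
  simp only at hc hcu
  have hcψ : φ.c ≫ (Scheme.Modules.pushforward φ.top).map c ≫ tr.hom = ψ.c := by
    rw [← Category.assoc, hc, Category.assoc, Iso.inv_hom_id, Category.comp_id]
  have hcart : ModSt.IsCart top c := fun M' => by
    let F : (C.E ⟶ M') → (B.E ⟶ (Scheme.Modules.pushforward top).obj M') :=
      fun v => c ≫ (Scheme.Modules.pushforward top).map v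
    let G : (B.E ⟶ (Scheme.Modules.pushforward top).obj M') → (A.E ⟶ (Scheme.Modules.pushforward ψ.top).obj M') :=
      fun w => (φ.c ≫ (Scheme.Modules.pushforward φ.top).map w) ≫
        ((Scheme.Modules.pushforwardComp top φ.top ≪≫ Scheme.Modules.pushforwardCongr ht1).app M').hom
    have hG : Function.Bijective G :=
      (((Scheme.Modules.pushforwardComp top φ.top ≪≫ Scheme.Modules.pushforwardCongr ht1).app M').homToEquiv).bijective.comp (φ.cart _)
    have hGF : G ∘ F = fun v => ψ.c ≫ (Scheme.Modules.pushforward ψ.top).map v := by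
      funext v
      rw [← hcψ]
      simp only [Function.comp_apply, F, G, Functor.map_comp, Category.assoc]
      congr 2
      exact ((Scheme.Modules.pushforwardComp top φ.top ≪≫ Scheme.Modules.pushforwardCongr ht1).hom.naturality v)
    exact hG.of_comp_iff' F |>.mp (hGF ▸ ψ.cart M')
  have hp : top ≫ B.p = C.p := by rw [← φ.w_p, ← Category.assoc, ht1, ψ.w_p]
  refine ⟨⟨g, top, hp, ht2, c, hcart⟩, ⟨rfl, ?_⟩, fun χ hχ => ?_⟩
  · refine ModSt.Obj.Hom.ext' hg ht1 fun U x => ?_
    rw [← hcψ]
    exact (heq_congr ht1 C.E U (c.app (φ.top ⁻¹ᵁ U) (φ.c.app U x))).symm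
  · obtain ⟨b, t, wp, wq, c', hc'⟩ := χ
    obtain ⟨h1, h2⟩ := hχ
    cases h1
    have ht : t = top := hsq.hom_ext ((congrArg (fun z : C ⟶ A => z.top) h2).trans ht1.symm) (wq.trans ht2.symm)
    subst ht
    have : c' = c := hcu c' <| by
      rw [← cancel_mono tr.hom, Category.assoc _ tr.inv, Iso.inv_hom_id, Category.comp_id, Category.assoc]
      refine Scheme.Modules.hom_ext _ _ fun U => ?_
      ext x
      subst h2
      exact eq_of_heq (heq_congr ht1 C.E U (c'.app (φ.top ⁻¹ᵁ U) (φ.c.app U x)))
    subst this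
    rfl

/-- Let `f : X ⟶ S` be a morphism of schemes. The category over `(Sch/S)` of finitely presented modules
flat over the base (objects over `T`: a cartesian square `X_T` over `T` and a finitely presented
`T`-flat module on `X_T`; morphisms: cartesian comparison maps over morphisms of bases) is fibred in
groupoids. (The source states this for a morphism of finite presentation of algebraic spaces `X → B`
over a base scheme and for modules whose support is moreover proper over the base; this row is the
case of schemes with base `S = B`, for the category without the support condition, and for any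
morphism `f`.) -/
theorem result {X S : Scheme.{u}} (f : X ⟶ S) :
    FibCat.IsFibGrpd (ModSt.Coh f).p := by
  constructor
  · intro x V g
    obtain ⟨B, hB, φ, e, hφ⟩ := exists_lift_fam x.obj x.property g
    subst e
    refine ⟨⟨B, hB⟩, ObjectProperty.homMk φ, ?_⟩
    rw [eqToHom_refl, Category.id_comp] at hφ
    subst hφ
    exact CategoryTheory.IsHomLift.map (p := (ModSt.Coh f).p) (ObjectProperty.homMk φ : (⟨B, hB⟩ : (ModSt.Coh f).obj) ⟶ x)
  · intro y x φ
    refine { universal_property' := fun {z} g ψ hψ => ?_ }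
    have hb : g ≫ φ.hom.base = ψ.hom.base := by
      have h := @CategoryTheory.IsHomLift.fac' _ _ _ _ (ModSt.Coh f).p _ _ _ _ (g ≫ (ModSt.Coh f).p.map φ) ψ hψ
      simp only [eqToHom_refl, Category.id_comp, Category.comp_id] at h
      exact h.symm
    obtain ⟨χ, ⟨hχb, hχ⟩, huniq⟩ := existsUnique_factor φ.hom ψ.hom g hb
    refine ⟨ObjectProperty.homMk χ, ⟨?_, ObjectProperty.hom_ext _ hχ⟩, fun χ' hχ' => ObjectProperty.hom_ext _ (huniq χ'.hom ⟨?_, congrArg (fun t => t.hom) hχ'.2⟩)⟩
    · subst hχb
      exact CategoryTheory.IsHomLift.map (p := (ModSt.Coh f).p) (ObjectProperty.homMk χ : z ⟶ y)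
    · have h := @CategoryTheory.IsHomLift.fac' _ _ _ _ (ModSt.Coh f).p _ _ _ _ g χ' hχ'.1
      simp only [eqToHom_refl, Category.id_comp, Category.comp_id] at h
      exact h

end Groth.Agent.S17417
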