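import Groth.Statements.S1742
import Groth.Agent.DepthAlongLib.Spread

set_option autoImplicit false
universe u
open LocCoh

namespace Groth.Agent.S1742

/-- Let A be a Noetherian ring, I an ideal, M a finite A-module and p a prime containing I such that the
IA_p-depth of M_p is a finite number e. Then there is an open subset U of Spec A meeting V(p) such
that the IA_q-depth of M_q is at least e for every q in U ∩ V(p). -/
theorem result (A : Type u) [CommRing A] [IsNoetherianRing A] (I : Ideal A) (M : Type u) [AddCommGroup M] [Module A M] [Module.Finite A M] (p : PrimeSpectrum A) (hp : I ≤ p.asIdeal) (e : ℕ) (he : LocCoh.idealDepth (I.map (algebraMap A (Localization.AtPrime p.asIdeal))) (LocalizedModule p.asIdeal.primeCompl M) = e) : ∃ U : Set (PrimeSpectrum A), IsOpen U ∧ (U ∩ PrimeSpectrum.zeroLocus (p.asIdeal : Set A)).Nonempty ∧ ∀ q : PrimeSpectrum A, q ∈ U → p ≤ q → (e : ℕ∞) ≤ LocCoh.idealDepth (I.map (algebraMap A (Localization.AtPrime q.asIdeal))) (LocalizedModule q.asIdeal.primeCompl M) := by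
  let R := Localization.AtPrime p.asIdeal
  let N := LocalizedModule p.asIdeal.primeCompl M
  haveI : IsNoetherianRing R := IsLocalization.isNoetherianRing p.asIdeal.primeCompl R inferInstance
  haveI : Module.Finite R N :=
    Module.Finite.of_isLocalizedModule p.asIdeal.primeCompl (LocalizedModule.mkLinearMap p.asIdeal.primeCompl M)
  have hI : I.map (algebraMap A R) • (⊤ : Submodule R N) ≠ ⊤ := fun htop => by
    rw [LocCoh.idealDepth, if_pos htop] at he
    exact ENat.top_ne_natCast e he
  obtain ⟨fs, hlen, hmem, hreg⟩ := (Depth.le_idealDepth_iff hI e).1 he.ge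
  have hch : ∀ f : R, ∃ a : A, (f ∈ I.map (algebraMap A R) → a ∈ I) ∧ ∃ v, IsUnit v ∧ algebraMap A R a = v * f := by
    intro f
    by_cases hf : f ∈ I.map (algebraMap A R)
    · obtain ⟨⟨a, c⟩, hac⟩ := (IsLocalization.mem_map_algebraMap_iff p.asIdeal.primeCompl R).1 hf
      exact ⟨a, fun _ => a.2, algebraMap A R c, IsLocalization.map_units R c, by rw [mul_comm]; exact hac.symm⟩
    · obtain ⟨⟨a, c⟩, hac⟩ := IsLocalization.surj p.asIdeal.primeCompl f
      exact ⟨a, fun h => absurd h hf, algebraMap A R c, IsLocalization.map_units R c, by rw [mul_comm]; exact hac.symm⟩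
  choose a ha hv using hch
  have hreg' : RingTheory.Sequence.IsWeaklyRegular N (fs.map a) := by
    rw [← RingTheory.Sequence.isWeaklyRegular_map_algebraMap_iff R, List.map_map]
    refine CIFlatLib.isWeaklyRegular_of_unit_mul id _ hv fs N ?_
    rwa [List.map_id]
  obtain ⟨s, hs, hs'⟩ := DepthAlongLib.exists_spread p.asIdeal (fs.map a) M hreg'
  refine ⟨PrimeSpectrum.basicOpen s, (PrimeSpectrum.basicOpen s).isOpen, ⟨p, hs, Set.Subset.refl _⟩, fun q hq _ => ?_⟩
  rw [LocCoh.idealDepth]
  split_ifs
  · exact le_top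
  refine le_iSup₂_of_le ((fs.map a).map (algebraMap A (Localization.AtPrime q.asIdeal)))
    ⟨(RingTheory.Sequence.isWeaklyRegular_map_algebraMap_iff _ _ _).2 (hs' q.asIdeal hq), ?_⟩
    (by rw [List.length_map, List.length_map, hlen])
  intro r hr
  obtain ⟨x, hx, rfl⟩ := List.mem_map.1 hr
  obtain ⟨f, hf, rfl⟩ := List.mem_map.1 hx
  exact Ideal.mem_map_of_mem _ (ha f (hmem f hf))

end Groth.Agent.S1742
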