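import Groth.Statements.S17421
import Groth.Agent.CurvLocLib.OpenSubBig
import Groth.Agent.PullbackMod.LimFree
import Groth.Agent.PullbackMod.FibreLocus
import Groth.Agent.S17417
import Groth.Agent.GenFreeLocus.Functor

set_option autoImplicit false
open CategoryTheory CategoryTheory.Limits AlgebraicGeometry
universe u
open ModSt

namespace Groth.Agent.S17421

set_option backward.isDefEq.respectTransparency false
set_option linter.style.haveILetI false
open Groth.Agent.PullbackMod
open Groth.Agent.GenFreeLocus (freeAt_of_iso)

variable {X S : Scheme.{u}} {f : X ⟶ S}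

/-- The module of the source of a morphism is the inverse image of the module of the target. -/
theorem nonempty_pullback_iso {A B : ModSt.Obj f} (φ : A ⟶ B) :
    Nonempty ((Scheme.Modules.pullback φ.top).obj B.E ≅ A.E) := by
  let adj := Scheme.Modules.pullbackPushforwardAdjunction φ.top
  let a : (Scheme.Modules.pullback φ.top).obj B.E ⟶ A.E := (adj.homEquiv _ _).symm φ.c
  have hb : ∀ M' : A.XT.Modules, Function.Bijective (fun v : A.E ⟶ M' => a ≫ v) := fun M' => by
    have h := ((adj.homEquiv B.E M').symm.bijective).comp (φ.cart M')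
    have he : (fun v : A.E ⟶ M' => a ≫ v) = (adj.homEquiv B.E M').symm ∘
        fun v : A.E ⟶ M' => φ.c ≫ (Scheme.Modules.pushforward φ.top).map v := by
      funext v
      exact (adj.homEquiv_naturality_right_symm φ.c v).symm
    rw [he]; exact h
  obtain ⟨b, hb'⟩ := (hb _).2 (𝟙 _)
  simp only at hb'
  refine ⟨⟨a, b, hb', (hb _).1 ?_⟩⟩
  simp only
  rw [← Category.assoc, hb', Category.id_comp, Category.comp_id]

/-- The rank one locus of an object and of its inverse images. -/
theorem exists_openLocus [IsProper f] [LocallyOfFinitePresentation f] (A : (ModSt.Coh f).obj) :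
    ∃ V : A.obj.base.left.Opens, ∀ {A' : (ModSt.Coh f).obj} (a : A' ⟶ A),
      FlatMod.IsFinLocFreeOfRank 1 A'.obj.E ↔ Set.range a.hom.base.left ⊆ V := by
  let E := A.obj.E
  have hflat : FlatMod.IsFlatOver A.obj.q E := A.property.1
  have hFP : CohB1.IsFP E := A.property.2
  haveI : SheafOfModules.IsFinitePresentation.{u} E := hFP
  haveI : Coh.IsQCoh E := inferInstance
  haveI : IsProper A.obj.q := MorphismProperty.of_isPullback A.obj.isPullback ‹_›
  haveI : LocallyOfFinitePresentation A.obj.q := MorphismProperty.of_isPullback A.obj.isPullback ‹_›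
  let Z : Set A.obj.XT := {x | ¬ FreeAt 1 E x}
  have hZ : IsClosed Z := (isOpen_freeAt E hFP 1).isClosed_compl
  refine ⟨⟨(A.obj.q '' Z)ᶜ, (A.obj.q.isClosedMap Z hZ).isOpen_compl⟩, fun {A'} a => ?_⟩
  obtain ⟨e⟩ := nonempty_pullback_iso a.hom
  haveI : SheafOfModules.IsFinitePresentation.{u} A'.obj.E := A'.property.2
  haveI : Coh.IsQCoh A'.obj.E := inferInstance
  rw [isFinLocFreeOfRank_iff_freeAt A'.obj.E A'.property.2]
  constructor
  · rintro h _ ⟨t', rfl⟩ ⟨x, hx, hxt⟩
    refine hx ?_
    obtain ⟨z, hz1, -⟩ := Scheme.Pullback.exists_preimage_pullback (f := A.obj.q) (g := a.hom.base.left) x t' hxt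
    obtain ⟨x', h1⟩ : ∃ x', a.hom.top x' = x := ⟨a.hom.isPullback_top.isoPullback.inv z, by
      rw [← Scheme.Hom.comp_apply, a.hom.isPullback_top.isoPullback_inv_fst]; exact hz1⟩
    subst h1
    have hp : FreeAt 1 ((Scheme.Modules.pullback a.hom.top).obj E) x' := freeAt_of_iso e.symm (h x')
    haveI := isQCoh_pullback a.hom.top E
    have h2 : FlatMod.IsFlatOverAt (𝟙 _) ((Scheme.Modules.pullback a.hom.top).obj E) x' :=
      (isFlatOverAt_id_iff _ x').2 (Module.Flat.of_linearEquiv hp.some)
    have hid : 𝟙 A.obj.XT ≫ A.obj.q = A.obj.q := Category.id_comp _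
    haveI : LocallyOfFinitePresentation (𝟙 A.obj.XT ≫ A.obj.q) := by rw [hid]; infer_instance
    have h3 : FlatMod.IsFlatOverAt (𝟙 A.obj.XT) E (a.hom.top x') := by
      refine isFlatOverAt_of_baseChange_of_flat (𝟙 A.obj.XT) A.obj.q E hFP
        (f' := 𝟙 A'.obj.XT) a.hom.isPullback_top ?_ (by simp) x' ?_ h2
      · simpa using a.hom.isPullback_top
      · rw [hid]; exact hflat _
    obtain ⟨U, n, hU, ⟨i⟩⟩ := FlatLocus.exists_free_nhd E hFP (a.hom.top x')
      ((isFlatOverAt_id_iff E _).1 h3)
    have hn : FreeAt n E (a.hom.top x') := freeAt_of_restrict_iso E i hU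
    obtain rfl : n = 1 := freeAt_unique _ (freeAt_pullback E a.hom.top x' hn) hp
    exact hn
  · intro h x'
    refine freeAt_of_iso e (freeAt_pullback E a.hom.top x' ?_)
    by_contra hx
    exact h ⟨A'.obj.q x', rfl⟩ ⟨a.hom.top x', hx, by
      rw [← Scheme.Hom.comp_apply, a.hom.w_q]; rfl⟩

/-- Let `f : X ⟶ S` be a flat proper morphism of schemes, locally of finite presentation. The inclusion,
into the stack of finitely presented flat modules on the base changes of `X`, of its full
subcategory on the objects whose module is finite locally free of rank `1` is representable by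
algebraic spaces and an open immersion. (The source states this for algebraic spaces `X → B` over a
base scheme, with the Picard stack of invertible modules as the source of the functor and modules
with proper support in the target; this row is the case of schemes with `S = B`: as `f` is flat and
proper, an invertible module on a base change `X_T`, i.e. one finite locally free of rank `1`, is
finitely presented, flat over `T` and of proper support, so the Picard stack is rendered as this
full subcategory.) -/
theorem result {X S : Scheme.{u}} (f : X ⟶ S)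
    [Flat f] [IsProper f] [LocallyOfFinitePresentation f] :
    AlgSt.IsOpenImm (AlgSt.subIncl (ModSt.Coh f) fun A => FlatMod.IsFinLocFreeOfRank 1 A.obj.E) := by
  haveI : FibCat.IsFibGrpd (ModSt.Coh f).p := Groth.Agent.S17417.result f
  exact Groth.Agent.CurvLocLib.isOpenImm_subIncl (fun A => exists_openLocus A)

end Groth.Agent.S17421
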