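import Groth.Statements.S17426
import Groth.Agent.LimHom.RelGen
import Groth.Agent.ExactConstrLib.LocFree

set_option backward.isDefEq.respectTransparency false
set_option linter.style.haveILetI false

set_option autoImplicit false
universe u
open CategoryTheory AlgebraicGeometry
open Lim

namespace Groth.Agent.S17426

open CategoryTheory.Limits

/-- Let S = lim S_i be a cofiltered limit of schemes with affine transition morphisms, with S_{i₀} a
quasi-compact quasi-separated stage; let X₀ and Y₀ be schemes of finite presentation over S_{i₀}, f₀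
: X₀ → Y₀ an S_{i₀}-morphism and L₀ an invertible O_{X₀}-module. Let f : X → Y be the base change of
f₀ along S → S_{i₀} and L the pullback of L₀ to X (base changes are expressed by pullback squares).
Call an invertible module generated relative to a morphism when the counit of the
pullback–pushforward adjunction, f^*f_*L → L, is an epimorphism. If L is generated relative to f,
then there is an index j over i₀ such that for every index k over j and every base change f_k : X_k
→ Y_k of f₀ along S_k → S_{i₀}, the pullback L_k of L₀ to X_k is generated relative to f_k. (Stated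
for X₀, Y₀ of finite presentation over the quasi-compact quasi-separated stage, the setting in which
all the schemes involved are quasi-compact and quasi-separated; the semi-ample variant of the
source, some positive tensor power generated, is not restated.) -/
theorem result {I : Type u} [SmallCategory I] [IsCofiltered I]
    (D : I ⥤ Scheme.{u}) (c : Limits.Cone D) (hc : Limits.IsLimit c)
    [∀ (i j : I) (u : i ⟶ j), IsAffineHom (D.map u)] (i₀ : I) [CompactSpace (D.obj i₀)] [QuasiSeparatedSpace (D.obj i₀)]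
    {X₀ Y₀ : Scheme.{u}} (f₀ : X₀ ⟶ Y₀) (g₀ : Y₀ ⟶ D.obj i₀)
    [LocallyOfFinitePresentation g₀] [QuasiCompact g₀] [QuasiSeparated g₀]
    [LocallyOfFinitePresentation (f₀ ≫ g₀)] [QuasiCompact (f₀ ≫ g₀)] [QuasiSeparated (f₀ ≫ g₀)]
    (L₀ : X₀.Modules) (hL₀ : PicF.IsInvertible L₀)
    {X Y : Scheme.{u}} (f : X ⟶ Y) (g : Y ⟶ c.pt) (qY : Y ⟶ Y₀) (qX : X ⟶ X₀)
    (hY : IsPullback qY g g₀ (c.π.app i₀)) (hX : IsPullback qX f f₀ qY)
    (hgen : Epi ((Scheme.Modules.pullbackPushforwardAdjunction f).counit.app ((Scheme.Modules.pullback qX).obj L₀))) :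
    ∃ (j : I) (φ : j ⟶ i₀), ∀ (k : I) (ψ : k ⟶ j) (Xk Yk : Scheme.{u}) (fk : Xk ⟶ Yk) (gk : Yk ⟶ D.obj k)
      (pY : Yk ⟶ Y₀) (pX : Xk ⟶ X₀), IsPullback pY gk g₀ (D.map (ψ ≫ φ)) → IsPullback pX fk f₀ pY →
        Epi ((Scheme.Modules.pullbackPushforwardAdjunction fk).counit.app ((Scheme.Modules.pullback pX).obj L₀)) := by
  obtain ⟨hLq, hLp⟩ := PullbackMod.isQCoh_and_isFP_of_isFinLocFree L₀ (CurveLib.isFinLocFree_of_isInvertible hL₀)
  haveI := hLq
  haveI hD : ∀ {i j : I} (f : i ⟶ j), IsAffineHom (D.map f) := fun {i j} f => inferInstance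
  haveI : CompactSpace Y₀ := QuasiCompact.compactSpace_of_compactSpace g₀
  haveI : QuasiSeparatedSpace Y₀ := quasiSeparatedSpace_of_quasiSeparated g₀
  haveI : CompactSpace X₀ := QuasiCompact.compactSpace_of_compactSpace (f₀ ≫ g₀)
  haveI : QuasiSeparatedSpace X₀ := quasiSeparatedSpace_of_quasiSeparated (f₀ ≫ g₀)
  haveI : QuasiCompact f₀ := QuasiCompact.of_comp f₀ g₀
  haveI : QuasiSeparated f₀ := QuasiSeparated.of_comp f₀ g₀
  -- transfer to the canonical base change
  let s : pullback g₀ (c.π.app i₀) ⟶ Y :=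
    hY.lift (pullback.fst g₀ (c.π.app i₀)) (pullback.snd g₀ (c.π.app i₀)) pullback.condition
  have hs : s ≫ qY = pullback.fst g₀ (c.π.app i₀) := hY.lift_fst _ _ _
  let fl := AffLim.baseChangeMapLimit D c i₀ f₀ g₀
  have hfl : fl ≫ pullback.fst g₀ (c.π.app i₀) = pullback.fst (f₀ ≫ g₀) (c.π.app i₀) ≫ f₀ :=
    pullback.lift_fst _ _ _
  let t : pullback (f₀ ≫ g₀) (c.π.app i₀) ⟶ X :=
    hX.lift (pullback.fst (f₀ ≫ g₀) (c.π.app i₀)) (fl ≫ s) (hfl.symm.trans (by rw [Category.assoc, hs]))
  have h1 : LimHom.RelGen fl ((Scheme.Modules.pullback (pullback.fst (f₀ ≫ g₀) (c.π.app i₀))).obj L₀) :=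
    (LimHom.relGen_of_epi_counit hgen).transport fl t s (hX.lift_snd _ _ _).symm
      (FpqcQCoh.cmpIso L₀ t (hX.lift_fst _ _ _))
  obtain ⟨l, hl⟩ := LimHom.relGen_descend D c hc i₀ f₀ g₀ L₀ (ExactConstrLib.isFT_of_isFP hLp) h1
  refine ⟨l.left, l.hom, fun k ψ Xk Yk fk gk pY pX hYk hXk => ?_⟩
  let sk : Yk ⟶ pullback g₀ (D.map l.hom) := pullback.lift pY (gk ≫ D.map ψ)
    (by rw [hYk.w, Category.assoc, Functor.map_comp])
  let tk : Xk ⟶ pullback (f₀ ≫ g₀) (D.map l.hom) := pullback.lift pX (fk ≫ gk ≫ D.map ψ)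
    (by rw [← Category.assoc pX, hXk.w, Category.assoc, hYk.w, Category.assoc, Category.assoc, Functor.map_comp])
  refine ((hl.transport fk tk sk ?_ (FpqcQCoh.cmpIso L₀ tk (pullback.lift_fst _ _ _)))).epi_counit
  apply pullback.hom_ext
  · simp [sk, tk, AffLim.baseChangeMap, hXk.w]
  · simp [sk, tk, AffLim.baseChangeMap]

end Groth.Agent.S17426
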