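import Groth.Statements.S17428
import Groth.Agent.FrobAlgLib.Basic

set_option autoImplicit false
universe u
open FrobAlg

namespace Groth.Agent.S17428

section

variable (p : ℕ) [Fact p.Prime] {A : Type u} [CommRing A] [CharP A p] (I : Ideal A)

open TensorProduct

/-- The underlying element. -/
abbrev un : FrobAlg.Twist p A ≃+* A := (FrobAlg.toTwist p A).symm

theorem un_smul (a : A) (t : FrobAlg.Twist p A) : un p (a • t) = a ^ p * un p t := by
  rw [Algebra.smul_def, map_mul, FrobAlg.algebraMap_twist, RingEquiv.symm_apply_apply]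

theorem un_mem_of_mem {m : ℕ} {t : FrobAlg.Twist p A} (ht : t ∈ (I ^ m • ⊤ : Submodule A (FrobAlg.Twist p A))) :
    un p t ∈ I ^ m := by
  refine Submodule.smul_induction_on ht (fun r hr x _ => ?_) fun x y hx hy => ?_
  · rw [un_smul]
    exact Ideal.mul_mem_right _ _ (Ideal.pow_mem_of_mem _ hr p (Fact.out : p.Prime).pos)
  · rw [map_add]; exact add_mem hx hy

theorem exists_pow_le [IsNoetherianRing A] (n : ℕ) : ∃ N, ∀ a ∈ I ^ N,
    FrobAlg.toTwist p A a ∈ (I ^ n • ⊤ : Submodule A (FrobAlg.Twist p A)) := by
  let J : Ideal A := Ideal.span ((fun x => x ^ p) '' (I ^ n : Ideal A))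
  have hrad : I ≤ J.radical := fun x hx =>
    ⟨n * p, Ideal.subset_span ⟨x ^ n, Ideal.pow_mem_pow hx n, (pow_mul x n p).symm⟩⟩
  obtain ⟨N, hN⟩ := Ideal.exists_pow_le_of_le_radical_of_fg hrad (IsNoetherian.noetherian I)
  refine ⟨N, fun a ha => ?_⟩
  have haJ := hN ha
  clear ha
  induction haJ using Submodule.span_induction with
  | mem y hy =>
    obtain ⟨x, hx, rfl⟩ := hy
    have : FrobAlg.toTwist p A (x ^ p) = x • (1 : FrobAlg.Twist p A) := by
      rw [← Algebra.algebraMap_eq_smul_one, FrobAlg.algebraMap_twist]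
    rw [this]
    exact Submodule.smul_mem_smul hx Submodule.mem_top
  | zero => rw [map_zero]; exact zero_mem _
  | add y z _ _ hy hz => rw [map_add]; exact add_mem hy hz
  | smul r y _ hy =>
    rw [smul_eq_mul, map_mul]
    have hclosed : ∀ s ∈ (I ^ n • ⊤ : Submodule A (FrobAlg.Twist p A)), FrobAlg.toTwist p A r * s ∈
        (I ^ n • ⊤ : Submodule A (FrobAlg.Twist p A)) := by
      intro s hs
      refine Submodule.smul_induction_on hs (fun c hc x _ => ?_) fun x y hx hy => ?_
      · rw [mul_smul_comm]
        exact Submodule.smul_mem_smul hc Submodule.mem_top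
      · rw [mul_add]; exact add_mem hx hy
    exact hclosed _ hy

theorem evalₐ_relFrob [CharP (AdicCompletion I A) p] (z : AdicCompletion I A ⊗[A] FrobAlg.Twist p A) (m : ℕ) :
    ∀ t : FrobAlg.Twist p A, (AdicCompletion.ofTensorProduct I (FrobAlg.Twist p A) z).val m = Submodule.Quotient.mk t →
      AdicCompletion.evalₐ I m (FrobAlg.relFrob p A (AdicCompletion I A) z) = Ideal.Quotient.mk _ (un p t) := by
  induction z using TensorProduct.induction_on with
  | zero =>
    intro t ht
    rw [map_zero, map_zero] at *
    rw [eq_comm, Ideal.Quotient.eq_zero_iff_mem]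
    refine un_mem_of_mem p I ?_
    rwa [AdicCompletion.val_zero_apply, eq_comm, Submodule.Quotient.mk_eq_zero] at ht
  | tmul b a =>
    intro t ht
    obtain ⟨b0, hb⟩ := Ideal.Quotient.mk_surjective (AdicCompletion.evalₐ I m b)
    rw [AdicCompletion.ofTensorProduct_tmul, AdicCompletion.smul_eval, AdicCompletion.val_smul_eq_evalₐ_smul,
      AdicCompletion.of_apply, ← hb] at ht
    change Submodule.Quotient.mk (b0 • a) = _ at ht
    rw [Submodule.Quotient.eq] at ht
    have h := un_mem_of_mem p I ht
    rw [map_sub, un_smul] at h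
    rw [Groth.Agent.FrobAlgLib.relFrob_tmul, map_mul, map_pow, ← hb, AlgHom.commutes, ← map_pow]
    change Ideal.Quotient.mk _ _ * Ideal.Quotient.mk _ _ = _
    rw [← map_mul, Ideal.Quotient.eq]
    exact h
  | add x y hx hy =>
    intro t ht
    obtain ⟨t1, ht1⟩ := Submodule.Quotient.mk_surjective _ ((AdicCompletion.ofTensorProduct I _ x).val m)
    have ht2 : (AdicCompletion.ofTensorProduct I _ y).val m = Submodule.Quotient.mk (t - t1) := by
      rw [Submodule.Quotient.mk_sub, ← ht, ht1, map_add, AdicCompletion.val_add_apply, add_sub_cancel_left]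
    rw [map_add, map_add, hx t1 ht1.symm, hy _ ht2, ← map_add, ← map_add, add_sub_cancel]

end

/-- Let p be a prime, A a regular local ring of characteristic p whose absolute Frobenius a ↦ a^p is a
finite ring homomorphism, I an ideal of A and Â the I-adic completion of A. Then Spec Â → Spec A is
relatively perfect: the relative Frobenius Â ⊗_{A,Frob} A → Â, b ⊗ a ↦ b^p a, is bijective. (Â is
also flat over A since A is Noetherian, so the morphism is flat and relatively perfect. The instance
hypothesis that Â has characteristic p holds as soon as I ≠ A.) -/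
theorem result (p : ℕ) [Fact p.Prime]
    (A : Type u) [CommRing A] [IsRegularLocalRing A] [CharP A p] (hF : (frobenius A p).Finite)
    (I : Ideal A) [CharP (AdicCompletion I A) p] :
    Function.Bijective (FrobAlg.relFrob p A (AdicCompletion I A)) := by
  classical
  haveI : Module.Finite A (FrobAlg.Twist p A) := by
    have h1 : ((FrobAlg.toTwist p A : A →+* FrobAlg.Twist p A).comp (frobenius A p)).Finite :=
      (RingHom.Finite.of_surjective _ (FrobAlg.toTwist p A).surjective).comp hF
    exact RingHom.finite_algebraMap.1 h1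
  choose N hN using exists_pow_le p I
  have hbij := AdicCompletion.ofTensorProduct_bijective_of_finite_of_isNoetherian I (M := FrobAlg.Twist p A)
  constructor
  · rw [injective_iff_map_eq_zero]
    intro z hz
    refine hbij.injective ?_
    rw [map_zero]
    refine AdicCompletion.ext fun n => ?_
    obtain ⟨c, hc⟩ := AdicCompletion.mk_surjective I (FrobAlg.Twist p A)
      (AdicCompletion.ofTensorProduct I (FrobAlg.Twist p A) z)
    have hval : ∀ m, (AdicCompletion.ofTensorProduct I (FrobAlg.Twist p A) z).val m = Submodule.Quotient.mk (c.1 m) :=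
      fun m => by rw [← hc]; rfl
    have h := evalₐ_relFrob p I z (max (N n) n) _ (hval _)
    rw [hz, map_zero, eq_comm, Ideal.Quotient.eq_zero_iff_mem] at h
    have h' := hN n _ (Ideal.pow_le_pow_right (le_max_left _ _) h)
    rw [RingEquiv.apply_symm_apply] at h'
    rw [hval n, AdicCompletion.val_zero_apply, Submodule.Quotient.mk_eq_zero]
    have hcc : c.1 n ≡ c.1 (max (N n) n) [SMOD (I ^ n • ⊤ : Submodule A (FrobAlg.Twist p A))] :=
      c.2 (le_max_right _ _)
    rw [SModEq.sub_mem] at hcc
    simpa using add_mem hcc h'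
  · intro y
    obtain ⟨d, rfl⟩ := AdicCompletion.mk_surjective I A y
    let M : ℕ → ℕ := fun n => (∑ k ∈ Finset.range (n + 1), N k) + n
    have hM : Monotone M := fun a b hab =>
      Nat.add_le_add (Finset.sum_le_sum_of_subset (Finset.range_mono (by omega))) hab
    have hNM : ∀ n, N n ≤ M n := fun n =>
      le_trans (Finset.single_le_sum (fun _ _ => Nat.zero_le _) (Finset.self_mem_range_succ n)) (Nat.le_add_right _ _)
    let c : AdicCompletion.AdicCauchySequence I (FrobAlg.Twist p A) :=
      AdicCompletion.AdicCauchySequence.mk I _ (fun n => FrobAlg.toTwist p A (d.1 (M n))) fun n => by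
        rw [SModEq.sub_mem, ← map_sub]
        refine hN n _ (Ideal.pow_le_pow_right (hNM n) ?_)
        have := d.2 (hM (Nat.le_succ n))
        rw [SModEq.sub_mem, smul_eq_mul, Ideal.mul_top] at this
        exact this
    obtain ⟨z, hz⟩ := hbij.surjective (AdicCompletion.mk I _ c)
    refine ⟨z, AdicCompletion.ext_evalₐ fun m => ?_⟩
    rw [evalₐ_relFrob p I z m (c.1 m) (by rw [hz]; rfl), AdicCompletion.evalₐ_mk, Ideal.Quotient.eq]
    show un p (FrobAlg.toTwist p A (d.1 (M m))) - d.1 m ∈ I ^ m
    rw [RingEquiv.symm_apply_apply]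
    have := d.2 (show m ≤ M m from Nat.le_add_left _ _)
    rw [SModEq.sub_mem, smul_eq_mul, Ideal.mul_top] at this
    exact neg_sub (d.1 m) (d.1 (M m)) ▸ neg_mem this

end Groth.Agent.S17428
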