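import Groth.Statements.S5150
import Groth.Agent.LocCohLib.Depth

set_option autoImplicit false
universe u
open CategoryTheory
open LocCoh

namespace Groth.Agent.S5150

/-- Let A be a commutative ring, I an ideal, M and N A-modules, and f_1, …, f_r a weakly M-regular
sequence of elements of I. If N is killed by a power of I then Ext^i_A(N, M) vanishes for all i < r.
(No Noetherian or finiteness hypothesis on A, M or N.) -/
theorem result (A : Type u) [CommRing A] (I : Ideal A) (M N : Type u) [AddCommGroup M] [Module A M] [AddCommGroup N] [Module A N] (rs : List A) (hreg : RingTheory.Sequence.IsWeaklyRegular M rs) (hI : ∀ r ∈ rs, r ∈ I) (k : ℕ) (hN : (I ^ k) • (⊤ : Submodule A N) = ⊥) (i : ℕ) (hi : i < rs.length) : Subsingleton (Abelian.Ext (ModuleCat.of A N) (ModuleCat.of A M) i) := by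
  refine Groth.Agent.LocCohLib.subsingleton_ext_of_isWeaklyRegular I (ModuleCat.of A M)
    (ModuleCat.of A N) rs hreg hI k (fun a ha x => ?_) i hi
  have : a • x ∈ (I ^ k) • (⊤ : Submodule A N) := Submodule.smul_mem_smul ha Submodule.mem_top
  rwa [hN, Submodule.mem_bot] at this

end Groth.Agent.S5150
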