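import Groth.Statements.S17429
import Groth.Agent.FlatWedgeLib.Wedge
import Groth.Agent.FlatWedgeLib.Kaehler
import Groth.Agent.RegHomLib.Local
import Groth.Agent.RegDesc.Basic
import Groth.Agent.NormFlatLib.Crit
import Groth.Agent.LocCohLib.Colim
import Groth.Agent.S0326
import Groth.Agent.S5150
import Groth.Agent.S0595

set_option autoImplicit false
universe u
open LocCoh

namespace Groth.Agent.S17429

open TensorProduct in
/-- A regular local ring of characteristic `p` is regular over the prime field. -/
lemma isRegularHom_primeField (K : Type u) [Field K] [Finite K] (A : Type u) [CommRing A]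
    [IsRegularLocalRing A] [Algebra K A] : CAlg.IsRegularHom K A := by
  haveI : IsRegularRing A := RegLocLib.isRegularRing_of_isRegularLocalRing A
  refine RegHomLib.isRegularHom_of_fields
    (fun q _ => RegDesc.isNoetherianRing_tensor_essFiniteType K _ _) fun L _ _ _ _ => ?_
  haveI : Module.Finite K L := Module.Finite.of_quasiFinite
  haveI : Algebra.IsSeparable K L := inferInstance
  haveI : Algebra.FormallyEtale K L := Algebra.FormallyEtale.of_isSeparable K L
  haveI : Algebra.FinitePresentation K L := Algebra.FinitePresentation.of_finiteType.1 inferInstance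
  haveI : Algebra.Smooth K L := ⟨inferInstance, inferInstance⟩
  haveI := RegHomLib.isRegularRing_of_smooth A (A ⊗[K] L)
  exact IsRegularRing.of_ringEquiv (R := A ⊗[K] L) (Algebra.TensorProduct.comm K A L).toRingEquiv

/-- Let p be a prime, A a regular local ring of characteristic p, t_1, …, t_r an A-regular sequence such
that A/(t_1, …, t_r) is again a regular local ring (a regular closed immersion Z ↪ X = Spec A of
codimension r with Z regular and non-empty), and I = (t_1, …, t_r). Then for every i and every j ≠ r
the local cohomology module H^j_I(Ω^i_A) vanishes, where Ω^i_A is the i-th exterior power over A of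
the module of Kähler differentials of A over ℤ (the same module as over the prime field). (Module
form, for X local, of the vanishing of the local cohomology sheaves H^j_Z(X, Ω^i_X), j ≠ r; the same
vanishing holds more generally for the de Rham–Witt sheaves W_mΩ^i_X and their quotients by
dV^{m-1}Ω^{i-1}_X on the étale site of a regular F_p-scheme, a form not stated here.) -/
theorem result (p : ℕ) [Fact p.Prime]
    (A : Type u) [CommRing A] [IsRegularLocalRing A] [CharP A p]
    (ts : List A) (hreg : RingTheory.Sequence.IsRegular A ts)
    (hZ : IsRegularLocalRing (A ⧸ Ideal.ofList ts))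
    (i j : ℕ) (hj : j ≠ ts.length) :
    Subsingleton (LocCoh.H (Ideal.ofList ts) j
      ↥(ExteriorAlgebra.exteriorPower A i (KaehlerDifferential ℤ A))) := by
  classical
  let K := ULift.{u} (ZMod p)
  letI : Algebra K A := ((ZMod.castHom (dvd_refl p) A).comp
    (ULift.ringEquiv : K ≃+* ZMod p).toRingHom).toAlgebra
  have hK : Function.Surjective (algebraMap ℤ K) := fun c => by
    obtain ⟨n, hn⟩ := ZMod.intCast_surjective c.down
    exact ⟨n, (ULift.ringEquiv : K ≃+* ZMod p).injective (by rw [eq_intCast, map_intCast]; exact hn)⟩
  haveI : Module.Flat A (KaehlerDifferential ℤ A) :=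
    FlatWedgeLib.flat_kaehler K hK A fun C _ _ _ f =>
      Groth.Agent.S0595.result K A (isRegularHom_primeField K A) C f
  haveI : Module.Flat A ↥(ExteriorAlgebra.exteriorPower A i (KaehlerDifferential ℤ A)) :=
    FlatWedgeLib.flat_exteriorPower i
  rcases lt_or_gt_of_ne hj with hj | hj
  · have hwr := NormFlatLib.weaklyRegular_of_flat
      (N := ↥(ExteriorAlgebra.exteriorPower A i (KaehlerDifferential ℤ A))) ts hreg.toIsWeaklyRegular
    refine subsingleton_of_forall_eq 0 fun x => ?_
    obtain ⟨n, y, rfl⟩ := LocCohLib.exists_ι x
    haveI := Groth.Agent.S5150.result A (Ideal.ofList ts)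
      ↥(ExteriorAlgebra.exteriorPower A i (KaehlerDifferential ℤ A)) (A ⧸ (Ideal.ofList ts) ^ n)
      ts hwr (fun r hr => Ideal.subset_span hr) n (by
        refine le_bot_iff.1 (Submodule.smul_le.2 fun r hr m _ => ?_)
        obtain ⟨m, rfl⟩ := Submodule.Quotient.mk_surjective _ m
        rw [Submodule.mem_bot, ← Submodule.Quotient.mk_smul, Submodule.Quotient.mk_eq_zero]
        exact Ideal.mul_mem_right _ _ hr) j hj
    rw [Subsingleton.elim y 0, map_zero]
  · have he : Ideal.ofList ts = Ideal.span (ts.toFinset : Set A) := by
      simp [Ideal.ofList, List.coe_toFinset]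
    rw [he]
    exact Groth.Agent.S0326.result A ts.toFinset _ j (lt_of_le_of_lt (List.toFinset_card_le ts) hj)

end Groth.Agent.S17429
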