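import Groth.Statements.S17430
import Groth.Agent.BorelStableLib.Levels
-- import your own Groth.Agent.* helpers here

set_option autoImplicit false
universe u v w
open LieAlgebra LieModule
open AdjVar

namespace Groth.Agent.S17430

/-- Let L be a finite-dimensional simple Lie algebra over an algebraically closed field K of
characteristic zero, H a Cartan subalgebra and b a basis of (L, H) in Mathlib's sense (Chevalley
generators h_i, e_i, f_i indexed by a finite type, with simple roots α_i = b.baseSupp i and upper
Borel subalgebra 𝔟 = H + the Lie subalgebra generated by the e_i). Let ρ be the highest root: a root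
of H on L whose root space is nonzero and such that no ρ + α_i is a root (the root space of ρ + α_i
is zero for every i). Assume that exactly one simple root α_j is not orthogonal to ρ (ρ(h_i) ≠ 0 if
and only if i = j) and that ρ(h_j) = 1; for simple L these two conditions say precisely that L is
not of type A_r or C_r (r ≥ 1), the case excluded in the source. Then a two-dimensional linear
subspace W of L is stable under 𝔟 (bracketing with any element of 𝔟 maps W into W) if and only if W
is the sum of the root spaces of ρ and of ρ − α_j. Equivalently, the projective line spanned by the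
root vectors of ρ and ρ − α_j is the only line of P(L) stable under the Borel subgroup (over the
complex numbers, stability under the connected group B is the same as stability under its Lie
algebra 𝔟, which is the form stated here). -/
theorem result {ι : Type u} {K : Type v} {L : Type w} [Fintype ι] [Field K] [CharZero K]
    [IsAlgClosed K] [LieRing L] [LieAlgebra K L] [FiniteDimensional K L] [LieAlgebra.IsSimple K L]
    (H : LieSubalgebra K L) [H.IsCartanSubalgebra] (b : LieAlgebra.Basis ι H)
    (ρ : Module.Dual K H) (hρ : rootSpace H ρ ≠ ⊥) (htop : ∀ i, rootSpace H (ρ + b.baseSupp i) = ⊥)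
    (j : ι) (hN : ∀ i, ρ (b.h' i) ≠ 0 ↔ i = j) (hj : ρ (b.h' j) = 1)
    (W : Submodule K L) :
    (Module.finrank K W = 2 ∧
        ∀ x ∈ H.toSubmodule ⊔ (b.borelUpper : Submodule K L), ∀ w ∈ W, ⁅x, w⁆ ∈ W) ↔
      W = (rootSpace H ρ : Submodule K L) ⊔ (rootSpace H (ρ - b.baseSupp j) : Submodule K L) := by
  obtain ⟨T⟩ := BorelStableLib.exists_top b ρ hρ htop j hN hj
  show (Module.finrank K W = 2 ∧ _) ↔ W = BorelStableLib.RS ρ ⊔ BorelStableLib.RS (ρ - b.baseSupp j)
  constructor
  · rintro ⟨hW, hst⟩
    obtain ⟨s1, s2, -⟩ := BorelStableLib.structure_of_stable T hρ htop W hst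
    have hne : ¬ W ≤ BorelStableLib.RS ρ := fun h => by
      have h' := Submodule.finrank_mono h
      have : Module.finrank K ↥(BorelStableLib.RS (H := H) ρ) = 1 := by
        rw [T.v_eq, finrank_span_singleton T.v_ne]
      omega
    have hv := s1 fun h => hne (h ▸ bot_le)
    have hw := s2 hne
    refine (Submodule.eq_of_le_of_finrank_eq ?_ ?_).symm
    · show BorelStableLib.RS ρ ⊔ BorelStableLib.RS (ρ - b.baseSupp j) ≤ W
      rw [T.v_eq, T.w_eq]
      exact sup_le ((Submodule.span_singleton_le_iff_mem _ _).2 hv) ((Submodule.span_singleton_le_iff_mem _ _).2 hw)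
    · exact (BorelStableLib.finrank_sup T).trans hW.symm
  · intro hW
    subst hW
    refine ⟨BorelStableLib.finrank_sup T, (BorelStableLib.borel_stable_iff b _).2 ⟨fun x hx w hw => ?_, fun i w hw => ?_⟩⟩
    · obtain ⟨y, hy, z, hz, rfl⟩ := Submodule.mem_sup.1 hw
      rw [lie_add, BorelStableLib.lie_of_mem hy ⟨x, hx⟩, BorelStableLib.lie_of_mem hz ⟨x, hx⟩]
      exact Submodule.add_mem _ (Submodule.mem_sup_left (Submodule.smul_mem _ _ hy))
        (Submodule.mem_sup_right (Submodule.smul_mem _ _ hz))
    · have hvm : T.v ∈ BorelStableLib.RS ρ := T.v_eq ▸ Submodule.mem_span_singleton_self _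
      rw [T.v_eq, T.w_eq, ← Submodule.span_union] at hw
      obtain ⟨s, t, rfl⟩ := Submodule.mem_span_pair.1 (by simpa using hw)
      simp only [lie_add, lie_smul, T.e_v, smul_zero, zero_add, add_zero]
      refine Submodule.smul_mem _ _ (Submodule.mem_sup_left ?_)
      by_cases hi : i = j
      · rw [hi, T.e_w_self]; exact hvm
      · rw [T.e_w_ne i hi]; exact Submodule.zero_mem _

end Groth.Agent.S17430
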