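import Groth.Statements.S17432
import Groth.Agent.BorelStableLib.Levels
-- import your own Groth.Agent.* helpers here

set_option autoImplicit false
universe u v w
open LieAlgebra LieModule
open AdjVar

namespace Groth.Agent.S17432

/-- Let L be a finite-dimensional simple Lie algebra over an algebraically closed field K of
characteristic zero, H a Cartan subalgebra and b a basis of (L, H) in Mathlib's sense (Chevalley
generators h_i, e_i, f_i indexed by a finite type, with simple roots α_i = b.baseSupp i and upper
Borel subalgebra 𝔟 = H + the Lie subalgebra generated by the e_i). Let ρ be the highest root: a root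
of H on L whose root space is nonzero and such that no ρ + α_i is a root (the root space of ρ + α_i
is zero for every i). Assume that exactly one simple root α_j is not orthogonal to ρ (ρ(h_i) ≠ 0 if
and only if i = j) and that ρ(h_j) = 1; for simple L these two conditions say precisely that L is
not of type A_r or C_r (r ≥ 1), the case excluded in the source. Let W be a three-dimensional linear
subspace of L stable under 𝔟 and q a quadratic form on W which is semi-invariant under 𝔟: for every
x in 𝔟 there is a scalar c with polar_q([x, w], w) = c q(w) for all w in W (this is the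
infinitesimal condition for the line spanned by q, equivalently the conic q = 0 of the plane P(W),
to be stable under the Borel subgroup). Then q is a scalar multiple of the square of a linear form
on W. In the source's words: P(L) contains no Borel-stable conic which is smooth or reducible (a
pair of distinct lines); only double lines occur. (Over the complex numbers a conic of rank at least
two is Borel-stable exactly when its plane is 𝔟-stable and its equation is 𝔟-semi-invariant, which
is the form stated here.) -/
theorem result {ι : Type u} {K : Type v} {L : Type w} [Fintype ι] [Field K] [CharZero K]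
    [IsAlgClosed K] [LieRing L] [LieAlgebra K L] [FiniteDimensional K L] [LieAlgebra.IsSimple K L]
    (H : LieSubalgebra K L) [H.IsCartanSubalgebra] (b : LieAlgebra.Basis ι H)
    (ρ : Module.Dual K H) (hρ : rootSpace H ρ ≠ ⊥) (htop : ∀ i, rootSpace H (ρ + b.baseSupp i) = ⊥)
    (j : ι) (hN : ∀ i, ρ (b.h' i) ≠ 0 ↔ i = j) (hj : ρ (b.h' j) = 1)
    (W : Submodule K L) (hW : Module.finrank K W = 3)
    (hst : ∀ x ∈ H.toSubmodule ⊔ (b.borelUpper : Submodule K L), ∀ w ∈ W, ⁅x, w⁆ ∈ W)
    (q : QuadraticForm K W)
    (hq : ∀ (x : L) (hx : x ∈ H.toSubmodule ⊔ (b.borelUpper : Submodule K L)), ∃ c : K, ∀ w : W,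
      QuadraticMap.polar q ⟨⁅x, (w : L)⁆, hst x hx w w.property⟩ w = c * q w) :
    ∃ (ℓ : Module.Dual K W) (c : K), ∀ w : W, q w = c * ℓ w ^ 2 := by
  obtain ⟨T⟩ := BorelStableLib.exists_top b ρ hρ htop j hN hj
  obtain ⟨-, i, u, a, hij, -, ha, heu, hau, hind, hsp, -⟩ := BorelStableLib.three T hρ htop W hW hst
  have hmem : ∀ k, ![T.v, T.w, u] k ∈ W := fun k => by
    have hk : ![T.v, T.w, u] k ∈ Submodule.span K (Set.range ![T.v, T.w, u]) := Submodule.subset_span ⟨k, rfl⟩
    rwa [hsp] at hk
  let v' : W := ⟨T.v, hmem 0⟩
  let w' : W := ⟨T.w, hmem 1⟩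
  let u' : W := ⟨u, hmem 2⟩
  obtain ⟨c, hc⟩ := hq _ (BorelStableLib.e_mem_borel b j)
  obtain ⟨d, hd⟩ := hq _ (BorelStableLib.e_mem_borel b i)
  have Ej : ∀ (z x : W), ⁅b.e j, (z : L)⁆ = x → QuadraticMap.polar q x z = c * q z := fun z x h => by
    rw [← hc z]; congr 2; exact Subtype.ext h.symm
  have Ei : ∀ (z x : W), ⁅b.e i, (z : L)⁆ = x → QuadraticMap.polar q x z = d * q z := fun z x h => by
    rw [← hd z]; congr 2; exact Subtype.ext h.symm
  have j1 := Ej v' 0 (by simp [v', T.e_v])
  have j2 := Ej w' v' (by simp [v', w', T.e_w_self])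
  have j3 := Ej u' 0 (by simp [u', heu])
  have j4 := Ej (v' + w') v' (by simp [v', w', lie_add, T.e_v, T.e_w_self])
  have j5 := Ej (w' + u') v' (by simp [v', w', u', lie_add, heu, T.e_w_self])
  have j6 := Ej (v' + u') 0 (by simp [v', u', lie_add, T.e_v, heu])
  have i2 := Ei w' 0 (by simp [w', T.e_w_ne i hij])
  have i3 := Ei u' (a • w') (by simp [u', w', hau])
  have i4 := Ei (w' + u') (a • w') (by simp [w', u', lie_add, T.e_w_ne i hij, hau])
  have hadd : ∀ x y : W, q (x + y) = q x + q y + QuadraticMap.polar q x y := fun x y => QuadraticMap.map_add q x y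
  simp only [hadd, QuadraticMap.polar_add_right, QuadraticMap.polar_zero_left,
    QuadraticMap.polar_smul_left, QuadraticMap.polar_self, smul_eq_mul, nsmul_eq_mul, Nat.cast_ofNat]
    at j1 j2 j3 j4 j5 j6 i2 i3 i4
  have hv : q v' = 0 ∧ QuadraticMap.polar q v' w' = 0 ∧ QuadraticMap.polar q v' u' = 0 := by
    by_cases hc0 : c = 0
    · subst hc0
      refine ⟨?_, ?_, ?_⟩
      · linear_combination (j4 - j2) / 2
      · linear_combination j2
      · linear_combination j5 - j2
    · have e1 : q v' = 0 := by simpa [hc0] using j1.symm
      have e3 : q u' = 0 := by simpa [hc0] using j3.symm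
      have e2 : QuadraticMap.polar q v' w' = 0 := by
        refine (mul_eq_zero.1 ?_).resolve_left hc0
        linear_combination (2 - c) * e1 + j2 - j4
      exact ⟨e1, e2, by
        refine (mul_eq_zero.1 ?_).resolve_left hc0
        linear_combination -j6 - c * e1 - c * e3⟩
  have hw : q w' = 0 ∧ QuadraticMap.polar q w' u' = 0 := by
    by_cases hd0 : d = 0
    · subst hd0
      refine ⟨?_, ?_⟩
      · refine ((mul_eq_zero (a := 2 * a)).1 ?_).resolve_left (mul_ne_zero two_ne_zero ha)
        linear_combination i4 - i3
      · refine ((mul_eq_zero (a := a)).1 ?_).resolve_left ha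
        linear_combination i3
    · have e1 : q w' = 0 := by simpa [hd0] using i2.symm
      refine ⟨e1, ((mul_eq_zero (a := d)).1 ?_).resolve_left hd0⟩
      linear_combination (2 * a - d) * e1 + i3 - i4
  have hliW : LinearIndependent K ![v', w', u'] := by
    refine LinearIndependent.of_comp W.subtype ?_
    have : W.subtype ∘ ![v', w', u'] = ![T.v, T.w, u] := by funext k; fin_cases k <;> rfl
    rw [this]; exact hind
  let B := basisOfLinearIndependentOfCardEqFinrank hliW (by simp [hW])
  have hB : ∀ k, B k = ![v', w', u'] k := fun k => by simp [B]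
  refine ⟨B.coord 2, q u', fun z => ?_⟩
  conv_lhs => rw [← B.sum_repr z]
  simp only [Fin.sum_univ_three, hB, Matrix.cons_val_zero, Matrix.cons_val_one, Matrix.cons_val_two, Matrix.tail_cons,
    Matrix.head_cons, hadd, QuadraticMap.map_smul, QuadraticMap.polar_add_left, QuadraticMap.polar_smul_left,
    QuadraticMap.polar_smul_right, hv.1, hv.2.1, hv.2.2, hw.1, hw.2, smul_eq_mul, Module.Basis.coord_apply]
  ring

end Groth.Agent.S17432
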