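import Groth.Statements.S1744
import Groth.Agent.UnivExtLib.Basic

set_option autoImplicit false
set_option backward.isDefEq.respectTransparency false
set_option linter.style.haveILetI false
universe u
open CategoryTheory
attribute [local instance] HasDerivedCategory.standard
open LocCoh

namespace Groth.Agent.S1744

/-- Let I be an ideal of a Noetherian ring A and e a natural number with cd(A, I) ≤ e. For every n ≥ 1
there is m > n such that for every A-module N and every i > e, precomposing with A/I^m → A/I^n kills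
every map A/I^n → N[i] in D(A), i.e. the transition maps annihilate Ext^i_A(A/I^n, N) for i > e. -/
theorem result (A : Type u) [CommRing A] [IsNoetherianRing A] (I : Ideal A) (e : ℕ) (he : LocCoh.CdLE A I e) (n : ℕ) (hn : 1 ≤ n) : ∃ (m : ℕ) (hm : n < m), ∀ (N : Type u) [AddCommGroup N] [Module A N] (i : ℕ), e < i → ∀ φ : Dual.inD A (A ⧸ I ^ n) ⟶ (Dual.inD A N)⟦(i : ℤ)⟧, (DerivedCategory.singleFunctor (ModuleCat.{u} A) 0).map (ModuleCat.ofHom (Submodule.mapQ (I ^ m) (I ^ n) LinearMap.id (Ideal.pow_le_pow_right (Nat.le_of_lt hm)))) ≫ φ = 0 := by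
  obtain ⟨m, hnm, hm⟩ := Groth.Agent.LocCohLib.exists_uniform_kill e he n
  refine ⟨max m (n + 1), lt_of_lt_of_le (Nat.lt_succ_self n) (le_max_right _ _), fun N _ _ i hi φ => ?_⟩
  have hle : n ≤ max m (n + 1) := hnm.trans (le_max_left _ _)
  obtain ⟨x, rfl⟩ := (Abelian.Ext.homEquiv (X := Groth.Agent.LocCohLib.quot I n) (Y := ModuleCat.of A N)).surjective φ
  have h := congrArg Abelian.Ext.hom (hm _ hle (le_max_left _ _) (ModuleCat.of A N) i hi x)
  rw [Abelian.Ext.comp_hom, Abelian.Ext.mk₀_hom, ShiftedHom.mk₀_comp, Abelian.Ext.zero_hom] at h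
  exact h

end Groth.Agent.S1744
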