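import Groth.Statements.S17444
import Mathlib.RingTheory.Nilpotent.Basic
import Mathlib.Algebra.Ring.GeomSum

set_option autoImplicit false
universe u v
open SSRed

namespace Groth.Agent.S17444

/-- Let K be a field of characteristic zero, V a K-vector space and g a K-linear endomorphism of V such
that g - 1 is nilpotent (a unipotent automorphism). Then for every integer n > 0 the endomorphisms
gⁿ - 1 and g - 1 have the same kernel: a vector fixed by gⁿ is fixed by g. (The published statement
assumes V finite-dimensional; this row allows any V.) -/
theorem result (K : Type u) (V : Type v) [Field K] [CharZero K]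
    [AddCommGroup V] [Module K V] (g : Module.End K V) (hg : IsNilpotent (g - 1)) (n : ℕ) (hn : 0 < n) :
    LinearMap.ker (g ^ n - 1) = LinearMap.ker (g - 1) := by
  have key : IsUnit (∑ i ∈ Finset.range n, g ^ i) := by
    have h1 : IsNilpotent ((∑ i ∈ Finset.range n, g ^ i) - (n : Module.End K V)) := by
      have : (∑ i ∈ Finset.range n, g ^ i) - (n : Module.End K V) = ∑ i ∈ Finset.range n, (g ^ i - 1) := by
        simp [Finset.sum_sub_distrib]
      rw [this]
      have hc : ∀ i : ℕ, g ^ i - 1 = (∑ j ∈ Finset.range i, g ^ j) * (g - 1) := fun i => (geom_sum_mul g i).symm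
      simp_rw [hc]
      rw [← Finset.sum_mul]
      exact Commute.isNilpotent_mul_left (Commute.sum_left _ _ _ fun i _ => Commute.sum_left _ _ _ fun j _ => ((Commute.refl g).sub_right (Commute.one_right g)).pow_left j) hg
    have h2 : IsUnit (n : Module.End K V) := by
      have : IsUnit ((n : K)) := (Nat.cast_ne_zero.2 hn.ne').isUnit
      simpa using this.map (algebraMap K (Module.End K V))
    simpa using h1.isUnit_add_right_of_commute h2 (Nat.commute_cast _ _)
  rw [← geom_sum_mul g n]
  ext v
  simp only [LinearMap.mem_ker, Module.End.mul_apply]
  exact (Module.End.isUnit_iff _ |>.1 key).injective.eq_iff' (map_zero _)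

end Groth.Agent.S17444
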