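import Groth.Statements.S17446
import Mathlib.Algebra.Algebra.Operations
import Mathlib.GroupTheory.Subgroup.Center
-- import your own Groth.Agent.* helpers here

set_option autoImplicit false
universe u v
open SSRed

namespace Groth.Agent.S17446

/-- Let K be a field, V a finite-dimensional K-vector space and H₁, H₂ subgroups of the group of
K-linear automorphisms of V such that H₂ normalizes H₁. Call the action of a subgroup H unipotent
when, for some n, every product (h₁ - 1)(h₂ - 1)⋯(hₙ - 1) with all hᵢ in H is the zero endomorphism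
(equivalently, V has an H-stable flag on whose successive quotients H acts trivially). If H₁ and H₂
act unipotently, then the subgroup generated by H₁ and H₂ acts unipotently. (In the published result
H₁ and H₂ are the absolute Galois groups of two finite Galois extensions of a strictly henselian
discretely valued field over which an abelian variety becomes semistable, acting on its rational
ℓ-adic Tate module, and the conclusion is semistability over the intersection of the two fields; the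
printed argument uses only that H₂ normalizes H₁.) -/
theorem result (K : Type u) (V : Type v) [Field K]
    [AddCommGroup V] [Module K V] [FiniteDimensional K V]
    (H₁ H₂ : Subgroup (V ≃ₗ[K] V)) (hnorm : ∀ g ∈ H₂, ∀ h ∈ H₁, g * h * g⁻¹ ∈ H₁)
    (h₁ : ∃ n : ℕ, ∀ f : Fin n → ↥H₁,
      (List.ofFn fun i => (((f i : ↥H₁) : V ≃ₗ[K] V) : Module.End K V) - 1).prod = 0)
    (h₂ : ∃ n : ℕ, ∀ f : Fin n → ↥H₂,
      (List.ofFn fun i => (((f i : ↥H₂) : V ≃ₗ[K] V) : Module.End K V) - 1).prod = 0) :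
    ∃ n : ℕ, ∀ f : Fin n → ↥(H₁ ⊔ H₂),
      (List.ofFn fun i => (((f i : ↥(H₁ ⊔ H₂)) : V ≃ₗ[K] V) : Module.End K V) - 1).prod = 0 := by
  classical
  let c : (V ≃ₗ[K] V) → Module.End K V := fun g => (g : Module.End K V)
  have hc : ∀ g h, c (g * h) = c g * c h := fun g h => rfl
  have hc1 : c 1 = 1 := rfl
  let I : Subgroup (V ≃ₗ[K] V) → Submodule K (Module.End K V) := fun H => Submodule.span K ((fun g => c g - 1) '' H)
  have hnil : ∀ H : Subgroup (V ≃ₗ[K] V), (∃ n : ℕ, ∀ f : Fin n → ↥H,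
      (List.ofFn fun i => c (f i) - 1).prod = 0) → ∃ n : ℕ, I H ^ n = ⊥ := by
    rintro H ⟨n, hn⟩
    refine ⟨n, ?_⟩
    rw [Submodule.span_pow, Submodule.span_eq_bot]
    intro x hx
    obtain ⟨f, rfl⟩ := Set.mem_pow.mp hx
    choose g hg hgf using fun i => (f i).2
    refine (congrArg List.prod (congrArg List.ofFn (funext fun i => (hgf i).symm))).trans ?_
    exact hn fun i => ⟨g i, hg i⟩
  obtain ⟨n₁, hn₁⟩ := hnil H₁ h₁
  obtain ⟨n₂, hn₂⟩ := hnil H₂ h₂
  let T : Submodule K (Module.End K V) := Submodule.span K (c '' ((H₁ ⊔ H₂ : Subgroup (V ≃ₗ[K] V)) : Set (V ≃ₗ[K] V)))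
  have hTmem : ∀ g ∈ H₁ ⊔ H₂, c g ∈ T := fun g hg => Submodule.subset_span ⟨g, hg, rfl⟩
  have h1T : (1 : Submodule K (Module.End K V)) ≤ T :=
    Submodule.one_le.mpr (hc1 ▸ hTmem 1 (one_mem _))
  have hone : (1 : Module.End K V) ∈ T := Submodule.one_le.mp h1T
  have hIT : ∀ H ≤ H₁ ⊔ H₂, I H ≤ T := fun H hH => Submodule.span_le.mpr fun x ⟨g, hg, hx⟩ =>
    hx ▸ sub_mem (hTmem g (hH hg)) hone
  have hI1 : I H₁ ≤ T := hIT _ le_sup_left
  have hI2 : I H₂ ≤ T := hIT _ le_sup_right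
  have hTT : T * T ≤ T := by
    rw [Submodule.span_mul_span, Submodule.span_le]
    rintro _ ⟨_, ⟨g, hg, rfl⟩, _, ⟨h, hh, rfl⟩, rfl⟩
    show c g * c h ∈ T
    rw [← hc]
    exact hTmem _ (mul_mem hg hh)
  have hnz : H₂ ≤ Subgroup.normalizer (H₁ : Set (V ≃ₗ[K] V)) := fun g hg h =>
    ⟨fun hh => hnorm g hg h hh, fun hh => by
      have := hnorm g⁻¹ (inv_mem hg) _ hh
      rwa [inv_inv, ← mul_assoc, ← mul_assoc, inv_mul_cancel, one_mul, inv_mul_cancel_right] at this⟩
  have hsupnz : H₁ ⊔ H₂ ≤ Subgroup.normalizer (H₁ : Set (V ≃ₗ[K] V)) := sup_le Subgroup.le_normalizer hnz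
  have hTI : T * I H₁ ≤ I H₁ * T := by
    rw [Submodule.span_mul_span, Submodule.span_le]
    rintro _ ⟨_, ⟨g, hg, rfl⟩, _, ⟨h, hh, rfl⟩, rfl⟩
    have hh' : g * h * g⁻¹ ∈ H₁ := (hsupnz hg h).mp hh
    have : c g * (c h - 1) = (c (g * h * g⁻¹) - 1) * c g := by
      rw [sub_mul, mul_sub, one_mul, mul_one, ← hc, ← hc, inv_mul_cancel_right]
    show c g * (c h - 1) ∈ I H₁ * T
    rw [this]
    exact Submodule.mul_mem_mul (Submodule.subset_span ⟨_, hh', rfl⟩) (hTmem g hg)
  let J : Submodule K (Module.End K V) := I H₁ * T ⊔ I H₂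
  have hgen : ∀ g ∈ H₁ ⊔ H₂, c g - 1 ∈ J := by
    intro g hg
    rw [sup_comm] at hg
    have hg' : g ∈ ((H₂ ⊔ H₁ : Subgroup (V ≃ₗ[K] V)) : Set (V ≃ₗ[K] V)) := hg
    rw [Subgroup.coe_mul_of_left_le_normalizer_right H₂ H₁ hnz] at hg'
    obtain ⟨a, ha, b, hb, rfl⟩ := hg'
    have : c (a * b) - 1 = c a * (c b - 1) + (c a - 1) := by rw [hc, mul_sub, mul_one]; abel
    show c (a * b) - 1 ∈ J
    rw [this]
    refine Submodule.add_mem_sup (hTI (Submodule.mul_mem_mul (hTmem a (le_sup_right (a := H₁) ha)) ?_)) ?_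
    · exact Submodule.subset_span ⟨b, hb, rfl⟩
    · exact Submodule.subset_span ⟨a, ha, rfl⟩
  have hI1T : I H₁ * T * (I H₁ * T) ≤ I H₁ * T := by
    calc I H₁ * T * (I H₁ * T) ≤ I H₁ * T * (T * T) := mul_le_mul' le_rfl (mul_le_mul' hI1 le_rfl)
      _ ≤ I H₁ * T * T := mul_le_mul' le_rfl hTT
      _ = I H₁ * (T * T) := mul_assoc _ _ _
      _ ≤ I H₁ * T := mul_le_mul' le_rfl hTT
  have hJ : ∀ m : ℕ, J ^ m ≤ I H₁ * T ⊔ I H₂ ^ m := by
    intro m
    induction m with
    | zero => simp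
    | succ m ih =>
      have hpow : I H₂ ^ m ≤ T := by
        clear ih
        induction m with
        | zero => simpa using h1T
        | succ m ih => rw [pow_succ]; exact (mul_le_mul' ih hI2).trans hTT
      rw [pow_succ, pow_succ]
      refine (mul_le_mul' ih le_rfl).trans ?_
      rw [Submodule.sup_mul, Submodule.mul_sup, Submodule.mul_sup]
      refine sup_le (sup_le (hI1T.trans le_sup_left) ?_) (sup_le ?_ le_sup_right)
      · refine le_trans ?_ le_sup_left
        rw [mul_assoc]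
        exact mul_le_mul' le_rfl ((mul_le_mul' le_rfl hI2).trans hTT)
      · refine le_trans ?_ le_sup_left
        calc I H₂ ^ m * (I H₁ * T) = I H₂ ^ m * I H₁ * T := (mul_assoc _ _ _).symm
          _ ≤ T * I H₁ * T := mul_le_mul' (mul_le_mul' hpow le_rfl) le_rfl
          _ ≤ I H₁ * T * T := mul_le_mul' hTI le_rfl
          _ = I H₁ * (T * T) := mul_assoc _ _ _
          _ ≤ I H₁ * T := mul_le_mul' le_rfl hTT
  have hP : ∀ k : ℕ, (I H₁ * T) ^ k ≤ I H₁ ^ k * T := by
    intro k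
    induction k with
    | zero => simpa using h1T
    | succ k ih =>
      rw [pow_succ]
      calc (I H₁ * T) ^ k * (I H₁ * T) ≤ I H₁ ^ k * T * (I H₁ * T) := mul_le_mul' ih le_rfl
        _ = I H₁ ^ k * (T * I H₁) * T := by simp only [mul_assoc]
        _ ≤ I H₁ ^ k * (I H₁ * T) * T := mul_le_mul' (mul_le_mul' le_rfl hTI) le_rfl
        _ = I H₁ ^ (k + 1) * (T * T) := by simp only [pow_succ, mul_assoc]
        _ ≤ I H₁ ^ (k + 1) * T := mul_le_mul' le_rfl hTT
  have hzero : J ^ (n₂ * n₁) = ⊥ := by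
    have h2 : J ^ n₂ ≤ I H₁ * T := (hJ n₂).trans (by rw [hn₂, sup_bot_eq])
    rw [pow_mul, eq_bot_iff]
    refine (pow_le_pow_left' h2 n₁).trans ((hP n₁).trans ?_)
    rw [hn₁, Submodule.bot_mul]
  refine ⟨n₂ * n₁, fun f => ?_⟩
  have hmem : ∀ (m : ℕ) (f : Fin m → ↥(H₁ ⊔ H₂)), (List.ofFn fun i => c (f i) - 1).prod ∈ J ^ m := by
    intro m
    induction m with
    | zero => intro f; simpa using Submodule.one_le.mp (le_refl (1 : Submodule K (Module.End K V)))
    | succ m ih =>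
      intro f
      rw [List.ofFn_succ, List.prod_cons, pow_succ']
      exact Submodule.mul_mem_mul (hgen _ (f 0).2) (ih fun i => f i.succ)
  have := hmem _ f
  rwa [hzero, Submodule.mem_bot] at this

end Groth.Agent.S17446
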