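import Groth.Statements.S17448
import Groth.Agent.Hensel.Sections
-- import your own Groth.Agent.* helpers here

set_option autoImplicit false
universe u
open CategoryTheory CategoryTheory.Limits AlgebraicGeometry
open Hensel

namespace Groth.Agent.S17448

/-- Sections over henselian rings: let R be a henselian local ring with residue field k and X → Spec R a
quasi-finite (quasi-compact with discrete fibres), separated and étale morphism. Then the natural
map from sections X(R) to points X(k) of the special fibre is bijective: for every morphism t : Spec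
k → X over Spec k → Spec R there is exactly one section s : Spec R → X of X → Spec R whose
restriction to Spec k is t. -/
theorem result (R : Type u) [CommRing R]
    [HenselianLocalRing R] {X : Scheme.{u}} (f : X ⟶ Spec (CommRingCat.of R))
    [LocallyQuasiFinite f] [QuasiCompact f] [IsSeparated f] [Etale f]
    (t : Spec (CommRingCat.of (IsLocalRing.ResidueField R)) ⟶ X)
    (ht : t ≫ f = Spec.map (CommRingCat.ofHom (IsLocalRing.residue R))) :
    ∃! s : Spec (CommRingCat.of R) ⟶ X,
      s ≫ f = 𝟙 (Spec (CommRingCat.of R)) ∧ Spec.map (CommRingCat.ofHom (IsLocalRing.residue R)) ≫ s = t := by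
  obtain ⟨s, hs, hst⟩ := Groth.Agent.Hensel.exists_section_of_smooth f t ht
  refine ⟨s, ⟨hs, hst⟩, ?_⟩
  rintro s' ⟨hs', hst'⟩
  let u : Spec (CommRingCat.of R) ⟶ pullback f f := pullback.lift s' s (by rw [hs, hs'])
  let i := Spec.map (CommRingCat.ofHom (IsLocalRing.residue R))
  have hiu : i ≫ u = t ≫ pullback.diagonal f := pullback.hom_ext
    (by rw [Category.assoc, pullback.lift_fst, hst', Category.assoc, pullback.diagonal_fst, Category.comp_id])
    (by rw [Category.assoc, pullback.lift_snd, hst, Category.assoc, pullback.diagonal_snd, Category.comp_id])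
  have hc : IsLocalRing.closedPoint R ∈ u ⁻¹ᵁ (pullback.diagonal f).opensRange := by
    refine ⟨t (IsLocalRing.closedPoint _), ?_⟩
    have h := congrArg (fun φ => φ (IsLocalRing.closedPoint (IsLocalRing.ResidueField R))) hiu
    simp only [Scheme.Hom.comp_apply] at h
    rw [← h]
    congr 1
    exact (IsLocalRing.comap_closedPoint (IsLocalRing.residue R))
  have hu : Set.range u ⊆ Set.range (pullback.diagonal f) := by
    rintro _ ⟨p, rfl⟩
    exact ((IsLocalRing.specializes_closedPoint p).mem_open
      (u ⁻¹ᵁ (pullback.diagonal f).opensRange).isOpen hc)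
  let w := IsOpenImmersion.lift (pullback.diagonal f) u hu
  have h1 := congrArg (fun φ => φ ≫ pullback.fst f f) (IsOpenImmersion.lift_fac _ u hu)
  have h2 := congrArg (fun φ => φ ≫ pullback.snd f f) (IsOpenImmersion.lift_fac _ u hu)
  simp only [u, Category.assoc, pullback.diagonal_fst, pullback.diagonal_snd, Category.comp_id,
    pullback.lift_fst, pullback.lift_snd] at h1 h2
  exact h1.symm.trans h2

end Groth.Agent.S17448
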