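import Groth.Statements.S17449
import Groth.Agent.SteinConn.Semicont
import Groth.Agent.GenIrredLib.Near
import Groth.Agent.UnivOpenAtLib.Dvr
-- import your own Groth.Agent.* helpers here

set_option autoImplicit false
universe u
open CategoryTheory CategoryTheory.Limits AlgebraicGeometry
open Stein

namespace Groth.Agent.S17449

/-- Let S be a Noetherian scheme and f : X → S a proper, flat and surjective morphism. Suppose that for
every generic point η of an irreducible component of S the fibre of f at η is geometrically
connected and smooth over the residue field κ(η). Then every fibre of f is geometrically connected. -/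
theorem result {X S : Scheme.{u}}
    (f : X ⟶ S) [IsProper f] [Flat f] [Surjective f] [IsNoetherian S]
    (h : ∀ (Z : Set ↑S) (η : ↑S), Z ∈ irreducibleComponents ↑S → IsGenericPoint η Z →
      GeometricallyConnected (f.fiberToSpecResidueField η) ∧ Smooth (f.fiberToSpecResidueField η)) :
    GeometricallyConnected f := by
  haveI : LocallyOfFinitePresentation f := LocallyOfFinitePresentation.iff_locallyOfFiniteType.2 inferInstance
  rw [Groth.Agent.GenIrredLib.geometricallyConnected_iff_nGeom]
  intro s
  have hirr : irreducibleComponent s ∈ irreducibleComponents ↥S := irreducibleComponent_mem_irreducibleComponents s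
  obtain ⟨η, hη⟩ := QuasiSober.sober (isIrreducible_irreducibleComponent (x := s)) isClosed_irreducibleComponent
  refine le_antisymm ?_ ?_
  · rw [← (Groth.Agent.GenIrredLib.geometricallyConnected_fiber_iff f η).1 (h _ η hirr hη).1]
    exact Groth.Agent.SteinConn.nGeomConnComp_le_of_specializes_proper f (hη.specializes mem_irreducibleComponent)
      fun x _ => Groth.Agent.UnivOpenAtLib.universallyOpen_iff_forall.1 (inferInstance : UniversallyOpen f) x
  · haveI : Surjective (f.fiberToSpecResidueField s) := MorphismProperty.pullback_snd _ _ ‹_›
    haveI : Surjective (Limits.pullback.snd (f.fiberToSpecResidueField s) (Spec.map (CommRingCat.ofHom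
        (algebraMap (S.residueField s) (SeparableClosure (S.residueField s)))))) :=
      MorphismProperty.pullback_snd _ _ ‹_›
    haveI : Nonempty ↥(MoreMor.geomFiber f s) :=
      ⟨((Limits.pullback.snd (f.fiberToSpecResidueField s) (Spec.map (CommRingCat.ofHom
        (algebraMap (S.residueField s) (SeparableClosure (S.residueField s)))))).surjective (IsLocalRing.closedPoint _)).choose⟩
    exact (ENat.one_le_card_iff_nonempty _).2 (Nonempty.map ConnectedComponents.mk inferInstance)

end Groth.Agent.S17449
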