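import Groth.Statements.S1745
import Mathlib
import Groth.Agent.InjHullLib.BaseChange
import Groth.Agent.S0307
import Groth.Agent.S8925
import Groth.Agent.S11661

set_option autoImplicit false
universe u
open scoped TensorProduct
open InjHull

namespace Groth.Agent.S1745

open TensorProduct in
/-- The case of a hull of `A ⧸ p`. -/
lemma injective_baseChange_hull {A B : Type u} [CommRing A] [CommRing B] [Algebra A B] [IsNoetherianRing A]
    [IsNoetherianRing B] [Module.Flat A B]
    (h : ∀ q : PrimeSpectrum B, Ideal.map (algebraMap B (Localization.AtPrime q.asIdeal))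
      ((q.asIdeal.comap (algebraMap A B)).map (algebraMap A B)) = IsLocalRing.maximalIdeal (Localization.AtPrime q.asIdeal))
    (p : Ideal A) [p.IsPrime] (E : Type u) [AddCommGroup E] [Module A E] (f : (A ⧸ p) →ₗ[A] E)
    (hf : InjHull.IsInjectiveHull f) : Module.Injective B (B ⊗[A] E) := by
  classical
  obtain ⟨hbij, g, hg⟩ := (Groth.Agent.S11661.result A p.primeCompl p E f hf).2
    (Set.disjoint_left.2 fun a ha hs => hs ha)
  let M := B ⊗[A] E
  let L := LocalizedModule.mkLinearMap p.primeCompl E
  -- elements outside `p` act bijectively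
  have hbs : ∀ s : p.primeCompl, Function.Bijective fun x : E => (s : A) • x := by
    intro s
    refine ⟨fun a b hab => hbij.1 (IsLocalizedModule.smul_injective L s ?_), fun y => ?_⟩
    · change (s : A) • L a = (s : A) • L b
      rw [← map_smul, ← map_smul]; exact congrArg L hab
    · obtain ⟨z, hz⟩ := hbij.2 (IsLocalizedModule.mk' L y s)
      refine ⟨z, hbij.1 ?_⟩
      have := IsLocalizedModule.mk'_cancel' L y s
      rw [← hz] at this
      exact (map_smul L (s : A) z).trans this
  have hinv : ∀ s : p.primeCompl, ∃ ψ : M →ₗ[B] M, ∀ x, algebraMap A B s • ψ x = x := by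
    intro s
    let e : E ≃ₗ[A] E := LinearEquiv.ofBijective ((s : A) • LinearMap.id) (hbs s)
    refine ⟨e.symm.toLinearMap.baseChange B, fun x => ?_⟩
    induction x using TensorProduct.induction_on with
    | zero => rw [map_zero, smul_zero]
    | tmul b y =>
      rw [LinearMap.baseChange_tmul, algebraMap_smul, ← TensorProduct.tmul_smul]
      exact congrArg (b ⊗ₜ[A] ·) (e.apply_symm_apply y)
    | add u v hu hv => rw [map_add, smul_add, hu, hv]
  -- elements of `p` act locally nilpotently
  have hnil : ∀ a ∈ p, ∀ x : M, ∃ n : ℕ, algebraMap A B a ^ n • x = 0 := by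
    intro a ha x
    induction x using TensorProduct.induction_on with
    | zero => exact ⟨0, smul_zero _⟩
    | tmul b y =>
      obtain ⟨n, hn⟩ := Groth.Agent.InjHullLib.exists_pow_smul_eq_zero p hf.toIsEssentialInj ha y
      exact ⟨n, by rw [← map_pow, algebraMap_smul, ← TensorProduct.tmul_smul, hn, TensorProduct.tmul_zero]⟩
    | add u v hu hv =>
      obtain ⟨i, hi⟩ := hu
      obtain ⟨j, hj⟩ := hv
      exact ⟨i + j, by rw [smul_add, pow_add, mul_comm, mul_smul, hi, smul_zero, zero_add, mul_comm, mul_smul, hj, smul_zero]⟩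
  refine Module.Baer.injective fun J φ => ?_
  -- the ideal of multipliers for which the map extends
  let T : Ideal B :=
    { carrier := {c | ∃ k : B →ₗ[B] M, ∀ a : J, k a = c • φ a}
      zero_mem' := ⟨0, fun a => by rw [LinearMap.zero_apply, zero_smul]⟩
      add_mem' := fun {c d} ⟨k, hk⟩ ⟨l, hl⟩ => ⟨k + l, fun a => by rw [LinearMap.add_apply, hk, hl, add_smul]⟩
      smul_mem' := fun r c ⟨k, hk⟩ => ⟨r • k, fun a => by rw [LinearMap.smul_apply, hk, smul_eq_mul, mul_smul]⟩ }
  suffices h1 : (1 : B) ∈ T by
    obtain ⟨k, hk⟩ := h1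
    exact ⟨k, fun a ha => (hk ⟨a, ha⟩).trans (one_smul B _)⟩
  -- `T` is saturated for the elements of `A` outside `p`
  have hsat : ∀ (s : p.primeCompl) (c : B), algebraMap A B s * c ∈ T → c ∈ T := by
    rintro s c ⟨k, hk⟩
    obtain ⟨ψ, hψ⟩ := hinv s
    refine ⟨ψ ∘ₗ k, fun a => ?_⟩
    rw [LinearMap.comp_apply, hk, mul_smul, map_smul, hψ]
  by_contra h1
  let S := Algebra.algebraMapSubmonoid B p.primeCompl
  have hdisj : Disjoint (T : Set B) S := by
    rw [Set.disjoint_left]
    rintro _ hT ⟨s, hs, rfl⟩
    exact h1 (hsat ⟨s, hs⟩ 1 (by rwa [mul_one]))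
  obtain ⟨Q, hQ, hTQ, hQS⟩ := Ideal.exists_le_prime_disjoint T S hdisj
  have hQp : Q.comap (algebraMap A B) ≤ p := fun a ha => by
    by_contra hap
    exact Set.disjoint_left.1 hQS ha ⟨a, hap, rfl⟩
  by_cases hpQ : p ≤ Q.comap (algebraMap A B)
  · have heq : Q.comap (algebraMap A B) = p := le_antisymm hQp hpQ
    have : Q.LiesOver p := ⟨heq.symm⟩
    let : Algebra (Localization.AtPrime p) (Localization.AtPrime Q) := Localization.AtPrime.algebraOfLiesOver p Q
    let Ap := Localization.AtPrime p
    let Bq := Localization.AtPrime Q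
    let E' := LocalizedModule p.primeCompl E
    have hm : (IsLocalRing.maximalIdeal Ap).map (algebraMap Ap Bq) = IsLocalRing.maximalIdeal Bq := by
      rw [← h ⟨Q, hQ⟩, ← IsLocalization.AtPrime.map_eq_maximalIdeal p Ap, Ideal.map_map, Ideal.map_map,
        ← IsScalarTower.algebraMap_eq, ← IsScalarTower.algebraMap_eq, heq]
    let eres : (Ap ⧸ IsLocalRing.maximalIdeal Ap) ≃ₗ[Ap] Ap ⧸ p.map (algebraMap A Ap) :=
      Submodule.quotEquivOfEq _ _ (IsLocalization.AtPrime.map_eq_maximalIdeal p Ap).symm
    have hg' : InjHull.IsInjectiveHull (g ∘ₗ eres.toLinearMap : IsLocalRing.ResidueField Ap →ₗ[Ap] E') :=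
      { injective := hg.injective.comp eres.injective
        essential := fun N hN hbot => hg.essential N hN (eq_bot_iff.2 fun z hz => by
          obtain ⟨hzN, c, rfl⟩ := hz
          exact hbot.le ⟨hzN, eres.symm c, congrArg g (eres.apply_symm_apply c)⟩)
        isInjective := hg.isInjective }
    let σ := (Submodule.quotEquivOfEq _ _ hm.symm : (Bq ⧸ IsLocalRing.maximalIdeal Bq) ≃ₗ[Bq]
      Bq ⧸ (IsLocalRing.maximalIdeal Ap).map (algebraMap Ap Bq))
    obtain ⟨γ, hγ⟩ := Groth.Agent.InjHullLib.exists_hull_baseChange Bq hm.le (K := 1) (by rw [pow_one, hm])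
      (σ := σ.toLinearMap) σ.injective (fun x _ => ⟨σ.symm x, σ.apply_symm_apply x⟩) hg'
    have := hγ.isInjective
    have : Module.Flat B Bq := IsLocalization.flat Bq Q.primeCompl
    have hN : Module.Injective B (Bq ⊗[Ap] E') := Groth.Agent.S8925.result B Bq _
    -- `Bq ⊗ E'` is the localization of `B ⊗ E` at `Q`
    have hb1 : IsBaseChange Ap L := IsLocalizedModule.isBaseChange p.primeCompl Ap L
    have hb2 : IsBaseChange Bq (((TensorProduct.mk Ap Bq E' 1).restrictScalars A) ∘ₗ L) :=
      IsBaseChange.comp hb1 (TensorProduct.isBaseChange Ap E' Bq)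
    let ι : M →ₗ[B] Bq ⊗[Ap] E' := LinearMap.liftBaseChange B (((TensorProduct.mk Ap Bq E' 1).restrictScalars A) ∘ₗ L)
    have hι : IsBaseChange Bq ι := by
      refine IsBaseChange.of_comp (f := TensorProduct.mk A B E 1) (TensorProduct.isBaseChange A E B) ?_
      convert hb2 using 1
      exact LinearMap.ext fun x => by simp [ι]
    have : IsLocalizedModule Q.primeCompl ι := (isLocalizedModule_iff_isBaseChange Q.primeCompl Bq ι).2 hι
    obtain ⟨k, hk⟩ := Module.Injective.out (R := B) J.subtype Subtype.val_injective (ι ∘ₗ φ)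
    obtain ⟨⟨y, s⟩, hys⟩ := IsLocalizedModule.surj Q.primeCompl ι (k 1)
    have hJ : ∀ a : J, ι ((s : B) • φ a) = ι ((a : B) • y) := fun a => by
      rw [map_smul, map_smul, ← hys, show ι (φ a) = k (a : B) from (hk a).symm,
        show k (a : B) = (a : B) • k 1 from by rw [← map_smul, smul_eq_mul, mul_one], Submonoid.smul_def,
        smul_comm]
    obtain ⟨G, hG⟩ := (isNoetherian_def.1 (inferInstance : IsNoetherian B J) ⊤)
    choose t ht using fun a : J => (IsLocalizedModule.eq_iff_exists Q.primeCompl ι).1 (hJ a)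
    have hmem : ((∏ a ∈ G, t a : Q.primeCompl) : B) * (s : B) ∈ T := by
      refine ⟨LinearMap.toSpanSingleton B M (((∏ a ∈ G, t a : Q.primeCompl) : B) • y), fun a => ?_⟩
      rw [LinearMap.toSpanSingleton_apply]
      have ha : a ∈ Submodule.span B (G : Set J) := hG ▸ trivial
      induction ha using Submodule.span_induction with
      | mem b hb =>
        obtain ⟨c, hc⟩ : t b ∣ ∏ a ∈ G, t a := Finset.dvd_prod_of_mem t hb
        have h2 : (t b : B) • (b : B) • y = (t b : B) • (s : B) • φ b := (ht b).symm
        rw [hc, Submonoid.coe_mul]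
        simp only [smul_smul] at h2 ⊢
        rw [show (b : B) * ((t b : B) * c) = c * ((t b : B) * b) by ring,
          show ((t b : B) * c) * s = c * ((t b : B) * s) by ring, mul_smul, h2, ← mul_smul]
      | zero => rw [map_zero, smul_zero]; exact zero_smul B _
      | add b c _ _ hb hc => rw [map_add, smul_add, ← hb, ← hc]; exact add_smul _ _ _
      | smul r b _ hb => rw [map_smul, Submodule.coe_smul, smul_eq_mul, mul_smul, hb, smul_comm]
    exact ((∏ a ∈ G, t a : Q.primeCompl) * s).2 (hTQ hmem)
  · obtain ⟨a, hap, haQ⟩ := SetLike.not_le_iff_exists.1 hpQ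
    obtain ⟨G, hG⟩ := (isNoetherian_def.1 (inferInstance : IsNoetherian B J) ⊤)
    choose n hn using fun b : J => hnil a hap (φ b)
    have hmem : algebraMap A B a ^ G.sup n ∈ T := by
      refine ⟨0, fun b => ?_⟩
      rw [LinearMap.zero_apply]
      have hb : b ∈ Submodule.span B (G : Set J) := hG ▸ trivial
      induction hb using Submodule.span_induction with
      | mem c hc =>
        obtain ⟨d, hd⟩ := Nat.exists_eq_add_of_le (Finset.le_sup (f := n) hc)
        rw [hd, pow_add, mul_comm, mul_smul, hn c, smul_zero]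
      | zero => rw [map_zero, smul_zero]
      | add b c _ _ hb hc => rw [map_add, smul_add, ← hb, ← hc, add_zero]
      | smul r b _ hb => rw [map_smul, smul_comm, ← hb, smul_zero]
    exact haQ (hQ.mem_of_pow_mem _ (hTQ hmem))


/-- Let A → B be a flat homomorphism of Noetherian rings such that for every prime q of B with
contraction p, the ideal p B_q equals the maximal ideal q B_q of B_q (for instance an étale map).
Then for every injective A-module I the B-module B ⊗_A I is injective. -/
theorem result (A B : Type u) [CommRing A] [CommRing B] [Algebra A B] [IsNoetherianRing A] [IsNoetherianRing B] [Module.Flat A B] (h : ∀ q : PrimeSpectrum B, Ideal.map (algebraMap B (Localization.AtPrime q.asIdeal)) ((q.asIdeal.comap (algebraMap A B)).map (algebraMap A B)) = IsLocalRing.maximalIdeal (Localization.AtPrime q.asIdeal)) (I : Type u) [AddCommGroup I] [Module A I] [Module.Injective A I] : Module.Injective B (B ⊗[A] I) := by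
  classical
  obtain ⟨ι, E, hint, hE⟩ := Groth.Agent.S0307.result A I inferInstance
  let e : (DirectSum ι fun i => E i) ≃ₗ[A] I := LinearEquiv.ofBijective (DirectSum.coeLinearMap E) hint
  have hi : ∀ i, Module.Injective B (B ⊗[A] E i) := by
    intro i
    obtain ⟨hind, hinj⟩ := hE i
    have := hind.1
    obtain ⟨p, hp, f, hf⟩ := Groth.Agent.InjHullLib.exists_injective_quotient_prime (R := A) (E := E i)
    refine injective_baseChange_hull h p (E i) f
      { injective := hf
        essential := fun N hN => Groth.Agent.InjHullLib.inf_ne_bot_of_indecomposable hind hN fun h0 => by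
          have h1 : f 1 ∈ LinearMap.range f := LinearMap.mem_range_self f 1
          rw [h0, Submodule.mem_bot] at h1
          exact one_ne_zero ((injective_iff_map_eq_zero f).1 hf _ h1)
        isInjective := hinj }
  have := Groth.Agent.InjHullLib.injective_directSum (R := B) (fun i => B ⊗[A] E i) hi
  let e' : (B ⊗[A] I) ≃ₗ[B] DirectSum ι fun i => B ⊗[A] E i :=
    (e.symm.baseChange A B _ _).trans (TensorProduct.directSumRight A B B fun i => E i)
  refine Groth.Agent.InjHullLib.injective_of_retract (R := B) (Q := DirectSum ι fun i => B ⊗[A] E i)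
    (E := B ⊗[A] I) e'.toLinearMap e'.symm.toLinearMap ?_
  exact LinearMap.ext fun x => e'.symm_apply_apply x

end Groth.Agent.S1745
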