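import Groth.Statements.S17450
import Groth.Agent.TorusTorsLib.ClosedSub
-- import your own Groth.Agent.* helpers here

set_option autoImplicit false
universe u
open CategoryTheory MonoidalCategory CartesianMonoidalCategory MonObj GrpObj AlgebraicGeometry CategoryTheory.Limits
open AlgGrp

namespace Groth.Agent.S17450

/-- Let k be a field with algebraic closure K and G a semi-abelian variety over k, that is, a smooth
connected commutative k-group scheme of finite type whose base change to K is an extension of an
abelian variety by a torus (there are a closed subgroup scheme T of G_K which is a torus and a flat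
surjective homomorphism from G_K onto a proper smooth connected K-group scheme with kernel T). Let H
be a closed subgroup scheme of G and ℓ a prime number such that the ℓ-torsion subgroup scheme H[ℓ]
is trivial: every point h of H with values in any k-scheme satisfying h^ℓ = 1 is the unit. Then H is
finite over k. -/
theorem result (k : Type u) [Field k]
    (G : Over (Spec (CommRingCat.of k))) [GrpObj G] [IsCommMonObj G] [Smooth G.hom] [QuasiCompact G.hom]
    [ConnectedSpace ↥G.left]
    (hK : (∃ (T : Over (Spec (CommRingCat.of (AlgebraicClosure k)))) (_ : GrpObj T) (i : T ⟶ Red.bc (Spec.map (CommRingCat.ofHom (algebraMap k (AlgebraicClosure k)))) G) (A : Over (Spec (CommRingCat.of (AlgebraicClosure k)))) (_ : GrpObj A) (q : Red.bc (Spec.map (CommRingCat.ofHom (algebraMap k (AlgebraicClosure k)))) G ⟶ A),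
        IsMonHom i ∧ IsClosedImmersion i.left ∧ Red.IsTorus T ∧ IsMonHom q ∧ Surjective q.left ∧ Flat q.left ∧
        AlgGrp.IsKernel i q ∧ IsProper A.hom ∧ Smooth A.hom ∧ ConnectedSpace ↥A.left))
    (H : Over (Spec (CommRingCat.of k))) [GrpObj H] (j : H ⟶ G) [IsMonHom j] [IsClosedImmersion j.left]
    (ℓ : ℕ) (hℓ : ℓ.Prime)
    (htors : ∀ (Y : Over (Spec (CommRingCat.of k))) (h : Y ⟶ H), h ^ ℓ = 1 → h = 1) :
    IsFinite H.hom := by
  obtain ⟨T, _, i, A, _, q, hi, hcl, hT, hq, -, -, hker, hAp, -, -⟩ := hK
  haveI := hi; haveI := hcl; haveI := hq; haveI := hAp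
  let g : Spec (CommRingCat.of (AlgebraicClosure k)) ⟶ Spec (CommRingCat.of k) :=
    Spec.map (CommRingCat.ofHom (algebraMap k (AlgebraicClosure k)))
  haveI : LocallyOfFiniteType (Red.bc g G).hom := inferInstanceAs (LocallyOfFiniteType (pullback.snd G.hom g))
  haveI : QuasiCompact (Red.bc g G).hom := inferInstanceAs (QuasiCompact (pullback.snd G.hom g))
  haveI : IsClosedImmersion ((Over.pullback g).map j).left :=
    MorphismProperty.of_isPullback (P := @IsClosedImmersion) (Groth.Agent.FixedSmooth.isPullback_bc g j) inferInstance
  have h : IsFinite (Red.bc g H).hom :=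
    Groth.Agent.TorusTorsLib.isFinite_of_noTorsion i hT q hker ((Over.pullback g).map j) hℓ
      (Groth.Agent.TorusTorsLib.noTorsion_bc g htors)
  haveI : Surjective g := ⟨fun _ => ⟨default, Subsingleton.elim (α := PrimeSpectrum k) _ _⟩⟩
  haveI : Flat g := inferInstance
  haveI : QuasiCompact g := inferInstance
  exact Groth.Agent.FpqcDesc.isFinite_descends.of_isPullback (IsPullback.of_hasPullback H.hom g).flip
    ⟨⟨‹_›, ‹_›⟩, ‹_›⟩ h

end Groth.Agent.S17450
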