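import Groth.Statements.S17455
import Groth.Agent.SemiAbLib.Torus

set_option autoImplicit false
universe u
open CategoryTheory MonoidalCategory CartesianMonoidalCategory MonObj GrpObj AlgebraicGeometry CategoryTheory.Limits
open AlgGrp

namespace Groth.Agent.S17455

open CategoryTheory CategoryTheory.Limits AlgebraicGeometry

open Groth.Agent CategoryTheory.MonoidalCategory CategoryTheory.CartesianMonoidalCategory CategoryTheory.MonObj
set_option backward.isDefEq.respectTransparency false
set_option linter.style.haveILetI false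
set_option maxHeartbeats 1000000
set_option synthInstance.maxHeartbeats 400000

noncomputable section

variable {k : Type u} [Field k]

/-- A torus subgroup maps into the torus of any extension structure. -/
theorem exists_le {G T T' A' : Over (Spec (CommRingCat.of k))} [GrpObj G] [GrpObj T] [GrpObj T'] [GrpObj A']
    [IsProper A'.hom] [Smooth A'.hom] [ConnectedSpace ↥A'.left] (i : T ⟶ G) [IsMonHom i] (hT : Red.IsTorus T)
    (i' : T' ⟶ G) (q' : G ⟶ A') [IsMonHom q'] (hk : AlgGrp.IsKernel i' q') : ∃ l : T ⟶ T', l ≫ i' = i := by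
  haveI : GeometricallyConnected A'.hom :=
    MonoFibre.geometricallyConnected_of_section A'.hom η[A'].left (Over.w η[A'])
  haveI : GeometricallyIntegral A'.hom := AVLib.geometricallyIntegral_of_smooth A'
  have h : i ≫ q' = 1 := SemiAbLib.hom_torus_eq_one hT (i ≫ q')
  exact ⟨hk.lift i (toUnit _) (h.trans Hom.one_def), hk.lift_fst _ _ _⟩

end

/-- Let k be a field and G a k-group scheme of finite type. If i₁ : T₁ → G and i₂ : T₂ → G are
homomorphisms and closed immersions from tori, and each is the kernel of a flat surjective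
homomorphism from G onto a proper smooth connected k-group scheme, then the two subgroups coincide:
there is an isomorphism e : T₁ ≅ T₂ with e ≫ i₂ = i₁. (So the structure of extension of an abelian
variety by a torus on G, when it exists, is unique.) -/
theorem result (k : Type u) [Field k]
    (G : Over (Spec (CommRingCat.of k))) [GrpObj G] [LocallyOfFiniteType G.hom] [QuasiCompact G.hom]
    (T₁ T₂ A₁ A₂ : Over (Spec (CommRingCat.of k))) [GrpObj T₁] [GrpObj T₂] [GrpObj A₁] [GrpObj A₂]
    (i₁ : T₁ ⟶ G) [IsMonHom i₁] [IsClosedImmersion i₁.left] (h₁ : Red.IsTorus T₁)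
    (i₂ : T₂ ⟶ G) [IsMonHom i₂] [IsClosedImmersion i₂.left] (h₂ : Red.IsTorus T₂)
    (q₁ : G ⟶ A₁) [IsMonHom q₁] [Surjective q₁.left] [Flat q₁.left] (hk₁ : AlgGrp.IsKernel i₁ q₁)
    [IsProper A₁.hom] [Smooth A₁.hom] [ConnectedSpace ↥A₁.left]
    (q₂ : G ⟶ A₂) [IsMonHom q₂] [Surjective q₂.left] [Flat q₂.left] (hk₂ : AlgGrp.IsKernel i₂ q₂)
    [IsProper A₂.hom] [Smooth A₂.hom] [ConnectedSpace ↥A₂.left] :
    ∃ e : T₁ ≅ T₂, e.hom ≫ i₂ = i₁ := by
  obtain ⟨a, ha⟩ := exists_le i₁ h₁ i₂ q₂ hk₂
  obtain ⟨b, hb⟩ := exists_le i₂ h₂ i₁ q₁ hk₁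
  haveI : Mono i₁ := by
    haveI : Mono i₁.left := inferInstance
    exact (Over.forget _).mono_of_mono_map this
  haveI : Mono i₂ := by
    haveI : Mono i₂.left := inferInstance
    exact (Over.forget _).mono_of_mono_map this
  exact ⟨⟨a, b, by rw [← cancel_mono i₁, Category.assoc, hb, ha, Category.id_comp],
    by rw [← cancel_mono i₂, Category.assoc, ha, hb, Category.id_comp]⟩, ha⟩

end Groth.Agent.S17455
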