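import Groth.Statements.S18485
import Groth.Agent.ASp.QfCodim
-- import your own Groth.Agent.* helpers here

set_option autoImplicit false
set_option backward.isDefEq.respectTransparency false
universe u
open CategoryTheory CategoryTheory.Limits AlgebraicGeometry MonObj
open Neron

namespace Groth.Agent.S18485

/-- Let R be a Dedekind domain with fraction field K and H a Spec R-scheme which is flat and locally of
finite type over Spec R. If the generic fibre H_K is locally quasi-finite over K, then H is locally
quasi-finite over Spec R. (The published statement is about the schematic closure, in an S-group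
algebraic space of finite type over a connected Dedekind scheme S, of a finite subgroup of the
generic fibre, which it asserts to be a quasi-finite S-group; this row is the statement about flat
schemes locally of finite type over an affine Dedekind base on which that rests. Locally
quasi-finite is meant here without a finite type clause, which is assumed separately.) -/
theorem result (R : Type u) [CommRing R]
    [IsDedekindDomain R] (H : Over (Spec (CommRingCat.of R))) [Flat H.hom] [LocallyOfFiniteType H.hom]
    [LocallyQuasiFinite ((Neron.genericFibre R).obj H).hom] : LocallyQuasiFinite H.hom := by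
  haveI : IsNoetherianRing R := inferInstance
  haveI hlqf : LocallyQuasiFinite (pullback.snd H.hom (Neron.genPt R)) := ‹LocallyQuasiFinite ((Neron.genericFibre R).obj H).hom›
  set h := H.hom with hh
  let ξ : ↥(Spec (CommRingCat.of R)) := genericPoint ↥(Spec (CommRingCat.of R))
  set q := pullback.fst h (Neron.genPt R) with hq
  haveI : IsPreimmersion (Neron.genPt R) := IsPreimmersion.of_isLocalization (nonZeroDivisors R)
  have hrange : h.base ⁻¹' {ξ} ⊆ Set.range q.base := by
    intro x hx
    rw [Scheme.Pullback.range_fst]
    refine ⟨⟨⊥, Ideal.isPrime_bot⟩, ?_⟩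
    rw [Set.mem_preimage, Set.mem_singleton_iff] at hx
    rw [hx]
    refine PrimeSpectrum.ext ?_
    show (⊥ : Ideal (FractionRing R)).comap (algebraMap R (FractionRing R)) = ξ.asIdeal
    rw [show ξ = ⟨⊥, Ideal.isPrime_bot⟩ from genericPoint_eq_bot_of_affine _]
    exact Ideal.comap_bot_of_injective _ (IsFractionRing.injective R (FractionRing R))
  have hdisc : _root_.IsDiscrete (h.base ⁻¹' {ξ}) := by
    haveI hsub : Subsingleton ↥(Spec (CommRingCat.of (FractionRing R))) :=
      inferInstanceAs (Subsingleton (PrimeSpectrum (FractionRing R)))
    have huniv : _root_.IsDiscrete (Set.univ : Set ↥(pullback h (Neron.genPt R))) := by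
      have h1 := (pullback.snd h (Neron.genPt R)).isDiscrete_preimage_singleton default
      rwa [show (pullback.snd h (Neron.genPt R)).base ⁻¹' {default} = Set.univ from
        Set.eq_univ_of_forall fun x => Subsingleton.elim _ _] at h1
    refine _root_.IsDiscrete.mono ?_ hrange
    rw [← Set.image_univ]
    exact huniv.image q.isEmbedding.toIsInducing
  suffices hall : ∀ u, h.QuasiFiniteAt u by
    refine locallyQuasiFinite_iff_isDiscrete_preimage_singleton.mpr fun y => ?_
    haveI : DiscreteTopology ↥(h.fiber y) := by
      refine discreteTopology_iff_isOpen_singleton.mpr fun z => ?_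
      have hz : h.fiberι y z ∈ h.base ⁻¹' {y} := by
        have := Set.mem_range_self (f := (h.fiberι y).base) z
        rwa [Scheme.Hom.range_fiberι] at this
      generalize hu : h.fiberι y z = u at hz
      rw [Set.mem_preimage, Set.mem_singleton_iff] at hz
      subst hz
      have h1 := Scheme.Hom.quasiFiniteAt_iff_isOpen_singleton_asFiber.mp (hall u)
      have hzu : z = h.asFiber u := (h.fiberι _).isEmbedding.injective (by rw [Scheme.Hom.fiberι_asFiber, hu])
      rw [hzu]; exact h1
    rw [← Scheme.Hom.range_fiberι, ← Set.image_univ]
    exact (isDiscrete_univ_iff.mpr ‹DiscreteTopology ↥(h.fiber y)›).image (h.fiberι y).isEmbedding.toIsInducing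
  intro u
  refine Groth.Agent.ASp.quasiFiniteAt_of_generic h u ?_ fun w₀ _ hw0 => ?_
  · refine le_trans (le_of_eq (ringKrullDim_eq_of_ringEquiv (S := Localization.AtPrime (h u).asIdeal) ?_)) ?_
    · exact (StructureSheaf.stalkIso R (h u)).toRingEquiv.symm
    · rw [IsLocalization.AtPrime.ringKrullDim_eq_height (h u).asIdeal]
      exact le_trans (Ideal.height_le_ringKrullDim_of_ne_top (h u).isPrime.ne_top) (Ring.krullDimLE_iff.mp (inferInstance : Ring.KrullDimLE 1 R))
  · have hξ : h w₀ = ξ := by
      obtain ⟨w, hw, hwξ⟩ := Flat.generalizingMap h ((genericPoint_spec _).specializes (Set.mem_univ (h w₀)) : ξ ⤳ h w₀)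
      rw [← Groth.Agent.ASp.eq_of_ringKrullDim_stalk_eq_zero hw0 hw]; exact hwξ
    rw [Scheme.Hom.quasiFiniteAt_iff_isOpen_singleton_asFiber]
    haveI : DiscreteTopology ↥(h.fiber (h w₀)) := by
      haveI := (hξ ▸ hdisc : _root_.IsDiscrete (h.base ⁻¹' {h w₀})).to_subtype
      exact (h.fiberHomeo (h w₀)).discreteTopology_iff.mpr inferInstance
    exact isOpen_discrete _

end Groth.Agent.S18485
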