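import Groth.Statements.S3029
import Groth.Agent.CMFlatLib.Groupoid
import Groth.Agent.CMFlatLib.Misc
import Groth.Agent.GrpSchLib.Basic
import Groth.Agent.MonoFibre.HomFlat

set_option autoImplicit false
set_option backward.isDefEq.respectTransparency false
set_option backward.isDefEq.respectTransparency.types false
set_option linter.style.haveILetI false
universe u
open CategoryTheory MonoidalCategory CartesianMonoidalCategory MonObj GrpObj AlgebraicGeometry TensorProduct
open SGA3

namespace Groth.Agent.S3029

/-- Let G be a group scheme locally of finite type over a field k and x a point of G. Then the local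
ring of G at x is Cohen–Macaulay. (This is the case of a base field; the published statement treats
flat groups over a local Artinian ring.) -/
theorem result (k : Type u) [Field k] (G : Over (Spec (CommRingCat.of k))) [GrpObj G]
    [LocallyOfFiniteType G.hom] (x : G.left) :
    LocCoh.IsCohenMacaulayLocalRing (G.left.presheaf.stalk x) := by
  haveI : Flat G.hom := MonoFibre.flat_to_spec_field
  haveI : LocallyOfFinitePresentation G.hom := LocallyOfFinitePresentation.iff_locallyOfFiniteType.mpr inferInstance
  obtain ⟨u, -, hu⟩ := CMFlatLib.exists_isCMAt_over G.hom x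
  obtain ⟨w, hw₁, hw₂⟩ := Scheme.Pullback.exists_preimage_pullback (f := G.hom) (g := G.hom) u x (Subsingleton.elim (α := PrimeSpectrum k) _ _)
  let e : G ⊗ G ≅ G ⊗ G :=
    { hom := lift (fst G G * snd G G) (snd G G)
      inv := lift (fst G G * (snd G G)⁻¹) (snd G G)
      hom_inv_id := by
        apply CartesianMonoidalCategory.hom_ext
        · simp [MonObj.comp_mul, GrpObj.comp_inv]
        · simp
      inv_hom_id := by
        apply CartesianMonoidalCategory.hom_ext
        · simp [MonObj.comp_mul]
        · simp }
  haveI : IsIso e.hom.left := ((Over.forget _).mapIso e).isIso_hom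
  have key : ∀ z : (G ⊗ G).left,
      MoreMor.IsCMAt G.hom ((fst G G).left z) ↔ MoreMor.IsCMAt G.hom ((fst G G).left (e.hom.left z)) := by
    intro z
    rw [← CMFlatLib.isCMAt_baseChange_iff G.hom (GrpSchLib.isPullback_fst_snd (T := G) (G := G)) z,
      ← CMFlatLib.isCMAt_baseChange_iff G.hom (GrpSchLib.isPullback_fst_snd (T := G) (G := G)) (e.hom.left z),
      ← CMFlatLib.isCMAt_comp_left_iff]
    rw [← Over.comp_left, lift_snd]
  let z : (G ⊗ G).left := (lift (fst G G) ((fst G G)⁻¹ * snd G G)).left w
  have h1 : (fst G G).left z = u := by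
    rw [← hw₁, ← Scheme.Hom.comp_apply, ← Over.comp_left, lift_fst]
    rfl
  have h2 : (fst G G).left (e.hom.left z) = x := by
    rw [← hw₂, ← Scheme.Hom.comp_apply, ← Over.comp_left, lift_fst, ← Scheme.Hom.comp_apply, ← Over.comp_left,
      MonObj.comp_mul, lift_fst, lift_snd, mul_inv_cancel_left]
    rfl
  have hx : MoreMor.IsCMAt G.hom x := h2 ▸ (key z).1 (h1.symm ▸ hu)
  haveI : IsClosedImmersion ((Spec (CommRingCat.of k)).fromSpecResidueField (G.hom x)) :=
    IsClosedImmersion.of_isPreimmersion _ (by
      rw [Scheme.range_fromSpecResidueField, show ({G.hom x} : Set (Spec (CommRingCat.of k))) = Set.univ from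
        Set.eq_univ_of_forall fun y => Subsingleton.elim (α := PrimeSpectrum k) _ _]
      exact isClosed_univ)
  haveI : Surjective ((Spec (CommRingCat.of k)).fromSpecResidueField (G.hom x)) :=
    ⟨fun y => ⟨IsLocalRing.closedPoint _, Subsingleton.elim (α := PrimeSpectrum k) _ _⟩⟩
  haveI : IsIso ((Spec (CommRingCat.of k)).fromSpecResidueField (G.hom x)) := isIso_of_isClosedImmersion_of_surjective _
  haveI : IsIso (G.hom.fiberι (G.hom x)) := inferInstanceAs (IsIso (CategoryTheory.Limits.pullback.fst G.hom _))
  have h3 : LocCoh.IsCohenMacaulayLocalRing (G.left.presheaf.stalk (G.hom.fiberι (G.hom x) (G.hom.asFiber x))) :=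
    (CMFlatLib.cm_congr (asIso ((G.hom.fiberι (G.hom x)).stalkMap (G.hom.asFiber x))).commRingCatIsoToRingEquiv).2 hx.2
  rwa [G.hom.fiberι_asFiber x] at h3

end Groth.Agent.S3029
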