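import Groth.Statements.S5341
import Groth.Agent.ArtGrpLib.Component
import Groth.Agent.GrpSchLib.Dimension
import Groth.Agent.DimFormulaLib.Field

set_option autoImplicit false
set_option backward.isDefEq.respectTransparency false
set_option backward.isDefEq.respectTransparency.types false
set_option linter.style.haveILetI false
universe u
open CategoryTheory CategoryTheory.Limits MonoidalCategory CartesianMonoidalCategory MonObj GrpObj AlgebraicGeometry
open SGA3

namespace Groth.Agent.S5341

/-- Let G be a group scheme locally of finite type over a field k. Then (i) every irreducible component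
of G has the same dimension as G; (ii) for every point g of G the local dimension of G at g (the
infimum of the dimensions of the open neighbourhoods of g) equals dim G. -/
theorem result (k : Type u) [Field k] (G : Over (Spec (CommRingCat.of k))) [GrpObj G]
    [LocallyOfFiniteType G.hom] :
    (∀ Z ∈ irreducibleComponents ↥G.left, topologicalKrullDim ↥Z = topologicalKrullDim ↥G.left) ∧
    (∀ g : G.left, FlatMor.localDim ↥G.left g = topologicalKrullDim ↥G.left) := by
  haveI : IsLocallyNoetherian G.left := LocallyOfFiniteType.isLocallyNoetherian G.hom
  haveI : JacobsonSpace ↥G.left := LocallyOfFiniteType.jacobsonSpace G.hom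
  have key : ∀ g : G.left, FlatMor.localDim ↥G.left g = topologicalKrullDim ↥(connectedComponent g) := by
    intro g
    let W : G.left.Opens := ⟨connectedComponent g, ArtGrpLib.isOpen_connectedComponent g⟩
    haveI : IrreducibleSpace ↥(W : Scheme) := isIrreducible_iff_irreducibleSpace.mp (by
      show IsIrreducible (connectedComponent g)
      rw [GrpSchLib.connectedComponent_eq]
      exact isIrreducible_irreducibleComponent)
    refine le_antisymm (iInf_le_of_le ⟨W, mem_connectedComponent⟩ le_rfl) (le_iInf fun U => ?_)
    let U' : (W : Scheme).Opens := W.ι ⁻¹ᵁ U.1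
    show topologicalKrullDim ↥(W : Scheme) ≤ _
    rw [← DimFormulaLib.topologicalKrullDim_opens (W.ι ≫ G.hom) U' ⟨⟨g, mem_connectedComponent⟩, U.2⟩]
    exact Topology.IsInducing.topologicalKrullDim_le
      (f := fun w : ↥U' => (⟨W.ι w.1, w.2⟩ : ↥(U.1 : Set G.left)))
      (Topology.IsInducing.codRestrict ((W.ι.isOpenEmbedding.isInducing).comp Topology.IsInducing.subtypeVal) _)
  have hdim : ∀ g : G.left, topologicalKrullDim ↥(connectedComponent g) = topologicalKrullDim ↥G.left := by
    intro g
    obtain ⟨c, hcg, hc⟩ := nonempty_inter_closedPoints (X := G.left) ⟨g, mem_connectedComponent⟩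
      isClosed_connectedComponent.isLocallyClosed
    rw [connectedComponent_eq hcg, ← key, DimFormulaLib.localDim_eq_of_isClosed G.hom _ hc,
      GrpSchLib.ringKrullDim_stalk_eq_topologicalKrullDim G c hc]
  refine ⟨fun Z hZ => ?_, fun g => (key g).trans (hdim g)⟩
  obtain ⟨z, hz⟩ := hZ.1.nonempty
  rw [GrpSchLib.eq_irreducibleComponent hZ hz, ← GrpSchLib.connectedComponent_eq]
  exact hdim z

end Groth.Agent.S5341
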