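import Groth.Statements.S3022
import Groth.Agent.S3029
import Groth.Agent.S5341
import Groth.Agent.CMFlatLib.Groupoid
import Groth.Prelude.Def_Red

set_option autoImplicit false
set_option backward.isDefEq.respectTransparency false
set_option backward.isDefEq.respectTransparency.types false
set_option linter.style.haveILetI false
universe u
open CategoryTheory MonoidalCategory CartesianMonoidalCategory MonObj GrpObj AlgebraicGeometry TensorProduct
open SGA3

namespace Groth.Agent.S3022

/-- Let S be a scheme and G a group scheme over S which is flat and locally of finite presentation. Then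
s ↦ dim G_s (the dimension of the fibre, i.e. of the subspace of G lying over s) is a locally
constant function on S. -/
theorem result (S : Scheme.{u}) (G : Over S) [GrpObj G] [Flat G.hom]
    [LocallyOfFinitePresentation G.hom] :
    IsLocallyConstant (fun s : S => topologicalKrullDim ↥(G.hom.base ⁻¹' {s})) := by
  have hfib : ∀ s : S, LocallyOfFiniteType (Red.bc (S.fromSpecResidueField s) G).hom := fun s =>
    inferInstanceAs (LocallyOfFiniteType (CategoryTheory.Limits.pullback.snd G.hom _))
  have hCM : ∀ x : G.left, MoreMor.IsCMAt G.hom x := fun x => by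
    haveI := hfib (G.hom x)
    exact ⟨Flat.stalkMap G.hom x, S3029.result _ (Red.bc (S.fromSpecResidueField (G.hom x)) G) (G.hom.asFiber x)⟩
  have hc := CMFlatLib.isLocallyConstant_fibreDimAt G.hom hCM
  have h2 := hc.comp_continuous η[G].left.continuous
  have hs : ∀ s : S, G.hom (η[G].left s) = s := fun s =>
    congrArg (fun m : S ⟶ S => m s) (Over.w η[G])
  suffices heq : (fun s : S => topologicalKrullDim ↥(G.hom.base ⁻¹' {s})) =
      (FlatMor.fibreDimAt G.hom) ∘ η[G].left by
    rw [heq]; exact h2
  funext s
  have key : ∀ (y : S) (p : G.hom.fiber y), FlatMor.localDim (G.hom.fiber y) p =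
      topologicalKrullDim ↥(G.hom.base ⁻¹' {y}) := fun y p => by
    haveI := hfib y
    rw [← IsHomeomorph.topologicalKrullDim_eq _ (G.hom.fiberHomeo y).isHomeomorph]
    exact (S5341.result _ (Red.bc (S.fromSpecResidueField y) G)).2 p
  show _ = FlatMor.localDim (G.hom.fiber (G.hom (η[G].left s))) (G.hom.asFiber (η[G].left s))
  rw [key, hs]

end Groth.Agent.S3022
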