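import Groth.Statements.S18489
import Groth.Agent.Neutral.HomFlat
import Groth.Agent.ASp.PropDescend
import Groth.Agent.ASp.ZeroDim
import Groth.Agent.SgaHomLib.Unit
import Groth.Agent.S18485
import Groth.Agent.S3016
import Groth.Agent.S3022
-- import your own Groth.Agent.* helpers here

set_option autoImplicit false
set_option backward.isDefEq.respectTransparency false
set_option linter.style.haveILetI false
set_option maxHeartbeats 1600000
universe u
open CategoryTheory CategoryTheory.Limits AlgebraicGeometry MonObj
open Neron

namespace Groth.Agent.S18489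

open Limits MonoidalCategory CartesianMonoidalCategory GrpObj

theorem eq_univ_of_dim {X : Type*} [TopologicalSpace X] [IrreducibleSpace X] {C : Set X} (hC : IsClosed C) {d : ℕ}
    (hX : topologicalKrullDim X = d) (hCd : topologicalKrullDim C = d) : C = Set.univ := by
  by_contra hne
  have hι : Topology.IsClosedEmbedding (Subtype.val : C → X) := hC.isClosedEmbedding_subtypeVal
  haveI : Nonempty (TopologicalSpace.IrreducibleCloseds C) := by
    by_contra h
    rw [not_nonempty_iff] at h
    have : topologicalKrullDim C = ⊥ := Order.krullDim_eq_bot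
    rw [hCd] at this
    exact WithBot.natCast_ne_bot _ this
  obtain ⟨l, hl⟩ := Order.le_krullDim_iff.1 (le_of_eq hCd.symm)
  let l' : LTSeries (TopologicalSpace.IrreducibleCloseds X) :=
    l.map (TopologicalSpace.IrreducibleCloseds.map (Subtype.val : C → X) continuous_subtype_val)
      (TopologicalSpace.IrreducibleCloseds.map_strictMono_of_isInducing hι.isInducing)
  have hsub : ((RelSeries.last l' : TopologicalSpace.IrreducibleCloseds X) : Set X) ⊆ C := by
    rw [LTSeries.last_map]
    refine closure_minimal ?_ hC
    rintro _ ⟨v, -, rfl⟩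
    exact v.2
  let top : TopologicalSpace.IrreducibleCloseds X := ⟨Set.univ, IrreducibleSpace.isIrreducible_univ X, isClosed_univ⟩
  have hlast : RelSeries.last l' < top := lt_of_le_of_ne (fun x _ => Set.mem_univ x) fun e =>
    hne (Set.univ_subset_iff.1 (by rw [e] at hsub; exact hsub))
  have h1 : (((RelSeries.snoc l' top hlast).length : ℕ) : WithBot ℕ∞) ≤ (d : WithBot ℕ∞) :=
    le_trans (Order.LTSeries.length_le_krullDim _) hX.le
  rw [RelSeries.snoc_length] at h1
  have h2 : l'.length + 1 ≤ d := by exact_mod_cast h1
  have h3 : l'.length = d := hl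
  omega

section Field

variable {k : Type u} [Field k] {G H : Over (Spec (CommRingCat.of k))} [GrpObj G] [GrpObj H]
  [LocallyOfFiniteType G.hom] [LocallyOfFiniteType H.hom]

theorem exists_dim_eq_nat : ∃ d : ℕ, topologicalKrullDim H.left = d := by
  haveI : JacobsonSpace H.left := LocallyOfFiniteType.jacobsonSpace H.hom
  haveI : IsLocallyNoetherian H.left := LocallyOfFiniteType.isLocallyNoetherian H.hom
  obtain ⟨x, -, hx⟩ := nonempty_inter_closedPoints (Z := Set.univ) ⟨GrpSchLib.unitPt H, trivial⟩ isOpen_univ.isLocallyClosed
  rw [← GrpSchLib.ringKrullDim_stalk_eq_topologicalKrullDim (G := H) x hx]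
  have h1 := ringKrullDim_ne_top (R := H.left.presheaf.stalk x)
  have h2 : ringKrullDim (H.left.presheaf.stalk x) ≠ ⊥ := ringKrullDim_ne_bot
  generalize ringKrullDim (H.left.presheaf.stalk x) = e at h1 h2
  induction e using WithBot.recBotCoe with
  | bot => exact absurd rfl h2
  | coe a =>
    induction a using ENat.recTopCoe with
    | top => exact absurd rfl h1
    | coe n => exact ⟨n, rfl⟩

theorem dim_range (u : G ⟶ H) [IsMonHom u] [QuasiCompact u.left] [LocallyQuasiFinite u.left] :
    IsClosed (Set.range u.left) ∧ topologicalKrullDim G.left = topologicalKrullDim (Set.range u.left) := by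
  obtain ⟨hc, hd⟩ := Groth.Agent.S3016.result k G H u
  refine ⟨hc, ?_⟩
  haveI : LocallyQuasiFinite (pullback.snd u.left η[H].left) := MorphismProperty.pullback_snd _ _ ‹_›
  haveI : Subsingleton ↥(𝟙_ (Over (Spec (CommRingCat.of k)))).left := inferInstanceAs (Subsingleton (PrimeSpectrum k))
  haveI : Subsingleton ↥(Spec (CommRingCat.of k)) := inferInstanceAs (Subsingleton (PrimeSpectrum k))
  have hdisc : DiscreteTopology ↥(pullback u.left η[H].left) := by
    let z : ↥(𝟙_ (Over (Spec (CommRingCat.of k)))).left := (IsLocalRing.closedPoint k : PrimeSpectrum k)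
    have := (pullback.snd u.left η[H].left).isDiscrete_preimage_singleton z
    rw [show (pullback.snd u.left η[H].left) ⁻¹' {z} = Set.univ from
      Set.eq_univ_of_forall fun y => Subsingleton.elim _ _] at this
    exact isDiscrete_univ_iff.1 this
  haveI : Nonempty ↥(pullback u.left η[H].left) := by
    obtain ⟨y, -, -⟩ := Scheme.Pullback.exists_preimage_pullback (f := u.left) (g := η[H].left) (GrpSchLib.unitPt G)
      (IsLocalRing.closedPoint k)
      (congrArg (fun m : 𝟙_ (Over (Spec (CommRingCat.of k))) ⟶ H => m.left (IsLocalRing.closedPoint k)) (IsMonHom.one_hom u))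
    exact ⟨y⟩
  rw [hd, ASp.topologicalKrullDim_eq_zero_of_discrete ↥(pullback u.left η[H].left), add_zero]

theorem image_neutral [QuasiCompact G.hom] [IsSeparated H.hom] (u : G ⟶ H) [IsMonHom u] [LocallyQuasiFinite u.left]
    (hdim : topologicalKrullDim G.left = topologicalKrullDim H.left) :
    u.left '' SGA3x.neutralSet G = SGA3x.neutralSet H := by
  obtain ⟨G0, _, i, _, _, hr⟩ := Neutral.exists_subgroup G Neutral.isOpen_neutralSet_field
  haveI : IsLocallyNoetherian G.left := LocallyOfFiniteType.isLocallyNoetherian G.hom
  haveI : QuasiCompact G0.hom := by rw [← Over.w i]; infer_instance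
  haveI : LocallyOfFiniteType G0.hom := by rw [← Over.w i]; infer_instance
  haveI : QuasiCompact ((i ≫ u).left ≫ H.hom) := by rw [Over.w (i ≫ u)]; infer_instance
  haveI : QuasiCompact (i ≫ u).left := QuasiCompact.of_comp (i ≫ u).left H.hom
  haveI : LocallyQuasiFinite (i ≫ u).left := by rw [Over.comp_left]; infer_instance
  obtain ⟨hc, hd⟩ := dim_range (i ≫ u)
  have hrange : Set.range (i ≫ u).left = u.left '' SGA3x.neutralSet G := by
    rw [← hr, ← Set.range_comp]; rfl
  rw [hrange] at hc hd
  have hG0 : topologicalKrullDim G0.left = topologicalKrullDim H.left := by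
    rw [← hdim, IsHomeomorph.topologicalKrullDim_eq _ i.left.isOpenEmbedding.isEmbedding.toHomeomorph.isHomeomorph, hr]
    exact Neutral.topologicalKrullDim_open ⟨_, Neutral.isOpen_neutralSet_field⟩
      ⟨GrpSchLib.unitPt G, show _ ∈ SGA3x.neutralSet G by rw [Neutral.neutralSet_field]; exact mem_connectedComponent⟩
  have he : u.left (GrpSchLib.unitPt G) = GrpSchLib.unitPt H :=
    congrArg (fun m : 𝟙_ (Over (Spec (CommRingCat.of k))) ⟶ H => m.left (IsLocalRing.closedPoint k)) (IsMonHom.one_hom u)
  have hsub : u.left '' SGA3x.neutralSet G ⊆ SGA3x.neutralSet H := by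
    rw [Neutral.neutralSet_field, Neutral.neutralSet_field, ← he]
    exact u.left.continuous.image_connectedComponent_subset _
  haveI : IrreducibleSpace ↥(SGA3x.neutralSet H) :=
    (isIrreducible_iff_irreducibleSpace (s := SGA3x.neutralSet H)).1 Neutral.isIrreducible_neutralSet
  obtain ⟨d, hd'⟩ := exists_dim_eq_nat (H := H)
  have hD : topologicalKrullDim ↥(SGA3x.neutralSet H) = d := by
    rw [← hd']
    exact Neutral.topologicalKrullDim_open ⟨_, Neutral.isOpen_neutralSet_field⟩
      ⟨GrpSchLib.unitPt H, show _ ∈ SGA3x.neutralSet H by rw [Neutral.neutralSet_field]; exact mem_connectedComponent⟩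
  have hC := eq_univ_of_dim (C := (Subtype.val : SGA3x.neutralSet H → H.left) ⁻¹' (u.left '' SGA3x.neutralSet G))
    (hc.preimage continuous_subtype_val) hD (by
      rw [IsHomeomorph.topologicalKrullDim_eq _
        ((Topology.IsEmbedding.subtypeVal (p := fun x => x ∈ SGA3x.neutralSet H)).homeomorphImage _).isHomeomorph,
        Set.image_preimage_eq_inter_range, Subtype.range_coe, Set.inter_eq_left.2 hsub, ← hd, hG0, hd'])
  exact hsub.antisymm fun y hy => (hC.ge (Set.mem_univ (⟨y, hy⟩ : SGA3x.neutralSet H)) :)

end Field

theorem dim_preimage {S : Scheme.{u}} {k : CommRingCat.{u}} (g : Spec k ⟶ S) [IsPreimmersion g] [Nonempty ↥(Spec k)]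
    (X : Over S) (s : S) (hs : ∀ z, g z = s) :
    topologicalKrullDim (Red.bc g X).left = topologicalKrullDim ↥(X.hom ⁻¹' {s}) := by
  haveI : IsPreimmersion (pullback.fst X.hom g) := MorphismProperty.pullback_fst _ _ ‹_›
  refine (IsHomeomorph.topologicalKrullDim_eq _ (pullback.fst X.hom g).isEmbedding.toHomeomorph.isHomeomorph).trans ?_
  have : Set.range g = {s} := by
    ext y
    exact ⟨fun ⟨z, hz⟩ => hz ▸ hs z, fun h => ⟨Classical.arbitrary _, (hs _).trans h.symm⟩⟩
  rw [Scheme.Pullback.range_fst, this]

/-- Let R be a Dedekind domain with fraction field K, let A and B be group schemes over Spec R which are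
Néron models of their generic fibres A_K and B_K, both abelian varieties over K (proper and
geometrically integral), and let φ : A → B be a homomorphism of group schemes over Spec R whose
generic fibre φ_K is an isogeny (surjective with finite kernel). Then φ is locally quasi-finite (its
fibres are finite; it is of finite type in any case) if and only if φ is flat. (A third equivalent
condition, surjectivity of φ on the identity components of the fibres, is not part of this
statement. The published lemma is over any connected Dedekind scheme; the affine base is stated.) -/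
theorem result (R : Type u) [CommRing R]
    [IsDedekindDomain R] (A B : Over (Spec (CommRingCat.of R))) [GrpObj A] [GrpObj B]
    (hA : Neron.IsNeronModelOf R A ((Neron.genericFibre R).obj A) (Iso.refl _))
    (hB : Neron.IsNeronModelOf R B ((Neron.genericFibre R).obj B) (Iso.refl _))
    [IsProper ((Neron.genericFibre R).obj A).hom] [GeometricallyIntegral ((Neron.genericFibre R).obj A).hom]
    [IsProper ((Neron.genericFibre R).obj B).hom] [GeometricallyIntegral ((Neron.genericFibre R).obj B).hom]
    (φ : A ⟶ B) [IsMonHom φ] (hφ : SGA7.IsIsogenyOver ((Neron.genericFibre R).map φ)) :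
    LocallyQuasiFinite φ.left ↔ Flat φ.left := by
  obtain ⟨hAs, hAsep, hAft, hAqc, -⟩ := hA
  obtain ⟨hBs, hBsep, hBft, hBqc, -⟩ := hB
  haveI := hAs
  haveI := hBs
  obtain ⟨hsurj, hfin⟩ := hφ
  haveI : LocallyOfFiniteType (φ.left ≫ B.hom) := by rw [Over.w φ]; exact hAft
  haveI : LocallyOfFiniteType φ.left := locallyOfFiniteType_of_comp φ.left B.hom
  have hG : ∀ s : Spec (CommRingCat.of R), LocallyOfFiniteType (A.hom.fiberToSpecResidueField s) := fun s =>
    MorphismProperty.pullback_snd _ _ hAft
  let g : Spec (CommRingCat.of (FractionRing R)) ⟶ Spec (CommRingCat.of R) := Neron.genPt R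
  let φK : Red.bc g A ⟶ Red.bc g B := (Over.pullback g).map φ
  haveI : IsMonHom φK := inferInstanceAs (IsMonHom ((Over.pullback g).map φ))
  haveI : LocallyOfFiniteType (Red.bc g A).hom := MorphismProperty.pullback_snd (P := @LocallyOfFiniteType) _ _ hAft
  haveI : LocallyOfFiniteType (Red.bc g B).hom := MorphismProperty.pullback_snd (P := @LocallyOfFiniteType) _ _ hBft
  haveI hqfK : LocallyQuasiFinite φK.left := by
    have hK : AlgGrp.IsKernel (pullback.fst φK η[Red.bc g B]) φK := by
      rw [AlgGrp.IsKernel, toUnit_unique (toUnit _) (pullback.snd φK η[Red.bc g B])]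
      exact IsPullback.of_hasPullback φK η[Red.bc g B]
    haveI := hfin _ _ hK
    haveI : LocallyOfFiniteType (φK.left ≫ (Red.bc g B).hom) := by rw [Over.w φK]; infer_instance
    haveI : LocallyOfFiniteType φK.left := locallyOfFiniteType_of_comp φK.left (Red.bc g B).hom
    exact (SgaHomLib.lqf_tfae φK _ (fun s => MorphismProperty.pullback_snd _ _ ‹LocallyOfFiniteType (Red.bc g A).hom›) hK).2.1.2
      inferInstance
  let N := pullback φ η[B]
  have hN : AlgGrp.IsKernel (pullback.fst φ η[B]) φ := by
    rw [AlgGrp.IsKernel, toUnit_unique (toUnit _) (pullback.snd φ η[B])]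
    exact IsPullback.of_hasPullback φ η[B]
  have P0 := SgaHomLib.isPullback_kernel φ (pullback.fst φ η[B]) hN
  constructor
  · intro hqf
    have hred : ∀ s : Spec (CommRingCat.of R), IsReduced (B.hom.fiber s) := fun s => by
      haveI : Smooth (B.hom.fiberToSpecResidueField s) := MorphismProperty.pullback_snd _ _ hBs
      exact ASp.isReduced_of_smooth (B.hom.fiberToSpecResidueField s)
    refine Neutral.flat_of_image_eq φ hred ?_
    haveI : IsPreimmersion g := IsPreimmersion.of_isLocalization (nonZeroDivisors R)
    haveI : Surjective φK.left := hsurj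
    have hgen : topologicalKrullDim (Red.bc g A).left = topologicalKrullDim (Red.bc g B).left := by
      haveI : QuasiCompact (φK.left ≫ (Red.bc g B).hom) := by
        rw [Over.w φK]; exact MorphismProperty.pullback_snd (P := @QuasiCompact) _ _ hAqc
      haveI : IsSeparated (Red.bc g B).hom := MorphismProperty.pullback_snd (P := @IsSeparated) _ _ hBsep
      haveI : QuasiCompact φK.left := QuasiCompact.of_comp φK.left (Red.bc g B).hom
      rw [(dim_range φK).2, Set.range_eq_univ.2 φK.left.surjective]
      exact IsHomeomorph.topologicalKrullDim_eq _ (Homeomorph.Set.univ _).isHomeomorph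
    haveI : IrreducibleSpace ↥(Spec (CommRingCat.of R)) := inferInstanceAs (IrreducibleSpace (PrimeSpectrum R))
    have key : ∀ s : Spec (CommRingCat.of R),
        φ.left '' (SGA3x.neutralSet A ∩ A.hom ⁻¹' {s}) = SGA3x.neutralSet B ∩ B.hom ⁻¹' {s} := fun s => by
      let j := (Spec (CommRingCat.of R)).fromSpecResidueField s
      haveI : LocallyOfFiniteType (Red.bc j A).hom := MorphismProperty.pullback_snd (P := @LocallyOfFiniteType) _ _ hAft
      haveI : LocallyOfFiniteType (Red.bc j B).hom := MorphismProperty.pullback_snd (P := @LocallyOfFiniteType) _ _ hBft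
      haveI : QuasiCompact (Red.bc j A).hom := MorphismProperty.pullback_snd (P := @QuasiCompact) _ _ hAqc
      haveI : IsSeparated (Red.bc j B).hom := MorphismProperty.pullback_snd (P := @IsSeparated) _ _ hBsep
      haveI : IsMonHom (OpenSubgrp.fib s φ) := inferInstanceAs (IsMonHom ((Over.pullback j).map φ))
      haveI : LocallyQuasiFinite (OpenSubgrp.fib s φ).left :=
        MorphismProperty.of_isPullback (P := @LocallyQuasiFinite) (OpenSubgrp.isPullback_fib s φ) hqf
      have hA1 := (Groth.Agent.S3022.result _ A).apply_eq_of_isPreconnected isPreconnected_univ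
        (Set.mem_univ s) (Set.mem_univ (g (IsLocalRing.closedPoint _)))
      have hB1 := (Groth.Agent.S3022.result _ B).apply_eq_of_isPreconnected isPreconnected_univ
        (Set.mem_univ s) (Set.mem_univ (g (IsLocalRing.closedPoint _)))
      have hs : ∀ z, j z = s := fun z => Scheme.fromSpecResidueField_apply s z
      have hg : ∀ z, g z = g (IsLocalRing.closedPoint (FractionRing R)) := fun z =>
        congrArg g (Subsingleton.elim (α := PrimeSpectrum (FractionRing R)) _ _)
      haveI : Nonempty ↥(Spec (CommRingCat.of (FractionRing R))) := ⟨(IsLocalRing.closedPoint (FractionRing R) : PrimeSpectrum _)⟩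
      have hd : topologicalKrullDim (Red.bc j A).left = topologicalKrullDim (Red.bc j B).left := by
        refine (dim_preimage j A s hs).trans (Eq.trans ?_ (dim_preimage j B s hs).symm)
        refine hA1.trans (Eq.trans ?_ hB1.symm)
        exact ((dim_preimage g A _ hg).symm.trans hgen).trans (dim_preimage g B _ hg)
      have h := image_neutral (k := ↥((Spec (CommRingCat.of R)).residueField s)) (OpenSubgrp.fib s φ) hd
      have h1 := Neutral.image_fibre_neutralSet (G := B) s Set.univ
      rw [Set.univ_inter, Set.preimage_univ, Set.univ_inter] at h1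
      rw [← Neutral.fib_neutralSet φ s, h, h1]
    ext y
    constructor
    · rintro ⟨x, hx, rfl⟩
      exact ((key (A.hom x)).le ⟨x, ⟨hx, rfl⟩, rfl⟩).1
    · intro hy
      obtain ⟨x, hx, hxy⟩ := (key (B.hom y)).ge ⟨hy, rfl⟩
      exact ⟨x, hx.1, hxy⟩
  · intro hfl
    haveI : Flat N.hom := MorphismProperty.of_isPullback (P := @Flat) P0 hfl
    haveI : LocallyOfFiniteType N.hom := MorphismProperty.of_isPullback (P := @LocallyOfFiniteType) P0 ‹_›
    haveI : LocallyQuasiFinite ((Neron.genericFibre R).obj N).hom := by
      have hη : η[Red.bc g B].left ≫ pullback.fst B.hom g = g ≫ η[B].left := by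
        simp [Red.bc, Functor.obj.η_def]
      have P1 := (IsPullback.of_hasPullback N.hom g).paste_horiz P0
      let x : (Red.bc g N).left ⟶ (Red.bc g A).left :=
        pullback.lift (pullback.fst N.hom g ≫ (pullback.fst φ η[B]).left) (pullback.snd N.hom g)
          (by rw [Category.assoc, Over.w, pullback.condition])
      have P2 := SgaHomLib.isPullback_bc B g φ
      have P3 : IsPullback x (pullback.snd N.hom g) φK.left η[Red.bc g B].left := by
        refine IsPullback.of_right (h₁₂ := pullback.fst A.hom g) (v₁₃ := φ.left) (h₂₂ := pullback.fst B.hom g) ?_ ?_ P2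
        · rw [hη]
          simp only [x, pullback.lift_fst]
          exact P1
        · refine pullback.hom_ext ?_ ?_
          · rw [Category.assoc, Category.assoc, hη, ← P2.w]
            simp only [x, pullback.lift_fst_assoc]
            exact P1.w
          · rw [Category.assoc, Category.assoc]
            refine (congrArg (x ≫ ·) (Over.w φK)).trans ((pullback.lift_snd _ _ _).trans ?_)
            exact ((congrArg (pullback.snd N.hom g ≫ ·) (SgaHomLib.unit_w (Red.bc g B))).trans (Category.comp_id _)).symm
      exact MorphismProperty.of_isPullback (P := @LocallyQuasiFinite) P3 hqfK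
    haveI := Groth.Agent.S18485.result R N
    exact (SgaHomLib.lqf_tfae φ _ hG hN).2.1.2 inferInstance

end Groth.Agent.S18489
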