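import Groth.Statements.S17459
import Groth.Agent.S18489
import Groth.Agent.S5315
-- import your own Groth.Agent.* helpers here

set_option autoImplicit false
set_option backward.isDefEq.respectTransparency false
set_option linter.style.haveILetI false
set_option maxHeartbeats 1600000
universe u
open CategoryTheory CategoryTheory.Limits AlgebraicGeometry MonObj
open SGA7

namespace Groth.Agent.S17459

open Limits MonoidalCategory CartesianMonoidalCategory

/-- Let R be a discrete valuation ring with fraction field K, let N and N' be group schemes over Spec R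
which are Néron models of their generic fibres A = N_K and B = N'_K, abelian varieties (proper and
geometrically integral) of the same dimension, and let u : N → N' be a homomorphism (the extension
of u_K : A → B). If the homomorphism induced by u on the special fibres is locally quasi-finite — as
it is when it restricts to an isogeny between the identity components, the printed hypothesis, which
also forces dim A = dim B — then u_K is an isogeny: its underlying map is surjective and its kernel
is finite. -/
theorem result (R K : Type u) [CommRing R] [IsDomain R]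
    [IsDiscreteValuationRing R] [Field K] [Algebra R K] [IsFractionRing R K]
    (N N' : Over (Spec (CommRingCat.of R))) [GrpObj N] [GrpObj N']
    (hN : SGA7.IsNeron R K N) (hN' : SGA7.IsNeron R K N')
    [IsProper ((SGA7.genFib R K).obj N).hom] [GeometricallyIntegral ((SGA7.genFib R K).obj N).hom]
    [IsProper ((SGA7.genFib R K).obj N').hom] [GeometricallyIntegral ((SGA7.genFib R K).obj N').hom]
    (hdim : topologicalKrullDim ↥((SGA7.genFib R K).obj N).left = topologicalKrullDim ↥((SGA7.genFib R K).obj N').left)
    (u : N ⟶ N') [IsMonHom u]
    [LocallyQuasiFinite (SGA7.fibreHom (IsLocalRing.closedPoint R) u).left] :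
    SGA7.IsIsogenyOver ((SGA7.genFib R K).map u) := by
  obtain ⟨hs, hsep, hqc, -⟩ := hN
  obtain ⟨hs', hsep', hqc', -⟩ := hN'
  haveI := hs
  haveI := hs'
  haveI : LocallyOfFiniteType (u.left ≫ N'.hom) := by rw [Over.w u]; infer_instance
  haveI : LocallyOfFiniteType u.left := locallyOfFiniteType_of_comp u.left N'.hom
  have hG : ∀ s : Spec (CommRingCat.of R), LocallyOfFiniteType (N.hom.fiberToSpecResidueField s) := fun s =>
    MorphismProperty.pullback_snd _ _ (inferInstance : LocallyOfFiniteType N.hom)
  obtain ⟨hopen, hloc⟩ := Groth.Agent.S5315.result _ N N' u hG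
  have hall : ∀ s : Spec (CommRingCat.of R),
      LocallyQuasiFinite ((Over.pullback ((Spec (CommRingCat.of R)).fromSpecResidueField s)).map u).left := fun s => by
    have h0 : IsLocalRing.closedPoint R ∈ {s : Spec (CommRingCat.of R) |
        LocallyQuasiFinite ((Over.pullback ((Spec (CommRingCat.of R)).fromSpecResidueField s)).map u).left} :=
      ‹LocallyQuasiFinite (SGA7.fibreHom (IsLocalRing.closedPoint R) u).left›
    exact (IsLocalRing.specializes_closedPoint s).mem_open hopen h0
  haveI : LocallyQuasiFinite u.left := SgaHomLib.of_locus u @LocallyQuasiFinite hloc hall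
  let g : Spec (CommRingCat.of K) ⟶ Spec (CommRingCat.of R) := Spec.map (CommRingCat.ofHom (algebraMap R K))
  let A := (SGA7.genFib R K).obj N
  let B := (SGA7.genFib R K).obj N'
  let v : A ⟶ B := (SGA7.genFib R K).map u
  haveI : IsMonHom v := inferInstanceAs (IsMonHom ((Over.pullback g).map u))
  haveI : LocallyQuasiFinite v.left :=
    MorphismProperty.of_isPullback (P := @LocallyQuasiFinite) (SgaHomLib.isPullback_bc N' g u) ‹_›
  haveI : IsProper A.hom := ‹_›
  haveI : IsProper B.hom := ‹_›
  haveI : IsProper (v.left ≫ B.hom) := by rw [Over.w v]; infer_instance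
  haveI : IsProper v.left := IsProper.of_comp v.left B.hom
  obtain ⟨hc, hd⟩ := Groth.Agent.S18489.dim_range (G := A) (H := B) v
  haveI : GeometricallyIntegral B.hom := ‹_›
  haveI : IrreducibleSpace B.left := GeometricallyIrreducible.irreducibleSpace B.hom B.hom.isOpenMap
  obtain ⟨d, hd'⟩ := Groth.Agent.S18489.exists_dim_eq_nat (H := B)
  refine ⟨⟨Set.range_eq_univ.1 (Groth.Agent.S18489.eq_univ_of_dim hc hd' (hd.symm.trans (hdim.trans hd')))⟩,
    fun N₀ i hK => ?_⟩
  have P0 := SgaHomLib.isPullback_kernel v i hK
  haveI : IsClosedImmersion η[B].left := by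
    haveI : IsClosedImmersion (η[B].left ≫ B.hom) := by
      rw [SgaHomLib.unit_w]; exact (inferInstanceAs (IsClosedImmersion (𝟙 (Spec (CommRingCat.of K)))))
    exact IsClosedImmersion.of_comp η[B].left B.hom
  haveI : IsClosedImmersion i.left := MorphismProperty.of_isPullback (P := @IsClosedImmersion) P0.flip ‹_›
  haveI : IsProper N₀.hom := by rw [← Over.w i]; infer_instance
  haveI : LocallyQuasiFinite N₀.hom := MorphismProperty.of_isPullback (P := @LocallyQuasiFinite) P0 ‹_›
  exact IsFinite.of_isProper_of_locallyQuasiFinite N₀.hom

end Groth.Agent.S17459
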