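import Groth.Statements.S17464
import Groth.Agent.SemiAbLib.Basic
import Groth.Agent.GaGmHom
import Groth.Agent.GrpEasyLib.Quot

set_option autoImplicit false
universe u
open CategoryTheory MonoidalCategory CartesianMonoidalCategory MonObj GrpObj AlgebraicGeometry CategoryTheory.Limits
open AlgGrp

namespace Groth.Agent.S17464

open CategoryTheory CategoryTheory.Limits AlgebraicGeometry

open CategoryTheory.Limits
open Groth.Agent
set_option backward.isDefEq.respectTransparency false
set_option linter.style.haveILetI false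
set_option maxHeartbeats 1000000
set_option synthInstance.maxHeartbeats 400000

theorem hom_Ga_eq_one {k : Type u} [Field k] {T : Over (Spec (CommRingCat.of k))} [GrpObj T] (hT : Red.IsTorus T)
    (φ : Red.Ga (Spec (CommRingCat.of k)) ⟶ T) [IsMonHom φ] : φ = 1 := by
  obtain ⟨K, _, g, r, ⟨e₁⟩⟩ := SemiAbLib.exists_split hT
  haveI : IsMonHom e₁.hom.hom.hom := e₁.hom.hom.isMonHom_hom
  let e₂ : Grp.mk (Red.bc g (Red.Ga (Spec (CommRingCat.of k)))) ≅ Grp.mk (Red.Ga (Spec (CommRingCat.of K))) :=
    HomDesc.bcGrpIso g _ (specULiftZIsTerminal.hom_ext _ _) Red.GaZ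
  haveI : IsMonHom e₂.inv.hom.hom := e₂.inv.hom.isMonHom_hom
  haveI : IsIso e₂.inv.hom.hom :=
    ⟨e₂.hom.hom.hom, congrArg (fun f => f.hom.hom) e₂.inv_hom_id, congrArg (fun f => f.hom.hom) e₂.hom_inv_id⟩
  haveI : IsIso e₁.hom.hom.hom :=
    ⟨e₁.inv.hom.hom, congrArg (fun f => f.hom.hom) e₁.hom_inv_id, congrArg (fun f => f.hom.hom) e₁.inv_hom_id⟩
  haveI : IsMonHom ((Over.pullback g).map φ) := inferInstance
  have h1 : e₂.inv.hom.hom ≫ (Over.pullback g).map φ ≫ e₁.hom.hom.hom = 1 := by
    refine SemiAbLib.eq_one_of_chi _ fun m => ?_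
    haveI : IsMonHom (Red.chi (Spec (CommRingCat.of K)) m) := DSMapLib.isMonHom_DSmap _ _
    exact GaGmHom.eq_one _
  have h2 : (Over.pullback g).map φ = (Over.pullback g).map 1 := by
    rw [Functor.map_one, ← cancel_mono e₁.hom.hom.hom, MonObj.one_comp, ← cancel_epi e₂.inv.hom.hom, MonObj.comp_one, h1]
  haveI : Surjective g := ⟨fun _ => ⟨default, Subsingleton.elim (α := PrimeSpectrum k) _ _⟩⟩
  haveI : Flat g := inferInstance
  haveI : Flat (pullback.fst (Red.Ga (Spec (CommRingCat.of k))).hom g) := MorphismProperty.pullback_fst _ _ inferInstance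
  haveI : Surjective (pullback.fst (Red.Ga (Spec (CommRingCat.of k))).hom g) := MorphismProperty.pullback_fst _ _ inferInstance
  haveI : Epi (pullback.fst (Red.Ga (Spec (CommRingCat.of k))).hom g) := Flat.epi_of_flat_of_surjective _
  apply Over.OverMorphism.ext
  rw [← cancel_epi (pullback.fst (Red.Ga (Spec (CommRingCat.of k))).hom g)]
  have h3 := congrArg (fun m => m.left ≫ pullback.fst T.hom g) h2
  simp only [Over.pullback_map_left, pullback.lift_fst] at h3
  exact h3

theorem step {S : Scheme.{u}} {N G Q T : Over S} [GrpObj G] [GrpObj Q] [GrpObj T] (i : N ⟶ G) (q : G ⟶ Q)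
    [hq : IsMonHom q] [QuasiCompact q.left] [Flat q.left] [Surjective q.left] (hker : AlgGrp.IsKernel i q)
    (g : G ⟶ T) [IsMonHom g] (hig : i ≫ g = 1) (hQ : ∀ φ : Q ⟶ T, IsMonHom φ → φ = 1) : g = 1 := by
  obtain ⟨φ, hφ⟩ := GrpEasyLib.exists_desc q g fun Z a b hab => by
    have hz : (a⁻¹ * b) ≫ q = toUnit Z ≫ η[Q] := by
      rw [MonObj.mul_comp, GrpObj.inv_comp, hab, inv_mul_cancel, Hom.one_def]
    have h2 : (a⁻¹ * b) ≫ g = 1 := by
      rw [← (hker.lift_fst (a⁻¹ * b) (toUnit Z) hz), Category.assoc, hig, MonObj.comp_one]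
    rw [MonObj.mul_comp, GrpObj.inv_comp, inv_mul_eq_one] at h2
    exact h2
  haveI : Surjective (q ▷ G).left := GrpEasyLib.surjective_whiskerRight q inferInstance
  haveI : Flat (q ▷ G).left := MorphismProperty.of_isPullback (GrpEasyLib.isPullback_whiskerRight q).flip inferInstance
  haveI : Surjective (Q ◁ q).left := GrpEasyLib.surjective_whiskerLeft q inferInstance
  haveI : Flat (Q ◁ q).left := MorphismProperty.of_isPullback (GrpEasyLib.isPullback_whiskerLeft q).flip inferInstance
  haveI : Epi (q ▷ G).left := Flat.epi_of_flat_of_surjective _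
  haveI : Epi (Q ◁ q).left := Flat.epi_of_flat_of_surjective _
  haveI : IsMonHom φ := GrpEasyLib.isMonHom_of_fac q g φ hφ
  rw [← hφ, hQ φ inferInstance, MonObj.comp_one]


/-- Let k be an algebraically closed field, T a k-torus and U a smooth connected affine k-group scheme
of finite type with a composition series whose successive quotients are additive groups: closed
subgroup schemes U_0 → U_1 → … → U_n = U (homomorphisms which are closed immersions, U_i ↦ U_{i+1}),
with U_0 the trivial group, U_n identified with U by an isomorphism of group schemes, and each U_i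
the kernel of a flat surjective homomorphism from U_{i+1} onto the additive group. Then every
homomorphism from U to T is the trivial one. (The published statement is over an arbitrary field for
a torus and a smooth connected unipotent group, unipotent meaning that such a composition series
exists over an algebraic closure; this row states the case of an algebraically closed base field.
The companion assertion, that homomorphisms from T to U are trivial, is an existing statement about
groups of multiplicative type.) -/
theorem result (k : Type u) [Field k] [IsAlgClosed k]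
    (T U : Over (Spec (CommRingCat.of k))) [GrpObj T] [GrpObj U] (hT : Red.IsTorus T)
    [Smooth U.hom] [QuasiCompact U.hom] [ConnectedSpace ↥U.left] [IsAffine U.left]
    (n : ℕ) (Us : Fin (n + 1) → Over (Spec (CommRingCat.of k))) [∀ i, GrpObj (Us i)]
    (h0 : Red.IsTrivialGrp (Us 0))
    (e : Us (Fin.last n) ≅ U) [IsMonHom e.hom]
    (incl : ∀ i : Fin n, Us i.castSucc ⟶ Us i.succ) [∀ i, IsMonHom (incl i)]
    [∀ i, IsClosedImmersion (incl i).left]
    (quot : ∀ i : Fin n, Us i.succ ⟶ Red.Ga (Spec (CommRingCat.of k))) [∀ i, IsMonHom (quot i)]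
    [∀ i, Surjective (quot i).left] [∀ i, Flat (quot i).left]
    (hker : ∀ i : Fin n, AlgGrp.IsKernel (incl i) (quot i))
    (f : U ⟶ T) [IsMonHom f] :
    f = 1 := by
  have hfin : ∀ i : Fin (n + 1), QuasiCompact (Us i).hom := by
    intro i
    induction i using Fin.reverseInduction with
    | last => rw [← Over.w e.hom]; infer_instance
    | cast i ih => haveI := ih; rw [← Over.w (incl i)]; infer_instance
  suffices key : ∀ (i : Fin (n + 1)) (g : Us i ⟶ T), IsMonHom g → g = 1 by
    rw [← cancel_epi e.hom, MonObj.comp_one]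
    exact key _ _ inferInstance
  intro i
  induction i using Fin.induction with
  | zero =>
    intro g _
    haveI : IsIso (Us 0).hom := h0
    have hid : toUnit (Us 0) ≫ η[Us 0] = 𝟙 (Us 0) := by
      apply Over.OverMorphism.ext
      rw [← cancel_mono (Us 0).hom, Over.w, Over.w]
    rw [← Category.id_comp g, ← hid, Category.assoc, IsMonHom.one_hom, Hom.one_def]
  | succ i ih =>
    intro g _
    haveI : QuasiCompact (quot i).left := by
      haveI : IsSeparated (Red.Ga (Spec (CommRingCat.of k))).hom := GrpSchLib.isSeparated_hom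
      haveI : QuasiCompact ((quot i).left ≫ (Red.Ga (Spec (CommRingCat.of k))).hom) := by rw [Over.w]; exact hfin _
      exact QuasiCompact.of_comp (quot i).left (Red.Ga (Spec (CommRingCat.of k))).hom
    exact step (incl i) (quot i) (hq := ‹∀ i, IsMonHom (quot i)› i) (hker i) g (ih _ inferInstance)
      fun φ hφ => @hom_Ga_eq_one _ _ _ _ hT φ hφ


end Groth.Agent.S17464
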