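import Groth.Statements.S17465
import Groth.Agent.GenSubLib.TorusField
-- import your own Groth.Agent.* helpers here

set_option autoImplicit false
universe u
open CategoryTheory MonoidalCategory CartesianMonoidalCategory MonObj GrpObj AlgebraicGeometry CategoryTheory.Limits
open AlgGrp

namespace Groth.Agent.S17465

/-- Let k be a field and f : G' → G an isogeny, i.e. a surjective homomorphism with finite kernel,
between smooth connected commutative affine k-group schemes of finite type. Then G' is a torus
exactly when G is one. (The published sentence draws this conclusion after treating surjective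
homomorphisms and isogenies together; for a surjective homomorphism with positive-dimensional kernel
only the implication from G' to G survives — the projection of the product of the multiplicative and
the additive group onto the multiplicative group is surjective with a non-torus source — so the
equivalence is stated for isogenies, the case the dimension count in the printed proof covers. The
companion clause about unipotence is not stated.) -/
theorem result (k : Type u) [Field k]
    (G' G : Over (Spec (CommRingCat.of k))) [GrpObj G'] [GrpObj G] [IsCommMonObj G'] [IsCommMonObj G]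
    [Smooth G'.hom] [QuasiCompact G'.hom] [ConnectedSpace ↥G'.left] [IsAffine G'.left]
    [Smooth G.hom] [QuasiCompact G.hom] [ConnectedSpace ↥G.left] [IsAffine G.left]
    (f : G' ⟶ G) [IsMonHom f] (hf : SGA7.IsIsogenyOver f) :
    Red.IsTorus G' ↔ Red.IsTorus G := by
  let K := AlgebraicClosure k
  let σ := Spec.map (CommRingCat.ofHom (algebraMap k K))
  haveI : Surjective σ := ⟨fun x => ⟨IsLocalRing.closedPoint K, Subsingleton.elim (α := PrimeSpectrum k) _ _⟩⟩
  haveI : QuasiCompact σ := inferInstance
  haveI : Flat σ := by
    rw [HasRingHomProperty.Spec_iff (P := @Flat)]
    exact RingHom.flat_algebraMap_iff.2 inferInstance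
  haveI : Smooth (Red.bc σ G').hom := inferInstanceAs (Smooth (Limits.pullback.snd G'.hom σ))
  haveI : QuasiCompact (Red.bc σ G').hom := inferInstanceAs (QuasiCompact (Limits.pullback.snd G'.hom σ))
  haveI : LocallyOfFiniteType (Red.bc σ G').hom := inferInstance
  haveI : ConnectedSpace (Red.bc σ G').left := by
    haveI := Groth.Agent.GenSubLib.geometricallyConnected_of_rational η[G']
    exact GeometricallyConnected.geometrically_connectedSpace σ _ _ (IsPullback.of_hasPullback G'.hom σ)
  haveI : Smooth (Red.bc σ G).hom := inferInstanceAs (Smooth (Limits.pullback.snd G.hom σ))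
  haveI : QuasiCompact (Red.bc σ G).hom := inferInstanceAs (QuasiCompact (Limits.pullback.snd G.hom σ))
  haveI : LocallyOfFiniteType (Red.bc σ G).hom := inferInstance
  haveI : ConnectedSpace (Red.bc σ G).left := by
    haveI := Groth.Agent.GenSubLib.geometricallyConnected_of_rational η[G]
    exact GeometricallyConnected.geometrically_connectedSpace σ _ _ (IsPullback.of_hasPullback G.hom σ)
  haveI := GenSubLib.isFinite_of_isIsogenyOver f hf
  haveI := hf.1
  let fK : Red.bc σ G' ⟶ Red.bc σ G := (Over.pullback σ).map f
  haveI : IsMonHom fK := inferInstanceAs (IsMonHom ((Over.pullback σ).map f))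
  haveI : IsFinite fK.left := MorphismProperty.overPullbackMap (P := @IsFinite) σ f ‹IsFinite f.left›
  haveI : Surjective fK.left := MorphismProperty.overPullbackMap (P := @Surjective) σ f ‹Surjective f.left›
  haveI : IsCommMonObj (Red.bc σ G') := (GenSubLib.isCommMonObj_bc_iff K G').2 inferInstance
  rw [← GenSubLib.isTorus_bc_iff K (T := G'), ← GenSubLib.isTorus_bc_iff K (T := G)]
  exact ⟨fun h => GenSubLib.isTorus_of_surjective h fK, fun h => GenSubLib.isTorus_of_finite h fK⟩

end Groth.Agent.S17465
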