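import Mathlib
import Groth.Statements.S17466
-- import your own Groth.Agent.* helpers here

set_option autoImplicit false
universe u v
open BigOperators
open NRGIT

namespace Groth.Agent.S17466

/-- Let A be a commutative algebra graded by the natural numbers, let σ_1, …, σ_n be homogeneous
elements of degree 1 and let s ≥ 1 be an integer such that, for every i, the degree-zero homogeneous
localisation of A away from σ_i is generated over A_0 by the fractions f / σ_i ^ s with f
homogeneous of degree s. Then for every exponent vector K = (k_1, …, k_n) with k_1 + ⋯ + k_n = s,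
the degree-zero homogeneous localisation of A away from the monomial σ^K = ∏ σ_i ^ (k_i) is
generated over A_0 by the fractions f / σ^K with f homogeneous of degree s. (Equivalently: the
natural map from the degree-zero localisation of the symmetric algebra on A_s, taken away from σ^K
viewed as an element of degree one, to the degree-zero localisation of A away from σ^K is
surjective. The published lemma concerns the algebra of invariant sections of the powers of a
linearised line bundle on an irreducible projective scheme over a field, with the σ_i a basis of a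
weight space of sections, and concludes a closed immersion of a quotient into an open piece of a
projective space; this row keeps only the graded-algebra step, for any commutative graded algebra,
with the base field replaced by A_0, which generates nothing new since a / 1 = a σ^s / σ^s for a of
degree zero.) -/
theorem result
    {R : Type u} {A : Type v} [CommRing R] [CommRing A] [Algebra R A]
    (𝒜 : ℕ → Submodule R A) [GradedAlgebra 𝒜]
    {n : ℕ} (σ : Fin n → A) (hσ : ∀ i, σ i ∈ 𝒜 1) {s : ℕ} (hs : 0 < s)
    (hgen : ∀ i, Algebra.adjoin (𝒜 0)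
      {z : HomogeneousLocalization.Away 𝒜 (σ i) |
        ∃ f ∈ 𝒜 s, z.val = Localization.mk f ⟨σ i ^ s, Submonoid.pow_mem _ (Submonoid.mem_powers (σ i)) s⟩} = ⊤)
    (K : Fin n → ℕ) (hK : ∑ i, K i = s) :
    Algebra.adjoin (𝒜 0)
      {z : HomogeneousLocalization.Away 𝒜 (∏ i, σ i ^ K i) |
        ∃ f ∈ 𝒜 s, z.val = Localization.mk f ⟨∏ i, σ i ^ K i, Submonoid.mem_powers _⟩} = ⊤ := by
  classical
  let τ := ∏ i, σ i ^ K i
  have hσp : ∀ (i : Fin n) (m : ℕ), σ i ^ m ∈ 𝒜 m := fun i m => by
    have := SetLike.pow_mem_graded m (hσ i)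
    rwa [smul_eq_mul, mul_one] at this
  have hprod : ∀ k : Fin n → ℕ, (∏ i, σ i ^ k i) ∈ 𝒜 (∑ i, k i) := fun k =>
    SetLike.prod_mem_graded _ _ _ fun i _ => hσp i (k i)
  have hτ : τ ∈ 𝒜 s := hK ▸ hprod K
  obtain ⟨i, hi⟩ : ∃ i, 0 < K i := by
    by_contra hc
    push Not at hc
    have : ∑ i, K i = 0 := Finset.sum_eq_zero fun i _ => Nat.le_zero.mp (hc i)
    omega
  set S := Algebra.adjoin (𝒜 0) {z : HomogeneousLocalization.Away 𝒜 (∏ i, σ i ^ K i) |
    ∃ f ∈ 𝒜 s, z.val = Localization.mk f ⟨∏ i, σ i ^ K i, Submonoid.mem_powers _⟩}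
  let P : ℕ → A → Prop := fun e x => ∃ z ∈ S, z.val = Localization.mk x (⟨τ ^ e, e, rfl⟩ : Submonoid.powers τ)
  have hP1 : ∀ f ∈ 𝒜 s, P 1 f := by
    intro f hf
    refine ⟨HomogeneousLocalization.Away.mk 𝒜 hτ 1 f (by rwa [smul_eq_mul, one_mul]),
      Algebra.subset_adjoin ⟨f, hf, ?_⟩, ?_⟩
    · simp [τ, pow_one]
    · simp; rfl
  have hP0 : P 0 1 := ⟨1, one_mem _, by
    rw [HomogeneousLocalization.val_one, ← Localization.mk_one]
    congr 1
    exact Subtype.ext (pow_zero τ).symm⟩
  have hPm : ∀ e e' x y, P e x → P e' y → P (e + e') (x * y) := by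
    rintro e e' x y ⟨z, hz, hz'⟩ ⟨w, hw, hw'⟩
    refine ⟨z * w, mul_mem hz hw, ?_⟩
    rw [HomogeneousLocalization.val_mul, hz', hw', Localization.mk_mul]
    congr 1
    exact Subtype.ext (pow_add τ e e').symm
  have hPpow : ∀ (m : ℕ) e x, P e x → P (m * e) (x ^ m) := by
    intro m e x hx
    induction m with
    | zero => simpa using hP0
    | succ m ih => rw [Nat.succ_mul, pow_succ]; exact hPm _ _ _ _ ih hx
  let K' : Fin n → ℕ := Function.update K i (K i - 1)
  have hK' : ∑ j, K' j = s - 1 := by
    rw [Finset.sum_update_of_mem (Finset.mem_univ i), ← hK,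
      ← Finset.add_sum_erase _ K (Finset.mem_univ i), Finset.sdiff_singleton_eq_erase]
    omega
  set g := ∏ j, σ j ^ K' j with hgdef
  have hg : g ∈ 𝒜 (s - 1) := hK' ▸ hprod K'
  have hx : τ = σ i * g := by
    rw [hgdef, ← Finset.mul_prod_erase _ _ (Finset.mem_univ i), ← mul_assoc]
    simp only [τ]
    rw [← Finset.mul_prod_erase Finset.univ (fun j => σ j ^ K j) (Finset.mem_univ i)]
    congr 1
    · simp only [K', Function.update_self, ← pow_succ']
      congr 1; omega
    · refine Finset.prod_congr rfl fun j hj => ?_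
      simp [K', Function.update_of_ne (Finset.ne_of_mem_erase hj)]
  have hPg : P (s - 1) (g ^ s) := by
    have : ∀ T : Finset (Fin n), P (∑ j ∈ T, K' j) (∏ j ∈ T, (σ j ^ s) ^ K' j) := by
      intro T
      induction T using Finset.induction_on with
      | empty => simpa using hP0
      | insert a T ha ih =>
        rw [Finset.sum_insert ha, Finset.prod_insert ha]
        refine hPm _ _ _ _ ?_ ih
        simpa using hPpow (K' a) 1 _ (hP1 _ (hσp a s))
    have h := this Finset.univ
    rw [hK'] at h
    convert h using 1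
    rw [hgdef, ← Finset.prod_pow]
    exact Finset.prod_congr rfl fun j _ => by rw [← pow_mul, ← pow_mul, mul_comm]
  let φ := HomogeneousLocalization.awayMapₐ 𝒜 hg hx
  have hφ : ∀ z, φ z ∈ S := by
    intro z
    have hz : z ∈ Algebra.adjoin (𝒜 0) {z : HomogeneousLocalization.Away 𝒜 (σ i) |
        ∃ f ∈ 𝒜 s, z.val = Localization.mk f ⟨σ i ^ s, Submonoid.pow_mem _ (Submonoid.mem_powers (σ i)) s⟩} := by
      rw [hgen i]; trivial
    induction hz using Algebra.adjoin_induction with
    | mem z hz =>
      obtain ⟨f, hf, hfz⟩ := hz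
      have hz2 : z = HomogeneousLocalization.Away.mk 𝒜 (hσ i) s f (by rwa [smul_eq_mul, mul_one]) := by
        apply HomogeneousLocalization.val_injective
        rw [HomogeneousLocalization.Away.val_mk]; exact hfz
      obtain ⟨w, hw, hw'⟩ := hPm 1 (s - 1) f (g ^ s) (hP1 f hf) hPg
      convert hw using 1
      apply HomogeneousLocalization.val_injective
      rw [hw', hz2, HomogeneousLocalization.awayMapₐ_apply, HomogeneousLocalization.awayMap_mk,
        HomogeneousLocalization.Away.val_mk]
      congr 1
      exact Subtype.ext (by simp only; congr 1; omega)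
    | algebraMap r => rw [AlgHom.commutes]; exact S.algebraMap_mem r
    | add x y _ _ hx hy => rw [map_add]; exact add_mem hx hy
    | mul x y _ _ hx hy => rw [map_mul]; exact mul_mem hx hy
  rw [eq_top_iff]
  intro z _
  obtain ⟨m, a, ha, rfl⟩ := HomogeneousLocalization.Away.mk_surjective 𝒜 hτ z
  have h1 : P (m * s) (a * g ^ (m * s)) := by
    refine ⟨_, hφ (HomogeneousLocalization.Away.mk 𝒜 (hσ i) (m * s) a
      (by simpa [smul_eq_mul] using ha)), ?_⟩
    rw [HomogeneousLocalization.awayMapₐ_apply, HomogeneousLocalization.awayMap_mk,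
      HomogeneousLocalization.Away.val_mk]
  obtain ⟨w, hw, hw'⟩ := hPm _ _ _ _ h1 (hPpow m 1 _ (hP1 _ (hσp i s)))
  convert hw using 1
  apply HomogeneousLocalization.val_injective
  rw [hw', HomogeneousLocalization.Away.val_mk, Localization.mk_eq_mk_iff, Localization.r_iff_exists]
  refine ⟨1, ?_⟩
  simp only [OneMemClass.coe_one, one_mul, mul_one]
  rw [pow_add, hx, mul_pow, mul_pow, ← pow_mul, mul_comm m s]
  ring

end Groth.Agent.S17466
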