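import Groth.Statements.S17467
import Groth.Agent.RedTensor.Basic
import Groth.Agent.S7125
import Groth.Agent.NormalSch.Basic

set_option autoImplicit false
universe u
open CategoryTheory AlgebraicGeometry
open Variety

namespace Groth.Agent.S17467

open CategoryTheory CategoryTheory.Limits AlgebraicGeometry

open TopologicalSpace Opposite Groth.Agent TensorProduct

/-- An element taking equal values at all pairs of points over the base is a fraction of the base. -/
theorem exists_frac {k : Type u} [Field k] [IsAlgClosed k] [CharZero k] {A B : Type u}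
    [CommRing A] [IsDomain A] [CommRing B] [IsDomain B]
    [Algebra k A] [Algebra k B] [Algebra.FiniteType k B] [Algebra A B] [IsScalarTower k A B]
    (hinj : Function.Injective (algebraMap A B)) (s : B)
    (h : ∀ g g' : B →ₐ[k] k, (∀ a, g (algebraMap A B a) = g' (algebraMap A B a)) → g s = g' s) :
    ∃ a b : A, b ≠ 0 ∧ algebraMap A B b * s = algebraMap A B a := by
  haveI : Algebra.FiniteType A B := Algebra.FiniteType.of_restrictScalars_finiteType k A B
  haveI : Algebra.FiniteType k (B ⊗[A] B) :=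
    Algebra.FiniteType.trans (S := B) inferInstance inferInstance
  let e : B ⊗[A] B := s ⊗ₜ 1 - 1 ⊗ₜ s
  have he : IsNilpotent e := by
    by_contra hne
    have hq : Ideal.Quotient.mk (nilradical (B ⊗[A] B)) e ≠ 0 := fun h0 =>
      hne (mem_nilradical.1 (Ideal.Quotient.eq_zero_iff_mem.1 h0))
    haveI : IsReduced ((B ⊗[A] B) ⧸ nilradical (B ⊗[A] B)) :=
      (Ideal.isRadical_iff_quotient_reduced _).1 (Ideal.radical_isRadical _)
    haveI : Algebra.FiniteType k ((B ⊗[A] B) ⧸ nilradical (B ⊗[A] B)) :=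
      Algebra.FiniteType.of_surjective (Ideal.Quotient.mkₐ k (nilradical (B ⊗[A] B))) (Ideal.Quotient.mkₐ_surjective k _)
    obtain ⟨G, hG⟩ := RedTensor.exists_algHom_ne_zero (k := k) hq
    let G' : B ⊗[A] B →ₐ[k] k := G.comp (Ideal.Quotient.mkₐ k _)
    refine hG ?_
    have h1 := h (G'.comp ((Algebra.TensorProduct.includeLeft : B →ₐ[A] B ⊗[A] B).restrictScalars k))
      (G'.comp ((Algebra.TensorProduct.includeRight : B →ₐ[A] B ⊗[A] B).restrictScalars k)) (fun a => by
        show G' (algebraMap A B a ⊗ₜ 1) = G' (1 ⊗ₜ algebraMap A B a)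
        rw [Algebra.algebraMap_eq_smul_one, TensorProduct.smul_tmul])
    show G' (s ⊗ₜ 1 - 1 ⊗ₜ s) = 0
    rw [map_sub, sub_eq_zero]
    exact h1
  let F := FractionRing A
  let L := FractionRing B
  have hinjL : Function.Injective (algebraMap A L) := by
    rw [IsScalarTower.algebraMap_eq A B L]
    exact (IsFractionRing.injective B L).comp hinj
  letI : Algebra F L := (IsFractionRing.lift hinjL).toAlgebra
  haveI : IsScalarTower A F L := IsScalarTower.of_algebraMap_eq fun a =>
    (IsFractionRing.lift_algebraMap hinjL a).symm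
  haveI : CharZero A := charZero_of_injective_algebraMap (algebraMap k A).injective
  haveI : CharZero F := charZero_of_injective_algebraMap (IsFractionRing.injective A F)
  haveI : IsReduced (L ⊗[F] L) := RedTensor.isReduced_tensor F L L
  let u : B →ₐ[A] L ⊗[F] L :=
    ((Algebra.TensorProduct.includeLeft : L →ₐ[F] L ⊗[F] L).restrictScalars A).comp (IsScalarTower.toAlgHom A B L)
  let v : B →ₐ[A] L ⊗[F] L :=
    ((Algebra.TensorProduct.includeRight : L →ₐ[F] L ⊗[F] L).restrictScalars A).comp (IsScalarTower.toAlgHom A B L)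
  have h0 : u s = v s := by
    have h1 := (he.map (Algebra.TensorProduct.productMap u v)).eq_zero
    rw [map_sub, Algebra.TensorProduct.productMap_apply_tmul, Algebra.TensorProduct.productMap_apply_tmul,
      map_one, map_one, mul_one, one_mul, sub_eq_zero] at h1
    exact h1
  let σ : L := algebraMap B L s
  have hmem : σ ∈ Submodule.span F ({1} : Set L) := by
    by_contra hσ
    obtain ⟨φ, hφ, hφ0⟩ := Submodule.exists_dual_map_eq_bot_of_notMem hσ inferInstance
    have h1 : φ 1 = 0 := (Submodule.eq_bot_iff _).1 hφ0 _ ⟨1, Submodule.subset_span rfl, rfl⟩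
    have h2 := congrArg (fun z => TensorProduct.lid F L (TensorProduct.map φ (LinearMap.id : L →ₗ[F] L) z))
      (show σ ⊗ₜ[F] (1 : L) = (1 : L) ⊗ₜ[F] σ from h0)
    simp only [TensorProduct.map_tmul, TensorProduct.lid_tmul, LinearMap.id_apply, h1, zero_smul] at h2
    exact hφ ((smul_eq_zero.1 h2).resolve_right one_ne_zero)
  obtain ⟨c, hc⟩ := Submodule.mem_span_singleton.1 hmem
  obtain ⟨a, b, hb, rfl⟩ := IsFractionRing.div_surjective A c
  have hb0 : b ≠ 0 := nonZeroDivisors.ne_zero hb
  refine ⟨a, b, hb0, IsFractionRing.injective B L ?_⟩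
  rw [map_mul, ← IsScalarTower.algebraMap_apply A B L, ← IsScalarTower.algebraMap_apply A B L]
  show algebraMap A L b * σ = _
  rw [← hc, Algebra.smul_def, mul_one, IsScalarTower.algebraMap_apply A F L b,
    IsScalarTower.algebraMap_apply A F L a, ← map_mul, mul_div_cancel₀]
  exact fun h => hb0 (IsFractionRing.injective A F (by rw [h, map_zero]))

theorem app_injective {X X' : Scheme.{u}} [IsReduced X] (h : X' ⟶ X) [Surjective h] (W : X.Opens) :
    Function.Injective (h.app W) := by
  refine (injective_iff_map_eq_zero (h.app W).hom).2 fun r hr => eq_zero_of_basicOpen_eq_bot r ?_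
  refine le_bot_iff.1 fun x hx => ?_
  obtain ⟨z, rfl⟩ := h.surjective x
  have h1 : z ∈ h ⁻¹ᵁ X.basicOpen r := hx
  rw [Scheme.preimage_basicOpen, show h.app W r = 0 from hr, Scheme.basicOpen_zero] at h1
  exact h1

/-- The structure map of the base field on the sections over an open. -/
noncomputable def strMap {k : Type u} [Field k] {X : Scheme.{u}} (p : X ⟶ Spec (CommRingCat.of k)) (U : X.Opens) :
    CommRingCat.of k ⟶ Γ(X, U) :=
  (Scheme.ΓSpecIso (CommRingCat.of k)).inv ≫ p.appLE ⊤ U (by rw [Scheme.Hom.preimage_top]; exact le_top)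

theorem strMap_appLE {k : Type u} [Field k] {X Y : Scheme.{u}} (p : X ⟶ Spec (CommRingCat.of k))
    (q : Y ⟶ Spec (CommRingCat.of k)) (f : X ⟶ Y) (hf : f ≫ q = p) (V : Y.Opens) (U : X.Opens) (e : U ≤ f ⁻¹ᵁ V) :
    strMap q V ≫ f.appLE V U e = strMap p U := by
  subst hf
  rw [strMap, strMap, Category.assoc, Scheme.Hom.appLE_comp_appLE]

theorem fromSpec_strMap {k : Type u} [Field k] {X : Scheme.{u}} (p : X ⟶ Spec (CommRingCat.of k)) {U : X.Opens}
    (hU : IsAffineOpen U) : hU.fromSpec ≫ p = Spec.map (strMap p U) := by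
  rw [← IsAffineOpen.SpecMap_appLE_fromSpec p (isAffineOpen_top _) hU
    (by rw [Scheme.Hom.preimage_top]; exact le_top), IsAffineOpen.fromSpec_top, Scheme.isoSpec_Spec_inv,
    ← Spec.map_comp, strMap]

theorem appTop_point {k : Type u} [Field k] {X : Scheme.{u}} {U : X.Opens} (hU : IsAffineOpen U)
    (g : Γ(X, U) ⟶ CommRingCat.of k) (t : Γ(X, ⊤)) :
    (Spec.map g ≫ hU.fromSpec).appTop.hom t =
      (Scheme.ΓSpecIso (CommRingCat.of k)).inv.hom (g.hom ((X.presheaf.map (homOfLE (le_top : U ≤ ⊤)).op).hom t)) := by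
  have h2 : hU.fromSpec.appTop = X.presheaf.map (homOfLE (le_top : U ≤ ⊤)).op ≫ (Scheme.ΓSpecIso Γ(X, U)).inv := by
    show hU.fromSpec.app ⊤ = _
    rw [hU.fromSpec_app_of_le ⊤ le_top]
    simp [eqToHom_op]
  rw [Scheme.Hom.comp_appTop, h2, Category.assoc, ← Scheme.ΓSpecIso_inv_naturality]
  rfl

variable {k : Type u} [Field k] [IsAlgClosed k] [CharZero k] {X Y : Scheme.{u}}

/-- On an affine open of the base the function is a pull-back. -/
theorem exists_local [AlgebraicGeometry.IsIntegral X] [AlgebraicGeometry.IsIntegral Y]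
    (p : X ⟶ Spec (CommRingCat.of k)) (q : Y ⟶ Spec (CommRingCat.of k)) [LocallyOfFiniteType p]
    [LocallyOfFiniteType q] (hY : Pi1.IsNormalScheme Y) (f : X ⟶ Y) [Surjective f] (hf : f ≫ q = p)
    (s : Γ(X, ⊤))
    (hs : ∀ x₁ x₂ : Spec (CommRingCat.of k) ⟶ X, x₁ ≫ p = 𝟙 _ → x₂ ≫ p = 𝟙 _ → x₁ ≫ f = x₂ ≫ f →
        x₁.appTop.hom s = x₂.appTop.hom s)
    (V : Y.Opens) (hV : IsAffineOpen V) :
    ∃ r : Γ(Y, V), (f.app V).hom r = (X.presheaf.map (homOfLE (le_top : f ⁻¹ᵁ V ≤ ⊤)).op).hom s := by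
  rcases isEmpty_or_nonempty V with hempty | hne
  · haveI : Subsingleton Γ(X, f ⁻¹ᵁ V) := by
      have h0 : f ⁻¹ᵁ V = ⊥ := le_bot_iff.1 fun x hx => hempty.elim' ⟨f x, hx⟩
      rw [h0]; infer_instance
    exact ⟨0, Subsingleton.elim _ _⟩
  obtain ⟨y₀, hy₀⟩ := hne.some
  obtain ⟨x₀, hx₀⟩ := f.surjective y₀
  have hx₀V : x₀ ∈ f ⁻¹ᵁ V := by show f x₀ ∈ V; rw [hx₀]; exact hy₀
  obtain ⟨_, ⟨U, hU, rfl⟩, hx₀U, hUV⟩ :=
    X.isBasis_affineOpens.exists_subset_of_mem_open hx₀V (f ⁻¹ᵁ V).2
  haveI : Nonempty U := ⟨⟨x₀, hx₀U⟩⟩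
  haveI : Nonempty V := hne
  haveI : Nonempty ↥(f ⁻¹ᵁ V) := ⟨⟨x₀, hx₀V⟩⟩
  letI algA : Algebra k Γ(Y, V) := (strMap q V).hom.toAlgebra
  letI algB : Algebra k Γ(X, U) := (strMap p U).hom.toAlgebra
  letI algAB : Algebra Γ(Y, V) Γ(X, U) := (f.appLE V U hUV).hom.toAlgebra
  haveI : IsScalarTower k Γ(Y, V) Γ(X, U) := IsScalarTower.of_algebraMap_eq fun c =>
    (congrArg (fun φ : CommRingCat.of k ⟶ Γ(X, U) => φ.hom c) (strMap_appLE p q f hf V U hUV)).symm
  haveI hftB : Algebra.FiniteType k Γ(X, U) := by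
    have h1 : (strMap p U).hom.FiniteType :=
      (LocallyOfFiniteType.finiteType_appLE p (U := ⊤) (isAffineOpen_top _) hU (by rw [Scheme.Hom.preimage_top]; exact le_top)).comp
        (RingHom.FiniteType.of_surjective _ (Scheme.ΓSpecIso (CommRingCat.of k)).symm.commRingCatIsoToRingEquiv.surjective)
    exact h1
  haveI : Algebra.FiniteType k Γ(Y, V) := by
    have h1 : (strMap q V).hom.FiniteType :=
      (LocallyOfFiniteType.finiteType_appLE q (U := ⊤) (isAffineOpen_top _) hV (by rw [Scheme.Hom.preimage_top]; exact le_top)).comp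
        (RingHom.FiniteType.of_surjective _ (Scheme.ΓSpecIso (CommRingCat.of k)).symm.commRingCatIsoToRingEquiv.surjective)
    exact h1
  haveI : IsNoetherianRing Γ(Y, V) := Algebra.FiniteType.isNoetherianRing k _
  haveI : IsIntegrallyClosed Γ(Y, V) := NormalSch.isIntegrallyClosed_section hY V
  have hres : Function.Injective (X.presheaf.map (homOfLE hUV).op).hom := map_injective_of_isIntegral X (homOfLE hUV)
  have hinj : Function.Injective (algebraMap Γ(Y, V) Γ(X, U)) := by
    show Function.Injective (f.appLE V U hUV).hom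
    exact hres.comp (app_injective f V)
  let sV : Γ(X, f ⁻¹ᵁ V) := (X.presheaf.map (homOfLE (le_top : f ⁻¹ᵁ V ≤ ⊤)).op).hom s
  let sU : Γ(X, U) := (X.presheaf.map (homOfLE (le_top : U ≤ ⊤)).op).hom s
  obtain ⟨a, b, hb, hab⟩ := exists_frac (k := k) hinj sU fun g g' hgg' => by
    let pt : (Γ(X, U) →ₐ[k] k) → (Spec (CommRingCat.of k) ⟶ X) := fun g =>
      Spec.map (CommRingCat.ofHom g.toRingHom) ≫ hU.fromSpec
    have hp : ∀ g, pt g ≫ p = 𝟙 _ := fun g => by
      rw [Category.assoc, fromSpec_strMap, ← Spec.map_comp, ← Spec.map_id]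
      exact congrArg Spec.map (CommRingCat.hom_ext (RingHom.ext g.commutes))
    have h1 : pt g ≫ f = pt g' ≫ f := by
      show (_ ≫ _) ≫ _ = (_ ≫ _) ≫ _
      rw [Category.assoc, Category.assoc, ← IsAffineOpen.SpecMap_appLE_fromSpec f hV hU hUV, ← Spec.map_comp_assoc,
        ← Spec.map_comp_assoc]
      congr 2
      exact CommRingCat.hom_ext (RingHom.ext hgg')
    have h2 := hs _ _ (hp g) (hp g') h1
    rw [appTop_point, appTop_point] at h2
    exact (Scheme.ΓSpecIso (CommRingCat.of k)).symm.commRingCatIsoToRingEquiv.injective h2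
  haveI : IsDomain Γ(X, f ⁻¹ᵁ V) := @AlgebraicGeometry.IsIntegral.component_integral X _ (f ⁻¹ᵁ V) ⟨⟨x₀, hx₀V⟩⟩
  let φ : Γ(Y, V) →+* Γ(X, f ⁻¹ᵁ V) := (f.app V).hom
  have key : φ b * sV = φ a := hres (by
    have h3 : (X.presheaf.map (homOfLE hUV).op).hom sV = sU := by
      show ((X.presheaf.map _ ≫ X.presheaf.map _).hom) s = _
      rw [← Functor.map_comp]; rfl
    rw [map_mul, h3]; exact hab)
  have hdvd : b ∣ a := by
    refine S7125.dvd_of_forall_height_one hb fun P hP hht => ?_
    haveI := S7125.isDVR_of_height_one P hht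
    rcases ValuationRing.dvd_total (algebraMap Γ(Y, V) (Localization.AtPrime P) b) (algebraMap Γ(Y, V) (Localization.AtPrime P) a)
      with ⟨c, hc⟩ | ⟨c, hc⟩
    · obtain ⟨m, t, rfl⟩ := IsLocalization.exists_mk'_eq P.primeCompl c
      have h4 : algebraMap Γ(Y, V) (Localization.AtPrime P) ((t : Γ(Y, V)) * a) =
          algebraMap Γ(Y, V) (Localization.AtPrime P) (b * m) := by
        rw [map_mul, hc, map_mul, mul_left_comm, IsLocalization.mk'_spec']
      exact ⟨t, t.2, m, IsLocalization.injective _ P.primeCompl_le_nonZeroDivisors h4⟩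
    · obtain ⟨m, t, rfl⟩ := IsLocalization.exists_mk'_eq P.primeCompl c
      have h4 : (t : Γ(Y, V)) * b = a * m := IsLocalization.injective (Localization.AtPrime P)
        P.primeCompl_le_nonZeroDivisors (by rw [map_mul, hc, map_mul, mul_left_comm, IsLocalization.mk'_spec'])
      refine ⟨m, fun hm => ?_, ⟨t, by rw [mul_comm m, ← h4, mul_comm]⟩⟩
      have hφb : φ b ≠ 0 := fun h0 => hb (app_injective f V (h0.trans (map_zero φ).symm))
      have h5 : φ t = sV * φ m := mul_left_cancel₀ hφb (by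
        rw [← mul_assoc, key, ← map_mul, ← map_mul, mul_comm b, h4])
      let y : Y := hV.fromSpec ⟨P, hP⟩
      have hy : ∀ c : Γ(Y, V), y ∈ Y.basicOpen c ↔ c ∉ P := fun c => by
        show (⟨P, hP⟩ : PrimeSpectrum Γ(Y, V)) ∈ hV.fromSpec ⁻¹ᵁ Y.basicOpen c ↔ _
        rw [hV.fromSpec_preimage_basicOpen]
        rfl
      obtain ⟨x, hx⟩ := f.surjective y
      have h6 : x ∈ X.basicOpen (φ t) := by
        rw [← Scheme.preimage_basicOpen]
        show f x ∈ Y.basicOpen _
        rw [hx]
        exact (hy _).2 t.2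
      rw [h5, Scheme.basicOpen_mul, ← Scheme.preimage_basicOpen] at h6
      exact (hy m).1 (hx ▸ h6.2) hm
  obtain ⟨r, rfl⟩ := hdvd
  refine ⟨r, mul_left_cancel₀ (fun h0 => hb (app_injective f V (h0.trans (map_zero φ).symm)))
    ((map_mul φ b r).symm.trans key.symm)⟩


/-- Let k be an algebraically closed field of characteristic zero, X and Y integral separated schemes of
finite type over k with Y normal, and f : X → Y a k-morphism surjective on points. A global function
s on X which takes equal values at any two k-rational points of X having the same image under f is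
the pull-back of a global function on Y. (The published statement is phrased for set-theoretic
sections of a vector bundle on Y whose pull-back along f is a regular section; that form reduces to
the present one locally on Y, and the present one is the case of the trivial line bundle.) -/
theorem result
    (k : Type u) [Field k] [IsAlgClosed k] [CharZero k]
    (X Y : Over (Spec (CommRingCat.of k)))
    [AlgebraicGeometry.IsIntegral X.left] [AlgebraicGeometry.IsIntegral Y.left]
    [LocallyOfFiniteType X.hom] [QuasiCompact X.hom] [IsSeparated X.hom]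
    [LocallyOfFiniteType Y.hom] [QuasiCompact Y.hom] [IsSeparated Y.hom]
    (hY : Pi1.IsNormalScheme Y.left)
    (f : X ⟶ Y) (hf : Function.Surjective f.left.base)
    (s : Γ(X.left, ⊤))
    (hs : ∀ x₁ x₂ : Spec (CommRingCat.of k) ⟶ X.left,
      x₁ ≫ X.hom = 𝟙 _ → x₂ ≫ X.hom = 𝟙 _ → x₁ ≫ f.left = x₂ ≫ f.left →
        x₁.appTop.hom s = x₂.appTop.hom s) :
    ∃ r : Γ(Y.left, ⊤), f.left.appTop.hom r = s := by
  haveI : Surjective f.left := ⟨hf⟩
  choose r hr using fun V : Y.left.affineOpens =>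
    exists_local X.hom Y.hom hY f.left (Over.w f) s hs V.1 V.2
  have hsup : ⨆ V : Y.left.affineOpens, (V : Y.left.Opens) = ⊤ := iSup_affineOpens_eq_top Y.left
  have hcomp : TopCat.Presheaf.IsCompatible Y.left.presheaf (fun V : Y.left.affineOpens => V.1) r := by
    intro V W
    refine app_injective f.left _ ?_
    have h1 : ∀ (U : Y.left.Opens) (T : Y.left.affineOpens) (h : U ≤ T.1),
        (f.left.app U).hom ((Y.left.presheaf.map (homOfLE h).op).hom (r T)) =
          (X.left.presheaf.map (homOfLE (le_top : f.left ⁻¹ᵁ U ≤ ⊤)).op).hom s := by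
      intro U T h
      show (Y.left.presheaf.map _ ≫ f.left.app U).hom _ = _
      rw [f.left.naturality]
      show (X.left.presheaf.map _).hom ((f.left.app T.1).hom (r T)) = _
      rw [hr]
      show ((X.left.presheaf.map _ ≫ X.left.presheaf.map _).hom) s = _
      rw [← Functor.map_comp]; rfl
    exact (h1 _ V inf_le_left).trans (h1 _ W inf_le_right).symm
  obtain ⟨t, ht, -⟩ := Y.left.sheaf.existsUnique_gluing' (fun V : Y.left.affineOpens => V.1) ⊤
    (fun V => homOfLE le_top) hsup.ge r hcomp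
  refine ⟨t, X.left.sheaf.eq_of_locally_eq' (fun V : Y.left.affineOpens => f.left ⁻¹ᵁ V.1) ⊤
    (fun V => homOfLE le_top) ?_ _ _ fun V => ?_⟩
  · intro x _
    obtain ⟨V, hV⟩ := Opens.mem_iSup.1 (hsup.ge (Opens.mem_top (f.left x)))
    exact Opens.mem_iSup.2 ⟨V, hV⟩
  · refine Eq.trans ?_ (hr V)
    refine Eq.trans ?_ (congrArg (fun z => (f.left.app V.1).hom z) (ht V))
    exact congrArg (fun φ => φ.hom t) (f.left.naturality (homOfLE (le_top : V.1 ≤ ⊤)).op).symm

end Groth.Agent.S17467
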