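import Groth.Statements.S17468
import Mathlib
import Groth.Agent.Sl2Lib.Basic
-- import your own Groth.Agent.* helpers here

set_option autoImplicit false
universe u v w
open LieRep

namespace Groth.Agent.S17468

/-- Let k be an algebraically closed field of characteristic zero, L a Lie algebra over k spanned by an
sl_2-triple (h, e, f), and V a finite-dimensional L-module written as an internal direct sum of
finitely many irreducible Lie submodules V_i. Then the trace on V of the square of the action of h
is 2 Σ_i C(dim V_i + 1, 3). (The published statement concerns a finite-dimensional representation V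
of a simple Lie algebra restricted to the copy of sl_2 attached to the highest root θ, with h the
coroot θ^∨; there Σ_i C(dim V_i + 1, 3) is the index of V, and the trace is the sum over the weights
λ of V, with multiplicity, of ⟨λ, θ^∨⟩².) -/
theorem result
    (k : Type u) [Field k] [IsAlgClosed k] [CharZero k]
    (L : Type v) [LieRing L] [LieAlgebra k L]
    (h e f : L) (t : IsSl2Triple h e f) (hspan : t.toLieSubalgebra k = ⊤)
    (V : Type w) [AddCommGroup V] [Module k V] [LieRingModule L V] [LieModule k L V]
    [FiniteDimensional k V]
    (ι : Type) [Fintype ι] [DecidableEq ι] (W : ι → LieSubmodule k L V)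
    (hW : DirectSum.IsInternal fun i => (W i).toSubmodule)
    (hirr : ∀ i, LieModule.IsIrreducible k L (W i)) :
    LinearMap.trace k V ((LieModule.toEnd k L V h) ^ 2) =
      2 * ∑ i, (((Module.finrank k (W i) + 1).choose 3 : ℕ) : k) := by
  have hm : ∀ i, Set.MapsTo (⇑((LieModule.toEnd k L V h) ^ 2 : Module.End k V)) ((W i).toSubmodule : Set V) ((W i).toSubmodule : Set V) := fun i x hx => by
    rw [sq, Module.End.mul_apply, LieModule.toEnd_apply_apply, LieModule.toEnd_apply_apply]
    exact (W i).lie_mem ((W i).lie_mem hx)
  rw [LinearMap.trace_eq_sum_trace_restrict hW hm, Finset.mul_sum]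
  refine Finset.sum_congr rfl fun i _ => ?_
  haveI := hirr i
  rw [← Groth.Agent.Sl2Lib.trace_sq_of_irreducible k t hspan (W i)]
  congr 1

end Groth.Agent.S17468
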