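import Groth.Statements.S17469
import Mathlib

set_option autoImplicit false
universe u
open CategoryTheory AlgebraicGeometry
open Variety

namespace Groth.Agent.S17469

/-- Let X be a locally Noetherian integral scheme all of whose local rings are integrally closed domains
and U an open subset of X. A section of O_X over U that is integral over the ring of global sections
of X, the latter acting through restriction, is itself the restriction of a global section. (The
published lemma is stated for an irreducible normal variety and for the graded ring of sections over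
U of all non-negative powers of a line bundle, integral over the corresponding ring of sections over
X; for the trivial line bundle its homogeneous components are the present statement, which is made
here for any locally Noetherian normal integral scheme.) -/
theorem result
    (X : Scheme.{u}) [AlgebraicGeometry.IsIntegral X] [IsLocallyNoetherian X]
    (hX : Pi1.IsNormalScheme X) (U : X.Opens) (b : Γ(X, U))
    (hb : (X.presheaf.map (homOfLE le_top : U ⟶ ⊤).op).hom.IsIntegralElem b) :
    b ∈ Set.range (X.presheaf.map (homOfLE le_top : U ⟶ ⊤).op).hom := by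
  classical
  by_cases hne : Nonempty U
  swap
  · refine ⟨0, ?_⟩
    have : U = ⊥ := by
      ext x
      simp only [TopologicalSpace.Opens.coe_bot, Set.mem_empty_iff_false, iff_false, SetLike.mem_coe]
      exact fun hx => hne ⟨⟨x, hx⟩⟩
    subst this
    haveI : Subsingleton Γ(X, (⊥ : X.Opens)) :=
      CommRingCat.subsingleton_of_isTerminal X.sheaf.isTerminalOfEmpty
    exact Subsingleton.elim _ _
  haveI := hne
  haveI : Nonempty (⊤ : X.Opens) := ⟨⟨genericPoint X, trivial⟩⟩
  obtain ⟨p, hp, hpb⟩ := hb
  set bK := X.germToFunctionField U b with hbK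
  have key : ∀ x : X, ∃ (V : X.Opens) (hx : x ∈ V) (s : Γ(X, V)),
      @Scheme.germToFunctionField X _ V ⟨⟨x, hx⟩⟩ s = bK := by
    intro x
    have hcomp : (X.germToFunctionField U).hom.comp (X.presheaf.map (homOfLE le_top : U ⟶ ⊤).op).hom
        = (algebraMap (X.presheaf.stalk x) X.functionField).comp
          (X.presheaf.germ ⊤ x trivial).hom := by
      ext t
      simp only [RingHom.comp_apply]
      rw [Scheme.algebraMap_germ_eq_germToFunctionField]
      exact X.presheaf.germ_res_apply _ _ _ t
    have hint : _root_.IsIntegral (X.presheaf.stalk x) bK := by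
      refine ⟨p.map (X.presheaf.germ ⊤ x trivial).hom, hp.map _, ?_⟩
      rw [Polynomial.eval₂_map, ← hcomp, hbK, ← Polynomial.hom_eval₂, hpb, map_zero]
    haveI := (hX x).1
    haveI := (hX x).2
    obtain ⟨y, hy⟩ := IsIntegrallyClosed.algebraMap_eq_of_integral hint
    obtain ⟨V, hxV, s, hs⟩ := X.presheaf.germ_exist y
    refine ⟨V, hxV, s, ?_⟩
    haveI : Nonempty V := ⟨⟨x, hxV⟩⟩
    rw [← hy, ← hs, Scheme.algebraMap_germ_eq_germToFunctionField]
  choose V hV s hs using key
  have hη : ∀ x : X, genericPoint X ∈ V x := fun x =>
    ((genericPoint_spec X).mem_open_set_iff (V x).isOpen).mpr (by simpa using ⟨x, hV x⟩)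
  obtain ⟨a, ha, -⟩ := TopCat.Sheaf.existsUnique_gluing' X.sheaf V ⊤ (fun x => homOfLE le_top)
    (fun x _ => TopologicalSpace.Opens.mem_iSup.mpr ⟨x, hV x⟩) s (by
      intro i j
      refine germ_injective_of_isIntegral X (genericPoint X) (U := V i ⊓ V j) ⟨hη i, hη j⟩ ?_
      have h1 : ∀ (W : X.Opens) (l : W ⟶ V i) (hW : genericPoint X ∈ W),
          X.presheaf.germ W _ hW (X.presheaf.map l.op (s i)) = bK :=
        fun W l hW => (X.presheaf.germ_res_apply l _ hW (s i)).trans (hs i)
      have h2 : ∀ (W : X.Opens) (l : W ⟶ V j) (hW : genericPoint X ∈ W),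
          X.presheaf.germ W _ hW (X.presheaf.map l.op (s j)) = bK :=
        fun W l hW => (X.presheaf.germ_res_apply l _ hW (s j)).trans (hs j)
      exact (h1 _ _ _).trans (h2 _ _ _).symm)
  refine ⟨a, ?_⟩
  have hηU : genericPoint X ∈ U :=
    ((genericPoint_spec X).mem_open_set_iff U.isOpen).mpr (by simpa using hne)
  refine germ_injective_of_isIntegral X (genericPoint X) hηU ?_
  refine (X.presheaf.germ_res_apply _ _ _ a).trans ?_
  have := congrArg (X.presheaf.germ (V (genericPoint X)) (genericPoint X) (hη _)) (ha (genericPoint X))
  refine Eq.trans ?_ ((hs (genericPoint X)))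
  refine Eq.trans ?_ this
  exact (X.presheaf.germ_res_apply _ _ _ a).symm

end Groth.Agent.S17469
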