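import Groth.Statements.S17470
import Groth.Agent.AnLogLib.Core
import Groth.Agent.AnPts.Imm
import Groth.Agent.AnConn.Scheme
-- import your own Groth.Agent.* helpers here

set_option autoImplicit false
set_option backward.isDefEq.respectTransparency false
set_option backward.isDefEq.respectTransparency.types false
open CategoryTheory AlgebraicGeometry
open An

namespace Groth.Agent.S17470

/-- Let X be a connected variety over ℂ (reduced, separated and of finite type over ℂ, connected) and u
a regular function on X with no zero at any ℂ-point, viewed as a regular map X → ℂ^×. If the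
continuous map it induces from the ℂ-points X(ℂ), with their complex topology, to ℂ^× is
null-homotopic, then u has the same value at all ℂ-points: a null-homotopic regular map from a
connected complex variety to ℂ^× is constant. -/
theorem result
    (X : Scheme.{0}) [X.Over An.SC] [IsReduced X]
    [LocallyOfFiniteType (X ↘ An.SC)] [QuasiCompact (X ↘ An.SC)] [IsSeparated (X ↘ An.SC)]
    [ConnectedSpace X] (u : Γ(X, ⊤))
    (φ : C(An.Pts X, {z : ℂ // z ≠ 0})) (hφ : ∀ x : An.Pts X, (φ x).1 = x.evTop u)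
    (z₀ : {z : ℂ // z ≠ 0}) (hnull : φ.Homotopic (ContinuousMap.const (An.Pts X) z₀)) :
    ∀ x y : An.Pts X, x.evTop u = y.evTop u := by
  classical
  obtain ⟨H⟩ := hnull
  have hcov := Complex.isCoveringMap_exp
  let H' : C(unitInterval × An.Pts X, {z : ℂ // z ≠ 0}) := H.symm.toContinuousMap
  have H0 : ∀ a, H' (0, a) = (⟨Complex.exp (Complex.log z₀.1), Complex.exp_ne_zero _⟩ : {z : ℂ // z ≠ 0}) := fun a =>
    (H.symm.apply_zero a).trans (Subtype.ext (Complex.exp_log z₀.2).symm)
  let L := hcov.liftHomotopy H' (ContinuousMap.const _ (Complex.log z₀.1)) H0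
  let g : An.Pts X → ℂ := fun a => L (1, a)
  have hgc : Continuous g := L.continuous.comp (by fun_prop)
  have hg : ∀ a, Complex.exp (g a) = a.evTop u := fun a => by
    have := congrFun (hcov.liftHomotopy_lifts H' (ContinuousMap.const _ (Complex.log z₀.1)) H0) (1, a)
    rw [← hφ a, ← H.symm.apply_one a]
    exact congrArg Subtype.val this
  have hfin : ∀ U : X.affineOpens, {z : ℂ | ∃ a : An.Pts X, a.pt ∈ U.1 ∧ a.evTop u = z}.Finite := by
    rintro ⟨U, hU⟩
    haveI : IsAffine U.toScheme := hU
    haveI : LocallyOfFiniteType (U.toScheme ↘ An.SC) := Groth.Agent.AnPts.locallyOfFiniteType_opens U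
    letI : Algebra ℂ Γ(U.toScheme, ⊤) := (An.strHom U.toScheme).toAlgebra
    haveI : Algebra.FiniteType ℂ Γ(U.toScheme, ⊤) :=
      RingHom.finiteType_algebraMap.1 (Groth.Agent.AnPts.finiteType_strHom (X := U.toScheme))
    haveI : IsNoetherianRing Γ(U.toScheme, ⊤) := Algebra.FiniteType.isNoetherianRing ℂ _
    let v : Γ(U.toScheme, ⊤) := U.ι.appTop u
    have hp : ∀ p : Ideal Γ(U.toScheme, ⊤), p ∈ minimalPrimes Γ(U.toScheme, ⊤) →
        ∃ c : ℂ, v - algebraMap ℂ _ c ∈ p := by
      intro p hp
      haveI : p.IsPrime := hp.1.1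
      by_contra hne
      push Not at hne
      let π : Γ(U.toScheme, ⊤) →ₐ[ℂ] Γ(U.toScheme, ⊤) ⧸ p := Ideal.Quotient.mkₐ ℂ p
      haveI : Algebra.FiniteType ℂ (Γ(U.toScheme, ⊤) ⧸ p) :=
        Algebra.FiniteType.of_surjective π Ideal.Quotient.mk_surjective
      choose P hP using fun ψ : (Γ(U.toScheme, ⊤) ⧸ p) →ₐ[ℂ] ℂ =>
        Groth.Agent.AnPts.exists_of_ringHom (X := U.toScheme) (ψ.comp π).toRingHom fun c => (ψ.comp π).commutes c
      refine Groth.Agent.AnLogLib.no_log (π v) (fun c h => hne c (Ideal.Quotient.eq.1 h))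
        (fun ψ => g (An.Pts.map U.ι (P ψ))) (fun ψ => ?_) fun {T} _ ψ hψ => ?_
      · rw [hg, Groth.Agent.AnPts.evTop_map, hP]
        rfl
      · refine hgc.comp ((An.Pts.continuous_map U.ι).comp ?_)
        rw [(Groth.Agent.AnPts.isInducing_evTop (X := U.toScheme)).continuous_iff]
        refine continuous_pi fun f => ?_
        simp only [Function.comp_apply, hP]
        exact hψ (π f)
    choose c hc using hp
    refine ((minimalPrimes.finite_of_isNoetherianRing Γ(U.toScheme, ⊤)).dependent_image c).subset ?_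
    rintro z ⟨a, haU, rfl⟩
    obtain ⟨b, hb⟩ : a ∈ Set.range (An.Pts.map U.ι) := by
      rw [Groth.Agent.AnPts.range_map_of_isOpenImmersion, Set.mem_preimage, Scheme.Opens.range_ι]
      exact haU
    let e : Γ(U.toScheme, ⊤) →+* ℂ := Groth.Agent.AnPts.evHom b ⊤ trivial
    haveI : (RingHom.ker e).IsPrime := RingHom.ker_isPrime e
    obtain ⟨p, hp, hle⟩ := Ideal.exists_minimalPrimes_le (J := RingHom.ker e) (I := ⊥) bot_le
    refine ⟨p, hp, ?_⟩
    have h0 : e (v - algebraMap ℂ _ (c p hp)) = 0 := hle (hc p hp)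
    rw [map_sub, sub_eq_zero] at h0
    rw [← hb, Groth.Agent.AnPts.evTop_map]
    exact (h0.trans (Groth.Agent.AnPts.evTop_strHom b (c p hp))).symm
  haveI : CompactSpace X := QuasiCompact.compactSpace_of_compactSpace (X ↘ An.SC)
  obtain ⟨s, hs⟩ := isCompact_univ.elim_finite_subcover (fun U : X.affineOpens => (U.1 : Set X))
    (fun U => U.1.2) (fun x _ => by
      obtain ⟨_, ⟨W, hW, rfl⟩, hxW, -⟩ := X.isBasis_affineOpens.exists_subset_of_mem_open (Set.mem_univ x) isOpen_univ
      exact Set.mem_iUnion.2 ⟨⟨W, hW⟩, hxW⟩)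
  haveI : PreconnectedSpace (An.Pts X) := (Groth.Agent.AnConn.preconnectedSpace_iff (X := X)).1 inferInstance
  have hrange : (Set.range φ).Finite := by
    refine Set.Finite.of_finite_image ((s.finite_toSet.biUnion fun U _ => hfin U).subset ?_) Subtype.val_injective.injOn
    rintro _ ⟨_, ⟨a, rfl⟩, rfl⟩
    obtain ⟨U, hU, haU⟩ := Set.mem_iUnion₂.1 (hs (Set.mem_univ a.pt))
    exact Set.mem_iUnion₂.2 ⟨U, hU, a, haU, (hφ a).symm⟩
  haveI : Finite (Set.range φ) := hrange.to_subtype
  intro x y
  have := PreconnectedSpace.constant inferInstance (φ.continuous.codRestrict (s := Set.range φ) Set.mem_range_self) (x := x) (y := y)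
  rw [← hφ x, ← hφ y]
  exact congrArg (fun z : Set.range φ => z.1.1) this

end Groth.Agent.S17470
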