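import Groth.Statements.S17471
import Mathlib

set_option autoImplicit false
universe u v w x
open RootCh

namespace Groth.Agent.S17471

/-- Let Φ be a finite, reduced, crystallographic, irreducible root system with a base, and θ a positive
root such that θ + β is a root for no positive root β (so θ is the highest root). Then Σ_{β>0} ⟨β,
θ^∨⟩² = 2 + Σ_{β>0} ⟨β, θ^∨⟩ = 2(1 + ⟨ρ, θ^∨⟩), ρ being half the sum of the positive roots; in the
source the left side is the index of the adjoint representation obtained from its formal character,
and 1 + ⟨ρ, θ^∨⟩ is the dual Coxeter number. -/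
theorem result
    {ι : Type u} {R : Type v} {M : Type w} {N : Type x}
    [Field R] [LinearOrder R] [IsStrictOrderedRing R]
    [AddCommGroup M] [Module R M] [AddCommGroup N] [Module R N] [Fintype ι]
    (P : RootPairing ι R M N) [P.IsRootSystem] [P.IsCrystallographic] [P.IsReduced]
    [P.IsIrreducible] (b : P.Base) (θ : ι) (hθ : b.IsPos θ)
    (hmax : ∀ i : ι, b.IsPos i → P.root θ + P.root i ∉ Set.range P.root) :
    ∑ i ∈ Finset.univ.filter (fun i => 0 < b.height i), P.pairing i θ ^ 2 =
      2 + ∑ i ∈ Finset.univ.filter (fun i => 0 < b.height i), P.pairing i θ := by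
  classical
  have hcast : ∀ i j, P.pairing i j = (P.pairingIn ℤ i j : R) := fun i j => by
    rw [← P.algebraMap_pairingIn ℤ]; simp
  have key : ∀ i, b.IsPos i → i ≠ θ → P.pairingIn ℤ i θ = 0 ∨ P.pairingIn ℤ i θ = 1 := by
    intro i hi hne
    have hneg : P.root i ≠ -P.root θ := fun h => by
      have : i = P.reflectionPerm θ θ :=
        P.root.injective (by rw [h, RootPairing.root_reflectionPerm, RootPairing.reflection_apply_self])
      subst this
      exact (RootPairing.Base.IsPos.neg_iff_not b θ).mp hi hθ
    have h0 : 0 ≤ P.pairingIn ℤ i θ := by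
      by_contra! h
      obtain ⟨k, hk⟩ := P.root_add_root_mem_of_pairingIn_neg h hneg
      exact hmax i hi ⟨k, by rw [hk, add_comm]⟩
    by_contra hcon
    have h2 : 2 ≤ P.pairingIn ℤ i θ := by omega
    -- `θ - i` is a positive root
    obtain ⟨g, hg⟩ : P.root θ - P.root i ∈ Set.range P.root := by
      obtain ⟨k, hk⟩ := P.root_sub_root_mem_of_pairingIn_pos (by omega : 0 < P.pairingIn ℤ i θ) hne
      exact ⟨P.reflectionPerm k k, by
        rw [RootPairing.root_reflectionPerm, RootPairing.reflection_apply_self, hk, neg_sub]⟩
    have hgpos : b.IsPos g := by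
      by_contra hg'
      have hg'' := (RootPairing.Base.IsPos.neg_iff_not b g).mpr hg'
      refine hmax _ hg'' ⟨i, ?_⟩
      change P.root i = P.root θ + P.root (P.reflectionPerm g g)
      rw [RootPairing.root_reflectionPerm, RootPairing.reflection_apply_self, hg]
      abel
    have hpair : P.pairingIn ℤ g θ = 2 - P.pairingIn ℤ i θ := by
      have : P.root θ = P.root g + P.root i := by rw [hg]; abel
      have := P.pairingIn_eq_add_of_root_eq_add (S := ℤ) (j := θ) this
      rw [P.pairingIn_same] at this
      omega
    rcases h2.eq_or_lt with h2 | h2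
    · have hs : P.root (P.reflectionPerm θ i) = P.root i - (2 : ℤ) • P.root θ := by
        rw [RootPairing.root_reflectionPerm, P.reflection_apply_root' ℤ, ← h2]
      refine hmax g hgpos ⟨P.reflectionPerm (P.reflectionPerm θ i) (P.reflectionPerm θ i), ?_⟩
      rw [RootPairing.root_reflectionPerm, RootPairing.reflection_apply_self, hs, hg]
      module
    · have hne' : P.root g ≠ -P.root θ := fun h => by
        have : g = P.reflectionPerm θ θ :=
          P.root.injective (by rw [h, RootPairing.root_reflectionPerm, RootPairing.reflection_apply_self])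
        subst this
        exact (RootPairing.Base.IsPos.neg_iff_not b θ).mp hgpos hθ
      obtain ⟨k, hk⟩ := P.root_add_root_mem_of_pairingIn_neg (show P.pairingIn ℤ g θ < 0 by omega) hne'
      exact hmax g hgpos ⟨k, by rw [hk, add_comm]⟩
  have hθmem : θ ∈ Finset.univ.filter (fun i => 0 < b.height i) := Finset.mem_filter.mpr ⟨Finset.mem_univ _, hθ⟩
  rw [← Finset.add_sum_erase _ _ hθmem, ← Finset.add_sum_erase _ _ hθmem, RootPairing.pairing_same, ← add_assoc]
  rw [Finset.sum_congr rfl (g := fun i => P.pairing i θ) fun i hi => ?_]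
  · ring
  obtain ⟨hne, hi⟩ := Finset.mem_erase.mp hi
  rw [hcast]
  rcases key i (Finset.mem_filter.mp hi).2 hne with h | h <;> simp [h]

end Groth.Agent.S17471
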