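import Mathlib
import Groth.Agent.HopfGr.Cartier
import Groth.Agent.HopfGr.SmoothQuot
import Groth.Statements.S17472

set_option autoImplicit false
universe u
open HopfAlg

open TensorProduct WithConv in
theorem Groth.Agent.S17472.translate_inv {k : Type u} [Field k] {A : Type u} [CommRing A] [HopfAlgebra k A]
    [Algebra.FiniteType k A] (g : A →ₐ[k] k) : ∃ ρ : A →ₐ[k] A, (∀ x, HopfGr.translate g (ρ x) = x) ∧
      Function.Injective (HopfGr.translate g) := by
  let g' := g.comp (HopfAlgebra.antipodeAlgHom k A)
  have e1 : toConv g * toConv g' = 1 := by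
    refine WithConv.ofConv_injective (AlgHom.ext fun a => ?_)
    rw [AlgHom.convMul_apply, AlgHom.convOne_apply, ← g.commutes (Coalgebra.counit (R := k) a),
      ← HopfAlgebra.mul_antipode_lTensor_comul_apply (R := k) a]
    induction Coalgebra.comul (R := k) a with
    | zero => simp
    | tmul x y => simp [g']
    | add x y hx hy => simp only [map_add, hx, hy]
  have e2 : toConv g' * toConv g = 1 := by
    refine WithConv.ofConv_injective (AlgHom.ext fun a => ?_)
    rw [AlgHom.convMul_apply, AlgHom.convOne_apply, ← g.commutes (Coalgebra.counit (R := k) a),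
      ← HopfAlgebra.mul_antipode_rTensor_comul_apply (R := k) a]
    induction Coalgebra.comul (R := k) a with
    | zero => simp
    | tmul x y => simp [g']
    | add x y hx hy => simp only [map_add, hx, hy]
  have h1 : (1 : WithConv (A →ₐ[k] k)).ofConv = Bialgebra.counitAlgHom k A := AlgHom.ext fun a => by simp
  have a1 : (HopfGr.translate g').comp (HopfGr.translate g) = AlgHom.id k A := by
    rw [HopfGr.translate_translate, e1, h1, HopfGr.translate_one]
  exact ⟨HopfGr.translate g', fun x => by
    have a2 : (HopfGr.translate g).comp (HopfGr.translate g') = AlgHom.id k A := by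
      rw [HopfGr.translate_translate, e2, h1, HopfGr.translate_one]
    exact DFunLike.congr_fun a2 x, Function.LeftInverse.injective (g := HopfGr.translate g') fun x => DFunLike.congr_fun a1 x⟩

open TensorProduct
set_option linter.style.haveILetI false

namespace Groth.Agent.S17472

/-- Let k be an algebraically closed field and A a commutative Hopf algebra over k, finitely generated
as a k-algebra, whose only idempotents are 0 and 1 (so that Spec A is a connected affine algebraic
group over k, possibly non-reduced). Let m be the kernel of the counit, the ideal of the neutral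
element. Then the intersection of the powers m^n, n ≥ 0, is the zero ideal; equivalently the
infinitesimal neighbourhoods Spec (A/m^n) of the neutral element are jointly schematically dense.
(The published statement assumes the group smooth, that is, a connected linear algebraic group; the
statement here allows any connected affine algebraic group, possibly non-reduced, a case the
published argument also treats.) -/
theorem result (k : Type u) [Field k] [IsAlgClosed k]
    (A : Type u) [CommRing A] [HopfAlgebra k A] [Algebra.FiniteType k A]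
    (hconn : ∀ e : A, IsIdempotentElem e → e = 0 ∨ e = 1) :
    (⨅ n : ℕ, RingHom.ker (Bialgebra.counitAlgHom k A) ^ n) = ⊥ := by
  classical
  set ε := Bialgebra.counitAlgHom k A with hε
  set m : Ideal A := RingHom.ker ε with hm
  set I : Ideal A := ⨅ n : ℕ, m ^ n with hI
  haveI : IsNoetherianRing A := Algebra.FiniteType.isNoetherianRing k A
  have hIn : ∀ n, I ≤ m ^ n := fun n => iInf_le _ n
  have key : ∀ h : A →ₐ[k] k, (∀ x ∈ I, h x = 0) → ∀ a ∈ I, HopfGr.translate h a ∈ I := by
    intro h hh a ha
    rw [Ideal.mem_iInf]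
    intro n
    rw [← Ideal.Quotient.eq_zero_iff_mem, ← Module.forall_dual_apply_eq_zero_iff k]
    intro l
    let q := Ideal.Quotient.mkₐ k (m ^ n)
    let z : A ⊗[k] (A ⧸ m ^ n) := q.toLinearMap.lTensor A (Coalgebra.comul a)
    let b : A := TensorProduct.rid k A (LinearMap.lTensor A l z)
    have e1 : l (q (HopfGr.translate h a)) = h b := by
      simp only [b, z]
      rw [HopfGr.translate, AlgHom.convMul_apply]
      induction Coalgebra.comul (R := k) a with
      | zero => simp
      | add u v hu hv => simp only [map_add, hu, hv]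
      | tmul u v => simp [Algebra.ofId_apply, ← Algebra.smul_def, mul_comm]
    refine e1.trans (hh b ?_)
    rw [Ideal.mem_iInf]
    intro j
    let p := Ideal.Quotient.mkₐ k (m ^ j)
    let F : A ⊗[k] A →ₐ[k] (A ⧸ m ^ j) ⊗[k] (A ⧸ m ^ n) := Algebra.TensorProduct.map p q
    let J1 : Ideal ((A ⧸ m ^ j) ⊗[k] (A ⧸ m ^ n)) :=
      m.map ((Algebra.TensorProduct.includeLeft : _ →ₐ[k] (A ⧸ m ^ j) ⊗[k] (A ⧸ m ^ n)).comp p)
    let J2 : Ideal ((A ⧸ m ^ j) ⊗[k] (A ⧸ m ^ n)) :=
      m.map ((Algebra.TensorProduct.includeRight : _ →ₐ[k] (A ⧸ m ^ j) ⊗[k] (A ⧸ m ^ n)).comp q)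
    have hb : ∀ u v : A, F (u ⊗ₜ v) - algebraMap k _ (ε u * ε v) ∈ J1 ⊔ J2 := by
      intro u v
      have hu : u - algebraMap k A (ε u) ∈ m := by simp [hm, RingHom.mem_ker]
      have hv : v - algebraMap k A (ε v) ∈ m := by simp [hm, RingHom.mem_ker]
      have h1 := Submodule.mem_sup_left (T := J2) (Ideal.mul_mem_right ((1 : A ⧸ m ^ j) ⊗ₜ[k] q v) J1
        (Ideal.mem_map_of_mem _ hu))
      have h2 := Submodule.mem_sup_right (S := J1) (Ideal.mul_mem_left _ (algebraMap k ((A ⧸ m ^ j) ⊗[k] (A ⧸ m ^ n)) (ε u))
        (Ideal.mem_map_of_mem _ hv) : _ ∈ J2)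
      have h3 := Submodule.add_mem _ h1 h2
      convert h3 using 1
      simp only [AlgHom.comp_apply, map_sub, AlgHom.commutes, sub_mul, mul_sub, map_mul, F,
        Algebra.TensorProduct.map_tmul, Algebra.TensorProduct.includeLeft_apply,
        Algebra.TensorProduct.includeRight_apply, Algebra.TensorProduct.tmul_mul_tmul, one_mul, mul_one]
      simp [Algebra.TensorProduct.algebraMap_apply, Algebra.TensorProduct.tmul_mul_tmul]
    have hle : m.map (F.comp (Bialgebra.comulAlgHom k A)) ≤ J1 ⊔ J2 := by
      refine Ideal.map_le_iff_le_comap.mpr fun x hx => ?_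
      have hz : ∀ z : A ⊗[k] A, F z - algebraMap k _ (Algebra.TensorProduct.lift ε ε (fun _ _ => Commute.all _ _) z) ∈ J1 ⊔ J2 := by
        intro z
        induction z with
        | zero => simp
        | add u v hu hv => rw [map_add, map_add, map_add, add_sub_add_comm]; exact Submodule.add_mem _ hu hv
        | tmul u v => simpa using hb u v
      have hεΔ : ∀ y : A, Algebra.TensorProduct.lift ε ε (fun _ _ => Commute.all _ _) (Coalgebra.comul (R := k) y) = ε y := by
        intro y
        rw [hε, Bialgebra.counitAlgHom_apply]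
        conv_rhs => rw [← one_smul k y, ← TensorProduct.rid_tmul, ← Coalgebra.lTensor_counit_comul (R := k) y]
        induction Coalgebra.comul (R := k) y with
        | zero => simp
        | add p q hp hq => simp only [map_add, hp, hq]
        | tmul u v => simp [mul_comm]
      have h4 := hz (Coalgebra.comul (R := k) x)
      rw [hεΔ, show ε x = 0 from hx, map_zero, sub_zero] at h4
      exact h4
    have hzero : F (Coalgebra.comul (R := k) a) = 0 := by
      have h1 : (F.comp (Bialgebra.comulAlgHom k A)) a ∈ (J1 ⊔ J2) ^ (j + n) := by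
        refine Ideal.pow_right_mono hle _ ?_
        rw [← Ideal.map_pow]
        exact Ideal.mem_map_of_mem _ (hIn _ ha)
      have hJ1 : J1 ^ j = ⊥ := by
        rw [← Ideal.map_pow, Ideal.map_eq_bot_iff_le_ker]
        intro x hx
        simp [p, RingHom.mem_ker, Ideal.Quotient.eq_zero_iff_mem.mpr hx]
      have hJ2 : J2 ^ n = ⊥ := by
        rw [← Ideal.map_pow, Ideal.map_eq_bot_iff_le_ker]
        intro x hx
        simp [q, RingHom.mem_ker, Ideal.Quotient.eq_zero_iff_mem.mpr hx]
      have h2 := Ideal.sup_pow_add_le_pow_sup_pow h1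
      rwa [hJ1, hJ2, bot_sup_eq, Ideal.mem_bot] at h2
    rw [← Ideal.Quotient.eq_zero_iff_mem]
    show p b = 0
    have e2 : p b = TensorProduct.rid k _ (LinearMap.lTensor _ l (F (Coalgebra.comul (R := k) a))) := by
      simp only [b, z]
      induction Coalgebra.comul (R := k) a with
      | zero => simp
      | add u v hu hv => simp only [map_add, hu, hv]
      | tmul u v => simp [F]
    rw [e2, hzero, map_zero, map_zero]
  obtain ⟨r, hr, hrI⟩ := Submodule.exists_mem_and_smul_eq_self_of_fg_of_le_smul m I
    (IsNoetherian.noetherian _) (HopfGr.le_iInf_pow_mul_self hIn)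
  have htop : I ⊔ Submodule.annihilator I = ⊤ := by
    by_contra hne
    obtain ⟨M, hM, hle⟩ := Ideal.exists_le_maximal _ hne
    letI := Ideal.Quotient.field M
    haveI : Algebra.FiniteType k (A ⧸ M) :=
      Algebra.FiniteType.of_surjective (Ideal.Quotient.mkₐ k M) (Ideal.Quotient.mkₐ_surjective _ _)
    haveI := finite_of_finite_type_of_isJacobsonRing k (A ⧸ M)
    haveI : Algebra.IsIntegral k (A ⧸ M) := Algebra.IsIntegral.of_finite _ _
    let e := AlgEquiv.ofBijective (Algebra.ofId k (A ⧸ M)) IsAlgClosed.algebraMap_bijective_of_isIntegral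
    let g : A →ₐ[k] k := e.symm.toAlgHom.comp (Ideal.Quotient.mkₐ k M)
    have hg : ∀ x ∈ M, g x = 0 := fun x hx => by
      simp [g, Ideal.Quotient.eq_zero_iff_mem.mpr hx]
    have hτI := key g fun x hx => hg x (hle (Submodule.mem_sup_left hx))
    obtain ⟨ρ, hρ⟩ : ∃ ρ : A →ₐ[k] A, (∀ x, HopfGr.translate g (ρ x) = x) ∧
        Function.Injective (HopfGr.translate g) := translate_inv g
    have ht : ρ (1 - r) ∈ Submodule.annihilator I := by
      rw [Submodule.mem_annihilator]
      intro i hi
      refine hρ.2 ?_
      rw [smul_eq_mul, map_mul, hρ.1, map_zero, sub_mul, one_mul, sub_eq_zero]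
      exact (hrI _ (hτI i hi)).symm
    have h0 := hg _ (hle (Submodule.mem_sup_right ht))
    rw [← HopfGr.counit_translate g (ρ (1 - r)), hρ.1] at h0
    have : ε r = 0 := hr
    simp [hε] at this
    simp [this] at h0
  obtain ⟨i, hi, t, ht, hit⟩ := Submodule.mem_sup.mp (htop.ge (Submodule.mem_top (x := (1 : A))))
  have hii : i * i = i := by
    have : t * i = 0 := Submodule.mem_annihilator.mp ht i hi
    calc i * i = i * (i + t) - t * i := by ring
      _ = i := by rw [hit, this, mul_one, sub_zero]
  rw [eq_bot_iff]
  intro y hy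
  rcases hconn i hii with h | h
  · rw [h, zero_add] at hit
    have := Submodule.mem_annihilator.mp ht y hy
    rw [hit, one_smul] at this
    exact this
  · have h1 : (1 : A) ∈ m ^ 1 := hIn 1 (h ▸ hi)
    rw [pow_one, hm, RingHom.mem_ker, map_one] at h1
    exact absurd h1 one_ne_zero

end Groth.Agent.S17472
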