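import Groth.Statements.S17474
import Groth.Agent.PicLib.Group
import Groth.Agent.AmpleLib.Pullback
import Groth.Agent.AVLib.Cube

set_option autoImplicit false
universe u
open CategoryTheory MonoidalCategory CartesianMonoidalCategory MonObj GrpObj AlgebraicGeometry CategoryTheory.Limits
open AlgGrp

namespace Groth.Agent.S17474

open CategoryTheory CategoryTheory.Limits AlgebraicGeometry

open Groth.Agent Groth.Agent.PicLib
set_option backward.isDefEq.respectTransparency false
set_option maxHeartbeats 1000000


/-- Over an algebraically closed field k, let X be a projective variety (an integral k-scheme admitting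
a closed immersion into some projective space over k) and let a connected k-group scheme of finite
type G act on X. For a k-point g of G write t_g : X → X, x ↦ g · x. Then for every invertible
O_X-module L and every invertible M with L ⊗ M ≅ O_X (an inverse of L), the invertible module
t_g^*(L) ⊗ M is algebraically equivalent to zero. Equivalently, the neutral component of the
automorphism group scheme of X acts trivially on the Néron–Severi group of X. -/
theorem result (k : Type u) [Field k] [IsAlgClosed k]
    (G X : Over (Spec (CommRingCat.of k))) [GrpObj G] [LocallyOfFiniteType G.hom] [QuasiCompact G.hom]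
    [ConnectedSpace ↥G.left] [IsIntegral X.left] (hX : RelProj.IsHProjective X.hom)
    (a : AlgGrp.Action G X) (g : 𝟙_ (Over (Spec (CommRingCat.of k))) ⟶ G)
    (L M : X.left.Modules) (hL : PicF.IsInvertible L) (hM : PicF.IsInvertible M)
    (hLM : Nonempty (CohB1.tensorMod L M ≅ Coh.structureModule X.left)) :
    @Pic13.IsAlgEquivZero k _ X.left ⟨X.hom⟩
      (CohB1.tensorMod ((Scheme.Modules.pullback (lift (toUnit X ≫ g) (𝟙 X) ≫ a.act).left).obj L) M) := by
  letI : X.left.Over (Spec (CommRingCat.of k)) := ⟨X.hom⟩
  let φ : X ⊗ G ⟶ X := lift (snd X G) (fst X G) ≫ a.act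
  let N : Pic (X ⊗ G).left := pull φ.left (cls hL) * pull (fst X G).left (cls hM)
  obtain ⟨F, hF, hFN⟩ := exists_cls N
  have hone : cls hL * cls hM = 1 := by
    rw [← cls_tensor hL hM, cls_eq_one]
    exact hLM
  have hsl : ∀ s : 𝟙_ (Over (Spec (CommRingCat.of k))) ⟶ G,
      (lift (𝟙 X) (toUnit X ≫ s)).left = Pic13.sliceAt k X.left G.hom s.left (Over.w s) := fun s => by
    apply pullback.hom_ext
    · refine (congrArg CommaMorphism.left (lift_fst (𝟙 X) (toUnit X ≫ s))).trans ?_
      exact (pullback.lift_fst _ _ _).symm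
    · refine (congrArg CommaMorphism.left (lift_snd (𝟙 X) (toUnit X ≫ s))).trans ?_
      exact (pullback.lift_snd _ _ _).symm
  have hval : ∀ s : 𝟙_ (Over (Spec (CommRingCat.of k))) ⟶ G,
      pull (Pic13.sliceAt k X.left G.hom s.left (Over.w s)) (cls hF) =
        pull (lift (toUnit X ≫ s) (𝟙 X) ≫ a.act).left (cls hL) * cls hM := fun s => by
    rw [← hsl, hFN]
    show pull (lift (𝟙 X) (toUnit X ≫ s)).left (pull φ.left (cls hL) * pull (fst X G).left (cls hM) : Pic (X ⊗ G).left) = _
    rw [map_mul, AVLib.pull_left_comp, AVLib.pull_left_comp, lift_fst, Over.id_left, pull_id]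
    congr 3
    simp only [φ, ← Category.assoc, comp_lift, lift_fst, lift_snd]
  have he : lift (toUnit X ≫ η[G]) (𝟙 X) ≫ a.act = 𝟙 X := by
    have h : lift (toUnit X) (𝟙 X) ≫ (η[G] ▷ X) = lift (toUnit X ≫ η[G]) (𝟙 X) :=
      CartesianMonoidalCategory.hom_ext _ _ (by simp) (by simp)
    rw [← h, Category.assoc, a.one_act, leftUnitor_hom, lift_snd]
  refine ⟨G.left, G.hom, ‹_›, ‹_›, ‹_›, F, hF, g.left, (η[G] : 𝟙_ _ ⟶ G).left, Over.w g, Over.w _, ?_, ?_⟩
  · refine (cls_eq_cls (AmpleLib.isInvertible_pullback _ hF)
      (AmpleLib.isInvertible_tensor (AmpleLib.isInvertible_pullback _ hL) hM)).1 ?_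
    exact (pull_cls _ hF).symm.trans ((hval g).trans (by rw [cls_tensor (AmpleLib.isInvertible_pullback _ hL) hM, pull_cls]))
  · refine (cls_eq_one (AmpleLib.isInvertible_pullback _ hF)).1 ?_
    exact (pull_cls _ hF).symm.trans ((hval η[G]).trans (by rw [he, Over.id_left, pull_id, hone]))

end Groth.Agent.S17474
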