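import Groth.Statements.S17475
import Groth.Agent.LinkLib.Square
import Groth.Agent.LinkLib.NormalBig
import Groth.Agent.ProjBundleLib.HProj

set_option autoImplicit false
universe u
open CategoryTheory MonoidalCategory CartesianMonoidalCategory MonObj GrpObj AlgebraicGeometry CategoryTheory.Limits
open AlgGrp

namespace Groth.Agent.S17475

open CategoryTheory CategoryTheory.Limits AlgebraicGeometry

open Groth.Agent Groth.Agent.PicLib Groth.Agent.LinkLib
set_option backward.isDefEq.respectTransparency false
set_option synthInstance.maxHeartbeats 400000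
set_option maxHeartbeats 1000000


/-- Over an algebraically closed field k, let X be a normal projective variety (an integral k-scheme
whose local rings are integrally closed domains, admitting a closed immersion into some projective
space over k) and let a connected k-group scheme of finite type G act on X. For a k-point g of G
write t_g : X → X, x ↦ g · x. Then every invertible O_X-module L which is algebraically equivalent
to zero satisfies t_g^*(L) ≅ L. Equivalently, the Picard variety of X is an abelian variety on which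
the neutral component of the automorphism group scheme of X acts trivially. (For non-normal X the
conclusion can fail: the neutral component may act non-trivially on the Picard variety.) -/
theorem result (k : Type u) [Field k] [IsAlgClosed k]
    (G X : Over (Spec (CommRingCat.of k))) [GrpObj G] [LocallyOfFiniteType G.hom] [QuasiCompact G.hom]
    [ConnectedSpace ↥G.left] [IsIntegral X.left] (hXn : Pi1.IsNormalScheme X.left)
    (hX : RelProj.IsHProjective X.hom)
    (a : AlgGrp.Action G X) (g : 𝟙_ (Over (Spec (CommRingCat.of k))) ⟶ G)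
    (L : X.left.Modules) (hL : PicF.IsInvertible L) (h0 : @Pic13.IsAlgEquivZero k _ X.left ⟨X.hom⟩ L) :
    Nonempty ((Scheme.Modules.pullback (lift (toUnit X ≫ g) (𝟙 X) ≫ a.act).left).obj L ≅ L) := by
  obtain ⟨T₀, q, hconn, hlft, -, M, hM, t, t₀, ht, ht₀, hLt, hL0⟩ := h0
  haveI : IsProper X.hom := (ProjBundleLib.isProper_of_isHProjective hX).2
  haveI : IsLocallyNoetherian X.left := LocallyOfFiniteType.isLocallyNoetherian X.hom
  haveI : LocallyOfFinitePresentation X.hom := inferInstance
  haveI : TopologicalSpace.NoetherianSpace X.left := by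
    haveI : CompactSpace X.left := QuasiCompact.compactSpace_of_compactSpace X.hom
    haveI : IsNoetherian X.left := {}
    infer_instance
  letI : X.left.Over (Spec (CommRingCat.of k)) := ⟨X.hom⟩
  haveI : LocallyOfFinitePresentation (X.left ↘ Spec (CommRingCat.of k)) := ‹LocallyOfFinitePresentation X.hom›
  let U : X.left.Opens := X.hom.smoothLocus
  let X₀ : Over (Spec (CommRingCat.of k)) := Over.mk (U.ι ≫ X.hom)
  let j : X₀ ⟶ X := Over.homMk U.ι rfl
  obtain ⟨z, hz⟩ := (Groth.Agent.S1561.result k X.left).2.nonempty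
  haveI : Nonempty U := ⟨⟨z, hz⟩⟩
  haveI : IsIntegral X₀.left := inferInstanceAs (IsIntegral (U : Scheme.{u}))
  haveI : LocallyOfFiniteType X₀.hom := inferInstanceAs (LocallyOfFiniteType (U.ι ≫ X.hom))
  haveI : LocallyOfFinitePresentation (U.ι ≫ X.hom) := inferInstance
  haveI : Smooth X₀.hom := Scheme.Hom.smoothLocus_eq_top_iff.1 (by
    show (U.ι ≫ X.hom).smoothLocus = ⊤
    rw [← Scheme.Hom.preimage_smoothLocus_eq]
    exact Scheme.Opens.ι_preimage_self U)
  haveI : IsSeparated X₀.hom := inferInstanceAs (IsSeparated (U.ι ≫ X.hom))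
  haveI : QuasiCompact X₀.hom := by
    haveI : TopologicalSpace.NoetherianSpace ↥(U : Scheme.{u}) :=
      U.ι.isOpenEmbedding.isInducing.noetherianSpace
    haveI : QuasiCompact U.ι := quasiCompact_iff_isSpectralMap.2
      ⟨U.ι.continuous, fun _ _ _ => TopologicalSpace.NoetherianSpace.isCompact _⟩
    exact inferInstanceAs (QuasiCompact (U.ι ≫ X.hom))
  haveI : GeometricallyIntegral X₀.hom := AVLib.geometricallyIntegral_of_isIntegral X₀.hom
  let T : Over (Spec (CommRingCat.of k)) := Over.mk q
  haveI : LocallyOfFiniteType T.hom := hlft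
  haveI : ConnectedSpace T.left := hconn
  let w : 𝟙_ (Over (Spec (CommRingCat.of k))) ⟶ T := Over.homMk t ht
  let w₀ : 𝟙_ (Over (Spec (CommRingCat.of k))) ⟶ T := Over.homMk t₀ ht₀
  let N : Pic (X ⊗ T).left := cls (L := M) hM
  let m : T ⊗ G ⊗ X₀ ⟶ X ⊗ T := lift (lift (snd _ _ ≫ fst _ _) (snd _ _ ≫ snd _ _ ≫ j) ≫ a.act) (fst _ _)
  have hsl : ∀ (s : 𝟙_ (Over (Spec (CommRingCat.of k))) ⟶ T) (x : 𝟙_ (Over (Spec (CommRingCat.of k))) ⟶ G),
      slice T G X₀ s x ≫ m = j ≫ (lift (toUnit X ≫ x) (𝟙 X) ≫ a.act) ≫ lift (𝟙 X) (toUnit X ≫ s) := fun s x => by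
    simp only [m, slice, comp_lift, comp_lift_assoc, lift_fst, lift_fst_assoc, lift_snd, lift_snd_assoc,
      comp_toUnit_assoc, Category.comp_id, Category.id_comp, Category.assoc]
  have hslice : ∀ (s : 𝟙_ (Over (Spec (CommRingCat.of k))) ⟶ T),
      (lift (𝟙 X) (toUnit X ≫ s)).left = Pic13.sliceAt k X.left T.hom s.left (Over.w s) := fun s => by
    apply pullback.hom_ext
    · refine (congrArg CommaMorphism.left (lift_fst (𝟙 X) (toUnit X ≫ s))).trans ?_
      exact (pullback.lift_fst _ _ _).symm
    · refine (congrArg CommaMorphism.left (lift_snd (𝟙 X) (toUnit X ≫ s))).trans ?_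
      exact (pullback.lift_snd _ _ _).symm
  have ht1 : pull (lift (𝟙 X) (toUnit X ≫ w)).left N = cls hL := by
    rw [hslice]
    exact (pull_cls _ hM).trans ((cls_eq_cls _ _).2 hLt)
  have ht2 : pull (lift (𝟙 X) (toUnit X ≫ w₀)).left N = 1 := by
    rw [hslice]
    exact (pull_cls _ hM).trans ((cls_eq_one _).2 hL0)
  have he : lift (toUnit X ≫ (1 : 𝟙_ (Over (Spec (CommRingCat.of k))) ⟶ G)) (𝟙 X) ≫ a.act = 𝟙 X := by
    have h1 : (1 : 𝟙_ (Over (Spec (CommRingCat.of k))) ⟶ G) = η[G] := by
      rw [Hom.one_def, toUnit_unique (toUnit _) (𝟙 _), Category.id_comp]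
    have h : lift (toUnit X) (𝟙 X) ≫ (η[G] ▷ X) = lift (toUnit X ≫ η[G]) (𝟙 X) :=
      CartesianMonoidalCategory.hom_ext _ _ (by simp) (by simp)
    rw [h1, ← h, Category.assoc, a.one_act, leftUnitor_hom, lift_snd]
  have key := square (pull m.left N) w w₀ g 1
  simp only [pull_slice, hsl, Over.comp_left, pull_comp, ht1, ht2, map_one, _root_.mul_one] at key
  rw [← pull_comp (lift (toUnit X ≫ g) (𝟙 X)).left a.act.left,
    ← pull_comp (lift (toUnit X ≫ (1 : 𝟙_ (Over (Spec (CommRingCat.of k))) ⟶ G)) (𝟙 X)).left a.act.left, ← Over.comp_left, ← Over.comp_left,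
    he, Over.id_left, pull_id] at key
  refine (cls_eq_cls (AmpleLib.isInvertible_pullback _ hL) hL).1 ((pull_cls _ hL).symm.trans ?_)
  exact pull_ι_injective hXn U (fun x hx => one_lt_dim_of_not_smooth X.hom hXn x hx) key

end Groth.Agent.S17475
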