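import Groth.Statements.S17476
import Groth.Agent.RatDense.Hartogs
import Groth.Agent.SerreLib.Normal
import Mathlib.AlgebraicGeometry.Modules.Tilde


set_option autoImplicit false
universe u
open CategoryTheory AlgebraicGeometry Opposite
open Coh

namespace Groth.Agent.S17476

open CategoryTheory CategoryTheory.Limits AlgebraicGeometry

open CategoryTheory AlgebraicGeometry in
theorem aux_res (R : CommRingCat.{u}) [IsDomain R] [IsNoetherianRing R] [IsIntegrallyClosed R]
    (U : (Spec R).Opens) (h : ∀ p : PrimeSpectrum R, p ∉ U → (2 : ℕ∞) ≤ p.asIdeal.height) :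
    Function.Bijective ((Spec R).presheaf.map (homOfLE (le_top : U ≤ ⊤)).op) := by
  haveI : IsLocallyNoetherian (Spec R) := inferInstance
  have hne : (⟨⊥, Ideal.isPrime_bot⟩ : PrimeSpectrum R) ∈ U := by
    by_contra hc
    have h2 := h _ hc
    rw [show (⊥ : Ideal R).height = 0 from Ideal.height_bot] at h2
    exact absurd h2 (by norm_num)
  haveI : Nonempty U := ⟨⟨_, hne⟩⟩
  refine ⟨map_injective_of_isIntegral (Spec R) (homOfLE (le_top : U ≤ ⊤)), fun s => ?_⟩
  suffices hd : ∀ x : Spec R, x ∈ (⊤ : (Spec R).Opens) → x ∉ U →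
      (2 : ℕ∞) ≤ LocCoh.depth ((Spec R).presheaf.stalk x) ((Spec R).presheaf.stalk x) by
    obtain ⟨t, ht⟩ := Groth.Agent.RatDense.exists_extend_section (le_top : U ≤ ⊤) hd s
    exact ⟨t, ht⟩
  · intro x _ hx
    haveI := x.isPrime
    letI : Algebra R ((Spec R).presheaf.stalk x) := StructureSheaf.stalkAlgebra R x
    haveI : IsLocalization.AtPrime ((Spec R).presheaf.stalk x) x.asIdeal :=
      StructureSheaf.IsLocalization.to_stalk R x
    haveI : IsDomain ((Spec R).presheaf.stalk x) :=
      IsLocalization.isDomain_of_le_nonZeroDivisors ((Spec R).presheaf.stalk x) (M := x.asIdeal.primeCompl) x.asIdeal.primeCompl_le_nonZeroDivisors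
    haveI : IsIntegrallyClosed ((Spec R).presheaf.stalk x) :=
      isIntegrallyClosed_of_isLocalization _ x.asIdeal.primeCompl x.asIdeal.primeCompl_le_nonZeroDivisors
    refine Groth.Agent.SerreLib.two_le_depth_of_normal ?_
    rw [IsLocalization.AtPrime.ringKrullDim_eq_height x.asIdeal ((Spec R).presheaf.stalk x),
      ← WithBot.coe_one, WithBot.coe_lt_coe]
    exact lt_of_lt_of_le (by norm_num) (h x hx)

/-- Let R be a Noetherian ring, Z = Spec R, M a finitely generated R-module with associated
quasi-coherent sheaf M~ (so that Hom_R(M, R) = Hom_Z(M~, O_Z)), and Z₀ ⊆ Z an open subscheme. (1) If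
the restriction of functions Γ(Z, O_Z) → Γ(Z₀, O_Z) is injective, then the restriction map Hom_Z(M~,
O_Z) → Hom_{Z₀}(M~|Z₀, O_{Z₀}) is injective. (2) If R is an integrally closed domain and the closed
complement of Z₀ has codimension at least 2 (every prime ideal outside Z₀ has height at least 2),
then that restriction map is bijective. (The published first assertion assumes only that Z₀ is
dense; for R = k[x,y]/(x², xy), M = R and Z₀ the locus y ≠ 0, which is dense, multiplication by x is
a nonzero element of Hom_R(M, R) restricting to zero, so schematic density is what is needed and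
what the printed argument uses. The published second assertion is for a normal irreducible affine
variety; any Noetherian integrally closed domain is allowed here.) -/
theorem result (R : Type u) [CommRing R] [IsNoetherianRing R]
    (M : ModuleCat.{u} (CommRingCat.of R)) [Module.Finite R M] (U : (Spec (CommRingCat.of R)).Opens) :
    (Function.Injective ((Spec (CommRingCat.of R)).presheaf.map (homOfLE (le_top : U ≤ ⊤)).op) →
      Function.Injective (fun φ : AlgebraicGeometry.tilde M ⟶ Coh.structureModule (Spec (CommRingCat.of R)) =>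
        (Scheme.Modules.restrictFunctor U.ι).map φ)) ∧
    (IsDomain R → IsIntegrallyClosed R → (∀ p : PrimeSpectrum R, p ∉ U → (2 : ℕ∞) ≤ p.asIdeal.height) →
      Function.Bijective (fun φ : AlgebraicGeometry.tilde M ⟶ Coh.structureModule (Spec (CommRingCat.of R)) =>
        (Scheme.Modules.restrictFunctor U.ι).map φ)) := by
  let η : Coh.structureModule (Spec (CommRingCat.of R)) ⟶
      (Scheme.Modules.pushforward U.ι).obj ((Scheme.Modules.restrictFunctor U.ι).obj
        (Coh.structureModule (Spec (CommRingCat.of R)))) :=
    (Scheme.Modules.restrictAdjunction U.ι).unit.app _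
  let e := tilde.adjunction (R := CommRingCat.of R)
  have hres : ∀ φ : AlgebraicGeometry.tilde M ⟶ Coh.structureModule (Spec (CommRingCat.of R)),
      (Scheme.Modules.restrictFunctor U.ι).map φ =
        ((Scheme.Modules.restrictAdjunction U.ι).homEquiv _ _).symm (φ ≫ η) := fun φ => by
    rw [Equiv.eq_symm_apply, Adjunction.homEquiv_unit]
    exact ((Scheme.Modules.restrictAdjunction U.ι).unit.naturality φ).symm
  have hη : ∀ φ : AlgebraicGeometry.tilde M ⟶ Coh.structureModule (Spec (CommRingCat.of R)),
      φ ≫ η = (e.homEquiv M _).symm ((e.homEquiv M _) φ ≫ (moduleSpecΓFunctor (R := CommRingCat.of R)).map η) :=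
    fun φ => ((e.homEquiv M _).eq_symm_apply).mpr (e.homEquiv_naturality_right φ η)
  have himg : ((U.ι ''ᵁ (U.ι ⁻¹ᵁ ⊤)) : (Spec (CommRingCat.of R)).Opens) = U := by
    simp
  have hinj : Function.Injective ((Spec (CommRingCat.of R)).presheaf.map (homOfLE (le_top : U ≤ ⊤)).op) →
      Function.Injective ((moduleSpecΓFunctor (R := CommRingCat.of R)).map η).hom := by
    intro h a b hab
    change (Spec (CommRingCat.of R)).presheaf.map (homOfLE (U.ι.image_preimage_le ⊤)).op a =
      (Spec (CommRingCat.of R)).presheaf.map (homOfLE (U.ι.image_preimage_le ⊤)).op b at hab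
    refine h ?_
    have := congrArg ((Spec (CommRingCat.of R)).presheaf.map (homOfLE himg.ge).op) hab
    rwa [← ConcreteCategory.comp_apply, ← Functor.map_comp, ← ConcreteCategory.comp_apply,
      ← Functor.map_comp] at this
  have hbij : Function.Bijective ((Spec (CommRingCat.of R)).presheaf.map (homOfLE (le_top : U ≤ ⊤)).op) →
      Function.Bijective ((moduleSpecΓFunctor (R := CommRingCat.of R)).map η).hom := by
    refine fun h => ⟨hinj h.1, fun s => ?_⟩
    obtain ⟨t, ht⟩ := h.2 ((Spec (CommRingCat.of R)).presheaf.map (homOfLE himg.ge).op s)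
    refine ⟨t, ?_⟩
    change (Spec (CommRingCat.of R)).presheaf.map (homOfLE (U.ι.image_preimage_le ⊤)).op t = s
    have := congrArg ((Spec (CommRingCat.of R)).presheaf.map (homOfLE himg.le).op) ht
    rw [← ConcreteCategory.comp_apply, ← Functor.map_comp, ← ConcreteCategory.comp_apply,
      ← Functor.map_comp] at this
    refine this.trans ?_
    rw [Subsingleton.elim ((homOfLE himg.ge).op ≫ (homOfLE himg.le).op) (𝟙 _), CategoryTheory.Functor.map_id]
    rfl
  refine ⟨fun h φ ψ hφ => ?_, fun _ _ hcd => ?_⟩
  · haveI : Mono ((moduleSpecΓFunctor (R := CommRingCat.of R)).map η) :=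
      (ModuleCat.mono_iff_injective _).mpr (hinj h)
    simp only [hres, EmbeddingLike.apply_eq_iff_eq, hη] at hφ
    exact (e.homEquiv M _).injective ((cancel_mono _).mp ((e.homEquiv M _).symm.injective hφ))
  · have hb := hbij (aux_res (CommRingCat.of R) U hcd)
    haveI : IsIso ((moduleSpecΓFunctor (R := CommRingCat.of R)).map η) :=
      (ConcreteCategory.isIso_iff_bijective _).mpr hb
    have heq : (fun φ : AlgebraicGeometry.tilde M ⟶ Coh.structureModule (Spec (CommRingCat.of R)) =>
        (Scheme.Modules.restrictFunctor U.ι).map φ) =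
        ((Scheme.Modules.restrictAdjunction U.ι).homEquiv _ _).symm ∘ ((e.homEquiv M _).symm ∘
          ((fun g => g ≫ (moduleSpecΓFunctor (R := CommRingCat.of R)).map η) ∘ (e.homEquiv M _))) := by
      funext φ
      rw [hres, hη]
      rfl
    rw [heq]
    exact (Equiv.bijective _).comp ((Equiv.bijective _).comp
      (Function.Bijective.comp ⟨fun a b hab => (cancel_mono _).mp hab,
        fun g => ⟨g ≫ inv ((moduleSpecΓFunctor (R := CommRingCat.of R)).map η), by simp⟩⟩ (Equiv.bijective _)))

end Groth.Agent.S17476
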