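import Groth.Statements.S1748
import Groth.Agent.DRingLib.InjAmp
import Groth.Agent.InjHullLib.Noetherian
-- import your own Groth.Agent.* helpers here

set_option autoImplicit false
universe u
open CategoryTheory
open scoped TensorProduct Polynomial
attribute [local instance] HasDerivedCategory.standard
open InjHull

namespace Groth.Agent.S1748

attribute [local instance] HasDerivedCategory.standard
open Pretriangulated

noncomputable section

section
variable {A : Type u} [CommRing A] {M : Type u} [AddCommGroup M] [Module A[X] M] [Module A M] [IsScalarTower A A[X] M]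

/-- coinduced module -/
def Coind (A : Type u) [CommRing A] (M : Type u) [AddCommGroup M] [Module A M] : Type u := A[X] →ₗ[A] M

instance : AddCommGroup (Coind A M) := inferInstanceAs (AddCommGroup (A[X] →ₗ[A] M))

def Coind.mk (φ : A[X] →ₗ[A] M) : Coind A M := φ
def Coind.out (φ : Coind A M) : A[X] →ₗ[A] M := φ

theorem Coind.ext {φ ψ : Coind A M} (h : ∀ p, φ.out p = ψ.out p) : φ = ψ := LinearMap.ext h

instance : Module A[X] (Coind A M) where
  smul b φ := Coind.mk (φ.out ∘ₗ LinearMap.mulRight A b)
  one_smul φ := Coind.ext fun p => by change φ.out (p * 1) = _; rw [mul_one]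
  mul_smul b c φ := Coind.ext fun p => by change φ.out (p * (b * c)) = φ.out (p * b * c); rw [mul_assoc]
  smul_zero _ := Coind.ext fun _ => rfl
  smul_add _ _ _ := Coind.ext fun _ => rfl
  add_smul b c φ := Coind.ext fun p => by
    change φ.out (p * (b + c)) = φ.out (p * b) + φ.out (p * c); rw [mul_add, map_add]
  zero_smul φ := Coind.ext fun p => by change φ.out (p * 0) = 0; rw [mul_zero, map_zero]

theorem Coind.injective [Module.Injective A M] : Module.Injective A[X] (Coind A M) := by
  refine ⟨fun P Q _ _ _ _ f hf g => ?_⟩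
  letI := Module.compHom P (algebraMap A A[X])
  letI := Module.compHom Q (algebraMap A A[X])
  haveI : IsScalarTower A A[X] P := IsScalarTower.of_algebraMap_smul fun _ _ => rfl
  haveI : IsScalarTower A A[X] Q := IsScalarTower.of_algebraMap_smul fun _ _ => rfl
  let g₁ : P →ₗ[A] M :=
    { toFun := fun p => (g p).out 1
      map_add' := fun p q => by rw [map_add]; rfl
      map_smul' := fun a p => by
        rw [← IsScalarTower.algebraMap_smul A[X] a p, g.map_smul]
        change (g p).out (1 * algebraMap A A[X] a) = a • (g p).out 1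
        rw [one_mul, Algebra.algebraMap_eq_smul_one, map_smul] }
  obtain ⟨h, hh⟩ := Module.Injective.out (f.restrictScalars A) hf g₁
  refine ⟨{ toFun := fun q => Coind.mk (h ∘ₗ ((LinearMap.toSpanSingleton A[X] Q q).restrictScalars A))
            map_add' := fun q r => Coind.ext fun p => by
              change h (p • (q + r)) = h (p • q) + h (p • r); rw [smul_add, map_add]
            map_smul' := fun b q => Coind.ext fun p => by
              change h (p • (b • q)) = h ((p * b) • q); rw [mul_smul] }, fun p => Coind.ext fun b => ?_⟩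
  change h (b • f p) = (g p).out b
  rw [← f.map_smul]
  refine (hh (b • p)).trans ?_
  change (g (b • p)).out 1 = _
  rw [g.map_smul]
  change (g p).out (1 * b) = _
  rw [one_mul]

def Coind.unit : M →ₗ[A[X]] Coind A M where
  toFun m := Coind.mk ((LinearMap.toSpanSingleton A[X] M m).restrictScalars A)
  map_add' m n := Coind.ext fun p => smul_add p m n
  map_smul' b m := Coind.ext fun p => smul_smul p b m

def Coind.d : Coind A M →ₗ[A[X]] Coind A M where
  toFun φ := Coind.mk (φ.out ∘ₗ LinearMap.mulRight A Polynomial.X -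
    (DistribSMul.toLinearMap A M (Polynomial.X : A[X])) ∘ₗ φ.out)
  map_add' φ ψ := Coind.ext fun p => by
    change (φ.out (p * Polynomial.X) + ψ.out (p * Polynomial.X)) - (Polynomial.X : A[X]) • (φ.out p + ψ.out p) =
      (φ.out (p * Polynomial.X) - (Polynomial.X : A[X]) • φ.out p) +
      (ψ.out (p * Polynomial.X) - (Polynomial.X : A[X]) • ψ.out p)
    rw [smul_add]; abel
  map_smul' b φ := Coind.ext fun p => by
    change φ.out (p * Polynomial.X * b) - (Polynomial.X : A[X]) • φ.out (p * b) =
      φ.out (p * b * Polynomial.X) - (Polynomial.X : A[X]) • φ.out (p * b)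
    rw [mul_right_comm]

theorem Coind.unit_injective : Function.Injective (Coind.unit (A := A) (M := M)) := fun m n h => by
  have h1 : (1 : A[X]) • m = (1 : A[X]) • n := congrArg (fun φ : Coind A M => Coind.out φ (1 : A[X])) h
  rwa [one_smul, one_smul] at h1

theorem Coind.exact : Function.Exact (Coind.unit (A := A) (M := M)) Coind.d := by
  intro φ
  refine ⟨fun h => ⟨φ.out 1, Coind.ext fun p => ?_⟩, ?_⟩
  · change p • φ.out 1 = φ.out p
    have hX : ∀ q : A[X], φ.out (q * Polynomial.X) = (Polynomial.X : A[X]) • φ.out q := fun q =>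
      sub_eq_zero.1 (congrArg (fun ψ => Coind.out ψ q) h)
    induction p using Polynomial.induction_on with
    | C a => rw [← Polynomial.algebraMap_eq, algebraMap_smul, Algebra.algebraMap_eq_smul_one, map_smul]
    | add p q hp hq => rw [add_smul, map_add, hp, hq]
    | monomial n a ih => rw [pow_succ, ← mul_assoc, hX, ← ih, smul_smul, mul_comm _ Polynomial.X]
  · rintro ⟨m, rfl⟩
    refine Coind.ext fun p => ?_
    change (p * Polynomial.X) • m - (Polynomial.X : A[X]) • p • m = 0
    rw [smul_smul, mul_comm, sub_self]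

theorem Coind.d_surjective : Function.Surjective (Coind.d (A := A) (M := M)) := fun ψ => by
  obtain ⟨c, hc⟩ : ∃ c : ℕ → M, ∀ n, c (n + 1) = (Polynomial.X : A[X]) • c n + ψ.out (Polynomial.X ^ n) :=
    ⟨fun n => Nat.rec 0 (fun n x => (Polynomial.X : A[X]) • x + ψ.out (Polynomial.X ^ n)) n, fun _ => rfl⟩
  let b := Polynomial.basisMonomials A
  have hb : ∀ n, b n = (Polynomial.X : A[X]) ^ n := fun n => by
    simp [b, Polynomial.X_pow_eq_monomial]
  obtain ⟨φ, hφ⟩ : ∃ φ : A[X] →ₗ[A] M, ∀ n, φ (Polynomial.X ^ n) = c n :=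
    ⟨b.constr A c, fun n => by rw [← hb]; exact b.constr_basis A c n⟩
  refine ⟨Coind.mk φ, ?_⟩
  have key : (Coind.d (Coind.mk φ)).out = ψ.out := by
    refine Module.Basis.ext (R := A) b fun n => ?_
    rw [hb]
    change φ (Polynomial.X ^ n * Polynomial.X) - (Polynomial.X : A[X]) • φ (Polynomial.X ^ n) = ψ.out (Polynomial.X ^ n)
    rw [← pow_succ, hφ, hφ, hc, add_sub_cancel_left]
  exact key

theorem injective_polynomial_tensor (A : Type u) [CommRing A] [IsNoetherianRing A] (E : Type u) [AddCommGroup E]
    [Module A E] [Module.Injective A E] : Module.Injective A (A[X] ⊗[A] E) := by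
  classical
  haveI := Groth.Agent.InjHullLib.injective_directSum (R := A) (ι := ULift.{u} ℕ) (fun _ => E) (fun _ => inferInstance)
  let e : A[X] ⊗[A] E ≃ₗ[A] DirectSum (ULift.{u} ℕ) fun _ => E :=
    TensorProduct.congr ((Polynomial.basisMonomials A).reindex Equiv.ulift.symm).repr (LinearEquiv.refl A E) ≪≫ₗ
      TensorProduct.finsuppScalarLeft A E (ULift.{u} ℕ) ≪≫ₗ finsuppLEquivDirectSum A E _
  exact (Module.Baer.of_equiv e.symm (Module.Baer.of_injective inferInstance)).injective

end

theorem injAmp_one {R : Type u} [CommRing R] (S : ShortComplex (ModuleCat.{u} R)) (hS : S.ShortExact)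
    (h2 : Module.Injective R S.X₂) (h3 : Module.Injective R S.X₃) :
    DRing.HasInjAmplitudeIn R 0 1 (Dual.inD R S.X₁) := by
  have hJ : ∀ J : ModuleCat.{u} R, Module.Injective R J → DRing.HasInjAmplitudeIn R 0 0 (Dual.inD R J) := fun J hi => by
    refine ⟨DRingLib.sng 0 J, fun i hi => DRingLib.isZero_sng 0 J (by omega), fun i => ?_, ⟨DRingLib.singleQZeroIso J⟩⟩
    haveI : Injective J := (Module.injective_iff_injective_object R J).1 hi
    refine (Module.injective_iff_injective_object R _).2 ?_
    by_cases h : i = 0
    · subst h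
      exact Injective.of_iso (HomologicalComplex.singleObjXSelf (ComplexShape.up ℤ) 0 J).symm inferInstance
    · exact (DRingLib.isZero_sng 0 J h).injective
  refine ((DRingLib.injAmp_tfae (A := R) (Dual.inD R S.X₁) 0 1).out 1 0).1 fun N iN iM i hi => ?_
  letI := iN
  letI := iM
  refine subsingleton_of_forall_eq 0 fun g => ?_
  let T := (Triangle.shiftFunctor (DerivedCategory (ModuleCat.{u} R)) i).obj hS.singleTriangle
  have hT : T ∈ distTriang _ := Triangle.shift_distinguished _ hS.singleTriangle_distinguished _
  have hg : g ≫ T.mor₁ = 0 := (DRingLib.subsingleton_hom_of_injAmp (hJ _ h2) (ModuleCat.of R N) i (by omega)).elim _ _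
  obtain ⟨g', hg'⟩ := Triangle.coyoneda_exact₂ T.invRotate (inv_rot_of_distTriang _ hT) g hg
  have hi' := DRingLib.subsingleton_hom_of_injAmp (hJ _ h3) (ModuleCat.of R N) (i + -1) (by omega)
  have h0 : Subsingleton (Dual.inD R N ⟶ T.invRotate.obj₁) :=
    (((shiftFunctorAdd' (DerivedCategory (ModuleCat.{u} R)) i (-1) (i + -1) rfl).app (Dual.inD R S.X₃)).homToEquiv).subsingleton_congr.1 hi'
  rw [hg', h0.elim g' 0, Limits.zero_comp]; rfl

end

/-- Let A be a Noetherian ring and E an injective A-module. Then A[x] ⊗_A E, as an object of D(A[x]) in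
degree 0, has injective amplitude in [0, 1]: it is quasi-isomorphic to a complex of injective
A[x]-modules concentrated in degrees 0 and 1. In particular it has finite injective dimension. -/
theorem result (A : Type u) [CommRing A] [IsNoetherianRing A] (E : Type u) [AddCommGroup E] [Module A E] [Module.Injective A E] : DRing.HasInjAmplitudeIn A[X] 0 1 (Dual.inD A[X] (A[X] ⊗[A] E)) := by
  haveI := injective_polynomial_tensor A E
  let J : ModuleCat.{u} A[X] := ModuleCat.of A[X] (Coind A (A[X] ⊗[A] E))
  let S : ShortComplex (ModuleCat.{u} A[X]) := ShortComplex.mk (X₁ := ModuleCat.of A[X] (A[X] ⊗[A] E)) (X₂ := J) (X₃ := J)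
    (ModuleCat.ofHom Coind.unit) (ModuleCat.ofHom Coind.d)
    (ModuleCat.hom_ext (LinearMap.ext fun m => (Coind.exact (A := A) _).2 ⟨m, rfl⟩))
  exact injAmp_one S
    { exact := (ShortComplex.ShortExact.moduleCat_exact_iff_function_exact S).2 Coind.exact
      mono_f := (ModuleCat.mono_iff_injective _).2 Coind.unit_injective
      epi_g := (ModuleCat.epi_iff_surjective _).2 Coind.d_surjective } Coind.injective Coind.injective

end Groth.Agent.S1748
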