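import Groth.Statements.S17480
import Groth.Agent.S3278
import Groth.Agent.OrbitQuotLib.OpenSub
import Groth.Agent.WeilClosedLib.Transporter
import Groth.Agent.ChevAffine.Finite
import Groth.Agent.FpqcDesc.Basic

set_option backward.isDefEq.respectTransparency false
set_option backward.isDefEq.respectTransparency.types false
-- import your own Groth.Agent.* helpers here

set_option autoImplicit false
universe u
open CategoryTheory MonoidalCategory CartesianMonoidalCategory MonObj GrpObj AlgebraicGeometry CategoryTheory.Limits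
open AlgGrp

namespace Groth.Agent.S17480

theorem isPullback_of_isKernel {S : Scheme.{u}} {G Q N : Over S} [GrpObj G] [GrpObj Q] (q : G ⟶ Q) [IsMonHom q]
    (i : N ⟶ G) (hker : AlgGrp.IsKernel i q) :
    CategoryTheory.IsPullback (fst G N) ((G ◁ i) ≫ μ[G]) q q := by
  have hi : i ≫ q = 1 := by rw [hker.w, Hom.one_def]
  haveI : Mono η[Q] := SplitMono.mono ⟨toUnit Q, toUnit_unique _ _⟩
  haveI : Mono i := ⟨fun a b hab => hker.hom_ext hab (toUnit_unique _ _)⟩
  have e1 : (G ◁ i) ≫ μ[G] = fst G N * (snd G N ≫ i) := by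
    rw [Hom.mul_def, ← lift_whiskerLeft_assoc, lift_fst_snd, Category.id_comp]
  rw [e1]
  have w : fst G N ≫ q = (fst G N * (snd G N ≫ i)) ≫ q := by
    rw [MonObj.mul_comp, Category.assoc, hi, MonObj.comp_one, _root_.mul_one]
  have key : ∀ (s : Limits.PullbackCone q q), ∃ l : s.pt ⟶ N, l ≫ i = s.fst⁻¹ * s.snd := fun s =>
    ⟨hker.lift _ (toUnit _) (by rw [MonObj.mul_comp, GrpObj.inv_comp, ← s.condition, inv_mul_cancel, Hom.one_def]),
      hker.lift_fst _ _ _⟩
  choose l hl using key
  refine ⟨⟨w⟩, ⟨Limits.PullbackCone.IsLimit.mk w (fun s => lift s.fst (l s)) (fun s => lift_fst _ _)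
    (fun s => ?_) fun s m h₁ h₂ => ?_⟩⟩
  · rw [MonObj.comp_mul, lift_fst, lift_snd_assoc, hl, mul_inv_cancel_left]
  · apply CartesianMonoidalCategory.hom_ext
    · rw [lift_fst, h₁]
    · rw [lift_snd, ← cancel_mono i, hl, Category.assoc, ← h₂, MonObj.comp_mul, h₁, inv_mul_cancel_left]

/-- Over an algebraically closed field k, let G be a connected linear algebraic group (a smooth, affine,
connected k-group scheme), i : H → G a closed subgroup scheme (not necessarily reduced), j : H⁰ → H
its neutral component (an open subgroup scheme which is connected), and n : N → G the normaliser of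
H⁰ in G. Let Q₁ = G/H and Q₂ = G/N be the quotients (G-actions with base points o₁, o₂ whose orbit
maps are flat and surjective, with G × H ≅ G ×_{Q₁} G and likewise for N), and let f : Q₁ → Q₂ be
the morphism under which the orbit map of o₁ composes to the orbit map of o₂ (it exists since H ⊆
N). Then f is an affine morphism. -/
theorem result (k : Type u) [Field k] [IsAlgClosed k]
    (G H H₀ N Q₁ Q₂ : Over (Spec (CommRingCat.of k))) [GrpObj G] [GrpObj H] [GrpObj H₀] [GrpObj N]
    [IsAffine G.left] [Smooth G.hom] [ConnectedSpace ↥G.left]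
    (i : H ⟶ G) [IsMonHom i] (hi : IsClosedImmersion i.left)
    (j : H₀ ⟶ H) [IsMonHom j] (hj : IsOpenImmersion j.left) [ConnectedSpace ↥H₀.left]
    (n : N ⟶ G) (hN : Red.IsNormalizerOf (j ≫ i) n)
    (a₁ : AlgGrp.Action G Q₁) (o₁ : 𝟙_ (Over (Spec (CommRingCat.of k))) ⟶ Q₁) (hQ₁ : AGF.IsQuotient i Q₁ a₁ o₁)
    (a₂ : AlgGrp.Action G Q₂) (o₂ : 𝟙_ (Over (Spec (CommRingCat.of k))) ⟶ Q₂) (hQ₂ : AGF.IsQuotient n Q₂ a₂ o₂)
    (f : Q₁ ⟶ Q₂) (hf : a₁.orbitMap o₁ ≫ f = a₂.orbitMap o₂) :
    IsAffineHom f.left := by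
  obtain ⟨hQ₁l, hQ₁f, hQ₁s, hQ₁p⟩ := hQ₁
  obtain ⟨hQ₂l, hQ₂f, hQ₂s, hQ₂p⟩ := hQ₂
  obtain ⟨hnm, hnmono, hNu⟩ := hN
  haveI := hi; haveI := hj; haveI := hnm; haveI := hnmono
  haveI := hQ₁l; haveI := hQ₁f; haveI := hQ₁s; haveI := hQ₂l; haveI := hQ₂f; haveI := hQ₂s
  haveI : IsAffineHom G.hom := inferInstance
  haveI : QuasiCompact G.hom := inferInstance
  haveI : IsSeparated G.hom := inferInstance
  haveI : LocallyOfFiniteType H.hom := by rw [← Over.w i]; infer_instance
  haveI : QuasiCompact H.hom := by rw [← Over.w i]; infer_instance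
  haveI : IsClosedImmersion j.left := OrbitQuotLib.isClosedImmersion j
  haveI : LocallyOfFiniteType H₀.hom := by rw [← Over.w j]; infer_instance
  haveI : IsClosedImmersion (j ≫ i).left := inferInstanceAs (IsClosedImmersion (j.left ≫ i.left))
  obtain ⟨N', _, n', hn', hN'⟩ := WeilClosedLib.exists_normalizer
    (WeilClosedLib.isEssentiallyFree_of_field H₀.hom) (j ≫ i)
  obtain ⟨hn'm, hn'mono, hN'u⟩ := hN'
  haveI := hn'mono
  obtain ⟨e, he⟩ := (hN'u N n).2 ((hNu N n).1 ⟨𝟙 _, Category.id_comp _⟩)
  obtain ⟨e', he'⟩ := (hNu N' n').2 ((hN'u N' n').1 ⟨𝟙 _, Category.id_comp _⟩)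
  haveI : IsIso e := ⟨e', by rw [← cancel_mono n, Category.assoc, he', he, Category.id_comp],
    by rw [← cancel_mono n', Category.assoc, he, he', Category.id_comp]⟩
  haveI : IsIso e.left := inferInstanceAs (IsIso ((Over.forget _).map e))
  haveI : IsClosedImmersion n.left := by rw [← he, Over.comp_left]; infer_instance
  haveI : IsAffine N.left := isAffine_of_isAffineHom n.left
  haveI : LocallyOfFiniteType N.hom := by rw [← Over.w n]; infer_instance
  haveI : QuasiCompact N.hom := inferInstance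
  obtain ⟨m, hm⟩ := (hNu H i).2 fun X x h => by
    refine ⟨?_, ?_⟩
    · obtain ⟨h', hh'⟩ := OrbitQuotLib.isNormal j X x h
      refine ⟨h', ?_⟩
      have := congrArg (· ≫ i) hh'
      simp only [MonObj.mul_comp, GrpObj.inv_comp, Category.assoc] at this
      exact this
    · obtain ⟨h', hh'⟩ := OrbitQuotLib.isNormal j X x⁻¹ h
      refine ⟨h', ?_⟩
      rw [_root_.inv_inv] at hh'
      have := congrArg (· ≫ i) hh'
      simp only [MonObj.mul_comp, GrpObj.inv_comp, Category.assoc] at this
      exact this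
  haveI : IsMonHom m :=
    { one_hom := by rw [← cancel_mono n, Category.assoc, hm, IsMonHom.one_hom i, IsMonHom.one_hom n]
      mul_hom := by
        rw [← cancel_mono n, Category.assoc, hm, IsMonHom.mul_hom i, Category.assoc, IsMonHom.mul_hom n, ← hm,
          MonoidalCategory.tensorHom_comp_tensorHom_assoc] }
  haveI : IsClosedImmersion m.left := by
    haveI : IsClosedImmersion (m.left ≫ n.left) := by rw [← Over.comp_left, hm]; infer_instance
    exact IsClosedImmersion.of_comp m.left n.left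
  haveI : Mono m := Over.mono_of_mono_left m
  haveI : IsClosedImmersion (j ≫ m).left := inferInstanceAs (IsClosedImmersion (j.left ≫ m.left))
  have hnormal : AlgGrp.IsNormalHom (j ≫ m) := fun T g h => by
    obtain ⟨⟨h', hh'⟩, -⟩ := (hNu T (g ≫ n)).1 ⟨g, rfl⟩ T (𝟙 T) h
    refine ⟨h', ?_⟩
    rw [← cancel_mono n, MonObj.mul_comp, MonObj.mul_comp, GrpObj.inv_comp]
    simp only [Category.assoc, hm]
    rw [Category.id_comp] at hh'
    exact hh'
  obtain ⟨Q₀, _, q, hqm, hQ₀a, hQ₀l, hqf, hqs, hqk⟩ := Groth.Agent.S3278.result k N H₀ (j ≫ m) hnormal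
  haveI := hqm; haveI := hQ₀a; haveI := hQ₀l; haveI := hqf; haveI := hqs
  have hqp := isPullback_of_isKernel q (j ≫ m) hqk
  obtain ⟨Y, β, hYs, hYl, hYq, hβs, hβf, -, hY⟩ := GrpQuotLib.exists_quotient_field_right H N m
  haveI := hYs; haveI := hYl; haveI := hYq; haveI := hβs; haveI := hβf
  obtain ⟨W, gW, hWs, hWl, hWq, hgWs, hgWf, -, hW⟩ := GrpQuotLib.exists_quotient_field_right H₀ H j
  haveI := hWl; haveI := hgWs; haveI := hgWf
  haveI : IsFinite W.hom := OrbitQuotLib.isFinite_quotient j gW hW.flip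
  have key : ∀ {V U : Over (Spec (CommRingCat.of k))} (p : V ⟶ U) [LocallyOfFiniteType V.hom]
      [LocallyOfFiniteType U.hom] [Flat p.left] [Surjective p.left], SchDesc.IsFpqc p.left := fun {V U} p _ _ _ _ => by
    haveI : IsLocallyNoetherian U.left := LocallyOfFiniteType.isLocallyNoetherian U.hom
    haveI : LocallyOfFiniteType (p.left ≫ U.hom) := by rw [Over.w]; infer_instance
    haveI : LocallyOfFiniteType p.left := locallyOfFiniteType_of_comp p.left U.hom
    haveI : LocallyOfFinitePresentation p.left := inferInstance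
    exact SchDesc.IsFpqc.of_locallyOfFinitePresentation _
  haveI := key q
  haveI := key β
  haveI := key gW
  haveI := key (a₁.orbitMap o₁)
  haveI := key (a₂.orbitMap o₂)
  obtain ⟨r, hr⟩ := GrpQuotLib.exists_desc q β fun T x y e => by
    obtain ⟨c, hc⟩ := (OrbitQuotLib.comp_eq_iff hqp x y).1 e
    exact (OrbitQuotLib.comp_eq_iff hY.flip x y).2 ⟨c ≫ j, by rw [Category.assoc, hc]⟩
  obtain ⟨φ₀, hφ₀⟩ := OrbitQuotLib.exists_fibre_square m j rfl q β gW r hr hqp hY.flip hW.flip
  haveI : CompactSpace Y.left := QuasiCompact.compactSpace_of_compactSpace Y.hom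
  haveI : QuasiSeparatedSpace Y.left := by
    haveI : IsLocallyNoetherian Y.left := LocallyOfFiniteType.isLocallyNoetherian Y.hom
    infer_instance
  haveI : QuasiCompact β.left := quasiCompact_of_compactSpace _
  haveI : IsFinite r.left := by
    haveI := FpqcDesc.isFinite_descends.{u}
    have hsq : CategoryTheory.IsPullback (fst N W).left (snd N W).left N.hom W.hom :=
      IsPullback.of_hasPullback N.hom W.hom
    exact MorphismProperty.of_isPullback_of_descendsAlong (P := @IsFinite)
      (Q := @Surjective ⊓ @Flat ⊓ @QuasiCompact) (show CategoryTheory.IsPullback (fst N W).left φ₀.left β.left r.left from hφ₀.map (Over.forget _)) ⟨⟨inferInstance, inferInstance⟩, inferInstance⟩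
      (MorphismProperty.of_isPullback hsq.flip (inferInstance : IsFinite W.hom))
  haveI : Surjective r.left := by
    haveI : Surjective (q.left ≫ r.left) := by rw [← Over.comp_left, hr]; infer_instance
    exact Surjective.of_comp q.left r.left
  haveI : IsAffine Y.left := ChevAffine.isAffine_of_finite_surjective r.left
  haveI : IsAffineHom Y.hom := inferInstance
  obtain ⟨φ, hφ⟩ := OrbitQuotLib.exists_fibre_square n m hm (a₁.orbitMap o₁) (a₂.orbitMap o₂) β f hf hQ₁p hQ₂p hY.flip
  haveI : QuasiSeparatedSpace Q₂.left := by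
    haveI : IsLocallyNoetherian Q₂.left := LocallyOfFiniteType.isLocallyNoetherian Q₂.hom
    infer_instance
  haveI : QuasiCompact (a₂.orbitMap o₂).left := quasiCompact_of_compactSpace _
  haveI := FpqcDesc.isAffineHom_descends.{u}
  have hsq : CategoryTheory.IsPullback (fst G Y).left (snd G Y).left G.hom Y.hom :=
    IsPullback.of_hasPullback G.hom Y.hom
  exact MorphismProperty.of_isPullback_of_descendsAlong (P := @IsAffineHom)
    (Q := @Surjective ⊓ @Flat ⊓ @QuasiCompact)
    (show CategoryTheory.IsPullback (fst G Y).left φ.left (a₂.orbitMap o₂).left f.left from hφ.map (Over.forget _)) ⟨⟨inferInstance, inferInstance⟩, inferInstance⟩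
    (MorphismProperty.of_isPullback hsq.flip (inferInstance : IsAffineHom Y.hom))

end Groth.Agent.S17480
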