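import Groth.Statements.S17482
import Groth.Agent.H1ZeroLib.Coh
import Groth.Agent.RootCoverLib.Conn
import Groth.Agent.CurveLib.GlobalFun
import Groth.Agent.CompleteCurve.ProjSpace


set_option autoImplicit false
universe u
open CategoryTheory CategoryTheory.Limits AlgebraicGeometry
open Surf

namespace Groth.Agent.S17482

open CategoryTheory CategoryTheory.Limits AlgebraicGeometry

open Groth.Agent
set_option backward.isDefEq.respectTransparency false

/-- Let k be an algebraically closed field of characteristic zero and X a smooth projective surface over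
k (an integral scheme of dimension two with all local rings regular, admitting a closed immersion
into some P^n_k over k) such that H^1(X, O_X) = 0. Let D be a nonempty closed subscheme of X, given
by a quasi-coherent ideal sheaf whose associated O_X-module I_D is invertible (a nonzero effective
divisor). If H^1(X, I_D) = 0, then D is connected. (The published statement is for rational
surfaces; this row assumes only H^1(X, O_X) = 0. Since H^1(X, I_D) depends only on the isomorphism
class of I_D, the same holds for every effective divisor linearly equivalent to D.) -/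
theorem result
    (k : Type u) [Field k] [IsAlgClosed k] [CharZero k]
    (X : Scheme.{u}) [X.Over (Spec (CommRingCat.of k))] [AlgebraicGeometry.IsIntegral X]
    (hdim : topologicalKrullDim X = 2) (hreg : ∀ x : X, IsRegularLocalRing (X.presheaf.stalk x))
    (hproj : ∃ (n : ℕ) (ι : X ⟶ CohB1.ProjSpace n k), IsClosedImmersion ι ∧
      ι ≫ CohB1.ProjSpace.toSpec n k = (X ↘ (Spec (CommRingCat.of k))))
    (hH1 : Subsingleton (Coh.HH X (Coh.structureModule X) 1))
    (D : X.IdealSheafData) (hD : PicF.IsInvertible (ClSub.idealMod D)) (hne : Nonempty ↥D.subscheme)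
    (hvan : Subsingleton (Coh.HH X (ClSub.idealMod D) 1)) :
    ConnectedSpace ↥D.subscheme := by
  obtain ⟨n, ι, hι, hιk⟩ := hproj
  haveI : IsProper (X ↘ Spec (CommRingCat.of k)) := by rw [← hιk]; infer_instance
  haveI := EulerIneqLib.isNoetherian_proper (X := X) k
  haveI := EulerIneqLib.finite_HH (k := k) (DevLib.isCoh_structureModule X) 0
  let q := X ↘ Spec (CommRingCat.of k)
  let φk : k →+* Γ(X, ⊤) := Coh.toGlobal q
  letI := φk.toAlgebra
  let e : Coh.HH X (Coh.structureModule X) 0 ≃ₗ[k] Γ(X, ⊤) :=
    { (CurveLib.secOf (Coh.structureModule X)) with map_smul' := fun r c => CurveLib.secOf_smul (k := k) _ r c }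
  haveI : Module.Finite k Γ(X, ⊤) := Module.Finite.equiv e
  have hs := (IsAlgClosed.algebraMap_bijective_of_isIntegral (k := k) (K := Γ(X, ⊤))).2
  haveI : Subsingleton (Coh.HH X (kernel (ClSub.toSubscheme D)) 1) := hvan
  have hepi : Epi (ClSub.toSubscheme D) := SerreAff.epi_unitToPush D.subschemeι
  haveI := hne
  refine RootCoverLib.connectedSpace_of_idem fun ε hε => ?_
  let σ : Γ(ClSub.quotMod D, ⊤) := ε
  obtain ⟨τ, hτ⟩ := H1ZeroLib.exists_lift (k := k) (ClSub.toSubscheme D)
    ((PullbackMod.epi_iff_stalk _).1 hepi) (DCohLib.secHom _ σ)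
  obtain ⟨c, hc⟩ := hs (AmpleLib.sec τ)
  have h1 : (ClSub.toSubscheme D).app ⊤ (AmpleLib.sec τ) = σ := by
    have := congrArg AmpleLib.sec hτ
    rwa [AmpleLib.sec_secHom] at this
  have h2 : D.subschemeι.appTop (Coh.toGlobal q c) = ε := by
    rw [← hc] at h1
    exact h1
  rcases eq_or_ne c 0 with rfl | hc0
  · left
    rw [← h2, map_zero, map_zero]
  · right
    have hu : IsUnit ε := h2 ▸ ((Ne.isUnit hc0).map φk).map D.subschemeι.appTop.hom
    exact hu.mul_left_cancel (hε.eq.trans (mul_one ε).symm)


end Groth.Agent.S17482
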