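import Groth.Statements.S17487
import Mathlib

set_option autoImplicit false
universe u
open CategoryTheory CategoryTheory.Limits AlgebraicGeometry
open Coherent

namespace Groth.Agent.S17487

open CategoryTheory CategoryTheory.Limits AlgebraicGeometry


open CategoryTheory CategoryTheory.Limits AlgebraicGeometry Abelian

variable {C : Type*} [Category C] [Abelian C] [HasExt.{u} C]

theorem subsingleton_ext_of_coproduct {m : ℕ} {A : Fin m → C} {S B : C} (e : S ≅ ∐ A) (p : ℕ)
    (h : ∀ t, Subsingleton (Ext.{u} (A t) B p)) : Subsingleton (Ext.{u} S B p) := by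
  classical
  refine subsingleton_of_forall_eq 0 fun x => ?_
  let π : ∀ t, S ⟶ A t := fun t => e.hom ≫ Sigma.desc fun s => if hst : s = t then eqToHom (congrArg A hst) else 0
  have hid : ∑ t, π t ≫ Sigma.ι A t ≫ e.inv = 𝟙 S := by
    rw [← cancel_epi e.inv]
    refine Sigma.hom_ext _ _ fun s => ?_
    rw [Category.comp_id, Preadditive.comp_sum, Preadditive.comp_sum, Finset.sum_eq_single s]
    · simp [π]
    · intro t _ hts
      simp [π, dif_neg hts.symm]
    · simp
  rw [← Ext.mk₀_id_comp x, ← hid, Ext.mk₀_sum, Ext.sum_comp]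
  refine Finset.sum_eq_zero fun t _ => ?_
  rw [← Ext.mk₀_comp_mk₀, Ext.comp_assoc_of_second_deg_zero,
    @Subsingleton.elim _ (h t) ((Ext.mk₀ (Sigma.ι A t ≫ e.inv)).comp x (zero_add p)) 0, Ext.comp_zero]

theorem subsingleton_ext_to_coproduct {m : ℕ} {A : Fin m → C} {S B : C} (e : S ≅ ∐ A) (p : ℕ)
    (h : ∀ t, Subsingleton (Ext.{u} B (A t) p)) : Subsingleton (Ext.{u} B S p) := by
  classical
  refine subsingleton_of_forall_eq 0 fun x => ?_
  let π : ∀ t, S ⟶ A t := fun t => e.hom ≫ Sigma.desc fun s => if hst : s = t then eqToHom (congrArg A hst) else 0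
  have hid : ∑ t, π t ≫ Sigma.ι A t ≫ e.inv = 𝟙 S := by
    rw [← cancel_epi e.inv]
    refine Sigma.hom_ext _ _ fun s => ?_
    rw [Category.comp_id, Preadditive.comp_sum, Preadditive.comp_sum, Finset.sum_eq_single s]
    · simp [π]
    · intro t _ hts
      simp [π, dif_neg hts.symm]
    · simp
  rw [← Ext.comp_mk₀_id x, ← hid, Ext.mk₀_sum, Ext.comp_sum]
  refine Finset.sum_eq_zero fun t _ => ?_
  rw [← Ext.mk₀_comp_mk₀, ← Ext.comp_assoc_of_second_deg_zero,
    @Subsingleton.elim _ (h t) (x.comp (Ext.mk₀ (π t)) (add_zero p)) 0, Ext.zero_comp]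

/-- Let k be an algebraically closed field of characteristic zero and Y a smooth projective variety over
k (an integral scheme, smooth over k, with a closed immersion into some P^n_k over k). Let E_1, …,
E_n be coherent O_Y-modules forming a strong exceptional sequence, expressed through Ext groups in
the category of O_Y-modules (the Ext instance is the stated hypothesis; it holds): End(E_i) is
one-dimensional over k, Ext^p(E_i, E_j) = 0 for all p when i > j, and Ext^p(E_i, E_j) = 0 for all i,
j when p ≥ 1 (indices here run over 0, …, n-1). Let d ≤ n and let 0 → K → M → F → 0 be a short exact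
sequence of O_Y-modules in which K is isomorphic to a finite direct sum of copies of members E_i
with i < d and M to a finite direct sum of copies of members E_i with i ≥ d (a two-term resolution
of F by the sequence, split at d). Then Ext^p(E_i, F) = 0 for every i and every p ≥ 1, and Ext^p(F,
E_i) = 0 for every i < d and every p ≠ 1. (The published criterion also asks that the sequence
generate the derived category, states the first vanishing only for i ≥ d, and adds conditions on
terms of the associated filtration and cofiltration of F, which are not restated here; the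
vanishings above follow from the resolution alone.) -/
theorem result
    (k : Type u) [Field k] [IsAlgClosed k] [CharZero k]
    (Y : Scheme.{u}) [Y.Over (Spec (CommRingCat.of k))] [AlgebraicGeometry.IsIntegral Y]
    [Smooth (Y ↘ Spec (CommRingCat.of k))]
    (hproj : ∃ (N : ℕ) (ι : Y ⟶ CohB1.ProjSpace N k), IsClosedImmersion ι ∧
      ι ≫ CohB1.ProjSpace.toSpec N k = (Y ↘ (Spec (CommRingCat.of k))))
    [HasExt.{u} Y.Modules]
    (n d : ℕ) (hdn : d ≤ n) (E : Fin n → Y.Modules) (hEcoh : ∀ i, Coh.IsCoh (E i))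
    (hend : ∀ i, Module.finrank k (E i ⟶ E i) = 1)
    (hexc : ∀ i j : Fin n, j < i → ∀ p : ℕ, Subsingleton (Abelian.Ext (E i) (E j) p))
    (hstr : ∀ (i j : Fin n) (p : ℕ), 1 ≤ p → Subsingleton (Abelian.Ext (E i) (E j) p))
    (S : ShortComplex Y.Modules) (hS : S.ShortExact)
    (m₁ : ℕ) (c₁ : Fin m₁ → Fin n) (hc₁ : ∀ t, (c₁ t : ℕ) < d) (e₁ : S.X₁ ≅ ∐ fun t => E (c₁ t))
    (m₂ : ℕ) (c₂ : Fin m₂ → Fin n) (hc₂ : ∀ t, d ≤ (c₂ t : ℕ)) (e₂ : S.X₂ ≅ ∐ fun t => E (c₂ t)) :
    (∀ (i : Fin n) (p : ℕ), 1 ≤ p → Subsingleton (Abelian.Ext (E i) S.X₃ p)) ∧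
      (∀ i : Fin n, (i : ℕ) < d → ∀ p : ℕ, p ≠ 1 → Subsingleton (Abelian.Ext S.X₃ (E i) p)) := by
  refine ⟨fun i p hp => subsingleton_of_forall_eq 0 fun x => ?_, fun i hi p hp => subsingleton_of_forall_eq 0 fun x => ?_⟩
  · haveI h1 := subsingleton_ext_to_coproduct (B := E i) e₁ (p + 1) fun t => hstr i (c₁ t) (p + 1) (by omega)
    haveI h2 := subsingleton_ext_to_coproduct (B := E i) e₂ p fun t => hstr i (c₂ t) p hp
    obtain ⟨y, hy⟩ := Abelian.Ext.covariant_sequence_exact₃ (E i) hS x (rfl : p + 1 = p + 1) (Subsingleton.elim _ _)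
    rw [← hy, Subsingleton.elim y 0, Abelian.Ext.zero_comp]
  · haveI h2 := subsingleton_ext_of_coproduct (B := E i) e₂ p fun t => hexc (c₂ t) i (by
      show (i : ℕ) < (c₂ t : ℕ)
      have := hc₂ t
      omega) p
    match p, hp with
    | 0, _ =>
      obtain ⟨f, rfl⟩ := (Abelian.Ext.mk₀_bijective _ _).2 x
      have hg : S.g ≫ f = 0 := (Abelian.Ext.mk₀_bijective _ _).1 (@Subsingleton.elim _ h2 _ _)
      haveI := hS.epi_g
      rw [(cancel_epi S.g).1 (hg.trans comp_zero.symm), Abelian.Ext.mk₀_zero]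
    | p + 2, _ =>
      haveI h1 := subsingleton_ext_of_coproduct (B := E i) e₁ (p + 1) fun t => hstr (c₁ t) i (p + 1) (by omega)
      obtain ⟨y, hy⟩ := Abelian.Ext.contravariant_sequence_exact₃ hS (E i) x (Subsingleton.elim _ _) (n₀ := p + 1) (by omega)
      rw [← hy, Subsingleton.elim y 0, Abelian.Ext.comp_zero]

end Groth.Agent.S17487
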