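import Groth.Statements.S1750
import Mathlib
import Groth.Agent.InjHullLib.Matlis
import Groth.Agent.S8925

set_option autoImplicit false
universe u
open InjHull

namespace Groth.Agent.S1750

/-- Let R → S be a flat local homomorphism of Noetherian local rings with m_R S = m_S inducing a
bijection on residue fields. If κ_S → E is an injective hull of the residue field of S over S, then
E regarded as an R-module is an injective hull of the residue field of R (for a suitable R-linear
map κ_R → E). -/
theorem result (R S : Type u) [CommRing R] [CommRing S] [IsLocalRing R] [IsLocalRing S] [IsNoetherianRing R] [IsNoetherianRing S] [Algebra R S] [IsLocalHom (algebraMap R S)] [Module.Flat R S] (hm : (IsLocalRing.maximalIdeal R).map (algebraMap R S) = IsLocalRing.maximalIdeal S) (hk : Function.Bijective (IsLocalRing.ResidueField.map (algebraMap R S))) (E : Type u) [AddCommGroup E] [Module S E] [Module R E] [IsScalarTower R S E] (f : IsLocalRing.ResidueField S →ₗ[S] E) (hf : InjHull.IsInjectiveHull f) : ∃ g : IsLocalRing.ResidueField R →ₗ[R] E, InjHull.IsInjectiveHull g := by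
  have := hf.isInjective
  have hinjR : Module.Injective R E := Groth.Agent.S8925.result R S E
  let g : IsLocalRing.ResidueField R →ₗ[R] E :=
    { toFun := fun c => f (IsLocalRing.ResidueField.map (algebraMap R S) c)
      map_add' := fun a b => by rw [map_add, map_add]
      map_smul' := fun r c => by
        obtain ⟨a, rfl⟩ := IsLocalRing.residue_surjective c
        rw [RingHom.id_apply, show r • IsLocalRing.residue R a = IsLocalRing.residue R (r * a) from rfl,
          IsLocalRing.ResidueField.map_residue, IsLocalRing.ResidueField.map_residue, map_mul,
          ← algebraMap_smul S r (f _), ← map_smul]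
        rfl }
  refine ⟨g, { toIsEssentialInj := Groth.Agent.InjHullLib.isEssentialInj_of_socle ?_ (hf.injective.comp hk.1) ?_
               isInjective := hinjR }⟩
  · intro x
    obtain ⟨n, hn⟩ := Groth.Agent.InjHullLib.isPowerTorsion_of_hull _ hf.toIsEssentialInj x
    refine ⟨n, fun a ha => ?_⟩
    rw [← algebraMap_smul S a x]
    refine hn _ ?_
    rw [← hm, ← Ideal.map_pow]
    exact Ideal.mem_map_of_mem _ ha
  · intro x hx
    obtain ⟨c, hc⟩ := (Groth.Agent.InjHullLib.mem_range_iff (x := x) hf.toIsEssentialInj).2 fun r hr => by
      rw [← hm] at hr
      induction hr using Submodule.span_induction with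
      | mem y hy =>
        obtain ⟨a, ha, rfl⟩ := hy
        rw [algebraMap_smul]
        exact hx a ha
      | zero => rw [zero_smul]
      | add u v _ _ hu hv => rw [add_smul, hu, hv, add_zero]
      | smul t u _ hu => rw [smul_eq_mul, mul_smul, hu, smul_zero]
    obtain ⟨c', rfl⟩ := hk.2 c
    exact ⟨c', hc⟩

end Groth.Agent.S1750
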