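import Groth.Statements.S17500
import Mathlib

set_option autoImplicit false
universe u
open TorsMod

namespace Groth.Agent.S17500

open CategoryTheory CategoryTheory.Limits AlgebraicGeometry

theorem eq_span_pow {p n : ℕ} [Fact p.Prime] (I : Ideal (ZMod (p ^ n))) :
    ∃ i ≤ n, I = Ideal.span {(p : ZMod (p ^ n)) ^ i} := by
  let π : ℤ →+* ZMod (p ^ n) := Int.castRingHom _
  have hπ : Function.Surjective π := ZMod.intCast_surjective
  obtain ⟨c, hc⟩ := (IsPrincipalIdealRing.principal (I.comap π)).principal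
  rw [Ideal.submodule_span_eq] at hc
  have hmem : ((p : ℤ) ^ n) ∈ I.comap π := by
    rw [Ideal.mem_comap, show π ((p : ℤ) ^ n) = ((p ^ n : ℕ) : ZMod (p ^ n)) by push_cast; simp [π], ZMod.natCast_self]
    exact zero_mem _
  rw [hc, Ideal.mem_span_singleton] at hmem
  obtain ⟨i, hi, hci⟩ := (dvd_prime_pow (Nat.prime_iff_prime_int.1 Fact.out) n).1 hmem
  refine ⟨i, hi, ?_⟩
  rw [← Ideal.map_comap_of_surjective π hπ I, hc, Ideal.span_singleton_eq_span_singleton.2 hci, Ideal.map_span,
    Set.image_singleton, map_pow, map_natCast]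


/-- Let p be a prime number, n a natural number and H a module over ℤ/p^nℤ. Then H is flat over ℤ/p^nℤ
if and only if, for every i with 0 ≤ i ≤ n, the kernel of multiplication by p^i on H coincides with
the image of multiplication by p^(n-i) on H. (The published item is phrased for an fppf sheaf of
ℤ/p^nℤ-modules on a scheme; this is the case of a single module, which is the case the argument
treats.) -/
theorem result (p n : ℕ) [Fact p.Prime]
    (H : Type u) [AddCommGroup H] [Module (ZMod (p ^ n)) H] :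
    Module.Flat (ZMod (p ^ n)) H ↔
      ∀ i : ℕ, i ≤ n →
        LinearMap.ker ((p ^ i : ZMod (p ^ n)) • (LinearMap.id : H →ₗ[ZMod (p ^ n)] H)) =
          LinearMap.range ((p ^ (n - i) : ZMod (p ^ n)) • (LinearMap.id : H →ₗ[ZMod (p ^ n)] H)) := by
  set q : ZMod (p ^ n) := (p : ZMod (p ^ n)) with hq
  have hpn : q ^ n = 0 := by rw [hq, ← Nat.cast_pow, ZMod.natCast_self]
  have hrange : ∀ i, i ≤ n → ∀ x : H, x ∈ LinearMap.range ((q ^ (n - i)) • (LinearMap.id : H →ₗ[ZMod (p ^ n)] H)) →
      q ^ i • x = 0 := by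
    rintro i hi _ ⟨y, rfl⟩
    simp only [LinearMap.smul_apply, LinearMap.id_apply]
    rw [smul_smul, ← pow_add, Nat.add_sub_cancel' hi, hpn, zero_smul]
  have hker : ∀ i, i ≤ n → ∀ a : ZMod (p ^ n), q ^ i * a = 0 → ∃ b, a = q ^ (n - i) * b := fun i hi a h => by
    obtain ⟨c, rfl⟩ := ZMod.intCast_surjective a
    have h2 : ((p : ℤ) ^ n) ∣ (p : ℤ) ^ i * c := by
      have := (ZMod.intCast_zmod_eq_zero_iff_dvd ((p : ℤ) ^ i * c) (p ^ n)).1 (by push_cast; exact h)
      exact_mod_cast this
    rw [show n = i + (n - i) by omega, pow_add, mul_dvd_mul_iff_left (pow_ne_zero _ (by exact_mod_cast (Fact.out : p.Prime).ne_zero))] at h2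
    obtain ⟨b, rfl⟩ := h2
    exact ⟨b, by push_cast; rfl⟩
  constructor
  · intro hF i hi
    refine le_antisymm (fun x hx => ?_) fun x hx => LinearMap.mem_ker.2 (hrange i hi x hx)
    rw [LinearMap.mem_ker, LinearMap.smul_apply, LinearMap.id_apply] at hx
    obtain ⟨κ, a, y, hx', hy⟩ := Module.Flat.isTrivialRelation_of_sum_smul_eq_zero (ι := Unit) (f := fun _ => q ^ i)
      (x := fun _ => x) (by simpa using hx)
    choose b hb using fun j => hker i hi (a () j) (by simpa using hy j)
    refine ⟨∑ j, b j • y j, ?_⟩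
    simp only [LinearMap.smul_apply, LinearMap.id_apply, Finset.smul_sum, smul_smul]
    refine Eq.trans ?_ (hx' ()).symm
    exact Finset.sum_congr rfl fun j _ => by rw [← hb]
  · intro h
    rw [Module.Flat.iff_rTensor_injective]
    intro I _
    obtain ⟨i, hi, rfl⟩ := eq_span_pow I
    rw [← hq]
    rw [injective_iff_map_eq_zero]
    intro z hz
    let g : (Ideal.span {q ^ i} : Ideal (ZMod (p ^ n))) := ⟨q ^ i, Ideal.mem_span_singleton_self _⟩
    obtain ⟨x, rfl⟩ : ∃ x : H, g ⊗ₜ[ZMod (p ^ n)] x = z := by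
      clear hz
      induction z using TensorProduct.induction_on with
      | zero => exact ⟨0, TensorProduct.tmul_zero _ _⟩
      | tmul a x =>
        obtain ⟨c, hc⟩ := Ideal.mem_span_singleton'.1 a.2
        refine ⟨c • x, ?_⟩
        rw [← TensorProduct.smul_tmul]
        exact congrArg (fun t => t ⊗ₜ[ZMod (p ^ n)] x) (Subtype.ext (by simpa [g] using hc))
      | add z w hz hw =>
        obtain ⟨x, rfl⟩ := hz
        obtain ⟨y, rfl⟩ := hw
        exact ⟨x + y, TensorProduct.tmul_add _ _ _⟩
    have hx : q ^ i • x = 0 := by simpa [g] using congrArg (TensorProduct.lid (ZMod (p ^ n)) H) hz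
    obtain ⟨y, rfl⟩ : x ∈ LinearMap.range ((q ^ (n - i)) • (LinearMap.id : H →ₗ[ZMod (p ^ n)] H)) := by
      rw [← h i hi, LinearMap.mem_ker]
      exact hx
    simp only [LinearMap.smul_apply, LinearMap.id_apply]
    rw [← TensorProduct.smul_tmul]
    have h0 : (q ^ (n - i)) • g = 0 := Subtype.ext (by
      show q ^ (n - i) * q ^ i = 0
      rw [← pow_add, Nat.sub_add_cancel hi, hpn])
    rw [h0, TensorProduct.zero_tmul]

end Groth.Agent.S17500
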