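import Groth.Statements.S17502
import Groth.Agent.VolLib.MultiLim

set_option autoImplicit false
universe u
open CategoryTheory CategoryTheory.Limits MonoidalCategory CartesianMonoidalCategory MonObj GrpObj AlgebraicGeometry
open Coherent

namespace Groth.Agent.S17502

open CategoryTheory CategoryTheory.Limits AlgebraicGeometry

set_option backward.isDefEq.respectTransparency false
set_option linter.style.haveILetI false
open Groth.Agent.HiGrowth Groth.Agent.AmpleLib

/-- Let k be a field, Y a projective k-scheme of dimension d (a k-scheme with a closed immersion c into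
projective N-space over k, compatible with the structure morphisms, whose underlying topological
space has Krull dimension d), L_1, …, L_r invertible O_Y-modules, and F a family of O_Y-modules
indexed by a ∈ ℤ^r with F(0) ≅ O_Y and F(a + e_j) ≅ F(a) ⊗ L_j for all a and j, so that F(a) ≅
L_1^{⊗ a_1} ⊗ ⋯ ⊗ L_r^{⊗ a_r} for every a. Then there is a real constant C > 0, depending only on Y
and the L_j, such that dim_k H^i(Y, F(a)) ≤ C · (1 + |a|^d) for every i and every a, where |a| =
|a_1| + ⋯ + |a_r|. (The published statement prints the exponent as the number r of line bundles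
instead of the dimension d of Y; that bound fails as soon as r < d — on the projective plane with r
= 1 and L_1 = O(1) the dimension of H^0(O(a)) grows like a²/2 — while the printed induction on d + r
over hyperplane sections yields the exponent d, which is what is stated here.) -/
theorem result
    (k : Type u) [Field k] (Y : Scheme.{u}) [Y.Over (Spec (CommRingCat.of k))]
    (N : ℕ) (c : Y ⟶ CohB1.ProjSpace N k) [IsClosedImmersion c]
    (hc : c ≫ CohB1.ProjSpace.toSpec N k = Y ↘ Spec (CommRingCat.of k))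
    (d : ℕ) (hd : topologicalKrullDim ↥Y = d)
    (r : ℕ) (Lb : Fin r → Y.Modules) (hLb : ∀ j, PicF.IsInvertible (Lb j))
    (F : (Fin r → ℤ) → Y.Modules) (hF0 : Nonempty (F 0 ≅ Coh.structureModule Y))
    (hF : ∀ (a : Fin r → ℤ) (j : Fin r), Nonempty (F (a + Pi.single j 1) ≅ CohB1.tensorMod (F a) (Lb j))) :
    ∃ C : ℝ, 0 < C ∧ ∀ (i : ℕ) (a : Fin r → ℤ),
      (Module.finrank k (Coh.HH Y (F a) i) : ℝ) ≤ C * (1 + (∑ j, |(a j : ℝ)|) ^ d) := by
  haveI : IsProper (Y ↘ Spec (CommRingCat.of k)) := by rw [← hc]; infer_instance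
  haveI := EulerIneqLib.isNoetherian_proper (X := Y) k
  choose M hMi hM using fun j => Groth.Agent.AmpleEmb.exists_isInverseOf (hLb j)
  have hM' : ∀ j, ClSub.IsInverseOf (Lb j) (M j) := hM
  obtain ⟨eF⟩ := hF0
  let φ : (Fin r → ℤ) → IntLib.MCls Y := fun a => IntLib.mk (F a) * ((zcls Lb M hM' a)⁻¹ : (IntLib.MCls Y)ˣ)
  have hstep : ∀ (j : Fin r) (a : Fin r → ℤ), φ (a + Pi.single j 1) = φ a := by
    intro j a
    obtain ⟨e⟩ := hF a j
    have hs : zcls Lb M hM' (Pi.single j 1) = unitCls Lb M hM' j := by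
      rw [zcls, Finset.prod_eq_single j (fun b _ hb => by simp [hb]) (fun h => absurd (Finset.mem_univ j) h)]
      simp
    show IntLib.mk _ * _ = _
    rw [IntLib.mk_congr e, IntLib.mk_tensor, zcls_add, hs, _root_.mul_inv, Units.val_mul,
      show IntLib.mk (Lb j) = (unitCls Lb M hM' j : IntLib.MCls Y) from rfl,
      _root_.mul_comm (((zcls Lb M hM' a)⁻¹ : (IntLib.MCls Y)ˣ) : IntLib.MCls Y), _root_.mul_assoc, ← _root_.mul_assoc _ (((unitCls Lb M hM' j)⁻¹ : (IntLib.MCls Y)ˣ) : IntLib.MCls Y), Units.mul_inv, _root_.one_mul]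
  have hsingle : ∀ (j : Fin r) (z : ℤ) (a : Fin r → ℤ), φ (a + Pi.single j z) = φ a := by
    intro j z
    induction z using Int.induction_on with
    | zero => simp
    | succ z ih => intro a; rw [Pi.single_add, ← add_assoc, hstep, ih]
    | pred z ih =>
      intro a
      have e : a + Pi.single j (-(z : ℤ) - 1) + Pi.single j (1 : ℤ) = a + Pi.single j (-(z : ℤ)) := by
        rw [add_assoc, ← Pi.single_add, sub_add_cancel]
      have h1 := hstep j (a + Pi.single j (-(z : ℤ) - 1))
      rw [e, ih a] at h1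
      exact h1.symm
  have hall : ∀ (s : Finset (Fin r)) (a : Fin r → ℤ), φ (∑ j ∈ s, Pi.single j (a j)) = φ 0 := by
    intro s a
    induction s using Finset.induction with
    | empty => simp
    | insert j s hj ih => rw [Finset.sum_insert hj, add_comm, hsingle, ih]
  have hmk : ∀ a, IntLib.mk (F a) = (zcls Lb M hM' a : IntLib.MCls Y) := by
    intro a
    have h := hall Finset.univ a
    rw [Finset.univ_sum_single] at h
    have h0 : φ 0 = 1 := by
      show IntLib.mk _ * _ = _
      rw [IntLib.mk_congr eF, IntLib.mk_structureModule, show zcls Lb M hM' 0 = 1 by simp [zcls]]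
      simp
    rw [h0] at h
    calc IntLib.mk (F a) = φ a * (zcls Lb M hM' a : IntLib.MCls Y) := by
          show _ = IntLib.mk (F a) * _ * _
          rw [_root_.mul_assoc, Units.inv_mul, _root_.mul_one]
      _ = _ := by rw [h, _root_.one_mul]
  have hEi : ∀ p : Fin r × Bool, PicF.IsInvertible (if p.2 then Lb p.1 else M p.1) := fun p => by
    split
    exacts [hLb _, hMi _]
  obtain ⟨N₀, hN₀⟩ := CurveLib.exists_bound (X := Y) k
  choose C hC using fun i => boundW k hEi (d + 1) (Coh.structureModule Y)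
    (CurveLib.isCoh_of_isInvertible ParaFLib.isInvertible_structureModule)
    (lt_of_le_of_lt Topology.IsInducing.subtypeVal.topologicalKrullDim_le
      (by rw [hd]; exact_mod_cast Nat.lt_succ_self d)) i
  refine ⟨((∑ i ∈ Finset.range N₀, C i : ℕ) : ℝ) * 2 ^ d + 1, by positivity, fun i a => ?_⟩
  have hS : (0 : ℝ) ≤ ∑ j, |(a j : ℝ)| := Finset.sum_nonneg fun j _ => abs_nonneg _
  by_cases hi : i < N₀
  swap
  · have hFi : Coh.IsQCoh (F a) := by
      have e : IntLib.mk (pw (fun p : Fin r × Bool => if p.2 then Lb p.1 else M p.1) (zword a)) = IntLib.mk (F a) := by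
        rw [mk_pw, mk_zword Lb M hM', hmk]
      exact (CurveLib.isCoh_of_isInvertible (ParaFLib.isInvertible_of_iso (IntLib.mk_eq_mk.1 e).some
        (isInvertible_pw _ hEi (zword a)))).1
    haveI := hN₀ (F a) hFi i (not_lt.1 hi)
    rw [Module.finrank_zero_of_subsingleton, Nat.cast_zero]
    positivity
  have h1 := hC i (zword a)
  rw [hiW_eq, mk_zword Lb M hM', ← hmk, hcl_mk] at h1
  have hlen : ((zword a).length : ℝ) = ∑ j, |(a j : ℝ)| := by
    rw [zword, List.length_flatMap]
    simp only [List.length_replicate]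
    rw [← Fin.sum_univ_def, Nat.cast_sum]
    refine Finset.sum_congr rfl fun j _ => ?_
    rw [← Int.cast_abs, Int.abs_eq_natAbs, Int.cast_natCast]
  refine le_trans (Nat.cast_le.2 h1) ?_
  show ((C i * ((zword a).length + 1) ^ d : ℕ) : ℝ) ≤ _
  rw [Nat.cast_mul, Nat.cast_pow, Nat.cast_add_one, hlen]
  set S := ∑ j, |(a j : ℝ)|
  have hC' : ((C i : ℕ) : ℝ) ≤ ((∑ i ∈ Finset.range N₀, C i : ℕ) : ℝ) :=
    Nat.cast_le.2 (Finset.single_le_sum (f := C) (fun _ _ => Nat.zero_le _) (Finset.mem_range.2 hi))
  have h2 : (S + 1) ^ d ≤ 2 ^ d * (1 + S ^ d) := by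
    refine (add_pow_le hS zero_le_one d).trans ?_
    rw [one_pow, add_comm (S ^ d) 1]
    exact mul_le_mul_of_nonneg_right (pow_le_pow_right₀ one_le_two (Nat.sub_le d 1)) (by positivity)
  have h3 : (0 : ℝ) ≤ S ^ d := pow_nonneg hS d
  calc (C i : ℝ) * (S + 1) ^ d ≤ ((∑ i ∈ Finset.range N₀, C i : ℕ) : ℝ) * (2 ^ d * (1 + S ^ d)) :=
        mul_le_mul hC' h2 (by positivity) (Nat.cast_nonneg _)
    _ ≤ _ := by linarith


end Groth.Agent.S17502
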