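import Groth.Statements.S17508
import Groth.Agent.S1937
import Groth.Agent.AVLib.Isogeny
import Groth.Agent.AbDualLib.ExactSeq
import Groth.Agent.TwistShriek.SurfSmooth
import Groth.Agent.FundLocIsoLib.LciDual
import Groth.Agent.KVbLib.PullExt
import Groth.Agent.DefExtLib.OmegaExt
-- import your own Groth.Agent.* helpers here

set_option autoImplicit false
set_option backward.isDefEq.respectTransparency false
set_option linter.style.haveILetI false
set_option maxHeartbeats 1000000
universe u
open CategoryTheory CategoryTheory.Limits MonoidalCategory CartesianMonoidalCategory MonObj GrpObj AlgebraicGeometry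
open AbVar

namespace Groth.Agent.S17508

/-- Let X be an abelian variety over a field k (a proper, geometrically integral k-group scheme) whose
underlying space has Krull dimension g, let L be an invertible O_X-module with an inverse L' (an
O_X-module with L ⊗ L' ≅ O_X), and let i be a natural number such that H^j(X, L) = 0 for j ≠ i and
H^i(X, L) ≠ 0. Then i ≤ g, H^j(X, L') = 0 for j ≠ g − i and H^{g−i}(X, L') ≠ 0: the index of the
inverse bundle is g − i(L). (Non-degeneracy with index i is expressed by the equivalent condition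
that the cohomology is concentrated in degree i and non-zero there.) -/
theorem result
    (k : Type u) [Field k] (X : Over (Spec (CommRingCat.of k))) [GrpObj X] [IsProper X.hom] [GeometricallyIntegral X.hom]
    (g : ℕ) (hg : topologicalKrullDim ↥X.left = g)
    (L L' : X.left.Modules) (hL : PicF.IsInvertible L)
    (hL' : Nonempty (CohB1.tensorMod L L' ≅ Coh.structureModule X.left)) (i : ℕ)
    (hvan : ∀ j : ℕ, j ≠ i → Subsingleton (Coh.HH X.left L j)) (hne : Nontrivial (Coh.HH X.left L i)) :
    i ≤ g ∧ (∀ j : ℕ, j ≠ g - i → Subsingleton (Coh.HH X.left L' j)) ∧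
      Nontrivial (Coh.HH X.left L' (g - i)) := by
  haveI : Smooth X.hom := by
    letI : GrpObj (Over.mk X.hom) := ‹GrpObj X›
    exact smooth_of_grpObj X.hom
  haveI : IsIntegral X.left := GeometricallyIntegral.isIntegral_of_subsingleton X.hom
  letI : X.left.Over (Spec (CommRingCat.of k)) := ⟨X.hom⟩
  haveI : IsProper (X.left ↘ Spec (CommRingCat.of k)) := ‹IsProper X.hom›
  haveI : SmoothOfRelativeDimension g (X.left ↘ Spec (CommRingCat.of k)) :=
    Groth.Agent.TwistShriek.smoothOfRelativeDimension_of_smooth X.hom hg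
  obtain ⟨M, hM, -⟩ := Groth.Agent.AVLib.exists_symmetric_ample (A := X)
  obtain ⟨N, emb, hci, hemb⟩ := Groth.Agent.TwistShriek.exists_closedImmersion_of_ample X.hom hM
  haveI := hci
  -- the top forms are trivial
  haveI : Coh.IsQCoh (Omega.conormal η[X].left) := by
    haveI := Groth.Agent.OmegaAffLib.isQCoh_idealMod η[X].left.ker
    exact Groth.Agent.PullbackMod.isQCoh_pullback η[X].left (ClSub.idealMod η[X].left.ker)
  obtain ⟨D, -, hD⟩ := Groth.Agent.ExtPowLib.exists_isExtPow (Omega.conormal η[X].left) g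
  obtain ⟨⟨t⟩, -⟩ := Groth.Agent.S1937.result _ X
  have hW : ExtPow.IsExtPow g (Omega.sheaf (X.left ↘ Spec (CommRingCat.of k))) ((Scheme.Modules.pullback X.hom).obj D) :=
    Groth.Agent.KVb.isExtPow_iso t.symm (Iso.refl _) (Groth.Agent.KVb.isExtPow_pullback X.hom hD)
  have hWinv := Groth.Agent.SeesawVB.isInvertible_of_isExtPow hW
    (Groth.Agent.SeesawVB.exists_frame_omega (X.left ↘ Spec (CommRingCat.of k)) g)
  have hDinv : PicF.IsInvertible D := by
    have e := (Scheme.Modules.pullbackComp η[X].left X.hom ≪≫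
      Scheme.Modules.pullbackCongr (Over.w η[X]) ≪≫ Scheme.Modules.pullbackId _).app D
    exact Groth.Agent.ParaFLib.isInvertible_of_iso e
      (Groth.Agent.AmpleLib.isInvertible_pullback η[X].left hWinv)
  obtain ⟨eW⟩ : Nonempty ((Scheme.Modules.pullback X.hom).obj D ≅ Coh.structureModule X.left) := by
    haveI : Subsingleton ↥(𝟙_ (Over (Spec (CommRingCat.of k)))).left :=
      inferInstanceAs (Subsingleton (PrimeSpectrum k))
    haveI : Nonempty ↥(𝟙_ (Over (Spec (CommRingCat.of k)))).left :=
      inferInstanceAs (Nonempty (PrimeSpectrum k))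
    have h1 := Groth.Agent.AbDualLib.eq_one_of_subsingleton (Groth.Agent.PicLib.cls hDinv)
    rw [Groth.Agent.AbDualLib.eq_one_iff_triv] at h1
    exact Groth.Agent.CubeLib.triv_iff.1 (h1.pullback X.hom hDinv)
  -- duality
  haveI := Groth.Agent.EulerIneqLib.isNoetherian_proper (X := X.left) k
  obtain ⟨eLL'⟩ := hL'
  have hLf := Groth.Agent.CurveLib.isFinLocFree_of_isInvertible hL
  haveI : DCoh.HasSheafHom L := Groth.Agent.DefExtLib.hasSheafHom L
  haveI : ModSite.HasSheafHom (O := X.left.sheaf) L := Groth.Agent.ModTensor.hasSheafHom (O := X.left.sheaf) L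
  obtain ⟨f₁⟩ := Groth.Agent.ProjSerreLib.nonempty_sheafHom_iso L ((Scheme.Modules.pullback X.hom).obj D)
  obtain ⟨f₂⟩ := Groth.Agent.FundLocIsoLib.nonempty_hF_invertible hL eLL' ((Scheme.Modules.pullback X.hom).obj D)
  let f := f₁.symm ≪≫ f₂ ≪≫ ((DCoh.tensorBi (X := X.left)).mapIso eW).app L' ≪≫
    Groth.Agent.CurveLib.tmodComm (Coh.structureModule X.left) L' ≪≫ Groth.Agent.DCohLib.tensorStructureIso L'
  have hfin : ∀ j, Module.Finite k (Coh.HH X.left L j) := fun j =>
    Groth.Agent.EulerIneqLib.finite_HH (k := k) (Groth.Agent.CurveLib.isCoh_of_isFinLocFree hLf) j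
  have hdual : ∀ p, p ≤ g → Nonempty (Module.Dual k (Coh.HH X.left L p) ≃ₗ[k] Coh.HH X.left L' (g - p)) := by
    intro p hp
    obtain ⟨e⟩ := Groth.Agent.FundLocIsoLib.nonempty_dual_hF emb hemb hW hLf hp
    exact ⟨e.trans (LinearEquiv.ofBijective _ (Groth.Agent.CurveLib.hMap_bijective_iso (k := k) f (g - p)))⟩
  have hig : i ≤ g := by
    by_contra hlt
    haveI := Groth.Agent.CurveLib.subsingleton_HH_of_dim L (hd := hg.le) (show g < i by omega)
    exact false_of_nontrivial_of_subsingleton (Coh.HH X.left L i)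
  refine ⟨hig, fun j hj => ?_, ?_⟩
  · by_cases hjg : j ≤ g
    · obtain ⟨e⟩ := hdual (g - j) (Nat.sub_le _ _)
      rw [Nat.sub_sub_self hjg] at e
      haveI := hvan (g - j) (by omega)
      exact e.symm.toEquiv.subsingleton
    · exact Groth.Agent.CurveLib.subsingleton_HH_of_dim L' (hd := hg.le) (by omega)
  · obtain ⟨e⟩ := hdual i hig
    exact e.symm.toEquiv.nontrivial

end Groth.Agent.S17508
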