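import Groth.Statements.S17511
import Groth.Agent.GenBCLib.Betti
import Groth.Agent.BCLib.Grauert
import Groth.Agent.CurveLib.Inv
import Groth.Agent.DCohMore.ProjPC

set_option autoImplicit false
set_option backward.isDefEq.respectTransparency false
set_option backward.isDefEq.respectTransparency.types false
universe u
open CategoryTheory CategoryTheory.Limits MonoidalCategory CartesianMonoidalCategory MonObj GrpObj AlgebraicGeometry
open AbVar

namespace Groth.Agent.S17511

/-- In an algebraic family of line bundles the index cannot jump locally. Let X be an abelian variety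
over a field k (a proper, geometrically integral k-group scheme), let T be a locally Noetherian
k-scheme, M an invertible module on X ×_k T, and for each point t of T let M_t be the pull-back of M
to the fibre X ×_k Spec k(t). Suppose every M_t is non-degenerate, with index idx(t): H^j(X ×_k Spec
k(t), M_t) = 0 for j ≠ idx(t) and H^{idx(t)} ≠ 0. Then t ↦ idx(t) is a locally constant function on
T. (Non-degeneracy with index i is expressed by the equivalent condition that the cohomology is
concentrated in degree i and non-zero there.) -/
theorem result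
    (k : Type u) [Field k] (X : Over (Spec (CommRingCat.of k))) [GrpObj X] [IsProper X.hom] [GeometricallyIntegral X.hom]
    (T : Over (Spec (CommRingCat.of k))) [IsLocallyNoetherian T.left]
    (M : (X ⊗ T).left.Modules) (hM : PicF.IsInvertible M)
    (idx : ↥T.left → ℕ)
    (hidx : ∀ t : ↥T.left,
      (∀ j : ℕ, j ≠ idx t →
        Subsingleton (Coh.HH (pullback (snd X T).left (T.left.fromSpecResidueField t))
          ((Scheme.Modules.pullback (pullback.fst (snd X T).left (T.left.fromSpecResidueField t))).obj M) j)) ∧
      Nontrivial (Coh.HH (pullback (snd X T).left (T.left.fromSpecResidueField t))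
          ((Scheme.Modules.pullback (pullback.fst (snd X T).left (T.left.fromSpecResidueField t))).obj M) (idx t))) :
    IsLocallyConstant idx := by
  classical
  let f := (snd X T).left
  haveI : IsProper f := MorphismProperty.pullback_snd X.hom T.hom inferInstance
  haveI : Flat X.hom := inferInstance
  haveI : Flat f := MorphismProperty.pullback_snd X.hom T.hom inferInstance
  haveI : IsLocallyNoetherian (X ⊗ T).left := LocallyOfFiniteType.isLocallyNoetherian f
  haveI : LocallyOfFinitePresentation f := inferInstance
  have hlf := Groth.Agent.CurveLib.isFinLocFree_of_isInvertible hM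
  obtain ⟨hq, hfp⟩ := Groth.Agent.PullbackMod.isQCoh_and_isFP_of_isFinLocFree M hlf
  haveI := hq
  have hfl := Groth.Agent.DCohMore.TwistFam.isFlatOver_of_isFinLocFree f hlf
  have hcoh := Groth.Agent.CurveLib.isCoh_of_isInvertible hM
  refine (IsLocallyConstant.iff_eventually_eq _).2 fun t => ?_
  obtain ⟨V, D, hs⟩ := Groth.Agent.GenBCLib.exists_dat_at hfp hfl t
  obtain ⟨N, hN⟩ := D.bdd
  have hzero : ∀ (s : ↥T.left) (hsV : s ∈ V) (i : ℕ), N < i → CohIII.fiberRank f M i s = 0 := by
    intro s hsV i hi
    rw [D.fiberRank_eq hsV i]
    have a1 := D.L.kdim_δ_add inferInstance i (D.hV.primeIdealOf ⟨s, hsV⟩)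
    have hz : ∀ n, N < n → FlatCx.fdim (D.L.X n) (D.hV.primeIdealOf ⟨s, hsV⟩) = 0 ∧
        FlatCx.fdim (D.L.X n ⧸ D.L.bd n) (D.hV.primeIdealOf ⟨s, hsV⟩) = 0 := fun n hn => by
      haveI := hN n hn
      exact ⟨Module.finrank_zero_of_subsingleton, Module.finrank_zero_of_subsingleton⟩
    have := hz i hi
    have := hz (i + 1) (by omega)
    change FlatCx.kdim (D.L.δ i) (D.hV.primeIdealOf ⟨s, hsV⟩).asIdeal.ResidueField = 0
    omega
  have hne : ∀ i ∈ Finset.range (N + 1), ∀ᶠ s in nhds t, i ≠ idx t → CohIII.fiberRank f M i s = 0 := by
    intro i _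
    by_cases h : i = idx t
    · exact Filter.Eventually.of_forall fun s hs' => absurd h hs'
    haveI : Subsingleton (CohIII.fiberH f M t i) := (hidx t).1 i h
    have h0 : CohIII.fiberRank f M i t = 0 := Module.finrank_zero_of_subsingleton
    exact ((Groth.Agent.GenBCLib.isOpen_fiberRank_lt hfp hfl i 1).eventually_mem
      (show CohIII.fiberRank f M i t < 1 by omega)).mono fun s hs' _ =>
        Nat.lt_one_iff.1 (show CohIII.fiberRank f M i s < 1 from hs')
  filter_upwards [(Filter.eventually_all_finset _).2 hne, V.2.mem_nhds hs] with s hall hsV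
  by_contra hcon
  have hz : CohIII.fiberRank f M (idx s) s = 0 := by
    rcases lt_or_ge N (idx s) with hlt | hge
    · exact hzero s hsV _ hlt
    · exact hall _ (Finset.mem_range.2 (by omega)) hcon
  haveI := Groth.Agent.BCLib.subsingleton_fiberH_of_fiberRank_eq_zero f hcoh hfl (idx s) s hz
  exact not_nontrivial (CohIII.fiberH f M s (idx s)) (hidx s).2

end Groth.Agent.S17511
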