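import Groth.Statements.S17514
import Groth.Agent.AVPtsLib.BC
import Groth.Agent.AVPtsLib.TateSeq
import Groth.Agent.GrpPtsLib.Basic
import Groth.Agent.GrpSchLib.Basic

set_option autoImplicit false
universe u
open CategoryTheory CategoryTheory.Limits MonoidalCategory CartesianMonoidalCategory MonObj GrpObj AlgebraicGeometry
open AbVar

namespace Groth.Agent.S17514

open CategoryTheory CategoryTheory.Limits AlgebraicGeometry

open Groth.Agent
set_option backward.isDefEq.respectTransparency false

/-- Let k be a field with algebraic closure k̄, ℓ a prime number invertible in k, X and Y abelian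
varieties over k (proper, geometrically integral, commutative k-group schemes), f : X → Y an isogeny
(a homomorphism which is finite and surjective) and i : N → X its kernel (the square formed by i, f,
the unit of Y and the structure map of N is cartesian). Let T_ℓ denote the Tate module formed with
k̄-valued points and T_ℓ f : T_ℓ X → T_ℓ Y the induced ℤ_ℓ-linear map. Then T_ℓ f is injective and
its cokernel is isomorphic, as a group, to the ℓ-primary part of the finite group N(k̄) of k̄-valued
points of N (existence of an isomorphism; the published sequence 0 → T_ℓ X → T_ℓ Y → N_ℓ(k_s) → 0 is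
moreover Galois-equivariant with a specific connecting map, and uses points over a separable
closure, which for ℓ-power torsion gives the same groups). -/
theorem result
    (k : Type u) [Field k] (ℓ : ℕ) [Fact ℓ.Prime] (hℓ : (ℓ : k) ≠ 0)
    (X Y : Over (Spec (CommRingCat.of k)))
    [GrpObj X] [IsCommMonObj X] [IsProper X.hom] [GeometricallyIntegral X.hom]
    [GrpObj Y] [IsCommMonObj Y] [IsProper Y.hom] [GeometricallyIntegral Y.hom]
    (f : X ⟶ Y) [IsMonHom f] [IsFinite f.left] [Surjective f.left]
    (N : Over (Spec (CommRingCat.of k))) [GrpObj N] [IsCommMonObj N] (i : N ⟶ X) [IsMonHom i]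
    (hN : AlgGrp.IsKernel i f) :
    Function.Injective (AbDual.tateMapₗ (l := ℓ)
        (T := Over.mk (Spec.map (CommRingCat.ofHom (algebraMap k (AlgebraicClosure k))))) f) ∧
      Nonempty ((AbDual.TateMod Y ℓ (Over.mk (Spec.map (CommRingCat.ofHom (algebraMap k (AlgebraicClosure k))))) ⧸
          LinearMap.range (AbDual.tateMapₗ (l := ℓ)
            (T := Over.mk (Spec.map (CommRingCat.ofHom (algebraMap k (AlgebraicClosure k))))) f)) ≃+
        Additive ↥(CommGroup.primaryComponent
          (Over.mk (Spec.map (CommRingCat.ofHom (algebraMap k (AlgebraicClosure k)))) ⟶ N) ℓ)) := by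
  let K := AlgebraicClosure k
  let T : Over (Spec (CommRingCat.of k)) := AVPtsLib.bcPt K
  haveI : IsClosedImmersion η[Y].left := GrpSchLib.isClosedImmersion_unit
  haveI : IsClosedImmersion i.left :=
    MorphismProperty.of_isPullback ((IsPullback.map (Over.forget _) hN).flip) ‹IsClosedImmersion η[Y].left›
  haveI : Mono i := GrpPtsLib.mono_of_isClosedImmersion i
  haveI : IsFinite N.hom := by
    haveI : IsFinite (toUnit N).left := MorphismProperty.of_isPullback (IsPullback.map (Over.forget _) hN) ‹IsFinite f.left›
    rw [← Over.w (toUnit N)]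
    exact inferInstanceAs (IsFinite ((toUnit N).left ≫ 𝟙 _))
  have hsur : ∀ y : T ⟶ Y, ∃ x : T ⟶ X, x ≫ f = y := fun y => by
    let q : pullback f.left y.left ⟶ Spec (CommRingCat.of K) := pullback.snd f.left y.left
    haveI : IsFinite q := inferInstanceAs (IsFinite (pullback.snd f.left y.left))
    haveI : Surjective q := inferInstanceAs (Surjective (pullback.snd f.left y.left))
    haveI := LocallyOfFiniteType.jacobsonSpace q
    obtain ⟨w, -⟩ := q.surjective (IsLocalRing.closedPoint K)
    obtain ⟨c, -, hc⟩ := nonempty_inter_closedPoints (Z := Set.univ) ⟨w, trivial⟩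
      (isOpen_univ (X := ↥(pullback f.left y.left))).isLocallyClosed
    have e := pointOfClosedPoint_comp q c hc
    refine ⟨Over.homMk (pointOfClosedPoint q c hc ≫ pullback.fst f.left y.left) ?_, ?_⟩
    · rw [← Over.w f, Category.assoc, pullback.condition_assoc, Over.w y, reassoc_of% e]
    · ext1
      show (pointOfClosedPoint q c hc ≫ pullback.fst f.left y.left) ≫ f.left = y.left
      rw [Category.assoc, pullback.condition, reassoc_of% e]
  haveI : Finite (T ⟶ N) := by
    let q : pullback N.hom T.hom ⟶ Spec (CommRingCat.of K) := pullback.snd N.hom T.hom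
    haveI : IsFinite q := inferInstanceAs (IsFinite (pullback.snd N.hom T.hom))
    haveI : Finite ↥(pullback N.hom T.hom) := by
      refine Set.finite_univ_iff.1 ?_
      have h1 := q.finite_preimage_singleton (IsLocalRing.closedPoint K)
      convert h1
      ext w
      simpa using Subsingleton.elim (α := PrimeSpectrum K) _ _
    refine Finite.of_injective (fun t => pullback.lift t.left (𝟙 _) (by rw [Over.w t, Category.id_comp])
      (IsLocalRing.closedPoint K) : (T ⟶ N) → ↥(pullback N.hom T.hom)) fun s t h => ?_
    have h2 := ext_of_apply_closedPoint_eq q (by exact pullback.lift_snd _ _ _) (by exact pullback.lift_snd _ _ _) h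
    ext1
    have h3 := congrArg (fun g => g ≫ pullback.fst N.hom T.hom) h2
    simpa only [pullback.lift_fst] using h3
  let ia : Additive (T ⟶ N) →+ Additive (T ⟶ X) := MonoidHom.toAdditive (IsMonHom.monoidHom i T)
  let fa : Additive (T ⟶ X) →+ Additive (T ⟶ Y) := MonoidHom.toAdditive (IsMonHom.monoidHom f T)
  have hex : ∀ a, fa a = 0 ↔ a ∈ ia.range := fun a => by
    constructor
    · intro h
      obtain ⟨n, hn⟩ := GrpPtsLib.exists_lift_of_isKernel hN (show T ⟶ X from a.toMul) h
      exact ⟨Additive.ofMul n, congrArg Additive.ofMul hn⟩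
    · rintro ⟨n, rfl⟩
      exact ((Category.assoc _ _ _).trans (GrpPtsLib.comp_eq_one_of_isKernel hN n.toMul) :
        (n.toMul ≫ i) ≫ f = 1)
  obtain ⟨hker, δ, hδ0, hδr⟩ := AVPtsLib.exists_tate_coker ℓ ia (fun a b h => (cancel_mono i).1 h) fa
    hex hsur (fun a => by
      obtain ⟨b, hb⟩ := AVPtsLib.exists_npow_eq K ℓ (Fact.out : ℓ.Prime).one_le a.toMul
      exact ⟨Additive.ofMul b, congrArg Additive.ofMul hb⟩)
  have hF : ∀ (x : AbDual.TateMod X ℓ T) (n : ℕ),
      (AbDual.tateMapₗ (l := ℓ) f x).1 n = fa (x.1 n) := fun _ _ => rfl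
  refine ⟨(injective_iff_map_eq_zero _).2 fun x hx => AbDual.TateMod.ext fun n => ?_, ?_⟩
  · exact congrFun (hker x.1 x.2 fun m => by
      rw [← hF]; exact congrArg (fun z : AbDual.TateMod Y ℓ T => z.1 m) hx) n
  let R := LinearMap.range (AbDual.tateMapₗ (l := ℓ) (T := T) f)
  let P := CommGroup.primaryComponent (T ⟶ N) ℓ
  let δ' : AbDual.TateMod Y ℓ T →+ Additive ↥P := AddMonoidHom.mk' (fun y => Additive.ofMul
    ⟨(δ y).toMul, (hδr (δ y)).1 ⟨y, rfl⟩⟩) fun y z => Subtype.ext (congrArg Additive.toMul (map_add δ y z))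
  have hk : R.toAddSubgroup = δ'.ker := by
    ext y
    rw [AddMonoidHom.mem_ker]
    constructor
    · rintro ⟨x, rfl⟩
      exact Subtype.ext (congrArg Additive.toMul ((hδ0 _).2 ⟨x.1, x.2, fun n => (hF x n).symm⟩))
    · intro h
      obtain ⟨x, hx, hxy⟩ := (hδ0 y).1 (congrArg (fun z : Additive ↥P => Additive.ofMul z.toMul.1) h)
      exact ⟨⟨x, hx⟩, AbDual.TateMod.ext fun n => (hF _ n).trans (hxy n)⟩
  have hs : Function.Surjective δ' := fun z => by
    obtain ⟨y, hy⟩ := (hδr (Additive.ofMul z.toMul.1)).2 z.toMul.2
    exact ⟨y, Subtype.ext (congrArg Additive.toMul hy)⟩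
  exact ⟨(QuotientAddGroup.quotientAddEquivOfEq hk).trans (QuotientAddGroup.quotientKerEquivOfSurjective δ' hs)⟩


end Groth.Agent.S17514
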