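import Mathlib
import Groth.Statements.S17517
-- import your own Groth.Agent.* helpers here

set_option autoImplicit false
universe u
open GIT

namespace Groth.Agent.S17517

/-- Let `E` be a finite-dimensional real inner product space and `L` a full lattice in `E` (a discrete
subgroup spanning `E`) on which the inner product is integer valued; let `F` and `G` be nonempty
finite sets of real linear functionals on `E` taking integer values on `L`, with `f_min v = min_{f ∈
F} f v` and `g_min v = min_{g ∈ G} g v`. If some vector `v` has `f_min v ≥ 0` and `g_min v > 0`,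
then on the set `C_F` of nonzero `v` with `f_min v ≥ 0` the function `v ↦ g_min v / ‖v‖` attains a
greatest value `M`, and there is exactly one lattice vector `v₀ ∈ C_F` with `g_min v₀ / ‖v₀‖ = M` of
which every lattice vector `v ∈ C_F` with `g_min v / ‖v‖ = M` is an integer multiple. -/
theorem result
    (E : Type u) [NormedAddCommGroup E] [InnerProductSpace ℝ E] [FiniteDimensional ℝ E]
    (L : Submodule ℤ E) [DiscreteTopology L] [IsZLattice ℝ L]
    (hint : ∀ x ∈ L, ∀ y ∈ L, ∃ n : ℤ, inner ℝ x y = (n : ℝ))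
    (F G : Finset (Module.Dual ℝ E)) (hF : F.Nonempty) (hG : G.Nonempty)
    (hFi : ∀ f ∈ F, ∀ x ∈ L, ∃ n : ℤ, f x = (n : ℝ)) (hGi : ∀ g ∈ G, ∀ x ∈ L, ∃ n : ℤ, g x = (n : ℝ))
    (hpos : ∃ v : E, 0 ≤ F.inf' hF (fun f => f v) ∧ 0 < G.inf' hG (fun g => g v)) :
    ∃ M : ℝ, IsGreatest ((fun v => G.inf' hG (fun g => g v) / ‖v‖) ''
        {v : E | v ≠ 0 ∧ 0 ≤ F.inf' hF (fun f => f v)}) M ∧
      ∃! v₀ : E, v₀ ∈ L ∧ v₀ ≠ 0 ∧ 0 ≤ F.inf' hF (fun f => f v₀) ∧
        G.inf' hG (fun g => g v₀) / ‖v₀‖ = M ∧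
        ∀ v ∈ L, v ≠ 0 → 0 ≤ F.inf' hF (fun f => f v) → G.inf' hG (fun g => g v) / ‖v‖ = M →
          ∃ n : ℤ, v = n • v₀ := by
  classical
  obtain ⟨v₁, hv₁F, hv₁G⟩ := hpos
  simp only [Finset.le_inf'_iff, Finset.lt_inf'_iff] at hv₁F hv₁G
  -- coordinates in a basis of the lattice
  haveI : Module.Free ℤ L := ZLattice.module_free ℝ L
  haveI : Module.Finite ℤ L := ZLattice.module_finite ℝ L
  let b := (Module.Free.chooseBasis ℤ L).ofZLatticeBasis ℝ L
  have hbL : ∀ i, b i ∈ L := fun i => by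
    simp only [b, Module.Basis.ofZLatticeBasis_apply]
    exact Subtype.mem _
  have hmemL : ∀ x : E, x ∈ L ↔ ∀ i, ∃ n : ℤ, b.repr x i = n := by
    intro x
    refine ⟨fun hx i => ⟨(Module.Free.chooseBasis ℤ L).repr ⟨x, hx⟩ i, by
      simp only [b]
      exact Module.Basis.ofZLatticeBasis_repr_apply ℝ L _ ⟨x, hx⟩ i⟩, fun h => ?_⟩
    choose n hn using h
    rw [← b.sum_repr x]
    refine Submodule.sum_mem _ fun i _ => ?_
    rw [hn i, Int.cast_smul_eq_zsmul]
    exact Submodule.smul_mem _ _ (hbL i)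
  have hrat : ∀ (h : Module.Dual ℝ E), (∀ i, ∃ q : ℚ, h (b i) = q) → ∀ (π : ℝ →ₗ[ℚ] ℚ) (x : E),
      h (∑ i, ((π (b.repr x i) : ℚ) : ℝ) • b i) = (π (h x) : ℝ) := by
    intro h hh π x
    choose q hq using hh
    conv_rhs => rw [← b.sum_repr x]
    simp only [map_sum, map_smul, smul_eq_mul, hq, Rat.cast_sum]
    refine Finset.sum_congr rfl fun i _ => ?_
    rw [mul_comm (b.repr x i) (q i : ℝ), show (q i : ℝ) * b.repr x i = q i • b.repr x i from (Rat.smul_def _ _).symm,
      map_smul, smul_eq_mul, Rat.cast_mul, mul_comm]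
  have hFr : ∀ f ∈ F, ∀ i, ∃ q : ℚ, f (b i) = q := fun f hf i => by
    obtain ⟨n, hn⟩ := hFi f hf _ (hbL i); exact ⟨n, by rw [hn]; simp⟩
  have hGr : ∀ g ∈ G, ∀ i, ∃ q : ℚ, g (b i) = q := fun g hg i => by
    obtain ⟨n, hn⟩ := hGi g hg _ (hbL i); exact ⟨n, by rw [hn]; simp⟩
  -- the point of least norm of the polyhedron
  let P : Set E := {v | (∀ f ∈ F, 0 ≤ f v) ∧ ∀ g ∈ G, 1 ≤ g v}
  have hPc : IsClosed P := by
    simp only [P, Set.setOf_and, Set.setOf_forall]
    exact (isClosed_biInter fun f _ => isClosed_le continuous_const f.continuous_of_finiteDimensional).inter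
      (isClosed_biInter fun g _ => isClosed_le continuous_const g.continuous_of_finiteDimensional)
  have hPconv : Convex ℝ P := fun x hx y hy a c ha hc hac => by
    refine ⟨fun f hf => ?_, fun g hg => ?_⟩
    · rw [map_add, map_smul, map_smul, smul_eq_mul, smul_eq_mul]
      exact add_nonneg (mul_nonneg ha (hx.1 f hf)) (mul_nonneg hc (hy.1 f hf))
    · rw [map_add, map_smul, map_smul, smul_eq_mul, smul_eq_mul, ← hac]
      exact add_le_add (le_mul_of_one_le_right ha (hx.2 g hg)) (le_mul_of_one_le_right hc (hy.2 g hg))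
  have hPne : P.Nonempty := by
    have hm : 0 < G.inf' hG (fun g => g v₁) := by rwa [Finset.lt_inf'_iff]
    refine ⟨(G.inf' hG fun g => g v₁)⁻¹ • v₁, fun f hf => ?_, fun g hg => ?_⟩
    · rw [map_smul, smul_eq_mul]; exact mul_nonneg (inv_nonneg.mpr hm.le) (hv₁F f hf)
    · rw [map_smul, smul_eq_mul, ← inv_mul_cancel₀ hm.ne']
      exact mul_le_mul_of_nonneg_left (Finset.inf'_le _ hg) (inv_nonneg.mpr hm.le)
  obtain ⟨w, hwP, hwmin⟩ := exists_norm_eq_iInf_of_complete_convex hPne hPc.isComplete hPconv (0 : E)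
  have hmin : ∀ v ∈ P, ‖w‖ ≤ ‖v‖ := fun v hv => by
    haveI : Nonempty P := hPne.to_subtype
    have := hwmin.le.trans (ciInf_le ⟨0, Set.forall_mem_range.mpr fun _ => norm_nonneg _⟩ (⟨v, hv⟩ : P))
    simpa using this
  have huniq : ∀ v ∈ P, ‖v‖ = ‖w‖ → v = w := fun v hv hn => by
    have h2 := hmin _ (hPconv hwP hv (by norm_num : (0 : ℝ) ≤ 1/2) (by norm_num : (0 : ℝ) ≤ 1/2) (by norm_num))
    have h3 := parallelogram_law_with_norm ℝ w v
    rw [← smul_add, norm_smul, Real.norm_eq_abs, abs_of_nonneg (by norm_num : (0:ℝ) ≤ 1/2)] at h2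
    rw [hn] at h3
    have h4 : ‖w - v‖ = 0 := by nlinarith [norm_nonneg (w - v), norm_nonneg w, norm_nonneg (w + v)]
    exact (sub_eq_zero.mp (norm_eq_zero.mp h4)).symm
  have hw0 : w ≠ 0 := fun h => by
    obtain ⟨g, hg⟩ := hG
    have := hwP.2 g hg
    rw [h, map_zero] at this
    linarith
  have hwn : 0 < ‖w‖ := norm_pos_iff.mpr hw0
  -- orthogonality on the active face
  let W0 : Set E := {d | (∀ f ∈ F, f w = 0 → f d = 0) ∧ ∀ g ∈ G, g w = 1 → g d = 0}
  have horth : ∀ d ∈ W0, inner ℝ w d = 0 := by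
    intro d hd
    have hopen : ∀ᶠ t : ℝ in nhds 0, w + t • d ∈ P := by
      have hf : ∀ f ∈ F, ∀ᶠ t : ℝ in nhds 0, 0 ≤ f (w + t • d) := fun f hf => by
        rcases eq_or_lt_of_le (hwP.1 f hf) with h | h
        · exact Filter.Eventually.of_forall fun t => by simp [map_add, hd.1 f hf h.symm, ← h]
        · refine (ContinuousAt.eventually_lt (f := fun _ : ℝ => (0 : ℝ)) continuousAt_const ?_ ?_).mono fun t ht => ht.le
          · exact (f.continuous_of_finiteDimensional.comp (by fun_prop)).continuousAt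
          · simpa using h
      have hg : ∀ g ∈ G, ∀ᶠ t : ℝ in nhds 0, 1 ≤ g (w + t • d) := fun g hg => by
        rcases eq_or_lt_of_le (hwP.2 g hg) with h | h
        · exact Filter.Eventually.of_forall fun t => by simp [map_add, hd.2 g hg h.symm, ← h]
        · refine (ContinuousAt.eventually_lt (f := fun _ : ℝ => (1 : ℝ)) continuousAt_const ?_ ?_).mono fun t ht => ht.le
          · exact (g.continuous_of_finiteDimensional.comp (by fun_prop)).continuousAt
          · simpa using h
      filter_upwards [(Filter.eventually_all_finset F).mpr hf, (Filter.eventually_all_finset G).mpr hg] with t h1 h2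
      exact ⟨h1, h2⟩
    obtain ⟨ε, hε, hball⟩ := Metric.eventually_nhds_iff.mp hopen
    have hq : ∀ t : ℝ, |t| < ε → 0 ≤ 2 * t * inner ℝ w d + t ^ 2 * ‖d‖ ^ 2 := fun t ht => by
      have h1 := pow_le_pow_left₀ (norm_nonneg w) (hmin _ (hball (by simpa using ht))) 2
      rw [norm_add_sq_real, inner_smul_right, norm_smul, mul_pow, Real.norm_eq_abs, sq_abs] at h1
      linarith
    by_contra hne
    set c := inner ℝ w d with hc
    let t := ε / 2 / (1 + |c| + ε * ‖d‖ ^ 2) * (-c)
    have hden : 0 < 1 + |c| + ε * ‖d‖ ^ 2 := by positivity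
    have htε : |t| < ε := by
      simp only [t, abs_mul, abs_neg, abs_div, abs_of_pos hε, abs_of_pos hden, abs_two]
      rw [div_mul_eq_mul_div, div_lt_iff₀ hden]
      nlinarith [abs_nonneg c, mul_nonneg hε.le (mul_nonneg hε.le (sq_nonneg ‖d‖))]
    have h1 := hq t htε
    have hc2 : 0 < c ^ 2 := by positivity
    have hk : 0 < ε / 2 / (1 + |c| + ε * ‖d‖ ^ 2) := by positivity
    have hk2 : ε / 2 / (1 + |c| + ε * ‖d‖ ^ 2) * ‖d‖ ^ 2 ≤ 1 := by
      rw [div_mul_eq_mul_div, div_le_one hden]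
      nlinarith [abs_nonneg c, sq_nonneg ‖d‖]
    simp only [t] at h1
    nlinarith [mul_pos hk hc2]
  -- rationality
  obtain ⟨π, hπ⟩ := (Algebra.linearMap ℚ ℝ).exists_leftInverse_of_injective
    (LinearMap.ker_eq_bot.mpr (algebraMap ℚ ℝ).injective)
  have hπ1 : π 1 = 1 := by simpa using LinearMap.congr_fun hπ 1
  let w' := ∑ i, ((π (b.repr w i) : ℚ) : ℝ) • b i
  let d := w' - w
  have hd : d ∈ W0 := by
    refine ⟨fun f hf h => ?_, fun g hg h => ?_⟩
    · simp only [d, w', map_sub, hrat f (hFr f hf) π w, h, map_zero, Rat.cast_zero, sub_self]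
    · simp only [d, w', map_sub, hrat g (hGr g hg) π w, h, hπ1, Rat.cast_one, sub_self]
  have hd' : inner ℝ w' d = 0 := by
    let B := Module.Basis.ofVectorSpace ℚ ℝ
    let s := Finset.univ.biUnion fun i => (B.repr (b.repr d i)).support
    have hds : d = ∑ β ∈ s, B β • ∑ i, ((B.repr (b.repr d i) β : ℚ) : ℝ) • b i := by
      conv_lhs => rw [← b.sum_repr d]
      simp only [Finset.smul_sum, smul_smul]
      rw [Finset.sum_comm]
      refine Finset.sum_congr rfl fun i _ => ?_
      rw [← Finset.sum_smul]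
      congr 1
      conv_lhs => rw [← B.linearCombination_repr (b.repr d i)]
      rw [Finsupp.linearCombination_apply, Finsupp.sum_of_support_subset _ (s := s)
        (fun q hq => Finset.mem_biUnion.mpr ⟨i, Finset.mem_univ _, hq⟩) (fun q a => a • B q) (by simp)]
      exact Finset.sum_congr rfl fun q _ => by rw [Rat.smul_def, mul_comm]
    rw [hds, inner_sum]
    refine Finset.sum_eq_zero fun β _ => ?_
    rw [inner_smul_right, mul_eq_zero]
    right
    set r := ∑ i, ((B.repr (b.repr d i) β : ℚ) : ℝ) • b i with hr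
    have hrW : r ∈ W0 := by
      refine ⟨fun f hf h => ?_, fun g hg h => ?_⟩
      · have := hrat f (hFr f hf) (B.coord β) d
        rw [hd.1 f hf h, map_zero, Rat.cast_zero] at this
        exact this
      · have := hrat g (hGr g hg) (B.coord β) d
        rw [hd.2 g hg h, map_zero, Rat.cast_zero] at this
        exact this
    have h2 := hrat (innerₛₗ ℝ r) (fun i => by
      obtain ⟨q, hq⟩ : ∃ q : ℚ, inner ℝ r (b i) = q := by
        have : ∀ j, ∃ n : ℤ, inner ℝ (b j) (b i) = n := fun j => hint _ (hbL j) _ (hbL i)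
        choose n hn using this
        refine ⟨∑ j, B.repr (b.repr d j) β * n j, ?_⟩
        simp [r, sum_inner, inner_smul_left, hn]
      exact ⟨q, hq⟩) π w
    simp only [innerₛₗ_apply_apply] at h2
    have h3 : inner ℝ r w = 0 := by rw [real_inner_comm]; exact horth r hrW
    rw [h3, map_zero, Rat.cast_zero] at h2
    rw [real_inner_comm]
    exact h2
  have hww : w' = w := by
    have h1 : inner ℝ d d = 0 := by
      rw [show inner ℝ d d = inner ℝ w' d - inner ℝ w d from inner_sub_left w' w d, hd', horth d hd, sub_zero]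
    exact sub_eq_zero.mp (inner_self_eq_zero.mp h1)
  have hq : ∀ i, ∃ q : ℚ, b.repr w i = q := fun i => ⟨π (b.repr w i), by
    conv_lhs => rw [← hww]
    simp [w', map_sum, Finsupp.single_apply]⟩
  choose q hq using hq
  set N := ∏ i, ((q i).den : ℤ) with hN
  have hNpos : 0 < N := Finset.prod_pos fun i _ => by exact_mod_cast (q i).pos
  have hz : ∀ i, ∃ z : ℤ, (N : ℝ) * b.repr w i = z := fun i => by
    obtain ⟨m, hm⟩ := Finset.dvd_prod_of_mem (fun i => ((q i).den : ℤ)) (Finset.mem_univ i)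
    refine ⟨m * (q i).num, ?_⟩
    rw [hq, hN, hm]
    have h0 : ((q i : ℚ) : ℝ) * ((q i).den : ℝ) = ((q i).num : ℝ) := by exact_mod_cast Rat.mul_den_eq_num (q i)
    push_cast
    rw [← h0]; ring
  choose z hz using hz
  obtain ⟨g₀, hg₀⟩ := IsPrincipalIdealRing.principal (Ideal.span (Set.range z))
  obtain ⟨a, ha⟩ : ∃ a : Module.Free.ChooseBasisIndex ℤ L → ℤ, ∑ i, a i * z i = |g₀| := by
    have : |g₀| ∈ Ideal.span (Set.range z) := by
      rw [hg₀]
      rcases abs_choice g₀ with h | h <;> rw [h]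
      · exact Submodule.mem_span_singleton_self _
      · exact neg_mem (Submodule.mem_span_singleton_self _)
    exact Ideal.mem_span_range_iff_exists_fun.mp this
  have hdvd : ∀ i, |g₀| ∣ z i := fun i => by
    have : z i ∈ Submodule.span ℤ {g₀} := hg₀ ▸ Ideal.subset_span ⟨i, rfl⟩
    obtain ⟨c, hc⟩ := Submodule.mem_span_singleton.mp this
    exact (abs_dvd _ _).mpr ⟨c, by rw [← hc, smul_eq_mul, mul_comm]⟩
  have hgpos : 0 < |g₀| := by
    refine abs_pos.mpr fun h0 => hw0 ?_
    have hzero : ∀ i, b.repr w i = 0 := fun i => by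
      have := hdvd i
      rw [h0, abs_zero, zero_dvd_iff] at this
      have h1 := hz i
      rw [this, Int.cast_zero, mul_eq_zero] at h1
      exact h1.resolve_left (by exact_mod_cast hNpos.ne')
    rw [← b.sum_repr w]; simp [hzero]
  choose z' hz' using hdvd
  set c₀ : ℝ := (N : ℝ) / (|g₀| : ℤ) with hc₀
  have hc₀pos : 0 < c₀ := div_pos (by exact_mod_cast hNpos) (by exact_mod_cast hgpos)
  have hgR : ((|g₀| : ℤ) : ℝ) ≠ 0 := by exact_mod_cast hgpos.ne'
  have hcoord : ∀ i, b.repr (c₀ • w) i = z' i := fun i => by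
    rw [map_smul, Finsupp.smul_apply, smul_eq_mul, hc₀, div_mul_eq_mul_div, hz i, div_eq_iff hgR, hz' i]
    push_cast; ring
  have hv₀L : c₀ • w ∈ L := (hmemL _).mpr fun i => ⟨z' i, hcoord i⟩
  -- values
  let φ : E → ℝ := fun v => G.inf' hG (fun g => g v) / ‖v‖
  have hscale : ∀ (c : ℝ) (v : E), 0 < c → φ (c • v) = φ v := by
    intro c v hc
    have : G.inf' hG (fun g => g (c • v)) = c * G.inf' hG (fun g => g v) := by
      refine le_antisymm ?_ ?_
      · obtain ⟨g, hg, hge⟩ := G.exists_mem_eq_inf' hG (fun g => g v)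
        rw [hge]
        exact (Finset.inf'_le _ hg).trans (by rw [map_smul, smul_eq_mul])
      · exact Finset.le_inf' _ _ fun g hg => by
          rw [map_smul, smul_eq_mul]; exact mul_le_mul_of_nonneg_left (Finset.inf'_le _ hg) hc.le
    simp only [φ, this, norm_smul, Real.norm_eq_abs, abs_of_pos hc]
    field_simp
  have hφw : φ w = 1 / ‖w‖ := by
    simp only [φ]
    congr 1
    refine le_antisymm ?_ (Finset.le_inf' _ _ hwP.2)
    by_contra hgt
    push Not at hgt
    set m := G.inf' hG (fun g => g w)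
    have := hmin (m⁻¹ • w) ⟨fun f hf => by
        rw [map_smul, smul_eq_mul]; exact mul_nonneg (inv_nonneg.mpr (by linarith)) (hwP.1 f hf), fun g hg => by
        rw [map_smul, smul_eq_mul, ← inv_mul_cancel₀ (show m ≠ 0 by linarith)]
        exact mul_le_mul_of_nonneg_left (Finset.inf'_le _ hg) (inv_nonneg.mpr (by linarith))⟩
    rw [norm_smul, Real.norm_eq_abs, abs_of_pos (inv_pos.mpr (by linarith))] at this
    nlinarith [inv_lt_one_of_one_lt₀ hgt]
  have hbound : ∀ v : E, v ≠ 0 → (∀ f ∈ F, 0 ≤ f v) → φ v ≤ 1 / ‖w‖ ∧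
      (φ v = 1 / ‖w‖ → ∃ c : ℝ, 0 < c ∧ v = c • w) := by
    intro v hv hvF
    have hvn : 0 < ‖v‖ := norm_pos_iff.mpr hv
    rcases le_or_gt (G.inf' hG (fun g => g v)) 0 with hm | hm
    · have h1 : φ v ≤ 0 := div_nonpos_of_nonpos_of_nonneg hm hvn.le
      have h2 : (0 : ℝ) < 1 / ‖w‖ := by positivity
      exact ⟨by linarith, fun h => by linarith⟩
    · set m := G.inf' hG (fun g => g v) with hmdef
      have hP : m⁻¹ • v ∈ P := ⟨fun f hf => by
          rw [map_smul, smul_eq_mul]; exact mul_nonneg (inv_nonneg.mpr hm.le) (hvF f hf), fun g hg => by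
          rw [map_smul, smul_eq_mul, ← inv_mul_cancel₀ hm.ne']
          exact mul_le_mul_of_nonneg_left (Finset.inf'_le _ hg) (inv_nonneg.mpr hm.le)⟩
      have hn : ‖m⁻¹ • v‖ = 1 / φ v := by
        simp only [φ, ← hmdef, norm_smul, Real.norm_eq_abs, abs_of_pos (inv_pos.mpr hm)]
        field_simp
      have hφpos : 0 < φ v := div_pos hm hvn
      refine ⟨?_, fun h => ⟨m, hm, ?_⟩⟩
      · have := hmin _ hP
        rw [hn] at this
        rw [le_div_iff₀ hwn]
        rwa [le_div_iff₀ hφpos, mul_comm] at this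
      · have := huniq _ hP (by rw [hn, h, one_div_one_div])
        rw [← this, smul_inv_smul₀ hm.ne']
  have hC : ∀ v, (0 ≤ F.inf' hF (fun f => f v)) ↔ ∀ f ∈ F, 0 ≤ f v := fun v => Finset.le_inf'_iff _ _
  have hwF : 0 ≤ F.inf' hF (fun f => f w) := (hC w).mpr hwP.1
  refine ⟨1 / ‖w‖, ⟨⟨w, ⟨hw0, hwF⟩, hφw⟩, ?_⟩, c₀ • w, ?_, ?_⟩
  · rintro _ ⟨v, ⟨hv, hvF⟩, rfl⟩
    exact (hbound v hv ((hC v).mp hvF)).1
  · refine ⟨hv₀L, smul_ne_zero hc₀pos.ne' hw0, (hC _).mpr fun f hf => ?_, (hscale c₀ w hc₀pos).trans hφw, ?_⟩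
    · rw [map_smul, smul_eq_mul]; exact mul_nonneg hc₀pos.le (hwP.1 f hf)
    · intro v hvL hv hvF hvM
      obtain ⟨c, hc, rfl⟩ := (hbound v hv ((hC v).mp hvF)).2 hvM
      choose n hn using (hmemL _).mp hvL
      refine ⟨∑ i, a i * n i, ?_⟩
      have : c = ((∑ i, a i * n i : ℤ) : ℝ) * c₀ := by
        have hni : ∀ i, (N : ℝ) * (n i) = c * (z i) := fun i => by
          have := hn i
          rw [map_smul, Finsupp.smul_apply, smul_eq_mul] at this
          rw [← this, ← hz i]; ring
        have h1 : ((∑ i, a i * n i : ℤ) : ℝ) * N = c * (|g₀| : ℤ) := by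
          rw [← ha]
          push_cast
          rw [Finset.sum_mul, Finset.mul_sum]
          exact Finset.sum_congr rfl fun i _ => by linear_combination (a i : ℝ) * hni i
        rw [hc₀, ← mul_div_assoc, h1, mul_div_cancel_right₀ _ hgR]
      rw [← Int.cast_smul_eq_zsmul ℝ, smul_smul, ← this]
  · rintro v' ⟨hL', hne', hF', hM', hall'⟩
    obtain ⟨n, hn⟩ := hall' (c₀ • w) hv₀L (smul_ne_zero hc₀pos.ne' hw0)
      ((hC _).mpr fun f hf => by rw [map_smul, smul_eq_mul]; exact mul_nonneg hc₀pos.le (hwP.1 f hf))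
      ((hscale c₀ w hc₀pos).trans hφw)
    obtain ⟨c, hc, rfl⟩ := (hbound v' hne' ((hC v').mp hF')).2 hM'
    choose m hm using (hmemL _).mp hL'
    have h1 : (n : ℝ) * c = c₀ := by
      rw [← Int.cast_smul_eq_zsmul ℝ, smul_smul] at hn
      exact (smul_left_injective ℝ hw0 hn).symm
    have hdiv : ∀ i, |g₀| * n * m i = |g₀| * z' i := fun i => by
      have h2 := hcoord i
      rw [map_smul, Finsupp.smul_apply, smul_eq_mul, ← h1, mul_assoc] at h2
      have h3 := hm i
      rw [map_smul, Finsupp.smul_apply, smul_eq_mul] at h3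
      rw [h3] at h2
      have h4 : n * m i = z' i := by exact_mod_cast h2
      rw [mul_assoc, h4]
    have hn1 : n = 1 := by
      have h2 : n * (∑ i, a i * m i) = 1 := by
        have : |g₀| * (n * ∑ i, a i * m i) = |g₀| * 1 := by
          rw [mul_one]
          conv_rhs => rw [← ha]
          rw [Finset.mul_sum, Finset.mul_sum]
          refine Finset.sum_congr rfl fun i _ => ?_
          rw [hz' i, ← hdiv i]; ring
        exact mul_left_cancel₀ hgpos.ne' this
      have hnpos : 0 < n := by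
        have : (0 : ℝ) < n := by
          by_contra hle
          push Not at hle
          nlinarith
        exact_mod_cast this
      exact Int.eq_one_of_mul_eq_one_right hnpos.le h2
    rw [hn1, Int.cast_one, one_mul] at h1
    rw [h1]

end Groth.Agent.S17517
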