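import Groth.Agent.SubtrRefineLib.Section
import Groth.Agent.SubtrVal.Submersive
import Groth.Agent.HTopPh.FPLimit
import Groth.Agent.FPModelLib.ProperConst
import Groth.Agent.FppfSrc.Scheme
import Groth.Agent.ThickFTLib.Basic
import Groth.Agent.S1297

/-! Finite type descends along universally submersive morphisms of Noetherian schemes. -/

set_option autoImplicit false
set_option linter.style.haveILetI false
set_option backward.isDefEq.respectTransparency false
set_option backward.isDefEq.respectTransparency.types false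

universe u
open CategoryTheory CategoryTheory.Limits AlgebraicGeometry

noncomputable section

namespace Groth.Agent.SubmFTLib

/-- The affine case of descent of finite type along a proper surjective morphism. -/
theorem locallyOfFiniteType_of_proper_affine {P X Y : Scheme.{u}} [IsAffine X] [IsAffine Y]
    [IsNoetherianRing Γ(X, ⊤)] [IsLocallyNoetherian Y] (q : P ⟶ X) [IsProper q] [Surjective q] (g : X ⟶ Y)
    [LocallyOfFiniteType (q ≫ g)] : LocallyOfFiniteType g := by
  obtain ⟨I, _, _, D, c, hc, e, ha, hl⟩ := HTopPh.exists_lfp_system g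
  haveI := ha
  haveI := hl
  let E := D ⋙ Over.forget Y
  let cE := (Over.forget Y).mapCone c
  haveI : ∀ i, IsAffine (E.obj i) := fun i => ha i
  haveI : ∀ {i j : I} (a : i ⟶ j), IsAffineHom (E.map a) := fun a => inferInstance
  let h : P ⟶ cE.pt := q ≫ e.inv.left
  haveI : IsIso e.inv.left := inferInstanceAs (IsIso ((Over.forget Y).map e.inv))
  haveI : IsProper h := inferInstanceAs (IsProper (q ≫ e.inv.left))
  obtain ⟨i⟩ := IsCofiltered.nonempty (C := I)
  have hg : ∀ i, (e.inv.left ≫ (c.π.app i).left) ≫ (D.obj i).hom = g := fun i => by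
    rw [Category.assoc, Over.w]; exact Over.w e.inv
  haveI : LocallyOfFiniteType ((h ≫ cE.π.app i) ≫ (D.obj i).hom) := by
    rw [show (h ≫ cE.π.app i) ≫ (D.obj i).hom = q ≫ g by rw [← hg i]; simp [h, cE]]
    infer_instance
  haveI : LocallyOfFiniteType (h ≫ cE.π.app i) := locallyOfFiniteType_of_comp _ (D.obj i).hom
  obtain ⟨k, hk⟩ := FPModelLib.exists_proper_comp_π E cE hc h i
  let ρ : X ⟶ (D.obj k).left := e.inv.left ≫ (c.π.app k).left
  haveI : IsLocallyNoetherian (D.obj k).left := LocallyOfFiniteType.isLocallyNoetherian (D.obj k).hom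
  haveI hp : IsProper (q ≫ ρ) := by
    have := hk k (𝟙 k)
    rwa [show h ≫ cE.π.app k = q ≫ ρ by simp [h, cE, ρ]] at this
  suffices LocallyOfFiniteType ρ by
    rw [← hg k]
    exact MorphismProperty.comp_mem _ _ _ this inferInstance
  rw [HasRingHomProperty.iff_of_isAffine (P := @LocallyOfFiniteType)]
  have hfin : (q ≫ ρ).appTop.hom.Finite := S1297.finite_app (q ≫ ρ) (isAffineOpen_top _)
  letI : Algebra Γ((D.obj k).left, ⊤) Γ(X, ⊤) := ρ.appTop.hom.toAlgebra
  letI : Algebra Γ((D.obj k).left, ⊤) Γ(P, ⊤) := (q ≫ ρ).appTop.hom.toAlgebra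
  haveI : Module.Finite Γ((D.obj k).left, ⊤) Γ(P, ⊤) := hfin
  haveI : IsNoetherianRing Γ((D.obj k).left, ⊤) := IsLocallyNoetherian.component_noetherian ⟨⊤, isAffineOpen_top _⟩
  let π₀ : Γ(X, ⊤) →ₐ[Γ((D.obj k).left, ⊤)] Γ(P, ⊤) :=
    { q.appTop.hom with commutes' := fun r => (RingHom.congr_fun (congrArg CommRingCat.Hom.hom (Scheme.Hom.comp_appTop q ρ)) r).symm }
  haveI : Module.Finite Γ((D.obj k).left, ⊤) π₀.range :=
    Module.Finite.of_injective π₀.range.val.toLinearMap Subtype.val_injective
  haveI : Algebra.FiniteType Γ((D.obj k).left, ⊤) π₀.range := inferInstance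
  have hker : RingHom.ker π₀.rangeRestrict.toRingHom ≤ nilradical Γ(X, ⊤) := fun a ha => by
    rw [mem_nilradical, Scheme.isNilpotent_iff_basicOpen_eq_bot, eq_bot_iff]
    intro x hx
    obtain ⟨p, rfl⟩ := q.surjective x
    have h0 : q.appTop a = 0 := congrArg Subtype.val ha
    have : p ∈ q ⁻¹ᵁ X.basicOpen a := hx
    rw [Scheme.preimage_basicOpen] at this
    erw [h0, Scheme.basicOpen_zero] at this
    exact this.elim
  have hnil : IsNilpotent (RingHom.ker π₀.rangeRestrict.toRingHom) := by
    obtain ⟨n, hn⟩ := IsNoetherianRing.isNilpotent_nilradical Γ(X, ⊤)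
    refine ⟨n, ?_⟩
    rw [Ideal.zero_eq_bot, eq_bot_iff] at hn ⊢
    exact (Ideal.pow_right_mono hker n).trans hn
  exact ThickFTLib.finiteType_of_quotient π₀.rangeRestrict π₀.rangeRestrict_surjective hnil
    (IsNoetherian.noetherian _)

/-- Finite type descends along proper surjective morphisms of Noetherian schemes. -/
theorem locallyOfFiniteType_of_proper {P X Y : Scheme.{u}} [IsLocallyNoetherian X] [IsLocallyNoetherian Y]
    (q : P ⟶ X) [IsProper q] [Surjective q] (g : X ⟶ Y) [LocallyOfFiniteType (q ≫ g)] : LocallyOfFiniteType g := by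
  refine (IsZariskiLocalAtSource.iff_of_openCover (P := @LocallyOfFiniteType)
    ((Y.affineCover.pullback₁ g).bind fun i => ((Y.affineCover.pullback₁ g).X i).affineCover)).2 fun ⟨i, j⟩ => ?_
  let O := pullback g (Y.affineCover.f i)
  let t : O.affineCover.X j ⟶ Y.affineCover.X i := O.affineCover.f j ≫ pullback.snd g (Y.affineCover.f i)
  let u : O.affineCover.X j ⟶ X := O.affineCover.f j ≫ pullback.fst g (Y.affineCover.f i)
  haveI : IsAffine (O.affineCover.X j) := inferInstance
  haveI : IsLocallyNoetherian (O.affineCover.X j) := isLocallyNoetherian_of_isOpenImmersion u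
  haveI : IsLocallyNoetherian (Y.affineCover.X i) := isLocallyNoetherian_of_isOpenImmersion (Y.affineCover.f i)
  haveI : IsNoetherianRing Γ(O.affineCover.X j, ⊤) := IsLocallyNoetherian.component_noetherian ⟨⊤, isAffineOpen_top _⟩
  have hw : u ≫ g = t ≫ Y.affineCover.f i := by simp [u, t, pullback.condition]
  haveI : LocallyOfFiniteType ((pullback.snd q u ≫ t) ≫ Y.affineCover.f i) := by
    rw [Category.assoc, ← hw, ← Category.assoc, ← pullback.condition, Category.assoc]
    infer_instance
  haveI : LocallyOfFiniteType (pullback.snd q u ≫ t) := locallyOfFiniteType_of_comp _ (Y.affineCover.f i)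
  haveI := locallyOfFiniteType_of_proper_affine (pullback.snd q u) t
  show LocallyOfFiniteType (u ≫ g)
  rw [hw]
  infer_instance

theorem locallyOfFiniteType_of_univSubmersive {X' X Y : Scheme.{u}} [IsNoetherian X'] [IsNoetherian X] [IsNoetherian Y]
    (f : X' ⟶ X) (hf : SGA1.UnivSubmersive f) (g : X ⟶ Y) [LocallyOfFiniteType (f ≫ g)] :
    LocallyOfFiniteType g := by
  haveI : LocallyOfFiniteType f := locallyOfFiniteType_of_comp f g
  haveI : LocallyOfFinitePresentation f := QFinEtDesc.lfp_of_noetherian f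
  haveI : QuasiCompact f := quasiCompact_of_noetherianSpace_source f
  haveI : QuasiSeparated f := QuasiSeparated.of_quasiSeparatedSpace f
  obtain ⟨P, q, h1, h2, h3, T, t, m, hm, ht1, ht2, ht3, ht4, ht5⟩ :=
    SubtrRefineLib.properRefinable_of_noetherian f
      (SubtrVal.univSSubtrusive_of_dvrPairs f (SubtrVal.dvrPairs_of_univSubmersive f hf))
  haveI : LocallyOfFiniteType (t ≫ q) := inferInstance
  haveI : LocallyOfFiniteType (m ≫ f) := by rw [hm]; infer_instance
  haveI : LocallyOfFiniteType m := locallyOfFiniteType_of_comp m f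
  haveI : LocallyOfFiniteType (t ≫ q ≫ g) := by
    rw [← Category.assoc, ← hm, Category.assoc]; infer_instance
  haveI : LocallyOfFiniteType (q ≫ g) := FppfSrc.locallyOfFiniteType_of_precomp_fppf t (q ≫ g)
  exact locallyOfFiniteType_of_proper q g

end Groth.Agent.SubmFTLib
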