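import Groth.Statements.S1811
import Groth.Agent.TwistShriek.Amplitude
-- import your own Groth.Agent.* helpers here

set_option autoImplicit false
set_option backward.isDefEq.respectTransparency false
set_option maxHeartbeats 800000
set_option synthInstance.maxHeartbeats 200000
universe u
open CategoryTheory CategoryTheory.Limits AlgebraicGeometry
open Groth.Agent
attribute [local instance] HasDerivedCategory.standard
open Dual

namespace Groth.Agent.S1811

/-- Let k be a field and X a scheme proper over k with dim X = d and structure morphism f : X → Spec k;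
assume the exactness instances used to define dualizing complexes on schemes (restriction of modules
to open subschemes and the functors M ↦ M~ on affine schemes preserve finite limits). Assume the
derived direct image Rf_* exists and preserves quasi-coherence of cohomology sheaves (both known
results), so that it restricts to a functor D_QCoh(O_X) → D_QCoh(O_{Spec k}), and let a :
D_QCoh(O_{Spec k}) → D_QCoh(O_X) be a right adjoint of this restricted functor. Let O be an object
of D_QCoh(O_{Spec k}) isomorphic to the structure sheaf placed in degree 0, and put ω = a(O). Then ω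
is a dualizing complex on X; its cohomology sheaves H^i(ω) vanish for i < −d and for i > 0; and for
every i ≤ 0 the set of points of X at which H^i(ω) has nonzero stalk has Krull dimension at most −i.
(The published statement has further parts, which are not asserted here, and is phrased with the
upper shriek f^!; for the proper morphism f, f^!O is the a(O) used here.) -/
theorem result (k : Type u) [Field k] (X : Scheme.{u}) [X.Over (Spec (CommRingCat.of k))] [IsProper (X ↘ Spec (CommRingCat.of k))] [∀ (U : Scheme.{u}) (j : U ⟶ X) [IsOpenImmersion j], PreservesFiniteLimits (Scheme.Modules.restrictFunctor j)] [∀ (R : CommRingCat.{u}), PreservesFiniteLimits (tilde.functor R)] (d : ℕ) (hd : topologicalKrullDim X = d) (f : X ⟶ Spec (CommRingCat.of k)) (hf : f = X ↘ Spec (CommRingCat.of k)) [DCoh.HasRpush f] (h : ∀ K : DCoh.D X, DCoh.IsQCohD K → DCoh.IsQCohD ((DCoh.Rpush f).obj K)) (a : DCoh.DQCoh (Spec (CommRingCat.of k)) ⥤ DCoh.DQCoh X) (adj : (ObjectProperty.lift DCoh.IsQCohD (ObjectProperty.ι DCoh.IsQCohD ⋙ DCoh.Rpush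 f) (fun K => h K.obj K.property)) ⊣ a) (O : DCoh.DQCoh (Spec (CommRingCat.of k))) (hO : Nonempty (O.obj ≅ DCoh.inD (Spec (CommRingCat.of k)) (Coh.structureModule (Spec (CommRingCat.of k))))) : Dual2.IsDualizingSch X (a.obj O).obj ∧ (∀ i : ℤ, (i < -(d : ℤ) ∨ 0 < i) → IsZero (DCoh.HD (a.obj O).obj i)) ∧ ∀ (i : ℤ) (n : ℕ), (n : ℤ) = -i → topologicalKrullDim {x : X | Nontrivial ((DCoh.HD (a.obj O).obj i).presheaf.stalk x)} ≤ (n : WithBot ℕ∞) := by
  haveI : IsProper f := hf ▸ inferInstance
  haveI : IsNoetherianRing (CommRingCat.of k) := inferInstanceAs (IsNoetherianRing k)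
  haveI : IsLocallyNoetherian X := LocallyOfFiniteType.isLocallyNoetherian f
  haveI : CompactSpace X := QuasiCompact.compactSpace_of_compactSpace f
  haveI : QuasiSeparatedSpace X := quasiSeparatedSpace_of_quasiSeparated f
  let Y := Spec (CommRingCat.of k)
  have hV : IsAffineOpen (⊤ : Y.Opens) := isAffineOpen_top Y
  have hfield : IsField Γ(Y, ⊤) :=
    (Scheme.ΓSpecIso (CommRingCat.of k)).commRingCatIsoToRingEquiv.toMulEquiv.isField (Field.toIsField k)
  haveI : IsOpenImmersion hV.fromSpec := inferInstance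
  have hd0 := TwistShriek.isDualizing_inD_of_isField hfield
  let eA : (DCoh.restrictD hV.fromSpec).obj O.obj ≅
      (DCoh.tildeD (CommRingCat.of Γ(Y, ⊤))).obj (Dual.inD Γ(Y, ⊤) Γ(Y, ⊤)) :=
    (DCoh.restrictD hV.fromSpec).mapIso hO.some ≪≫
      ((Scheme.Modules.restrictFunctor hV.fromSpec).mapDerivedCategorySingleFunctor 0).app _ ≪≫
      (DerivedCategory.singleFunctor (Spec (CommRingCat.of Γ(Y, ⊤))).Modules 0).mapIso
        (DCohLib.restrictUnit hV.fromSpec) ≪≫ (DualCxLib.tildeInD (CommRingCat.of Γ(Y, ⊤))).symm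
  have hO' : Dual2.IsDualizingSch Y O.obj := TwistShriek.isDualizingSch_of_cover O.obj
    (ι := PUnit.{1}) (fun _ => Γ(Y, ⊤)) (fun _ => hV.fromSpec)
    (fun y => ⟨⟨⟩, (Set.ext_iff.1 hV.range_fromSpec y).2 trivial⟩) (fun _ => ⟨_, hd0, ⟨eA⟩⟩)
  have hb := TwistShriek.bddCoh_of_isDualizingSch hO'
  obtain ⟨N, hN⟩ := DQCohBrown.exists_bound_rightAdjoint f h a adj
  obtain ⟨hc, c₀, hc₀⟩ := hb
  haveI : (a.obj O).obj.IsGE (c₀ - 1 - N + 1) := (DerivedCategory.isGE_iff _ _).2 fun i hi =>
    hN O (c₀ - 1) (fun j hj => DerivedCategory.isZero_of_isGE O.obj c₀ j (by omega)) i (by omega)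
  have hn : ∀ x₀ : X, IsClosed ({x₀} : Set X) → TwistShriek.NormalizedAt (a.obj O).obj x₀ := fun x₀ hx₀ => by
    obtain ⟨B, _, j, _, ω, m, _, hm, he, hd', hv⟩ := TwistShriek.exists_stalk_closed f h a adj O ⟨hc, c₀, hc₀⟩
      (c₀ - 1 - N + 1) x₀ hx₀ ⊤ hV trivial _ hd0 eA
    exact ⟨B, inferInstance, j, inferInstance, ω, m, inferInstance, hm, he, hd', fun i hi =>
      hv i fun n _ => TwistShriek.subsingleton_HK_inD_of_isField hfield _ hi⟩
  exact ⟨TwistShriek.isDualizingSch_rightAdjoint f h a adj O hO',
    TwistShriek.amplitude_of_normalizedAt _ (TwistShriek.isCohD_rightAdjoint f h a adj O ⟨hc, c₀, hc₀⟩) hn d hd⟩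

end Groth.Agent.S1811
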