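import Groth.Statements.S1753
import Groth.Agent.TopVanishLib.Compact

set_option autoImplicit false
universe u
open CategoryTheory AlgebraicGeometry
open Dual

namespace Groth.Agent.S1753

/-- Let U be a variety over a field k (integral, separated and of finite type over k) and F a coherent
O_U-module with H^d(U, F) ≠ 0. Then dim U ≥ d, and if dim U = d then U is proper over k. -/
theorem result (k : Type u) [Field k] (U : Scheme.{u}) (f : U ⟶ Spec (CommRingCat.of k)) [IsIntegral U] [IsSeparated f] [LocallyOfFiniteType f] [QuasiCompact f] (F : U.Modules) (hF : Coh.IsCoh F) (d : ℕ) (h : Nontrivial (Coh.HH U F d)) : (d : WithBot ℕ∞) ≤ topologicalKrullDim U ∧ (topologicalKrullDim U = d → IsProper f) := by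
  haveI : IsLocallyNoetherian U := LocallyOfFiniteType.isLocallyNoetherian f
  haveI : CompactSpace U := QuasiCompact.compactSpace_of_compactSpace f
  haveI : IsNoetherian U := {}
  haveI := hF.1
  obtain ⟨-, n, -, hn, -, -⟩ := Groth.Agent.DimFormulaLib.field_dims f (genericPoint U)
  have hdim := Groth.Agent.DimFormulaLib.topologicalKrullDim_eq_trdeg f n hn
  refine ⟨?_, fun hd => ?_⟩
  · by_contra hlt
    have hnd : n < d := by
      by_contra hle
      exact hlt (hdim ▸ Nat.cast_le.2 (not_lt.1 hle))
    exact not_nontrivial_iff_subsingleton.2 (Groth.Agent.CurveLib.subsingleton_HH_of_dim F hdim.le hnd) h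
  · by_contra hf
    exact not_nontrivial_iff_subsingleton.2
      (Groth.Agent.TopVanishLib.subsingleton_of_not_proper f F d hd hf) h

end Groth.Agent.S1753
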