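import Mathlib
import Groth.Agent.AdicDecay.Basic
import Groth.Statements.S17540

set_option autoImplicit false
universe u v w
open W4c5adicflatcompl
open CAlg

namespace Groth.Agent.S17540

/-- Let A be I-adically complete, M an I-adically complete A-module and m : Z → M a family. The images
of the m z generate M/IM (the span of the family together with IM is all of M) if and only if the
family I-adically generates M: every x in M is the I-adically convergent sum of g z • m z for some
I-adically decaying function g : Z → A. -/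
theorem result {A : Type u} [CommRing A] (I : Ideal A) [IsAdicComplete I A]
    (M : Type v) [AddCommGroup M] [Module A M] [IsAdicComplete I M] (Z : Type w) (m : Z → M) :
    Submodule.span A (Set.range m) ⊔ I • ⊤ = ⊤ ↔
      ∀ x : M, ∃ g : Z → A, g ∈ decaying I Z A ∧
        ∀ n : ℕ, ∃ S : Finset Z,
          (∀ z, z ∉ S → g z • m z ∈ (I ^ n • ⊤ : Submodule A M)) ∧
          x - (∑ z ∈ S, g z • m z) ∈ (I ^ n • ⊤ : Submodule A M) := by
  classical
  constructor
  · intro hs x
    have hstep : ∀ (k : ℕ) (y : M), y ∈ (I ^ k • ⊤ : Submodule A M) →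
        ∃ c : Z →₀ A, (∀ z, c z ∈ I ^ k) ∧ y - (c.sum fun z a => a • m z) ∈ (I ^ (k + 1) • ⊤ : Submodule A M) := by
      intro k y hy
      rw [← hs, Submodule.smul_sup, ← smul_assoc, smul_eq_mul, ← pow_succ, Submodule.mem_sup] at hy
      obtain ⟨a, ha, b, hb, rfl⟩ := hy
      obtain ⟨c, hc, rfl⟩ := (Submodule.mem_ideal_smul_span_iff_exists_sum _ _ _).mp ha
      exact ⟨c, hc, by simpa using hb⟩
    choose c hc hcy using hstep
    let y : (k : ℕ) → {y : M // y ∈ (I ^ k • ⊤ : Submodule A M)} :=
      Nat.rec ⟨x, by simp⟩ fun k p => ⟨_, hcy k p.1 p.2⟩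
    let G : ℕ → (Z →₀ A) := Nat.rec 0 fun k g => g + c k (y k).1 (y k).2
    have hG : ∀ k, x - ((G k).sum fun z a => a • m z) = (y k).1 := by
      intro k
      induction k with
      | zero => simp [G, y]
      | succ k ih =>
        show x - ((G k + c k (y k).1 (y k).2).sum fun z a => a • m z) = (y k).1 - _
        rw [Finsupp.sum_add_index' (h := fun z a => a • m z) (fun z => zero_smul A (m z)) (fun z a b => add_smul a b (m z)), sub_add_eq_sub_sub, ih]
    have hGd : ∀ z {k l : ℕ}, k ≤ l → G l z - G k z ∈ I ^ k := by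
      intro z k l hkl
      induction hkl with
      | refl => simp
      | @step l hkl ih =>
        show G l z + c l (y l).1 (y l).2 z - G k z ∈ I ^ k
        rw [add_sub_right_comm]
        exact add_mem ih (Ideal.pow_le_pow_right hkl (hc l _ _ z))
    have hcau : ∀ z {k l : ℕ}, k ≤ l → G k z ≡ G l z [SMOD (I ^ k • ⊤ : Submodule A A)] := fun z k l hkl => by
      rw [SModEq.sub_mem, smul_eq_mul, Ideal.mul_top, ← neg_sub]
      exact neg_mem (hGd z hkl)
    choose g hg using fun z => IsPrecomplete.prec (inferInstance : IsPrecomplete I A) (hcau z)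
    have hgG : ∀ z k, g z - G k z ∈ I ^ k := fun z k => by
      have := SModEq.sub_mem.mp (hg z k)
      rw [smul_eq_mul, Ideal.mul_top] at this
      rw [← neg_sub]; exact neg_mem this
    have hout : ∀ n z, z ∉ (G n).support → g z ∈ I ^ n := fun n z hz => by
      have := hgG z n
      rwa [Finsupp.notMem_support_iff.mp hz, sub_zero] at this
    refine ⟨g, fun n => (G n).support.finite_toSet.subset fun z hz => ?_, fun n => ⟨(G n).support, fun z hz => ?_, ?_⟩⟩
    · by_contra h
      refine hz ?_
      rw [smul_eq_mul, Ideal.mul_top]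
      exact hout n z h
    · exact Submodule.smul_mem_smul (hout n z hz) trivial
    · have h1 : x - ((G n).sum fun z a => a • m z) ∈ (I ^ n • ⊤ : Submodule A M) := by
        rw [hG n]; exact (y n).2
      have h2 : ∑ z ∈ (G n).support, (g z - G n z) • m z ∈ (I ^ n • ⊤ : Submodule A M) :=
        sum_mem fun z _ => Submodule.smul_mem_smul (hgG z n) trivial
      have := sub_mem h1 h2
      simp only [Finsupp.sum, sub_smul, Finset.sum_sub_distrib, sub_sub, add_sub_cancel] at this
      exact this
  · intro h
    refine eq_top_iff.mpr fun x _ => ?_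
    obtain ⟨g, -, hg⟩ := h x
    obtain ⟨S, -, hS⟩ := hg 1
    rw [pow_one] at hS
    rw [← sub_add_cancel x (∑ z ∈ S, g z • m z)]
    exact add_mem (Submodule.mem_sup_right hS) (Submodule.mem_sup_left
      (sum_mem fun z _ => Submodule.smul_mem _ _ (Submodule.subset_span ⟨z, rfl⟩)))

end Groth.Agent.S17540
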