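import Mathlib
import Groth.Agent.AdicDecay.Basic
import Groth.Statements.S17544

set_option autoImplicit false
universe u v w
open W4c5adicflatcompl
open CAlg

namespace Groth.Agent.S17544

/-- For a Noetherian ring A which is I-adically complete, a set Z and n ≥ 0, reduction modulo I^n maps
the decaying functions Z → A onto the finitely supported functions Z → A/I^n, and its kernel, the
decaying functions with all values in I^n, equals I^n times the module of decaying functions; so
(A/I^n) ⊗ F_dec(Z, A) → F_fin(Z, A/I^n) is bijective. -/
theorem result {A : Type u} [CommRing A] [IsNoetherianRing A]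
    (I : Ideal A) [IsAdicComplete I A] (Z : Type v) (n : ℕ) :
    (∀ g : Z →₀ A ⧸ I ^ n, ∃ f : decaying I Z A,
        ∀ z, Ideal.Quotient.mk (I ^ n) ((f : Z → A) z) = g z) ∧
      ∀ f : decaying I Z A,
        f ∈ (I ^ n • ⊤ : Submodule A (decaying I Z A)) ↔ ∀ z, (f : Z → A) z ∈ I ^ n := by
  classical
  refine ⟨fun g => ?_, fun f => ⟨fun h z => ?_, fun h => ?_⟩⟩
  · choose a ha using fun z => Ideal.Quotient.mk_surjective (I := I ^ n) (g z)
    refine ⟨⟨fun z => if z ∈ g.support then a z else 0, fun k => g.support.finite_toSet.subset fun z hz => ?_⟩,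
      fun z => ?_⟩
    · by_contra h
      exact hz (by simp only [if_neg (show z ∉ g.support from h)]; exact zero_mem _)
    · show Ideal.Quotient.mk _ (if z ∈ g.support then a z else 0) = g z
      split_ifs with hz
      · exact ha z
      · rw [map_zero, Finsupp.notMem_support_iff.mp hz]
  · have := AdicDecay.apply_mem_of_mem_smul_top h z
    rwa [smul_eq_mul, Ideal.mul_top] at this
  · refine AdicDecay.mem_smul_top_of_forall (IsNoetherian.noetherian I) f fun z => ?_
    rw [smul_eq_mul, Ideal.mul_top]
    exact h z

end Groth.Agent.S17544
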