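import Mathlib
import Groth.Agent.AdicDecay.Maps
import Groth.Agent.AdicDecay.Flat
import Groth.Statements.S17549

set_option autoImplicit false
universe u
open W4c5adicflatcompl
open CAlg

namespace Groth.Agent.S17549

/-- Over a Noetherian ring A with I-adic completion Â, an A-module P is I-adically projective
(I-adically complete, and every A-linear map from P to the target of a surjection between I-adically
complete modules lifts along that surjection) exactly when P is a retract of some module of
I-adically decaying functions Z → Â: there are a set Z, an A-linear map i from P to the decaying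
functions Z → Â and an A-linear map r back with r ∘ i the identity of P. Test modules, P and Z live
in the universe of A. -/
theorem result {A : Type u} [CommRing A] [IsNoetherianRing A]
    (I : Ideal A) (P : Type u) [AddCommGroup P] [Module A P] :
    IsAdicProjective I P ↔
      ∃ (Z : Type u) (i : P →ₗ[A] decaying I Z (AdicCompletion I A))
        (r : decaying I Z (AdicCompletion I A) →ₗ[A] P), r ∘ₗ i = LinearMap.id := by
  classical
  open AdicDecay in
  have hI : I.FG := IsNoetherian.noetherian I
  have := AdicCompletion.isAdicComplete (M := A) hI
  constructor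
  · rintro ⟨hP, hlift⟩
    have hdec : IsAdicComplete I (decaying I P (AdicCompletion I A)) := isAdicComplete_decaying hI
    let φ : decaying I P (AdicCompletion I A) →ₗ[A] P := ofSingle id
    have hφ : Function.Surjective φ := fun p =>
      ⟨single I p (1 : AdicCompletion I A), ofSingle_single_one id p⟩
    obtain ⟨i, hi⟩ := hlift _ P hdec hP φ hφ LinearMap.id
    exact ⟨P, i, φ, hi⟩
  · rintro ⟨Z, i, r, hri⟩
    have hdec : IsAdicComplete I (decaying I Z (AdicCompletion I A)) := isAdicComplete_decaying hI
    have hr : ∀ p, r (i p) = p := fun p => LinearMap.congr_fun hri p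
    have hP : IsAdicComplete I P := by
      refine { toIsHausdorff := ⟨fun p hp => ?_⟩, toIsPrecomplete := ⟨fun F hF => ?_⟩ }
      · rw [← hr p, IsHausdorff.haus (inferInstance : IsHausdorff I (decaying I Z (AdicCompletion I A))) (i p)
          fun n => SModEq.zero.mpr (map_mem_smul_top i (SModEq.zero.mp (hp n))), map_zero]
      · obtain ⟨L, hL⟩ := IsPrecomplete.prec (inferInstance : IsPrecomplete I (decaying I Z (AdicCompletion I A)))
          (f := fun n => i (F n)) fun {m n} h => SModEq.sub_mem.mpr (by
            rw [← map_sub]; exact map_mem_smul_top i (SModEq.sub_mem.mp (hF h)))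
        refine ⟨r L, fun n => SModEq.sub_mem.mpr ?_⟩
        have := map_mem_smul_top r (SModEq.sub_mem.mp (hL n))
        simpa [map_sub, hr] using this
    refine ⟨hP, fun M N _ _ _ _ hM hN φ hφ ψ => ?_⟩
    have := hM
    have := hN
    choose m hm using fun z => hφ (ψ (r (single I z (1 : AdicCompletion I A))))
    refine ⟨ofSingle m ∘ₗ i, ?_⟩
    have h : φ ∘ₗ ofSingle m = ψ ∘ₗ r := ext_single_one hI fun z => by
      simp [ofSingle_single_one, hm]
    rw [← LinearMap.comp_assoc, h, LinearMap.comp_assoc, hri, LinearMap.comp_id]

end Groth.Agent.S17549
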