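import Groth.Statements.S1755
import Groth.Agent.KollarLib.Quotient
-- import your own Groth.Agent.* helpers here

set_option autoImplicit false
universe u
open LocCoh

namespace Groth.Agent.S1755

/-- Kollár's criterion for finiteness of first local cohomology, sufficiency direction, in affine form.
Let A be a Noetherian ring, I an ideal and M a finite A-module. Suppose that for every associated
prime p of M not containing I, every prime q containing both p and I, and every associated prime P
of the completion C of the local ring A_q/pA_q at its maximal ideal, the quotient C/P has Krull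
dimension at least 2. Then H¹_I(M) is a finite A-module. (The criterion is an equivalence; only this
implication is asserted here.) -/
theorem result (A : Type u) [CommRing A] [IsNoetherianRing A] (I : Ideal A) (M : Type u) [AddCommGroup M] [Module A M] [Module.Finite A M] (h : ∀ p : Ideal A, p ∈ associatedPrimes A M → ¬ I ≤ p → ∀ (q : PrimeSpectrum A), p ≤ q.asIdeal → I ≤ q.asIdeal → ∀ P ∈ associatedPrimes (AdicCompletion ((IsLocalRing.maximalIdeal (Localization.AtPrime q.asIdeal)).map (Ideal.Quotient.mk (p.map (algebraMap A (Localization.AtPrime q.asIdeal))))) (Localization.AtPrime q.asIdeal ⧸ p.map (algebraMap A (Localization.AtPrime q.asIdeal)))) (AdicCompletion ((IsLocalRing.maximalIdeal (Localization.AtPrime q.asIdeal)).map (Ideal.Quotient.mk (p.map (algebraMap A (Localization.AtPrime q.asIdeal))))) (Localization.AtPrime q.asIdeal ⧸ p.map (algebraMap A (Localization.AtPrime q.asIdeal)))), (2 : WithBot ℕ∞) ≤ ringKrullDim (AdicCompletion ((IsLocalRing.maximalIdeal (Localization.AtPrime q.asIdeal)).map (Ideal.Quotient.mk (p.map (algebraMap A (Localization.AtPrime q.asIdeal)))))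 (Localization.AtPrime q.asIdeal ⧸ p.map (algebraMap A (Localization.AtPrime q.asIdeal))) ⧸ P)) : Module.Finite A (LocCoh.H I 1 M) := by
  refine KollarLib.finite_H1_of_quotients I M fun p hp hIp q _ hIq hpq P hP => ?_
  haveI := hp.1
  let A' := Localization.AtPrime q
  haveI : IsNoetherianRing A' := IsLocalization.isNoetherianRing q.primeCompl A' inferInstance
  obtain ⟨_, _, _, _, -⟩ := RatliffLib.compl_facts A'
  let P₀ : Ideal A' := p.map (algebraMap A A')
  have hP₀ : P₀ ≠ ⊤ := (IsLocalization.isPrime_of_isPrime_disjoint q.primeCompl A' p hp.1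
    (Set.disjoint_left.2 fun x hx hxp => hx (hpq hxp))).ne_top
  let m := IsLocalRing.maximalIdeal A'
  let f := CMCat.complHom (Ideal.Quotient.mk P₀) m (m.map (Ideal.Quotient.mk P₀)) le_rfl
  haveI : IsNoetherianRing (AdicCompletion (m.map (Ideal.Quotient.mk P₀)) (A' ⧸ P₀)) :=
    RegLocal.isNoetherianRing_completion _ _
  obtain ⟨h1, -, h3⟩ := KollarLib.ass_map f (CMCat.complHom_mk_surjective m P₀) _
    (CMCat.ker_complHom_mk m P₀ (IsLocalRing.maximalIdeal.isMaximal A').ne_top hP₀) hP
  rw [h3]
  exact h p hp hIp ⟨q, inferInstance⟩ hpq hIq _ h1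

end Groth.Agent.S1755
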