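import Mathlib
import Groth.Agent.AdicDecay.Free
import Groth.Statements.S17550

set_option autoImplicit false
universe u
open W4c5adicflatcompl
open scoped TensorProduct
open CAlg

namespace Groth.Agent.S17550

/-- For Noetherian rings A and B with B an A-algebra, ideals I of A and J of B with I B contained in J,
and an I-adically free A-module P, the J-adic completion of B ⊗ P is a J-adically free B-module (the
completed base change of an adically free module is adically free). -/
theorem result {A B : Type u} [CommRing A] [CommRing B] [Algebra A B]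
    [IsNoetherianRing A] [IsNoetherianRing B] (I : Ideal A) (J : Ideal B)
    (hIJ : I.map (algebraMap A B) ≤ J) (P : Type u) [AddCommGroup P] [Module A P]
    (hP : IsAdicFree I P) :
    IsAdicFree J (AdicCompletion J (B ⊗[A] P)) := by
  classical
  open AdicDecay in
  have hI : I.FG := IsNoetherian.noetherian I
  have hJ : J.FG := IsNoetherian.noetherian J
  obtain ⟨Z, ⟨e⟩⟩ := hP
  let x : Z → P := fun z => e.symm (single I z (1 : AdicCompletion I A))
  let f := Finsupp.linearCombination A x
  have hcoord : ∀ c y, (e (f c) : Z → AdicCompletion I A) y = AdicCompletion.of I A (c y) := fun c y => by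
    induction c using Finsupp.induction_linear with
    | zero => simp [f]
    | add a b ha hb =>
      rw [map_add, map_add, Finsupp.add_apply, map_add, Submodule.coe_add, Pi.add_apply, ha, hb]
    | single z a =>
      have h1 : (1 : AdicCompletion I A) = AdicCompletion.of I A 1 :=
        (map_one (algebraMap A (AdicCompletion I A))).symm
      simp only [f, x, Finsupp.linearCombination_single, map_smul, LinearEquiv.apply_symm_apply,
        Submodule.coe_smul, coe_single, Pi.smul_apply, Pi.single_apply, Finsupp.single_apply, h1]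
      by_cases hyz : y = z
      · subst hyz; simp [← map_smul]
      · simp [hyz, Ne.symm hyz]
  have hker : ∀ n (y : AdicCompletion I A), y.val n = 0 → y ∈ (I ^ n • ⊤ : Submodule A (AdicCompletion I A)) :=
    fun n y hy => by rw [AdicCompletion.pow_smul_top_eq_ker_eval hI]; exact hy
  have hs : ∀ n, LinearMap.range f ⊔ (I ^ n • ⊤ : Submodule A P) = ⊤ := fun n => eq_top_iff.mpr fun p _ => by
    choose r hr using fun z => Submodule.Quotient.mk_surjective _ (((e p : Z → AdicCompletion I A) z).val n)
    let S := ((e p).2 n).toFinset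
    let c : Z →₀ A := Finsupp.onFinset S (fun z => if z ∈ S then r z else 0) fun z hz => by
      by_contra h; simp [h] at hz
    rw [← add_sub_cancel (f c) p]
    refine add_mem (Submodule.mem_sup_left ⟨c, rfl⟩) (Submodule.mem_sup_right ?_)
    have := map_mem_smul_top (n := n) e.symm.toLinearMap (mem_smul_top_of_forall hI (n := n) (e p - e (f c)) fun z => ?_)
    · simpa [map_sub] using this
    rw [Submodule.coe_sub, Pi.sub_apply, hcoord]
    by_cases hz : z ∈ S
    · refine hker n _ ?_
      rw [AdicCompletion.val_sub_apply, AdicCompletion.of_apply, ← hr z, show c z = r z from if_pos hz]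
      exact sub_self _
    · rw [show c z = 0 from if_neg hz, map_zero, sub_zero]
      exact not_not.mp fun h' => hz ((Set.Finite.mem_toFinset _).mpr h')
  have hi : ∀ n c, f c ∈ (I ^ n • ⊤ : Submodule A P) → c ∈ (I ^ n • ⊤ : Submodule A (Z →₀ A)) := fun n c hc => by
    refine mem_smul_top_finsupp fun z => ?_
    have h1 := apply_mem_of_mem_smul_top (map_mem_smul_top e.toLinearMap hc) z
    rw [LinearEquiv.coe_coe, hcoord] at h1
    have h2 := AdicCompletion.pow_smul_top_le_ker_eval (I := I) (M := A) n h1
    rw [LinearMap.mem_ker, AdicCompletion.eval_of] at h2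
    exact (Submodule.Quotient.mk_eq_zero _).mp h2
  let fB := Finsupp.linearCombination B fun z => (1 : B) ⊗ₜ[A] x z
  have hIJn : ∀ n, ∀ a ∈ I ^ n, algebraMap A B a ∈ J ^ n := fun n a ha => by
    have h1 := Ideal.mem_map_of_mem (algebraMap A B) ha
    rw [Ideal.map_pow] at h1
    exact Ideal.pow_right_mono hIJ n h1
  have hfB : ∀ c : Z →₀ A, fB (c.mapRange (algebraMap A B) (map_zero _)) = (1 : B) ⊗ₜ[A] f c := fun c => by
    induction c using Finsupp.induction_linear with
    | zero => simp [f]
    | add a b ha hb => rw [Finsupp.mapRange_add (map_add _), map_add, map_add, TensorProduct.tmul_add, ha, hb]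
    | single z a => simp [fB, f, TensorProduct.tmul_smul]
  have hsB : ∀ n, LinearMap.range fB ⊔ (J ^ n • ⊤ : Submodule B (B ⊗[A] P)) = ⊤ := fun n => eq_top_iff.mpr fun y _ => by
    induction y with
    | zero => exact zero_mem _
    | tmul b p =>
      rw [← mul_one b, ← smul_eq_mul, ← TensorProduct.smul_tmul']
      refine Submodule.smul_mem _ _ ?_
      obtain ⟨_, ⟨c, rfl⟩, w, hw, rfl⟩ := Submodule.mem_sup.mp ((hs n).ge (trivial : p ∈ ⊤))
      rw [TensorProduct.tmul_add]
      refine add_mem (Submodule.mem_sup_left ⟨_, hfB c⟩) (Submodule.mem_sup_right ?_)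
      refine Submodule.smul_induction_on hw (fun a ha p _ => ?_)
        (fun u v hu hv => by rw [TensorProduct.tmul_add]; exact add_mem hu hv)
      rw [TensorProduct.tmul_smul, ← algebraMap_smul B a]
      exact Submodule.smul_mem_smul (hIJn n a ha) trivial
    | add u v hu hv => exact add_mem (hu trivial) (hv trivial)
  have hiB : ∀ n d, fB d ∈ (J ^ n • ⊤ : Submodule B (B ⊗[A] P)) → d ∈ (J ^ n • ⊤ : Submodule B (Z →₀ B)) := by
    intro n d hd
    let Q := (Z →₀ A) ⧸ (I ^ n • ⊤ : Submodule A (Z →₀ A))
    let fn : Q →ₗ[A] P ⧸ (I ^ n • ⊤ : Submodule A P) :=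
      Submodule.mapQ _ _ f fun v hv => map_mem_smul_top f hv
    have hfn : Function.Bijective fn := by
      refine ⟨(injective_iff_map_eq_zero _).mpr fun v hv => ?_, fun p => ?_⟩
      · obtain ⟨v, rfl⟩ := Submodule.Quotient.mk_surjective _ v
        exact (Submodule.Quotient.mk_eq_zero _).mpr (hi n v ((Submodule.Quotient.mk_eq_zero _).mp hv))
      · obtain ⟨p, rfl⟩ := Submodule.Quotient.mk_surjective _ p
        obtain ⟨_, ⟨c, rfl⟩, w, hw, rfl⟩ := Submodule.mem_sup.mp ((hs n).ge (trivial : p ∈ ⊤))
        exact ⟨Submodule.Quotient.mk c, by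
          rw [Submodule.Quotient.mk_add, (Submodule.Quotient.mk_eq_zero _).mpr hw, add_zero]; rfl⟩
    let R := (Z →₀ B) ⧸ (J ^ n • ⊤ : Submodule B (Z →₀ B))
    let θ : Q →ₗ[A] R := Submodule.liftQ _ (((J ^ n • ⊤ : Submodule B (Z →₀ B)).mkQ.restrictScalars A) ∘ₗ
        Finsupp.mapRange.linearMap (Algebra.linearMap A B)) fun v hv => by
      refine Submodule.smul_induction_on hv (fun a ha w _ => ?_) (fun u v hu hv => add_mem hu hv)
      rw [LinearMap.mem_ker, map_smul, ← algebraMap_smul B a]
      obtain ⟨w', hw'⟩ := Submodule.mkQ_surjective _ (((J ^ n • ⊤ : Submodule B (Z →₀ B)).mkQ.restrictScalars A ∘ₗ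
        Finsupp.mapRange.linearMap (Algebra.linearMap A B)) w)
      rw [← hw', ← map_smul]
      exact (Submodule.Quotient.mk_eq_zero _).mpr (Submodule.smul_mem_smul (hIJn n a ha) trivial)
    let g : P →ₗ[A] R := θ ∘ₗ (LinearEquiv.ofBijective fn hfn).symm.toLinearMap ∘ₗ Submodule.mkQ _
    let G : B ⊗[A] P →ₗ[B] R := LinearMap.liftBaseChange B g
    have hG : G ∘ₗ fB = Submodule.mkQ _ := by
      refine Finsupp.lhom_ext' fun z => LinearMap.ext_ring ?_
      have : (LinearEquiv.ofBijective fn hfn).symm (Submodule.Quotient.mk (x z)) =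
          Submodule.Quotient.mk (Finsupp.single z 1) := by
        rw [LinearEquiv.symm_apply_eq]
        show _ = Submodule.Quotient.mk (f (Finsupp.single z 1))
        simp [f]
      simp [G, g, fB, θ, this]
      erw [Submodule.liftQ_apply]
      simp
      rfl
    have hzero : ∀ w ∈ (J ^ n • ⊤ : Submodule B (B ⊗[A] P)), G w = 0 := fun w hw =>
      Submodule.smul_induction_on hw (fun a ha v _ => by
        rw [map_smul]
        obtain ⟨v', hv'⟩ := Submodule.mkQ_surjective _ (G v)
        rw [← hv', ← map_smul]
        exact (Submodule.Quotient.mk_eq_zero _).mpr (Submodule.smul_mem_smul ha trivial))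
        (fun u v hu hv => by rw [map_add, hu, hv, add_zero])
    have := hzero _ hd
    rw [← LinearMap.comp_apply, hG] at this
    exact (Submodule.Quotient.mk_eq_zero _).mp this
  have := AdicCompletion.isAdicComplete (M := B) hJ
  exact ⟨Z, ⟨((LinearEquiv.ofBijective ((AdicCompletion.map J fB).restrictScalars B)
    (map_bijective_of_levels fB hsB hiB)).symm).trans (finsuppEquiv J Z B)⟩⟩

end Groth.Agent.S17550
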