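import Mathlib
import Groth.Agent.AdicDecay.Free
import Groth.Statements.S17551

set_option autoImplicit false
universe u
open W4c5adicflatcompl
open CAlg

namespace Groth.Agent.S17551

/-- For a complete Noetherian local ring A (maximal ideal m, m-adic completion Â) and an m-adic system
(M n, ψ n : M (n+1) → M n) of A-modules, meaning that each M n is a module over A/m^(n+1) and each ψ
n is surjective with kernel m^(n+1) M (n+1), if every M n is flat over A/m^(n+1) then the inverse
limit of the system is m-adically free (isomorphic to the m-adically decaying functions Z → Â for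
some set Z), and for every n its projection to M n is surjective with kernel m^(n+1) times the
limit. A, the M n and Z share one universe. -/
theorem result {A : Type u} [CommRing A] [IsNoetherianRing A] [IsLocalRing A]
    [IsAdicComplete (IsLocalRing.maximalIdeal A) A]
    (M : ℕ → Type u) [∀ n, AddCommGroup (M n)] [∀ n, Module A (M n)]
    [∀ n, Module (A ⧸ IsLocalRing.maximalIdeal A ^ (n + 1)) (M n)]
    [∀ n, IsScalarTower A (A ⧸ IsLocalRing.maximalIdeal A ^ (n + 1)) (M n)]
    [∀ n, Module.Flat (A ⧸ IsLocalRing.maximalIdeal A ^ (n + 1)) (M n)]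
    (ψ : ∀ n, M (n + 1) →ₗ[A] M n) (hψ : ∀ n, Function.Surjective (ψ n))
    (hker : ∀ n, LinearMap.ker (ψ n) =
      (IsLocalRing.maximalIdeal A ^ (n + 1) • ⊤ : Submodule A (M (n + 1)))) :
    IsAdicFree (IsLocalRing.maximalIdeal A) (sysLim M ψ) ∧
      ∀ n, Function.Surjective (sysProj M ψ n) ∧
        LinearMap.ker (sysProj M ψ n) =
          (IsLocalRing.maximalIdeal A ^ (n + 1) • ⊤ : Submodule A (sysLim M ψ)) := by
  classical
  open AdicDecay in
  let I := IsLocalRing.maximalIdeal A
  have hFG : I.FG := IsNoetherian.noetherian _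
  have hkill : ∀ (k : ℕ), ∀ a ∈ I ^ (k + 1), ∀ v : M k, a • v = 0 := fun k a ha v => by
    rw [← algebraMap_smul (A ⧸ I ^ (k + 1)) a v, Ideal.Quotient.algebraMap_eq,
      Ideal.Quotient.eq_zero_iff_mem.mpr ha, zero_smul]
  have hkill' : ∀ (k : ℕ), (I ^ (k + 1) • ⊤ : Submodule A (M k)) = ⊥ := fun k => by
    rw [eq_bot_iff]
    exact Submodule.smul_le.mpr fun a ha v _ => (Submodule.mem_bot A).mpr (hkill k a ha v)
  let Φ : ∀ k, M k →ₗ[A] M 0 := Nat.rec LinearMap.id fun k p => p ∘ₗ ψ k
  have hΦker : ∀ k, LinearMap.ker (Φ k) = I • ⊤ ∧ Function.Surjective (Φ k) := by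
    intro k
    induction k with
    | zero =>
      refine ⟨?_, Function.surjective_id⟩
      show LinearMap.ker (LinearMap.id : M 0 →ₗ[A] M 0) = _
      have h0 := hkill' 0
      rw [zero_add, pow_one] at h0
      rw [h0, LinearMap.ker_id]
    | succ k ih =>
      refine ⟨?_, ih.2.comp (hψ k)⟩
      show LinearMap.ker (Φ k ∘ₗ ψ k) = _
      rw [LinearMap.ker_comp, ih.1]
      have : (I • ⊤ : Submodule A (M k)) = Submodule.map (ψ k) (I • ⊤ : Submodule A (M (k + 1))) := by
        rw [Submodule.map_smul'', Submodule.map_top, LinearMap.range_eq_top.mpr (hψ k)]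
      rw [this, Submodule.comap_map_eq, hker, sup_eq_left]
      exact Submodule.smul_mono (Ideal.pow_le_self (Nat.succ_ne_zero k)) le_rfl
  obtain ⟨Z, y, hys, hyi⟩ := exists_lift_basis I (M 0)
  choose pre hpre using hψ
  let xs : Z → ∀ k, M k := fun z => Nat.rec (y z) fun k v => pre k v
  let x : Z → sysLim M ψ := fun z => ⟨xs z, fun k => hpre k (xs z k)⟩
  let f : ∀ k, (Z →₀ A) →ₗ[A] M k := fun k => Finsupp.linearCombination A fun z => xs z k
  have hfψ : ∀ k v, ψ k (f (k + 1) v) = f k v := fun k v => by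
    rw [← LinearMap.comp_apply]
    congr 1
    refine Finsupp.lhom_ext' fun z => LinearMap.ext_ring ?_
    simp [f, xs, hpre]
  have hfΦ : ∀ k v, Φ k (f k v) = f 0 v := by
    intro k
    induction k with
    | zero => exact fun v => rfl
    | succ k ih => intro v; show Φ k (ψ k (f (k + 1) v)) = _; rw [hfψ, ih]
  have h0 : (I • ⊤ : Submodule A (M 0)) = ⊥ := by
    have := hkill' 0
    rwa [zero_add, pow_one] at this
  rw [h0, sup_bot_eq] at hys
  have hf : ∀ k, Function.Surjective (f k) ∧ LinearMap.ker (f k) = I ^ (k + 1) • ⊤ := by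
    intro k
    let R := A ⧸ I ^ (k + 1)
    let mk := Ideal.Quotient.mk (I ^ (k + 1))
    have hJ : IsNilpotent (I.map mk) := ⟨k + 1, by rw [← Ideal.map_pow, Ideal.map_quotient_self]; rfl⟩
    have hlc : ∀ d : Z →₀ A, Finsupp.linearCombination R (fun z => xs z k) (d.mapRange mk (map_zero _)) = f k d :=
      fun d => by
      induction d using Finsupp.induction_linear with
      | zero => simp [f]
      | add a b ha hb => rw [Finsupp.mapRange_add (map_add mk), map_add, ha, hb, map_add]
      | single z a =>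
        simp only [f, Finsupp.mapRange_single, Finsupp.linearCombination_single]
        exact algebraMap_smul R a (xs z k)
    have hJI : ∀ v ∈ (I.map mk • ⊤ : Submodule R (M k)), v ∈ (I • ⊤ : Submodule A (M k)) := fun v hv =>
      Submodule.smul_induction_on hv (fun r hr m _ => by
        obtain ⟨r, hr', rfl⟩ := (Ideal.mem_map_iff_of_surjective _ Ideal.Quotient.mk_surjective).mp hr
        rw [show mk r = algebraMap A R r from rfl, algebraMap_smul]
        exact Submodule.smul_mem_smul hr' trivial) (fun a b ha hb => add_mem ha hb)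
    have hIJ : ∀ v ∈ (I • ⊤ : Submodule A (M k)), v ∈ (I.map mk • ⊤ : Submodule R (M k)) := fun v hv =>
      Submodule.smul_induction_on hv (fun r hr m _ => by
        rw [← algebraMap_smul R r m]
        exact Submodule.smul_mem_smul (Ideal.mem_map_of_mem mk hr) trivial) (fun a b ha hb => add_mem ha hb)
    have hbij := bijective_linearCombination_of_flat hJ (fun z => xs z k) (eq_top_iff.mpr fun v _ => ?_)
      fun d hd z => ?_
    · refine ⟨fun v => ?_, le_antisymm (fun c hc => ?_) ?_⟩
      · obtain ⟨d, hd⟩ := hbij.2 v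
        obtain ⟨c, rfl⟩ := Finsupp.mapRange_surjective mk (map_zero _) Ideal.Quotient.mk_surjective d
        exact ⟨c, (hlc c).symm.trans hd⟩
      · refine mem_smul_top_finsupp fun z => ?_
        have hc0 : c.mapRange mk (map_zero _) = 0 := hbij.1 (by rw [hlc, map_zero]; exact hc)
        rw [smul_eq_mul, Ideal.mul_top, ← Ideal.Quotient.eq_zero_iff_mem]
        simpa using DFunLike.congr_fun hc0 z
      · refine Submodule.smul_le.mpr fun a ha v _ => ?_
        rw [LinearMap.mem_ker, map_smul]
        exact hkill k a ha _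
    · obtain ⟨c, hc⟩ : Φ k v ∈ LinearMap.range (f 0) := by
        show Φ k v ∈ LinearMap.range (Finsupp.linearCombination A y)
        rw [Finsupp.range_linearCombination, hys]; trivial
      rw [← add_sub_cancel (f k c) v]
      refine add_mem (Submodule.mem_sup_left ?_) (Submodule.mem_sup_right (hIJ _ ?_))
      · rw [← hlc, ← Finsupp.range_linearCombination]; exact ⟨_, rfl⟩
      · rw [← (hΦker k).1, LinearMap.mem_ker, map_sub, hfΦ, hc, sub_self]
    · obtain ⟨d, rfl⟩ := Finsupp.mapRange_surjective mk (map_zero _) Ideal.Quotient.mk_surjective d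
      rw [hlc] at hd
      have h1 := hJI _ hd
      rw [← (hΦker k).1, LinearMap.mem_ker, hfΦ] at h1
      have h2 : Finsupp.linearCombination A y d ∈ (I • ⊤ : Submodule A (M 0)) := by
        rw [show Finsupp.linearCombination A y d = f 0 d from rfl, h1]; exact zero_mem _
      simpa using Ideal.mem_map_of_mem mk (hyi d h2 z)
  let comp : ∀ k, AdicCompletion I (Z →₀ A) →ₗ[A] M k := fun k =>
    (Submodule.liftQ _ (f k) (hf k).2.ge) ∘ₗ AdicCompletion.eval I (Z →₀ A) (k + 1)
  have hcomp : ∀ k (c : AdicCompletion I (Z →₀ A)) v, Submodule.Quotient.mk v = c.val (k + 1) →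
      comp k c = f k v := fun k c v hv => by
    show Submodule.liftQ (I ^ (k + 1) • ⊤) (f k) (hf k).2.ge (c.val (k + 1)) = _
    rw [← hv]; rfl
  let Ψ : AdicCompletion I (Z →₀ A) →ₗ[A] sysLim M ψ := (LinearMap.pi comp).codRestrict _ fun c k => by
    obtain ⟨v, hv⟩ := Submodule.Quotient.mk_surjective _ (c.val (k + 1 + 1))
    show ψ k (comp (k + 1) c) = comp k c
    rw [hcomp (k + 1) c v hv, hfψ, hcomp k c v]
    rw [← c.2 (k + 1).le_succ, ← hv]
    rfl
  have hΨzero : ∀ c k, (Ψ c : ∀ k, M k) k = 0 ↔ c.val (k + 1) = 0 := fun c k => by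
    obtain ⟨v, hv⟩ := Submodule.Quotient.mk_surjective _ (c.val (k + 1))
    show comp k c = 0 ↔ _
    rw [hcomp k c v hv, ← hv, Submodule.Quotient.mk_eq_zero, ← (hf k).2, LinearMap.mem_ker]
  have hΨ : Function.Bijective Ψ := by
    refine ⟨(injective_iff_map_eq_zero _).mpr fun c hc => AdicCompletion.ext fun n => ?_, fun l => ?_⟩
    · have h1 := (hΨzero c n).mp (by rw [hc]; rfl)
      rw [AdicCompletion.val_zero_apply, ← c.2 n.le_succ, h1]
      exact map_zero _
    · choose a ha using fun k => (hf k).1 ((l : ∀ k, M k) k)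
      have hcau : ∀ n, a n ≡ a (n + 1) [SMOD (I ^ n • ⊤ : Submodule A (Z →₀ A))] := fun n => by
        refine SModEq.sub_mem.mpr (Submodule.smul_mono (Ideal.pow_le_pow_right n.le_succ) le_rfl ?_)
        rw [← (hf n).2, LinearMap.mem_ker, map_sub, ← hfψ n (a (n + 1)), ha n, ha (n + 1), l.2 n, sub_self]
      refine ⟨AdicCompletion.mk I _ (AdicCompletion.AdicCauchySequence.mk I _ a hcau), Subtype.ext (funext fun k => ?_)⟩
      show comp k (AdicCompletion.mk I (Z →₀ A) (AdicCompletion.AdicCauchySequence.mk I _ a hcau)) = _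
      rw [hcomp k _ (a (k + 1)) rfl, ← hfψ, ha (k + 1), l.2 k]
  let e := LinearEquiv.ofBijective Ψ hΨ
  have := AdicCompletion.isAdicComplete (M := A) hFG
  refine ⟨⟨Z, ⟨e.symm.trans (finsuppEquiv I Z A)⟩⟩, fun n => ⟨fun v => ?_, ?_⟩⟩
  · obtain ⟨c, rfl⟩ := (hf n).1 v
    exact ⟨Ψ (AdicCompletion.of I _ c), hcomp n (AdicCompletion.of I _ c) c rfl⟩
  · refine le_antisymm (fun l hl => ?_) (Submodule.smul_le.mpr fun a ha l _ => ?_)
    · have h1 : (e.symm l).val (n + 1) = 0 := (hΨzero _ n).mp (by
        rw [show Ψ (e.symm l) = l from e.apply_symm_apply l]; exact hl)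
      have h2 : e.symm l ∈ (I ^ (n + 1) • ⊤ : Submodule A (AdicCompletion I (Z →₀ A))) := by
        rw [AdicCompletion.pow_smul_top_eq_ker_eval hFG]; exact h1
      have := map_mem_smul_top e.toLinearMap h2
      rwa [LinearEquiv.coe_coe, e.apply_symm_apply] at this
    · rw [LinearMap.mem_ker, map_smul]
      exact hkill n a ha _

end Groth.Agent.S17551
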