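import Mathlib
import Groth.Agent.AdicDecay.Free
import Groth.Statements.S17552

set_option autoImplicit false
universe u
open W4c5adicflatcompl
open CAlg

namespace Groth.Agent.S17552

/-- For a complete Noetherian local ring A (maximal ideal m, m-adic completion Â), an A-module M is
isomorphic to the module of m-adically decaying functions Z → Â for some set Z (m-adically free)
exactly when M is flat and m-adically complete. M and Z live in the universe of A. -/
theorem result {A : Type u} [CommRing A] [IsNoetherianRing A] [IsLocalRing A]
    [IsAdicComplete (IsLocalRing.maximalIdeal A) A]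
    (M : Type u) [AddCommGroup M] [Module A M] :
    IsAdicFree (IsLocalRing.maximalIdeal A) M ↔
      Module.Flat A M ∧ IsAdicComplete (IsLocalRing.maximalIdeal A) M := by
  classical
  have hFG : (IsLocalRing.maximalIdeal A).FG := IsNoetherian.noetherian _
  constructor
  · intro h
    refine ⟨?_, AdicDecay.isAdicComplete_of_isAdicFree hFG h⟩
    obtain ⟨Z, ⟨e⟩⟩ := h
    have := AdicDecay.flat_decaying (IsLocalRing.maximalIdeal A) Z
    exact Module.Flat.of_linearEquiv e
  · rintro ⟨hflat, hM⟩
    have hfl : ∀ n, Module.Flat (A ⧸ IsLocalRing.maximalIdeal A ^ n)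
        (M ⧸ (IsLocalRing.maximalIdeal A ^ n • ⊤ : Submodule A M)) := fun n => AdicDecay.flat_quotient_smul_top _
    obtain ⟨Z, x, hs, hi⟩ := AdicDecay.exists_lift_basis (IsLocalRing.maximalIdeal A) M
    obtain ⟨h1, h2⟩ := AdicDecay.levels_of_flat x hs hi
    exact AdicDecay.isAdicFree_of_levels hFG _ h1 h2

end Groth.Agent.S17552
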