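import Groth.Statements.S1756
import Groth.Agent.KollarLib.Quotient
import Groth.Agent.DimFormulaLib.Local
import Groth.Agent.RatliffLib.Converse.Main
import Groth.Agent.GorLib.RelCodim
-- import your own Groth.Agent.* helpers here

set_option autoImplicit false
universe u
open LocCoh

namespace Groth.Agent.S1756

/-- Let A be a universally catenary Noetherian ring and I an ideal such that for every prime q
containing I the formal fibres of A_q satisfy (S_1), and let M be a finite A-module. If for every
associated prime p of M not containing I and every prime q containing both p and I the longest chain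
of primes from p to q has length at least 2, then the local cohomology module H^1_I(M) is a finite
A-module. (Affine form: finiteness of H^1_I(M) stands in for coherence of the pushforward of the
restriction of M~ to Spec A ∖ V(I).) -/
theorem result (A : Type u) [CommRing A] [IsNoetherianRing A] (hA : CAlg.IsUniversallyCatenary A) (I : Ideal A) (hF : ∀ q : PrimeSpectrum A, I ≤ q.asIdeal → EGA4.HasSnFormalFibres 1 (Localization.AtPrime q.asIdeal)) (M : Type u) [AddCommGroup M] [Module A M] [Module.Finite A M] (h : ∀ (p q : PrimeSpectrum A) (hpq : p ≤ q), p.asIdeal ∈ associatedPrimes A M → ¬ I ≤ p.asIdeal → I ≤ q.asIdeal → (2 : ℕ∞) ≤ Order.height (⟨q, hpq⟩ : Set.Ici p)) : Module.Finite A (LocCoh.H I 1 M) := by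
  refine KollarLib.finite_H1_of_quotients I M fun p hp hIp q _ hIq hpq P hP => ?_
  haveI := hp.1
  let A' := Localization.AtPrime q
  haveI : IsNoetherianRing A' := IsLocalization.isNoetherianRing q.primeCompl A' inferInstance
  obtain ⟨_, _, _, _, -⟩ := RatliffLib.compl_facts A'
  let P₀ : Ideal A' := p.map (algebraMap A A')
  have hdisj : Disjoint (q.primeCompl : Set A) (p : Set A) := Set.disjoint_left.2 fun x hx hxp => hx (hpq hxp)
  haveI : P₀.IsPrime := IsLocalization.isPrime_of_isPrime_disjoint q.primeCompl A' p hp.1 hdisj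
  haveI : Module.Flat A' (EGA4.Cpl A') := AdicCompletion.flat_of_isNoetherian _
  have hmin := KollarLib.minimal_of_ass_of_fibre P₀ (hF ⟨q, inferInstance⟩ hIq P₀) hP
  let D := A' ⧸ P₀
  haveI : IsLocalRing D := IsLocalRing.of_surjective' _ Ideal.Quotient.mk_surjective
  obtain ⟨_, _, _, _, -⟩ := RatliffLib.compl_facts D
  obtain ⟨e, -⟩ := CMCat.exists_complQuotEquiv (A := A') P₀
  let f := e.toRingHom.comp (Ideal.Quotient.mk (P₀.map (algebraMap A' (EGA4.Cpl A'))))
  have hf : Function.Surjective f := e.surjective.comp Ideal.Quotient.mk_surjective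
  have hker : RingHom.ker f = P₀.map (algebraMap A' (EGA4.Cpl A')) := by
    ext b
    rw [RingHom.mem_ker, ← Ideal.Quotient.eq_zero_iff_mem]
    exact e.map_eq_zero_iff
  obtain ⟨h1, hle, h3⟩ := KollarLib.ass_map f hf _ hker hP
  rw [h3]
  have hminC : P.map f ∈ minimalPrimes (EGA4.Cpl D) := by
    haveI := h1.1
    have hcm : (P.map f).comap f = P := by
      rw [Ideal.comap_map_of_surjective _ hf, ← RingHom.ker_eq_comap_bot, sup_eq_left.2 (hker ▸ hle)]
    refine ⟨⟨h1.1, bot_le⟩, fun T hT hTle => ?_⟩
    haveI := hT.1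
    have h' : P ≤ T.comap f := hmin.2 ⟨inferInstance, hker ▸ Ideal.comap_mono bot_le⟩
      ((Ideal.comap_mono hTle).trans hcm.le)
    exact (Ideal.map_mono h').trans (Ideal.map_comap_le)
  have hD : EGA4.IsFormallyEquidim D := RatliffLib.isFormallyEquidim_of_universallyCatenary
    (RatliffLib.isUniversallyCatenary_of_surjective (Ideal.Quotient.mk P₀) Ideal.Quotient.mk_surjective
      (DimFormulaLib.isUniversallyCatenary_of_isLocalization q.primeCompl hA))
  refine le_of_le_of_eq ?_ (hD _ hminC).symm
  rw [RegLocal.ringKrullDim_completion D _ (IsLocalRing.maximalIdeal.isMaximal D).ne_top,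
    ringKrullDim, Order.krullDim_eq_of_orderIso (GorLib.quotIciIso (⟨P₀, inferInstance⟩ : PrimeSpectrum A')),
    show (2 : WithBot ℕ∞) = ((2 : ℕ) : WithBot ℕ∞) from rfl, Order.le_krullDim_iff]
  have h2 := h ⟨p, hp.1⟩ ⟨q, inferInstance⟩ hpq hp hIp hIq
  obtain ⟨l, hlast, hlen⟩ := Order.exists_series_of_le_height _ h2
  have hl : ∀ i, (l i).1.asIdeal ≤ q := fun i => by
    have := l.monotone (Fin.le_last i)
    rw [← RelSeries.last, hlast] at this
    exact this
  let g : Fin (l.length + 1) → Set.Ici (⟨P₀, inferInstance⟩ : PrimeSpectrum A') := fun i =>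
    ⟨(IsLocalization.AtPrime.primeSpectrumOrderIso A' q).symm ⟨(l i).1, hl i⟩, by
      show P₀ ≤ _
      rw [Ideal.map_le_iff_le_comap]
      exact le_of_le_of_eq (show p ≤ (l i).1.asIdeal from (l i).2) (congrArg (fun z => z.1.asIdeal)
        ((IsLocalization.AtPrime.primeSpectrumOrderIso A' q).apply_symm_apply ⟨(l i).1, hl i⟩)).symm⟩
  refine ⟨LTSeries.mk l.length g fun i j hij => ?_, hlen⟩
  exact (IsLocalization.AtPrime.primeSpectrumOrderIso A' q).symm.strictMono (l.strictMono hij)

end Groth.Agent.S1756
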