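import Groth.Statements.S17575
import Groth.Agent.C1DimLib.Basic

set_option autoImplicit false
universe u
open CategoryTheory AlgebraicGeometry
open Bivar

namespace Groth.Agent.S17575

/-- Let X be a scheme which has an ample invertible module (in particular X is quasi-compact) and whose
dimension (the topological Krull dimension, not the δ-dimension) is at most d. Then for any
invertible modules L_0, …, L_d on X the composite c_1(L_d) ∘ ⋯ ∘ c_1(L_0) vanishes in A^{d+1}(X):
for every test scheme g : Y → X locally of finite type (with induced dimension function), every x_0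
∈ CH_k(Y) and every chain x_{j+1} = c_1(L_j) ∩ x_j ∈ CH_{k−j−1}(Y), j = 0, …, d, one has x_{d+1} =
0. Here each c_1(L_j) ∈ A^1(X) is an operational class given through the binder Bivar.IsC1Class, and
consecutive weights k − (j + 1) and k − j − 1 are matched by the transport Bivar.chCast. (The
published statement takes the dimension equal to d; dimension at most d follows at once, the
operations being additive.) Here a pair (X, δ) with Cyc.IsSetup plays the role of a scheme locally
of finite type over the base (S, δ) (X locally Noetherian with universally catenary local rings, δ a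
dimension function), Cyc.DeltaCompat records that a dimension function is the induced one, and
bivariant classes are taken in the operational sense of the prelude: additive operations on the Chow
groups CH_k (k-cycles modulo rational equivalence) of all test schemes, compatible with proper
pushforward, flat pullback and the Gysin maps of zero schemes of sections of invertible modules in
representative form (Bivar.Cl for A^p(X → Y), Bivar.OpCl for A^p(X)). -/
theorem result (X : Scheme.{u}) (δX : X → ℤ) (hX : Cyc.IsSetup X δX) (A : X.Modules) (hA : CohB1.IsAmple A) (d : ℕ) (hd : topologicalKrullDim X ≤ (d : WithBot ℕ∞)) (L : ℕ → X.Modules) (c : ℕ → Bivar.OpCl 1 X δX) (hc : ∀ j, j ≤ d → Bivar.IsC1Class (L j) (c j)) (s : Bivar.OSq X δX) (k : ℤ) (x : (j : ℕ) → ChowOps.CH s.Y s.δ (k - (j : ℤ))) (hx : ∀ j, j ≤ d → (c j).op s (k - (j : ℤ)) (x j) = Bivar.chCast s.Y s.δ (((congrArg (fun t : ℤ => k - t) (Nat.cast_succ j)).trans (sub_sub k (j : ℤ) 1).symm)) (x (j + 1))) : x (d + 1) = 0 := by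
  suffices h : ∀ j : ℕ, j ≤ d + 1 → ∃ (α : AlgebraicCycle s.Y ℤ) (hα : α ∈ Cyc.Zk s.Y s.δ (k - (j : ℤ))),
      x j = ChowOps.cl α hα ∧ ∀ y, α y ≠ 0 → Order.height (s.g y) + (j : ℕ∞) ≤ (d : ℕ∞) by
    obtain ⟨α, hα, he, hs⟩ := h (d + 1) le_rfl
    have h0 : α = 0 := Function.locallyFinsuppWithin.ext fun y => by
      by_contra hy
      have h2 := le_add_self.trans (hs y hy)
      norm_cast at h2
      omega
    subst h0
    exact he
  intro j
  induction j with
  | zero =>
    intro _
    obtain ⟨α, hα, he⟩ := Bivar.exists_rep (x 0)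
    refine ⟨α, hα, he.symm, fun y _ => ?_⟩
    rw [Nat.cast_zero, add_zero]
    exact Groth.Agent.C1DimLib.height_le hd _
  | succ j ih =>
    intro hj
    obtain ⟨α, hα, he, hs⟩ := ih (Nat.le_of_succ_le hj)
    obtain ⟨γ, hγ, hop, hγs⟩ := Groth.Agent.C1DimLib.exists_rep_succ hX (hc j (by omega)) s α hα
      (b := (d : ℕ∞) - (j : ℕ∞)) (fun y hy => ENat.le_sub_of_add_le_right (ENat.coe_ne_top j) (hs y hy))
    have hcast := hx j (by omega)
    rw [he, hop] at hcast
    have hidx : k - (j : ℤ) - 1 = k - ((j + 1 : ℕ) : ℤ) := by push_cast; ring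
    refine ⟨γ, hidx ▸ hγ, ?_, fun y hy => ?_⟩
    · exact (Bivar.chCast s.Y s.δ (((congrArg (fun t : ℤ => k - t) (Nat.cast_succ j)).trans (sub_sub k (j : ℤ) 1).symm))).injective
        (hcast.symm.trans (Bivar.chCast_cl _ _ _ γ _).symm)
    · have hjd : (j : ℕ∞) ≤ (d : ℕ∞) := by exact_mod_cast (show j ≤ d by omega)
      calc Order.height (s.g y) + ((j + 1 : ℕ) : ℕ∞) = Order.height (s.g y) + 1 + (j : ℕ∞) := by push_cast; ring
        _ ≤ ((d : ℕ∞) - (j : ℕ∞)) + (j : ℕ∞) := add_le_add (hγs y hy) le_rfl
        _ = (d : ℕ∞) := tsub_add_cancel_of_le hjd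

end Groth.Agent.S17575
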