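import Groth.Statements.S6484
import Mathlib

set_option autoImplicit false
universe u
open CategoryTheory AlgebraicGeometry
open CategoryTheory.Limits
open Cyc

namespace Groth.Agent.S6484

/-- If f : Y → X is completely decomposed (this prelude's Cyc.IsCompletelyDecomposed: over every point
of X lies a point of Y with trivial residue field extension) and g : X' → X is any morphism of
schemes, then the base change Y ×_X X' → X' is completely decomposed. Consequently the base change
of an envelope (a proper completely decomposed morphism) is an envelope, properness being preserved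
by base change. (The published envelope statement takes X′ → X between schemes locally of finite
type over a base; this row allows any g.) -/
theorem result (X X' Y : Scheme.{u}) (f : Y ⟶ X) (g : X' ⟶ X) (hcd : Cyc.IsCompletelyDecomposed f) : Cyc.IsCompletelyDecomposed (pullback.snd f g) := by
  intro x'
  have hk : ∀ (y : Y) (z : X), z = f y → Function.Surjective (f.residueFieldMap y).hom →
      ∃ k : Spec (X.residueField z) ⟶ Y, k ≫ f = X.fromSpecResidueField z := by
    rintro y _ rfl hs
    haveI : IsIso (f.residueFieldMap y) :=
      (ConcreteCategory.isIso_iff_bijective _).mpr ⟨(f.residueFieldMap y).hom.injective, hs⟩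
    refine ⟨inv (Spec.map (f.residueFieldMap y)) ≫ Y.fromSpecResidueField y, ?_⟩
    rw [Category.assoc, IsIso.inv_comp_eq]
    exact (Scheme.Hom.SpecMap_residueFieldMap_fromSpecResidueField f y).symm
  obtain ⟨y, hy, hs⟩ := hcd (g x')
  obtain ⟨k, hk⟩ := hk y (g x') hy.symm hs
  let q : Spec (X'.residueField x') ⟶ pullback f g :=
    pullback.lift (Spec.map (g.residueFieldMap x') ≫ k) (X'.fromSpecResidueField x') (by
      rw [Category.assoc, hk]
      exact Scheme.Hom.SpecMap_residueFieldMap_fromSpecResidueField g x')
  let t : ↥(Spec (X'.residueField x')) := IsLocalRing.closedPoint (X'.residueField x')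
  have hq : q ≫ pullback.snd f g = X'.fromSpecResidueField x' := pullback.lift_snd _ _ _
  refine ⟨q t, ?_, ?_⟩
  · rw [← Scheme.Hom.comp_apply, hq]
    exact Scheme.fromSpecResidueField_apply _ _
  · have h1 : ∀ r : Spec (X'.residueField x') ⟶ X', r = X'.fromSpecResidueField x' →
        Function.Surjective (r.residueFieldMap t).hom := by
      rintro _ rfl
      intro b
      obtain ⟨b, rfl⟩ := IsLocalRing.residue_surjective b
      obtain ⟨a, ha⟩ := (X'.fromSpecResidueField x').stalkMap_surjective t b
      exact ⟨IsLocalRing.residue _ a, by rw [← ha]; rfl⟩
    have h2 := h1 _ hq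
    rw [Scheme.residueFieldMap_comp] at h2
    intro b
    obtain ⟨a, ha⟩ := h2 ((q.residueFieldMap t).hom b)
    exact ⟨a, (q.residueFieldMap t).hom.injective ha⟩

end Groth.Agent.S6484
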