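import Groth.Statements.S17576
import Groth.Agent.BivarLib.Basic
import Groth.Agent.S6482
import Groth.Agent.S6484

set_option autoImplicit false
universe u
open CategoryTheory AlgebraicGeometry
open Bivar

namespace Groth.Agent.S17576

/-- Let f : X → Y be locally of finite type, g : Y' → Y an envelope (a proper, completely decomposed
morphism: over every point of Y lies a point of Y' with trivial residue field extension) and X' = Y'
×_Y X. Then a bivariant class c ∈ A^p(X → Y) is determined by its restriction res(c) ∈ A^p(X' → Y'):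
two classes with the same restriction along the square (g, X') are equal. (The existence part — a
class c' on X' → Y' whose two restrictions to X' ×_X X' → Y' ×_Y Y' agree descends — is not stated
here.) Here a pair (X, δ) with Cyc.IsSetup plays the role of a scheme locally of finite type over
the base (S, δ) (X locally Noetherian with universally catenary local rings, δ a dimension
function), Cyc.DeltaCompat records that a dimension function is the induced one, and bivariant
classes are taken in the operational sense of the prelude: additive operations on the Chow groups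
CH_k (k-cycles modulo rational equivalence) of all test schemes, compatible with proper pushforward,
flat pullback and the Gysin maps of zero schemes of sections of invertible modules in representative
form (Bivar.Cl for A^p(X → Y), Bivar.OpCl for A^p(X)). -/
theorem result (X Y : Scheme.{u}) (δX : X → ℤ) (δY : Y → ℤ) (hX : Cyc.IsSetup X δX) (hY : Cyc.IsSetup Y δY) (f : X ⟶ Y) [LocallyOfFiniteType f] (hδ : Cyc.DeltaCompat f δX δY) (p : ℤ) (s₀ : Bivar.Sq f δX δY) [IsProper s₀.g] (hcd : Cyc.IsCompletelyDecomposed s₀.g) (c₁ c₂ : Bivar.Cl p f δX δY) (heq : c₁.res s₀ = c₂.res s₀) : c₁ = c₂ := by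
  refine Bivar.Cl.ext (funext fun s => funext fun k => AddMonoidHom.ext fun a => ?_)
  haveI := s.lft
  haveI : LocallyOfFiniteType s₀.g := s₀.lft
  haveI := Groth.Agent.BivarLib.lft_f' s₀
  haveI : IsProper s₀.g' := CategoryTheory.MorphismProperty.of_isPullback s₀.isPullback (inferInstance : IsProper s₀.g)
  let Y'' := CategoryTheory.Limits.pullback s₀.g s.g
  let h : Y'' ⟶ s.Y' := CategoryTheory.Limits.pullback.snd s₀.g s.g
  let g₀ : Y'' ⟶ s₀.Y' := CategoryTheory.Limits.pullback.fst s₀.g s.g
  let X'' := CategoryTheory.Limits.pullback g₀ s₀.f'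
  obtain ⟨δ₁, hδ₁⟩ := Groth.Agent.BivarLib.exists_delta g₀ s₀.δY'
  obtain ⟨δ₂, hδ₂⟩ := Groth.Agent.BivarLib.exists_delta (CategoryTheory.Limits.pullback.snd g₀ s₀.f') s₀.δX'
  let t₀ : Bivar.Sq s₀.f' s₀.δX' s₀.δY' := ⟨Y'', X'', g₀, CategoryTheory.Limits.pullback.fst g₀ s₀.f',
    CategoryTheory.Limits.pullback.snd g₀ s₀.f', CategoryTheory.IsPullback.of_hasPullback _ _, inferInstance,
    δ₁, δ₂, hδ₁, hδ₂⟩
  let t := s₀.paste t₀
  have w₁ : h ≫ s.g = t.g := CategoryTheory.Limits.pullback.condition.symm
  have hw : (t.f' ≫ h) ≫ s.g = t.g' ≫ f := by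
    rw [CategoryTheory.Category.assoc, w₁]
    exact t.isPullback.w
  let h' : t.X' ⟶ s.X' := s.isPullback.lift (t.f' ≫ h) t.g' hw
  have w₂ : h' ≫ s.f' = t.f' ≫ h := s.isPullback.lift_fst _ _ _
  have w₃ : h' ≫ s.g' = t.g' := s.isPullback.lift_snd _ _ _
  have sq : CategoryTheory.IsPullback h' t.f' s.f' h :=
    CategoryTheory.IsPullback.of_right (by rw [w₃, w₁]; exact t.isPullback.flip) w₂ s.isPullback.flip
  haveI : IsProper h' := CategoryTheory.MorphismProperty.of_isPullback sq.flip (inferInstance : IsProper h)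
  have hd : Cyc.DeltaCompat h t.δY' s.δY' :=
    Groth.Agent.BivarLib.deltaCompat_of_comp h s.g (by rw [w₁]; exact t.compatY) s.compatY
  have hd' : Cyc.DeltaCompat h' t.δX' s.δX' :=
    Groth.Agent.BivarLib.deltaCompat_of_comp h' s.g' (by rw [w₃]; exact t.compatX) s.compatX
  obtain ⟨α, hα, rfl⟩ := Bivar.exists_rep a
  obtain ⟨β, hβ, e⟩ := Groth.Agent.S6482.result s.Y' t.Y' s.δY' t.δY' (Groth.Agent.BivarLib.isSetup_Y' hY s)
    (Groth.Agent.BivarLib.isSetup_Y' hY t) h (Groth.Agent.S6484.result Y s.Y' s₀.Y' s₀.g s.g hcd) hd k α hα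
  have key : ∀ c : Bivar.Cl p f δX δY, c.op s k (ChowOps.cl α hα) =
      Groth.Agent.BivarLib.pushCH h' (Groth.Agent.BivarLib.isSetup_X' hX t) (Groth.Agent.BivarLib.isSetup_X' hX s) hd' (k - p)
        ((c.res s₀).op t₀ k (ChowOps.cl β hβ)) := fun c => by
    rw [← Bivar.cl_congr e (Bivar.cycMap_mem_Zk h _ _ k hβ) hα]
    exact Groth.Agent.BivarLib.op_pushCH hX hY c s t h h' w₁ w₂ w₃ hd hd' k (ChowOps.cl β hβ)
  rw [key, key, heq]

end Groth.Agent.S17576
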