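import Groth.Statements.S17583
import Groth.Agent.PicTrivLib.Push


set_option autoImplicit false
open CategoryTheory CategoryTheory.Limits AlgebraicGeometry
open PosLin

namespace Groth.Agent.S17583

open CategoryTheory CategoryTheory.Limits AlgebraicGeometry

open Groth.Agent CategoryTheory AlgebraicGeometry Limits TopologicalSpace Opposite
open Groth.Agent.ParaFLib Groth.Agent.AmpleLib Groth.Agent.CubeLib Groth.Agent.PicTrivLib
set_option backward.isDefEq.respectTransparency false

/-- Let X and Y each be a projective variety over the complex numbers (an integral scheme, proper over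
ℂ, with an ample invertible module), and let f : X → Y be an algebraic fibre space: a surjective
morphism over ℂ such that the canonical map O_Y → f_*O_X is an isomorphism. Then for every
invertible O_Y-module L the unit L → f_* f^* L of the pullback–pushforward adjunction is an
isomorphism; taking global sections, H^0(X, f^*L) = H^0(Y, L) (the printed statement is this
equality for the powers L^⊗m, m > 0, and adds the equality of Iitaka dimensions, which is not stated
here). -/
theorem result (X : Scheme.{0}) [X.Over (Spec (CommRingCat.of ℂ))] [IsIntegral X] [IsProper (X ↘ Spec (CommRingCat.of ℂ))]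
    (HX : X.Modules) (hHX : CohB1.IsAmple HX)
    (Y : Scheme.{0}) [Y.Over (Spec (CommRingCat.of ℂ))] [IsIntegral Y] [IsProper (Y ↘ Spec (CommRingCat.of ℂ))]
    (HY : Y.Modules) (hHY : CohB1.IsAmple HY)
    (f : X ⟶ Y) (hf : f ≫ (Y ↘ Spec (CommRingCat.of ℂ)) = X ↘ Spec (CommRingCat.of ℂ)) [Surjective f]
    (hfs : IsIso (ClSub.unitToPush f))
    (L : Y.Modules) (hL : PicF.IsInvertible L) :
    IsIso ((Scheme.Modules.pullbackPushforwardAdjunction f).unit.app L) := by
  haveI := hfs
  refine ParaFLib.isIso_of_locally_app _ fun y => ?_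
  obtain ⟨U, e, hyU, he⟩ := exists_gen_nhd hL y
  refine ⟨U, hyU, fun V hV => ?_⟩
  have heV := he.res hV
  let η := (Scheme.Modules.pullbackPushforwardAdjunction f).unit.app L
  have hg' := gen_pullMap f hL heV (le_refl (f ⁻¹ᵁ V)) (f ⁻¹ᵁ V) le_rfl
  have hf : Function.Bijective (f.app V) := ConcreteCategory.bijective_of_isIso ((ClSub.unitToPush f).app V)
  simp only [ParaFLib.res_self] at hg'
  have key : ∀ r : Γ(Y, V), η.app V (r • L.presheaf.map (homOfLE hV).op e) =
      (show Γ((Scheme.Modules.pullback f).obj L, f ⁻¹ᵁ V) from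
        f.app V r • PullbackMod.pullMap f L (W := V) (W' := f ⁻¹ᵁ V) le_rfl (L.presheaf.map (homOfLE hV).op e)) := fun r => by
    rw [Scheme.Modules.Hom.app_smul]
    refine congrArg (fun m : Γ((Scheme.Modules.pullback f).obj L, f ⁻¹ᵁ V) => f.app V r • m) ?_
    show _ = ((Scheme.Modules.pullback f).obj L).presheaf.map (homOfLE (le_refl (f ⁻¹ᵁ V))).op (η.app V (L.presheaf.map (homOfLE hV).op e))
    rw [ParaFLib.res_self]
  have hb := heV V le_rfl
  simp only [ParaFLib.res_self] at hb
  have hcomp : (η.app V : _ → _) ∘ (fun r : Γ(Y, V) => r • L.presheaf.map (homOfLE hV).op e) =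
      (fun r : Γ(X, f ⁻¹ᵁ V) => r • PullbackMod.pullMap f L (W := V) (W' := f ⁻¹ᵁ V) le_rfl (L.presheaf.map (homOfLE hV).op e)) ∘ f.app V :=
    funext key
  exact (Function.Bijective.of_comp_iff _ hb).1 (hcomp ▸ hg'.comp hf)


end Groth.Agent.S17583
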