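import Groth.Statements.S17584
import Mathlib
import Groth.Agent.NormalSch.Basic

set_option autoImplicit false
open CategoryTheory CategoryTheory.Limits AlgebraicGeometry
open PosLin

namespace Groth.Agent.S17584

theorem bijective_app {X Y : Scheme.{0}} (f : X ⟶ Y) (h : IsIso (ClSub.unitToPush f)) (U : Y.Opens) :
    Function.Bijective (f.app U).hom := by
  haveI := h
  haveI : IsIso ((ClSub.unitToPush f).app U) := inferInstance
  exact ConcreteCategory.bijective_of_isIso ((ClSub.unitToPush f).app U)

/-- Let X and Y each be a projective variety over the complex numbers (an integral scheme, proper over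
ℂ, with an ample invertible module), and f : X → Y an algebraic fibre space (a surjective morphism
over ℂ with O_Y → f_*O_X an isomorphism). If X is normal, then Y is normal. -/
theorem result (X : Scheme.{0}) [X.Over (Spec (CommRingCat.of ℂ))] [IsIntegral X] [IsProper (X ↘ Spec (CommRingCat.of ℂ))]
    (HX : X.Modules) (hHX : CohB1.IsAmple HX)
    (Y : Scheme.{0}) [Y.Over (Spec (CommRingCat.of ℂ))] [IsIntegral Y] [IsProper (Y ↘ Spec (CommRingCat.of ℂ))]
    (HY : Y.Modules) (hHY : CohB1.IsAmple HY)
    (f : X ⟶ Y) (hf : f ≫ (Y ↘ Spec (CommRingCat.of ℂ)) = X ↘ Spec (CommRingCat.of ℂ)) [Surjective f]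
    (hfs : IsIso (ClSub.unitToPush f))
    (hX : Pi1.IsNormalScheme X) : Pi1.IsNormalScheme Y := by
  refine NormalSch.isNormalScheme_of_affine fun U _ _ => ?_
  haveI : Nonempty (f ⁻¹ᵁ U : X.Opens) := by
    obtain ⟨⟨y, hy⟩⟩ := (inferInstance : Nonempty U)
    obtain ⟨x, rfl⟩ := f.surjective y
    exact ⟨⟨x, hy⟩⟩
  haveI := NormalSch.isIntegrallyClosed_section hX (f ⁻¹ᵁ U)
  exact IsIntegrallyClosed.of_equiv (RingEquiv.ofBijective (f.app U).hom (bijective_app f hfs U)).symm

end Groth.Agent.S17584
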