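import Groth.Statements.S17585
import Groth.Agent.SemiampleLib.Descend
import Groth.Agent.S17583
-- import your own Groth.Agent.* helpers here

set_option autoImplicit false
open CategoryTheory CategoryTheory.Limits AlgebraicGeometry
open PosLin
open Groth.Agent

namespace Groth.Agent.S17585

/-- Let X be a projective variety over the complex numbers (an integral scheme, proper over ℂ, with an
ample invertible module) which is normal, and L a semiample invertible O_X-module: L^⊗m is globally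
generated for some m > 0. Then there exist Y, a projective variety over the complex numbers (an
integral scheme, proper over ℂ, with an ample invertible module), and an algebraic fibre space φ : X
→ Y over ℂ (surjective, with O_Y → φ_*O_X an isomorphism), such that for every m > 0 with L^⊗m
globally generated there is an ample invertible O_Y-module A with φ^*A ≅ L^⊗m. (The published
statement says more: φ is the morphism defined by the complete linear series of L^⊗m for every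
sufficiently large such m, its image being Y, and the ample module with φ^*A ≅ L^⊗f, f the exponent
of the semigroup of such m, is fixed; this row keeps the existence of the fibre space and of the
ample modules pulling back to the globally generated powers.) -/
theorem result (X : Scheme.{0}) [X.Over (Spec (CommRingCat.of ℂ))] [IsIntegral X]
    [IsProper (X ↘ Spec (CommRingCat.of ℂ))] (H : X.Modules) (hH : CohB1.IsAmple H)
    (hXn : Pi1.IsNormalScheme X)
    (L : X.Modules) (hL : PicF.IsInvertible L)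
    (hsa : ∃ m : ℕ, 0 < m ∧ Curv2.IsGloballyGenerated (CohB1.tensorPow L m)) :
    ∃ (Y : Scheme.{0}) (g : Y ⟶ Spec (CommRingCat.of ℂ)) (HY : Y.Modules) (φ : X ⟶ Y),
      IsIntegral Y ∧ IsProper g ∧ CohB1.IsAmple HY ∧
      φ ≫ g = X ↘ Spec (CommRingCat.of ℂ) ∧ Surjective φ ∧ IsIso (ClSub.unitToPush φ) ∧
      ∀ m : ℕ, 0 < m → Curv2.IsGloballyGenerated (CohB1.tensorPow L m) →
        ∃ A : Y.Modules, CohB1.IsAmple A ∧ Nonempty ((Scheme.Modules.pullback φ).obj A ≅ CohB1.tensorPow L m) := by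
  obtain ⟨m₀, hm₀, hg₀⟩ := hsa
  obtain ⟨c₀, rfl⟩ : ∃ c, m₀ = c + 1 := ⟨m₀ - 1, by omega⟩
  let pX := X ↘ Spec (CommRingCat.of ℂ)
  haveI : CompactSpace X := QuasiCompact.compactSpace_of_compactSpace pX
  let P₀ := CohB1.tensorPow L (c₀ + 1)
  have hP₀ : PicF.IsInvertible P₀ := AmpleLib.isInvertible_tensorPow hL _
  obtain ⟨n₀, s₀, hc₀⟩ := SemiampleLib.exists_family hP₀ hg₀
  obtain ⟨F₀, hF₀U, hF₀g, hF₀t⟩ := GenMorph.exists_ratioFamily hP₀ s₀ hc₀
  let φX : ℂ →+* Γ(X, ⊤) := ((Scheme.ΓSpecIso (CommRingCat.of ℂ)).inv ≫ pX.appTop).hom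
  let g₀ := GenMorph.toProj φX F₀
  haveI : IsProper g₀ := by
    have h : IsProper (g₀ ≫ CohB1.ProjSpace.toSpec n₀ ℂ) := by
      rw [GenMorph.toProj_toSpec φX F₀ pX rfl]
      infer_instance
    exact IsProper.of_comp _ (CohB1.ProjSpace.toSpec n₀ ℂ)
  haveI : IsLocallyNoetherian (CohB1.ProjSpace n₀ ℂ) :=
    LocallyOfFiniteType.isLocallyNoetherian (CohB1.ProjSpace.toSpec n₀ ℂ)
  let φ := g₀.toNormalization
  let q := g₀.fromNormalization
  haveI : IsFinite q := S1297.result g₀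
  have hb : RigidLib.BijApp φ := SteinConn.bijApp_toNormalization g₀
  haveI : Surjective φ := ⟨Set.range_eq_univ.1
    (φ.isClosedMap.isClosed_range.closure_eq.symm.trans (Scheme.Hom.denseRange φ).closure_range)⟩
  have hu : IsIso (ClSub.unitToPush φ) := by
    rw [Scheme.Modules.Hom.isIso_iff_isIso_app]
    intro O
    rw [ConcreteCategory.isIso_iff_bijective]
    exact hb O
  have hφq : φ ≫ q = g₀ := g₀.toNormalization_fromNormalization
  let g : g₀.normalization ⟶ Spec (CommRingCat.of ℂ) := q ≫ CohB1.ProjSpace.toSpec n₀ ℂ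
  have hφg : φ ≫ g = pX := by
    rw [← Category.assoc, hφq]
    exact GenMorph.toProj_toSpec φX F₀ pX rfl
  letI : g₀.normalization.Over (Spec (CommRingCat.of ℂ)) := ⟨g⟩
  haveI : IsProper (g₀.normalization ↘ Spec (CommRingCat.of ℂ)) := show IsProper g from inferInstance
  let A₀ := (Scheme.Modules.pullback q).obj (Twist.twistProjSpace n₀ ℂ 1)
  have hA₀ : CohB1.IsAmple A₀ := AmpleLib.isAmple_pullback q (AmpleEmb.isAmple_twistOne n₀ ℂ)
  obtain ⟨e₀⟩ := GenMorph.nonempty_iso_pullback_twistOne φX F₀ s₀ hF₀g hF₀t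
  let e₀' : (Scheme.Modules.pullback φ).obj A₀ ≅ P₀ :=
    (Scheme.Modules.pullbackComp φ q).app _ ≪≫ (Scheme.Modules.pullbackCongr hφq).app _ ≪≫ e₀.symm
  refine ⟨g₀.normalization, g, A₀, φ, inferInstance, inferInstance, hA₀, hφg, inferInstance, hu, fun m hm hgm => ?_⟩
  obtain ⟨c, rfl⟩ : ∃ c, m = c + 1 := ⟨m - 1, by omega⟩
  let P := CohB1.tensorPow L (c + 1)
  have hP : PicF.IsInvertible P := AmpleLib.isInvertible_tensorPow hL _
  obtain ⟨n, s, hc⟩ := SemiampleLib.exists_family hP hgm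
  obtain ⟨F, hFU, hFg, hFt⟩ := GenMorph.exists_ratioFamily hP s hc
  let e : CohB1.tensorPow P (c₀ + 1) ≅ CohB1.tensorPow P₀ (c + 1) :=
    AmpleLib.powMul L (c + 1) (c₀ + 1) ≪≫ eqToIso (congrArg (CohB1.tensorPow L) (mul_comm _ _)) ≪≫
      (AmpleLib.powMul L (c₀ + 1) (c + 1)).symm
  have hV : ∀ i, CohB1.genLocus P₀ (s₀ i) = φ ⁻¹ᵁ (q ⁻¹ᵁ AmpleEmb.stdOpen n₀ ℂ i) := fun i => by
    rw [← hF₀U, ← Scheme.Hom.comp_preimage, hφq]
    exact (GenMorph.preimage_basicOpen φX F₀ i).symm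
  choose V hVj using fun j => SemiampleLib.exists_preimage hb hP _ s₀ hP₀ hV hc₀ e (s j)
  obtain ⟨G, hGU, hGt⟩ := SemiampleLib.exists_descend hb F V fun j => (hVj j).symm.trans (hFU j).symm
  let φY : ℂ →+* Γ(g₀.normalization, ⊤) := ((Scheme.ΓSpecIso (CommRingCat.of ℂ)).inv ≫ g.appTop).hom
  let h := GenMorph.toProj φY G
  let A := (Scheme.Modules.pullback h).obj (Twist.twistProjSpace n ℂ 1)
  have hA : PicF.IsInvertible A := AmpleLib.isInvertible_pullback _ (AmpleEmb.isInvertible_twistOne n ℂ)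
  have hpre : ∀ i, (φ ≫ h) ⁻¹ᵁ AmpleEmb.stdOpen n ℂ i = F.U i := fun i => by
    rw [Scheme.Hom.comp_preimage]
    exact (congrArg (φ ⁻¹ᵁ ·) (GenMorph.preimage_basicOpen φY G i)).trans (hGU i)
  have hr : ∀ i a, (φ ≫ h).appLE (AmpleEmb.stdOpen n ℂ i) (F.U i) (hpre i).ge (AmpleEmb.coordRatio n ℂ i a) =
      F.t i a := fun i a => by
    rw [← Scheme.Hom.appLE_comp_appLE φ h (AmpleEmb.stdOpen n ℂ i) (G.U i) (F.U i)
      (GenMorph.le_preimage_stdOpen φY G i) (hGU i).ge, ConcreteCategory.comp_apply,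
      GenMorph.toProj_appLE_ratio]
    exact hGt i a
  obtain ⟨ε⟩ := SemiampleLib.nonempty_iso_pullback F (φ ≫ h) hpre hr s hFg hFt
  let ε' : (Scheme.Modules.pullback φ).obj A ≅ P := (Scheme.Modules.pullbackComp φ h).app _ ≪≫ ε.symm
  refine ⟨A, ?_, ⟨ε'⟩⟩
  haveI := S17583.result X H hH g₀.normalization A₀ hA₀ φ hφg hu (CohB1.tensorPow A (c₀ + 1))
    (AmpleLib.isInvertible_tensorPow hA _)
  haveI := S17583.result X H hH g₀.normalization A₀ hA₀ φ hφg hu (CohB1.tensorPow A₀ (c + 1))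
    (AmpleLib.isInvertible_tensorPow hA₀.1 _)
  let η := (Scheme.Modules.pullbackPushforwardAdjunction φ).unit
  let E : (Scheme.Modules.pullback φ).obj (CohB1.tensorPow A₀ (c + 1)) ≅
      (Scheme.Modules.pullback φ).obj (CohB1.tensorPow A (c₀ + 1)) :=
    AmpleLib.pullPow φ A₀ (c + 1) ≪≫ AmpleLib.powCongr e₀' (c + 1) ≪≫ e.symm ≪≫
      (AmpleLib.powCongr ε' (c₀ + 1)).symm ≪≫ (AmpleLib.pullPow φ A (c₀ + 1)).symm
  exact (AmpleLib.isAmple_pow_iff hA c₀.succ_pos).1 (AmpleLib.isAmple_of_iso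
    (asIso (η.app _) ≪≫ (Scheme.Modules.pushforward φ).mapIso E ≪≫ (asIso (η.app _)).symm)
    ((AmpleLib.isAmple_pow_iff hA₀.1 c.succ_pos).2 hA₀))

end Groth.Agent.S17585
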