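import Groth.Statements.S17587
import Groth.Agent.AmpleEmb.Generated
import Groth.Agent.VanGrowLib.Main
import Groth.Agent.CurveLib.Inv
import Groth.Agent.CurveLib.SmulPow
import Groth.Agent.ASBunKS.Simple


set_option autoImplicit false
open CategoryTheory CategoryTheory.Limits AlgebraicGeometry
open PosLin

namespace Groth.Agent.S17587

open CategoryTheory CategoryTheory.Limits AlgebraicGeometry

open Groth.Agent Groth.Agent.AmpleLib
open Groth.Agent.CurveLib (tmap)
set_option backward.isDefEq.respectTransparency false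

/-- Let X be a projective variety over the complex numbers (an integral scheme, proper over ℂ, with an
ample invertible module), and L an invertible O_X-module which is big, bigness being expressed
through the equivalent condition that every ample invertible O_X-module A admits a monomorphism A →
L^⊗m for some m > 0. Then the exponent of L is 1, that is, H^0(X, L^⊗m) ≠ 0 for every sufficiently
large m. -/
theorem result (X : Scheme.{0}) [X.Over (Spec (CommRingCat.of ℂ))] [IsIntegral X]
    [IsProper (X ↘ Spec (CommRingCat.of ℂ))] (H : X.Modules) (hH : CohB1.IsAmple H)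
    (L : X.Modules) (hL : PicF.IsInvertible L)
    (hbig : ∀ A : X.Modules, CohB1.IsAmple A → ∃ (m : ℕ) (φ : A ⟶ CohB1.tensorPow L m), 0 < m ∧ Mono φ) :
    ∃ m₁ : ℕ, ∀ m : ℕ, m₁ ≤ m → Nontrivial (Coh.HH X (CohB1.tensorPow L m) 0) := by
  haveI := EulerIneqLib.isNoetherian_proper (X := X) ℂ
  have hO := ParaFLib.isInvertible_structureModule (X := X)
  obtain ⟨N₁, hN₁⟩ := AmpleEmb.eventually_isGloballyGenerated hH (CurveLib.isCoh_of_isInvertible hO)
  obtain ⟨N₂, hN₂⟩ := AmpleEmb.eventually_isGloballyGenerated hH (CurveLib.isCoh_of_isInvertible hL)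
  let n := max N₁ N₂ + 1
  have hP : ∀ j, PicF.IsInvertible (CohB1.tensorPow L j) := fun j => isInvertible_tensorPow hL j
  have hHn : PicF.IsInvertible (CohB1.tensorPow H n) := isInvertible_tensorPow hH.1 n
  obtain ⟨a, φ, ha, hφ⟩ := hbig (CohB1.tensorPow H n) ((isAmple_pow_iff hH.1 (Nat.succ_pos _)).2 hH)
  have hsec : ∀ M : X.Modules, PicF.IsInvertible M → Curv2.IsGloballyGenerated M →
      ∃ s : Coh.structureModule X ⟶ M, s ≠ 0 := fun M hM hgen => by
    obtain ⟨ι, p, hp⟩ := hgen
    by_contra hne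
    simp only [not_exists, not_not] at hne
    have hp0 : p = 0 := Sigma.hom_ext _ _ fun i => (hne _).trans comp_zero.symm
    exact ASBunKS.id_ne_zero_of_invertible hM (hp.left_cancellation (g := 𝟙 M) (h := 0) (by simp [hp0]))
  obtain ⟨s, hs⟩ := hsec _ (isInvertible_tensor hO hHn) (hN₁ n (le_trans (le_max_left _ _) (Nat.le_succ _)))
  obtain ⟨t, ht⟩ := hsec _ (isInvertible_tensor hL hHn) (hN₂ n (le_trans (le_max_right _ _) (Nat.le_succ _)))
  let S : ℕ → Prop := fun m => ∃ u : Coh.structureModule X ⟶ CohB1.tensorPow L m, u ≠ 0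
  have hadd : ∀ p q, S p → S q → S (p + q) := by
    rintro p q ⟨u, hu⟩ ⟨v, hv⟩
    haveI := CurveLib.mono_of_ne_zero hO (hP q) hv
    haveI := CurveLib.mono_tmap v (CurveLib.freeAt_one_of_isInvertible (hP p))
    refine ⟨u ≫ (unitL _).inv ≫ tmap v (CohB1.tensorPow L p) ≫ (comm _ _).hom ≫ (powAdd L p q).inv, fun h => hu ?_⟩
    exact (cancel_mono _).1 (h.trans zero_comp.symm)
  haveI := hφ
  have hSa : S a := ⟨s ≫ (unitL _).hom ≫ φ, fun h => hs ((cancel_mono _).1 (h.trans zero_comp.symm))⟩
  have hSa1 : S (a + 1) := by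
    haveI := CurveLib.mono_tmap φ (CurveLib.freeAt_one_of_isInvertible hL)
    exact ⟨t ≫ ((comm _ _).hom ≫ tmap φ L : _ ⟶ CohB1.tensorMod (CohB1.tensorPow L a) L),
      fun h => ht ((cancel_mono _).1 (h.trans zero_comp.symm))⟩
  have hS0 : S 0 := ⟨𝟙 _, ASBunKS.id_ne_zero_of_invertible hO⟩
  have hmul : ∀ i j, S (i * a + j * (a + 1)) := by
    intro i j
    induction i with
    | zero =>
      induction j with
      | zero => simpa using hS0
      | succ j ih =>
        have := hadd _ _ ih hSa1
        rwa [show 0 * a + j * (a + 1) + (a + 1) = 0 * a + (j + 1) * (a + 1) by ring] at this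
    | succ i ih =>
      have := hadd _ _ ih hSa
      rwa [show i * a + j * (a + 1) + a = (i + 1) * a + j * (a + 1) by ring] at this
  refine ⟨a * a, fun m hm => ?_⟩
  have hr : m % a < a := Nat.mod_lt _ ha
  have hq : a ≤ m / a := (Nat.le_div_iff_mul_le ha).2 hm
  obtain ⟨d, hd⟩ : ∃ d, m / a = m % a + d := ⟨m / a - m % a, by omega⟩
  obtain ⟨u, hu⟩ : S m := by
    have := hmul d (m % a)
    have h2 := Nat.mod_add_div m a
    rw [hd] at h2
    rwa [show d * a + m % a * (a + 1) = m % a + a * (m % a + d) by ring, h2] at this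
  refine ⟨⟨(CurveLib.secOf _).symm (sec u), 0, fun h => hu ?_⟩⟩
  rw [← secHom_sec u, show sec u = 0 from by simpa using congrArg (CurveLib.secOf _) h]
  exact DCohLib.hom_unit_ext (sec_secHom 0)


end Groth.Agent.S17587
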