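import Groth.Statements.S17592
import Groth.Agent.PairHens.Basic
import Mathlib
-- import your own Groth.Agent.* helpers here

set_option autoImplicit false
universe u
open Hensel

namespace Groth.Agent.S17592

/-- Let R → S be an étale ring map and I an ideal of R such that the induced map R/I → S/IS is
bijective. Then a Henselization of the pair (S, IS), regarded as an R-algebra, is a Henselization of
the pair (R, I). -/
theorem result (R : Type u) [CommRing R] (I : Ideal R)
    (S : Type u) [CommRing S] [Algebra R S] [Algebra.Etale R S]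
    (hq : Function.Bijective
      (Ideal.quotientMap (I.map (algebraMap R S)) (algebraMap R S) Ideal.le_comap_map))
    (H : Type u) [CommRing H] [Algebra S H] [Algebra R H] [IsScalarTower R S H]
    (hH : Hens2.IsPairHenselization S (I.map (algebraMap R S)) H) :
    Hens2.IsPairHenselization R I H := by
  refine ⟨?_, fun C _ J f hC hf => ?_⟩
  · have := hH.1
    rwa [Ideal.map_map, ← IsScalarTower.algebraMap_eq] at this
  letI := f.toAlgebra
  let c : R ⧸ I →ₐ[R] C ⧸ J := Ideal.Quotient.liftₐ I (Algebra.ofId R (C ⧸ J)) fun a ha =>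
    Ideal.Quotient.eq_zero_iff_mem.2 (hf (Ideal.mem_map_of_mem f ha))
  let e : (R ⧸ I) ≃ₐ[R] S ⧸ I.map (algebraMap R S) :=
    AlgEquiv.ofBijective (Ideal.Quotient.liftₐ I (Algebra.ofId R _) fun a ha =>
      Ideal.Quotient.eq_zero_iff_mem.2 (Ideal.mem_map_of_mem _ ha)) hq
  obtain ⟨t, ht⟩ := (Groth.Agent.Hensel.bijective_comp_mk (E := S) (A := C) (I := J)).2
    (c.comp (e.symm.toAlgHom.comp (Ideal.Quotient.mkₐ R _)))
  have ht' : t.toRingHom.comp (algebraMap R S) = f := RingHom.ext t.commutes
  obtain ⟨g, hg, hgu⟩ := hH.2 C J t.toRingHom hC (by rw [Ideal.map_map, ht']; exact hf)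
  refine ⟨g, ?_, fun g' hg' => hgu g' ?_⟩
  · show g.comp _ = f
    rw [IsScalarTower.algebraMap_eq R S H, ← RingHom.comp_assoc, hg, ht']
  · let t' : S →ₐ[R] C :=
      { toRingHom := g'.comp (algebraMap S H)
        commutes' := fun r => by
          show g' (algebraMap S H (algebraMap R S r)) = f r
          rw [← IsScalarTower.algebraMap_apply]
          exact RingHom.congr_fun hg' r }
    have : t' = t := by
      refine (Groth.Agent.Hensel.bijective_comp_mk (E := S) (A := C) (I := J)).1 (AlgHom.ext fun s => ?_)
      obtain ⟨x, hx⟩ := e.surjective (Ideal.Quotient.mk _ s)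
      obtain ⟨r, rfl⟩ := Ideal.Quotient.mk_surjective x
      have hs : s - algebraMap R S r ∈ I.map (algebraMap R S) := Ideal.Quotient.eq.1 hx.symm
      have h1 : ∀ τ : S →ₐ[R] C, Ideal.Quotient.mk J (τ s) = Ideal.Quotient.mk J (f r) := fun τ => by
        refine Ideal.Quotient.eq.2 (hf ?_)
        have h2 := Ideal.mem_map_of_mem τ.toRingHom hs
        rw [Ideal.map_map, show τ.toRingHom.comp (algebraMap R S) = f from RingHom.ext τ.commutes, map_sub,
          show τ.toRingHom (algebraMap R S r) = f r from τ.commutes r] at h2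
        exact h2
      exact (h1 t').trans (h1 t).symm
    exact congrArg AlgHom.toRingHom this

end Groth.Agent.S17592
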