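import Groth.Statements.S1760
import Groth.Agent.GorLib.FieldExt

set_option autoImplicit false
universe u
open scoped TensorProduct
open Goren

namespace Groth.Agent.S1760

/-- First assertion, written for the local ring B = O_{X,x}. Let k'/k be a finitely generated field
extension, B a Noetherian local k-algebra, and q a prime of B ⊗_k k' lying over the maximal ideal of
B. Then B is Gorenstein if and only if the localization of B ⊗_k k' at q is Gorenstein. -/
theorem result (k k' : Type u) [Field k] [Field k'] [Algebra k k'] (hfg : ∃ s : Finset k', IntermediateField.adjoin k (s : Set k') = ⊤) (B : Type u) [CommRing B] [IsLocalRing B] [IsNoetherianRing B] [Algebra k B] (q : PrimeSpectrum (B ⊗[k] k')) (hq : q.asIdeal.comap (algebraMap B (B ⊗[k] k')) = IsLocalRing.maximalIdeal B) : LocCoh.IsGorensteinLocalRing B ↔ LocCoh.IsGorensteinLocalRing (Localization.AtPrime q.asIdeal) := by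
  haveI := Groth.Agent.GorLib.essFiniteType_of_adjoin k k' hfg
  haveI : IsNoetherianRing (B ⊗[k] k') := Algebra.EssFiniteType.isNoetherianRing B _
  have hfib : ∀ (p : Ideal B) [p.IsPrime], LocCoh.IsGorensteinRing (p.ResidueField ⊗[k] k') := fun p _ => by
    haveI := Groth.Agent.GorLib.gorensteinRing_of_regular p.ResidueField
    exact Groth.Agent.GorLib.gorensteinRing_of_ringEquiv (Algebra.TensorProduct.comm k k' p.ResidueField).toRingEquiv
      (Groth.Agent.GorLib.gorensteinRing_baseChange k k' hfg p.ResidueField)
  rw [← Groth.Agent.GorLib.gorenstein_iff_baseChange k k' B hfib q.asIdeal]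
  exact Groth.Agent.GorLib.gorenstein_iff_ringEquiv
    (IsLocalization.atUnits B (q.asIdeal.comap (algebraMap B (B ⊗[k] k'))).primeCompl
      (fun x hx => IsLocalRing.notMem_maximalIdeal.mp fun h => hx (hq.ge h))).toRingEquiv

end Groth.Agent.S1760
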