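import Groth.Statements.S17602
import Groth.Agent.PairHens.Basic
import Mathlib
-- import your own Groth.Agent.* helpers here

set_option autoImplicit false
universe u
open Hensel

namespace Groth.Agent.S17602

/-- With converse part: let (A, I) be a Henselian pair, R an étale A-algebra and B a Henselization of
the pair (R, IR), with the induced A-algebra structure (so A → B is h-étale). Then B is flat over A
and A/I^r → B/I^rB is étale for every r ≥ 1. -/
theorem result (A : Type u) [CommRing A] (I : Ideal A) [HenselianRing A I]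
    (R : Type u) [CommRing R] [Algebra A R] [Algebra.Etale A R]
    (B : Type u) [CommRing B] [Algebra R B] [Algebra A B] [IsScalarTower A R B]
    (hB : Hens2.IsPairHenselization R (I.map (algebraMap A R)) B) :
    Module.Flat A B ∧ ∀ r : ℕ, 1 ≤ r → Algebra.Etale (A ⧸ I ^ r) (B ⧸ (I ^ r).map (algebraMap A B)) := by
  haveI : Module.Flat R B := Groth.Agent.PairHens.flat_of_isPairHenselization hB
  haveI : Module.Flat A R := inferInstance
  refine ⟨Module.Flat.trans A R B, fun r _ => ?_⟩
  have hb := Groth.Agent.PairHens.quotientMap_pow_bijective hB r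
  have h1 : (I.map (algebraMap A R)) ^ r = (I ^ r).map (algebraMap A R) := (Ideal.map_pow _ _ _).symm
  have h2 : ((I.map (algebraMap A R)) ^ r).map (algebraMap R B) = (I ^ r).map (algebraMap A B) := by
    rw [h1, Ideal.map_map, ← IsScalarTower.algebraMap_eq]
  let φ : R ⧸ (I ^ r).map (algebraMap A R) →ₐ[A ⧸ I ^ r] B ⧸ (I ^ r).map (algebraMap A B) :=
    { toRingHom := Ideal.quotientMap _ (algebraMap R B) (by rw [← h2, h1]; exact Ideal.le_comap_map)
      commutes' := fun x => by
        obtain ⟨a, rfl⟩ := Ideal.Quotient.mk_surjective x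
        show Ideal.quotientMap _ _ _ (Ideal.Quotient.mk _ (algebraMap A R a)) = Ideal.Quotient.mk _ (algebraMap A B a)
        rw [Ideal.quotientMap_mk, ← IsScalarTower.algebraMap_apply] }
  have hφ : Function.Bijective φ := by
    constructor
    · rw [injective_iff_map_eq_zero]
      intro x hx
      obtain ⟨a, rfl⟩ := Ideal.Quotient.mk_surjective x
      have : algebraMap R B a ∈ (I ^ r).map (algebraMap A B) := Ideal.Quotient.eq_zero_iff_mem.1 hx
      rw [← h2, ← Ideal.mem_comap, Groth.Agent.PairHens.comap_map_eq hB _ r le_rfl, h1] at this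
      exact Ideal.Quotient.eq_zero_iff_mem.2 this
    · intro y
      obtain ⟨b, rfl⟩ := Ideal.Quotient.mk_surjective y
      obtain ⟨a, ha⟩ := Groth.Agent.PairHens.exists_sub_mem_map_pow hB r b
      exact ⟨Ideal.Quotient.mk _ a, (Ideal.Quotient.eq.2 (h2 ▸ ha)).symm⟩
  haveI : Algebra.Etale (A ⧸ I ^ r) (R ⧸ (I ^ r).map (algebraMap A R)) :=
    Algebra.Etale.of_equiv (Algebra.TensorProduct.quotIdealMapEquivQuotTensor R (I ^ r)).symm
  exact Algebra.Etale.of_equiv (AlgEquiv.ofBijective φ hφ)

end Groth.Agent.S17602
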