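import Groth.Statements.S17604
import Groth.Agent.PairHens.Basic
import Mathlib
-- import your own Groth.Agent.* helpers here

set_option autoImplicit false
universe u
open Hensel

namespace Groth.Agent.S17604

/-- Let (A, I) be a Henselian pair, R and R' étale A-algebras, and B, B' Henselizations of the pairs (R,
IR), (R', IR') with their induced A-algebra structures (so B and B' are h-étale over A). Then
reduction modulo I is a bijection from A-algebra maps B → B' to A-algebra maps B/IB → B'/IB': two
A-algebra maps B → B' that agree modulo IB' are equal, and every A-algebra map B/IB → B'/IB' is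
induced by an A-algebra map B → B'. -/
theorem result (A : Type u) [CommRing A]
    (I : Ideal A) [HenselianRing A I]
    (R : Type u) [CommRing R] [Algebra A R] [Algebra.Etale A R]
    (B : Type u) [CommRing B] [Algebra R B] [Algebra A B] [IsScalarTower A R B]
    (hB : Hens2.IsPairHenselization R (I.map (algebraMap A R)) B)
    (R' : Type u) [CommRing R'] [Algebra A R'] [Algebra.Etale A R']
    (B' : Type u) [CommRing B'] [Algebra R' B'] [Algebra A B'] [IsScalarTower A R' B']
    (hB' : Hens2.IsPairHenselization R' (I.map (algebraMap A R')) B') :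
    (∀ φ ψ : B →ₐ[A] B', (∀ b : B, φ b - ψ b ∈ I.map (algebraMap A B')) → φ = ψ) ∧
    ∀ χ : (B ⧸ I.map (algebraMap A B)) →ₐ[A] (B' ⧸ I.map (algebraMap A B')),
      ∃ φ : B →ₐ[A] B', ∀ b : B,
        Ideal.Quotient.mk (I.map (algebraMap A B')) (φ b) = χ (Ideal.Quotient.mk (I.map (algebraMap A B)) b) := by
  have hI : (I.map (algebraMap A R')).map (algebraMap R' B') = I.map (algebraMap A B') := by
    rw [Ideal.map_map, ← IsScalarTower.algebraMap_eq]
  have hB' : HenselianRing B' (I.map (algebraMap A B')) := hI ▸ hB'.1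
  have hdet : ∀ φ ψ : B →ₐ[A] B', φ.comp (IsScalarTower.toAlgHom A R B) = ψ.comp (IsScalarTower.toAlgHom A R B) → φ = ψ := by
    intro φ ψ h
    obtain ⟨g, -, hgu⟩ := hB.2 B' (I.map (algebraMap A B')) (φ.comp (IsScalarTower.toAlgHom A R B)).toRingHom hB'
      (by rw [Ideal.map_map]; exact (congrArg (I.map ·) (RingHom.ext (φ.comp (IsScalarTower.toAlgHom A R B)).commutes)).le)
    exact AlgHom.coe_ringHom_injective ((hgu φ.toRingHom rfl).trans (hgu ψ.toRingHom (congrArg AlgHom.toRingHom h).symm).symm)
  constructor
  · intro φ ψ h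
    exact hdet φ ψ ((Groth.Agent.Hensel.bijective_comp_mk (E := R) (A := B') (I := I.map (algebraMap A B'))).1
      (AlgHom.ext fun r => Ideal.Quotient.eq.2 (h _)))
  intro χ
  let M := I.map (algebraMap A B)
  obtain ⟨t, ht⟩ := (Groth.Agent.Hensel.bijective_comp_mk (E := R) (A := B') (I := I.map (algebraMap A B'))).2
    (χ.comp ((Ideal.Quotient.mkₐ A M).comp (IsScalarTower.toAlgHom A R B)))
  obtain ⟨g, hg, -⟩ := hB.2 B' (I.map (algebraMap A B')) t.toRingHom hB'
    (by rw [Ideal.map_map]; exact (congrArg (I.map ·) (RingHom.ext t.commutes)).le)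
  let φ : B →ₐ[A] B' :=
    { toRingHom := g
      commutes' := fun a => by
        show g (algebraMap A B a) = _
        rw [IsScalarTower.algebraMap_apply A R B, ← RingHom.comp_apply g, hg]
        exact t.commutes a }
  refine ⟨φ, fun b => ?_⟩
  obtain ⟨r, hr⟩ := Groth.Agent.PairHens.exists_sub_mem_map_pow hB 1 b
  rw [pow_one, Ideal.map_map, ← IsScalarTower.algebraMap_eq] at hr
  have h1 : Ideal.Quotient.mk M b = Ideal.Quotient.mk M (algebraMap R B r) := Ideal.Quotient.eq.2 hr
  have h2 : φ b - φ (algebraMap R B r) ∈ I.map (algebraMap A B') := by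
    have := Ideal.mem_map_of_mem φ.toRingHom hr
    rw [Ideal.map_map, show φ.toRingHom.comp (algebraMap A B) = algebraMap A B' from RingHom.ext φ.commutes,
      map_sub] at this
    exact this
  rw [Ideal.Quotient.eq.2 h2, show φ (algebraMap R B r) = t r from RingHom.congr_fun hg r, h1]
  exact AlgHom.congr_fun ht r

end Groth.Agent.S17604
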