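import Groth.Statements.S17605
import Groth.Agent.PairHens.Basic
import Mathlib
-- import your own Groth.Agent.* helpers here

set_option autoImplicit false
universe u
open Hensel

namespace Groth.Agent.S17605

/-- Let A be a ring with an ideal I and let f₁, f₂ be elements of A such that D(f₂) ∩ V(I) ⊆ D(f₁) ∩
V(I) in Spec A. If H₁ is a Henselization of the pair (A_{f₁}, IA_{f₁}) and H₂ a Henselization of the
pair (A_{f₂}, IA_{f₂}), with their induced A-algebra structures, then there is exactly one A-algebra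
map H₁ → H₂. -/
theorem result (A : Type u) [CommRing A]
    (I : Ideal A) (f₁ f₂ : A)
    (h : (PrimeSpectrum.basicOpen f₂ : Set (PrimeSpectrum A)) ∩ PrimeSpectrum.zeroLocus (I : Set A) ⊆
      (PrimeSpectrum.basicOpen f₁ : Set (PrimeSpectrum A)) ∩ PrimeSpectrum.zeroLocus (I : Set A))
    (H₁ : Type u) [CommRing H₁] [Algebra (Localization.Away f₁) H₁] [Algebra A H₁]
    [IsScalarTower A (Localization.Away f₁) H₁]
    (hH₁ : Hens2.IsPairHenselization (Localization.Away f₁)
      (I.map (algebraMap A (Localization.Away f₁))) H₁)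
    (H₂ : Type u) [CommRing H₂] [Algebra (Localization.Away f₂) H₂] [Algebra A H₂]
    [IsScalarTower A (Localization.Away f₂) H₂]
    (hH₂ : Hens2.IsPairHenselization (Localization.Away f₂)
      (I.map (algebraMap A (Localization.Away f₂))) H₂) :
    Nonempty (H₁ →ₐ[A] H₂) ∧ Subsingleton (H₁ →ₐ[A] H₂) := by
  let A₁ := Localization.Away f₁
  let M := I.map (algebraMap A H₂)
  have hMap : ((I.map (algebraMap A (Localization.Away f₂))).map (algebraMap (Localization.Away f₂) H₂)) = M := by
    rw [Ideal.map_map, ← IsScalarTower.algebraMap_eq]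
  have hH : HenselianRing H₂ M := hMap ▸ hH₂.1
  have hu2 : IsUnit (algebraMap A H₂ f₂) := by
    rw [IsScalarTower.algebraMap_apply A (Localization.Away f₂) H₂]
    exact (IsLocalization.Away.algebraMap_isUnit f₂).map _
  have hu : IsUnit (algebraMap A H₂ f₁) := by
    by_contra hn
    obtain ⟨m, hm, hfm⟩ := exists_max_ideal_of_mem_nonunits hn
    have hMm : M ≤ m := hH.jac.trans (sInf_le ⟨bot_le, hm⟩)
    have := (h (a := ⟨m.comap (algebraMap A H₂), Ideal.comap_isPrime _ m⟩)
      ⟨fun h2 => hm.ne_top (Ideal.eq_top_of_isUnit_mem _ h2 hu2), fun a ha => hMm (Ideal.mem_map_of_mem _ ha)⟩).1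
    exact this hfm
  let f : A₁ →+* H₂ := IsLocalization.Away.lift f₁ hu
  have hf : f.comp (algebraMap A A₁) = algebraMap A H₂ := IsLocalization.Away.lift_comp f₁ hu
  obtain ⟨g, hg, hgu⟩ := hH₁.2 H₂ M f hH (by rw [Ideal.map_map, hf])
  refine ⟨⟨{ toRingHom := g, commutes' := fun a => ?_ }⟩, ⟨fun φ ψ => ?_⟩⟩
  · show g (algebraMap A H₁ a) = _
    rw [IsScalarTower.algebraMap_apply A A₁ H₁, ← RingHom.comp_apply g, hg, ← RingHom.comp_apply, hf]
  · have key : ∀ χ : H₁ →ₐ[A] H₂, χ.toRingHom = g := fun χ => hgu _ (IsLocalization.ringHom_ext (Submonoid.powers f₁) (by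
      rw [RingHom.comp_assoc, ← IsScalarTower.algebraMap_eq, hf]
      exact RingHom.ext χ.commutes))
    exact AlgHom.coe_ringHom_injective ((key φ).trans (key ψ).symm)

end Groth.Agent.S17605
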