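import Groth.Statements.S17607
import Mathlib
import Groth.Agent.PairHens.Fp
import Groth.Agent.HensTensor.Instances
-- import your own Groth.Agent.* helpers here

set_option autoImplicit false
universe u
open Hensel

namespace Groth.Agent.S17607

/-- Let (A, I) and (B, IB) be Henselian pairs with B an A-algebra. Then the following are equivalent:
(i) A → B is Henselian finitely presented, i.e. there are n, a Henselization P of the pair
(A[X₁,…,Xₙ], I·A[X₁,…,Xₙ]) (a Henselized polynomial ring) and a surjective A-algebra map P → B with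
finitely generated kernel; (ii) there are a finitely presented A-algebra R and an R-algebra
structure on B compatible with that of A for which B is a Henselization of the pair (R, IR). -/
theorem result (A : Type u) [CommRing A] (I : Ideal A)
    [HenselianRing A I] (B : Type u) [CommRing B] [Algebra A B]
    [HenselianRing B (I.map (algebraMap A B))] :
    (∃ (n : ℕ) (P : Type u) (_ : CommRing P) (_ : Algebra (MvPolynomial (Fin n) A) P) (_ : Algebra A P)
        (_ : IsScalarTower A (MvPolynomial (Fin n) A) P),
        Hens2.IsPairHenselization (MvPolynomial (Fin n) A)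
          (I.map (algebraMap A (MvPolynomial (Fin n) A))) P ∧
        ∃ φ : P →ₐ[A] B, Function.Surjective φ ∧ (RingHom.ker φ).FG) ↔
    ∃ (R : Type u) (_ : CommRing R) (_ : Algebra A R) (_ : Algebra R B) (_ : IsScalarTower A R B),
      Algebra.FinitePresentation A R ∧ Hens2.IsPairHenselization R (I.map (algebraMap A R)) B := by
  classical
  constructor
  · rintro ⟨n, P, _, _, _, _, hP, φ, hφ, ⟨G, hG⟩⟩
    obtain ⟨P', _, _, _, hbij, ψ, hψ⟩ := Groth.Agent.PairHens.exists_nbhd_finset hP G
    letI : Algebra P' P := ψ.toRingHom.toAlgebra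
    haveI : IsScalarTower (MvPolynomial (Fin n) A) P' P := .of_algebraMap_eq fun x => (ψ.commutes x).symm
    letI : Algebra A P' := ((algebraMap (MvPolynomial (Fin n) A) P').comp (algebraMap A _)).toAlgebra
    haveI : IsScalarTower A (MvPolynomial (Fin n) A) P' := .of_algebraMap_eq fun _ => rfl
    haveI : Algebra.FinitePresentation A P' :=
      Algebra.FinitePresentation.trans A (MvPolynomial (Fin n) A) P'
    have hP' := Groth.Agent.PairHens.isPairHenselization_nbhd hP hbij
    rw [Ideal.map_map, ← IsScalarTower.algebraMap_eq] at hP'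
    choose y hy using fun x : {x // x ∈ G} => hψ x.2
    let Q : Finset P' := Finset.univ.image y
    let T := P' ⧸ Ideal.span (Q : Set P')
    have hψA : ∀ a, ψ (algebraMap A P' a) = algebraMap A P a := fun a => by
      show ψ (algebraMap (MvPolynomial (Fin n) A) P' (algebraMap A _ a)) = _
      rw [ψ.commutes, ← IsScalarTower.algebraMap_apply]
    let χ : P' →ₐ[A] B :=
      { toRingHom := φ.toRingHom.comp ψ.toRingHom
        commutes' := fun a => by
          show φ (ψ (algebraMap A P' a)) = _
          rw [hψA, φ.commutes] }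
    have hχ : ∀ p ∈ Q, χ p = 0 := by
      intro p hp
      obtain ⟨x, -, rfl⟩ := Finset.mem_image.1 hp
      show φ (ψ (y x)) = 0
      rw [hy x]
      exact RingHom.mem_ker.1 (hG.le (Ideal.subset_span x.2))
    let TB : T →ₐ[A] B := Ideal.Quotient.liftₐ _ χ fun a ha =>
      (Ideal.span_le.2 fun p hp => RingHom.mem_ker.2 (hχ p hp) : _ ≤ RingHom.ker χ) ha
    letI : Algebra T B := TB.toRingHom.toAlgebra
    haveI : IsScalarTower A T B := .of_algebraMap_eq fun a => (TB.commutes a).symm
    refine ⟨T, inferInstance, inferInstance, inferInstance, inferInstance,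
      Algebra.FinitePresentation.quotient ⟨Q, rfl⟩, ?_, ?_⟩
    · rw [Ideal.map_map, ← IsScalarTower.algebraMap_eq]; infer_instance
    · intro D _ J f hD hf
      let fP : P' →+* D := f.comp (Ideal.Quotient.mk _)
      obtain ⟨g, hg, hu⟩ := hP'.2 D J fP hD (by
        rw [Ideal.map_map] at hf ⊢
        exact hf)
      have hker : RingHom.ker φ.toRingHom ≤ RingHom.ker g := by
        have : RingHom.ker φ.toRingHom = Ideal.span (G : Set P) := hG.symm
        rw [this, Ideal.span_le]
        intro x hx
        refine RingHom.mem_ker.2 ?_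
        rw [show g x = g (ψ (y ⟨x, hx⟩)) from congrArg g (hy ⟨x, hx⟩).symm,
          show g (ψ (y ⟨x, hx⟩)) = fP (y ⟨x, hx⟩) from RingHom.congr_fun hg _]
        show f (Ideal.Quotient.mk _ _) = 0
        have hmem : y ⟨x, hx⟩ ∈ Ideal.span (Q : Set P') :=
          Ideal.subset_span (Finset.mem_image.2 ⟨⟨x, hx⟩, Finset.mem_univ _, rfl⟩)
        rw [Ideal.Quotient.eq_zero_iff_mem.2 hmem, map_zero]
      let gB : B →+* D := RingHom.liftOfSurjective φ.toRingHom hφ ⟨g, hker⟩
      have hgB : gB.comp φ.toRingHom = g := RingHom.liftOfRightInverse_comp _ _ _ _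
      refine ⟨gB, ?_, fun g' hg' => ?_⟩
      · show gB.comp TB.toRingHom = f
        refine Ideal.Quotient.ringHom_ext ?_
        rw [RingHom.comp_assoc]
        show gB.comp (φ.toRingHom.comp ψ.toRingHom) = fP
        rw [← RingHom.comp_assoc, hgB]
        exact hg
      · refine (RingHom.cancel_right (g₁ := g') (g₂ := gB) (f := φ.toRingHom) hφ).1 ?_
        rw [hgB]
        refine hu _ (RingHom.ext fun x => ?_)
        show g' (φ (ψ x)) = f (Ideal.Quotient.mk _ x)
        exact RingHom.congr_fun hg' (Ideal.Quotient.mk _ x)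
  · rintro ⟨R, _, _, _, _, hR, hB⟩
    obtain ⟨n, π, hπ, hker⟩ := hR.out
    let M := MvPolynomial (Fin n) A
    let P := Groth.Agent.PairHens.Hz M (I.map (algebraMap A M))
    letI : Algebra A P := ((algebraMap M P).comp (algebraMap A M)).toAlgebra
    haveI : IsScalarTower A M P := .of_algebraMap_eq fun _ => rfl
    have hP : Hens2.IsPairHenselization M (I.map (algebraMap A M)) P :=
      Groth.Agent.PairHens.isPairHenselization M _
    have hq := Groth.Agent.HensTensor.isPairHenselization_quotient hP π.toRingHom hπ
    let K : Ideal P := (RingHom.ker π.toRingHom).map (algebraMap M P)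
    letI : Algebra R (P ⧸ K) :=
      (RingHom.liftOfSurjective π.toRingHom hπ ⟨(Ideal.Quotient.mk _).comp (algebraMap M P),
        fun x hx => Ideal.Quotient.eq_zero_iff_mem.2 (Ideal.mem_map_of_mem _ hx)⟩).toAlgebra
    replace hq : Hens2.IsPairHenselization R ((I.map (algebraMap A M)).map π.toRingHom) (P ⧸ K) := hq
    rw [Ideal.map_map, show π.toRingHom.comp (algebraMap A M) = algebraMap A R from
      RingHom.ext π.commutes] at hq
    obtain ⟨e₁⟩ := Groth.Agent.PairHens.exists_algEquiv hq
    obtain ⟨e₂⟩ := Groth.Agent.PairHens.exists_algEquiv hB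
    let e := e₁.symm.trans e₂
    have hcomp : ∀ m, algebraMap R (P ⧸ K) (π m) = Ideal.Quotient.mk K (algebraMap M P m) :=
      RingHom.liftOfRightInverse_comp_apply π.toRingHom _ (Function.rightInverse_surjInv hπ)
        ⟨(Ideal.Quotient.mk K).comp (algebraMap M P),
          fun x hx => Ideal.Quotient.eq_zero_iff_mem.2 (Ideal.mem_map_of_mem _ hx)⟩
    let φ : P →ₐ[A] B :=
      { toRingHom := (e : (P ⧸ K) →+* B).comp (Ideal.Quotient.mk K)
        commutes' := fun a => by
          show e (Ideal.Quotient.mk K (algebraMap M P (algebraMap A M a))) = _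
          rw [← hcomp, e.commutes, π.commutes, ← IsScalarTower.algebraMap_apply] }
    refine ⟨n, P, inferInstance, inferInstance, inferInstance, inferInstance, hP, φ,
      e.surjective.comp Ideal.Quotient.mk_surjective, ?_⟩
    have : RingHom.ker φ = K := by
      ext x
      show e (Ideal.Quotient.mk K x) = 0 ↔ _
      rw [map_eq_zero_iff e e.injective, Ideal.Quotient.eq_zero_iff_mem]
    rw [this]
    exact Ideal.FG.map hker _

end Groth.Agent.S17607
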