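import Groth.Statements.S17608
import Mathlib
import Groth.Agent.PairHens.Fp
-- import your own Groth.Agent.* helpers here

set_option autoImplicit false
universe u
open Hensel

namespace Groth.Agent.S17608

/-- Let (A, I) be a Henselian pair, let B be a Henselization of the pair (R, IR) for a finitely
presented A-algebra R, and let C be a Henselization of the pair (S, IS) for a finitely presented
B-algebra S, all algebra structures being compatible (so A → B and B → C are Henselian finitely
presented maps of Henselian pairs). Then the composite A → C is Henselian finitely presented: there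
are a finitely presented A-algebra T and a T-algebra structure on C compatible with that of A for
which C is a Henselization of the pair (T, IT). -/
theorem result (A : Type u) [CommRing A] (I : Ideal A) [HenselianRing A I]
    (R : Type u) [CommRing R] [Algebra A R] [Algebra.FinitePresentation A R]
    (B : Type u) [CommRing B] [Algebra R B] [Algebra A B] [IsScalarTower A R B]
    (hB : Hens2.IsPairHenselization R (I.map (algebraMap A R)) B)
    (S : Type u) [CommRing S] [Algebra B S] [Algebra A S] [IsScalarTower A B S] [Algebra.FinitePresentation B S]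
    (C : Type u) [CommRing C] [Algebra S C] [Algebra B C] [Algebra A C] [IsScalarTower B S C]
    [IsScalarTower A B C]
    (hC : Hens2.IsPairHenselization S (I.map (algebraMap A S)) C) :
    ∃ (T : Type u) (_ : CommRing T) (_ : Algebra A T) (_ : Algebra T C) (_ : IsScalarTower A T C),
      Algebra.FinitePresentation A T ∧ Hens2.IsPairHenselization T (I.map (algebraMap A T)) C := by
  classical
  obtain ⟨n, π, hπ, hker⟩ := (inferInstance : Algebra.FinitePresentation B S).out
  obtain ⟨s, hs⟩ := hker
  obtain ⟨R', _, _, _, hbij, φ, hφ⟩ :=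
    Groth.Agent.PairHens.exists_nbhd_finset hB (s.biUnion fun p => p.coeffs)
  letI : Algebra R' B := φ.toRingHom.toAlgebra
  haveI : IsScalarTower R R' B := .of_algebraMap_eq fun x => (φ.commutes x).symm
  letI : Algebra A R' := ((algebraMap R R').comp (algebraMap A R)).toAlgebra
  haveI : IsScalarTower A R R' := .of_algebraMap_eq fun _ => rfl
  haveI : Algebra.FinitePresentation A R' := Algebra.FinitePresentation.trans A R R'
  have hB' := Groth.Agent.PairHens.isPairHenselization_nbhd hB hbij
  have hIR : (I.map (algebraMap A R)).map (algebraMap R R') = I.map (algebraMap A R') := by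
    rw [Ideal.map_map]; rfl
  rw [hIR] at hB'
  have hcomm : (algebraMap R' B).comp (algebraMap A R') = algebraMap A B := by
    show (algebraMap R' B).comp ((algebraMap R R').comp (algebraMap A R)) = _
    rw [← RingHom.comp_assoc, ← IsScalarTower.algebraMap_eq, ← IsScalarTower.algebraMap_eq]
  have hlift : ∀ p ∈ s, ∃ q : MvPolynomial (Fin n) R', MvPolynomial.map φ.toRingHom q = p := fun p hp =>
    MvPolynomial.mem_range_map_iff_coeffs_subset.2 fun c hc => hφ (Finset.mem_biUnion.2 ⟨p, hp, hc⟩)
  choose q hq using hlift
  let Q : Finset (MvPolynomial (Fin n) R') := s.attach.image fun p => q p.1 p.2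
  let T := MvPolynomial (Fin n) R' ⧸ Ideal.span (Q : Set (MvPolynomial (Fin n) R'))
  let mkT : MvPolynomial (Fin n) R' →+* T := Ideal.Quotient.mk _
  let x : Fin n → S := fun i => π (MvPolynomial.X i)
  let toS : MvPolynomial (Fin n) R' →+* S := π.toRingHom.comp (MvPolynomial.map φ.toRingHom)
  have htoS : ∀ p ∈ Q, toS p = 0 := by
    intro p hp
    obtain ⟨⟨p, hp'⟩, -, rfl⟩ := Finset.mem_image.1 hp
    show π (MvPolynomial.map φ.toRingHom (q p hp')) = 0
    rw [hq, ← AlgHom.coe_toRingHom, ← RingHom.mem_ker]
    exact hs.le (Ideal.subset_span hp')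
  let TS : T →+* S := Ideal.Quotient.lift _ toS fun a ha =>
    (Ideal.span_le.2 fun p hp => RingHom.mem_ker.2 (htoS p hp) : _ ≤ RingHom.ker toS) ha
  letI : Algebra T C := ((algebraMap S C).comp TS).toAlgebra
  haveI : IsScalarTower A T C := IsScalarTower.of_algebraMap_eq (R := A) (S := T) (A := C) fun a => by
    show _ = algebraMap S C (π (MvPolynomial.map φ.toRingHom (MvPolynomial.C (algebraMap A R' a))))
    rw [MvPolynomial.map_C, show MvPolynomial.C (φ.toRingHom (algebraMap A R' a)) =
      algebraMap B (MvPolynomial (Fin n) B) (algebraMap A B a) from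
        congrArg _ (RingHom.congr_fun hcomm a), π.commutes, ← IsScalarTower.algebraMap_apply B S C,
      ← IsScalarTower.algebraMap_apply]
  haveI : IsScalarTower A S C := .of_algebraMap_eq fun a => by
    rw [IsScalarTower.algebraMap_apply A B S, ← IsScalarTower.algebraMap_apply B S C, ← IsScalarTower.algebraMap_apply]
  refine ⟨T, inferInstance, inferInstance, inferInstance, inferInstance, ?_, ?_, ?_⟩
  · haveI : Algebra.FinitePresentation A (MvPolynomial (Fin n) R') :=
      Algebra.FinitePresentation.trans A R' _
    exact Algebra.FinitePresentation.quotient ⟨Q, rfl⟩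
  · rw [Ideal.map_map, ← IsScalarTower.algebraMap_eq]
    have := hC.1
    rwa [Ideal.map_map, ← IsScalarTower.algebraMap_eq] at this
  · intro D _ J f hD hf
    have hfA : I.map (f.comp (algebraMap A T)) ≤ J := by rw [← Ideal.map_map]; exact hf
    let fR : R' →+* D := (f.comp mkT).comp MvPolynomial.C
    have hfR : (I.map (algebraMap A R')).map fR ≤ J := by rw [Ideal.map_map]; exact hfA
    obtain ⟨gB, hgB, huB⟩ := hB'.2 D J fR hD hfR
    let E : MvPolynomial (Fin n) B →+* D :=
      MvPolynomial.eval₂Hom gB fun i => f (mkT (MvPolynomial.X i))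
    have hE : E.comp (MvPolynomial.map φ.toRingHom) = f.comp mkT := by
      refine MvPolynomial.ringHom_ext (fun r => ?_) fun i => ?_
      · show E (MvPolynomial.map φ.toRingHom (MvPolynomial.C r)) = fR r
        rw [MvPolynomial.map_C, MvPolynomial.eval₂Hom_C]
        exact RingHom.congr_fun hgB r
      · show E (MvPolynomial.map φ.toRingHom (MvPolynomial.X i)) = _
        rw [MvPolynomial.map_X, MvPolynomial.eval₂Hom_X']
        rfl
    have hEker : RingHom.ker π.toRingHom ≤ RingHom.ker E := by
      have hs' : RingHom.ker π.toRingHom = Ideal.span (s : Set (MvPolynomial (Fin n) B)) := hs.symm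
      rw [hs', Ideal.span_le]
      intro p hp
      refine RingHom.mem_ker.2 ?_
      rw [← hq p hp, ← RingHom.comp_apply, hE]
      show f (mkT _) = 0
      rw [show mkT (q p hp) = 0 from Ideal.Quotient.eq_zero_iff_mem.2
        (Ideal.subset_span (Finset.mem_image.2 ⟨⟨p, hp⟩, Finset.mem_attach _ _, rfl⟩)), map_zero]
    let fS : S →+* D := RingHom.liftOfSurjective π.toRingHom hπ ⟨E, hEker⟩
    have hfS : fS.comp π.toRingHom = E := RingHom.liftOfRightInverse_comp _ _ _ _
    have hfSA : fS.comp (algebraMap A S) = f.comp (algebraMap A T) := by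
      ext a
      show fS (algebraMap A S a) = f (mkT (MvPolynomial.C (algebraMap A R' a)))
      rw [IsScalarTower.algebraMap_apply A B S, ← π.commutes]
      show (fS.comp π.toRingHom) (MvPolynomial.C _) = _
      rw [hfS, MvPolynomial.eval₂Hom_C, ← hcomm]
      exact RingHom.congr_fun hgB _
    obtain ⟨g, hg, hu⟩ := hC.2 D J fS hD (by rw [Ideal.map_map, hfSA]; exact hfA)
    refine ⟨g, ?_, fun g' hg' => hu g' ?_⟩
    · show g.comp ((algebraMap S C).comp TS) = f
      rw [← RingHom.comp_assoc, hg]
      refine Ideal.Quotient.ringHom_ext ?_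
      rw [RingHom.comp_assoc, Ideal.Quotient.lift_comp_mk]
      show fS.comp (π.toRingHom.comp (MvPolynomial.map φ.toRingHom)) = f.comp mkT
      rw [← RingHom.comp_assoc, hfS, hE]
    · show g'.comp (algebraMap S C) = fS
      have hg'B : g'.comp (algebraMap B C) = gB := huB _ (RingHom.ext fun r => by
        show g' (algebraMap B C (φ r)) = f (mkT (MvPolynomial.C r))
        rw [← RingHom.congr_fun hg' (mkT (MvPolynomial.C r))]
        show _ = g' (algebraMap S C (π (MvPolynomial.map φ.toRingHom (MvPolynomial.C r))))
        rw [MvPolynomial.map_C, ← MvPolynomial.algebraMap_eq, π.commutes,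
          ← IsScalarTower.algebraMap_apply B S C]
        rfl)
      refine (RingHom.cancel_right (g₁ := g'.comp (algebraMap S C)) (g₂ := fS) (f := π.toRingHom) hπ).1 ?_
      rw [hfS]
      refine MvPolynomial.ringHom_ext (fun b => ?_) fun i => ?_
      · show g' (algebraMap S C (π (MvPolynomial.C b))) = _
        rw [MvPolynomial.eval₂Hom_C, ← MvPolynomial.algebraMap_eq, π.commutes,
          ← IsScalarTower.algebraMap_apply, ← hg'B]
        rfl
      · show g' (algebraMap S C (π (MvPolynomial.X i))) = _
        rw [MvPolynomial.eval₂Hom_X', ← RingHom.congr_fun hg' (mkT (MvPolynomial.X i))]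
        show _ = g' (algebraMap S C (π (MvPolynomial.map φ.toRingHom (MvPolynomial.X i))))
        rw [MvPolynomial.map_X]

end Groth.Agent.S17608
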