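import Groth.Statements.S1761
import Groth.Agent.DualCxLib.PairD
import Groth.Agent.InjHullLib.Matlis
-- Template for statement S1761 (row 1760; see the milestone table for weights).
-- Copy to Groth/Agent/S1761.lean and replace the sorry. The statement below is byte-identical to the frozen
-- statement Dual.GrothFrozen.S1761 (Groth/Statements/S1761.lean; the theorem Dual.local_duality_complete_complex);
-- the grader kernel-checks Groth.Agent.S1761.result against that frozen type. Keep the theorem IN THIS FILE
-- (a `result` declared elsewhere and merely imported here is not credited); helpers may live anywhere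
-- under Groth/Agent/.
-- helpers: DualCxLib

set_option autoImplicit false
universe u
open CategoryTheory
attribute [local instance] HasDerivedCategory.standard
open Dual Groth.Agent.DualCxLib

namespace Groth.Agent.S1761

/-- For a complete local ring (where the completion on the left-hand side is the identity). Let A be a
complete Noetherian local ring with maximal ideal m, normalized dualizing complex ω and injective
hull κ → E of the residue field. For every K in D(A) all of whose cohomology modules are finite and
every integer i, the A-module of maps K → ω[−i] in D(A) is isomorphic to Hom_A(H^i_m(K), E), where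
H^i_m(K) is the direct limit of Hom(A/m^n, K[i]). -/
theorem result (A : Type u) [CommRing A] [IsLocalRing A] [IsNoetherianRing A] [IsAdicComplete (IsLocalRing.maximalIdeal A) A] (ω : Dual.D A) (hω : Dual.IsDualizing A ω) (hn : Dual.IsNormalized A ω) (E : Type u) [AddCommGroup E] [Module A E] (f : IsLocalRing.ResidueField A →ₗ[A] E) (hf : InjHull.IsInjectiveHull f) (K : Dual.D A) (hK : ∀ i : ℤ, Module.Finite A (Dual.HD A K i)) (i : ℤ) : Nonempty ((K ⟶ ω⟦(-i)⟧) ≃ₗ[A] (Dual2.HDI A (IsLocalRing.maximalIdeal A) K i →ₗ[A] E)) := by
  let S := model hω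
  obtain ⟨e⟩ := S.nonempty_E0_equiv hω hn hf
  haveI : Module.Finite A (K ⟶ ω⟦-i⟧) := S.finite_hom hω.finite_cohomology K hK (-i)
  obtain ⟨q, π, hπ⟩ := Module.Finite.exists_fin' A (K ⟶ ω⟦-i⟧)
  let eL : ((Fin q → A) ⧸ LinearMap.ker π) ≃ₗ[A] (K ⟶ ω⟦-i⟧) := π.quotKerEquivOfSurjective hπ
  let eP := LinearEquiv.ofBijective (S.phiD hω hn e K i) (S.bijective_phiD hω hn e hf K hK i)
  let ev : ((Fin q → A) ⧸ LinearMap.ker π) ≃ₗ[A] ((((Fin q → A) ⧸ LinearMap.ker π) →ₗ[A] E) →ₗ[A] E) :=
    LinearEquiv.ofBijective LinearMap.applyₗ
      ⟨InjHullLib.eval_injective hf _, InjHullLib.eval_surjective_of_finite hf _⟩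
  let eH : (((Fin q → A) ⧸ LinearMap.ker π) →ₗ[A] E) ≃ₗ[A] Dual2.HDI A (IsLocalRing.maximalIdeal A) K i :=
    (LinearEquiv.arrowCongr eL (LinearEquiv.refl A E)).trans eP.symm
  exact ⟨eL.symm.trans (ev.trans (LinearEquiv.arrowCongr eH (LinearEquiv.refl A E)))⟩

end Groth.Agent.S1761
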