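import Groth.Statements.S17613
import Mathlib
import Groth.Agent.PairHens.Fp
-- import your own Groth.Agent.* helpers here

set_option autoImplicit false
universe u
open Hensel

namespace Groth.Agent.S17613

/-- Let (A, I) be a Henselian pair and let B be a Henselization of the pair (R₀, IR₀) for a finitely
presented A-algebra R₀ (so A → B is Henselian finitely presented). Let (R_a) be a directed system of
A-algebras with A-compatible transition maps such that each (R_a, IR_a) is a Henselian pair, and let
L be its direct limit with the induced A-algebra structure. Then the canonical map from the colimit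
of the Hom_A(B, R_a) to Hom_A(B, L) is bijective: every A-algebra map B → L factors through some
R_a, and two A-algebra maps B → R_a whose composites with R_a → L agree become equal after passing
to some R_b. (Index set in the universe of the rings.) -/
theorem result (A : Type u) [CommRing A] (I : Ideal A)
    [HenselianRing A I] (R₀ : Type u) [CommRing R₀] [Algebra A R₀] [Algebra.FinitePresentation A R₀]
    (B : Type u) [CommRing B] [Algebra R₀ B] [Algebra A B] [IsScalarTower A R₀ B]
    (hB : Hens2.IsPairHenselization R₀ (I.map (algebraMap A R₀)) B)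
    {κ : Type u} [Preorder κ] [IsDirectedOrder κ] [Nonempty κ]
    (Ra : κ → Type u) [∀ a, CommRing (Ra a)] [∀ a, Algebra A (Ra a)]
    [∀ a, HenselianRing (Ra a) (I.map (algebraMap A (Ra a)))]
    (t : ∀ a b : κ, a ≤ b → (Ra a →+* Ra b)) [DirectedSystem Ra (fun a b h => t a b h)]
    (ht : ∀ (a b : κ) (h : a ≤ b), (t a b h).comp (algebraMap A (Ra a)) = algebraMap A (Ra b))
    [Algebra A (DirectLimit Ra t)]
    (halg : ∀ (a : κ) (x : A), algebraMap A (DirectLimit Ra t) x =
      DirectLimit.Ring.of Ra t a (algebraMap A (Ra a) x)) :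
    (∀ χ : B →ₐ[A] DirectLimit Ra t, ∃ (a : κ) (φ : B →ₐ[A] Ra a),
        ∀ x : B, DirectLimit.Ring.of Ra t a (φ x) = χ x) ∧
    ∀ (a : κ) (φ ψ : B →ₐ[A] Ra a),
      (∀ x : B, DirectLimit.Ring.of Ra t a (φ x) = DirectLimit.Ring.of Ra t a (ψ x)) →
      ∃ (b : κ) (h : a ≤ b), ∀ x : B, t a b h (φ x) = t a b h (ψ x) := by
  classical
  have hht : ∀ (a b : κ) (h : a ≤ b) (x : A), t a b h (algebraMap A (Ra a) x) = algebraMap A (Ra b) x :=
    fun a b h x => RingHom.congr_fun (ht a b h) x
  have htt : ∀ i j k (hij : i ≤ j) (hjk : j ≤ k) (x : Ra i),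
      t j k hjk (t i j hij x) = t i k (hij.trans hjk) x :=
    fun i j k hij hjk x => DirectedSystem.map_map' t hij hjk x
  let of' := DirectLimit.Ring.of Ra t
  have hof : ∀ (a b : κ) (h : a ≤ b) (x : Ra a), of' b (t a b h x) = of' a x :=
    fun a b h x => DirectLimit.Ring.of_f h x
  have hzero : ∀ (a : κ) (x y : Ra a), of' a x = of' a y → ∃ b h, t a b h x = t a b h y := by
    intro a x y h
    obtain ⟨b, h₁, h₂, he⟩ := Quotient.exact (show (⟦⟨a, x⟩⟧ : DirectLimit Ra t) = ⟦⟨a, y⟩⟧ from h)
    exact ⟨b, h₁, he⟩
  -- equality at finitely many places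
  have hcommon : ∀ (a : κ) (σ : Finset (Ra a × Ra a)), (∀ p ∈ σ, of' a p.1 = of' a p.2) →
      ∃ b h, ∀ p ∈ σ, t a b h p.1 = t a b h p.2 := by
    intro a σ
    induction σ using Finset.induction with
    | empty => exact fun _ => ⟨a, le_rfl, by simp⟩
    | insert p σ _ ih =>
      intro hσ
      obtain ⟨b, hb, hσb⟩ := ih fun q hq => hσ q (Finset.mem_insert_of_mem hq)
      obtain ⟨c, hc, hpc⟩ := hzero a p.1 p.2 (hσ p (Finset.mem_insert_self _ _))
      obtain ⟨d, hbd, hcd⟩ := exists_ge_ge b c
      refine ⟨d, hb.trans hbd, fun q hq => ?_⟩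
      rcases Finset.mem_insert.1 hq with rfl | hq
      · rw [← htt a c d hc hcd, ← htt a c d hc hcd, hpc]
      · rw [← htt a b d hb hbd, ← htt a b d hb hbd, hσb q hq]
  let L := DirectLimit Ra t
  have hLI : (⨆ a, (I.map (algebraMap A (Ra a))).map (of' a)) = I.map (algebraMap A L) := by
    have : ∀ a, (I.map (algebraMap A (Ra a))).map (of' a) = I.map (algebraMap A L) := fun a => by
      rw [Ideal.map_map]
      congr 1
      exact RingHom.ext fun x => (halg a x).symm
    simp only [this, iSup_const]
  haveI hL : HenselianRing L (I.map (algebraMap A L)) := by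
    rw [← hLI]
    refine Groth.Agent.PairHens.henselianRing_colimit t _
      (fun i j h => by rw [Ideal.map_map, ht]) (fun i => inferInstance) of' htt
      (fun i j h => RingHom.ext (hof i j h)) (fun z => ?_) fun i x hx => ?_
    · induction z using DirectLimit.induction with | _ i x => exact ⟨i, x, rfl⟩
    · obtain ⟨b, h, he⟩ := hzero i x 0 (by rw [hx, map_zero])
      exact ⟨b, h, by rw [he, map_zero]⟩
  constructor
  · intro χ
    obtain ⟨n, π, hπ, ⟨G, hG⟩⟩ := (inferInstance : Algebra.FinitePresentation A R₀).out
    let z : Fin n → L := fun i => χ (algebraMap R₀ B (π (MvPolynomial.X i)))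
    have hsurj : ∀ w : L, ∃ i x, of' i x = w := fun w => by
      induction w using DirectLimit.induction with | _ i x => exact ⟨i, x, rfl⟩
    choose ia xa hxa using fun i => hsurj (z i)
    obtain ⟨a, ha⟩ := Finset.exists_le (Finset.univ.image ia)
    let x : Fin n → Ra a := fun i => t (ia i) a (ha _ (Finset.mem_image_of_mem _ (Finset.mem_univ i))) (xa i)
    have hx : ∀ i, of' a (x i) = z i := fun i => by rw [hof, hxa i]
    have hev : ∀ p : MvPolynomial (Fin n) A,
        of' a (MvPolynomial.aeval x p) = χ (algebraMap R₀ B (π p)) := by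
      intro p
      induction p using MvPolynomial.induction_on with
      | C c =>
        rw [MvPolynomial.aeval_C, ← halg a c, ← MvPolynomial.algebraMap_eq, π.commutes,
          ← IsScalarTower.algebraMap_apply, χ.commutes]
      | add p q hp hq => simp only [map_add, hp, hq]
      | mul_X p i hp => simp only [map_mul, hp, MvPolynomial.aeval_X, hx]; rfl
    obtain ⟨b, hab, hb⟩ := hcommon a (G.image fun p => (MvPolynomial.aeval x p, (0 : Ra a))) (by
      intro q hq
      obtain ⟨p, hp, rfl⟩ := Finset.mem_image.1 hq
      show of' a (MvPolynomial.aeval x p) = of' a 0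
      rw [hev, map_zero, show π p = 0 from RingHom.mem_ker.1 (hG.le (Ideal.subset_span hp)), map_zero,
        map_zero])
    let y : Fin n → Ra b := fun i => t a b hab (x i)
    have hy : ∀ p : MvPolynomial (Fin n) A, MvPolynomial.aeval y p = t a b hab (MvPolynomial.aeval x p) := by
      intro p
      induction p using MvPolynomial.induction_on with
      | C c => rw [MvPolynomial.aeval_C, MvPolynomial.aeval_C, hht]
      | add p q hp hq => simp only [map_add, hp, hq]
      | mul_X p i hp => simp only [map_mul, hp, MvPolynomial.aeval_X]; rfl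
    have hle : RingHom.ker π.toRingHom ≤
        RingHom.ker (MvPolynomial.aeval (R := A) y).toRingHom := by
      have : RingHom.ker π.toRingHom = Ideal.span (G : Set (MvPolynomial (Fin n) A)) := hG.symm
      rw [this, Ideal.span_le]
      intro p hp
      refine RingHom.mem_ker.2 ?_
      show MvPolynomial.aeval y p = 0
      have h1 := hb (MvPolynomial.aeval x p, 0) (Finset.mem_image_of_mem _ hp)
      rw [hy, h1, map_zero]
    let f : R₀ →+* Ra b := RingHom.liftOfSurjective π.toRingHom hπ ⟨_, hle⟩
    have hf : ∀ p, f (π p) = MvPolynomial.aeval y p :=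
      RingHom.liftOfRightInverse_comp_apply π.toRingHom _ (Function.rightInverse_surjInv hπ) ⟨_, hle⟩
    have hfA : f.comp (algebraMap A R₀) = algebraMap A (Ra b) := by
      ext c
      show f (algebraMap A R₀ c) = _
      rw [← π.commutes, hf, AlgHom.commutes]
    obtain ⟨g, hg, -⟩ := hB.2 (Ra b) (I.map (algebraMap A (Ra b))) f inferInstance
      (by rw [Ideal.map_map, hfA])
    let φ : B →ₐ[A] Ra b :=
      { toRingHom := g
        commutes' := fun c => by
          show g (algebraMap A B c) = _
          rw [IsScalarTower.algebraMap_apply A R₀ B, ← hfA]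
          exact RingHom.congr_fun hg _ }
    refine ⟨b, φ, fun u => RingHom.congr_fun
      (Groth.Agent.PairHens.ext_hom hB (I.map (algebraMap A L)) (g₁ := (of' b).comp g)
        (g₂ := χ.toRingHom) ?_ ?_) u⟩
    · ext r
      obtain ⟨p, rfl⟩ := hπ r
      show of' b (g (algebraMap R₀ B (π p))) = χ (algebraMap R₀ B (π p))
      rw [show g (algebraMap R₀ B (π p)) = f (π p) from RingHom.congr_fun hg _, hf, hy, hof, hev]
    · rw [Ideal.map_map]
      refine le_of_eq (congrArg (I.map ·) (RingHom.ext fun c => ?_))
      show of' b (g (algebraMap R₀ B (algebraMap A R₀ c))) = _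
      rw [show g (algebraMap R₀ B (algebraMap A R₀ c)) = algebraMap A (Ra b) c from
        (RingHom.congr_fun hg _).trans (RingHom.congr_fun hfA c)]
      exact (halg b c).symm
  · intro a φ ψ hφψ
    obtain ⟨s, hs⟩ := Algebra.FiniteType.out (R := A) (A := R₀)
    obtain ⟨b, hab, hb⟩ := hcommon a
      (s.image fun r => (φ (algebraMap R₀ B r), ψ (algebraMap R₀ B r))) (by
        intro q hq
        obtain ⟨r, -, rfl⟩ := Finset.mem_image.1 hq
        exact hφψ _)
    refine ⟨b, hab, fun u => RingHom.congr_fun
      (Groth.Agent.PairHens.ext_hom hB (I.map (algebraMap A (Ra b)))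
        (g₁ := (t a b hab).comp φ.toRingHom) (g₂ := (t a b hab).comp ψ.toRingHom) ?_ ?_) u⟩
    · let p₁ : R₀ →ₐ[A] Ra b :=
        { toRingHom := ((t a b hab).comp φ.toRingHom).comp (algebraMap R₀ B)
          commutes' := fun c => by
            show t a b hab (φ (algebraMap R₀ B (algebraMap A R₀ c))) = _
            rw [← IsScalarTower.algebraMap_apply, φ.commutes, hht] }
      let p₂ : R₀ →ₐ[A] Ra b :=
        { toRingHom := ((t a b hab).comp ψ.toRingHom).comp (algebraMap R₀ B)
          commutes' := fun c => by
            show t a b hab (ψ (algebraMap R₀ B (algebraMap A R₀ c))) = _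
            rw [← IsScalarTower.algebraMap_apply, ψ.commutes, hht] }
      have : p₁ = p₂ := AlgHom.ext_of_adjoin_eq_top hs fun r hr => hb _ (Finset.mem_image_of_mem _ hr)
      exact RingHom.ext fun r => AlgHom.congr_fun this r
    · rw [Ideal.map_map]
      refine le_of_eq (congrArg (I.map ·) (RingHom.ext fun c => ?_))
      show t a b hab (φ (algebraMap R₀ B (algebraMap A R₀ c))) = _
      rw [← IsScalarTower.algebraMap_apply, φ.commutes, hht]

end Groth.Agent.S17613
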