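import Groth.Statements.S17615
import Mathlib
import Groth.Agent.PairHens.Fp
import Groth.Agent.S17593
import Groth.Agent.EtDescent.Scheme
-- import your own Groth.Agent.* helpers here

set_option autoImplicit false
universe u
open Hensel

namespace Groth.Agent.S17615

/-- Let (A, I) be a Henselian pair and let B be a Henselization of the pair (R₀, IR₀) for a finitely
presented A-algebra R₀ (so A → B is a Henselian finitely presented map of Henselian pairs). If B is
flat over A, then there are a finitely presented A-algebra S that is flat over A and an S-algebra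
structure on B compatible with that of A for which B is a Henselization of the pair (S, IS). -/
theorem result (A : Type u) [CommRing A]
    (I : Ideal A) [HenselianRing A I]
    (R₀ : Type u) [CommRing R₀] [Algebra A R₀] [Algebra.FinitePresentation A R₀]
    (B : Type u) [CommRing B] [Algebra R₀ B] [Algebra A B] [IsScalarTower A R₀ B]
    (hB : Hens2.IsPairHenselization R₀ (I.map (algebraMap A R₀)) B) [Module.Flat A B] :
    ∃ (S : Type u) (_ : CommRing S) (_ : Algebra A S) (_ : Algebra S B) (_ : IsScalarTower A S B),
      Algebra.FinitePresentation A S ∧ Module.Flat A S ∧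
      Hens2.IsPairHenselization S (I.map (algebraMap A S)) B := by
  have hflat : ∀ (p : Ideal R₀) [p.IsPrime], I.map (algebraMap A R₀) ≤ p →
      Module.Flat A (Localization.AtPrime p) := by
    intro p hp hle
    haveI := Groth.Agent.PairHens.flat_of_isPairHenselization hB
    have hcm : (p.map (algebraMap R₀ B)).comap (algebraMap R₀ B) = p :=
      Groth.Agent.PairHens.comap_map_eq hB p 1 (by rwa [pow_one])
    obtain ⟨q, hq, hqc⟩ := (Ideal.comap_map_eq_self_iff_of_isPrime p).1 hcm
    haveI := hq
    haveI : q.LiesOver p := ⟨hqc.symm⟩
    let φ := Localization.localRingHom p q (algebraMap R₀ B) (q.over_def p)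
    letI : Algebra (Localization.AtPrime p) (Localization.AtPrime q) := φ.toAlgebra
    haveI : IsLocalHom (algebraMap (Localization.AtPrime p) (Localization.AtPrime q)) :=
      Localization.isLocalHom_localRingHom p q (algebraMap R₀ B) (q.over_def p)
    haveI : IsScalarTower R₀ (Localization.AtPrime p) (Localization.AtPrime q) :=
      .of_algebraMap_eq fun x => by
        show _ = φ (algebraMap R₀ (Localization.AtPrime p) x)
        rw [Localization.localRingHom_to_map, ← IsScalarTower.algebraMap_apply]
    haveI : Module.Flat R₀ (Localization.AtPrime q) := Module.Flat.trans R₀ B _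
    haveI : Module.Flat (Localization.AtPrime p) (Localization.AtPrime q) :=
      (Module.flat_iff_of_isLocalization (Localization.AtPrime p) p.primeCompl _).mpr inferInstance
    haveI : Module.FaithfullyFlat (Localization.AtPrime p) (Localization.AtPrime q) :=
      Module.FaithfullyFlat.of_flat_of_isLocalHom
    haveI : IsScalarTower A (Localization.AtPrime p) (Localization.AtPrime q) :=
      .of_algebraMap_eq fun x => by
        rw [IsScalarTower.algebraMap_apply A R₀ (Localization.AtPrime p),
          ← IsScalarTower.algebraMap_apply R₀ (Localization.AtPrime p) (Localization.AtPrime q),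
          IsScalarTower.algebraMap_apply R₀ B (Localization.AtPrime q),
          ← IsScalarTower.algebraMap_apply A R₀ B, ← IsScalarTower.algebraMap_apply]
    haveI : Module.Flat A (Localization.AtPrime q) := Module.Flat.trans A B _
    exact Groth.Agent.EtDescent.flat_of_faithfullyFlat A (Localization.AtPrime p) (Localization.AtPrime q)
  obtain ⟨R', _, _, _, _, het, hbij, hfl⟩ := Groth.Agent.S17593.result A I R₀ hflat
  haveI := het
  obtain ⟨σ, -⟩ := Groth.Agent.PairHens.exists_pointOfBijective hbij
  obtain ⟨ε, hε, -⟩ := Groth.Agent.PairHens.exists_point hB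
  obtain ⟨φ, -, -⟩ := Groth.Agent.PairHens.existsUnique_algHom hB ε hε σ
  letI : Algebra R' B := φ.toRingHom.toAlgebra
  haveI : IsScalarTower R₀ R' B := .of_algebraMap_eq fun x => (φ.commutes x).symm
  have hAB : IsScalarTower A R' B := .of_algebraMap_eq fun x => by
    rw [IsScalarTower.algebraMap_apply A R₀ R', ← IsScalarTower.algebraMap_apply R₀ R' B,
      ← IsScalarTower.algebraMap_apply]
  refine ⟨R', inferInstance, inferInstance, inferInstance, hAB,
    Algebra.FinitePresentation.trans A R₀ R', hfl, ?_⟩
  have := Groth.Agent.PairHens.isPairHenselization_nbhd hB hbij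
  rwa [Ideal.map_map, ← IsScalarTower.algebraMap_eq] at this

end Groth.Agent.S17615
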