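import Groth.Statements.S17616


set_option autoImplicit false
universe u
open Hensel

namespace Groth.Agent.S17616

/-- Let P be a property of ring maps (between rings in a fixed universe), and say that f : B → B' has P
at a prime q of B' if the composite B → B' → B'_g has P for some g ∉ q. Assume (i) for every
finitely presented f : B → B' the set of primes of B' at which f has P is ind-constructible in Spec
B', and f has P as soon as it has P at every prime; (ii) every étale ring map has P; (iii) for g : C
→ C' and h : C' → C'', if h has P at a prime q of C'' and g has P at the inverse image of q in C',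
then h ∘ g has P at q. Now suppose (A, I) is a Henselian pair, and take an A-algebra R of finite
presentation for which A → R has P at each prime of R that contains IR. Then there is an étale
R-algebra R' with R/IR → R'/IR' bijective such that A → R' has P. -/
theorem result
    (P : ∀ ⦃B B' : Type u⦄ [CommRing B] [CommRing B'], (B →+* B') → Prop)
    (PAt : ∀ ⦃B B' : Type u⦄ [CommRing B] [CommRing B'], (B →+* B') → Ideal B' → Prop)
    (hPAt : ∀ ⦃B B' : Type u⦄ [CommRing B] [CommRing B'] (f : B →+* B') (q : Ideal B'),
      PAt f q ↔ ∃ g : B', g ∉ q ∧ P ((algebraMap B' (Localization.Away g)).comp f))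
    (h₁ : ∀ ⦃B B' : Type u⦄ [CommRing B] [CommRing B'] (f : B →+* B'), f.FinitePresentation →
      ProCons.IsIndConstructible {q : PrimeSpectrum B' | PAt f q.asIdeal} ∧
        ((∀ q : PrimeSpectrum B', PAt f q.asIdeal) → P f))
    (h₂ : ∀ ⦃B B' : Type u⦄ [CommRing B] [CommRing B'] (f : B →+* B'), f.Etale → P f)
    (h₃ : ∀ ⦃C C' C'' : Type u⦄ [CommRing C] [CommRing C'] [CommRing C''] (g : C →+* C')
      (h : C' →+* C'') (q : Ideal C'') [q.IsPrime],
      PAt h q → PAt g (q.comap h) → PAt (h.comp g) q)
    (A : Type u) [CommRing A] (I : Ideal A) [HenselianRing A I]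
    (R : Type u) [CommRing R] [Algebra A R] [Algebra.FinitePresentation A R]
    (hR : ∀ (p : Ideal R) [p.IsPrime], I.map (algebraMap A R) ≤ p → PAt (algebraMap A R) p) :
    ∃ (R' : Type u) (_ : CommRing R') (_ : Algebra R R') (_ : Algebra A R') (_ : IsScalarTower A R R'),
      Algebra.Etale R R' ∧
      Function.Bijective (Ideal.quotientMap ((I.map (algebraMap A R)).map (algebraMap R R'))
        (algebraMap R R') Ideal.le_comap_map) ∧ P (algebraMap A R') := by
  classical
  let J : Ideal R := Ideal.span {g : R | P ((algebraMap R (Localization.Away g)).comp (algebraMap A R))}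
  have htop : J ⊔ I.map (algebraMap A R) = ⊤ := by
    by_contra hne
    obtain ⟨m, hm, hle⟩ := Ideal.exists_le_maximal _ hne
    haveI := hm.isPrime
    obtain ⟨g, hg, hP⟩ := (hPAt _ _).1 (hR m (le_sup_right.trans hle))
    exact hg ((le_sup_left.trans hle) (Ideal.subset_span hP))
  obtain ⟨f, hf, i, hi, hfi⟩ := Submodule.mem_sup.1 ((Ideal.eq_top_iff_one _).1 htop)
  haveI : Algebra.Etale R (Localization.Away f) := Algebra.Etale.of_isLocalizationAway f
  refine ⟨Localization.Away f, inferInstance, inferInstance, inferInstance, inferInstance, inferInstance, ?_, ?_⟩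
  · let L := Localization.Away f
    let K := I.map (algebraMap A R)
    let π := Ideal.Quotient.mk K
    have hu : IsUnit (π f) := by
      have h1 : π f + π i = 1 := by rw [← map_add, hfi, map_one]
      rw [Ideal.Quotient.eq_zero_iff_mem.2 hi, add_zero] at h1
      rw [h1]; exact isUnit_one
    let ψ : L →+* R ⧸ K := IsLocalization.Away.lift f (g := π) hu
    have hψ : ∀ r, ψ (algebraMap R L r) = π r := fun r => IsLocalization.Away.lift_eq f hu r
    let χ : L ⧸ K.map (algebraMap R L) →+* R ⧸ K := Ideal.Quotient.lift _ ψ fun a ha => by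
      refine (Ideal.map_le_iff_le_comap.2 ?_ : K.map (algebraMap R L) ≤ RingHom.ker ψ) ha
      intro r hr
      rw [Ideal.mem_comap, RingHom.mem_ker, hψ]
      exact Ideal.Quotient.eq_zero_iff_mem.2 hr
    have hl : ∀ z, χ (Ideal.quotientMap (K.map (algebraMap R L)) (algebraMap R L) Ideal.le_comap_map z) = z := fun z => by
      obtain ⟨r, rfl⟩ := Ideal.Quotient.mk_surjective z
      exact hψ r
    refine ⟨Function.LeftInverse.injective hl, fun z => ?_⟩
    obtain ⟨y, rfl⟩ := Ideal.Quotient.mk_surjective z
    obtain ⟨n, r, hr⟩ := IsLocalization.Away.surj f y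
    refine ⟨π r, ?_⟩
    show Ideal.Quotient.mk _ (algebraMap R L r) = Ideal.Quotient.mk _ y
    rw [← hr, map_mul, map_pow]
    have h1 : Ideal.Quotient.mk (K.map (algebraMap R L)) (algebraMap R L f) = 1 := by
      have h0 := congrArg (fun t => Ideal.Quotient.mk (K.map (algebraMap R L)) (algebraMap R L t)) hfi
      have hi0 : Ideal.Quotient.mk (K.map (algebraMap R L)) (algebraMap R L i) = 0 :=
        Ideal.Quotient.eq_zero_iff_mem.2 (Ideal.mem_map_of_mem _ hi)
      simp only [map_add, map_one, hi0, add_zero] at h0
      exact h0
    rw [h1, one_pow, mul_one]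
  · let L := Localization.Away f
    have hfp : (algebraMap A L).FinitePresentation := by
      haveI : Algebra.FinitePresentation R L := IsLocalization.Away.finitePresentation f
      exact RingHom.finitePresentation_algebraMap.2 (Algebra.FinitePresentation.trans A R L)
    refine (h₁ (algebraMap A L) hfp).2 fun q => ?_
    rw [IsScalarTower.algebraMap_eq A R L]
    refine h₃ _ _ q.asIdeal ((hPAt _ _).2 ⟨1, fun h => q.isPrime.ne_top ((Ideal.eq_top_iff_one _).2 h), ?_⟩) ?_
    · refine h₂ _ ?_
      haveI : Algebra.Etale L (Localization.Away (1 : L)) := Algebra.Etale.of_isLocalizationAway (1 : L)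
      have e1 : (algebraMap R L).Etale := RingHom.etale_algebraMap.2 inferInstance
      have e2 : (algebraMap L (Localization.Away (1 : L))).Etale := RingHom.etale_algebraMap.2 inferInstance
      exact RingHom.Etale.stableUnderComposition _ _ e1 e2
    · by_contra hq
      have hsub : J ≤ q.asIdeal.comap (algebraMap R L) := Ideal.span_le.2 fun g hg => by
        by_contra hgq
        exact hq ((hPAt _ _).2 ⟨g, hgq, hg⟩)
      exact q.isPrime.ne_top (Ideal.eq_top_of_isUnit_mem _ (hsub hf) (IsLocalization.Away.algebraMap_isUnit f))

end Groth.Agent.S17616
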