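import Groth.Statements.S17617
import Groth.Agent.PairHens.Basic
import Groth.Agent.PairHens.Torsion
import Mathlib
-- import your own Groth.Agent.* helpers here

set_option autoImplicit false
universe u
open Hensel

namespace Groth.Agent.S17617

/-- Let (A, I) be a Henselian pair and let M' → M → M'' be A-linear maps with zero composite. Then M' →
M → M'' is exact if and only if for every prime ideal p of A containing I and every Henselization H
of the pair (A_p, IA_p), the sequence H ⊗_A M' → H ⊗_A M → H ⊗_A M'' is exact. (The modules H ⊗_A M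
are the stalks at p of the sheaf associated to M on the affine Henselian scheme of (A, I), and
exactness of a sequence of such sheaves is exactness at every stalk, so this is the statement that
the sequence of modules is exact exactly when the associated sequence of sheaves is.) -/
theorem result (A : Type u) [CommRing A]
    (I : Ideal A) [HenselianRing A I]
    (M' M M'' : Type u) [AddCommGroup M'] [Module A M'] [AddCommGroup M] [Module A M]
    [AddCommGroup M''] [Module A M''] (f : M' →ₗ[A] M) (g : M →ₗ[A] M'') (hfg : g.comp f = 0) :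
    Function.Exact f g ↔
    ∀ (p : Ideal A) [p.IsPrime], I ≤ p →
      ∀ (H : Type u) [CommRing H] [Algebra (Localization.AtPrime p) H] [Algebra A H]
        [IsScalarTower A (Localization.AtPrime p) H],
        Hens2.IsPairHenselization (Localization.AtPrime p)
          (I.map (algebraMap A (Localization.AtPrime p))) H →
        Function.Exact (f.baseChange H) (g.baseChange H) := by
  constructor
  · intro hex p _ _ H _ _ _ _ hH
    haveI : Module.Flat (Localization.AtPrime p) H := Groth.Agent.PairHens.flat_of_isPairHenselization hH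
    haveI : Module.Flat A (Localization.AtPrime p) := IsLocalization.flat _ p.primeCompl
    haveI : Module.Flat A H := Module.Flat.trans A (Localization.AtPrime p) H
    exact Module.Flat.lTensor_exact H hex
  intro hH
  have hle : LinearMap.range f ≤ LinearMap.ker g := by
    rintro _ ⟨x, rfl⟩
    exact LinearMap.congr_fun hfg x
  refine fun y => ⟨fun hy => ?_, fun ⟨x, hx⟩ => hx ▸ LinearMap.congr_fun hfg x⟩
  by_contra hyn
  -- the annihilator of the class of `y` modulo the image
  let a : Ideal A := (LinearMap.range f).comap (LinearMap.toSpanSingleton A M y)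
  have ha : a ≠ ⊤ := fun h => hyn (by
    have : (1 : A) ∈ a := h ▸ Submodule.mem_top
    simpa [a] using this)
  obtain ⟨p, hp, hap⟩ := Ideal.exists_le_maximal a ha
  have hIp : I ≤ p := (HenselianRing.jac (I := I)).trans (sInf_le ⟨bot_le, hp⟩)
  let Ap := Localization.AtPrime p
  let H := Groth.Agent.PairHens.Hz Ap (I.map (algebraMap A Ap))
  letI : Algebra A H := ((algebraMap Ap H).comp (algebraMap A Ap)).toAlgebra
  haveI : IsScalarTower A Ap H := IsScalarTower.of_algebraMap_eq fun _ => rfl
  have hHz := Groth.Agent.PairHens.isPairHenselization Ap (I.map (algebraMap A Ap))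
  haveI : Module.Flat Ap H := Groth.Agent.PairHens.flat_of_isPairHenselization hHz
  haveI : Module.Flat A Ap := IsLocalization.flat _ p.primeCompl
  haveI : Module.Flat A H := Module.Flat.trans A Ap H
  have hex := hH p hIp H hHz
  -- `1 ⊗ (y mod range f) = 0`
  let q : M →ₗ[A] M ⧸ LinearMap.range f := (LinearMap.range f).mkQ
  let ψ : A ⧸ a →ₗ[A] M ⧸ LinearMap.range f :=
    Submodule.liftQ a (q ∘ₗ LinearMap.toSpanSingleton A M y) fun c hc => by
      show Submodule.Quotient.mk (c • y) = 0
      rw [Submodule.Quotient.mk_eq_zero]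
      exact hc
  have hψ : Function.Injective ψ := by
    rw [← LinearMap.ker_eq_bot]
    refine Submodule.ker_liftQ_eq_bot _ _ _ fun c hc => ?_
    have : Submodule.Quotient.mk (c • y) = (0 : M ⧸ LinearMap.range f) := hc
    rwa [Submodule.Quotient.mk_eq_zero] at this
  obtain ⟨w, hw⟩ := (hex ((1 : H) ⊗ₜ[A] y)).1 (by simp [hy])
  have h0 : (1 : H) ⊗ₜ[A] q y = 0 := by
    have h1 : q.baseChange H (f.baseChange H w) = 0 := by
      rw [← LinearMap.comp_apply, ← LinearMap.baseChange_comp, show q ∘ₗ f = 0 from
        LinearMap.ext fun x => (Submodule.Quotient.mk_eq_zero _).2 ⟨x, rfl⟩, LinearMap.baseChange_zero,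
        LinearMap.zero_apply]
    rw [hw] at h1
    simpa using h1
  have h2 : (1 : H) ⊗ₜ[A] (Submodule.Quotient.mk (1 : A) : A ⧸ a) = 0 := by
    apply Module.Flat.lTensor_preserves_injective_linearMap (M := H) ψ hψ
    rw [map_zero, LinearMap.lTensor_tmul]
    show (1 : H) ⊗ₜ[A] q ((1 : A) • y) = 0
    rw [one_smul]; exact h0
  have h3 : (1 : H) ∈ a.map (algebraMap A H) := by
    have := congrArg (TensorProduct.tensorQuotEquivQuotSMul H a) h2
    erw [TensorProduct.tensorQuotEquivQuotSMul_tmul_mk, map_zero, Submodule.Quotient.mk_eq_zero,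
      Ideal.smul_top_eq_map, Submodule.restrictScalars_mem, one_smul] at this
    exact this
  obtain ⟨ε, -, -⟩ := Groth.Agent.PairHens.exists_point hHz
  have h4 := Ideal.mem_map_of_mem ε.toRingHom h3
  have hc : ε.toRingHom.comp (algebraMap A H) = (Ideal.Quotient.mk (I.map (algebraMap A Ap))).comp (algebraMap A Ap) :=
    RingHom.ext fun c => ε.commutes (algebraMap A Ap c)
  rw [Ideal.map_map, hc, map_one, ← Ideal.map_map, Ideal.mem_map_iff_of_surjective _ Ideal.Quotient.mk_surjective] at h4
  obtain ⟨c, hcm, hc1⟩ := h4
  rw [← map_one (Ideal.Quotient.mk (I.map (algebraMap A Ap))), Ideal.Quotient.eq] at hc1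
  have hm : (IsLocalRing.maximalIdeal Ap).IsMaximal := inferInstance
  refine hm.ne_top ((Ideal.eq_top_iff_one _).2 ?_)
  rw [show (1 : Ap) = c - (c - 1) by ring, ← Localization.AtPrime.map_eq_maximalIdeal]
  exact sub_mem (Ideal.map_mono hap hcm) (Ideal.map_mono hIp hc1)

end Groth.Agent.S17617
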