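import Groth.Statements.S17618
import Mathlib
import Groth.Agent.PairHens.Compact
-- import your own Groth.Agent.* helpers here

set_option autoImplicit false
universe u
open Hensel

namespace Groth.Agent.S17618

/-- Let (A, I) and (B, IB) be Henselian pairs with B an A-algebra. Assume that for every directed system
(R_a) of A-algebras with A-compatible transition maps such that each (R_a, IR_a) is a Henselian
pair, with direct limit L carrying the induced A-algebra structure, the canonical map from the
colimit of the Hom_A(B, R_a) to Hom_A(B, L) is bijective (every A-algebra map B → L factors through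
some R_a, and two A-algebra maps B → R_a with equal composites to L agree after passing to some
R_b). Then A → B is Henselian finitely presented: there are a finitely presented A-algebra R and an
R-algebra structure on B compatible with that of A for which B is a Henselization of the pair (R,
IR). (Index sets in the universe of the rings.) -/
theorem result (A : Type u) [CommRing A] (I : Ideal A)
    [HenselianRing A I] (B : Type u) [CommRing B] [Algebra A B]
    [HenselianRing B (I.map (algebraMap A B))]
    (h : ∀ (κ : Type u) [Preorder κ] [IsDirectedOrder κ] [Nonempty κ]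
      (Ra : κ → Type u) [∀ a, CommRing (Ra a)] [∀ a, Algebra A (Ra a)]
      [∀ a, HenselianRing (Ra a) (I.map (algebraMap A (Ra a)))]
      (t : ∀ a b : κ, a ≤ b → (Ra a →+* Ra b)) [DirectedSystem Ra (fun a b hab => t a b hab)],
      (∀ (a b : κ) (hab : a ≤ b), (t a b hab).comp (algebraMap A (Ra a)) = algebraMap A (Ra b)) →
      ∀ [Algebra A (DirectLimit Ra t)],
      (∀ (a : κ) (x : A), algebraMap A (DirectLimit Ra t) x =
        DirectLimit.Ring.of Ra t a (algebraMap A (Ra a) x)) →
      (∀ χ : B →ₐ[A] DirectLimit Ra t, ∃ (a : κ) (φ : B →ₐ[A] Ra a),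
          ∀ x : B, DirectLimit.Ring.of Ra t a (φ x) = χ x) ∧
      ∀ (a : κ) (φ ψ : B →ₐ[A] Ra a),
        (∀ x : B, DirectLimit.Ring.of Ra t a (φ x) = DirectLimit.Ring.of Ra t a (ψ x)) →
        ∃ (b : κ) (hab : a ≤ b), ∀ x : B, t a b hab (φ x) = t a b hab (ψ x)) :
    ∃ (R : Type u) (_ : CommRing R) (_ : Algebra A R) (_ : Algebra R B) (_ : IsScalarTower A R B),
      Algebra.FinitePresentation A R ∧ Hens2.IsPairHenselization R (I.map (algebraMap A R)) B := by
  classical
  let ι := Groth.Agent.PairHens.Compact.Idx A B
  let Ra : ι → Type u := fun i => i.Ra I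
  obtain ⟨i₀⟩ := (inferInstance : Nonempty ι)
  letI : Algebra A (Groth.Agent.PairHens.Compact.L A I B) :=
    ((DirectLimit.Ring.of _ (Groth.Agent.PairHens.Compact.t I) i₀).comp
      (algebraMap A (i₀.Ra I))).toAlgebra
  have halg : ∀ (a : ι) (x : A), algebraMap A (Groth.Agent.PairHens.Compact.L A I B) x =
      DirectLimit.Ring.of _ (Groth.Agent.PairHens.Compact.t I) a (algebraMap A (a.Ra I) x) := fun a x => by
    obtain ⟨j, h₁, h₂⟩ := exists_ge_ge i₀ a
    show DirectLimit.Ring.of _ (Groth.Agent.PairHens.Compact.t I) i₀ _ = _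
    rw [← DirectLimit.Ring.of_f h₁, ← DirectLimit.Ring.of_f h₂,
      Groth.Agent.PairHens.Compact.t_algebraMap, Groth.Agent.PairHens.Compact.t_algebraMap]
  obtain ⟨hfac, -⟩ := h ι (fun i => i.Ra I) (Groth.Agent.PairHens.Compact.t I)
    (fun a b hab => RingHom.ext (Groth.Agent.PairHens.Compact.t_algebraMap hab)) halg
  let χ : B →ₐ[A] Groth.Agent.PairHens.Compact.L A I B :=
    { toFun := Groth.Agent.PairHens.Compact.X
      map_one' := Groth.Agent.PairHens.Compact.X_one
      map_mul' := Groth.Agent.PairHens.Compact.X_mul
      map_zero' := Groth.Agent.PairHens.Compact.X_zero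
      map_add' := Groth.Agent.PairHens.Compact.X_add
      commutes' := fun c => by
        rw [Groth.Agent.PairHens.Compact.X_algebraMap, halg (Groth.Agent.PairHens.Compact.base _) c]
        rfl }
  obtain ⟨a, φ, hφ⟩ := hfac χ
  refine Groth.Agent.PairHens.Compact.exists_of_section a φ fun b => ?_
  let pL := DirectLimit.Ring.lift _ (Groth.Agent.PairHens.Compact.t I) B
    Groth.Agent.PairHens.Compact.p fun i j h x => Groth.Agent.PairHens.Compact.p_t h x
  have h1 : pL (χ b) = b :=
    (Groth.Agent.PairHens.Compact.p_mk _ _).trans (Groth.Agent.PairHens.Compact.ev_X _)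
  conv_rhs => rw [← h1, ← hφ b]
  rfl

end Groth.Agent.S17618
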