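import Groth.Statements.S17619
import Groth.Agent.UnivInjFib.Main
import Groth.Agent.FlatCompletionLib.Basic
import Groth.Agent.PureLib.GeomIntegral
import Groth.Agent.FibBasisLib.Basic
-- import your own Groth.Agent.* helpers here

set_option autoImplicit false
set_option linter.style.haveILetI false
set_option maxHeartbeats 1000000
universe u
open FlatMor

namespace Groth.Agent.S17619

open TensorProduct

theorem comap_quotient_pow {B Bh : Type u} [CommRing B] [CommRing Bh] [Algebra B Bh] (J : Ideal B) (n : ℕ)
    (hq : Function.Bijective (Ideal.quotientMap ((J ^ n).map (algebraMap B Bh)) (algebraMap B Bh) Ideal.le_comap_map))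
    {x : B} {P : Ideal B} (hx : algebraMap B Bh x ∈ P.map (algebraMap B Bh)) : x ∈ P ⊔ J ^ n := by
  let Jh := (J ^ n).map (algebraMap B Bh)
  let φ : B ⧸ J ^ n →+* Bh ⧸ Jh := Ideal.quotientMap Jh (algebraMap B Bh) Ideal.le_comap_map
  have h1 : φ (Ideal.Quotient.mk _ x) ∈ (P.map (Ideal.Quotient.mk (J ^ n))).map φ := by
    rw [Ideal.map_map, show φ.comp (Ideal.Quotient.mk _) = (Ideal.Quotient.mk Jh).comp (algebraMap B Bh) from
      RingHom.ext fun _ => rfl, ← Ideal.map_map]
    show Ideal.Quotient.mk Jh (algebraMap B Bh x) ∈ _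
    exact Ideal.mem_map_of_mem _ hx
  obtain ⟨y, hy, hyx⟩ := (Ideal.mem_map_iff_of_surjective φ hq.2).mp h1
  rw [hq.1 hyx] at hy
  obtain ⟨z, hz, hzx⟩ := (Ideal.mem_map_iff_of_surjective _ Ideal.Quotient.mk_surjective).mp hy
  rw [Ideal.Quotient.eq] at hzx
  have : x = z - (z - x) := by ring
  rw [this]
  exact sub_mem (Ideal.mem_sup_left hz) (Ideal.mem_sup_right hzx)

theorem flat_completion {B Bh : Type u} [CommRing B] [IsNoetherianRing B] [CommRing Bh] [Algebra B Bh] (J : Ideal B)
    [IsAdicComplete (J.map (algebraMap B Bh)) Bh]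
    (hq : ∀ n : ℕ, Function.Bijective (Ideal.quotientMap ((J ^ n).map (algebraMap B Bh))
      (algebraMap B Bh) Ideal.le_comap_map)) : Module.Flat B Bh := by
  haveI : IsAdicComplete J Bh := (IsAdicComplete.map_algebraMap_iff (S := Bh) J Bh).mp inferInstance
  refine FlatCompletionLib.flat_of_levels J fun n _ => ?_
  let e := RingEquiv.ofBijective _ (hq n)
  refine ⟨B ⧸ J ^ n, inferInstance, Ideal.Quotient.mk _, B ⧸ J ^ n, inferInstance, inferInstance,
    { toFun := fun x => e.symm (Ideal.Quotient.mk _ x)
      map_add' := fun x y => by rw [map_add, map_add]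
      map_smul' := fun b x => by
        show e.symm (Ideal.Quotient.mk _ (b • x)) = Ideal.Quotient.mk _ b * e.symm (Ideal.Quotient.mk _ x)
        apply e.injective
        rw [map_mul, e.apply_symm_apply, e.apply_symm_apply, Algebra.smul_def, map_mul]
        rfl },
    Ideal.Quotient.mk_surjective, Ideal.mk_ker, e.symm.surjective.comp Ideal.Quotient.mk_surjective, fun x => ?_,
    inferInstance⟩
  show e.symm (Ideal.Quotient.mk _ x) = 0 ↔ _
  rw [map_eq_zero_iff _ e.symm.injective, Ideal.Quotient.eq_zero_iff_mem, Ideal.smul_top_eq_map,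
    Submodule.restrictScalars_mem]

/-- The quotient by a prime of a flat algebra with domain fibre is a domain. -/
theorem isDomain_quotient {A B : Type u} [CommRing A] [CommRing B] [Algebra A B] [Module.Flat A B] (p : Ideal A)
    [p.IsPrime] [IsDomain (p.Fiber B)] : IsDomain (B ⧸ p.map (algebraMap A B)) := by
  let e := Algebra.TensorProduct.quotIdealMapEquivQuotTensor B p
  let f : (A ⧸ p) ⊗[A] B →ₐ[A] p.Fiber B :=
    Algebra.TensorProduct.map (IsScalarTower.toAlgHom A (A ⧸ p) p.ResidueField) (AlgHom.id A B)
  have hinj : Function.Injective f :=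
    Module.Flat.rTensor_preserves_injective_linearMap (M := B)
      (IsScalarTower.toAlgHom A (A ⧸ p) p.ResidueField).toLinearMap
      (Ideal.injective_algebraMap_quotient_residueField p)
  haveI : IsDomain ((A ⧸ p) ⊗[A] B) := hinj.isDomain f.toRingHom
  let g : B →+* (A ⧸ p) ⊗[A] B :=
    (Algebra.TensorProduct.includeRight (R := A) (A := A ⧸ p) (B := B)).toRingHom
  have hg : Function.Surjective g := by
    intro z
    induction z with
    | zero => exact ⟨0, map_zero g⟩
    | tmul a b =>
      obtain ⟨a, rfl⟩ := Ideal.Quotient.mk_surjective a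
      refine ⟨algebraMap A B a * b, ?_⟩
      show (1 : A ⧸ p) ⊗ₜ[A] (algebraMap A B a * b) = _
      rw [← Algebra.smul_def, TensorProduct.tmul_smul, TensorProduct.smul_tmul', Algebra.smul_def, mul_one]
      rfl
    | add a b ha hb =>
      obtain ⟨x, rfl⟩ := ha
      obtain ⟨y, rfl⟩ := hb
      exact ⟨x + y, map_add g x y⟩
  have hker : RingHom.ker g = p.map (algebraMap A B) := by
    refine le_antisymm (fun b hb => ?_) (Ideal.map_le_iff_le_comap.mpr fun a ha => ?_)
    · rw [← Submodule.restrictScalars_mem A (p.map (algebraMap A B)) b, ← Ideal.smul_top_eq_map,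
        ← Submodule.Quotient.mk_eq_zero, ← CAlgBasics.quotTensorEquivQuotSMul_one_tmul,
        show (1 : A ⧸ p) ⊗ₜ[A] b = 0 from hb, map_zero]
    · show (1 : A ⧸ p) ⊗ₜ[A] algebraMap A B a = 0
      rw [Algebra.algebraMap_eq_smul_one, TensorProduct.tmul_smul, TensorProduct.smul_tmul', Algebra.smul_def,
        Ideal.Quotient.algebraMap_eq, Ideal.Quotient.eq_zero_iff_mem.mpr ha, zero_mul, TensorProduct.zero_tmul]
  exact ((Ideal.quotEquivOfEq hker.symm).trans
    (RingHom.quotientKerEquivOfSurjective hg)).toMulEquiv.isDomain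

/-- Injectivity on a fibre. -/
theorem injective_fibre {A B Bh : Type u} [CommRing A] [CommRing B] [IsNoetherianRing B] [CommRing Bh] [Algebra A B]
    [Algebra A Bh] [Algebra B Bh] [IsScalarTower A B Bh] [Module.Flat A B] [Module.Flat A Bh] (u : B →ₐ[A] A)
    (hq : ∀ n : ℕ, Function.Bijective (Ideal.quotientMap ((RingHom.ker u ^ n).map (algebraMap B Bh))
      (algebraMap B Bh) Ideal.le_comap_map))
    (p : Ideal A) [p.IsPrime] [IsDomain (p.Fiber B)] :
    Function.Injective ((IsScalarTower.toAlgHom A B Bh).toLinearMap.lTensor p.ResidueField) := by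
  haveI := isDomain_quotient (B := B) p
  let J : Ideal B := RingHom.ker u
  have hJ : J.map (Ideal.Quotient.mk (p.map (algebraMap A B))) ≠ ⊤ := by
    intro htop
    have h1 : J ⊔ p.map (algebraMap A B) = ⊤ := by
      have := congrArg (Ideal.comap (Ideal.Quotient.mk (p.map (algebraMap A B)))) htop
      rwa [Ideal.comap_map_of_surjective _ Ideal.Quotient.mk_surjective, Ideal.comap_top, ← RingHom.ker_eq_comap_bot,
        Ideal.mk_ker] at this
    apply (inferInstance : p.IsPrime).ne_top
    rw [eq_top_iff, ← Ideal.map_top (u : B →+* A), ← h1, Ideal.map_sup, sup_le_iff]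
    refine ⟨Ideal.map_le_iff_le_comap.mpr fun x hx => ?_, ?_⟩
    · rw [Ideal.mem_comap]
      have : u x = 0 := hx
      show u x ∈ p
      rw [this]
      exact p.zero_mem
    · rw [Ideal.map_map, Ideal.map_le_iff_le_comap]
      intro a ha
      show u (algebraMap A B a) ∈ p
      rw [u.commutes]
      exact ha
  have hmem : ∀ x : B, algebraMap B Bh x ∈ (p.map (algebraMap A B)).map (algebraMap B Bh) →
      x ∈ p.map (algebraMap A B) := by
    intro x hx
    rw [← Ideal.Quotient.eq_zero_iff_mem, ← Submodule.mem_bot (B ⧸ p.map (algebraMap A B)),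
      ← Ideal.iInf_pow_eq_bot_of_isDomain _ hJ, Submodule.mem_iInf]
    intro n
    have h := comap_quotient_pow J n (hq n) hx
    rw [← Ideal.map_pow]
    have h2 := Ideal.mem_map_of_mem (Ideal.Quotient.mk (p.map (algebraMap A B))) h
    rwa [Ideal.map_sup, Ideal.map_quotient_self, bot_sup_eq] at h2
  rw [injective_iff_map_eq_zero]
  intro z hz
  have hrep : ∀ w : p.ResidueField ⊗[A] B, ∃ s : A, s ∉ p ∧ ∃ b : B, s • w = (1 : p.ResidueField) ⊗ₜ b := by
    intro w
    induction w with
    | zero => exact ⟨1, p.one_notMem, 0, by simp⟩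
    | tmul c b =>
      obtain ⟨a, s, hs, hc⟩ : ∃ a s : A, s ∉ p ∧ algebraMap A p.ResidueField s * c = algebraMap A p.ResidueField a := by
        obtain ⟨x, y, hy, rfl⟩ := IsFractionRing.div_surjective (A := A ⧸ p) c
        obtain ⟨a, rfl⟩ := Ideal.Quotient.mk_surjective x
        obtain ⟨s, rfl⟩ := Ideal.Quotient.mk_surjective y
        refine ⟨a, s, fun h => nonZeroDivisors.ne_zero hy (Ideal.Quotient.eq_zero_iff_mem.mpr h), ?_⟩
        show algebraMap (A ⧸ p) p.ResidueField (Ideal.Quotient.mk p s) * _ = algebraMap (A ⧸ p) p.ResidueField (Ideal.Quotient.mk p a)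
        exact mul_div_cancel₀ _ fun h => nonZeroDivisors.ne_zero hy
          ((map_eq_zero_iff _ (Ideal.injective_algebraMap_quotient_residueField p)).mp h)
      refine ⟨s, hs, a • b, ?_⟩
      rw [TensorProduct.smul_tmul', Algebra.smul_def, hc, Algebra.algebraMap_eq_smul_one, TensorProduct.smul_tmul]
    | add w w' hw hw' =>
      obtain ⟨s, hs, b, hb⟩ := hw
      obtain ⟨s', hs', b', hb'⟩ := hw'
      refine ⟨s * s', Ideal.IsPrime.mul_notMem inferInstance hs hs', s' • b + s • b', ?_⟩
      rw [smul_add, TensorProduct.tmul_add, TensorProduct.tmul_smul, TensorProduct.tmul_smul, ← hb, ← hb',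
        mul_comm s s', mul_smul, mul_comm s' s, mul_smul]
  obtain ⟨s, hs, b, hb⟩ := hrep z
  have h0 : (1 : p.ResidueField) ⊗ₜ[A] algebraMap B Bh b = 0 := by
    have h3 := congrArg ((IsScalarTower.toAlgHom A B Bh).toLinearMap.lTensor p.ResidueField) hb
    rw [map_smul, hz, smul_zero] at h3
    exact h3.symm
  have h1 : (1 : A ⧸ p) ⊗ₜ[A] algebraMap B Bh b = 0 := by
    apply Module.Flat.rTensor_preserves_injective_linearMap (M := Bh)
      (IsScalarTower.toAlgHom A (A ⧸ p) p.ResidueField).toLinearMap
      (Ideal.injective_algebraMap_quotient_residueField p)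
    rw [map_zero]
    show algebraMap (A ⧸ p) p.ResidueField 1 ⊗ₜ[A] algebraMap B Bh b = 0
    rw [map_one]
    exact h0
  have h2 : algebraMap B Bh b ∈ (p.map (algebraMap A B)).map (algebraMap B Bh) := by
    rw [Ideal.map_map, ← IsScalarTower.algebraMap_eq, ← Submodule.restrictScalars_mem A (p.map (algebraMap A Bh)),
      ← Ideal.smul_top_eq_map, ← Submodule.Quotient.mk_eq_zero, ← CAlgBasics.quotTensorEquivQuotSMul_one_tmul, h1,
      map_zero]
  have h3 : (1 : p.ResidueField) ⊗ₜ[A] b = 0 := by
    have h4 := hmem b h2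
    rw [← Submodule.restrictScalars_mem A (p.map (algebraMap A B)), ← Ideal.smul_top_eq_map] at h4
    refine Submodule.smul_induction_on h4 (fun a ha x _ => ?_) fun x y hx hy => by
      rw [TensorProduct.tmul_add, hx, hy, add_zero]
    rw [TensorProduct.tmul_smul, TensorProduct.smul_tmul', Algebra.smul_def,
      Ideal.algebraMap_residueField_eq_zero.mpr ha, zero_mul, TensorProduct.zero_tmul]
  have hs0 : algebraMap A p.ResidueField s ≠ 0 := fun h => hs (Ideal.algebraMap_residueField_eq_zero.mp h)
  refine smul_right_injective _ hs0 ?_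
  show algebraMap A p.ResidueField s • z = algebraMap A p.ResidueField s • 0
  rw [smul_zero, algebraMap_smul, hb, h3]

/-- Let A be a Noetherian ring and B a smooth A-algebra whose fibres are geometrically integral, and let
u : B → A be an A-algebra retraction with kernel I (the situation reached, after a faithfully flat
base change, in the proof that flat and pure modules are projective). Let B̂ be the I-adic
completion of B, presented as a B-algebra, compatibly an A-algebra, that is I B̂-adically complete
and for which every truncation B/I^n → B̂/I^n B̂ is bijective. Then the canonical map B → B̂ is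
universally injective over A: it remains injective after tensoring over A with any A-module (modules
in the universe of A). -/
theorem result (A : Type u) [CommRing A]
    [IsNoetherianRing A] (B : Type u) [CommRing B] [Algebra A B] [Algebra.Smooth A B]
    (hfib : FlatCA.GeomIntegralFibres A B) (u : B →ₐ[A] A)
    (Bh : Type u) [CommRing Bh] [Algebra B Bh] [Algebra A Bh] [IsScalarTower A B Bh]
    [IsAdicComplete ((RingHom.ker u).map (algebraMap B Bh)) Bh]
    (hq : ∀ n : ℕ, Function.Bijective (Ideal.quotientMap ((RingHom.ker u ^ n).map (algebraMap B Bh))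
      (algebraMap B Bh) Ideal.le_comap_map)) :
    FlatCA.UnivInj A (IsScalarTower.toAlgHom A B Bh).toLinearMap := by
  haveI : IsNoetherianRing B := Algebra.FiniteType.isNoetherianRing A B
  haveI : Module.Flat A B := inferInstance
  haveI : Module.Flat B Bh := flat_completion (RingHom.ker u) hq
  haveI : Module.Flat A Bh := Module.Flat.trans A B Bh
  intro Q _ _
  rw [LinearMap.lTensor_inj_iff_rTensor_inj]
  haveI := FibBasisLib.isLocalizedModule_bot (S := B) (M := B)
  refine UnivInjFib.univInj_of_fibres (⊥ : Submonoid B) (LinearMap.id : B →ₗ[B] B)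
    (IsScalarTower.toAlgHom A B Bh).toLinearMap (fun p _ => ?_) Q
  haveI : IsDomain (p.Fiber B) := PureLib.isDomain_tensor_field hfib p.ResidueField
  exact injective_fibre u hq p

end Groth.Agent.S17619
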