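import Groth.Statements.S1762
import Groth.Agent.DualCxLib.Local
-- Template for statement S1762 (row 1761; see the milestone table for weights).
-- Copy to Groth/Agent/S1762.lean and replace the sorry. The statement below is byte-identical to the frozen
-- statement Dual.GrothFrozen.S1762 (Groth/Statements/S1762.lean; the theorem Dual.HD_dualizing_localized_minimalPrime_single_degree);
-- the grader kernel-checks Groth.Agent.S1762.result against that frozen type. Keep the theorem IN THIS FILE
-- (a `result` declared elsewhere and merely imported here is not credited); helpers may live anywhere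
-- under Groth/Agent/.
-- helpers: DualCxLib

set_option autoImplicit false
universe u
open CategoryTheory
attribute [local instance] HasDerivedCategory.standard
open Dual Groth.Agent.DualCxLib

namespace Groth.Agent.S1762

/-- Let A be a Noetherian ring with a dualizing complex ω and p a minimal prime of A. Then there is
exactly one integer i for which H^i(ω) localized at p is nonzero. -/
theorem result (A : Type u) [CommRing A] [IsNoetherianRing A] (ω : Dual.D A) (hω : Dual.IsDualizing A ω) (p : Ideal A) (hp : p ∈ minimalPrimes A) : ∃! i : ℤ, Nontrivial (LocalizedModule (Ideal.primeCompl p (hp := hp.1.1)) (Dual.HD A ω i)) := by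
  haveI := hp.1.1
  refine ⟨dfn hω ⟨p, hp.1.1⟩, ?_, fun i hi => ?_⟩
  · show Nontrivial _
    rw [← not_zeroAt_iff_nontrivial, not_zeroAt_HD_iff hω p, not_zeroAt_unit_iff hω ⟨p, hp.1.1⟩ hp]
  · replace hi : Nontrivial _ := hi
    rw [← not_zeroAt_iff_nontrivial, not_zeroAt_HD_iff hω p, not_zeroAt_unit_iff hω ⟨p, hp.1.1⟩ hp] at hi
    exact hi

end Groth.Agent.S1762
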