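import Groth.Statements.S17622
import Groth.Agent.NumBddLib.Compare

set_option autoImplicit false
universe u
open CategoryTheory CategoryTheory.Limits AlgebraicGeometry
open Variety

namespace Groth.Agent.S17622

open CategoryTheory CategoryTheory.Limits AlgebraicGeometry


open Groth.Agent Groth.Agent.AmpleLib Groth.Agent.HiGrowth Filter
open scoped Topology
set_option backward.isDefEq.respectTransparency false
set_option linter.style.haveILetI false

/-- Let X be an integral scheme, proper over an uncountable algebraically closed field k of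
characteristic zero and admitting an ample invertible module, of dimension n (stated in the source
over the complex numbers), L an invertible O_X-module and P an invertible O_X-module which is
numerically equivalent to zero, i.e. of degree 0 on every integral closed curve in X. Then ĥ^i(X, L
⊗ P) = ĥ^i(X, L) for every i ≥ 0, where ĥ^i(X, L) = limsup_m dim_k H^i(X, L^{⊗m}) · n!/m^n; so ĥ^i
only depends on the numerical class of L. -/
theorem result (k : Type u) [Field k] [IsAlgClosed k] [CharZero k] [Uncountable k] (X : Scheme.{u})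
    [X.Over (Spec (CommRingCat.of k))] [AlgebraicGeometry.IsIntegral X]
    [IsProper (X ↘ Spec (CommRingCat.of k))] (hproj : ∃ A : X.Modules, CohB1.IsAmple A)
    (n : ℕ) (hn : topologicalKrullDim X = n)
    (L : X.Modules) (hL : PicF.IsInvertible L) (P : X.Modules) (hP : PicF.IsInvertible P)
    (hnum : Pic13.IsNumEquivZero k X P) (i : ℕ) :
    W4c5asymptcohfn.hhat k X n i (CohB1.tensorMod L P) = W4c5asymptcohfn.hhat k X n i L := by
  haveI := EulerIneqLib.isNoetherian_proper (X := X) k
  obtain ⟨H, hH⟩ := hproj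
  have hLP := isInvertible_tensor hL hP
  obtain ⟨C, hC⟩ := NumBdd.near_numTriv k hn hH hL i
  rw [hhat_eq, hhat_eq]
  unfold W4c5asymptcohfn.hhatF
  refine limsup_congr_null ?_
    (isBoundedUnder_cohSeq k hn hLP (DevLib.isCoh_structureModule X) i)
    (isBoundedUnder_ge_of_nonneg (cohSeq_nonneg k n i _ _))
    (isBoundedUnder_cohSeq k hn hL (DevLib.isCoh_structureModule X) i)
    (isBoundedUnder_ge_of_nonneg (cohSeq_nonneg k n i _ _))
  rw [cohSeq_unit, cohSeq_unit]
  have ht : Tendsto (fun m : ℕ => (C : ℝ) * n.factorial * ((B n m : ℝ) / (m : ℝ) ^ n)) atTop (𝓝 0) := by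
    simpa using (tendsto_B n).const_mul ((C : ℝ) * n.factorial)
  refine squeeze_zero_norm (fun m => ?_) ht
  obtain ⟨h1, h2⟩ := hC (CohB1.tensorPow P m) (isInvertible_tensorPow hP m) (NumBdd.numTriv_pow k hP hnum m) m
  rw [IntLib.mk_tensorPow, ← mul_pow, ← IntLib.mk_tensor] at h1 h2
  have g1 : (hcl k i (IntLib.mk (CohB1.tensorMod L P) ^ m) : ℝ) ≤ hcl k i (IntLib.mk L ^ m) + C * B n m := by
    exact_mod_cast h1
  have g2 : (hcl k i (IntLib.mk L ^ m) : ℝ) ≤ hcl k i (IntLib.mk (CohB1.tensorMod L P) ^ m) + C * B n m := by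
    exact_mod_cast h2
  show |(hcl k i (IntLib.mk (CohB1.tensorMod L P) ^ m) : ℝ) * n.factorial / _ - _| ≤ _
  rw [← sub_div, ← sub_mul, abs_div, abs_mul, Nat.abs_cast, abs_of_nonneg (by positivity : (0 : ℝ) ≤ (m : ℝ) ^ n),
    ← mul_div_assoc, mul_right_comm]
  gcongr
  exact abs_le.2 ⟨by linarith, by linarith⟩

end Groth.Agent.S17622
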