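import Groth.Statements.S17627
import Groth.Agent.VolLib.HiSplit

set_option autoImplicit false
universe u
open CategoryTheory CategoryTheory.Limits AlgebraicGeometry
open Variety

namespace Groth.Agent.S17627

open CategoryTheory CategoryTheory.Limits AlgebraicGeometry

set_option backward.isDefEq.respectTransparency false
open Groth.Agent.HiGrowth

/-- Let X be an integral scheme, proper over an algebraically closed field k of characteristic zero and
admitting an ample invertible module, of dimension n (stated in the source over the complex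
numbers), F a coherent O_X-module whose generic rank — the dimension of its stalk at the generic
point of X over the function field — is r, and L an invertible O_X-module. Then limsup_m dim_k
H^i(X, F ⊗ L^{⊗m}) · n!/m^n = r · ĥ^i(X, L) for every i ≥ 0, where ĥ^i(X, L) = limsup_m dim_k H^i(X,
L^{⊗m}) · n!/m^n. -/
theorem result (k : Type u) [Field k] [IsAlgClosed k] [CharZero k] (X : Scheme.{u})
    [X.Over (Spec (CommRingCat.of k))] [AlgebraicGeometry.IsIntegral X]
    [IsProper (X ↘ Spec (CommRingCat.of k))] (hproj : ∃ A : X.Modules, CohB1.IsAmple A)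
    (n : ℕ) (hn : topologicalKrullDim X = n)
    (F : X.Modules) (hF : Coh.IsCoh F) (r : ℕ)
    (hr : Module.finrank (X.presheaf.stalk (genericPoint X)) (F.presheaf.stalk (genericPoint X)) = r)
    (L : X.Modules) (hL : PicF.IsInvertible L) (i : ℕ) :
    W4c5asymptcohfn.hhatF k X n i F L = (r : ℝ) * W4c5asymptcohfn.hhat k X n i L := by
  haveI := EulerIneqLib.isNoetherian_proper (X := X) k
  obtain ⟨G, hG, ⟨θ⟩, hGe⟩ := exists_rank k (X := X) r
  have hO := CurveLib.isCoh_of_isInvertible (ParaFLib.isInvertible_structureModule (X := X))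
  haveI := hF.1
  letI : Field (X.presheaf.stalk (genericPoint X)) := (inferInstance : Field X.functionField)
  haveI := Groth.Agent.PullbackMod.finite_stalk_of_isFT hF.2 (genericPoint X)
  obtain ⟨θ'⟩ : Nonempty (F.presheaf.stalk (genericPoint X) ≃ₗ[X.presheaf.stalk (genericPoint X)]
      (Fin r → X.presheaf.stalk (genericPoint X))) :=
    ⟨LinearEquiv.ofFinrankEq _ _ (hr.trans (Module.finrank_fin_fun _).symm)⟩
  rw [hhatF_eq_of_near k hn hL hF hG (near_of_genericStalk k hL hn hF hG (θ'.trans θ.symm)) i, hhat_eq]
  unfold W4c5asymptcohfn.hhatF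
  have e : W4c5asymptcohfn.cohSeq k X n i G L =
      fun m => (r : ℝ) * W4c5asymptcohfn.cohSeq k X n i (Coh.structureModule X) L m := by
    funext m
    rw [cohSeq_eq, cohSeq_eq]
    simp only [hGe L hL i m, Nat.cast_mul]
    ring
  rw [e]
  have hmono : Monotone (fun x : ℝ => (r : ℝ) * x) := fun x y hxy =>
    mul_le_mul_of_nonneg_left hxy (Nat.cast_nonneg r)
  exact (Monotone.map_limsup_of_continuousAt hmono _ (continuous_const.mul continuous_id).continuousAt
    (isBoundedUnder_cohSeq k hn hL hO i)
    (isBoundedUnder_ge_of_nonneg (cohSeq_nonneg k n i _ _)).isCoboundedUnder_le).symm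


end Groth.Agent.S17627
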