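import Groth.Statements.S17624
import Groth.Agent.VolLib.GenFinite

set_option autoImplicit false
universe u
open CategoryTheory CategoryTheory.Limits AlgebraicGeometry
open Variety

namespace Groth.Agent.S17624

open CategoryTheory CategoryTheory.Limits AlgebraicGeometry

set_option backward.isDefEq.respectTransparency false
open Groth.Agent.HiGrowth Groth.Agent.AmpleLib

/-- Let X and Y be integral schemes, proper over an algebraically closed field k of characteristic zero
and each admitting an ample invertible module (stated in the source over the complex numbers), of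
dimensions n and e with e > n, and let f : Y → X be a dominant k-morphism (so proper and
surjective). Then for every invertible O_X-module L and every i ≥ 0, ĥ^i(Y, f^*L) = 0, where ĥ^i(Y,
M) = limsup_m dim_k H^i(Y, M^{⊗m}) · e!/m^e is normalised by the dimension e of Y. -/
theorem result (k : Type u) [Field k] [IsAlgClosed k] [CharZero k]
    (X Y : Scheme.{u}) [X.Over (Spec (CommRingCat.of k))] [Y.Over (Spec (CommRingCat.of k))]
    [AlgebraicGeometry.IsIntegral X] [AlgebraicGeometry.IsIntegral Y]
    [IsProper (X ↘ Spec (CommRingCat.of k))] [IsProper (Y ↘ Spec (CommRingCat.of k))]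
    (hXproj : ∃ A : X.Modules, CohB1.IsAmple A) (hYproj : ∃ B : Y.Modules, CohB1.IsAmple B)
    (n e : ℕ) (hn : topologicalKrullDim X = n) (he : topologicalKrullDim Y = e) (hne : n < e)
    (f : Y ⟶ X) (hf : f ≫ (X ↘ Spec (CommRingCat.of k)) = Y ↘ Spec (CommRingCat.of k))
    (hdom : f.base (genericPoint Y) = genericPoint X) (L : X.Modules) (hL : PicF.IsInvertible L) (i : ℕ) :
    W4c5asymptcohfn.hhat k Y e i ((Scheme.Modules.pullback f).obj L) = 0 := by
  haveI := EulerIneqLib.isNoetherian_proper (X := Y) k
  haveI := EulerIneqLib.isNoetherian_proper (X := X) k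
  obtain ⟨B, hB⟩ := hYproj
  obtain ⟨M, hMi, hGc, htr⟩ := exists_transfer k hf hB
  have hO := CurveLib.isCoh_of_isInvertible (ParaFLib.isInvertible_structureModule (X := Y))
  have hMc := CurveLib.isCoh_of_isInvertible hMi
  have hfL := isInvertible_pullback f hL
  obtain ⟨θ⟩ := nonempty_stalk_invertible hMi (genericPoint Y)
  rw [hhat_eq, ← hhatF_eq_of_near k he hfL hMc hO (near_of_genericStalk k hfL he hMc hO θ) i]
  obtain ⟨C, hC⟩ := boundLT k hL (n + 1) _ hGc (lt_of_le_of_lt
    Topology.IsInducing.subtypeVal.topologicalKrullDim_le (by rw [hn]; exact_mod_cast Nat.lt_succ_self n)) i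
  unfold W4c5asymptcohfn.hhatF
  refine Filter.Tendsto.limsup_eq ?_
  refine squeeze_zero (cohSeq_nonneg k e i _ _) (fun m => ?_)
    (by simpa using (tendsto_B e).const_mul ((C : ℝ) * e.factorial))
  rw [cohSeq_eq, ← mul_div_assoc, mul_right_comm]
  refine div_le_div_of_nonneg_right (mul_le_mul_of_nonneg_right ?_ (Nat.cast_nonneg _)) (by positivity)
  rw [htr L hL i m]
  refine le_trans (Nat.cast_le.2 (hC m)) ?_
  obtain ⟨e', rfl⟩ : ∃ e', e = e' + 1 := ⟨e - 1, by omega⟩
  push_cast
  refine mul_le_mul_of_nonneg_left (Nat.cast_le.2 ?_) (Nat.cast_nonneg _)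
  exact Nat.pow_le_pow_right (Nat.succ_pos m) (by omega)


end Groth.Agent.S17624
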