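import Groth.Statements.S17626
import Groth.Agent.VanGrowLib.Freq

set_option autoImplicit false
universe u
open CategoryTheory CategoryTheory.Limits AlgebraicGeometry
open Variety

namespace Groth.Agent.S17626

open CategoryTheory CategoryTheory.Limits AlgebraicGeometry

set_option backward.isDefEq.respectTransparency false

/-- Let X be an integral scheme, proper over an algebraically closed field k of characteristic zero and
admitting an ample invertible module, of dimension n ≥ 1 (stated in the source over the complex
numbers), and L an invertible O_X-module which is big, in the sense that its volume ĥ^0(X, L) =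
limsup_m dim_k H^0(X, L^{⊗m}) · n!/m^n is positive. Then ĥ^n(X, L) = 0. (The published statement
allows n = 0, where it fails: X is then a point, every L is big and ĥ^0(X, L) = 1; the printed
argument uses that L and its inverse cannot both be big, which needs n ≥ 1.) -/
theorem result (k : Type u) [Field k] [IsAlgClosed k] [CharZero k] (X : Scheme.{u})
    [X.Over (Spec (CommRingCat.of k))] [AlgebraicGeometry.IsIntegral X]
    [IsProper (X ↘ Spec (CommRingCat.of k))] (hproj : ∃ A : X.Modules, CohB1.IsAmple A)
    (n : ℕ) (hn : topologicalKrullDim X = n) (hn1 : 1 ≤ n)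
    (L : X.Modules) (hL : PicF.IsInvertible L) (hbig : 0 < W4c5asymptcohfn.hhat k X n 0 L) :
    W4c5asymptcohfn.hhat k X n n L = 0 := by
  haveI := EulerIneqLib.isNoetherian_proper (X := X) k
  obtain ⟨H, hH⟩ := hproj
  unfold W4c5asymptcohfn.hhat at hbig
  obtain ⟨b, hb, hb'⟩ := exists_between hbig
  have hfreq := Filter.frequently_lt_of_lt_limsup
    (Filter.isCoboundedUnder_le_of_le Filter.atTop (x := 0) fun m => by positivity) hb'
  have hfac : (0 : ℝ) < (n.factorial : ℝ) := by exact_mod_cast n.factorial_pos
  obtain ⟨ν, A, φ, hν, hA, hφ⟩ := Groth.Agent.VanGrow.exists_mono_of_freq k hn hH hL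
    (c := b / n.factorial) (div_pos hb hfac) ((hfreq.and_eventually (Filter.eventually_ge_atTop 1)).mono
      fun m hm => by
        obtain ⟨h1, h2⟩ := hm
        have hm0 : (0 : ℝ) < (m : ℝ) ^ n := pow_pos (by exact_mod_cast h2) n
        rw [lt_div_iff₀ hm0] at h1
        rw [div_mul_eq_mul_div, div_le_iff₀ hfac]
        exact h1.le)
  obtain ⟨m₀, hm₀⟩ := Groth.Agent.VanGrow.exists_top_vanish k hn hn1 hA hL hν φ
  unfold W4c5asymptcohfn.hhat
  refine (Filter.limsup_congr (v := fun _ : ℕ => (0 : ℝ))
    (Filter.eventually_atTop.2 ⟨m₀, fun m hm => ?_⟩)).trans (Filter.limsup_const 0)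
  haveI := hm₀ m hm
  simp [Module.finrank_zero_of_subsingleton]


end Groth.Agent.S17626
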