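import Groth.Statements.S17631
import Groth.Agent.NumBddLib.FibreGrowth
import Groth.Agent.AmpleEmb.RelAmple
import Groth.Agent.AmpleEmb.Generated
import Groth.Agent.BCLib.DVR

set_option autoImplicit false
universe u
open CategoryTheory CategoryTheory.Limits AlgebraicGeometry
open Coherent

namespace Groth.Agent.S17631

open CategoryTheory CategoryTheory.Limits AlgebraicGeometry

open Groth.Agent Groth.Agent.AmpleLib
set_option backward.isDefEq.respectTransparency false
set_option linter.style.haveILetI false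

/-- The coordinate sections generate `O(1)`. -/
theorem gg_twistOver (n : ℕ) (Y : Scheme.{u}) : Curv2.IsGloballyGenerated (Twist.twistOver n Y 1) := by
  have hinv := AmpleEmb.isInvertible_twistOne n (ULift.{u} ℤ)
  refine NumBdd.gg_pullback (ProjMap.toInt Y n) hinv (AmpleEmb.isGloballyGenerated_of_genLocus hinv
    (fun a : ULift.{u} (Fin (n + 1)) => AmpleEmb.coordSec n (ULift.{u} ℤ) a.down) fun x => ?_)
  obtain ⟨a, ha⟩ := TopologicalSpace.Opens.mem_iSup.1
    ((AmpleEmb.iSup_stdOpen n (ULift.{u} ℤ)).ge (TopologicalSpace.Opens.mem_top x))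
  exact ⟨⟨a⟩, (AmpleEmb.genLocus_coordSec n _ a).ge ha⟩


/-- Let T be a Noetherian scheme and f : 𝒳 → T a projective morphism, given here as a closed immersion 𝒳
→ P^r_T followed by the projection, let F be a coherent O_𝒳-module and L an invertible O_𝒳-module.
Then there is a constant C, depending only on f, F and L, such that for every point t of T, with 𝒳_t
the fibre and e its dimension, every m ≥ 1 and every i ≥ 0, dim_{k(t)} H^i(𝒳_t, (F ⊗ L^{⊗m})|_{𝒳_t})
≤ C · m^e. -/
theorem result (T XX : Scheme.{u}) [IsNoetherian T]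
    (f : XX ⟶ T) (r : ℕ) (ι : XX ⟶ CohB1.ProjSpaceOver r T) [IsClosedImmersion ι]
    (hι : ι ≫ CohB1.ProjSpaceOver.toBase r T = f)
    (F : XX.Modules) (hF : Coh.IsCoh F) (L : XX.Modules) (hL : PicF.IsInvertible L) :
    ∃ C : ℝ, ∀ (t : T) (e : ℕ), topologicalKrullDim ↥(f.fiber t) = e →
      ∀ (m : ℕ), 1 ≤ m → ∀ i : ℕ,
        (CohIII.fiberRank f (CohB1.tensorMod F (CohB1.tensorPow L m)) i t : ℝ) ≤ C * (m : ℝ) ^ e := by
  classical
  haveI : IsProper (CohB1.ProjSpaceOver.toBase r T) := BCLib.isProper_toBase r T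
  haveI : IsProper f := hι ▸ inferInstanceAs (IsProper (ι ≫ CohB1.ProjSpaceOver.toBase r T))
  haveI : IsLocallyNoetherian XX := LocallyOfFiniteType.isLocallyNoetherian f
  haveI : CompactSpace XX := QuasiCompact.compactSpace_of_compactSpace f
  let A := (Scheme.Modules.pullback ι).obj (Twist.twistOver r T 1)
  have hA : PicF.IsInvertible A := isInvertible_pullback ι (AmpleEmb.isInvertible_twistOver r)
  have hAg : Curv2.IsGloballyGenerated A := NumBdd.gg_pullback ι (AmpleEmb.isInvertible_twistOver r) (gg_twistOver r T)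
  obtain ⟨L', hL', ⟨eL⟩⟩ := AmpleEmb.exists_isInverseOf hL
  have hva : RelAmple.IsRelVeryAmplePn f A := ⟨r, ι, inferInstance, hι, ⟨Iso.refl _⟩⟩
  have hloc : ∀ V : T.affineOpens, ∃ N : ℕ, ∀ s, N ≤ s → Curv2.IsGloballyGenerated
      ((Scheme.Modules.pullback (f ⁻¹ᵁ V.1).ι).obj (CohB1.tensorMod (CohB1.tensorPow A s) L')) := fun V => by
    let j := (f ⁻¹ᵁ V.1).ι
    haveI : IsLocallyNoetherian (f ⁻¹ᵁ V.1).toScheme := LocallyOfFiniteType.isLocallyNoetherian j
    haveI : CompactSpace (f ⁻¹ᵁ V.1).toScheme :=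
      isCompact_iff_compactSpace.1 (f.isCompact_preimage V.2.isCompact)
    haveI : IsNoetherian (f ⁻¹ᵁ V.1).toScheme := ⟨⟩
    have ham : CohB1.IsAmple ((Scheme.Modules.pullback j).obj A) :=
      isAmple_of_iso (restrictIso j A) (AmpleEmb.ampleOn_of_isRelVeryAmplePn f hva V.2)
    obtain ⟨N, hN⟩ := AmpleEmb.eventually_isGloballyGenerated ham
      (CurveLib.isCoh_of_isInvertible (isInvertible_pullback j hL'))
    exact ⟨N, fun s hs => isGloballyGenerated_of_iso
      (comm _ _ ≪≫ tIso (pullPow j A s).symm (Iso.refl _) ≪≫ (pullTensor j _ _).symm) (hN s hs)⟩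
  choose Ns hNs using hloc
  obtain ⟨S, hS⟩ := isCompact_univ.elim_finite_subcover (fun V : T.affineOpens => (V.1 : Set T)) (fun V => V.1.2)
    (fun t _ => by
      obtain ⟨_, ⟨V, hV, rfl⟩, ht, -⟩ :=
        T.isBasis_affineOpens.exists_subset_of_mem_open (Set.mem_univ t) isOpen_univ
      exact Set.mem_iUnion.2 ⟨⟨V, hV⟩, ht⟩)
  obtain ⟨N, hN⟩ := CdFieldLib.exists_fibre_dim_le f
  obtain ⟨C, hC⟩ := NumBdd.fibre_growth f hF hA hAg hL hL' eL (S.sup Ns) (fun t => by
    obtain ⟨V, hV, ht⟩ := Set.mem_iUnion₂.1 (hS (Set.mem_univ t))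
    exact ⟨V.1, ht, hNs V _ (Finset.le_sup hV)⟩)
  refine ⟨(C : ℝ) * ((S.sup Ns + 2 : ℕ) : ℝ) ^ N, fun t e he m hm i => ?_⟩
  have heN : e ≤ N := by
    have := he ▸ hN t
    exact_mod_cast this
  have h2 : CohIII.fiberRank f (CohB1.tensorMod F (CohB1.tensorPow L m)) i t ≤ C * (S.sup Ns + 2) ^ N * m ^ e := by
    refine (hC t e he m i).trans ?_
    rw [mul_assoc]
    refine Nat.mul_le_mul_left _ ((Nat.pow_le_pow_left (m := (S.sup Ns + 2) * m) (by nlinarith) e).trans ?_)
    rw [mul_pow]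
    exact Nat.mul_le_mul_right _ (Nat.pow_le_pow_right (by omega) heN)
  exact_mod_cast h2


end Groth.Agent.S17631
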