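import Groth.Statements.S17632
import Groth.Agent.VolLib.MultiLim

set_option autoImplicit false
universe u
open CategoryTheory CategoryTheory.Limits AlgebraicGeometry
open Variety

namespace Groth.Agent.S17632

open CategoryTheory CategoryTheory.Limits AlgebraicGeometry

set_option backward.isDefEq.respectTransparency false
open Groth.Agent.HiGrowth

/-- Let X be an integral scheme, proper over an uncountable algebraically closed field k of
characteristic zero and admitting an ample invertible module, of dimension n (stated in the source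
over the complex numbers), L an invertible O_X-module and A an ample invertible O_X-module with
inverse A', i.e. A ⊗ A' ≅ O_X. Then for every i ≥ 0, (ĥ^i(X, L^{⊗p} ⊗ A') − ĥ^i(X, L^{⊗p})) / p^n
tends to 0 as p → ∞, where ĥ^i(X, M) = limsup_m dim_k H^i(X, M^{⊗m}) · n!/m^n. -/
theorem result (k : Type u) [Field k] [IsAlgClosed k] [CharZero k] [Uncountable k] (X : Scheme.{u})
    [X.Over (Spec (CommRingCat.of k))] [AlgebraicGeometry.IsIntegral X]
    [IsProper (X ↘ Spec (CommRingCat.of k))] (hproj : ∃ A : X.Modules, CohB1.IsAmple A)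
    (n : ℕ) (hn : topologicalKrullDim X = n)
    (L : X.Modules) (hL : PicF.IsInvertible L) (A A' : X.Modules) (hA : CohB1.IsAmple A)
    (hA' : ClSub.IsInverseOf A A') (i : ℕ) :
    Filter.Tendsto (fun p : ℕ =>
        (W4c5asymptcohfn.hhat k X n i (CohB1.tensorMod (CohB1.tensorPow L p) A') -
          W4c5asymptcohfn.hhat k X n i (CohB1.tensorPow L p)) / (p : ℝ) ^ n)
      Filter.atTop (nhds 0) := by
  haveI := EulerIneqLib.isNoetherian_proper (X := X) k
  obtain ⟨L', hL', hLL⟩ := Groth.Agent.AmpleEmb.exists_isInverseOf hL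
  have hL2 : ∀ j, PicF.IsInvertible ((![L, A]) j) := Fin.forall_fin_two.2 ⟨hL, hA.1⟩
  have hM2 : ∀ j, ClSub.IsInverseOf ((![L, A]) j) ((![L', A']) j) := Fin.forall_fin_two.2 ⟨hLL, hA'⟩
  obtain ⟨C, hC0, hC⟩ := hhat_lipschitz k (![L, A]) (![L', A']) hn hL2 hM2 i
  have hb : ∀ p : ℕ, 1 ≤ p → |W4c5asymptcohfn.hhat k X n i (CohB1.tensorMod (CohB1.tensorPow L p) A') -
      W4c5asymptcohfn.hhat k X n i (CohB1.tensorPow L p)| * p ≤ C * n * (p : ℝ) ^ n := by
    intro p hp
    have h := hC ![(p : ℤ), -1] ![(p : ℤ), 0]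
    rw [hhat_congr k n i (L' := CohB1.tensorMod (CohB1.tensorPow L p) A'),
      hhat_congr k n i (L := W4c5asymptcohfn.ztwist X ![L, A] ![L', A'] ![(p : ℤ), 0]) (L' := CohB1.tensorPow L p)] at h
    rotate_left
    · rw [mk_ztwist _ _ hM2, IntLib.mk_tensorPow]
      simp [zcls, unitCls]
    · rw [mk_ztwist _ _ hM2, IntLib.mk_tensor, IntLib.mk_tensorPow]
      simp [zcls, unitCls]
      rfl
    have hp1 : (1 : ℝ) ≤ p := by exact_mod_cast hp
    have e1 : max ‖(fun j => (((![(p : ℤ), -1]) j : ℤ) : ℝ))‖ ‖(fun j => (((![(p : ℤ), 0]) j : ℤ) : ℝ))‖ ≤ p :=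
      max_le ((pi_norm_le_iff_of_nonneg (by positivity)).2 (Fin.forall_fin_two.2 ⟨by simp, by simp [hp1]⟩))
        ((pi_norm_le_iff_of_nonneg (by positivity)).2 (Fin.forall_fin_two.2 ⟨by simp, by simp⟩))
    have e2 : ‖(fun j => (((![(p : ℤ), -1]) j - (![(p : ℤ), 0]) j : ℤ) : ℝ))‖ ≤ 1 :=
      (pi_norm_le_iff_of_nonneg zero_le_one).2 (Fin.forall_fin_two.2 ⟨by simp, by simp⟩)
    refine (mul_le_mul_of_nonneg_right h (by positivity)).trans ?_
    rw [mul_assoc, mul_assoc, Finset.sum_mul]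
    refine mul_le_mul_of_nonneg_left ((Finset.sum_le_card_nsmul _ _ ((p : ℝ) ^ n) fun q hq => ?_).trans
      (le_of_eq (by simp))) hC0
    have hq' := Finset.mem_Icc.1 hq
    calc _ ≤ (p : ℝ) ^ (n - q) * 1 * p := by
          gcongr
          exact pow_le_one₀ (norm_nonneg _) e2
      _ = (p : ℝ) ^ (n - q + 1) := by rw [mul_one, ← pow_succ]
      _ ≤ (p : ℝ) ^ n := pow_le_pow_right₀ hp1 (by omega)
  refine squeeze_zero_norm' (Filter.eventually_atTop.2 ⟨1, fun p hp => ?_⟩)
    (tendsto_const_div_atTop_nhds_zero_nat (C * n))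
  have hp0 : (0 : ℝ) < p := by exact_mod_cast hp
  rw [Real.norm_eq_abs, abs_div, abs_of_pos (pow_pos hp0 n), div_le_div_iff₀ (pow_pos hp0 n) hp0]
  exact hb p hp


end Groth.Agent.S17632
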