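import Groth.Statements.S17634
import Groth.Agent.VolLib.MultiLim

set_option autoImplicit false
universe u
open CategoryTheory CategoryTheory.Limits AlgebraicGeometry
open Variety

namespace Groth.Agent.S17634

open CategoryTheory CategoryTheory.Limits AlgebraicGeometry

set_option backward.isDefEq.respectTransparency false
open Groth.Agent.HiGrowth

/-- Let X be an integral scheme, proper over an uncountable algebraically closed field k of
characteristic zero and admitting an ample invertible module, of dimension n (stated in the source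
over the complex numbers), and L_1, …, L_r invertible O_X-modules with inverses M_1, …, M_r; for a ∈
ℤ^r write L^a = ⊗_j L_j^{a_j} (negative powers through the M_j) and ‖a‖ = max_j |a_j|. Then for
every i there is a constant C with ĥ^i(X, L^a) ≤ C · ‖a‖^n for all a ∈ ℤ^r, where ĥ^i(X, L) =
limsup_m dim_k H^i(X, L^{⊗m}) · n!/m^n. (The source states the bound for all real classes in the
Néron–Severi space with any fixed norm.) -/
theorem result (k : Type u) [Field k] [IsAlgClosed k] [CharZero k] [Uncountable k] (X : Scheme.{u})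
    [X.Over (Spec (CommRingCat.of k))] [AlgebraicGeometry.IsIntegral X]
    [IsProper (X ↘ Spec (CommRingCat.of k))] (hproj : ∃ A : X.Modules, CohB1.IsAmple A)
    (n : ℕ) (hn : topologicalKrullDim X = n)
    (r : ℕ) (L M : Fin r → X.Modules) (hL : ∀ j, PicF.IsInvertible (L j))
    (hM : ∀ j, ClSub.IsInverseOf (L j) (M j)) (i : ℕ) :
    ∃ C : ℝ, ∀ a : Fin r → ℤ,
      W4c5asymptcohfn.hhat k X n i (W4c5asymptcohfn.ztwist X L M a) ≤
        C * ‖(fun j => ((a j : ℤ) : ℝ))‖ ^ n := by
  haveI := EulerIneqLib.isNoetherian_proper (X := X) k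
  obtain ⟨C, hC0, hC⟩ := hhat_lipschitz k L M hn hL hM i
  refine ⟨max (W4c5asymptcohfn.hhat k X n i (W4c5asymptcohfn.ztwist X L M 0)) (C * n), fun a => ?_⟩
  have h := le_abs_self _ |>.trans (hC a 0)
  rcases Nat.eq_zero_or_pos n with rfl | hn0
  · simp at h
    simpa using Or.inl h
  have hz : W4c5asymptcohfn.hhat k X n i (W4c5asymptcohfn.ztwist X L M 0) = 0 := by
    rw [hhat_eq]
    unfold W4c5asymptcohfn.hhatF
    rw [cohSeq_unit, mk_ztwist L M hM, show zcls L M hM 0 = 1 by simp [zcls]]
    simp only [Units.val_one, one_pow]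
    exact ((tendsto_natCast_atTop_atTop (R := ℝ)).comp (Filter.tendsto_pow_atTop hn0.ne')).const_div_atTop ((hcl k i (1 : IntLib.MCls X) : ℝ) * n.factorial) |>.congr
      (fun m => by simp) |>.limsup_eq
  refine le_trans ?_ (mul_le_mul_of_nonneg_right (le_max_right _ _) (by positivity))
  rw [hz, sub_zero] at h
  refine h.trans ?_
  have e0 : ‖(fun j => (((0 : Fin r → ℤ) j : ℤ) : ℝ))‖ = 0 := by
    rw [show (fun j => (((0 : Fin r → ℤ) j : ℤ) : ℝ)) = 0 from funext fun j => by simp, norm_zero]
  rw [e0, max_eq_left (norm_nonneg _), mul_assoc]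
  refine mul_le_mul_of_nonneg_left (le_of_eq ?_) hC0
  rw [Finset.sum_congr rfl fun q hq => show _ = ‖(fun j => ((a j : ℤ) : ℝ))‖ ^ n by
    simp only [Pi.zero_apply, sub_zero]
    rw [← pow_add, Nat.sub_add_cancel (Finset.mem_Icc.1 hq).2]]
  simp


end Groth.Agent.S17634
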