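import Groth.Statements.S17635
import Mathlib

set_option autoImplicit false
open Finset
open Variety

namespace Groth.Agent.S17635

/-- Let r and n be natural numbers and f : ℚ^r → ℝ a nonnegative function which is homogeneous of degree
n for positive rational scalars, f(q · v) = q^n · f(v) for q > 0; give ℚ^r the maximum norm ‖v‖ =
max_j |v_j| of its standard basis. Suppose that for every standard basis vector e_i there is a
constant C_i with |f(v − b · e_i) − f(v)| ≤ C_i · Σ_{q=1}^{n} ‖v‖^{n−q} · b^q for all v ∈ ℚ^r and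
all integers b ≥ 1. Then there is a constant C > 0 such that |f(v) − f(w)| ≤ C · Σ_{q=1}^{n}
max(‖v‖, ‖w‖)^{n−q} · ‖v − w‖^q for all v, w ∈ ℚ^r. (The source allows any norm on an r-dimensional
rational vector space with a chosen basis and argues with the maximum norm of that basis, which is
the case stated here.) -/
theorem result (r n : ℕ) (f : (Fin r → ℚ) → ℝ)
    (hf0 : ∀ v, 0 ≤ f v)
    (hhom : ∀ (q : ℚ) (v : Fin r → ℚ), 0 < q → f (q • v) = (q : ℝ) ^ n * f v)
    (hdir : ∀ i : Fin r, ∃ Ci : ℝ, ∀ (v : Fin r → ℚ) (b : ℕ), 1 ≤ b →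
      |f (v - (b : ℚ) • Pi.single i 1) - f v| ≤
        Ci * (Finset.Icc 1 n).sum (fun q => ‖(fun j => ((v j : ℚ) : ℝ))‖ ^ (n - q) * (b : ℝ) ^ q)) :
    ∃ C : ℝ, 0 < C ∧ ∀ v w : Fin r → ℚ,
      |f v - f w| ≤ C * (Finset.Icc 1 n).sum (fun q =>
        (max ‖(fun j => ((v j : ℚ) : ℝ))‖ ‖(fun j => ((w j : ℚ) : ℝ))‖) ^ (n - q) *
          ‖(fun j => ((v j - w j : ℚ) : ℝ))‖ ^ q) := by
  classical
  choose C hC using hdir
  refine ⟨∑ i, |C i| + 1, by positivity, fun v w => ?_⟩
  set M := max ‖(fun j => ((v j : ℚ) : ℝ))‖ ‖(fun j => ((w j : ℚ) : ℝ))‖ with hM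
  set δ := ‖(fun j => ((v j - w j : ℚ) : ℝ))‖ with hδ
  set S := (Finset.Icc 1 n).sum (fun q => M ^ (n - q) * δ ^ q) with hS
  have hM0 : 0 ≤ M := le_max_of_le_left (norm_nonneg _)
  have hS0 : 0 ≤ S := Finset.sum_nonneg fun q _ => mul_nonneg (pow_nonneg hM0 _) (pow_nonneg (norm_nonneg _) _)
  set D : ℕ := ∏ j, (v j - w j).den with hDdef
  have hD : 0 < D := Finset.prod_pos fun j _ => (v j - w j).den_pos
  have hDq : (0 : ℚ) < D := by exact_mod_cast hD
  have hDr : (0 : ℝ) < D := by exact_mod_cast hD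
  have hint : ∀ i, ∃ m : ℤ, (D : ℚ) * v i - D * w i = m := fun i => by
    obtain ⟨k, hk⟩ : (v i - w i).den ∣ D := Finset.dvd_prod_of_mem _ (Finset.mem_univ i)
    refine ⟨(v i - w i).num * k, ?_⟩
    rw [← mul_sub, hk]
    push_cast
    linear_combination (k : ℚ) * (v i - w i).mul_den_eq_num
  let g : Finset (Fin r) → Fin r → ℚ := fun s j => if j ∈ s then (D : ℚ) * v j else (D : ℚ) * w j
  have hgnorm : ∀ s, ‖(fun j => ((g s j : ℚ) : ℝ))‖ ≤ D * M := fun s => by
    refine (pi_norm_le_iff_of_nonneg (by positivity)).2 fun j => ?_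
    simp only [g]
    split <;> push_cast <;> rw [norm_mul, Real.norm_natCast] <;> refine mul_le_mul_of_nonneg_left ?_ hDr.le
    · exact le_trans (norm_le_pi_norm (fun j => ((v j : ℚ) : ℝ)) j) (le_max_left _ _)
    · exact le_trans (norm_le_pi_norm (fun j => ((w j : ℚ) : ℝ)) j) (le_max_right _ _)
  have hstep : ∀ i (z : Fin r → ℚ) (b : ℕ), ‖(fun j => ((z j : ℚ) : ℝ))‖ ≤ D * M → (b : ℝ) ≤ D * δ →
      |f (z - (b : ℚ) • Pi.single i 1) - f z| ≤ |C i| * ((D : ℝ) ^ n * S) := by
    intro i z b hz hb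
    rcases Nat.eq_zero_or_pos b with rfl | hb1
    · simp only [Nat.cast_zero, zero_smul, sub_zero, sub_self, abs_zero]
      positivity
    refine (hC i z b hb1).trans ((mul_le_mul_of_nonneg_right (le_abs_self _) (by positivity)).trans ?_)
    refine mul_le_mul_of_nonneg_left ?_ (abs_nonneg _)
    rw [hS, Finset.mul_sum]
    refine Finset.sum_le_sum fun q hq => ?_
    obtain ⟨hq1, hq2⟩ := Finset.mem_Icc.1 hq
    calc _ ≤ ((D : ℝ) * M) ^ (n - q) * ((D : ℝ) * δ) ^ q := by gcongr
      _ = _ := by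
        rw [mul_pow, mul_pow, show (D : ℝ) ^ n = (D : ℝ) ^ (n - q) * (D : ℝ) ^ q by
          rw [← pow_add, Nat.sub_add_cancel hq2]]
        ring
  have key : ∀ s : Finset (Fin r), |f (g s) - f (g ∅)| ≤ (∑ i ∈ s, |C i|) * ((D : ℝ) ^ n * S) := by
    intro s
    induction s using Finset.induction_on with
    | empty => simp
    | @insert i s hi ih =>
      rw [Finset.sum_insert hi, add_mul]
      refine (abs_sub_le _ (f (g s)) _).trans (add_le_add ?_ ih)
      obtain ⟨m, hm⟩ := hint i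
      have hdiff : g (insert i s) = g s + (m : ℚ) • Pi.single i 1 := by
        funext j
        by_cases hj : j = i
        · subst hj
          simp [g, hi, ← hm]
        · simp [g, hj]
      have hb : (m.natAbs : ℝ) ≤ D * δ := by
        rw [Nat.cast_natAbs, Int.cast_abs, show (m : ℝ) = (D : ℝ) * ((v i - w i : ℚ) : ℝ) by
          rw [← Rat.cast_intCast, ← hm]; push_cast; ring, abs_mul, Nat.abs_cast]
        exact mul_le_mul_of_nonneg_left (norm_le_pi_norm (fun j => ((v j - w j : ℚ) : ℝ)) i) hDr.le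
      rcases le_total m 0 with hneg | hpos
      · have hb' : ((m.natAbs : ℕ) : ℚ) = -(m : ℚ) := by
          rw [Nat.cast_natAbs, abs_of_nonpos hneg, Int.cast_neg]
        have := hstep i (g s) m.natAbs (hgnorm s) hb
        rw [hb', neg_smul, sub_neg_eq_add, ← hdiff] at this
        exact this
      · have hb' : ((m.natAbs : ℕ) : ℚ) = (m : ℚ) := by
          rw [Nat.cast_natAbs, abs_of_nonneg hpos]
        have := hstep i (g (insert i s)) m.natAbs (hgnorm _) hb
        rw [hb', hdiff, add_sub_cancel_right, abs_sub_comm, ← hdiff] at this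
        exact this
  have h := key Finset.univ
  rw [show g Finset.univ = (D : ℚ) • v by funext j; simp [g], show g ∅ = (D : ℚ) • w by funext j; simp [g],
    hhom _ _ hDq, hhom _ _ hDq, ← mul_sub, abs_mul, Rat.cast_natCast, abs_of_nonneg (pow_nonneg hDr.le n),
    mul_left_comm] at h
  refine (le_of_mul_le_mul_left h (pow_pos hDr n)).trans ?_
  nlinarith

end Groth.Agent.S17635
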