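import Groth.Statements.S17637
import Groth.Agent.NumBddLib.Ample
import Groth.Agent.NumBddLib.VATensor

set_option autoImplicit false
universe u
open CategoryTheory CategoryTheory.Limits AlgebraicGeometry
open Variety

namespace Groth.Agent.S17637

open CategoryTheory CategoryTheory.Limits AlgebraicGeometry

open Groth.Agent Groth.Agent.AmpleLib Groth.Agent.DCohLib
set_option backward.isDefEq.respectTransparency false
set_option linter.style.haveILetI false

variable (k : Type u) [Field k] {X : Scheme.{u}} [X.Over (Spec (CommRingCat.of k))]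
  [IsProper (X ↘ Spec (CommRingCat.of k))]

/-- Numerically trivial twists are generated by finitely many sections from one twist on. -/
theorem exists_uniform_sections {n : ℕ} (i : X ⟶ CohB1.ProjSpace n k) [IsClosedImmersion i] :
    ∃ m : ℤ, ∀ N : X.Modules, PicF.IsInvertible N → Pic13.IsNumEquivZero k X N →
      ∃ (r : ℕ) (t : Fin r → (Coh.structureModule X ⟶
        CohB1.tensorMod N ((Scheme.Modules.pullback i).obj (Twist.twistProjSpace n k m)))),
        ∀ x, ∃ b, x ∈ CohB1.genLocus _ (t b) := by
  haveI := EulerIneqLib.isNoetherian_proper (X := X) k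
  obtain ⟨j, hj⟩ := (NumBdd.allU k i (DevLib.isCoh_structureModule X)).1
  refine ⟨j + n + 1, fun N hN hn => ?_⟩
  have hc : Coh.IsCoh (CohB1.tensorMod (Coh.structureModule X) N) :=
    CMRegLib.isCoh_tensor_inv (DevLib.isCoh_structureModule X) hN
  have hm : CMRegLib.DataReg (CMRegLib.xData k i (CohB1.tensorMod (Coh.structureModule X) N)) (j + n + 1) := fun q hq => by
    rcases le_or_gt q (n + 1) with h | h
    · exact hj N hN hn (j + n + 1 - q) (by omega) q (by omega)
    · exact NumBdd.vanish_high_X k i hc _ (by omega)
  have hg := isGloballyGenerated_of_iso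
    (tIso (unitL N) (Iso.refl ((Scheme.Modules.pullback i).obj (Twist.twistProjSpace n k (j + n + 1)))))
    (hm.globallyGenerated (CMRegLib.spanAt_eventually k i hc))
  exact H1ZeroLib.exists_fin_genLocus (k := k) (isInvertible_tensor hN (NumBdd.isInvertible_xO k i _)) hg

/-- Let X be an integral scheme, proper over an algebraically closed field k of characteristic zero and
admitting an ample invertible module (the published statement is over the complex numbers). Then
there is a very ample invertible O_X-module A — A ≅ i^*O(1) for an immersion i : X → P^N_k over k —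
such that A ⊗ N is again very ample for every invertible O_X-module N which is numerically
equivalent to zero. (The published statement also provides one flat family over a quasi-projective
base whose fibres include every divisor of every |A ⊗ N|; that clause is not stated here.) -/
theorem result (k : Type u) [Field k] [IsAlgClosed k] [CharZero k] (X : Scheme.{u})
    [X.Over (Spec (CommRingCat.of k))] [AlgebraicGeometry.IsIntegral X]
    [IsProper (X ↘ Spec (CommRingCat.of k))] (hproj : ∃ A : X.Modules, CohB1.IsAmple A) :
    ∃ A : X.Modules, PicF.IsInvertible A ∧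
      RelAmple.IsRelVeryAmplePn (X ↘ Spec (CommRingCat.of k)) A ∧
      ∀ N : X.Modules, PicF.IsInvertible N → Pic13.IsNumEquivZero k X N →
        RelAmple.IsRelVeryAmplePn (X ↘ Spec (CommRingCat.of k)) (CohB1.tensorMod A N) := by
  haveI := EulerIneqLib.isNoetherian_proper (X := X) k
  obtain ⟨H, hH⟩ := hproj
  obtain ⟨M, hM⟩ := AmpleEmb.eventually_isRelVeryAmplePn (X ↘ Spec (CommRingCat.of k)) hH
  have hV := hM (M + 1) M.le_succ
  obtain ⟨n, i, hi, hif, -⟩ := H1ZeroLib.exists_closedImmersion_of_va k _ hV
  haveI := hi
  obtain ⟨m, hm⟩ := exists_uniform_sections k i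
  let O := (Scheme.Modules.pullback i).obj (Twist.twistProjSpace n k m)
  have hO : PicF.IsInvertible O := NumBdd.isInvertible_xO k i m
  obtain ⟨r, t, ht⟩ := hm _ ParaFLib.isInvertible_structureModule (NumBdd.numTriv_unit k)
  have h0 := AmpleEmb.isRelVeryAmplePn_of_iso (tIso (Iso.refl _) (unitL O))
    (VATensor.isRelVeryAmplePn_tensor _ hV (isInvertible_tensor ParaFLib.isInvertible_structureModule hO) t ht)
  refine ⟨CohB1.tensorMod (CohB1.tensorPow H (M + 1)) O, isInvertible_tensor (isInvertible_tensorPow hH.1 _) hO, h0,
    fun N hN hn => ?_⟩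
  obtain ⟨r', t', ht'⟩ := hm N hN hn
  exact AmpleEmb.isRelVeryAmplePn_of_iso (tIso (Iso.refl _) (comm N O) ≪≫ (AmpleLib.assoc _ O N).symm)
    (VATensor.isRelVeryAmplePn_tensor _ hV (isInvertible_tensor hN hO) t' ht')


end Groth.Agent.S17637
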