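import Groth.Statements.S17638
import Groth.Agent.S17633
import Groth.Agent.VolLib.HiLim
import Groth.Agent.NakaiLib.Apps
import Groth.Agent.NakaiLib.Small
import Groth.Agent.TwistShriek.SurfSections
import Groth.Agent.TwistShriek.SurfTwist
import Groth.Agent.TwistShriek.NumBase
import Groth.Agent.CastLib.InterFibreClass
-- import your own Groth.Agent.* helpers here

set_option backward.isDefEq.respectTransparency false
set_option linter.style.haveILetI false
set_option maxHeartbeats 1000000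

set_option autoImplicit false
universe u
open CategoryTheory CategoryTheory.Limits AlgebraicGeometry
open Surf

namespace Groth.Agent.S17638

section
open CategoryTheory CategoryTheory.Limits AlgebraicGeometry TopologicalSpace Filter
open scoped Topology
open Groth.Agent.AmpleLib Groth.Agent.HiGrowth
open Groth.Agent.IntLib (PicRing mk mk_tensor pairing dif)
open Groth.Agent.Nakai (cl Aug cl_mem form)

variable {X : Scheme.{u}}

/-- First order expansion of a product. -/
theorem prod_one_add_mem {ι : Type*} {R : Type*} [CommRing R] (I : Ideal R) (s : Finset ι) (a : ι → R) (c : ι → ℕ)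
    (ha : ∀ i, a i ∈ I) : (∏ i ∈ s, (1 + a i) ^ c i) - 1 - ∑ i ∈ s, (c i : R) * a i ∈ I ^ 2 := by
  rw [← Ideal.Quotient.eq_zero_iff_mem]
  let q := Ideal.Quotient.mk (I ^ 2)
  have hz : ∀ x ∈ I, ∀ y ∈ I, q x * q y = 0 := fun x hx y hy => by
    rw [← map_mul, Ideal.Quotient.eq_zero_iff_mem, pow_two]; exact Ideal.mul_mem_mul hx hy
  have hp : ∀ x ∈ I, ∀ n : ℕ, (1 + q x) ^ n = 1 + (n : R ⧸ I ^ 2) * q x := fun x hx n => by
    induction n with
    | zero => simp
    | succ n ih => rw [pow_succ (1 + q x) n, ih, mul_add, mul_one, add_mul, one_mul, mul_assoc, hz x hx x hx]; push_cast; ring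
  classical
  induction s using Finset.induction_on with
  | empty => simp
  | @insert j s hj ih =>
    rw [map_sub, map_sub, map_one, map_prod, sub_sub, sub_eq_zero] at ih
    rw [Finset.prod_insert hj, Finset.sum_insert hj, map_sub, map_sub, map_mul, map_prod, ih, map_pow, map_add,
      map_one, hp _ (ha j), map_add, map_mul, map_natCast]
    have h0 : q (a j) * q (∑ i ∈ s, (c i : R) * a i) = 0 :=
      hz _ (ha j) _ (Ideal.sum_mem _ fun i _ => Ideal.mul_mem_left _ _ (ha i))
    show (1 + _ * q (a j)) * (1 + q (∑ i ∈ s, _)) - 1 - (_ * q (a j) + q (∑ i ∈ s, _)) = 0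
    linear_combination (c j : R ⧸ I ^ 2) * h0

theorem isInvertible_multiTwist {s : ℕ} {O I : Fin s → X.Modules}
    (hO : ∀ j, CohB1.tensorMod (I j) (O j) ≅ Coh.structureModule X) (c : Fin s → ℕ) :
    PicF.IsInvertible (FGA.multiTwist O c) := by
  have h : mk (CohB1.tensorMod (FGA.multiTwist O c) (FGA.multiTwist I c)) = mk (Coh.structureModule X) := by
    rw [IntLib.mk_tensor, CastLib.mk_multiTwist, CastLib.mk_multiTwist, ← Finset.prod_mul_distrib,
      IntLib.mk_structureModule]
    refine Finset.prod_eq_one fun j _ => ?_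
    rw [← mul_pow, mul_comm, ← IntLib.mk_tensor, IntLib.mk_congr (hO j), IntLib.mk_structureModule, one_pow]
  obtain ⟨e⟩ := IntLib.mk_eq_mk.1 h
  exact isInvertible_of_tensor_iso e

theorem cl_multiTwist {s : ℕ} {O : Fin s → X.Modules} (hO : ∀ j, PicF.IsInvertible (O j)) (c : Fin s → ℕ)
    (hT : PicF.IsInvertible (FGA.multiTwist O c)) :
    cl hT - ∑ j, (c j : PicRing X) * cl (hO j) ∈ Aug X ^ 2 := by
  have e : IntLib.inv' hT = ∏ j, IntLib.inv' (hO j) ^ c j := Subtype.ext (by
    rw [Submonoid.coe_finset_prod]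
    exact (CastLib.mk_multiTwist O c).trans (Finset.prod_congr rfl fun j _ => rfl))
  have h := prod_one_add_mem (Aug X) Finset.univ (fun j => cl (hO j)) c fun j => cl_mem _
  simp only [Nakai.cl, add_sub_cancel] at h ⊢
  rw [e, map_prod]
  simp only [map_pow]
  exact h

variable (k : Type u) [Field k] [X.Over (Spec (CommRingCat.of k))] [IsProper (X ↘ Spec (CommRingCat.of k))]

/-- Euler characteristics of powers on a surface. -/
theorem euler_pow (hdim : topologicalKrullDim X = 2) {L : X.Modules} (hL : PicF.IsInvertible L) (m : ℕ) :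
    2 * Curv2.euler k X (CohB1.tensorPow L m) = 2 * Curv2.euler k X (Coh.structureModule X) +
      2 * (m : ℤ) * pairing k (Coh.structureModule X) (cl hL) + (m : ℤ) * ((m : ℤ) - 1) * form k (cl hL) (cl hL) := by
  haveI := EulerIneqLib.isNoetherian_proper (X := X) k
  have hchi : pairing k (Coh.structureModule X) (1 + cl (isInvertible_tensorPow hL m)) =
      Curv2.euler k X (CohB1.tensorPow L m) := by
    rw [Nakai.cl, add_sub_cancel, ← mul_one (MonoidAlgebra.of ℤ _ _), IntLib.pairing_of_mul, IntLib.pairing_one]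
    exact CurveLib.euler_iso (K := k) (unitL _)
  have hexp : (1 + cl (isInvertible_tensorPow hL m) : PicRing X) = (1 + cl hL) ^ m := by
    rw [Nakai.cl, Nakai.cl, add_sub_cancel, add_sub_cancel, ← map_pow]
    exact congrArg _ (Subtype.ext (by rw [SubmonoidClass.coe_pow]; exact IntLib.mk_tensorPow L m))
  rw [← hchi, hexp]
  have hz : ∀ z ∈ Aug X ^ 3, pairing k (Coh.structureModule X) z = 0 := fun z hz =>
    Nakai.pairing_mem_eq_zero k (n := 3) hz (DevLib.isCoh_structureModule X)
      (lt_of_le_of_lt (Topology.IsInducing.subtypeVal.topologicalKrullDim_le.trans hdim.le)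
        (by exact_mod_cast Nat.lt_succ_self 2))
  have hmem : ∀ n : ℕ, 2 * (1 + cl hL) ^ n - (2 + 2 * (n : PicRing X) * cl hL +
      (n : PicRing X) * ((n : PicRing X) - 1) * (cl hL * cl hL)) ∈ Aug X ^ 3 := fun n => by
    induction n with
    | zero => simp
    | succ n ih =>
      have h3 : (n : PicRing X) * ((n : PicRing X) - 1) * (cl hL * cl hL * cl hL) ∈ Aug X ^ 3 := by
        refine Ideal.mul_mem_left _ _ ?_
        rw [pow_succ, pow_two]
        exact Ideal.mul_mem_mul (Ideal.mul_mem_mul (cl_mem _) (cl_mem _)) (cl_mem _)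
      convert Ideal.add_mem _ (Ideal.mul_mem_right (1 + cl hL) _ ih) h3 using 1
      push_cast
      ring
  have key : (2 * (1 + cl hL) ^ m - (2 + 2 * (m : PicRing X) * cl hL +
      (m : PicRing X) * ((m : PicRing X) - 1) * (cl hL * cl hL))) =
      (2 : ℤ) • (1 + cl hL) ^ m - ((2 : ℤ) • (1 : PicRing X) + (2 * (m : ℤ)) • cl hL +
        ((m : ℤ) * ((m : ℤ) - 1)) • (cl hL * cl hL)) := by
    simp only [zsmul_eq_mul]; push_cast; ring
  have h := hz _ (hmem m)
  rw [key, map_sub, map_add, map_add, map_zsmul, map_zsmul, map_zsmul, map_zsmul, IntLib.pairing_one] at h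
  simp only [smul_eq_mul] at h
  rw [show form k (cl hL) (cl hL) = pairing k (Coh.structureModule X) (cl hL * cl hL) from rfl]
  linarith

variable [IsIntegral X]

/-- Euler characteristic as a sum of three dimensions. -/
theorem euler_three (hdim : topologicalKrullDim X = 2) (M : X.Modules) :
    Curv2.euler k X M = (Module.finrank k (Coh.HH X M 0) : ℤ) - Module.finrank k (Coh.HH X M 1) +
      Module.finrank k (Coh.HH X M 2) := by
  haveI := EulerIneqLib.isNoetherian_proper (X := X) k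
  rw [CurveLib.euler_eq_sum (K := k) M 3 fun p hp => CurveLib.subsingleton_HH_of_dim M
    (show topologicalKrullDim X ≤ ((2 : ℕ) : WithBot ℕ∞) by exact_mod_cast hdim.le) (by omega)]
  simp only [Finset.sum_range_succ, Finset.sum_range_zero, zero_add, pow_zero, pow_one, neg_one_sq, one_mul]
  ring

/-- The higher asymptotic cohomology of a nef module vanishes. -/
theorem hhat_nef [IsAlgClosed k] [CharZero k] [Uncountable k] (hdim : topologicalKrullDim X = 2) {A : X.Modules}
    (hA : CohB1.IsAmple A) {P : X.Modules} (hP : PicF.IsInvertible P) (hn : Nakai.NefP k hP) {i : ℕ} (hi : 0 < i) :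
    W4c5asymptcohfn.hhat k X 2 i P = 0 := by
  obtain ⟨P', hP', ⟨eP⟩⟩ := AmpleEmb.exists_isInverseOf hP
  obtain ⟨A', hA', ⟨eA⟩⟩ := AmpleEmb.exists_isInverseOf hA.1
  have hd2 : topologicalKrullDim X = ((2 : ℕ) : WithBot ℕ∞) := by exact_mod_cast hdim
  obtain ⟨C, hC⟩ := S17633.result k X ⟨A, hA⟩ 2 hd2 2 ![P, A] ![P', A'] (fun j => by fin_cases j; exacts [hP, hA.1])
    (fun j => by fin_cases j; exacts [⟨eP⟩, ⟨eA⟩]) i
  have hbound : ∀ p : ℕ, (p : ℝ) ^ 2 * |W4c5asymptcohfn.hhat k X 2 i P| ≤ |C| * (p + 2) := fun p => by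
    by_cases hp : p = 0
    · subst hp; simp [abs_nonneg]
    have hM := isInvertible_tensor (isInvertible_tensorPow hP p) hA.1
    have hMa : CohB1.IsAmple (CohB1.tensorMod (CohB1.tensorPow P p) A) :=
      Nakai.isAmple_of_cl k hP hA hn hM one_pos (Nakai.cl_twist_sub_mem hP hA.1 p hM)
    have hzero : W4c5asymptcohfn.hhat k X 2 i (CohB1.tensorMod (CohB1.tensorPow P p) A) = 0 := by
      obtain ⟨n₀, hn₀⟩ := AmpleEmb.serre_vanishing (X ↘ Spec (CommRingCat.of k)) hMa (DevLib.isCoh_structureModule X)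
      refine Tendsto.limsup_eq (tendsto_const_nhds.congr' (eventually_atTop.2 ⟨n₀, fun m hm => ?_⟩))
      haveI : Subsingleton (Coh.HH X (CohB1.tensorMod (Coh.structureModule X)
        (CohB1.tensorPow (CohB1.tensorMod (CohB1.tensorPow P p) A) m)) i) := hn₀ m hm i hi
      show (0 : ℝ) = (Module.finrank k (Coh.HH X (CohB1.tensorPow (CohB1.tensorMod (CohB1.tensorPow P p) A) m) i) : ℝ) * _ / _
      rw [← hh_congr k (unitL _) i, Module.finrank_zero_of_subsingleton]
      simp
    have hz : ∀ q : ℕ, W4c5asymptcohfn.hhat k X 2 i (W4c5asymptcohfn.ztwist X ![P, A] ![P', A'] ![(p : ℤ), (q : ℤ)]) =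
        W4c5asymptcohfn.hhat k X 2 i (CohB1.tensorMod (CohB1.tensorPow P p) (CohB1.tensorPow A q)) := fun q => by
      have e : mk (W4c5asymptcohfn.ztwist X ![P, A] ![P', A'] ![(p : ℤ), (q : ℤ)]) =
          mk (CohB1.tensorMod (CohB1.tensorPow P p) (CohB1.tensorPow A q)) := by
        simp [W4c5asymptcohfn.ztwist, IntLib.mk_tensor, IntLib.mk_tensorPow, CastLib.mk_multiTwist, Fin.prod_univ_two]
      obtain ⟨e⟩ := IntLib.mk_eq_mk.1 e
      unfold W4c5asymptcohfn.hhat
      exact congrArg (fun f => limsup f atTop) (funext fun m => by rw [hh_congr k (powCongr e m) i])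
    have h := hC ![(p : ℤ), ((1 : ℕ) : ℤ)] ![(p : ℤ), ((0 : ℕ) : ℤ)]
    rw [hz 1, hz 0] at h
    have e1 : W4c5asymptcohfn.hhat k X 2 i (CohB1.tensorMod (CohB1.tensorPow P p) (CohB1.tensorPow A 1)) = 0 := by
      rw [← hzero]
      unfold W4c5asymptcohfn.hhat
      exact congrArg (fun f => limsup f atTop) (funext fun m => congrArg (fun z : ℕ => (z : ℝ) * ((2 : ℕ).factorial : ℝ) / (m : ℝ) ^ 2)
        (hh_congr k (powCongr (tIso (Iso.refl (CohB1.tensorPow P p)) (unitL A : CohB1.tensorPow A 1 ≅ A)) m) i))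
    have e0 : W4c5asymptcohfn.hhat k X 2 i (CohB1.tensorMod (CohB1.tensorPow P p) (CohB1.tensorPow A 0)) =
        (p : ℝ) ^ 2 * W4c5asymptcohfn.hhat k X 2 i P := by
      rw [← hhat_pow k hd2 hP (Nat.one_le_iff_ne_zero.2 hp) i]
      unfold W4c5asymptcohfn.hhat
      exact congrArg (fun f => limsup f atTop) (funext fun m => congrArg (fun z : ℕ => (z : ℝ) * ((2 : ℕ).factorial : ℝ) / (m : ℝ) ^ 2)
        (hh_congr k (powCongr (unitR (CohB1.tensorPow P p) : CohB1.tensorMod (CohB1.tensorPow P p) (CohB1.tensorPow A 0) ≅ _) m) i))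
    rw [e1, e0, zero_sub, abs_neg, abs_mul, abs_of_nonneg (by positivity : (0 : ℝ) ≤ (p : ℝ) ^ 2)] at h
    refine h.trans ?_
    have hn1 : ‖(fun j : Fin 2 => (((![(p : ℤ), ((1 : ℕ) : ℤ)] j - ![(p : ℤ), ((0 : ℕ) : ℤ)] j) : ℤ) : ℝ))‖ ≤ 1 :=
      (pi_norm_le_iff_of_nonneg zero_le_one).2 fun j => by fin_cases j <;> simp
    have hn2 : ∀ q : ℕ, q ≤ 1 → ‖(fun j : Fin 2 => ((![(p : ℤ), (q : ℤ)] j : ℤ) : ℝ))‖ ≤ (p : ℝ) + 1 := fun q hq =>
      (pi_norm_le_iff_of_nonneg (by positivity)).2 fun j => by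
        fin_cases j
        · simp
        · simp only [Real.norm_eq_abs]; simp; exact le_trans (by exact_mod_cast hq) (le_add_of_nonneg_left (Nat.cast_nonneg p))
    rw [show Finset.Icc 1 2 = {1, 2} from rfl, Finset.sum_insert (by decide), Finset.sum_singleton]
    simp only [show 2 - 1 = 1 from rfl, Nat.sub_self, pow_one, pow_zero, one_mul]
    refine (mul_le_mul_of_nonneg_right (le_abs_self C) (by positivity)).trans (mul_le_mul_of_nonneg_left ?_ (abs_nonneg C))
    set u := ‖(fun j : Fin 2 => (((![(p : ℤ), ((1 : ℕ) : ℤ)] j - ![(p : ℤ), ((0 : ℕ) : ℤ)] j) : ℤ) : ℝ))‖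
    have hu0 : 0 ≤ u := norm_nonneg _
    have h2 : u ^ 2 ≤ 1 := pow_le_one₀ hu0 hn1
    have h3 := mul_le_mul (max_le (hn2 1 le_rfl) (hn2 0 zero_le_one)) hn1 hu0 (by positivity : (0 : ℝ) ≤ (p : ℝ) + 1)
    linarith
  by_contra hne
  have hpos : 0 < |W4c5asymptcohfn.hhat k X 2 i P| := abs_pos.2 hne
  obtain ⟨p, hp⟩ := exists_nat_gt (3 * |C| / |W4c5asymptcohfn.hhat k X 2 i P| + 1)
  rw [← lt_sub_iff_add_lt, div_lt_iff₀ hpos] at hp
  have h := hbound p
  have hp1 : (1 : ℝ) ≤ p := by
    by_contra hlt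
    push Not at hlt
    nlinarith [abs_nonneg C]
  nlinarith [mul_le_mul_of_nonneg_left hp1 (abs_nonneg C)]

/-- Null upper limits of nonnegative sequences. -/
theorem tendsto_zero_of_limsup {u : ℕ → ℝ} (h0 : ∀ m, 0 ≤ u m) (hb : IsBoundedUnder (· ≤ ·) atTop u)
    (h : limsup u atTop = 0) : Tendsto u atTop (𝓝 0) :=
  tendsto_of_le_liminf_of_limsup_le (le_liminf_of_le hb.isCoboundedUnder_ge (Eventually.of_forall h0)) h.le hb
    (isBoundedUnder_ge_of_nonneg h0)

/-- Scaled dimensions. -/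
noncomputable def sq (i : ℕ) (L : X.Modules) (m : ℕ) : ℝ :=
  (Module.finrank k (Coh.HH X (CohB1.tensorPow L m) i) : ℝ) * ((2 : ℕ).factorial : ℝ) / (m : ℝ) ^ 2

theorem sq_bdd (hdim : topologicalKrullDim X = 2) {L : X.Modules} (hL : PicF.IsInvertible L) (i : ℕ) :
    IsBoundedUnder (· ≤ ·) atTop (sq k i L) := by
  have h := isBoundedUnder_cohSeq k (n := 2) (by exact_mod_cast hdim) hL (DevLib.isCoh_structureModule X) i
  refine h.mono_le (Eventually.of_forall fun m => le_of_eq ?_)
  show sq k i L m = _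
  rw [cohSeq_eq]
  show _ = (Module.finrank k (Coh.HH X (CohB1.tensorMod (Coh.structureModule X) (CohB1.tensorPow L m)) i) : ℝ) * _ / _
  rw [hh_congr k (unitL (CohB1.tensorPow L m)) i]
  rfl

/-- Scaled Euler characteristics. -/
theorem tendsto_euler (hdim : topologicalKrullDim X = 2) {L : X.Modules} (hL : PicF.IsInvertible L) :
    Tendsto (fun m => sq k 0 L m - sq k 1 L m + sq k 2 L m) atTop (𝓝 (form k (cl hL) (cl hL) : ℝ)) := by
  have h1 := tendsto_const_div_atTop_nhds_zero_nat
    ((2 : ℝ) * pairing k (Coh.structureModule X) (cl hL) - form k (cl hL) (cl hL))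
  have h2 := ((tendsto_const_div_atTop_nhds_zero_nat ((2 : ℝ) * Curv2.euler k X (Coh.structureModule X))).mul
    (tendsto_const_div_atTop_nhds_zero_nat (1 : ℝ)))
  have h3 := (h1.add h2).const_add (form k (cl hL) (cl hL) : ℝ)
  rw [mul_zero, add_zero, add_zero] at h3
  refine h3.congr' (eventually_atTop.2 ⟨1, fun m hm => ?_⟩)
  have hm0 : (m : ℝ) ≠ 0 := Nat.cast_ne_zero.2 (by omega)
  have he := euler_pow k hdim hL m
  rw [euler_three k hdim] at he
  have heR := congrArg (fun z : ℤ => (z : ℝ)) he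
  push_cast at heR
  simp only [sq, Nat.factorial_two, Nat.cast_ofNat]
  field_simp
  linear_combination -heR

variable [Smooth (X ↘ Spec (CommRingCat.of k))]

/-- Peeling a negative definite configuration. -/
theorem peel [IsAlgClosed k] (hdim : topologicalKrullDim X = 2) {Q : X.Modules} (hQ : PicF.IsInvertible Q) {s : ℕ}
    (N : Fin s → X.IdealSheafData) (hN : ∀ j, IsIntegral (N j).subscheme)
    (hN1 : ∀ j, topologicalKrullDim ((N j).support : Set X) = 1) (hI : ∀ j, PicF.IsInvertible (ClSub.idealMod (N j)))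
    (O : Fin s → X.Modules) (hOi : ∀ j, PicF.IsInvertible (O j))
    (hO : ∀ j, CohB1.tensorMod (ClSub.idealMod (N j)) (O j) ≅ Coh.structureModule X)
    (horth : ∀ j, form k (cl (hI j)) (cl hQ) = 0)
    (hneg : ∀ c : Fin s → ℕ, c ≠ 0 → ∑ l, ∑ j, (c l : ℤ) * (c j : ℤ) * form k (cl (hI l)) (cl (hI j)) < 0) :
    ∀ c : Fin s → ℕ,
      Module.finrank k (Coh.HH X (CohB1.tensorMod Q (FGA.multiTwist O c)) 0) ≤ Module.finrank k (Coh.HH X Q 0) ∧
      Module.finrank k (Coh.HH X Q 0) ≤ Module.finrank k (Coh.HH X (CohB1.tensorMod Q (FGA.multiTwist O c)) 0) ∧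
      Module.finrank k (Coh.HH X (CohB1.tensorMod Q (FGA.multiTwist O c)) 2) ≤ Module.finrank k (Coh.HH X Q 2) := by
  classical
  haveI := EulerIneqLib.isNoetherian_proper (X := X) k
  intro c
  generalize hd : ∑ j, c j = d
  induction d using Nat.strong_induction_on generalizing c with
  | _ d ih =>
  by_cases hc : c = 0
  · subst hc
    have e : mk (CohB1.tensorMod Q (FGA.multiTwist O (0 : Fin s → ℕ))) = mk Q := by
      simp [IntLib.mk_tensor, CastLib.mk_multiTwist]
    obtain ⟨e⟩ := IntLib.mk_eq_mk.1 e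
    rw [hh_congr k e 0, hh_congr k e 2]
    exact ⟨le_rfl, le_rfl, le_rfl⟩
  have hT : ∀ c : Fin s → ℕ, PicF.IsInvertible (FGA.multiTwist O c) := fun c => isInvertible_multiTwist hO c
  -- a curve of negative degree
  obtain ⟨l, hcl, hl⟩ : ∃ l, 0 < c l ∧ ∑ j, (c j : ℤ) * form k (cl (hI l)) (cl (hI j)) < 0 := by
    by_contra hcon
    push Not at hcon
    refine (hneg c hc).not_ge (Finset.sum_nonneg fun l _ => ?_)
    simp only [mul_assoc, ← Finset.mul_sum]
    rcases Nat.eq_zero_or_pos (c l) with h | h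
    · simp [h]
    · exact mul_nonneg (Nat.cast_nonneg _) (hcon l h)
  let c' : Fin s → ℕ := Function.update c l (c l - 1)
  have hsum : ∑ j, c' j < d := by
    rw [← hd]
    exact Finset.sum_lt_sum (fun j _ => by
      simp only [c', Function.update_apply]; split_ifs with h <;> [(subst h; omega); exact le_rfl])
      ⟨l, Finset.mem_univ _, by simp only [c', Function.update_self]; omega⟩
  obtain ⟨ih0, ih0', ih2⟩ := ih _ hsum c' rfl
  let M := CohB1.tensorMod Q (FGA.multiTwist O c)
  have hM : PicF.IsInvertible M := isInvertible_tensor hQ (hT c)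
  -- the degree
  have hdeg : Curv2.euler k X (CohB1.tensorMod (ClSub.quotMod (N l)) M) - Curv2.euler k X (ClSub.quotMod (N l)) < 0 := by
    have h1 := IntLib.pairing_quotMod k (hI l) (dif hM)
    rw [IntLib.pairing_dif] at h1
    have h2 : pairing k (Coh.structureModule X) (dif (hI l) * dif hM) = form k (cl (hI l)) (cl hM) := by
      rw [form, Nakai.cl_eq_neg_dif, Nakai.cl_eq_neg_dif, neg_mul_neg]
    rw [h2] at h1
    have hd2 : topologicalKrullDim X = ((2 : ℕ) : WithBot ℕ∞) := by exact_mod_cast hdim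
    have hmem : cl hM - (cl hQ + ∑ j, (c j : PicRing X) * cl (hOi j)) ∈ Aug X ^ 2 := by
      rw [show cl hM = cl hQ + cl (hT c) + cl hQ * cl (hT c) from Nakai.cl_tensor hQ (hT c)]
      have := Ideal.add_mem _ (cl_multiTwist hOi c (hT c)) (show cl hQ * cl (hT c) ∈ Aug X ^ 2 by
        rw [pow_two]; exact Ideal.mul_mem_mul (cl_mem _) (cl_mem _))
      convert this using 1
      ring
    have h3 : form k (cl (hI l)) (cl hM) = - ∑ j, (c j : ℤ) * form k (cl (hI l)) (cl (hI j)) := by
      rw [Nakai.form_comm, Nakai.form_congr k hd2 hmem (cl_mem _), Nakai.form_add_left, Nakai.form_comm k (cl hQ),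
        horth l, zero_add, form, Finset.sum_mul, map_sum, ← Finset.sum_neg_distrib]
      refine Finset.sum_congr rfl fun j _ => ?_
      rw [show (c j : PicRing X) * cl (hOi j) * cl (hI l) = (c j : ℤ) • (cl (hOi j) * cl (hI l)) by
        rw [zsmul_eq_mul, Int.cast_natCast, mul_assoc], map_zsmul, smul_eq_mul, ← form,
        TwistShriek.form_inverse k hdim (hOi j) (hI j) (comm _ _ ≪≫ hO j) (cl_mem _), Nakai.form_comm k (cl (hI j))]
      ring
    omega
  obtain ⟨S, hS, ⟨e1⟩, ⟨e2⟩, ⟨e3⟩⟩ : ∃ S : ShortComplex X.Modules, S.ShortExact ∧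
      Nonempty (S.X₁ ≅ CohB1.tensorMod Q (FGA.multiTwist O c')) ∧ Nonempty (S.X₂ ≅ M) ∧
      Nonempty (S.X₃ ≅ CohB1.tensorMod (ClSub.quotMod (N l)) M) := by
    have hS := H1ZeroLib.kerSeq_shortExact (ClSub.toSubscheme (N l)) fun x => by
      haveI : Epi (ClSub.toSubscheme (N l)) := HilbObsLib.epi_toSubscheme _
      exact (PullbackMod.epi_iff_stalk _).1 inferInstance x
    refine ⟨_, CurveLib.shortExact_tensR hS (CurveLib.freeAt_one_of_isInvertible hM), ?_, ⟨unitL M⟩, ⟨Iso.refl _⟩⟩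
    have he : mk (CohB1.tensorMod (ClSub.idealMod (N l)) M) = mk (CohB1.tensorMod Q (FGA.multiTwist O c')) := by
      have hc' : ∀ j, IntLib.mk (O j) ^ c j = IntLib.mk (O j) ^ c' j * (if j = l then IntLib.mk (O j) else 1) := fun j => by
        by_cases h : j = l
        · subst h
          simp only [c', Function.update_self, if_pos]
          rw [← pow_succ, Nat.sub_add_cancel hcl]
        · simp [c', Function.update_of_ne h, h]
      have h1 : IntLib.mk (ClSub.idealMod (N l)) * IntLib.mk (O l) = 1 := by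
        rw [← IntLib.mk_tensor, ← IntLib.mk_structureModule]; exact IntLib.mk_congr (hO l)
      simp only [M, IntLib.mk_tensor, CastLib.mk_multiTwist, Finset.prod_congr rfl fun j _ => hc' j,
        Finset.prod_mul_distrib, Finset.prod_ite_eq', Finset.mem_univ, if_pos]
      rw [← mul_assoc, ← mul_assoc, mul_comm _ (IntLib.mk Q), mul_assoc (IntLib.mk Q), mul_assoc]
      congr 1
      rw [mul_right_comm, h1, one_mul]
    exact IntLib.mk_eq_mk.1 he
  have hc1 : Coh.IsCoh S.X₁ := CurveLib.isCoh_of_isInvertible (ParaFLib.isInvertible_of_iso e1.symm (isInvertible_tensor hQ (hT c')))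
  have hc2 : Coh.IsCoh S.X₂ := CurveLib.isCoh_of_isInvertible (ParaFLib.isInvertible_of_iso e2.symm hM)
  haveI := IntLib.isCoh_quotMod (X := X) (N l)
  have hc3' : Coh.IsCoh (CohB1.tensorMod (ClSub.quotMod (N l)) M) :=
    CurveLib.isCoh_tmod (M := ClSub.quotMod (N l)) (N := M) (IntLib.isCoh_quotMod (N l)) (CurveLib.isCoh_of_isInvertible hM)
  have hc3 : Coh.IsCoh S.X₃ := ProjCoh.isCoh_of_iso (M := CohB1.tensorMod (ClSub.quotMod (N l)) M) e3.symm hc3'
  have hz0 := TwistShriek.curve_twist_neg k (hN l) (hN1 l) hM hdeg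
  have hz2 : Subsingleton (Coh.HH X (CohB1.tensorMod (ClSub.quotMod (N l)) M) 2) :=
    CurveLib.subsingleton_HH_of_support _ (N l).support.isClosed
      ((HilbLib.support_tensor hM _).le.trans (IntLib.support_quotMod_subset _)) (d := 1) (hN1 l).le (by omega)
  have hz2' : Module.finrank k (Coh.HH X (CohB1.tensorMod (ClSub.quotMod (N l)) M) 2) = 0 := by
    haveI := hz2; exact Module.finrank_zero_of_subsingleton
  obtain ⟨a0, b0, -⟩ := ineqs₀ k hS hc1 hc2 hc3 0
  obtain ⟨-, b2, -⟩ := ineqs₀ k hS hc1 hc2 hc3 2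
  rw [hh_congr k e1, hh_congr k e2, hh_congr k e3, hz0] at b0
  rw [hh_congr k e1, hh_congr k e2, hh_congr k e3, Nat.zero_sub, hz0] at a0
  rw [hh_congr k e1, hh_congr k e2, hh_congr k e3, hz2'] at b2
  show Module.finrank k (Coh.HH X M 0) ≤ _ ∧ _ ≤ Module.finrank k (Coh.HH X M 0) ∧ Module.finrank k (Coh.HH X M 2) ≤ _
  exact ⟨by omega, by omega, by omega⟩

end

open Filter Groth.Agent.AmpleLib
open scoped Topology

/-- Let X be an integral scheme, smooth and proper over an uncountable algebraically closed field k of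
characteristic zero and admitting an ample invertible module, of dimension 2 (a smooth projective
surface; stated in the source over the complex numbers), and L an invertible O_X-module. Suppose a ≥
1 and L^{⊗a} ≅ L_P ⊗ L_N is a Zariski decomposition: L_P is invertible and nef (degree ≥ 0 on every
integral closed curve of X); L_N ≅ ⊗_j O(N_j)^{⊗ b_j} for finitely many integral closed curves N_1,
…, N_s ⊆ X and integers b_j ≥ 1, where O(N_j) is an inverse of the ideal sheaf of N_j; the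
intersection matrix (N_j · N_l) is negative definite; and (L_P · N_j) = deg(L_P|_{N_j}) = 0 for
every j. Then, with M_P and M_N inverses of L_P and L_N and intersection numbers on X computed as
alternating sums of Euler characteristics, ĥ^0(X, L) = (L_P · L_P)/a², ĥ^1(X, L) = −(L_N · L_N)/a²
and ĥ^2(X, L) = 0, where ĥ^i(X, L) = limsup_m dim_k H^i(X, L^{⊗m}) · 2!/m². (The source states this
for any pseudo-effective real divisor class D = P_D + N_D; for an integral D a positive multiple aD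
has an integral decomposition as here.) -/
theorem result (k : Type u) [Field k] [IsAlgClosed k] [CharZero k]
    [Uncountable k] (X : Scheme.{u}) [X.Over (Spec (CommRingCat.of k))] [AlgebraicGeometry.IsIntegral X]
    [IsProper (X ↘ Spec (CommRingCat.of k))] [Smooth (X ↘ Spec (CommRingCat.of k))]
    (hproj : ∃ A : X.Modules, CohB1.IsAmple A) (hX2 : topologicalKrullDim X = 2)
    (L LP LN MP MN : X.Modules) (hL : PicF.IsInvertible L) (hLP : PicF.IsInvertible LP)
    (hLN : PicF.IsInvertible LN) (hMP : ClSub.IsInverseOf LP MP) (hMN : ClSub.IsInverseOf LN MN)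
    (a : ℕ) (ha : 1 ≤ a) (hdec : Nonempty (CohB1.tensorPow L a ≅ CohB1.tensorMod LP LN))
    (hnef : ∀ (Y : Scheme.{u}) (i : Y ⟶ X) [IsClosedImmersion i], AlgebraicGeometry.IsIntegral Y →
      topologicalKrullDim Y = 1 →
        0 ≤ Pic13.curveDeg k (i ≫ (X ↘ Spec (CommRingCat.of k))) ((Scheme.Modules.pullback i).obj LP))
    (s : ℕ) (N : Fin s → X.IdealSheafData)
    (hN : ∀ j, AlgebraicGeometry.IsIntegral (N j).subscheme ∧ topologicalKrullDim (N j).subscheme = 1)
    (O : Fin s → X.Modules) (hO : ∀ j, ClSub.IsInverseOf (ClSub.idealMod (N j)) (O j))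
    (b : Fin s → ℕ) (hb : ∀ j, 1 ≤ b j) (hLNeq : Nonempty (LN ≅ FGA.multiTwist O b))
    (hneg : (-(Matrix.of fun j l : Fin s =>
      FGA.intNum k X 2 ![ClSub.idealMod (N j), ClSub.idealMod (N l)] (Coh.structureModule X))).PosDef)
    (horth : ∀ j, Pic13.curveDeg k ((N j).subschemeι ≫ (X ↘ Spec (CommRingCat.of k)))
      ((Scheme.Modules.pullback (N j).subschemeι).obj LP) = 0) :
    W4c5asymptcohfn.hhat k X 2 0 L =
        (FGA.intNum k X 2 ![MP, MP] (Coh.structureModule X) : ℝ) / (a : ℝ) ^ 2 ∧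
      W4c5asymptcohfn.hhat k X 2 1 L =
        -(FGA.intNum k X 2 ![MN, MN] (Coh.structureModule X) : ℝ) / (a : ℝ) ^ 2 ∧
      W4c5asymptcohfn.hhat k X 2 2 L = 0 := by
  obtain ⟨A, hA⟩ := hproj
  haveI := EulerIneqLib.isNoetherian_proper (X := X) k
  have hd2 : topologicalKrullDim X = ((2 : ℕ) : WithBot ℕ∞) := by exact_mod_cast hX2
  obtain ⟨edec⟩ := hdec
  obtain ⟨eLN⟩ := hLNeq
  obtain ⟨eP⟩ := hMP
  obtain ⟨eN⟩ := hMN
  have hMP' : PicF.IsInvertible MP := isInvertible_of_tensor_iso (comm _ _ ≪≫ eP)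
  have hMN' : PicF.IsInvertible MN := isInvertible_of_tensor_iso (comm _ _ ≪≫ eN)
  have hN1 : ∀ j, topologicalKrullDim ((N j).support : Set X) = 1 := fun j => by
    rw [← Scheme.IdealSheafData.range_subschemeι]
    exact (IsHomeomorph.topologicalKrullDim_eq _ (N j).subschemeι.isEmbedding.toHomeomorph.isHomeomorph).symm.trans (hN j).2
  have hI : ∀ j, PicF.IsInvertible (ClSub.idealMod (N j)) := fun j => TwistShriek.invertible_curve k hX2 (N j) (hN j).1 (hN1 j)
  let eO := fun j => (hO j).some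
  have hOi : ∀ j, PicF.IsInvertible (O j) := fun j => isInvertible_of_tensor_iso (comm _ _ ≪≫ eO j)
  have hn : Nakai.NefP k hLP := Nakai.nefP_of_curveDeg k hLP hnef
  have horth' : ∀ j, Nakai.form k (Nakai.cl (hI j)) (Nakai.cl hLP) = 0 := fun j => by
    have h := horth j
    rw [Nakai.curveDeg_eq k hLP (N j).subschemeι ((hN j).2.trans Nat.cast_one.symm)] at h
    have h1 : IntLib.pairing k (ClSub.quotMod (N j)) (Nakai.cl hLP) = 0 := h
    rw [IntLib.pairing_quotMod k (hI j)] at h1
    rw [Nakai.form, Nakai.cl_eq_neg_dif (hI j), neg_mul, map_neg, h1, neg_zero]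
  have hG : ∀ j l, FGA.intNum k X 2 ![ClSub.idealMod (N j), ClSub.idealMod (N l)] (Coh.structureModule X) =
      Nakai.form k (Nakai.cl (hI j)) (Nakai.cl (hI l)) := fun j l => TwistShriek.intNum_eq_form k hd2.le (hI j) (hI l)
  have hneg' : ∀ c : Fin s → ℕ, c ≠ 0 →
      ∑ l, ∑ j, (c l : ℤ) * (c j : ℤ) * Nakai.form k (Nakai.cl (hI l)) (Nakai.cl (hI j)) < 0 := fun c hc => by
    have hx : (fun j => (c j : ℤ)) ≠ 0 := fun h => hc (funext fun j => by simpa using congrFun h j)
    have h := hneg.dotProduct_mulVec_pos hx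
    simp only [Matrix.mulVec, dotProduct, Matrix.neg_apply, Matrix.of_apply, star_trivial, hG, Finset.mul_sum,
      neg_mul, mul_neg, Finset.sum_neg_distrib, neg_pos] at h
    refine lt_of_le_of_lt (le_of_eq (Finset.sum_congr rfl fun l _ => Finset.sum_congr rfl fun j _ => ?_)) h
    ring
  have hcmp : ∀ m : ℕ,
      Module.finrank k (Coh.HH X (CohB1.tensorPow (CohB1.tensorMod LP LN) m) 0) =
          Module.finrank k (Coh.HH X (CohB1.tensorPow LP m) 0) ∧
        Module.finrank k (Coh.HH X (CohB1.tensorPow (CohB1.tensorMod LP LN) m) 2) ≤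
          Module.finrank k (Coh.HH X (CohB1.tensorPow LP m) 2) := fun m => by
    have e : IntLib.mk (CohB1.tensorPow (CohB1.tensorMod LP LN) m) =
        IntLib.mk (CohB1.tensorMod (CohB1.tensorPow LP m) (FGA.multiTwist O fun j => b j * m)) := by
      simp only [IntLib.mk_tensor, IntLib.mk_tensorPow, IntLib.mk_congr eLN, CastLib.mk_multiTwist, mul_pow,
        ← Finset.prod_pow, ← pow_mul]
    obtain ⟨e⟩ := IntLib.mk_eq_mk.1 e
    have hPm := isInvertible_tensorPow hLP m
    have ho : ∀ j, Nakai.form k (Nakai.cl (hI j)) (Nakai.cl hPm) = 0 := fun j => by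
      rw [Nakai.form_comm, Nakai.form_congr k hd2 (Nakai.cl_tensorPow_sub_mem hLP m) (Nakai.cl_mem _), Nakai.form,
        show (m : IntLib.PicRing X) * Nakai.cl hLP * Nakai.cl (hI j) = (m : ℤ) • (Nakai.cl hLP * Nakai.cl (hI j)) by
          rw [zsmul_eq_mul, Int.cast_natCast, mul_assoc], map_zsmul, ← Nakai.form, Nakai.form_comm, horth' j, smul_zero]
    obtain ⟨h1, h1', h2⟩ := peel k hX2 hPm N (fun j => (hN j).1) hN1 hI O hOi eO ho hneg' fun j => b j * m
    rw [HiGrowth.hh_congr k e 0, HiGrowth.hh_congr k e 2]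
    exact ⟨le_antisymm h1 h1', h2⟩
  have hM := isInvertible_tensor hLP hLN
  have hP1 : Tendsto (sq k 1 LP) atTop (𝓝 0) := tendsto_zero_of_limsup (fun m => by simp only [sq]; positivity)
    (sq_bdd k hX2 hLP 1) (hhat_nef k hX2 hA hLP hn one_pos)
  have hP2 : Tendsto (sq k 2 LP) atTop (𝓝 0) := tendsto_zero_of_limsup (fun m => by simp only [sq]; positivity)
    (sq_bdd k hX2 hLP 2) (hhat_nef k hX2 hA hLP hn two_pos)
  have hP0 : Tendsto (sq k 0 LP) atTop (𝓝 (Nakai.form k (Nakai.cl hLP) (Nakai.cl hLP) : ℝ)) := by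
    have h := ((tendsto_euler k hX2 hLP).add hP1).sub hP2
    simp only [add_zero, sub_zero] at h
    exact h.congr fun m => by ring
  have hM0 : Tendsto (sq k 0 (CohB1.tensorMod LP LN)) atTop (𝓝 (Nakai.form k (Nakai.cl hLP) (Nakai.cl hLP) : ℝ)) :=
    hP0.congr fun m => by simp only [sq, (hcmp m).1]
  have hM2 : Tendsto (sq k 2 (CohB1.tensorMod LP LN)) atTop (𝓝 0) :=
    squeeze_zero (fun m => by simp only [sq]; positivity) (fun m => by
      simp only [sq]
      gcongr
      exact_mod_cast (hcmp m).2) hP2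
  have hformM : Nakai.form k (Nakai.cl hM) (Nakai.cl hM) =
      Nakai.form k (Nakai.cl hLP) (Nakai.cl hLP) + Nakai.form k (Nakai.cl hLN) (Nakai.cl hLN) := by
    have hmem : Nakai.cl hM - (Nakai.cl hLP + Nakai.cl hLN) ∈ Nakai.Aug X ^ 2 := by
      rw [show Nakai.cl hM = _ from Nakai.cl_tensor hLP hLN, add_sub_cancel_left, pow_two]
      exact Ideal.mul_mem_mul (Nakai.cl_mem _) (Nakai.cl_mem _)
    have hPN : Nakai.form k (Nakai.cl hLP) (Nakai.cl hLN) = 0 := by
      have hT : PicF.IsInvertible (FGA.multiTwist O b) := isInvertible_multiTwist eO b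
      rw [Nakai.cl_congr hLN hT eLN, Nakai.form_comm, Nakai.form_congr k hd2 (cl_multiTwist hOi b hT) (Nakai.cl_mem _),
        Nakai.form, Finset.sum_mul, map_sum]
      refine Finset.sum_eq_zero fun j _ => ?_
      rw [show (b j : IntLib.PicRing X) * Nakai.cl (hOi j) * Nakai.cl hLP = (b j : ℤ) • (Nakai.cl (hOi j) * Nakai.cl hLP) by
        rw [zsmul_eq_mul, Int.cast_natCast, mul_assoc], map_zsmul, ← Nakai.form,
        TwistShriek.form_inverse k hX2 (hOi j) (hI j) (comm _ _ ≪≫ eO j) (Nakai.cl_mem _), horth' j, neg_zero, smul_zero]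
    have hs : Nakai.cl hLP + Nakai.cl hLN ∈ Nakai.Aug X := Ideal.add_mem _ (Nakai.cl_mem _) (Nakai.cl_mem _)
    rw [Nakai.form_congr k hd2 hmem (Nakai.cl_mem _), Nakai.form_comm k (Nakai.cl hLP + Nakai.cl hLN),
      Nakai.form_congr k hd2 hmem hs, Nakai.form_add_left, Nakai.form_add_right, Nakai.form_add_right,
      Nakai.form_comm k (Nakai.cl hLN) (Nakai.cl hLP), hPN]
    ring
  have hM1 : Tendsto (sq k 1 (CohB1.tensorMod LP LN)) atTop
      (𝓝 (-(Nakai.form k (Nakai.cl hLN) (Nakai.cl hLN) : ℝ))) := by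
    have h := (hM0.add hM2).sub (tendsto_euler k hX2 hM)
    rw [hformM] at h
    push_cast at h
    simp only [add_zero, sub_add_cancel_left] at h
    exact h.congr fun m => by ring
  have hpow : ∀ (i : ℕ) (v : ℝ), Tendsto (sq k i (CohB1.tensorMod LP LN)) atTop (𝓝 v) →
      W4c5asymptcohfn.hhat k X 2 i L = v / (a : ℝ) ^ 2 := fun i v hv => by
    have h1 : W4c5asymptcohfn.hhat k X 2 i (CohB1.tensorPow L a) = v := by
      rw [← hv.limsup_eq]
      unfold W4c5asymptcohfn.hhat
      exact congrArg (fun f => limsup f atTop) (funext fun m => by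
        rw [HiGrowth.hh_congr k (powCongr edec m) i]; rfl)
    rw [HiGrowth.hhat_pow k hd2 hL ha i] at h1
    have ha0 : (a : ℝ) ≠ 0 := Nat.cast_ne_zero.2 (by omega)
    rw [eq_div_iff (pow_ne_zero _ ha0), mul_comm]
    exact h1
  have hPi : FGA.intNum k X 2 ![MP, MP] (Coh.structureModule X) = Nakai.form k (Nakai.cl hLP) (Nakai.cl hLP) := by
    rw [TwistShriek.intNum_eq_form k hd2.le hMP' hMP', TwistShriek.form_inverse k hX2 hLP hMP' eP (Nakai.cl_mem _),
      Nakai.form_comm k (Nakai.cl hMP') (Nakai.cl hLP), TwistShriek.form_inverse k hX2 hLP hMP' eP (Nakai.cl_mem _), neg_neg]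
  have hNi : FGA.intNum k X 2 ![MN, MN] (Coh.structureModule X) = Nakai.form k (Nakai.cl hLN) (Nakai.cl hLN) := by
    rw [TwistShriek.intNum_eq_form k hd2.le hMN' hMN', TwistShriek.form_inverse k hX2 hLN hMN' eN (Nakai.cl_mem _),
      Nakai.form_comm k (Nakai.cl hMN') (Nakai.cl hLN), TwistShriek.form_inverse k hX2 hLN hMN' eN (Nakai.cl_mem _), neg_neg]
  rw [hPi, hNi]
  exact ⟨hpow 0 _ hM0, hpow 1 _ hM1, by rw [hpow 2 _ hM2, zero_div]⟩

end Groth.Agent.S17638
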