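import Groth.Statements.S17639
import Groth.Agent.TwistShriek.RGamma
import Groth.Agent.S6508
import Groth.Agent.DCohMore.BCMain
-- import your own Groth.Agent.* helpers here

set_option autoImplicit false
set_option backward.isDefEq.respectTransparency false
set_option maxHeartbeats 800000
set_option synthInstance.maxHeartbeats 200000
universe u
open CategoryTheory CategoryTheory.Limits AlgebraicGeometry
open Groth.Agent
attribute [local instance] HasDerivedCategory.standard
open Dual3

namespace Groth.Agent.S17639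

/-- Let f : X ⟶ Y be a separated morphism of finite type of Noetherian schemes, factored as f = f̄ ∘ j
with j : X ⟶ X̄ an open immersion and f̄ : X̄ ⟶ Y proper. Let Z ⊆ Y be a closed subset with open
complement U, and Z' ⊆ X a closed subset which is proper over Y and contained in f⁻¹(Z); such a Z'
has closed image in X̄, and it is given here as Z' = j⁻¹(X̄ ∖ W) for an open W ⊆ X̄ with X̄ ∖ W ⊆
j(X) and f⁻¹(U) ⊆ j⁻¹(W). Let Rf̄_* and Rj_* exist and preserve complexes with quasi-coherent
cohomology, let a be a right adjoint of Rf̄_* on D_qc with its adjunction (whose counit is the trace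
map of f̄), let an adjunction j^* ⊣ Rj_* be given, put f^!G = (a G)|_X, and let θ : RΓ_{Z'}(j^* aG)
⟶ j^*RΓ_{j(Z')}(aG) be the comparison morphism compatible with the two maps to j^*(aG), the unit
RΓ_{j(Z')}(aG) ⟶ Rj_* j^* RΓ_{j(Z')}(aG) being an isomorphism. Then for every F in D(O_X) with
quasi-coherent cohomology sheaves, bounded above and supported on Z', and every G in D_qc(O_Y),
bounded below with cohomology supported on Z, the map sending φ : F ⟶ RΓ_{Z'}(f^!G) to the composite
Rf̄_* Rj_* F ⟶ Rf̄_* Rj_* RΓ_{Z'}(f^!G) ⟶ Rf̄_* Rj_* j^* RΓ_{j(Z')}(aG) ⟶ Rf̄_* RΓ_{j(Z')}(aG) ⟶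
Rf̄_*(aG) ⟶ G (Rf̄_*Rj_* of φ and θ, inverse of the unit, the canonical map out of RΓ, the trace) is
a bijection from Hom(F, RΓ_{Z'} f^!G) onto Hom(Rf_* F, G), with Rf_* computed as Rf̄_* ∘ Rj_*: the
functor Rf_* is left adjoint to RΓ_{Z'} f^! on these objects. (Throughout, RΓ with support is the
total right derived functor of the sheaf of sections supported in the closed subset. The published
statement derives instead the functor of sections killed by some power of a defining ideal; on
complexes with quasi-coherent cohomology sheaves over a Noetherian scheme the two derived functors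
agree.) -/
theorem result {X Y : Scheme.{u}} [IsNoetherian X] [IsNoetherian Y]
    (f : X ⟶ Y) [IsSeparated f] [LocallyOfFiniteType f] (c : DEt.Compactification f)
    (U : Y.Opens) (W : c.Xbar.Opens) (hW : (W : Set c.Xbar)ᶜ ⊆ Set.range c.j.base) (hZ : f ⁻¹ᵁ U ≤ c.j ⁻¹ᵁ W)
    [DCoh.HasRpush c.fbar] [DCoh.HasRpush c.j] (hfbar : DCoh.RpushPreservesQCoh c.fbar) (hj : DCoh.RpushPreservesQCoh c.j)
    (a : DCoh.DQCoh Y ⥤ DCoh.DQCoh c.Xbar) (adj : DCoh.RpushQ c.fbar hfbar ⊣ a)
    (adjj : DCoh.restrictD c.j ⊣ DCoh.Rpush c.j)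
    [CxOX.HasRgammaZ W.ι] [CxOX.HasRgammaZ (c.j ⁻¹ᵁ W).ι]
    (G : DCoh.DQCoh Y) (n : ℤ) (hGn : DerivedCategory.IsGE G.obj n) (hGZ : CxOX.IsSuppD U.ι G.obj)
    (θ : (CxOX.RgammaZ (c.j ⁻¹ᵁ W).ι).obj ((Dual3.shriekC c a).obj G) ⟶
      (DCoh.restrictD c.j).obj ((CxOX.RgammaZ W.ι).obj (a.obj G).obj))
    (hθ : θ ≫ (DCoh.restrictD c.j).map ((CxOX.RgammaZToId W.ι).app (a.obj G).obj) =
      (CxOX.RgammaZToId (c.j ⁻¹ᵁ W).ι).app ((Dual3.shriekC c a).obj G))
    [IsIso (adjj.unit.app ((CxOX.RgammaZ W.ι).obj (a.obj G).obj))]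
    (F : DCoh.D X) (hF : DCoh.IsQCohD F) (m : ℤ) (hFm : DerivedCategory.IsLE F m)
    (hFZ : CxOX.IsSuppD (c.j ⁻¹ᵁ W).ι F) :
    Function.Bijective (fun φ : F ⟶ (CxOX.RgammaZ (c.j ⁻¹ᵁ W).ι).obj ((Dual3.shriekC c a).obj G) =>
      (DCoh.Rpush c.fbar).map ((DCoh.Rpush c.j).map (φ ≫ θ) ≫
          inv (adjj.unit.app ((CxOX.RgammaZ W.ι).obj (a.obj G).obj)) ≫
          (CxOX.RgammaZToId W.ι).app (a.obj G).obj) ≫
        (adj.counit.app G).hom) := by
    let j := c.j
    let aG : DCoh.D c.Xbar := (a.obj G).obj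
    let R := DCoh.Rpush j
    let r := DCoh.restrictD j
    haveI : DCoh.HasLpull j := DCohLib.hasLpull _
    haveI : IsIso adjj.counit := adjj.isIso_counit_of_iso (TwistShriek.nonempty_rpush_restrictD j).some
    haveI : R.Full := adjj.fullyFaithfulROfIsIsoCounit.full
    haveI : R.Faithful := adjj.fullyFaithfulROfIsIsoCounit.faithful
    have hP : j.opensRange ⊔ W = ⊤ := eq_top_iff.2 fun x _ => by
      by_cases hx : x ∈ W
      · exact Or.inr hx
      · exact Or.inl (hW hx)
    let W' : X.Opens := j ⁻¹ᵁ W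
    have hF' : IsZero ((DCoh.restrictD W'.ι).obj F) := (TwistShriek.isSuppD_iff W' F).1 hFZ
    have hRF : IsZero ((DCoh.restrictD W.ι).obj (R.obj F)) := by
      haveI : DCoh.HasRpush (j ∣_ W) := DCohMore.BC.hasRpush _
      obtain ⟨e⟩ := Groth.Agent.S6508.result j W
      haveI : DCoh.HasLpull (j ∣_ W) := DCohLib.hasLpull _
      haveI : (DCoh.Rpush (j ∣_ W)).IsRightAdjoint := (DCohLib.lpullRpushAdj (j ∣_ W)).isRightAdjoint
      exact ((DCoh.Rpush (j ∣_ W)).map_isZero hF').of_iso (e.app F)
    let M := (CxOX.RgammaZ W.ι).obj aG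
    let t : M ⟶ aG := (CxOX.RgammaZToId W.ι).app aG
    let η := adjj.unit
    haveI : IsIso (η.app M) := ‹_›
    -- `D`
    have hD : Function.Bijective fun χ : R.obj F ⟶ M => χ ≫ t := (TwistShriek.rgammaZ_props W aG).2 _ hRF
    -- the unit at `aG`
    have hE : Function.Bijective fun χ : R.obj F ⟶ aG => χ ≫ η.app aG := by
      obtain ⟨C, p, q, hT⟩ := CategoryTheory.Pretriangulated.distinguished_cocone_triangle (η.app aG)
      have hC : IsZero (r.obj C) := by
        haveI : IsIso (r.map (η.app aG)) := by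
          haveI : IsIso (r.map (η.app aG) ≫ adjj.counit.app (r.obj aG)) := by
            erw [adjj.left_triangle_components]; exact IsIso.id _
          exact IsIso.of_isIso_comp_right _ (adjj.counit.app (r.obj aG))
        exact (Pretriangulated.Triangle.isZero₃_iff_isIso₁ _ (r.map_distinguished _ hT)).2 this
      refine TwistShriek.bijective_comp_mor₁ _ hT (R.obj F) ?_ ?_
      · exact fun φ => (TwistShriek.subsingleton_hom_of_supports j W hP _ C hRF hC).elim φ 0
      · exact fun φ => (TwistShriek.subsingleton_hom_of_supports j W hP _ C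
          (((shiftFunctor _ (1 : ℤ)).map_isZero hRF).of_iso (((DCoh.restrictD W.ι).commShiftIso (1 : ℤ)).app _))
          hC).elim φ 0
    -- `C`
    have hCb : Function.Bijective fun ψ : F ⟶ r.obj M => R.map ψ ≫ inv (η.app M) :=
      ((asIso (η.app M)).symm.homToEquiv).bijective.comp ⟨R.map_injective, R.map_surjective⟩
    -- `B`
    have hB : Function.Bijective fun ψ : F ⟶ r.obj M => ψ ≫ r.map t := by
      refine (Function.Bijective.of_comp_iff' (f := fun ρ : F ⟶ r.obj aG => R.map ρ)
        ⟨R.map_injective, R.map_surjective⟩ (fun ψ : F ⟶ r.obj M => ψ ≫ r.map t)).1 ?_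
      convert hE.comp (hD.comp hCb) using 1
      funext ψ
      show R.map (ψ ≫ r.map t) = ((R.map ψ ≫ inv (η.app M)) ≫ t) ≫ η.app aG
      rw [Functor.map_comp, Category.assoc, Category.assoc,
        show t ≫ η.app aG = η.app M ≫ R.map (r.map t) from η.naturality t, IsIso.inv_hom_id_assoc]
    -- `A`
    have hA : Function.Bijective fun φ : F ⟶ (CxOX.RgammaZ W'.ι).obj ((Dual3.shriekC c a).obj G) => φ ≫ θ := by
      refine (Function.Bijective.of_comp_iff' hB _).1 ?_
      convert (TwistShriek.rgammaZ_props W' ((Dual3.shriekC c a).obj G)).2 F hF' using 1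
      funext φ
      show (φ ≫ θ) ≫ r.map t = _
      rw [Category.assoc, hθ]
    -- the adjunction
    let E' : DCoh.DQCoh c.Xbar := ⟨R.obj F, hj F hF⟩
    have hAdj : Function.Bijective fun β : R.obj F ⟶ aG => (DCoh.Rpush c.fbar).map β ≫ (adj.counit.app G).hom := by
      let ιX := ObjectProperty.ι (DCoh.IsQCohD (X := c.Xbar))
      let ιY := ObjectProperty.ι (DCoh.IsQCohD (X := Y))
      refine (Function.Bijective.of_comp_iff (fun β : R.obj F ⟶ aG => (DCoh.Rpush c.fbar).map β ≫ (adj.counit.app G).hom)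
        (⟨fun x y h => ιX.map_injective h, ιX.map_surjective⟩ :
          Function.Bijective fun β : E' ⟶ a.obj G => ιX.map β)).1 ?_
      have hY : Function.Bijective fun γ : (DCoh.RpushQ c.fbar hfbar).obj E' ⟶ G => ιY.map γ :=
        ⟨fun x y h => ιY.map_injective h, ιY.map_surjective⟩
      convert Function.Bijective.comp hY (adj.homEquiv E' G).symm.bijective using 1
      funext β
      show _ = ιY.map ((adj.homEquiv E' G).symm β)
      rw [adj.homEquiv_counit]
      rfl
    convert (hAdj.comp hD).comp (hCb.comp hA) using 1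
    funext φ
    simp only [Function.comp_apply, Category.assoc]
    rfl

end Groth.Agent.S17639
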