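import Groth.Statements.S17641
import Groth.Agent.LocZLib.GammaQCoh

set_option autoImplicit false
universe u
open CategoryTheory CategoryTheory.Limits AlgebraicGeometry
attribute [local instance] HasDerivedCategory.standard
open DCoh

namespace Groth.Agent.S17641

open CategoryTheory CategoryTheory.Limits AlgebraicGeometry

/-- Maps between restrictions extend to an injective module. -/
theorem exists_extend {U X : Scheme.{u}} (j : U ⟶ X) [IsOpenImmersion j] (A I : X.Modules) [Injective I]
    (h : (Scheme.Modules.restrictFunctor j).obj A ⟶ (Scheme.Modules.restrictFunctor j).obj I) :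
    ∃ χ : A ⟶ I, (Scheme.Modules.restrictFunctor j).map χ = h := by
  let e := j.isoOpensRange
  let W := j.opensRange
  let E := LocZLib.GammaQCoh.restrictEquivalence e
  let η := Scheme.Modules.restrictFunctorCongr j.isoOpensRange_hom_ι.symm ≪≫
    Scheme.Modules.restrictFunctorComp e.hom W.ι
  let g : E.functor.obj ((Scheme.Modules.restrictFunctor W.ι).obj A) ⟶
      E.functor.obj ((Scheme.Modules.restrictFunctor W.ι).obj I) := η.inv.app A ≫ h ≫ η.hom.app I
  obtain ⟨φ, hφ⟩ := E.functor.map_surjective g
  let adj := CxOX.extZeroAdj W.ι
  haveI : Mono (adj.counit.app ((𝟭 X.Modules).obj A)) := DCohLib.mono_extZero_counit W A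
  let χ := @Injective.factorThru _ _ I _ _ inferInstance ((adj.homEquiv _ I).symm φ) (adj.counit.app A)
    (DCohLib.mono_extZero_counit W A)
  have hχ : (Scheme.Modules.restrictFunctor W.ι).map χ = φ := by
    apply (adj.homEquiv _ I).symm.injective
    rw [adj.homEquiv_counit]
    exact (adj.counit.naturality χ).trans (Injective.comp_factorThru _ _)
  refine ⟨χ, ?_⟩
  rw [← cancel_mono (η.hom.app I), η.hom.naturality χ]
  show η.hom.app A ≫ E.functor.map ((Scheme.Modules.restrictFunctor W.ι).map χ) = _
  rw [hχ, hφ]
  exact Iso.hom_inv_id_app_assoc η A _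

/-- Sections with supports of an injective module form an injective module. -/
theorem injective_gammaZ {U X : Scheme.{u}} (j : U ⟶ X) [IsOpenImmersion j] (I : X.Modules) [Injective I] :
    Injective ((DCoh.gammaZ j).obj I) where
  factors {A B} φ f hf := by
    let ι := (CxOX.gammaZι j).app I
    let η := (Scheme.Modules.restrictAdjunction j).unit
    let ψ : B ⟶ I := Injective.factorThru (φ ≫ ι) f
    have h0 : f ≫ ψ ≫ η.app I = 0 := by
      rw [← Category.assoc, Injective.comp_factorThru, Category.assoc]
      exact (congrArg (φ ≫ ·) (LocZLib.GammaQCoh.ι_unit j I)).trans comp_zero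
    let h := cokernel.desc f (ψ ≫ η.app I) h0
    obtain ⟨χ, hχ⟩ := exists_extend j (cokernel f) I
      (((Scheme.Modules.restrictAdjunction j).homEquiv _ _).symm h)
    have hχ' : χ ≫ η.app I = h := by
      refine Eq.trans ?_ (((Scheme.Modules.restrictAdjunction j).homEquiv _ _).apply_symm_apply h)
      rw [← hχ, Adjunction.homEquiv_unit]
      exact η.naturality χ
    refine ⟨kernel.lift _ (ψ - cokernel.π f ≫ χ) ?_, ?_⟩
    · rw [Preadditive.sub_comp, Category.assoc]
      exact sub_eq_zero.2 ((congrArg (cokernel.π f ≫ ·) hχ').trans (cokernel.π_desc _ _ _)).symm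
    · haveI : Mono ι := LocZLib.GammaQCoh.mono_ι j I
      rw [← cancel_mono ι, Category.assoc]
      refine (congrArg (f ≫ ·) (kernel.lift_ι _ _ _)).trans ?_
      rw [Preadditive.comp_sub, Injective.comp_factorThru, ← Category.assoc, cokernel.condition, zero_comp, sub_zero]


/-- Let X be a Noetherian scheme, j : U ⟶ X an open immersion with closed complement Z = X ∖ j(U), and I
a quasi-coherent O_X-module which is injective as an O_X-module. Then Γ_Z(I), the kernel of I ⟶
j_*(I|_U) (the subsheaf of sections supported in Z), is an injective O_X-module. (Injectivity is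
taken in the category of all O_X-modules; on a Noetherian scheme a quasi-coherent module is
injective there exactly when it is injective among quasi-coherent modules. The published statement
works with the functor of sections killed by some power of a defining ideal, which agrees with Γ_Z
on quasi-coherent modules over a Noetherian scheme.) -/
theorem result {U X : Scheme.{u}} [IsNoetherian X]
    (j : U ⟶ X) [IsOpenImmersion j] (I : X.Modules) (hI : Coh.IsQCoh I) [Injective I] :
    Injective ((DCoh.gammaZ j).obj I) := by
  exact injective_gammaZ j I


end Groth.Agent.S17641
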