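import Groth.Statements.S17642
import Mathlib
import Groth.Agent.AmpleEmb.Misc
import Groth.Agent.AmpleEmb.Compose
import Groth.Agent.ProjSmoothLib.Basic
import Groth.Agent.BCLib.DVR
import Groth.Agent.ProjBundleLib.AffineVA
set_option backward.isDefEq.respectTransparency false
open CategoryTheory CategoryTheory.Limits AlgebraicGeometry
-- import your own Groth.Agent.* helpers here

set_option autoImplicit false
universe u
open CategoryTheory AlgebraicGeometry
open DerSch

namespace Groth.Agent.S17642

/-- Consider Noetherian schemes X and Y together with a morphism f : X ⟶ Y that is locally of finite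
type. Given affine open subsets U ⊆ X and V ⊆ Y such that f(U) ⊆ V, the restriction of f to U can be
written as a composite U ⟶ W ⟶ P ⟶ Y in which the first map U ⟶ W is an open immersion, the middle
map W ⟶ P is a closed immersion, and the last map P ⟶ Y is both smooth and proper. In the published
section every morphism is taken to be separated as a standing convention; since the printed proof
never uses this, no separatedness hypothesis appears here. -/
theorem result {X Y : Scheme.{u}}
    [IsNoetherian X] [IsNoetherian Y] (f : X ⟶ Y) [LocallyOfFiniteType f]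
    (U : X.Opens) (hU : IsAffineOpen U) (V : Y.Opens) (hV : IsAffineOpen V) (hUV : U ≤ f ⁻¹ᵁ V) :
    ∃ (W P : Scheme.{u}) (g : (U : Scheme.{u}) ⟶ W) (h : W ⟶ P) (k : P ⟶ Y),
      IsOpenImmersion g ∧ IsClosedImmersion h ∧ Smooth k ∧ IsProper k ∧ g ≫ h ≫ k = U.ι ≫ f := by
  haveI : IsAffine U.toScheme := hU
  haveI : IsLocallyNoetherian U.toScheme := isLocallyNoetherian_of_isOpenImmersion U.ι
  haveI : AlgebraicGeometry.IsNoetherian U.toScheme := {}
  obtain ⟨n, i, hi, hif⟩ := Groth.Agent.AmpleEmb.exists_immersion_of_isAmple (U.ι ≫ f)
    (Groth.Agent.AmpleEmb.isAmple_of_isQuasiAffine (L := Coh.structureModule U.toScheme) (Groth.Agent.ProjBundleLib.isInvertible_structureModule _))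
  haveI := hi
  haveI : QuasiCompact i := inferInstance
  haveI : IsProper (CohB1.ProjSpaceOver.toBase n Y) := Groth.Agent.BCLib.isProper_toBase n Y
  haveI : Smooth (CohB1.ProjSpaceOver.toBase n Y) :=
    MorphismProperty.pullback_snd (P := @Smooth) _ _ (Groth.Agent.ProjSmoothLib.smooth_toSpec n (ULift.{u} ℤ))
  exact ⟨i.image, CohB1.ProjSpaceOver n Y, i.toImage, i.imageι, CohB1.ProjSpaceOver.toBase n Y,
    inferInstance, inferInstance, inferInstance, inferInstance, by
      rw [Scheme.Hom.toImage_imageι_assoc, hif]⟩

end Groth.Agent.S17642
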