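import Groth.Statements.S17643
import Groth.Agent.FinTorLib.Uniform
-- import your own Groth.Agent.* helpers here

set_option autoImplicit false
universe u
open CategoryTheory AlgebraicGeometry
attribute [local instance] HasDerivedCategory.standard
open DerSch

namespace Groth.Agent.S17643

/-- Let f : X ⟶ Y be a morphism of finite type between Noetherian schemes which is of finite
Tor-dimension (the structure sheaf of X, placed in degree 0, has finite tor amplitude stalkwise over
the local rings of Y), U ⊆ X an affine open subset and V ⊆ Y an affine open subset with f(U) ⊆ V.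
Then the restriction of f to U factors as U ⟶ W ⟶ Y with U ⟶ W a closed immersion of finite
Tor-dimension and W ⟶ Y smooth. The published section's standing conventions also take all morphisms
separated; the printed argument does not use this, so separatedness is not assumed here. -/
theorem result {X Y : Scheme.{u}}
    [IsNoetherian X] [IsNoetherian Y] (f : X ⟶ Y) [LocallyOfFiniteType f] (hf : DerSch.HasFiniteTorDim f)
    (U : X.Opens) (hU : IsAffineOpen U) (V : Y.Opens) (hV : IsAffineOpen V) (hUV : U ≤ f ⁻¹ᵁ V) :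
    ∃ (W : Scheme.{u}) (g : (U : Scheme.{u}) ⟶ W) (h : W ⟶ Y),
      IsClosedImmersion g ∧ DerSch.HasFiniteTorDim g ∧ Smooth h ∧ g ≫ h = U.ι ≫ f := by
  obtain ⟨N, hN⟩ := Groth.Agent.FinTorLib.exists_tdle_of_hasFiniteTorDim hf
  have hft : (f.appLE V U hUV).hom.FiniteType := Scheme.Hom.finiteType_appLE f hV hU hUV
  have hsq := IsAffineOpen.SpecMap_appLE_fromSpec f hV hU hUV
  have hρ : ∀ x, Groth.Agent.PerfMorLib.TDLE N ((Spec.map (f.appLE V U hUV)).stalkMap x).hom := fun x => by
    haveI := RingHom.toMorphismProperty_respectsIso_iff.mp (Groth.Agent.FinTorLib.tdle_respectsIso.{u} N)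
    have hx : hU.fromSpec x ∈ U := hU.range_fromSpec.le ⟨x, rfl⟩
    have h' := hN (hU.fromSpec x)
    rw [show Groth.Agent.PerfMorLib.TDLE N (f.stalkMap (hU.fromSpec x)).hom ↔ _ from
      (RingHom.toMorphismProperty fun f => Groth.Agent.PerfMorLib.TDLE N f).arrow_mk_iso_iff
        (IsAffineOpen.arrowStalkMapIso f V hV U hU hUV hx)] at h'
    rw [Groth.Agent.FinTorLib.tdle_stalkMap_specMap]
    have hpt : hU.primeIdealOf ⟨hU.fromSpec x, hx⟩ = x :=
      hU.fromSpec.isOpenEmbedding.injective (hU.fromSpec_primeIdealOf _)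
    have h'' := (Groth.Agent.FinTorLib.tdle_localRingHom_iff _ _ _ (congrArg PrimeSpectrum.asIdeal
      (IsAffineOpen.comap_primeIdealOf_appLE V hV U hU hUV hx)).symm).1 h'
    have key : ∀ z : PrimeSpectrum Γ(X, U), z = x →
        Groth.Agent.PerfMorLib.TDLE N ((algebraMap Γ(X, U) (Localization.AtPrime z.asIdeal)).comp (f.appLE V U hUV).hom) →
        Groth.Agent.PerfMorLib.TDLE N ((algebraMap Γ(X, U) (Localization.AtPrime x.asIdeal)).comp (f.appLE V U hUV).hom) := by
      rintro z rfl hz
      exact hz
    exact key _ hpt h''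
  obtain ⟨P, ι, φ, hιφ, hφ, hsm, M, hM⟩ := Groth.Agent.FinTorLib.exists_closed_finiteTorDim _ hft hρ
  haveI : IsClosedImmersion (Spec.map φ) := IsClosedImmersion.spec_of_surjective _ hφ
  refine ⟨Spec P, hU.isoSpec.hom ≫ Spec.map φ, Spec.map ι ≫ hV.fromSpec, inferInstance,
    Groth.Agent.FinTorLib.hasFiniteTorDim_of_tdle (N := M) fun x => ?_, inferInstance, ?_⟩
  · rw [Scheme.Hom.stalkMap_comp]
    exact Groth.Agent.FinTorLib.tdle_comp_flat_right (hM _)
      (Groth.Agent.FinTorLib.flat_stalkMap_of_isIso _ _)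
  · rw [Category.assoc, ← Spec.map_comp_assoc, hιφ, hsq, ← Category.assoc]
    congr 1
    rw [← Iso.eq_inv_comp]
    rfl

end Groth.Agent.S17643
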