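import Groth.Statements.S17646
import Mathlib
import Groth.Agent.GabLocLib.Basic

set_option autoImplicit false
universe w v u
open CategoryTheory CategoryTheory.Limits
open GabLoc

namespace Groth.Agent.S17646
namespace Helper

open ZeroObject

variable {C : Type u} [Category.{v} C] [Abelian C] [IsGrothendieckAbelian.{w} C]

structure Idx (α : Type w) : Type w where
  val : α

/-- Zorn: below every family of subobjects meeting `T` trivially there is a maximal one. -/
theorem exists_maximal {E : C} (T : Subobject E) (S : Subobject E)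
    (hS : Mono (S.arrow ≫ cokernel.π T.arrow)) :
    ∃ A : Subobject E, S ≤ A ∧ Mono (A.arrow ≫ cokernel.π T.arrow) ∧
      ∀ B : Subobject E, A ≤ B → Mono (B.arrow ≫ cokernel.π T.arrow) → B ≤ A := by
  obtain ⟨A, hSA, hA⟩ := zorn_le_nonempty₀
    {A : Subobject E | Mono (A.arrow ≫ cokernel.π T.arrow)} (fun c hc hchain y hy => by
      let J : Type w := Idx (Shrink.{w} c)
      let f : J → Subobject E := fun j => ((equivShrink c).symm j.val).1
      letI : Preorder J := Preorder.lift f
      haveI : Nonempty J := ⟨⟨equivShrink c ⟨y, hy⟩⟩⟩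
      haveI : IsDirectedOrder J := ⟨fun i j => by
        rcases hchain.total ((equivShrink c).symm i.val).2 ((equivShrink c).symm j.val).2 with h | h
        · exact ⟨j, h, le_refl _⟩
        · exact ⟨i, le_refl _, h⟩⟩
      let G : J ⥤ Subobject E := Monotone.functor (f := f) fun _ _ h => h
      let D : J ⥤ C := G ⋙ Subobject.underlying
      let g : D ⟶ (Functor.const J).obj E :=
        { app := fun j => (f j).arrow
          naturality := fun i j h => by
            dsimp [D, G]
            rw [Category.comp_id]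
            exact Subobject.underlying_arrow _ }
      let i : colimit D ⟶ E := colimit.desc D ⟨E, g⟩
      have hi : ∀ j, colimit.ι D j ≫ i = (f j).arrow := fun j => colimit.ι_desc ⟨E, g⟩ j
      haveI hi2 : Mono (i ≫ cokernel.π T.arrow) :=
        Groth.Agent.GabLocLib.mono_desc (colimit.isColimit D) _ fun j => by
          have h1 : Mono ((f j).arrow ≫ cokernel.π T.arrow) := hc ((equivShrink c).symm j.val).2
          have h2 : colimit.ι D j ≫ i ≫ cokernel.π T.arrow = (f j).arrow ≫ cokernel.π T.arrow :=
            (Category.assoc _ _ _).symm.trans (congrArg (fun t => t ≫ cokernel.π T.arrow) (hi j))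
          show Mono ((colimit.cocone D).ι.app j ≫ _)
          rw [colimit.cocone_ι]
          exact h2 ▸ h1
      haveI : Mono i := mono_of_mono i (cokernel.π T.arrow)
      refine ⟨Subobject.mk i, ?_, fun z hz => ?_⟩
      · show Mono ((Subobject.mk i).arrow ≫ cokernel.π T.arrow)
        rw [← Subobject.underlyingIso_hom_comp_eq_mk, Category.assoc]
        infer_instance
      · let j : J := ⟨equivShrink c ⟨z, hz⟩⟩
        have hj : f j = z := by simp [f, j]
        rw [← hj]
        exact Subobject.le_mk_of_comm (colimit.ι D j) (hi j)) S hS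
  exact ⟨A, hSA, hA.1, fun B hAB hB => hA.2 hB hAB⟩

theorem mono_comp_of_cancel {X Y Z : C} {f : X ⟶ Y} {g : Y ⟶ Z} [Mono f]
    (h : ∀ {W : C} (a : W ⟶ X), a ≫ f ≫ g = 0 → a ≫ f = 0) : Mono (f ≫ g) := by
  refine Preadditive.mono_of_cancel_zero _ fun a ha => ?_
  rw [← cancel_mono f, h a ha, zero_comp]

theorem mono_symm {E : C} {A B : Subobject E} (h : Mono (A.arrow ≫ cokernel.π B.arrow)) :
    Mono (B.arrow ≫ cokernel.π A.arrow) := by
  haveI := h
  refine mono_comp_of_cancel fun {W} a ha => ?_
  rw [← Category.assoc] at ha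
  let l := Abelian.monoLift A.arrow (a ≫ B.arrow) ha
  have hl : l ≫ A.arrow = a ≫ B.arrow := Abelian.monoLift_comp _ _ _
  have h0 : l ≫ A.arrow ≫ cokernel.π B.arrow = 0 := by
    rw [← Category.assoc, hl, Category.assoc, cokernel.condition, comp_zero]
  rw [← hl, zero_of_comp_mono (A.arrow ≫ cokernel.π B.arrow) h0, zero_comp]

theorem eq_zero_of_le {E : C} {A T : Subobject E} (h : T ≤ A)
    (hm : Mono (A.arrow ≫ cokernel.π T.arrow)) : T.arrow = 0 := by
  haveI := hm
  have h0 : Subobject.ofLE T A h ≫ A.arrow ≫ cokernel.π T.arrow = 0 := by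
    rw [← Category.assoc, Subobject.ofLE_arrow, cokernel.condition]
  rw [← Subobject.ofLE_arrow h, zero_of_comp_mono (A.arrow ≫ cokernel.π T.arrow) h0, zero_comp]

/-- Two nonzero subobjects of an indecomposable injective meet. -/
theorem not_mono_comp_cokernel {E : C} [Injective E]
    (hind : ∀ (A B : C), Nonempty (E ≅ A ⊞ B) → IsZero A ∨ IsZero B)
    (T₁ T₂ : Subobject E) (h₁ : T₁.arrow ≠ 0) (h₂ : T₂.arrow ≠ 0)
    (hm : Mono (T₁.arrow ≫ cokernel.π T₂.arrow)) : False := by
  obtain ⟨A, hTA, hA, hAmax⟩ := exists_maximal T₂ T₁ hm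
  obtain ⟨B, hTB, hB, hBmax⟩ := exists_maximal A T₂ (mono_symm hA)
  haveI := mono_symm hB
  haveI := hA
  let q := cokernel.π B.arrow
  let h : cokernel B.arrow ⟶ E := Injective.factorThru A.arrow (A.arrow ≫ q)
  have hh : A.arrow ≫ q ≫ h = A.arrow := by
    rw [← Category.assoc]; exact Injective.comp_factorThru _ _
  -- maximality of `B`
  have bmax : ∀ {Z : C} (r : cokernel B.arrow ⟶ Z), Mono (A.arrow ≫ q ≫ r) →
      kernel.ι r = 0 := by
    intro Z r hr
    haveI := hr
    let K := Subobject.mk (kernel.ι (q ≫ r))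
    have hK : K.arrow ≫ q ≫ r = 0 := by
      rw [← Subobject.underlyingIso_hom_comp_eq_mk, Category.assoc, kernel.condition, comp_zero]
    have hK' : Mono (K.arrow ≫ cokernel.π A.arrow) := by
      refine mono_comp_of_cancel fun {W} a ha => ?_
      rw [← Category.assoc] at ha
      let l := Abelian.monoLift A.arrow (a ≫ K.arrow) ha
      have hl : l ≫ A.arrow = a ≫ K.arrow := Abelian.monoLift_comp _ _ _
      have h0 : l ≫ A.arrow ≫ q ≫ r = 0 := by
        rw [← Category.assoc, hl, Category.assoc, hK, comp_zero]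
      rw [← hl, zero_of_comp_mono (A.arrow ≫ q ≫ r) h0, zero_comp]
    have hBK : B ≤ K := Subobject.le_mk_of_comm
      (kernel.lift _ B.arrow (by rw [← Category.assoc, cokernel.condition, zero_comp]))
      (kernel.lift_ι _ _ _)
    have hKB := hBmax K hBK hK'
    have e1 : K.arrow ≫ q = 0 := by
      rw [← Subobject.ofLE_arrow hKB, Category.assoc, cokernel.condition, comp_zero]
    let u := pullback.fst q (kernel.ι r)
    have hu : pullback.snd q (kernel.ι r) ≫ kernel.ι r = u ≫ q := (pullback.condition).symm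
    have hu0 : u ≫ q ≫ r = 0 := by
      rw [← Category.assoc, ← hu, Category.assoc, kernel.condition, comp_zero]
    let lift : pullback q (kernel.ι r) ⟶ (K : C) :=
      kernel.lift _ u hu0 ≫ (Subobject.underlyingIso (kernel.ι (q ≫ r))).inv
    have hlift : lift ≫ K.arrow = u := by simp [lift, K]
    refine (cancel_epi (pullback.snd q (kernel.ι r))).1 ?_
    rw [hu, comp_zero, ← hlift, Category.assoc, e1, comp_zero]
  have hhm : Mono h := Preadditive.mono_of_cancel_zero _ fun a ha => by
    have h0 : Mono (A.arrow ≫ q ≫ h) := by rw [hh]; infer_instance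
    rw [← kernel.lift_ι h a ha, bmax h h0, comp_zero]
  haveI : Mono (h ≫ cokernel.π T₂.arrow) := by
    refine Preadditive.mono_of_cancel_zero _ fun a ha => ?_
    have h0 : Mono (A.arrow ≫ q ≫ h ≫ cokernel.π T₂.arrow) := by
      rw [← Category.assoc q h, ← Category.assoc A.arrow, hh]; infer_instance
    rw [← kernel.lift_ι _ a ha, bmax _ h0, comp_zero]
  let P := Subobject.mk h
  have hAP : A ≤ P := Subobject.le_mk_of_comm (A.arrow ≫ q) (by rw [Category.assoc, hh])
  have hP : Mono (P.arrow ≫ cokernel.π T₂.arrow) := by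
    rw [← Subobject.underlyingIso_hom_comp_eq_mk, Category.assoc]; infer_instance
  have hPA := hAmax P hAP hP
  -- `A` is a retract of `E`
  let r : E ⟶ (A : C) := q ≫ (Subobject.underlyingIso h).inv ≫ Subobject.ofLE P A hPA
  have hr : A.arrow ≫ r = 𝟙 _ := by
    rw [← cancel_mono A.arrow, Category.assoc, Category.id_comp]
    simp only [r, Category.assoc, Subobject.ofLE_arrow]
    rw [Subobject.underlyingIso_arrow]
    exact hh
  let sc : ShortComplex C := ShortComplex.mk A.arrow (cokernel.π A.arrow) (cokernel.condition _)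
  have hsc : sc.Exact := ShortComplex.exact_of_g_is_cokernel sc (cokernelIsCokernel A.arrow)
  haveI : Mono sc.f := by show Mono A.arrow; infer_instance
  haveI : Epi sc.g := by show Epi (cokernel.π A.arrow); infer_instance
  let sp := ShortComplex.Splitting.ofExactOfRetraction sc hsc r hr inferInstance
  rcases hind _ _ ⟨sp.isoBinaryBiproduct⟩ with hz | hz
  · exact h₁ (by rw [← Subobject.ofLE_arrow hTA]; exact (hz.eq_of_tgt (Subobject.ofLE T₁ A hTA) 0) ▸ zero_comp)
  · have : Epi A.arrow := Preadditive.epi_of_cokernel_zero (hz.eq_of_tgt _ _)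
    haveI : IsIso A.arrow := isIso_of_mono_of_epi _
    refine h₂ (eq_zero_of_le ?_ hA)
    rw [Subobject.eq_top_of_isIso_arrow A]
    exact le_top

theorem key (E : C) [Injective E]
    (hind : ∀ (A B : C), Nonempty (E ≅ A ⊞ B) → IsZero A ∨ IsZero B)
    (S₁ S₂ : ObjectProperty C) (h₁ : GabLoc.IsLocalizing.{w} S₁) (h₂ : GabLoc.IsLocalizing.{w} S₂)
    (ht₁ : GabLoc.HasTorsion S₁ E) (ht₂ : GabLoc.HasTorsion S₂ E) :
    GabLoc.HasTorsion (S₁ ⊓ S₂) E := by
  haveI := h₁.isSerreClass
  haveI := h₂.isSerreClass
  obtain ⟨Y₁, hY₁, f₁, hf₁⟩ := ht₁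
  obtain ⟨Y₂, hY₂, f₂, hf₂⟩ := ht₂
  let T₁ := Subobject.mk (Abelian.image.ι f₁)
  let T₂ := Subobject.mk (Abelian.image.ι f₂)
  have hT₁ : S₁ (T₁ : C) := S₁.prop_of_iso (Subobject.underlyingIso _).symm
    (S₁.prop_of_epi (Abelian.factorThruImage f₁) hY₁)
  have hT₂ : S₂ (T₂ : C) := S₂.prop_of_iso (Subobject.underlyingIso _).symm
    (S₂.prop_of_epi (Abelian.factorThruImage f₂) hY₂)
  let W := pullback T₁.arrow T₂.arrow
  refine ⟨W, ⟨S₁.prop_of_mono (pullback.fst _ _) hT₁, S₂.prop_of_mono (pullback.snd _ _) hT₂⟩,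
    pullback.fst _ _ ≫ T₁.arrow, fun h0 => ?_⟩
  have hne₁ : T₁.arrow ≠ 0 := fun h => hf₁ (by
    rw [← Abelian.image.fac f₁, ← Subobject.underlyingIso_arrow (Abelian.image.ι f₁)]
    show _ ≫ _ ≫ T₁.arrow = 0
    rw [h, comp_zero, comp_zero])
  have hne₂ : T₂.arrow ≠ 0 := fun h => hf₂ (by
    rw [← Abelian.image.fac f₂, ← Subobject.underlyingIso_arrow (Abelian.image.ι f₂)]
    show _ ≫ _ ≫ T₂.arrow = 0
    rw [h, comp_zero, comp_zero])
  refine not_mono_comp_cokernel hind T₁ T₂ hne₁ hne₂ ?_
  refine mono_comp_of_cancel fun {V} a ha => ?_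
  rw [← Category.assoc] at ha
  have hl : Abelian.monoLift T₂.arrow (a ≫ T₁.arrow) ha ≫ T₂.arrow = a ≫ T₁.arrow :=
    Abelian.monoLift_comp _ _ _
  have hp : a = pullback.lift a (Abelian.monoLift T₂.arrow (a ≫ T₁.arrow) ha) hl.symm ≫
      pullback.fst T₁.arrow T₂.arrow := (pullback.lift_fst _ _ _).symm
  rw [hp, Category.assoc, h0, comp_zero]

end Helper


/-- Let C be a Grothendieck abelian category, E an indecomposable injective object of C (E is nonzero
and whenever E ≅ A ⊞ B one of A, B is zero) and S₁, S₂ localizing classes of objects (Serre classes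
closed under coproducts). If there are an object of S₁ with a nonzero morphism to E and an object of
S₂ with a nonzero morphism to E, then there is an object belonging to both S₁ and S₂ with a nonzero
morphism to E. Thus, on the set of isomorphism classes of indecomposable injectives, the subsets of
those having S-torsion, S localizing, are closed under finite intersections (they are also closed
under unions, and form a topology). The published definition of the injective spectrum says
injective objects without the word indecomposable; the published proof of this step uses that each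
point of the spectrum is uniform, which is the indecomposable reading taken here. -/
theorem result {C : Type u} [Category.{v} C] [Abelian C]
    [IsGrothendieckAbelian.{w} C] (E : C) [Injective E] (hE : ¬ IsZero E)
    (hind : ∀ (A B : C), Nonempty (E ≅ A ⊞ B) → IsZero A ∨ IsZero B)
    (S₁ S₂ : ObjectProperty C) (h₁ : GabLoc.IsLocalizing.{w} S₁) (h₂ : GabLoc.IsLocalizing.{w} S₂)
    (ht₁ : GabLoc.HasTorsion S₁ E) (ht₂ : GabLoc.HasTorsion S₂ E) :
    GabLoc.HasTorsion (S₁ ⊓ S₂) E := by
  exact Helper.key E hind S₁ S₂ h₁ h₂ ht₁ ht₂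

end Groth.Agent.S17646
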