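import Groth.Statements.S17647
import Groth.Agent.QCohLib.Push
import Groth.Agent.DCohLib.QCohAbelian
import Groth.Agent.DCohLib.Restrict
import Mathlib.CategoryTheory.Adjunction.Restrict
import Mathlib.CategoryTheory.Localization.Adjunction
-- import your own Groth.Agent.* helpers here

set_option autoImplicit false
set_option backward.isDefEq.respectTransparency false
universe u
open CategoryTheory CategoryTheory.Limits AlgebraicGeometry
open QCohCat

namespace Groth.Agent.S17647

open CategoryTheory.Limits TopologicalSpace Opposite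

variable {X : Scheme.{u}}

lemma isZero_iff_stalks (M : X.Modules) : IsZero M ↔ ∀ x : X, Subsingleton (M.presheaf.stalk x) := by
  refine ⟨fun h x => ?_, fun h => ?_⟩
  · have h0 : IsZero ((Scheme.Modules.toPresheaf X ⋙ TopCat.Presheaf.stalkFunctor _ x).obj M) :=
      Functor.map_isZero _ h
    exact AddCommGrpCat.subsingleton_of_isZero h0
  · rw [IsZero.iff_id_eq_zero]
    refine Scheme.Modules.hom_ext _ _ fun U => ?_
    ext s
    refine TopCat.Presheaf.section_ext ⟨M.presheaf, M.isSheaf⟩ U _ _ fun x hx => ?_
    haveI := h x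
    exact Subsingleton.elim _ _

lemma isZero_restrict_iff_support (U : X.Opens) (M : X.Modules) :
    IsZero ((Scheme.Modules.restrictFunctor U.ι).obj M) ↔ CohB1.support M ⊆ (↑U : Set X)ᶜ := by
  rw [isZero_iff_stalks]
  refine ⟨fun h x hx hxU => hx ?_, fun h y => ?_⟩
  · exact @Equiv.subsingleton _ _
      ((Scheme.Modules.restrictStalkNatIso U.ι ⟨x, hxU⟩).app M).addCommGroupIsoToAddEquiv.toEquiv.symm (h ⟨x, hxU⟩)
  · have hy : Subsingleton (M.presheaf.stalk y.1) := by
      by_contra hc
      exact h hc y.2
    exact @Equiv.subsingleton _ _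
      ((Scheme.Modules.restrictStalkNatIso U.ι y).app M).addCommGroupIsoToAddEquiv.toEquiv hy

/-- Let X be a scheme and U ⊆ X an open subset whose inclusion U ⟶ X is quasi-compact, Z = X ∖ U. Then
the restriction functor QCoh(X) ⥤ QCoh(U) between the categories of quasi-coherent modules is a
localization functor for the class of morphisms of quasi-coherent O_X-modules whose kernel and
cokernel (computed in O_X-modules) have support contained in Z: the category QCoh(U) is the quotient
of QCoh(X) by the localizing subcategory of quasi-coherent modules supported in Z, the direct image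
along U ⟶ X being the fully faithful right adjoint. No hypothesis is made on X beyond the
quasi-compactness of U ⟶ X. -/
theorem result (X : Scheme.{u})
    (U : X.Opens) [QuasiCompact U.ι] :
    (ObjectProperty.lift (QCohCat.isQCoh (↑U : Scheme.{u}))
        (ObjectProperty.ι (QCohCat.isQCoh X) ⋙ Scheme.Modules.restrictFunctor U.ι)
        (fun M => @Scheme.Modules.isQuasicoherent_restrictFunctor (↑U : Scheme.{u}) X U.ι
          inferInstance M.obj M.property)).IsLocalization
      (fun (A B : QCohCat.QCoh X) (f : A ⟶ B) =>
        CohB1.support (kernel f.hom) ⊆ (↑U : Set X)ᶜ ∧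
          CohB1.support (cokernel f.hom) ⊆ (↑U : Set X)ᶜ) := by
  let R := Scheme.Modules.restrictFunctor U.ι
  have hpush : ∀ M : QCohCat.QCoh (U : Scheme.{u}),
      QCohCat.isQCoh X ((Scheme.Modules.pushforward U.ι).obj M.obj) := fun M => by
    haveI : Coh.IsQCoh M.obj := M.property
    exact Groth.Agent.QCohLib.isQCoh_pushforward M.obj U.ι
  let L := ObjectProperty.lift (QCohCat.isQCoh (↑U : Scheme.{u}))
        (ObjectProperty.ι (QCohCat.isQCoh X) ⋙ R)
        (fun M => @Scheme.Modules.isQuasicoherent_restrictFunctor (↑U : Scheme.{u}) X U.ι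
          inferInstance M.obj M.property)
  let P : QCohCat.QCoh (U : Scheme.{u}) ⥤ QCohCat.QCoh X :=
    (QCohCat.isQCoh X).lift ((QCohCat.isQCoh (U : Scheme.{u})).ι ⋙ Scheme.Modules.pushforward U.ι) hpush
  let a : L ⊣ P := (Scheme.Modules.restrictAdjunction U.ι).restrictFullyFaithful
    (QCohCat.isQCoh X).fullyFaithfulι (QCohCat.isQCoh (U : Scheme.{u})).fullyFaithfulι (Iso.refl _) (Iso.refl _)
  haveI : CategoryTheory.IsIso a.counit := by
    haveI : ∀ M, CategoryTheory.IsIso (a.counit.app M) := fun M => by
      haveI : CategoryTheory.IsIso ((QCohCat.isQCoh (U : Scheme.{u})).ι.map (a.counit.app M)) := by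
        erw [Adjunction.map_restrictFullyFaithful_counit_app]
        infer_instance
      exact isIso_of_fully_faithful (QCohCat.isQCoh (U : Scheme.{u})).ι _
    exact NatIso.isIso_of_isIso_app _
  haveI : P.Full := a.fullyFaithfulROfIsIsoCounit.full
  haveI : P.Faithful := a.fullyFaithfulROfIsIsoCounit.faithful
  have hW : (MorphismProperty.isomorphisms _).inverseImage L =
      (fun (A B : QCohCat.QCoh X) (f : A ⟶ B) =>
        CohB1.support (Limits.kernel f.hom) ⊆ (↑U : Set X)ᶜ ∧
          CohB1.support (Limits.cokernel f.hom) ⊆ (↑U : Set X)ᶜ) := by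
    ext A B f
    haveI : Limits.PreservesFiniteLimits R := Groth.Agent.DCohLib.preservesFiniteLimits_restrictFunctor U.ι
    haveI : Limits.PreservesFiniteColimits R := Groth.Agent.DCohLib.preservesFiniteColimits_restrictFunctor U.ι
    have hiso : CategoryTheory.IsIso (L.map f) ↔ CategoryTheory.IsIso (R.map f.hom) :=
      ⟨fun h => inferInstanceAs (CategoryTheory.IsIso ((QCohCat.isQCoh (U : Scheme.{u})).ι.map (L.map f))),
       fun h => by
        haveI : CategoryTheory.IsIso ((QCohCat.isQCoh (U : Scheme.{u})).ι.map (L.map f)) := h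
        exact isIso_of_fully_faithful (QCohCat.isQCoh (U : Scheme.{u})).ι _⟩
    change CategoryTheory.IsIso (L.map f) ↔ _
    rw [hiso, ← Groth.Agent.S17647.isZero_restrict_iff_support, ← Groth.Agent.S17647.isZero_restrict_iff_support,
      isIso_iff_mono_and_epi]
    refine and_congr ?_ ?_
    · refine ⟨fun h => ?_, fun h => ?_⟩
      · exact (Limits.isZero_kernel_of_mono (R.map f.hom)).of_iso (Limits.PreservesKernel.iso R f.hom)
      · exact Preadditive.mono_of_kernel_zero
          ((h.of_iso (Limits.PreservesKernel.iso R f.hom).symm).eq_of_src _ _)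
    · refine ⟨fun h => ?_, fun h => ?_⟩
      · exact (Limits.isZero_cokernel_of_epi (R.map f.hom)).of_iso (Limits.PreservesCokernel.iso R f.hom)
      · exact Preadditive.epi_of_cokernel_zero
          ((h.of_iso (Limits.PreservesCokernel.iso R f.hom).symm).eq_of_tgt _ _)
  rw [← hW]
  exact a.isLocalization

end Groth.Agent.S17647
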