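import Groth.Statements.S17648
import Mathlib
import Groth.Agent.GabLocLib.Basic
import Groth.Agent.S17646

set_option autoImplicit false
universe w v u
open CategoryTheory CategoryTheory.Limits
open GabLoc

namespace Groth.Agent.S17648
namespace Helper

open ZeroObject

variable {C : Type u} [Category.{v} C] [Abelian C] [IsGrothendieckAbelian.{w} C]

theorem sq_of_mono {P : ObjectProperty C} {A' A : C} (a : A' ⟶ A) [Mono a]
    (h : GabLoc.subquotCoprod.{w} P A) : GabLoc.subquotCoprod.{w} P A' := by
  obtain ⟨J, X, hX, B, i, p, hi, hp⟩ := h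
  haveI := hi; haveI := hp
  exact ⟨J, X, hX, pullback p a, pullback.fst p a ≫ i, pullback.snd p a, inferInstance, inferInstance⟩

theorem sq_of_epi {P : ObjectProperty C} {A A' : C} (a : A ⟶ A') [Epi a]
    (h : GabLoc.subquotCoprod.{w} P A) : GabLoc.subquotCoprod.{w} P A' := by
  obtain ⟨J, X, hX, B, i, p, hi, hp⟩ := h
  haveI := hp
  exact ⟨J, X, hX, B, i, p ≫ a, hi, inferInstance⟩

theorem sq_of_mem {P : ObjectProperty C} {A : C} (h : P A) : GabLoc.subquotCoprod.{w} P A := by
  refine ⟨PUnit.{w + 1}, fun _ => A, fun _ => h, _, 𝟙 (∐ fun _ : PUnit.{w + 1} => A),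
    Sigma.desc fun _ => 𝟙 A, inferInstance, ?_⟩
  exact epi_of_epi_fac (Sigma.ι_desc (fun _ : PUnit.{w + 1} => 𝟙 A) PUnit.unit)

theorem sq_of_isZero {P : ObjectProperty C} {A : C} (h : IsZero A) :
    GabLoc.subquotCoprod.{w} P A := by
  refine ⟨PEmpty.{w + 1}, fun e => PEmpty.elim e, fun e => PEmpty.elim e, 0, 0, 0,
    Preadditive.mono_of_cancel_zero _ fun f _ => (isZero_zero C).eq_of_tgt f 0, ?_⟩
  exact Preadditive.epi_of_cancel_zero _ fun f _ => h.eq_of_src f 0

/-- Every nonzero quotient has a nonzero subobject which is a subquotient of a coproduct from `P`. -/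
def Semi (P : ObjectProperty C) : ObjectProperty C := fun X =>
  ∀ ⦃Z : C⦄ (p : X ⟶ Z), Epi p → ¬ IsZero Z →
    ∃ (W : C) (w : W ⟶ Z), Mono w ∧ ¬ IsZero W ∧ GabLoc.subquotCoprod.{w} P W

instance (P : ObjectProperty C) : (Semi.{w} P).ContainsZero :=
  ⟨⟨_, isZero_zero C, fun _ p hp hZ => by
    haveI := hp
    exact absurd (IsZero.of_epi p (isZero_zero C)) hZ⟩⟩

instance (P : ObjectProperty C) : (Semi.{w} P).IsClosedUnderQuotients :=
  ⟨fun f _ hX Z p hp hZ => by
    haveI := hp
    exact hX (f ≫ p) inferInstance hZ⟩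

instance (P : ObjectProperty C) : (Semi.{w} P).IsClosedUnderSubobjects := by
  refine ⟨fun f _ hY Z p hp hZ => ?_⟩
  haveI := hp
  -- `Z` embeds in a quotient of `Y`
  let j : Z ⟶ pushout f p := pushout.inr f p
  let T := Subobject.mk j
  obtain ⟨A, -, hA, hAmax⟩ := Groth.Agent.S17646.Helper.exists_maximal T ⊥
    (Preadditive.mono_of_cancel_zero _ fun a _ => by
      rw [← cancel_mono (⊥ : Subobject (pushout f p)).arrow, Subobject.bot_arrow, comp_zero, comp_zero])
  haveI := Groth.Agent.S17646.Helper.mono_symm hA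
  let π := cokernel.π A.arrow
  have hz : Mono (j ≫ π) := by
    rw [show j = (Subobject.underlyingIso j).inv ≫ T.arrow from (Subobject.underlyingIso_arrow j).symm,
      Category.assoc]
    infer_instance
  obtain ⟨S, s, hs, hS0, hS⟩ := hY (pushout.inl f p ≫ π) inferInstance
    (fun h => hZ (IsZero.of_mono (j ≫ π) h))
  haveI := hs
  refine ⟨pullback s (j ≫ π), pullback.snd s (j ≫ π), inferInstance, fun hW => hS0 ?_,
    sq_of_mono (pullback.fst s (j ≫ π)) hS⟩
  -- otherwise maximality of `A` fails
  let u := pullback.fst π s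
  let B := Subobject.mk u
  have hAB : A ≤ B := Subobject.le_mk_of_comm
    (pullback.lift A.arrow 0 (by rw [cokernel.condition, zero_comp])) (pullback.lift_fst _ _ _)
  have hB : Mono (B.arrow ≫ cokernel.π T.arrow) := by
    refine Groth.Agent.S17646.Helper.mono_comp_of_cancel fun {V} a ha => ?_
    rw [← Category.assoc] at ha
    let l := Abelian.monoLift T.arrow (a ≫ B.arrow) ha
    have hl : l ≫ T.arrow = a ≫ B.arrow := Abelian.monoLift_comp _ _ _
    let b := a ≫ (Subobject.underlyingIso u).hom ≫ pullback.snd π s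
    let l' := l ≫ (Subobject.underlyingIso j).hom
    have e1 : (Subobject.underlyingIso u).hom ≫ u = B.arrow := Subobject.underlyingIso_hom_comp_eq_mk u
    have e2 : (Subobject.underlyingIso j).hom ≫ j = T.arrow := Subobject.underlyingIso_hom_comp_eq_mk j
    have h0 : b ≫ s = l' ≫ j ≫ π :=
      calc b ≫ s = a ≫ (Subobject.underlyingIso u).hom ≫ pullback.snd π s ≫ s := by
            simp only [b, Category.assoc]
        _ = a ≫ (Subobject.underlyingIso u).hom ≫ u ≫ π := by rw [← pullback.condition]
        _ = (a ≫ B.arrow) ≫ π := by rw [← e1]; simp only [Category.assoc]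
        _ = (l ≫ T.arrow) ≫ π := by rw [hl]
        _ = l' ≫ j ≫ π := by rw [← e2]; simp only [l', Category.assoc]
    have hl0 : l' = 0 := by
      rw [← (pullback.lift_snd b l' h0 : _ ≫ pullback.snd s (j ≫ π) = _),
        hW.eq_of_tgt (pullback.lift b l' h0) 0, zero_comp]
    have : l = 0 := by
      rw [← cancel_mono (Subobject.underlyingIso j).hom, zero_comp]; exact hl0
    rw [← hl, this, zero_comp]
  have hBA := hAmax B hAB hB
  have h1 : pullback.snd π s = 0 := by
    rw [← cancel_mono s, ← pullback.condition, zero_comp]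
    show u ≫ π = 0
    rw [← Subobject.underlyingIso_arrow u, Category.assoc]
    show _ ≫ B.arrow ≫ π = 0
    rw [← Subobject.ofLE_arrow hBA, Category.assoc, cokernel.condition, comp_zero, comp_zero]
  exact IsZero.of_epi_eq_zero _ h1

instance (P : ObjectProperty C) : (Semi.{w} P).IsClosedUnderExtensions := by
  refine ⟨fun {S} hS h₁ h₃ Z p hp hZ => ?_⟩
  haveI := hp
  by_cases h : IsZero (Abelian.image (S.f ≫ p))
  · have h0 : S.f ≫ p = 0 := by
      rw [← Abelian.image.fac (S.f ≫ p), h.eq_of_tgt (Abelian.factorThruImage (S.f ≫ p)) 0, zero_comp]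
    haveI := hS.epi_g
    let q := hS.exact.desc p h0
    haveI : Epi q := epi_of_epi_fac (hS.exact.g_desc p h0)
    exact h₃ q inferInstance hZ
  · obtain ⟨W, w', hw, hW0, hW⟩ := h₁ (Abelian.factorThruImage (S.f ≫ p)) inferInstance h
    haveI := hw
    exact ⟨W, w' ≫ Abelian.image.ι (S.f ≫ p), inferInstance, hW0, hW⟩

theorem semi_isLocalizing (P : ObjectProperty C) : GabLoc.IsLocalizing.{w} (Semi.{w} P) where
  isSerreClass := { }
  isClosedUnderCoproducts J := by
    refine ⟨fun X hX Z p hp hZ => ?_⟩
    haveI := hp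
    obtain ⟨pres⟩ := hX
    by_cases h : ∀ j, pres.ι.app j ≫ p = 0
    · refine absurd ((IsZero.iff_id_eq_zero Z).2 ?_) hZ
      rw [← cancel_epi p, comp_zero, Category.comp_id]
      exact pres.isColimit.hom_ext fun j => by rw [comp_zero]; exact h j
    · push_neg at h
      obtain ⟨j, hj⟩ := h
      obtain ⟨W, w', hw, hW0, hW⟩ := pres.prop_diag_obj j
        (Abelian.factorThruImage (pres.ι.app j ≫ p)) inferInstance (fun h => hj (by
          rw [← Abelian.image.fac (pres.ι.app j ≫ p),
            h.eq_of_tgt (Abelian.factorThruImage (pres.ι.app j ≫ p)) 0, zero_comp]))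
      haveI := hw
      exact ⟨W, w' ≫ Abelian.image.ι (pres.ι.app j ≫ p), inferInstance, hW0, hW⟩

theorem le_semi (P : ObjectProperty C) : P ≤ Semi.{w} P := fun X hX Z p hp hZ => by
  haveI := hp
  exact ⟨Z, 𝟙 Z, inferInstance, hZ, sq_of_epi p (sq_of_mem hX)⟩

theorem exists_step {P : ObjectProperty C} {X : C} (hX : Semi.{w} P X) (A : Subobject X) (hA : A ≠ ⊤) :
    ∃ (A' : Subobject X) (h : A < A'), GabLoc.subquotCoprod.{w} P (cokernel (Subobject.ofLE A A' h.le)) := by
  have hne : ¬ IsZero (cokernel A.arrow) := fun h => hA (by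
    have : Epi A.arrow := Preadditive.epi_of_cokernel_zero (h.eq_of_tgt _ _)
    haveI : IsIso A.arrow := isIso_of_mono_of_epi _
    exact Subobject.eq_top_of_isIso_arrow A)
  obtain ⟨S, s, hs, hS0, hS⟩ := hX (cokernel.π A.arrow) inferInstance hne
  haveI := hs
  let u := pullback.fst (cokernel.π A.arrow) s
  let A' := Subobject.mk u
  let a : (A : C) ⟶ pullback (cokernel.π A.arrow) s :=
    pullback.lift A.arrow 0 (by rw [cokernel.condition, zero_comp])
  have hle : A ≤ A' := Subobject.le_mk_of_comm a (pullback.lift_fst _ _ _)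
  let l : (A' : C) ⟶ S := (Subobject.underlyingIso u).hom ≫ pullback.snd _ _
  haveI : Epi l := epi_comp _ _
  have hl : l ≫ s = A'.arrow ≫ cokernel.π A.arrow := by
    simp only [l, Category.assoc, ← pullback.condition]
    exact Subobject.underlyingIso_hom_comp_eq_mk_assoc _ _
  have h0 : Subobject.ofLE A A' hle ≫ l = 0 := by
    rw [← cancel_mono s, Category.assoc, hl, ← Category.assoc, Subobject.ofLE_arrow,
      cokernel.condition, zero_comp]
  let d : cokernel (Subobject.ofLE A A' hle) ⟶ S := cokernel.desc _ l h0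
  haveI : Mono d := by
    refine Preadditive.mono_of_cancel_zero _ fun {W} a ha => ?_
    let v := pullback.snd a (cokernel.π (Subobject.ofLE A A' hle))
    have hv : pullback.fst a (cokernel.π (Subobject.ofLE A A' hle)) ≫ a
        = v ≫ cokernel.π (Subobject.ofLE A A' hle) := pullback.condition
    have h1 : (v ≫ A'.arrow) ≫ cokernel.π A.arrow = 0 := by
      rw [Category.assoc, ← hl, ← cokernel.π_desc (Subobject.ofLE A A' hle) l h0]
      show v ≫ (cokernel.π _ ≫ d) ≫ s = 0
      rw [← Category.assoc, ← Category.assoc, ← hv, Category.assoc _ a d, ha, comp_zero, zero_comp]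
    have h2 : v = Abelian.monoLift A.arrow _ h1 ≫ Subobject.ofLE A A' hle := by
      rw [← cancel_mono A'.arrow, Category.assoc, Subobject.ofLE_arrow, Abelian.monoLift_comp]
    rw [← cancel_epi (pullback.fst a (cokernel.π (Subobject.ofLE A A' hle))), hv, h2,
      Category.assoc, cokernel.condition, comp_zero, comp_zero]
  refine ⟨A', lt_of_le_of_ne hle fun he => hS0 ?_, sq_of_mono d hS⟩
  refine IsZero.of_epi_eq_zero l ?_
  haveI : IsIso (Subobject.ofLE A A' hle) :=
    ⟨Subobject.ofLE A' A he.ge, by rw [Subobject.ofLE_comp_ofLE, Subobject.ofLE_refl],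
      by rw [Subobject.ofLE_comp_ofLE, Subobject.ofLE_refl]⟩
  rw [← cancel_epi (Subobject.ofLE A A' hle), h0, comp_zero]

open scoped Classical in
noncomputable def step {P : ObjectProperty C} {X : C} (hX : Semi.{w} P X) (A : Subobject X) :
    Subobject X :=
  if hA : A = ⊤ then ⊤ else (exists_step hX A hA).choose

theorem step_top {P : ObjectProperty C} {X : C} (hX : Semi.{w} P X) : step hX (⊤ : Subobject X) = ⊤ :=
  dif_pos rfl

theorem lt_step {P : ObjectProperty C} {X : C} (hX : Semi.{w} P X) (A : Subobject X) (hA : A ≠ ⊤) :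
    A < step hX A := by
  rw [step, dif_neg hA]
  exact (exists_step hX A hA).choose_spec.choose

theorem le_step {P : ObjectProperty C} {X : C} (hX : Semi.{w} P X) (A : Subobject X) : A ≤ step hX A := by
  by_cases hA : A = ⊤
  · subst hA; rw [step_top]
  · exact (lt_step hX A hA).le

theorem mem_step {P : ObjectProperty C} {X : C} (hX : Semi.{w} P X) (A B : Subobject X)
    (hB : B = step hX A) (h : A ≤ B) : GabLoc.monoModSubquot.{w} P (Subobject.ofLE A B h) := by
  refine ⟨inferInstance, ?_⟩
  subst hB
  by_cases hA : A = ⊤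
  · subst hA
    refine sq_of_isZero ?_
    have hiso : IsIso (Subobject.ofLE ⊤ (step hX (⊤ : Subobject X)) h) :=
      ⟨Subobject.ofLE _ _ le_top, by rw [Subobject.ofLE_comp_ofLE, Subobject.ofLE_refl],
        by rw [Subobject.ofLE_comp_ofLE, Subobject.ofLE_refl]⟩
    exact isZero_cokernel_of_epi _
  · have he : step hX A = (exists_step hX A hA).choose := dif_neg hA
    have key : ∀ (B : Subobject X) (hB : B = (exists_step hX A hA).choose) (h' : A ≤ B),
        GabLoc.subquotCoprod.{w} P (cokernel (Subobject.ofLE A B h')) := by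
      rintro _ rfl h'
      exact (exists_step hX A hA).choose_spec.choose_spec
    exact key _ he h

section
variable {P : ObjectProperty C} {X : C} (hX : Semi.{w} P X) (J : Type w) [LinearOrder J] [OrderBot J]
  [SuccOrder J] [WellFoundedLT J]

/-- The filtration as a functor. -/
noncomputable def toMonoOver : J ⥤ MonoOver X where
  obj j := MonoOver.mk (transfiniteIterate (step hX) j ⊥).arrow
  map {j j'} f := MonoOver.homMk (Subobject.ofLE _ _
      (monotone_transfiniteIterate _ _ (le_step hX) (leOfHom f)))

noncomputable abbrev filt : J ⥤ C := toMonoOver hX J ⋙ MonoOver.forget _ ⋙ Over.forget _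

set_option backward.defeqAttrib.useBackward true in
instance : (filt hX J).IsWellOrderContinuous where
  nonempty_isColimit m hm := ⟨by
    have := hm.nonempty_Iio.to_subtype
    let c := (Set.principalSegIio m).cocone (toMonoOver hX J ⋙ MonoOver.forget _)
    have : Mono c.pt.hom := by dsimp [c, toMonoOver]; infer_instance
    apply IsGrothendieckAbelian.isColimitMapCoconeOfSubobjectMkEqISup
      ((Set.principalSegIio m).monotone.functor ⋙ toMonoOver hX J) c
    dsimp [c, toMonoOver]
    simp only [Subobject.mk_arrow]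
    exact transfiniteIterate_limit (step hX) ⊥ m hm⟩

set_option backward.isDefEq.respectTransparency.types false in
set_option backward.defeqAttrib.useBackward true in
variable {J} in
noncomputable def filtUpTo (j : J) :
    (GabLoc.monoModSubquot.{w} P).TransfiniteCompositionOfShape (Set.Iic j)
    ((filt hX J).map (homOfLE bot_le : ⊥ ⟶ j)) where
  F := (Set.initialSegIic j).monotone.functor ⋙ filt hX J
  isoBot := Iso.refl _
  incl :=
    { app k := (filt hX J).map (homOfLE k.2)
      naturality k k' h := by simp [toMonoOver, MonoOver.forget] }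
  isColimit := colimitOfDiagramTerminal isTerminalTop _
  map_mem k hk := by
    refine mem_step hX _ _ ?_ _
    show transfiniteIterate (step hX) (Order.succ k).1 ⊥ = _
    rw [Set.Iic.succ_eq_of_not_isMax hk, transfiniteIterate_succ _ _ _ (Set.not_isMax_coe _ hk)]
    rfl

end

theorem exists_filtration (P : ObjectProperty C) (X : C) (h : GabLoc.locClosure.{w} P X) :
    MorphismProperty.transfiniteCompositions.{w} (GabLoc.monoModSubquot.{w} P) (0 : (0 : C) ⟶ X) := by
  have hX := h _ (semi_isLocalizing P) (le_semi P)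
  let κ := Order.succ (Cardinal.mk (Shrink.{w} (Subobject X)))
  have : Nonempty κ.ord.ToType := by simp [κ]
  haveI := WellFoundedLT.toOrderBot κ.ord.ToType
  have hJ : HasCardinalLT (Subobject X) (Cardinal.mk κ.ord.ToType) :=
    lt_of_lt_of_le (Order.lt_succ _) (by simp [κ])
  obtain ⟨j, hj⟩ := top_mem_range_transfiniteIterate (J := κ.ord.ToType) (step hX) ⊥ (lt_step hX)
    (step_top hX) (fun h ↦ by simpa [hasCardinalLT_iff_cardinal_mk_lt] using hJ.of_injective _ h)
  rw [MorphismProperty.transfiniteCompositions_iff]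
  have hz : IsZero ((filt hX κ.ord.ToType).obj ⊥) := by
    show IsZero (((transfiniteIterate (step hX) (⊥ : κ.ord.ToType) (⊥ : Subobject X) : Subobject X)) : C)
    rw [transfiniteIterate_bot]
    exact IsZero.of_mono_eq_zero _ Subobject.bot_arrow
  haveI := (Subobject.isIso_arrow_iff_eq_top (transfiniteIterate (step hX) j ⊥)).2 hj
  let e := asIso (transfiniteIterate (step hX) j ⊥).arrow
  exact ⟨_, inferInstance, inferInstance, inferInstance, inferInstance,
    ⟨(filtUpTo hX j).ofArrowIso (Arrow.isoMk (hz.iso (isZero_zero C))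
      e (hz.eq_of_src _ _))⟩⟩

theorem mem_of_filtration (P Q : ObjectProperty C) (hQ : GabLoc.IsLocalizing.{w} Q) (hPQ : P ≤ Q) (X : C)
    (h : MorphismProperty.transfiniteCompositions.{w} (GabLoc.monoModSubquot.{w} P) (0 : (0 : C) ⟶ X)) :
    Q X := by
  haveI := hQ.isSerreClass
  have hsq : ∀ A, GabLoc.subquotCoprod.{w} P A → Q A := by
    rintro A ⟨J, Y, hY, B, i, p, hi, hp⟩
    haveI := hQ.isClosedUnderCoproducts J
    haveI := hi; haveI := hp
    exact Q.prop_of_epi p (Q.prop_of_mono i (Q.prop_colimit (Discrete.functor Y) fun j => hPQ _ (hY _)))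
  rw [MorphismProperty.transfiniteCompositions_iff] at h
  obtain ⟨J, _, _, _, _, ⟨c⟩⟩ := h
  -- the colimit of a diagram with terms in `Q` lies in `Q`
  have hcolim : ∀ {I : Type w} [Preorder I] {F : I ⥤ C} {d : Cocone F}, IsColimit d →
      (∀ i, Q (F.obj i)) → Q d.pt := by
    intro I _ F d hd hF
    haveI := hQ.isClosedUnderCoproducts I
    let m : (∐ fun i => F.obj i) ⟶ d.pt := Sigma.desc fun i => d.ι.app i
    haveI : Epi m := ⟨fun x y hxy => hd.hom_ext fun i => by
      have := congrArg (fun t => Sigma.ι (fun i => F.obj i) i ≫ t) hxy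
      simpa [m] using this⟩
    exact Q.prop_of_epi m (Q.prop_colimit (Discrete.functor fun i => F.obj i) fun i => hF _)
  have hF : ∀ j, Q (c.F.obj j) := by
    intro j
    induction j using SuccOrder.limitRecOn with
    | isMin j hj =>
      obtain rfl := hj.eq_bot
      exact Q.prop_of_iso c.isoBot.symm (Q.prop_of_isZero (isZero_zero C))
    | succ j hj ih =>
      obtain ⟨hm, hc⟩ := c.map_mem j hj
      haveI := hm
      exact Q.prop_X₂_of_shortExact
        (S := ShortComplex.mk (c.F.map (homOfLE (Order.le_succ j))) (cokernel.π _) (cokernel.condition _))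
        ⟨ShortComplex.exact_of_g_is_cokernel _ (cokernelIsCokernel _)⟩ ih (hsq _ hc)
    | isSuccLimit j hj ih =>
      exact hcolim (c.F.isColimitOfIsWellOrderContinuous j hj) fun i => ih i.1 i.2
  exact hcolim c.isColimit hF

end Helper


open ZeroObject in
/-- Let C be a Grothendieck abelian category, P a class of objects and X an object of C. Then X belongs
to the localizing closure of P (the smallest Serre class containing P and closed under coproducts)
if and only if the morphism 0 ⟶ X is a transfinite composition — indexed by a small well-ordered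
type, continuous at limit stages — of monomorphisms whose cokernels are subquotients of coproducts
of objects of P. Equivalently: X has an exhaustive continuous transfinite filtration 0 = X₀ ⊆ X₁ ⊆ ⋯
by subobjects with every X_{β+1}/X_β a subquotient of a direct sum of objects of P. -/
theorem result {C : Type u} [Category.{v} C] [Abelian C]
    [IsGrothendieckAbelian.{w} C] (P : ObjectProperty C) (X : C) :
    GabLoc.locClosure.{w} P X ↔
      MorphismProperty.transfiniteCompositions.{w} (GabLoc.monoModSubquot.{w} P) (0 : (0 : C) ⟶ X) := by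
  refine ⟨Helper.exists_filtration P X, fun h Q hQ hPQ => ?_⟩
  exact Helper.mem_of_filtration P Q hQ hPQ X h

end Groth.Agent.S17648
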