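import Groth.Statements.S17649
import Groth.Agent.QCohLib.Exact
import Groth.Agent.QCohLib.Push
-- import your own Groth.Agent.* helpers here

set_option autoImplicit false
set_option backward.isDefEq.respectTransparency false
universe u
open CategoryTheory CategoryTheory.Limits AlgebraicGeometry
open QCohCat

namespace Groth.Agent.S17649


open CategoryTheory CategoryTheory.Limits AlgebraicGeometry TopologicalSpace Opposite

variable {X : Scheme.{u}}

lemma subsingleton_of_isZero {M : X.Modules} (h : IsZero M) (W : X.Opens) : Subsingleton Γ(M, W) :=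
  ⟨fun a b => by
    have h1 : ∀ c : Γ(M, W), c = 0 := fun c => by
      have := congrArg (fun φ : M ⟶ M => φ.app W c) (h.eq_of_src (𝟙 M) 0)
      exact this
    rw [h1 a, h1 b]⟩

lemma isZero_of_subsingleton {M : X.Modules} (h : ∀ W : X.Opens, Subsingleton Γ(M, W)) : IsZero M := by
  rw [IsZero.iff_id_eq_zero]
  refine Scheme.Modules.hom_ext _ _ fun W => ?_
  ext c
  exact @Subsingleton.elim _ (h W) _ _

lemma isZero_restrict_iff (U : X.Opens) (M : X.Modules) :
    IsZero ((Scheme.Modules.restrictFunctor U.ι).obj M) ↔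
      ∀ W : X.Opens, W ≤ U → Subsingleton Γ(M, W) := by
  refine ⟨fun h W hW => ?_, fun h => isZero_of_subsingleton fun W => ?_⟩
  · have h1 := subsingleton_of_isZero h (U.ι ⁻¹ᵁ W)
    have e : U.ι ''ᵁ U.ι ⁻¹ᵁ W = W := by
      rw [Scheme.Hom.image_preimage_eq_opensRange_inf, Scheme.Opens.opensRange_ι, inf_eq_right.2 hW]
    have h2 : Subsingleton Γ(M, U.ι ''ᵁ U.ι ⁻¹ᵁ W) :=
      (M.restrictAppIso U.ι (U.ι ⁻¹ᵁ W)).addCommGroupIsoToAddEquiv.toEquiv.symm.subsingleton
    rwa [e] at h2
  · haveI := h (U.ι ''ᵁ W) (by simpa using U.ι_image_le W)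
    exact (M.restrictAppIso U.ι W).addCommGroupIsoToAddEquiv.toEquiv.subsingleton

/-- The unit of restriction and direct image. -/
noncomputable abbrev unitAt (U : X.Opens) (F : X.Modules) :=
  (Scheme.Modules.restrictAdjunction U.ι).unit.app F

lemma app_injective_of_mono {M N : X.Modules} (g : M ⟶ N) [Mono g] (W : X.Opens) :
    Function.Injective (g.app W) := by
  let S : ShortComplex X.Modules := ShortComplex.mk g (cokernel.π g) (cokernel.condition g)
  have hS : S.ShortExact :=
    { exact := ShortComplex.exact_cokernel g, mono_f := inferInstance, epi_g := inferInstance }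
  exact Groth.Agent.QCohLib.app_injective hS W

lemma isZero_kernel (U : X.Opens) (F : X.Modules) :
    IsZero ((Scheme.Modules.restrictFunctor U.ι).obj (kernel (unitAt U F))) := by
  refine (isZero_restrict_iff U _).2 fun W hW => ⟨fun a b => ?_⟩
  suffices h : ∀ c : Γ(kernel (unitAt U F), W), c = 0 by rw [h a, h b]
  intro c
  have h0 : (unitAt U F).app W ((kernel.ι (unitAt U F)).app W c) = 0 :=
    ConcreteCategory.congr_hom (congr($(kernel.condition (unitAt U F)).app W)) c
  erw [Scheme.Modules.restrictAdjunction_unit_app_app] at h0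
  haveI : IsIso (F.presheaf.map (homOfLE (U.ι.image_preimage_le W)).op) := by
    have e : U.ι ''ᵁ U.ι ⁻¹ᵁ W = W := by
      rw [Scheme.Hom.image_preimage_eq_opensRange_inf, Scheme.Opens.opensRange_ι, inf_eq_right.2 hW]
    have : IsIso (homOfLE (U.ι.image_preimage_le W)) :=
      ⟨homOfLE e.ge, Subsingleton.elim _ _, Subsingleton.elim _ _⟩
    infer_instance
  have h1 : (kernel.ι (unitAt U F)).app W c = 0 :=
    (ConcreteCategory.bijective_of_isIso (F.presheaf.map (homOfLE (U.ι.image_preimage_le W)).op)).1
      (h0.trans (map_zero _).symm)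
  exact app_injective_of_mono (kernel.ι (unitAt U F)) W (h1.trans (map_zero _).symm)

lemma isZero_coker (U V : X.Opens) (F : X.Modules)
    (h : IsZero ((Scheme.Modules.restrictFunctor (U ⊓ V).ι).obj F)) :
    IsZero ((Scheme.Modules.restrictFunctor V.ι).obj (cokernel (kernel.ι (unitAt U F)))) := by
  refine (isZero_restrict_iff V _).2 fun W hW => ?_
  have hle : U.ι ''ᵁ U.ι ⁻¹ᵁ W ≤ U ⊓ V :=
    le_inf (U.ι_image_le _) ((U.ι.image_preimage_le W).trans hW)
  haveI : Subsingleton Γ(F, U.ι ''ᵁ U.ι ⁻¹ᵁ W) := (isZero_restrict_iff _ F).1 h _ hle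
  haveI : Subsingleton Γ((Scheme.Modules.pushforward U.ι).obj
      ((Scheme.Modules.restrictFunctor U.ι).obj F), W) :=
    (F.restrictAppIso U.ι (U.ι ⁻¹ᵁ W)).addCommGroupIsoToAddEquiv.toEquiv.subsingleton
  haveI : Subsingleton Γ((Scheme.Modules.restrictFunctor U.ι ⋙ Scheme.Modules.pushforward U.ι).obj F, W) := by
    assumption
  exact (app_injective_of_mono (Abelian.factorThruCoimage (unitAt U F)) W).subsingleton

/-- Suppose the scheme X is quasi-compact and quasi-separated, and take two quasi-compact opens U, V ⊆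
X. Given a quasi-compact open W, denote by S_W the class of quasi-coherent O_X-modules that restrict
to zero on W. Then S_{U ∩ V} is the smallest localizing subcategory of Qcoh(X) that contains both
S_U and S_V; concretely (this is the inclusion that is not formal): any quasi-coherent O_X-module F
satisfying F|_{U ∩ V} = 0 arises as an extension of a quasi-coherent module that is zero on V by a
quasi-coherent submodule that is zero on U — one can find a monomorphism A ⟶ F where A is
quasi-coherent, A|_U = 0 and (F/A)|_V = 0. -/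
theorem result {X : Scheme.{u}}
    [CompactSpace X] [QuasiSeparatedSpace X] (U V : X.Opens) [QuasiCompact U.ι] [QuasiCompact V.ι]
    (F : X.Modules) (hF : Coh.IsQCoh F) (h : IsZero ((Scheme.Modules.restrictFunctor (U ⊓ V).ι).obj F)) :
    ∃ (A : X.Modules) (i : A ⟶ F), Mono i ∧ Coh.IsQCoh A ∧
      IsZero ((Scheme.Modules.restrictFunctor U.ι).obj A) ∧
      IsZero ((Scheme.Modules.restrictFunctor V.ι).obj (cokernel i)) := by
  haveI := hF
  have hJ : Coh.IsQCoh ((Scheme.Modules.pushforward U.ι).obj ((Scheme.Modules.restrictFunctor U.ι).obj F)) := by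
    haveI : Coh.IsQCoh ((Scheme.Modules.restrictFunctor U.ι).obj F) := inferInstance
    exact Groth.Agent.QCohLib.isQCoh_pushforward _ U.ι
  exact ⟨kernel (Groth.Agent.S17649.unitAt U F), kernel.ι _, inferInstance,
    (Groth.Agent.QCohLib.isQCoh_image _ hF hJ).1, Groth.Agent.S17649.isZero_kernel U F,
    Groth.Agent.S17649.isZero_coker U V F h⟩

end Groth.Agent.S17649
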