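import Groth.Statements.S7564
import Mathlib
import Groth.Agent.ConstrNoeth.Basic
import Groth.Agent.ConstrNoeth.Prespectral

set_option autoImplicit false
universe u
open PtTop

namespace Groth.Agent.S7564

/-- For a continuous surjection f : X → Y, if X has finitely many irreducible components, say n of them,
then Y has at most n irreducible components. -/
theorem result {X Y : Type u} [TopologicalSpace X] [TopologicalSpace Y]
    (f : X → Y) (hf : Continuous f) (hs : Function.Surjective f) (hfin : (irreducibleComponents X).Finite) :
    (irreducibleComponents Y).Finite ∧ (irreducibleComponents Y).ncard ≤ (irreducibleComponents X).ncard := by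
  classical
  have key : irreducibleComponents Y ⊆ (fun C => closure (f '' C)) '' irreducibleComponents X := by
    intro D hD
    obtain ⟨z, hz, hDz⟩ := isIrreducible_iff_sUnion_isClosed.mp hD.1 (hfin.toFinset.image fun C => closure (f '' C)) (by simp) (by
      intro y _
      obtain ⟨x, rfl⟩ := hs y
      simp only [Finset.coe_image, Set.Finite.coe_toFinset, Set.sUnion_image, Set.mem_iUnion]
      exact ⟨_, irreducibleComponent_mem_irreducibleComponents x, subset_closure ⟨x, mem_irreducibleComponent, rfl⟩⟩)
    obtain ⟨C, hC, rfl⟩ := Finset.mem_image.mp hz
    have hC' := (hfin.mem_toFinset).mp hC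
    exact ⟨C, hC', (hD.2 (hC'.1.image f hf.continuousOn).closure hDz).antisymm hDz⟩
  exact ⟨(hfin.image _).subset key, (Set.ncard_le_ncard key (hfin.image _)).trans (Set.ncard_image_le hfin)⟩

end Groth.Agent.S7564
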