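import Groth.Statements.S17652
import Groth.Agent.GenIrredLib.DVRCount
import Groth.Agent.GenIrredLib.IntegralFibres
import Groth.Agent.GeomIntCompLib.Field
import Groth.Agent.DomDVR.FiniteExt
import Groth.Agent.DVRCrit.Local
import Groth.Agent.SepPtsLib.Basic
import Groth.Agent.S7564

set_option autoImplicit false
universe u
open CategoryTheory CategoryTheory.Limits AlgebraicGeometry TopologicalSpace
open FlatMor

namespace Groth.Agent.S17652

open CategoryTheory CategoryTheory.Limits AlgebraicGeometry

set_option backward.isDefEq.respectTransparency false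
set_option backward.defeqAttrib.useBackward true
set_option linter.style.haveILetI false

set_option maxHeartbeats 1000000
open IsLocalRing Topology

/-- A prime with one-dimensional quotient forces a regular element with reduced quotient to generate the maximal ideal. -/
theorem maximalIdeal_eq_span {A : Type u} [CommRing A] [IsLocalRing A] [IsNoetherianRing A] (π : A)
    (hπ : π ∈ maximalIdeal A) (hreg : ∀ r : A, π * r = 0 → r = 0) (hrad : (Ideal.span {π}).IsRadical)
    (p : Ideal A) (hpmin : p ∈ minimalPrimes A)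
    (hpm : ∀ q : Ideal A, q.IsPrime → p ≤ q → π ∈ q → q = maximalIdeal A) :
    maximalIdeal A = Ideal.span {π} := by
  have hle : Ideal.span {π} ≤ maximalIdeal A := (Ideal.span_singleton_le_iff_mem _).2 hπ
  by_cases hall : maximalIdeal A ∈ (Ideal.span {π}).minimalPrimes
  · refine le_antisymm (fun x hx => ?_) hle
    rw [← hrad.radical, Ideal.radical_eq_sInf, Ideal.mem_sInf]
    rintro J ⟨hJ, hJp⟩
    exact hall.2 ⟨hJp, hJ⟩ (IsLocalRing.le_maximalIdeal hJp.ne_top) hx
  exfalso
  obtain ⟨x, hx, hxn⟩ : ∃ x ∈ maximalIdeal A, ∀ J ∈ (Ideal.span {π}).minimalPrimes, x ∉ J := by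
    by_contra h
    push Not at h
    have hsub : (maximalIdeal A : Set A) ⊆ ⋃ J ∈ (Ideal.span {π}).minimalPrimes, ((id J : Ideal A) : Set A) :=
      fun x hx => by
        obtain ⟨J, hJ, hxJ⟩ := h x hx
        exact Set.mem_iUnion₂.2 ⟨J, hJ, hxJ⟩
    obtain ⟨J, hJ, hmJ⟩ := (Ideal.subset_union_prime_finite ((Ideal.span {π}).finite_minimalPrimes_of_isNoetherianRing A)
      ⊥ ⊥ (fun J hJ _ _ => hJ.1.1)).1 hsub
    exact hall ((IsLocalRing.le_maximalIdeal hJ.1.1.ne_top).antisymm hmJ ▸ hJ)
  have hnzd : ∀ a : A, a * x ∈ Ideal.span {π} → a ∈ Ideal.span {π} := fun a ha => by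
    rw [← hrad.radical, ← Ideal.sInf_minimalPrimes, Ideal.mem_sInf]
    intro J hJ
    exact (hJ.1.1.mem_or_mem (hJ.1.2 ha)).resolve_right (hxn J hJ)
  have hass : IsAssociatedPrime p A := by
    refine Module.associatedPrimes.minimalPrimes_annihilator_subset_associatedPrimes A A ?_
    rwa [show Module.annihilator A A = ⊥ from Module.annihilator_eq_bot.2 inferInstance]
  obtain ⟨hp, a, ha⟩ := Submodule.isAssociatedPrime_iff.1 hass
  have ha0 : a ≠ 0 := fun h => hp.ne_top ((Ideal.eq_top_iff_one _).2 (by
    rw [ha, Submodule.mem_colon_singleton, h, smul_zero]; exact zero_mem _))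
  have hpa : ∀ r ∈ p, r * a = 0 := fun r hr => by
    rw [ha, Submodule.mem_colon_singleton, Submodule.mem_bot] at hr
    exact hr
  have hxp : x ∈ (p ⊔ Ideal.span {π}).radical := by
    rw [Ideal.radical_eq_sInf, Ideal.mem_sInf]
    rintro J ⟨hJ, hJp⟩
    rw [hpm J hJp (le_sup_left.trans hJ) (hJ (Ideal.mem_sup_right (Ideal.mem_span_singleton_self π)))]
    exact hx
  obtain ⟨N, hN⟩ := hxp
  obtain ⟨r, hr, c, hc, hrc⟩ := Submodule.mem_sup.1 hN
  have hnzd' : ∀ (n : ℕ) (b : A), b * x ^ n ∈ Ideal.span {π} → b ∈ Ideal.span {π} := fun n => by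
    induction n with
    | zero => simp
    | succ n ih => exact fun b hb => ih b (hnzd _ (by rw [mul_assoc, ← pow_succ]; exact hb))
  have step : ∀ b : A, (∀ r ∈ p, r * b = 0) → ∃ b', (∀ r ∈ p, r * b' = 0) ∧ b = π * b' := fun b hb => by
    obtain ⟨b', hb'⟩ := Ideal.mem_span_singleton'.1 (hnzd' N b (by
      rw [← hrc, mul_add, mul_comm b r, hb r hr, zero_add]
      exact Ideal.mul_mem_left _ _ hc))
    refine ⟨b', fun t ht => hreg _ ?_, by rw [← hb', mul_comm]⟩
    rw [← hb t ht, ← hb']
    ring
  have key : ∀ (n : ℕ) (b : A), (∀ r ∈ p, r * b = 0) → b ∈ Ideal.span {π} ^ n := fun n => by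
    induction n with
    | zero => simp
    | succ n ih =>
      intro b hb
      obtain ⟨b', hb', rfl⟩ := step b hb
      rw [pow_succ']
      exact Ideal.mul_mem_mul (Ideal.mem_span_singleton_self π) (ih b' hb')
  refine ha0 ?_
  rw [← Ideal.mem_bot, ← Ideal.iInf_pow_eq_bot_of_isLocalRing (Ideal.span {π})
    (fun h => (IsLocalRing.maximalIdeal.isMaximal A).ne_top (top_le_iff.1 (h ▸ hle)))]
  exact (Submodule.mem_iInf _).2 fun n => key n a hpa

section

variable {B : Type u} [CommRing B] [IsDomain B] [IsDiscreteValuationRing B]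
  {X : Scheme.{u}} (f : X ⟶ Spec (CommRingCat.of B))

/-- The equation of the special fibre in a local ring. -/
theorem stalk_data [LocallyOfFiniteType f] [Flat f] (hred : AlgebraicGeometry.IsReduced (f.fiber (closedPoint B)))
    (z : X) (hz : f z = closedPoint B) :
    ∃ π : X.presheaf.stalk z, π ∈ maximalIdeal (X.presheaf.stalk z) ∧ (∀ r, π * r = 0 → r = 0) ∧
      (Ideal.span {π}).IsRadical ∧
      ∀ q : Spec (X.presheaf.stalk z), f (X.fromSpecStalk z q) = closedPoint B ↔ π ∈ q.asIdeal := by
  obtain ⟨w, rfl⟩ : z ∈ Set.range (f.fiberι (closedPoint B)) := by rw [f.range_fiberι]; exact hz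
  obtain ⟨ϖ, hϖ⟩ := IsDiscreteValuationRing.exists_irreducible B
  set x := f.fiberι (closedPoint B) w
  let S := (Spec (CommRingCat.of B)).presheaf.stalk (f x)
  let σ : S →+* X.presheaf.stalk x := (f.stalkMap x).hom
  have hker : RingHom.ker ((f.fiberι (closedPoint B)).stalkMap w).hom = (maximalIdeal S).map σ :=
    FlatLocus.ker_fiberι_stalkMap f (closedPoint B) w
  obtain ⟨π, hπ⟩ : ∃ π, maximalIdeal S = Ideal.span {π} :=
    ⟨_, DVRFamilyLib.maximalIdeal_stalk_closedPoint ϖ hϖ.maximalIdeal_eq _ hz⟩
  let e : S ≃+* B := by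
    let y := f x
    change ((Spec (CommRingCat.of B)).presheaf.stalk y) ≃+* B
    rw [show y = closedPoint B from hz]
    exact (stalkClosedPointIso (CommRingCat.of B)).commRingCatIsoToRingEquiv
  haveI : IsDomain S := e.injective.isDomain e.toRingHom
  have hπ0 : π ≠ 0 := fun h => by
    rw [h, Ideal.span_singleton_zero, ← IsLocalRing.isField_iff_maximalIdeal_eq] at hπ
    exact IsDiscreteValuationRing.not_isField B (e.symm.toMulEquiv.isField hπ)
  refine ⟨σ π, ?_, fun r hr => ?_, ?_, fun q => ?_⟩
  · exact map_nonunit σ π (show π ∈ maximalIdeal S by rw [hπ]; exact Ideal.mem_span_singleton_self π)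
  · algebraize [σ]
    haveI : Module.Flat S (X.presheaf.stalk x) := Flat.stalkMap f x
    have h1 : IsSMulRegular (X.presheaf.stalk x) π := Module.Flat.isSMulRegular_of_isRegular (IsRegular.of_ne_zero hπ0)
    exact h1 (show π • r = π • 0 by rw [Algebra.smul_def, smul_zero]; exact hr)
  · rw [← Set.image_singleton, ← Ideal.map_span, ← hπ, ← hker]
    rintro a ⟨n, hn⟩
    refine (IsReduced.eq_zero (R := (f.fiber (closedPoint B)).presheaf.stalk w) _ ⟨n, ?_⟩)
    rw [← map_pow]
    exact hn
  · have h1 : f (X.fromSpecStalk x q) = (Spec (CommRingCat.of B)).fromSpecStalk (f x) (Spec.map (f.stalkMap x) q) := by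
      rw [← Scheme.Hom.comp_apply, ← Scheme.Hom.comp_apply, Scheme.SpecMap_stalkMap_fromSpecStalk]
    rw [h1, show closedPoint B = (Spec (CommRingCat.of B)).fromSpecStalk (f x) (closedPoint S) from
        hz.symm.trans Scheme.fromSpecStalk_closedPoint.symm,
      ((Spec (CommRingCat.of B)).fromSpecStalk (f x)).isEmbedding.injective.eq_iff]
    refine ⟨fun h => ?_, fun h => PrimeSpectrum.ext ?_⟩
    · have : π ∈ (closedPoint S).asIdeal := by
        show π ∈ maximalIdeal S
        rw [hπ]; exact Ideal.mem_span_singleton_self π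
      rw [← h] at this
      exact this
    · refine (((IsLocalRing.maximalIdeal.isMaximal S).eq_of_le (Ideal.IsPrime.ne_top inferInstance)) ?_).symm
      rw [hπ, Ideal.span_singleton_le_iff_mem]
      exact h

theorem specializes_iff_le (z : X) (q q' : Spec (X.presheaf.stalk z)) :
    X.fromSpecStalk z q ⤳ X.fromSpecStalk z q' ↔ q.asIdeal ≤ q'.asIdeal := by
  rw [(X.fromSpecStalk z).isEmbedding.isInducing.specializes_iff, ← PrimeSpectrum.le_iff_specializes]
  rfl

theorem exists_stalk_point (z x : X) (h : x ⤳ z) : ∃ q, X.fromSpecStalk z q = x := by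
  have : x ∈ Set.range (X.fromSpecStalk z) := by rw [Scheme.range_fromSpecStalk]; exact h
  exact this

/-- A generic point of the generic fibre meets the special fibre at a generic point lying on no other component. -/
theorem exists_special_generic [IsProper f] [Flat f] (hred : AlgebraicGeometry.IsReduced (f.fiber (closedPoint B)))
    (μ : X) (hμ : f μ ≠ closedPoint B) (hμmax : ∀ x, x ⤳ μ → x = μ) :
    ∃ z : X, f z = closedPoint B ∧ (∀ x, x ⤳ z → f x = closedPoint B → x = z) ∧
      μ ⤳ z ∧ ∀ x, x ⤳ z → f x ≠ closedPoint B → x = μ := by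
  haveI : IsLocallyNoetherian X := LocallyOfFiniteType.isLocallyNoetherian f
  obtain ⟨z₀, hμz₀, hz₀⟩ := f.isClosedMap.specializingMap (IsLocalRing.specializes_closedPoint (f μ))
  obtain ⟨π₀, hπ₀, -, -, hπ₀q⟩ := stalk_data f hred z₀ hz₀
  obtain ⟨p₀, hp₀⟩ := exists_stalk_point z₀ μ hμz₀
  have hle : p₀.asIdeal ⊔ Ideal.span {π₀} ≤ maximalIdeal _ :=
    sup_le (IsLocalRing.le_maximalIdeal p₀.2.ne_top) ((Ideal.span_singleton_le_iff_mem _).2 hπ₀)
  obtain ⟨q₀, hq₀, -⟩ := Ideal.exists_minimalPrimes_le hle
  let q₁ : Spec (X.presheaf.stalk z₀) := (⟨q₀, hq₀.1.1⟩ : PrimeSpectrum _)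
  set z := X.fromSpecStalk z₀ q₁ with hzdef
  have hz : f z = closedPoint B :=
    (hπ₀q q₁).2 (hq₀.1.2 (Ideal.mem_sup_right (Ideal.mem_span_singleton_self π₀)))
  have hμz : μ ⤳ z := by
    rw [← hp₀, hzdef, specializes_iff_le]
    exact le_sup_left.trans hq₀.1.2
  have hzz₀ : z ⤳ z₀ := by
    have h : z ∈ {y | y ⤳ z₀} := Scheme.range_fromSpecStalk (X := X) ▸ ⟨q₁, rfl⟩
    exact h
  have hzmax : ∀ x, x ⤳ z → μ ⤳ x → f x = closedPoint B → x = z := by
    intro x hxz hμx hfx
    obtain ⟨q, rfl⟩ := exists_stalk_point z₀ x (hxz.trans hzz₀)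
    rw [← hp₀, specializes_iff_le] at hμx
    rw [hzdef, specializes_iff_le] at hxz
    refine congrArg _ (PrimeSpectrum.ext (le_antisymm hxz (hq₀.2 ⟨q.2, sup_le hμx ?_⟩ hxz)))
    exact (Ideal.span_singleton_le_iff_mem _).2 ((hπ₀q q).1 hfx)
  clear_value z
  obtain ⟨π, hπm, hπreg, hπrad, hπq⟩ := stalk_data f hred z hz
  obtain ⟨p, hp⟩ := exists_stalk_point z μ hμz
  have hclosed : X.fromSpecStalk z (closedPoint _) = z := Scheme.fromSpecStalk_closedPoint
  have hpmin : p.asIdeal ∈ minimalPrimes (X.presheaf.stalk z) := by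
    obtain ⟨q, hq, hqp⟩ := Ideal.exists_minimalPrimes_le (bot_le : ⊥ ≤ p.asIdeal)
    have h1 := hμmax (X.fromSpecStalk z (⟨q, hq.1.1⟩ : PrimeSpectrum _))
      (by rw [← hp, specializes_iff_le]; exact hqp)
    rw [← hp] at h1
    have h2 := congrArg PrimeSpectrum.asIdeal ((X.fromSpecStalk z).isEmbedding.injective h1)
    exact h2 ▸ hq
  have hpm : ∀ q : Ideal (X.presheaf.stalk z), q.IsPrime → p.asIdeal ≤ q → π ∈ q → q = maximalIdeal _ := by
    intro q hq hpq hπ'
    let q' : Spec (X.presheaf.stalk z) := (⟨q, hq⟩ : PrimeSpectrum _)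
    have h1 := hzmax (X.fromSpecStalk z q') (by
        have h : X.fromSpecStalk z q' ∈ {y | y ⤳ z} := Scheme.range_fromSpecStalk (X := X) ▸ ⟨q', rfl⟩
        exact h)
      (by rw [← hp, specializes_iff_le]; exact hpq) ((hπq q').2 hπ')
    exact congrArg PrimeSpectrum.asIdeal ((X.fromSpecStalk z).isEmbedding.injective (h1.trans hclosed.symm))
  have hspan := maximalIdeal_eq_span π hπm hπreg hπrad p.asIdeal hpmin hpm
  have hbot : ∀ q : Ideal (X.presheaf.stalk z), q.IsPrime → π ∉ q → q = ⊥ := fun q hq hnq => by
    refine Submodule.eq_bot_of_le_smul_of_le_jacobson_bot (Ideal.span {π}) q (IsNoetherian.noetherian q) (fun a ha => ?_) ?_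
    · obtain ⟨b, rfl⟩ := Ideal.mem_span_singleton'.1 (hspan ▸ IsLocalRing.le_maximalIdeal hq.ne_top ha)
      rw [mul_comm, smul_eq_mul]
      exact Ideal.mul_mem_mul (Ideal.mem_span_singleton_self π)
        ((hq.mem_or_mem ha).resolve_right hnq)
    · rw [IsLocalRing.jacobson_eq_maximalIdeal _ bot_ne_top]
      exact hspan.ge
  refine ⟨z, hz, fun x hx hfx => ?_, hμz, fun x hx hfx => ?_⟩
  · obtain ⟨q, rfl⟩ := exists_stalk_point z x hx
    refine (congrArg (X.fromSpecStalk z) ?_).trans hclosed
    refine PrimeSpectrum.ext (le_antisymm (IsLocalRing.le_maximalIdeal q.2.ne_top) ?_)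
    show maximalIdeal _ ≤ q.asIdeal
    rw [hspan, Ideal.span_singleton_le_iff_mem]
    exact (hπq q).1 hfx
  · obtain ⟨q, rfl⟩ := exists_stalk_point z x hx
    rw [← hp]
    refine congrArg _ (PrimeSpectrum.ext ?_)
    rw [hbot q.asIdeal q.2 (fun h => hfx ((hπq q).2 h)), hbot p.asIdeal p.2 (fun h => hμ (hp ▸ (hπq p).2 h))]

/-- Flat proper over a discrete valuation ring with reduced special fibre: the special fibre has at least as many
components as the generic one. -/
theorem encard_generic_le [IsProper f] [Flat f] (hred : AlgebraicGeometry.IsReduced (f.fiber (closedPoint B)))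
    (η : Spec (CommRingCat.of B)) (hη : η.asIdeal = ⊥) :
    (irreducibleComponents ↥(f.fiber η)).encard ≤ (irreducibleComponents ↥(f.fiber (closedPoint B))).encard := by
  classical
  have hne : η ≠ closedPoint B := fun h => IsDiscreteValuationRing.not_a_field B
    ((congrArg PrimeSpectrum.asIdeal h).symm.trans hη)
  have key : ∀ T ∈ irreducibleComponents ↥(f.fiber η), ∃ w : f.fiber (closedPoint B),
      closure {w} ∈ irreducibleComponents ↥(f.fiber (closedPoint B)) ∧
      ∃ t, IsGenericPoint t T ∧ f.fiberι η t ⤳ f.fiberι _ w ∧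
        ∀ x, x ⤳ f.fiberι _ w → f x ≠ closedPoint B → x = f.fiberι η t := by
    intro T hT
    obtain ⟨t, ht⟩ := QuasiSober.sober hT.1 (isClosed_of_mem_irreducibleComponents T hT)
    have hft : f (f.fiberι η t) = η := by
      have h : f.fiberι η t ∈ f ⁻¹' {η} := f.range_fiberι η ▸ Set.mem_range_self t
      exact h
    have hmax : ∀ x, x ⤳ f.fiberι η t → x = f.fiberι η t := by
      intro x hx
      have hfx : f x = η := PrimeSpectrum.ext (le_antisymm
        ((PrimeSpectrum.le_iff_specializes _ _).2 (hft ▸ hx.map f.continuous)) (hη ▸ bot_le))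
      obtain ⟨u, rfl⟩ : x ∈ Set.range (f.fiberι η) := by rw [f.range_fiberι]; exact hfx
      rw [(f.fiberι η).isEmbedding.isInducing.specializes_iff] at hx
      have h1 : T ≤ closure {u} := ht.def.symm.le.trans
        (closure_minimal (Set.singleton_subset_iff.2 hx.mem_closure) isClosed_closure)
      exact congrArg _ (hx.antisymm (ht.specializes (hT.2 isIrreducible_singleton.closure h1 (subset_closure rfl)))).eq
    obtain ⟨z, hz, hzmax, hμz, huniq⟩ := exists_special_generic f hred _ (hft.symm ▸ hne) hmax
    obtain ⟨w, rfl⟩ : z ∈ Set.range (f.fiberι (closedPoint B)) := by rw [f.range_fiberι]; exact hz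
    refine ⟨w, ⟨isIrreducible_singleton.closure, fun S hS hle => ?_⟩, t, ht, hμz, huniq⟩
    obtain ⟨v, hv⟩ := QuasiSober.sober hS.closure isClosed_closure
    have hvw : v ⤳ w := hv.specializes (subset_closure (hle (subset_closure rfl)))
    have hfv : f (f.fiberι (closedPoint B) v) = closedPoint B := by
      have h : f.fiberι (closedPoint B) v ∈ f ⁻¹' {closedPoint B} := f.range_fiberι _ ▸ Set.mem_range_self v
      exact h
    obtain rfl : v = w := (f.fiberι _).isEmbedding.injective (hzmax _ (hvw.map (f.fiberι _).continuous) hfv)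
    exact subset_closure.trans hv.def.ge
  choose w hw t ht hspec huniq using key
  let Φ : Set ↥(f.fiber η) → Set ↥(f.fiber (closedPoint B)) := fun T => if h : T ∈ _ then closure {w T h} else ∅
  refine Set.encard_le_encard_of_injOn (f := Φ) (fun T hT => ?_) (fun T hT T' hT' he => ?_)
  · simp only [Φ, dif_pos hT]
    exact hw T hT
  · simp only [Φ, dif_pos hT, dif_pos hT'] at he
    have hww : w T hT = w T' hT' :=
      ((specializes_iff_closure_subset.2 he.ge).antisymm (specializes_iff_closure_subset.2 he.le)).eq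
    have hne' : f (f.fiberι η (t T' hT')) ≠ closedPoint B := by
      have h : f.fiberι η (t T' hT') ∈ f ⁻¹' {η} := f.range_fiberι η ▸ Set.mem_range_self _
      rw [show f (f.fiberι η (t T' hT')) = η from h]
      exact hne
    have htt := (f.fiberι η).isEmbedding.injective (huniq T hT _ (hww ▸ hspec T' hT') hne')
    rw [← (ht T hT).def, ← (ht T' hT').def, htt]

end

/-- Geometrically integral components stay irreducible after a field extension. -/
theorem encard_ext_le {L Ω : Type u} [Field L] [Field Ω] {Z : Scheme.{u}} (p : Z ⟶ Spec (CommRingCat.of L))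
    (τ : Spec (CommRingCat.of Ω) ⟶ Spec (CommRingCat.of L))
    (hW : ∀ (T : Scheme.{u}) (i : T ⟶ Z) [IsClosedImmersion i] [AlgebraicGeometry.IsReduced T],
      Set.range i ∈ irreducibleComponents ↥Z → GeometricallyIntegral (i ≫ p)) :
    (irreducibleComponents ↥(pullback p τ)).encard ≤ (irreducibleComponents ↥Z).encard := by
  let π := pullback.fst p τ
  have hirr : ∀ T ∈ irreducibleComponents ↥Z, IsIrreducible (π ⁻¹' T) := by
    intro T hT
    let I := Scheme.IdealSheafData.vanishingIdeal ⟨T, isClosed_of_mem_irreducibleComponents T hT⟩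
    haveI : AlgebraicGeometry.IsReduced I.subscheme := DVRCrit.isReduced_vanishingIdeal _
    have hr : Set.range I.subschemeι = T := by
      rw [Scheme.IdealSheafData.range_subschemeι, Scheme.IdealSheafData.coe_support_vanishingIdeal]
      rfl
    haveI := hW _ I.subschemeι (hr.symm ▸ hT)
    have hsq := (IsPullback.of_hasPullback I.subschemeι π).paste_vert (IsPullback.of_hasPullback p τ)
    haveI : IsIntegral (pullback I.subschemeι π) :=
      GeometricallyIntegral.geometrically_isIntegral _ _ _ hsq
    rw [← hr, ← Scheme.Pullback.range_snd, ← Set.image_univ]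
    exact (IrreducibleSpace.isIrreducible_univ _).image _ (pullback.snd I.subschemeι π).continuous.continuousOn
  refine le_trans (Set.encard_le_encard (t := (fun T => π ⁻¹' T) '' irreducibleComponents ↥Z) fun C hC => ?_)
    (Set.encard_image_le _ _)
  obtain ⟨T, hT, hCT, hTmax⟩ := exists_preirreducible (π '' C) (hC.1.image π π.continuous.continuousOn).2
  have hTc : T ∈ irreducibleComponents ↥Z :=
    ⟨⟨((hC.1.image π π.continuous.continuousOn).1).mono hCT, hT⟩, fun S hS hle => (hTmax S hS.2 hle).le⟩
  exact ⟨T, hTc, (hC.2 (hirr T hTc) (Set.image_subset_iff.1 hCT)).antisymm (Set.image_subset_iff.1 hCT)⟩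

/-- A finite extension of the fraction field of a discrete valuation ring contains one dominating it. -/
theorem exists_dvr_finite (B L : Type u) [CommRing B] [IsDomain B] [IsDiscreteValuationRing B] [Field L]
    [Algebra B L] [Algebra (FractionRing B) L] [IsScalarTower B (FractionRing B) L]
    [FiniteDimensional (FractionRing B) L] :
    ∃ (V : Type u) (_ : CommRing V) (_ : IsDomain V) (_ : IsDiscreteValuationRing V) (φ : B →+* V) (ψ : V →+* L),
      IsLocalHom φ ∧ Function.Injective ψ ∧ ψ.comp φ = algebraMap B L ∧ @IsFractionRing V _ L _ ψ.toAlgebra := by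
  haveI : Ring.DimensionLEOne B := inferInstance
  haveI := DomDVR.isDedekindDomain_integralClosure_finite B (FractionRing B) L
  let D := integralClosure B L
  haveI : IsFractionRing D L := integralClosure.isFractionRing_of_finite_extension (FractionRing B) L
  have hinj0 : Function.Injective (algebraMap B L) := by
    rw [IsScalarTower.algebraMap_eq B (FractionRing B) L]
    exact (algebraMap (FractionRing B) L).injective.comp (IsFractionRing.injective _ _)
  haveI : FaithfulSMul B D := (faithfulSMul_iff_algebraMap_injective B D).2 fun a b hab =>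
    hinj0 (congrArg Subtype.val hab)
  obtain ⟨Q, hQ, hQR⟩ := Ideal.exists_maximal_ideal_liesOver_of_isIntegral (S := D) (maximalIdeal B)
  have hcomap : ∀ r, r ∈ maximalIdeal B ↔ algebraMap B D r ∈ Q := fun r => by rw [hQR.over]; rfl
  have hQ0 : Q ≠ ⊥ := by
    obtain ⟨r, hr, hr0⟩ := Submodule.exists_mem_ne_zero_of_ne_bot (IsDiscreteValuationRing.not_a_field B)
    intro h
    apply hr0
    have h2 : algebraMap B D r = 0 := by simpa [h] using (hcomap r).mp hr
    apply hinj0
    rw [map_zero]
    exact congrArg Subtype.val h2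
  let v : IsDedekindDomain.HeightOneSpectrum D := ⟨Q, hQ.isPrime, hQ0⟩
  let V := IsDedekindDomain.HeightOneSpectrum.valuationSubringAtPrime L v
  haveI : IsLocalization.AtPrime V Q :=
    Localization.subalgebra.isLocalization_ofField L v.asIdeal.primeCompl v.asIdeal.primeCompl_le_nonZeroDivisors
  haveI hV : IsDiscreteValuationRing V :=
    IsLocalization.AtPrime.isDiscreteValuationRing_of_dedekind_domain D hQ0 V
  refine ⟨V, inferInstance, inferInstance, hV, (algebraMap D V).comp (algebraMap B D), V.subtype,
    ⟨fun r hr => ?_⟩, Subtype.val_injective, RingHom.ext fun r => rfl, (inferInstance : IsFractionRing V L)⟩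
  by_contra h
  have h1 : algebraMap D V (algebraMap B D r) ∈ maximalIdeal V :=
    (IsLocalization.AtPrime.to_map_mem_maximal_iff V Q _).mpr ((hcomap r).mp h)
  exact h1 hr

/-- The number of geometric components does not increase under generization. -/
theorem nGeom_le_of_specializes {X Y : Scheme.{u}} [IsLocallyNoetherian Y] (f : X ⟶ Y) [IsProper f] [Flat f]
    {z y : Y} (hzy : z ⤳ y) (hred : GeometricallyReduced (f.fiberToSpecResidueField y)) :
    MoreMor.nGeomIrredComp f z ≤ MoreMor.nGeomIrredComp f y := by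
  by_cases hne : z = y
  · rw [hne]
  obtain ⟨B, _, _, _, g, hgc, hgη⟩ := UnivOpenAtLib.exists_dvr_specialization hzy hne
  let K := FractionRing B
  let bK := Spec.map (CommRingCat.ofHom (algebraMap B K))
  let pK := pullback.snd f (bK ≫ g)
  haveI : IsProper pK := MorphismProperty.pullback_snd _ _ inferInstance
  haveI : CompactSpace ↥(pullback f (bK ≫ g)) := QuasiCompact.compactSpace_of_compactSpace pK
  obtain ⟨L, _, _, hfin, hW⟩ := GeomIntCompLib.exists_finite_ext_pullback pK
  letI : Algebra B L := ((algebraMap K L).comp (algebraMap B K)).toAlgebra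
  haveI : IsScalarTower B K L := IsScalarTower.of_algebraMap_eq fun _ => rfl
  obtain ⟨V, _, _, _, φ, ψ, hφ, hψ, hψφ, hfr⟩ := exists_dvr_finite B L
  let g' := Spec.map (CommRingCat.ofHom φ) ≫ g
  let j := Spec.map (CommRingCat.ofHom ψ)
  let η : Spec (CommRingCat.of V) := (⟨⊥, Ideal.isPrime_bot⟩ : PrimeSpectrum V)
  have hj : ∀ t, j t = η := fun t => by
    obtain rfl : t = closedPoint L := Subsingleton.elim (α := PrimeSpectrum L) _ _
    refine PrimeSpectrum.ext ?_
    show Ideal.comap ψ (maximalIdeal L) = ⊥
    rw [(IsLocalRing.isField_iff_maximalIdeal_eq).1 (Field.toIsField L), Ideal.comap_bot_of_injective ψ hψ]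
  have hc : g' (closedPoint V) = y := by
    show g (PrimeSpectrum.comap φ (closedPoint V)) = y
    rw [IsLocalRing.comap_closedPoint]
    exact hgc
  have hη : g' η = z := by
    refine hgη (PrimeSpectrum.comap φ η) fun he => IsDiscreteValuationRing.not_a_field B ?_
    have h1 : (⊥ : Ideal V).comap φ = maximalIdeal B := congrArg PrimeSpectrum.asIdeal he
    have hφinj : Function.Injective φ := fun a b hab => by
      have h2 : algebraMap B L a = algebraMap B L b := by
        rw [← hψφ]; exact congrArg ψ hab
      exact IsFractionRing.injective B K ((algebraMap K L).injective h2)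
    rw [← h1, Ideal.comap_bot_of_injective φ hφinj]
  let f' := pullback.snd f g'
  haveI : IsProper f' := MorphismProperty.pullback_snd _ _ inferInstance
  haveI : Flat f' := MorphismProperty.pullback_snd _ _ inferInstance
  have hred' : AlgebraicGeometry.IsReduced (f'.fiber (closedPoint V)) := by
    have H := isPullback_fiberToSpecResidueField_of_isPullback (IsPullback.of_hasPullback f g') (closedPoint V)
    subst hc
    exact hred.geometrically_isReduced _ _ _ H
  -- special fibre against the geometric special fibre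
  have h1 : (irreducibleComponents ↥(f'.fiber (closedPoint V))).encard ≤ MoreMor.nGeomIrredComp f y := by
    have e := congrArg Prod.fst
      (GenIrredLib.nGeom_baseChange f f' (pullback.fst f g') g' (IsPullback.of_hasPullback f g') (closedPoint V))
    simp only [hc] at e
    rw [← e]
    show _ ≤ (irreducibleComponents ↥(MoreMor.geomFiber f' (closedPoint V))).encard
    let l := Spec.map (CommRingCat.ofHom (algebraMap ((Spec (CommRingCat.of V)).residueField (closedPoint V))
      (SeparableClosure ((Spec (CommRingCat.of V)).residueField (closedPoint V)))))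
    haveI : Surjective l := ⟨fun v => ⟨IsLocalRing.closedPoint _,
      Subsingleton.elim (α := PrimeSpectrum ((Spec (CommRingCat.of V)).residueField (closedPoint V))) _ _⟩⟩
    haveI : Surjective (pullback.fst (f'.fiberToSpecResidueField (closedPoint V)) l) :=
      MorphismProperty.pullback_fst _ _ inferInstance
    rcases (irreducibleComponents ↥(MoreMor.geomFiber f' (closedPoint V))).finite_or_infinite with hf | hf
    · obtain ⟨hf', hle⟩ := S7564.result _ (pullback.fst (f'.fiberToSpecResidueField (closedPoint V)) l).continuous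
        (pullback.fst (f'.fiberToSpecResidueField (closedPoint V)) l).surjective hf
      rw [← hf'.cast_ncard_eq, ← hf.cast_ncard_eq]
      exact_mod_cast hle
    · rw [hf.encard_eq]; exact le_top
  -- generic fibre
  let Ω := AlgebraicClosure L
  let sΩ := Spec.map (CommRingCat.ofHom (algebraMap L Ω))
  have hzΩ : (sΩ ≫ j ≫ g') (closedPoint Ω) = z := by
    rw [Scheme.Hom.comp_apply, Scheme.Hom.comp_apply, hj]
    exact hη
  have h2 : MoreMor.nGeomIrredComp f z ≤ (irreducibleComponents ↥(f'.fiber η)).encard := by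
    rw [show MoreMor.nGeomIrredComp f z = (GenIrredLib.counts ↥(pullback f (sΩ ≫ j ≫ g'))).1 by
      rw [GenIrredLib.counts_eq_nGeom f Ω _ z hzΩ]]
    let sL := Spec.map (CommRingCat.ofHom (algebraMap K L))
    have e0 : j ≫ g' = sL ≫ bK ≫ g := by
      simp only [j, g', sL, bK, ← Spec.map_comp_assoc, ← CommRingCat.ofHom_comp]
      rw [hψφ]
      rfl
    -- over `L` by way of `K`
    have sqA : IsPullback (pullback.fst (pullback.snd pK sL) sΩ ≫ pullback.fst pK sL ≫ pullback.fst f (bK ≫ g))
        (pullback.snd (pullback.snd pK sL) sΩ) f (sΩ ≫ j ≫ g') := by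
      rw [e0]
      exact (IsPullback.of_hasPullback _ sΩ).paste_horiz
        ((IsPullback.of_hasPullback pK sL).paste_horiz (IsPullback.of_hasPullback f (bK ≫ g)))
    refine le_of_eq_of_le (congrArg Prod.fst (GenIrredLib.counts_congr sqA.isoPullback.symm.hom.homeomorph)) ?_
    refine (encard_ext_le (pullback.snd pK sL) sΩ hW).trans (le_of_eq ?_)
    have sqB : IsPullback (pullback.fst f' j ≫ pullback.fst f g') (pullback.snd f' j) f (sL ≫ bK ≫ g) := by
      rw [← e0]
      exact (IsPullback.of_hasPullback f' j).paste_horiz (IsPullback.of_hasPullback f g')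
    let eX : pullback f' j ≅ pullback pK sL := sqB.isoPullback ≪≫
      ((IsPullback.of_hasPullback pK sL).paste_horiz (IsPullback.of_hasPullback f (bK ≫ g))).isoPullback.symm
    show (GenIrredLib.counts ↥(pullback pK sL)).1 = _
    rw [← show (GenIrredLib.counts ↥(pullback f' j)).1 = (GenIrredLib.counts ↥(pullback pK sL)).1 from
      congrArg Prod.fst (GenIrredLib.counts_congr eX.hom.homeomorph)]
    haveI : IsPreimmersion j := by
      letI := ψ.toAlgebra
      haveI : IsFractionRing V L := hfr
      exact IsPreimmersion.of_isLocalization (nonZeroDivisors V)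
    have hrange : Set.range (pullback.fst f' j) = Set.range (f'.fiberι η) := by
      rw [Scheme.Pullback.range_fst, f'.range_fiberι]
      congr 1
      ext t
      refine ⟨?_, fun h => ⟨closedPoint L, (hj _).trans (Eq.symm h)⟩⟩
      rintro ⟨x, rfl⟩
      exact hj x
    haveI : IsPreimmersion (pullback.fst f' j) := MorphismProperty.pullback_fst _ _ inferInstance
    exact congrArg Prod.fst (GenIrredLib.counts_congr ((pullback.fst f' j).isEmbedding.toHomeomorph.trans
      ((Homeomorph.setCongr hrange).trans (f'.fiberι η).isEmbedding.toHomeomorph.symm)))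
  exact h2.trans ((encard_generic_le f' hred' η rfl).trans h1)


/-- Let k be a field, X and Y schemes of finite type over k and f : X → Y a k-morphism which is flat and
proper and whose fibres over the closed points of Y are geometrically reduced. For y in Y let N(y)
be the number of irreducible components of the geometric fibre of f at y (the base change of the
fibre to an algebraic closure of the residue field κ(y)). Then N is upper semicontinuous on Y: every
point y has a neighbourhood on which N ≤ N(y). -/
theorem result (k : Type u) [Field k]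
    (X Y : Scheme.{u}) [X.Over (Spec (CommRingCat.of k))] [Y.Over (Spec (CommRingCat.of k))]
    [LocallyOfFiniteType (X ↘ Spec (CommRingCat.of k))] [CompactSpace ↥X]
    [LocallyOfFiniteType (Y ↘ Spec (CommRingCat.of k))] [CompactSpace ↥Y]
    (f : X ⟶ Y) (hf : f ≫ (Y ↘ Spec (CommRingCat.of k)) = X ↘ Spec (CommRingCat.of k))
    [Flat f] [IsProper f]
    (hred : ∀ y : ↥Y, IsClosed ({y} : Set ↥Y) → GeometricallyReduced (f.fiberToSpecResidueField y)) :
    UpperSemicontinuous (fun y : ↥Y =>
      Nat.card ↥(irreducibleComponents (↥(pullback f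
        (Spec.map (CommRingCat.ofHom (algebraMap (Y.residueField y) (AlgebraicClosure (Y.residueField y)))) ≫
          Y.fromSpecResidueField y)) : Type u))) := by
  haveI : IsLocallyNoetherian Y := LocallyOfFiniteType.isLocallyNoetherian (Y ↘ Spec (CommRingCat.of k))
  haveI : JacobsonSpace ↥Y := LocallyOfFiniteType.jacobsonSpace (Y ↘ Spec (CommRingCat.of k))
  haveI : IsNoetherian Y := {}
  haveI : LocallyOfFinitePresentation f := LocallyOfFinitePresentation.iff_locallyOfFiniteType.2 inferInstance
  have hall : ∀ y : ↥Y, GeometricallyReduced (f.fiberToSpecResidueField y) := by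
    intro y
    by_contra hy
    obtain ⟨c, hc, hcc⟩ := SepPtsLib.nonempty_closedPoints_inter
      (NearGen.isLocallyConstructible_geometricallyReduced f).isConstructible.compl ⟨y, hy⟩
    exact hc (hred c hcc)
  have hN : ∀ y : ↥Y, Nat.card ↥(irreducibleComponents (↥(pullback f
        (Spec.map (CommRingCat.ofHom (algebraMap (Y.residueField y) (AlgebraicClosure (Y.residueField y)))) ≫
          Y.fromSpecResidueField y)) : Type u)) = (MoreMor.nGeomIrredComp f y).toNat ∧
      MoreMor.nGeomIrredComp f y ≠ ⊤ := by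
    intro y
    let σ := Spec.map (CommRingCat.ofHom (algebraMap (Y.residueField y) (AlgebraicClosure (Y.residueField y)))) ≫
      Y.fromSpecResidueField y
    have hσ : σ (IsLocalRing.closedPoint (AlgebraicClosure (Y.residueField y))) = y := by
      rw [Scheme.Hom.comp_apply]
      exact Y.fromSpecResidueField_apply _ _
    have e := congrArg Prod.fst (GenIrredLib.counts_eq_nGeom f (AlgebraicClosure (Y.residueField y)) σ y hσ)
    haveI : IsProper (pullback.snd f σ) := MorphismProperty.pullback_snd _ _ inferInstance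
    haveI : IsLocallyNoetherian (pullback f σ) := LocallyOfFiniteType.isLocallyNoetherian (pullback.snd f σ)
    haveI : CompactSpace ↥(pullback f σ) := QuasiCompact.compactSpace_of_compactSpace (pullback.snd f σ)
    haveI : IsNoetherian (pullback f σ) := {}
    have hfin := TopologicalSpace.NoetherianSpace.finite_irreducibleComponents (α := ↥(pullback f σ))
    refine ⟨?_, fun h => (Set.encard_ne_top_iff.2 hfin) (e.trans h)⟩
    exact congrArg ENat.toNat e
  intro y t ht
  have hy : (MoreMor.nGeomIrredComp f y).toNat < t := (hN y).1 ▸ ht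
  refine Filter.mem_of_superset (GenIrredLib.mem_nhds_of_generizations
    (GenIrredLib.isLocallyConstructible_nGeom f fun p => p.1 ≤ MoreMor.nGeomIrredComp f y)
    fun z hz => nGeom_le_of_specializes f hz (hall y)) fun z hz => ?_
  simp only [Set.mem_setOf_eq]
  rw [(hN z).1]
  exact lt_of_le_of_lt (ENat.toNat_le_toNat hz (hN y).2) hy

end Groth.Agent.S17652
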