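import Groth.Statements.S17653
import Groth.Agent.DimFormulaLib.Irreducible
import Groth.Agent.DimFormulaLib.FibrePoints
import Mathlib

set_option autoImplicit false
universe u
open CategoryTheory CategoryTheory.Limits AlgebraicGeometry TopologicalSpace
open Variety

namespace Groth.Agent.S17653

theorem h9_dim_subsingleton (α : Type u) [TopologicalSpace α] [Subsingleton α] : topologicalKrullDim α ≤ 0 := by
  unfold topologicalKrullDim
  rw [Order.krullDim_nonpos_iff_forall_isMax]
  intro a b _
  intro y _
  obtain ⟨z, hz⟩ := a.2.1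
  exact (Subsingleton.elim y z) ▸ hz

theorem h9_dim_le {Z W : Scheme.{u}} (f : Z ⟶ W) [LocallyOfFiniteType f] [IrreducibleSpace Z] [IrreducibleSpace W]
    [IsLocallyNoetherian W] (hf : DenseRange f) (z : Z) (U : Z.Opens) (hzU : z ∈ U) (hiso : ∀ w ∈ U, f w = f z → w = z) :
    topologicalKrullDim Z ≤ topologicalKrullDim W := by
  have h0 : FlatMor.fibreDimAt f z ≤ 0 := by
    rw [Groth.Agent.FibreDimEt.fibreDimAt_eq_localDim f z rfl]
    refine iInf_le_of_le ⟨⟨Subtype.val ⁻¹' (U : Set Z), U.2.preimage continuous_subtype_val⟩, hzU⟩ ?_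
    haveI : Subsingleton ↥(Subtype.val ⁻¹' (U : Set Z) : Set ↥(f ⁻¹' {f z})) :=
      ⟨fun a b => Subtype.ext (Subtype.ext ((hiso _ a.2 a.1.2).trans (hiso _ b.2 b.1.2).symm))⟩
    exact h9_dim_subsingleton _
  rw [Groth.Agent.DimFormulaLib.topologicalKrullDim_eq_iSup_stalk, Groth.Agent.DimFormulaLib.topologicalKrullDim_eq_iSup_stalk]
  refine iSup_le fun w => le_iSup_of_le (f w) ?_
  obtain ⟨a, b, d, t', n, ha, hb, -, -, -, -, hn, -, -, hle, -⟩ := Groth.Agent.DimFormulaLib.irreducible_dims f hf w
  obtain ⟨m, hm, -, hlow⟩ := Groth.Agent.DimFormulaLib.genericFibre_dim f hf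
  have hmn : m = n := by exact_mod_cast hm.symm.trans hn
  have hm0 : (m : WithBot ℕ∞) ≤ 0 := (hlow z).trans h0
  have hm0' : m = 0 := by simpa using hm0
  rw [ha, hb]
  exact_mod_cast (show a ≤ b by omega)

/-- Suppose X and Y are locally Noetherian schemes of the same pure dimension d (every irreducible
component of X and every irreducible component of Y has topological Krull dimension d), and π : X →
Y is a proper morphism between them. If there is a point x of X which is isolated in its fibre
π⁻¹(π(x)), i.e. some open neighbourhood of x meets that fibre only in x, then the image of π, with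
the subspace topology, has the same dimension as Y. -/
theorem result
    (X Y : Scheme.{u}) [IsLocallyNoetherian X] [IsLocallyNoetherian Y] (π : X ⟶ Y) [IsProper π]
    (d : WithBot ℕ∞) (hX : ∀ Z ∈ irreducibleComponents ↥X, topologicalKrullDim ↥Z = d)
    (hY : ∀ Z ∈ irreducibleComponents ↥Y, topologicalKrullDim ↥Z = d)
    (x : ↥X) (hx : ∃ U : X.Opens, x ∈ U ∧ ∀ x' ∈ U, π x' = π x → x' = x) :
    topologicalKrullDim ↥(Set.range (fun z : ↥X => π z)) = topologicalKrullDim ↥Y := by
  obtain ⟨U, hxU, hU⟩ := hx
  refine le_antisymm (topologicalKrullDim_subspace_le Y _) ?_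
  let Z := irreducibleComponent x
  let I := Scheme.IdealSheafData.vanishingIdeal ⟨Z, isClosed_irreducibleComponent⟩
  have hI : Set.range I.subschemeι = Z := by rw [Scheme.IdealSheafData.range_subschemeι, Scheme.IdealSheafData.coe_support_vanishingIdeal]; rfl
  let eZ := (I.subschemeι.isEmbedding.toHomeomorph).trans (Homeomorph.setCongr hI)
  haveI : IrreducibleSpace I.subscheme := by
    haveI : IrreducibleSpace Z := Subtype.irreducibleSpace isIrreducible_irreducibleComponent
    haveI : Nonempty I.subscheme := ⟨eZ.symm ⟨x, mem_irreducibleComponent⟩⟩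
    haveI : PreirreducibleSpace I.subscheme := ⟨by
      have h1 := ((IrreducibleSpace.isIrreducible_univ ↥Z).image eZ.symm eZ.symm.continuous.continuousOn).2
      rwa [Set.image_univ, eZ.symm.surjective.range_eq] at h1⟩
    exact ⟨inferInstance⟩
  obtain ⟨z, hz⟩ : x ∈ Set.range I.subschemeι := hI ▸ mem_irreducibleComponent
  let g := I.subschemeι ≫ π
  haveI : IsLocallyNoetherian g.image := LocallyOfFiniteType.isLocallyNoetherian g.imageι
  haveI : LocallyOfFiniteType (g.toImage ≫ g.imageι) := by rw [Scheme.Hom.toImage_imageι]; infer_instance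
  haveI : LocallyOfFiniteType g.toImage := locallyOfFiniteType_of_comp g.toImage g.imageι
  have hdense : DenseRange g.toImage := IsDominant.denseRange
  haveI : Nonempty g.image := ⟨g.toImage z⟩
  haveI : PreirreducibleSpace g.image := ⟨by
    have h1 := ((IrreducibleSpace.isIrreducible_univ ↥I.subscheme).image g.toImage g.toImage.continuous.continuousOn).closure.2
    rwa [Set.image_univ, hdense.closure_range] at h1⟩
  haveI : IrreducibleSpace g.image := ⟨inferInstance⟩
  have hle := h9_dim_le g.toImage hdense z (I.subschemeι ⁻¹ᵁ U) (show I.subschemeι z ∈ U from hz ▸ hxU) fun w hw hwz => by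
    have h1 : π (I.subschemeι w) = π x := by
      rw [← hz, ← Scheme.Hom.comp_apply, ← Scheme.Hom.comp_apply]
      show g w = g z
      rw [← g.toImage_imageι, Scheme.Hom.comp_apply, Scheme.Hom.comp_apply, hwz]
    exact I.subschemeι.isEmbedding.injective ((hU _ hw h1).trans hz.symm)
  have hsub : Set.range g.imageι ⊆ Set.range (fun z : ↥X => π z) := by
    rw [Scheme.IdealSheafData.range_subschemeι]
    refine (Scheme.Hom.support_ker g).le.trans ?_
    refine closure_minimal ?_ π.isClosedMap.isClosed_range
    rintro _ ⟨a, rfl⟩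
    exact ⟨I.subschemeι a, (Scheme.Hom.comp_apply _ _ a).symm⟩
  have h2 : topologicalKrullDim g.image ≤ topologicalKrullDim ↥(Set.range (fun z : ↥X => π z)) :=
    Topology.IsInducing.topologicalKrullDim_le (f := Set.codRestrict g.imageι _ fun a => hsub ⟨a, rfl⟩)
      (g.imageι.isEmbedding.codRestrict _ _).isInducing
  have hd : topologicalKrullDim ↥I.subscheme = d := by
    rw [eZ.isHomeomorph.topologicalKrullDim_eq]
    exact hX Z (irreducibleComponent_mem_irreducibleComponents x)
  have hYd : topologicalKrullDim ↥Y ≤ d := by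
    refine iSup_le fun s => ?_
    obtain ⟨T, hTp, hT, hTmax⟩ := exists_preirreducible (s.last : Set Y) s.last.2.2
    have hTc : T ∈ irreducibleComponents Y := by
      refine ⟨⟨s.last.2.1.mono hT, hTp⟩, fun V hV hle => (hTmax V hV.2 hle).le⟩
    have hclosed := isClosed_of_mem_irreducibleComponents T hTc
    have hsub : ∀ i, (s i : Set Y) ⊆ T := fun i => fun a ha => hT ((s.monotone (Fin.le_last i) : s i ≤ s.last) ha)
    let g : Fin (s.length + 1) → TopologicalSpace.IrreducibleCloseds T := fun i => ⟨Subtype.val ⁻¹' (s i : Set Y),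
          ⟨(by obtain ⟨a, ha⟩ := (s i).2.1; exact ⟨⟨a, hsub i ha⟩, ha⟩),
            by
              intro A B hA hB hAs hBs
              obtain ⟨A', hA', rfl⟩ := isOpen_induced_iff.1 hA
              obtain ⟨B', hB', rfl⟩ := isOpen_induced_iff.1 hB
              obtain ⟨a, ha, ha'⟩ := hAs
              obtain ⟨b, hb, hb'⟩ := hBs
              obtain ⟨c, hc, hc'⟩ := (s i).2.2 A' B' hA' hB' ⟨a.1, ha, ha'⟩ ⟨b.1, hb, hb'⟩
              exact ⟨⟨c, hsub i hc⟩, hc, hc'⟩⟩,
          (s i).3.preimage continuous_subtype_val⟩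
    have hg : ∀ i : Fin s.length, g i.castSucc < g i.succ := fun i => by
      have hst : s i.castSucc < s i.succ := s.step i
      refine lt_of_le_not_ge ?_ ?_
      · intro a ha; exact hst.le ha
      intro hge
      refine hst.not_ge ?_
      intro a ha
      exact hge (show (⟨a, hsub _ ha⟩ : T) ∈ (g i.succ : Set T) from ha)
    exact (le_iSup_of_le (⟨s.length, g, hg⟩ : LTSeries (TopologicalSpace.IrreducibleCloseds T)) le_rfl).trans (hY T hTc).le
  exact hYd.trans (hd.symm.le.trans (hle.trans h2))

end Groth.Agent.S17653
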