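import Groth.Statements.S17654
import Groth.Agent.SubAdjLib.TreeBundle
import Groth.Agent.SubAdjLib.GorOmega

set_option autoImplicit false
universe u
open CategoryTheory CategoryTheory.Limits AlgebraicGeometry TopologicalSpace
attribute [local instance] HasDerivedCategory.standard
open Curves

namespace Groth.Agent.S17654

open CategoryTheory CategoryTheory.Limits AlgebraicGeometry

set_option backward.isDefEq.respectTransparency false
set_option backward.isDefEq.respectTransparency.types false
set_option linter.style.haveILetI false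
set_option maxHeartbeats 1000000
set_option maxRecDepth 2000
open Groth.Agent.SubAdjLib Groth.Agent.CliffCurveLib Groth.Agent.DCohLib Groth.Agent.CurveLib Groth.Agent.H1ZeroLib Groth.Agent.PullbackMod
attribute [local instance] HasDerivedCategory.standard

/-- A nonzero first cohomology of `E ⊗ ω` gives a nonzero functional on `E`. -/
theorem exists_functional (k : Type u) [Field k] {X : Scheme.{u}} [X.Over (Spec (CommRingCat.of k))]
    {ω : X.Modules} (hω : PicF.IsInvertible ω) {tr : Coh.HH X ω 1 →ₗ[k] k}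
    (h : Canon.IsRDualOver k X 1 ω tr) (E : X.Modules) [Coh.IsQCoh E] (hne : ¬ Subsingleton (Coh.HH X (tmod E ω) 1)) :
    ∃ σ : E ⟶ Coh.structureModule X, σ ≠ 0 := by
  haveI : Coh.IsQCoh ω := h.1
  haveI : Coh.IsQCoh (tmod E ω) := BCLib.isQCoh_tmod E ω
  haveI := not_subsingleton_iff_nontrivial.1 hne
  obtain ⟨v, hv⟩ := exists_ne (0 : Coh.HH X (tmod E ω) 1)
  obtain ⟨φ, hφ⟩ : ∃ φ : Module.Dual k (Coh.HH X (tmod E ω) 1), φ v ≠ 0 := by
    by_contra hc
    push Not at hc
    haveI : Module.Projective k (Coh.HH X (tmod E ω) 1) := Module.Projective.of_basis (Module.Basis.ofVectorSpace k _)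
    exact hv ((Module.forall_dual_apply_eq_zero_iff k v).1 hc)
  obtain ⟨f, hf⟩ := (h.2 _ (inferInstance : Coh.IsQCoh (tmod E ω))).2 φ
  obtain ⟨L', hL', ⟨eL⟩⟩ := AmpleEmb.exists_isInverseOf hω
  let a : E ≅ tmod (tmod E ω) L' := (AmpleLib.unitR E).symm ≪≫ AmpleLib.tIso (Iso.refl E) eL.symm ≪≫ (AmpleLib.assoc E ω L').symm
  refine ⟨a.hom ≫ tmap f L' ≫ eL.hom, fun hσ => hφ ?_⟩
  have h0 : f = 0 := TreeBundle.eq_zero_of_tmap hL' f (by
    rw [← cancel_mono eL.hom, ← cancel_epi a.hom, hσ, zero_comp, comp_zero])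
  have hz := TwistShriek.dualityMap_add k (tr := tr) (tmod E ω) (0 : tmod E ω ⟶ ω) 0
  rw [add_zero] at hz
  rw [← hf, h0, left_eq_add.1 hz]
  rfl

/-- Without first cohomology of `E ⊗ ω`, a globally generated `E` has no nonzero functional. -/
theorem functional_eq_zero (k : Type u) [Field k] [IsAlgClosed k] {X : Scheme.{u}} [X.Over (Spec (CommRingCat.of k))]
    [IsProper (X ↘ Spec (CommRingCat.of k))] [IsReduced X] [ConnectedSpace X] (hdim : topologicalKrullDim X = 1)
    {ω : X.Modules} {tr : Coh.HH X ω 1 →ₗ[k] k} (h : Canon.IsRDualOver k X 1 ω tr) {E : X.Modules} [Coh.IsQCoh E]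
    (hgg : Curv2.IsGloballyGenerated E) (hvan : Subsingleton (Coh.HH X (tmod E ω) 1)) (τ : E ⟶ Coh.structureModule X) :
    τ = 0 := by
  by_contra hτ
  obtain ⟨s, hs⟩ := TreeBundle.exists_split (k := k) hgg τ hτ
  haveI : Coh.IsQCoh ω := h.1
  have hu : tmap τ ω ≫ (tmodUnit ω).hom = 0 :=
    TwistShriek.hom_eq_zero_of_subsingleton_HH k h _ (BCLib.isQCoh_tmod E ω) _
  refine TreeBundle.dual_ne_zero (k := k) hdim h ?_
  haveI := hs
  haveI : IsIso (tmap (s ≫ τ) ω) := by
    show IsIso (((DCoh.tensorBi (X := X)).map (s ≫ τ)).app ω)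
    infer_instance
  haveI : IsIso (tmap (s ≫ τ) ω ≫ (tmodUnit ω).hom) := inferInstance
  have h0 : tmap (s ≫ τ) ω ≫ (tmodUnit ω).hom = 0 := by
    rw [H1ZeroLib.tmap_comp' s τ ω, Category.assoc, hu, comp_zero]
  rw [← cancel_epi (tmap (s ≫ τ) ω ≫ (tmodUnit ω).hom), Category.comp_id, comp_zero]
  exact h0

/-- Let k be an algebraically closed field and B a connected scheme, proper over k, of dimension one,
with at-worst-nodal singularities and H^1(B, O_B) = 0. Write ω_B for the dualizing module of B over
k, the cohomology sheaf in degree −1 of the upper-shriek pull-back of O_{Spec k} (the existence of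
the upper-shriek functor is assumed), and similarly for closed subschemes of B. A locally free E on
such a curve is called deformation ample when it is generated by global sections and H^1(E ⊗ ω) = 0.
Let E be a finite locally free O_B-module such that (1) for every irreducible component Z of B,
taken with its reduced structure, E|_Z is generated by global sections, and (2) for some connected
reduced closed subscheme B' of B whose support is a union of irreducible components of B, the
restriction E|_{B'} is deformation ample on B'. Then E is deformation ample: E is generated by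
global sections and H^1(B, E ⊗ ω_B) = 0. (The source works over the complex numbers and with E of
positive rank; the proof is unchanged over any algebraically closed field, and rank zero is
trivially allowed.) -/
theorem result (k : Type u) [Field k] [IsAlgClosed k]
    (B : Scheme.{u}) [B.Over (Spec (CommRingCat.of k))] [IsProper (B ↘ Spec (CommRingCat.of k))]
    [ConnectedSpace ↥B] (hdim : topologicalKrullDim ↥B = 1) (hnod : Curv2.AtWorstNodal k B)
    (hg : Subsingleton (Coh.HH B (Coh.structureModule B) 1))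
    [DCoh.HasRpush (B ↘ Spec (CommRingCat.of k))] (h : DCoh.RpushPreservesQCoh (B ↘ Spec (CommRingCat.of k))) [DCoh.HasShriek (B ↘ Spec (CommRingCat.of k)) h]
    (OY : DCoh.DQCoh (Spec (CommRingCat.of k))) (hOY : Nonempty (OY.obj ≅ DCoh.inD (Spec (CommRingCat.of k)) (Coh.structureModule (Spec (CommRingCat.of k)))))
    (E : B.Modules) (hE : FlatMod.IsFinLocFree E)
    (hcomp : ∀ Z : B.IdealSheafData, IsIntegral Z.subscheme → topologicalKrullDim (Z.support : Set ↥B) = 1 →
      Curv2.IsGloballyGenerated ((Scheme.Modules.pullback Z.subschemeι).obj E))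
    (B' : B.IdealSheafData) [ConnectedSpace ↥B'.subscheme] [AlgebraicGeometry.IsReduced B'.subscheme]
    (hunion : ∀ x ∈ (B'.support : Set ↥B), ∃ Z : B.IdealSheafData, IsIntegral Z.subscheme ∧
      topologicalKrullDim (Z.support : Set ↥B) = 1 ∧ (Z.support : Set ↥B) ⊆ B'.support ∧ x ∈ (Z.support : Set ↥B))
    [DCoh.HasRpush (B'.subschemeι ≫ (B ↘ Spec (CommRingCat.of k)))] (h' : DCoh.RpushPreservesQCoh (B'.subschemeι ≫ (B ↘ Spec (CommRingCat.of k))))
    [DCoh.HasShriek (B'.subschemeι ≫ (B ↘ Spec (CommRingCat.of k))) h']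
    (hgg' : Curv2.IsGloballyGenerated ((Scheme.Modules.pullback B'.subschemeι).obj E))
    (hvan' : Subsingleton (Coh.HH B'.subscheme (CohB1.tensorMod ((Scheme.Modules.pullback B'.subschemeι).obj E)
      (DCoh.dualizingMod (B'.subschemeι ≫ (B ↘ Spec (CommRingCat.of k))) h' OY 1)) 1)) :
    Curv2.IsGloballyGenerated E ∧
      Subsingleton (Coh.HH B (CohB1.tensorMod E (DCoh.dualizingMod (B ↘ Spec (CommRingCat.of k)) h OY 1)) 1) := by
  haveI := EulerIneqLib.isNoetherian_proper (X := B) k
  haveI := NodePtLib.isReduced_of_atWorstNodal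
    (fun _ hZ => TwistShriek.dim_irreducibleComponent k hdim hZ) hnod
  have hg0 : Curv2.genus k B = 0 := Module.finrank_zero_of_subsingleton
  refine ⟨?_, ?_⟩
  · obtain ⟨n, σ, hσ⟩ := TreeBundle.gen_of_components (k := k) hdim.le hg0 hE hcomp ⊤ (isSub_top hdim)
    let e₀ : LJ (vI (⊤ : TopologicalSpace.Closeds B)) E ≅ E := eqToIso (congrArg (fun J => LJ J E) (vI_top (X := B))) ≪≫ ljBot E
    refine AmpleLib.isGloballyGenerated_of_mem E fun x z => ?_
    obtain ⟨z, rfl⟩ := ((isIso_iff_stalk e₀.hom).1 inferInstance x).2 z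
    have hz : z ∈ ⨆ i, LinearMap.range (stalkLin (σ i) x) := by
      rw [hσ x (mem_support_vI.2 trivial)]; trivial
    induction hz using Submodule.iSup_induction' with
    | zero => rw [map_zero]; exact zero_mem _
    | add a b _ _ ha hb => rw [map_add]; exact add_mem ha hb
    | mem i a ha =>
      obtain ⟨w, rfl⟩ := ha
      obtain ⟨r, rfl⟩ := (ParaFLib.bijective_oneG x).2 w
      rw [map_smul, map_smul]
      refine Submodule.smul_mem _ _ (Submodule.subset_span ⟨AmpleLib.sec (σ i ≫ e₀.hom), ?_⟩)
      rw [← LinearMap.comp_apply, ← stalkLin_comp]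
      exact (stalkLin_germ (σ i ≫ e₀.hom) (U := ⊤) x trivial (1 : Γ(B, ⊤))).symm
  · by_contra hne
    have hd1 : topologicalKrullDim B ≤ ((1 : ℕ) : WithBot ℕ∞) := by rw [hdim]; exact le_of_eq Nat.cast_one.symm
    obtain ⟨tr, htr, -, -⟩ := TwistShriek.exists_pair_dualizingMod k B h OY hOY hd1
    haveI : Coh.IsQCoh E := (PullbackMod.isQCoh_and_isFP_of_isFinLocFree E hE).1
    obtain ⟨σ, hσ⟩ := exists_functional k (isInvertible_dualizingMod_nodal h OY hOY hdim hnod) htr E hne
    letI : B'.subscheme.Over (Spec (CommRingCat.of k)) := ⟨B'.subschemeι ≫ (B ↘ Spec (CommRingCat.of k))⟩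
    haveI : IsProper (B'.subscheme ↘ Spec (CommRingCat.of k)) :=
      inferInstanceAs (IsProper (B'.subschemeι ≫ (B ↘ Spec (CommRingCat.of k))))
    obtain ⟨w⟩ : Nonempty B'.subscheme := inferInstance
    have hw : B'.subschemeι w ∈ (B'.support : Set B) := by
      rw [← Scheme.IdealSheafData.range_subschemeι]; exact Set.mem_range_self w
    obtain ⟨Z, -, hZd, hZs, -⟩ := hunion _ hw
    have hd' : topologicalKrullDim B'.subscheme = topologicalKrullDim (B'.support : Set B) :=
      (B'.subschemeι.isClosedEmbedding.isEmbedding.toHomeomorph.trans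
        (Homeomorph.setCongr B'.range_subschemeι)).isHomeomorph.topologicalKrullDim_eq
    have hdim' : topologicalKrullDim B'.subscheme = 1 := by
      refine le_antisymm (hd'.trans_le ((topologicalKrullDim_subspace_le B _).trans hdim.le)) ?_
      rw [hd', ← hZd]
      exact (Topology.IsEmbedding.inclusion hZs).isInducing.topologicalKrullDim_le
    haveI i1 : DCoh.HasRpush (B'.subscheme ↘ Spec (CommRingCat.of k)) :=
      ‹DCoh.HasRpush (B'.subschemeι ≫ (B ↘ Spec (CommRingCat.of k)))›
    haveI i2 : DCoh.HasShriek (B'.subscheme ↘ Spec (CommRingCat.of k)) h' :=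
      ‹DCoh.HasShriek (B'.subschemeι ≫ (B ↘ Spec (CommRingCat.of k))) h'›
    obtain ⟨tr', htr', -, -⟩ := TwistShriek.exists_pair_dualizingMod k B'.subscheme h' OY hOY
      (by rw [hdim']; exact le_of_eq Nat.cast_one.symm)
    haveI : Coh.IsQCoh ((Scheme.Modules.pullback B'.subschemeι).obj E) :=
      (PullbackMod.isQCoh_and_isFP_of_isFinLocFree _ (PullbackMod.isFinLocFree_pullback _ E hE)).1
    refine hσ (TreeBundle.eq_zero_of_vanish (k := k) hdim hcomp σ B' ⟨_, hw⟩
      ((cancel_mono (DCohLib.pullStructureIso B'.subschemeι).hom).1 ?_))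
    rw [zero_comp]
    exact functional_eq_zero k hdim' htr' hgg' hvan' _

end Groth.Agent.S17654
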