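import Groth.Statements.S17655
import Groth.Agent.DefAmpleLib.Main

set_option autoImplicit false
universe u
open CategoryTheory CategoryTheory.Limits AlgebraicGeometry TopologicalSpace
attribute [local instance] HasDerivedCategory.standard
open Curves

namespace Groth.Agent.S17655

open CategoryTheory CategoryTheory.Limits AlgebraicGeometry

set_option backward.isDefEq.respectTransparency false
set_option backward.defeqAttrib.useBackward true
set_option linter.style.haveILetI false

open Groth.Agent Groth.Agent.PullbackMod Groth.Agent.DCohLib Groth.Agent.CurveLib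


/-- Let k be an algebraically closed field and B a connected scheme, proper over k, of dimension one,
with at-worst-nodal singularities and H^1(B, O_B) = 0, and let ω_B be its dualizing module over k
(the cohomology sheaf in degree −1 of the upper-shriek pull-back of O_{Spec k}; the existence of the
upper-shriek functor is assumed). Call a finite locally free O_B-module deformation ample when it is
generated by global sections and H^1(B, E ⊗ ω_B) = 0. If φ : E₁ → E₂ is a morphism of finite locally
free O_B-modules whose cokernel is a torsion module (every point of its support is closed) and E₁ is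
deformation ample, then E₂ is deformation ample. (The source states this for a family of prestable
genus-zero curves over an arbitrary base T, with relative global generation and R^1 of the direct
image in place of global generation and H^1; this is the case T = Spec k of a field base, the
general case needing relative duality not available here. The source also assumes the sheaves
nonzero (positive rank), which the conclusion does not need.) -/
theorem result (k : Type u) [Field k] [IsAlgClosed k]
    (B : Scheme.{u}) [B.Over (Spec (CommRingCat.of k))] [IsProper (B ↘ Spec (CommRingCat.of k))]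
    [ConnectedSpace ↥B] (hdim : topologicalKrullDim ↥B = 1) (hnod : Curv2.AtWorstNodal k B)
    (hg : Subsingleton (Coh.HH B (Coh.structureModule B) 1))
    [DCoh.HasRpush (B ↘ Spec (CommRingCat.of k))] (h : DCoh.RpushPreservesQCoh (B ↘ Spec (CommRingCat.of k))) [DCoh.HasShriek (B ↘ Spec (CommRingCat.of k)) h]
    (OY : DCoh.DQCoh (Spec (CommRingCat.of k))) (hOY : Nonempty (OY.obj ≅ DCoh.inD (Spec (CommRingCat.of k)) (Coh.structureModule (Spec (CommRingCat.of k)))))
    (E₁ E₂ : B.Modules) (hE₁ : FlatMod.IsFinLocFree E₁) (hE₂ : FlatMod.IsFinLocFree E₂) (φ : E₁ ⟶ E₂)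
    (htors : ∀ x ∈ CohB1.support (cokernel φ), IsClosed ({x} : Set ↥B))
    (h₁ : (Curv2.IsGloballyGenerated E₁ ∧ Subsingleton (Coh.HH B (CohB1.tensorMod E₁ (DCoh.dualizingMod (B ↘ Spec (CommRingCat.of k)) h OY 1)) 1))) :
    (Curv2.IsGloballyGenerated E₂ ∧ Subsingleton (Coh.HH B (CohB1.tensorMod E₂ (DCoh.dualizingMod (B ↘ Spec (CommRingCat.of k)) h OY 1)) 1)) := by
  haveI := hg
  haveI := EulerIneqLib.isNoetherian_proper (X := B) k
  obtain ⟨hgg, hω⟩ := h₁
  haveI : Subsingleton (Coh.HH B ((CurveLib.tensR (DCoh.dualizingMod (B ↘ Spec (CommRingCat.of k)) h OY 1)).obj E₁) 1) := hω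
  have hc₁ := CurveLib.isCoh_of_isFinLocFree hE₁
  haveI hH := H1ZeroLib.subsingleton_H1_of_isGloballyGenerated (k := k) hdim.le hc₁ hgg
  set C := CohB1.support (cokernel φ) with hC
  have hQ := (QCohLib.isCoh_kernel_cokernel φ hc₁ (CurveLib.isCoh_of_isFinLocFree hE₂)).2
  have hCc : IsClosed C := DevLib.isClosed_support hQ
  haveI : T1Space ↥C := ⟨fun x => by
    have h : ({x} : Set ↥C) = Subtype.val ⁻¹' {x.1} := by ext y; simp [Subtype.ext_iff]
    exact h ▸ (htors x.1 x.2).preimage continuous_subtype_val⟩
  have hd : topologicalKrullDim ↥C ≤ 0 := by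
    haveI : QuasiSober ↥C := hCc.isClosedEmbedding_subtypeVal.quasiSober
    refine Order.krullDim_nonpos_iff_forall_isMax.2 fun Z Z' hle => ?_
    obtain ⟨a, ha⟩ := QuasiSober.sober Z'.isIrreducible Z'.isClosed
    have hZ' : (Z' : Set ↥C) = {a} := by rw [← (IsGenericPoint.def ha), closure_singleton]
    obtain ⟨b, hb⟩ := Z.isIrreducible.nonempty
    have hba : b = a := by have h := hle hb; rw [← SetLike.mem_coe, hZ'] at h; exact h
    intro w hw
    rw [← SetLike.mem_coe, hZ', Set.mem_singleton_iff] at hw
    rw [hw, ← hba]
    exact hb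
  have hπ : ∀ x, Function.Surjective (stalkLin (cokernel.π φ) x) := (epi_iff_stalk _).1 inferInstance
  have hex : ∀ (x : B) (z : E₂.presheaf.stalk x), stalkLin (cokernel.π φ) x z = 0 →
      z ∈ LinearMap.range (stalkLin φ x) := fun x z hz => by
    obtain ⟨w, hw⟩ := (DevLib.stalk_exact (H1ZeroLib.kerSeq_shortExact (cokernel.π φ) hπ) x z).1 hz
    obtain ⟨v, rfl⟩ := (epi_iff_stalk (Abelian.factorThruImage φ)).1 inferInstance x w
    refine ⟨v, ?_⟩
    rw [← hw]
    show stalkLin φ x v = stalkLin (kernel.ι (cokernel.π φ)) x (stalkLin (Abelian.factorThruImage φ) x v)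
    rw [← LinearMap.comp_apply, ← stalkLin_comp]
    exact congrArg (fun f => stalkLin f x v) (Abelian.image.fac φ).symm
  have hsur : ∀ x, x ∉ C → Function.Surjective (stalkLin φ x) := fun x hx z =>
    hex x z (@Subsingleton.elim _ (not_not.1 hx) _ _)
  refine ⟨DefAmple.spans_iff.1 ?_, DefAmple.subsingleton_H1_tensor (k := k) _ φ hCc hd hdim.le hsur⟩
  haveI : Subsingleton (Coh.HH B (kernel (cokernel.π φ)) 1) :=
    H1ZeroLib.subsingleton_H1_of_surjective (k := k) hdim.le (Abelian.factorThruImage φ)
      ((epi_iff_stalk _).1 inferInstance)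
  exact DefAmple.spans_of_lift (k := k) φ (cokernel.π φ) hex hπ
    (DefAmple.spans_iff.2 hgg) (DefAmple.spans_iff.2 (CurveLib.isGloballyGenerated hCc hd (cokernel φ) subset_rfl))

end Groth.Agent.S17655
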