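import Groth.Statements.S17656
import Groth.Agent.DefAmpleLib.Main

set_option autoImplicit false
universe u
open CategoryTheory CategoryTheory.Limits AlgebraicGeometry TopologicalSpace
attribute [local instance] HasDerivedCategory.standard
open Curves

namespace Groth.Agent.S17656

open CategoryTheory CategoryTheory.Limits AlgebraicGeometry

set_option backward.isDefEq.respectTransparency false
set_option backward.defeqAttrib.useBackward true
set_option linter.style.haveILetI false

open Groth.Agent Groth.Agent.PullbackMod Groth.Agent.DCohLib Groth.Agent.CurveLib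


/-- Let k be an algebraically closed field and B a connected scheme, proper over k, of dimension one,
with at-worst-nodal singularities and H^1(B, O_B) = 0, and let ω_B be its dualizing module over k
(the cohomology sheaf in degree −1 of the upper-shriek pull-back of O_{Spec k}; the existence of the
upper-shriek functor is assumed). Call a finite locally free O_B-module deformation ample when it is
generated by global sections and H^1(B, E ⊗ ω_B) = 0. If 0 → E₁ → E₂ → E₃ → 0 is a short exact
sequence of finite locally free O_B-modules with E₁ and E₃ deformation ample, then E₂ is deformation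
ample. (The source states this for a family of prestable genus-zero curves over an arbitrary base T,
with relative global generation and R^1 of the direct image in place of global generation and H^1;
this is the case T = Spec k of a field base, the general case needing relative duality not available
here. The source also assumes the sheaves nonzero (positive rank), which the conclusion does not
need.) -/
theorem result (k : Type u) [Field k] [IsAlgClosed k]
    (B : Scheme.{u}) [B.Over (Spec (CommRingCat.of k))] [IsProper (B ↘ Spec (CommRingCat.of k))]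
    [ConnectedSpace ↥B] (hdim : topologicalKrullDim ↥B = 1) (hnod : Curv2.AtWorstNodal k B)
    (hg : Subsingleton (Coh.HH B (Coh.structureModule B) 1))
    [DCoh.HasRpush (B ↘ Spec (CommRingCat.of k))] (h : DCoh.RpushPreservesQCoh (B ↘ Spec (CommRingCat.of k))) [DCoh.HasShriek (B ↘ Spec (CommRingCat.of k)) h]
    (OY : DCoh.DQCoh (Spec (CommRingCat.of k))) (hOY : Nonempty (OY.obj ≅ DCoh.inD (Spec (CommRingCat.of k)) (Coh.structureModule (Spec (CommRingCat.of k)))))
    (S : ShortComplex B.Modules) (hS : S.ShortExact)
    (hE₁ : FlatMod.IsFinLocFree S.X₁) (hE₂ : FlatMod.IsFinLocFree S.X₂) (hE₃ : FlatMod.IsFinLocFree S.X₃)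
    (h₁ : (Curv2.IsGloballyGenerated S.X₁ ∧ Subsingleton (Coh.HH B (CohB1.tensorMod S.X₁ (DCoh.dualizingMod (B ↘ Spec (CommRingCat.of k)) h OY 1)) 1))) (h₃ : (Curv2.IsGloballyGenerated S.X₃ ∧ Subsingleton (Coh.HH B (CohB1.tensorMod S.X₃ (DCoh.dualizingMod (B ↘ Spec (CommRingCat.of k)) h OY 1)) 1))) :
    (Curv2.IsGloballyGenerated S.X₂ ∧ Subsingleton (Coh.HH B (CohB1.tensorMod S.X₂ (DCoh.dualizingMod (B ↘ Spec (CommRingCat.of k)) h OY 1)) 1)) := by
  haveI := hg
  haveI := EulerIneqLib.isNoetherian_proper (X := B) k
  obtain ⟨hg₁, hω₁⟩ := h₁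
  obtain ⟨hg₃, hω₃⟩ := h₃
  haveI := hω₁
  haveI := hω₃
  haveI := H1ZeroLib.subsingleton_H1_of_isGloballyGenerated (k := k) hdim.le (CurveLib.isCoh_of_isFinLocFree hE₁) hg₁
  haveI := hS.mono_f
  haveI := hS.epi_g
  haveI : Epi (kernel.lift S.g S.f S.zero) := hS.exact.epi_kernelLift
  haveI : Subsingleton (Coh.HH B (kernel S.g) 1) :=
    H1ZeroLib.subsingleton_H1_of_surjective (k := k) hdim.le (kernel.lift S.g S.f S.zero)
      ((epi_iff_stalk _).1 inferInstance)
  refine ⟨DefAmple.spans_iff.1 (DefAmple.spans_of_lift (k := k) S.f S.g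
    (fun x z hz => (DevLib.stalk_exact hS x z).1 hz) ((epi_iff_stalk S.g).1 inferInstance)
    (DefAmple.spans_iff.2 hg₁) (DefAmple.spans_iff.2 hg₃)), ?_⟩
  generalize DCoh.dualizingMod (B ↘ Spec (CommRingCat.of k)) h OY 1 = W at hω₁ hω₃
  let T := CurveLib.tensR W
  have hex : (S.map T).Exact := hS.exact.map_of_epi_of_preservesCokernel T hS.epi_g inferInstance
  haveI : Epi (kernel.lift (S.map T).g (S.map T).f (S.map T).zero) := hex.epi_kernelLift
  haveI : Epi (S.map T).g := inferInstanceAs (Epi (T.map S.g))
  haveI hA : Subsingleton (Coh.HH B (S.map T).X₁ 1) := hω₁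
  haveI hB : Subsingleton (Coh.HH B (S.map T).X₃ 1) := hω₃
  haveI : Subsingleton (Coh.HH B (kernel (S.map T).g) 1) :=
    H1ZeroLib.subsingleton_H1_of_surjective (k := k) hdim.le (kernel.lift (S.map T).g (S.map T).f (S.map T).zero)
      ((epi_iff_stalk _).1 inferInstance)
  exact @CurveLib.subsingleton_mid B (H1ZeroLib.kerSeq (S.map T).g)
    (H1ZeroLib.kerSeq_shortExact _ ((epi_iff_stalk _).1 inferInstance)) 1 this hB

end Groth.Agent.S17656
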