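import Groth.Statements.S17657
import Groth.Agent.DefAmpleLib.Main

set_option autoImplicit false
universe u
open CategoryTheory CategoryTheory.Limits AlgebraicGeometry TopologicalSpace
attribute [local instance] HasDerivedCategory.standard
open Curves

namespace Groth.Agent.S17657

open CategoryTheory CategoryTheory.Limits AlgebraicGeometry

set_option backward.isDefEq.respectTransparency false
set_option backward.defeqAttrib.useBackward true
set_option linter.style.haveILetI false

open scoped TensorProduct
open Groth.Agent Groth.Agent.PullbackMod Groth.Agent.DCohLib Groth.Agent.CurveLib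


/-- Let k be an algebraically closed field and B a connected scheme, proper over k, of dimension one,
with at-worst-nodal singularities and H^1(B, O_B) = 0, and let ω_B be its dualizing module over k
(the cohomology sheaf in degree −1 of the upper-shriek pull-back of O_{Spec k}; the existence of the
upper-shriek functor is assumed). Call a finite locally free O_B-module deformation ample when it is
generated by global sections and H^1(B, E ⊗ ω_B) = 0. If E is a deformation ample finite locally
free O_B-module then every tensor power E^{⊗ n} with n ≥ 1 is deformation ample. (The source states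
this for a family of prestable genus-zero curves over an arbitrary base T, with relative global
generation and R^1 of the direct image in place of global generation and H^1; this is the case T =
Spec k of a field base, the general case needing relative duality not available here. The source
also assumes the sheaves nonzero (positive rank), which the conclusion does not need.) -/
theorem result (k : Type u) [Field k] [IsAlgClosed k]
    (B : Scheme.{u}) [B.Over (Spec (CommRingCat.of k))] [IsProper (B ↘ Spec (CommRingCat.of k))]
    [ConnectedSpace ↥B] (hdim : topologicalKrullDim ↥B = 1) (hnod : Curv2.AtWorstNodal k B)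
    (hg : Subsingleton (Coh.HH B (Coh.structureModule B) 1))
    [DCoh.HasRpush (B ↘ Spec (CommRingCat.of k))] (h : DCoh.RpushPreservesQCoh (B ↘ Spec (CommRingCat.of k))) [DCoh.HasShriek (B ↘ Spec (CommRingCat.of k)) h]
    (OY : DCoh.DQCoh (Spec (CommRingCat.of k))) (hOY : Nonempty (OY.obj ≅ DCoh.inD (Spec (CommRingCat.of k)) (Coh.structureModule (Spec (CommRingCat.of k)))))
    (E : B.Modules) (hE : FlatMod.IsFinLocFree E) (h₁ : (Curv2.IsGloballyGenerated E ∧ Subsingleton (Coh.HH B (CohB1.tensorMod E (DCoh.dualizingMod (B ↘ Spec (CommRingCat.of k)) h OY 1)) 1))) (n : ℕ) (hn : 1 ≤ n) :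
    (Curv2.IsGloballyGenerated (CohB1.tensorPow E n) ∧ Subsingleton (Coh.HH B (CohB1.tensorMod (CohB1.tensorPow E n) (DCoh.dualizingMod (B ↘ Spec (CommRingCat.of k)) h OY 1)) 1)) := by
  haveI := hg
  haveI := EulerIneqLib.isNoetherian_proper (X := B) k
  obtain ⟨hgg, hω⟩ := h₁
  obtain ⟨m, rfl⟩ : ∃ m, n = m + 1 := ⟨n - 1, by omega⟩
  have hsp : ∀ j, DefAmple.Spans (CohB1.tensorPow E j) := fun j => by
    induction j with
    | zero =>
      intro x
      refine eq_top_iff.2 fun z _ => Submodule.mem_iSup_of_mem (𝟙 _) ?_
      exact ⟨z, by rw [stalkLin_id]; rfl⟩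
    | succ j ih => exact DefAmple.spans_tensor ih (DefAmple.spans_iff.2 hgg)
  refine ⟨DefAmple.spans_iff.1 (hsp _), ?_⟩
  generalize DCoh.dualizingMod (B ↘ Spec (CommRingCat.of k)) h OY 1 = W at hω
  haveI : Subsingleton (Coh.HH B ((CurveLib.tensR W).obj E) 1) := hω
  have hc : Coh.IsCoh (CohB1.tensorPow E m) := by
    clear hsp hn
    induction m with
    | zero => exact DevLib.isCoh_structureModule B
    | succ m ih => exact CurveLib.isCoh_tmod ih (CurveLib.isCoh_of_isFinLocFree hE)
  obtain ⟨r, σ, hσ⟩ := H1ZeroLib.exists_fin_sections (k := k) hc (DefAmple.spans_iff.1 (hsp m))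
  refine H1ZeroLib.subsingleton_H1_of_jointly (k := k) hdim.le (N := (CurveLib.tensR W).obj E) r
    ((CurveLib.tensR W).obj ((CurveLib.tensR E).obj (CohB1.tensorPow E m)))
    (fun i => (CurveLib.tensR W).map (DefAmple.mulBy E (σ i))) fun x => ?_
  refine eq_top_iff.2 fun z _ => ?_
  obtain ⟨w, rfl⟩ := (stalkTensor x _ W).surjective z
  induction w using TensorProduct.induction_on with
  | zero => rw [map_zero]; exact zero_mem _
  | add a b ha hb => rw [map_add]; exact add_mem (ha trivial) (hb trivial)
  | tmul a b =>
    have hle : (⨆ i, LinearMap.range (stalkLin (DefAmple.mulBy E (σ i)) x)) ≤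
        (⨆ i, LinearMap.range (stalkLin ((CurveLib.tensR W).map (DefAmple.mulBy E (σ i))) x)).comap
          ((stalkTensor x _ W).toLinearMap ∘ₗ (TensorProduct.mk (B.presheaf.stalk x) _ _).flip b) := by
      refine iSup_le fun i => ?_
      rintro _ ⟨v, rfl⟩
      exact Submodule.mem_iSup_of_mem i
        ⟨stalkTensor x E W (v ⊗ₜ b), stalkTensor_natural_left x (DefAmple.mulBy E (σ i)) (v ⊗ₜ b)⟩
    exact hle ((DefAmple.iSup_range_mulBy E σ x (hσ x)).ge Submodule.mem_top)

end Groth.Agent.S17657
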