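import Groth.Statements.S17658
import Mathlib
-- import your own Groth.Agent.* helpers here

set_option autoImplicit false
universe u
open Surf

namespace Groth.Agent.S17658

/-- In the polynomial ring k[T₀,T₁,U,V] over a field k, bigraded by deg T₀ = deg T₁ = (0,1), deg U =
(1,−1), deg V = (1,0) (the Cox ring of the Hirzebruch surface F₁; its piece of bidegree (a,b) is the
space of sections of O(a(E+F)+bF)), let S_(a,b) denote the k-span of the monomials of bidegree
(a,b), so that S_(0,c) is the space of forms of degree c in T₀, T₁. A subspace W ⊆ S_(a,b) is called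
c-generating when W·S_(0,c) = S_(a,b+c). Fix a monomial order and natural numbers a, b, c, and let
W₀(a,b,c) be the set of monomials U^i V^(a−i) T₀^(b+i−j(c+1)) T₁^(j(c+1)) with 0 ≤ i ≤ a, j ≥ 0 and
j(c+1) < b+i, together with the monomials U^i V^(a−i) T₁^(b+i) with 0 ≤ i ≤ a. If every monomial of
W₀(a,b,c) is the leading monomial of some nonzero element of W, then W is c-generating. (The source
fixes the graded lexicographic order with U > V > T₀ > T₁ and works over the complex numbers; its
argument uses only that leading monomials are multiplicative and that W₀(a,b,c)·S_(0,c) contains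
every monomial of S_(a,b+c), so any monomial order and any field are allowed here. The printed index
j runs from 1; with that range the statement fails already for a = 0, b = c = 1 and W spanned by T₁,
and the range from 0 used here is the one matching the accompanying dimension count.) Variables are
indexed T₀ = 0, T₁ = 1, U = 2, V = 3. -/
theorem result (k : Type u) [Field k]
    (mo : MonomialOrder (Fin 4)) (a b c : ℕ) (W : Submodule k (MvPolynomial (Fin 4) k))
    (hW : W ≤ Submodule.span k {f : MvPolynomial (Fin 4) k | ∃ e : Fin 4 →₀ ℕ, e 2 + e 3 = a ∧ e 0 + e 1 = b + e 2 ∧ f = MvPolynomial.monomial e 1})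
    (h₁ : ∀ i j : ℕ, i ≤ a → j * (c + 1) < b + i → ∃ w ∈ W, w ≠ 0 ∧
      mo.degree w = Finsupp.single 0 (b + i - j * (c + 1)) + Finsupp.single 1 (j * (c + 1)) +
        Finsupp.single 2 i + Finsupp.single 3 (a - i))
    (h₂ : ∀ i : ℕ, i ≤ a → ∃ w ∈ W, w ≠ 0 ∧
      mo.degree w = Finsupp.single 1 (b + i) + Finsupp.single 2 i + Finsupp.single 3 (a - i)) :
    W * Submodule.span k {f : MvPolynomial (Fin 4) k | ∃ e : Fin 4 →₀ ℕ, e 2 + e 3 = 0 ∧ e 0 + e 1 = c + e 2 ∧ f = MvPolynomial.monomial e 1} =
      Submodule.span k {f : MvPolynomial (Fin 4) k | ∃ e : Fin 4 →₀ ℕ, e 2 + e 3 = a ∧ e 0 + e 1 = (b + c) + e 2 ∧ f = MvPolynomial.monomial e 1} := by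
  classical
  let Mn : ℕ → ℕ → Set (MvPolynomial (Fin 4) k) := fun A B =>
    {f | ∃ e : Fin 4 →₀ ℕ, e 2 + e 3 = A ∧ e 0 + e 1 = B + e 2 ∧ f = MvPolynomial.monomial e 1}
  show W * Submodule.span k (Mn 0 c) = Submodule.span k (Mn a (b + c))
  have hsupp : ∀ A B f, f ∈ Submodule.span k (Mn A B) → ∀ e ∈ f.support, e 2 + e 3 = A ∧ e 0 + e 1 = B + e 2 := by
    intro A B f hf
    induction hf using Submodule.span_induction with
    | mem x hx =>
      obtain ⟨e', h1, h2, rfl⟩ := hx
      intro e he
      rw [MvPolynomial.support_monomial, if_neg one_ne_zero, Finset.mem_singleton] at he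
      exact he ▸ ⟨h1, h2⟩
    | zero => simp
    | add x y _ _ hx hy =>
      intro e he
      rcases Finset.mem_union.mp (MvPolynomial.support_add he) with h | h
      · exact hx e h
      · exact hy e h
    | smul r x _ hx => exact fun e he => hx e (MvPolynomial.support_smul he)
  have hle : W * Submodule.span k (Mn 0 c) ≤ Submodule.span k (Mn a (b + c)) := by
    refine (mul_le_mul' hW le_rfl).trans ?_
    rw [Submodule.span_mul_span]
    refine Submodule.span_mono ?_
    rintro _ ⟨_, ⟨e, h1, h2, rfl⟩, _, ⟨e', h1', h2', rfl⟩, rfl⟩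
    refine ⟨e + e', ?_, ?_, by simp [MvPolynomial.monomial_mul]⟩
    · simp only [Finsupp.add_apply]; omega
    · simp only [Finsupp.add_apply]; omega
  refine le_antisymm hle (Submodule.span_le.mpr ?_)
  rintro _ ⟨e, he1, he2, rfl⟩
  haveI : WellFoundedLT mo.syn := inferInstance
  suffices key : ∀ (s : mo.syn) (e : Fin 4 →₀ ℕ), mo.toSyn e = s → e 2 + e 3 = a → e 0 + e 1 = b + c + e 2 →
      MvPolynomial.monomial e (1 : k) ∈ W * Submodule.span k (Mn 0 c) from key _ e rfl he1 he2
  intro s
  induction s using WellFoundedLT.induction with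
  | ind s ih =>
    intro e hes he1 he2
    obtain ⟨w, hw, hw0, e', hdw, hr⟩ : ∃ w ∈ W, w ≠ 0 ∧ ∃ e' : Fin 4 →₀ ℕ, mo.degree w = e' ∧
        (e' 2 = e 2 ∧ e' 3 = e 3 ∧ e' 0 ≤ e 0 ∧ e' 1 ≤ e 1 ∧ e' 0 + e' 1 + c = e 0 + e 1) := by
      by_cases hj : e 1 / (c + 1) * (c + 1) < b + e 2
      · obtain ⟨w, hw, hw0, hd⟩ := h₁ (e 2) (e 1 / (c + 1)) (by omega) hj
        refine ⟨w, hw, hw0, _, hd, ?_⟩
        have := Nat.div_add_mod' (e 1) (c + 1)
        have := Nat.mod_lt (e 1) (show c + 1 > 0 by omega)
        generalize e 1 / (c + 1) * (c + 1) = q at *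
        refine ⟨?_, ?_, ?_, ?_, ?_⟩ <;> simp only [Finsupp.add_apply, Finsupp.single_apply] <;> simp <;> omega
      · obtain ⟨w, hw, hw0, hd⟩ := h₂ (e 2) (by omega)
        refine ⟨w, hw, hw0, _, hd, ?_⟩
        have := Nat.div_mul_le_self (e 1) (c + 1)
        refine ⟨?_, ?_, ?_, ?_, ?_⟩ <;> simp only [Finsupp.add_apply, Finsupp.single_apply] <;> simp <;> omega
    let r : Fin 4 →₀ ℕ := Finsupp.single 0 (e 0 - e' 0) + Finsupp.single 1 (e 1 - e' 1)
    have her : e' + r = e := by
      refine Finsupp.ext fun x => ?_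
      fin_cases x <;> simp [r, Finsupp.single_apply] <;> omega
    let p : MvPolynomial (Fin 4) k := w * MvPolynomial.monomial r 1
    have hp : p ∈ W * Submodule.span k (Mn 0 c) := by
      refine Submodule.mul_mem_mul hw (Submodule.subset_span ⟨r, ?_, ?_, rfl⟩)
      · simp [r, Finsupp.single_apply]
      · simp [r, Finsupp.single_apply]; omega
    have hm0 : MvPolynomial.monomial r (1 : k) ≠ 0 := by simp
    have hne : mo.leadingCoeff w * mo.leadingCoeff (MvPolynomial.monomial r (1 : k)) ≠ 0 :=
      mul_ne_zero (mo.leadingCoeff_ne_zero_iff.mpr hw0) (mo.leadingCoeff_ne_zero_iff.mpr hm0)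
    have hdeg : mo.degree p = e := by
      rw [mo.degree_mul_of_mul_leadingCoeff_ne_zero hne, hdw, mo.degree_monomial, if_neg one_ne_zero, her]
    have hc : p.coeff e ≠ 0 := by
      rw [← hdeg]; exact mo.coeff_degree_ne_zero_iff.mpr (mul_ne_zero hw0 hm0)
    have h2 : p - MvPolynomial.monomial e (p.coeff e) ∈ W * Submodule.span k (Mn 0 c) := by
      rw [MvPolynomial.as_sum (p - MvPolynomial.monomial e (p.coeff e))]
      refine Submodule.sum_mem _ fun f hf => ?_
      have hfe : f ≠ e := by
        rintro rfl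
        simp at hf
      have hfp : f ∈ p.support := by
        rw [MvPolynomial.mem_support_iff] at hf ⊢
        simpa [MvPolynomial.coeff_monomial, Ne.symm hfe] using hf
      obtain ⟨h3, h4⟩ := hsupp a (b + c) p (hle hp) f hfp
      rw [show MvPolynomial.monomial f (MvPolynomial.coeff f (p - MvPolynomial.monomial e (p.coeff e))) = MvPolynomial.coeff f (p - MvPolynomial.monomial e (p.coeff e)) • MvPolynomial.monomial f (1 : k) by rw [MvPolynomial.smul_monomial, smul_eq_mul, mul_one]]
      refine Submodule.smul_mem _ _ (ih (mo.toSyn f) ?_ f rfl h3 h4)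
      rw [← hes]
      refine lt_of_le_of_ne ?_ fun h => hfe (mo.toSyn.injective h)
      rw [← hdeg]
      exact mo.le_degree hfp
    have h5 := Submodule.sub_mem _ hp h2
    rw [sub_sub_cancel] at h5
    have h6 := Submodule.smul_mem _ (p.coeff e)⁻¹ h5
    rwa [MvPolynomial.smul_monomial, smul_eq_mul, inv_mul_cancel₀ hc] at h6

end Groth.Agent.S17658
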