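import Groth.Statements.S17660
import Groth.Agent.CMRegLib.BoundFree
import Groth.Agent.CurveLib.TensorExact
import Groth.Agent.IntLib.Push
import Groth.Agent.IntLib.Divisor
import Groth.Agent.InfNbhdLib.Scheme
import Groth.Agent.CliffCurveLib.DegBound
import Groth.Agent.HilbObsLib.Ideal
import Groth.Agent.AmpleLib.Pullback
import Groth.Agent.RefOne.Divisor

-- import your own Groth.Agent.* helpers here

set_option autoImplicit false
universe u
open CategoryTheory CategoryTheory.Limits AlgebraicGeometry
open Ribbon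

set_option backward.isDefEq.respectTransparency false
set_option backward.isDefEq.respectTransparency.types false
set_option linter.style.haveILetI false
set_option maxHeartbeats 1000000

namespace Groth.Agent.S17660

/-- Let C be a proper scheme over a field k and I ⊂ O_C a quasi-coherent ideal with I² = 0 whose closed
subscheme D ⊂ C is isomorphic over k to the projective line, and suppose that I, regarded as an
O_D-module, is isomorphic to O_{P^1}(-g-1) (so C is a ribbon of arithmetic genus g on P^1 with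
conormal bundle I). If L is an invertible O_C-module whose restriction to D is isomorphic to
O_{P^1}(n), then the degree χ(C, L) - χ(C, O_C) of L equals 2n. (Stated over an arbitrary ground
field; the source works with rational ribbons over an algebraically closed field, and also
identifies I·L with O_{P^1}(n-g-1), which is not asserted here.) -/
theorem result (k : Type u) [Field k] (C : Scheme.{u}) [C.Over (Spec (CommRingCat.of k))]
    [IsProper (C ↘ (Spec (CommRingCat.of k)))]
    (I : C.IdealSheafData) (hI : I ^ 2 = ⊥)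
    (e : I.subscheme ≅ CohB1.ProjSpace 1 k)
    (he : e.hom ≫ CohB1.ProjSpace.toSpec 1 k = I.subschemeι ≫ (C ↘ (Spec (CommRingCat.of k))))
    (g : ℕ)
    (hconormal : Nonempty ((Scheme.Modules.pullback I.subschemeι).obj (ClSub.idealMod I) ≅
      (Scheme.Modules.pullback e.hom).obj (Twist.twistProjSpace 1 k (-((g : ℤ) + 1)))))
    (L : C.Modules) (hL : PicF.IsInvertible L) (n : ℤ)
    (hLD : Nonempty ((Scheme.Modules.pullback I.subschemeι).obj L ≅
      (Scheme.Modules.pullback e.hom).obj (Twist.twistProjSpace 1 k n))) :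
    Curv2.deg k C L 1 = 2 * n := by
  haveI := Groth.Agent.EulerIneqLib.isNoetherian_proper (X := C) k
  haveI : IsProper (CohB1.ProjSpace 1 k ↘ Spec (CommRingCat.of k)) := CompleteCurve.isProper_toSpec 1 k
  let D := I.subscheme
  letI : D.Over (Spec (CommRingCat.of k)) := ⟨I.subschemeι ≫ (C ↘ Spec (CommRingCat.of k))⟩
  haveI : IsProper (D ↘ Spec (CommRingCat.of k)) :=
    inferInstanceAs (IsProper (I.subschemeι ≫ (C ↘ Spec (CommRingCat.of k))))
  haveI : IsLocallyNoetherian D := LocallyOfFiniteType.isLocallyNoetherian I.subschemeι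
  haveI : IsLocallyNoetherian (CohB1.ProjSpace 1 k) :=
    LocallyOfFiniteType.isLocallyNoetherian (CohB1.ProjSpace 1 k ↘ Spec (CommRingCat.of k))
  -- the twists
  let O' := fun d : ℤ => Twist.twistProjSpace 1 k d
  have hOe : ∀ d : ℤ, Curv2.euler k (CohB1.ProjSpace 1 k) (O' d) = d + 1 := fun d => by
    rw [CMRegLib.euler_twist (k := k) (n := 1) one_pos d, Ring.choose_one_right]
    push_cast; ring
  have heS : ∀ M : (CohB1.ProjSpace 1 k).Modules, DCohLib.SuppOn e.hom M := fun M =>
    ⟨fun y hy => absurd (show y ∈ Set.range e.hom from ⟨e.inv y, by rw [← Scheme.Hom.comp_apply, e.inv_hom_id]; rfl⟩) hy,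
      fun x a ha z => by
        rw [(ConcreteCategory.bijective_of_isIso (e.hom.stalkMap x)).1 (ha.trans (map_zero _).symm), zero_smul]⟩
  have hpull : ∀ M : (CohB1.ProjSpace 1 k).Modules, Coh.IsCoh M →
      Curv2.euler k D ((Scheme.Modules.pullback e.hom).obj M) = Curv2.euler k (CohB1.ProjSpace 1 k) M := by
    intro M hM
    haveI := hM.1
    haveI : Coh.IsQCoh ((Scheme.Modules.pullback e.hom).obj M) := PullbackMod.isQCoh_pullback e.hom M
    haveI := DCohLib.isIso_unit_of_suppOn e.hom (heS M)
    rw [← IntLib.euler_push k e.hom he ((Scheme.Modules.pullback e.hom).obj M)]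
    exact CurveLib.euler_iso (K := k) (asIso ((Scheme.Modules.pullbackPushforwardAdjunction e.hom).unit.app M)).symm
  have hOc : ∀ d, Coh.IsCoh (O' d) := fun d => CurveLib.isCoh_of_isInvertible (CMRegLib.isInvertible_O d)
  -- the sequence of the ideal
  haveI := Groth.Agent.SerreAff.epi_unitToPush I.subschemeι
  let T : ShortComplex C.Modules := ShortComplex.mk (ClSub.idealModι I) (ClSub.toSubscheme I) (kernel.condition _)
  have hT : T.ShortExact := ShortComplex.ShortExact.mk'
    (ShortComplex.exact_of_f_is_kernel _ (kernelIsKernel _)) (inferInstanceAs (Mono (kernel.ι _)))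
    (inferInstanceAs (Epi (ClSub.toSubscheme I)))
  have hsupp : DCohLib.SuppOn I.subschemeι (ClSub.idealMod I) := by
    refine ⟨fun y hy => ?_, fun x a ha z => ?_⟩
    · exfalso
      have htop := HilbObsLib.stalkIdeal_eq_top I hy
      have h2 := InfNbhdLib.stalkIdeal_pow I 2 y
      rw [hI, CliffCurveLib.stalkIdeal_bot', htop, ← Ideal.one_eq_top, one_pow, Ideal.one_eq_top] at h2
      exact bot_ne_top h2
    · have ha' : a ∈ IntMult.stalkIdeal I (I.subschemeι x) := by
        rw [← IdealStalkLib.ker_stalkMap_subschemeι, RingHom.mem_ker]; exact ha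
      haveI : Mono (ClSub.idealModι I) := inferInstanceAs (Mono (kernel.ι _))
      refine (PullbackMod.mono_iff_stalk (ClSub.idealModι I)).1 inferInstance _ ?_
      obtain ⟨r, hr⟩ := (ParaFLib.bijective_oneG (I.subschemeι x)).2 (PullbackMod.stalkLin (ClSub.idealModι I) _ z)
      have hr' := (HilbObsLib.mem_range_idealModι I _ r).1 ⟨z, hr.symm⟩
      rw [map_smul, map_zero, ← hr]
      show a • r • ParaFLib.oneG _ = 0
      rw [smul_smul]
      have h2 := InfNbhdLib.stalkIdeal_pow I 2 (I.subschemeι x)
      rw [hI, CliffCurveLib.stalkIdeal_bot', pow_two] at h2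
      have h3 : a * r ∈ (⊥ : Ideal (C.presheaf.stalk (I.subschemeι x))) := h2 ▸ Ideal.mul_mem_mul ha' hr'
      rw [Ideal.mem_bot.1 h3, zero_smul]
  obtain ⟨c1⟩ := hconormal
  obtain ⟨c2⟩ := hLD
  haveI := DCohLib.isIso_unit_of_suppOn I.subschemeι hsupp
  let eI : ClSub.idealMod I ≅ (Scheme.Modules.pushforward I.subschemeι).obj ((Scheme.Modules.pullback e.hom).obj (O' (-((g : ℤ) + 1)))) :=
    asIso ((Scheme.Modules.pullbackPushforwardAdjunction I.subschemeι).unit.app (ClSub.idealMod I)) ≪≫
      (Scheme.Modules.pushforward I.subschemeι).mapIso c1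
  have hpc : ∀ d, Coh.IsCoh ((Scheme.Modules.pullback e.hom).obj (O' d)) := fun d => PullbackMod.isCoh_pullback e.hom (O' d) (hOc d)
  have hIc : Coh.IsCoh (ClSub.idealMod I) := RefOne.isCoh_idealMod I
  have hOCc : Coh.IsCoh (Coh.structureModule C) := DevLib.isCoh_structureModule C
  have hQc : Coh.IsCoh (ClSub.quotMod I) := IntLib.isCoh_quotMod I
  have hLc : Coh.IsCoh L := CurveLib.isCoh_of_isInvertible hL
  have hS := CurveLib.shortExact_tensR hT (E := L) (n := 1) fun y => CurveLib.freeAt_one_of_isInvertible hL y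
  have E1 := CurveLib.euler_shortExact (K := k) hT hIc hOCc hQc
  have E2 := CurveLib.euler_shortExact (K := k) hS (CurveLib.isCoh_tmod hIc hLc) (CurveLib.isCoh_tmod hOCc hLc)
    (CurveLib.isCoh_tmod hQc hLc)
  have hDO : Curv2.euler k D (Coh.structureModule D) = 1 := by
    rw [← CurveLib.euler_iso (K := k) (AmpleLib.pullO e.hom), hpull _ (DevLib.isCoh_structureModule _)]
    let e0 : Twist.twistProjSpace 1 k 0 ≅ Coh.structureModule (CohB1.ProjSpace 1 k) :=
      (@asIso _ _ _ _ (ProjCoh.unitToTwist (CohB1.polyGrading 1 k)) ProjCoh.isIso_unitToTwist).symm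
    rw [← CurveLib.euler_iso (K := k) e0]
    exact (hOe 0).trans (zero_add 1)
  have a1 : Curv2.euler k C (ClSub.idealMod I) = -(g : ℤ) := by
    haveI := (hpc (-((g : ℤ) + 1))).1
    rw [CurveLib.euler_iso (K := k) eI, IntLib.euler_push k I.subschemeι rfl, hpull _ (hOc _), hOe]
    ring
  have a3 : Curv2.euler k C (ClSub.quotMod I) = 1 := by
    haveI := (DevLib.isCoh_structureModule D).1
    exact (IntLib.euler_push k I.subschemeι rfl (Coh.structureModule D)).trans hDO
  have ht : Curv2.euler k (CohB1.ProjSpace 1 k) (CohB1.tensorMod (Twist.twistProjSpace 1 k (-((g : ℤ) + 1)))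
      (Twist.twistProjSpace 1 k n)) = n - g := by
    have h1 := CMRegLib.euler_untwist (k := k) (n := 1) (Coh.structureModule (CohB1.ProjSpace 1 k))
      (show -((g : ℤ) + 1) + n = n - g - 1 by ring)
    let u1 : CohB1.tensorMod (Coh.structureModule (CohB1.ProjSpace 1 k)) (Twist.twistProjSpace 1 k (-((g : ℤ) + 1))) ≅
        Twist.twistProjSpace 1 k (-((g : ℤ) + 1)) := CurveLib.tmodUnit (Twist.twistProjSpace 1 k (-((g : ℤ) + 1)))
    have h2 := CurveLib.euler_iso (K := k) (AmpleLib.tIso u1 (Iso.refl (Twist.twistProjSpace 1 k n)))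
    have h3 := CurveLib.euler_iso (K := k) (CurveLib.tmodUnit (Twist.twistProjSpace 1 k (n - g - 1)))
    refine h2.symm.trans (h1.trans (h3.trans ((hOe _).trans ?_)))
    ring
  have b1 : Curv2.euler k C ((CurveLib.tensR L).obj (ClSub.idealMod I)) = n - g := by
    refine (CurveLib.euler_iso (K := k) (AmpleLib.tIso eI (Iso.refl L))).trans ?_
    refine (IntLib.euler_push_tensor k rfl (hpc _) hL).trans ?_
    refine (CurveLib.euler_iso (K := k) (AmpleLib.tIso (Iso.refl _) c2 ≪≫ (AmpleLib.pullTensor e.hom _ _).symm)).trans ?_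
    refine (hpull _ (CurveLib.isCoh_tmod (hOc _) (hOc _))).trans ?_
    exact ht
  have b3 : Curv2.euler k C ((CurveLib.tensR L).obj (ClSub.quotMod I)) = n + 1 := by
    refine (IntLib.euler_push_tensor k rfl (DevLib.isCoh_structureModule D) hL).trans ?_
    exact (CurveLib.euler_iso (K := k) (CurveLib.tmodUnit _ ≪≫ c2)).trans ((hpull _ (hOc _)).trans (hOe _))
  have b2 : Curv2.euler k C ((CurveLib.tensR L).obj (Coh.structureModule C)) = Curv2.euler k C L :=
    CurveLib.euler_iso (K := k) (CurveLib.tmodUnit L)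
  simp only [ShortComplex.map_X₁, ShortComplex.map_X₂, ShortComplex.map_X₃, T] at E1 E2
  rw [a1, a3] at E1
  rw [b1, b2, b3] at E2
  unfold Curv2.deg
  push_cast
  linarith


end Groth.Agent.S17660
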