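import Groth.Statements.S17661
import Mathlib
import Groth.Agent.Thicken.Affine

set_option autoImplicit false
universe u
open CategoryTheory CategoryTheory.Limits AlgebraicGeometry
open Ribbon

namespace Groth.Agent.S17661

theorem exists_retraction_affine {R : CommRingCat.{u}} {C D : Scheme.{u}} [IsAffine C] [IsAffine D]
    (s : C ⟶ Spec R) (i : D ⟶ C) [IsClosedImmersion i]
    (hker : IsNilpotent (RingHom.ker i.appTop.hom)) [Smooth (i ≫ s)] :
    ∃ r : C ⟶ D, i ≫ r = 𝟙 D ∧ r ≫ i ≫ s = s := by
  have hsm : (i ≫ s).appTop.hom.Smooth := (HasRingHomProperty.iff_of_isAffine (P := @Smooth)).1 inferInstance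
  letI := s.appTop.hom.toAlgebra
  letI := (i ≫ s).appTop.hom.toAlgebra
  haveI : Algebra.Smooth Γ(Spec R, ⊤) Γ(D, ⊤) := hsm
  let g : Γ(C, ⊤) →ₐ[Γ(Spec R, ⊤)] Γ(D, ⊤) := { i.appTop.hom with commutes' := fun r => rfl }
  have hsurj : Function.Surjective g := i.app_surjective ⊤ (isAffineOpen_top _)
  let l : Γ(D, ⊤) →ₐ[Γ(Spec R, ⊤)] Γ(C, ⊤) :=
    Algebra.FormallySmooth.liftOfSurjective (AlgHom.id _ _) g hsurj hker
  have hgl : CommRingCat.ofHom l.toRingHom ≫ i.appTop = 𝟙 _ := by
    ext x
    exact AlgHom.congr_fun (Algebra.FormallySmooth.comp_liftOfSurjective (AlgHom.id _ _) g hsurj hker) x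
  have hsl : (i ≫ s).appTop ≫ CommRingCat.ofHom l.toRingHom = s.appTop := by
    ext x
    exact l.commutes x
  let r : C ⟶ D := C.toSpecΓ ≫ Spec.map (CommRingCat.ofHom l.toRingHom) ≫ D.isoSpec.inv
  have hr : r ≫ D.toSpecΓ = C.toSpecΓ ≫ Spec.map (CommRingCat.ofHom l.toRingHom) := by
    show (C.toSpecΓ ≫ Spec.map _ ≫ D.isoSpec.inv) ≫ D.isoSpec.hom = _
    rw [Category.assoc, Category.assoc, Iso.inv_hom_id, Category.comp_id]
  refine ⟨r, ?_, ?_⟩
  · rw [← cancel_mono D.toSpecΓ, Category.assoc, hr, Scheme.toSpecΓ_naturality_assoc, ← Spec.map_comp, hgl,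
      Spec.map_id]
    exact (Category.comp_id _).trans (Category.id_comp _).symm
  · rw [← cancel_mono (Spec R).toSpecΓ, Category.assoc, Scheme.toSpecΓ_naturality, reassoc_of% hr,
      ← Spec.map_comp, hsl, Scheme.toSpecΓ_naturality]

/-- Let k be a field, C a scheme locally of finite type over k and I ⊂ O_C a quasi-coherent ideal with
I² = 0, with closed subscheme D ⊂ C; suppose D is affine, connected and smooth over k and that I,
regarded as an O_D-module, is invertible (so C is a ribbon on the smooth affine scheme D, and D is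
the reduced scheme underlying C). Then the ribbon is split: the inclusion D → C admits a retraction
C → D over k. -/
theorem result (k : Type u) [Field k] (C : Scheme.{u}) [C.Over (Spec (CommRingCat.of k))]
    [LocallyOfFiniteType (C ↘ (Spec (CommRingCat.of k)))]
    (I : C.IdealSheafData) (hI : I ^ 2 = ⊥) [IsAffine I.subscheme] [ConnectedSpace I.subscheme]
    [Smooth (I.subschemeι ≫ (C ↘ (Spec (CommRingCat.of k))))]
    (hconormal : PicF.IsInvertible ((Scheme.Modules.pullback I.subschemeι).obj (ClSub.idealMod I))) :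
    ∃ r : C ⟶ I.subscheme, I.subschemeι ≫ r = 𝟙 I.subscheme ∧
      r ≫ I.subschemeι ≫ (C ↘ (Spec (CommRingCat.of k))) = C ↘ (Spec (CommRingCat.of k)) := by
  have hsurj : Function.Surjective I.subschemeι := by
    intro x
    have h := congrArg (fun J : C.IdealSheafData => J.support) hI
    simp only [Scheme.IdealSheafData.support_pow _ 2 two_ne_zero, Scheme.IdealSheafData.support_bot] at h
    have : x ∈ Set.range I.subschemeι := by rw [Scheme.IdealSheafData.range_subschemeι, h]; trivial
    exact this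
  haveI : IsAffine C := Groth.Agent.Thicken.isAffine I.subschemeι hsurj
  refine exists_retraction_affine (C ↘ (Spec (CommRingCat.of k))) I.subschemeι ⟨2, ?_⟩
  rw [show RingHom.ker I.subschemeι.appTop.hom = _ from I.ker_subschemeι_app ⟨⊤, isAffineOpen_top C⟩]
  exact congrFun (congrArg Scheme.IdealSheafData.ideal hI) ⟨⊤, isAffineOpen_top C⟩

end Groth.Agent.S17661
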