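import Groth.Statements.S17663
import Groth.Agent.SplitRibLib.FiniteType

set_option autoImplicit false
set_option backward.isDefEq.respectTransparency false
universe u
open CategoryTheory CategoryTheory.Limits AlgebraicGeometry
open Ribbon

namespace Groth.Agent.S17663

/-- Let D be a reduced connected scheme of finite type over a field k and 𝓛 an invertible O_D-module.
Then some split ribbon on D has conormal bundle 𝓛: there are a k-scheme C locally of finite type
together with a quasi-coherent ideal I ⊂ O_C with I² = 0, a k-isomorphism from the closed subscheme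
V(I) to D, a retraction C → V(I) over k of the inclusion, and an isomorphism of O_D-modules between
I (regarded as a module on V(I) ≅ D) and 𝓛. -/
theorem result (k : Type u) [Field k] (D : Scheme.{u}) [D.Over (Spec (CommRingCat.of k))]
    [LocallyOfFiniteType (D ↘ (Spec (CommRingCat.of k)))] [QuasiCompact (D ↘ (Spec (CommRingCat.of k)))]
    [AlgebraicGeometry.IsReduced D] [ConnectedSpace D]
    (𝓛 : D.Modules) (h𝓛 : PicF.IsInvertible 𝓛) :
    ∃ (C : Scheme.{u}) (sC : C ⟶ (Spec (CommRingCat.of k))) (I : C.IdealSheafData) (φ : I.subscheme ≅ D) (r : C ⟶ I.subscheme),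
      LocallyOfFiniteType sC ∧ I ^ 2 = ⊥ ∧ φ.hom ≫ (D ↘ (Spec (CommRingCat.of k))) = I.subschemeι ≫ sC ∧ I.subschemeι ≫ r = 𝟙 I.subscheme ∧
        r ≫ I.subschemeι ≫ sC = sC ∧
        Nonempty ((Scheme.Modules.pullback (φ.inv ≫ I.subschemeι)).obj (ClSub.idealMod I) ≅ 𝓛) := by
  haveI := Groth.Agent.InvExt.isQCoh_of_isInvertible h𝓛
  let C := SplitRibLib.ext 𝓛
  let I := C.nilradical
  let φ : I.subscheme ≅ D := asIso (SplitRibLib.red 𝓛)
  let sD : D ⟶ Spec (CommRingCat.of k) := D ↘ Spec (CommRingCat.of k)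
  haveI := SplitRibLib.locallyOfFiniteType_proj 𝓛 h𝓛
  have hi : φ.inv ≫ I.subschemeι ≫ SplitRibLib.proj 𝓛 = 𝟙 D := φ.inv_hom_id
  refine ⟨C, SplitRibLib.proj 𝓛 ≫ sD, I, φ, SplitRibLib.proj 𝓛 ≫ φ.inv, inferInstance,
    SplitRibLib.nilradical_sq 𝓛, ?_, ?_, ?_, ?_⟩
  · show (I.subschemeι ≫ SplitRibLib.proj 𝓛) ≫ sD = _
    rw [Category.assoc]
  · exact φ.hom_inv_id
  · simp only [Category.assoc]
    rw [reassoc_of% hi]
  · obtain ⟨e⟩ := SplitRibLib.nonempty_con_iso 𝓛
    have key : ∀ J : C.IdealSheafData, (SplitRibLib.zeroSec 𝓛).ker = J →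
        Nonempty ((Scheme.Modules.pullback (SplitRibLib.zeroSec 𝓛)).obj (ClSub.idealMod J) ≅ 𝓛) := by
      rintro _ rfl; exact ⟨e⟩
    exact key I (SplitRibLib.ker_zeroSec 𝓛)

end Groth.Agent.S17663
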