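import Groth.Statements.S17664
import Groth.Agent.SplitRibUniqLib.Basic
import Groth.Agent.InvExt.Main
-- import your own Groth.Agent.* helpers here

set_option autoImplicit false
universe u
open CategoryTheory CategoryTheory.Limits AlgebraicGeometry
open Ribbon

set_option backward.isDefEq.respectTransparency false

namespace Groth.Agent.S17664

theorem conormal_data {D C : Scheme.{u}} (I : C.IdealSheafData) (hI : I ^ 2 = ⊥) (φ : I.subscheme ≅ D)
    (L : D.Modules) (θ : L ≅ (Scheme.Modules.pullback (φ.inv ≫ I.subschemeι)).obj (ClSub.idealMod I)) :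
    (φ.inv ≫ I.subschemeι).ker ^ 2 = ⊥ ∧
      Nonempty (L ≅ (Scheme.Modules.pullback (φ.inv ≫ I.subschemeι)).obj
        (ClSub.idealMod (φ.inv ≫ I.subschemeι).ker)) := by
  have hk : (φ.inv ≫ I.subschemeι).ker = I := by
    rw [Scheme.Hom.ker_comp_of_isIso, Scheme.IdealSheafData.ker_subschemeι]
  have key : ∀ J : C.IdealSheafData, J = I → Nonempty (L ≅ (Scheme.Modules.pullback (φ.inv ≫ I.subschemeι)).obj
      (ClSub.idealMod J)) := by
    rintro _ rfl; exact ⟨θ⟩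
  exact ⟨by rw [hk]; exact hI, key _ hk⟩

/-- Let D be a reduced connected scheme of finite type over a field k. Let C and C' be two split ribbons
on D with isomorphic conormal bundles: k-schemes with quasi-coherent ideals I ⊂ O_C, I' ⊂ O_{C'} of
square zero, k-isomorphisms φ : V(I) ≅ D, φ' : V(I') ≅ D, retractions C → V(I), C' → V(I') over k,
with I and I' invertible when regarded as O_D-modules and an isomorphism θ between them. Then C and
C' are isomorphic over D: there is an isomorphism ψ : C ≅ C' with (V(I) → C → C') = (V(I) ≅ D ≅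
V(I') → C'). -/
theorem result (k : Type u) [Field k] (D : Scheme.{u}) [D.Over (Spec (CommRingCat.of k))]
    [LocallyOfFiniteType (D ↘ (Spec (CommRingCat.of k)))] [QuasiCompact (D ↘ (Spec (CommRingCat.of k)))]
    [AlgebraicGeometry.IsReduced D] [ConnectedSpace D]
    (C : Scheme.{u}) (sC : C ⟶ (Spec (CommRingCat.of k))) (I : C.IdealSheafData) (hI : I ^ 2 = ⊥)
    (φ : I.subscheme ≅ D) (hφ : φ.hom ≫ (D ↘ (Spec (CommRingCat.of k))) = I.subschemeι ≫ sC)
    (r : C ⟶ I.subscheme) (hr : I.subschemeι ≫ r = 𝟙 I.subscheme) (hrk : r ≫ I.subschemeι ≫ sC = sC)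
    (C' : Scheme.{u}) (sC' : C' ⟶ (Spec (CommRingCat.of k))) (I' : C'.IdealSheafData) (hI' : I' ^ 2 = ⊥)
    (φ' : I'.subscheme ≅ D) (hφ' : φ'.hom ≫ (D ↘ (Spec (CommRingCat.of k))) = I'.subschemeι ≫ sC')
    (r' : C' ⟶ I'.subscheme) (hr' : I'.subschemeι ≫ r' = 𝟙 I'.subscheme) (hrk' : r' ≫ I'.subschemeι ≫ sC' = sC')
    (h𝓛 : PicF.IsInvertible ((Scheme.Modules.pullback (φ.inv ≫ I.subschemeι)).obj (ClSub.idealMod I)))
    (h𝓛' : PicF.IsInvertible ((Scheme.Modules.pullback (φ'.inv ≫ I'.subschemeι)).obj (ClSub.idealMod I')))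
    (θ : (Scheme.Modules.pullback (φ.inv ≫ I.subschemeι)).obj (ClSub.idealMod I) ≅
      (Scheme.Modules.pullback (φ'.inv ≫ I'.subschemeι)).obj (ClSub.idealMod I')) :
    ∃ ψ : C ≅ C', I.subschemeι ≫ ψ.hom = φ.hom ≫ φ'.inv ≫ I'.subschemeι ∧ ψ.hom ≫ sC' = sC := by
  haveI := Groth.Agent.InvExt.isQCoh_of_isInvertible h𝓛'
  obtain ⟨h2, ⟨e⟩⟩ := conormal_data I hI φ _ θ.symm
  obtain ⟨h2', ⟨e'⟩⟩ := conormal_data I' hI' φ' _ (Iso.refl _)
  obtain ⟨ψ, hψ, hq⟩ := SplitRibUniqLib.exists_iso (φ.inv ≫ I.subschemeι) h2 (r ≫ φ.hom)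
    (by rw [Category.assoc, reassoc_of% hr, φ.inv_hom_id])
    (φ'.inv ≫ I'.subschemeι) h2' (r' ≫ φ'.hom)
    (by rw [Category.assoc, reassoc_of% hr', φ'.inv_hom_id]) _ e e'
  refine ⟨ψ, ?_, ?_⟩
  · rw [← hψ]
    simp
  · have h1 : (r' ≫ φ'.hom) ≫ (D ↘ (Spec (CommRingCat.of k))) = sC' := by
      rw [Category.assoc, hφ', hrk']
    rw [← h1, ← Category.assoc, hq, Category.assoc, hφ, hrk]

end Groth.Agent.S17664
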