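import Groth.Statements.S17679
import Mathlib

set_option autoImplicit false
open DiagMon

namespace Groth.Agent.S17679

/-- For n ≥ 1 the minimal number of generators of ℤ^n as an additive monoid is n + 1: some n + 1
elements generate ℤ^n as a monoid, and every finite set generating ℤ^n as a monoid has at least n +
1 elements. (For n = 0 the empty set generates the zero monoid, so the count n + 1 is stated for n ≥
1 only.) -/
theorem result (n : ℕ) (hn : 1 ≤ n) :
    (∃ s : Finset (Fin n → ℤ), s.card = n + 1 ∧ AddSubmonoid.closure (s : Set (Fin n → ℤ)) = ⊤) ∧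
    ∀ s : Finset (Fin n → ℤ), AddSubmonoid.closure (s : Set (Fin n → ℤ)) = ⊤ → n + 1 ≤ s.card := by
  classical
  let e : Fin n → (Fin n → ℤ) := fun i => Pi.single i 1
  have hne : ∀ i, (-1 : Fin n → ℤ) ≠ e i := fun i h => by simpa [e] using congrFun h i
  refine ⟨⟨insert (-1) (Finset.univ.image e), ?_, ?_⟩, fun s hs => ?_⟩
  · have hinj : Function.Injective e := fun i j h => by
      have := congrFun h i; by_contra hij; simp [e, Pi.single_apply, hij] at this
    rw [Finset.card_insert_of_notMem (by simpa using fun i h => hne i h.symm), Finset.card_image_of_injective _ hinj]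
    simp
  · rw [eq_top_iff]
    intro v _
    set M := ∑ i, (v i).natAbs
    have hv : v = M • (-1 : Fin n → ℤ) + ∑ i, (v i + M).toNat • e i := by
      ext j
      have hj : (0:ℤ) ≤ v j + M := by
        have : (v j).natAbs ≤ M := Finset.single_le_sum (f := fun i => (v i).natAbs) (fun _ _ => Nat.zero_le _) (Finset.mem_univ j)
        omega
      simp [e, Finset.sum_apply, Pi.single_apply, hj]
    rw [hv]
    exact add_mem (nsmul_mem (AddSubmonoid.subset_closure (by simp)) _) (sum_mem fun i _ => nsmul_mem (AddSubmonoid.subset_closure (by simp)) _)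
  · by_contra hcon
    push_neg at hcon
    have hspan : Submodule.span ℤ (s : Set (Fin n → ℤ)) = ⊤ := eq_top_iff.2 fun x _ => by
      have : x ∈ AddSubmonoid.closure (s : Set (Fin n → ℤ)) := hs ▸ AddSubmonoid.mem_top x
      exact (AddSubmonoid.closure_le (S := (Submodule.span ℤ (s : Set (Fin n → ℤ))).toAddSubmonoid)).2 Submodule.subset_span this
    have hle : (n : ℕ) ≤ s.card := by
      have := finrank_span_finset_le_card (R := ℤ) s
      rw [Set.finrank, hspan] at this; simpa using this
    have hcard : s.card = n := by omega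
    -- s is a basis; coefficients are unique
    let g : s → (Fin n → ℤ) := Subtype.val
    have hli : LinearIndependent ℤ g := by
      apply linearIndependent_of_top_le_span_of_card_eq_finrank
      · rw [show Set.range g = (s : Set (Fin n → ℤ)) from Subtype.range_coe, hspan]
      · simp [hcard]
    have hsum : ∀ x : Fin n → ℤ, ∃ c : s → ℕ, ∑ i, c i • g i = x := by
      intro x
      have : x ∈ AddSubmonoid.closure (s : Set (Fin n → ℤ)) := hs ▸ AddSubmonoid.mem_top x
      refine AddSubmonoid.closure_induction (fun y hy => ⟨Pi.single ⟨y, hy⟩ 1, by simp [g, Pi.single_apply]⟩) ⟨0, by simp⟩ ?_ this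
      rintro y z _ _ ⟨c, rfl⟩ ⟨d, rfl⟩
      exact ⟨c + d, by simp [add_smul, Finset.sum_add_distrib]⟩
    obtain ⟨c, hc⟩ := hsum (-∑ i, g i)
    have h0 : ∑ i, ((c i : ℤ) + 1) • g i = 0 := by
      simp only [add_smul, one_smul, natCast_zsmul, Finset.sum_add_distrib, hc]; simp
    have hpos : 0 < Fintype.card s := by rw [Fintype.card_coe]; omega
    obtain ⟨i⟩ := Fintype.card_pos_iff.1 hpos
    have := Fintype.linearIndependent_iff.1 hli _ h0 i
    omega

end Groth.Agent.S17679
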