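import Groth.Statements.S17681
import Groth.Agent.MonoFibre.FixedPt

set_option autoImplicit false
universe u
open CategoryTheory MonoidalCategory CartesianMonoidalCategory MonObj GrpObj AlgebraicGeometry
open AlgGrp

namespace Groth.Agent.S17681

/-- Let S be a scheme, G a flat S-group scheme of finite presentation with connected fibres, X and Y
S-schemes locally of finite presentation with actions of G, and f : X → Y an étale G-equivariant
S-morphism; assume that S is locally Noetherian or that X and Y are quasi-separated over S. Then f
reflects fixed points: a T-point x of X whose image in Y is fixed by G after every base change T' →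
T is itself fixed by G after every base change, so that the fixed-point subfunctor of X is the
preimage of that of Y. (The source allows X and Y to be algebraic spaces over S; this row is the
case of schemes.) -/
theorem result (S : Scheme.{u})
    (G : Over S) [GrpObj G] [Flat G.hom] [LocallyOfFinitePresentation G.hom] [QuasiCompact G.hom]
    [QuasiSeparated G.hom] (hconn : ∀ s : S, ConnectedSpace (G.hom.fiber s))
    (X Y : Over S) [LocallyOfFinitePresentation X.hom] [LocallyOfFinitePresentation Y.hom]
    (hS : IsLocallyNoetherian S ∨ (QuasiSeparated X.hom ∧ QuasiSeparated Y.hom))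
    (a : AlgGrp.Action G X) (b : AlgGrp.Action G Y) (f : X ⟶ Y) [Etale f.left]
    (hf : a.act ≫ f = (G ◁ f) ≫ b.act) (T : Over S) (x : T ⟶ X)
    (hx : ∀ (T' : Over S) (t : T' ⟶ T) (g : T' ⟶ G), lift g (t ≫ x ≫ f) ≫ b.act = t ≫ x ≫ f)
    (T' : Over S) (t : T' ⟶ T) (g : T' ⟶ G) : lift g (t ≫ x) ≫ a.act = t ≫ x := by
  haveI : FormallyUnramified f.left := inferInstance
  let α := lift (fst G T) (snd G T ≫ x) ≫ a.act
  have hfix : (lift (fst G T) (snd G T ≫ x) ≫ a.act).left ≫ f.left = (snd G T ≫ x).left ≫ f.left := by
    have h : (lift (fst G T) (snd G T ≫ x) ≫ a.act) ≫ f = (snd G T ≫ x) ≫ f := by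
      rw [Category.assoc, hf, lift_whiskerLeft_assoc, Category.assoc]
      exact hx (G ⊗ T) (snd G T) (fst G T)
    exact congrArg (fun q => q.left) h
  have h := Groth.Agent.MonoFibre.eq_of_unramified a hconn x f.left hfix
  have := congrArg (lift g t ≫ ·) h
  simpa [comp_lift_assoc] using this

end Groth.Agent.S17681
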