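import Groth.Statements.S17683
import Mathlib

set_option autoImplicit false
universe u
open DiagMon

namespace Groth.Agent.S17683

/-- Let N be a commutative monoid and F a submonoid of N. The additive projection ℤ[N] → ℤ[F] of monoid
algebras keeping the monomials with exponent in F and killing the others is multiplicative, i.e. F
is a face of N, if and only if for all x, y in N the sum x + y lies in F exactly when both x and y
do. -/
theorem result {N : Type u} [AddCommMonoid N] (F : AddSubmonoid N) :
    (∀ a b : AddMonoidAlgebra ℤ N,
        AddMonoidAlgebra.comapDomain ((↑) : F → N) Subtype.val_injective (a * b) =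
          AddMonoidAlgebra.comapDomain ((↑) : F → N) Subtype.val_injective a *
            AddMonoidAlgebra.comapDomain ((↑) : F → N) Subtype.val_injective b) ↔
      ∀ x y : N, x + y ∈ F ↔ (x ∈ F ∧ y ∈ F) := by
  classical
  let c : AddMonoidAlgebra ℤ N → AddMonoidAlgebra ℤ F := AddMonoidAlgebra.comapDomain ((↑) : F → N) Subtype.val_injective
  have hsingle : ∀ (n : N) (r : ℤ), c (AddMonoidAlgebra.single n r) = if h : n ∈ F then AddMonoidAlgebra.single ⟨n, h⟩ r else 0 := by
    intro n r
    ext z
    by_cases h : n ∈ F
    · simp [c, h, AddMonoidAlgebra.coeff_single, Finsupp.single_apply, Subtype.ext_iff]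
    · have : n ≠ (z : N) := fun e => h (e ▸ z.2)
      simp [c, h, AddMonoidAlgebra.coeff_single, Finsupp.single_apply, this]
  constructor
  · intro h x y
    refine ⟨fun hxy => ?_, fun hh => F.add_mem hh.1 hh.2⟩
    have := h (AddMonoidAlgebra.single x 1) (AddMonoidAlgebra.single y 1)
    rw [AddMonoidAlgebra.single_mul_single] at this
    change c _ = c _ * c _ at this
    rw [hsingle, hsingle, hsingle, dif_pos hxy] at this
    by_contra hcon
    rw [not_and_or] at hcon
    rcases hcon with hcon | hcon <;> simp [hcon] at this
  · intro h a b
    have hadd : ∀ a b, c (a + b) = c a + c b := fun a b => by ext z; simp [c]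
    change c (a * b) = c a * c b
    induction a using AddMonoidAlgebra.induction_linear with
    | zero => simp [c]
    | add p q hp hq => rw [add_mul, hadd, hp, hq, hadd, add_mul]
    | single x r =>
      induction b using AddMonoidAlgebra.induction_linear with
      | zero => simp [c]
      | add p q hp hq => rw [mul_add, hadd, hp, hq, hadd, mul_add]
      | single y s =>
        rw [AddMonoidAlgebra.single_mul_single, hsingle, hsingle, hsingle]
        by_cases hx : x ∈ F <;> by_cases hy : y ∈ F <;> simp [hx, hy, h x y]

end Groth.Agent.S17683
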