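import Groth.Statements.S17685
import Groth.Agent.WeilClosedLib.Equalizer

set_option autoImplicit false
set_option backward.isDefEq.respectTransparency false
set_option backward.isDefEq.respectTransparency.types false
universe u
open CategoryTheory MonoidalCategory CartesianMonoidalCategory MonObj GrpObj AlgebraicGeometry
open AlgGrp

namespace Groth.Agent.S17685

/-- Let S be a scheme, F an S-scheme that is finite locally free over S (finite, flat and locally of
finite presentation) with a section e of F over S which is a surjective closed immersion (an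
infinitesimal pointed S-scheme), and X an S-scheme with an action of the pointed scheme F, i.e. an
S-morphism F ×_S X → X through which e acts as the identity. Then the subfunctor of F-fixed points
of X, whose T-points are the T-points x of X with g · x_{T'} = x_{T'} for every S-scheme T' over T
and every T'-point g of F, is represented by a closed subscheme of X. (The source allows F and X to
be algebraic spaces over S; this row is the case of schemes.) -/
theorem result (S : Scheme.{u})
    (F X : Over S) (e : 𝟙_ (Over S) ⟶ F) (act : F ⊗ X ⟶ X) (he : (e ▷ X) ≫ act = (λ_ X).hom)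
    [IsFinite F.hom] [Flat F.hom] [LocallyOfFinitePresentation F.hom]
    [IsClosedImmersion e.left] [Surjective e.left] :
    ∃ (Z : Scheme.{u}) (i : Z ⟶ X.left), IsClosedImmersion i ∧
      ∀ (T : Over S) (x : T ⟶ X), (∃ y : T.left ⟶ Z, y ≫ i = x.left) ↔
        ∀ (T' : Over S) (t : T' ⟶ T) (g : T' ⟶ F), lift g (t ≫ x) ≫ act = t ≫ x := by
  obtain ⟨E, jE, hj, -, -, hE⟩ :=
    WeilClosedLib.exists_immersion_equalizer (lift (snd X F) (fst X F) ≫ act) (fst X F)
  have hσ : lift (𝟙 X) (toUnit X ≫ e) ≫ lift (snd X F) (fst X F) ≫ act = 𝟙 X := by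
    have h : lift (toUnit X ≫ e) (𝟙 X) ≫ act = lift (toUnit X) (𝟙 X) ≫ (e ▷ X) ≫ act := by
      rw [← Category.assoc, lift_whiskerRight]
    rw [← Category.assoc, comp_lift, lift_fst, lift_snd, h, he]
    simp [leftUnitor_hom]
  obtain ⟨l, hl⟩ := (hE X (lift (𝟙 X) (toUnit X ≫ e))).2 (by rw [hσ, lift_fst])
  haveI : IsClosedImmersion jE.left := WeilClosedLib.isClosedImmersion_of_surjective_range jE.left fun p => by
    obtain ⟨x, hx⟩ := WeilClosedLib.exists_preimage_section e p
    exact ⟨l.left x, by rw [← Scheme.Hom.comp_apply, ← Over.comp_left, hl, hx]⟩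
  obtain ⟨Z, i, hi, hrep, -⟩ :=
    WeilClosedLib.exists_closed_forall (WeilClosedLib.isEssentiallyFree_of_finite_flat F.hom) jE
  refine ⟨Z.left, i.left, hi, fun T x => ?_⟩
  have h1 : (∃ y : T.left ⟶ Z.left, y ≫ i.left = x.left) ↔ ∃ z : T ⟶ Z, z ≫ i = x :=
    ⟨fun ⟨y, hy⟩ => ⟨Over.homMk y (by rw [← Over.w i, reassoc_of% hy, Over.w]), Over.OverMorphism.ext hy⟩,
      fun ⟨z, hz⟩ => ⟨z.left, congrArg CommaMorphism.left hz⟩⟩
  rw [h1]
  refine (hrep T x).trans (forall₃_congr fun T' t g => ?_)
  rw [hE, ← Category.assoc, comp_lift]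
  simp

end Groth.Agent.S17685
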