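import Groth.Statements.S17687
import Mathlib
-- import your own Groth.Agent.* helpers here

set_option autoImplicit false
universe u v w
open DiagMon

namespace Groth.Agent.S17687

/-- Let R be a commutative ring and A a commutative R-algebra of finite type graded by a commutative
monoid M. Then the set of ideals J_N, N running over all submonoids of M, where J_N is generated by
the homogeneous elements of degree not in N (the ideal of the attractor of Spec A for the magnet N),
is finite: Spec A has finitely many attractors and hence finitely many pure magnets. (The source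
assumes Spec A of finite presentation over the base; its proof uses only a finite set of homogeneous
algebra generators, so finite type is assumed here.) -/
theorem result (R : Type u) [CommRing R] (A : Type v) [CommRing A]
    [Algebra R A] [Algebra.FiniteType R A] (M : Type w) [AddCommMonoid M] [DecidableEq M]
    (𝒜 : M → Submodule R A) [GradedAlgebra 𝒜] :
    (Set.range fun N : AddSubmonoid M => Ideal.span {a : A | ∃ m : M, m ∉ N ∧ a ∈ 𝒜 m}).Finite := by
  classical
  obtain ⟨s, hs⟩ := Algebra.FiniteType.out (R := R) (A := A)
  let P : Finset (M × A) := s.biUnion fun g => (DirectSum.decompose 𝒜 g).support.image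
    fun m => (m, (DirectSum.decompose 𝒜 g m : A))
  have hP : ∀ p ∈ P, p.2 ∈ 𝒜 p.1 := by
    intro p hp
    obtain ⟨g, -, hp⟩ := Finset.mem_biUnion.mp hp
    obtain ⟨m, -, rfl⟩ := Finset.mem_image.mp hp
    exact SetLike.coe_mem _
  refine ((Finset.finite_toSet P.powerset).image (fun Q : Finset (M × A) => Ideal.span ((Prod.snd : M × A → A) '' (Q : Set (M × A))))).subset ?_
  rintro _ ⟨N, rfl⟩
  refine ⟨P.filter fun p => p.1 ∉ N, Finset.mem_coe.mpr (Finset.mem_powerset.mpr (Finset.filter_subset _ _)), ?_⟩
  refine le_antisymm (Ideal.span_le.mpr ?_) (Ideal.span_le.mpr ?_)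
  · rintro _ ⟨p, hp, rfl⟩
    obtain ⟨hp, hN⟩ := Finset.mem_filter.mp hp
    exact Ideal.subset_span ⟨p.1, hN, hP p hp⟩
  · rintro a ⟨m, hm, ha⟩
    suffices key : ∀ b : A, ∀ n, n ∉ N → (DirectSum.decompose 𝒜 b n : A) ∈
        Ideal.span ((Prod.snd : M × A → A) '' ((P.filter fun p => p.1 ∉ N : Finset (M × A)) : Set (M × A))) by
      have := key a m hm
      rwa [DirectSum.decompose_of_mem_same 𝒜 ha] at this
    intro b
    induction (show b ∈ Algebra.adjoin R (s : Set A) from hs ▸ Algebra.mem_top) using Algebra.adjoin_induction with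
    | mem g hg =>
      intro n hn
      by_cases h0 : (DirectSum.decompose 𝒜 g n : A) = 0
      · rw [h0]; exact zero_mem _
      refine Ideal.subset_span ⟨(n, (DirectSum.decompose 𝒜 g n : A)), Finset.mem_filter.mpr
        ⟨Finset.mem_biUnion.mpr ⟨g, hg, Finset.mem_image.mpr ⟨n, DFinsupp.mem_support_iff.mpr ?_, rfl⟩⟩, hn⟩, rfl⟩
      exact fun h => h0 (by rw [h]; rfl)
    | algebraMap r =>
      intro n hn
      rw [DirectSum.decompose_of_mem_ne 𝒜 (SetLike.algebraMap_mem_graded 𝒜 r)
        (fun h => hn (by rw [← h]; exact N.zero_mem))]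
      exact zero_mem _
    | add x y _ _ hx hy =>
      intro n hn
      rw [DirectSum.decompose_add, DirectSum.add_apply, Submodule.coe_add]
      exact add_mem (hx n hn) (hy n hn)
    | mul x y _ _ hx hy =>
      intro n hn
      rw [DirectSum.decompose_mul, DirectSum.coe_mul_apply]
      refine Ideal.sum_mem _ fun ij hij => ?_
      obtain ⟨-, hij⟩ := Finset.mem_filter.mp hij
      by_cases hi : ij.1 ∈ N
      · exact Ideal.mul_mem_left _ _ (hy ij.2 fun hj => hn (hij ▸ N.add_mem hi hj))
      · exact Ideal.mul_mem_right _ _ (hx ij.1 hi)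

end Groth.Agent.S17687
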