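import Groth.Statements.S17688
import Groth.Agent.NMPLib.Basic

set_option autoImplicit false
universe u
open CategoryTheory CategoryTheory.Limits AlgebraicGeometry MonObj
open Neron

namespace Groth.Agent.S17688
open CategoryTheory CategoryTheory.Limits AlgebraicGeometry MonObj

/-- Let R be a discrete valuation ring whose fraction field K has characteristic p > 0, and let U be a
flat, separated, commutative group scheme over Spec R whose generic fibre U_K is annihilated by a
power p^N of p (in the group of endomorphisms of U_K as a K-scheme, the p^N-th power of the identity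
is the unit). Then for every prime ℓ invertible in R the ℓ-th power map of U (the ℓ-th power of the
identity in the group of R-morphisms U → U) is an isomorphism. -/
theorem result
    (R : Type u) [CommRing R] [IsDomain R] [IsDiscreteValuationRing R]
    (p : ℕ) (hp : p.Prime) [CharP (FractionRing R) p]
    (U : Over (Spec (CommRingCat.of R))) [GrpObj U] [IsCommMonObj U] [Flat U.hom] [IsSeparated U.hom]
    (N : ℕ) (hN : (𝟙 (Red.bc (Neron.genPt R) U) : Red.bc (Neron.genPt R) U ⟶ Red.bc (Neron.genPt R) U) ^ (p ^ N) = 1)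
    (ℓ : ℕ) (hℓ : ℓ.Prime) (hℓu : IsUnit (ℓ : R)) :
    IsIso ((𝟙 U : U ⟶ U) ^ ℓ) := by
  haveI : Fact p.Prime := ⟨hp⟩
  have hℓp : Nat.Coprime ℓ (p ^ N) := by
    refine Nat.Coprime.pow_right _ ((Nat.coprime_primes hℓ hp).2 fun h => ?_)
    subst h
    have := hℓu.map (algebraMap R (FractionRing R))
    rw [map_natCast, CharP.cast_eq_zero] at this
    exact not_isUnit_zero this
  have hpow : (𝟙 U : U ⟶ U) ^ (p ^ N) = 1 := by
    haveI := NMPLib.stDominant_genericFst R U.hom
    refine NMPLib.hom_ext (pullback.fst U.hom (Neron.genPt R)) ?_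
    rw [← NMPLib.map_left_fst, ← NMPLib.map_left_fst]
    refine congrArg (fun t : (Over.pullback (Neron.genPt R)).obj U ⟶ (Over.pullback (Neron.genPt R)).obj U =>
      t.left ≫ pullback.fst U.hom (Neron.genPt R)) ?_
    refine ((Over.pullback (Neron.genPt R)).homMonoidHom.map_pow (𝟙 U : U ⟶ U) (p ^ N)).trans ?_
    refine Eq.trans ?_ ((Over.pullback (Neron.genPt R)).map_one (X := U) (M := U)).symm
    refine Eq.trans (congrArg (· ^ p ^ N) ?_) hN
    exact (Over.pullback (Neron.genPt R)).map_id U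
  have key : ∀ a b : ℕ, ((𝟙 U : U ⟶ U) ^ a) ≫ ((𝟙 U : U ⟶ U) ^ b) = (𝟙 U : U ⟶ U) ^ (a * b) := fun a b => by
    rw [MonObj.comp_pow, Category.comp_id, pow_mul]
  obtain ⟨a, ha⟩ : ∃ a, (𝟙 U : U ⟶ U) ^ (a * ℓ) = 𝟙 U := by
    rcases Nat.eq_zero_or_pos N with rfl | hN0
    · exact ⟨1, by rw [pow_zero, pow_one] at hpow; simp [hpow]⟩
    obtain ⟨a, -, ha⟩ := Nat.exists_mul_mod_eq_one_of_coprime hℓp (Nat.one_lt_pow hN0.ne' hp.one_lt)
    exact ⟨a, by rw [← Nat.mod_add_div (a * ℓ) (p ^ N), Nat.mul_comm a ℓ, ha, pow_add, pow_mul, hpow, one_pow]; exact (_root_.mul_one _).trans (pow_one _)⟩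
  exact ⟨(𝟙 U : U ⟶ U) ^ a, by rw [key, mul_comm, ha], by rw [key, ha]⟩

end Groth.Agent.S17688
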