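import Groth.Statements.S17689
import Groth.Agent.PurInsepLib.Basic

set_option autoImplicit false
universe u
open CategoryTheory AlgebraicGeometry
open Neron

namespace Groth.Agent.S17689

/-- Let R ⊆ S be a finite extension of discrete valuation rings (the structure map R → S is injective
and S is a finite R-module) such that the induced extension K ⊆ L of fraction fields is purely
inseparable. Then the morphism Spec S → Spec R is a universal homeomorphism: every base change of it
is a homeomorphism on underlying spaces. (No excellence hypothesis is needed here.) -/
theorem result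
    (R S K L : Type u) [CommRing R] [IsDomain R] [IsDiscreteValuationRing R]
    [CommRing S] [IsDomain S] [IsDiscreteValuationRing S] [Algebra R S] [Module.Finite R S] [FaithfulSMul R S]
    [Field K] [Field L] [Algebra R K] [IsFractionRing R K] [Algebra S L] [IsFractionRing S L]
    [Algebra K L] [Algebra R L] [IsScalarTower R S L] [IsScalarTower R K L] [IsPurelyInseparable K L] :
    FlatMor.IsUnivHomeo (Spec.map (CommRingCat.ofHom (algebraMap R S))) := by
  obtain ⟨q, hq⟩ := ExpChar.exists K
  haveI := hq
  haveI : ExpChar R q := RingHom.expChar (algebraMap R K) (IsFractionRing.injective R K) q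
  refine PurInsepLib.isUnivHomeo (FaithfulSMul.algebraMap_injective R S) q fun b => ?_
  obtain ⟨n, c, hc⟩ := IsPurelyInseparable.pow_mem K q (algebraMap S L b)
  have hint : IsIntegral R c := by
    refine (isIntegral_algebraMap_iff (algebraMap K L).injective).1 ?_
    rw [hc, ← map_pow]
    exact (Algebra.IsIntegral.isIntegral (b ^ q ^ n)).algebraMap
  obtain ⟨a, rfl⟩ := IsIntegrallyClosed.isIntegral_iff.1 hint
  refine ⟨n, a, IsFractionRing.injective S L ?_⟩
  rw [map_pow, ← IsScalarTower.algebraMap_apply, IsScalarTower.algebraMap_apply R K L, hc]

end Groth.Agent.S17689
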