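import Groth.Statements.S17690
import Groth.Agent.S2654
import Groth.Agent.DomDVR.FiniteExt
import Mathlib

set_option autoImplicit false
universe u
open Neron

namespace Groth.Agent.S17690

/-- Let R be an excellent discrete valuation ring (Noetherian, universally catenary, G-ring, J-2) with
fraction field K, and let L be a finite purely inseparable field extension of K. Then the integral
closure S of R in L is a discrete valuation ring, and S is a finite R-module. -/
theorem result
    (R K L : Type u) [CommRing R] [IsDomain R] [IsDiscreteValuationRing R] (hR : EGA4.IsExcellent R)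
    [Field K] [Algebra R K] [IsFractionRing R K] [Field L] [Algebra K L] [FiniteDimensional K L]
    [IsPurelyInseparable K L] [Algebra R L] [IsScalarTower R K L] :
    IsDiscreteValuationRing ↥(integralClosure R L) ∧ Module.Finite R ↥(integralClosure R L) := by
  classical
  haveI : IsNoetherianRing R := hR.1
  have hRL : Function.Injective (algebraMap R L) := by
    rw [IsScalarTower.algebraMap_eq R K L]; exact (algebraMap K L).injective.comp (IsFractionRing.injective R K)
  haveI : FaithfulSMul R L := (faithfulSMul_iff_algebraMap_injective R L).2 hRL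
  let S := integralClosure R L
  have hfin : Module.Finite R S := by
    obtain ⟨-, hN2⟩ := Groth.Agent.S2654.result R ⟨hR.1, hR.2.2.1, hR.2.2.2⟩
    let R0 := R ⧸ (⊥ : Ideal R)
    haveI : (⊥ : Ideal R).IsPrime := Ideal.isPrime_bot
    letI : Algebra R0 L := ((algebraMap R L).comp (RingEquiv.quotientBot R).toRingHom).toAlgebra
    haveI : IsScalarTower R R0 L := IsScalarTower.of_algebraMap_eq fun r => rfl
    have hinj0 : Function.Injective (algebraMap R0 L) := hRL.comp (RingEquiv.quotientBot R).injective
    let F := FractionRing R0
    letI : Algebra F L := (IsFractionRing.lift (A := R0) (K := F) hinj0).toAlgebra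
    haveI : IsScalarTower R0 F L := IsScalarTower.of_algebraMap_eq fun r =>
      (IsFractionRing.lift_algebraMap (A := R0) (K := F) hinj0 r).symm
    haveI : IsScalarTower R F L := IsScalarTower.to₁₃₄ R R0 F L
    have hRF : Function.Injective (algebraMap R F) := by
      rw [IsScalarTower.algebraMap_eq R R0 F]
      exact (IsFractionRing.injective R0 F).comp (RingEquiv.quotientBot R).symm.injective
    letI : Algebra K F := (IsFractionRing.lift (A := R) (K := K) hRF).toAlgebra
    haveI : IsScalarTower R K F := IsScalarTower.of_algebraMap_eq fun r =>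
      (IsFractionRing.lift_algebraMap (A := R) (K := K) hRF r).symm
    haveI : IsScalarTower K F L := IsScalarTower.of_algebraMap_eq' (IsLocalization.ringHom_ext (nonZeroDivisors R)
      (by rw [RingHom.comp_assoc, ← IsScalarTower.algebraMap_eq R K L, ← IsScalarTower.algebraMap_eq R K F,
        ← IsScalarTower.algebraMap_eq R F L]))
    haveI : FiniteDimensional F L := Module.Finite.of_restrictScalars_finite K F L
    haveI : Module.Finite R0 (integralClosure R0 L) := hN2 ⊥ L inferInstance
    haveI : Module.Finite R R0 := Module.Finite.of_surjective (Algebra.linearMap R R0) Ideal.Quotient.mk_surjective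
    haveI : Module.Finite R (integralClosure R0 L) := Module.Finite.trans R0 _
    let g : (integralClosure R0 L) →ₗ[R] S :=
      { toFun := fun z => ⟨(z : L), by
          haveI : Algebra.IsIntegral R R0 := Algebra.IsIntegral.of_finite R R0
          exact isIntegral_trans (R := R) (A := R0) _ z.2⟩
        map_add' := fun a b => rfl
        map_smul' := fun c a => Subtype.ext (by simp) }
    exact Module.Finite.of_surjective g fun z => ⟨⟨(z : L), IsIntegral.tower_top z.2⟩, rfl⟩
  refine ⟨?_, hfin⟩
  haveI := hfin
  haveI : Ring.DimensionLEOne R := inferInstance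
  haveI : IsDedekindDomain S := Groth.Agent.DomDVR.isDedekindDomain_integralClosure_finite R K L
  haveI : Algebra.IsIntegral R S := Algebra.IsIntegral.of_finite R S
  have hRS : Function.Injective (algebraMap R S) := fun a b h => hRL (congrArg Subtype.val h)
  have hnf : ¬ IsField S := fun h => IsDiscreteValuationRing.not_isField R (isField_of_isIntegral_of_isField hRS h)
  obtain ⟨q, hq⟩ := ExpChar.exists K
  have hpow : ∀ x : S, ∃ n : ℕ, ∃ a : R, x ^ q ^ n = algebraMap R S a := fun x => by
    obtain ⟨n, c, hc⟩ := IsPurelyInseparable.pow_mem K q (x : L)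
    obtain ⟨a, ha⟩ : ∃ a : R, algebraMap R K a = c := IsIntegrallyClosed.algebraMap_eq_of_integral
      ((isIntegral_algHom_iff (IsScalarTower.toAlgHom R K L) (algebraMap K L).injective).1 (by
        show IsIntegral R (algebraMap K L c)
        rw [hc]; exact x.2.pow _))
    refine ⟨n, a, Subtype.ext ?_⟩
    show (x : L) ^ q ^ n = algebraMap R L a
    rw [IsScalarTower.algebraMap_apply R K L, ha, hc]
  have hle : ∀ Q Q' : Ideal S, Q.IsMaximal → Q'.IsMaximal → Q ≤ Q' := by
    intro Q Q' hQ hQ' x hx
    obtain ⟨n, a, ha⟩ := hpow x
    haveI := hQ; haveI := hQ'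
    have hm : Q.comap (algebraMap R S) = Q'.comap (algebraMap R S) :=
      (IsLocalRing.eq_maximalIdeal (Ideal.isMaximal_comap_of_isIntegral_of_isMaximal Q)).trans
        (IsLocalRing.eq_maximalIdeal (Ideal.isMaximal_comap_of_isIntegral_of_isMaximal Q')).symm
    have h1 : a ∈ Q.comap (algebraMap R S) := by
      show algebraMap R S a ∈ Q
      rw [← ha]
      exact Ideal.pow_mem_of_mem Q hx _ (pow_pos (expChar_pos K q) n)
    rw [hm] at h1
    have h2 : algebraMap R S a ∈ Q' := h1
    rw [← ha] at h2
    exact hQ'.isPrime.mem_of_pow_mem _ h2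
  haveI : IsLocalRing S := by
    obtain ⟨M, hM⟩ := Ideal.exists_maximal S
    exact IsLocalRing.of_unique_max_ideal ⟨M, hM, fun M' hM' => hM'.eq_of_le hM.ne_top (hle M' M hM' hM)⟩
  exact ((IsDiscreteValuationRing.TFAE S hnf).out 0 2 rfl rfl).2 inferInstance

end Groth.Agent.S17690
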