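import Groth.Statements.S7628
set_option maxHeartbeats 1000000
set_option backward.isDefEq.respectTransparency false
open TopologicalSpace
open scoped TensorProduct
-- import your own Groth.Agent.* helpers here

set_option autoImplicit false
universe u
open CategoryTheory CategoryTheory.Limits AlgebraicGeometry
open Variety

namespace Groth.Agent.S7628

/-- Let X be a scheme over a field k, A a k-algebra and V ⊆ X_A = X ×_k Spec A a quasi-compact open
subset. Then there are a finitely generated k-subalgebra A' ⊆ A and a quasi-compact open subset V' ⊆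
X_{A'} such that V is the inverse image of V' under the transition morphism X_A → X_{A'} (any
morphism compatible with the projections to X and with Spec A → Spec A'; it is unique). -/
theorem result (k : Type u) [Field k] (X : Scheme.{u}) [X.Over (Spec (CommRingCat.of k))] (A : Type u) [CommRing A] [Algebra k A]
    (V : Set ↥(pullback (X ↘ (Spec (CommRingCat.of k))) (Spec.map (CommRingCat.ofHom (algebraMap k A))))) (hV : IsOpen V) (hVc : IsCompact V) :
    ∃ (A' : Subalgebra k A), A'.FG ∧
      ∃ (V' : Set ↥(pullback (X ↘ (Spec (CommRingCat.of k))) (Spec.map (CommRingCat.ofHom (algebraMap k ↥A'))))), IsOpen V' ∧ IsCompact V' ∧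
        ∀ π : pullback (X ↘ (Spec (CommRingCat.of k))) (Spec.map (CommRingCat.ofHom (algebraMap k A))) ⟶
            pullback (X ↘ (Spec (CommRingCat.of k))) (Spec.map (CommRingCat.ofHom (algebraMap k ↥A'))),
          π ≫ pullback.fst _ _ = pullback.fst _ _ →
          π ≫ pullback.snd _ _ = pullback.snd _ _ ≫ Spec.map (CommRingCat.ofHom A'.val.toRingHom) →
            π.base ⁻¹' V' = V := by
  classical
  let s := X ↘ (Spec (CommRingCat.of k))
  let alg : ∀ (U : X.affineOpens), Algebra k Γ(X, U.1) := fun U => (Spec.preimage (U.2.fromSpec ≫ s)).hom.toAlgebra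
  have hs : ∀ U : X.affineOpens, (letI := alg U; U.2.fromSpec ≫ s = Spec.map (CommRingCat.ofHom (algebraMap k Γ(X, U.1)))) :=
    fun U => (Spec.map_preimage (U.2.fromSpec ≫ s)).symm
  -- the affine charts of `X_B`
  have chart : ∀ (B : Type u) [CommRing B] [Algebra k B] (U : X.affineOpens),
      letI := alg U
      ∃ j : Spec (CommRingCat.of (Γ(X, U.1) ⊗[k] B)) ⟶ pullback s (Spec.map (CommRingCat.ofHom (algebraMap k B))),
        IsOpenImmersion j ∧
        j ≫ pullback.fst _ _ = Spec.map (CommRingCat.ofHom Algebra.TensorProduct.includeLeftRingHom) ≫ U.2.fromSpec ∧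
        j ≫ pullback.snd _ _ = Spec.map (CommRingCat.ofHom (Algebra.TensorProduct.includeRight : B →ₐ[k] Γ(X, U.1) ⊗[k] B).toRingHom) ∧
        Set.range j = (pullback.fst s (Spec.map (CommRingCat.ofHom (algebraMap k B)))) ⁻¹' (U.1 : Set X) := by
    intro B _ _ U
    letI := alg U
    have hpo := (isPullback_SpecMap_of_isPushout _ _ _ _ (CommRingCat.isPushout_tensorProduct k Γ(X, U.1) B)).flip
    let j : Spec (CommRingCat.of (Γ(X, U.1) ⊗[k] B)) ⟶ pullback s (Spec.map (CommRingCat.ofHom (algebraMap k B))) :=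
      pullback.lift (Spec.map (CommRingCat.ofHom Algebra.TensorProduct.includeLeftRingHom) ≫ U.2.fromSpec)
        (Spec.map (CommRingCat.ofHom (Algebra.TensorProduct.includeRight : B →ₐ[k] Γ(X, U.1) ⊗[k] B).toRingHom))
        (by rw [Category.assoc, hs U]; exact hpo.w.symm)
    have hP : IsPullback j (Spec.map (CommRingCat.ofHom Algebra.TensorProduct.includeLeftRingHom))
        (pullback.fst s (Spec.map (CommRingCat.ofHom (algebraMap k B)))) U.2.fromSpec := by
      refine IsPullback.of_right ?_ (pullback.lift_fst _ _ _) (IsPullback.of_hasPullback s _).flip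
      rw [pullback.lift_snd, hs U]
      exact hpo
    refine ⟨j, MorphismProperty.of_isPullback (P := @IsOpenImmersion) hP.flip inferInstance, pullback.lift_fst _ _ _,
      pullback.lift_snd _ _ _, ?_⟩
    ext v
    constructor
    · rintro ⟨w, rfl⟩
      rw [Set.mem_preimage, ← Scheme.Hom.comp_apply, hP.w, Scheme.Hom.comp_apply]
      exact U.2.range_fromSpec.subset ⟨_, rfl⟩
    · intro hv
      obtain ⟨q, hq⟩ := U.2.range_fromSpec.ge hv
      obtain ⟨w, hw, -⟩ := Scheme.exists_preimage_of_isPullback hP v q hq.symm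
      exact ⟨w, hw⟩
  choose j hjo hjf hjs hjr using fun (U : X.affineOpens) => chart A U
  -- cover `V` by finitely many standard pieces
  have hpc : ∀ v : V, ∃ (U : X.affineOpens) (h : (letI := alg U; Γ(X, U.1) ⊗[k] A)),
      (v : ↥(pullback s (Spec.map (CommRingCat.ofHom (algebraMap k A))))) ∈ (j U) '' (PrimeSpectrum.basicOpen h : Set (PrimeSpectrum _)) ∧
        (j U) '' (PrimeSpectrum.basicOpen h : Set (PrimeSpectrum _)) ⊆ V := by
    rintro ⟨v, hv⟩
    obtain ⟨W, hW, hxW, -⟩ := exists_isAffineOpen_mem_and_subset (X := X) (U := ⊤)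
      (x := pullback.fst s (Spec.map (CommRingCat.ofHom (algebraMap k A))) v) trivial
    let U : X.affineOpens := ⟨W, hW⟩
    letI := alg U
    obtain ⟨w, rfl⟩ : v ∈ Set.range (j U) := by rw [hjr U]; exact hxW
    obtain ⟨_, ⟨_, ⟨h, rfl⟩, rfl⟩, hwh, hhV⟩ := (PrimeSpectrum.isBasis_basic_opens (R := Γ(X, U.1) ⊗[k] A)).exists_subset_of_mem_open
      (show w ∈ (j U) ⁻¹' V from hv) (hV.preimage (j U).continuous)
    exact ⟨U, h, ⟨w, hwh, rfl⟩, Set.image_subset_iff.2 hhV⟩
  choose U h hmem hsub using hpc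
  obtain ⟨t, ht⟩ := hVc.elim_finite_subcover (fun v : V => (j (U v)) '' (PrimeSpectrum.basicOpen (h v) : Set (PrimeSpectrum _)))
    (fun v => by
      haveI := hjo (U v)
      exact (j (U v)).isOpenEmbedding.isOpenMap _ (PrimeSpectrum.basicOpen (h v)).isOpen)
    (fun v hv => Set.mem_iUnion.2 ⟨⟨v, hv⟩, hmem ⟨v, hv⟩⟩)
  have hfin : ∀ v : V, ∃ S : Finset A, ∀ B : Subalgebra k A, (S : Set A) ⊆ B →
      letI := alg (U v)
      h v ∈ Set.range (Algebra.TensorProduct.map (AlgHom.id k Γ(X, (U v).1)) B.val) := by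
    intro v
    letI := alg (U v)
    generalize h v = z
    induction z using TensorProduct.induction_on with
    | zero => exact ⟨∅, fun B _ => ⟨0, map_zero _⟩⟩
    | tmul r a => exact ⟨{a}, fun B hB => ⟨r ⊗ₜ ⟨a, hB (by simp)⟩, by simp⟩⟩
    | add y z hy hz =>
      obtain ⟨S, hS⟩ := hy
      obtain ⟨T, hT⟩ := hz
      refine ⟨S ∪ T, fun B hB => ?_⟩
      obtain ⟨y', hy'⟩ := hS B (subset_trans (by simp) hB)
      obtain ⟨z', hz'⟩ := hT B (subset_trans (by simp) hB)
      exact ⟨y' + z', by rw [map_add, hy', hz']⟩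
  choose S hS using hfin
  let A' : Subalgebra k A := Algebra.adjoin k ((t.biUnion S : Finset A) : Set A)
  choose j' hjo' hjf' hjs' hjr' using fun (U : X.affineOpens) => chart A' U
  choose h' hh' using fun v : t => hS v.1 A' (subset_trans (Finset.coe_subset.2 (Finset.subset_biUnion_of_mem S v.2)) Algebra.subset_adjoin)
  refine ⟨A', Subalgebra.fg_adjoin_finset _, ⋃ v : t, (j' (U v.1)) '' (PrimeSpectrum.basicOpen (h' v) : Set (PrimeSpectrum _)), ?_, ?_, ?_⟩
  · refine isOpen_iUnion fun v => ?_
    haveI := hjo' (U v.1)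
    exact (j' (U v.1)).isOpenEmbedding.isOpenMap _ (PrimeSpectrum.basicOpen (h' v)).isOpen
  · exact isCompact_iUnion fun v => (PrimeSpectrum.isCompact_basicOpen (h' v)).image (j' (U v.1)).continuous
  intro π hπf hπs
  have key : ∀ v : t, π.base ⁻¹' ((j' (U v.1)) '' (PrimeSpectrum.basicOpen (h' v) : Set (PrimeSpectrum _))) =
      (j (U v.1)) '' (PrimeSpectrum.basicOpen (h v.1) : Set (PrimeSpectrum _)) := by
    intro v
    letI := alg (U v.1)
    let μ := Algebra.TensorProduct.map (AlgHom.id k Γ(X, (U v.1).1)) A'.val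
    have hcomp : j (U v.1) ≫ π = Spec.map (CommRingCat.ofHom μ.toRingHom) ≫ j' (U v.1) := by
      apply pullback.hom_ext
      · rw [Category.assoc, hπf, hjf, Category.assoc, hjf', ← Spec.map_comp_assoc]
        congr 2
      · rw [Category.assoc, hπs, reassoc_of% (hjs (U v.1)), Category.assoc, hjs', ← Spec.map_comp, ← Spec.map_comp]
        congr 1
    have hpre : (Spec.map (CommRingCat.ofHom μ.toRingHom)) ⁻¹' (PrimeSpectrum.basicOpen (h' v) : Set (PrimeSpectrum _)) =
        (PrimeSpectrum.basicOpen (h v.1) : Set (PrimeSpectrum _)) := by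
      rw [← hh' v]
      rfl
    haveI := hjo' (U v.1)
    ext w
    constructor
    · intro hw
      obtain ⟨q, hq, hqw⟩ := hw
      have hwU : w ∈ Set.range (j (U v.1)) := by
        rw [hjr]
        have h2 : pullback.fst s (Spec.map (CommRingCat.ofHom (algebraMap k A'))) (π w) ∈ (U v.1).1 :=
          (hjr' (U v.1)).subset ⟨q, hqw⟩
        rwa [← Scheme.Hom.comp_apply, hπf] at h2
      obtain ⟨z, rfl⟩ := hwU
      refine ⟨z, ?_, rfl⟩
      have h3 : j' (U v.1) q = j' (U v.1) (Spec.map (CommRingCat.ofHom μ.toRingHom) z) := by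
        rw [← Scheme.Hom.comp_apply (Spec.map (CommRingCat.ofHom μ.toRingHom)), ← hcomp, Scheme.Hom.comp_apply]
        exact hqw
      rw [← hpre, Set.mem_preimage, ← (j' (U v.1)).isOpenEmbedding.injective h3]
      exact hq
    · rintro ⟨z, hz, rfl⟩
      rw [← hpre] at hz
      exact ⟨_, hz, by rw [← Scheme.Hom.comp_apply, ← hcomp, Scheme.Hom.comp_apply]⟩
  rw [Set.preimage_iUnion]
  refine Set.Subset.antisymm (Set.iUnion_subset fun v => (key v).trans_subset (hsub v.1)) fun w hw => ?_
  obtain ⟨v, hv, hwv⟩ := Set.mem_iUnion₂.1 (ht hw)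
  exact Set.mem_iUnion.2 ⟨⟨v, hv⟩, (key ⟨v, hv⟩).ge hwv⟩

end Groth.Agent.S7628
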