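import Groth.Statements.S2047
import Groth.Agent.GRingCompleteLib.Descend
-- import your own Groth.Agent.* helpers here

set_option autoImplicit false
universe u
open CAlg

namespace Groth.Agent.S2047

/-- A Noetherian ring `R` is a G-ring if and only if for every maximal ideal `𝔪` the completion map of
`R_𝔪` is a regular ring map. -/
theorem result {R : Type u} [CommRing R] [IsNoetherianRing R] :
    CAlg.IsGRing R ↔ ∀ (m : Ideal R) [m.IsMaximal],
      CAlg.IsRegularHom (Localization.AtPrime m)
        (AdicCompletion (IsLocalRing.maximalIdeal (Localization.AtPrime m)) (Localization.AtPrime m)) := by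
  refine ⟨fun h m _ => h.2 m, fun h => ⟨inferInstance, fun p hp => ?_⟩⟩
  obtain ⟨m, hm, hpm⟩ := p.exists_le_maximal hp.ne_top
  haveI := hm
  haveI : IsNoetherianRing (Localization.AtPrime m) := IsLocalization.isNoetherianRing m.primeCompl _ inferInstance
  haveI : IsNoetherianRing (Localization.AtPrime p) := IsLocalization.isNoetherianRing p.primeCompl _ inferInstance
  letI : Algebra (Localization.AtPrime m) (Localization.AtPrime p) :=
    (IsLocalization.map (M := m.primeCompl) (T := p.primeCompl) (S := Localization.AtPrime m) (Localization.AtPrime p)
      (RingHom.id R) (fun x hx hxp => hx (hpm hxp))).toAlgebra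
  haveI : IsScalarTower R (Localization.AtPrime m) (Localization.AtPrime p) :=
    IsScalarTower.of_algebraMap_eq fun r => by
      rw [RingHom.algebraMap_toAlgebra, IsLocalization.map_eq, RingHom.id_apply]
  haveI : Algebra.EssFiniteType R (Localization.AtPrime p) :=
    Algebra.EssFiniteType.of_isLocalization _ p.primeCompl
  haveI : Algebra.EssFiniteType (Localization.AtPrime m) (Localization.AtPrime p) :=
    Algebra.EssFiniteType.of_comp R _ _
  exact GRingCompleteLib.isRegularHom_completion_essFiniteType (Localization.AtPrime m) (h m) (Localization.AtPrime p)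

end Groth.Agent.S2047
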