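import Groth.Statements.S17703
import Groth.Agent.GRingCompleteLib.Excellent
import Groth.Agent.S2047
import Groth.Agent.FlatDepth.Fibres
import Groth.Agent.CMCat.Polynomial
-- import your own Groth.Agent.* helpers here

set_option autoImplicit false
universe u
open Neron

namespace Groth.Agent.S17703

/-- Let R be a discrete valuation ring with fraction field K, R̂ its completion and K̂ = Frac R̂. Then R
is excellent (Noetherian, universally catenary, G-ring and J-2) if and only if K̂ is geometrically
reduced over K, i.e. K ⊆ K̂ is separable; here K̂ is written as the generic formal fibre κ(0) ⊗_R R̂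
of R, which is R̂ with the uniformizer inverted. -/
theorem result
    (R : Type u) [CommRing R] [IsDomain R] [IsDiscreteValuationRing R] :
    EGA4.IsExcellent R ↔
      Algebra.IsGeometricallyReduced (⊥ : Ideal R).ResidueField (EGA4.formalFibre R (⊥ : Ideal R)) := by
  haveI : (⊥ : Ideal R).IsPrime := Ideal.isPrime_bot
  let m := IsLocalRing.maximalIdeal R
  let e : R ≃ₐ[R] Localization.AtPrime m := IsLocalization.atUnits R m.primeCompl (fun x hx => IsLocalRing.notMem_maximalIdeal.1 hx)
  constructor
  · rintro ⟨-, -, hG, -⟩
    have h := ExcLib.isRegularHom_completion_of_ringEquiv e.symm.toRingEquiv (hG.2 m)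
    exact GRingCompleteLib.isGeometricallyReduced_of_regular _ _ (h.2 ⊥).2
  · intro h
    letI := (GRingCompleteLib.isField_fibre_bot R).toField
    haveI := h
    have hreg : CAlg.IsRegularHom R (EGA4.Cpl R) := by
      refine ⟨(RegLocal.faithfullyFlat_completion R m (IsLocalRing.maximalIdeal.isMaximal R).ne_top).toFlat, fun p hp => ?_⟩
      by_cases h0 : p = ⊥
      · subst h0
        exact ⟨inferInstance, RegDesc.isGeometricallyRegular_of_geometricallyReduced _ _⟩
      · obtain rfl : p = IsLocalRing.maximalIdeal R := IsLocalRing.eq_maximalIdeal (hp.isMaximal h0)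
        exact ExcLib.fibre_maximal R
    haveI : LocCoh.IsCohenMacaulayRing R := FlatDepth.cm_of_regular R
    refine ⟨inferInstance, CMCat.isUniversallyCatenary_of_cm, S2047.result.2 fun n hn => ?_,
      GRingCompleteLib.isJ2_of_isRegularHom_completion R hreg⟩
    obtain rfl := IsLocalRing.eq_maximalIdeal hn
    exact ExcLib.isRegularHom_completion_of_ringEquiv e.toRingEquiv hreg

end Groth.Agent.S17703
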