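import Groth.Statements.S1771
import Groth.Agent.KollarLib.Normalization
-- import your own Groth.Agent.* helpers here

set_option autoImplicit false
universe u
open LocCoh

namespace Groth.Agent.S1771

/-- Let A be a Noetherian ring which is Nagata and universally catenary, I an ideal of A and M a finite
A-module. Suppose that for every associated prime p of M not containing I and every prime q
containing both p and I, the longest chain of primes from p to q has length at least 2. Then the
local cohomology module H^1_I(M) is a finite A-module. The published statement asserts that the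
pushforward of a coherent sheaf from the open complement of V(I) is coherent; this is its affine
form, stated as finiteness of H^1_I(M). -/
theorem result (A : Type u) [CommRing A] [IsNoetherianRing A] (hN : CAlg.IsNagata A) (hU : CAlg.IsUniversallyCatenary A) (I : Ideal A) (M : Type u) [AddCommGroup M] [Module A M] [Module.Finite A M] (h : ∀ (p q : PrimeSpectrum A) (hpq : p ≤ q), p.asIdeal ∈ associatedPrimes A M → ¬ I ≤ p.asIdeal → I ≤ q.asIdeal → (2 : ℕ∞) ≤ Order.height (⟨q, hpq⟩ : Set.Ici p)) : Module.Finite A (LocCoh.H I 1 M) := by
  refine KollarLib.finite_H1_of_height hU I M (fun p hp => ?_) (fun p hp hI q hq hIq => ?_)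
  · exact hN.2 p (FractionRing (A ⧸ p)) inferInstance
  · haveI := hp.1
    haveI := hq
    let P : PrimeSpectrum A := ⟨p, hp.1⟩
    let Q : PrimeSpectrum A := ⟨q.comap (Ideal.Quotient.mk p), inferInstance⟩
    have hPQ : P ≤ Q := fun a ha => by
      show Ideal.Quotient.mk p a ∈ q
      rw [Ideal.Quotient.eq_zero_iff_mem.2 ha]; exact zero_mem _
    refine (h P Q hPQ hp hI (Ideal.map_le_iff_le_comap.1 hIq)).trans ?_
    rw [PrimeSpectrum.height_eq_orderHeight ⟨q, hq⟩]
    have hex : ∀ x : Set.Ici P, ∃ z : PrimeSpectrum (A ⧸ p), PrimeSpectrum.comap (Ideal.Quotient.mk p) z = x.1 := fun x => by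
      rw [← Set.mem_range, range_comap_of_surjective _ _ Ideal.Quotient.mk_surjective, Ideal.mk_ker]
      exact x.2
    choose f hf using hex
    have hle : ∀ z w : PrimeSpectrum (A ⧸ p), PrimeSpectrum.comap (Ideal.Quotient.mk p) z ≤
        PrimeSpectrum.comap (Ideal.Quotient.mk p) w → z ≤ w := fun z w hzw a ha => by
      obtain ⟨a, rfl⟩ := Ideal.Quotient.mk_surjective a
      exact hzw ha
    have hmono : StrictMono f := fun x y hxy => by
      refine lt_of_le_not_ge (hle _ _ (by rw [hf, hf]; exact hxy.le)) fun hyx => ?_
      have h2 : PrimeSpectrum.comap (Ideal.Quotient.mk p) (f y) ≤ PrimeSpectrum.comap (Ideal.Quotient.mk p) (f x) :=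
        fun a ha => hyx ha
      rw [hf, hf] at h2
      exact not_le_of_gt (show x.1 < y.1 from hxy) h2
    have hfq : f ⟨Q, hPQ⟩ = ⟨q, hq⟩ :=
      PrimeSpectrum.comap_injective_of_surjective _ Ideal.Quotient.mk_surjective (hf ⟨Q, hPQ⟩)
    rw [← hfq]
    exact Order.height_le_height_apply_of_strictMono f hmono _

end Groth.Agent.S1771
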