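import Groth.Statements.S17714
import Groth.Agent.MBBernLib.Basic
-- import your own Groth.Agent.* helpers here

set_option autoImplicit false
open MoretBailly

namespace Groth.Agent.S17714

/-- Let n ≥ 2 and d ≥ 1 be natural numbers with n congruent to 0 or 1 modulo 4, and s an integer with 2s
> n + d + 1. Write B(x) = x/(1 - e^(-x)) for the exponential generating series of the Bernoulli
numbers (B'_1 = 1/2). Then for all sufficiently large natural numbers p the coefficient of x^n in
B(-dx)^(-1) B(-dpx) B(x)^(n+1) e^((dp-d-n-1+s)x) is strictly negative. (The published statement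
asserts this for every n ≥ 2 not congruent to 2 modulo 4. For n congruent to 3 modulo 4 the
coefficient is a polynomial in p of degree n - 1 with leading coefficient (2s-d-n-1) B'_(n-1)
d^(n-1)/(2 (n-1)!) > 0, so it is eventually positive: for n = 3, d = 1, s = 3 it equals (p^2 -
1)/24. The residues 0 and 1 are exactly the ones the leading-term argument gives.) -/
theorem result (n d : ℕ) (s : ℤ) (hn : 2 ≤ n)
    (hmod : n % 4 = 0 ∨ n % 4 = 1) (hd : 1 ≤ d) (hs : (n : ℤ) + d + 1 < 2 * s) :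
    ∃ P : ℕ, ∀ p : ℕ, P ≤ p →
      PowerSeries.coeff n ((PowerSeries.rescale (-(d : ℚ)) (bernoulli'PowerSeries ℚ))⁻¹ * PowerSeries.rescale (-((d : ℚ) * p)) (bernoulli'PowerSeries ℚ) * bernoulli'PowerSeries ℚ ^ (n + 1) * PowerSeries.rescale ((d : ℚ) * p - d - n - 1 + s) (PowerSeries.exp ℚ)) < 0 := by
  have hd' : (0 : ℚ) < d := by exact_mod_cast hd
  have hs' : (n : ℚ) + d + 1 < 2 * s := by exact_mod_cast hs
  set R := MBBern.lowPoly (d : ℚ) n (MBBern.G (d : ℚ) (n + 1) ((s : ℚ) - d - n - 1)) with hR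
  have hdeg : R.natDegree ≤ n - 2 := MBBern.natDegree_lowPoly _ _ _
  rcases hmod with h | h
  · have hB1 : bernoulli' n < 0 := MBBern.bernoulli'_neg_of_mod_four_eq_zero h (by omega)
    have hB2 : bernoulli' (n - 1) = 0 := bernoulli'_eq_zero_of_odd
      (Nat.odd_iff.2 (by omega)) (by omega)
    obtain ⟨P, hP⟩ := MBBern.eventually_neg (bernoulli' n * (d : ℚ) ^ n / (Nat.factorial n : ℚ))
      (div_neg_of_neg_of_pos (mul_neg_of_neg_of_pos hB1 (by positivity)) (by positivity))
      n (by omega) R (by omega)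
    refine ⟨P, fun p hp => ?_⟩
    rw [MBBern.integrand_eq (d : ℚ) ((d : ℚ) * p) (n + 1) ((s : ℚ) - d - n - 1) _ (by ring),
      MBBern.coeff_rescale_mul (d : ℚ) (p : ℚ) n hn _ (MBBern.G0 _ _ _), MBBern.G1]
    rw [← hR, hB2]
    calc _ = bernoulli' n * (d : ℚ) ^ n / (Nat.factorial n : ℚ) * (p : ℚ) ^ n + R.eval (p : ℚ) := by
          ring
      _ < 0 := hP p hp
  · have hB1 : bernoulli' (n - 1) < 0 :=
      MBBern.bernoulli'_neg_of_mod_four_eq_zero (by omega) (by omega)
    have hB2 : bernoulli' n = 0 := bernoulli'_eq_zero_of_odd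
      (Nat.odd_iff.2 (by omega)) (by omega)
    have hc : 0 < (2 * (s : ℚ) - d - n - 1) / 2 := by linarith
    obtain ⟨P, hP⟩ := MBBern.eventually_neg ((2 * (s : ℚ) - d - n - 1) / 2 * bernoulli' (n - 1) *
        (d : ℚ) ^ (n - 1) / (Nat.factorial (n - 1) : ℚ))
      (div_neg_of_neg_of_pos (mul_neg_of_neg_of_pos (mul_neg_of_pos_of_neg hc hB1) (by positivity))
        (by positivity))
      (n - 1) (by omega) R (by omega)
    refine ⟨P, fun p hp => ?_⟩
    rw [MBBern.integrand_eq (d : ℚ) ((d : ℚ) * p) (n + 1) ((s : ℚ) - d - n - 1) _ (by ring),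
      MBBern.coeff_rescale_mul (d : ℚ) (p : ℚ) n hn _ (MBBern.G0 _ _ _), MBBern.G1]
    rw [← hR, hB2]
    calc _ = (2 * (s : ℚ) - d - n - 1) / 2 * bernoulli' (n - 1) *
          (d : ℚ) ^ (n - 1) / (Nat.factorial (n - 1) : ℚ) * (p : ℚ) ^ (n - 1) + R.eval (p : ℚ) := by
          push_cast
          ring
      _ < 0 := hP p hp

end Groth.Agent.S17714
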