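import Groth.Statements.S17715
import Groth.Agent.MBBernLib.Basic
-- import your own Groth.Agent.* helpers here

set_option autoImplicit false
open MoretBailly

namespace Groth.Agent.S17715

/-- Write B(x) = x/(1 - e^(-x)) for the exponential generating series of the Bernoulli numbers (B'_1 =
1/2). For all natural numbers d and p the coefficient of x^3 in B(-dx)^(-1) B(-dpx) B(x)^4
e^((dp-d-3)x), i.e. the case n = 3, s = 1 of the Todd-class integrand, equals
-d(d+2)(p-1)(dp-d-2)/24 = -(d^3+2d^2) p^2/24 + (d^3+3d^2+2d) p/12 - (d^3+4d^2+4d)/24. (The published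
closed form has the same p^2 and p coefficients but constant term -(d^3+2d^2+2d)/24; direct
expansion gives the value stated here, which vanishes at p = 1.) -/
theorem result (d p : ℕ) :
    PowerSeries.coeff 3 ((PowerSeries.rescale (-(d : ℚ)) (bernoulli'PowerSeries ℚ))⁻¹ * PowerSeries.rescale (-((d : ℚ) * p)) (bernoulli'PowerSeries ℚ) * bernoulli'PowerSeries ℚ ^ (4) * PowerSeries.rescale ((d : ℚ) * p - d - 3) (PowerSeries.exp ℚ)) =
      -((d : ℚ) * (d + 2) * (p - 1) * (d * p - d - 2)) / 24 := by
  rw [MBBern.integrand_eq (d : ℚ) ((d : ℚ) * p) 4 (-(d : ℚ) - 3) _ (by ring)]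
  have hB2 : ∀ f : PowerSeries ℚ, f ^ 4 = f * f * (f * f) := fun f => by ring
  simp only [MBBern.coeff_three_mul', MBBern.G, hB2, MBBern.coeff_two_mul', MBBern.coeff_one_mul',
    MBBern.mul0, MBBern.inv0, MBBern.inv1, MBBern.inv2, MBBern.inv3, MBBern.coeff_B,
    PowerSeries.coeff_rescale, PowerSeries.coeff_exp, bernoulli'_zero, bernoulli'_one,
    bernoulli'_two, bernoulli'_three]
  norm_num [Nat.factorial]
  ring

end Groth.Agent.S17715
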