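import Groth.Statements.S17718
import Groth.Agent.S17714
import Groth.Agent.MBBernLib.Basic
-- import your own Groth.Agent.* helpers here

set_option autoImplicit false
open MoretBailly

namespace Groth.Agent.S17718

/-- Let n ≥ 2 and d ≥ 1 be natural numbers with n not congruent to 2 modulo 4, and write B(x) = x/(1 -
e^(-x)) for the exponential generating series of the Bernoulli numbers (B'_1 = 1/2). Then there is
an integer s ≥ 1 such that for all sufficiently large natural numbers p the coefficient of x^n in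
B(-dx)^(-1) B(-dpx) B(x)^(n+1) e^((dp-d-n-1+s)x) is strictly negative. (The published argument fixes
any s with 2s > n + d + 1, which gives the sign only for n congruent to 0 or 1 modulo 4; for n
congruent to 3 modulo 4 the choice s = 1 makes the leading coefficient (2s-d-n-1) B'_(n-1)
d^(n-1)/(2 (n-1)!) negative instead.) -/
theorem result (n d : ℕ) (hn : 2 ≤ n)
    (hmod : n % 4 ≠ 2) (hd : 1 ≤ d) :
    ∃ s : ℤ, 1 ≤ s ∧ ∃ P : ℕ, ∀ p : ℕ, P ≤ p →
      PowerSeries.coeff n ((PowerSeries.rescale (-(d : ℚ)) (bernoulli'PowerSeries ℚ))⁻¹ * PowerSeries.rescale (-((d : ℚ) * p)) (bernoulli'PowerSeries ℚ) * bernoulli'PowerSeries ℚ ^ (n + 1) * PowerSeries.rescale ((d : ℚ) * p - d - n - 1 + s) (PowerSeries.exp ℚ)) < 0 := by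
  by_cases h3 : n % 4 = 3
  · refine ⟨1, le_rfl, ?_⟩
    have hd' : (1 : ℚ) ≤ d := by exact_mod_cast hd
    have hn' : (2 : ℚ) ≤ n := by exact_mod_cast hn
    set s : ℤ := 1 with hs
    set R := MBBern.lowPoly (d : ℚ) n (MBBern.G (d : ℚ) (n + 1) ((s : ℚ) - d - n - 1)) with hR
    have hdeg : R.natDegree ≤ n - 2 := MBBern.natDegree_lowPoly _ _ _
    have hB1 : 0 < bernoulli' (n - 1) := MBBern.bernoulli'_pos_of_mod_four_eq_two (by omega)
    have hB2 : bernoulli' n = 0 := bernoulli'_eq_zero_of_odd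
      (Nat.odd_iff.2 (by omega)) (by omega)
    have hc : (2 * (s : ℚ) - d - n - 1) / 2 < 0 := by rw [hs]; push_cast; linarith
    obtain ⟨P, hP⟩ := MBBern.eventually_neg ((2 * (s : ℚ) - d - n - 1) / 2 * bernoulli' (n - 1) *
        (d : ℚ) ^ (n - 1) / (Nat.factorial (n - 1) : ℚ))
      (div_neg_of_neg_of_pos (mul_neg_of_neg_of_pos (mul_neg_of_neg_of_pos hc hB1) (by positivity))
        (by positivity))
      (n - 1) (by omega) R (by omega)
    refine ⟨P, fun p hp => ?_⟩
    rw [MBBern.integrand_eq (d : ℚ) ((d : ℚ) * p) (n + 1) ((s : ℚ) - d - n - 1) _ (by ring),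
      MBBern.coeff_rescale_mul (d : ℚ) (p : ℚ) n hn _ (MBBern.G0 _ _ _), MBBern.G1]
    rw [← hR, hB2]
    calc _ = (2 * (s : ℚ) - d - n - 1) / 2 * bernoulli' (n - 1) *
          (d : ℚ) ^ (n - 1) / (Nat.factorial (n - 1) : ℚ) * (p : ℚ) ^ (n - 1) + R.eval (p : ℚ) := by
          push_cast
          ring
      _ < 0 := hP p hp
  · obtain ⟨P, hP⟩ := Groth.Agent.S17714.result n d ((n : ℤ) + d + 1) hn (by omega) hd (by omega)
    exact ⟨(n : ℤ) + d + 1, by omega, P, hP⟩

end Groth.Agent.S17718
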