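import Groth.Statements.S17719
import Groth.Agent.NodeSeriesLib.Basic
import Groth.Agent.NodeSeriesLib.Content
import Groth.Agent.RegLocal.UFD

set_option autoImplicit false
universe u
open scoped TensorProduct
open CAlg

namespace Groth.Agent.S17719

open MvPowerSeries IsLocalRing Groth.Agent.NodeSeriesLib

section

variable {R : Type u} [CommRing R] [IsDomain R] [IsNoetherianRing R] [IsLocalRing R]
  [IsAdicComplete (maximalIdeal R) R] [UniqueFactorizationMonoid R] {r : R} (hr : r ∈ maximalIdeal R)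

include hr in
lemma dvd_d_mul_d {G G' : MvPowerSeries (Fin 2) R} {s : R} (hs : s ≠ 0)
    (h : G * G' - C s ∈ Ideal.span {eqn r}) (k l : ℤ) : s ∣ d hr G k * d hr G' l :=
  dvd_of_prime_pow_dvd hs fun _ hπ m hm => pow_dvd_d_mul_d hr hπ m (fun n => by
    rw [d_congr hr h, d_C]
    split_ifs
    · exact hm
    · exact dvd_zero _) k l

lemma swapXY_C (s : R) : swapXY (C s : MvPowerSeries (Fin 2) R) = C s := by
  simp [swapXY]

lemma swapXY_swapXY (G : MvPowerSeries (Fin 2) R) : swapXY (swapXY G) = G :=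
  ext_idx fun p q => by rw [coeff_swapXY, coeff_swapXY]

include hr in
lemma main {G G' : MvPowerSeries (Fin 2) R} {s : R} (hr0 : r ≠ 0) (hs : s ≠ 0)
    (h : G * G' - C s ∈ Ideal.span {eqn r}) (n : ℕ) (ε : Rˣ)
    (hn : d hr G n * d hr G' (-(n : ℤ)) = s * ε) :
    ∃ (c : R) (U : MvPowerSeries (Fin 2) R), IsUnit U ∧
      G - C c * X 0 ^ n * U ∈ Ideal.span {eqn r} := by
  have hσ : swapXY G * swapXY G' - C s ∈ Ideal.span {eqn r} := by
    simpa [swapXY_C] using swapXY_mem_span h
  rw [d_natCast, d_neg_natCast] at hn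
  set b := T hr G n 0 with hb
  set c' := T hr G' 0 n with hc'
  have hne : b * (r ^ n * c') ≠ 0 := by rw [hn]; exact mul_ne_zero hs ε.ne_zero
  have hb0 : b ≠ 0 := left_ne_zero_of_mul hne
  have hc0 : r ^ n * c' ≠ 0 := right_ne_zero_of_mul hne
  have hc'0 : c' ≠ 0 := right_ne_zero_of_mul hc0
  have hsd : ∀ x : R, s ∣ x → b * (r ^ n * c') ∣ x := fun x hx => by
    rw [hn]; exact Units.mul_right_dvd.2 hx
  have he : ∀ j : ℕ, b ∣ T hr G (n + j) 0 := fun j => by
    have := hsd _ (dvd_d_mul_d hr hs h ((n + j : ℕ) : ℤ) (-(n : ℤ)))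
    rw [d_natCast, d_neg_natCast] at this
    exact (mul_dvd_mul_iff_right hc0).1 this
  have hf1 : ∀ i : ℕ, ∃ f, i ≤ n → T hr G (n - i) 0 = b * r ^ i * f := fun i => by
    by_cases hi : i ≤ n
    · have := hsd _ (dvd_d_mul_d hr hs hσ (-((n - i : ℕ) : ℤ)) (n : ℤ))
      rw [d_natCast, d_neg_natCast, T_swapXY, T_swapXY] at this
      rw [← mul_assoc] at this
      obtain ⟨f, hf⟩ := (mul_dvd_mul_iff_right hc'0).1 this
      refine ⟨f, fun _ => mul_left_cancel₀ (pow_ne_zero (n - i) hr0) ?_⟩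
      rw [hf, show b * r ^ n = r ^ (n - i) * (b * r ^ i) by
        rw [mul_left_comm, ← pow_add, Nat.sub_add_cancel hi]]
      ring
    · exact ⟨0, fun h => absurd h hi⟩
  have hf2 : ∀ q : ℕ, b * r ^ n ∣ T hr G 0 q := fun q => by
    have := hsd _ (dvd_d_mul_d hr hs hσ (q : ℤ) (n : ℤ))
    rw [d_natCast, d_natCast, T_swapXY, T_swapXY, ← mul_assoc] at this
    exact (mul_dvd_mul_iff_right hc'0).1 this
  choose e he using he
  choose f1 hf1 using hf1
  choose f2 hf2 using hf2
  set f : ℕ → R := fun i => if i ≤ n then f1 i else f2 (i - n) with hf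
  have he0 : e 0 = 1 := mul_left_cancel₀ hb0 (by rw [← he 0, mul_one, add_zero, hb])
  refine ⟨b, nf e f, ?_, ?_⟩
  · refine MvPowerSeries.isUnit_iff_constantCoeff.2 ?_
    have := coeff_nf e f 0 0
    simp only [idx, Finsupp.single_zero, add_zero, if_true, coeff_zero_eq_constantCoeff_apply] at this
    rw [this, he0]; exact isUnit_one
  · have hx : ∀ p, T hr G p 0 = T hr (C b * X 0 ^ n * nf e f) p 0 := fun p => by
      rw [mul_assoc, T_C_mul, T_X_pow_mul]
      by_cases hp : n ≤ p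
      · obtain ⟨j, rfl⟩ : ∃ j, p = n + j := ⟨p - n, by omega⟩
        rw [if_pos hp, T_nf, if_pos rfl, he j, Nat.add_sub_cancel_left]
      · rw [if_neg hp, T_nf, if_neg (by omega), if_pos rfl, zero_add, hf]
        simp only
        rw [if_pos (by omega), ← mul_assoc, ← hf1 (n - p) (by omega),
          show n - (n - p) = p by omega]
    refine mem_span_of_T_eq hr hx fun q => ?_
    rcases Nat.eq_zero_or_pos q with rfl | hq
    · exact hx 0
    · rw [mul_assoc, T_C_mul, T_X_pow_mul]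
      rcases Nat.eq_zero_or_pos n with hn0 | hn0
      · rw [if_pos (by omega), T_nf, if_neg (by omega), if_pos (by omega), hf]
        simp only
        rw [if_neg (by omega), hf2 q, hn0, pow_zero, mul_one, Nat.sub_zero]
      · rw [if_neg (by omega), T_nf, if_neg (by omega), if_pos rfl, hf]
        simp only
        rw [if_neg (by omega), hf2 q, Nat.sub_zero, Nat.add_sub_cancel]
        ring

include hr in
lemma exists_index {G G' : MvPowerSeries (Fin 2) R} {s : R} (hs : s ≠ 0)
    (h : G * G' - C s ∈ Ideal.span {eqn r}) :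
    ∃ (k : ℤ) (ε : Rˣ), d hr G k * d hr G' (-k) = s * ε := by
  by_contra hcon
  choose t ht using fun k => dvd_d_mul_d hr hs h k (-k)
  have htm : ∀ k, t k ∈ maximalIdeal R := fun k hu => hcon ⟨k, hu.unit, by rw [ht k]; rfl⟩
  refine hs (eq_zero_of_forall_pow fun N => ?_)
  have hm := d_mul hr G G' N N
  rw [d_congr hr h, d_C, if_pos (sub_self _)] at hm
  have hsum : ∑ x ∈ Finset.HasAntidiagonal.antidiagonal (N + N),
      d hr G ((x.1 : ℤ) - N) * d hr G' ((x.2 : ℤ) - N) =
      s * ∑ x ∈ Finset.HasAntidiagonal.antidiagonal (N + N), t ((x.1 : ℤ) - N) := by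
    rw [Finset.mul_sum]
    refine Finset.sum_congr rfl fun x hx => ?_
    have := Finset.HasAntidiagonal.mem_antidiagonal.1 hx
    rw [← ht, show (x.2 : ℤ) - N = -((x.1 : ℤ) - N) by omega]
  rw [hsum] at hm
  set S := ∑ x ∈ Finset.HasAntidiagonal.antidiagonal (N + N), t ((x.1 : ℤ) - N)
  have hS : S ∈ maximalIdeal R := Ideal.sum_mem _ fun x _ => htm _
  have hu : IsUnit (1 - S) := by
    rcases IsLocalRing.isUnit_or_isUnit_one_sub_self S with h1 | h1
    · exact absurd h1 hS
    · exact h1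
  rw [show s - s * S = s * (1 - S) by ring, hu.dvd_mul_right] at hm
  obtain ⟨c, rfl⟩ := hm
  exact Ideal.mul_mem_right _ _ (Ideal.pow_mem_pow hr N)

include hr in
lemma exists_form {G G' : MvPowerSeries (Fin 2) R} {s : R} (hr0 : r ≠ 0) (hs : s ≠ 0)
    (h : G * G' - C s ∈ Ideal.span {eqn r}) :
    ∃ (c : R) (m n : ℕ) (U : MvPowerSeries (Fin 2) R), m * n = 0 ∧ IsUnit U ∧
      G - C c * X 0 ^ n * X 1 ^ m * U ∈ Ideal.span {eqn r} := by
  obtain ⟨k, ε, hk⟩ := exists_index hr hs h
  obtain ⟨j, rfl | rfl⟩ := k.eq_nat_or_neg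
  · obtain ⟨c, U, hU, hG⟩ := main hr hr0 hs h j ε hk
    exact ⟨c, 0, j, U, zero_mul _, hU, by rwa [pow_zero, mul_one]⟩
  · have hσ : swapXY G * swapXY G' - C s ∈ Ideal.span {eqn r} := by
      simpa [swapXY_C] using swapXY_mem_span h
    have hk' : d hr (swapXY G) j * d hr (swapXY G') (-(j : ℤ)) = s * ε := by
      rw [← hk, neg_neg, d_natCast, d_natCast, d_neg_natCast, d_neg_natCast, T_swapXY, T_swapXY]
      ring
    obtain ⟨c, U, hU, hG⟩ := main hr hr0 hs hσ j ε hk'
    refine ⟨c, j, 0, swapXY U, mul_zero _, hU.map swapXY, ?_⟩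
    have := swapXY_mem_span hG
    rw [map_sub, map_mul, map_mul, map_pow, swapXY_swapXY, swapXY_C] at this
    have hX : swapXY (X 0 : MvPowerSeries (Fin 2) R) = X 1 := by
      simp [swapXY]
    rw [hX] at this
    rwa [pow_zero, mul_one]

end

lemma exists_dvd_of_isUnit_tmul {R A : Type u} [CommRing R] [CommRing A] [Algebra R A] {a : A}
    (ha : IsUnit (a ⊗ₜ[R] (1 : FractionRing R) : A ⊗[R] FractionRing R)) :
    ∃ s ∈ nonZeroDivisors R, a ∣ algebraMap R A s := by
  have ha' : IsUnit (algebraMap A (A ⊗[R] FractionRing R) a) := by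
    rw [Algebra.TensorProduct.algebraMap_apply]; exact ha
  obtain ⟨z, hz, hdvd⟩ :=
    (IsLocalization.algebraMap_isUnit_iff (Algebra.algebraMapSubmonoid A (nonZeroDivisors R))).1 ha'
  obtain ⟨s, hs, rfl⟩ := hz
  exact ⟨s, hs, hdvd⟩

open MvPowerSeries in
/-- Let R be a regular local ring, complete for its maximal ideal, with fraction field K; let r be a
non-zero element of R and A the quotient of the power series ring in two variables x, y over R by
the ideal generated by xy − r. If an element a of A maps to a unit of A ⊗_R K, then there are an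
element s of R, natural numbers m and n with mn = 0 and a unit u of A with a = s xⁿ yᵐ u. -/
theorem result
    (R : Type u) [CommRing R] [IsRegularLocalRing R]
    [IsAdicComplete (IsLocalRing.maximalIdeal R) R]
    (r : R) (hr : r ≠ 0)
    (a : (MvPowerSeries (Fin 2) R ⧸ Ideal.span {(X 0 * X 1 - C r : MvPowerSeries (Fin 2) R)}))
    (ha : IsUnit (a ⊗ₜ[R] (1 : FractionRing R) :
      (MvPowerSeries (Fin 2) R ⧸ Ideal.span {(X 0 * X 1 - C r : MvPowerSeries (Fin 2) R)}) ⊗[R] FractionRing R)) :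
    ∃ (s : R) (m n : ℕ) (u : (MvPowerSeries (Fin 2) R ⧸ Ideal.span {(X 0 * X 1 - C r : MvPowerSeries (Fin 2) R)})ˣ),
      m * n = 0 ∧ a = Ideal.Quotient.mk _ (C s * X 0 ^ n * X 1 ^ m) * (u : (MvPowerSeries (Fin 2) R ⧸ Ideal.span {(X 0 * X 1 - C r : MvPowerSeries (Fin 2) R)})) := by
  classical
  have : IsDomain R := Groth.Agent.RegLocal.isDomain R
  haveI : UniqueFactorizationMonoid R := Groth.Agent.RegLocal.ufd R
  by_cases hru : IsUnit r
  · haveI : Subsingleton (MvPowerSeries (Fin 2) R ⧸ Ideal.span {(X 0 * X 1 - C r : MvPowerSeries (Fin 2) R)}) := by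
      rw [Ideal.Quotient.subsingleton_iff, Ideal.span_singleton_eq_top,
        MvPowerSeries.isUnit_iff_constantCoeff]
      simpa using hru.neg
    exact ⟨0, 0, 0, 1, zero_mul _, Subsingleton.elim _ _⟩
  obtain ⟨G, rfl⟩ := Ideal.Quotient.mk_surjective a
  obtain ⟨s, hs, hdvd⟩ := exists_dvd_of_isUnit_tmul ha
  obtain ⟨b, hb⟩ := hdvd
  obtain ⟨G', rfl⟩ := Ideal.Quotient.mk_surjective b
  have h : G * G' - C s ∈ Ideal.span {eqn r} := by
    rw [← map_mul] at hb
    exact Ideal.Quotient.eq.1 hb.symm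
  obtain ⟨c, m, n, U, hmn, hU, hG⟩ := exists_form hru hr (nonZeroDivisors.ne_zero hs) h
  refine ⟨c, m, n, (hU.map (Ideal.Quotient.mk _)).unit, hmn, ?_⟩
  rw [IsUnit.unit_spec, ← map_mul]
  exact Ideal.Quotient.eq.2 hG

end Groth.Agent.S17719
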