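import Groth.Statements.S1772
import Groth.Agent.DualCxLib.CoindDual
import Groth.Agent.DualCxLib.Gorenstein
-- Template for statement S1772 (row 1771; see the milestone table for weights).
-- Copy to Groth/Agent/S1772.lean and replace the sorry. The statement below is byte-identical to the frozen
-- statement Dual.GrothFrozen.S1772 (Groth/Statements/S1772.lean; the theorem Dual.isDualizing_rightAdjoint_restrictD_of_finite);
-- the grader kernel-checks Groth.Agent.S1772.result against that frozen type. Keep the theorem IN THIS FILE
-- (a `result` declared elsewhere and merely imported here is not credited); helpers may live anywhere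
-- under Groth/Agent/.
-- helpers: DualCxLib

set_option autoImplicit false
universe u
open CategoryTheory
attribute [local instance] HasDerivedCategory.standard
open Dual Groth.Agent.DualCxLib

namespace Groth.Agent.S1772

/-- Let A → B be a finite homomorphism of Noetherian rings and ω a dualizing complex for A. If R : D(A)
→ D(B) is a right adjoint of the restriction of scalars D(B) → D(A) (so that R computes RHom_A(B,
−)), then R(ω) is a dualizing complex for B. -/
theorem result (A B : Type u) [CommRing A] [CommRing B] [Algebra A B] [IsNoetherianRing A] [IsNoetherianRing B] [Module.Finite A B] (R : Dual.D A ⥤ Dual.D B) (adj : DRing.restrictD (algebraMap A B) ⊣ R) (ω : Dual.D A) (hω : Dual.IsDualizing A ω) : Dual.IsDualizing B (R.obj ω) := by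
  let S := Groth.Agent.DualCxLib.model hω
  obtain ⟨c⟩ := S.rep.nonempty_coindIso B R adj
  exact Groth.Agent.DualCxLib.isDualizing_of_iso c (S.isDualizing_coext B hω)

end Groth.Agent.S1772
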