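import Mathlib
import Groth.Statements.S17720

set_option autoImplicit false
universe u
open CAlg

namespace Groth.Agent.S17720

open MvPowerSeries IsLocalRing

lemma coeff_single_mul {A : Type u} [CommRing A] (i : Fin 2) (f g : MvPowerSeries (Fin 2) A) :
    coeff (Finsupp.single i 1) (f * g) =
      constantCoeff f * coeff (Finsupp.single i 1) g +
        coeff (Finsupp.single i 1) f * constantCoeff g := by
  classical
  rw [coeff_mul, Finsupp.antidiagonal_single, Finset.sum_map,
    show Finset.HasAntidiagonal.antidiagonal (1 : ℕ) = {(0, 1), (1, 0)} from rfl, Finset.sum_pair (by simp)]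
  simp

lemma exists_decomp {A : Type u} [CommRing A] (f : MvPowerSeries (Fin 2) A) :
    ∃ (a : A) (g h : MvPowerSeries (Fin 2) A), f = C a + X 0 * g + X 1 * h := by
  classical
  let h : MvPowerSeries (Fin 2) A := fun n =>
    if n 0 = 0 then coeff (n + Finsupp.single 1 1) f else 0
  let g : MvPowerSeries (Fin 2) A := fun n => coeff (n + Finsupp.single 0 1) f
  refine ⟨constantCoeff f, g, h, ?_⟩
  ext n
  rw [map_add, map_add, X_def, X_def, coeff_monomial_mul, coeff_monomial_mul, coeff_C]
  by_cases h0 : n 0 = 0
  · by_cases h1 : n 1 = 0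
    · have : n = 0 := Finsupp.ext fun i => by fin_cases i <;> assumption
      subst this
      simp
    · have hn : n ≠ 0 := fun e => h1 (by simp [e])
      have le0 : ¬ Finsupp.single (0 : Fin 2) 1 ≤ n := by
        simp [Finsupp.single_le_iff, h0]
      have le1 : Finsupp.single (1 : Fin 2) 1 ≤ n := by
        simp [Finsupp.single_le_iff]; omega
      rw [if_neg hn, if_neg le0, if_pos le1, zero_add, zero_add, one_mul]
      show coeff n f = if (n - Finsupp.single 1 1 : Fin 2 →₀ ℕ) 0 = 0 then _ else _
      rw [if_pos (by simp [h0]), tsub_add_cancel_of_le le1]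
  · have hn : n ≠ 0 := fun e => h0 (by simp [e])
    have le0 : Finsupp.single (0 : Fin 2) 1 ≤ n := by
      simp [Finsupp.single_le_iff]; omega
    have e1 : ∀ _ : Finsupp.single (1 : Fin 2) 1 ≤ n,
        coeff (n - Finsupp.single 1 1) h = 0 := fun _ => by
      show (if (n - Finsupp.single 1 1 : Fin 2 →₀ ℕ) 0 = 0 then _ else (0 : A)) = 0
      rw [if_neg (by simp [h0])]
    rw [if_neg hn, if_pos le0, zero_add, one_mul]
    split_ifs with le1
    · rw [e1 le1, mul_zero, add_zero]
      show coeff n f = coeff (n - Finsupp.single 0 1 + Finsupp.single 0 1) f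
      rw [tsub_add_cancel_of_le le0]
    · rw [add_zero]
      show coeff n f = coeff (n - Finsupp.single 0 1 + Finsupp.single 0 1) f
      rw [tsub_add_cancel_of_le le0]

lemma mem_span_of_algEquiv {A : Type u} [CommRing A] [IsLocalRing A]
    (α β : A) (hα : α ∈ maximalIdeal A) (hβ : β ∈ maximalIdeal A)
    (ψ : (MvPowerSeries (Fin 2) A ⧸ Ideal.span {(X 0 * X 1 - C β : MvPowerSeries (Fin 2) A)}) ≃ₐ[A]
      (MvPowerSeries (Fin 2) A ⧸ Ideal.span {(X 0 * X 1 - C α : MvPowerSeries (Fin 2) A)})) :
    β ∈ Ideal.span {α} := by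
  let qa := Ideal.Quotient.mkₐ A (Ideal.span {(X 0 * X 1 - C α : MvPowerSeries (Fin 2) A)})
  let qb := Ideal.Quotient.mkₐ A (Ideal.span {(X 0 * X 1 - C β : MvPowerSeries (Fin 2) A)})
  have hqa : ∀ a : A, qa (C a) = algebraMap A _ a := fun a => AlgHom.commutes qa a
  have hqb : ∀ a : A, qb (C a) = algebraMap A _ a := fun a => AlgHom.commutes qb a
  -- non-units stay non-units
  have hnu : ∀ i : Fin 2, ∀ U, qa U = ψ (qb (X i)) → constantCoeff U ∈ maximalIdeal A := by
    intro i U hU
    rw [mem_maximalIdeal, mem_nonunits_iff]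
    intro hu
    have h1 : IsUnit (qb (X i)) := by
      have h2 : IsUnit (qa U) := (isUnit_iff_constantCoeff.2 hu).map qa
      rw [hU] at h2
      simpa using h2.map ψ.symm
    obtain ⟨Y', hY⟩ := h1.exists_right_inv
    obtain ⟨Y, rfl⟩ := Ideal.Quotient.mkₐ_surjective A _ Y'
    rw [← map_mul, ← map_one qb] at hY
    obtain ⟨W, hW⟩ := Ideal.mem_span_singleton'.1 (Ideal.Quotient.eq.1 hY)
    have h0 := congrArg constantCoeff hW
    simp at h0
    exact (mem_maximalIdeal _).1 hβ (IsUnit.of_mul_eq_one_right _ h0)
  obtain ⟨U, hU⟩ := Ideal.Quotient.mkₐ_surjective A _ (ψ (qb (X 0)))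
  obtain ⟨V, hV⟩ := Ideal.Quotient.mkₐ_surjective A _ (ψ (qb (X 1)))
  have hc := hnu 0 U hU
  have hd := hnu 1 V hV
  -- the equation of `β`
  obtain ⟨W, hW⟩ : ∃ W, W * (X 0 * X 1 - C α) = U * V - C β := by
    refine Ideal.mem_span_singleton'.1 (Ideal.Quotient.eq.1 ?_)
    show qa (U * V) = qa (C β)
    rw [map_mul, hqa]; erw [hU, hV]; rw [← map_mul, ← map_mul]
    have : qb (X 0 * X 1) = qb (C β) := Ideal.Quotient.eq.2 (Ideal.mem_span_singleton_self _)
    rw [this, hqb, AlgEquiv.commutes]
  have key : ∀ (i : Fin 2), ∃ g h w : A,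
      ∀ j : Fin 2, (if j = i then (1 : A) else 0) -
        (coeff (Finsupp.single j 1) U * g + coeff (Finsupp.single j 1) V * h) ∈ maximalIdeal A := by
    intro i
    obtain ⟨Z, hZ⟩ := Ideal.Quotient.mkₐ_surjective A _ (ψ.symm (qa (X i)))
    obtain ⟨a, G, H, rfl⟩ := exists_decomp Z
    obtain ⟨G', hG⟩ := Ideal.Quotient.mkₐ_surjective A _ (ψ (qb G))
    obtain ⟨H', hH⟩ := Ideal.Quotient.mkₐ_surjective A _ (ψ (qb H))
    have e1 : qa (X i) = qa (C a + U * G' + V * H') := by
      have := congrArg ψ hZ
      rw [AlgEquiv.apply_symm_apply] at this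
      rw [← this]
      erw [map_add qb, map_add qb, map_mul qb, map_mul qb, map_add qa, map_add qa, map_mul qa, map_mul qa]
      erw [hU, hV, hG, hH, hqa, hqb]
      simp only [map_add, map_mul, AlgEquiv.commutes]
    obtain ⟨W', hW'⟩ := Ideal.mem_span_singleton'.1 (Ideal.Quotient.eq.1 e1)
    refine ⟨constantCoeff G', constantCoeff H', 0, fun j => ?_⟩
    have h0 := congrArg (coeff (Finsupp.single j 1)) hW'
    simp only [map_sub, map_add, coeff_single_mul, coeff_C, coeff_X, constantCoeff_C,
      constantCoeff_X, map_mul] at h0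
    simp [Finsupp.single_eq_single_iff] at h0
    have hm : (if j = i then (1 : A) else 0) -
        (coeff (Finsupp.single j 1) U * constantCoeff G' +
          coeff (Finsupp.single j 1) V * constantCoeff H') =
        -(coeff (Finsupp.single j 1) W' * α) + constantCoeff U * coeff (Finsupp.single j 1) G' +
          constantCoeff V * coeff (Finsupp.single j 1) H' := by
      linear_combination -h0
    rw [hm]
    exact add_mem (add_mem (neg_mem (Ideal.mul_mem_left _ _ hα)) (Ideal.mul_mem_right _ _ hc))
      (Ideal.mul_mem_right _ _ hd)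
  have lin : ∀ j : Fin 2, constantCoeff U * coeff (Finsupp.single j 1) V +
      coeff (Finsupp.single j 1) U * constantCoeff V ∈ Ideal.span {α} := by
    intro j
    refine Ideal.mem_span_singleton'.2 ⟨-coeff (Finsupp.single j 1) W, ?_⟩
    have h0 := congrArg (coeff (Finsupp.single j 1)) hW
    simp only [map_sub, coeff_single_mul, coeff_C, coeff_X, constantCoeff_C, constantCoeff_X,
      map_mul] at h0
    simp [Finsupp.single_eq_single_iff] at h0
    linear_combination h0
  have cst : β - constantCoeff U * constantCoeff V ∈ Ideal.span {α} := by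
    refine Ideal.mem_span_singleton'.2 ⟨constantCoeff W, ?_⟩
    have h0 := congrArg constantCoeff hW
    simp at h0
    linear_combination -h0
  set u0 := coeff (Finsupp.single (0 : Fin 2) 1) U
  set u1 := coeff (Finsupp.single (1 : Fin 2) 1) U
  set v0 := coeff (Finsupp.single (0 : Fin 2) 1) V
  set v1 := coeff (Finsupp.single (1 : Fin 2) 1) V
  obtain ⟨g, h, -, hx⟩ := key 0
  obtain ⟨g', h', -, hy⟩ := key 1
  have hdet : IsUnit (u0 * v1 - u1 * v0) := by
    refine notMem_maximalIdeal.1 fun hmem => ?_
    have r0 := (residue_eq_zero_iff _).2 (hx 0)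
    have r1 := (residue_eq_zero_iff _).2 (hx 1)
    have r2 := (residue_eq_zero_iff _).2 (hy 0)
    have r3 := (residue_eq_zero_iff _).2 (hy 1)
    have r4 := (residue_eq_zero_iff _).2 hmem
    simp only [map_sub, map_add, map_mul, if_true, ite_true, if_neg (show ¬ (1 : Fin 2) = 0 by decide),
      if_neg (show ¬ (0 : Fin 2) = 1 by decide), map_one, map_zero] at r0 r1 r2 r3 r4
    refine one_ne_zero (α := ResidueField A) ?_
    linear_combination r0 + (residue A u0 * residue A g + residue A v0 * residue A h) * r3 +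
      (residue A g * residue A h' - residue A h * residue A g') * r4 -
      (residue A u0 * residue A g' + residue A v0 * residue A h') * r1
  have hcd : constantCoeff U ∈ Ideal.span {α} := by
    obtain ⟨e, he⟩ := hdet.exists_left_inv
    have e1 := Ideal.mul_mem_left _ (e * u0) (lin 1)
    have e2 := Ideal.mul_mem_left _ (e * u1) (lin 0)
    convert sub_mem e1 e2 using 1
    linear_combination -constantCoeff U * he
  simpa using add_mem cst (Ideal.mul_mem_right (constantCoeff V) _ hcd)

open MvPowerSeries IsLocalRing in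
/-- Let A be a Noetherian local ring and α, β two elements of its maximal ideal. If the quotient of the
power series ring in two variables over A by xy − α is isomorphic, as an A-algebra, to the quotient
by xy − β, then αA = βA. (The published statement allows any local ring A; it is taken Noetherian
here, the case in which an algebra isomorphism between these complete local rings is continuous for
their adic topologies.) -/
theorem result
    (A : Type u) [CommRing A] [IsLocalRing A] [IsNoetherianRing A]
    (α β : A) (hα : α ∈ maximalIdeal A) (hβ : β ∈ maximalIdeal A)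
    (φ : (MvPowerSeries (Fin 2) A ⧸ Ideal.span {(X 0 * X 1 - C α : MvPowerSeries (Fin 2) A)}) ≃ₐ[A] (MvPowerSeries (Fin 2) A ⧸ Ideal.span {(X 0 * X 1 - C β : MvPowerSeries (Fin 2) A)})) :
    Ideal.span {α} = Ideal.span {β} := by
  apply le_antisymm <;> rw [Ideal.span_singleton_le_iff_mem]
  · exact mem_span_of_algEquiv β α hβ hα φ
  · exact mem_span_of_algEquiv α β hα hβ φ.symm

end Groth.Agent.S17720
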