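import Mathlib
import Groth.Statements.S17721

set_option autoImplicit false
universe u
open CAlg

namespace Groth.Agent.S17721

open PowerSeries in
theorem exists_content {R : Type u} [CommRing R] [IsDomain R] [IsDiscreteValuationRing R] {ϖ : R} (hϖ : Irreducible ϖ) :
    ∀ (M : ℕ) (G : PowerSeries R), (∃ i, ¬ ϖ ^ (M + 1) ∣ coeff i G) →
      ∃ e ≤ M, ∃ G' : PowerSeries R, G = PowerSeries.C (ϖ ^ e) * G' ∧ PowerSeries.map (IsLocalRing.residue R) G' ≠ 0 := by
  intro M
  induction M with
  | zero =>
    rintro G ⟨i, hi⟩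
    refine ⟨0, le_rfl, G, by simp, fun h => hi ?_⟩
    have h1 := congrArg (coeff i) h
    rw [coeff_map, map_zero, IsLocalRing.residue_eq_zero_iff, hϖ.maximalIdeal_eq, Ideal.mem_span_singleton] at h1
    simpa using h1
  | succ M ih =>
    rintro G ⟨i, hi⟩
    by_cases h : ∀ j, ϖ ∣ coeff j G
    · choose g hg using h
      have hi' : ¬ ϖ ^ (M + 1) ∣ g i := fun hd => hi (by rw [hg i, pow_succ']; exact mul_dvd_mul_left ϖ hd)
      obtain ⟨e, he, G', hG', hne⟩ := ih (PowerSeries.mk g) ⟨i, by rwa [coeff_mk]⟩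
      refine ⟨e + 1, by omega, G', ?_, hne⟩
      rw [pow_succ', map_mul, mul_assoc, ← hG']
      ext j
      rw [coeff_C_mul, coeff_mk, hg j]
    · push Not at h
      obtain ⟨j, hj⟩ := h
      refine ⟨0, Nat.zero_le _, G, by simp, fun h0 => hj ?_⟩
      have h1 := congrArg (coeff j) h0
      rwa [coeff_map, map_zero, IsLocalRing.residue_eq_zero_iff, hϖ.maximalIdeal_eq, Ideal.mem_span_singleton] at h1

open Polynomial IsLocalRing in
/-- Let R be a complete discrete valuation ring with fraction field K, and f a polynomial over R with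
non-zero constant term a₀ such that a₀ does not divide some coefficient of f of positive degree
(equivalently, the Newton polygon of f has a side of negative slope). Let b be the power series over
K with b · f = a₀, the expansion of the geometric series in 1 − f/a₀. Then the valuations of the
coefficients b_j are not bounded below: for every non-zero c in R there is an index j with c · b_j
outside R. -/
theorem result
    (R : Type u) [CommRing R] [IsDomain R] [IsDiscreteValuationRing R]
    [IsAdicComplete (maximalIdeal R) R]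
    (K : Type u) [Field K] [Algebra R K] [IsFractionRing R K]
    (f : R[X]) (h0 : f.coeff 0 ≠ 0) (hslope : ∃ i : ℕ, 0 < i ∧ ¬ (f.coeff 0 ∣ f.coeff i))
    (b : PowerSeries K)
    (hb : b * ((f.map (algebraMap R K) : K[X]) : PowerSeries K) = PowerSeries.C (algebraMap R K (f.coeff 0))) :
    ∀ c : R, c ≠ 0 → ∃ j : ℕ, algebraMap R K c * PowerSeries.coeff j b ∉ (algebraMap R K).range := by
  intro c hc
  by_contra! hcon
  choose B hB using hcon
  let Bs : PowerSeries R := PowerSeries.mk B
  have hinj := IsFractionRing.injective R K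
  have heq : Bs * (f : PowerSeries R) = PowerSeries.C (c * f.coeff 0) := by
    apply PowerSeries.map_injective (algebraMap R K) hinj
    have h1 : PowerSeries.map (algebraMap R K) Bs = PowerSeries.C (algebraMap R K c) * b := by
      ext j; simp [Bs, hB]
    rw [map_mul, h1, ← Polynomial.polynomial_map_coe, mul_assoc, hb, PowerSeries.map_C, ← map_mul, ← map_mul]
  have hB0 : B 0 = c := by
    have h := congrArg (PowerSeries.constantCoeff) heq
    rw [map_mul, PowerSeries.constantCoeff_C, ← PowerSeries.coeff_zero_eq_constantCoeff_apply,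
      ← PowerSeries.coeff_zero_eq_constantCoeff_apply, Polynomial.coeff_coe, PowerSeries.coeff_mk] at h
    exact mul_right_cancel₀ h0 h
  obtain ⟨ϖ, hϖ⟩ := IsDiscreteValuationRing.exists_irreducible R
  obtain ⟨n, u, hu⟩ := IsDiscreteValuationRing.eq_unit_mul_pow_irreducible hc hϖ
  obtain ⟨m, v, hv⟩ := IsDiscreteValuationRing.eq_unit_mul_pow_irreducible h0 hϖ
  obtain ⟨i, -, hi⟩ := hslope
  rw [hv, Units.mul_left_dvd] at hi
  have hm : 0 < m := Nat.pos_of_ne_zero fun h => hi (by rw [h, pow_zero]; exact one_dvd _)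
  obtain ⟨e, he, F', hF', hF0⟩ := exists_content hϖ (m - 1) (f : PowerSeries R)
    ⟨i, by rwa [Polynomial.coeff_coe, Nat.sub_add_cancel hm]⟩
  obtain ⟨j, hj, B', hB', hB1⟩ := exists_content hϖ n Bs ⟨0, by
    rw [PowerSeries.coeff_mk, hB0, hu]
    intro h
    rw [Units.dvd_mul_left] at h
    exact absurd ((pow_dvd_pow_iff hϖ.ne_zero hϖ.not_isUnit).mp h) (by omega)⟩
  obtain ⟨t, ht⟩ : ∃ t, n + m = j + e + (t + 1) := ⟨n + m - j - e - 1, by omega⟩
  have h2 : B' * F' = PowerSeries.C ((u : R) * v * ϖ ^ (t + 1)) := by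
    have hne : PowerSeries.C (ϖ ^ (j + e)) ≠ 0 :=
      (map_ne_zero_iff _ PowerSeries.C_injective).mpr (pow_ne_zero _ hϖ.ne_zero)
    refine mul_left_cancel₀ hne ?_
    rw [hF', hB', hu, hv] at heq
    rw [← map_mul, show ϖ ^ (j + e) * ((u : R) * v * ϖ ^ (t + 1)) = (u : R) * ϖ ^ n * ((v : R) * ϖ ^ m) by
      rw [show (u : R) * ϖ ^ n * ((v : R) * ϖ ^ m) = (u : R) * v * ϖ ^ (n + m) by ring, ht]; ring, ← heq, pow_add,
      map_mul]
    ring
  have h3 := congrArg (PowerSeries.map (IsLocalRing.residue R)) h2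
  rw [map_mul, PowerSeries.map_C, map_mul, map_pow,
    (IsLocalRing.residue_eq_zero_iff ϖ).mpr (hϖ.maximalIdeal_eq ▸ Ideal.mem_span_singleton_self ϖ),
    zero_pow (Nat.succ_ne_zero t), mul_zero, map_zero] at h3
  exact (mul_eq_zero.mp h3).elim hB1 hF0

end Groth.Agent.S17721
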