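import Groth.Statements.S17722
import Mathlib

set_option autoImplicit false
universe u
open CAlg

namespace Groth.Agent.S17722

/-- Let R → R' be a faithfully flat ring map between Noetherian integrally closed local domains, and p
an ideal of R. If the ideal pR' generated by the image of p is principal, then p is principal. (The
second assertion of the published lemma, descent of unique factorization, is not part of this row.) -/
theorem result
    (R R' : Type u) [CommRing R] [CommRing R'] [IsDomain R] [IsDomain R']
    [IsNoetherianRing R] [IsNoetherianRing R'] [IsLocalRing R] [IsLocalRing R']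
    [IsIntegrallyClosed R] [IsIntegrallyClosed R']
    [Algebra R R'] [Module.FaithfullyFlat R R']
    (p : Ideal R) (hp : (p.map (algebraMap R R')).IsPrincipal) :
    p.IsPrincipal := by
  classical
  obtain ⟨c, hc⟩ := hp
  change p.map (algebraMap R R') = Ideal.span {c} at hc
  by_cases hc0 : c = 0
  · refine ⟨0, ?_⟩
    show p = Ideal.span {0}
    rw [← Ideal.comap_map_eq_self_of_faithfullyFlat (B := R') p, hc, hc0, ← Ideal.comap_map_eq_self_of_faithfullyFlat (B := R') (Ideal.span ({0} : Set R)), Ideal.map_span, Set.image_singleton, map_zero]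
  obtain ⟨x, hx, hxu⟩ : ∃ x ∈ p, Ideal.span {algebraMap R R' x} = Ideal.span {c} := by
    by_contra! hcon
    have hle : p.map (algebraMap R R') ≤ IsLocalRing.maximalIdeal R' * Ideal.span {c} := by
      rw [Ideal.map_le_iff_le_comap]
      intro x hx
      obtain ⟨b, hb⟩ := Ideal.mem_span_singleton'.mp (hc ▸ Ideal.mem_map_of_mem _ hx : algebraMap R R' x ∈ Ideal.span {c})
      have hbm : b ∈ IsLocalRing.maximalIdeal R' := fun hu => hcon x hx (by
        rw [← hb]; exact Ideal.span_singleton_mul_left_unit hu c)
      rw [Ideal.mem_comap, ← hb]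
      exact Ideal.mul_mem_mul hbm (Ideal.mem_span_singleton_self c)
    obtain ⟨z, hz, hzc⟩ := Ideal.mem_mul_span_singleton.mp ((hc ▸ hle) (Ideal.mem_span_singleton_self c))
    exact hz (by rw [(mul_left_eq_self₀.mp hzc).resolve_right hc0]; exact isUnit_one)
  refine ⟨x, ?_⟩
  show p = Ideal.span {x}
  rw [← Ideal.comap_map_eq_self_of_faithfullyFlat (B := R') p, hc, ← hxu, ← Ideal.comap_map_eq_self_of_faithfullyFlat (B := R') (Ideal.span ({x} : Set R)), Ideal.map_span, Set.image_singleton]

end Groth.Agent.S17722
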