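import Mathlib
import Groth.Agent.MTree.Cycle
import Groth.Prelude.Def_DualGr
import Groth.Statements.S17723

set_option autoImplicit false
universe u
open LabGraph

namespace Groth.Agent.S17723

open Groth.Agent

/-- Let G be a finite connected multigraph with endpoint map ends and edge labels l taking positive
integer values. We say g : V → ℤ is elementary-Cartier if, for some integer n ≥ 1, all values of g
are multiples of n and, for each edge whose label fails to divide n, g agrees at its two endpoints
(equivalently, once the edges with label dividing n are removed, g takes a single value on each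
connected piece of what remains). Then every Cartier function f (for each edge, the label divides
the difference of the values of f at its endpoints) lies in the ℤ-span of the elementary-Cartier
functions. -/
theorem result
    {V E : Type u} [Fintype V] [Fintype E] [DecidableEq V] [DecidableEq E]
    (ends : E → V × V) (l : E → ℕ) (hl : ∀ e, 0 < l e) (hconn : LabGraph.Connected ends)
    (f : V → ℤ) (hf : LabGraph.IsCartier ends l f) :
    f ∈ Submodule.span ℤ {g : V → ℤ | ∃ n : ℕ, 0 < n ∧ (∀ v, (n : ℤ) ∣ g v) ∧
      ∀ e, ¬ (l e ∣ n) → g (ends e).1 = g (ends e).2} := by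
  classical
  set S := Submodule.span ℤ {g : V → ℤ | ∃ n : ℕ, 0 < n ∧ (∀ v, (n : ℤ) ∣ g v) ∧
      ∀ e, ¬ (l e ∣ n) → g (ends e).1 = g (ends e).2} with hS
  have hdvd : ∀ e, l e ∣ ∏ e, l e := fun e => Finset.dvd_prod_of_mem l (Finset.mem_univ e)
  have hpos : 0 < ∏ e, l e := Finset.prod_pos fun e _ => hl e
  have h1 : (1 : ℤ) ∈ S.comap (LinearMap.toSpanSingleton ℤ (V → ℤ) f) := by
    refine MTree.one_mem_of_parts hpos _ ?_ ?_
    · exact Submodule.subset_span ⟨∏ e, l e, hpos, fun v => by simp, fun e he => absurd (hdvd e) he⟩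
    intro p a m hp hLm hm
    show (m : ℤ) • f ∈ S
    let F : ℕ → Finset E := fun j => Finset.univ.filter fun e => p ^ j ∣ l e
    let A : ℕ → V → ℤ := fun j v => (m : ℤ) * f (Quotient.out (s := DualGr.ctrSetoid ends (F j)) (DualGr.ctrMk ends (F j) v))
    have hA : ∀ j e, e ∈ F j → A j (ends e).1 = A j (ends e).2 := fun j e he => by
      show (_ * _ : ℤ) = _
      rw [DualGr.ctrMk_fst_eq_ctrMk_snd ends (F j) he]
    have hcongr : ∀ j v w, Relation.EqvGen (DualGr.CtrRel ends (F j)) v w → ((p ^ j : ℕ) : ℤ) ∣ f v - f w := by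
      intro j v w h
      induction h with
      | rel x y hxy =>
        obtain ⟨e, he, hxy⟩ := hxy
        have := (Int.natCast_dvd_natCast.mpr (Finset.mem_filter.mp he).2).trans (hf e)
        rwa [hxy] at this
      | refl => simp
      | symm x y _ ih => exact (dvd_sub_comm).mp ih
      | trans x y z _ _ ih1 ih2 => simpa using dvd_add ih1 ih2
    have hrep : ∀ j v, ((p ^ j : ℕ) : ℤ) ∣ f v - f (Quotient.out (s := DualGr.ctrSetoid ends (F j)) (DualGr.ctrMk ends (F j) v)) :=
      fun j v => dvd_sub_comm.mp (hcongr j _ _ (Quotient.exact (Quotient.out_eq (s := DualGr.ctrSetoid ends (F j)) (DualGr.ctrMk ends (F j) v))))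
    have hFanti : ∀ j, F (j + 1) ⊆ F j := fun j e he => by
      simp only [F, Finset.mem_filter, Finset.mem_univ, true_and] at he ⊢
      exact (pow_dvd_pow p (Nat.le_succ j)).trans he
    have hlast : A (a + 1) = (m : ℤ) • f := by
      funext v
      have hempty : ∀ e, e ∉ F (a + 1) := fun e he => by
        have h := ((Finset.mem_filter.mp he).2.trans (hdvd e))
        rw [hLm, pow_succ, Nat.mul_dvd_mul_iff_left (pow_pos hp.pos a)] at h
        exact hm h
      have : ∀ x y, Relation.EqvGen (DualGr.CtrRel ends (F (a + 1))) x y → x = y := by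
        intro x y h
        induction h with
        | rel x y hxy => obtain ⟨e, he, -⟩ := hxy; exact absurd he (hempty e)
        | refl => rfl
        | symm x y _ ih => exact ih.symm
        | trans x y z _ _ ih1 ih2 => exact ih1.trans ih2
      show (_ * _ : ℤ) = _
      rw [this _ _ (Quotient.exact (Quotient.out_eq (s := DualGr.ctrSetoid ends (F (a + 1))) (DualGr.ctrMk ends (F (a + 1)) v)))]
      rfl
    rw [← hlast, ← sub_add_cancel (A (a + 1)) (A 0), ← Finset.sum_range_sub A]
    refine add_mem (sum_mem fun j _ => Submodule.subset_span ⟨p ^ j * m, ?_, fun v => ?_, fun e he => ?_⟩)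
      (Submodule.subset_span ⟨1, Nat.one_pos, fun v => by simp, fun e _ => hA 0 e (by simp [F])⟩)
    · refine Nat.mul_pos (pow_pos hp.pos _) (Nat.pos_of_ne_zero fun h => hm (h ▸ dvd_zero p))
    · show _ ∣ A (j + 1) v - A j v
      simp only [A]
      rw [← mul_sub, Nat.cast_mul, mul_comm ((p ^ j : ℕ) : ℤ)]
      refine mul_dvd_mul_left _ ?_
      have h2 := (Int.natCast_dvd_natCast.mpr (pow_dvd_pow p (Nat.le_succ j))).trans (hrep (j + 1) v)
      have h := dvd_sub (hrep j v) h2
      rwa [sub_sub_sub_cancel_left] at h
    · have hmem : e ∈ F (j + 1) := Finset.mem_filter.mpr ⟨Finset.mem_univ e, by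
        by_contra h
        exact he (MTree.dvd_pow_mul hp (hLm ▸ hdvd e) h)⟩
      show A (j + 1) _ - A j _ = A (j + 1) _ - A j _
      rw [hA _ e hmem, hA _ e (hFanti j hmem)]
  simpa using h1

end Groth.Agent.S17723
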