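import Mathlib
import Groth.Agent.MTree.Cycle
import Groth.Statements.S17724

set_option autoImplicit false
universe u v
open LabGraph

namespace Groth.Agent.S17724

open Groth.Agent

/-- Let G be a finite connected multigraph with endpoint map ends, whose edges carry labels lab in a set
L and positive integer labels n, and suppose the L-labels are constant along every circuit. Say g :
V → ℤ is pre-achievable when for some finite set B of edges all carrying the same L-label, g takes
equal values at the two endpoints of every edge outside B (so g is constant on the connected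
components of the graph with B deleted); say g is Cartier when for every edge e the integer n(e)
divides the difference of the values of g at its endpoints. Then every Cartier function f is a
finite sum of functions each of which is Cartier and pre-achievable, and when f vanishes at a vertex
v₀ the summands can all be taken to vanish at v₀. -/
theorem result
    {V E : Type u} [Fintype V] [Fintype E] [DecidableEq V] [DecidableEq E] {L : Type v}
    (ends : E → V × V) (lab : E → L) (n : E → ℕ) (hn : ∀ e, 0 < n e)
    (hconn : LabGraph.Connected ends)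
    (hcirc : ∀ C : Finset E, LabGraph.IsCircuit ends C → ∀ e ∈ C, ∀ e' ∈ C, lab e = lab e')
    (f : V → ℤ) (hf : LabGraph.IsCartier ends n f) :
    f ∈ AddSubmonoid.closure {g : V → ℤ | LabGraph.IsCartier ends n g ∧ (∃ B : Finset E, (∀ e ∈ B, ∀ e' ∈ B, lab e = lab e') ∧ ∀ e, e ∉ B → g (ends e).1 = g (ends e).2)} ∧
    ∀ v₀ : V, f v₀ = 0 →
      f ∈ AddSubmonoid.closure {g : V → ℤ | LabGraph.IsCartier ends n g ∧ (∃ B : Finset E, (∀ e ∈ B, ∀ e' ∈ B, lab e = lab e') ∧ ∀ e, e ∉ B → g (ends e).1 = g (ends e).2) ∧ g v₀ = 0} := by
  classical
  obtain ⟨T, hT⟩ := MTree.exists_tree ends hconn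
  suffices key : ∀ r : V, ∃ g : L → V → ℤ, (∀ x, g x r = 0 ∧ IsCartier ends n (g x) ∧
      ∀ e, lab e ≠ x → g x (ends e).1 = g x (ends e).2) ∧
      f = (fun _ => f r) + ∑ x ∈ Finset.univ.image lab, g x by
    refine ⟨?_, fun v₀ hv₀ => ?_⟩
    · obtain ⟨g, hg, hsum⟩ := key hconn.1.some
      rw [hsum]
      refine add_mem (AddSubmonoid.subset_closure ⟨fun e => by simp, ∅, by simp, fun e _ => rfl⟩)
        (sum_mem fun x _ => AddSubmonoid.subset_closure ⟨(hg x).2.1, Finset.univ.filter fun e => lab e = x,
          fun e he e' he' => (Finset.mem_filter.mp he).2.trans (Finset.mem_filter.mp he').2.symm,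
          fun e he => (hg x).2.2 e fun h => he (Finset.mem_filter.mpr ⟨Finset.mem_univ e, h⟩)⟩)
    · obtain ⟨g, hg, hsum⟩ := key v₀
      rw [hsum, show (fun _ : V => f v₀) = 0 from funext fun _ => hv₀, zero_add]
      exact sum_mem fun x _ => AddSubmonoid.subset_closure ⟨(hg x).2.1, ⟨Finset.univ.filter fun e => lab e = x,
        fun e he e' he' => (Finset.mem_filter.mp he).2.trans (Finset.mem_filter.mp he').2.symm,
        fun e he => (hg x).2.2 e fun h => he (Finset.mem_filter.mpr ⟨Finset.mem_univ e, h⟩)⟩, (hg x).1⟩
  intro r
  choose g hgr hg using fun x : L => MTree.exists_pot ends hT r fun e => if lab e = x then MTree.del ends f e else 0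
  have hdel : ∀ x e, MTree.del ends (g x) e = if lab e = x then MTree.del ends f e else 0 := fun x e => by
    by_cases heT : e ∈ T
    · exact hg x e heT
    obtain ⟨C, hC, heC, -, hiff⟩ := MTree.exists_fund_circuit ends hT heT
    rw [MTree.del_eq_sum ends hT (g x) e, MTree.del_eq_sum ends hT f e]
    have hterm : ∀ t ∈ T, MTree.del ends (g x) t * MTree.coef ends hT t e =
        if lab e = x then MTree.del ends f t * MTree.coef ends hT t e else 0 := fun t ht => by
      by_cases hc : MTree.coef ends hT t e = 0
      · simp [hc]
      · rw [hg x t ht, hcirc C hC t ((hiff t ht).mpr hc) e heC]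
        split_ifs <;> simp
    rw [Finset.sum_congr rfl hterm]
    split_ifs <;> simp
  refine ⟨g, fun x => ⟨hgr x, fun e => ?_, fun e he => ?_⟩, ?_⟩
  · show _ ∣ MTree.del ends (g x) e
    rw [hdel]
    split_ifs
    · exact hf e
    · exact dvd_zero _
  · have h := hdel x e
    rwa [if_neg he, MTree.del, sub_eq_zero] at h
  · refine MTree.eq_of_del ends hT r (by simp [hgr]) fun t _ => ?_
    have : ∑ x ∈ Finset.univ.image lab, MTree.del ends (g x) t = MTree.del ends f t := by
      rw [Finset.sum_congr rfl fun x _ => hdel x t, Finset.sum_ite_eq, if_pos (Finset.mem_image_of_mem lab (Finset.mem_univ t))]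
    rw [← this]
    simp [MTree.del]

end Groth.Agent.S17724
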