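import Groth.Statements.S17725
import Mathlib

set_option autoImplicit false
universe u
open SpecSp

namespace Groth.Agent.S17725

open AlgebraicGeometry in
/-- In a connected Noetherian scheme any two points p, q are linked by a finite chain of points p = x₁,
…, xₙ = q such that for each i one of x_i, x_{i+1} is a specialization of the other; equivalently, p
and q are related by the equivalence relation generated by the specialization relation. -/
theorem result
    (X : Scheme.{u}) [IsNoetherian X] [ConnectedSpace X] (p q : X) :
    Relation.EqvGen (fun x y : X => x ⤳ y) p q := by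
  classical
  let r := Relation.EqvGen (fun x y : X => x ⤳ y)
  have hfin : (irreducibleComponents X).Finite := TopologicalSpace.NoetherianSpace.finite_irreducibleComponents
  have hclosed : ∀ P : X → Prop, (∀ x y : X, x ⤳ y → (P x ↔ P y)) → IsClosed {q | P q} := fun P hP => by
    have : {q | P q} = ⋃ Z ∈ {Z ∈ irreducibleComponents X | ∀ q ∈ Z, P q}, Z := by
      refine Set.Subset.antisymm (fun q hq => ?_) (Set.iUnion₂_subset fun Z hZ q hq => hZ.2 q hq)
      have hZ : irreducibleComponent q ∈ irreducibleComponents X := irreducibleComponent_mem_irreducibleComponents q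
      obtain ⟨z, hz⟩ := QuasiSober.sober isIrreducible_irreducibleComponent (isClosed_irreducibleComponent (x := q))
      exact Set.mem_biUnion ⟨hZ, fun q' hq' => (hP z q' (hz.specializes hq')).mp
        ((hP z q (hz.specializes mem_irreducibleComponent)).mpr hq)⟩ mem_irreducibleComponent
    rw [this]
    exact (hfin.subset fun Z hZ => hZ.1).isClosed_biUnion fun Z hZ => isClosed_of_mem_irreducibleComponents Z hZ.1
  have hinv : ∀ x y : X, x ⤳ y → (r p x ↔ r p y) := fun x y h =>
    ⟨fun hx => hx.trans _ _ _ (.rel _ _ h), fun hy => hy.trans _ _ _ ((Relation.EqvGen.rel _ _ h).symm _ _)⟩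
  have hclopen : IsClopen {q | r p q} := ⟨hclosed _ hinv,
    isClosed_compl_iff.mp (hclosed (fun q => ¬ r p q) fun x y h => not_congr (hinv x y h))⟩
  exact (hclopen.eq_univ ⟨p, .refl p⟩).ge (Set.mem_univ q)

end Groth.Agent.S17725
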