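import Groth.Statements.S17726
import Mathlib

set_option autoImplicit false
universe u
open CAlg

namespace Groth.Agent.S17726

/-- Let f and g be non-zero-divisors of a commutative ring A, not both units; think of them as local
equations, at a point of the union of the supports, of two effective Cartier divisors E and D. If
the ideals generated by g^{m₁} and f^{n₁} coincide, and likewise for g^{m₂} and f^{n₂}, then m₁ n₂ =
m₂ n₁. So all pairs (m, n) with m D = n E locally at the point are proportional, and the saturation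
of the monoid they form is generated by a single element. -/
theorem result
    (A : Type u) [CommRing A] (f g : A)
    (hf : f ∈ nonZeroDivisors A) (hg : g ∈ nonZeroDivisors A) (hfg : ¬ (IsUnit f ∧ IsUnit g))
    (m₁ n₁ m₂ n₂ : ℕ)
    (h₁ : Ideal.span {g ^ m₁} = Ideal.span {f ^ n₁})
    (h₂ : Ideal.span {g ^ m₂} = Ideal.span {f ^ n₂}) :
    m₁ * n₂ = m₂ * n₁ := by
  have e1 : Ideal.span {f ^ (n₁ * m₂)} = Ideal.span {f ^ (n₂ * m₁)} := by
    rw [pow_mul, ← Ideal.span_singleton_pow, ← h₁, Ideal.span_singleton_pow, ← pow_mul, mul_comm m₁ m₂, pow_mul,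
      ← Ideal.span_singleton_pow, h₂, Ideal.span_singleton_pow, ← pow_mul]
  by_cases hfu : IsUnit f
  · have hgu : ¬ IsUnit g := fun h => hfg ⟨hfu, h⟩
    have key : ∀ m n, Ideal.span {g ^ m} = Ideal.span {f ^ n} → m = 0 := fun m n h => by
      rw [Ideal.span_singleton_eq_top.mpr (hfu.pow n), Ideal.span_singleton_eq_top] at h
      by_contra hm; exact hgu ((isUnit_pow_iff hm).mp h)
    rw [key _ _ h₁, key _ _ h₂, zero_mul, zero_mul]
  · have key : ∀ a b, a < b → Ideal.span {f ^ a} ≠ Ideal.span {f ^ b} := by
      intro a b hab h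
      obtain ⟨c, hc⟩ := Ideal.mem_span_singleton'.mp (h ▸ Ideal.mem_span_singleton_self (f ^ a))
      obtain ⟨d, rfl⟩ := Nat.exists_eq_add_of_lt hab
      have h0 : (c * f ^ (d+1) - 1) * f ^ a = 0 := by
        rw [sub_mul, one_mul, sub_eq_zero, mul_assoc, ← pow_add]; convert hc using 3; omega
      have := (mem_nonZeroDivisors_iff_right.mp (pow_mem hf a)) _ h0
      exact hfu ((isUnit_pow_succ_iff).mp (isUnit_of_mul_isUnit_right (by rw [sub_eq_zero.mp this]; exact isUnit_one)))
    rcases lt_trichotomy (n₁ * m₂) (n₂ * m₁) with h | h | h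
    · exact absurd e1 (key _ _ h)
    · linarith [mul_comm n₁ m₂, mul_comm n₂ m₁]
    · exact absurd e1.symm (key _ _ h)

end Groth.Agent.S17726
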