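import Groth.Statements.S17728
import Groth.Agent.FlatLocus.Scheme
import Groth.Agent.ASp.SchDenseImage
import Groth.Agent.ASp.ClosedIdeal
import Groth.Agent.S0449
import Groth.Agent.ASp.OnePoint
-- import your own Groth.Agent.* helpers here

set_option autoImplicit false
universe u
open Neron

namespace Groth.Agent.S17728


set_option backward.isDefEq.respectTransparency false
open Groth.Agent
open CategoryTheory CategoryTheory.Limits AlgebraicGeometry

theorem dense_restrict {X : Scheme.{u}} {A : X.Opens} (hA : CInt.IsSchematicallyDense A) (W : X.Opens) :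
    CInt.IsSchematicallyDense (W.ι ⁻¹ᵁ A) := by
  intro V' a b hab
  refine hA (W.ι ''ᵁ V') ?_
  have hle : W.ι ''ᵁ V' ⊓ A ≤ W.ι ''ᵁ (V' ⊓ W.ι ⁻¹ᵁ A) := by
    rintro z ⟨⟨t, ht, rfl⟩, hz⟩
    exact ⟨t, ⟨ht, hz⟩, rfl⟩
  have h := congrArg (X.presheaf.map (homOfLE hle).op) hab
  have e : W.toScheme.presheaf.map (homOfLE (inf_le_left : V' ⊓ W.ι ⁻¹ᵁ A ≤ V')).op ≫
      X.presheaf.map (homOfLE hle).op = X.presheaf.map (homOfLE (inf_le_left : W.ι ''ᵁ V' ⊓ A ≤ W.ι ''ᵁ V')).op :=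
    (X.presheaf.map_comp _ _).symm
  exact (ConcreteCategory.congr_hom e a).symm.trans (h.trans (ConcreteCategory.congr_hom e b))

/-- Let S be a Noetherian scheme, U ⊆ S a dense open subscheme and f : X → S a morphism locally of
finite type which restricts to an isomorphism over U and for which the preimage of U is
schematically dense in X. For a point x of X the following are equivalent: f is étale on some open
neighbourhood of x; f is flat at x, that is, the local ring of X at x is flat over the local ring of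
S at f(x); some open neighbourhood V of f(x) carries a section σ of f over V passing through x. -/
theorem result
    {X S : Scheme.{u}} [IsNoetherian S] (f : X ⟶ S) [LocallyOfFiniteType f]
    (U : S.Opens) (hU : Dense (U : Set S))
    (hiso : IsIso (morphismRestrict f U)) (hdense : CInt.IsSchematicallyDense (f ⁻¹ᵁ U))
    (x : X) :
    List.TFAE [
      ∃ W : X.Opens, x ∈ W ∧ Etale (W.ι ≫ f),
      (f.stalkMap x).hom.Flat,
      ∃ (V : S.Opens) (hV : f.base x ∈ V) (σ : (V : Scheme.{u}) ⟶ X),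
        σ ≫ f = V.ι ∧ σ.base ⟨f.base x, hV⟩ = x] := by
  haveI : LocallyOfFinitePresentation f := Groth.Agent.ASp.locallyOfFinitePresentation_of_noetherian f
  tfae_have 1 → 2 := by
    rintro ⟨W, hx, hW⟩
    have h := Flat.stalkMap (W.ι ≫ f) ⟨x, hx⟩
    rw [Scheme.Hom.stalkMap_comp, CommRingCat.hom_comp] at h
    exact (RingHom.Flat.respectsIso.cancel_right_isIso (f.stalkMap x) (W.ι.stalkMap ⟨x, hx⟩)).1 h
  tfae_have 2 → 3 := by
    intro hx
    obtain ⟨_, ⟨(W : X.Opens), hW, rfl⟩, hxW, hWflat⟩ := X.isBasis_affineOpens.exists_subset_of_mem_open hx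
      (FlatLocus.isOpen_flat_stalkMap f)
    haveI : IsAffine W.toScheme := hW
    let g := W.ι ≫ f
    haveI : Flat g := Flat.of_stalkMap _ fun w => by
      rw [Scheme.Hom.stalkMap_comp, CommRingCat.hom_comp]
      exact (RingHom.Flat.respectsIso.cancel_right_isIso (f.stalkMap w.1) (W.ι.stalkMap w)).2 (hWflat w.2)
    let V : S.Opens := ⟨Set.range g, g.isOpenMap.isOpen_range⟩
    let g' : W.toScheme ⟶ V.toScheme := IsOpenImmersion.lift V.ι g (by rw [Scheme.Opens.range_ι]; rfl)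
    have hg' : g' ≫ V.ι = g := IsOpenImmersion.lift_fac _ _ _
    haveI : Surjective g' := ⟨fun v => by
      obtain ⟨w, hw⟩ := v.2
      exact ⟨w, V.ι.isOpenEmbedding.injective (by rw [← Scheme.Hom.comp_apply, hg']; exact hw)⟩⟩
    haveI : Flat g' := MorphismProperty.of_postcomp (W := @Flat) (W' := @IsOpenImmersion) g' V.ι
      inferInstance (by rw [hg']; infer_instance)
    haveI : LocallyOfFiniteType g' := by
      haveI : LocallyOfFiniteType (g' ≫ V.ι) := by rw [hg']; infer_instance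
      exact locallyOfFiniteType_of_comp g' V.ι
    haveI : IsSeparated g' := inferInstance
    haveI : IsLocallyNoetherian V.toScheme := inferInstance
    let U' : V.toScheme.Opens := V.ι ⁻¹ᵁ U
    haveI : QuasiCompact U'.ι := inferInstance
    have hpre : g' ⁻¹ᵁ U' = W.ι ⁻¹ᵁ (f ⁻¹ᵁ U) := by
      rw [← Scheme.Hom.comp_preimage, hg', Scheme.Hom.comp_preimage]
    haveI : IsSchemeTheoreticallyDominant U'.ι := ⟨le_bot_iff.1 (by
      have hd : CInt.IsSchematicallyDense (g' ⁻¹ᵁ U') := hpre ▸ dense_restrict hdense W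
      haveI : IsSchemeTheoreticallyDominant (g' ⁻¹ᵁ U').ι := ⟨ASp.ker_ι_eq_bot hd⟩
      haveI : IsSchemeTheoreticallyDominant g' := ⟨ASp.ker_eq_bot_of_flat_surjective g'⟩
      have h1 : IsSchemeTheoreticallyDominant ((g' ⁻¹ᵁ U').ι ≫ g') := inferInstance
      rw [← h1.ker_eq_bot, ← morphismRestrict_ι]
      exact Scheme.Hom.le_ker_comp _ _)⟩
    haveI : IsIso (g' ∣_ U') := by
      haveI : IsOpenImmersion ((g' ⁻¹ᵁ U').ι ≫ g) := by
        have hle : g' ⁻¹ᵁ U' ≤ W.ι ⁻¹ᵁ (f ⁻¹ᵁ U) := hpre.le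
        have e : (g' ⁻¹ᵁ U').ι ≫ g = W.ι.resLE (f ⁻¹ᵁ U) (g' ⁻¹ᵁ U') hle ≫ (f ∣_ U) ≫ U.ι := by
          rw [morphismRestrict_ι, Scheme.Hom.resLE_comp_ι_assoc]
        rw [e]
        haveI : IsOpenImmersion (W.ι.resLE (f ⁻¹ᵁ U) (g' ⁻¹ᵁ U') hle) := by
          rw [Scheme.Hom.resLE]
          infer_instance
        infer_instance
      haveI : IsOpenImmersion (g' ∣_ U' ≫ U'.ι ≫ V.ι) := by
        rw [morphismRestrict_ι_assoc, hg']
        infer_instance
      haveI : IsOpenImmersion (g' ∣_ U') := IsOpenImmersion.of_comp (g' ∣_ U') (U'.ι ≫ V.ι)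
      haveI : Surjective (g' ∣_ U') := IsZariskiLocalAtTarget.restrict ‹Surjective g'› U'
      haveI : Epi (g' ∣_ U').base := (TopCat.epi_iff_surjective _).2 (g' ∣_ U').surjective
      exact IsOpenImmersion.isIso _
    haveI := S0449.result g' U'
    haveI : Epi g'.base := (TopCat.epi_iff_surjective _).2 g'.surjective
    haveI : IsIso g' := IsOpenImmersion.isIso g'
    have hfx : f.base x ∈ V := ⟨⟨x, hxW⟩, rfl⟩
    refine ⟨V, hfx, inv g' ≫ W.ι, ?_, ?_⟩
    · rw [Category.assoc]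
      show inv g' ≫ g = V.ι
      rw [← hg', IsIso.inv_hom_id_assoc]
    · have h1 : g' ⟨x, hxW⟩ = ⟨f.base x, hfx⟩ :=
        V.ι.isOpenEmbedding.injective (by rw [← Scheme.Hom.comp_apply, hg']; rfl)
      rw [← h1]
      show W.ι (inv g' (g' ⟨x, hxW⟩)) = x
      rw [← Scheme.Hom.comp_apply g' (inv g'), IsIso.hom_inv_id]
      rfl
  tfae_have 3 → 1 := by
    rintro ⟨V, hV, σ, hσ, hσx⟩
    obtain ⟨_, ⟨(W : X.Opens), hW, rfl⟩, hxW, hWV⟩ := X.isBasis_affineOpens.exists_subset_of_mem_open (a := x)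
      (u := ↑(f ⁻¹ᵁ V)) hV (f ⁻¹ᵁ V).2
    haveI : IsAffine W.toScheme := hW
    let V' : S.Opens := V.ι ''ᵁ (σ ⁻¹ᵁ W)
    have hV'V : V' ≤ V := fun z ⟨t, _, ht⟩ => ht ▸ t.2
    let W' : X.Opens := W ⊓ f ⁻¹ᵁ V'
    have hxV' : f x ∈ V' := ⟨⟨f.base x, hV⟩, (show σ.base ⟨f.base x, hV⟩ ∈ W by rw [hσx]; exact hxW), rfl⟩
    let g : W'.toScheme ⟶ V'.toScheme := f.resLE V' W' inf_le_right
    let τ : V'.toScheme ⟶ X := S.homOfLE hV'V ≫ σ
    have hτ : τ ≫ f = V'.ι := by rw [Category.assoc, hσ, S.homOfLE_ι]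
    have hτr : Set.range τ ⊆ Set.range W'.ι := by
      rw [Scheme.Opens.range_ι]
      rintro _ ⟨v, rfl⟩
      refine ⟨?_, ?_⟩
      · obtain ⟨t, ht, htv⟩ := v.2
        show σ (S.homOfLE hV'V v) ∈ W
        have e : S.homOfLE hV'V v = t := V.ι.isOpenEmbedding.injective (by
          rw [← Scheme.Hom.comp_apply, S.homOfLE_ι]; exact htv.symm)
        rw [e]
        exact ht
      · show f (τ v) ∈ V'
        rw [← Scheme.Hom.comp_apply, hτ]
        exact v.2
    let τ' := IsOpenImmersion.lift W'.ι τ hτr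
    have hτ' : τ' ≫ W'.ι = τ := IsOpenImmersion.lift_fac _ _ _
    have hsec : τ' ≫ g = 𝟙 _ := by
      rw [← cancel_mono V'.ι, Category.assoc, Scheme.Hom.resLE_comp_ι, ← Category.assoc, hτ', hτ, Category.id_comp]
    haveI : IsSeparated g := by
      haveI : IsSeparated (g ≫ V'.ι) := by
        rw [Scheme.Hom.resLE_comp_ι]
        haveI : IsSeparated (W.ι ≫ f) := inferInstance
        rw [← X.homOfLE_ι (inf_le_left : W' ≤ W), Category.assoc]
        infer_instance
      exact IsSeparated.of_comp g V'.ι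
    haveI : IsClosedImmersion τ' := by
      haveI : IsClosedImmersion (τ' ≫ g) := by rw [hsec]; infer_instance
      exact IsClosedImmersion.of_comp τ' g
    let O : W'.toScheme.Opens := W'.ι ⁻¹ᵁ (f ⁻¹ᵁ U)
    have hO : O.ι = (O.ι ≫ g) ≫ τ' := by
      have hU0 : Set.range ((O.ι ≫ g) ≫ τ' ≫ W'.ι) ⊆ Set.range (f ⁻¹ᵁ U).ι := by
        rw [Scheme.Opens.range_ι]
        rintro _ ⟨o, rfl⟩
        show f (((O.ι ≫ g) ≫ τ' ≫ W'.ι) o) ∈ U
        rw [hτ', ← Scheme.Hom.comp_apply, Category.assoc, hτ, Category.assoc, Scheme.Hom.resLE_comp_ι]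
        exact o.2
      let b₁ := IsOpenImmersion.lift (f ⁻¹ᵁ U).ι ((O.ι ≫ g) ≫ τ' ≫ W'.ι) hU0
      let b₂ := W'.ι.resLE (f ⁻¹ᵁ U) O le_rfl
      have hb : b₁ = b₂ := by
        haveI := hiso
        rw [← cancel_mono (f ∣_ U), ← cancel_mono U.ι, Category.assoc, Category.assoc, morphismRestrict_ι,
          IsOpenImmersion.lift_fac_assoc, Scheme.Hom.resLE_comp_ι_assoc, hτ', Category.assoc, hτ, Category.assoc,
          Scheme.Hom.resLE_comp_ι]
      rw [← cancel_mono W'.ι, ← Scheme.Hom.resLE_comp_ι W'.ι (le_refl O), Category.assoc,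
        ← IsOpenImmersion.lift_fac (f ⁻¹ᵁ U).ι _ hU0]
      exact congrArg (· ≫ (f ⁻¹ᵁ U).ι) hb.symm
    haveI : IsIso τ' := IsClosedImmersion.isIso_iff_ker_eq_bot.2 (le_bot_iff.1 (by
      rw [← ASp.ker_ι_eq_bot (dense_restrict hdense W')]
      change τ'.ker ≤ O.ι.ker
      rw [hO]
      exact Scheme.Hom.le_ker_comp _ _))
    have hg : g = inv τ' := by rw [← IsIso.inv_hom_id_assoc τ' g, hsec, Category.comp_id]
    refine ⟨W', ⟨hxW, hxV'⟩, ?_⟩
    rw [← Scheme.Hom.resLE_comp_ι f (inf_le_right : W' ≤ f ⁻¹ᵁ V')]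
    show Etale (g ≫ V'.ι)
    rw [hg]
    infer_instance
  tfae_finish

end Groth.Agent.S17728
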