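import Groth.Statements.S17729
import Groth.Agent.NodeSeriesLib.UFD
import Groth.Agent.RatliffLib.Formal
import Groth.Agent.RatDense.Basic

set_option autoImplicit false
universe u
open DualGr

namespace Groth.Agent.S17729

open IsLocalRing Groth.Agent.NodeSeriesLib KaehlerDifferential

section

variable (A : Type u) [CommRing A] [IsNoetherianRing A] [IsLocalRing A]

lemma exists_approx (n : ℕ) (z : Curv2.cpl A) :
    ∃ u : A, z - algebraMap A (Curv2.cpl A) u ∈ (maximalIdeal A ^ n).map (algebraMap A (Curv2.cpl A)) := by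
  obtain ⟨l, hl⟩ := Submodule.Quotient.mk_surjective _ (AdicCompletion.eval (maximalIdeal A) A n z)
  refine ⟨l, ?_⟩
  rw [← Submodule.restrictScalars_mem A, ← Ideal.smul_top_eq_map,
    AdicCompletion.pow_smul_top_eq_ker_eval (maximalIdeal A).fg_of_isNoetherianRing, LinearMap.mem_ker,
    map_sub, ← hl, sub_eq_zero]
  exact (AdicCompletion.eval_of (maximalIdeal A) A n l).symm

lemma mem_of_map_mem {n : ℕ} {u : A}
    (h : algebraMap A (Curv2.cpl A) u ∈ (maximalIdeal A ^ n).map (algebraMap A (Curv2.cpl A))) :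
    u ∈ maximalIdeal A ^ n := by
  obtain ⟨_, _, _, _, _⟩ := RatliffLib.compl_facts A
  haveI : Module.Flat A (Curv2.cpl A) := AdicCompletion.flat_of_isNoetherian _
  haveI : Module.FaithfullyFlat A (Curv2.cpl A) := Module.FaithfullyFlat.of_flat_of_isLocalHom
  rwa [← Ideal.mem_comap, Ideal.comap_map_eq_self_of_faithfullyFlat] at h

end

lemma coeff_one_mul' {D : Type u} [CommRing D] (f g : PowerSeries D) :
    PowerSeries.coeff 1 (f * g) = PowerSeries.constantCoeff f * PowerSeries.coeff 1 g +
      PowerSeries.constantCoeff g * PowerSeries.coeff 1 f := by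
  rw [PowerSeries.coeff_mul, show Finset.HasAntidiagonal.antidiagonal (1 : ℕ) = {(0, 1), (1, 0)} from rfl,
    Finset.sum_pair (by simp)]
  simp only [PowerSeries.coeff_zero_eq_constantCoeff_apply]
  ring

lemma exists_decomp {B : Type u} [CommRing B] (f : MvPowerSeries (Fin 2) B) :
    ∃ g h : MvPowerSeries (Fin 2) B,
      f = MvPowerSeries.C (MvPowerSeries.constantCoeff f) + MvPowerSeries.X 0 * g + MvPowerSeries.X 1 * h := by
  classical
  let h : MvPowerSeries (Fin 2) B := fun n =>
    if n 0 = 0 then MvPowerSeries.coeff (n + Finsupp.single 1 1) f else 0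
  let g : MvPowerSeries (Fin 2) B := fun n => MvPowerSeries.coeff (n + Finsupp.single 0 1) f
  refine ⟨g, h, MvPowerSeries.ext fun n => ?_⟩
  rw [map_add, map_add, MvPowerSeries.X_def, MvPowerSeries.X_def, MvPowerSeries.coeff_monomial_mul,
    MvPowerSeries.coeff_monomial_mul, MvPowerSeries.coeff_C, one_mul, one_mul]
  by_cases h0 : n 0 = 0
  · rw [if_neg (show ¬ Finsupp.single (0 : Fin 2) 1 ≤ n by simp [Finsupp.single_le_iff, h0]), add_zero]
    by_cases h1 : n 1 = 0
    · have : n = 0 := Finsupp.ext fun i => by fin_cases i <;> assumption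
      subst this
      simp
    · have le1 : Finsupp.single (1 : Fin 2) 1 ≤ n := by rw [Finsupp.single_le_iff]; omega
      rw [if_neg (fun e => h1 (by simp [e])), if_pos le1, zero_add]
      show _ = if (n - Finsupp.single 1 1 : Fin 2 →₀ ℕ) 0 = 0 then _ else _
      rw [if_pos (by simp [h0]), tsub_add_cancel_of_le le1]
  · have le0 : Finsupp.single (0 : Fin 2) 1 ≤ n := by rw [Finsupp.single_le_iff]; omega
    have e1 : (if Finsupp.single (1 : Fin 2) 1 ≤ n then
        MvPowerSeries.coeff (n - Finsupp.single 1 1) h else 0) = 0 := by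
      split_ifs with le1
      · show (if (n - Finsupp.single 1 1 : Fin 2 →₀ ℕ) 0 = 0 then _ else (0 : B)) = 0
        rw [if_neg (by simp [h0])]
      · rfl
    rw [if_neg (fun e => h0 (by simp [e])), if_pos le0, e1, zero_add, add_zero]
    show _ = MvPowerSeries.coeff (n - Finsupp.single 0 1 + Finsupp.single 0 1) f
    rw [tsub_add_cancel_of_le le0]

set_option maxHeartbeats 800000 in
/-- A node of thickness in an associated prime is not smooth over that prime. -/
theorem not_smooth_over {R : Type u} [CommRing R] [IsNoetherianRing R] [IsLocalRing R]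
    [IsAdicComplete (maximalIdeal R) R] {A : Type u} [CommRing A] [IsNoetherianRing A] [IsLocalRing A]
    [Algebra R A] [Algebra.EssFiniteType R A] (a : R)
    (hnode : DualGr.IsThickNode (algebraMap R A) a) (p : Ideal R) [p.IsPrime] (hap : a ∈ p)
    (hsm : ∀ Q : Ideal A, ∀ [Q.IsPrime], Q.comap (algebraMap R A) = p →
      Algebra.FormallySmooth R (Localization.AtPrime Q)) : False := by
  classical
  obtain ⟨e, he⟩ := hnode
  obtain ⟨_, _, _, _, hmR⟩ := RatliffLib.compl_facts R
  obtain ⟨_, _, _, _, hmA⟩ := RatliffLib.compl_facts A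
  set ι := algebraMap R (Curv2.cpl R) with hιdef
  have hι : Function.Bijective ι := AdicCompletion.of_bijective (maximalIdeal R) R
  have hsurj : Function.Surjective ι := hι.2
  set P := p.map ι with hP
  haveI : P.IsPrime := Ideal.map_isPrime_of_surjective hsurj
    (by rw [(RingHom.injective_iff_ker_eq_bot ι).1 hι.1]; exact bot_le)
  have hPc : P.comap ι = p := Ideal.comap_map_of_bijective ι hι
  have haP : ι a ∈ P := Ideal.mem_map_of_mem _ hap
  let I := Ideal.span {(MvPowerSeries.X 0 * MvPowerSeries.X 1 - MvPowerSeries.C (ι a) :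
    MvPowerSeries (Fin 2) (Curv2.cpl R))}
  let mk := Ideal.Quotient.mk I
  let ε : ∀ i : Fin 2, DualGr.nodeRing R a →+* PowerSeries (Curv2.cpl R ⧸ P) := fun i =>
    Ideal.Quotient.lift I (edge P i) (fun z hz => by
      obtain ⟨w, rfl⟩ := Ideal.mem_span_singleton'.1 hz
      rw [map_mul, show (MvPowerSeries.X 0 * MvPowerSeries.X 1 - MvPowerSeries.C (ι a) :
        MvPowerSeries (Fin 2) (Curv2.cpl R)) = eqn (ι a) from rfl, edge_eqn' haP, mul_zero])
  have hε : ∀ i G, ε i (mk G) = edge P i G := fun i G => Ideal.Quotient.lift_mk I _ _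
  let c : DualGr.nodeRing R a →+* Curv2.cpl R ⧸ P := PowerSeries.constantCoeff.comp (ε 0)
  have hc : ∀ i z, PowerSeries.constantCoeff (ε i z) = c z := fun i z => by
    obtain ⟨G, rfl⟩ := Ideal.Quotient.mk_surjective z
    show PowerSeries.constantCoeff (ε i (mk G)) = PowerSeries.constantCoeff (ε 0 (mk G))
    rw [hε, hε, ← PowerSeries.coeff_zero_eq_constantCoeff_apply,
      ← PowerSeries.coeff_zero_eq_constantCoeff_apply, coeff_edge, coeff_edge, Finsupp.single_zero,
      Finsupp.single_zero]
  let σ : A →+* DualGr.nodeRing R a := e.toRingHom.comp (algebraMap A (Curv2.cpl A))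
  have hσR : ∀ r : R, σ (algebraMap R A r) = mk (MvPowerSeries.C (ι r)) := he
  -- approximation
  have happrox : ∀ (n : ℕ) z, ∃ u : A, z - σ u ∈ (maximalIdeal A ^ n).map σ := fun n z => by
    obtain ⟨u, hu⟩ := exists_approx A n (e.symm z)
    refine ⟨u, ?_⟩
    have := Ideal.mem_map_of_mem e.toRingHom hu
    rw [Ideal.map_map, map_sub] at this
    simpa [σ] using this
  have hback : ∀ (n : ℕ) u, σ u ∈ (maximalIdeal A ^ n).map σ → u ∈ maximalIdeal A ^ n := fun n u hu => by
    refine mem_of_map_mem A ?_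
    have := Ideal.mem_map_of_mem e.symm.toRingHom hu
    rw [Ideal.map_map] at this
    simpa [σ, ← RingHom.comp_assoc] using this
  haveI hNloc : IsLocalRing (DualGr.nodeRing R a) := e.isLocalRing
  set mI := (maximalIdeal A).map σ with hmI
  have hmImax : mI = maximalIdeal (DualGr.nodeRing R a) := by
    rw [hmI, ← IsLocalRing.map_ringEquiv_maximalIdeal e, hmA]
    exact (Ideal.map_map (I := maximalIdeal A) (algebraMap A (Curv2.cpl A)) e.toRingHom).symm
  have hunit : ∀ G, mk G ∈ mI ↔ MvPowerSeries.constantCoeff G ∈ maximalIdeal (Curv2.cpl R) := by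
    intro G
    rw [hmImax, mem_maximalIdeal, mem_nonunits_iff, mem_maximalIdeal, mem_nonunits_iff, not_iff_not]
    refine ⟨fun hu => ?_, fun hu => (MvPowerSeries.isUnit_iff_constantCoeff.2 hu).map mk⟩
    obtain ⟨v, hv⟩ := isUnit_iff_exists_inv.1 hu
    obtain ⟨V, rfl⟩ := Ideal.Quotient.mk_surjective v
    rw [← map_mul, ← map_one mk, Ideal.Quotient.eq] at hv
    obtain ⟨w, hw⟩ := Ideal.mem_span_singleton'.1 hv
    have h := congrArg MvPowerSeries.constantCoeff hw
    simp at h
    by_contra hn
    have h1 : MvPowerSeries.constantCoeff G * MvPowerSeries.constantCoeff V +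
        MvPowerSeries.constantCoeff w * ι a = 1 := by linear_combination -h
    refine (maximalIdeal (Curv2.cpl R)).ne_top_iff_one.1 (maximalIdeal.isMaximal _).ne_top ?_
    rw [← h1]
    exact add_mem (Ideal.mul_mem_right _ _ hn)
      (Ideal.mul_mem_left _ _ (le_maximalIdeal (Ideal.IsPrime.ne_top ‹P.IsPrime›) haP))
  set x := mk (MvPowerSeries.X 0) with hx
  set y := mk (MvPowerSeries.X 1) with hy
  have hxI : x ∈ mI := (hunit _).2 (by simp)
  have hyI : y ∈ mI := (hunit _).2 (by simp)
  have hxy : x * y = σ (algebraMap R A a) := by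
    rw [hσR, hx, hy, ← map_mul, Ideal.Quotient.eq]; exact Ideal.subset_span rfl
  have hmap2 : (maximalIdeal A ^ 2).map σ = mI ^ 2 := Ideal.map_pow _ _ _
  have hmap3 : (maximalIdeal A ^ 3).map σ = mI ^ 3 := Ideal.map_pow _ _ _
  obtain ⟨u, hu⟩ := happrox 3 x
  obtain ⟨v, hv⟩ := happrox 3 y
  rw [hmap3] at hu hv
  have hm1 : ∀ {w : A}, σ w ∈ mI → w ∈ maximalIdeal A := fun {w} h => by
    have := hback 1 w (by rwa [pow_one])
    rwa [pow_one] at this
  have hσu : σ u ∈ mI := by
    simpa using sub_mem hxI (Ideal.pow_le_self (by norm_num) hu)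
  have hσv : σ v ∈ mI := by
    simpa using sub_mem hyI (Ideal.pow_le_self (by norm_num) hv)
  have huv : u * v - algebraMap R A a ∈ maximalIdeal A ^ 3 := by
    refine hback 3 _ ?_
    rw [hmap3, map_sub, map_mul, ← hxy,
      show σ u * σ v - x * y = -((x - σ u) * σ v + x * (y - σ v)) by ring]
    exact neg_mem (add_mem (Ideal.mul_mem_right _ _ hu) (Ideal.mul_mem_left _ _ hv))
  -- differentials of `A` are generated by `du`, `dv`
  let M := KaehlerDifferential R A
  let dd : Derivation R A M := KaehlerDifferential.D R A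
  have hdpow : ∀ (k : ℕ), ∀ z ∈ maximalIdeal A ^ (k + 1), dd z ∈ maximalIdeal A ^ k • (⊤ : Submodule A M) := by
    intro k
    induction k with
    | zero => intro z _; rw [pow_zero, Ideal.one_eq_top, Submodule.top_smul]; trivial
    | succ k ih =>
      intro z hz
      rw [pow_succ] at hz
      refine Submodule.mul_induction_on hz (fun b hb c' hc' => ?_) (fun b c' hb hc' => by
        rw [map_add]; exact add_mem hb hc')
      rw [Derivation.leibniz]
      refine add_mem (Submodule.smul_mem_smul hb trivial) ?_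
      rw [pow_succ', Submodule.mul_smul]
      exact Submodule.smul_mem_smul hc' (ih b hb)
  have hgen : Submodule.span A {dd u, dd v} = ⊤ := by
    rw [eq_top_iff]
    refine Submodule.le_of_le_smul_of_le_jacobson_bot (I := maximalIdeal A) Module.Finite.fg_top
      (maximalIdeal_le_jacobson _) ?_
    rw [← KaehlerDifferential.span_range_derivation, Submodule.span_le]
    rintro _ ⟨z, rfl⟩
    obtain ⟨G, hG⟩ := Ideal.Quotient.mk_surjective (σ z)
    obtain ⟨r, hr⟩ := hsurj (MvPowerSeries.constantCoeff G)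
    obtain ⟨g, h, hdec⟩ := exists_decomp G
    obtain ⟨g0, hg0⟩ := hsurj (MvPowerSeries.constantCoeff g)
    obtain ⟨h0, hh0⟩ := hsurj (MvPowerSeries.constantCoeff h)
    have hrest : z - (algebraMap R A r + algebraMap R A g0 * u + algebraMap R A h0 * v) ∈
        maximalIdeal A ^ 2 := by
      refine hback 2 _ ?_
      rw [hmap2, map_sub, map_add, map_add, map_mul, map_mul, hσR, hσR, hσR, ← hG, hdec, map_add,
        map_add, map_mul, map_mul, ← hr]
      have e1 : mk g - mk (MvPowerSeries.C (ι g0)) ∈ mI := by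
        rw [← map_sub, hunit, map_sub, MvPowerSeries.constantCoeff_C, hg0, sub_self]; exact zero_mem _
      have e2 : mk h - mk (MvPowerSeries.C (ι h0)) ∈ mI := by
        rw [← map_sub, hunit, map_sub, MvPowerSeries.constantCoeff_C, hh0, sub_self]; exact zero_mem _
      have e3 := Ideal.pow_le_pow_right (I := mI) (show 2 ≤ 3 by norm_num)
      show mk (MvPowerSeries.C (ι r)) + x * mk g + y * mk h -
        (mk (MvPowerSeries.C (ι r)) + mk (MvPowerSeries.C (ι g0)) * σ u +
          mk (MvPowerSeries.C (ι h0)) * σ v) ∈ mI ^ 2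
      rw [show mk (MvPowerSeries.C (ι r)) + x * mk g + y * mk h -
        (mk (MvPowerSeries.C (ι r)) + mk (MvPowerSeries.C (ι g0)) * σ u +
          mk (MvPowerSeries.C (ι h0)) * σ v) =
        x * (mk g - mk (MvPowerSeries.C (ι g0))) + y * (mk h - mk (MvPowerSeries.C (ι h0))) +
          mk (MvPowerSeries.C (ι g0)) * (x - σ u) + mk (MvPowerSeries.C (ι h0)) * (y - σ v) by ring]
      refine add_mem (add_mem (add_mem ?_ ?_) (Ideal.mul_mem_left _ _ (e3 hu)))
        (Ideal.mul_mem_left _ _ (e3 hv))
      · rw [pow_two]; exact Ideal.mul_mem_mul hxI e1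
      · rw [pow_two]; exact Ideal.mul_mem_mul hyI e2
    have h2 := hdpow 1 _ hrest
    rw [pow_one, ← KaehlerDifferential.span_range_derivation] at h2
    rw [show (KaehlerDifferential.D R A) z = dd (z - (algebraMap R A r + algebraMap R A g0 * u + algebraMap R A h0 * v))
      + (algebraMap R A g0 • dd u + algebraMap R A h0 • dd v) by
      simp only [map_sub, map_add, Derivation.leibniz, Derivation.map_algebraMap, smul_zero]
      show dd z = _
      abel]
    exact add_mem (Submodule.mem_sup_right h2) (Submodule.mem_sup_left (add_mem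
      (Submodule.smul_mem _ _ (Submodule.subset_span (Set.mem_insert _ _)))
      (Submodule.smul_mem _ _ (Submodule.subset_span (Set.mem_insert_of_mem _ rfl)))))
  -- the relation
  obtain ⟨α, hα, β, hβ, hrel⟩ : ∃ α ∈ maximalIdeal A ^ 2, ∃ β ∈ maximalIdeal A ^ 2,
      (v - α) • dd u + (u - β) • dd v = 0 := by
    have h2 := hdpow 2 _ huv
    rw [map_sub, Derivation.leibniz, Derivation.map_algebraMap, sub_zero] at h2
    rw [← hgen] at h2
    have key : ∀ z ∈ maximalIdeal A ^ 2 • Submodule.span A {dd u, dd v}, ∃ α ∈ maximalIdeal A ^ 2,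
        ∃ β ∈ maximalIdeal A ^ 2, z = α • dd u + β • dd v := by
      intro z hz
      refine Submodule.smul_induction_on hz (fun c' hc' m hm => ?_) ?_
      · obtain ⟨s, t, rfl⟩ := Submodule.mem_span_pair.1 hm
        exact ⟨c' * s, Ideal.mul_mem_right _ _ hc', c' * t, Ideal.mul_mem_right _ _ hc', by
          rw [smul_add, mul_smul, mul_smul]⟩
      · rintro z₁ z₂ ⟨a₁, ha₁, b₁, hb₁, rfl⟩ ⟨a₂, ha₂, b₂, hb₂, rfl⟩
        exact ⟨a₁ + a₂, add_mem ha₁ ha₂, b₁ + b₂, add_mem hb₁ hb₂, by
          rw [add_smul, add_smul]; abel⟩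
    obtain ⟨α, hα, β, hβ, h3⟩ := key _ h2
    refine ⟨α, hα, β, hβ, ?_⟩
    rw [sub_smul, sub_smul, sub_add_sub_comm, ← h3, add_comm (v • dd u), sub_self]
  -- the prime `Q`
  let Q : Ideal A := RingHom.ker (c.comp σ)
  haveI : Q.IsPrime := RingHom.ker_isPrime _
  have hcR : ∀ r, c (σ (algebraMap R A r)) = Ideal.Quotient.mk P (ι r) := fun r => by
    rw [hσR]
    show PowerSeries.constantCoeff (ε 0 (mk _)) = _
    rw [hε, edge_C, PowerSeries.constantCoeff_C]
  have hQR : Q.comap (algebraMap R A) = p := by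
    ext r
    rw [Ideal.mem_comap, RingHom.mem_ker, RingHom.comp_apply, hcR, Ideal.Quotient.eq_zero_iff_mem,
      ← Ideal.mem_comap, hPc]
  haveI := hsm Q hQR
  let AQ := Localization.AtPrime Q
  let M' := KaehlerDifferential R AQ
  haveI : Algebra.EssFiniteType A AQ := Algebra.EssFiniteType.of_isLocalization AQ Q.primeCompl
  haveI : Algebra.EssFiniteType R AQ := Algebra.EssFiniteType.comp R A AQ
  haveI : Module.Free AQ M' := Module.free_of_flat_of_isLocalRing
  let mp : M →ₗ[A] M' := KaehlerDifferential.map R R A AQ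
  haveI : IsLocalizedModule Q.primeCompl mp := inferInstance
  let b := Module.Free.chooseBasis AQ M'
  let K := FractionRing (PowerSeries (Curv2.cpl R ⧸ P))
  let ψ₀ : A →+* K := (algebraMap _ K).comp ((ε 0).comp σ)
  have hψ : ∀ s : Q.primeCompl, IsUnit (ψ₀ s) := fun s => by
    refine IsUnit.mk0 _ fun h => s.2 ?_
    have h1 := (IsFractionRing.injective (PowerSeries (Curv2.cpl R ⧸ P)) K) (h.trans (map_zero _).symm)
    show c (σ s) = 0
    rw [← hc 0]
    exact (congrArg PowerSeries.constantCoeff h1).trans (map_zero _)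
  let ψ : AQ →+* K := IsLocalization.lift hψ
  have hψe : ∀ z, ψ (algebraMap A AQ z) = ψ₀ z := fun z => IsLocalization.lift_eq _ z
  have hsub : Subsingleton (Module.Free.ChooseBasisIndex AQ M') := by
    constructor
    intro i j
    by_contra hij
    let F : Module.Free.ChooseBasisIndex AQ M' → M' → K := fun k z => ψ (b.coord k z)
    have hFadd : ∀ k z z', F k (z + z') = F k z + F k z' := fun k z z' => by simp [F]
    have hFsmul : ∀ k (s : A) z, F k (s • z) = ψ₀ s * F k z := fun k s z => by
      show ψ (b.coord k (s • z)) = _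
      rw [← algebraMap_smul AQ s z, map_smul, smul_eq_mul, map_mul, hψe]
    have hu0 : ψ₀ (u - β) ≠ 0 := by
      intro h
      have h1 := (IsFractionRing.injective (PowerSeries (Curv2.cpl R ⧸ P)) K) (h.trans (map_zero _).symm)
      have h2 : x - σ (u - β) ∈ mI ^ 2 := by
        rw [map_sub, ← sub_add]
        exact add_mem (Ideal.pow_le_pow_right (show 2 ≤ 3 by norm_num) hu)
          (hmap2 ▸ Ideal.mem_map_of_mem σ hβ)
      have h3 : ∀ w ∈ mI ^ 2, PowerSeries.coeff 1 (ε 0 w) ∈ (maximalIdeal (Curv2.cpl R)).map (Ideal.Quotient.mk P) := by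
        have hcm : ∀ w ∈ mI, c w ∈ (maximalIdeal (Curv2.cpl R)).map (Ideal.Quotient.mk P) := fun w hw => by
          obtain ⟨G, rfl⟩ := Ideal.Quotient.mk_surjective w
          show PowerSeries.constantCoeff (ε 0 (mk G)) ∈ _
          rw [hε, ← PowerSeries.coeff_zero_eq_constantCoeff_apply, coeff_edge, Finsupp.single_zero,
            MvPowerSeries.coeff_zero_eq_constantCoeff_apply]
          exact Ideal.mem_map_of_mem _ ((hunit G).1 hw)
        intro w hw
        rw [pow_two] at hw
        refine Submodule.mul_induction_on hw (fun w₁ h₁ w₂ h₂ => ?_) (fun w₁ w₂ h₁ h₂ => by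
          rw [map_add, map_add]; exact add_mem h₁ h₂)
        rw [map_mul, coeff_one_mul', hc, hc]
        exact add_mem (Ideal.mul_mem_right _ _ (hcm w₁ h₁)) (Ideal.mul_mem_right _ _ (hcm w₂ h₂))
      have h4 := h3 _ h2
      rw [map_sub (ε 0), show ε 0 (σ (u - β)) = 0 from h1, sub_zero, hx, hε, edge_X,
        PowerSeries.coeff_one_X, Ideal.mem_map_iff_of_surjective _ Ideal.Quotient.mk_surjective] at h4
      obtain ⟨w, hw, hw1⟩ := h4
      rw [← map_one (Ideal.Quotient.mk P), Ideal.Quotient.eq] at hw1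
      refine (maximalIdeal (Curv2.cpl R)).ne_top_iff_one.1 (maximalIdeal.isMaximal _).ne_top ?_
      simpa using sub_mem hw (le_maximalIdeal (Ideal.IsPrime.ne_top ‹P.IsPrime›) hw1)
    -- combinations killing `du` vanish
    have key : ∀ c₁ c₂ : K, c₁ * F i (mp (dd u)) + c₂ * F j (mp (dd u)) = 0 →
        ∀ z, c₁ * F i z + c₂ * F j z = 0 := by
      intro c₁ c₂ h1
      have h2 : c₁ * F i (mp (dd v)) + c₂ * F j (mp (dd v)) = 0 := by
        have hr1 := congrArg (fun m => c₁ * F i (mp m) + c₂ * F j (mp m)) hrel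
        simp only [map_add, map_smul, hFadd, hFsmul, map_zero] at hr1
        have hF0 : ∀ k, F k 0 = 0 := fun k => by simp [F]
        rw [hF0, hF0, mul_zero, mul_zero, add_zero] at hr1
        refine (mul_eq_zero.1 ?_).resolve_left hu0
        linear_combination hr1 - ψ₀ (v - α) * h1
      intro z
      obtain ⟨⟨m, s⟩, hs⟩ := IsLocalizedModule.surj Q.primeCompl mp z
      have hm : m ∈ Submodule.span A {dd u, dd v} := hgen ▸ Submodule.mem_top
      obtain ⟨s₁, s₂, hm'⟩ := Submodule.mem_span_pair.1 hm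
      have hs' : (s : A) • z = mp (s₁ • dd u + s₂ • dd v) := hm' ▸ hs
      have hk := congrArg (fun m => c₁ * F i m + c₂ * F j m) hs'
      simp only [map_add, map_smul, hFadd, hFsmul] at hk
      refine (mul_eq_zero.1 ?_).resolve_left (hψ s).ne_zero
      linear_combination hk + ψ₀ s₁ * h1 + ψ₀ s₂ * h2
    have hFb : ∀ k l, F k (b l) = if k = l then 1 else 0 := fun k l => by
      show ψ (b.coord k (b l)) = _
      rw [Module.Basis.coord_apply, Module.Basis.repr_self, Finsupp.single_apply]
      simp only [apply_ite ψ, map_one, map_zero, eq_comm]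
    have h5 := key (F j (mp (dd u))) (-F i (mp (dd u))) (by ring) (b j)
    rw [hFb, hFb, if_neg hij, if_pos rfl, mul_zero, zero_add, mul_one, neg_eq_zero] at h5
    have h6 := key 1 0 (by rw [h5]; ring) (b i)
    rw [hFb, hFb, if_pos rfl] at h6
    simp at h6
  -- two independent functionals at `Q`
  let L := FractionRing (Curv2.cpl R ⧸ P)
  let χ : A →+* L := (algebraMap _ L).comp (c.comp σ)
  letI : Algebra A L := χ.toAlgebra
  have hsm' : ∀ (s : A) (l : L), s • l = χ s * l := fun _ _ => rfl
  haveI : IsScalarTower R A L := IsScalarTower.of_algebraMap_smul fun r l => by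
    rw [hsm', Algebra.smul_def, IsScalarTower.algebraMap_apply R (Curv2.cpl R ⧸ P) L]
    show algebraMap _ L (c (σ (algebraMap R A r))) * l = algebraMap _ L (Ideal.Quotient.mk P (ι r)) * l
    rw [hcR]
  have hder : ∀ i : Fin 2, ∃ g : M' →ₗ[A] L, ∀ w : A,
      g (mp (dd w)) = algebraMap _ L (PowerSeries.coeff 1 (ε i (σ w))) := by
    intro i
    let δ : Derivation R A L :=
      { toFun := fun w => algebraMap _ L (PowerSeries.coeff 1 (ε i (σ w)))
        map_add' := fun w w' => by simp
        map_smul' := fun r w => by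
          rw [RingHom.id_apply, ← algebraMap_smul A r (algebraMap _ L _), hsm', Algebra.smul_def,
            map_mul, map_mul, coeff_one_mul', map_add, map_mul, map_mul, hc, hc, hσR, hε, edge_C]
          simp only [PowerSeries.coeff_C, if_neg one_ne_zero, map_zero, mul_zero, add_zero, χ, RingHom.comp_apply, hσR]
        map_one_eq_zero' := by simp
        leibniz' := fun w w' => by
          show algebraMap _ L (PowerSeries.coeff 1 (ε i (σ (w * w')))) =
            χ w * algebraMap _ L (PowerSeries.coeff 1 (ε i (σ w'))) +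
              χ w' * algebraMap _ L (PowerSeries.coeff 1 (ε i (σ w)))
          rw [map_mul, map_mul, coeff_one_mul', map_add, map_mul, map_mul, hc, hc]
          rfl }
    have hun : ∀ s : Q.primeCompl, IsUnit (algebraMap A (Module.End A L) s) := fun s => by
      have hs : χ (s : A) ≠ 0 := fun h => s.2
        ((IsFractionRing.injective _ L) (h.trans (map_zero _).symm))
      rw [Module.End.isUnit_iff]
      refine ⟨fun l l' h => mul_left_cancel₀ hs ?_, fun l => ⟨(χ (s : A))⁻¹ * l, ?_⟩⟩
      · exact h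
      · show χ (s : A) * ((χ (s : A))⁻¹ * l) = l
        rw [mul_inv_cancel_left₀ hs]
    refine ⟨IsLocalizedModule.lift Q.primeCompl mp δ.liftKaehlerDifferential hun, fun w => ?_⟩
    rw [IsLocalizedModule.lift_apply, Derivation.liftKaehlerDifferential_comp_D]
    rfl
  obtain ⟨g, hg⟩ := hder 0
  obtain ⟨h, hh⟩ := hder 1
  -- values on `u`, `v` modulo the maximal ideal
  set mD := (maximalIdeal (Curv2.cpl R)).map (Ideal.Quotient.mk P) with hmD
  have hval : ∀ (i : Fin 2) {z : DualGr.nodeRing R a} {w : A}, z - σ w ∈ mI ^ 3 →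
      PowerSeries.coeff 1 (ε i z) - PowerSeries.coeff 1 (ε i (σ w)) ∈ mD := by
    intro i z w hzw
    rw [← map_sub, ← map_sub]
    have h2 : z - σ w ∈ mI * mI := pow_two mI ▸ Ideal.pow_le_pow_right (show 2 ≤ 3 by norm_num) hzw
    refine Submodule.mul_induction_on h2 (fun w₁ h₁ w₂ h₂ => ?_) (fun w₁ w₂ h₁ h₂ => by
      rw [map_add, map_add]; exact add_mem h₁ h₂)
    rw [map_mul, coeff_one_mul', hc, hc]
    have hcm : ∀ w ∈ mI, c w ∈ mD := fun w hw => by
      obtain ⟨G, rfl⟩ := Ideal.Quotient.mk_surjective w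
      show PowerSeries.constantCoeff (ε 0 (mk G)) ∈ _
      rw [hε, ← PowerSeries.coeff_zero_eq_constantCoeff_apply, coeff_edge, Finsupp.single_zero,
        MvPowerSeries.coeff_zero_eq_constantCoeff_apply]
      exact Ideal.mem_map_of_mem _ ((hunit G).1 hw)
    exact add_mem (Ideal.mul_mem_right _ _ (hcm w₁ h₁)) (Ideal.mul_mem_right _ _ (hcm w₂ h₂))
  have hgu := hval 0 hu
  have hgv := hval 0 hv
  have hhu := hval 1 hu
  have hhv := hval 1 hv
  simp only [hx, hy, hε, edge_X, edge_X_of_ne P (i := 0) (j := 1) (by decide),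
    edge_X_of_ne P (i := 1) (j := 0) (by decide), PowerSeries.coeff_one_X, map_zero] at hgu hgv hhu hhv
  set p₀₀ := PowerSeries.coeff 1 (ε 0 (σ u))
  set p₀₁ := PowerSeries.coeff 1 (ε 0 (σ v))
  set p₁₀ := PowerSeries.coeff 1 (ε 1 (σ u))
  set p₁₁ := PowerSeries.coeff 1 (ε 1 (σ v))
  have hdet : p₀₀ * p₁₁ - p₀₁ * p₁₀ ≠ 0 := by
    intro h0
    have h1 : (1 : Curv2.cpl R ⧸ P) ∈ mD := by
      have : (1 - p₀₀) + p₀₀ * (1 - p₁₁) + (p₀₀ * p₁₁ - p₀₁ * p₁₀) + p₁₀ * (-(0 - p₀₁)) = 1 := by ring
      rw [← this, h0, add_zero]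
      exact add_mem (add_mem hgu (Ideal.mul_mem_left _ _ hhv)) (Ideal.mul_mem_left _ _ (neg_mem hgv))
    rw [hmD, Ideal.mem_map_iff_of_surjective _ Ideal.Quotient.mk_surjective] at h1
    obtain ⟨w, hw, hw1⟩ := h1
    rw [← map_one (Ideal.Quotient.mk P), Ideal.Quotient.eq] at hw1
    refine (maximalIdeal (Curv2.cpl R)).ne_top_iff_one.1 (maximalIdeal.isMaximal _).ne_top ?_
    simpa using sub_mem hw (le_maximalIdeal (Ideal.IsPrime.ne_top ‹P.IsPrime›) hw1)
  -- `M'` is cyclic
  obtain ⟨ξ, hξ⟩ : ∃ ξ : M', ∀ z : M', ∃ (s₁ : A) (s : Q.primeCompl), (s : A) • z = s₁ • ξ := by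
    rcases isEmpty_or_nonempty (Module.Free.ChooseBasisIndex AQ M') with he | ⟨⟨i⟩⟩
    · haveI : Subsingleton M' := b.repr.toEquiv.subsingleton
      exact ⟨0, fun z => ⟨0, 1, Subsingleton.elim _ _⟩⟩
    · refine ⟨b i, fun z => ?_⟩
      obtain ⟨⟨s₁, s⟩, hs⟩ := IsLocalization.surj Q.primeCompl (b.repr z i)
      refine ⟨s₁, s, ?_⟩
      have hz : z = b.repr z i • b i := by
        conv_lhs => rw [← b.sum_repr z]
        rw [Fintype.sum_subsingleton _ i]
      rw [hz, ← algebraMap_smul AQ (s : A), ← algebraMap_smul AQ s₁, smul_smul, ← hs, mul_comm]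
  obtain ⟨a₁, s, hs⟩ := hξ (mp (dd u))
  obtain ⟨b₁, t, ht⟩ := hξ (mp (dd v))
  have e1 := congrArg g hs
  have e2 := congrArg g ht
  have e3 := congrArg h hs
  have e4 := congrArg h ht
  simp only [map_smul, hsm', hg, hh] at e1 e2 e3 e4
  have hs0 : χ (s : A) ≠ 0 := fun h => s.2 ((IsFractionRing.injective _ L) (h.trans (map_zero _).symm))
  have ht0 : χ (t : A) ≠ 0 := fun h => t.2 ((IsFractionRing.injective _ L) (h.trans (map_zero _).symm))
  refine hdet (IsFractionRing.injective _ L ?_)
  rw [map_zero, map_sub, map_mul, map_mul]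
  refine (mul_eq_zero.1 ?_).resolve_left (mul_ne_zero hs0 ht0)
  linear_combination (χ (t : A) * algebraMap _ L p₁₁) * e1 + (χ a₁ * g ξ) * e4 -
    (χ (s : A) * algebraMap _ L p₁₀) * e2 - (χ b₁ * g ξ) * e3

open CategoryTheory AlgebraicGeometry IsLocalRing in
/-- Let R be a complete Noetherian local ring and C → Spec R a morphism locally of finite type, smooth
over a schematically dense open subscheme U of Spec R. Let c be a point of C over the closed point
whose local ring is formally a node of thickness (a) over R for an element a of R: the completion of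
the local ring at c is isomorphic, compatibly with R, to R̂[[x,y]]/(xy − a). Then a is a
non-zero-divisor in R. (The published statement is for a semistable curve over a locally Noetherian
base and a non-smooth point over a separably closed field, with the node presentation supplied by
the local structure of such curves; it is stated here over the spectrum of a complete Noetherian
local ring with the node presentation as a hypothesis, the case to which the argument reduces, and
semistability plays no further role.) -/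
theorem result
    (R : Type u) [CommRing R] [IsNoetherianRing R] [IsLocalRing R]
    [IsAdicComplete (maximalIdeal R) R]
    {C : Scheme.{u}} (f : C ⟶ Spec (CommRingCat.of R)) [LocallyOfFiniteType f]
    (U : (Spec (CommRingCat.of R)).Opens) (hU : CInt.IsSchematicallyDense U)
    (hsm : Smooth (morphismRestrict f U))
    (c : C) (hc : f.base c = closedPoint R) (a : R)
    (hnode : DualGr.IsThickNode (DualGr.stalkHom f c) a) :
    a ∈ nonZeroDivisors R := by
  classical
  by_contra ha
  obtain ⟨p, hp, hap⟩ : ∃ p ∈ associatedPrimes R R, a ∈ p := by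
    have := (Set.ext_iff.1 (biUnion_associatedPrimes_eq_compl_nonZeroDivisors R) a).2 ha
    simpa using this
  obtain ⟨hpp, b, hb⟩ := (Submodule.isAssociatedPrime_iff (N := (⊥ : Submodule R R))).1 hp
  haveI := hpp
  have hb0 : b ≠ 0 := fun h => hpp.ne_top (Ideal.eq_top_iff_one _ |>.2 (by
    rw [hb, Submodule.mem_colon_singleton, h, smul_zero]; exact zero_mem _))
  -- `p` lies in `U`
  have hpU : (⟨p, hpp⟩ : PrimeSpectrum R) ∈ U := by
    by_contra hpU
    refine hb0 ?_
    let θ : R →+* Γ(Spec (CommRingCat.of R), ⊤) := (Scheme.ΓSpecIso (CommRingCat.of R)).inv.hom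
    have hθ : Function.Injective θ := (Scheme.ΓSpecIso (CommRingCat.of R)).symm.commRingCatIsoToRingEquiv.injective
    refine hθ ((RatDense.eq_zero_of_res hU (θ b) (RatDense.eq_zero_of_germ _ fun x hx => ?_)).trans (map_zero θ).symm)
    have hle : ¬ p ≤ (x : PrimeSpectrum R).asIdeal := fun hle => hpU
      (((PrimeSpectrum.le_iff_specializes (⟨p, hpp⟩ : PrimeSpectrum R) x).1 hle).mem_open  U.isOpen hx.2)
    obtain ⟨t, htp, htx⟩ := SetLike.not_le_iff_exists.1 hle
    have h0 : t * b = 0 := by
      rw [hb, Submodule.mem_colon_singleton, smul_eq_mul, Submodule.mem_bot] at htp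
      exact htp
    have hu : IsUnit ((Spec (CommRingCat.of R)).presheaf.germ (⊤ : (Spec (CommRingCat.of R)).Opens) x trivial (θ t)) := by
      rw [← Scheme.mem_basicOpen]
      show x ∈ (Spec (CommRingCat.of R)).basicOpen _
      rw [AlgebraicGeometry.basicOpen_eq_of_affine]
      exact htx
    have hg : (Spec (CommRingCat.of R)).presheaf.germ (⊤ : (Spec (CommRingCat.of R)).Opens) x trivial (θ b) = 0 := hu.mul_right_eq_zero.1
      (by rw [← map_mul, ← map_mul, h0, map_zero, map_zero])
    rw [TopCat.Presheaf.germ_res_apply]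
    exact hg
  -- an affine chart at `c`
  obtain ⟨W, hW, hcW, -⟩ := exists_isAffineOpen_mem_and_subset (X := C) (x := c) (U := ⊤) trivial
  let φ : R →+* Γ(C, W) := (C.presheaf.map (homOfLE le_top).op).hom.comp (Coh.toGlobal f)
  let q := (hW.primeIdealOf ⟨c, hcW⟩).asIdeal
  let A := C.presheaf.stalk c
  letI : Algebra Γ(C, W) A := TopCat.Presheaf.algebra_section_stalk C.presheaf ⟨c, hcW⟩
  haveI : IsLocalization.AtPrime A q := hW.isLocalization_stalk ⟨c, hcW⟩
  letI : Algebra R Γ(C, W) := φ.toAlgebra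
  letI : Algebra R A := (DualGr.stalkHom f c).toAlgebra
  haveI : IsScalarTower R Γ(C, W) A := IsScalarTower.of_algebraMap_eq fun r => by
    show _ = C.presheaf.germ W c hcW (C.presheaf.map (homOfLE le_top).op (Coh.toGlobal f r))
    rw [TopCat.Presheaf.germ_res_apply]
    rfl
  have hfac : hW.fromSpec ≫ f = Spec.map (CommRingCat.ofHom φ) := by
    have h1 : f = C.toSpecΓ ≫ Spec.map f.appTop ≫
        Spec.map (Scheme.ΓSpecIso (CommRingCat.of R)).inv := by
      rw [← Scheme.toSpecΓ_naturality_assoc, toSpecΓ_SpecMap_ΓSpecIso_inv, Category.comp_id]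
    conv_lhs => rw [h1]
    rw [← Category.assoc, IsAffineOpen.fromSpec_toSpecΓ, ← Spec.map_comp, ← Spec.map_comp]
    congr 1
  haveI : Algebra.FiniteType R Γ(C, W) := by
    have h1 : LocallyOfFiniteType (Spec.map (CommRingCat.ofHom φ)) := by rw [← hfac]; infer_instance
    exact (HasRingHomProperty.Spec_iff (P := @LocallyOfFiniteType)).1 h1
  haveI : Algebra.EssFiniteType Γ(C, W) A := Algebra.EssFiniteType.of_isLocalization A q.primeCompl
  haveI : Algebra.EssFiniteType R A := Algebra.EssFiniteType.comp R Γ(C, W) A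
  haveI : IsNoetherianRing A := Algebra.EssFiniteType.isNoetherianRing R A
  refine not_smooth_over (A := A) a hnode p hap fun Q hQ hQp => ?_
  haveI := hQ
  set q' := Q.comap (algebraMap Γ(C, W) A) with hq'
  haveI : IsLocalization.AtPrime (Localization.AtPrime Q) q' :=
    IsLocalization.isLocalization_isLocalization_atPrime_isLocalization q.primeCompl (Localization.AtPrime Q) Q
  have hq'p : q'.comap (algebraMap R Γ(C, W)) = p := by
    rw [hq', Ideal.comap_comap, ← IsScalarTower.algebraMap_eq, hQp]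
  obtain ⟨_, ⟨g, rfl⟩, hgp, hgU⟩ :=
    PrimeSpectrum.isTopologicalBasis_basic_opens.exists_subset_of_mem_open hpU U.2
  let Bg := Localization.Away (algebraMap R Γ(C, W) g)
  let j : Spec (CommRingCat.of Bg) ⟶ C :=
    Spec.map (CommRingCat.ofHom (algebraMap Γ(C, W) Bg)) ≫ hW.fromSpec
  haveI : IsOpenImmersion (Spec.map (CommRingCat.ofHom (algebraMap Γ(C, W) Bg))) :=
    IsOpenImmersion.of_isLocalization (algebraMap R Γ(C, W) g)
  have hjf : j ≫ f = Spec.map (CommRingCat.ofHom (algebraMap R Bg)) := by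
    rw [Category.assoc, hfac, ← Spec.map_comp]
    congr 1
  have hrange : Set.range j ⊆ Set.range (f ⁻¹ᵁ U).ι := by
    rw [Scheme.Opens.range_ι]
    rintro _ ⟨z, rfl⟩
    show (j ≫ f) z ∈ U
    rw [hjf]
    refine hgU ?_
    show algebraMap R Bg g ∉ (z : PrimeSpectrum Bg).asIdeal
    exact fun h => (z : PrimeSpectrum Bg).isPrime.ne_top (Ideal.eq_top_of_isUnit_mem _ h
      (by rw [IsScalarTower.algebraMap_apply R Γ(C, W) Bg]; exact IsLocalization.Away.algebraMap_isUnit _))
  let l := IsOpenImmersion.lift (f ⁻¹ᵁ U).ι j hrange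
  have hl : l ≫ (f ∣_ U) ≫ U.ι = Spec.map (CommRingCat.ofHom (algebraMap R Bg)) := by
    rw [morphismRestrict_ι, IsOpenImmersion.lift_fac_assoc, hjf]
  haveI : IsOpenImmersion l :=
    haveI : IsOpenImmersion (l ≫ (f ⁻¹ᵁ U).ι) := by rw [IsOpenImmersion.lift_fac]; infer_instance
    IsOpenImmersion.of_comp l (f ⁻¹ᵁ U).ι
  haveI := hsm
  have hsmo : Smooth (Spec.map (CommRingCat.ofHom (algebraMap R Bg))) := hl ▸ inferInstance
  have hsm' : Algebra.Smooth R Bg := RingHom.smooth_algebraMap.1
    ((HasRingHomProperty.Spec_iff (P := @Smooth)).1 hsmo)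
  have hgq : algebraMap R Γ(C, W) g ∉ q' := fun h => hgp (by
    show g ∈ p
    rw [← hq'p]; exact h)
  -- the localisation at `q'` is a localisation of `Bg`
  letI : Algebra Bg (Localization.AtPrime Q) :=
    (IsLocalization.Away.lift (algebraMap R Γ(C, W) g) (g := algebraMap Γ(C, W) (Localization.AtPrime Q))
      (IsLocalization.map_units (Localization.AtPrime Q) (⟨_, hgq⟩ : q'.primeCompl))).toAlgebra
  haveI : IsScalarTower Γ(C, W) Bg (Localization.AtPrime Q) := IsScalarTower.of_algebraMap_eq fun z =>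
    (IsLocalization.Away.lift_eq _ _ z).symm
  haveI : IsScalarTower R Γ(C, W) (Localization.AtPrime Q) := IsScalarTower.to₁₂₄ R Γ(C, W) A _
  haveI : IsScalarTower R Bg (Localization.AtPrime Q) := IsScalarTower.of_algebraMap_eq fun r => by
    rw [IsScalarTower.algebraMap_apply R Γ(C, W) (Localization.AtPrime Q),
      IsScalarTower.algebraMap_apply R Γ(C, W) Bg,
      ← IsScalarTower.algebraMap_apply Γ(C, W) Bg (Localization.AtPrime Q)]
  haveI := IsLocalization.isLocalization_of_submonoid_le Bg (Localization.AtPrime Q)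
    (Submonoid.powers (algebraMap R Γ(C, W) g)) q'.primeCompl
    (by rintro _ ⟨n, rfl⟩; exact fun h => hgq (Ideal.IsPrime.mem_of_pow_mem inferInstance n h))
  haveI : Algebra.FormallySmooth Bg (Localization.AtPrime Q) :=
    Algebra.FormallySmooth.of_isLocalization (q'.primeCompl.map (algebraMap Γ(C, W) Bg))
  exact Algebra.FormallySmooth.comp R Bg (Localization.AtPrime Q)

end Groth.Agent.S17729
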