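import Groth.Statements.S1773
import Groth.Agent.DualCxLib.CoindDual
import Groth.Agent.DualCxLib.Gorenstein
-- Template for statement S1773 (row 1772; see the milestone table for weights).
-- Copy to Groth/Agent/S1773.lean and replace the sorry. The statement below is byte-identical to the frozen
-- statement Dual.GrothFrozen.S1773 (Groth/Statements/S1773.lean; the theorem Dual.isNormalized_rightAdjoint_restrictD_of_finite_local);
-- the grader kernel-checks Groth.Agent.S1773.result against that frozen type. Keep the theorem IN THIS FILE
-- (a `result` declared elsewhere and merely imported here is not credited); helpers may live anywhere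
-- under Groth/Agent/.
-- helpers: DualCxLib

set_option autoImplicit false
universe u
open CategoryTheory
attribute [local instance] HasDerivedCategory.standard
open Dual Groth.Agent.DualCxLib

namespace Groth.Agent.S1773

/-- Let A → B be a finite local homomorphism of Noetherian local rings and ω a normalized dualizing
complex for A. If R : D(A) → D(B) is right adjoint to restriction of scalars, then R(ω) is a
normalized dualizing complex for B. -/
theorem result (A B : Type u) [CommRing A] [CommRing B] [IsLocalRing A] [IsLocalRing B] [Algebra A B] [IsLocalHom (algebraMap A B)] [IsNoetherianRing A] [IsNoetherianRing B] [Module.Finite A B] (R : Dual.D A ⥤ Dual.D B) (adj : DRing.restrictD (algebraMap A B) ⊣ R) (ω : Dual.D A) (hω : Dual.IsDualizing A ω) (hn : Dual.IsNormalized A ω) : Dual.IsDualizing B (R.obj ω) ∧ Dual.IsNormalized B (R.obj ω) := by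
  let S := Groth.Agent.DualCxLib.model hω
  obtain ⟨c⟩ := S.rep.nonempty_coindIso B R adj
  refine ⟨Groth.Agent.DualCxLib.isDualizing_of_iso c (S.isDualizing_coext B hω), fun i hi => ?_⟩
  let k := IsLocalRing.ResidueField B
  obtain ⟨e, -⟩ := S.rep.exists_HK_coext B k i
  have h1 : Subsingleton (Groth.Agent.DualCxLib.HK ω i k) := by
    haveI := hn i hi
    have hk : ∀ a ∈ IsLocalRing.maximalIdeal A, ∀ x : k, a • x = 0 := fun a ha x => by
      rw [← algebraMap_smul B a x]
      have : algebraMap A B a ∈ IsLocalRing.maximalIdeal B := map_nonunit _ a ha
      rw [Algebra.smul_def]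
      show IsLocalRing.residue B (algebraMap A B a) * x = 0
      rw [(IsLocalRing.residue_eq_zero_iff _).2 this, zero_mul]
    haveI : Module.Finite A k := Module.Finite.trans B k
    rw [← Groth.Agent.DualCxLib.zeroAt_maximal_iff (A := A)]
    refine Groth.Agent.DualCxLib.zeroAt_HK_of_primes ω i (IsLocalRing.maximalIdeal A) k fun P hP hPs => ?_
    obtain rfl : P = IsLocalRing.closedPoint A := PrimeSpectrum.ext (le_antisymm hP fun a ha =>
      Module.annihilator_le_of_mem_support hPs (Module.mem_annihilator.2 fun x => hk a ha x))
    haveI : Subsingleton (Groth.Agent.DualCxLib.HK ω i (A ⧸ (IsLocalRing.closedPoint A).asIdeal)) := hn i hi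
    exact .of_subsingleton
  haveI := h1
  haveI := e.injective.subsingleton
  exact (((Iso.refl (Dual.inD B k)).homCongr
    ((CategoryTheory.shiftFunctor (Dual.D B) i).mapIso c))).subsingleton_congr.1 inferInstance

end Groth.Agent.S1773
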