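import Groth.Statements.S17734
import Groth.Agent.SubmEtSpread.NhdLim
import Groth.Agent.PicLimLib.Descend
import Groth.Agent.AmpleLib.Pullback
-- import your own Groth.Agent.* helpers here

set_option autoImplicit false
universe u
open PicF

namespace Groth.Agent.S17734

set_option linter.style.haveILetI false
open Groth.Agent.SubmEtSpread
set_option backward.isDefEq.respectTransparency false

open CategoryTheory AlgebraicGeometry Limits in
/-- Let f : X → S be a proper morphism of finite presentation, s a point of S, and L an invertible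
module on the base change X^s of X to the spectrum of the local ring of S at s. Then there are an
open neighbourhood V of s in S and an invertible module L' on the open subscheme f⁻¹(V) = X ×_S V
such that the pullback of L' along the canonical morphism X^s → f⁻¹(V) (the unique one compatible
with the projection X^s → X) is isomorphic to L. -/
theorem result
    {X S : Scheme.{u}} (f : X ⟶ S) [IsProper f] [LocallyOfFinitePresentation f] (s : S)
    (L : (pullback f (S.fromSpecStalk s)).Modules) (hL : PicF.IsInvertible L) :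
    ∃ (V : S.Opens) (_ : s ∈ V) (L' : (↑(f ⁻¹ᵁ V) : Scheme.{u}).Modules), PicF.IsInvertible L' ∧
      ∀ (ι : pullback f (S.fromSpecStalk s) ⟶ ↑(f ⁻¹ᵁ V)),
        ι ≫ (f ⁻¹ᵁ V).ι = pullback.fst f (S.fromSpecStalk s) →
        Nonempty ((Scheme.Modules.pullback ι).obj L' ≅ L) := by
  obtain ⟨hc⟩ := Nhd.nonempty_isLimit_bcone S s f
  obtain ⟨k, M, hM, ⟨e⟩⟩ := PicLimLib.exists_invertible_stage (Nhd.bsys S s f) (Nhd.bcone S s f) hc hL
  let j : Spec Γ(S, k.V) ⟶ S := k.isAffine.fromSpec
  let σ : ↑(f ⁻¹ᵁ k.V) ⟶ pullback f j :=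
    pullback.lift (f ⁻¹ᵁ k.V).ι ((f ∣_ k.V) ≫ k.isAffine.isoSpec.hom)
      (by rw [Category.assoc, k.isAffine.isoSpec_hom_fromSpec, morphismRestrict_ι])
  refine ⟨k.V, k.mem, (Scheme.Modules.pullback σ).obj M, AmpleLib.isInvertible_pullback σ hM, fun ι hι => ⟨?_⟩⟩
  have h1 : ι ≫ σ ≫ pullback.fst f j = pullback.fst f (S.fromSpecStalk s) := by
    rw [pullback.lift_fst, hι]
  have h2 : (Nhd.bcone S s f).π.app k = ι ≫ σ := by
    apply pullback.hom_ext
    · exact (pullback.lift_fst _ _ _).trans (h1.symm.trans (Category.assoc _ _ _).symm)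
    · haveI : Mono ((Nhd.toBase S s).app k) := inferInstance
      refine (cancel_mono ((Nhd.toBase S s).app k)).1 ?_
      refine (Category.assoc _ _ _).trans ((congrArg _ pullback.condition.symm).trans ?_)
      refine ((Category.assoc _ _ _).symm.trans ?_).trans
        (((Category.assoc _ _ _).trans (congrArg _ pullback.condition.symm)).trans (Category.assoc _ _ _).symm).symm
      exact congrArg (· ≫ f) ((pullback.lift_fst _ _ _).trans (h1.symm.trans (Category.assoc _ _ _).symm))
  exact ((Scheme.Modules.pullbackComp ι σ).app M) ≪≫ eqToIso (by rw [← h2]; rfl) ≪≫ e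

end Groth.Agent.S17734
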