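import Groth.Statements.S17735
import Groth.Agent.NodeSeriesLib.Basic
import Groth.Agent.NodeSeriesLib.Content
import Groth.Agent.NodeSeriesLib.Fibral
import Groth.Agent.RegLocal.UFD

set_option autoImplicit false
universe u
open CAlg

namespace Groth.Agent.S17735

open Groth.Agent.NodeSeriesLib

/-- Generators of a candidate fibral prime over `π`. -/
def Member {R B : Type u} [CommRing R] [CommRing B] [Algebra R B] (r : R) (xs : Fin 2 → B) (π : R)
    (S : Set B) : Prop :=
  (¬ π ∣ r ∧ S = {algebraMap R B π}) ∨ (π ∣ r ∧ ∃ j, S = {algebraMap R B π, xs j})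

lemma exists_member {R B T : Type u} [CommRing R] [CommRing B] [Algebra R B] [CommRing T] {r : R}
    {xs : Fin 2 → B} (hxy : xs 0 * xs 1 = algebraMap R B r) (g : B →+* T) (q : Ideal T) [q.IsPrime]
    {π : R} (hq : g (algebraMap R B π) ∈ q) :
    ∃ S, Member r xs π S ∧ Ideal.span (g '' S) ≤ q := by
  by_cases hπr : π ∣ r
  · obtain ⟨c, rfl⟩ := hπr
    have : g (xs 0) * g (xs 1) ∈ q := by
      rw [← map_mul, hxy, map_mul, map_mul]; exact Ideal.mul_mem_right _ _ hq
    rcases Ideal.IsPrime.mem_or_mem ‹_› this with h | h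
    · refine ⟨_, Or.inr ⟨dvd_mul_right _ _, 0, rfl⟩, Ideal.span_le.2 ?_⟩
      rintro _ ⟨z, rfl | rfl, rfl⟩ <;> assumption
    · refine ⟨_, Or.inr ⟨dvd_mul_right _ _, 1, rfl⟩, Ideal.span_le.2 ?_⟩
      rintro _ ⟨z, rfl | rfl, rfl⟩ <;> assumption
  · refine ⟨_, Or.inl ⟨hπr, rfl⟩, Ideal.span_le.2 ?_⟩
    rintro _ ⟨z, rfl, rfl⟩
    exact hq

open IsLocalRing in
/-- Let R be a regular local ring complete for its maximal ideal, r a non-zero element of R, A the
quotient of the power series ring in x, y over R by xy − r, B the quotient of the polynomial ring in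
x, y over R by xy − r, ι : B → A the natural map, P the ideal of B generated by x, y and the maximal
ideal of R, à the localization of B at P and φ : à → A the map extending ι. Call a prime of height
one of A (or of Ã) fibral when it contains a non-zero element of R. Then contraction along φ is a
bijection from the set of fibral height-one primes of A onto the set of fibral height-one primes of
Ã; equivalently it induces an isomorphism between the free abelian groups of fibral Weil divisors. -/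
theorem result
    (R : Type u) [CommRing R] [IsRegularLocalRing R]
    [IsAdicComplete (maximalIdeal R) R]
    (r : R) (hr : r ≠ 0)
    (ι : (MvPolynomial (Fin 2) R ⧸ Ideal.span {(MvPolynomial.X 0 * MvPolynomial.X 1 - MvPolynomial.C r : MvPolynomial (Fin 2) R)}) →+*
      (MvPowerSeries (Fin 2) R ⧸ Ideal.span {(MvPowerSeries.X 0 * MvPowerSeries.X 1 - MvPowerSeries.C r : MvPowerSeries (Fin 2) R)}))
    (hι : ι.comp (Ideal.Quotient.mk _) =
      (Ideal.Quotient.mk _).comp (MvPolynomial.coeToMvPowerSeries.ringHom : MvPolynomial (Fin 2) R →+* MvPowerSeries (Fin 2) R))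
    (P : Ideal (MvPolynomial (Fin 2) R ⧸ Ideal.span {(MvPolynomial.X 0 * MvPolynomial.X 1 - MvPolynomial.C r : MvPolynomial (Fin 2) R)})) [P.IsPrime]
    (hP : P = Ideal.span {Ideal.Quotient.mk _ (MvPolynomial.X 0), Ideal.Quotient.mk _ (MvPolynomial.X 1)} ⊔
      (maximalIdeal R).map (algebraMap R _))
    (φ : Localization.AtPrime P →+* (MvPowerSeries (Fin 2) R ⧸ Ideal.span {(MvPowerSeries.X 0 * MvPowerSeries.X 1 - MvPowerSeries.C r : MvPowerSeries (Fin 2) R)}))
    (hφ : φ.comp (algebraMap _ (Localization.AtPrime P)) = ι) :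
    Set.BijOn (fun 𝔓 => Ideal.comap φ 𝔓)
      {𝔓 | 𝔓.IsPrime ∧ 𝔓.height = 1 ∧ Ideal.comap (algebraMap R _) 𝔓 ≠ ⊥}
      {𝔮 : Ideal (Localization.AtPrime P) | 𝔮.IsPrime ∧ @Ideal.height (Localization.AtPrime P) _ 𝔮 = 1 ∧ Ideal.comap (algebraMap R (Localization.AtPrime P)) 𝔮 ≠ ⊥} := by
  classical
  have : IsDomain R := Groth.Agent.RegLocal.isDomain R
  have : UniqueFactorizationMonoid R := Groth.Agent.RegLocal.ufd R
  set mkA := Ideal.Quotient.mk (Ideal.span
    {(MvPowerSeries.X 0 * MvPowerSeries.X 1 - MvPowerSeries.C r : MvPowerSeries (Fin 2) R)}) with hmkA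
  set mkB := Ideal.Quotient.mk (Ideal.span
    {(MvPolynomial.X 0 * MvPolynomial.X 1 - MvPolynomial.C r : MvPolynomial (Fin 2) R)}) with hmkB
  have hι' : ∀ p : MvPolynomial (Fin 2) R, ι (mkB p) = mkA (p : MvPowerSeries (Fin 2) R) :=
    fun p => RingHom.congr_fun hι p
  have hιR : ∀ a : R, ι (algebraMap R _ a) = algebraMap R _ a := fun a => by
    have : (algebraMap R _ a) = mkB (MvPolynomial.C a) := rfl
    rw [this, hι', MvPolynomial.coe_C]; rfl
  have hφR : ∀ a : R, φ (algebraMap R (Localization.AtPrime P) a) = algebraMap R _ a := fun a => by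
    rw [IsScalarTower.algebraMap_apply R (MvPolynomial (Fin 2) R ⧸ Ideal.span
      {(MvPolynomial.X 0 * MvPolynomial.X 1 - MvPolynomial.C r : MvPolynomial (Fin 2) R)})
      (Localization.AtPrime P), ← RingHom.comp_apply, hφ, hιR]
  set xs : Fin 2 → _ := fun j => mkB (MvPolynomial.X j) with hxs
  have hxy : xs 0 * xs 1 = algebraMap R _ r := by
    show mkB (MvPolynomial.X 0) * mkB (MvPolynomial.X 1) = mkB (MvPolynomial.C r)
    rw [← map_mul, hmkB, Ideal.Quotient.eq]
    exact Ideal.subset_span rfl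
  -- `r` is in the maximal ideal
  have hrm : r ∈ maximalIdeal R := by
    intro hu
    have h0 : xs 0 ∈ P := hP ▸ Ideal.mem_sup_left (Ideal.subset_span (Set.mem_insert _ _))
    have : algebraMap R _ r ∈ P := hxy ▸ Ideal.mul_mem_right _ _ h0
    exact ‹P.IsPrime›.ne_top (Ideal.eq_top_of_isUnit_mem _ this (hu.map _))
  have hdomA : IsDomain (MvPowerSeries (Fin 2) R ⧸ Ideal.span
      {(MvPowerSeries.X 0 * MvPowerSeries.X 1 - MvPowerSeries.C r : MvPowerSeries (Fin 2) R)}) :=
    isDomain_quot hrm hr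
  -- the primes attached to the members
  have hedge : ∀ {π : R}, π ∣ r → ∀ i : Fin 2, ∀ z ∈ Ideal.span
      {(MvPowerSeries.X 0 * MvPowerSeries.X 1 - MvPowerSeries.C r : MvPowerSeries (Fin 2) R)},
      edge (Ideal.span {π}) i z = 0 := fun hπr i z hz => by
    obtain ⟨w, rfl⟩ := Ideal.mem_span_singleton'.1 hz
    rw [map_mul, show (MvPowerSeries.X 0 * MvPowerSeries.X 1 - MvPowerSeries.C r :
      MvPowerSeries (Fin 2) R) = eqn r from rfl, edge_eqn hπr, mul_zero]
  have himg : ∀ (π : R) (j : Fin 2), Ideal.span (ι '' {algebraMap R _ π, xs j}) =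
      (Ideal.span {MvPowerSeries.C π, MvPowerSeries.X j}).map mkA := fun π j => by
    rw [Ideal.map_span, Set.image_pair, Set.image_pair, hιR, hxs, hι', MvPolynomial.coe_X]; rfl
  have hother : ∀ j : Fin 2, ∃ i, j ≠ i := fun j => by
    fin_cases j
    · exact ⟨1, by decide⟩
    · exact ⟨0, by decide⟩
  have hpair : ∀ {π : R}, π ∣ r → ∀ {i j : Fin 2}, j ≠ i → ∀ z,
      mkA z ∈ Ideal.span (ι '' {algebraMap R _ π, xs j}) ↔ edge (Ideal.span {π}) i z = 0 := by
    intro π hπr i j hij z
    rw [himg, ← ker_edge π hij, ← RingHom.mem_ker, ← Ideal.mem_comap,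
      Ideal.comap_map_of_surjective' mkA Ideal.Quotient.mk_surjective, sup_eq_left.2]
    intro w hw
    rw [hmkA, Ideal.mk_ker] at hw
    exact hedge hπr i w hw
  have hprime : ∀ π S, Prime π → Member r xs π S → (Ideal.span (ι '' S)).IsPrime := by
    rintro π S hπ (⟨hπr, rfl⟩ | ⟨hπr, j, rfl⟩)
    · rw [Set.image_singleton, hιR]
      exact isPrime_span_prime hrm hπ hπr
    · obtain ⟨i, hij⟩ := hother j
      haveI : (Ideal.span {π}).IsPrime := (Ideal.span_singleton_prime hπ.ne_zero).2 hπ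
      rw [himg, ← ker_edge π hij]
      haveI := RingHom.ker_isPrime (edge (Ideal.span {π}) i)
      refine Ideal.map_isPrime_of_surjective Ideal.Quotient.mk_surjective ?_
      rw [Ideal.mk_ker]
      exact fun w hw => hedge hπr i w hw
  have hback : ∀ π S, Prime π → Member r xs π S →
      Ideal.comap φ (Ideal.span (ι '' S)) = Ideal.span (algebraMap _ (Localization.AtPrime P) '' S) := by
    intro π S hπ hS
    have hcore : ∀ b, ι b ∈ Ideal.span (ι '' S) → b ∈ Ideal.span S := by
      intro b hb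
      obtain ⟨p, rfl⟩ := Ideal.Quotient.mk_surjective b
      rw [hι'] at hb
      rcases hS with ⟨hπr, rfl⟩ | ⟨hπr, j, rfl⟩
      · rw [Set.image_singleton, hιR] at hb
        obtain ⟨q, hq⟩ := poly_mem_span hrm hπ hπr p hb
        refine Ideal.mem_span_singleton.2 ⟨mkB q, ?_⟩
        show mkB p = mkB (MvPolynomial.C π) * mkB q
        rw [← map_mul, hmkB, Ideal.Quotient.eq]
        exact hq
      · obtain ⟨i, hij⟩ := hother j
        have := mem_of_edge_eq_zero π hij p ((hpair hπr hij _).1 hb)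
        have h2 := Ideal.mem_map_of_mem mkB this
        rw [Ideal.map_span, Set.image_pair] at h2
        exact h2
    refine le_antisymm (fun z hz => ?_) (Ideal.span_le.2 ?_)
    · obtain ⟨⟨b, u⟩, rfl⟩ := IsLocalization.mk'_surjective P.primeCompl z
      dsimp only at hz ⊢
      rw [Ideal.mem_comap] at hz
      have hb : ι b ∈ Ideal.span (ι '' S) := by
        rw [show ι b = φ (algebraMap _ (Localization.AtPrime P) b) from (RingHom.congr_fun hφ b).symm,
          ← IsLocalization.mk'_spec (Localization.AtPrime P) b u, map_mul]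
        exact Ideal.mul_mem_right _ _ hz
      rw [IsLocalization.mk'_eq_mul_mk'_one, ← Ideal.map_span]
      exact Ideal.mul_mem_right _ _ (Ideal.mem_map_of_mem _ (hcore b hb))
    · rintro _ ⟨b, hb, rfl⟩
      rw [SetLike.mem_coe, Ideal.mem_comap, ← RingHom.comp_apply, hφ]
      exact Ideal.subset_span ⟨b, hb, rfl⟩
  have hext : ∀ π S, Prime π → Member r xs π S →
      Ideal.map φ (Ideal.comap φ (Ideal.span (ι '' S))) = Ideal.span (ι '' S) := by
    intro π S hπ hS
    rw [hback π S hπ hS, Ideal.map_span, ← Set.image_comp, ← RingHom.coe_comp, hφ]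
  have hanti : ∀ π S S', Prime π → Member r xs π S → Member r xs π S' →
      Ideal.span (ι '' S') ≤ Ideal.span (ι '' S) → S' = S := by
    rintro π S S' hπ (⟨h, rfl⟩ | ⟨hπr, j, rfl⟩) (⟨h', rfl⟩ | ⟨h', j', rfl⟩) hle
    · rfl
    · exact absurd h' h
    · exact absurd hπr h'
    · congr 2
      by_contra hne
      haveI : (Ideal.span {π}).IsPrime := (Ideal.span_singleton_prime hπ.ne_zero).2 hπ
      have hjj : j' ≠ j := fun e => hne (by rw [e])
      have hx : mkA (MvPowerSeries.X j') ∈ Ideal.span (ι '' {algebraMap R _ π, xs j'}) := by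
        have : mkA (MvPowerSeries.X j') = ι (xs j') := by rw [hxs, hι', MvPolynomial.coe_X]
        rw [this]
        exact Ideal.subset_span ⟨_, Set.mem_insert_of_mem _ rfl, rfl⟩
      have := (hpair hπr (i := j') hjj.symm _).1 (hle hx)
      rw [edge_X] at this
      exact PowerSeries.X_ne_zero this
  -- membership of the generators
  have hgen : ∀ π S, Member r xs π S → algebraMap R _ π ∈ S := by
    rintro π S (⟨_, rfl⟩ | ⟨_, j, rfl⟩)
    · rfl
    · exact Set.mem_insert _ _
  have hπA : ∀ π S, Member r xs π S → algebraMap R _ π ∈ Ideal.span (ι '' S) := fun π S hS =>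
    Ideal.subset_span ⟨_, hgen π S hS, hιR π⟩
  have hne0 : ∀ π : R, Prime π → algebraMap R (MvPowerSeries (Fin 2) R ⧸ Ideal.span
      {(MvPowerSeries.X 0 * MvPowerSeries.X 1 - MvPowerSeries.C r : MvPowerSeries (Fin 2) R)}) π ≠ 0 := by
    intro π hπ h0
    have h2 : MvPowerSeries.C π - MvPowerSeries.C 0 ∈ Ideal.span {eqn r} := by
      rw [map_zero, sub_zero]; exact Ideal.Quotient.eq_zero_iff_mem.1 h0
    have := d_congr hrm h2 0
    rw [d_C, d_C, if_pos rfl, if_pos rfl] at this
    exact hπ.ne_zero this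
  -- heights
  have hone : ∀ {T : Type u} [CommRing T] [IsNoetherianRing T] (t : T) (I : Ideal T),
      t ∈ I → I.IsPrime → (∀ q : Ideal T, q.IsPrime → t ∈ q → q ≤ I → I ≤ q) →
      (∃ q₀ : Ideal T, q₀.IsPrime ∧ q₀ < I) → I.height = 1 := by
    intro T _ _ t I ht hI hmin hbelow
    haveI := hI
    refine le_antisymm ?_ ?_
    · haveI : (Ideal.span {t}).IsPrincipal := ⟨⟨t, rfl⟩⟩
      exact Ideal.height_le_one_of_isPrincipal_of_mem_minimalPrimes (Ideal.span {t}) I
        ⟨⟨hI, (Ideal.span_singleton_le_iff_mem _).2 ht⟩,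
          fun q hq hle => hmin q hq.1 ((Ideal.span_singleton_le_iff_mem _).1 hq.2) hle⟩
    · obtain ⟨q₀, hq₀, hlt⟩ := hbelow
      rw [Order.one_le_iff_ne_zero, Ne, Ideal.height_eq_zero_iff]
      exact fun h => hlt.not_ge (h.2 ⟨hq₀, bot_le⟩ hlt.le)
  have hA1 : ∀ π S, Prime π → Member r xs π S → (Ideal.span (ι '' S)).height = 1 := by
    intro π S hπ hS
    haveI := hprime π S hπ hS
    refine hone _ _ (hπA π S hS) this (fun q hq htq hle => ?_) ⟨⊥, Ideal.isPrime_bot, ?_⟩
    · haveI := hq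
      obtain ⟨S', hS', hle'⟩ := exists_member hxy ι q (π := π) (by rwa [hιR])
      rw [hanti π S S' hπ hS hS' (hle'.trans hle)] at hle'
      exact hle'
    · exact lt_of_le_of_ne bot_le fun h => hne0 π hπ (Ideal.mem_bot.1 (h ▸ hπA π S hS))
  have hL1 : ∀ π S, Prime π → Member r xs π S →
      @Ideal.height (Localization.AtPrime P) _ (Ideal.comap φ (Ideal.span (ι '' S)) :) = 1 := by
    intro π S hπ hS
    haveI := hprime π S hπ hS
    refine hone (algebraMap R _ π) _ (by rw [Ideal.mem_comap, hφR]; exact hπA π S hS)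
      (Ideal.IsPrime.comap φ) (fun q hq htq hle => ?_)
      ⟨Ideal.comap φ ⊥, Ideal.IsPrime.comap φ (hK := Ideal.isPrime_bot), ?_⟩
    · haveI := hq
      obtain ⟨S', hS', hle'⟩ := exists_member hxy (algebraMap _ (Localization.AtPrime P)) q (π := π)
        (by rwa [← IsScalarTower.algebraMap_apply])
      rw [← hback π S' hπ hS'] at hle'
      have : Ideal.span (ι '' S') ≤ Ideal.span (ι '' S) := by
        rw [← hext π S' hπ hS', ← hext π S hπ hS]
        exact Ideal.map_mono (hle'.trans hle)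
      rw [hanti π S S' hπ hS hS' this] at hle'
      exact hle'
    · refine lt_of_le_of_ne (Ideal.comap_mono bot_le) fun h => hne0 π hπ ?_
      have hm : algebraMap R _ π ∈ Ideal.comap φ (Ideal.span (ι '' S)) := by
        rw [Ideal.mem_comap, hφR]; exact hπA π S hS
      rw [← h, Ideal.mem_comap, hφR, Ideal.mem_bot] at hm
      exact hm
  -- a prime containing a nonzero scalar contains a prime scalar
  have hfind : ∀ {T : Type u} [CommRing T] [Algebra R T] (q : Ideal T), q.IsPrime →
      Ideal.comap (algebraMap R T) q ≠ ⊥ → ∃ π, Prime π ∧ algebraMap R T π ∈ q := by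
    intro T _ _ q hq h
    haveI := hq
    exact (Ideal.IsPrime.exists_mem_prime_of_ne_bot (Ideal.IsPrime.comap (algebraMap R T)) h).imp
      fun π h => ⟨h.2, h.1⟩
  have hA : ∀ 𝔓 ∈ {𝔓 : Ideal (MvPowerSeries (Fin 2) R ⧸ Ideal.span
      {(MvPowerSeries.X 0 * MvPowerSeries.X 1 - MvPowerSeries.C r : MvPowerSeries (Fin 2) R)}) |
      𝔓.IsPrime ∧ 𝔓.height = 1 ∧ Ideal.comap (algebraMap R _) 𝔓 ≠ ⊥},
      ∃ π S, Prime π ∧ Member r xs π S ∧ 𝔓 = Ideal.span (ι '' S) := by
    rintro 𝔓 ⟨h𝔓, h1, h2⟩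
    haveI := h𝔓
    obtain ⟨π, hπ, hmem⟩ := hfind 𝔓 h𝔓 h2
    obtain ⟨S, hS, hle⟩ := exists_member hxy ι 𝔓 (π := π) (by rwa [hιR])
    refine ⟨π, S, hπ, hS, (eq_of_le_of_not_lt hle fun hlt => ?_).symm⟩
    haveI := hprime π S hπ hS
    have := Ideal.height_strict_mono_of_isPrime hlt
    rw [h1, hA1 π S hπ hS] at this
    exact lt_irrefl _ this
  refine ⟨fun 𝔓 h => ?_, fun 𝔓 h 𝔔 h' he => ?_, fun q hq => ?_⟩
  · obtain ⟨π, S, hπ, hS, rfl⟩ := hA 𝔓 h
    haveI := h.1
    refine ⟨Ideal.IsPrime.comap φ, hL1 π S hπ hS, fun hbot => hπ.ne_zero ?_⟩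
    have : π ∈ Ideal.comap (algebraMap R (Localization.AtPrime P))
        (Ideal.comap φ (Ideal.span (ι '' S))) := by
      rw [Ideal.mem_comap, Ideal.mem_comap, hφR]; exact hπA π S hS
    rw [hbot] at this
    exact this
  · obtain ⟨π, S, hπ, hS, rfl⟩ := hA 𝔓 h
    obtain ⟨π', S', hπ', hS', rfl⟩ := hA 𝔔 h'
    dsimp only at he
    rw [← hext π S hπ hS, ← hext π' S' hπ' hS', he]
  · obtain ⟨hqp, hq1, hq2⟩ := hq
    haveI := hqp
    obtain ⟨π, hπ, hmem⟩ := hfind (T := Localization.AtPrime P) q hqp hq2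
    obtain ⟨S, hS, hle⟩ := exists_member (T := Localization.AtPrime P) hxy (algebraMap _ _) q (π := π)
      (by rwa [← IsScalarTower.algebraMap_apply])
    rw [← hback π S hπ hS] at hle
    haveI := hprime π S hπ hS
    refine ⟨Ideal.span (ι '' S), ⟨this, hA1 π S hπ hS, fun hbot => hπ.ne_zero ?_⟩, ?_⟩
    · have h3 : π ∈ Ideal.comap (algebraMap R _) (Ideal.span (ι '' S)) := hπA π S hS
      rw [hbot] at h3
      exact h3
    · refine eq_of_le_of_not_lt hle fun hlt => ?_
      haveI : (Ideal.comap φ (Ideal.span (ι '' S))).IsPrime := Ideal.IsPrime.comap φ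
      dsimp only at hlt
      have := Ideal.height_strict_mono_of_isPrime (R := Localization.AtPrime P) hlt
      rw [hq1, hL1 π S hπ hS] at this
      exact lt_irrefl _ this

end Groth.Agent.S17735
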