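import Groth.Statements.S17736
import Groth.Agent.NodeSeriesLib.UFD
import Groth.Agent.RatliffLib.Formal
import Groth.Agent.RegLocal.Completion

set_option autoImplicit false
universe u
open DualGr

namespace Groth.Agent.S17736

open IsLocalRing in
/-- Unique factorization descends along a faithfully flat map of Noetherian local rings. -/
lemma descend_ufd (A B : Type u) [CommRing A] [IsNoetherianRing A] [IsLocalRing A] [CommRing B]
    [Algebra A B] [Module.FaithfullyFlat A B] [IsLocalRing B] [IsDomain B]
    [UniqueFactorizationMonoid B] : IsDomain A ∧ UniqueFactorizationMonoid A := by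
  classical
  have hinj := FaithfulSMul.algebraMap_injective A B
  haveI : IsDomain A := hinj.isDomain (algebraMap A B)
  refine ⟨inferInstance, { (inferInstance : WfDvdMonoid A) with irreducible_iff_prime := ?_ }⟩
  intro p
  refine ⟨fun hp => ⟨hp.ne_zero, hp.not_isUnit, fun a b hab => ?_⟩, Prime.irreducible⟩
  by_contra hc
  rw [not_or] at hc
  set J : Ideal A := Submodule.comap (LinearMap.mulLeft A a) (Ideal.span {p}) with hJ
  have hJmem : ∀ x, x ∈ J ↔ p ∣ a * x := fun x => by
    rw [hJ, Submodule.mem_comap, LinearMap.mulLeft_apply, Ideal.mem_span_singleton]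
  have ha0 : a ≠ 0 := fun h => hc.1 (h ▸ dvd_zero p)
  obtain ⟨a', p', c, hrel, hca, hcp⟩ := UniqueFactorizationMonoid.exists_reduced_factors (algebraMap A B a)
    (fun h => ha0 (hinj (h.trans (map_zero _).symm))) (algebraMap A B p)
  have hc0 : c ≠ 0 := fun h => hp.ne_zero (hinj (by rw [← hcp, h, zero_mul, map_zero]))
  have hJB : J.map (algebraMap A B) = Ideal.span {p'} := by
    refine le_antisymm (Ideal.map_le_iff_le_comap.2 fun x hx => ?_) ((Ideal.span_singleton_le_iff_mem _).2 ?_)
    · rw [Ideal.mem_comap, Ideal.mem_span_singleton]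
      have h := map_dvd (algebraMap A B) ((hJmem x).1 hx)
      rw [map_mul, ← hca, ← hcp, mul_assoc] at h
      exact hrel.symm.dvd_of_dvd_mul_left ((mul_dvd_mul_iff_left hc0).1 h)
    · have hsum : ∑ i, (![a, p] : Fin 2 → A) i • (![p', -a'] : Fin 2 → B) i = 0 := by
        simp only [Fin.sum_univ_two, Matrix.cons_val_zero, Matrix.cons_val_one, Algebra.smul_def,
          ← hca, ← hcp]
        ring
      obtain ⟨k, m, y, hy, hm⟩ := Module.Flat.isTrivialRelation_of_sum_smul_eq_zero (R := A) (M := B) (f := ![a, p]) (x := ![p', -a']) hsum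
      have h0 := hy 0
      simp only [Matrix.cons_val_zero] at h0
      rw [h0]
      refine Ideal.sum_mem _ fun j _ => ?_
      rw [Algebra.smul_def]
      refine Ideal.mul_mem_right _ _ (Ideal.mem_map_of_mem _ ((hJmem _).2 ⟨-m 1 j, ?_⟩))
      have h1 := hm j
      simp only [Fin.sum_univ_two, Matrix.cons_val_zero, Matrix.cons_val_one] at h1
      linear_combination h1
  -- `J` is principal
  obtain ⟨x, hx, hxJ⟩ : ∃ x ∈ J, J.map (algebraMap A B) ≤ Ideal.span {algebraMap A B x} := by
    have hp' : p' ∈ J.map (algebraMap A B) := hJB ▸ Ideal.mem_span_singleton_self p'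
    by_contra hcon
    push_neg at hcon
    have hp'0 : p' ≠ 0 := fun h => hp.ne_zero (hinj (by rw [← hcp, h, mul_zero, map_zero]))
    have key : ∀ z ∈ J.map (algebraMap A B), ∃ d ∈ maximalIdeal B, z = d * p' := by
      intro z hz
      rw [Ideal.map] at hz
      induction hz using Submodule.span_induction with
      | mem z hz =>
        obtain ⟨x, hx, rfl⟩ := hz
        obtain ⟨d, hd⟩ := Ideal.mem_span_singleton'.1
          (hJB ▸ Ideal.mem_map_of_mem (algebraMap A B) hx : algebraMap A B x ∈ Ideal.span {p'})
        refine ⟨d, fun hu => hcon x hx ?_, hd.symm⟩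
        rw [hJB, Ideal.span_singleton_le_iff_mem, Ideal.mem_span_singleton, ← hd]
        exact hu.mul_left_dvd.2 dvd_rfl
      | zero => exact ⟨0, zero_mem _, (zero_mul _).symm⟩
      | add u v _ _ hu hv =>
        obtain ⟨d, hd, rfl⟩ := hu
        obtain ⟨e, he, rfl⟩ := hv
        exact ⟨d + e, add_mem hd he, (add_mul _ _ _).symm⟩
      | smul w u _ hu =>
        obtain ⟨d, hd, rfl⟩ := hu
        exact ⟨w * d, Ideal.mul_mem_left _ _ hd, by rw [smul_eq_mul, mul_assoc]⟩
    obtain ⟨d, hd, hpd⟩ := key p' hp'
    have : d = 1 := mul_right_cancel₀ hp'0 (hpd.symm.trans (one_mul p').symm)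
    exact hd (this ▸ isUnit_one)
  have hJx : ∀ z ∈ J, x ∣ z := fun z hz => by
    have h := hxJ (Ideal.mem_map_of_mem _ hz)
    rw [← Set.image_singleton, ← Ideal.map_span] at h
    rw [← Ideal.mem_span_singleton, ← Ideal.comap_map_eq_self_of_faithfullyFlat (A := A) (B := B) (Ideal.span {x})]
    exact h
  obtain ⟨e, he⟩ := hJx p ((hJmem p).2 (dvd_mul_left p a))
  rcases hp.isUnit_or_isUnit he with hu | hu
  · obtain ⟨v, rfl⟩ := hu
    have h1 := (hJmem _).1 hx
    exact hc.1 (Units.dvd_mul_right.1 h1)
  · have h2 := hJx b ((hJmem b).2 hab)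
    exact hc.2 (dvd_trans (he ▸ hu.mul_right_dvd.2 dvd_rfl) h2)

open CategoryTheory AlgebraicGeometry IsLocalRing in
/-- Let R be a regular local ring, X a locally Noetherian scheme over Spec R, and x a point of X whose
local ring is formally a node of thickness (Δ) over R, that is, its completion is isomorphic,
compatibly with R, to R̂[[u,v]]/(uv − Δ), where R̂ is the completion of R and Δ is an element of R
whose image in R̂ is a prime element. Then the local ring of X at x is a unique factorization
domain. (The published statement is for a quasisplit nodal curve, smooth over a dense open, over an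
excellent base all of whose smooth schemes are locally factorial, and a singular point with prime
thickness. Its argument passes through unique factorization in R̂[[u,v]]/(uv − Δ) for R̂ an
arbitrary complete local unique factorization domain, which fails in that generality: that ring is
free of rank two over the power series ring R̂[[u + v]], and a power series ring over a complete
local unique factorization domain need not be factorial. The base is therefore taken regular here,
the case in which the completed ring is factorial; factoriality then descends to the local ring of X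
at x along the faithfully flat completion map.) -/
theorem result
    (R : Type u) [CommRing R] [IsRegularLocalRing R]
    {X : Scheme.{u}} [IsLocallyNoetherian X] (f : X ⟶ Spec (CommRingCat.of R)) (x : X) (Δ : R)
    (hnode : DualGr.IsThickNode (DualGr.stalkHom f x) Δ)
    (hprime : Prime (algebraMap R (Curv2.cpl R) Δ)) :
    IsDomain (X.presheaf.stalk x) ∧ UniqueFactorizationMonoid (X.presheaf.stalk x) := by
  obtain ⟨_, hn, hc, _, _⟩ := RatliffLib.compl_facts R
  haveI := hn
  haveI := hc
  haveI : IsRegularLocalRing (Curv2.cpl R) :=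
    (RegLocal.isRegularLocalRing_completion_iff R (maximalIdeal R) (maximalIdeal.isMaximal R).ne_top).1 inferInstance
  obtain ⟨e, -⟩ := hnode
  obtain ⟨hdom, hufd⟩ := NodeSeriesLib.ufd_seriesModel (R := Curv2.cpl R) hprime
  set A := X.presheaf.stalk x
  obtain ⟨_, _, _, _, _⟩ := RatliffLib.compl_facts A
  haveI : IsDomain (DualGr.nodeRing R Δ) := hdom
  haveI : IsDomain (Curv2.cpl A) := e.toMulEquiv.isDomain _
  haveI : UniqueFactorizationMonoid (Curv2.cpl A) :=
    MulEquiv.uniqueFactorizationMonoid e.symm.toMulEquiv hufd
  haveI : Module.Flat A (Curv2.cpl A) := AdicCompletion.flat_of_isNoetherian _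
  haveI : Module.FaithfullyFlat A (Curv2.cpl A) := Module.FaithfullyFlat.of_flat_of_isLocalHom
  exact descend_ufd A (Curv2.cpl A)

end Groth.Agent.S17736
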