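import Groth.Statements.S17738
import Groth.Agent.NormalSch.Basic

set_option autoImplicit false
universe u
open CategoryTheory AlgebraicGeometry
open QsChow

namespace Groth.Agent.S17738

open TensorProduct Polynomial in
theorem isDomain_or_exists (k K L : Type u) [Field k] [Field K] [Algebra k K] [Field L] [Algebra k L]
    [FiniteDimensional k L] [IsGalois k L] :
    IsDomain (K ⊗[k] L) ∨ ∃ F : IntermediateField k L, F ≠ ⊥ ∧ Nonempty (F →ₐ[k] K) := by
  let E := AlgebraicClosure K
  let ι : L →ₐ[k] E := IsAlgClosed.lift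
  let j : K →ₐ[k] E := IsScalarTower.toAlgHom k K E
  let F : IntermediateField k L := j.fieldRange.comap ι
  have hF : ∀ a : F, (ι.comp F.val) a ∈ j.range := fun a => a.2
  let ψ : F →ₐ[k] K :=
    (AlgEquiv.ofInjective j j.injective).symm.toAlgHom.comp ((ι.comp F.val).codRestrict j.range hF)
  by_cases hbot : F = ⊥
  swap
  · exact Or.inr ⟨F, hbot, ⟨ψ⟩⟩
  refine Or.inl ?_
  obtain pb := Field.powerBasisOfFiniteOfSeparable k L
  let θ := ι pb.gen
  let m := minpoly k pb.gen
  have hm : m.Monic := minpoly.monic (Algebra.IsIntegral.isIntegral _)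
  have hθ : IsIntegral K θ := ((Algebra.IsIntegral.isIntegral (R := k) pb.gen).map ι).tower_top
  let g := minpoly K θ
  have hdvd : g.map (algebraMap K E) ∣ m.map (algebraMap k E) := by
    rw [IsScalarTower.algebraMap_eq k K E, ← Polynomial.map_map]
    refine Polynomial.map_dvd _ (minpoly.dvd K θ ?_)
    rw [aeval_map_algebraMap, aeval_algHom_apply, minpoly.aeval, map_zero]
  have hsplit : (m.map (algebraMap k L)).Splits := Normal.splits inferInstance pb.gen
  have hm0 : m.map (algebraMap k E) ≠ 0 := (hm.map _).ne_zero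
  have hgs : (g.map (algebraMap K E)).Splits := IsAlgClosed.splits _
  have hmem : g.map (algebraMap K E) ∈ Polynomial.lifts ι.toRingHom := by
    refine hgs.mem_lift_of_roots_mem_range ((minpoly.monic hθ).map _) _ fun a ha => ?_
    have h1 : a ∈ (m.map (algebraMap k E)).roots := Multiset.mem_of_le (roots.le_of_dvd hm0 hdvd) ha
    have h2 : (m.map (algebraMap k E)) = (m.map (algebraMap k L)).map ι.toRingHom := by
      rw [Polynomial.map_map]; congr 1; exact ι.comp_algebraMap.symm
    rw [h2, hsplit.roots_map] at h1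
    obtain ⟨b, -, rfl⟩ := Multiset.mem_map.1 h1
    exact ⟨b, rfl⟩
  have hlift : g ∈ Polynomial.lifts (algebraMap k K) := by
    rw [Polynomial.lifts_iff_coeff_lifts] at hmem ⊢
    intro i
    obtain ⟨b, hb⟩ := hmem i
    have hb' : ι b = algebraMap K E (g.coeff i) := by rw [← Polynomial.coeff_map]; exact hb
    have hbF : b ∈ F := ⟨g.coeff i, hb'.symm⟩
    rw [hbot, IntermediateField.mem_bot] at hbF
    obtain ⟨c, rfl⟩ := hbF
    refine ⟨c, (algebraMap K E).injective ?_⟩
    rw [← hb', ι.commutes, ← IsScalarTower.algebraMap_apply]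
  obtain ⟨g₀, hg₀, hg₀d, hg₀m⟩ := Polynomial.lifts_and_natDegree_eq_and_monic hlift (minpoly.monic hθ)
  have hge : pb.dim ≤ g.natDegree := by
    rw [← pb.natDegree_minpoly, ← hg₀d]
    refine natDegree_le_of_dvd (minpoly.dvd k pb.gen ?_) hg₀m.ne_zero
    refine (map_eq_zero_iff ι ι.toRingHom.injective).1 ?_
    rw [← aeval_algHom_apply, ← aeval_map_algebraMap K θ g₀, hg₀]
    exact minpoly.aeval K θ
  let Φ : K ⊗[k] L →ₐ[K] E := Algebra.TensorProduct.lift (Algebra.ofId K E) ι (fun _ _ => Commute.all _ _)
  let b := Algebra.TensorProduct.basis K pb.basis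
  have hli : LinearIndependent K (fun i => Φ.toLinearMap (b i)) := by
    have h1 := (linearIndependent_pow (K := K) θ).comp (Fin.castLE hge) (Fin.castLE_injective hge)
    convert h1 using 1
    funext i
    simp [b, Φ, θ]
  have hinj : Function.Injective Φ := by
    rw [injective_iff_map_eq_zero]
    intro x hx
    apply b.repr.injective
    rw [map_zero]
    refine linearIndependent_iff.1 hli _ ?_
    have h2 := congrArg Φ.toLinearMap (b.linearCombination_repr x)
    rw [Finsupp.apply_linearCombination] at h2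
    exact h2.trans hx
  exact hinj.isDomain Φ.toRingHom

open Limits TensorProduct in
theorem irreducible_bc (k : Type u) [Field k] (X : Scheme.{u}) [IsIntegral X]
    (f : X ⟶ Spec (CommRingCat.of k)) (L : Type u) [Field L] [Algebra k L] [FiniteDimensional k L]
    (φ : CommRingCat.of k ⟶ X.functionField) (hφ : Spec.map φ = X.fromSpecStalk (genericPoint X) ≫ f)
    (hdom : letI := φ.hom.toAlgebra; IsDomain (X.functionField ⊗[k] L)) :
    IrreducibleSpace ↥(pullback f (Spec.map (CommRingCat.ofHom (algebraMap k L)))) := by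
  letI : Algebra k X.functionField := φ.hom.toAlgebra
  haveI := hdom
  set c := X.fromSpecStalk (genericPoint X) with hc
  let sL := Spec.map (CommRingCat.ofHom (algebraMap k L))
  let π := pullback.fst f sL
  haveI : Flat sL := Flat.SpecMap_iff.2 (RingHom.flat_algebraMap_iff.2 inferInstance)
  haveI : LocallyOfFinitePresentation sL := by
    rw [HasRingHomProperty.Spec_iff (P := @LocallyOfFinitePresentation)]
    exact RingHom.finitePresentation_algebraMap.2 (Algebra.FinitePresentation.of_finiteType.1 inferInstance)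
  haveI : UniversallyOpen π := inferInstance
  let e : Spec (CommRingCat.of (X.functionField ⊗[k] L)) ≅ pullback c π :=
    (pullbackSpecIso k X.functionField L).symm ≪≫ pullback.congrHom (f₂ := c ≫ f) (g₂ := sL) hφ rfl ≪≫
      (pullbackRightPullbackFstIso f sL c).symm
  haveI : PreirreducibleSpace ↥(pullback c π) := by
    haveI : IrreducibleSpace ↥(Spec (CommRingCat.of (X.functionField ⊗[k] L))) :=
      inferInstanceAs (IrreducibleSpace (PrimeSpectrum (X.functionField ⊗[k] L)))
    exact (e.hom.homeomorph.irreducibleSpace_iff.1 inferInstance).toPreirreducibleSpace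
  have hmem : ∀ U : Set ↥(pullback f sL), IsOpen U → U.Nonempty → ∃ w, (pullback.snd c π).base w ∈ U := by
    intro U hU hne
    obtain ⟨z, hz, hzη⟩ := ((genericPoint_spec X).mem_open_set_iff (π.isOpenMap U hU)).2 (by simpa using hne)
    have hr : z ∈ Set.range (pullback.snd c π).base := by
      rw [AlgebraicGeometry.Scheme.Pullback.range_snd, Set.mem_preimage]
      exact ⟨IsLocalRing.closedPoint _, (Scheme.fromSpecStalk_closedPoint (X := X) (x := genericPoint X)).trans hzη.symm⟩
    obtain ⟨w, rfl⟩ := hr
    exact ⟨w, hz⟩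
  haveI : Nonempty ↥(pullback f sL) := by
    obtain ⟨w⟩ := (inferInstance : Nonempty ↥(Spec (CommRingCat.of (X.functionField ⊗[k] L))))
    exact ⟨(pullback.snd c π).base (e.hom.base w)⟩
  haveI : PreirreducibleSpace ↥(pullback f sL) := ⟨by
    intro U V hU hV hUn hVn
    rw [Set.univ_inter] at hUn hVn
    obtain ⟨u, hu⟩ := hmem U hU hUn
    obtain ⟨v, hv⟩ := hmem V hV hVn
    obtain ⟨w, -, hw⟩ := PreirreducibleSpace.isPreirreducible_univ
      ((pullback.snd c π).base ⁻¹' U) ((pullback.snd c π).base ⁻¹' V)
      (hU.preimage (pullback.snd c π).continuous) (hV.preimage (pullback.snd c π).continuous)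
      ⟨u, trivial, hu⟩ ⟨v, trivial, hv⟩
    exact ⟨(pullback.snd c π).base w, trivial, hw⟩⟩
  exact { toNonempty := inferInstance }

/-- Take a field k and an irreducible normal k-variety X (a separated scheme of finite type over k all
of whose local rings are integrally closed domains) and let L be a finite Galois extension of k. If
the base change of X to L is not irreducible, then there is an intermediate field F of L over k,
different from k, such that the structure morphism of X factors through a k-morphism from X to Spec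
F. -/
theorem result
    (k : Type u) [Field k] (X : Scheme.{u}) [X.Over (Spec (CommRingCat.of k))]
    [IrreducibleSpace X] (hX : Pi1.IsNormalScheme X)
    [IsSeparated (X ↘ Spec (CommRingCat.of k))] [LocallyOfFiniteType (X ↘ Spec (CommRingCat.of k))]
    [QuasiCompact (X ↘ Spec (CommRingCat.of k))]
    (L : Type u) [Field L] [Algebra k L] [FiniteDimensional k L] [IsGalois k L]
    (hred : ¬ IrreducibleSpace ↥(Curv2.bc k X L)) :
    ∃ F : IntermediateField k L, F ≠ ⊥ ∧
      ∃ g : X ⟶ Spec (CommRingCat.of F),
        g ≫ Spec.map (CommRingCat.ofHom (algebraMap k F)) = X ↘ Spec (CommRingCat.of k) := by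
  set f := X ↘ Spec (CommRingCat.of k) with hf
  haveI : _root_.AlgebraicGeometry.IsReduced X :=
    haveI : ∀ x : X, _root_.IsReduced (X.presheaf.stalk x) := fun x => by
      haveI := (hX x).1
      infer_instance
    isReduced_of_isReduced_stalk X
  haveI : IsIntegral X := isIntegral_of_irreducibleSpace_of_isReduced X
  haveI : Nonempty (⊤ : X.Opens) := ⟨⟨genericPoint X, trivial⟩⟩
  let θ₀ : CommRingCat.of k ⟶ Γ(X, ⊤) := (Scheme.ΓSpecIso _).inv ≫ f.appTop
  have hfθ : X.toSpecΓ ≫ Spec.map θ₀ = f := by
    rw [Spec.map_comp, ← Category.assoc, ← Scheme.toSpecΓ_naturality, Category.assoc,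
      ← SpecMap_ΓSpecIso_hom, ← Spec.map_comp, Iso.inv_hom_id, Spec.map_id, Category.comp_id]
  let gg : Γ(X, ⊤) ⟶ X.functionField := X.presheaf.germ ⊤ (genericPoint X) trivial
  let φ := θ₀ ≫ gg
  have hφ : Spec.map φ = X.fromSpecStalk (genericPoint X) ≫ f := by
    rw [Spec.map_comp, ← Scheme.fromSpecStalk_toSpecΓ, Category.assoc, hfθ]
  letI : Algebra k X.functionField := φ.hom.toAlgebra
  letI : Algebra k Γ(X, ⊤) := θ₀.hom.toAlgebra
  haveI : IsScalarTower k Γ(X, ⊤) X.functionField := IsScalarTower.of_algebraMap_eq fun r => rfl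
  rcases isDomain_or_exists k X.functionField L with hdom | ⟨F, hF, ⟨ψ⟩⟩
  · exact absurd (irreducible_bc k X f L φ hφ hdom) hred
  refine ⟨F, hF, ?_⟩
  have hs : ∀ a : F, ∃ s : Γ(X, ⊤), X.germToFunctionField ⊤ s = ψ a := fun a =>
    NormalSch.exists_section_of_isIntegral hX ⊤ (ψ a)
      (((Algebra.IsIntegral.isIntegral (R := k) a).map ψ).tower_top (A := Γ(X, ⊤)))
  choose s hs using hs
  have hinj := X.germToFunctionField_injective (⊤ : X.Opens)
  let σ : F →+* Γ(X, ⊤) :=
    { toFun := s
      map_one' := hinj (by rw [hs, map_one, map_one])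
      map_mul' := fun a b => hinj (by rw [hs, map_mul, map_mul, hs, hs])
      map_zero' := hinj (by rw [hs, map_zero, map_zero])
      map_add' := fun a b => hinj (by rw [hs, map_add, map_add, hs, hs]) }
  refine ⟨X.toSpecΓ ≫ Spec.map (CommRingCat.ofHom σ), ?_⟩
  rw [Category.assoc, ← Spec.map_comp]
  conv_rhs => rw [← hfθ]
  congr 2
  ext r
  refine hinj ?_
  show X.germToFunctionField ⊤ (s (algebraMap k F r)) = gg (θ₀ r)
  rw [hs, ψ.commutes]
  rfl

end Groth.Agent.S17738
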