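import Mathlib
import Groth.Agent.QsChowLib.Kernel
import Groth.Statements.S17739

set_option autoImplicit false
open QsChow

namespace Groth.Agent.S17739

/-- For an integer n ≥ 2 put s := n / 2 + 1 (integer part) and, for 2 ≤ j ≤ s, let k_j be the integer
part of the base-2 logarithm of (2n - 1)/(2j - 3); let P := F_2[ε_1, …, ε_s]/(ε_1^n, ε_2^(2^k_2), …,
ε_s^(2^k_s)) over the field F_2 with two elements, and let τ be the F_2-algebra involution of P with
τ(ε_1) = ε_1 and τ(ε_j) = ε_j + ε_1^(2j-3) for 2 ≤ j ≤ s (it exists since (2j-3)·2^k_j ≥ n, and is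
unique). Then the image of the map y ↦ y + τ(y) on P equals the set of products ε_1 · z with z
running over the τ-fixed subalgebra of P. (The printed statement is the same assertion after passing
to the quotients by ε_1^m for 1 ≤ m ≤ n, which follows at once; n ≥ 2 is assumed so that ε_2
exists.) -/
theorem result (n : ℕ) (hn : 2 ≤ n)
    (τ : QsChow.P n →ₐ[ZMod 2] QsChow.P n) (hτ1 : τ (QsChow.eps n 1) = QsChow.eps n 1)
    (hτ : ∀ j : ℕ, 2 ≤ j → j ≤ QsChow.numVars n →
      τ (QsChow.eps n j) = QsChow.eps n j + QsChow.eps n 1 ^ (2 * j - 3)) :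
    Set.range (fun y : QsChow.P n => y + τ y) =
      (fun z : QsChow.P n => QsChow.eps n 1 * z) '' (AlgHom.equalizer τ (AlgHom.id (ZMod 2) (QsChow.P n)) : Set (QsChow.P n)) := by
  have hY := QsChowLib.tau_eps_two hn τ hτ
  ext y
  constructor
  · rintro ⟨y, rfl⟩
    have hy : y ∈ Submodule.span (ZMod 2) (Set.range (QsChowLib.wBasis n hn)) := by
      rw [Module.Basis.span_eq]; trivial
    refine Submodule.span_induction ?_ ?_ ?_ ?_ hy
    · rintro _ ⟨γ, rfl⟩
      rw [QsChowLib.wBasis_apply]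
      simp only [QsChowLib.add_tau_w hn τ hτ1 hτ]
      split
      · exact ⟨0, map_zero τ, mul_zero _⟩
      · exact ⟨_, QsChowLib.tau_psi0 hn τ hτ1 hτ _, rfl⟩
    · exact ⟨0, map_zero τ, by simp⟩
    · rintro a b _ _ ⟨z, hz, e⟩ ⟨z', hz', e'⟩
      have e : QsChow.eps n 1 * z = a + τ a := e
      have e' : QsChow.eps n 1 * z' = b + τ b := e'
      refine ⟨z + z', (map_add τ z z').trans (congrArg₂ (· + ·) hz hz'), ?_⟩
      show QsChow.eps n 1 * (z + z') = a + b + τ (a + b)
      rw [map_add, mul_add, e, e']; ring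
    · rintro c a _ ⟨z, hz, e⟩
      have e : QsChow.eps n 1 * z = a + τ a := e
      refine ⟨c • z, (map_smul τ c z).trans (congrArg (c • ·) hz), ?_⟩
      show QsChow.eps n 1 * (c • z) = c • a + τ (c • a)
      rw [map_smul, mul_smul_comm, e, smul_add]
  · rintro ⟨z, hz, rfl⟩
    refine ⟨z * QsChow.eps n 2, ?_⟩
    have hz : τ z = z := hz
    show z * QsChow.eps n 2 + τ (z * QsChow.eps n 2) = QsChow.eps n 1 * z
    rw [map_mul, hz, hY]
    linear_combination QsChowLib.add_self n (z * QsChow.eps n 2)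

end Groth.Agent.S17739
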