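import Groth.Statements.S1774
import Groth.Agent.DualCxLib.CoindDual
import Groth.Agent.DualCxLib.Gorenstein
-- Template for statement S1774 (row 1773; see the milestone table for weights).
-- Copy to Groth/Agent/S1774.lean and replace the sorry. The statement below is byte-identical to the frozen
-- statement Dual.GrothFrozen.S1774 (Groth/Statements/S1774.lean; the theorem Dual.finite_HD_rightAdjoint_restrictD_of_finite);
-- the grader kernel-checks Groth.Agent.S1774.result against that frozen type. Keep the theorem IN THIS FILE
-- (a `result` declared elsewhere and merely imported here is not credited); helpers may live anywhere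
-- under Groth/Agent/.
-- helpers: DualCxLib

set_option autoImplicit false
universe u
open CategoryTheory
attribute [local instance] HasDerivedCategory.standard
open Dual Groth.Agent.DualCxLib

namespace Groth.Agent.S1774

/-- Let A → B be a finite homomorphism of Noetherian rings and R : D(A) → D(B) a right adjoint to
restriction of scalars D(B) → D(A). If K in D(A) is bounded below (its cohomology modules vanish
below some degree) and all its cohomology modules are finite A-modules, then all cohomology modules
of R(K) are finite B-modules. -/
theorem result (A B : Type u) [CommRing A] [CommRing B] [Algebra A B] [IsNoetherianRing A] [IsNoetherianRing B] [Module.Finite A B] (R : Dual.D A ⥤ Dual.D B) (adj : DRing.restrictD (algebraMap A B) ⊣ R) (K : Dual.D A) (a : ℤ) (hKa : ∀ i : ℤ, i < a → Subsingleton (Dual.HD A K i)) (hK : ∀ i : ℤ, Module.Finite A (Dual.HD A K i)) (i : ℤ) : Module.Finite B (Dual.HD B (R.obj K) i) := by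
  haveI : DerivedCategory.IsGE K a := (DerivedCategory.isGE_iff _ _).2 fun j hj =>
    ModuleCat.isZero_iff_subsingleton.2 (hKa j hj)
  obtain ⟨S⟩ := Groth.Agent.DualCxLib.exists_injRep K a
  obtain ⟨c⟩ := S.nonempty_coindIso B R adj
  haveI : Module.Finite B ((DerivedCategory.homologyFunctor (ModuleCat.{u} B) i).obj (DRing.toD (S.coext B))) :=
    S.finite_HD_coext B hK a i
  exact Module.Finite.equiv ((DerivedCategory.homologyFunctor (ModuleCat.{u} B) i).mapIso c).toLinearEquiv

end Groth.Agent.S1774
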