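import Mathlib
import Groth.Agent.QsChowLib.Kernel
import Groth.Statements.S17740

set_option autoImplicit false
open QsChow

namespace Groth.Agent.S17740

/-- For an integer n ≥ 2 put s := n / 2 + 1 (integer part) and, for 2 ≤ j ≤ s, let k_j be the integer
part of the base-2 logarithm of (2n - 1)/(2j - 3); let P := F_2[ε_1, …, ε_s]/(ε_1^n, ε_2^(2^k_2), …,
ε_s^(2^k_s)) over the field F_2 with two elements, and let τ be the F_2-algebra involution of P with
τ(ε_1) = ε_1 and τ(ε_j) = ε_j + ε_1^(2j-3) for 2 ≤ j ≤ s (it exists since (2j-3)·2^k_j ≥ n, and is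
unique). Let 1 ≤ m ≤ n. If for some y in P the element y + τ(y) lies in the ideal ε_1^m P, then y +
τ(y) = ε_1^m z for some τ-fixed z in P. Equivalently: the map from the τ-fixed subalgebra modulo
ε_1^m to P modulo ε_1^m induced by the inclusion is injective on the image of id + τ. -/
theorem result (n : ℕ) (hn : 2 ≤ n)
    (τ : QsChow.P n →ₐ[ZMod 2] QsChow.P n) (hτ1 : τ (QsChow.eps n 1) = QsChow.eps n 1)
    (hτ : ∀ j : ℕ, 2 ≤ j → j ≤ QsChow.numVars n →
      τ (QsChow.eps n j) = QsChow.eps n j + QsChow.eps n 1 ^ (2 * j - 3))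
    (m : ℕ) (hm1 : 1 ≤ m) (hmn : m ≤ n) (y : QsChow.P n)
    (hy : y + τ y ∈ Ideal.span ({QsChow.eps n 1 ^ m} : Set (QsChow.P n))) :
    ∃ z : QsChow.P n, τ z = z ∧ y + τ y = QsChow.eps n 1 ^ m * z := by
  classical
  set B := QsChowLib.wBasis n hn with hB
  -- the image of `1 + τ` lies in the span of the even basis vectors
  have heven : y + τ y ∈ Submodule.span (ZMod 2) (B '' QsChowLib.evenSet n hn) := by
    have hy' : y ∈ Submodule.span (ZMod 2) (Set.range B) := by rw [Module.Basis.span_eq]; trivial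
    refine Submodule.span_induction ?_ ?_ ?_ ?_ hy'
    · rintro _ ⟨γ, rfl⟩
      rw [hB, QsChowLib.wBasis_apply]
      rcases Nat.mod_two_eq_zero_or_one (γ.1 (QsChowLib.i1 n hn)) with h | h
      · rw [QsChowLib.add_tau_w hn τ hτ1 hτ, if_pos h]; exact zero_mem _
      · rw [QsChowLib.add_tau_w_odd hn τ hτ1 hτ _ h]
        by_cases hl : γ.1 (QsChowLib.i0 n) + 1 = n
        · rw [QsChowLib.w_eq_zero n hn (by rw [QsChowLib.shift_apply_i0, hl])]; exact zero_mem _
        · refine Submodule.subset_span ⟨⟨_, QsChowLib.shift_lt hn γ hl⟩, ?_, by simp⟩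
          show QsChowLib.shift hn γ.1 (QsChowLib.i1 n hn) % 2 = 0
          rw [QsChowLib.shift_apply_i1]; omega
    · simp
    · intro a b _ _ ha hb
      rw [map_add, show a + b + (τ a + τ b) = (a + τ a) + (b + τ b) by ring]
      exact add_mem ha hb
    · intro c a _ ha
      rw [map_smul, ← smul_add]
      exact Submodule.smul_mem _ c ha
  -- elements of `(ε₁ ^ m)` only involve basis vectors with first exponent `≥ m`
  have hpow : ∀ (j : ℕ) (γ : Fin (QsChow.numVars n) →₀ ℕ), QsChow.eps n 1 ^ j * QsChowLib.w n hn γ =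
      QsChowLib.w n hn (γ + Finsupp.single (QsChowLib.i0 n) j) := by
    intro j γ
    induction j with
    | zero => simp
    | succ j ih =>
      rw [pow_succ', mul_assoc, ih, QsChowLib.eps_one_mul_w, Finsupp.single_add, add_assoc]
  let L : Set (QsChowLib.Idx n) := {γ | m ≤ γ.1 (QsChowLib.i0 n)}
  have hlow : y + τ y ∈ Submodule.span (ZMod 2) (B '' L) := by
    obtain ⟨q, hq⟩ := Ideal.mem_span_singleton.mp hy
    rw [hq]
    have hq' : q ∈ Submodule.span (ZMod 2) (Set.range B) := by rw [Module.Basis.span_eq]; trivial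
    refine Submodule.span_induction ?_ (by simp)
      (fun a b _ _ ha hb => by rw [mul_add]; exact add_mem ha hb)
      (fun c a _ ha => by rw [mul_smul_comm]; exact Submodule.smul_mem _ c ha) hq'
    rintro _ ⟨γ, rfl⟩
    rw [hB, QsChowLib.wBasis_apply, hpow]
    by_cases hl : n ≤ (γ.1 + Finsupp.single (QsChowLib.i0 n) m :
        Fin (QsChow.numVars n) →₀ ℕ) (QsChowLib.i0 n)
    · rw [QsChowLib.w_eq_zero n hn hl]; exact zero_mem _
    · refine Submodule.subset_span ⟨⟨γ.1 + Finsupp.single (QsChowLib.i0 n) m, fun i => ?_⟩, ?_, by simp⟩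
      · have := γ.2 i
        by_cases hi : i = QsChowLib.i0 n
        · subst hi; rw [QsChowLib.bound_i0]; omega
        · simpa [Finsupp.single_eq_of_ne hi] using this
      · show m ≤ (γ.1 + Finsupp.single (QsChowLib.i0 n) m : Fin (QsChow.numVars n) →₀ ℕ) _
        simp
  have hboth : y + τ y ∈ Submodule.span (ZMod 2) (B '' (QsChowLib.evenSet n hn ∩ L)) := by
    rw [Module.Basis.mem_span_image] at heven hlow ⊢
    exact Set.subset_inter heven hlow
  refine Submodule.span_induction (p := fun v _ => ∃ z, τ z = z ∧ v = QsChow.eps n 1 ^ m * z)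
    ?_ ⟨0, map_zero τ, (mul_zero _).symm⟩ ?_ ?_ hboth
  · rintro _ ⟨γ, ⟨he, hl⟩, rfl⟩
    have hl : m ≤ γ.1 (QsChowLib.i0 n) := hl
    have he : γ.1 (QsChowLib.i1 n hn) % 2 = 0 := he
    refine ⟨QsChowLib.w n hn (γ.1 - Finsupp.single (QsChowLib.i0 n) m), ?_, ?_⟩
    · rw [QsChowLib.w_of_even]
      · exact QsChowLib.tau_psi0 hn τ hτ1 hτ _
      · simp [(QsChowLib.i0_ne_i1 n hn).symm, he]
    · rw [hB, QsChowLib.wBasis_apply, hpow,
        tsub_add_cancel_of_le (Finsupp.single_le_iff.mpr hl)]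
  · rintro a b _ _ ⟨z, hz, rfl⟩ ⟨z', hz', rfl⟩
    exact ⟨z + z', by rw [map_add, hz, hz'], by ring⟩
  · rintro c a _ ⟨z, hz, rfl⟩
    exact ⟨c • z, by rw [map_smul, hz], by rw [mul_smul_comm]⟩

end Groth.Agent.S17740
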