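import Groth.Statements.S17745
import Groth.Agent.QsChowLib.Section

set_option autoImplicit false
universe u
open CategoryTheory AlgebraicGeometry Limits
open QsChow

namespace Groth.Agent.S17745

theorem result
    (k : Type u) [Field k] (K : Type u) [Field K] [Algebra k K] [Algebra.IsSeparable k K]
    (F : IntermediateField k K) [FiniteDimensional k F] (hF : F ≠ ⊥)
    (X : Scheme.{u}) [X.Over (Spec (CommRingCat.of k))] (g : X ⟶ Spec (CommRingCat.of F))
    (hg : g ≫ Spec.map (CommRingCat.ofHom (algebraMap k F)) = X ↘ Spec (CommRingCat.of k))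
    (hsm : Smooth g) [IsSeparated g] [QuasiCompact g]
    (δ : X → ℤ) (hδ : Cyc.IsSetup X δ)
    (hcompat : Cyc.DeltaCompat (X ↘ Spec (CommRingCat.of k)) δ (fun _ => 0)) (j : ℤ) :
    QsChow.normSubgroup k K X δ j = ⊤ :=
  Groth.Agent.QsChowLib.normSubgroup_eq_top_of_section k K F hF X
    (pullback.lift (𝟙 X) g (by rw [Category.id_comp, hg])) (pullback.lift_fst _ _ _) δ j

end Groth.Agent.S17745
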