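import Groth.Statements.S17746
import Groth.Agent.QsChowLib.Section
import Groth.Agent.S17738
import Groth.Agent.S14401
import Groth.Agent.ASp.GeomRedEt
import Groth.Agent.PurityLib.Normal

set_option autoImplicit false
universe u
open CategoryTheory AlgebraicGeometry Limits
open QsChow

namespace Groth.Agent.S17746

theorem result
    (k : Type u) [Field k] (K : Type u) [Field K] [Algebra k K] [Algebra.IsSeparable k K]
    (L : IntermediateField k K) [FiniteDimensional k L] [IsGalois k L]
    (X : Scheme.{u}) [X.Over (Spec (CommRingCat.of k))]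
    (hsm : Smooth (X ↘ Spec (CommRingCat.of k))) [IsSeparated (X ↘ Spec (CommRingCat.of k))]
    [QuasiCompact (X ↘ Spec (CommRingCat.of k))]
    [ConnectedSpace X] (hdisc : ¬ ConnectedSpace ↥(Curv2.bc k X L))
    (δ : X → ℤ) (hδ : Cyc.IsSetup X δ)
    (hcompat : Cyc.DeltaCompat (X ↘ Spec (CommRingCat.of k)) δ (fun _ => 0)) (j : ℤ) :
    QsChow.normSubgroup k K X δ j = ⊤ := by
  haveI := hsm
  have hreg : ∀ x : X, IsRegularLocalRing (X.presheaf.stalk x) := fun x =>
    Groth.Agent.ASp.isRegularLocalRing_stalk_of_smooth_field (X ↘ Spec (CommRingCat.of k)) x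
  have hdom : ∀ x : X, IsDomain (X.presheaf.stalk x) := fun x => by
    haveI := hreg x
    exact (Groth.Agent.PurityLib.isIntegrallyClosed_of_regular _).1
  have hnorm : Pi1.IsNormalScheme X := fun x => by
    haveI := hreg x
    exact Groth.Agent.PurityLib.isIntegrallyClosed_of_regular _
  haveI : IsLocallyNoetherian X :=
    LocallyOfFiniteType.isLocallyNoetherian (X ↘ Spec (CommRingCat.of k))
  haveI : CompactSpace X := QuasiCompact.compactSpace_of_compactSpace (X ↘ Spec (CommRingCat.of k))
  haveI : AlgebraicGeometry.IsNoetherian X := ⟨⟩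
  haveI : IrreducibleSpace X := by
    obtain ⟨x⟩ : Nonempty X := inferInstance
    have hmem := irreducibleComponent_mem_irreducibleComponents x
    have hclopen : IsClopen (irreducibleComponent x) :=
      ⟨isClosed_irreducibleComponent, (Groth.Agent.S14401.result X hdom).1 _ hmem⟩
    have huniv := hclopen.eq_univ ⟨x, mem_irreducibleComponent⟩
    exact (irreducibleSpace_def _).mpr (by
      rw [Set.top_eq_univ, ← huniv]; exact isIrreducible_irreducibleComponent)
  have hred : ¬ IrreducibleSpace ↥(Curv2.bc k X L) := fun h => hdisc inferInstance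
  obtain ⟨F₀, hF₀, g₀, hg₀⟩ := Groth.Agent.S17738.result k X hnorm L hred
  let F : IntermediateField k K := IntermediateField.lift F₀
  let e : F₀ ≃ₐ[k] F := IntermediateField.liftAlgEquiv F₀
  haveI : FiniteDimensional k F := e.toLinearEquiv.finiteDimensional
  have hF : F ≠ ⊥ := fun h => hF₀ (IntermediateField.lift_injective L
    (by rw [IntermediateField.lift_bot]; exact h))
  refine Groth.Agent.QsChowLib.normSubgroup_eq_top_of_section k K F hF X
    (pullback.lift (𝟙 X) (g₀ ≫ Spec.map (CommRingCat.ofHom e.symm.toRingEquiv.toRingHom)) ?_)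
    (pullback.lift_fst _ _ _) δ j
  rw [Category.id_comp, Category.assoc, ← Spec.map_comp, ← CommRingCat.ofHom_comp]
  rw [show e.symm.toRingEquiv.toRingHom.comp (algebraMap k F) = algebraMap k F₀ from
    RingHom.ext fun a => e.symm.commutes a, hg₀]

end Groth.Agent.S17746
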