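import Mathlib
import Groth.Agent.QsChowLib.Present
import Groth.Statements.S17747

set_option autoImplicit false
open QsChow

namespace Groth.Agent.S17747

/-- Let n ≥ 2, s := n / 2 + 1, k_j the integer part of log_2((2n-1)/(2j-3)) for 2 ≤ j ≤ s, P := F_2[ε_1,
…, ε_s]/(ε_1^n, ε_2^(2^k_2), …, ε_s^(2^k_s)), τ the F_2-algebra involution of P fixing ε_1 and
sending ε_j to ε_j + ε_1^(2j-3) (2 ≤ j ≤ s), and ē_1 := ε_1, ē_2 := ε_2^2 + ε_1ε_2, ē_j := ε_j +
ε_1^(2j-4)ε_2 (j ≥ 3), x̄ := ε_1^(n-1)ε_2; write 2^a for the exact power of 2 dividing n, l for the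
integer with n = 2^a(2l-3), and k'_1 := a, k'_2 := the integer part of log_2 n, k'_j := the integer
part of log_2(2n/(2j-3)) for j ≥ 3. Suppose n is odd (so a = 0). Then for a polynomial q in F_2[e_1,
…, e_s, x] the image φ(q) (φ : e_j ↦ ē_j, x ↦ x̄) lies in ε_1 · P^τ, P^τ the τ-fixed subalgebra, if
and only if q lies in the ideal generated by e_1, x^2 and the powers e_j^(2^k'_j) for 2 ≤ j ≤ s.
Since φ maps onto P^τ, this says that P^τ modulo ε_1 is F_2[e_2, …, e_s, x]/(e_2^(2^k'_2), …,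
e_s^(2^k'_s), x^2). -/
theorem result (n : ℕ) (hn : 2 ≤ n)
    (τ : QsChow.P n →ₐ[ZMod 2] QsChow.P n) (hτ1 : τ (QsChow.eps n 1) = QsChow.eps n 1)
    (hτ : ∀ j : ℕ, 2 ≤ j → j ≤ QsChow.numVars n →
      τ (QsChow.eps n j) = QsChow.eps n j + QsChow.eps n 1 ^ (2 * j - 3))
    (hodd : Odd n) (q : QsChow.FreeE n) :
    (∃ w : QsChow.P n, τ w = w ∧ QsChow.phi n q = QsChow.eps n 1 * w) ↔ q ∈ QsChow.oddIdeal n := by
  obtain ⟨t, ht⟩ := hodd
  have hk1 : QsChow.kprime n 1 = 0 := by
    simp only [QsChow.kprime, QsChow.twoExp, if_true]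
    exact padicValNat.eq_zero_of_not_dvd (by omega)
  have h2 : 2 ^ QsChow.klog n 2 ≠ n := by
    have := QsChowLib.klog_two_pos n hn
    obtain ⟨k, hk⟩ : ∃ k, QsChow.klog n 2 = k + 1 := ⟨QsChow.klog n 2 - 1, by omega⟩
    rw [hk, pow_succ]; omega
  have hk2 : QsChow.kprime n 2 = QsChow.klog n 2 - 1 := by
    simp only [QsChow.kprime, show (2 : ℕ) ≠ 1 by omega, if_false, if_true]
    exact QsChowLib.log_two_eq hn h2
  have hne : ∀ j, 3 ≤ j → j ≤ QsChow.numVars n → (2 * j - 3) * 2 ^ QsChow.klog n j ≠ n := by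
    intro j hj hjs h
    have hlt := (QsChowLib.index_bound hn (by omega) hjs).2
    rcases Nat.eq_zero_or_pos (QsChow.klog n j) with h0 | h0
    · rw [h0] at h; omega
    · obtain ⟨k, hk⟩ : ∃ k, QsChow.klog n j = k + 1 := ⟨_, (Nat.sub_add_cancel h0).symm⟩
      rw [hk, pow_succ, ← mul_assoc] at h; omega
  rw [show (∃ w, τ w = w ∧ QsChow.phi n q = QsChow.eps n 1 * w) ↔
    (∃ w, τ w = w ∧ QsChow.phi n q = QsChow.eps n 1 ^ 1 * w) by simp only [pow_one],
    QsChowLib.exists_fixed_iff hn τ hτ1 hτ]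
  suffices h : QsChowLib.modPow n 1 = QsChow.oddIdeal n by rw [h]
  have he : QsChow.evar n 1 ∈ QsChow.oddIdeal n := Ideal.subset_span (by simp)
  have hgen : ∀ j, 2 ≤ j → j ≤ QsChow.numVars n →
      QsChow.evar n j ^ 2 ^ QsChow.kprime n j ∈ QsChow.oddIdeal n := fun j h2' hjs =>
    Ideal.subset_span (Or.inr ⟨⟨j - 1, by omega⟩, by
      show QsChow.evar n (j - 1 + 1) ^ 2 ^ QsChow.kprime n (j - 1 + 1) = _
      rw [show j - 1 + 1 = j by omega]⟩)
  have hS : QsChow.sPoly n 2 - QsChow.evar n 2 ^ 2 ^ (QsChow.klog n 2 - 1) ∈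
      Ideal.span {QsChow.evar n 1} := by
    obtain ⟨c, hc⟩ := Ideal.mem_span_singleton.mp
      (QsChowLib.sPolyE_two_sub_mem (n := n) hn (A := 1) Nat.one_le_two_pow)
    refine Ideal.mem_span_singleton.mpr ⟨MvPolynomial.rename some c, ?_⟩
    rw [← QsChowLib.rename_sPolyE, ← QsChowLib.rename_evarE, ← map_pow, ← map_sub, hc, map_mul,
      pow_one, QsChowLib.rename_evarE]
  have hkey : ∀ j, 2 ≤ j → j ≤ QsChow.numVars n →
      QsChow.hrel n j - QsChow.evar n j ^ 2 ^ QsChow.kprime n j ∈ Ideal.span {QsChow.evar n 1} := by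
    intro j h2' hjs
    by_cases hj : j = 2
    · subst hj
      rw [QsChow.hrel, if_pos rfl, hk2, add_sub_assoc]
      refine Ideal.add_mem _ (Ideal.mul_mem_right _ _ ?_) hS
      refine Ideal.pow_mem_of_mem _ (Ideal.mem_span_singleton_self _) _ ?_
      have := QsChowLib.le_two_pow_klog_two n hn
      omega
    · rw [QsChow.hrel, if_neg hj, if_pos ⟨by omega, hjs⟩,
        QsChowLib.kprime_of_ne hn (by omega) hjs (hne j (by omega) hjs),
        show ∀ a b c : QsChow.FreeE n, a + b + c - a = b + c from fun a b c => by ring]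
      refine Ideal.add_mem _ (Ideal.mul_mem_right _ _ ?_) (Ideal.mul_mem_right _ _ ?_)
      · refine Ideal.pow_mem_of_mem _ (Ideal.mem_span_singleton_self _) _ ?_
        have := QsChowLib.le_mul_two_pow_klog n hn j (by omega)
        have := hne j (by omega) hjs
        omega
      · exact Ideal.pow_mem_of_mem _ (Ideal.mem_span_singleton_self _) _
          (Nat.mul_pos (by omega) (Nat.two_pow_pos _))
  have hle : Ideal.span {QsChow.evar n 1} ≤ QsChow.oddIdeal n :=
    Ideal.span_le.mpr (Set.singleton_subset_iff.mpr he)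
  refine le_antisymm (sup_le (Ideal.span_le.mpr ?_) ?_) (Ideal.span_le.mpr ?_)
  · rintro r (hr | ⟨i, rfl⟩)
    · simp only [Set.mem_insert_iff, Set.mem_singleton_iff] at hr
      rcases hr with rfl | rfl | rfl
      · exact Ideal.pow_mem_of_mem _ he _ (by omega)
      · exact Ideal.mul_mem_right _ _ he
      · exact Ideal.subset_span (by simp)
    show QsChow.hrel n (i.val + 1) ∈ QsChow.oddIdeal n
    by_cases hi : 2 ≤ i.val + 1
    · have := add_mem (hle (hkey _ hi i.2)) (hgen _ hi i.2)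
      rwa [sub_add_cancel] at this
    · rw [QsChow.hrel, if_neg (by omega), if_neg (by omega)]; exact zero_mem _
  · rw [pow_one]; exact hle
  · have he' : QsChow.evar n 1 ∈ QsChowLib.modPow n 1 := by
      simpa using QsChowLib.pow_mem_modPow (n := n) 1 1 le_rfl
    rintro r (hr | ⟨i, rfl⟩)
    · simp only [Set.mem_insert_iff, Set.mem_singleton_iff] at hr
      rcases hr with rfl | rfl
      · exact he'
      · exact QsChowLib.presIdeal_le_modPow 1 (Ideal.subset_span (by simp))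
    show QsChow.evar n (i.val + 1) ^ 2 ^ QsChow.kprime n (i.val + 1) ∈ QsChowLib.modPow n 1
    by_cases hi : 2 ≤ i.val + 1
    · have := sub_mem (QsChowLib.hrel_mem 1 _ (by omega) i.2)
        (Ideal.span_le.mpr (Set.singleton_subset_iff.mpr he') (hkey _ hi i.2))
      rwa [sub_sub_cancel] at this
    · rw [show i.val + 1 = 1 by omega, hk1, pow_zero, pow_one]; exact he'

end Groth.Agent.S17747
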