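import Mathlib
import Groth.Agent.QsChowLib.Present
import Groth.Statements.S17748

set_option autoImplicit false
open QsChow

namespace Groth.Agent.S17748

/-- Let n ≥ 2, s := n / 2 + 1, k_j the integer part of log_2((2n-1)/(2j-3)) for 2 ≤ j ≤ s, P := F_2[ε_1,
…, ε_s]/(ε_1^n, ε_2^(2^k_2), …, ε_s^(2^k_s)), τ the F_2-algebra involution of P fixing ε_1 and
sending ε_j to ε_j + ε_1^(2j-3) (2 ≤ j ≤ s), and ē_1 := ε_1, ē_2 := ε_2^2 + ε_1ε_2, ē_j := ε_j +
ε_1^(2j-4)ε_2 (j ≥ 3), x̄ := ε_1^(n-1)ε_2; write 2^a for the exact power of 2 dividing n, l for the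
integer with n = 2^a(2l-3), and k'_1 := a, k'_2 := the integer part of log_2 n, k'_j := the integer
part of log_2(2n/(2j-3)) for j ≥ 3. Suppose n is even and not a power of 2 — equivalently a ≥ 1 and
n ≠ 2^a, which is how the hypothesis is written — and let ψ : F_2[e_1, …, e_s] → P be the algebra
map with e_j ↦ ē_j. Then (i) for a polynomial q, ψ(q) lies in ε_1^(2^a) · P^τ (P^τ the τ-fixed
subalgebra) if and only if q lies in the ideal generated by the powers e_j^(2^k'_j) for 1 ≤ j ≤ s
and the product e_1 · e_l^(2^(k'_l - 1)); (ii) every τ-fixed element of P is ψ(q) plus an element of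
ε_1^(2^a) · P^τ for some q. That is, P^τ modulo ε_1^(2^a) is F_2[e_1, …, e_s]/(e_1^(2^k'_1), …,
e_s^(2^k'_s), e_1 e_l^(2^(k'_l - 1))) via ψ. -/
theorem result (n : ℕ) (hn : 2 ≤ n)
    (τ : QsChow.P n →ₐ[ZMod 2] QsChow.P n) (hτ1 : τ (QsChow.eps n 1) = QsChow.eps n 1)
    (hτ : ∀ j : ℕ, 2 ≤ j → j ≤ QsChow.numVars n →
      τ (QsChow.eps n j) = QsChow.eps n j + QsChow.eps n 1 ^ (2 * j - 3))
    (ha : 1 ≤ QsChow.twoExp n) (hne : n ≠ 2 ^ QsChow.twoExp n) :
    (∀ q : QsChow.FreeP n,
      (∃ w : QsChow.P n, τ w = w ∧ QsChow.psi n q = QsChow.eps n 1 ^ 2 ^ QsChow.twoExp n * w) ↔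
        q ∈ QsChow.evenIdeal n) ∧
    (∀ z : QsChow.P n, τ z = z → ∃ q : QsChow.FreeP n, ∃ w : QsChow.P n,
      τ w = w ∧ z = QsChow.psi n q + QsChow.eps n 1 ^ 2 ^ QsChow.twoExp n * w) := by
  set a := QsChow.twoExp n with ha_def
  have hdvd : 2 ^ a ∣ n := pow_padicValNat_dvd
  have hn0 : n / 2 ^ a * 2 ^ a = n := Nat.div_mul_cancel hdvd
  have hodd : (n / 2 ^ a) % 2 = 1 := by
    rcases Nat.mod_two_eq_zero_or_one (n / 2 ^ a) with h | h
    · exfalso
      refine pow_succ_padicValNat_not_dvd (p := 2) (show n ≠ 0 by omega) ?_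
      show 2 ^ (a + 1) ∣ n
      rw [pow_succ', ← hn0]
      exact mul_dvd_mul_right (Nat.dvd_of_mod_eq_zero h) _
    · exact h
  obtain ⟨m, hm⟩ : ∃ m, n / 2 ^ a = m := ⟨_, rfl⟩
  rw [hm] at hn0 hodd
  have hm3 : 3 ≤ m := by
    by_contra h
    have : m = 1 := by omega
    rw [this, one_mul] at hn0
    exact hne hn0.symm
  set l := QsChow.lIdx n with hl_def
  have hl : 2 * l - 3 = m ∧ 3 ≤ l ∧ l ≤ QsChow.numVars n := by
    have hl' : l = (m + 3) / 2 := by rw [hl_def, QsChow.lIdx, ← ha_def, hm]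
    have : 2 * m ≤ n := by
      rw [← hn0, mul_comm 2 m]
      exact Nat.mul_le_mul_left _ (by
        calc 2 = 2 ^ 1 := rfl
          _ ≤ 2 ^ a := Nat.pow_le_pow_right (by norm_num) ha)
    unfold QsChow.numVars
    omega
  obtain ⟨hlm, hl3, hls⟩ := hl
  have hkl : QsChow.klog n l = a := by
    rw [QsChow.klog, hlm]
    refine Nat.log_eq_of_pow_le_of_lt_pow ?_ ?_
    · rw [Nat.le_div_iff_mul_le (by omega), mul_comm, hn0]; omega
    · rw [Nat.div_lt_iff_lt_mul (by omega), pow_succ, mul_right_comm, mul_comm (2 ^ a), hn0]; omega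
  have hpl : QsChow.kprime n l = a + 1 := by
    rw [QsChow.kprime, if_neg (by omega), if_neg (by omega), hlm]
    rw [show 2 * n / m = 2 ^ (a + 1) by
      rw [← hn0, pow_succ, show 2 * (m * 2 ^ a) = (2 ^ a * 2) * m by ring,
        Nat.mul_div_cancel _ (by omega)]]
    exact Nat.log_pow (by norm_num) _
  have hp1 : QsChow.kprime n 1 = a := by rw [QsChow.kprime, if_pos rfl]
  have hneq : ∀ j, 3 ≤ j → j ≤ QsChow.numVars n → j ≠ l →
      (2 * j - 3) * 2 ^ QsChow.klog n j ≠ n := by
    intro j hj _ hjl h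
    apply hjl
    have hpad := congrArg (padicValNat 2) h
    rw [padicValNat.mul (by omega) (by positivity), padicValNat.prime_pow,
      padicValNat.eq_zero_of_not_dvd (show ¬ 2 ∣ 2 * j - 3 by omega), zero_add] at hpad
    have hpad' : QsChow.klog n j = a := hpad
    rw [hpad'] at h
    have h5 := Nat.eq_of_mul_eq_mul_right (Nat.two_pow_pos a) (h.trans hn0.symm)
    omega
  have h2ne : 2 ^ QsChow.klog n 2 ≠ n := by
    intro h
    apply hne
    have : a = QsChow.klog n 2 := by
      have := congrArg (padicValNat 2) h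
      rw [padicValNat.prime_pow] at this
      exact this.symm
    rw [this, h]
  have hp2 : QsChow.kprime n 2 = QsChow.klog n 2 - 1 := by
    rw [QsChow.kprime, if_neg (by omega), if_pos rfl]
    exact QsChowLib.log_two_eq hn h2ne
  have hbig : ∀ j, 3 ≤ j → 2 ^ a ≤ (2 * j - 4) * 2 ^ QsChow.klog n j := by
    intro j hj
    have h := QsChowLib.le_mul_two_pow_klog n hn j (by omega)
    have h1 : 3 * 2 ^ a ≤ n := by rw [← hn0]; exact Nat.mul_le_mul_right _ hm3
    have h2 : (2 * j - 3) * 2 ^ QsChow.klog n j ≤ 2 * ((2 * j - 4) * 2 ^ QsChow.klog n j) := by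
      rw [← mul_assoc]; exact Nat.mul_le_mul_right _ (by omega)
    omega
  have hA2 : 2 ^ a ≤ 2 ^ (QsChow.klog n 2 - 1) := by
    have h := QsChowLib.le_two_pow_klog_two n hn
    have h1 : 3 * 2 ^ a ≤ n := by rw [← hn0]; exact Nat.mul_le_mul_right _ hm3
    obtain ⟨k, hk⟩ : ∃ k, QsChow.klog n 2 = k + 1 :=
      ⟨QsChow.klog n 2 - 1, by have := QsChowLib.klog_two_pos n hn; omega⟩
    rw [hk, pow_succ] at h
    rw [hk, Nat.add_sub_cancel]
    omega
  set A := 2 ^ a with hA_def
  set s := QsChow.evarE n l ^ A with hs_def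
  have hgen : ∀ j, 0 < j → j ≤ QsChow.numVars n →
      QsChow.evarE n j ^ 2 ^ QsChow.kprime n j ∈ QsChow.evenIdeal n := fun j hj hjs =>
    Ideal.subset_span (Or.inr ⟨⟨j - 1, by omega⟩, by
      show QsChow.evarE n (j - 1 + 1) ^ 2 ^ QsChow.kprime n (j - 1 + 1) = _
      rw [show j - 1 + 1 = j by omega]⟩)
  have he1 : QsChow.evarE n 1 ^ A ∈ QsChow.evenIdeal n := by
    have := hgen 1 one_pos (by unfold QsChow.numVars; omega)
    rwa [hp1] at this
  have hle1 : Ideal.span {QsChow.evarE n 1 ^ A} ≤ QsChow.evenIdeal n :=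
    Ideal.span_le.mpr (Set.singleton_subset_iff.mpr he1)
  have hex : QsChow.evarE n 1 * s ∈ QsChow.evenIdeal n :=
    Ideal.subset_span (Or.inl (by rw [Set.mem_singleton_iff, hs_def, ← hl_def, hpl,
      Nat.add_sub_cancel]))
  have hx : QsChow.xvar n - MvPolynomial.rename some s ∈ QsChowLib.modPow n A := by
    have h := QsChowLib.hrel_mem (n := n) A l (by omega) hls
    rw [QsChow.hrel, if_neg (by omega), if_pos ⟨hl3, hls⟩, hkl, ← hA_def] at h
    rw [show (2 * l - 3) * A - n = 0 by rw [hlm, hn0, Nat.sub_self], pow_zero, one_mul] at h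
    have h2 := Ideal.mul_mem_right (QsChow.sPoly n l) _
      (QsChowLib.pow_mem_modPow (n := n) A ((2 * l - 4) * A) (Nat.le_mul_of_pos_left _ (by omega)))
    have := sub_mem h h2
    rw [add_sub_cancel_right] at this
    rwa [sub_eq_add_neg, CharTwo.neg_eq, hs_def, map_pow, QsChowLib.rename_evarE, add_comm]
  have hσ : ∀ r ∈ QsChowLib.modPow n A, QsChowLib.substX s r ∈ QsChow.evenIdeal n := by
    intro r hr
    refine QsChowLib.substX_mem A s _ he1 (Nat.le_of_dvd (by omega) hdvd) hex ?_ (fun j hj hjs => ?_) hr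
    · have := hgen l (by omega) hls
      rw [hpl, pow_succ] at this
      rwa [hs_def, ← pow_mul]
    by_cases h2 : j = 2
    · subst h2
      rw [QsChow.hrel, if_pos rfl, map_add, map_mul, map_pow, QsChowLib.substX_evar,
        QsChowLib.substX_xvar, QsChowLib.substX_sPoly]
      refine add_mem ?_ ?_
      · obtain ⟨e, he⟩ : ∃ e, 2 ^ QsChow.klog n 2 - n = e + 1 := ⟨_, (Nat.sub_add_cancel
          (show 1 ≤ 2 ^ QsChow.klog n 2 - n by
            have := QsChowLib.le_two_pow_klog_two n hn; omega)).symm⟩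
        rw [he, pow_succ, mul_assoc]
        exact Ideal.mul_mem_left _ _ hex
      · have h5 := add_mem (hle1 (QsChowLib.sPolyE_two_sub_mem hn hA2)) (show
          QsChow.evarE n 2 ^ 2 ^ (QsChow.klog n 2 - 1) ∈ QsChow.evenIdeal n by
            have := hgen 2 (by omega) hjs
            rwa [hp2] at this)
        rwa [sub_add_cancel] at h5
    · rw [QsChow.hrel, if_neg h2, if_pos ⟨by omega, hjs⟩, map_add, map_add, map_mul, map_mul,
        map_pow, map_pow, map_pow, QsChowLib.substX_evar, QsChowLib.substX_evar, QsChowLib.substX_xvar]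
      refine add_mem ?_ (Ideal.mul_mem_right _ _ (hle1 (Ideal.mem_span_singleton.mpr
        (pow_dvd_pow _ (hbig j (by omega))))))
      by_cases hjl : j = l
      · subst hjl
        rw [hkl, ← hA_def, show (2 * l - 3) * A - n = 0 by rw [hlm, hn0, Nat.sub_self], pow_zero,
          one_mul, hs_def, CharTwo.add_self_eq_zero]
        exact zero_mem _
      · refine add_mem ?_ ?_
        · rw [← QsChowLib.kprime_of_ne hn (by omega) hjs (hneq j (by omega) hjs hjl)]
          exact hgen j (by omega) hjs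
        · obtain ⟨e, he⟩ : ∃ e, (2 * j - 3) * 2 ^ QsChow.klog n j - n = e + 1 := ⟨_,
            (Nat.sub_add_cancel (show 1 ≤ (2 * j - 3) * 2 ^ QsChow.klog n j - n by
              have := QsChowLib.le_mul_two_pow_klog n hn j (by omega)
              have := hneq j (by omega) hjs hjl
              omega)).symm⟩
          rw [he, pow_succ, mul_assoc]
          exact Ideal.mul_mem_left _ _ hex
  have hI : ∀ r ∈ QsChow.evenIdeal n, MvPolynomial.rename some r ∈ QsChowLib.modPow n A := by
    intro r hr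
    refine QsChowLib.rename_mem A _ ?_ hr
    rintro g (hg | ⟨i, rfl⟩)
    · rw [Set.mem_singleton_iff, ← hl_def, hpl, Nat.add_sub_cancel, ← hA_def, ← hs_def] at hg
      rw [hg, map_mul, QsChowLib.rename_evarE]
      have := sub_mem (QsChowLib.presIdeal_le_modPow A (Ideal.subset_span (show
        QsChow.evar n 1 * QsChow.xvar n ∈ _ from Or.inl (by simp))))
        (Ideal.mul_mem_left _ (QsChow.evar n 1) hx)
      rwa [← mul_sub, sub_sub_cancel] at this
    show MvPolynomial.rename some (QsChow.evarE n (i.val + 1) ^ 2 ^ QsChow.kprime n (i.val + 1)) ∈ _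
    rw [map_pow, QsChowLib.rename_evarE]
    rcases (show i.val + 1 = 1 ∨ i.val + 1 = 2 ∨ 3 ≤ i.val + 1 by omega) with hi | hi | hi
    · rw [hi, hp1]; exact QsChowLib.pow_mem_modPow A _ le_rfl
    · rw [hi, hp2]
      have h := QsChowLib.hrel_mem (n := n) A 2 (by omega) (by unfold QsChow.numVars; omega)
      rw [QsChow.hrel, if_pos rfl] at h
      have h2 := sub_mem h (QsChowLib.pow_mul_xvar_mem (n := n) A (2 ^ QsChow.klog n 2 - n)
        (by have := QsChowLib.le_two_pow_klog_two n hn; omega))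
      rw [add_sub_cancel_left] at h2
      obtain ⟨c, hc⟩ := Ideal.mem_span_singleton.mp (QsChowLib.sPolyE_two_sub_mem (n := n) hn hA2)
      have h3 := sub_mem h2 (Ideal.mul_mem_right (MvPolynomial.rename some c) _
        (QsChowLib.pow_mem_modPow (n := n) A A le_rfl))
      rwa [← QsChowLib.rename_evarE, ← map_pow, ← map_mul, ← hc, ← QsChowLib.rename_sPolyE,
        ← map_sub, sub_sub_cancel, map_pow, QsChowLib.rename_evarE] at h3
    · by_cases hil : i.val + 1 = l
      · rw [hil, hpl, pow_succ, pow_mul]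
        have hxx : QsChow.xvar n ^ 2 ∈ QsChowLib.modPow n A :=
          QsChowLib.presIdeal_le_modPow A (Ideal.subset_span (Or.inl (by simp)))
        have := sub_mem hxx (Ideal.mul_mem_left _ (QsChow.xvar n + MvPolynomial.rename some s) hx)
        rw [show ∀ a c : QsChow.FreeE n, a ^ 2 - (a + c) * (a - c) = c ^ 2 from
          fun a c => by ring] at this
        rwa [hs_def, map_pow, QsChowLib.rename_evarE] at this
      · rw [QsChowLib.kprime_of_ne hn hi i.2 (hneq _ hi i.2 hil)]
        have h := QsChowLib.hrel_mem (n := n) A (i.val + 1) (by omega) i.2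
        rw [QsChow.hrel, if_neg (by omega), if_pos ⟨hi, i.2⟩, add_assoc] at h
        have h2 := add_mem
          (QsChowLib.pow_mul_xvar_mem (n := n) A
            ((2 * (i.val + 1) - 3) * 2 ^ QsChow.klog n (i.val + 1) - n)
            (by have := QsChowLib.le_mul_two_pow_klog n hn (i.val + 1) (by omega)
                have := hneq _ hi i.2 hil
                omega))
          (Ideal.mul_mem_right (QsChow.sPoly n (i.val + 1)) _
            (QsChowLib.pow_mem_modPow (n := n) A _ (hbig _ hi)))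
        have := sub_mem h h2
        rwa [add_sub_cancel_right] at this
  have hpsi : ∀ r, QsChow.psi n r = QsChow.phi n (MvPolynomial.rename some r) := fun r =>
    (QsChowLib.phi_rename r).symm
  refine ⟨fun q => ?_, fun z hz => ?_⟩
  · rw [hpsi, QsChowLib.exists_fixed_iff hn τ hτ1 hτ]
    refine ⟨fun h => ?_, hI q⟩
    have := hσ _ h
    rwa [QsChowLib.substX_rename] at this
  · obtain ⟨r, rfl⟩ : z ∈ (QsChow.phi n).range := by
      rw [QsChowLib.range_phi hn τ hτ1 hτ]; exact hz
    obtain ⟨v, hv, hvq⟩ := (QsChowLib.exists_fixed_iff hn τ hτ1 hτ A _).mpr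
      (QsChowLib.sub_rename_substX_mem A s hx r)
    refine ⟨QsChowLib.substX s r, v, hv, ?_⟩
    rw [hpsi, ← hvq, map_sub, add_sub_cancel]
    rfl

end Groth.Agent.S17748
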