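import Mathlib
import Groth.Agent.QsChowLib.Present
import Groth.Statements.S17749

set_option autoImplicit false
open QsChow

namespace Groth.Agent.S17749

/-- Let n ≥ 2, s := n / 2 + 1, k_j the integer part of log_2((2n-1)/(2j-3)) for 2 ≤ j ≤ s, P := F_2[ε_1,
…, ε_s]/(ε_1^n, ε_2^(2^k_2), …, ε_s^(2^k_s)), τ the F_2-algebra involution of P fixing ε_1 and
sending ε_j to ε_j + ε_1^(2j-3) (2 ≤ j ≤ s), and ē_1 := ε_1, ē_2 := ε_2^2 + ε_1ε_2, ē_j := ε_j +
ε_1^(2j-4)ε_2 (j ≥ 3), x̄ := ε_1^(n-1)ε_2; write 2^a for the exact power of 2 dividing n, l for the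
integer with n = 2^a(2l-3), and k'_1 := a, k'_2 := the integer part of log_2 n, k'_j := the integer
part of log_2(2n/(2j-3)) for j ≥ 3. Suppose n = 2^a with a ≥ 1 (so ε_1^(2^a) = 0 in P) and let ψ :
F_2[e_1, …, e_s] → P be the algebra map with e_j ↦ ē_j. Then the range of ψ is the τ-fixed
subalgebra P^τ and the kernel of ψ is the ideal generated by the powers e_j^(2^k'_j) for 1 ≤ j ≤ s
together with e_1 · Σ_{t < k'_2} e_1^(2^k'_2 - 2^(t+1)) e_2^(2^t). That is, P^τ ≅ F_2[e_1, …,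
e_s]/(e_1^(2^k'_1), …, e_s^(2^k'_s), e_1 Σ_{t<k'_2} e_1^(2^k'_2 - 2^(t+1)) e_2^(2^t)) via ψ. -/
theorem result (n : ℕ) (hn : 2 ≤ n)
    (τ : QsChow.P n →ₐ[ZMod 2] QsChow.P n) (hτ1 : τ (QsChow.eps n 1) = QsChow.eps n 1)
    (hτ : ∀ j : ℕ, 2 ≤ j → j ≤ QsChow.numVars n →
      τ (QsChow.eps n j) = QsChow.eps n j + QsChow.eps n 1 ^ (2 * j - 3))
    (b : ℕ) (hb : 1 ≤ b) (hnb : n = 2 ^ b) :
    (QsChow.psi n).range = AlgHom.equalizer τ (AlgHom.id (ZMod 2) (QsChow.P n)) ∧
      RingHom.ker (QsChow.psi n) = QsChow.powIdeal n := by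
  haveI : CharP (QsChow.FreeP n) 2 := inferInstance
  have hval : QsChow.twoExp n = b := by rw [QsChow.twoExp, hnb, padicValNat.prime_pow]
  have hk2 : QsChow.klog n 2 = b := by
    rw [QsChow.klog]
    simp only [show 2 * 2 - 3 = 1 by omega, Nat.div_one]
    refine Nat.log_eq_of_pow_le_of_lt_pow (by omega) ?_
    rw [pow_succ]; omega
  have hp1 : QsChow.kprime n 1 = b := by rw [QsChow.kprime, if_pos rfl, hval]
  have hp2 : QsChow.kprime n 2 = b := by
    rw [QsChow.kprime, if_neg (by omega), if_pos rfl, hnb, Nat.log_pow (by norm_num)]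
  have hneq : ∀ j, 3 ≤ j → j ≤ QsChow.numVars n → (2 * j - 3) * 2 ^ QsChow.klog n j ≠ n := by
    intro j hj _ h
    rw [hnb] at h
    obtain ⟨i, -, hi⟩ := (Nat.dvd_prime_pow Nat.prime_two).mp
      (⟨2 ^ QsChow.klog (2 ^ b) j, h.symm⟩ : 2 * j - 3 ∣ 2 ^ b)
    rcases Nat.eq_zero_or_pos i with rfl | hi0
    · rw [pow_zero] at hi; omega
    · obtain ⟨i', rfl⟩ : ∃ i', i = i' + 1 := ⟨i - 1, by omega⟩
      rw [pow_succ] at hi; omega
  have hbig : ∀ j, 3 ≤ j → n ≤ (2 * j - 4) * 2 ^ QsChow.klog n j := by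
    intro j hj
    have h := QsChowLib.le_mul_two_pow_klog n hn j (by omega)
    by_contra hlt
    push Not at hlt
    generalize QsChow.klog n j = k at h hlt
    rcases le_or_gt b k with hkb | hkb
    · have h3 := Nat.pow_le_pow_right (show 0 < 2 by norm_num) hkb
      rw [← hnb] at h3
      have h4 := Nat.mul_le_mul_right (2 ^ k) (show 1 ≤ 2 * j - 4 by omega)
      rw [Nat.one_mul] at h4
      omega
    · obtain ⟨c, hc⟩ : ∃ c, b = c + k := ⟨b - k, by omega⟩
      rw [hnb, hc, pow_add] at h hlt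
      have h5 := Nat.le_of_mul_le_mul_right h (Nat.two_pow_pos k)
      have h6 := lt_of_mul_lt_mul_right hlt (Nat.zero_le _)
      obtain ⟨c', rfl⟩ : ∃ c', c = c' + 1 := ⟨c - 1, by omega⟩
      rw [pow_succ] at h5 h6
      omega
  set s := QsChowLib.sPolyE n 2 with hs_def
  have hx : QsChow.xvar n - MvPolynomial.rename some s ∈ QsChowLib.modPow n n := by
    have h := QsChowLib.hrel_mem (n := n) n 2 (by omega) (by unfold QsChow.numVars; omega)
    rw [QsChow.hrel, if_pos rfl, hk2, ← hnb, Nat.sub_self, pow_zero, one_mul,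
      ← QsChowLib.rename_sPolyE, ← hs_def] at h
    rwa [sub_eq_add_neg, CharTwo.neg_eq]
  have he1 : QsChow.evarE n 1 ^ n ∈ QsChow.powIdeal n := by
    refine Ideal.subset_span (Or.inr ⟨QsChowLib.i0 n, ?_⟩)
    show QsChow.evarE n 1 ^ 2 ^ QsChow.kprime n 1 = _
    rw [hp1, ← hnb]
  have hsum : ∑ t ∈ Finset.range (QsChow.kprime n 2),
      QsChow.evarE n 1 ^ (2 ^ QsChow.kprime n 2 - 2 ^ (t + 1)) * QsChow.evarE n 2 ^ 2 ^ t = s := by
    rw [hs_def, QsChowLib.sPolyE, hp2, hk2]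
  have hex : QsChow.evarE n 1 * s ∈ QsChow.powIdeal n :=
    Ideal.subset_span (Or.inl (by rw [Set.mem_singleton_iff, hsum]))
  have hle1 : Ideal.span {QsChow.evarE n 1 ^ n} ≤ QsChow.powIdeal n :=
    Ideal.span_le.mpr (Set.singleton_subset_iff.mpr he1)
  have hgen : ∀ j, 0 < j → j ≤ QsChow.numVars n →
      QsChow.evarE n j ^ 2 ^ QsChow.kprime n j ∈ QsChow.powIdeal n := fun j hj hjs =>
    Ideal.subset_span (Or.inr ⟨⟨j - 1, by omega⟩, by
      show QsChow.evarE n (j - 1 + 1) ^ 2 ^ QsChow.kprime n (j - 1 + 1) = _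
      rw [show j - 1 + 1 = j by omega]⟩)
  have hsq : s ^ 2 - QsChow.evarE n 2 ^ n ∈ Ideal.span {QsChow.evarE n 1 ^ n} := by
    obtain ⟨c, rfl⟩ : ∃ c, b = c + 1 := ⟨b - 1, by omega⟩
    rw [hs_def, QsChowLib.sPolyE, hk2, CharTwo.sum_sq, Finset.sum_range_succ,
      Nat.sub_self, pow_zero, one_mul, ← pow_mul, ← pow_succ 2 c, ← hnb, add_sub_cancel_right]
    refine Ideal.sum_mem _ fun t ht => ?_
    rw [mul_pow]
    refine Ideal.mul_mem_right _ _ ?_
    rw [← pow_mul]
    refine Ideal.mem_span_singleton.mpr (pow_dvd_pow _ ?_)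
    have h3 : 2 ^ (t + 1) ≤ 2 ^ c := Nat.pow_le_pow_right (by norm_num)
      (by have := Finset.mem_range.mp ht; omega)
    have h4 : n = 2 ^ c * 2 := hnb.trans (pow_succ 2 c)
    omega
  have hσ : ∀ r ∈ QsChowLib.modPow n n, QsChowLib.substX s r ∈ QsChow.powIdeal n := by
    intro r hr
    refine QsChowLib.substX_mem n s _ he1 le_rfl hex ?_ (fun j hj hjs => ?_) hr
    · have h := add_mem (hle1 hsq) (show QsChow.evarE n 2 ^ n ∈ QsChow.powIdeal n by
        have := hgen 2 (by omega) (by unfold QsChow.numVars; omega)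
        rwa [hp2, ← hnb] at this)
      rwa [sub_add_cancel] at h
    by_cases h2 : j = 2
    · subst h2
      rw [QsChow.hrel, if_pos rfl, hk2, ← hnb, Nat.sub_self, pow_zero, one_mul, map_add,
        QsChowLib.substX_xvar, QsChowLib.substX_sPoly, ← hs_def, CharTwo.add_self_eq_zero]
      exact zero_mem _
    · rw [QsChow.hrel, if_neg h2, if_pos ⟨by omega, hjs⟩, map_add, map_add, map_mul, map_mul,
        map_pow, map_pow, map_pow, QsChowLib.substX_evar, QsChowLib.substX_evar, QsChowLib.substX_xvar]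
      refine add_mem (add_mem ?_ ?_) (Ideal.mul_mem_right _ _ (hle1 (Ideal.mem_span_singleton.mpr
        (pow_dvd_pow _ (hbig j (by omega))))))
      · rw [← QsChowLib.kprime_of_ne hn (by omega) hjs (hneq j (by omega) hjs)]
        exact hgen j (by omega) hjs
      · obtain ⟨e, he⟩ : ∃ e, (2 * j - 3) * 2 ^ QsChow.klog n j - n = e + 1 := ⟨_,
          (Nat.sub_add_cancel (show 1 ≤ (2 * j - 3) * 2 ^ QsChow.klog n j - n by
            have := QsChowLib.le_mul_two_pow_klog n hn j (by omega)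
            have := hneq j (by omega) hjs
            omega)).symm⟩
        rw [he, pow_succ, mul_assoc]
        exact Ideal.mul_mem_left _ _ hex
  have hI : ∀ r ∈ QsChow.powIdeal n, MvPolynomial.rename some r ∈ QsChowLib.modPow n n := by
    intro r hr
    refine QsChowLib.rename_mem n _ ?_ hr
    rintro g (hg | ⟨i, rfl⟩)
    · rw [Set.mem_singleton_iff, hsum] at hg
      rw [hg, map_mul, QsChowLib.rename_evarE]
      have := sub_mem (QsChowLib.presIdeal_le_modPow n (Ideal.subset_span (show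
        QsChow.evar n 1 * QsChow.xvar n ∈ _ from Or.inl (by simp))))
        (Ideal.mul_mem_left _ (QsChow.evar n 1) hx)
      rwa [← mul_sub, sub_sub_cancel] at this
    show MvPolynomial.rename some (QsChow.evarE n (i.val + 1) ^ 2 ^ QsChow.kprime n (i.val + 1)) ∈ _
    rw [map_pow, QsChowLib.rename_evarE]
    rcases (show i.val + 1 = 1 ∨ i.val + 1 = 2 ∨ 3 ≤ i.val + 1 by omega) with hi | hi | hi
    · rw [hi, hp1, ← hnb]; exact QsChowLib.pow_mem_modPow n n le_rfl
    · rw [hi, hp2, ← hnb]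
      have h1 : MvPolynomial.rename some (s ^ 2) ∈ QsChowLib.modPow n n := by
        have hxx : QsChow.xvar n ^ 2 ∈ QsChowLib.modPow n n :=
          QsChowLib.presIdeal_le_modPow n (Ideal.subset_span (Or.inl (by simp)))
        have := sub_mem hxx (Ideal.mul_mem_left _ (QsChow.xvar n + MvPolynomial.rename some s) hx)
        rwa [map_pow, show ∀ a c : QsChow.FreeE n, a ^ 2 - (a + c) * (a - c) = c ^ 2 from
          fun a c => by ring] at *
      obtain ⟨c, hc⟩ := Ideal.mem_span_singleton.mp hsq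
      have h3 := sub_mem h1 (Ideal.mul_mem_right (MvPolynomial.rename some c) _
        (QsChowLib.pow_mem_modPow (n := n) n n le_rfl))
      rwa [← QsChowLib.rename_evarE, ← map_pow, ← map_mul, ← hc, ← map_sub, sub_sub_cancel,
        map_pow, QsChowLib.rename_evarE] at h3
    · rw [QsChowLib.kprime_of_ne hn hi i.2 (hneq _ hi i.2)]
      have h := QsChowLib.hrel_mem (n := n) n (i.val + 1) (by omega) i.2
      rw [QsChow.hrel, if_neg (by omega), if_pos ⟨hi, i.2⟩, add_assoc] at h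
      have h2 := add_mem
        (QsChowLib.pow_mul_xvar_mem (n := n) n ((2 * (i.val + 1) - 3) * 2 ^ QsChow.klog n (i.val + 1) - n)
          (by have := QsChowLib.le_mul_two_pow_klog n hn (i.val + 1) (by omega)
              have := hneq _ hi i.2
              omega))
        (Ideal.mul_mem_right (QsChow.sPoly n (i.val + 1)) _
          (QsChowLib.pow_mem_modPow (n := n) n _ (hbig _ hi)))
      have := sub_mem h h2
      rwa [add_sub_cancel_right] at this
  have hpsi : ∀ r, QsChow.psi n r = QsChow.phi n (MvPolynomial.rename some r) := fun r =>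
    (QsChowLib.phi_rename r).symm
  refine ⟨le_antisymm ?_ fun z hz => ?_, le_antisymm (fun q hq => ?_) fun q hq => ?_⟩
  · rintro _ ⟨r, rfl⟩
    exact QsChowLib.tau_psi0 hn τ hτ1 hτ r
  · rw [← QsChowLib.range_phi hn τ hτ1 hτ] at hz
    obtain ⟨r, rfl⟩ := hz
    refine ⟨QsChowLib.substX s r, ?_⟩
    obtain ⟨v, -, hv⟩ := (QsChowLib.exists_fixed_iff hn τ hτ1 hτ n _).mpr
      (QsChowLib.sub_rename_substX_mem n s hx r)
    rw [map_sub, QsChowLib.eps_one_pow, zero_mul, sub_eq_zero] at hv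
    exact (hpsi _).trans hv.symm
  · have h := (QsChowLib.exists_fixed_iff hn τ hτ1 hτ n (MvPolynomial.rename some q)).mp
      ⟨0, map_zero τ, by rw [← hpsi, RingHom.mem_ker.mp hq, mul_zero]⟩
    have := hσ _ h
    rwa [QsChowLib.substX_rename] at this
  · obtain ⟨v, -, hv⟩ := (QsChowLib.exists_fixed_iff hn τ hτ1 hτ n _).mpr (hI q hq)
    rw [RingHom.mem_ker, hpsi, hv, QsChowLib.eps_one_pow, zero_mul]

end Groth.Agent.S17749
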