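import Groth.Statements.S17750
import Mathlib
import Groth.Agent.CanonLib.Existence
import Groth.Agent.CanonLib.CMEnd
import Groth.Agent.GorLib.Ring
import Groth.Agent.InjHullLib.Basic

set_option autoImplicit false
universe u
open Goren

namespace Groth.Agent.S17750

open IsLocalRing RingTheory.Sequence CategoryTheory in
open scoped Pointwise in
theorem gorenstein_of_cm_ufd {R : Type u} [CommRing R] [IsDomain R] [UniqueFactorizationMonoid R]
    [LocCoh.IsCohenMacaulayLocalRing R] (d : ℕ) (hd : ringKrullDim R = d)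
    {E : Type u} [AddCommGroup E] [Module R E] {g₀ : ResidueField R →ₗ[R] E} (hf : InjHull.IsInjectiveHull g₀)
    {K : Type u} [AddCommGroup K] [Module R K] [Module.Finite R K]
    (eK : (K →ₗ[R] E) ≃ₗ[R] LocCoh.H (maximalIdeal R) d R) : LocCoh.IsGorensteinLocalRing R := by
  classical
  haveI hnt := CanonLib.nontrivial_canonical hd eK
  have hEnd := CanonLib.bijective_smul_id hd hf eK
  have hcm : CanonLib.CMType (R := R) d R := CanonLib.cmType_self hd
  -- regular sequences of `R` are regular on `K`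
  have hseq : ∀ as : List R, (∀ a ∈ as, a ∈ maximalIdeal R) → IsWeaklyRegular R as → IsWeaklyRegular K as :=
    fun as hm h => ((CanonLib.isWeaklyRegular_iff hf as hm d R K hcm eK).1).mp h
  have hregR : ∀ a : R, a ≠ 0 → IsSMulRegular R a := fun a ha x y h => mul_left_cancel₀ ha h
  have htf : ∀ a : R, a ≠ 0 → IsSMulRegular K a := fun a ha => by
    by_cases hu : IsUnit a
    · exact hu.isSMulRegular K
    · have hm : a ∈ maximalIdeal R := hu
      exact (isWeaklyRegular_singleton_iff _ _).mp
        (hseq [a] (by simpa using hm) ((isWeaklyRegular_singleton_iff _ _).mpr (hregR a ha)))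
  -- a nonzero functional
  haveI : Module.IsTorsionFree R K := Module.IsTorsionFree.mk fun a ha => htf a ha.ne_zero
  obtain ⟨φ₀, hφ₀⟩ : ∃ φ : K →ₗ[R] R, φ ≠ 0 := by
    obtain ⟨x, hx⟩ := exists_ne (0 : K)
    let loc := LocalizedModule.mkLinearMap (nonZeroDivisors R) K
    have hlx : loc x ≠ 0 := fun h => by
      obtain ⟨⟨r, hr⟩, h⟩ := (IsLocalizedModule.eq_zero_iff (nonZeroDivisors R) loc).mp h
      exact hx (htf r (nonZeroDivisors.ne_zero hr) (h.trans (smul_zero r).symm))
    obtain ⟨ℓ, hℓ⟩ := Module.Projective.exists_dual_ne_zero (FractionRing R) hlx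
    haveI : Module.FinitePresentation R K := Module.finitePresentation_of_finite R K
    obtain ⟨g, s, hg⟩ := Module.FinitePresentation.exists_lift_of_isLocalizedModule (nonZeroDivisors R)
      (Algebra.linearMap R (FractionRing R)) ((ℓ.restrictScalars R) ∘ₗ loc)
    refine ⟨g, fun h => hℓ ?_⟩
    have h2 := LinearMap.congr_fun hg x
    rw [h, LinearMap.comp_zero, LinearMap.zero_apply, LinearMap.smul_apply, LinearMap.comp_apply] at h2
    have h3 : (s : R) • ℓ (loc x) = 0 := h2.symm
    exact (smul_eq_zero.mp h3).resolve_left (nonZeroDivisors.ne_zero s.2)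
  have hinj₀ : Function.Injective φ₀ := by
    refine (injective_iff_map_eq_zero φ₀).mpr fun k hk => by_contra fun hne => hφ₀ ?_
    obtain ⟨r, hr⟩ := hEnd.2 (φ₀.smulRight k)
    have h1 : r • k = φ₀ k • k := LinearMap.congr_fun hr k
    rw [hk, zero_smul] at h1
    have hr0 : r = 0 := by_contra fun h => hne (htf r h (h1.trans (smul_zero r).symm))
    refine LinearMap.ext fun x => ?_
    have h2 : φ₀ x • k = 0 := by
      have := LinearMap.congr_fun hr x
      simpa [hr0] using this.symm
    by_contra h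
    exact hne (htf _ h (h2.trans (smul_zero _).symm))
  -- embeddings with the largest image
  let S : Set (Ideal R) := {J | ∃ φ : K →ₗ[R] R, Function.Injective φ ∧ LinearMap.range φ = J}
  obtain ⟨J, hJS, hmax⟩ := (wellFounded_gt (α := Ideal R)).has_min S ⟨_, φ₀, hinj₀, rfl⟩
  obtain ⟨φ, hφ, rfl⟩ := hJS
  have hbot : LinearMap.range φ ≠ ⊥ := fun h => by
    obtain ⟨x, hx⟩ := exists_ne (0 : K)
    exact hx (hφ (by rw [map_zero]; exact (Submodule.mem_bot R).mp (h ▸ LinearMap.mem_range_self φ x)))
  have hprime : ∀ π : R, Prime π → ∃ x, ¬ π ∣ φ x := by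
    intro π hπ
    by_contra hdiv
    push Not at hdiv
    choose ψ hψ using hdiv
    let φ' : K →ₗ[R] R :=
      { toFun := ψ
        map_add' := fun x y => mul_left_cancel₀ hπ.ne_zero (by rw [mul_add, ← hψ, ← hψ, ← hψ, map_add])
        map_smul' := fun r x => mul_left_cancel₀ hπ.ne_zero (by
          rw [RingHom.id_apply, smul_eq_mul, mul_left_comm, ← hψ, ← hψ, map_smul, smul_eq_mul]) }
    have hφ' : ∀ x, φ x = π * φ' x := hψ
    have hinj' : Function.Injective φ' := fun x y h => hφ (by rw [hφ', hφ', h])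
    have hle : LinearMap.range φ ≤ LinearMap.range φ' := by
      rintro - ⟨x, rfl⟩
      exact ⟨π • x, by rw [map_smul, smul_eq_mul, hφ' x]⟩
    have hge : LinearMap.range φ' ≤ LinearMap.range φ :=
      (hle.eq_or_lt.resolve_right fun hlt => hmax _ ⟨φ', hinj', rfl⟩ hlt).ge
    refine hbot (Submodule.eq_bot_of_le_smul_of_le_jacobson_bot (Ideal.span {π}) _
      (IsNoetherian.noetherian _) ?_ ?_)
    · rintro - ⟨x, rfl⟩
      obtain ⟨y, hy⟩ := hge (LinearMap.mem_range_self φ' x)
      rw [hφ' x, ← hy]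
      exact Submodule.smul_mem_smul (Ideal.mem_span_singleton_self π) (LinearMap.mem_range_self φ y)
    · rw [Ideal.span_singleton_le_iff_mem]
      exact IsLocalRing.maximalIdeal_le_jacobson _ hπ.not_unit
  by_cases htop : LinearMap.range φ = ⊤
  · -- `K ≅ R`
    let e : K ≃ₗ[R] R := LinearEquiv.ofBijective φ ⟨hφ, LinearMap.range_eq_top.mp htop⟩
    haveI := CanonLib.hasInjectiveDimensionLT hd hf eK
    exact { exists_hasInjectiveDimensionLT := ⟨d + 1, hasInjectiveDimensionLT_of_iso e.toModuleIso (d + 1)⟩ }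
  exfalso
  have hm : ∀ x, φ x ∈ maximalIdeal R := fun x => IsLocalRing.le_maximalIdeal htop (LinearMap.mem_range_self φ x)
  obtain ⟨x, hx⟩ := exists_ne (0 : K)
  have ha0 : φ x ≠ 0 := fun h => hx (hφ (by rw [h, map_zero]))
  obtain ⟨y, hy⟩ : ∃ y, ∀ π ∈ (UniqueFactorizationMonoid.factors (φ x)).toFinset, ¬ π ∣ φ y := by
    by_contra hno
    push Not at hno
    have hsub : ((LinearMap.range φ : Ideal R) : Set R) ⊆
        ⋃ π ∈ ((UniqueFactorizationMonoid.factors (φ x)).toFinset : Set R), (Ideal.span {π} : Set R) := by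
      rintro - ⟨y, rfl⟩
      obtain ⟨π, h1, h2⟩ := hno y
      exact Set.mem_biUnion h1 (Ideal.mem_span_singleton.mpr h2)
    obtain ⟨π, hπ, hle⟩ := (Ideal.subset_union_prime (f := fun π => Ideal.span {π}) (0 : R) 0
      (fun π hπ _ _ => by
        have hp := UniqueFactorizationMonoid.prime_of_factor π (Multiset.mem_toFinset.mp hπ)
        exact (Ideal.span_singleton_prime hp.ne_zero).mpr hp)).mp hsub
    obtain ⟨z, hz⟩ := hprime π (UniqueFactorizationMonoid.prime_of_factor π (Multiset.mem_toFinset.mp hπ))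
    exact hz (Ideal.mem_span_singleton.mp (hle (LinearMap.mem_range_self φ z)))
  have hR2 : IsWeaklyRegular R [φ x, φ y] := by
    rw [isWeaklyRegular_cons_iff, isWeaklyRegular_singleton_iff]
    refine ⟨hregR _ ha0, ?_⟩
    rw [isSMulRegular_iff_right_eq_zero_of_smul]
    intro q hq
    obtain ⟨r, rfl⟩ := Submodule.mkQ_surjective _ q
    rw [← map_smul, Submodule.mkQ_apply, Submodule.Quotient.mk_eq_zero, Submodule.mem_smul_pointwise_iff_exists] at hq
    obtain ⟨w, -, hw⟩ := hq
    have hdvd : φ x ∣ r * φ y := ⟨w, by rw [smul_eq_mul, smul_eq_mul] at hw; rw [mul_comm r, ← hw]⟩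
    obtain ⟨t, ht⟩ := UniqueFactorizationMonoid.dvd_of_dvd_mul_left_of_no_prime_factors ha0
      (fun {c} hc hc' hp => by
        obtain ⟨π, hπ, hπc⟩ := UniqueFactorizationMonoid.exists_mem_factors_of_dvd ha0 hp.irreducible hc
        exact hy π (Multiset.mem_toFinset.mpr hπ) (hπc.dvd'.trans hc')) hdvd
    rw [Submodule.mkQ_apply, Submodule.Quotient.mk_eq_zero, Submodule.mem_smul_pointwise_iff_exists]
    exact ⟨t, Submodule.mem_top, by rw [ht, smul_eq_mul]⟩
  have hK2 := hseq [φ x, φ y] (fun a ha => by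
    simp only [List.mem_cons, List.not_mem_nil, or_false] at ha
    rcases ha with rfl | rfl
    exacts [hm x, hm y]) hR2
  rw [isWeaklyRegular_cons_iff, isWeaklyRegular_singleton_iff] at hK2
  have hrel : φ x • y = φ y • x := hφ (by rw [map_smul, map_smul, smul_eq_mul, smul_eq_mul, mul_comm])
  have hmem : x ∈ φ x • (⊤ : Submodule R K) := by
    rw [← Submodule.Quotient.mk_eq_zero]
    refine hK2.2 ?_
    change φ y • Submodule.Quotient.mk x = φ y • (0 : QuotSMulTop (φ x) K)
    rw [smul_zero, ← Submodule.Quotient.mk_smul, ← hrel, Submodule.Quotient.mk_eq_zero]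
    exact Submodule.smul_mem_pointwise_smul _ _ _ Submodule.mem_top
  obtain ⟨z, -, hz⟩ := (Submodule.mem_smul_pointwise_iff_exists _ _ _).mp hmem
  have h1 : φ x * φ z = φ x * 1 := by rw [mul_one, ← smul_eq_mul, ← map_smul, hz]
  exact htop ((Ideal.eq_top_iff_one _).mpr ⟨z, mul_left_cancel₀ ha0 h1⟩)

/-- Let B be a regular local ring and p a prime ideal of B such that the integral domain B ⧸ p is a
unique factorization domain. If the local ring B ⧸ p is Cohen–Macaulay then it is Gorenstein, i.e.
has finite injective dimension as a module over itself. (For a unique factorization domain that is a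
quotient of a regular local ring, Cohen–Macaulay and Gorenstein are equivalent; the converse
implication holds for every Noetherian local ring.) -/
theorem result (B : Type u) [CommRing B] [IsRegularLocalRing B] (p : Ideal B) [p.IsPrime] [UniqueFactorizationMonoid (B ⧸ p)] [LocCoh.IsCohenMacaulayLocalRing (B ⧸ p)] : LocCoh.IsGorensteinLocalRing (B ⧸ p) := by
  obtain ⟨d, hd⟩ := Groth.Agent.RegLocal.exists_nat_ringKrullDim (B ⧸ p)
  obtain ⟨E, i1, i2, g₀, hf⟩ := Groth.Agent.InjHullLib.exists_injectiveHull (R := B ⧸ p) (IsLocalRing.ResidueField (B ⧸ p))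
  obtain ⟨K, hK, ⟨eK⟩⟩ := Groth.Agent.CanonLib.exists_canonical_of_gorenstein (A := B) (R := B ⧸ p)
    (Groth.Agent.GorLib.gorensteinLocal_of_regular B) Ideal.Quotient.mk_surjective d hd hf
  haveI := hK
  exact gorenstein_of_cm_ufd d hd hf eK

end Groth.Agent.S17750
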