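import Groth.Statements.S17755
import Mathlib
import Groth.Agent.GorLib.FiniteLength
import Groth.Agent.GorLib.DepthVanish
import Groth.Agent.GorLib.SupportChain


set_option autoImplicit false
universe u
open LocCoh

namespace Groth.Agent.S17755

open CategoryTheory CategoryTheory.Limits AlgebraicGeometry

open IsLocalRing in
lemma enat_eq {s d : ℕ∞} {k : ℕ} (h1 : (k : ℕ∞) ≤ d) (h2 : d ≤ s) (h3 : s ≤ k) : s = d :=
  le_antisymm (h3.trans h1) h2


/-- Let R be a Noetherian local ring with maximal ideal m which is a homomorphic image of a Gorenstein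
local ring, and let M be a finitely generated R-module whose support has dimension n. Then the
following are equivalent: (1) M is generalized Cohen–Macaulay, i.e. the local cohomology module
H^i_m(M) has finite length for every i < n; (2) M is equidimensional, i.e. R ⧸ p has dimension n for
every minimal prime p of the annihilator of M, and for every prime p ≠ m containing the annihilator
of M the localization M_p is a Cohen–Macaulay module over R_p (its depth equals the dimension of its
support). -/
theorem result (R : Type u) [CommRing R] [IsNoetherianRing R] [IsLocalRing R] (R' : Type u) [CommRing R'] [LocCoh.IsGorensteinLocalRing R'] (g : R' →+* R) (hg : Function.Surjective g) (M : Type u) [AddCommGroup M] [Module R M] [Module.Finite R M] (n : ℕ) (hn : Module.supportDim R M = n) : (∀ i : ℕ, i < n → IsFiniteLength R (LocCoh.H (IsLocalRing.maximalIdeal R) i M)) ↔ ((∀ p ∈ (Module.annihilator R M).minimalPrimes, ringKrullDim (R ⧸ p) = n) ∧ ∀ (p : Ideal R) [p.IsPrime], p ≠ IsLocalRing.maximalIdeal R → Module.annihilator R M ≤ p → LocCoh.IsCohenMacaulayModule (Localization.AtPrime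 p) (LocalizedModule p.primeCompl M)) := by
  open IsLocalRing in
  letI : Module R' M := Module.compHom M g
  haveI hG : LocCoh.IsGorensteinLocalRing R' := inferInstance
  haveI hMnt : Nontrivial M := Module.supportDim_ne_bot_iff_nontrivial R M |>.mp (by rw [hn]; simp)
  have hle : ∀ (p : Ideal R) [p.IsPrime] (e : ℕ), Module.annihilator R M ≤ p → ringKrullDim (R ⧸ p) = e →
      ∃ s : ℕ, Module.supportDim (Localization.AtPrime p) (LocalizedModule p.primeCompl M) = s ∧ s + e ≤ n := by
    intro p _ e hp he
    have h := GorLib.supportDim_localized_add_le M p hp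
    rw [hn, he] at h
    haveI : Nontrivial (LocalizedModule p.primeCompl M) := by
      rw [← Module.mem_support_iff (p := (⟨p, inferInstance⟩ : PrimeSpectrum R)), Module.mem_support_iff_of_finite]
      exact hp
    obtain ⟨s, hs⟩ : ∃ s : ℕ, Module.supportDim (Localization.AtPrime p) (LocalizedModule p.primeCompl M) = s := by
      revert h
      rcases hsd : Module.supportDim (Localization.AtPrime p) (LocalizedModule p.primeCompl M) with _ | _ | s
      · exact absurd hsd (Module.supportDim_ne_bot_of_nontrivial _ _)
      · intro h
        exfalso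
        have h' : ((⊤ : ℕ∞) + e : ℕ∞) ≤ (n : ℕ∞) := WithBot.coe_le_coe.mp h
        simp at h'
      · exact fun _ => ⟨s, rfl⟩
    refine ⟨s, hs, ?_⟩
    rw [hs] at h
    exact_mod_cast h
  constructor
  · intro h
    have hv : ∀ (p : Ideal R) [p.IsPrime], p ≠ maximalIdeal R → ∀ e : ℕ, ringKrullDim (R ⧸ p) = e →
        ((n - e : ℕ) : ℕ∞) ≤ LocCoh.depth (Localization.AtPrime p) (LocalizedModule p.primeCompl M) := by
      intro p _ hpm e he
      rw [GorLib.natCast_le_depth_iff_subsingleton_H]
      intro j hj
      exact (GorLib.isFiniteLength_H_iff_quotient g hg hG M (j + e)).mp (h (j + e) (by omega)) p hpm j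
        (by rw [he]; rfl)
    refine ⟨fun q hq => ?_, fun p _ hpm hp => ?_⟩
    · haveI := hq.1.1
      obtain ⟨e, he⟩ := GorLib.exists_dim_quotient q
      obtain ⟨s, hs, hse⟩ := hle q e hq.1.2 he
      rw [he]
      suffices n ≤ e by exact_mod_cast (show e = n by omega)
      by_cases hqm : q = maximalIdeal R
      · have : Subsingleton (Module.support R M) := by
          have key : ∀ x ∈ Module.support R M, x.asIdeal = q := fun x hx => le_antisymm
            (hqm ▸ IsLocalRing.le_maximalIdeal x.isPrime.ne_top)
            (hq.2 ⟨x.isPrime, Module.mem_support_iff_of_finite.mp hx⟩ (hqm ▸ IsLocalRing.le_maximalIdeal x.isPrime.ne_top))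
          exact ⟨fun a b => Subtype.ext (PrimeSpectrum.ext ((key a a.2).trans (key b b.2).symm))⟩
        have h0 : Module.supportDim R M ≤ 0 := Order.krullDim_nonpos_of_subsingleton
        rw [hn] at h0
        have : n ≤ 0 := by exact_mod_cast h0
        omega
      · have h0 : Module.supportDim (Localization.AtPrime q) (LocalizedModule q.primeCompl M) ≤ 0 := by
          have key : ∀ x ∈ Module.support (Localization.AtPrime q) (LocalizedModule q.primeCompl M),
              x.asIdeal.comap (algebraMap R _) = q := fun x hx => by
            have h1 : x.asIdeal.comap (algebraMap R _) ≤ q := fun y hy => by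
              by_contra hyq
              exact x.isPrime.ne_top (Ideal.eq_top_of_isUnit_mem _ hy
                (IsLocalization.map_units _ (⟨y, hyq⟩ : q.primeCompl)))
            exact le_antisymm h1 (hq.2 ⟨Ideal.comap_isPrime _ _, Module.mem_support_iff_of_finite.mp
              ((QGorLib.mem_support_localized_iff q x).mp hx)⟩ h1)
          haveI : Subsingleton (Module.support (Localization.AtPrime q) (LocalizedModule q.primeCompl M)) :=
            ⟨fun a b => Subtype.ext (PrimeSpectrum.localization_comap_injective _ q.primeCompl
              (PrimeSpectrum.ext ((key a a.2).trans (key b b.2).symm)))⟩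
          exact Order.krullDim_nonpos_of_subsingleton
        haveI : Nontrivial (LocalizedModule q.primeCompl M) := by
          rw [← Module.mem_support_iff (p := (⟨q, inferInstance⟩ : PrimeSpectrum R)), Module.mem_support_iff_of_finite]
          exact hq.1.2
        have h1 := ((WithBot.coe_le_coe.mpr (hv q hqm e he)).trans (QGorLib.depth_le_supportDim _)).trans h0
        have h1' : ((n - e : ℕ) : WithBot ℕ∞) ≤ ((0 : ℕ) : WithBot ℕ∞) := h1
        have : n - e ≤ 0 := by exact_mod_cast h1'
        omega
    · obtain ⟨e, he⟩ := GorLib.exists_dim_quotient p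
      obtain ⟨s, hs, hse⟩ := hle p e hp he
      haveI : Nontrivial (LocalizedModule p.primeCompl M) := by
        rw [← Module.mem_support_iff (p := (⟨p, inferInstance⟩ : PrimeSpectrum R)), Module.mem_support_iff_of_finite]
        exact hp
      have h2 := QGorLib.depth_le_supportDim (R := Localization.AtPrime p) (LocalizedModule p.primeCompl M)
      rw [hs] at h2
      refine hs.trans (congrArg WithBot.some ?_)
      exact enat_eq (hv p hpm e he) (WithBot.coe_le_coe.mp h2) (Nat.cast_le.mpr (by omega))
  · rintro ⟨heq, hCM⟩ i hi
    refine (GorLib.isFiniteLength_H_iff_quotient g hg hG M i).mpr fun p _ hpm j hj => ?_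
    obtain ⟨e, he⟩ := GorLib.exists_dim_quotient p
    have hje : j + e = i := by rw [he] at hj; exact_mod_cast hj
    by_cases hp : Module.annihilator R M ≤ p
    swap
    · haveI : Subsingleton (LocalizedModule p.primeCompl M) :=
        Module.notMem_support_iff.mp fun hmem => hp (Module.mem_support_iff_of_finite (p := (⟨p, inferInstance⟩ : PrimeSpectrum R)) |>.mp hmem)
      exact ModuleCat.subsingleton_of_isZero
        ((localCohomology _ j).map_isZero (ModuleCat.isZero_of_subsingleton _))
    obtain ⟨q, hq, hqp⟩ := Ideal.exists_minimalPrimes_le hp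
    haveI := hq.1.1
    let Q : PrimeSpectrum R := ⟨q, hq.1.1⟩
    let P : PrimeSpectrum R := ⟨p, inferInstance⟩
    have hge := GorLib.height_Ici_le_supportDim_localized M Q P hq.1.2 hqp
    have hH := GorLib.height_Ici_add (GorLib.gorensteinRing_of_local hG) (PrimeSpectrum.comap g Q)
      (PrimeSpectrum.comap g P) (Ideal.comap_mono hqp)
    rw [GorLib.height_Ici_comap g hg M (fun _ _ => rfl) Q P hqp] at hH
    obtain ⟨d, hd⟩ := RegLocal.exists_nat_ringKrullDim R'
    obtain ⟨a, ha⟩ := GorLib.exists_height_eq (q.comap g)
    obtain ⟨b, hb⟩ := GorLib.exists_height_eq (p.comap g)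
    have hdim : ∀ (x : Ideal R), ringKrullDim (R' ⧸ x.comap g) = ringKrullDim (R ⧸ x) := fun x =>
      ringKrullDim_eq_of_ringEquiv (RingEquiv.ofBijective
        (Ideal.quotientMap x g le_rfl) ⟨Ideal.quotientMap_injective, Ideal.quotientMap_surjective hg⟩)
    have e1 := GorLib.height_add_ringKrullDim_quotient hG (q.comap g)
    have e2 := GorLib.height_add_ringKrullDim_quotient hG (p.comap g)
    rw [hdim, ha, heq q hq, hd] at e1
    rw [hdim, hb, he, hd] at e2
    have e1' : a + n = d := by exact_mod_cast e1
    have e2' : b + e = d := by exact_mod_cast e2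
    have hh : Order.height (⟨P, hqp⟩ : Set.Ici Q) + (a : ℕ∞) = (b : ℕ∞) := by
      rw [← ha, ← hb]; exact hH
    have hge' : ((n - e : ℕ) : ℕ∞) ≤ LocCoh.depth (Localization.AtPrime p) (LocalizedModule p.primeCompl M) := by
      have hcm : Module.supportDim (Localization.AtPrime p) (LocalizedModule p.primeCompl M) =
          ((LocCoh.depth (Localization.AtPrime p) (LocalizedModule p.primeCompl M) : ℕ∞) : WithBot ℕ∞) := hCM p hpm hp
      refine le_trans ?_ (WithBot.coe_le_coe.mp (hge.trans hcm.le))
      revert hh
      induction Order.height (⟨P, hqp⟩ : Set.Ici Q) using ENat.recTopCoe with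
      | top => simp
      | coe m =>
        intro hh
        norm_cast at hh ⊢
        omega
    exact (GorLib.natCast_le_depth_iff_subsingleton_H _ (n - e)).mp hge' j (by omega)

end Groth.Agent.S17755
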