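import Groth.Statements.S17757
import Groth.Agent.LocCohLib.AddElement
import Groth.Agent.LocCohLib.Vanishing

set_option autoImplicit false
universe u
open LocCoh

namespace Groth.Agent.S17757

open CategoryTheory CategoryTheory.Limits AlgebraicGeometry

open scoped TensorProduct

/-- The cokernel of localisation as a tensor product. -/
theorem nonempty_coker_tensor {R : Type u} [CommRing R] (b : R) (N : Type u) [AddCommGroup N] [Module R N] :
    Nonempty ((LocalizedModule (Submonoid.powers b) N ⧸
      LinearMap.range (LocalizedModule.mkLinearMap (Submonoid.powers b) N)) ≃ₗ[R]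
      ((Localization.Away b ⧸ LinearMap.range (Algebra.linearMap R (Localization.Away b))) ⊗[R] N)) := by
  let L := Localization.Away b
  let f := Algebra.linearMap R L
  let g : N →ₗ[R] L ⊗[R] N := TensorProduct.mk R L N 1
  haveI : IsLocalizedModule (Submonoid.powers b) g :=
    (isLocalizedModule_iff_isBaseChange (Submonoid.powers b) L g).mpr (TensorProduct.isBaseChange R N L)
  have h : LinearMap.range g = LinearMap.range (LinearMap.rTensor N f) := by
    have : g = LinearMap.rTensor N f ∘ₗ (TensorProduct.lid R N).symm.toLinearMap := by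
      ext n
      simp [g, f]
    rw [this, LinearMap.range_comp, LinearEquiv.range, Submodule.map_top]
  exact ⟨(LocCohLib.cokerEquiv _ g).trans ((Submodule.quotEquivOfEq _ _ h).trans
    (rTensor.equiv N (LinearMap.exact_map_mkQ_range f) (Submodule.mkQ_surjective _)))⟩

/-- Top cohomology for an ideal with `n` generators is right exact and commutes with sums. -/
theorem nonempty_top_tensor {R : Type u} [CommRing R] [IsNoetherianRing R] : ∀ (n : ℕ) (f : Fin n → R),
    ∃ (T : Type u) (_ : AddCommGroup T) (_ : Module R T), ∀ (M : Type u) [AddCommGroup M] [Module R M],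
      Nonempty (LocCoh.H (Ideal.span (Set.range f)) n M ≃ₗ[R] T ⊗[R] M)
  | 0, f => by
    refine ⟨R, inferInstance, inferInstance, fun M _ _ => ?_⟩
    rw [Set.range_eq_empty f, Ideal.span_empty]
    exact ⟨(LocCohLib.h0botEquiv M).trans (TensorProduct.lid R M).symm⟩
  | n + 1, f => by
    obtain ⟨T, _, _, hT⟩ := nonempty_top_tensor n (f ∘ Fin.castSucc)
    let b := f (Fin.last n)
    let a := Ideal.span (Set.range (f ∘ Fin.castSucc))
    let Q := Localization.Away b ⧸ LinearMap.range (Algebra.linearMap R (Localization.Away b))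
    refine ⟨Q ⊗[R] T, inferInstance, inferInstance, fun M _ _ => ?_⟩
    have hspan : Ideal.span (Set.range f) = a ⊔ Ideal.span {b} := by
      rw [← Ideal.span_union]
      congr 1
      refine Set.ext fun x => ⟨?_, ?_⟩
      · rintro ⟨i, rfl⟩
        induction i using Fin.lastCases with
        | last => exact Or.inr rfl
        | cast i => exact Or.inl ⟨i, rfl⟩
      · rintro (⟨i, rfl⟩ | hx)
        · exact ⟨i.castSucc, rfl⟩
        · exact ⟨Fin.last n, hx.symm⟩
    have htop : LinearMap.ker ((Dual2.HmapOfLE (le_sup_left : a ≤ a ⊔ Ideal.span {b}) (n + 1)).app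
        (ModuleCat.of R M)).hom = ⊤ := by
      haveI := LocCohLib.subsingleton_of_radical_fin (f ∘ Fin.castSucc) (I := a) rfl (ModuleCat.of R M) (n + 1) n.lt_succ_self
      exact Submodule.eq_top_iff'.2 fun x => LinearMap.mem_ker.2 (Subsingleton.elim _ _)
    obtain ⟨e⟩ := hT M
    obtain ⟨c⟩ := nonempty_coker_tensor b (LocCoh.H a n M)
    rw [hspan]
    exact ⟨((LinearEquiv.ofTop _ htop).symm.trans
      ((LocCohLib.kerEquivCoker (injectiveResolution (ModuleCat.of R M)) a b n).symm.trans
        (c.trans ((TensorProduct.congr (LinearEquiv.refl R Q) e).trans (TensorProduct.assoc R Q T M).symm))))⟩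

theorem of_tensor {R : Type u} [CommRing R] {I : Ideal R} {d : ℕ} (T : Type u) [AddCommGroup T] [Module R T]
    (h : ∀ (M : Type u) [AddCommGroup M] [Module R M], Nonempty (LocCoh.H I d M ≃ₗ[R] T ⊗[R] M))
    (M : Type u) [AddCommGroup M] [Module R M] :
    Nonempty (LocCoh.H I d M ≃ₗ[R] (LocCoh.H I d R) ⊗[R] M) := by
  obtain ⟨e⟩ := h M
  obtain ⟨e₀⟩ := h R
  exact ⟨e.trans (TensorProduct.congr (e₀.trans (TensorProduct.rid R T)).symm (LinearEquiv.refl R M))⟩


/-- Let R be a Noetherian local ring of Krull dimension d, I an ideal of R and M an arbitrary R-module.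
Then the top local cohomology H^d_I(M) is isomorphic, as an R-module, to H^d_I(R) ⊗_R M (existence
of an R-linear isomorphism; the functor H^d_I is right exact). -/
theorem result (R : Type u) [CommRing R] [IsNoetherianRing R] [IsLocalRing R] (d : ℕ) (hd : ringKrullDim R = d) (I : Ideal R) (M : Type u) [AddCommGroup M] [Module R M] : Nonempty (LocCoh.H I d M ≃ₗ[R] TensorProduct R (LocCoh.H I d R) M) := by
  by_cases hI : I = ⊤
  · subst hI
    haveI h1 := LocCohLib.subsingleton_top d (ModuleCat.of R M)
    haveI : Subsingleton (LocCoh.H (⊤ : Ideal R) d R) := LocCohLib.subsingleton_top d (ModuleCat.of R R)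
    haveI : Subsingleton (LocCoh.H (⊤ : Ideal R) d M) := h1
    exact ⟨LinearEquiv.ofSubsingleton _ _⟩
  obtain ⟨f, -, hf⟩ := LocCohLib.exists_radical_generators d hd.le I hI
  obtain ⟨T, _, _, hT⟩ := nonempty_top_tensor d f
  refine of_tensor T (fun N _ _ => ?_) M
  obtain ⟨e⟩ := hT N
  exact ⟨(LocCohLib.radicalEquiv hf d (ModuleCat.of R N)).trans e⟩


end Groth.Agent.S17757
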