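import Groth.Statements.S1776
import Groth.Agent.DualCxLib.GorFibres
-- Template for statement S1776 (row 1775; see the milestone table for weights).
-- Copy to Groth/Agent/S1776.lean and replace the sorry. The statement below is byte-identical to the frozen
-- statement Dual.GrothFrozen.S1776 (Groth/Statements/S1776.lean; the theorem Dual.isDualizing_LBaseChange_polynomial);
-- the grader kernel-checks Groth.Agent.S1776.result against that frozen type. Keep the theorem IN THIS FILE
-- (a `result` declared elsewhere and merely imported here is not credited); helpers may live anywhere
-- under Groth/Agent/.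
-- helpers: DualCxLib

set_option autoImplicit false
universe u
open CategoryTheory
attribute [local instance] HasDerivedCategory.standard
open scoped Polynomial
open Dual Groth.Agent.DualCxLib

namespace Groth.Agent.S1776

/-- Let A be a Noetherian ring with a dualizing complex ω. Assuming the derived base change functor D(A)
→ D(A[x]) exists, the derived base change of ω to the polynomial ring A[x] is a dualizing complex
for A[x]. -/
theorem result (A : Type u) [CommRing A] [IsNoetherianRing A] [DRing.HasLBaseChange (algebraMap A A[X])] (ω : Dual.D A) (hω : Dual.IsDualizing A ω) : Dual.IsDualizing A[X] ((DRing.LBaseChange (algebraMap A A[X])).obj ω) := by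
  refine Groth.Agent.DualCxLib.isDualizing_bcD_of_fibres A A[X] hω (fun p _ => ?_) 1 fun p _ => ?_
  · exact Groth.Agent.GorLib.gorensteinRing_of_ringEquiv
      (polyEquivTensor A p.ResidueField).toRingEquiv (Groth.Agent.GorLib.gorensteinRing_of_regular _)
  · rw [← ringKrullDim_eq_of_ringEquiv (polyEquivTensor A p.ResidueField).toRingEquiv,
      Polynomial.ringKrullDim_of_isNoetherianRing, ringKrullDim_eq_zero_of_field]
    simp

end Groth.Agent.S1776
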