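import Groth.Statements.S17764
import Mathlib
import Groth.Agent.InjHullLib.Noetherian

set_option autoImplicit false
universe u
open InjHull

namespace Groth.Agent.S17764

lemma smul_eq_zero_iff_right' {R M : Type*} [CommRing R] [AddCommGroup M] [Module R M] [NoZeroSMulDivisors R M]
    {a : R} (ha : a ≠ 0) {x : M} : a • x = 0 ↔ x = 0 :=
  ⟨fun h => (NoZeroSMulDivisors.eq_zero_or_eq_zero_of_smul_eq_zero h).resolve_left ha, fun h => by rw [h, smul_zero]⟩


/-- Let R be a commutative ring and M an R-module which is torsion-free (no nonzero element of R kills a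
nonzero element of M) and divisible (multiplication by every nonzero element of R is surjective on
M). Then M is an injective R-module. (Over a ring with zero divisors the two hypotheses force M =
0.) -/
theorem result (R : Type u) [CommRing R] (M : Type u) [AddCommGroup M] [Module R M] [NoZeroSMulDivisors R M] (hdiv : ∀ r : R, r ≠ 0 → Function.Surjective (fun m : M => r • m)) : Module.Injective R M := by
  refine Module.Baer.injective fun I φ => ?_
  by_cases hI : I = ⊥
  · exact ⟨0, fun a ha => by
      subst hI
      rw [LinearMap.zero_apply, show (⟨a, ha⟩ : (⊥ : Ideal R)) = 0 from Subtype.ext ((Submodule.mem_bot R).1 ha),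
        map_zero]⟩
  obtain ⟨a, ha, ha0⟩ := Submodule.exists_mem_ne_zero_of_ne_bot hI
  obtain ⟨x, hx⟩ := hdiv a ha0 (φ ⟨a, ha⟩)
  refine ⟨LinearMap.toSpanSingleton R M x, fun b hb => ?_⟩
  have h1 : a • φ ⟨b, hb⟩ = a • (b • x) := by
    rw [smul_comm a b x, show a • x = φ ⟨a, ha⟩ from hx, ← map_smul, ← map_smul]
    exact congrArg φ (Subtype.ext (mul_comm a b))
  rw [← sub_eq_zero] at h1
  rw [← smul_sub, smul_eq_zero_iff_right' ha0, sub_eq_zero] at h1
  exact h1.symm

end Groth.Agent.S17764
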