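import Groth.Statements.S17765
import Mathlib
import Groth.Agent.GorLib.LocalVanishing
import Groth.Agent.GorLib.Ring
import Groth.Agent.LocCohLib.FaltingsEasy
import Groth.Agent.RegLocal.Consequences


set_option autoImplicit false
universe u
open CategoryTheory
open LocCoh

namespace Groth.Agent.S17765

/-- Let B be a regular local ring, M a finitely generated B-module and p an associated prime ideal of M.
Then the height of p is at most the projective dimension of M: for every n such that M has
projective dimension at most n, ht p ≤ n. -/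
theorem result (B : Type u) [CommRing B] [IsRegularLocalRing B] (M : Type u) [AddCommGroup M] [Module B M] [Module.Finite B M] (p : Ideal B) (hp : p ∈ associatedPrimes B M) (n : ℕ) (hn : HasProjectiveDimensionLE (ModuleCat.of B M) n) : p.height ≤ n := by
  haveI := hp.isPrime
  obtain ⟨h, hh⟩ := GorLib.exists_height_eq p
  rw [hh, Nat.cast_le]
  by_contra hlt
  have hG := GorLib.gorensteinRing_of_local (GorLib.gorensteinLocal_of_regular B)
  haveI := hn
  haveI : Subsingleton (Abelian.Ext (ModuleCat.of B M) (ModuleCat.of B B) h) :=
    hn.subsingleton _ (n + 1) h (by omega) _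
  have h1 : Subsingleton (GorLib.LocH p 0 M) :=
    (GorLib.subsingleton_localized_ext_iff hG p M h 0 h hh (by omega)).mp
      (LocalizedModule.subsingleton_iff.mpr fun x => ⟨1, one_mem _, Subsingleton.elim _ _⟩)
  obtain ⟨-, f, hf⟩ := (isAssociatedPrime_iff_exists_injective_linearMap _ _).1 hp
  let L := Localization.AtPrime p
  let Mp := LocalizedModule p.primeCompl M
  let x : Mp := LocalizedModule.mkLinearMap p.primeCompl M (f 1)
  have hx : x ≠ 0 := fun h0 => by
    obtain ⟨c, hc⟩ := (IsLocalizedModule.eq_zero_iff p.primeCompl (LocalizedModule.mkLinearMap p.primeCompl M)).mp h0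
    rw [Submonoid.smul_def, ← map_smul, map_eq_zero_iff f hf, Algebra.smul_def, mul_one, Ideal.Quotient.algebraMap_eq,
      Ideal.Quotient.eq_zero_iff_mem] at hc
    exact c.2 hc
  have hkill : ∀ a ∈ IsLocalRing.maximalIdeal L, a • x = 0 := fun a ha => by
    rw [← Localization.AtPrime.map_eq_maximalIdeal] at ha
    induction ha using Submodule.span_induction with
    | mem y hy =>
      obtain ⟨r, hr, rfl⟩ := hy
      rw [algebraMap_smul, ← map_smul, ← map_smul, Algebra.smul_def, mul_one, Ideal.Quotient.algebraMap_eq,
        Ideal.Quotient.eq_zero_iff_mem.mpr hr, map_zero, map_zero]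
    | zero => exact zero_smul _ _
    | add y z _ _ hy hz => rw [add_smul, hy, hz, add_zero]
    | smul c y _ hy => rw [smul_eq_mul, mul_smul, hy, smul_zero]
  refine hx ?_
  let e := LocCohLib.h0Equiv (IsLocalRing.maximalIdeal L) (ModuleCat.of L Mp)
  have := congrArg Subtype.val (congrArg e (h1.elim (e.symm ⟨x, 1, fun a ha => hkill a (by rwa [pow_one] at ha)⟩) 0))
  rw [LinearEquiv.apply_symm_apply, map_zero] at this
  exact this

end Groth.Agent.S17765
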