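import Groth.Statements.S17766
import Groth.Agent.CanonLib.ExtCanon
import Groth.Agent.CanonLib.CMEnd
import Groth.Agent.CanonLib.DepthTwo
import Groth.Agent.CanonLib.DimAux
import Groth.Agent.LocCohLib.ExtComp
import Groth.Agent.InjHullLib.Basic
import Groth.Agent.GorLib.Ring
import Groth.Agent.GorLib.Heights
import Groth.Agent.CAlgBasics.TorsionFree

set_option autoImplicit false
universe u
open CategoryTheory Opposite
open LocCoh

namespace Groth.Agent.S17766

open CategoryTheory CategoryTheory.Limits AlgebraicGeometry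


open Groth.Agent CategoryTheory
open scoped Pointwise

theorem exists_ideal_of_canonical {A : Type u} [CommRing A] [IsDomain A] [LocCoh.IsCohenMacaulayLocalRing A]
    {n : ℕ} (hn : ringKrullDim A = n) {E : Type u} [AddCommGroup E] [Module A E]
    {f : IsLocalRing.ResidueField A →ₗ[A] E} (hf : InjHull.IsInjectiveHull f)
    {K : Type u} [AddCommGroup K] [Module A K] [Module.Finite A K]
    (eK : (K →ₗ[A] E) ≃ₗ[A] LocCoh.H (IsLocalRing.maximalIdeal A) n A) :
    ∃ I : Ideal A, Nonempty (K ≃ₗ[A] I) ∧ ∀ q ∈ associatedPrimes A (A ⧸ I), q.height = 1 := by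
  classical
  have hcd : LocCoh.CdLE A (IsLocalRing.maximalIdeal A) n := LocCohLib.cdLE_of_ringKrullDim_local _ n hn.le
  have hbot : ∀ (a : A), a ≠ 0 → ringKrullDim (A ⧸ Ideal.span {a}) + 1 ≤ ringKrullDim A := fun a ha =>
    ringKrullDim_quotient_succ_le_of_nonZeroDivisor (mem_nonZeroDivisors_of_ne_zero ha)
  have hlt : ∀ (x : WithBot ℕ∞) (m : ℕ), x + 1 ≤ (m : WithBot ℕ∞) → x < (m : WithBot ℕ∞) := fun x m h => by
    induction x with
    | bot => exact WithBot.bot_lt_coe _
    | coe x =>
      induction x using ENat.recTopCoe with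
      | top =>
        have h' : (⊤ : ℕ∞) + 1 ≤ (m : ℕ∞) := WithBot.coe_le_coe.mp h
        rw [top_add, top_le_iff] at h'
        exact absurd h' (ENat.coe_ne_top m)
      | coe x =>
        have : x + 1 ≤ m := by exact_mod_cast h
        exact_mod_cast (show x < m by omega)
  -- torsion-free
  have hreg : ∀ a : A, a ≠ 0 → IsSMulRegular K a := fun a ha =>
    CanonLib.isSMulRegular_of_dim hcd hf eK a (hlt _ _ (hn ▸ hbot a ha))
  haveI : Module.IsTorsionFree A K := Module.IsTorsionFree.of_smul_eq_zero fun a x h => by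
    by_cases ha : a = 0
    · exact Or.inl ha
    · exact Or.inr (hreg a ha (show a • x = a • 0 by rw [h, smul_zero]))
  -- a nonzero form
  haveI := CanonLib.nontrivial_canonical hn eK
  obtain ⟨φ, x₀, hφ⟩ : ∃ (φ : K →ₗ[A] A) (x : K), φ x ≠ 0 := by
    obtain ⟨m, j, hj⟩ := CAlgBasics.exists_injective_pi_of_isTorsionFree (R := A) (M := K)
    obtain ⟨x, hx⟩ := exists_ne (0 : K)
    obtain ⟨i, hi⟩ : ∃ i, j x i ≠ 0 := by
      by_contra hall
      push Not at hall
      exact hx (hj ((funext hall : j x = 0).trans (map_zero j).symm))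
    exact ⟨LinearMap.proj i ∘ₗ j, x, hi⟩
  obtain ⟨r, hr⟩ := (CanonLib.bijective_smul_id hn hf eK).2 (φ.smulRight x₀)
  have hx0 : x₀ ≠ 0 := fun h => hφ (by rw [h, map_zero])
  have hry : ∀ y, r • y = φ y • x₀ := fun y => LinearMap.congr_fun hr y
  have hr0 : r ≠ 0 := fun h => by
    have := hry x₀
    rw [h, zero_smul, eq_comm] at this
    exact (smul_eq_zero.1 this).elim hφ hx0
  have hinj : Function.Injective φ := (injective_iff_map_eq_zero φ).2 fun y hy => by
    have := hry y
    rw [hy, zero_smul] at this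
    exact (smul_eq_zero.1 this).resolve_left hr0
  let e : K ≃ₗ[A] LinearMap.range φ := LinearEquiv.ofInjective φ hinj
  refine ⟨LinearMap.range φ, ⟨e⟩, fun q hq => ?_⟩
  haveI := hq.isPrime
  have hIbot : φ x₀ ∈ q := hq.annihilator_le (Submodule.mem_annihilator.2 fun z _ => by
    obtain ⟨z, rfl⟩ := Ideal.Quotient.mk_surjective z
    rw [Algebra.smul_def, Ideal.Quotient.algebraMap_eq, ← map_mul, Ideal.Quotient.eq_zero_iff_mem]
    exact Ideal.mul_mem_right _ _ ⟨x₀, rfl⟩)
  refine le_antisymm ?_ ?_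
  · by_contra hgt
    rw [not_le] at hgt
    obtain ⟨-, z, hqz⟩ := (isAssociatedPrime_iff_exists_injective_linearMap _ _).1 hq
    obtain ⟨x, hx⟩ := Ideal.Quotient.mk_surjective (z 1)
    have hxI : x ∉ LinearMap.range φ := fun h => by
      have h1 : z 1 = z 0 := by rw [map_zero, ← hx]; exact Ideal.Quotient.eq_zero_iff_mem.2 h
      exact one_ne_zero (hqz h1)
    have hqx : ∀ c ∈ q, c * x ∈ LinearMap.range φ := fun c hc => by
      refine Ideal.Quotient.eq_zero_iff_mem.1 (?_ : Ideal.Quotient.mk (LinearMap.range φ) (c * x) = 0)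
      rw [map_mul, hx, ← Ideal.Quotient.algebraMap_eq, ← Algebra.smul_def, ← map_smul, Algebra.smul_def, mul_one,
        Ideal.Quotient.algebraMap_eq, Ideal.Quotient.eq_zero_iff_mem.2 hc, map_zero]
    set a := φ x₀
    have hmin : ∀ P ∈ (Ideal.span {a}).minimalPrimes, ¬ q ≤ P := fun P hP hle => by
      have h1 := Ideal.height_le_one_of_isPrincipal_of_mem_minimalPrimes (Ideal.span {a}) P hP
      exact absurd ((Ideal.height_mono hle).trans h1) (not_le.2 hgt)
    obtain ⟨b, hbq, hb⟩ := CanonLib.exists_mem_notMem q _ (Ideal.finite_minimalPrimes_of_isNoetherianRing A (Ideal.span {a}))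
      (fun P hP => hP.1.1) hmin
    cases n with
    | zero =>
      have h1 := hlt _ _ (hn ▸ hbot a hφ)
      have h2 : (Ideal.span {a}) ≠ ⊤ := fun h => hq.isPrime.ne_top
        (top_le_iff.1 (h ▸ (Ideal.span_singleton_le_iff_mem q).2 hIbot))
      haveI : Nontrivial (A ⧸ Ideal.span {a}) := Ideal.Quotient.nontrivial_iff.2 h2
      exact not_le.2 h1 ringKrullDim_nonneg_of_nontrivial
    | succ i =>
      have ha : ringKrullDim (A ⧸ Ideal.span {a}) ≤ (i : WithBot ℕ∞) := by
        have h := hn ▸ hbot a hφ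
        revert h
        generalize ringKrullDim (A ⧸ Ideal.span {a}) = x
        intro h
        induction x with
        | bot => exact bot_le
        | coe x =>
          induction x using ENat.recTopCoe with
          | top =>
            have h' : (⊤ : ℕ∞) + 1 ≤ ((i + 1 : ℕ) : ℕ∞) := WithBot.coe_le_coe.mp h
            rw [top_add, top_le_iff] at h'
            exact absurd h' (ENat.coe_ne_top _)
          | coe x =>
            have : x + 1 ≤ i + 1 := by exact_mod_cast h
            exact_mod_cast (show x ≤ i by omega)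
      have hab : ringKrullDim (A ⧸ Ideal.span {a, b}) < (i : WithBot ℕ∞) := hlt _ _
        ((CanonLib.ringKrullDim_succ_le (Ideal.span_mono (by simp)) fun P hP hle =>
          hb P hP (hle (Ideal.subset_span (by simp)))).trans ha)
      obtain ⟨ya, hya⟩ := hqx a hIbot
      obtain ⟨yb, hyb⟩ := hqx b hbq
      have hmem : b • ya ∈ a • (⊤ : Submodule A K) := by
        rw [show b • ya = a • yb from hinj (by
          rw [map_smul, map_smul, hya, hyb, smul_eq_mul, smul_eq_mul, mul_left_comm])]
        exact Submodule.smul_mem_pointwise_smul _ _ _ trivial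
      obtain ⟨y, -, hy⟩ := (Submodule.mem_smul_pointwise_iff_exists _ _ _).1
        (CanonLib.mem_of_smul_mem hf rfl eK a b ha hab ya hmem)
      rw [← hy, map_smul, smul_eq_mul] at hya
      exact hxI ⟨y, mul_left_cancel₀ hφ hya⟩
  · have hlt0 : (⊥ : Ideal A) < q := bot_lt_iff_ne_bot.2 fun h => hφ (by rw [h] at hIbot; exact hIbot)
    haveI : (⊥ : Ideal A).IsPrime := Ideal.isPrime_bot
    exact le_trans le_add_self (Ideal.height_add_one_le_of_lt_of_isPrime hlt0)

/-- Let B be a regular local ring, p a prime ideal of B of height r, and suppose that A = B ⧸ p is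
Cohen–Macaulay. Then the B-module Ext^r_B(A, B) is isomorphic either to A itself or to a proper
ideal I of A which is unmixed of height one, i.e. every associated prime of A ⧸ I has height one in
A (existence of a B-linear isomorphism in each case). -/
theorem result (B : Type u) [CommRing B] [IsRegularLocalRing B] (p : Ideal B) [p.IsPrime] [LocCoh.IsCohenMacaulayLocalRing (B ⧸ p)] (r : ℕ) (hr : p.height = r) : Nonempty (((Ext B (ModuleCat.{u} B) r).obj (op (ModuleCat.of B (B ⧸ p)))).obj (ModuleCat.of B B) ≃ₗ[B] (B ⧸ p)) ∨ ∃ I : Ideal (B ⧸ p), I ≠ ⊤ ∧ (∀ q ∈ associatedPrimes (B ⧸ p) ((B ⧸ p) ⧸ I), q.height = 1) ∧ Nonempty (((Ext B (ModuleCat.{u} B) r).obj (op (ModuleCat.of B (B ⧸ p)))).obj (ModuleCat.of B B) ≃ₗ[B] I) := by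
  classical
  haveI : IsDomain (B ⧸ p) := Ideal.Quotient.isDomain p
  have hG := GorLib.gorensteinLocal_of_regular B
  obtain ⟨n, hn⟩ := RegLocal.exists_nat_ringKrullDim (B ⧸ p)
  obtain ⟨E, _, _, f, hf⟩ := InjHullLib.exists_injectiveHull (R := B ⧸ p) (IsLocalRing.ResidueField (B ⧸ p))
  obtain ⟨d, hd, K, hnd, hfin, ⟨eX, heX⟩, ⟨eK⟩⟩ := CanonLib.exists_canonical_ext (A := B) (R := B ⧸ p) hG
    Ideal.Quotient.mk_surjective n hn hf
  have hdn : d - n = r := by
    have h := GorLib.height_add_ringKrullDim_quotient hG p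
    rw [hr, hn, hd] at h
    have : r + n = d := by exact_mod_cast h
    omega
  subst hdn
  haveI := hfin
  obtain ⟨I, ⟨eI⟩, hI⟩ := exists_ideal_of_canonical hn hf eK
  let e1 := LocCohLib.extComp (ModuleCat.of B (B ⧸ p)) (ModuleCat.of B B) (d - n)
  let e2 : (((Ext B (ModuleCat.{u} B) (d - n)).obj (op (ModuleCat.of B (B ⧸ p)))).obj (ModuleCat.of B B)) ≃ₗ[B] I :=
    { (e1.toAddEquiv.trans eX).trans eI.toAddEquiv with
      map_smul' := fun b x => by
        show eI (eX (e1 (b • x))) = b • eI (eX (e1 x))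
        rw [map_smul, heX, map_smul, algebraMap_smul] }
  by_cases hItop : I = ⊤
  · subst hItop
    exact Or.inl ⟨e2 ≪≫ₗ (Submodule.topEquiv.restrictScalars B)⟩
  · exact Or.inr ⟨I, hItop, hI, ⟨e2⟩⟩

end Groth.Agent.S17766
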