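import Groth.Statements.S17769
import Groth.Agent.GrFieldLib.StarLocal
import Groth.Agent.GrRegLib.Poly

set_option autoImplicit false
universe u
open GrLC

namespace Groth.Agent.S17769
open GrInjLib Groth.Agent.GrFieldLib


/-- Let R = ⊕_{n ≥ 0} R_n be a Noetherian positively ℤ-graded ring which is standard graded (its
irrelevant ideal is generated by R_1), *local with unique homogeneous maximal ideal m,
Cohen–Macaulay, and of Krull dimension d + 1. Let x be a homogeneous element of degree k lying in m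
which is a non-zerodivisor on R, and let N be R ⧸ xR as a graded R-module, presented by a surjective
degree-preserving R-linear map π : R → N with kernel xR. Writing a(·) for the largest degree in
which the top graded local cohomology with support in m is nonzero (computed from *injective
resolutions I of R and F of N), one has a(R ⧸ xR) = a(R) + k, that is, the end of H^d_m(N) equals
the end of H^{d+1}_m(R) plus k. (The published statement does not require x to lie in m; for a
homogeneous unit x of degree 0 one has R ⧸ xR = 0, whose local cohomology vanishes, and the formula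
fails. The proof uses that H^d_m(R ⧸ xR) is the top local cohomology, i.e. that x is not a unit, so
x is taken in m here; for a standard graded ring this excludes only the units of degree 0.) -/
theorem result (R : Type u) [CommRing R] [LocCoh.IsCohenMacaulayRing R] (𝒜 : ℤ → AddSubgroup R) [GradedRing 𝒜] (hpos : ∀ n : ℤ, n < 0 → 𝒜 n = ⊥) (hstd : Ideal.span (⋃ n ∈ Set.Ioi (0 : ℤ), (𝒜 n : Set R)) = Ideal.span ((𝒜 1 : AddSubgroup R) : Set R)) (m : HomogeneousIdeal 𝒜) (hm : GrLC.IsStarLocal 𝒜 m) (d : ℕ) (hd : ringKrullDim R = (d + 1 : ℕ)) (I : GrLC.StarInjRes 𝒜 𝒜) (x : R) (k : ℤ) (hxk : x ∈ 𝒜 k) (hxm : x ∈ m.toIdeal) (hx : IsSMulRegular R x) (N : Type u) [AddCommGroup N] [Module R N] (𝒩 : ℤ → AddSubgroup N) [DirectSum.Decomposition 𝒩] [SetLike.GradedSMul 𝒜 𝒩] (π : R →ₗ[R] N) (hπ : GrLC.IsGrHom 𝒜 𝒩 π) (hπs : Function.Surjective π) (hπk : LinearMap.ker π = Ideal.span {x}) (F : GrLC.StarInjRes 𝒜 𝒩) : GrLC.endDeg (F.Hgr m d) = GrLC.endDeg (I.Hgr m (d + 1)) + ((k : WithTop ℤ) : WithBot (WithTop ℤ)) := by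
  classical
  haveI hmax := StarLocal.isMaximal hpos hm
  haveI : IsNoetherianRing R := inferInstance
  obtain ⟨n, hn⟩ := ENat.ne_top_iff_exists.1 (Ideal.height_ne_top hmax.ne_top)
  have hhtle := StarLocal.height_map_succ_le m.toIdeal hxm hx hn.symm
  have hnd : n ≤ d + 1 := by
    have h1 := Ideal.height_le_ringKrullDim_of_ne_top hmax.ne_top
    rw [← hn, hd] at h1
    exact_mod_cast h1
  have hbotR : ∀ i, Subsingleton ((localCohomology m.toIdeal i).obj (ModuleCat.of R R) : Type u) →
      ∀ g, Van m (ringG (𝒜 := 𝒜)) i g := fun i hi g E => by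
    obtain ⟨e⟩ := exists_H_equiv_locCoh E m i
    haveI : Subsingleton ((localCohomology m.toIdeal i).obj
        (ModuleCat.of R (ringG (𝒜 := 𝒜)).carrier) : Type u) := hi
    haveI : Subsingleton (E.H m i) := e.toEquiv.subsingleton
    exact (Submodule.eq_bot_iff _).2 fun y _ => Subsingleton.elim y 0
  have hadd : ∀ (y : WithBot (WithTop ℤ)) (s e : ℤ),
      y + ((s : WithTop ℤ) : WithBot (WithTop ℤ)) ≤ ((e : WithTop ℤ) : WithBot (WithTop ℤ)) ↔
        y ≤ (((e - s : ℤ) : WithTop ℤ) : WithBot (WithTop ℤ)) := by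
    intro y s e
    induction y using WithBot.recBotCoe with
    | bot => simp
    | coe y =>
      induction y using WithTop.recTopCoe with
      | top => rw [← WithBot.coe_add, WithTop.top_add]; simp
      | coe z =>
        rw [← WithBot.coe_add, WithBot.coe_le_coe, WithBot.coe_le_coe, ← WithTop.coe_add,
          WithTop.coe_le_coe, WithTop.coe_le_coe]
        omega
  let π' : (ringG (𝒜 := 𝒜)).carrier →ₗ[R] (addG 𝒜 𝒩).carrier := π
  refine GrInjLib.Poly.eq_of_forall_le_iff fun e => ?_
  rw [hadd]
  refine (van_endDeg (addRes 𝒩 F) d e).trans (Iff.trans ?_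
    (van_endDeg (M := ringG (𝒜 := 𝒜)) (a := m) (addRes 𝒜 I) (d + 1) (e - k)).symm)
  rcases Nat.lt_or_ge n (d + 1) with hlt | hge
  · refine iff_of_true (fun g _ E => ?_) fun g _ =>
      hbotR (d + 1) (StarLocal.subsingleton_H_of_height_lt m.toIdeal hn.ge R (d + 1) hlt) g
    let J : Ideal R := Ideal.span {x}
    let Q := R ⧸ J
    have hle : J ≤ m.toIdeal := (Ideal.span_singleton_le_iff_mem _).2 hxm
    haveI : (m.toIdeal.map (algebraMap R Q)).IsMaximal :=
      Ideal.IsMaximal.map_of_surjective_of_ker_le Ideal.Quotient.mk_surjective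
        (le_of_eq_of_le Ideal.mk_ker hle)
    have hfin : (m.toIdeal.map (algebraMap R Q)).height ≠ ⊤ := fun htop => by
      rw [show (m.toIdeal.map (Ideal.Quotient.mk J)).height = ⊤ from htop, top_add] at hhtle
      exact absurd hhtle (by simp)
    obtain ⟨l, hl⟩ := ENat.ne_top_iff_exists.1 hfin
    rw [show (m.toIdeal.map (Ideal.Quotient.mk (Ideal.span {x}))).height = l from hl.symm] at hhtle
    have hln : l + 1 ≤ n := by exact_mod_cast hhtle
    haveI := StarLocal.subsingleton_H_of_height_lt (m.toIdeal.map (algebraMap R Q)) hl.ge Q d (by omega)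
    obtain ⟨ψ, -⟩ := Groth.Agent.LocCohLib.exists_indep (R' := Q) m.toIdeal Q d
    haveI : Subsingleton ((localCohomology m.toIdeal d).obj (ModuleCat.of R Q) : Type u) :=
      ψ.symm.toEquiv.subsingleton
    let u : ModuleCat.of R Q ≅ ModuleCat.of R N :=
      ((Submodule.quotEquivOfEq J (LinearMap.ker π) hπk.symm).trans
        (π.quotKerEquivOfSurjective hπs)).toModuleIso
    haveI : Subsingleton ((localCohomology m.toIdeal d).obj (ModuleCat.of R (addG 𝒜 𝒩).carrier) : Type u) :=
      (((localCohomology m.toIdeal d).mapIso u).symm.toLinearEquiv.toEquiv).subsingleton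
    obtain ⟨eF⟩ := exists_H_equiv_locCoh E m d
    haveI : Subsingleton (E.H m d) := eF.toEquiv.subsingleton
    exact (Submodule.eq_bot_iff _).2 fun y _ => Subsingleton.elim y 0
  · obtain rfl : n = d + 1 := le_antisymm hnd hge
    haveI := LocCoh.IsCohenMacaulayRing.isCohenMacaulayLocalRing_localization m.toIdeal
    have hvan : ∀ g, Van m (ringG (𝒜 := 𝒜)) d g := fun g =>
      hbotR d (subsingleton_H_of_lt_height m.toIdeal hn.symm d (Nat.lt_succ_self d)) g
    haveI : Nontrivial R := ⟨1, 0, fun h => hmax.ne_top ((Ideal.eq_top_iff_one _).2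
      (by rw [h]; exact zero_mem _))⟩
    have hk : 0 ≤ k := by
      by_contra hlt'
      have h1 := eq_zero_of_neg hpos k (by omega) x hxk
      exact one_ne_zero ((isSMulRegular_iff_right_eq_zero_of_smul).1 hx (1 : R) (by rw [h1, zero_smul]))
    let f : (ringG (𝒜 := 𝒜)).carrier →ₗ[R] (ringG (𝒜 := 𝒜)).carrier := x • LinearMap.id
    have hf : GrLC.IsGrHomDeg (ringG (𝒜 := 𝒜)).gr (ringG (𝒜 := 𝒜)).gr f k := fun b z hz => by
      show x • z ∈ (ringG (𝒜 := 𝒜)).gr (b + k)
      rw [add_comm]
      exact smul_mem 𝒜 (ringG (𝒜 := 𝒜)).gr hxk hz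
    have hπg : GrLC.IsGrHom (ringG (𝒜 := 𝒜)).gr (addG 𝒜 𝒩).gr π' := fun b z hz => hπ b z hz
    have hex : ∀ b, π' b = 0 ↔ ∃ z, f z = b := fun b => by
      show π (b : R) = 0 ↔ _
      rw [← LinearMap.mem_ker, hπk, Ideal.mem_span_singleton']
      exact ⟨fun ⟨c, hc⟩ => ⟨c, (mul_comm (G := R) x c).trans hc⟩, fun ⟨c, hc⟩ => ⟨c, (mul_comm (G := R) (c : R) x).trans hc⟩⟩
    constructor
    · intro hN g hg E
      let L : Lift E E f k :=
        { ψ := fun i => x • LinearMap.id
          deg := fun i b z hz => by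
            show x • z ∈ (E.X i).gr (b + k)
            rw [add_comm]
            exact smul_mem 𝒜 (E.X i).gr hxk hz
          comm0 := LinearMap.ext fun z => (map_smul E.ε x z).symm
          comm := fun i => LinearMap.ext fun z => (map_smul (E.d i) x z).symm }
      have hL : ∀ y, L.mapH m (d + 1) y = x • y := fun y => by
        obtain ⟨z, rfl⟩ := Submodule.mkQ_surjective _ y
        rw [← map_smul]
        exact congrArg (E.toH m (d + 1)) (Subtype.ext rfl)
      obtain ⟨EN⟩ := exists_starInjRes 𝒜 (addG 𝒜 𝒩).gr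
      obtain ⟨Lg⟩ := exists_lift E EN ((isGrHom_iff _ _).1 hπg)
      obtain ⟨-, δ, hδ, -, -, hexA⟩ := exists_long_exact L Lg m hf hπg hx hex hπs
      obtain ⟨eE⟩ := exists_H_equiv_locCoh E m (d + 1)
      suffices key : ∀ (j : ℕ) (b : ℤ), e - k < b → ∀ y ∈ E.Hcomp m (d + 1) b, x ^ j • y = 0 → y = 0 by
        refine (Submodule.eq_bot_iff _).2 fun y hy => ?_
        obtain ⟨j, hj⟩ := LocCohLib.isPowerTorsion_H m.toIdeal (d + 1) _ (eE y)
        exact key j g hg y hy (eE.injective (by
          rw [map_smul, map_zero]; exact hj _ (Ideal.pow_mem_pow hxm j)))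
      intro j
      induction j with
      | zero => intro b _ y _ h; rwa [pow_zero, one_smul] at h
      | succ j ih =>
        intro b hb y hy h
        have hxy : L.mapH m (d + 1) y ∈ E.Hcomp m (d + 1) (b + k) := L.mapH_grHomDeg m (d + 1) b y hy
        rw [hL] at hxy
        have h0 := ih (b + k) (by omega) (x • y) hxy (by rwa [smul_smul, ← pow_succ])
        have hy' : y ∈ LinearMap.range (δ d) := (hexA d).le (LinearMap.mem_ker.2 ((hL y).trans h0))
        obtain ⟨w, hw, rfl⟩ := exists_H_preimage m (δ d) (hδ d) (g := b + k)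
          (by rw [add_neg_cancel_right]; exact hy) hy'
        rw [hN (b + k) (by omega) EN, Submodule.mem_bot] at hw
        rw [hw, map_zero]
    · intro hR g hg
      exact van_right hf hπg hx hex hπs (sub_add_cancel g k) (hvan g) (hR _ (by omega))

end Groth.Agent.S17769
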