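import Groth.Statements.S1777
import Groth.Agent.DualCxLib.FlatDual
-- Template for statement S1777 (row 1776; see the milestone table for weights).
-- Copy to Groth/Agent/S1777.lean and replace the sorry. The statement below is byte-identical to the frozen
-- statement Dual.GrothFrozen.S1777 (Groth/Statements/S1777.lean; the theorem Dual.isNormalized_LBaseChange_flat_unramified_local);
-- the grader kernel-checks Groth.Agent.S1777.result against that frozen type. Keep the theorem IN THIS FILE
-- (a `result` declared elsewhere and merely imported here is not credited); helpers may live anywhere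
-- under Groth/Agent/.
-- helpers: DualCxLib

set_option autoImplicit false
universe u
open CategoryTheory
attribute [local instance] HasDerivedCategory.standard
open Dual Groth.Agent.DualCxLib

namespace Groth.Agent.S1777

/-- Let A → B be a flat local homomorphism of Noetherian local rings with m_A B = m_B and ω a normalized
dualizing complex for A. Assuming the derived base change functor D(A) → D(B) exists, the base
change of ω is a normalized dualizing complex for B. -/
theorem result (A B : Type u) [CommRing A] [CommRing B] [IsLocalRing A] [IsLocalRing B] [Algebra A B] [IsLocalHom (algebraMap A B)] [IsNoetherianRing A] [IsNoetherianRing B] [Module.Flat A B] (hm : (IsLocalRing.maximalIdeal A).map (algebraMap A B) = IsLocalRing.maximalIdeal B) [DRing.HasLBaseChange (algebraMap A B)] (ω : Dual.D A) (hω : Dual.IsDualizing A ω) (hn : Dual.IsNormalized A ω) : Dual.IsDualizing B ((DRing.LBaseChange (algebraMap A B)).obj ω) ∧ Dual.IsNormalized B ((DRing.LBaseChange (algebraMap A B)).obj ω) := by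
  haveI : Module.Flat A B := ‹_›
  have h := isDualizing_bcD_of_maximal A B hω (fun n hn => ⟨IsLocalRing.maximalIdeal A,
    hm.trans (IsLocalRing.eq_maximalIdeal hn).symm⟩)
  refine ⟨h, fun i hi => ?_⟩
  haveI := (model hω).isGE
  obtain ⟨e⟩ := nonempty_HK_bcD A B ω (model hω).a (A ⧸ IsLocalRing.maximalIdeal A) i
  haveI : Subsingleton (HK ω i (A ⧸ IsLocalRing.maximalIdeal A)) := hn i hi
  haveI : Subsingleton (TensorProduct A B (HK ω i (A ⧸ IsLocalRing.maximalIdeal A))) :=
    subsingleton_of_forall_eq 0 fun x => by
      induction x using TensorProduct.induction_on with
      | zero => rfl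
      | tmul b y => rw [Subsingleton.elim y 0, TensorProduct.tmul_zero]
      | add x y hx hy => rw [hx, hy, add_zero]
  haveI := e.symm.injective.subsingleton
  exact (preEquiv ((bcD A B).obj ω) i ((Submodule.quotEquivOfEq _ _ hm.symm).trans
    (quotMapEquiv A B (IsLocalRing.maximalIdeal A)).symm)).symm.injective.subsingleton

end Groth.Agent.S1777
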