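import Groth.Statements.S17771
import Groth.Agent.GrCoreLib.AInv

set_option autoImplicit false
universe u
open GrLC

namespace Groth.Agent.S17771
open Groth.Agent.GrCoreLib


/-- Let R = ⊕_{n ≥ 0} R_n be a positively ℤ-graded ring which is standard graded (irrelevant ideal
generated by R_1), with R_0 Artinian, *local with unique homogeneous maximal ideal m, and
Cohen–Macaulay of Krull dimension d. Then the a-invariant of R is at least −d: the end (largest
nonzero degree) of the graded local cohomology module H^d_m(R), computed from any *injective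
resolution of R in the graded category, is ≥ −d. (Equality holds exactly for polynomial rings
R_0[T_1, …, T_d]; that characterisation is not part of this statement.) -/
theorem result (R : Type u) [CommRing R] [LocCoh.IsCohenMacaulayRing R] (𝒜 : ℤ → AddSubgroup R) [GradedRing 𝒜] (hpos : ∀ n : ℤ, n < 0 → 𝒜 n = ⊥) (hstd : Ideal.span (⋃ n ∈ Set.Ioi (0 : ℤ), (𝒜 n : Set R)) = Ideal.span ((𝒜 1 : AddSubgroup R) : Set R)) [IsArtinianRing (GrLC.deg0 𝒜)] (m : HomogeneousIdeal 𝒜) (hm : GrLC.IsStarLocal 𝒜 m) (d : ℕ) (hd : ringKrullDim R = d) (I : GrLC.StarInjRes 𝒜 𝒜) : (((-(d : ℤ) : ℤ) : WithTop ℤ) : WithBot (WithTop ℤ)) ≤ GrLC.endDeg (I.Hgr m d) := by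
  obtain ⟨g, hg, hne⟩ := neg_dim_le_end hpos hm hstd hd I
  refine le_trans ?_ (le_iSup₂ (f := fun (n : ℤ) (_ : I.Hgr m d n ≠ ⊥) => ((n : WithTop ℤ) : WithBot (WithTop ℤ))) g ?_)
  · exact_mod_cast hg
  · intro h
    exact hne ((Submodule.eq_bot_iff _).2 fun y hy => AddSubgroup.mem_bot.1 (h.le (hy : y ∈ I.Hgr m d g)))

end Groth.Agent.S17771
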