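import Groth.Statements.S17772
import Groth.Agent.GrCoreLib.EulerChar

set_option autoImplicit false
universe u
open GrLC

namespace Groth.Agent.S17772
open Groth.Agent.GrCoreLib


/-- Let R = ⊕_{n ≥ 0} R_n be a positively ℤ-graded ring which is standard graded (irrelevant ideal
generated by R_1), with R_0 Artinian, *local with unique homogeneous maximal ideal m, and
Cohen–Macaulay of Krull dimension d; let H_R(n) = ℓ_{R_0}(R_n) be its Hilbert function and P_R ∈
ℚ[X] its Hilbert polynomial (a polynomial agreeing with H_R for all large n, taken as given). Then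
the a-invariant of R, the largest degree in which H^d_m(R) is nonzero (computed from any *injective
resolution of R), equals the supremum of the integers n with P_R(n) ≠ H_R(n). (The published text
writes 'min' for this supremum; the set of such n is unbounded below whenever it is nonempty, e.g.
all n < 0 for a polynomial ring over a field, and the published one-line proof H_R(n) − P_R(n) =
(−1)^d ℓ(H^d_m(R)_n) identifies the set with the nonzero degrees of H^d_m(R), whose largest element
is a(R).) -/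
theorem result (R : Type u) [CommRing R] [LocCoh.IsCohenMacaulayRing R] (𝒜 : ℤ → AddSubgroup R) [GradedRing 𝒜] (hpos : ∀ n : ℤ, n < 0 → 𝒜 n = ⊥) (hstd : Ideal.span (⋃ n ∈ Set.Ioi (0 : ℤ), (𝒜 n : Set R)) = Ideal.span ((𝒜 1 : AddSubgroup R) : Set R)) [IsArtinianRing (GrLC.deg0 𝒜)] (m : HomogeneousIdeal 𝒜) (hm : GrLC.IsStarLocal 𝒜 m) (d : ℕ) (hd : ringKrullDim R = d) (I : GrLC.StarInjRes 𝒜 𝒜) (P : Polynomial ℚ) (hP : ∃ N : ℤ, ∀ n : ℤ, N ≤ n → P.eval (n : ℚ) = ((Module.length (GrLC.deg0 𝒜) (GrLC.comp 𝒜 𝒜 n)).toNat : ℚ)) : GrLC.endDeg (I.Hgr m d) = ⨆ (n : ℤ) (_ : P.eval (n : ℚ) ≠ ((Module.length (GrLC.deg0 𝒜) (GrLC.comp 𝒜 𝒜 n)).toNat : ℚ)), ((n : WithTop ℤ) : WithBot (WithTop ℤ)) := by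
  classical
  haveI := Groth.Agent.GrFieldLib.StarLocal.isMaximal hpos hm
  haveI := LocCoh.IsCohenMacaulayRing.isCohenMacaulayLocalRing_localization (R := R) m.toIdeal
  have hh : m.toIdeal.height = d := by
    have := (height_starMax hpos hm).trans hd
    exact_mod_cast this
  have hlow : ∀ i < d, ∀ g, qlen (GrLC.deg0 𝒜) (I.Hcomp m i g) = 0 := by
    intro i hi g
    let M : GrLC.GMod.{u} 𝒜 := GrLC.GMod.of 𝒜 R 𝒜
    obtain ⟨e⟩ := GrInjLib.exists_H_equiv_locCoh (I : GrLC.StarInjRes 𝒜 M.gr) m i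
    haveI h1 : Subsingleton ((localCohomology m.toIdeal i).obj (ModuleCat.of R M.carrier) : Type u) :=
      Groth.Agent.GrFieldLib.subsingleton_H_of_lt_height m.toIdeal hh i hi
    haveI : Subsingleton (I.H m i) := @Equiv.subsingleton _ _ e.toEquiv h1
    exact qlen_eq_zero_of_bot ((Submodule.eq_bot_iff _).2 fun y _ => Subsingleton.elim y 0)
  have key : ∀ g : ℤ, P.eval (g : ℚ) ≠ qlen (GrLC.deg0 𝒜) (GrLC.comp 𝒜 𝒜 g) ↔ I.Hgr m d g ≠ ⊥ := by
    intro g
    have h := hilbert_sub_eval hpos hstd hm hd I P hP g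
    rw [Finset.sum_range_succ, Finset.sum_eq_zero fun i hi => by
      rw [hlow i (Finset.mem_range.1 hi) g, mul_zero], zero_add] at h
    have hiff : qlen (GrLC.deg0 𝒜) (I.Hcomp m d g) = 0 ↔ I.Hgr m d g = ⊥ := by
      obtain ⟨N, hN⟩ := exists_pow_le_irr hpos hm
      constructor
      · intro h0
        let M : GrLC.GMod.{u} 𝒜 := GrLC.GMod.of 𝒜 R 𝒜
        haveI : Module.Finite R M.carrier := Module.Finite.self R
        let a := irrH 𝒜
        have hgam : ∀ n, GrLC.gam m.toIdeal (I.X n).carrier = GrLC.gam a.toIdeal (I.X n).carrier := by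
          intro n
          refine le_antisymm ?_ ?_
          · rintro x ⟨k, hk⟩
            exact ⟨k, fun r hr => hk r (Ideal.pow_right_mono (Groth.Agent.GrFieldLib.StarLocal.irr_le hpos hm) k hr)⟩
          · rintro x ⟨k, hk⟩
            refine ⟨N * k, fun r hr => hk r ?_⟩
            rw [pow_mul] at hr
            exact Ideal.pow_right_mono hN k hr
        haveI hnoeth : IsNoetherian (GrLC.deg0 𝒜) (I.Hcomp a d g) := (GrInjLib.pieces_finite_vanish (Groth.Agent.GrFieldLib.eq_zero_of_neg hpos) a rfl d M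
          (I : GrLC.StarInjRes 𝒜 M.gr)).1 g
        rw [qlen_hcomp_congr I hgam] at h0
        have hb : I.Hcomp a d g = ⊥ := by
          have hne : Module.length (GrLC.deg0 𝒜) (I.Hcomp a d g) ≠ ⊤ := by
            rw [Module.length_ne_top_iff, isFiniteLength_iff_isNoetherian_isArtinian]
            haveI : Module.Finite (GrLC.deg0 𝒜) (I.Hcomp a d g) := Module.IsNoetherian.finite _ _
            exact ⟨hnoeth, isArtinian_of_fg_of_artinian' (R := GrLC.deg0 𝒜) (M := I.Hcomp a d g)⟩
          have h1 : (Module.length (GrLC.deg0 𝒜) (I.Hcomp a d g)).toNat = 0 := Nat.cast_eq_zero.1 h0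
          haveI : Subsingleton (I.Hcomp a d g) :=
            Module.length_eq_zero_iff.1 ((ENat.toNat_eq_zero.1 h1).resolve_right hne)
          exact Submodule.eq_bot_of_subsingleton
        exact (AddSubgroup.eq_bot_iff_forall _).2
          ((Submodule.eq_bot_iff _).1 (hcomp_bot_congr I hgam d g hb))
      · intro h0
        exact qlen_eq_zero_of_bot ((Submodule.eq_bot_iff _).2 ((AddSubgroup.eq_bot_iff_forall _).1 h0))
    rw [Ne, Ne, ← hiff, not_iff_not, eq_comm (a := P.eval _), ← sub_eq_zero, h]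
    simp
  refine iSup_congr fun g => ?_
  exact iSup_congr_Prop (key g).symm fun _ => rfl

end Groth.Agent.S17772
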