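import Groth.Statements.S17774
import Groth.Agent.GorLib.LocalDuality
import Groth.Agent.GorLib.Heights
import Groth.Agent.GorLib.TopHull
import Groth.Agent.LocCohLib.ExtComp
import Groth.Agent.InjHullLib.Basic
import Groth.Agent.HLVTLib.Connected

set_option autoImplicit false
universe u
open CategoryTheory Opposite
open LocCoh

namespace Groth.Agent.S17774

open CategoryTheory CategoryTheory.Limits AlgebraicGeometry


open Groth.Agent CategoryTheory

/-- Let (S, n) be a Gorenstein local ring, I an ideal of S of height g such that R = S ⧸ I is a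
Cohen–Macaulay local ring, of Krull dimension d, and E an injective hull of the residue field of S.
Then the canonical module of R is Ext^g_S(R, S), in the following sense: the Matlis dual
Hom_S(Ext^g_S(R, S), E) is isomorphic as an S-module to the top local cohomology H^d_n(R) of R
regarded as an S-module (existence of an S-linear isomorphism; Hom into E over S and local
cohomology with support in n agree with the corresponding notions over R for R-modules). -/
theorem result (S : Type u) [CommRing S] [LocCoh.IsGorensteinLocalRing S] (I : Ideal S) (g : ℕ) (hg : I.height = g) [LocCoh.IsCohenMacaulayLocalRing (S ⧸ I)] (d : ℕ) (hd : ringKrullDim (S ⧸ I) = d) (E : Type u) [AddCommGroup E] [Module S E] (f : IsLocalRing.ResidueField S →ₗ[S] E) (hf : InjHull.IsInjectiveHull f) : Nonempty ((((Ext S (ModuleCat.{u} S) g).obj (op (ModuleCat.of S (S ⧸ I)))).obj (ModuleCat.of S S) →ₗ[S] E) ≃ₗ[S] LocCoh.H (IsLocalRing.maximalIdeal S) d (S ⧸ I)) := by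
  have hG : LocCoh.IsGorensteinLocalRing S := inferInstance
  obtain ⟨D, hD⟩ := RegLocal.exists_nat_ringKrullDim S
  have hI : I ≠ ⊤ := fun h => by
    subst h
    exact not_nontrivial (S ⧸ (⊤ : Ideal S)) inferInstance
  obtain ⟨P, hP, hIP, hPd⟩ := HLVTLib.exists_prime_dim hI
  rw [hd] at hPd
  have hgd : d + g = D := by
    have h1 := GorLib.height_add_ringKrullDim_quotient hG P
    rw [hPd, hD] at h1
    obtain ⟨a, ha⟩ : ∃ a : ℕ, P.height = a :=
      ENat.ne_top_iff_exists.mp (Ideal.height_ne_top hP.ne_top) |>.imp fun _ hx => hx.symm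
    rw [ha] at h1
    have h1' : a + d = D := by exact_mod_cast h1
    have hle : g ≤ a := by
      have h := Ideal.height_mono hIP
      rw [hg, ha] at h
      exact_mod_cast h
    have hge : (a : ℕ∞) ≤ I.height := by
      rw [Ideal.height_eq_inf_minimalPrimes]
      refine le_iInf₂ fun Q hQ => ?_
      haveI := hQ.1.1
      have h2 := GorLib.height_add_ringKrullDim_quotient hG Q
      obtain ⟨b, hb⟩ : ∃ b : ℕ, Q.height = b :=
        ENat.ne_top_iff_exists.mp (Ideal.height_ne_top hQ.1.1.ne_top) |>.imp fun _ hx => hx.symm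
      rw [hb, hD] at h2
      have h3 : ringKrullDim (S ⧸ Q) ≤ d := hd ▸ HLVTLib.dim_quot_anti hQ.1.2
      obtain ⟨c, hc⟩ := HLVTLib.exists_nat_dim hQ.1.1.ne_top
      rw [hc] at h2 h3
      have h2' : b + c = D := by exact_mod_cast h2
      have h3' : c ≤ d := by exact_mod_cast h3
      rw [hb]
      exact_mod_cast (show a ≤ b by omega)
    rw [hg] at hge
    have hge' : a ≤ g := by exact_mod_cast hge
    omega
  obtain ⟨g₁, hg₁⟩ := GorLib.exists_hull_H hG hD
  obtain ⟨eE, -⟩ := InjHullLib.exists_linearEquiv hf hg₁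
  obtain ⟨eD⟩ := GorLib.local_duality hG hD g d hgd (S ⧸ I)
  let e1 := LocCohLib.extComp (ModuleCat.of S (S ⧸ I)) (ModuleCat.of S S) g
  exact ⟨(e1.arrowCongr eE) ≪≫ₗ eD.symm⟩

end Groth.Agent.S17774
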