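import Groth.Statements.S17779
import Mathlib

set_option autoImplicit false
open DRR

namespace Groth.Agent.S17779

open Polynomial TensorProduct

/-- For natural numbers n and k with k ≤ n + 1, the alternating sum over j = 0, …, n of (−1)^(n−j) C(n,
j) j^k (with the convention 0^0 = 1) equals n! · n(n+1)/2 when k = n + 1, equals n! when k = n, and
vanishes when k < n. (The published statement takes n ≥ 1 and divides through by n!; the case n = 0
holds as well and is included.) -/
theorem result (n k : ℕ) (hk : k ≤ n + 1) :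
    (∑ j ∈ Finset.range (n + 1), (-1 : ℤ) ^ (n - j) * (n.choose j : ℤ) * (j : ℤ) ^ k) =
      (if k = n + 1 then (((n + 1).choose 2 * n.factorial : ℕ) : ℤ)
        else if k = n then (n.factorial : ℤ) else 0) := by
  have e : ∀ (n k : ℕ), (∑ j ∈ Finset.range (n + 1), (-1 : ℤ) ^ (n - j) * (n.choose j : ℤ) * (j : ℤ) ^ k)
      = (fwdDiff (1:ℤ))^[n] (fun r : ℤ => r ^ k) 0 := by
    intro n k; simp [fwdDiff_iter_eq_sum_shift]
  rw [e]
  split_ifs with h1 h2
  · subst h1; clear hk
    induction n with
    | zero => simp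
    | succ n ih =>
      have hd : fwdDiff (1:ℤ) (fun r : ℤ => r ^ (n + 1 + 1)) =
          ∑ i ∈ Finset.range (n + 1 + 1), (n + 1 + 1).choose i • fun r : ℤ => r ^ i := by
        ext x
        simp [nsmul_eq_mul, fwdDiff, add_pow, Finset.sum_range_succ, mul_comm]
      rw [Function.iterate_succ_apply, hd, fwdDiff_iter_finsetSum]
      simp only [fwdDiff_iter_const_smul, Finset.sum_range_succ, Finset.sum_apply, Pi.add_apply, Pi.smul_apply]
      rw [Finset.sum_eq_zero (fun i hi => by
        rw [fwdDiff_iter_pow_eq_zero_of_lt (Finset.mem_range.1 hi), Pi.zero_apply, smul_zero]),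
        fwdDiff_iter_eq_factorial, ih, zero_add, nsmul_eq_mul, nsmul_eq_mul]
      have hc : (n+1+1).choose n = (n+2).choose 2 := by
        rw [← Nat.choose_symm (by omega : n ≤ n+2)]; congr 1; omega
      have hc1 : (n+1+1).choose (n+1) = n + 2 := Nat.choose_succ_self_right _
      have hkey : (n+2) * (n+1).choose 2 + (n+2).choose 2 = (n+2).choose 2 * (n+1) := by
        zify; qify; rw [Nat.cast_choose_two, Nat.cast_choose_two]; push_cast; ring
      rw [hc, hc1, Pi.natCast_apply, Nat.factorial_succ]
      have hkz : ((n:ℤ)+2) * ((n+1).choose 2:ℕ) + ((n+2).choose 2 : ℕ) = ((n+2).choose 2 : ℕ) * ((n:ℤ)+1) := by exact_mod_cast hkey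
      push_cast
      linear_combination (n.factorial : ℤ) * hkz
  · subst h2; rw [fwdDiff_iter_eq_factorial]; simp
  · rw [fwdDiff_iter_pow_eq_zero_of_lt (by omega)]; rfl

end Groth.Agent.S17779
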