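import Groth.Statements.S1778
import Groth.Agent.DualCxLib.FlatDual
-- Template for statement S1778 (row 1777; see the milestone table for weights).
-- Copy to Groth/Agent/S1778.lean and replace the sorry. The statement below is byte-identical to the frozen
-- statement Dual.GrothFrozen.S1778 (Groth/Statements/S1778.lean; the theorem Dual.isDualizing_LBaseChange_flat_iso_mod_ideal);
-- the grader kernel-checks Groth.Agent.S1778.result against that frozen type. Keep the theorem IN THIS FILE
-- (a `result` declared elsewhere and merely imported here is not credited); helpers may live anywhere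
-- under Groth/Agent/.
-- helpers: DualCxLib

set_option autoImplicit false
universe u
open CategoryTheory
attribute [local instance] HasDerivedCategory.standard
open Dual Groth.Agent.DualCxLib

namespace Groth.Agent.S1778

/-- Let A → B be a flat homomorphism of Noetherian rings and I an ideal of A such that A → B/IB is
surjective with kernel I (so A/I = B/IB) and IB lies in the Jacobson radical of B. Assuming the
derived base change functor D(A) → D(B) exists, the base change of a dualizing complex ω of A is a
dualizing complex for B. -/
theorem result (A B : Type u) [CommRing A] [CommRing B] [Algebra A B] [IsNoetherianRing A] [IsNoetherianRing B] [Module.Flat A B] (I : Ideal A) (hs : Function.Surjective ((Ideal.Quotient.mk (I.map (algebraMap A B))).comp (algebraMap A B))) (hk : RingHom.ker ((Ideal.Quotient.mk (I.map (algebraMap A B))).comp (algebraMap A B)) = I) (hJ : I.map (algebraMap A B) ≤ (⊥ : Ideal B).jacobson) [DRing.HasLBaseChange (algebraMap A B)] (ω : Dual.D A) (hω : Dual.IsDualizing A ω) : Dual.IsDualizing B ((DRing.LBaseChange (algebraMap A B)).obj ω) := by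
  refine isDualizing_bcD_of_maximal A B hω fun n hn =>
    ⟨n.comap (algebraMap A B), le_antisymm Ideal.map_comap_le fun b hb => ?_⟩
  have hI : I.map (algebraMap A B) ≤ n := hJ.trans (sInf_le ⟨bot_le, hn⟩)
  obtain ⟨a, ha⟩ := hs (Ideal.Quotient.mk _ b)
  have h1 : b - algebraMap A B a ∈ I.map (algebraMap A B) := Ideal.Quotient.eq.1 ha.symm
  have h2 : algebraMap A B a ∈ n := by simpa using n.sub_mem hb (hI h1)
  have h3 : I ≤ n.comap (algebraMap A B) := Ideal.map_le_iff_le_comap.1 hI
  rw [show b = (b - algebraMap A B a) + algebraMap A B a by ring]
  exact Ideal.add_mem _ (Ideal.map_mono h3 h1) (Ideal.mem_map_of_mem _ (Ideal.mem_comap.2 h2))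

end Groth.Agent.S1778
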