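import Groth.Statements.S17780
import Mathlib
import Groth.Agent.S17779

set_option autoImplicit false
universe u
open DRR

namespace Groth.Agent.S17780

open Polynomial TensorProduct

/-- For x, y in a commutative ring and a natural number n, (n+1)! · x · y^n equals the sum over j = 0,
…, n of (−1)^(n−j) C(n, j) (x + j y)^(n+1), minus (n · (n+1)!/2) · y^(n+1). (The published identity
is stated in ℚ[x, y] with an overall factor 1/(n+1) and the coefficients C(n, j)(−1)^(n−j)/n!; it is
given here multiplied through by (n+1)!, which makes it an identity with integer coefficients valid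
in every commutative ring; n · (n+1)!/2 is an integer.) -/
theorem result (A : Type u) [CommRing A] (x y : A) (n : ℕ) :
    ((n + 1).factorial : A) * x * y ^ n =
      (∑ j ∈ Finset.range (n + 1), (-1 : A) ^ (n - j) * (n.choose j : A) * (x + (j : A) * y) ^ (n + 1))
        - ((n * (n + 1).factorial / 2 : ℕ) : A) * y ^ (n + 1) := by
  have key : ∀ i ≤ n + 1, (∑ j ∈ Finset.range (n + 1), (-1 : A) ^ (n - j) * (n.choose j : A) * (j : A) ^ i) =
      (if i = n + 1 then (((n + 1).choose 2 * n.factorial : ℕ) : A)
        else if i = n then (n.factorial : A) else 0) := by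
    intro i hi
    have := congrArg (Int.cast : ℤ → A) (Groth.Agent.S17779.result n i hi)
    split_ifs at this ⊢ <;> simpa using this
  have e : (n * (n + 1).factorial / 2 : ℕ) = (n + 1).choose 2 * n.factorial := by
    apply Nat.div_eq_of_eq_mul_left two_pos
    have : (n+1).choose 2 * 2 = (n+1) * n := by
      zify; qify; rw [Nat.cast_choose_two]; push_cast; ring
    rw [Nat.factorial_succ]; nlinarith [this]
  simp_rw [add_comm x, add_pow, Finset.mul_sum]
  rw [Finset.sum_comm, Finset.sum_range_succ, Finset.sum_range_succ]
  have h : ∀ i ≤ n + 1, ∑ j ∈ Finset.range (n+1), (-1 : A) ^ (n - j) * (n.choose j : A) * (((j:A) * y) ^ i * x ^ (n+1-i) * ((n+1).choose i : A)) =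
      (if i = n + 1 then (((n + 1).choose 2 * n.factorial : ℕ) : A)
        else if i = n then (n.factorial : A) else 0) * (y ^ i * x ^ (n+1-i) * ((n+1).choose i : A)) := by
    intro i hi
    rw [← key i hi, Finset.sum_mul]
    exact Finset.sum_congr rfl fun j _ => by rw [mul_pow]; ring
  rw [h n (by omega), h (n+1) le_rfl, Finset.sum_eq_zero (fun i hi => by
    rw [h i (by have := Finset.mem_range.1 hi; omega), if_neg (by have := Finset.mem_range.1 hi; omega),
      if_neg (by have := Finset.mem_range.1 hi; omega), zero_mul])]
  rw [if_pos rfl, if_neg (by omega), if_pos rfl, Nat.choose_succ_self_right, Nat.choose_self,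
    show n + 1 - n = 1 by omega, Nat.sub_self, e, Nat.factorial_succ]
  push_cast; ring

end Groth.Agent.S17780
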