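import Groth.Statements.S17781
import Mathlib

set_option autoImplicit false
open Variety

namespace Groth.Agent.S17781

open CategoryTheory CategoryTheory.Limits AlgebraicGeometry

theorem coprime_choose_sub_one {p : ℕ} (hp : p.Prime) {a d : ℕ} (hd : p ^ a ∣ d) (hd0 : 0 < d) :
    ∀ k, k < p ^ a → ¬ p ∣ (d - 1).choose k := by
  intro k
  induction k with
  | zero => intro _; simpa using hp.one_lt.ne'
  | succ k ih =>
    intro hk
    have hdvd : p ∣ d.choose (k + 1) := by
      by_contra h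
      obtain ⟨d', rfl⟩ : ∃ d', d = d' + 1 := ⟨d - 1, by omega⟩
      have h1 : p ^ a ∣ (k + 1) * (d' + 1).choose (k + 1) := by
        rw [mul_comm (k + 1), ← Nat.add_one_mul_choose_eq]
        exact hd.mul_right _
      have := Nat.le_of_dvd (Nat.succ_pos k) (((Nat.Coprime.pow_left a ((Nat.Prime.coprime_iff_not_dvd hp).2 h))).dvd_of_dvd_mul_right h1)
      omega
    intro hcon
    obtain ⟨d', rfl⟩ : ∃ d', d = d' + 1 := ⟨d - 1, by omega⟩
    rw [Nat.add_sub_cancel] at hcon ih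
    rw [Nat.choose_succ_succ'] at hdvd
    exact ih (by omega) ((Nat.dvd_add_left hcon).1 hdvd)

theorem dvd_div_of_forall {d N g δ : ℕ} (hd0 : 0 < d) (hδ : δ ∣ d) (hδ0 : 0 < δ) (hδN : δ ≤ N)
    (hg : ∀ n, 1 ≤ n → n ≤ N → g ∣ d.choose n) : g ∣ d / δ := by
  have hg0 : g ≠ 0 := fun h => by
    have := hg 1 le_rfl (by omega)
    rw [h, Nat.choose_one_right, zero_dvd_iff] at this
    omega
  have hq : d / δ ≠ 0 := (Nat.div_pos (Nat.le_of_dvd hd0 hδ) hδ0).ne'
  rw [← Nat.factorization_le_iff_dvd hg0 hq]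
  intro p
  by_cases hp : p.Prime
  · haveI := Fact.mk hp
    rw [Nat.factorization_div hδ, Finsupp.tsub_apply]
    set a := δ.factorization p with ha
    have hpa : p ^ a ∣ δ := Nat.ordProj_dvd δ p
    have hle : p ^ a ≤ N := (Nat.le_of_dvd hδ0 hpa).trans hδN
    have hpa0 : 0 < p ^ a := pow_pos hp.pos a
    have hC : 0 < d.choose (p ^ a) := Nat.choose_pos ((Nat.le_of_dvd hδ0 hpa).trans (Nat.le_of_dvd hd0 hδ))
    have h1 : (g.factorization p : ℕ) ≤ (d.choose (p ^ a)).factorization p :=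
      (Nat.factorization_le_iff_dvd hg0 hC.ne').2 (hg _ hpa0 hle) p
    have heq : (d.choose (p ^ a)) * p ^ a = d * (d - 1).choose (p ^ a - 1) := by
      obtain ⟨d', rfl⟩ : ∃ d', d = d' + 1 := ⟨d - 1, by omega⟩
      obtain ⟨k, hk⟩ : ∃ k, p ^ a = k + 1 := ⟨p ^ a - 1, by omega⟩
      rw [hk, Nat.add_sub_cancel, Nat.add_sub_cancel, Nat.add_one_mul_choose_eq]
    have hnd : ¬ p ∣ (d - 1).choose (p ^ a - 1) := coprime_choose_sub_one hp (hpa.trans hδ) hd0 _ (by omega)
    have hne : (d - 1).choose (p ^ a - 1) ≠ 0 := fun h => hnd (h ▸ dvd_zero p)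
    have h2 := congrArg (fun n => n.factorization p) heq
    simp only [Nat.factorization_mul hC.ne' hpa0.ne', Nat.factorization_mul hd0.ne' hne, Finsupp.add_apply,
      Nat.factorization_eq_zero_of_not_dvd hnd, hp.factorization_pow, Finsupp.single_eq_same, add_zero] at h2
    omega
  · simp [Nat.factorization_eq_zero_of_not_prime _ hp]


/-- Let d ≥ 1 and N ≥ 1 be integers and let I(d, N) be the greatest common divisor of the quotients d/δ
over the divisors δ of d with 1 ≤ δ ≤ N. Then I(d, N) equals the greatest common divisor of the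
integers χ(d, n) = 1 − (−1)^n C(d − 1, n) for 1 ≤ n ≤ N (χ(d, n) is the Euler characteristic of O_H
for a degree-d hypersurface H in projective n-space). Both greatest common divisors are taken in ℤ,
normalised to be non-negative. -/
theorem result (d N : ℕ) (hd : 1 ≤ d) (hN : 1 ≤ N) :
    (Finset.Icc 1 N).gcd (fun n => 1 - (-1 : ℤ) ^ n * ((d - 1).choose n : ℤ)) =
      ((Finset.Icc 1 N).filter (fun δ => δ ∣ d)).gcd (fun δ => ((d / δ : ℕ) : ℤ)) := by
  have hstep : ∀ n : ℕ, ((1 : ℤ) - (-1) ^ (n + 1) * ((d - 1).choose (n + 1) : ℤ)) -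
      (1 - (-1) ^ n * ((d - 1).choose n : ℤ)) = (-1) ^ n * (d.choose (n + 1) : ℤ) := fun n => by
    have h : d.choose (n + 1) = (d - 1).choose n + (d - 1).choose (n + 1) := by
      rw [← Nat.choose_succ_succ', Nat.sub_add_cancel hd]
    rw [h]
    push_cast
    ring
  set G := (Finset.Icc 1 N).gcd (fun n => 1 - (-1 : ℤ) ^ n * ((d - 1).choose n : ℤ))
  set H := ((Finset.Icc 1 N).filter (fun δ => δ ∣ d)).gcd (fun δ => ((d / δ : ℕ) : ℤ))
  have hG : ∀ n ≤ N, G ∣ 1 - (-1 : ℤ) ^ n * ((d - 1).choose n : ℤ) := fun n hn => by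
    rcases Nat.eq_zero_or_pos n with rfl | h
    · simp
    · exact Finset.gcd_dvd (Finset.mem_Icc.2 ⟨h, hn⟩)
  have hGC : ∀ n, 1 ≤ n → n ≤ N → G ∣ (d.choose n : ℤ) := fun n h1 h2 => by
    obtain ⟨m, rfl⟩ : ∃ m, n = m + 1 := ⟨n - 1, by omega⟩
    have := hstep m ▸ dvd_sub (hG (m + 1) h2) (hG m (by omega))
    exact (IsUnit.dvd_mul_left (IsUnit.pow m isUnit_one.neg)).1 this
  have hHC : ∀ n, 1 ≤ n → n ≤ N → H ∣ (d.choose n : ℤ) := fun n h1 h2 => by
    refine dvd_trans (Finset.gcd_dvd (s := (Finset.Icc 1 N).filter (fun δ => δ ∣ d)) (b := Nat.gcd d n) ?_) ?_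
    · refine Finset.mem_filter.2 ⟨Finset.mem_Icc.2 ⟨Nat.gcd_pos_of_pos_left _ (by omega), ?_⟩, Nat.gcd_dvd_left _ _⟩
      exact (Nat.gcd_le_right d h1).trans h2
    · rw [Int.natCast_dvd_natCast]
      obtain ⟨d', n', hco, hd', hn'⟩ := Nat.exists_coprime d n
      have hg0 : 0 < Nat.gcd d n := Nat.gcd_pos_of_pos_left _ (by omega)
      have hquot : d / Nat.gcd d n = d' := Nat.div_eq_of_eq_mul_left hg0 hd'
      rw [hquot]
      obtain ⟨e, he⟩ : ∃ e, d = e + 1 := ⟨d - 1, by omega⟩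
      obtain ⟨m, hm⟩ : ∃ m, n = m + 1 := ⟨n - 1, by omega⟩
      have h3 : d * (d - 1).choose (n - 1) = d.choose n * n := by
        subst he hm
        simpa using Nat.add_one_mul_choose_eq e m
      refine hco.dvd_of_dvd_mul_right ?_
      refine Nat.dvd_of_mul_dvd_mul_right hg0 ?_
      rw [← hd', mul_assoc, ← hn', ← h3]
      exact dvd_mul_right _ _
  have hHG : H ∣ G := by
    refine Finset.dvd_gcd fun n hn => ?_
    have hn2 := (Finset.mem_Icc.1 hn).2
    clear hn
    induction n with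
    | zero => simp
    | succ m ih =>
      have h := dvd_add (dvd_mul_of_dvd_right (hHC (m + 1) (by omega) hn2) ((-1 : ℤ) ^ m)) (ih (by omega))
      rwa [← hstep m, sub_add_cancel] at h
  have hGH : G ∣ H := by
    refine Finset.dvd_gcd fun δ hδ => ?_
    obtain ⟨hδ1, hδd⟩ := Finset.mem_filter.1 hδ
    rw [Finset.mem_Icc] at hδ1
    rw [← Int.natAbs_dvd, Int.natCast_dvd_natCast]
    exact dvd_div_of_forall (by omega) hδd hδ1.1 hδ1.2 fun n h1 h2 => by
      rw [← Int.natCast_dvd_natCast, Int.natAbs_dvd]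
      exact hGC n h1 h2
  exact dvd_antisymm_of_normalize_eq Finset.normalize_gcd Finset.normalize_gcd hGH hHG

end Groth.Agent.S17781
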