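import Groth.Statements.S17785
import Mathlib

set_option autoImplicit false
universe u
open Variety

namespace Groth.Agent.S17785

open CategoryTheory CategoryTheory.Limits AlgebraicGeometry

open scoped WithZero in
/-- Two terms of a vanishing sum have the same valuation, which forces a divisibility. -/
lemma dvd_of_equation {L : Type u} [Field L] (w : Valuation L ℤᵐ⁰) (t : L) (e d q N : ℕ)
    (ht : w t = WithZero.exp (-(e : ℤ))) (hd : 1 ≤ d) (z : Fin (N + 1) → L) (hz : z ≠ 0)
    (h : z 0 ^ d = ∑ i : Fin N, t ^ (((i : ℕ) + 1) * q) * z i.succ ^ d) :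
    ((Finset.Icc 1 N).filter (fun δ => δ ∣ d)).gcd (fun δ => d / δ) ∣ q * e := by
  classical
  let c : Fin (N + 1) → L := Fin.cons (-(z 0 ^ d)) (fun i : Fin N => t ^ (((i : ℕ) + 1) * q) * z i.succ ^ d)
  have hsum : ∑ i, c i = 0 := by
    rw [Fin.sum_univ_succ]
    simp only [c, Fin.cons_zero, Fin.cons_succ]
    rw [← h, neg_add_cancel]
  have hw : ∀ i, z i ≠ 0 → ∃ a : ℤ, w (c i) = WithZero.exp (-((i : ℕ) * q * e : ℤ) + d * a) := by
    intro i hi
    obtain ⟨a, ha⟩ : ∃ a : ℤ, w (z i) = WithZero.exp a :=
      ⟨WithZero.log (w (z i)), (WithZero.exp_log (w.ne_zero_iff.2 hi)).symm⟩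
    refine ⟨a, ?_⟩
    cases i using Fin.cases with
    | zero =>
      simp only [c, Fin.cons_zero, Valuation.map_neg, map_pow, ha, ← WithZero.exp_nsmul]
      simp
    | succ i =>
      simp only [c, Fin.cons_succ, map_mul, map_pow, ht, ha, ← WithZero.exp_nsmul, ← WithZero.exp_add]
      rw [Fin.val_succ]
      congr 1
      simp
  obtain ⟨i, j, hlt, hzi, hzj, hij⟩ : ∃ i j : Fin (N + 1), (i : ℕ) < j ∧ z i ≠ 0 ∧ z j ≠ 0 ∧ w (c i) = w (c j) := by
    have hs : (Finset.univ.filter fun i => z i ≠ 0).Nonempty := by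
      obtain ⟨i, hi⟩ : ∃ i, z i ≠ 0 := by
        by_contra! hc
        exact hz (funext hc)
      exact ⟨i, by simp [hi]⟩
    obtain ⟨i, hi, hmax⟩ := Finset.exists_max_image _ (fun i => w (c i)) hs
    rw [Finset.mem_filter] at hi
    by_contra! hcon
    have hne : ∀ j, j ≠ i → w (c j) < w (c i) := by
      intro j hj
      by_cases hzj : z j = 0
      · have hcj : c j = 0 := by
          cases j using Fin.cases <;> simp [c, hzj, zero_pow (by omega : d ≠ 0)]
        obtain ⟨a, ha⟩ := hw i hi.2
        rw [hcj, map_zero, ha]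
        exact WithZero.exp_pos
      · refine lt_of_le_of_ne (hmax j (by simp [hzj])) fun he => ?_
        rcases lt_or_gt_of_ne (Fin.val_ne_iff.2 hj) with hl | hl
        · exact hcon j i hl hzj hi.2 he
        · exact hcon i j hl hi.2 hzj he.symm
    have := w.map_sum_eq_of_lt (Finset.mem_univ i) (f := c) (fun j hj => hne j (by simpa using hj))
    rw [hsum, map_zero] at this
    obtain ⟨a, ha⟩ := hw i hi.2
    rw [ha] at this
    exact WithZero.exp_pos.ne this
  obtain ⟨a, ha⟩ := hw i hzi
  obtain ⟨b, hb⟩ := hw j hzj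
  rw [ha, hb, WithZero.exp_inj] at hij
  have hdvd : d ∣ ((j : ℕ) - i) * (q * e) := by
    rw [← Int.natCast_dvd_natCast]
    refine ⟨b - a, ?_⟩
    push_cast [Nat.cast_sub hlt.le]
    linear_combination hij
  have hδ : 0 < (j : ℕ) - i := by omega
  have hg0 : 0 < Nat.gcd d ((j : ℕ) - i) := Nat.gcd_pos_of_pos_right _ hδ
  refine (Finset.gcd_dvd (f := fun δ => d / δ) (b := Nat.gcd d ((j : ℕ) - i)) ?_).trans ?_
  · simp only [Finset.mem_filter, Finset.mem_Icc]
    exact ⟨⟨hg0, (Nat.le_of_dvd hδ (Nat.gcd_dvd_right _ _)).trans (by omega)⟩, Nat.gcd_dvd_left _ _⟩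
  · refine (Nat.coprime_div_gcd_div_gcd hg0).dvd_of_dvd_mul_left
      (Nat.dvd_of_mul_dvd_mul_left hg0 ?_)
    rw [Nat.mul_div_cancel' (Nat.gcd_dvd_left _ _), ← mul_assoc, Nat.mul_div_cancel' (Nat.gcd_dvd_right _ _)]
    exact hdvd

lemma dvd_finrank (R : Type u) [CommRing R] [IsDomain R]
    [IsDiscreteValuationRing R] (K : Type u) [Field K] [Algebra R K] [IsFractionRing R K]
    (ϖ : R) (hϖ : Irreducible ϖ) (d N : ℕ) (hd : 1 ≤ d) (L : Type u) [Field L] [Algebra K L]
    [FiniteDimensional K L] (x : Fin (N + 1) → L) (hx : x ≠ 0)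
    (h : x 0 ^ d = ∑ i : Fin N, algebraMap K L (algebraMap R K (ϖ ^ ((i : ℕ) + 1))) * x i.succ ^ d) :
    ((Finset.Icc 1 N).filter (fun δ => δ ∣ d)).gcd (fun δ => d / δ) ∣ Module.finrank K L := by
  classical
  let p := ringExpChar K
  let S := separableClosure K L
  haveI : ExpChar S p := expChar_of_injective_algebraMap (algebraMap K S).injective p
  haveI : ExpChar L p := expChar_of_injective_algebraMap (algebraMap K L).injective p
  obtain ⟨k, hk⟩ := IsPurelyInseparable.finrank_eq_pow S L p
  have hmem : ∀ y : L, y ^ p ^ k ∈ (algebraMap S L).range := by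
    intro y
    haveI : IsPurelyInseparable S L := separableClosure.isPurelyInseparable K L
    have hdvd := minpoly.degree_dvd (K := S) (x := y) (Algebra.IsIntegral.isIntegral y)
    rw [IsPurelyInseparable.minpoly_eq' S p y, Polynomial.natDegree_X_pow_sub_C, hk] at hdvd
    have hpow : y ^ p ^ IsPurelyInseparable.elemExponent S y ∈ (algebraMap S L).range := by
      have h := minpoly.aeval S y
      rw [IsPurelyInseparable.minpoly_eq' S p y, map_sub, map_pow, Polynomial.aeval_X, Polynomial.aeval_C, sub_eq_zero] at h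
      exact ⟨_, h.symm⟩
    obtain ⟨c, hc⟩ := hdvd
    rw [hc, pow_mul]
    exact pow_mem hpow _
  choose z hz using hmem
  let t : S := algebraMap K S (algebraMap R K ϖ)
  have heq : (z (x 0)) ^ d = ∑ i : Fin N, t ^ (((i : ℕ) + 1) * p ^ k) * (z (x i.succ)) ^ d := by
    refine (algebraMap S L).injective ?_
    simp only [map_pow, map_sum, map_mul, hz]
    rw [← pow_mul, mul_comm (p ^ k) d, pow_mul, h, sum_pow_char_pow]
    refine Finset.sum_congr rfl fun i _ => ?_
    rw [mul_pow, ← pow_mul, ← pow_mul, mul_comm d, map_pow, map_pow, ← pow_mul]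
    rfl
  have hz0 : (fun i => z (x i)) ≠ 0 := fun h0 => hx (funext fun i => by
    have h1 := hz (x i)
    rw [show z (x i) = 0 from congr_fun h0 i, map_zero] at h1
    exact eq_zero_of_pow_eq_zero h1.symm)
  letI : Algebra R S := ((algebraMap K S).comp (algebraMap R K)).toAlgebra
  haveI : IsScalarTower R K S := IsScalarTower.of_algebraMap_eq fun _ => rfl
  haveI : Module.IsTorsionFree R S := Module.isTorsionFree_iff_algebraMap_injective.2 fun a b hab =>
    IsFractionRing.injective R K ((algebraMap K S).injective hab)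
  let B := integralClosure R S
  haveI : IsDedekindDomain B := integralClosure.isDedekindDomain R K S
  haveI : Module.Finite R B := IsIntegralClosure.finite R K S B
  haveI : IsFractionRing B S := integralClosure.isFractionRing_of_finite_extension K S
  haveI : Module.IsTorsionFree R B := Module.isTorsionFree_iff_algebraMap_injective.2 fun a b hab =>
    IsFractionRing.injective R K ((algebraMap K S).injective (congr_arg Subtype.val hab))
  haveI : Module.Flat R B := inferInstance
  let m : Ideal R := IsLocalRing.maximalIdeal R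
  haveI : Finite (m.primesOver B) := (IsDedekindDomain.primesOver_finite m B).to_subtype
  letI := Fintype.ofFinite (m.primesOver B)
  have hB : Module.finrank R B = Module.finrank K S := IsIntegralClosure.rank R K S B
  rw [← Module.finrank_mul_finrank K S L, hk, ← hB, ← Ideal.sum_ramification_inertia_eq_finrank m B, Finset.sum_mul]
  refine Finset.dvd_sum fun P _ => ?_
  haveI : P.1.IsPrime := P.2.1
  haveI : P.1.LiesOver m := P.2.2
  have hmap : m.map (algebraMap R B) = Ideal.span {algebraMap R B ϖ} := by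
    rw [show m = Ideal.span {ϖ} from (IsDiscreteValuationRing.irreducible_iff_uniformizer ϖ).1 hϖ, Ideal.map_span,
      Set.image_singleton]
  have hπ0 : algebraMap R B ϖ ≠ 0 := (map_ne_zero_iff _ (FaithfulSMul.algebraMap_injective R B)).2 hϖ.ne_zero
  have hmap0 : m.map (algebraMap R B) ≠ ⊥ := by rw [hmap, Ne, Ideal.span_singleton_eq_bot]; exact hπ0
  let v : IsDedekindDomain.HeightOneSpectrum B :=
    ⟨P.1, inferInstance, ne_bot_of_le_ne_bot hmap0 (Ideal.map_le_of_le_comap (P.1.over_def m).le)⟩
  have ht : v.valuation S t = WithZero.exp (-(P.1.ramificationIdx R : ℤ)) := by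
    rw [show t = algebraMap B S (algebraMap R B ϖ) from rfl, v.valuation_of_algebraMap,
      v.intValuation_eq_exp_neg_multiplicity hπ0, ← hmap, Ideal.IsDedekindDomain.ramificationIdx_eq_multiplicity m P.1 hmap0]
  refine (dvd_of_equation (v.valuation S) t _ d (p ^ k) N ht hd _ hz0 heq).trans ?_
  exact ⟨P.1.inertiaDeg R, by ring⟩


/-- Let R be a discrete valuation ring with fraction field K and uniformizer π, and let d, N ≥ 1.
Consider the hypersurface X in projective N-space over K defined by x_0^d = π x_1^d + π^2 x_2^d + ⋯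
+ π^N x_N^d. Its index over K — the greatest common divisor of the degrees of its closed points,
equivalently of the degrees [L : K] of the finite field extensions L over which the equation has a
non-zero solution — equals I(d, N), the greatest common divisor of the quotients d/δ over the
divisors δ of d with 1 ≤ δ ≤ N. Stated as an equality of subgroups of ℤ: the subgroup generated by
those degrees [L : K] is the subgroup generated by I(d, N). -/
theorem result (R : Type u) [CommRing R] [IsDomain R]
    [IsDiscreteValuationRing R] (K : Type u) [Field K] [Algebra R K] [IsFractionRing R K]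
    (ϖ : R) (hϖ : Irreducible ϖ) (d N : ℕ) (hd : 1 ≤ d) (hN : 1 ≤ N) :
    AddSubgroup.closure {m : ℤ | ∃ (L : Type u) (_ : Field L) (_ : Algebra K L),
        FiniteDimensional K L ∧ m = (Module.finrank K L : ℤ) ∧
        ∃ x : Fin (N + 1) → L, x ≠ 0 ∧
          x 0 ^ d = ∑ i : Fin N, algebraMap K L (algebraMap R K (ϖ ^ ((i : ℕ) + 1))) * x i.succ ^ d} =
      AddSubgroup.zmultiples ((((Finset.Icc 1 N).filter (fun δ => δ ∣ d)).gcd (fun δ => d / δ) : ℕ) : ℤ) := by
  classical
  refine le_antisymm ((AddSubgroup.closure_le _).2 ?_) ?_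
  · rintro _ ⟨L, _, _, hfin, rfl, x, hx, h⟩
    rw [SetLike.mem_coe, Int.mem_zmultiples_iff, Int.natCast_dvd_natCast]
    exact dvd_finrank R K ϖ hϖ d N hd L x hx h
  · obtain ⟨a, ha⟩ := Int.subgroup_cyclic (AddSubgroup.closure {m : ℤ | ∃ (L : Type u) (_ : Field L) (_ : Algebra K L),
        FiniteDimensional K L ∧ m = (Module.finrank K L : ℤ) ∧
        ∃ x : Fin (N + 1) → L, x ≠ 0 ∧
          x 0 ^ d = ∑ i : Fin N, algebraMap K L (algebraMap R K (ϖ ^ ((i : ℕ) + 1))) * x i.succ ^ d})
    rw [AddSubgroup.zmultiples_le, ha, ← AddSubgroup.zmultiples_eq_closure, Int.mem_zmultiples_iff, Int.dvd_natCast]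
    refine Finset.dvd_gcd fun δ hδ => ?_
    simp only [Finset.mem_filter, Finset.mem_Icc] at hδ
    obtain ⟨⟨hδ1, hδN⟩, hδd⟩ := hδ
    rw [← Int.dvd_natCast, ← Int.mem_zmultiples_iff, AddSubgroup.zmultiples_eq_closure, ← ha]
    refine AddSubgroup.subset_closure ?_
    have hm : 0 < d / δ := Nat.div_pos (Nat.le_of_dvd hd hδd) hδ1
    let f : Polynomial R := Polynomial.X ^ (d / δ) - Polynomial.C ϖ
    have hf : f.Monic := Polynomial.monic_X_pow_sub_C ϖ hm.ne'
    have hdeg : f.natDegree = d / δ := Polynomial.natDegree_X_pow_sub_C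
    have hirr : Irreducible f := by
      have hprime : (Ideal.span {ϖ}).IsPrime := (Ideal.span_singleton_prime hϖ.ne_zero).2 hϖ.prime
      refine Polynomial.IsEisensteinAt.irreducible ⟨?_, fun {n} hn => ?_, ?_⟩ hprime hf.isPrimitive (by omega)
      · rw [hf.leadingCoeff]
        exact fun h1 => hprime.ne_top ((Ideal.eq_top_iff_one _).2 h1)
      · rw [hdeg] at hn
        simp only [f, Polynomial.coeff_sub, Polynomial.coeff_X_pow, if_neg hn.ne, Polynomial.coeff_C, zero_sub]
        split_ifs
        · exact neg_mem (Ideal.mem_span_singleton_self _)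
        · simp
      · simp only [f, Polynomial.coeff_sub, Polynomial.coeff_X_pow, if_neg hm.ne, Polynomial.coeff_C_zero, zero_sub,
          neg_mem_iff, Ideal.span_singleton_pow, Ideal.mem_span_singleton]
        intro h2
        exact hϖ.not_isUnit (isUnit_of_dvd_one ((mul_dvd_mul_iff_left hϖ.ne_zero).1 (by rwa [mul_one, ← sq])))
    haveI : Fact (Irreducible (f.map (algebraMap R K))) :=
      ⟨hf.isPrimitive.irreducible_iff_irreducible_map_fraction_map.1 hirr⟩
    have hf' := hf.map (algebraMap R K)
    refine ⟨AdjoinRoot (f.map (algebraMap R K)), inferInstance, inferInstance,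
      (AdjoinRoot.powerBasis hf'.ne_zero).finite, ?_,
      Function.update (Pi.single (⟨δ, by omega⟩ : Fin (N + 1)) 1) 0 (AdjoinRoot.root _), ?_, ?_⟩
    · rw [(AdjoinRoot.powerBasis hf'.ne_zero).finrank, AdjoinRoot.powerBasis_dim, hf.natDegree_map, hdeg]
    · intro h0
      have := congr_fun h0 (⟨δ, by omega⟩ : Fin (N + 1))
      rw [Function.update_of_ne (fun e => by simp [Fin.ext_iff] at e; omega), Pi.single_eq_same] at this
      exact one_ne_zero this
    · have hroot := AdjoinRoot.eval₂_root (f.map (algebraMap R K))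
      simp only [f, Polynomial.map_sub, Polynomial.map_pow, Polynomial.map_X, Polynomial.map_C, Polynomial.eval₂_sub,
        Polynomial.eval₂_X_pow, Polynomial.eval₂_C, sub_eq_zero] at hroot
      rw [Function.update_self, Finset.sum_eq_single (⟨δ - 1, by omega⟩ : Fin N)]
      · have hs : (⟨δ - 1, by omega⟩ : Fin N).succ = (⟨δ, by omega⟩ : Fin (N + 1)) := Fin.ext (by simp; omega)
        rw [hs, Function.update_of_ne (fun e => by simp [Fin.ext_iff] at e; omega), Pi.single_eq_same, one_pow, mul_one]
        conv_lhs => rw [← Nat.div_mul_cancel hδd, pow_mul, hroot]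
        simp only [map_pow, Nat.sub_add_cancel hδ1]
        rfl
      · intro i _ hi
        rw [Function.update_of_ne i.succ_ne_zero, Pi.single_eq_of_ne, zero_pow (by omega), mul_zero]
        exact fun e => hi (Fin.ext (by simp [Fin.ext_iff] at e; simp; omega))
      · exact fun hc => absurd (Finset.mem_univ _) hc

end Groth.Agent.S17785
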