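import Groth.Statements.S17789
import Groth.Agent.LeffEtLib.Equiv
import Groth.Agent.S0239
-- import your own Groth.Agent.* helpers here

set_option autoImplicit false
set_option backward.isDefEq.respectTransparency false
set_option linter.style.haveILetI false
universe u
open CategoryTheory CategoryTheory.Limits AlgebraicGeometry
open Pi1

namespace Groth.Agent.S17789

/-- A local scheme and an open containing the closed point. -/
theorem eq_top_of_closedPoint_mem (B : Type u) [CommRing B] [IsLocalRing B]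
    (V : (Spec (CommRingCat.of B)).Opens) (h : IsLocalRing.closedPoint B ∈ V) : V = ⊤ := by
  refine top_le_iff.mp fun x _ => Specializes.mem_open ?_ V.isOpen h
  rw [← PrimeSpectrum.le_iff_specializes]
  exact IsLocalRing.le_maximalIdeal x.isPrime.ne_top

/-- For a local scheme, purity of the pair with the closed point reduces to the whole space. -/
theorem isPurePair_punctured (B : Type u) [CommRing B] [IsLocalRing B]
    (h : (FEt.restrict (FEt.puncturedSpec B).ι).IsEquivalence) :
    SGA2.IsPurePair (Spec (CommRingCat.of B)) (FEt.puncturedSpec B) := by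
  intro V
  by_cases hc : IsLocalRing.closedPoint B ∈ V
  · obtain rfl := eq_top_of_closedPoint_mem B V hc
    let j := (Spec (CommRingCat.of B)).homOfLE (inf_le_left : ⊤ ⊓ FEt.puncturedSpec B ≤ ⊤)
    haveI : IsIso (⊤ : (Spec (CommRingCat.of B)).Opens).ι := (Spec (CommRingCat.of B)).topIso.isIso_hom
    haveI := S0289.result (⊤ : (Spec (CommRingCat.of B)).Opens).ι
    have h' : ∀ W, W = FEt.puncturedSpec B → (FEt.restrict W.ι).IsEquivalence := by
      rintro W rfl; exact h
    haveI := h' _ (top_inf_eq (FEt.puncturedSpec B))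
    haveI : (FEt.restrict (⊤ : (Spec (CommRingCat.of B)).Opens).ι ⋙ FEt.restrict j).IsEquivalence :=
      Functor.isEquivalence_of_iso ((eqToIso (by rw [Scheme.homOfLE_ι])) ≪≫
        PropPi1.restrictCompIso j (⊤ : (Spec (CommRingCat.of B)).Opens).ι)
    exact Functor.isEquivalence_of_comp_left (FEt.restrict (⊤ : (Spec (CommRingCat.of B)).Opens).ι) (FEt.restrict j)
  · have hle : V ≤ FEt.puncturedSpec B := fun x hx => fun e => hc (e ▸ hx)
    haveI : IsIso ((Spec (CommRingCat.of B)).homOfLE (inf_le_left : V ⊓ FEt.puncturedSpec B ≤ V)) :=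
      ⟨(Spec (CommRingCat.of B)).homOfLE (le_inf le_rfl hle),
        by rw [Scheme.homOfLE_homOfLE, Scheme.homOfLE_rfl],
        by rw [Scheme.homOfLE_homOfLE, Scheme.homOfLE_rfl]⟩
    exact S0289.result _

/-- Let A be a Noetherian local ring and I an ideal for which A is I-adically complete and A/I is local;
write X = Spec A, Y = V(I) and U for the punctured spectrum. Suppose that the effective Lefschetz
condition Leff(U, U ∩ Y) holds and that for every open V of X containing U ∩ Y the pair (X, X − V)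
is pure (restriction of finite étale covers from any open W of X to W ∩ V is an equivalence). Then
A/I is pure: the pair formed by Spec(A/I) and its closed point is pure. -/
theorem result (A : Type u) [CommRing A] [IsLocalRing A] [IsNoetherianRing A] (I : Ideal A) [IsAdicComplete I A] [IsLocalRing (A ⧸ I)] (hleff : LefX.LeffCond (↑(FEt.puncturedSpec A) : Scheme.{u}) ((Spec.map (CommRingCat.ofHom (Ideal.Quotient.mk I))).ker.comap (FEt.puncturedSpec A).ι)) (hpure : ∀ V : (Spec (CommRingCat.of A)).Opens, ((Spec.map (CommRingCat.ofHom (Ideal.Quotient.mk I))).ker.support : Set ↥(Spec (CommRingCat.of A))) ∩ (FEt.puncturedSpec A : Set ↥(Spec (CommRingCat.of A))) ⊆ (V : Set ↥(Spec (CommRingCat.of A))) → SGA2.IsPurePair (Spec (CommRingCat.of A)) V) : SGA2.IsPurePair (Spec (CommRingCat.of (A ⧸ I))) (FEt.puncturedSpec (A ⧸ I)) := by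
  refine isPurePair_punctured (A ⧸ I) ?_
  let U := FEt.puncturedSpec A
  let U' := FEt.puncturedSpec (A ⧸ I)
  let q : Spec (CommRingCat.of (A ⧸ I)) ⟶ Spec (CommRingCat.of A) :=
    Spec.map (CommRingCat.ofHom (Ideal.Quotient.mk I))
  let 𝓘 := q.ker.comap U.ι
  haveI : IsClosedImmersion q := IsClosedImmersion.spec_of_surjective _ Ideal.Quotient.mk_surjective
  haveI : IsNoetherianRing (CommRingCat.of A) := ‹IsNoetherianRing A›
  have hpt : ∀ x, q x ∈ U ↔ x ∈ U' := by
    intro x
    have hloc : IsLocalHom (Ideal.Quotient.mk I) := IsLocalHom.of_surjective _ Ideal.Quotient.mk_surjective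
    change PrimeSpectrum.comap (Ideal.Quotient.mk I) x ≠ IsLocalRing.closedPoint A ↔ x ≠ IsLocalRing.closedPoint (A ⧸ I)
    rw [← IsLocalRing.comap_closedPoint (Ideal.Quotient.mk I)]
    exact (PrimeSpectrum.comap_injective_of_surjective _ Ideal.Quotient.mk_surjective).eq_iff.not
  let g : (U' : Scheme.{u}) ⟶ (U : Scheme.{u}) := IsOpenImmersion.lift U.ι (U'.ι ≫ q) (by
    rintro _ ⟨x, rfl⟩
    rw [Scheme.Opens.range_ι]
    exact (hpt _).mpr x.2)
  have hg : IsPullback g U'.ι U.ι q := IsOpenImmersion.isPullback _ _ _ _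
    (IsOpenImmersion.lift_fac _ _ _).symm (by
      ext x
      change q x ∈ Set.range U.ι ↔ x ∈ Set.range U'.ι
      rw [Scheme.Opens.range_ι, Scheme.Opens.range_ι]
      exact hpt x)
  -- restriction to the neighbourhoods
  have hV : ∀ V : (Spec (CommRingCat.of A)).Opens, (q.ker.support : Set ↥(Spec (CommRingCat.of A))) ∩ (U : Set ↥(Spec (CommRingCat.of A))) ⊆ (V : Set ↥(Spec (CommRingCat.of A))) →
      (FEt.restrict V.ι).IsEquivalence := by
    intro V hsub
    have := hpure V hsub ⊤
    haveI := this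
    haveI : IsIso (⊤ : (Spec (CommRingCat.of A)).Opens).ι := (Spec (CommRingCat.of A)).topIso.isIso_hom
    haveI := S0289.result (⊤ : (Spec (CommRingCat.of A)).Opens).ι
    have h' : (FEt.restrict (⊤ ⊓ V).ι).IsEquivalence :=
      Functor.isEquivalence_of_iso ((PropPi1.restrictCompIso _ _).symm ≪≫ eqToIso (by rw [Scheme.homOfLE_ι]) :
        FEt.restrict (⊤ : (Spec (CommRingCat.of A)).Opens).ι ⋙
          FEt.restrict ((Spec (CommRingCat.of A)).homOfLE (inf_le_left : ⊤ ⊓ V ≤ ⊤)) ≅ FEt.restrict (⊤ ⊓ V).ι)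
    rwa [top_inf_eq] at h'
  haveI hUeq : (FEt.restrict U.ι).IsEquivalence := hV U Set.inter_subset_right
  haveI : IsLocallyNoetherian (U : Scheme.{u}) := inferInstance
  have hess : ∀ U₁ : (U : Scheme.{u}).Opens, (𝓘.support : Set ↥(U : Scheme.{u})) ⊆ (U₁ : Set ↥(U : Scheme.{u})) →
      (FEt.restrict U₁.ι).EssSurj := by
    intro U₁ hsub
    haveI := hV (U.ι ''ᵁ U₁) (by
      rintro x ⟨hx1, hx2⟩
      refine ⟨⟨x, hx2⟩, hsub ?_, rfl⟩
      show (⟨x, hx2⟩ : U) ∈ (q.ker.comap U.ι).support
      rw [Scheme.IdealSheafData.support_comap]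
      exact hx1)
    let e := U.ι.isoImage U₁
    haveI := S0289.result e.hom
    haveI : (FEt.restrict U.ι ⋙ FEt.restrict U₁.ι).IsEquivalence :=
      Functor.isEquivalence_of_iso ((PropPi1.restrictCompIso e.hom (U.ι ''ᵁ U₁).ι).symm ≪≫
        eqToIso (by rw [Scheme.Hom.isoImage_hom_ι]) ≪≫ PropPi1.restrictCompIso U₁.ι U.ι)
    haveI := Functor.isEquivalence_of_comp_left (FEt.restrict U.ι) (FEt.restrict U₁.ι)
    infer_instance
  haveI := LeffEtLib.isEquivalence_restrict_of_leff 𝓘 hleff hess
  -- identify the punctured spectrum of the quotient with the closed subscheme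
  let τ : Spec (CommRingCat.of (A ⧸ I)) ⟶ q.ker.subscheme := q.toImage
  haveI : IsIso τ := inferInstanceAs (IsIso q.toImage)
  have hτ : τ ≫ q.ker.subschemeι = q := q.toImage_imageι
  have hg' : IsPullback g (U'.ι ≫ τ) U.ι q.ker.subschemeι :=
    hg.of_iso (Iso.refl _) (Iso.refl _) (asIso τ) (Iso.refl _) (by simp) (by simp) (by simp) (by simp [hτ])
  let φ := hg'.isoPullback ≪≫ (q.ker.comapIso U.ι).symm
  have hφ : φ.hom ≫ 𝓘.subschemeι = g := by
    simp only [φ, 𝓘, Iso.trans_hom, Iso.symm_hom, Category.assoc, Scheme.IdealSheafData.comapIso_inv_subschemeι,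
      IsPullback.isoPullback_hom_fst]
  haveI := S0289.result φ.hom
  haveI : (FEt.restrict g).IsEquivalence :=
    Functor.isEquivalence_of_iso ((PropPi1.restrictCompIso φ.hom 𝓘.subschemeι).symm ≪≫ eqToIso (by rw [hφ]))
  haveI : (FEt.restrict q).IsEquivalence := S0239.result A I
  haveI : (FEt.restrict q ⋙ FEt.restrict U'.ι).IsEquivalence :=
    Functor.isEquivalence_of_iso ((PropPi1.restrictCompIso g U.ι).symm ≪≫ eqToIso (by rw [hg.w]) ≪≫
      PropPi1.restrictCompIso U'.ι q)
  exact Functor.isEquivalence_of_comp_left (FEt.restrict q) (FEt.restrict U'.ι)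

end Groth.Agent.S17789
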