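import Groth.Statements.S17790
import Groth.Agent.S2946
import Groth.Agent.FEtLib.Clopens
import Groth.Agent.FEtLib.Coprod

set_option autoImplicit false
set_option linter.style.haveILetI false
universe u
open CategoryTheory CategoryTheory.Limits AlgebraicGeometry
open Pi1

namespace Groth.Agent.S17790

/-- Let A be a Noetherian local ring and I an ideal for which A is I-adically complete and A/I is local;
write X = Spec A, Y = V(I) and U for the punctured spectrum. Suppose that A is pure (the pair formed
by X and its closed point is pure) and that the effective Lefschetz condition Leff(U, U ∩ Y) holds.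
Then Y minus the closed point, i.e. U ∩ Y, is a connected (nonempty) subset of X. -/
theorem result (A : Type u) [CommRing A] [IsLocalRing A] [IsNoetherianRing A] (I : Ideal A) [IsAdicComplete I A] [IsLocalRing (A ⧸ I)] (hpure : SGA2.IsPurePair (Spec (CommRingCat.of A)) (FEt.puncturedSpec A)) (hleff : LefX.LeffCond (↑(FEt.puncturedSpec A) : Scheme.{u}) ((Spec.map (CommRingCat.ofHom (Ideal.Quotient.mk I))).ker.comap (FEt.puncturedSpec A).ι)) : IsConnected (((Spec.map (CommRingCat.ofHom (Ideal.Quotient.mk I))).ker.support : Set ↥(Spec (CommRingCat.of A))) ∩ (FEt.puncturedSpec A : Set ↥(Spec (CommRingCat.of A)))) := by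
  let S := Spec (CommRingCat.of A)
  let U : S.Opens := FEt.puncturedSpec A
  haveI hA : ConnectedSpace S := by
    haveI : PreconnectedSpace S := preconnectedSpace_iff_clopen.2 fun V hV => by
      by_cases hc : IsLocalRing.closedPoint A ∈ V
      · exact .inr (Set.eq_univ_of_forall fun x =>
          (IsLocalRing.specializes_closedPoint (R := A) x).mem_open hV.2 hc)
      · exact .inl (Set.eq_empty_of_forall_notMem fun x hx =>
          hc ((IsLocalRing.specializes_closedPoint (R := A) x).mem_closed hV.1 hx))
    exact { toNonempty := ⟨IsLocalRing.closedPoint A⟩ }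
  haveI hT : ConnectedSpace ((⊤ : S.Opens) : Scheme.{u}) :=
    isConnected_iff_connectedSpace.1 (isConnected_univ (α := S))
  let r := S.homOfLE (inf_le_left : (⊤ : S.Opens) ⊓ U ≤ ⊤)
  haveI := hpure ⊤
  have hne : Nonempty ((⊤ : S.Opens) ⊓ U : S.Opens) := by
    by_contra hc
    rw [not_nonempty_iff] at hc
    let X₀ : Scheme.{u} := ((⊤ : S.Opens) : Scheme.{u})
    let two := Groth.Agent.FEtLib.sum (Groth.Agent.FEtLib.one X₀) (Groth.Agent.FEtLib.one X₀)
    have he : Groth.Agent.FEtLib.suml (Groth.Agent.FEtLib.one X₀) (Groth.Agent.FEtLib.one X₀) =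
        Groth.Agent.FEtLib.sumr (Groth.Agent.FEtLib.one X₀) (Groth.Agent.FEtLib.one X₀) := by
      apply (FEt.restrict r).map_injective
      let π₀ : ((FEt.restrict r).obj (Groth.Agent.FEtLib.one X₀)).left ⟶ (((⊤ : S.Opens) ⊓ U : S.Opens) : Scheme.{u}) :=
        ((FEt.restrict r).obj (Groth.Agent.FEtLib.one X₀)).hom
      haveI : IsEmpty ((FEt.restrict r).obj (Groth.Agent.FEtLib.one X₀)).left := Function.isEmpty π₀
      ext
      exact (isInitialOfIsEmpty).hom_ext _ _
    have x : X₀ := ⟨IsLocalRing.closedPoint A, trivial⟩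
    exact (isCompl_range_inl_inr X₀ X₀).disjoint.le_bot
      ⟨⟨x, rfl⟩, ⟨x, (congrArg (fun m : Groth.Agent.FEtLib.one X₀ ⟶ two => m.left x) he).symm⟩⟩
  have hcU : ConnectedSpace ((⊤ : S.Opens) ⊓ U : S.Opens) := by
    have hr : Groth.Agent.FEtLib.MeetsClopens r := fun V hV hn => by
      obtain ⟨x⟩ := hne
      refine ⟨x, ?_⟩
      rw [(isClopen_iff.1 hV).resolve_left hn.ne_empty]
      trivial
    haveI : ConnectedSpace (Groth.Agent.FEtLib.one ((⊤ : S.Opens) : Scheme.{u})).left := hT
    have h1 := Groth.Agent.FEtLib.connectedSpace_restrict r hr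
      (Groth.Agent.FEtLib.clopensDescend_of_full r) (Groth.Agent.FEtLib.one _)
    let π : ((FEt.restrict r).obj (Groth.Agent.FEtLib.one ((⊤ : S.Opens) : Scheme.{u}))).left ⟶ _ :=
      ((FEt.restrict r).obj (Groth.Agent.FEtLib.one ((⊤ : S.Opens) : Scheme.{u}))).hom
    have hsurj : Function.Surjective π := fun y => by
      obtain ⟨z, -, hz⟩ := Scheme.Pullback.exists_preimage_pullback (f := 𝟙 ((⊤ : S.Opens) : Scheme.{u})) (g := r)
        (r y) y rfl
      exact ⟨z, hz⟩
    exact hsurj.connectedSpace π.continuous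
  have hconn : _root_.IsConnected (U : Set S) := by
    have := isConnected_iff_connectedSpace.2 hcU
    exact (congrArg (fun O : S.Opens => _root_.IsConnected (O : Set S)) (top_inf_eq U)).mp this
  let W : (U : Scheme.{u}).Opens := ⊤
  let J := ((Spec.map (CommRingCat.ofHom (Ideal.Quotient.mk I))).ker.comap U.ι)
  haveI : IsNoetherianRing (CommRingCat.of A) := inferInstanceAs (IsNoetherianRing A)
  haveI : IsLocallyNoetherian (U : Scheme.{u}) := isLocallyNoetherian_of_isOpenImmersion U.ι
  have hJ : ConnectedSpace (J.support : Set (U : Scheme.{u})) :=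
    (Groth.Agent.S2946.result _ J hleff.1 W (Set.subset_univ _)).2 (isConnected_iff_connectedSpace.1
      (by
        haveI : ConnectedSpace (U : Scheme.{u}) := isConnected_iff_connectedSpace.1 hconn
        exact isConnected_univ))
  have him := (isConnected_iff_connectedSpace.2 hJ).image U.ι U.ι.continuous.continuousOn
  refine (congrArg _root_.IsConnected ?_).mp him
  ext x
  simp only [J, Scheme.IdealSheafData.support_comap]
  constructor
  · rintro ⟨y, hy, rfl⟩
    exact ⟨hy, y.2⟩
  · rintro ⟨hx, hxU⟩
    exact ⟨⟨x, hxU⟩, hx, rfl⟩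

end Groth.Agent.S17790
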