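import Groth.Statements.S17794
import Groth.Agent.GrpQuotLib.Sheaf
import Groth.Agent.GrpQuotLib.Orbit
import Groth.Agent.FlatLocus.FibreCrit

set_option autoImplicit false
universe u
open CategoryTheory CategoryTheory.Limits MonoidalCategory CartesianMonoidalCategory MonObj GrpObj AlgebraicGeometry
open GrpSch

namespace Groth.Agent.S17794

open CategoryTheory CategoryTheory.Limits AlgebraicGeometry

open Groth.Agent CategoryTheory.MonoidalCategory CategoryTheory.CartesianMonoidalCategory CategoryTheory.MonObj
set_option backward.isDefEq.respectTransparency false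
set_option backward.isDefEq.respectTransparency.types false
set_option linter.style.haveILetI false

theorem isPullback_torsor {S : Scheme.{u}} {G Q N : Over S} [GrpObj G] [GrpObj Q] (q : G ⟶ Q) [IsMonHom q] (i : N ⟶ G)
    (hker : AlgGrp.IsKernel i q) : IsPullback (fst G N * (snd G N ≫ i)) (fst G N) q q := by
  have hi : i ≫ q = 1 := by rw [hker.w, Hom.one_def]
  haveI : Mono η[Q] := SplitMono.mono ⟨toUnit Q, toUnit_unique _ _⟩
  haveI : Mono i := ⟨fun a b hab => hker.hom_ext hab (toUnit_unique _ _)⟩
  have w : (fst G N * (snd G N ≫ i)) ≫ q = fst G N ≫ q := by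
    rw [MonObj.mul_comp, Category.assoc, hi, MonObj.comp_one, _root_.mul_one]
  have key : ∀ (s : PullbackCone q q), ∃ l : s.pt ⟶ N, l ≫ i = s.snd⁻¹ * s.fst := fun s =>
    ⟨hker.lift _ (toUnit _) (by rw [MonObj.mul_comp, GrpObj.inv_comp, s.condition, inv_mul_cancel, Hom.one_def]),
      hker.lift_fst _ _ _⟩
  choose l hl using key
  refine ⟨⟨w⟩, ⟨PullbackCone.IsLimit.mk w (fun s => lift s.snd (l s)) (fun s => ?_)
    (fun s => lift_fst _ _) fun s m h₁ h₂ => ?_⟩⟩
  · rw [MonObj.comp_mul, lift_fst, lift_snd_assoc, hl, mul_inv_cancel_left]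
  · apply CartesianMonoidalCategory.hom_ext
    · rw [lift_fst, h₂]
    · rw [lift_snd, ← cancel_mono i, hl, Category.assoc, ← h₁, MonObj.comp_mul, h₂, inv_mul_cancel_left]

/-- Let S be a scheme and f : G → H a homomorphism of S-group schemes, both of finite presentation over
S (locally of finite presentation, quasi-compact and quasi-separated), and let i : N → G be the
kernel of f (the square formed by i, f, the unit section of H and N → S is cartesian). Then f is
faithfully flat (flat and surjective) if and only if the map of representable sheaves h_G → h_H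
induced by f on the big fppf site of S is an epimorphism of sheaves of sets and N is flat over S. -/
theorem result {S : Scheme.{u}} {G H N : Over S} [GrpObj G] [GrpObj H] (f : G ⟶ H) [IsMonHom f] [LocallyOfFinitePresentation G.hom] [QuasiCompact G.hom] [QuasiSeparated G.hom] [LocallyOfFinitePresentation H.hom] [QuasiCompact H.hom] [QuasiSeparated H.hom] (i : N ⟶ G) (hi : AlgGrp.IsKernel i f) : (Flat f.left ∧ Surjective f.left) ↔ (Epi (QuotSh.repMap Scheme.fppfPrecoverage f) ∧ Flat N.hom) := by
  haveI hf : LocallyOfFinitePresentation f.left := by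
    have h : LocallyOfFinitePresentation (f.left ≫ H.hom) := by rw [Over.w]; infer_instance
    exact FlatLocus.locallyOfFinitePresentation_of_comp f.left H.hom
  let FL : MorphismProperty Scheme.{u} := @Flat ⊓ @LocallyOfFinitePresentation
  haveI : MorphismProperty.IsMultiplicative (@Flat ⊓ @LocallyOfFinitePresentation : MorphismProperty Scheme.{u}) :=
    { id_mem := fun X => ⟨(inferInstance : Flat (𝟙 X)), (inferInstance : LocallyOfFinitePresentation (𝟙 X))⟩
      comp_mem := fun f g ⟨hf, hf'⟩ ⟨hg, hg'⟩ => by
        haveI : Flat f := hf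
        haveI : LocallyOfFinitePresentation f := hf'
        haveI : Flat g := hg
        haveI : LocallyOfFinitePresentation g := hg'
        exact ⟨(inferInstance : Flat (f ≫ g)), (inferInstance : LocallyOfFinitePresentation (f ≫ g))⟩ }
  have hsq : IsPullback i.left N.hom f.left η[H].left := by
    have h := GrpQuotLib.isPullback_left hi
    rwa [show (toUnit N).left = N.hom from (Category.comp_id _).symm.trans (Over.w (toUnit N))] at h
  haveI : LocallyOfFinitePresentation N.hom := MorphismProperty.of_isPullback (P := @LocallyOfFinitePresentation) hsq hf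
  constructor
  · rintro ⟨hfl, hsu⟩
    exact ⟨GrpQuotLib.epi_repMap_of_cover (P := (@Flat ⊓ @LocallyOfFinitePresentation : MorphismProperty Scheme.{u})) f ⟨hfl, hf⟩,
      MorphismProperty.of_isPullback (P := @Flat) hsq hfl⟩
  · rintro ⟨hepi, hN⟩
    have hfst : (@Flat ⊓ @LocallyOfFinitePresentation : MorphismProperty Scheme.{u}) (fst G N).left :=
      MorphismProperty.of_isPullback (P := (@Flat ⊓ @LocallyOfFinitePresentation : MorphismProperty Scheme.{u}))
        (IsPullback.of_hasPullback G.hom N.hom).flip ⟨hN, ‹_›⟩
    obtain ⟨⟨h1, -⟩, h2⟩ := GrpQuotLib.prop_of_isKernelPair (P := (@Flat ⊓ @LocallyOfFinitePresentation : MorphismProperty Scheme.{u}))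
      le_rfl (isPullback_torsor f i hi).flip hfst (GrpQuotLib.exists_lift_of_epi_repMap f hepi)
    exact ⟨h1, h2⟩

end Groth.Agent.S17794
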