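import Groth.Statements.S17797
import Mathlib

set_option autoImplicit false
universe u
open CAlg

namespace Groth.Agent.S17797

/-- Suppose k is a field of characteristic zero and S is a local domain that is an essentially
finite-type k-algebra. Then there are an extension field K of k, a K-algebra A of finite type and a
maximal ideal m of A such that S is isomorphic over k to the localization A_m. -/
theorem result (k : Type u) [Field k] [CharZero k] (S : Type u) [CommRing S] [IsDomain S] [IsLocalRing S] [Algebra k S] [Algebra.EssFiniteType k S] : ∃ (K : Type u) (_ : Field K) (_ : Algebra k K) (A : Type u) (_ : CommRing A) (_ : Algebra K A) (_ : Algebra k A) (_ : IsScalarTower k K A) (_ : Algebra.FiniteType K A) (m : Ideal A) (_ : m.IsMaximal), Nonempty (S ≃ₐ[k] Localization.AtPrime m) := by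
  classical
  let κ := IsLocalRing.ResidueField S
  haveI : Algebra.EssFiniteType S κ := Algebra.EssFiniteType.of_surjective (IsScalarTower.toAlgHom S S κ)
    IsLocalRing.residue_surjective
  haveI : Algebra.EssFiniteType k κ := Algebra.EssFiniteType.comp k S κ
  obtain ⟨s, hs⟩ := exists_isTranscendenceBasis k κ
  choose z hz using fun i : s => IsLocalRing.residue_surjective (R := S) (i : κ)
  let α : MvPolynomial s k →ₐ[k] S := MvPolynomial.aeval z
  have hcomp : (IsScalarTower.toAlgHom k S κ).comp α = MvPolynomial.aeval (Subtype.val : s → κ) :=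
    MvPolynomial.algHom_ext fun i => by simp [α]; exact hz i
  have hunit : ∀ p : nonZeroDivisors (MvPolynomial s k), IsUnit (α p) := by
    intro p
    have h1 : IsLocalRing.residue S (α p) ≠ 0 := fun h => nonZeroDivisors.coe_ne_zero p (hs.1 (by
      rw [map_zero, ← hcomp]; exact h))
    exact (IsLocalRing.residue_ne_zero_iff_isUnit _).1 h1
  let K := FractionRing (MvPolynomial s k)
  let β : K →ₐ[k] S := IsLocalization.liftAlgHom (M := nonZeroDivisors (MvPolynomial s k)) (f := α) hunit
  letI : Algebra K S := β.toRingHom.toAlgebra
  haveI : IsScalarTower k K S := IsScalarTower.of_algebraMap_eq fun c => (β.commutes c).symm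
  haveI : Algebra.EssFiniteType K S := Algebra.EssFiniteType.of_comp k K S
  let A := Algebra.EssFiniteType.subalgebra K S
  let M := Algebra.EssFiniteType.submonoid K S
  let m : Ideal A := (IsLocalRing.maximalIdeal S).comap (algebraMap A S)
  haveI : IsLocalization.AtPrime S m := by
    refine IsLocalization.of_le M m.primeCompl ?_ ?_
    · exact fun a ha h => (IsLocalRing.maximalIdeal.isMaximal S).ne_top
        (Ideal.eq_top_of_isUnit_mem _ h (IsLocalization.map_units S (⟨a, ha⟩ : M)))
    · exact fun a ha => IsLocalRing.notMem_maximalIdeal.1 ha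
  haveI hKκ : Algebra.IsAlgebraic K κ := by
    let F := IntermediateField.adjoin k (Set.range (Subtype.val : s → κ))
    haveI halg : Algebra.IsAlgebraic F κ := hs.isAlgebraic_field
    have hcompat : ((algebraMap K κ).comp (algebraMap (MvPolynomial s k) K)) =
        (MvPolynomial.aeval (Subtype.val : s → κ)).toRingHom := by
      rw [← hcomp]
      refine RingHom.ext fun p => ?_
      show algebraMap S κ (β (algebraMap _ K p)) = algebraMap S κ (α p)
      simp [β]
    have hle : F ≤ (IsScalarTower.toAlgHom k K κ).fieldRange := by
      rw [IntermediateField.adjoin_le_iff]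
      rintro _ ⟨i, rfl⟩
      exact ⟨algebraMap _ K (MvPolynomial.X i), by
        simpa using RingHom.congr_fun hcompat (MvPolynomial.X i)⟩
    refine ⟨fun x => ?_⟩
    obtain ⟨P, hP0, hPx⟩ := halg.isAlgebraic x
    have hP : P.map (algebraMap F κ) ∈ Polynomial.lifts (algebraMap K κ) := by
      rw [Polynomial.lifts_iff_coeff_lifts]
      intro j
      obtain ⟨c, hc⟩ := hle (P.coeff j).2
      exact ⟨c, by simpa using hc⟩
    obtain ⟨Q, hQ⟩ := hP
    refine ⟨Q, fun h => hP0 (Polynomial.map_injective (algebraMap F κ) (algebraMap F κ).injective ?_), ?_⟩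
    · rw [Polynomial.map_zero, ← hQ, h]; simp
    · rw [Polynomial.aeval_def, ← Polynomial.eval_map, show Q.map (algebraMap K κ) = _ from hQ,
        Polynomial.eval_map, ← Polynomial.aeval_def, hPx]
  haveI : m.IsMaximal := by
    have h : m = RingHom.ker (algebraMap A κ) := by
      ext a
      rw [RingHom.mem_ker, IsScalarTower.algebraMap_apply A S κ]
      exact (IsLocalRing.residue_eq_zero_iff _).symm
    haveI : Algebra.IsIntegral K κ := Algebra.IsAlgebraic.isIntegral
    haveI : Algebra.IsIntegral A κ := Algebra.IsIntegral.tower_top K
    rw [h]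
    exact Ideal.isMaximal_comap_of_isIntegral_of_isMaximal (R := A) (⊥ : Ideal κ)
  haveI : Algebra.FiniteType K A := inferInstance
  exact ⟨K, inferInstance, inferInstance, A, inferInstance, inferInstance, inferInstance, inferInstance,
    inferInstance, m, inferInstance,
    ⟨((IsLocalization.algEquiv m.primeCompl (Localization.AtPrime m) S).restrictScalars k).symm⟩⟩

end Groth.Agent.S17797
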