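import Groth.Statements.S17803
import Groth.Agent.GRingCompleteLib.Completion
import Groth.Agent.CMCat.ComplQuot
import Groth.Agent.RegComplLib.Basic
import Groth.Agent.NormalTensor.Main
import Groth.Agent.NormalTensor.Hom
import Groth.Agent.ExcLib.Localization
import Groth.Agent.HLVTLib.Excellent
import Groth.Agent.CyclicRootLib.Regular
open scoped TensorProduct
-- import your own Groth.Agent.* helpers here

set_option autoImplicit false
universe u
open EGA4

namespace Groth.Agent.S17803

/-- Let A be an excellent normal domain which is a quotient of a regular ring, I an ideal of A and f ∈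
A. Then the I-adic completion of the localization A_f is a normal ring (its localization at every
prime ideal is an integrally closed domain), and it is a quotient of a regular ring. -/
theorem result (A : Type u) [CommRing A] [IsDomain A] [IsIntegrallyClosed A] (hexc : EGA4.IsExcellent A) (hreg : ∃ (R : Type u) (_ : CommRing R) (_ : IsRegularRing R) (φ : R →+* A), Function.Surjective φ) (I : Ideal A) (f : A) : EGA4.IsNormalRing (AdicCompletion (I.map (algebraMap A (Localization.Away f))) (Localization.Away f)) ∧ ∃ (R' : Type u) (_ : CommRing R') (_ : IsRegularRing R') (ψ : R' →+* AdicCompletion (I.map (algebraMap A (Localization.Away f))) (Localization.Away f)), Function.Surjective ψ := by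
  obtain ⟨hN, -, hG, -⟩ := hexc
  haveI := hN
  let B := Localization.Away f
  let J : Ideal B := I.map (algebraMap A B)
  haveI : IsNoetherianRing B := IsLocalization.isNoetherianRing (Submonoid.powers f) B inferInstance
  haveI : IsNoetherianRing (AdicCompletion J B) := RegLocal.isNoetherianRing_completion B J
  have hr := GRingCompleteLib.isRegularHom_adicCompletion B (ExcLib.isGRing_of_isLocalization (Submonoid.powers f) hG) J
  haveI : Module.Flat B (AdicCompletion J B) := hr.1
  have hn : EGA4.IsNormalHom B (AdicCompletion J B) :=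
    ⟨hr.1, fun p _ k' _ _ hfin => haveI := (hr.2 p).2 k' hfin; HLVTLib.isNormalRing_of_regular _⟩
  have hB : EGA4.IsNormalRing B :=
    NormalTensor.isNormalRing_localization (Submonoid.powers f) (NormalTensor.isNormalRing_of_domain A)
  refine ⟨NormalTensor.isNormalRing_of_ringEquiv (Algebra.TensorProduct.rid B B (AdicCompletion J B)).toRingEquiv
    (NormalTensor.isNormalRing_tensor_of_fieldNormal B (AdicCompletion J B) (NormalTensor.fieldNormal_of_isNormalHom hn) B hB), ?_⟩
  obtain ⟨R, _, hR, φ, hφ⟩ := hreg
  obtain ⟨g, rfl⟩ := hφ f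
  haveI := hR
  let R₁ := Localization.Away g
  haveI : IsRegularRing R₁ := CyclicRootLib.isRegularRing_of_isLocalization (Submonoid.powers g) R₁
  let ψ : R₁ →+* B := IsLocalization.Away.map R₁ B φ g
  have hψ : Function.Surjective ψ := by
    intro y
    obtain ⟨⟨a, s, hs⟩, e⟩ := IsLocalization.surj (Submonoid.powers (φ g)) y
    obtain ⟨n, rfl⟩ := hs
    obtain ⟨r, rfl⟩ := hφ a
    refine ⟨IsLocalization.mk' R₁ r (⟨g ^ n, n, rfl⟩ : Submonoid.powers g), ?_⟩
    refine ((IsLocalization.map_units B (⟨φ g ^ n, n, rfl⟩ : Submonoid.powers (φ g))).mul_left_inj).1 ?_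
    refine (?_ : _ = algebraMap A B (φ r)).trans e.symm
    have : algebraMap A B (φ g ^ n) = ψ (algebraMap R R₁ (g ^ n)) := by
      simp [ψ, IsLocalization.Away.map]
    show ψ _ * algebraMap A B (φ g ^ n) = _
    rw [this, ← map_mul, IsLocalization.mk'_spec R₁ r (⟨g ^ n, n, rfl⟩ : Submonoid.powers g)]
    simp [ψ, IsLocalization.Away.map]
  let K : Ideal R₁ := J.comap ψ
  haveI := RegComplLib.isRegularRing_adicCompletion R₁ K
  refine ⟨AdicCompletion K R₁, inferInstance, inferInstance, CMCat.complHom ψ K J Ideal.map_comap_le, ?_⟩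
  let e := RingHom.quotientKerEquivOfSurjective hψ
  have hh : K.map (Ideal.Quotient.mk (RingHom.ker ψ)) = J.comap e.toRingHom := by
    refine le_antisymm (Ideal.map_le_iff_le_comap.2 fun x hx => ?_) fun x hx => ?_
    · exact hx
    · obtain ⟨x, rfl⟩ := Ideal.Quotient.mk_surjective x
      exact Ideal.mem_map_of_mem _ hx
  let θ := CMCat.complHom e.toRingHom (K.map (Ideal.Quotient.mk (RingHom.ker ψ))) J (hh ▸ Ideal.map_comap_le)
  let θ' := CMCat.complHom e.symm.toRingHom J (K.map (Ideal.Quotient.mk (RingHom.ker ψ)))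
    (by rw [hh]; exact Ideal.map_le_iff_le_comap.2 fun x hx => (congrArg (· ∈ J) (e.apply_symm_apply x)).mpr hx)
  intro y
  obtain ⟨x, hx⟩ := CMCat.complHom_mk_surjective K (RingHom.ker ψ) (θ' y)
  refine ⟨x, AdicCompletion.ext_evalₐ fun n => ?_⟩
  have h1 := congrArg θ hx
  have h2 := congrArg (AdicCompletion.evalₐ J n) h1
  induction x using AdicCompletion.induction_on with
  | h a =>
  induction y using AdicCompletion.induction_on with
  | h b =>
    rw [CMCat.evalₐ_complHom, CMCat.levelHom_mk, AdicCompletion.evalₐ_mk]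
    have h3 := congrArg (AdicCompletion.evalₐ (K.map (Ideal.Quotient.mk (RingHom.ker ψ))) n) hx
    rw [CMCat.evalₐ_complHom, CMCat.evalₐ_complHom, CMCat.levelHom_mk, CMCat.levelHom_mk,
      Ideal.Quotient.mk_eq_mk_iff_sub_mem] at h3
    rw [Ideal.Quotient.mk_eq_mk_iff_sub_mem]
    have h4 : e (Ideal.Quotient.mk (RingHom.ker ψ) (a.1 n) - e.symm (b.1 n)) ∈
        ((K.map (Ideal.Quotient.mk (RingHom.ker ψ))) ^ n).map e.toRingHom := Ideal.mem_map_of_mem _ h3
    rw [map_sub, e.apply_symm_apply, Ideal.map_pow] at h4
    exact Ideal.pow_right_mono (hh ▸ Ideal.map_comap_le) n h4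

end Groth.Agent.S17803
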