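import Groth.Statements.S17804
import Groth.Agent.GrpQuotLib.Kernel
import Groth.Agent.GrpQuotLib.KerGrp
import Groth.Agent.GrpSchLib.Component
import Groth.Agent.GrpSchLib.TorsionLift
import Groth.Agent.FppfSrc.Scheme
import Groth.Agent.S3036
import Groth.Agent.S4362

set_option autoImplicit false
universe u
open CategoryTheory CategoryTheory.Limits MonoidalCategory CartesianMonoidalCategory MonObj GrpObj AlgebraicGeometry
open GrpSch

namespace Groth.Agent.S17804

variable {k : Type u} [Field k]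


/-- The scheme theoretic images of the powers n^j stabilise, and then local roots exist. -/
theorem exists_roots {H : Over (Spec (CommRingCat.of k))} [GrpObj H] [IsCommMonObj H]
    [LocallyOfFiniteType H.hom] [QuasiCompact H.hom] (n : ℕ) :
    ∃ j0 : ℕ, ∀ N, j0 ≤ N → ∀ (T : Over (Spec (CommRingCat.of k))) (h : T ⟶ H),
      ∃ (T' : Over (Spec (CommRingCat.of k))) (c : T' ⟶ T) (g : T' ⟶ H), Surjective c.left ∧ Flat c.left ∧
        LocallyOfFinitePresentation c.left ∧ (c ≫ h) ^ (n ^ j0) = g ^ (n ^ N) := by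
  haveI : IsLocallyNoetherian H.left := LocallyOfFiniteType.isLocallyNoetherian H.hom
  haveI : CompactSpace H.left := QuasiCompact.compactSpace_of_compactSpace H.hom
  haveI : IsNoetherian H.left := ⟨⟩
  haveI := Groth.Agent.S4362.result H.left
  let e : ℕ → (H ⟶ H) := fun j => (𝟙 H) ^ (n ^ j)
  haveI he : ∀ j, IsMonHom (e j) := fun j => Groth.Agent.GrpSchLib.isMonHom_pow (𝟙 H) _
  have hstep : ∀ j, e (j + 1) = e 1 ≫ e j := fun j => by
    simp only [e]
    rw [MonObj.comp_pow, Category.comp_id, ← pow_mul, pow_one, pow_succ, Nat.mul_comm]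
  obtain ⟨j0, hj0⟩ := WellFoundedGT.monotone_chain_condition
    ⟨fun j => (e j).left.ker, monotone_nat_of_le_succ fun j => by
      simp only [hstep j, Over.comp_left]
      exact Scheme.Hom.le_ker_comp _ _⟩
  refine ⟨j0, fun N hN T h => ?_⟩
  have hker : (e j0).left.ker = (e N).left.ker := hj0 N hN
  obtain ⟨Q, _, p, i, hp, hi, hpi, hs, hf, hl, hm, hQ, -⟩ :=
    Groth.Agent.GrpQuotLib.exists_quotient_by_flat_kernel H H (e N) inferInstance
  haveI : CompactSpace Q.left :=
    ⟨by rw [← Set.image_univ_of_surjective p.left.surjective]; exact isCompact_univ.image p.left.continuous⟩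
  haveI : QuasiSeparatedSpace H.left := Groth.Agent.GrpSchLib.quasiSeparatedSpace
  haveI : QuasiCompact (i.left ≫ H.hom) := by rw [Over.w i]; exact (quasiCompact_iff_compactSpace _).mpr ‹_›
  haveI := Groth.Agent.GrpSchLib.isSeparated_hom (G := H)
  haveI : QuasiCompact i.left := QuasiCompact.of_comp i.left H.hom
  haveI := Groth.Agent.S3036.result k Q H i
  have hle : i.left.ker ≤ (e j0).left.ker := by
    rw [hker, ← hpi, Over.comp_left]
    exact Scheme.Hom.le_ker_comp _ _
  let w : H ⟶ Q := Over.homMk (IsClosedImmersion.lift i.left (e j0).left hle) (by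
    rw [← Over.w i, IsClosedImmersion.lift_fac_assoc, Over.w (e j0)])
  have hw : w ≫ i = e j0 := Over.OverMorphism.ext (IsClosedImmersion.lift_fac _ _ _)
  obtain ⟨T', c, g, hcs, hcf, hcl, hc⟩ := Groth.Agent.GrpQuotLib.exists_lift_cover p (h ≫ w)
  refine ⟨T', c, g, hcs, hcf, hcl, ?_⟩
  have h2 := congrArg (· ≫ i) hc
  simp only [Category.assoc] at h2
  rw [hw, hpi] at h2
  simp only [e, MonObj.comp_pow, Category.comp_id] at h2
  exact h2

theorem isClosedImmersion_fst {G Q : Over (Spec (CommRingCat.of k))} [GrpObj Q] (f : G ⟶ Q) :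
    IsClosedImmersion (pullback.fst f η[Q]).left :=
  MorphismProperty.of_isPullback (P := @IsClosedImmersion)
    ((IsPullback.of_hasPullback f η[Q]).map (Over.forget _)).flip Groth.Agent.GrpSchLib.isClosedImmersion_unit

theorem fst_comp_eq_one {G Q : Over (Spec (CommRingCat.of k))} [GrpObj Q] (f : G ⟶ Q) :
    pullback.fst f η[Q] ≫ f = 1 := by
  rw [pullback.condition, Hom.one_def]
  exact congrArg (· ≫ η[Q]) (toUnit_unique _ _)

theorem exists_lift_kernel {T G Q : Over (Spec (CommRingCat.of k))} [GrpObj Q] (f : G ⟶ Q) (x : T ⟶ G) (hx : x ≫ f = 1) :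
    ∃ z : T ⟶ pullback f η[Q], z ≫ pullback.fst f η[Q] = x :=
  ⟨pullback.lift x (toUnit T) (by rw [hx, Hom.one_def]), pullback.lift_fst _ _ _⟩

theorem isMonHom_of_comp_mono {A B C : Over (Spec (CommRingCat.of k))} [GrpObj A] [GrpObj B] [GrpObj C]
    (f : A ⟶ B) (g : B ⟶ C) [Mono g] [IsMonHom g] [IsMonHom (f ≫ g)] : IsMonHom f where
  one_hom := by rw [← cancel_mono g, Category.assoc, IsMonHom.one_hom, IsMonHom.one_hom]
  mul_hom := by
    rw [← cancel_mono g, Category.assoc, IsMonHom.mul_hom (f ≫ g), Category.assoc, IsMonHom.mul_hom g,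
      ← Category.assoc (f ⊗ₘ f), tensorHom_comp_tensorHom]

theorem isCommMonObj_of_mono {H G : Over (Spec (CommRingCat.of k))} [GrpObj G] [IsCommMonObj G] [GrpObj H]
    (i : H ⟶ G) [Mono i] [IsMonHom i] : IsCommMonObj H where
  mul_comm := by
    rw [← cancel_mono i, Category.assoc, IsMonHom.mul_hom, ← Category.assoc, ← BraidedCategory.braiding_naturality,
      Category.assoc, IsCommMonObj.mul_comm]

/-- The core: G' and the local lifts. -/
theorem exists_sub {G H Q : Over (Spec (CommRingCat.of k))} [GrpObj G] [IsCommMonObj G] [GrpObj H]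
    [GrpObj Q] [LocallyOfFiniteType H.hom] [QuasiCompact H.hom] (iH : H ⟶ G) [IsMonHom iH]
    [IsClosedImmersion iH.left] (q : G ⟶ Q) [IsMonHom q] (hq : RedSub.IsQuotient iH q) (n M : ℕ) :
    ∃ (G' : Over (Spec (CommRingCat.of k))) (_ : GrpObj G') (j : G' ⟶ G) (_ : IsMonHom j), IsClosedImmersion j.left ∧
      (∃ N : ℕ, ∀ (T : Over (Spec (CommRingCat.of k))) (g : T ⟶ G'), g ^ (n ^ N) = 1) ∧
      (∀ (T : Over (Spec (CommRingCat.of k))) (g : T ⟶ G'), (g ≫ j ≫ q) ^ (n ^ M) = 1) ∧
      ∀ (T : Over (Spec (CommRingCat.of k))) (x : T ⟶ G), (x ^ (n ^ M)) ≫ q = 1 →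
        ∃ (T' : Over (Spec (CommRingCat.of k))) (c : T' ⟶ T) (z : T' ⟶ G'), Surjective c.left ∧ Flat c.left ∧
          LocallyOfFinitePresentation c.left ∧ z ≫ j ≫ q = c ≫ x ≫ q := by
  haveI : Mono iH.left := inferInstance
  haveI : Mono iH := Over.mono_of_mono_left iH
  haveI := isCommMonObj_of_mono iH
  obtain ⟨j0, hj0⟩ := exists_roots (H := H) n
  haveI hN : IsMonHom ((𝟙 G) ^ (n ^ (M + j0))) := Groth.Agent.GrpSchLib.isMonHom_pow (𝟙 G) _
  haveI hM : IsMonHom ((𝟙 G) ^ (n ^ M)) := Groth.Agent.GrpSchLib.isMonHom_pow (𝟙 G) _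
  obtain ⟨i1, h1⟩ := Groth.Agent.GrpQuotLib.exists_grpObj_kernel ((𝟙 G) ^ (n ^ (M + j0)))
  let j1 := pullback.fst ((𝟙 G) ^ (n ^ (M + j0))) η[G]
  haveI : IsMonHom j1 := h1
  let f2 := j1 ≫ ((𝟙 G) ^ (n ^ M)) ≫ q
  obtain ⟨i2, h2⟩ := Groth.Agent.GrpQuotLib.exists_grpObj_kernel f2
  let j2 := pullback.fst f2 η[Q]
  haveI : IsMonHom j2 := h2
  haveI c1 : IsClosedImmersion j1.left := isClosedImmersion_fst _
  haveI c2 : IsClosedImmersion j2.left := isClosedImmersion_fst _
  haveI : Mono j1.left := inferInstance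
  haveI : Mono j2.left := inferInstance
  haveI : Mono j1 := Over.mono_of_mono_left j1
  haveI : Mono j2 := Over.mono_of_mono_left j2
  have k1 : j1 ^ (n ^ (M + j0)) = 1 := by
    have := fst_comp_eq_one ((𝟙 G) ^ (n ^ (M + j0)))
    rwa [MonObj.comp_pow, Category.comp_id] at this
  have k2 : ((j2 ≫ j1) ^ (n ^ M)) ≫ q = 1 := by
    have : j2 ≫ j1 ≫ ((𝟙 G) ^ (n ^ M)) ≫ q = 1 := fst_comp_eq_one f2
    rwa [← Category.assoc j1, MonObj.comp_pow, Category.comp_id, ← Category.assoc, MonObj.comp_pow] at this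
  refine ⟨pullback f2 η[Q], i2, j2 ≫ j1, inferInstance, ?_, ⟨M + j0, fun T g => ?_⟩, fun T g => ?_, fun T x hx => ?_⟩
  · rw [Over.comp_left]; infer_instance
  · rw [← cancel_mono j2, ← cancel_mono j1, MonObj.pow_comp, MonObj.pow_comp, MonObj.one_comp, MonObj.one_comp,
      ← MonObj.comp_pow, k1, MonObj.comp_one]
  · rw [← Category.assoc, ← MonObj.pow_comp, ← MonObj.comp_pow, Category.assoc, k2, MonObj.comp_one]
  · have hiq : iH ≫ q = 1 := by
      have := (congrArg (fun m => lift (1 : H ⟶ G) (𝟙 H) ≫ m) hq.2.2.2.w).symm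
      rw [Category.assoc (G ◁ iH), lift_whiskerLeft_assoc, ← Category.assoc (lift _ _), ← Hom.mul_def, _root_.one_mul, lift_fst_assoc,
        MonObj.one_comp, Category.id_comp] at this
      exact this
    let z := hq.2.2.2.lift (1 : T ⟶ G) (x ^ (n ^ M)) (by rw [hx, MonObj.one_comp])
    have z1 : z ≫ fst G H = 1 := hq.2.2.2.lift_fst _ _ _
    have z2 : (z ≫ snd G H) ≫ iH = x ^ (n ^ M) := by
      have h := hq.2.2.2.lift_snd (1 : T ⟶ G) (x ^ (n ^ M)) (by rw [hx, MonObj.one_comp])
      rw [show z = lift (z ≫ fst G H) (z ≫ snd G H) by ext <;> simp] at z1 ⊢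
      change z ≫ _ = _ at h
      rw [show z = lift (z ≫ fst G H) (z ≫ snd G H) by ext <;> simp, lift_whiskerLeft_assoc, ← Hom.mul_def] at h
      simp only [lift_fst] at z1
      rw [z1, _root_.one_mul] at h
      simpa using h
    obtain ⟨T', c, g, hs, hf, hl, hc⟩ := hj0 (M + j0) (Nat.le_add_left _ _) T (z ≫ snd G H)
    letI : CommGroup (T' ⟶ G) := Hom.commGroup
    let y : T' ⟶ G := (c ≫ x) * (g ≫ iH)⁻¹
    have hy : y ^ (n ^ (M + j0)) = 1 := by
      simp only [y]
      rw [mul_pow, inv_pow, mul_inv_eq_one]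
      have h' : (g ^ (n ^ (M + j0))) ≫ iH = (g ≫ iH) ^ (n ^ (M + j0)) := by rw [MonObj.pow_comp]
      rw [← h', ← hc, MonObj.pow_comp, Category.assoc c, z2, MonObj.comp_pow, ← pow_mul, pow_add]
    have hyq : y ≫ q = c ≫ x ≫ q := by
      simp only [y]
      rw [MonObj.mul_comp, GrpObj.inv_comp, Category.assoc g, hiq, MonObj.comp_one, inv_one, _root_.mul_one,
        Category.assoc]
    obtain ⟨a, ha⟩ := exists_lift_kernel ((𝟙 G) ^ (n ^ (M + j0))) y (by rw [MonObj.comp_pow, Category.comp_id, hy])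
    obtain ⟨b, hb⟩ := exists_lift_kernel f2 a (by
      simp only [f2]
      rw [← Category.assoc a, ha, ← Category.assoc y, MonObj.comp_pow, Category.comp_id, MonObj.pow_comp, hyq,
        ← MonObj.comp_pow, ← MonObj.pow_comp, hx, MonObj.comp_one])
    refine ⟨T', c, b, hs, hf, hl, ?_⟩
    change b ≫ (j2 ≫ j1) ≫ q = _
    rw [← hyq, ← ha, ← hb]
    simp only [Category.assoc]
    rfl


/-- Let k be a field, G a commutative group scheme locally of finite type over k, H ⊆ G a closed
subgroup scheme of finite type over k, and q : G → Q the quotient G/H (q is flat, surjective,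
locally of finite presentation, and G ×_k H → G ×_Q G, (g, h) ↦ (g, gh), is an isomorphism). Let n ≥
1 and M ≥ 1 be integers. Then G contains a closed subgroup scheme G_M annihilated by n^N for some N,
with image in Q killed by n^M, such that the induced homomorphism from G_M to the kernel Q[n^M] of
multiplication by n^M on Q is flat and surjective. -/
theorem result (k : Type u) [Field k] {G H Q : Over (Spec (CommRingCat.of k))} [GrpObj G] [IsCommMonObj G] [GrpObj H] [GrpObj Q] [LocallyOfFiniteType G.hom] [LocallyOfFiniteType H.hom] [QuasiCompact H.hom] (iH : H ⟶ G) [IsMonHom iH] (hcl : IsClosedImmersion iH.left) (q : G ⟶ Q) [IsMonHom q] (hq : RedSub.IsQuotient iH q) (n : ℕ) (hn : 0 < n) (M : ℕ) (hM : 0 < M) : ∃ (G' : Over (Spec (CommRingCat.of k))) (_ : GrpObj G') (j : G' ⟶ G) (_ : IsMonHom j), IsClosedImmersion j.left ∧ (∃ N : ℕ, ∀ (T : Over (Spec (CommRingCat.of k))) (g : T ⟶ G'), g ^ (n ^ N) = 1) ∧ (∀ (T : Over (Spec (CommRingCat.of k))) (g : T ⟶ G'), (g ≫ j ≫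 q) ^ (n ^ M) = 1) ∧ ∀ (K : Over (Spec (CommRingCat.of k))) [GrpObj K] (κ : K ⟶ Q) [IsMonHom κ], AlgGrp.IsKernel κ ((𝟙 Q) ^ (n ^ M)) → ∀ ℓ : G' ⟶ K, ℓ ≫ κ = j ≫ q → Flat ℓ.left ∧ Surjective ℓ.left := by
  haveI := hcl
  obtain ⟨G', inst, j, hj, hjc, hkill, hkM, hlift⟩ := exists_sub iH q hq n M
  refine ⟨G', inst, j, hj, hjc, hkill, hkM, fun K _ κ _ hκ ℓ hℓ => ?_⟩
  haveI := hjc
  haveI : LocallyOfFiniteType G'.hom := by rw [← Over.w j]; infer_instance
  haveI := hq.1
  haveI := hq.2.1
  haveI := hq.2.2.1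
  haveI : LocallyOfFiniteType Q.hom := Groth.Agent.FppfSrc.of_precomp_fppf
    (P := @LocallyOfFiniteType) Groth.Agent.FppfSrc.descendsFppfSource_finiteType q.left Q.hom
    (by rw [Over.w q]; infer_instance)
  haveI : IsClosedImmersion κ.left := MorphismProperty.of_isPullback (P := @IsClosedImmersion)
    ((show IsPullback κ (toUnit K) _ η[Q] from hκ).map (Over.forget _)).flip
    Groth.Agent.GrpSchLib.isClosedImmersion_unit
  haveI : Mono κ.left := inferInstance
  haveI : Mono κ := Over.mono_of_mono_left κ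
  haveI : LocallyOfFiniteType K.hom := by rw [← Over.w κ]; infer_instance
  haveI : IsMonHom (ℓ ≫ κ) := by rw [hℓ]; infer_instance
  haveI := isMonHom_of_comp_mono ℓ κ
  obtain ⟨R, _, p, i, hp, hi, hpi, hs, hf, hl, hm, hR, -⟩ :=
    Groth.Agent.GrpQuotLib.exists_quotient_by_flat_kernel G' K ℓ inferInstance
  have hκm : κ ^ (n ^ M) = 1 := by
    have h := (show IsPullback κ (toUnit K) _ η[Q] from hκ).w
    rwa [MonObj.comp_pow, Category.comp_id, ← Hom.one_def] at h
  obtain ⟨T', c, z, hcs, hcf, hcl', hz⟩ := hlift (pullback q κ) (pullback.fst q κ) (by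
    rw [MonObj.pow_comp, pullback.condition, ← MonObj.comp_pow, hκm, MonObj.comp_one])
  haveI : Surjective (pullback.snd q κ).left :=
    MorphismProperty.of_isPullback (P := @Surjective) ((IsPullback.of_hasPullback q κ).map (Over.forget _)) hq.1
  haveI : Flat (pullback.snd q κ).left :=
    MorphismProperty.of_isPullback (P := @Flat) ((IsPullback.of_hasPullback q κ).map (Over.forget _)) hq.2.1
  haveI : LocallyOfFinitePresentation (pullback.snd q κ).left :=
    MorphismProperty.of_isPullback (P := @LocallyOfFinitePresentation) ((IsPullback.of_hasPullback q κ).map (Over.forget _)) hq.2.2.1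
  haveI : Surjective (c ≫ pullback.snd q κ).left := by rw [Over.comp_left]; infer_instance
  haveI : Flat (c ≫ pullback.snd q κ).left := by rw [Over.comp_left]; infer_instance
  haveI : LocallyOfFinitePresentation (c ≫ pullback.snd q κ).left := by rw [Over.comp_left]; infer_instance
  haveI : Mono i.left := by
    haveI := hm
    exact (inferInstance : Mono ((Over.forget _).map i))
  obtain ⟨s, hs'⟩ := Groth.Agent.GrpQuotLib.exists_lift_of_cover i (c ≫ pullback.snd q κ) (z ≫ p) (𝟙 K) (by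
    rw [Category.assoc, hpi, Category.comp_id, ← cancel_mono κ, Category.assoc, hℓ, hz, pullback.condition,
      Category.assoc])
  haveI := hm
  haveI : IsIso i := ⟨s, (cancel_mono i).1 (by rw [Category.assoc, hs', Category.comp_id, Category.id_comp]), hs'⟩
  haveI : IsIso i.left := inferInstanceAs (IsIso ((Over.forget _).map i))
  rw [← hpi, Over.comp_left]
  exact ⟨inferInstance, inferInstance⟩

end Groth.Agent.S17804
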