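import Groth.Statements.S17807
import Groth.Agent.JacLib.Field
import Groth.Agent.CurveFF.RatPoint
import Groth.Agent.CurveFF.PointIdeal
import Groth.Agent.CurveFF.Pic
import Groth.Agent.CurveFF.Point2
import Groth.Agent.CurveFF.Genus
import Groth.Agent.FF.Count
-- import your own Groth.Agent.* helpers here

set_option autoImplicit false
set_option backward.isDefEq.respectTransparency false
set_option backward.isDefEq.respectTransparency.types false
set_option linter.style.haveILetI false
universe u
open CategoryTheory CategoryTheory.Limits AlgebraicGeometry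
open JacVar

namespace Groth.Agent.S17807

open Groth.Agent
attribute [local instance] Curv2.stalkAlgebra
attribute [local instance high] FunFld.Place.algRes

/-- Let C be a smooth proper geometrically connected curve of genus g > 0 over a field k with a
k-rational point, and let L be an invertible module on C with h¹(C, L) > 0. Under these hypotheses,
C contains some nonempty open U with the following property: whenever Q is a k-rational point of C
and M is an invertible module satisfying M ⊗ I_Q ≅ L (so M is L(Q)), one has h¹(C, M) = h¹(C, L) − 1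
if Q belongs to U, and h¹(C, M) = h¹(C, L) if Q does not. (The published statement is phrased for
all closed points Q; for a closed point of degree d > 1 the drop can exceed one, so this row states
it for k-rational points Q.) -/
theorem result (k : Type u) [Field k]
    (C : Scheme.{u}) [C.Over (Spec (CommRingCat.of k))]
    [IsProper (C ↘ Spec (CommRingCat.of k))] [Smooth (C ↘ Spec (CommRingCat.of k))] [GeometricallyConnected (C ↘ Spec (CommRingCat.of k))]
    (hdim : topologicalKrullDim ↥C = 1)
    (hg : 0 < Curv2.genus k C)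
    (σ₀ : Spec (CommRingCat.of k) ⟶ C) (hσ₀ : σ₀ ≫ (C ↘ Spec (CommRingCat.of k)) = 𝟙 _)
    (L : C.Modules) (hL : PicF.IsInvertible L) (hL1 : 0 < Module.finrank k (Coh.HH C L 1)) :
    ∃ U : C.Opens, (U : Set ↥C).Nonempty ∧
      ∀ (σ : Spec (CommRingCat.of k) ⟶ C) (hσ : σ ≫ (C ↘ Spec (CommRingCat.of k)) = 𝟙 _) (M : C.Modules) (hM : PicF.IsInvertible M)
        (hML : Nonempty (CohB1.tensorMod M (ClSub.idealMod σ.ker) ≅ L)),
        ((∀ p, σ.base p ∈ U) → Module.finrank k (Coh.HH C M 1) = Module.finrank k (Coh.HH C L 1) - 1) ∧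
        ((∀ p, σ.base p ∉ U) → Module.finrank k (Coh.HH C M 1) = Module.finrank k (Coh.HH C L 1)) := by
  classical
  obtain ⟨hint, hreg, h0⟩ := JacLib.setup_of_smooth_connected k C hdim
  haveI := hint; haveI := hreg
  have hK := CurveFF.isFunctionField k hdim h0
  obtain ⟨C₀, hC₀⟩ := FF.exists_canonical hK
  obtain ⟨eL, heL⟩ := CurveFF.exists_base hL
  obtain ⟨D, hD⟩ := CurveFF.exists_isDiv hdim h0 hL heL
  have hLE := CurveFF.finrank_H1_eq hdim h0 hL heL hD hC₀
  rw [hLE] at hL1 ⊢
  let E := C₀ - D
  haveI := FF.finite_L hK E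
  obtain ⟨⟨f, hf⟩, hf0⟩ := Module.finrank_pos_iff_exists_ne_zero.1 (show 0 < Module.finrank k (FunFld.L E) from hL1)
  have hf0' : f ≠ 0 := fun h => hf0 (Subtype.ext h)
  let B : Set (FunFld.Place k C.functionField) := {P | FunFld.ell (E - Finsupp.single P 1) = FunFld.ell E}
  have hB : B.Finite := by
    refine ((E + FunFld.div k f).support.finite_toSet).subset fun P hP => ?_
    have hle : FunFld.L (E - Finsupp.single P 1) ≤ FunFld.L E :=
      FF.L_mono (sub_le_self _ (Finsupp.single_nonneg.2 zero_le_one))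
    have hmem : f ∈ FunFld.L (E - Finsupp.single P 1) := by
      rw [Submodule.eq_of_le_of_finrank_eq hle hP]
      exact hf
    have h1 := FF.le_add_div_of_mem_L hK hf0' hmem P
    simp only [Finsupp.coe_zero, Pi.zero_apply, Finsupp.add_apply, Finsupp.sub_apply, Finsupp.single_eq_same] at h1
    simp only [Finset.mem_coe, Finsupp.mem_support_iff, Finsupp.add_apply]
    omega
  let Z : Set C := {x | ∃ hx : IsClosed ({x} : Set C), CurveFF.placeOf k hdim x hx ∈ B}
  have hZfin : Z.Finite := by
    have h : Z ⊆ ⋃ P ∈ B, {x | ∃ hx : IsClosed ({x} : Set C), CurveFF.placeOf k hdim x hx = P} :=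
      fun x ⟨hx, hP⟩ => Set.mem_iUnion₂.2 ⟨_, hP, hx, rfl⟩
    refine (hB.biUnion fun P _ => ?_).subset h
    exact Set.Subsingleton.finite fun x ⟨hx, ex⟩ y ⟨hy, ey⟩ => CurveFF.placeOf_injective hdim hx hy (ex.trans ey.symm)
  have hZc : IsClosed Z := by
    rw [← Set.biUnion_of_singleton Z]
    exact hZfin.isClosed_biUnion fun x ⟨hx, _⟩ => hx
  refine ⟨⟨Zᶜ, hZc.isOpen_compl⟩, ⟨genericPoint C, fun ⟨hx, _⟩ => CurveFF.ne_generic hdim hx rfl⟩, ?_⟩
  intro σ hσ M hM hML
  let x := σ (IsLocalRing.closedPoint k)
  have hx := CurveFF.isClosed_point_of_section σ hσ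
  haveI : IsClosedImmersion (σ ≫ (C ↘ Spec (CommRingCat.of k))) := by rw [hσ]; infer_instance
  haveI : IsClosedImmersion σ := IsClosedImmersion.of_comp σ (C ↘ Spec (CommRingCat.of k))
  have hker := JacLib.ker_section σ x hx rfl
  let P := CurveFF.placeOf k hdim x hx
  obtain ⟨hI, e, he, hDe⟩ := CurveFF.isDiv_pointIdeal k hdim hx
  obtain ⟨eM, heM⟩ := CurveFF.exists_base hM
  obtain ⟨F, hF⟩ := CurveFF.exists_isDiv hdim h0 hM heM
  obtain ⟨φ⟩ := hML
  rw [hker] at φ
  have hlin := CurveFF.sub_mem_prinDivs_of_iso hdim h0 φ (CurveFF.isBase_tensor heM he)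
    (CurveFF.isDiv_tensor hdim hM hI heM he hF hDe) heL hD
  have hM1 : Module.finrank k (Coh.HH C M 1) = FunFld.ell (E - Finsupp.single P 1) := by
    rw [CurveFF.finrank_H1_eq hdim h0 hM heM hF hC₀]
    refine (FF.ell_congr hK ?_).symm
    have : C₀ - F - (E - Finsupp.single P 1) = -(F + -Finsupp.single P 1 - D) := by simp only [E]; abel
    rw [this]
    exact neg_mem hlin
  rw [hM1]
  refine ⟨fun h => ?_, fun h => ?_⟩
  · have hne : FunFld.ell (E - Finsupp.single P 1) ≠ FunFld.ell E := fun he =>
      h (IsLocalRing.closedPoint k) ⟨hx, he⟩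
    have hle : E - Finsupp.single P 1 ≤ E := sub_le_self _ (Finsupp.single_nonneg.2 zero_le_one)
    have hdeg : P.deg = 1 := by
      rw [show P = CurveFF.placeOf k hdim x hx from rfl, CurveFF.deg_placeOf hdim hx]
      letI := Curv2.resAlgebra k C x
      exact ((AlgEquiv.ofBijective (Algebra.ofId k (C.residueField x))
        (CurveFF.resMap_bijective_of_section σ hσ)).toLinearEquiv.finrank_eq).symm.trans (Module.finrank_self k)
    have h1 := FF.ell_sub_le hK hle
    rw [FF.deg_sub (D := E), FF.deg_single, hdeg] at h1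
    have h2 := FF.ell_mono hK hle
    show _ = FunFld.ell E - 1
    omega
  · have hz : x ∈ Z := not_not.1 (h (IsLocalRing.closedPoint k))
    exact hz.2

end Groth.Agent.S17807
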