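import Groth.Statements.S17808
import Groth.Agent.JacLib.OpenEll
-- import your own Groth.Agent.* helpers here

set_option autoImplicit false
set_option backward.isDefEq.respectTransparency false
set_option backward.isDefEq.respectTransparency.types false
set_option linter.style.haveILetI false
universe u
open CategoryTheory CategoryTheory.Limits AlgebraicGeometry
open JacVar

namespace Groth.Agent.S17808

open Groth.Agent
attribute [local instance] Curv2.stalkAlgebra
attribute [local instance high] FunFld.Place.algRes

/-- Let C be a smooth proper connected curve of genus g > 0 over an algebraically closed field k (with a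
chosen point), and let r ≤ g. Then there is a nonempty open subset U of the r-fold fibre power C ×_k
⋯ ×_k C such that for every k-point (P_1, …, P_r) of U (closed points, k being algebraically closed)
and every invertible module M on C with M ⊗ I_{P_1} ⊗ ⋯ ⊗ I_{P_r} ≅ O_C (so M is O(P_1 + ⋯ + P_r)),
h⁰(C, M) = 1. (The published statement, over the ground field of the section, says only that U is
open; this row also asserts that U is non-empty; k is taken algebraically closed so that the
k-points of U are its closed points.) -/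
theorem result (k : Type u) [Field k] [IsAlgClosed k]
    (C : Scheme.{u}) [C.Over (Spec (CommRingCat.of k))]
    [IsProper (C ↘ Spec (CommRingCat.of k))] [Smooth (C ↘ Spec (CommRingCat.of k))] [GeometricallyConnected (C ↘ Spec (CommRingCat.of k))]
    (hdim : topologicalKrullDim ↥C = 1)
    (hg : 0 < Curv2.genus k C)
    (σ₀ : Spec (CommRingCat.of k) ⟶ C) (hσ₀ : σ₀ ≫ (C ↘ Spec (CommRingCat.of k)) = 𝟙 _)
    (r : ℕ) (hr : r ≤ Curv2.genus k C) :
    ∃ U : (SymProd.fibPow (C ↘ Spec (CommRingCat.of k)) r).Opens, (U : Set ↥(SymProd.fibPow (C ↘ Spec (CommRingCat.of k)) r)).Nonempty ∧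
      ∀ (x : Spec (CommRingCat.of k) ⟶ SymProd.fibPow (C ↘ Spec (CommRingCat.of k)) r)
        (hx : x ≫ WidePullback.base (fun (_ : Fin r) => (C ↘ Spec (CommRingCat.of k))) = 𝟙 _)
        (hxU : ∀ p, x.base p ∈ U) (M : C.Modules) (hM : PicF.IsInvertible M)
        (hMD : Nonempty (CohB1.tensorMod M (FGA.tensorList (List.ofFn fun i : Fin r =>
          ClSub.idealMod (x ≫ WidePullback.π (fun (_ : Fin r) => (C ↘ Spec (CommRingCat.of k))) i).ker)) ≅ Coh.structureModule C)),
        Module.finrank k (Coh.HH C M 0) = 1 := by
  haveI : SmoothOfRelativeDimension 1 (C ↘ Spec (CommRingCat.of k)) :=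
    JacLib.smoothOfRelativeDimension_one _ fun s => (CurveFF.topologicalKrullDim_fiber_eq _ s).trans hdim
  obtain ⟨U, hU, h⟩ := JacLib.exists_open_config (k := k) (C := C) hdim (fun _ : Fin r => 1) 0 σ₀ hσ₀ (by
    intro _ _ _ hd h0 hgY
    refine ⟨fun x => JacLib.ell_pos_of_nonneg hd h0 ?_, ?_⟩
    · rw [JacLib.confDiv, zero_smul, add_zero]
      exact Finset.sum_nonneg fun i _ => by rw [one_smul]; exact Finsupp.single_nonneg.2 zero_le_one
    · obtain ⟨x, hx⟩ := JacLib.exists_general hd h0 r (by rw [hgY]; exact hr)
      refine ⟨x, le_of_eq ?_⟩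
      rw [JacLib.confDiv, zero_smul, add_zero]
      simp only [one_smul]
      exact hx)
  refine ⟨U, hU, fun x hx hxU M hM hMD => ?_⟩
  have hI : ∀ i, PicF.IsInvertible (ClSub.idealMod (x ≫ WidePullback.π (fun (_ : Fin r) => (C ↘ Spec (CommRingCat.of k))) i).ker) :=
    fun i => JacLib.isInvertible_ker_of_section (C ↘ Spec (CommRingCat.of k)) _
      (by rw [Category.assoc, WidePullback.π_arrow]; exact hx)
  refine h x hx hxU M hM hI (JacLib.isInvertible_ker_of_section (C ↘ Spec (CommRingCat.of k)) σ₀ hσ₀) ?_
  obtain ⟨hT, e⟩ := JacLib.exists_cls_tensorList r _ hI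
  have h1 := (PicLib.cls_eq_one (AmpleLib.isInvertible_tensor hM hT)).2 hMD
  rw [PicLib.cls_tensor hM hT, e] at h1
  simp only [neg_zero, zpow_zero, mul_one, zpow_neg, zpow_one]
  rw [Finset.prod_inv_distrib]
  exact eq_inv_of_mul_eq_one_left h1

end Groth.Agent.S17808
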