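import Groth.Statements.S17810
import Groth.Agent.JacLib.AlbaneseCoarse
import Groth.Agent.S8118
-- import your own Groth.Agent.* helpers here

set_option autoImplicit false
universe u
open CategoryTheory CategoryTheory.Limits AlgebraicGeometry MonoidalCategory CartesianMonoidalCategory MonObj
open JacVar

namespace Groth.Agent.S17810

set_option linter.style.haveILetI false
set_option backward.isDefEq.respectTransparency false


/-- The case of a curve with a rational point. Let C be a smooth proper geometrically connected curve of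
genus g > 0 over a field k with a k-rational point P, (J, ψ) its Jacobian (a commutative group
scheme over k, coarse moduli scheme on all k-schemes for degree-0 line bundles on C modulo twisting
from the base, group law induced by tensor product), j : C ⟶ J the Abel map with base point P, and F
: C ×_k C ⟶ J the morphism (x, y) ↦ j(x) · j(y)⁻¹, which sends (x, y) to the class of O(x − y) and
does not depend on P. Then for every abelian variety A over k (commutative group scheme, proper,
smooth and geometrically irreducible over k) and every morphism φ : C ×_k C ⟶ A over k which maps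
the diagonal to the zero of A, there is a unique homomorphism of group schemes J ⟶ A whose composite
with F is φ. (Stated when C has a rational point, through which F is written; the published
statement covers every C by descent.) -/
theorem result (k : Type u) [Field k]
    (C : Scheme.{u}) [C.Over (Spec (CommRingCat.of k))]
    [IsProper (C ↘ Spec (CommRingCat.of k))] [Smooth (C ↘ Spec (CommRingCat.of k))] [GeometricallyConnected (C ↘ Spec (CommRingCat.of k))]
    (hdim : topologicalKrullDim ↥C = 1)
    (hg : 0 < Curv2.genus k C)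
    (σ : Spec (CommRingCat.of k) ⟶ C) (hσ : σ ≫ (C ↘ Spec (CommRingCat.of k)) = 𝟙 _)
    (J : Over (Spec (CommRingCat.of k))) [GrpObj J] [IsCommMonObj J]
    (ψ : (ModFun.PicDeg (C ↘ Spec (CommRingCat.of k)) 0).Hom ⊤ J) (hJ : Jac.IsJacobian (C ↘ Spec (CommRingCat.of k)) ⊤ J ψ)
    (j : Over.mk (C ↘ Spec (CommRingCat.of k)) ⟶ J) (hj : Jac.IsAbelJacobiAt (C ↘ Spec (CommRingCat.of k)) σ ψ j)
    (A : Over (Spec (CommRingCat.of k))) [GrpObj A] [IsCommMonObj A]
    [IsProper A.hom] [Smooth A.hom] [GeometricallyIrreducible A.hom]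
    (φ : Over.mk (C ↘ Spec (CommRingCat.of k)) ⊗ Over.mk (C ↘ Spec (CommRingCat.of k)) ⟶ A)
    (hφ : lift (𝟙 (Over.mk (C ↘ Spec (CommRingCat.of k)))) (𝟙 (Over.mk (C ↘ Spec (CommRingCat.of k)))) ≫ φ = toUnit _ ≫ η[A]) :
    ∃! χ : J ⟶ A, IsMonHom χ ∧
      ((fst (Over.mk (C ↘ Spec (CommRingCat.of k))) (Over.mk (C ↘ Spec (CommRingCat.of k))) ≫ j) * (snd (Over.mk (C ↘ Spec (CommRingCat.of k))) (Over.mk (C ↘ Spec (CommRingCat.of k))) ≫ j)⁻¹) ≫ χ = φ := by
  let f := C ↘ Spec (CommRingCat.of k)
  haveI hX : GeometricallyIntegral f := JacLib.geometricallyIntegral_curve f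
  haveI : IsProper (Over.mk f).hom := inferInstanceAs (IsProper f)
  haveI : GeometricallyIntegral (Over.mk f).hom := hX
  haveI : GeometricallyConnected A.hom := GeomIrred.geometricallyConnected_of_geometricallyIrreducible A.hom
  haveI : GeometricallyIntegral A.hom := AbDualLib.geometricallyIntegral_of_smooth A
  let X := Over.mk f
  let s : 𝟙_ (Over (Spec (CommRingCat.of k))) ⟶ X := JacLib.basePt f σ hσ _
  let i₁ : X ⟶ X ⊗ X := lift (𝟙 X) (toUnit X ≫ s)
  let a : X ⟶ A := i₁ ≫ φ
  let b : X ⟶ A := lift (toUnit X ≫ s) (𝟙 X) ≫ φ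
  have hss : lift s s ≫ φ = η[A] := by
    have h := congrArg (s ≫ ·) hφ
    simp only [← Category.assoc, comp_lift, Category.comp_id] at h
    rw [Subsingleton.elim (s ≫ toUnit _) (𝟙 _), Category.id_comp] at h
    exact h
  have has : s ≫ a = η[A] := by
    have e : s ≫ i₁ = lift s s := by
      rw [comp_lift, Category.comp_id, ← Category.assoc, Subsingleton.elim (s ≫ toUnit X) (𝟙 _), Category.id_comp]
    rw [← Category.assoc, e, hss]
  obtain ⟨hdec, -⟩ := Groth.Agent.S8118.result k X X A s s φ hss
  have hb : b = a⁻¹ := by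
    refine eq_inv_of_mul_eq_one_right ?_
    have h := congrArg (lift (𝟙 X) (𝟙 X) ≫ ·) hdec
    simp only [MonObj.comp_mul, ← Category.assoc, lift_fst, lift_snd, Category.id_comp] at h
    rw [hφ] at h
    exact (Hom.one_def.trans h).symm
  have hdec' : φ = (fst X X ≫ a) * (snd X X ≫ a)⁻¹ := by
    rw [← GrpObj.comp_inv, ← hb]
    exact hdec
  have hjs : s ≫ j = η[J] := JacLib.basePt_comp_abelJacobi hdim σ hσ hJ hj
  obtain ⟨χ, ⟨hχm, hχ⟩, hun⟩ := JacLib.albanese_coarse hdim hg σ hσ hJ hj a (by
    refine Eq.trans ?_ (congrArg CommaMorphism.left has)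
    show σ ≫ a.left = (𝟙 _ ≫ σ) ≫ a.left
    rw [Category.id_comp])
  haveI := hχm
  refine ⟨χ, ⟨hχm, ?_⟩, fun χ' ⟨hm, h⟩ => ?_⟩
  · rw [MonObj.mul_comp, GrpObj.inv_comp, Category.assoc, Category.assoc, hχ]
    exact hdec'.symm
  · haveI := hm
    refine hun χ' ⟨hm, ?_⟩
    have e := congrArg (i₁ ≫ ·) h
    have e1 : i₁ ≫ (fst X X) ≫ j = j := by
      rw [← Category.assoc, lift_fst]
      exact Category.id_comp j
    have e2 : i₁ ≫ (snd X X) ≫ j = 1 := by
      rw [← Category.assoc, lift_snd, Category.assoc, hjs, Hom.one_def]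
    have e3 : i₁ ≫ ((fst X X ≫ j) * (snd X X ≫ j)⁻¹) = j := by
      rw [MonObj.comp_mul, GrpObj.comp_inv, e1, e2, inv_one, _root_.mul_one]
    exact ((congrArg (· ≫ χ') e3).symm.trans (Category.assoc _ _ _)).trans e

end Groth.Agent.S17810
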