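import Groth.Statements.S17813
import Groth.Agent.JacLib.WTranslate
-- import your own Groth.Agent.* helpers here

set_option autoImplicit false
set_option linter.style.haveILetI false
set_option linter.unusedSectionVars false
set_option backward.isDefEq.respectTransparency false
set_option backward.isDefEq.respectTransparency.types false
universe u
open CategoryTheory CategoryTheory.Limits AlgebraicGeometry MonoidalCategory CartesianMonoidalCategory MonObj
open JacVar

namespace Groth.Agent.S17813

open Groth.Agent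

/-- Let k be an algebraically closed field, C a smooth proper connected curve of genus g ≥ 2 over k with
a k-point P, (J, ψ) its Jacobian (a commutative group scheme over k, coarse moduli scheme on all
k-schemes for degree-0 line bundles modulo twisting from the base, group law induced by tensor
product) and j : C ⟶ J the Abel map with base point P. Write W^r ⊂ J for the image of the r-fold
product C ×_k ⋯ ×_k C under (x_1, …, x_r) ↦ j(x_1) ⋯ j(x_r) (the image of the r-th symmetric power;
W^0 is the origin), and W^r_a for its translate by a k-point a of J. Then for 0 ≤ r ≤ g − 1 the set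
W^{g−1−r} is the intersection of the translates W^{g−1}_{a⁻¹} over all k-points a of J lying in W^r.
(The companion equality for the images under x ↦ κ·x⁻¹, κ the image of a canonical divisor, is not
stated.) -/
theorem result (k : Type u) [Field k] [IsAlgClosed k]
    (C : Scheme.{u}) [C.Over (Spec (CommRingCat.of k))]
    [IsProper (C ↘ Spec (CommRingCat.of k))] [Smooth (C ↘ Spec (CommRingCat.of k))] [GeometricallyConnected (C ↘ Spec (CommRingCat.of k))]
    (hdim : topologicalKrullDim ↥C = 1)
    (g : ℕ) (hg : Curv2.genus k C = g) (hg2 : 2 ≤ g)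
    (σ : Spec (CommRingCat.of k) ⟶ C) (hσ : σ ≫ (C ↘ Spec (CommRingCat.of k)) = 𝟙 _)
    (J : Over (Spec (CommRingCat.of k))) [GrpObj J] [IsCommMonObj J]
    (ψ : (ModFun.PicDeg (C ↘ Spec (CommRingCat.of k)) 0).Hom ⊤ J) (hJ : Jac.IsJacobian (C ↘ Spec (CommRingCat.of k)) ⊤ J ψ)
    (j : Over.mk (C ↘ Spec (CommRingCat.of k)) ⟶ J) (hj : Jac.IsAbelJacobiAt (C ↘ Spec (CommRingCat.of k)) σ ψ j)
    (r : ℕ) (hr : r ≤ g - 1) :
    Set.range ((List.ofFn fun i : Fin (g - 1 - r) =>
        (Over.homMk (WidePullback.π (fun (_ : Fin (g - 1 - r)) => (C ↘ Spec (CommRingCat.of k))) i)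
          (WidePullback.π_arrow (fun (_ : Fin (g - 1 - r)) => (C ↘ Spec (CommRingCat.of k))) i) : Over.mk (WidePullback.base fun (_ : Fin (g - 1 - r)) => (C ↘ Spec (CommRingCat.of k))) ⟶ Over.mk (C ↘ Spec (CommRingCat.of k))) ≫ j).prod).left.base =
      ⋂ (a : 𝟙_ (Over (Spec (CommRingCat.of k))) ⟶ J) (_ : ∀ p, a.left.base p ∈ Set.range ((List.ofFn fun i : Fin r =>
        (Over.homMk (WidePullback.π (fun (_ : Fin r) => (C ↘ Spec (CommRingCat.of k))) i)
          (WidePullback.π_arrow (fun (_ : Fin r) => (C ↘ Spec (CommRingCat.of k))) i) : Over.mk (WidePullback.base fun (_ : Fin r) => (C ↘ Spec (CommRingCat.of k))) ⟶ Over.mk (C ↘ Spec (CommRingCat.of k))) ≫ j).prod).left.base),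
        ((Jac.transl J a⁻¹).left.base '' Set.range ((List.ofFn fun i : Fin (g - 1) =>
        (Over.homMk (WidePullback.π (fun (_ : Fin (g - 1)) => (C ↘ Spec (CommRingCat.of k))) i)
          (WidePullback.π_arrow (fun (_ : Fin (g - 1)) => (C ↘ Spec (CommRingCat.of k))) i) : Over.mk (WidePullback.base fun (_ : Fin (g - 1)) => (C ↘ Spec (CommRingCat.of k))) ⟶ Over.mk (C ↘ Spec (CommRingCat.of k))) ≫ j).prod).left.base) := by
  have hsep := JacLib.isSeparated_jac σ hσ hJ hdim
  haveI := hsep.1
  haveI := hsep.2
  apply Set.Subset.antisymm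
  · refine Set.subset_iInter₂ fun a ha => ?_
    refine JacLib.subset_of_jpt (JacLib.isClosed_range_powSum (g - 1 - r)) (JacLib.isClosed_transl (g - 1) a⁻¹)
      fun q hq => ?_
    refine (JacLib.jpt_mem_transl_iff (g - 1) a⁻¹ q).2 ?_
    have h := JacLib.mul_mem_WPts ((JacLib.jpt_mem_range_iff (g - 1 - r) q).1 hq)
      ((JacLib.jpt_mem_range_iff r a).1 (ha (IsLocalRing.closedPoint k)))
    rw [show g - 1 - r + r = g - 1 by omega] at h
    rwa [inv_inv]
  · refine JacLib.subset_of_jpt (isClosed_iInter fun a => isClosed_iInter fun _ => JacLib.isClosed_transl (g - 1) a⁻¹)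
      (JacLib.isClosed_range_powSum (g - 1 - r)) fun q hq => ?_
    refine (JacLib.jpt_mem_range_iff (g - 1 - r) q).2 (JacLib.mem_WPts_of_forall σ hσ hJ hdim hj (g - 1 - r) r (by omega) q
      fun a ha => ?_)
    have hp : ∀ p, a.left.base p ∈ Set.range (JacLib.powSum j r).left.base := fun p => by
      haveI : Subsingleton ↥(Spec (CommRingCat.of k)) := inferInstanceAs (Subsingleton (PrimeSpectrum k))
      rw [show p = IsLocalRing.closedPoint k from Subsingleton.elim (α := ↥(Spec (CommRingCat.of k))) _ _]
      exact (JacLib.jpt_mem_range_iff r a).2 ha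
    have h2 : JacLib.jpt q ∈ (Jac.transl J a⁻¹).left.base '' Set.range (JacLib.powSum j (g - 1)).left.base :=
      Set.mem_iInter₂.1 hq a hp
    rw [JacLib.jpt_mem_transl_iff, inv_inv] at h2
    rw [show g - 1 - r + r = g - 1 by omega]
    exact h2

end Groth.Agent.S17813
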