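import Groth.Statements.S17814
import Groth.Agent.FibSepLib.Main
-- import your own Groth.Agent.* helpers here

set_option autoImplicit false
set_option backward.isDefEq.respectTransparency false
universe u
open CategoryTheory CategoryTheory.Limits AlgebraicGeometry
open SDiv

namespace Groth.Agent.S17814

/-- Let T be a reduced locally Noetherian scheme, π : 𝒞 ⟶ T a proper smooth morphism of relative
dimension 1, and D, D' relative effective divisors on 𝒞/T: closed subschemes whose ideal sheaves are
locally generated by a single nonzerodivisor and which are flat over T. If for every point t of T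
the fibre of D over t contains the fibre of D' as closed subschemes of 𝒞_t (containment of ideal
sheaves the other way), then D contains D': the ideal sheaf of D is contained in that of D'. (The
published statement has no hypothesis on T; over T = Spec k[ε] the divisors x = 0 and x = ε on the
projective line have equal fibres while neither contains the other. This row assumes T reduced and
locally Noetherian.) -/
theorem result {𝒞 T : Scheme.{u}} [IsLocallyNoetherian T] [AlgebraicGeometry.IsReduced T]
    (π : 𝒞 ⟶ T) [IsProper π] [SmoothOfRelativeDimension 1 π]
    (D D' : 𝒞.IdealSheafData)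
    (hD : BlowUp.IsEffCartierIdeal D ∧ Flat (D.subschemeι ≫ π))
    (hD' : BlowUp.IsEffCartierIdeal D' ∧ Flat (D'.subschemeι ≫ π))
    (hfib : ∀ t : ↥T, D.comap (pullback.fst π (T.fromSpecResidueField t)) ≤
      D'.comap (pullback.fst π (T.fromSpecResidueField t))) :
    D ≤ D' := by
  obtain ⟨-, hD'flat⟩ := hD'
  haveI := hD'flat
  have hker : D'.comap D'.subschemeι = ⊥ := by
    refine le_bot_iff.mp (Scheme.IdealSheafData.le_map_iff_comap_le.mp ?_)
    rw [Scheme.IdealSheafData.map_bot, Scheme.IdealSheafData.ker_subschemeι]
  have h : D.comap D'.subschemeι = ⊥ := by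
    refine FibSepLib.eq_bot_of_forall_comap_fibre (D'.subschemeι ≫ π) _ fun t ↦ ?_
    let q : pullback (D'.subschemeι ≫ π) (T.fromSpecResidueField t) ⟶
        pullback π (T.fromSpecResidueField t) :=
      pullback.lift (pullback.fst _ _ ≫ D'.subschemeι) (pullback.snd _ _)
        (by rw [Category.assoc]; exact pullback.condition)
    have hq : q ≫ pullback.fst π (T.fromSpecResidueField t) =
        pullback.fst _ _ ≫ D'.subschemeι := pullback.lift_fst _ _ _
    refine le_bot_iff.mp ?_
    rw [← Scheme.IdealSheafData.comap_comp, ← hq, Scheme.IdealSheafData.comap_comp]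
    refine ((Scheme.IdealSheafData.comap_mono q) (hfib t)).trans ?_
    show (D'.comap _).comap q ≤ ⊥
    rw [← Scheme.IdealSheafData.comap_comp, hq, Scheme.IdealSheafData.comap_comp, hker,
      Scheme.IdealSheafData.comap_bot]
  have h2 := Scheme.IdealSheafData.le_map_iff_comap_le.mpr h.le
  rwa [Scheme.IdealSheafData.map_bot, Scheme.IdealSheafData.ker_subschemeι] at h2

end Groth.Agent.S17814
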