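import Groth.Statements.S19877
import Groth.Agent.JacLib.WTorelli
-- import your own Groth.Agent.* helpers here

set_option autoImplicit false
set_option linter.style.haveILetI false
set_option linter.unusedSectionVars false
set_option backward.isDefEq.respectTransparency false
set_option backward.isDefEq.respectTransparency.types false
universe u
open CategoryTheory CategoryTheory.Limits AlgebraicGeometry MonoidalCategory CartesianMonoidalCategory MonObj
open JacVar

namespace Groth.Agent.S19877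

open Groth.Agent

attribute [local instance] Curv2.stalkAlgebra

/-- An endomorphism fixing all rational points is the identity. -/
theorem eq_id_of_points {k : Type u} [Field k] [IsAlgClosed k] {C : Scheme.{u}} [C.Over (Spec (CommRingCat.of k))]
    [IsProper (C ↘ Spec (CommRingCat.of k))] [Smooth (C ↘ Spec (CommRingCat.of k))]
    [GeometricallyConnected (C ↘ Spec (CommRingCat.of k))] [IsReduced C]
    (τa : Over.mk (C ↘ Spec (CommRingCat.of k)) ⟶ Over.mk (C ↘ Spec (CommRingCat.of k)))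
    (h : ∀ R : 𝟙_ (Over (Spec (CommRingCat.of k))) ⟶ Over.mk (C ↘ Spec (CommRingCat.of k)), R ≫ τa = R) : τa = 𝟙 _ := by
  haveI : LocallyOfFiniteType (τa.left ≫ (C ↘ Spec (CommRingCat.of k))) := by
    rw [show τa.left ≫ (C ↘ Spec (CommRingCat.of k)) = C ↘ Spec (CommRingCat.of k) from Over.w τa]; infer_instance
  refine Over.OverMorphism.ext (ext_of_apply_eq (X := C) (Y := C) (C ↘ Spec (CommRingCat.of k)) Set.univ
    isOpen_univ.isLocallyClosed dense_univ (fun x _ hx => ?_) ((Over.w τa).trans (Category.id_comp _).symm))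
  obtain ⟨R, hR⟩ := JacLib.kpt_surjective (k := k) (C := C) ⟨x, hx⟩
  have h1 := JacLib.kpt_comp R τa
  rw [h R, hR] at h1
  exact h1.symm

/-- Evaluation of the hypothesis at a point. -/
theorem eval_eq {S : Scheme.{u}} {X A : Over S} [GrpObj A] (F : X ⟶ A) (c : 𝟙_ (Over S) ⟶ A)
    (R : 𝟙_ (Over S) ⟶ X) : R ≫ (F * (toUnit X ≫ c)) = (R ≫ F) * c := by
  rw [MonObj.comp_mul, ← Category.assoc R (toUnit X) c, Subsingleton.elim (R ≫ toUnit X) (𝟙 _), Category.id_comp]

/-- Let k be an algebraically closed field, C and C' smooth proper connected curves of the same genus g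
≥ 2 over k with k-points P and P', (J, ψ) and (J', ψ') their Jacobians (commutative group schemes
over k, coarse moduli schemes on all k-schemes for degree-0 line bundles modulo twisting from the
base, group law induced by tensor product), j and j' the Abel maps with base points P and P', and β
: J ≅ J' an isomorphism of group schemes over k. Fix a sign s ∈ {1, −1}. If isomorphisms α₁, α₂ : C
≅ C' over k and k-points c₁, c₂ of J' satisfy j' ∘ α_i = (β ∘ j)^s · c_i for i = 1, 2 (group of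
morphisms C ⟶ J'), then α₁ = α₂ and c₁ = c₂. This holds whether or not C is hyperelliptic; for C not
hyperelliptic the sign is determined as well, which is a separate statement. (The published
statement takes β an isomorphism of the canonically polarized Jacobians; this row allows any
isomorphism of group schemes β.) -/
theorem result (k : Type u) [Field k] [IsAlgClosed k]
    (C : Scheme.{u}) [C.Over (Spec (CommRingCat.of k))]
    [IsProper (C ↘ Spec (CommRingCat.of k))] [Smooth (C ↘ Spec (CommRingCat.of k))] [GeometricallyConnected (C ↘ Spec (CommRingCat.of k))]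
    (hdim : topologicalKrullDim ↥C = 1)
    (C' : Scheme.{u}) [C'.Over (Spec (CommRingCat.of k))]
    [IsProper (C' ↘ Spec (CommRingCat.of k))] [Smooth (C' ↘ Spec (CommRingCat.of k))] [GeometricallyConnected (C' ↘ Spec (CommRingCat.of k))]
    (hdim' : topologicalKrullDim ↥C' = 1)
    (g : ℕ) (hg : Curv2.genus k C = g) (hg' : Curv2.genus k C' = g) (hg2 : 2 ≤ g)
    (σ : Spec (CommRingCat.of k) ⟶ C) (hσ : σ ≫ (C ↘ Spec (CommRingCat.of k)) = 𝟙 _) (σ' : Spec (CommRingCat.of k) ⟶ C') (hσ' : σ' ≫ (C' ↘ Spec (CommRingCat.of k)) = 𝟙 _)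
    (J : Over (Spec (CommRingCat.of k))) [GrpObj J] [IsCommMonObj J]
    (ψ : (ModFun.PicDeg (C ↘ Spec (CommRingCat.of k)) 0).Hom ⊤ J) (hJ : Jac.IsJacobian (C ↘ Spec (CommRingCat.of k)) ⊤ J ψ)
    (J' : Over (Spec (CommRingCat.of k))) [GrpObj J'] [IsCommMonObj J']
    (ψ' : (ModFun.PicDeg (C' ↘ Spec (CommRingCat.of k)) 0).Hom ⊤ J') (hJ' : Jac.IsJacobian (C' ↘ Spec (CommRingCat.of k)) ⊤ J' ψ')
    (j : Over.mk (C ↘ Spec (CommRingCat.of k)) ⟶ J) (hj : Jac.IsAbelJacobiAt (C ↘ Spec (CommRingCat.of k)) σ ψ j)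
    (j' : Over.mk (C' ↘ Spec (CommRingCat.of k)) ⟶ J') (hj' : Jac.IsAbelJacobiAt (C' ↘ Spec (CommRingCat.of k)) σ' ψ' j')
    (β : J ≅ J') [IsMonHom β.hom]
    (α₁ α₂ : C ≅ C') (hα₁ : α₁.hom ≫ (C' ↘ Spec (CommRingCat.of k)) = (C ↘ Spec (CommRingCat.of k))) (hα₂ : α₂.hom ≫ (C' ↘ Spec (CommRingCat.of k)) = (C ↘ Spec (CommRingCat.of k)))
    (c₁ c₂ : 𝟙_ (Over (Spec (CommRingCat.of k))) ⟶ J') (s : ℤ) (hs : s = 1 ∨ s = -1)
    (h₁ : Over.homMk α₁.hom hα₁ ≫ j' = (j ≫ β.hom) ^ s * (toUnit (Over.mk (C ↘ Spec (CommRingCat.of k))) ≫ c₁))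
    (h₂ : Over.homMk α₂.hom hα₂ ≫ j' = (j ≫ β.hom) ^ s * (toUnit (Over.mk (C ↘ Spec (CommRingCat.of k))) ≫ c₂)) :
    α₁ = α₂ ∧ c₁ = c₂ := by
  classical
  obtain ⟨hint, hreg, -⟩ := JacLib.setup_of_smooth_connected k C hdim
  haveI := hint
  haveI := hreg
  let X : Over (Spec (CommRingCat.of k)) := Over.mk (C ↘ Spec (CommRingCat.of k))
  let X' : Over (Spec (CommRingCat.of k)) := Over.mk (C' ↘ Spec (CommRingCat.of k))
  let a₁ : X ⟶ X' := Over.homMk α₁.hom hα₁
  let a₂ : X ⟶ X' := Over.homMk α₂.hom hα₂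
  let b₁ : X' ⟶ X := Over.homMk α₁.inv ((Iso.inv_comp_eq α₁).2 hα₁.symm)
  let τa : X ⟶ X := a₂ ≫ b₁
  have hτ : τa ≫ a₁ = a₂ := Over.OverMorphism.ext (show (α₂.hom ≫ α₁.inv) ≫ α₁.hom = α₂.hom by
    rw [Category.assoc, α₁.inv_hom_id, Category.comp_id])
  have key : ∀ R : 𝟙_ (Over (Spec (CommRingCat.of k))) ⟶ X,
      (R ≫ τa ≫ (j ≫ β.hom) ^ s) * c₁ = (R ≫ (j ≫ β.hom) ^ s) * c₂ := fun R => by
    rw [← eval_eq _ c₂ R, ← h₂, ← Category.assoc R τa, ← eval_eq _ c₁ (R ≫ τa), ← h₁,
      show (Over.homMk α₂.hom hα₂ : X ⟶ X') = τa ≫ a₁ from hτ.symm]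
    simp only [Category.assoc]
    rfl
  let d : 𝟙_ (Over (Spec (CommRingCat.of k))) ⟶ J :=
    (if s = 1 then c₁⁻¹ * c₂ else c₂⁻¹ * c₁) ≫ β.inv
  have hd : ∀ R : 𝟙_ (Over (Spec (CommRingCat.of k))) ⟶ X, (R ≫ τa) ≫ j = (R ≫ j) * d := fun R => by
    have h := key R
    rw [← cancel_mono β.hom, MonObj.mul_comp]
    simp only [d, Category.assoc, β.inv_hom_id, Category.comp_id]
    rcases hs with rfl | rfl
    · rw [if_pos rfl]
      simp only [zpow_one] at h
      rw [eq_mul_inv_of_mul_eq h]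
      ac_rfl
    · rw [if_neg (by decide)]
      simp only [zpow_neg_one, GrpObj.comp_inv] at h
      rw [← inv_inv (R ≫ τa ≫ j ≫ β.hom), eq_mul_inv_of_mul_eq h, mul_inv, mul_inv, inv_inv, inv_inv]
      ac_rfl
  have hd1 := JacLib.eq_one_of_translate σ hσ hJ hdim hj (by omega) τa d hd
  have hfix : ∀ R : 𝟙_ (Over (Spec (CommRingCat.of k))) ⟶ X, R ≫ τa = R := fun R =>
    JacLib.comp_abel_injective σ hσ hJ hdim hj (by omega) (by rw [hd R, hd1, _root_.mul_one])
  have hid := eq_id_of_points τa hfix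
  refine ⟨Iso.ext ?_, ?_⟩
  · have h := congrArg CommaMorphism.left hτ
    rw [hid, Category.id_comp] at h
    exact h
  · obtain ⟨R, -⟩ := JacLib.exists_three_points (k := k) (C := C) hdim
    have h := key R
    rw [← Category.assoc, hfix] at h
    exact mul_left_cancel h

end Groth.Agent.S19877
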