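import Groth.Statements.S17815
import Groth.Agent.JacLib.WTorelli
import Groth.Agent.S19877
-- import your own Groth.Agent.* helpers here

set_option autoImplicit false
set_option linter.style.haveILetI false
set_option linter.unusedSectionVars false
set_option backward.isDefEq.respectTransparency false
set_option backward.isDefEq.respectTransparency.types false
universe u
open CategoryTheory CategoryTheory.Limits AlgebraicGeometry MonoidalCategory CartesianMonoidalCategory MonObj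
open JacVar

namespace Groth.Agent.S17815

open Groth.Agent

open Groth.Agent.S19877 (eval_eq)

/-- The non-hyperelliptic case. Let k be an algebraically closed field, C and C' smooth proper connected
curves of genus g ≥ 2 over k with k-points P and P', (J, ψ) and (J', ψ') their Jacobians
(commutative group schemes over k, coarse moduli schemes on all k-schemes for degree-0 line bundles
modulo twisting from the base, group law induced by tensor product), j and j' the Abel maps with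
base points P and P', and β : J ≅ J' an isomorphism of group schemes over k. Suppose C is not
hyperelliptic: no invertible module of degree 2 on C has a two-dimensional space of global sections.
Then the isomorphism, the sign and the translation in Torelli's conclusion are uniquely determined
by β, P and P': if isomorphisms α₁, α₂ : C ≅ C' over k, k-points c₁, c₂ of J' and signs s₁, s₂ ∈ {1,
−1} satisfy j' ∘ α_i = (β ∘ j)^{s_i} · c_i for i = 1, 2, then α₁ = α₂, s₁ = s₂ and c₁ = c₂. (The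
published statement takes β an isomorphism of the canonically polarized Jacobians; this row allows
any isomorphism of group schemes β.) -/
theorem result (k : Type u) [Field k] [IsAlgClosed k]
    (C : Scheme.{u}) [C.Over (Spec (CommRingCat.of k))]
    [IsProper (C ↘ Spec (CommRingCat.of k))] [Smooth (C ↘ Spec (CommRingCat.of k))] [GeometricallyConnected (C ↘ Spec (CommRingCat.of k))]
    (hdim : topologicalKrullDim ↥C = 1)
    (C' : Scheme.{u}) [C'.Over (Spec (CommRingCat.of k))]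
    [IsProper (C' ↘ Spec (CommRingCat.of k))] [Smooth (C' ↘ Spec (CommRingCat.of k))] [GeometricallyConnected (C' ↘ Spec (CommRingCat.of k))]
    (hdim' : topologicalKrullDim ↥C' = 1)
    (g : ℕ) (hg : Curv2.genus k C = g) (hg' : Curv2.genus k C' = g) (hg2 : 2 ≤ g)
    (σ : Spec (CommRingCat.of k) ⟶ C) (hσ : σ ≫ (C ↘ Spec (CommRingCat.of k)) = 𝟙 _) (σ' : Spec (CommRingCat.of k) ⟶ C') (hσ' : σ' ≫ (C' ↘ Spec (CommRingCat.of k)) = 𝟙 _)
    (J : Over (Spec (CommRingCat.of k))) [GrpObj J] [IsCommMonObj J]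
    (ψ : (ModFun.PicDeg (C ↘ Spec (CommRingCat.of k)) 0).Hom ⊤ J) (hJ : Jac.IsJacobian (C ↘ Spec (CommRingCat.of k)) ⊤ J ψ)
    (J' : Over (Spec (CommRingCat.of k))) [GrpObj J'] [IsCommMonObj J']
    (ψ' : (ModFun.PicDeg (C' ↘ Spec (CommRingCat.of k)) 0).Hom ⊤ J') (hJ' : Jac.IsJacobian (C' ↘ Spec (CommRingCat.of k)) ⊤ J' ψ')
    (j : Over.mk (C ↘ Spec (CommRingCat.of k)) ⟶ J) (hj : Jac.IsAbelJacobiAt (C ↘ Spec (CommRingCat.of k)) σ ψ j)
    (j' : Over.mk (C' ↘ Spec (CommRingCat.of k)) ⟶ J') (hj' : Jac.IsAbelJacobiAt (C' ↘ Spec (CommRingCat.of k)) σ' ψ' j')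
    (β : J ≅ J') [IsMonHom β.hom]
    (hnh : ¬ ∃ L : C.Modules, PicF.IsInvertible L ∧ Curv2.deg k C L 1 = 2 ∧ Module.finrank k (Coh.HH C L 0) = 2)
    (α₁ α₂ : C ≅ C') (hα₁ : α₁.hom ≫ (C' ↘ Spec (CommRingCat.of k)) = (C ↘ Spec (CommRingCat.of k))) (hα₂ : α₂.hom ≫ (C' ↘ Spec (CommRingCat.of k)) = (C ↘ Spec (CommRingCat.of k)))
    (c₁ c₂ : 𝟙_ (Over (Spec (CommRingCat.of k))) ⟶ J') (s₁ s₂ : ℤ) (hs₁ : s₁ = 1 ∨ s₁ = -1) (hs₂ : s₂ = 1 ∨ s₂ = -1)
    (h₁ : Over.homMk α₁.hom hα₁ ≫ j' = (j ≫ β.hom) ^ s₁ * (toUnit (Over.mk (C ↘ Spec (CommRingCat.of k))) ≫ c₁))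
    (h₂ : Over.homMk α₂.hom hα₂ ≫ j' = (j ≫ β.hom) ^ s₂ * (toUnit (Over.mk (C ↘ Spec (CommRingCat.of k))) ≫ c₂)) :
    α₁ = α₂ ∧ s₁ = s₂ ∧ c₁ = c₂ := by
  classical
  obtain ⟨hint, hreg, -⟩ := JacLib.setup_of_smooth_connected k C hdim
  haveI := hint
  haveI := hreg
  let X : Over (Spec (CommRingCat.of k)) := Over.mk (C ↘ Spec (CommRingCat.of k))
  let X' : Over (Spec (CommRingCat.of k)) := Over.mk (C' ↘ Spec (CommRingCat.of k))
  let a₁ : X ⟶ X' := Over.homMk α₁.hom hα₁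
  let a₂ : X ⟶ X' := Over.homMk α₂.hom hα₂
  let b₁ : X' ⟶ X := Over.homMk α₁.inv ((Iso.inv_comp_eq α₁).2 hα₁.symm)
  let τa : X ⟶ X := a₂ ≫ b₁
  have hτ : τa ≫ a₁ = a₂ := Over.OverMorphism.ext (show (α₂.hom ≫ α₁.inv) ≫ α₁.hom = α₂.hom by
    rw [Category.assoc, α₁.inv_hom_id, Category.comp_id])
  have key : ∀ R : 𝟙_ (Over (Spec (CommRingCat.of k))) ⟶ X,
      (R ≫ τa ≫ (j ≫ β.hom) ^ s₁) * c₁ = (R ≫ (j ≫ β.hom) ^ s₂) * c₂ := fun R => by
    rw [← eval_eq _ c₂ R, ← h₂, ← Category.assoc R τa, ← eval_eq _ c₁ (R ≫ τa), ← h₁,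
      show (Over.homMk α₂.hom hα₂ : X ⟶ X') = τa ≫ a₁ from hτ.symm]
    simp only [Category.assoc]
    rfl
  have hs : s₁ = s₂ := by
    by_contra hne
    let d : 𝟙_ (Over (Spec (CommRingCat.of k))) ⟶ J :=
      (if s₁ = 1 then c₁⁻¹ * c₂ else c₂⁻¹ * c₁) ≫ β.inv
    have hd : ∀ R : 𝟙_ (Over (Spec (CommRingCat.of k))) ⟶ X, ((R ≫ τa) ≫ j) * (R ≫ j) = d := fun R => by
      have h := key R
      rw [← cancel_mono β.hom, MonObj.mul_comp]
      simp only [d, Category.assoc, β.inv_hom_id, Category.comp_id]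
      rcases hs₁ with rfl | rfl <;> rcases hs₂ with rfl | rfl
      · exact absurd rfl hne
      · rw [if_pos rfl]
        simp only [zpow_one, zpow_neg_one, GrpObj.comp_inv] at h
        rw [eq_mul_inv_of_mul_eq h, mul_comm c₁⁻¹ c₂, mul_comm ((R ≫ j ≫ β.hom)⁻¹) c₂]
        calc c₂ * (R ≫ j ≫ β.hom)⁻¹ * c₁⁻¹ * (R ≫ j ≫ β.hom)
            = (R ≫ j ≫ β.hom)⁻¹ * (R ≫ j ≫ β.hom) * (c₂ * c₁⁻¹) := by ac_rfl
          _ = c₂ * c₁⁻¹ := by rw [inv_mul_cancel, _root_.one_mul]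
      · rw [if_neg (by decide)]
        simp only [zpow_one, zpow_neg_one, GrpObj.comp_inv] at h
        rw [← inv_inv (R ≫ τa ≫ j ≫ β.hom), eq_mul_inv_of_mul_eq h, mul_inv, mul_inv, inv_inv]
        calc (R ≫ j ≫ β.hom)⁻¹ * c₂⁻¹ * c₁ * (R ≫ j ≫ β.hom)
            = (R ≫ j ≫ β.hom)⁻¹ * (R ≫ j ≫ β.hom) * (c₂⁻¹ * c₁) := by ac_rfl
          _ = c₂⁻¹ * c₁ := by rw [inv_mul_cancel, _root_.one_mul]
      · exact absurd rfl hne
    refine hnh (JacLib.exists_g12_of_reflect σ hσ hJ hdim hj (by omega) τa (fun R S e => ?_) d hd)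
    let b₂ : X' ⟶ X := Over.homMk α₂.inv ((Iso.inv_comp_eq α₂).2 hα₂.symm)
    have hinv : τa ≫ a₁ ≫ b₂ = 𝟙 X := by
      rw [← Category.assoc, hτ]
      exact Over.OverMorphism.ext α₂.hom_inv_id
    have := congrArg (· ≫ a₁ ≫ b₂) e
    simp only [Category.assoc, hinv] at this
    exact (Category.comp_id R).symm.trans (this.trans (Category.comp_id S))
  subst hs
  exact ⟨(S19877.result k C hdim C' hdim' g hg hg' hg2 σ hσ σ' hσ' J ψ hJ J' ψ' hJ' j hj j' hj' β α₁ α₂ hα₁ hα₂ c₁ c₂ s₁ hs₁ h₁ h₂).1,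
    rfl, (S19877.result k C hdim C' hdim' g hg hg' hg2 σ hσ σ' hσ' J ψ hJ J' ψ' hJ' j hj j' hj' β α₁ α₂ hα₁ hα₂ c₁ c₂ s₁ hs₁ h₁ h₂).2⟩

end Groth.Agent.S17815
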