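import Groth.Statements.S17816
import Groth.Agent.JacLib.Corresp
-- import your own Groth.Agent.* helpers here

set_option autoImplicit false
universe u
open CategoryTheory CategoryTheory.Limits AlgebraicGeometry MonoidalCategory CartesianMonoidalCategory MonObj
open JacVar

namespace Groth.Agent.S17816

set_option linter.style.haveILetI false
set_option backward.isDefEq.respectTransparency false
open Groth.Agent.PicLib Groth.Agent.AbDualLib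


/-- Let k be a field and C₁, C₂ smooth proper geometrically connected curves of positive genus over k
with k-points P₁ and P₂; let (J₁, ψ₁) and (J₂, ψ₂) be their Jacobians (commutative group schemes
over k, coarse moduli schemes on all k-schemes for degree-0 line bundles modulo twisting from the
base, group law induced by tensor product), j₁ : C₁ ⟶ J₁ the Abel map with base point P₁, and M a
universal degree-0 family on C₂ × J₂ which is trivial along P₂ × J₂ and whose classifying morphism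
under ψ₂ is the identity of J₂ (the sheaf M^{P₂}). For a homomorphism χ : J₁ ⟶ J₂ let Φ(χ) be the
class of the pullback of M along 1 × (χ ∘ j₁) : C₂ × C₁ ⟶ C₂ × J₂. Then χ ↦ Φ(χ) is a bijection from
the homomorphisms of group schemes J₁ ⟶ J₂ onto the isomorphism classes of divisorial
correspondences between (C₂, P₂) and (C₁, P₁), i.e. classes of invertible modules on C₂ ×_k C₁
trivial on P₂ × C₁ and on C₂ × P₁: each Φ(χ) is such a class, Φ is injective on homomorphisms, and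
every such class is Φ(χ) for a homomorphism χ. -/
theorem result (k : Type u) [Field k]
    (C₁ : Scheme.{u}) [C₁.Over (Spec (CommRingCat.of k))]
    [IsProper (C₁ ↘ Spec (CommRingCat.of k))] [Smooth (C₁ ↘ Spec (CommRingCat.of k))] [GeometricallyConnected (C₁ ↘ Spec (CommRingCat.of k))]
    (hdim₁ : topologicalKrullDim ↥C₁ = 1)
    (C₂ : Scheme.{u}) [C₂.Over (Spec (CommRingCat.of k))]
    [IsProper (C₂ ↘ Spec (CommRingCat.of k))] [Smooth (C₂ ↘ Spec (CommRingCat.of k))] [GeometricallyConnected (C₂ ↘ Spec (CommRingCat.of k))]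
    (hdim₂ : topologicalKrullDim ↥C₂ = 1)
    (hg₁ : 0 < Curv2.genus k C₁) (hg₂ : 0 < Curv2.genus k C₂)
    (σ₁ : Spec (CommRingCat.of k) ⟶ C₁) (hσ₁ : σ₁ ≫ (C₁ ↘ Spec (CommRingCat.of k)) = 𝟙 _) (σ₂ : Spec (CommRingCat.of k) ⟶ C₂) (hσ₂ : σ₂ ≫ (C₂ ↘ Spec (CommRingCat.of k)) = 𝟙 _)
    (J₁ : Over (Spec (CommRingCat.of k))) [GrpObj J₁] [IsCommMonObj J₁]
    (ψ₁ : (ModFun.PicDeg (C₁ ↘ Spec (CommRingCat.of k)) 0).Hom ⊤ J₁) (hJ₁ : Jac.IsJacobian (C₁ ↘ Spec (CommRingCat.of k)) ⊤ J₁ ψ₁)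
    (J₂ : Over (Spec (CommRingCat.of k))) [GrpObj J₂] [IsCommMonObj J₂]
    (ψ₂ : (ModFun.PicDeg (C₂ ↘ Spec (CommRingCat.of k)) 0).Hom ⊤ J₂) (hJ₂ : Jac.IsJacobian (C₂ ↘ Spec (CommRingCat.of k)) ⊤ J₂ ψ₂)
    (j₁ : Over.mk (C₁ ↘ Spec (CommRingCat.of k)) ⟶ J₁) (hj₁ : Jac.IsAbelJacobiAt (C₁ ↘ Spec (CommRingCat.of k)) σ₁ ψ₁ j₁)
    (Pu : (PicF.XT (C₂ ↘ Spec (CommRingCat.of k)) J₂).Modules) (hPu : ModFun.IsUnivFamily ⊤ (ModFun.PicDeg (C₂ ↘ Spec (CommRingCat.of k)) 0) J₂ Pu)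
    (hPn : Jac.IsNormAlong (C₂ ↘ Spec (CommRingCat.of k)) σ₂ hσ₂ J₂ Pu)
    (hT₂ : (⊤ : ObjectProperty (Over (Spec (CommRingCat.of k)))) J₂) (hPuψ : ψ₂.app J₂ Pu hT₂ hPu.1 = 𝟙 J₂) :
    (∀ χ : J₁ ⟶ J₂, IsMonHom χ →
      (PicF.IsInvertibleCl (PicF.pullCl (PicF.XTmap (C₂ ↘ Spec (CommRingCat.of k)) (j₁ ≫ χ)) (PicF.cl Pu)) ∧
        PicF.IsTrivialCl (PicF.pullCl (PicF.secT (C₂ ↘ Spec (CommRingCat.of k)) σ₂ hσ₂ (Over.mk (C₁ ↘ Spec (CommRingCat.of k)))) (PicF.pullCl (PicF.XTmap (C₂ ↘ Spec (CommRingCat.of k)) (j₁ ≫ χ)) (PicF.cl Pu))) ∧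
        PicF.IsTrivialCl (PicF.pullCl (PicF.XTmap (C₂ ↘ Spec (CommRingCat.of k)) (Over.homMk σ₁ hσ₁ : 𝟙_ (Over (Spec (CommRingCat.of k))) ⟶ Over.mk (C₁ ↘ Spec (CommRingCat.of k)))) (PicF.pullCl (PicF.XTmap (C₂ ↘ Spec (CommRingCat.of k)) (j₁ ≫ χ)) (PicF.cl Pu))))) ∧
    (∀ χ₁ χ₂ : J₁ ⟶ J₂, IsMonHom χ₁ → IsMonHom χ₂ →
      PicF.pullCl (PicF.XTmap (C₂ ↘ Spec (CommRingCat.of k)) (j₁ ≫ χ₁)) (PicF.cl Pu) = PicF.pullCl (PicF.XTmap (C₂ ↘ Spec (CommRingCat.of k)) (j₁ ≫ χ₂)) (PicF.cl Pu) → χ₁ = χ₂) ∧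
    (∀ c : PicF.Cl (PicF.XT (C₂ ↘ Spec (CommRingCat.of k)) (Over.mk (C₁ ↘ Spec (CommRingCat.of k)))),
      (PicF.IsInvertibleCl (c) ∧
        PicF.IsTrivialCl (PicF.pullCl (PicF.secT (C₂ ↘ Spec (CommRingCat.of k)) σ₂ hσ₂ (Over.mk (C₁ ↘ Spec (CommRingCat.of k)))) (c)) ∧
        PicF.IsTrivialCl (PicF.pullCl (PicF.XTmap (C₂ ↘ Spec (CommRingCat.of k)) (Over.homMk σ₁ hσ₁ : 𝟙_ (Over (Spec (CommRingCat.of k))) ⟶ Over.mk (C₁ ↘ Spec (CommRingCat.of k)))) (c))) →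
      ∃ χ : J₁ ⟶ J₂, IsMonHom χ ∧ PicF.pullCl (PicF.XTmap (C₂ ↘ Spec (CommRingCat.of k)) (j₁ ≫ χ)) (PicF.cl Pu) = c) := by
  let f₁ := C₁ ↘ Spec (CommRingCat.of k)
  let f₂ := C₂ ↘ Spec (CommRingCat.of k)
  haveI := JacLib.smoothOfRelativeDimension_one f₂ (JacLib.fibreDim (k := k) hdim₂)
  haveI : ConnectedSpace C₁ := GeometricallyConnected.connectedSpace_of_subsingleton f₁
  obtain ⟨J₀, hG, hC, x, hF, e, h1, -, -, hmul, he, hψ, -⟩ := JacLib.exists_fine_of_isJacobian hdim₂ σ₂ hσ₂ hJ₂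
  haveI := he
  haveI : IsProper J₂.hom := by
    rw [← Over.w e.inv]
    haveI : IsIso e.inv.left := inferInstanceAs (IsIso ((Over.forget _).map e.inv))
    infer_instance
  have key : ∀ {T : Over (Spec (CommRingCat.of k))} (g : T ⟶ J₂),
      PicF.pullCl (PicF.XTmap f₂ g) (PicF.cl Pu) = toCl (pull (PicF.XTmap f₂ (g ≫ e.inv)) x) :=
    fun g => JacLib.pullCl_universal _ hF e hψ hPu.1 hT₂ hPuψ hPn g
  let s₁ : 𝟙_ (Over (Spec (CommRingCat.of k))) ⟶ Over.mk f₁ := Over.homMk σ₁ hσ₁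
  have hsj : s₁ ≫ j₁ = η[J₁] := by
    rw [show s₁ = JacLib.basePt f₁ σ₁ hσ₁ _ from Over.OverMorphism.ext (Category.id_comp σ₁).symm]
    exact JacLib.basePt_comp_abelJacobi hdim₁ σ₁ hσ₁ hJ₁ hj₁
  have hone : pull (PicF.XTmap f₂ (1 : 𝟙_ (Over (Spec (CommRingCat.of k))) ⟶ J₀)) x = 1 :=
    map_one (JacLib.clsHom hmul _)
  have hη : ∀ (χ : J₁ ⟶ J₂), IsMonHom χ → s₁ ≫ (j₁ ≫ χ) = η[J₂] := fun χ hm => by
    rw [← Category.assoc, hsj]
    exact hm.one_hom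
  have hη0 : η[J₂] ≫ e.inv = 1 := by
    rw [IsMonHom.one_hom e.inv, Hom.one_def, Subsingleton.elim (toUnit (𝟙_ (Over (Spec (CommRingCat.of k))))) (𝟙 _),
      Category.id_comp]
  refine ⟨fun χ hχ => ?_, fun χ₁ χ₂ hm₁ hm₂ h => ?_, ?_⟩
  · rw [key]
    refine ⟨InvDescLib.isInvertibleCl_toCl _, ?_, ?_⟩
    · rw [← toCl_pull, JacLib.isTrivialCl_toCl]
      exact InvDescLib.rigid_XTmap _ hF.rigid
    · rw [← toCl_pull, JacLib.isTrivialCl_toCl,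
        InvDescLib.pull_XTmap_XTmap ((j₁ ≫ χ) ≫ e.inv) s₁ rfl]
      refine (congrArg (fun m => pull (PicF.XTmap f₂ m) x) ?_).trans hone
      rw [← Category.assoc, hη χ hχ, hη0]
  · rw [key, key] at h
    have h' : j₁ ≫ χ₁ = j₁ ≫ χ₂ :=
      (cancel_mono e.inv).1 (JacLib.hom_ext_fine (JacLib.fibreDim (k := k) hdim₂) hF (toCl_injective h))
    exact (JacLib.albanese_coarse hdim₁ hg₁ σ₁ hσ₁ hJ₁ hj₁ (j₁ ≫ χ₂)
      (congrArg CommaMorphism.left (hη χ₂ hm₂))).unique ⟨hm₁, h'⟩ ⟨hm₂, rfl⟩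
  · rintro c ⟨hc, hc₂, hc₁⟩
    obtain ⟨a, rfl⟩ := InvDescLib.exists_toCl_eq hc
    rw [← toCl_pull, JacLib.isTrivialCl_toCl] at hc₂ hc₁
    haveI : ConnectedSpace (Over.mk f₁).left := ‹ConnectedSpace C₁›
    haveI : Nonempty (𝟙_ (Over (Spec (CommRingCat.of k)))).left := ⟨IsLocalRing.closedPoint k⟩
    have hz : JacLib.IsPZc f₂ (Over.mk f₁) a :=
      JacLib.isPZc_of_connected (JacLib.fibreDim (k := k) hdim₂) s₁
        (hc₁ ▸ JacLib.isPZc_one f₂ (JacLib.fibreDim (k := k) hdim₂) _)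
    obtain ⟨g, hg, -⟩ := hF.univ _ a hc₂ hz
    have hsg : s₁ ≫ g = 1 := JacLib.hom_ext_fine (JacLib.fibreDim (k := k) hdim₂) hF (by
      rw [hone, ← InvDescLib.pull_XTmap_XTmap g s₁ rfl, hg, hc₁])
    obtain ⟨χ, ⟨hm, hχ⟩, -⟩ := JacLib.albanese_coarse hdim₁ hg₁ σ₁ hσ₁ hJ₁ hj₁ (A := J₂) (g ≫ e.hom)
      (congrArg CommaMorphism.left (show s₁ ≫ g ≫ e.hom = η[J₂] by
        rw [← Category.assoc, hsg, Hom.one_def, Subsingleton.elim (toUnit (𝟙_ (Over (Spec (CommRingCat.of k))))) (𝟙 _),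
          Category.id_comp, IsMonHom.one_hom e.hom]))
    refine ⟨χ, hm, ?_⟩
    rw [key, hχ, Category.assoc, e.hom_inv_id, Category.comp_id, hg]

end Groth.Agent.S17816
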