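import Groth.Statements.S17818
import Groth.Agent.JacLib.Corresp
import Groth.Agent.AVLib.GeomInt
import Groth.Agent.S11994

set_option autoImplicit false
universe u
open CategoryTheory CategoryTheory.Limits AlgebraicGeometry MonoidalCategory CartesianMonoidalCategory MonObj
open JacVar

namespace Groth.Agent.S17818

set_option linter.style.haveILetI false
set_option backward.isDefEq.respectTransparency false
open Groth.Agent.PicLib Groth.Agent.AbDualLib Groth.Agent.PicRepLib Groth.Agent.AmpleLib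

/-- Let C be a smooth proper geometrically connected curve of genus g > 0 over a field k with a
k-rational point P, (J, ψ) its Jacobian (a commutative group scheme over k, coarse moduli scheme on
all k-schemes for degree-0 line bundles modulo twisting from the base, group law induced by tensor
product), M the universal family on C × J normalised along P × J whose classifying morphism under ψ
is the identity (the sheaf M^P), j : C ⟶ J the Abel map with base point P, and L^P the module on C ×
C with L^P ⊗ I_Δ ≅ pr₁^* I_P ⊗ pr₂^* I_P, i.e. O(Δ − C × P − P × C). If N is an invertible module on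
C × J, trivial along P × J and along C × 0 (a divisorial correspondence between (C, P) and J), whose
pullback along 1 × j is isomorphic to L^P, then N is isomorphic to M. -/
theorem result (k : Type u) [Field k]
    (C : Scheme.{u}) [C.Over (Spec (CommRingCat.of k))]
    [IsProper (C ↘ Spec (CommRingCat.of k))] [Smooth (C ↘ Spec (CommRingCat.of k))] [GeometricallyConnected (C ↘ Spec (CommRingCat.of k))]
    (hdim : topologicalKrullDim ↥C = 1)
    (hg : 0 < Curv2.genus k C)
    (σ : Spec (CommRingCat.of k) ⟶ C) (hσ : σ ≫ (C ↘ Spec (CommRingCat.of k)) = 𝟙 _)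
    (J : Over (Spec (CommRingCat.of k))) [GrpObj J] [IsCommMonObj J]
    (ψ : (ModFun.PicDeg (C ↘ Spec (CommRingCat.of k)) 0).Hom ⊤ J) (hJ : Jac.IsJacobian (C ↘ Spec (CommRingCat.of k)) ⊤ J ψ)
    (Pu : (PicF.XT (C ↘ Spec (CommRingCat.of k)) J).Modules) (hPu : ModFun.IsUnivFamily ⊤ (ModFun.PicDeg (C ↘ Spec (CommRingCat.of k)) 0) J Pu)
    (hPn : Jac.IsNormAlong (C ↘ Spec (CommRingCat.of k)) σ hσ J Pu)
    (hT : (⊤ : ObjectProperty (Over (Spec (CommRingCat.of k)))) J) (hPuψ : ψ.app J Pu hT hPu.1 = 𝟙 J)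
    (j : Over.mk (C ↘ Spec (CommRingCat.of k)) ⟶ J) (hj : Jac.IsAbelJacobiAt (C ↘ Spec (CommRingCat.of k)) σ ψ j)
    (LP : (PicF.XT (C ↘ Spec (CommRingCat.of k)) (Over.mk (C ↘ Spec (CommRingCat.of k)))).Modules) (hLPi : PicF.IsInvertible LP)
    (hLP : Nonempty (CohB1.tensorMod LP (ClSub.idealMod (pullback.diagonal (C ↘ Spec (CommRingCat.of k))).ker) ≅
      CohB1.tensorMod ((Scheme.Modules.pullback (pullback.fst (C ↘ Spec (CommRingCat.of k)) (C ↘ Spec (CommRingCat.of k)))).obj (ClSub.idealMod σ.ker))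
        ((Scheme.Modules.pullback (pullback.snd (C ↘ Spec (CommRingCat.of k)) (C ↘ Spec (CommRingCat.of k)))).obj (ClSub.idealMod σ.ker))))
    (N : (PicF.XT (C ↘ Spec (CommRingCat.of k)) J).Modules) (hN : PicF.IsInvertible N)
    (hNP : Jac.IsNormAlong (C ↘ Spec (CommRingCat.of k)) σ hσ J N)
    (hN0 : PicF.IsTrivialCl (PicF.pullCl (PicF.XTmap (C ↘ Spec (CommRingCat.of k)) (η[J])) (PicF.cl N)))
    (hNj : Nonempty ((Scheme.Modules.pullback (PicF.XTmap (C ↘ Spec (CommRingCat.of k)) j)).obj N ≅ LP)) :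
    Nonempty (N ≅ Pu) := by
  have hgenus := hg
  clear hg
  let f := C ↘ Spec (CommRingCat.of k)
  haveI := JacLib.smoothOfRelativeDimension_one f (JacLib.fibreDim (k := k) hdim)
  obtain ⟨J₀, hG, hC, x, hF, e, h1, h2, h3, hmul, he, hψ, -⟩ := JacLib.exists_fine_of_isJacobian hdim σ hσ hJ
  haveI := he
  haveI : IsIso e.inv.left := inferInstanceAs (IsIso ((Over.forget _).map e.inv))
  haveI : IsProper J.hom := by rw [← Over.w e.inv]; infer_instance
  haveI : Smooth J.hom := by rw [← Over.w e.inv]; infer_instance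
  haveI : GeometricallyIrreducible J.hom := by
    rw [← Over.w e.inv, MorphismProperty.cancel_left_of_respectsIso @GeometricallyIrreducible]
    exact h3
  haveI : GeometricallyConnected J.hom := GeomIrred.geometricallyConnected_of_geometricallyIrreducible J.hom
  haveI : GeometricallyIntegral J.hom := AbDualLib.geometricallyIntegral_of_smooth J
  haveI : ConnectedSpace J.left := GeometricallyConnected.connectedSpace_of_subsingleton J.hom
  have key : ∀ {T : Over (Spec (CommRingCat.of k))} (g : T ⟶ J),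
      PicF.pullCl (PicF.XTmap f g) (PicF.cl Pu) = toCl (pull (PicF.XTmap f (g ≫ e.inv)) x) :=
    fun g => JacLib.pullCl_universal _ hF e hψ hPu.1 hT hPuψ hPn g
  have hrN : pull (PicF.secT f σ hσ J) (cls hN) = 1 := by
    refine (JacLib.isTrivialCl_toCl _).1 ?_
    rw [toCl_pull]
    exact hNP
  have hN1 : pull (PicF.XTmap f η[J]) (cls hN) = 1 := by
    refine (JacLib.isTrivialCl_toCl _).1 ?_
    rw [toCl_pull]
    exact hN0
  haveI : Nonempty (𝟙_ (Over (Spec (CommRingCat.of k)))).left := ⟨IsLocalRing.closedPoint k⟩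
  have hz : JacLib.IsPZc f J (cls hN) :=
    JacLib.isPZc_of_connected (JacLib.fibreDim (k := k) hdim) η[J]
      (hN1 ▸ JacLib.isPZc_one f (JacLib.fibreDim (k := k) hdim) _)
  obtain ⟨g, hg, -⟩ := hF.univ J _ hrN hz
  have hone : pull (PicF.XTmap f (1 : 𝟙_ (Over (Spec (CommRingCat.of k))) ⟶ J₀)) x = 1 :=
    map_one (JacLib.clsHom hmul _)
  have hsg : η[J] ≫ g = 1 := JacLib.hom_ext_fine (JacLib.fibreDim (k := k) hdim) hF (by
    rw [hone, ← InvDescLib.pull_XTmap_XTmap g η[J] rfl, hg, hN1])
  have hh1 : η[J] ≫ g ≫ e.hom = η[J] := by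
    rw [← Category.assoc, hsg, Hom.one_def, Subsingleton.elim (toUnit (𝟙_ (Over (Spec (CommRingCat.of k))))) (𝟙 _),
      Category.id_comp, IsMonHom.one_hom e.hom]
  have hhm : IsMonHom (g ≫ e.hom) := Groth.Agent.S11994.result k J J _ hh1
  have hj' := hj
  obtain ⟨hP, L, hL, hAJ, hjL⟩ := hj'
  have hrLP : pull (PicF.XTmap f j) (cls hN) = cls hLPi := by
    rw [pull_cls]
    exact (cls_eq_cls _ _).2 hNj
  have hLPL : cls hLPi = cls hAJ.1 * pull (PicF.XTproj f (Over.mk f)) (cls (JacLib.isInvertible_ker_of_section f σ hσ)) := by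
    have hI := JacLib.isInvertible_ker_of_section f σ hσ
    have hD := JacLib.isInvertible_diag f
    have ha := (cls_eq_cls (isInvertible_tensor hLPi hD)
      (isInvertible_tensor (isInvertible_pullback (pullback.fst f f) hI) (isInvertible_pullback (pullback.snd f f) hI))).2 hLP
    have hb := (cls_eq_cls (isInvertible_tensor hAJ.1 hD) (isInvertible_pullback (pullback.fst f f) hI)).2 hAJ.2
    rw [cls_tensor hLPi hD, cls_tensor (isInvertible_pullback (pullback.fst f f) hI) (isInvertible_pullback (pullback.snd f f) hI),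
      ← hb, cls_tensor hAJ.1 hD, mul_right_comm] at ha
    exact (mul_right_cancel ha).trans (congrArg (cls hAJ.1 * ·) (pull_cls _ _).symm)
  have hje : j ≫ (g ≫ e.hom) = j := by
    have h1' : JacLib.clfApp (JacLib.fibreDim (k := k) hdim) hF _ L hL = j ≫ e.inv := by
      rw [← cancel_mono e.hom, ← hψ _ L hP hL, hjL, Category.assoc, e.inv_hom_id, Category.comp_id]
    have h2' := JacLib.clfApp_spec (JacLib.fibreDim (k := k) hdim) hF hL hAJ.1
    have h3' : pull (PicF.secT f σ hσ (Over.mk f)) (cls hLPi) = 1 := by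
      rw [← hrLP]; exact InvDescLib.rigid_XTmap j hrN
    have h4' : rig σ hσ (cls hAJ.1) = cls hLPi := by
      rw [← rig_eq_self h3', hLPL, rig_mul_base]
    have h5 : j ≫ g = j ≫ e.inv := JacLib.hom_ext_fine (JacLib.fibreDim (k := k) hdim) hF (by
      rw [← InvDescLib.pull_XTmap_XTmap g j rfl, hg, hrLP, ← h4', ← h2', h1'])
    rw [← Category.assoc, h5, Category.assoc, e.inv_hom_id, Category.comp_id]
  have hsj : (Over.homMk σ hσ : 𝟙_ (Over (Spec (CommRingCat.of k))) ⟶ Over.mk f) ≫ j = η[J] := by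
    rw [show (Over.homMk σ hσ : 𝟙_ (Over (Spec (CommRingCat.of k))) ⟶ Over.mk f) = JacLib.basePt f σ hσ _ from
      Over.OverMorphism.ext (Category.id_comp σ).symm]
    exact JacLib.basePt_comp_abelJacobi hdim σ hσ hJ hj
  have hid : g ≫ e.hom = 𝟙 J :=
    (JacLib.albanese_coarse hdim hgenus σ hσ hJ hj j (congrArg CommaMorphism.left hsj)).unique ⟨hhm, hje⟩
      ⟨inferInstance, Category.comp_id j⟩
  have hge : g = e.inv := by
    rw [← cancel_mono e.hom, hid, e.inv_hom_id]
  obtain ⟨hPi, -⟩ := (JacLib.picDeg_ok_iff (JacLib.fibreDim (k := k) hdim)).1 hPu.1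
  have hfin := key (𝟙 J)
  rw [Category.id_comp, ← hge, hg] at hfin
  have h0 : cls hPi = cls hN := by
    apply toCl_injective
    rw [← hfin, XTmap_id]
    show PicF.cl Pu = PicF.pullCl (𝟙 _) (PicF.cl Pu)
    exact (Quot.sound ⟨(Scheme.Modules.pullbackId _).app Pu⟩).symm
  exact (cls_eq_cls _ _).1 h0.symm


end Groth.Agent.S17818
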