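import Groth.Statements.S17819
import Groth.Agent.JacLib.WTranslate
import Groth.Agent.CurveFF.CanGen
-- import your own Groth.Agent.* helpers here

set_option linter.style.haveILetI false
set_option linter.unusedSectionVars false
set_option backward.isDefEq.respectTransparency false
set_option backward.isDefEq.respectTransparency.types false
set_option maxHeartbeats 1000000

set_option autoImplicit false
universe u
open CategoryTheory CategoryTheory.Limits AlgebraicGeometry MonoidalCategory CartesianMonoidalCategory MonObj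
open JacVar

namespace Groth.Agent.S17819

open Groth.Agent.PicLib Groth.Agent.CurveFF Groth.Agent.JacLib Groth.Agent.AmpleLib Groth.Agent.ParaFLib

attribute [local instance] Curv2.stalkAlgebra
attribute [local instance high] FunFld.Place.algRes
attribute [local instance] Groth.Agent.JacLib.overSelf

/-- Effective divisors of degree `g - 1` are completed to canonical ones by such divisors. -/
theorem exists_reflect {k : Type u} [Field k] [IsAlgClosed k] {C : Scheme.{u}} [C.Over (Spec (CommRingCat.of k))]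
    [IsProper (C ↘ Spec (CommRingCat.of k))] [IsIntegral C] [VBLib.IsRegCurve C]
    (hdim : topologicalKrullDim C = 1) (h0 : Module.finrank k (Coh.HH C (Coh.structureModule C) 0) = 1)
    (hg : 1 ≤ Curv2.genus k C) {L : C.Modules} (hL : PicF.IsInvertible L)
    (hdeg : Curv2.deg k C L 1 = 2 * (Curv2.genus k C : ℤ) - 2)
    (hh : Curv2.genus k C ≤ Module.finrank k (Coh.HH C L 0))
    (m : ℕ) (hm : m = Curv2.genus k C - 1) (y : Fin m → {x : C // IsClosed ({x} : Set C)}) :
    ∃ z : Fin m → {x : C // IsClosed ({x} : Set C)},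
      cls hL = (∏ i, ptc (k := k) hdim (y i).1 (y i).2) * ∏ i, ptc (k := k) hdim (z i).1 (z i).2 := by
  classical
  have hK := isFunctionField k hdim h0
  obtain ⟨K, hC⟩ := FF.exists_canonical hK
  obtain ⟨e, he⟩ := exists_base hL
  obtain ⟨D, hD⟩ := exists_isDiv hdim h0 hL he
  obtain ⟨hgen, hdd⟩ := genus_and_deg hdim h0 hL he hD
  rw [finrank_H0_eq_ell hdim hL he hD, hgen] at hh
  rw [hdd, hgen] at hdeg
  have hDK := sub_canonical_mem_prinDivs hK hC hdeg hh
  let E : FunFld.Divisor k C.functionField := ∑ i, Finsupp.single (placeOf k hdim (y i).1 (y i).2) (1 : ℤ)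
  have hE : 0 ≤ E := Finset.sum_nonneg fun i _ => Finsupp.single_nonneg.2 zero_le_one
  have hEd : E.deg = (m : ℤ) := deg_eq_card hdim h0 _
  have hEp : 0 < FunFld.ell E := ell_pos_of_sub_mem hdim h0 hE (by rw [sub_self]; exact zero_mem _)
  have hrr := FF.riemann_roch hK hC E
  have he2 : FunFld.ell (D - E) = FunFld.ell (K - E) := FF.ell_congr hK (by
    rw [show K - E - (D - E) = -(D - K) by abel]
    exact neg_mem hDK)
  rw [hgen] at hg hm
  have hpos : 0 < FunFld.ell (D - E) := by omega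
  obtain ⟨w, hw, hwL⟩ := FF.exists_ne_zero_of_ell_pos (D := D - E) hpos
  obtain ⟨P, hP⟩ := exists_eq_sum hdim h0 (FF.le_add_div_of_mem_L hK hw hwL) m
    (by rw [FF.deg_add, FF.deg_div hK, add_zero, FF.deg_sub, hdeg, hEd]; omega)
  have hs : ∀ i, ∃ x : {x : C // IsClosed ({x} : Set C)}, placeOf k hdim x.1 x.2 = P i := fun i => by
    obtain ⟨x, hx, h⟩ := placeOf_surjective hdim (P i)
    exact ⟨⟨x, hx⟩, h⟩
  choose x hx using hs
  refine ⟨x, (eq_iff_of_hasDiv hdim h0 (c := cls hL) (D := D) ⟨L, hL, e, rfl, he, hD⟩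
    (hasDiv_mul hdim (hasDiv_prod hdim Finset.univ _ _ fun i => hasDiv_ptc hdim h0 (y i).1 (y i).2)
      (hasDiv_prod hdim Finset.univ _ _ fun i => hasDiv_ptc hdim h0 (x i).1 (x i).2))).2 ?_⟩
  simp only [hx, hP]
  rw [show E + (D - E + FunFld.div k w) - D = FunFld.div k w by abel]
  exact (FF.mem_prinDivs_iff hK).2 ⟨w, hw, rfl⟩

variable {k : Type u} [Field k] [IsAlgClosed k] {C : Scheme.{u}} [C.Over (Spec (CommRingCat.of k))]
  [IsProper (C ↘ Spec (CommRingCat.of k))] [Smooth (C ↘ Spec (CommRingCat.of k))]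
  [GeometricallyConnected (C ↘ Spec (CommRingCat.of k))]

/-- The image of a canonical divisor reflects `W^(g-1)` into itself. -/
theorem mul_inv_mem_WPts {J : Over (Spec (CommRingCat.of k))} [GrpObj J] [IsCommMonObj J]
    (σ : Spec (CommRingCat.of k) ⟶ C) (hσ : σ ≫ (C ↘ Spec (CommRingCat.of k)) = 𝟙 _)
    {ψ : (ModFun.PicDeg (C ↘ Spec (CommRingCat.of k)) 0).Hom ⊤ J}
    (hJ : Jac.IsJacobian (C ↘ Spec (CommRingCat.of k)) ⊤ J ψ)
    {j : Over.mk (C ↘ Spec (CommRingCat.of k)) ⟶ J}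
    (hdim : topologicalKrullDim ↥C = 1) (hj : Jac.IsAbelJacobiAt (C ↘ Spec (CommRingCat.of k)) σ ψ j)
    (g : ℕ) (hg : Curv2.genus k C = g) (hg2 : 2 ≤ g)
    (Kf : (PicF.XT (C ↘ Spec (CommRingCat.of k)) (𝟙_ (Over (Spec (CommRingCat.of k))))).Modules)
    (hKf : Nonempty (Kf ≅ (Scheme.Modules.pullback (pullback.fst (C ↘ Spec (CommRingCat.of k)) (𝟙_ (Over (Spec (CommRingCat.of k)))).hom)).obj
      (CohB1.tensorMod (Omega.sheaf (C ↘ Spec (CommRingCat.of k))) (CohB1.tensorPow (ClSub.idealMod σ.ker) (2 * g - 2)))))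
    (hT₁ : (⊤ : ObjectProperty (Over (Spec (CommRingCat.of k)))) (𝟙_ (Over (Spec (CommRingCat.of k))))) (hKok : (ModFun.PicDeg (C ↘ Spec (CommRingCat.of k)) 0).ok (𝟙_ (Over (Spec (CommRingCat.of k)))) Kf)
    (κ : (𝟙_ (Over (Spec (CommRingCat.of k)))) ⟶ J) (hκ : ψ.app (𝟙_ (Over (Spec (CommRingCat.of k)))) Kf hT₁ hKok = κ)
    {a : 𝟙_ (Over (Spec (CommRingCat.of k))) ⟶ J} (ha : a ∈ WPts j (g - 1)) : κ * a⁻¹ ∈ WPts j (g - 1) := by
  classical
  let f := C ↘ Spec (CommRingCat.of k)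
  let S := Spec (CommRingCat.of k)
  have hfib := fibreDim (k := k) hdim
  haveI := smoothOfRelativeDimension_one f hfib
  obtain ⟨J₀, hG, hC, x, hF, e, -, -, -, hmul, he, hψ, hj'⟩ := exists_fine_of_isJacobian hdim σ hσ hJ
  letI := hG
  haveI := hC
  haveI := he
  let T₀ : Over S := Over.mk (𝟙 S)
  haveI : IsProper (self k C ↘ Spec (CommRingCat.of k)) := isProper_XT f (𝟙 S)
  haveI : Smooth (self k C ↘ Spec (CommRingCat.of k)) := smooth_XT f (𝟙 S)
  haveI : GeometricallyConnected (self k C ↘ Spec (CommRingCat.of k)) := geometricallyConnected_XT f (𝟙 S)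
  have hd : topologicalKrullDim (self k C) = 1 := dim_XT f (𝟙 S) hfib
  obtain ⟨hint, hreg, h0⟩ := setup_of_smooth_connected k (self k C) hd
  haveI := hint
  haveI := hreg
  obtain ⟨hintC, hregC, h0C⟩ := setup_of_smooth_connected k C hdim
  haveI := hintC
  haveI := hregC
  have hgY : Curv2.genus k (self k C) = Curv2.genus k C := (genus_XT f (𝟙 S)).trans (by
    rw [show (𝟙 S : S ⟶ S) (IsLocalRing.closedPoint k) = IsLocalRing.closedPoint k from rfl, fiberRank_genus])
  have hrig : ∀ a : Pic (PicF.XT f T₀), PicRepLib.rig σ hσ a = a := fun a =>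
    PicRepLib.rig_eq_self (eq_one_of_local (R := CommRingCat.of k) _)
  have hinv : ∀ a b : T₀ ⟶ J, (a * b) ≫ e.inv = (a ≫ e.inv) * (b ≫ e.inv) := fun a b => by
    rw [← cancel_mono e.hom, MonObj.mul_comp]
  let Φ : (T₀ ⟶ J) →* Pic (PicF.XT f T₀) := MonoidHom.mk' (fun a => clsHom hmul T₀ (a ≫ e.inv))
    fun a b => by rw [hinv, map_mul]
  have hΦinj : Function.Injective Φ := fun a b h => by
    rw [← cancel_mono e.inv]
    exact hom_ext_fine hfib hF h
  let β := pt f (basePt f σ hσ T₀)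
  have hΦj : ∀ y : T₀ ⟶ Over.mk f, Φ (y ≫ j) = pt f y / β := fun y => by
    show pull (PicF.XTmap f ((y ≫ j) ≫ e.inv)) x = _
    rw [hj' j hj, Category.assoc, Category.assoc, e.hom_inv_id, Category.comp_id, pull_comp_abel1, hrig]
  have hΦW : ∀ {n : ℕ} (y : Fin n → (T₀ ⟶ Over.mk f)), Φ (∏ i, y i ≫ j) * β ^ n = ∏ i, pt f (y i) := fun {n} y => by
    rw [map_prod]
    simp only [hΦj]
    rw [Finset.prod_div_distrib, Finset.prod_const, Finset.card_univ, Fintype.card_fin, div_mul_cancel]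
  -- the canonical class
  have hΩ : PicF.IsInvertible (Omega.sheaf f) := omega_invertible_of_smooth k hdim h0C
  have hI : PicF.IsInvertible (ClSub.idealMod σ.ker) := isInvertible_ker_of_section f σ hσ
  let p := pullback.fst f T₀.hom
  have hKinv : PicF.IsInvertible Kf := isInvertible_of_iso hKf.some.symm
    (isInvertible_pullback p (isInvertible_tensor hΩ (isInvertible_tensorPow hI (2 * g - 2))))
  have hKcls : Φ κ * β ^ (2 * g - 2) = cls (isInvertible_pullback p hΩ) := by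
    have h1 : Φ κ = cls hKinv := by
      show pull (PicF.XTmap f (κ ≫ e.inv)) x = _
      rw [← hκ, hψ, Category.assoc, e.hom_inv_id, Category.comp_id]
      exact (clfApp_spec hfib hF hKok hKinv).trans (hrig _)
    have h2 : cls hKinv = pull p (cls hΩ) * pull p (cls hI) ^ (2 * g - 2) := by
      rw [← map_pow, ← map_mul, ← PicLib.cls_tensorPow hI, ← PicLib.cls_tensor, pull_cls]
      exact (cls_eq_cls _ _).2 hKf
    rw [h1, h2, show β = (pull p (cls hI))⁻¹ from pt_basePt f σ hσ T₀, inv_pow, mul_inv_cancel_right, pull_cls]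
  have hΩY : Nonempty ((Scheme.Modules.pullback p).obj (Omega.sheaf f) ≅ om k (self k C)) := by
    obtain ⟨c, hc, -⟩ := Groth.Agent.S9370.result f (self k C ↘ Spec (CommRingCat.of k)) p (𝟙 S)
      (IsPullback.of_hasPullback f (𝟙 S)).w.symm
      _ _ (OmegaUnivLib.isUniversal_dOmega _) _ _ (OmegaUnivLib.isUniversal_dOmega _)
    haveI := Groth.Agent.S9386.result _ _ _ _ (IsPullback.of_hasPullback f (𝟙 S))
      _ _ (OmegaUnivLib.isUniversal_dOmega _) _ _ (OmegaUnivLib.isUniversal_dOmega _) c hc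
    exact ⟨asIso c⟩
  obtain ⟨hΩd, hΩh⟩ := omega_deg_h0 k hd h0
  have hΩ' : PicF.IsInvertible (om k (self k C)) := omega_invertible_of_smooth k hd h0
  have hcls : cls (isInvertible_pullback p hΩ) = cls hΩ' := (cls_eq_cls _ _).2 hΩY
  let pc : {z : self k C // IsClosed ({z} : Set (self k C))} → (T₀ ⟶ Over.mk f) := fun z => pointHom f (𝟙 S) z.1 z.2
  have hpc : ∀ z, ptc (k := k) hd z.1 z.2 = pt f (pc z) := fun z => ptc_eq_pt f (𝟙 S) hd z.1 z.2
  obtain ⟨y, hy⟩ := ha
  obtain ⟨z, hz⟩ := exists_reflect (k := k) (C := self k C) hd h0 (by omega) hΩ' hΩd hΩh.ge (g - 1) (by omega)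
    fun i => pointClosed f (𝟙 S) (y i)
  refine ⟨fun i => pc (z i), ?_⟩
  let w : T₀ ⟶ J := ∏ i, pc (z i) ≫ j
  let a' : T₀ ⟶ J := a
  have e1 : Φ κ = Φ (a' * w) := by
    refine mul_right_cancel (b := β ^ (2 * g - 2)) ?_
    rw [hKcls, hcls, hz, map_mul, show a' = ∏ i, y i ≫ j from hy, show 2 * g - 2 = (g - 1) + (g - 1) by omega, pow_add, _root_.mul_mul_mul_comm]
    simp only [w]
    rw [hΦW, hΦW]
    simp only [hpc, pc, pointHom_pointClosed]
  let κ' : T₀ ⟶ J := κ
  have e2 : κ' = a' * w := hΦinj e1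
  show κ' * a'⁻¹ = w
  rw [e2, _root_.mul_comm a', mul_inv_cancel_right]

theorem inv_image {J : Over (Spec (CommRingCat.of k))} [GrpObj J] (Z : Set J.left) :
    ((𝟙 J)⁻¹).left.base '' Z = ((𝟙 J)⁻¹).left.base ⁻¹' Z := by
  have h : (𝟙 J)⁻¹ ≫ (𝟙 J)⁻¹ = 𝟙 J := by rw [GrpObj.comp_inv, Category.comp_id, inv_inv]
  have h1 : ∀ p : J.left, ((𝟙 J)⁻¹).left (((𝟙 J)⁻¹).left p) = p := fun p => by
    rw [← Scheme.Hom.comp_apply, ← Over.comp_left, h]
    rfl
  ext p
  exact ⟨by rintro ⟨z, hz, rfl⟩; exact Set.mem_preimage.2 (by rw [h1]; exact hz), fun hp => ⟨_, hp, h1 p⟩⟩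

/-- Let k be an algebraically closed field, C a smooth proper connected curve of genus g ≥ 2 over k with
a k-point P, (J, ψ) its Jacobian (a commutative group scheme over k, coarse moduli scheme on all
k-schemes for degree-0 line bundles modulo twisting from the base, group law induced by tensor
product) and j : C ⟶ J the Abel map with base point P. Write W^r ⊂ J for the image of the r-fold
product C ×_k ⋯ ×_k C under (x_1, …, x_r) ↦ j(x_1) ⋯ j(x_r) (the image of the r-th symmetric power;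
W^0 is the origin), and W^r_a for its translate by a k-point a of J. Let κ be the k-point of J given
by ψ on the degree-0 module Ω_{C/k} ⊗ I_P^{⊗(2g−2)} (the image of a canonical divisor), and for Z ⊂
J let Z^* be the image of Z under x ↦ κ·x⁻¹. Then for every k-point a of J one has (W^{g−1}_a)^* =
W^{g−1}_{a⁻¹} as subsets of J. -/
theorem result (k : Type u) [Field k] [IsAlgClosed k]
    (C : Scheme.{u}) [C.Over (Spec (CommRingCat.of k))]
    [IsProper (C ↘ Spec (CommRingCat.of k))] [Smooth (C ↘ Spec (CommRingCat.of k))] [GeometricallyConnected (C ↘ Spec (CommRingCat.of k))]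
    (hdim : topologicalKrullDim ↥C = 1)
    (g : ℕ) (hg : Curv2.genus k C = g) (hg2 : 2 ≤ g)
    (σ : Spec (CommRingCat.of k) ⟶ C) (hσ : σ ≫ (C ↘ Spec (CommRingCat.of k)) = 𝟙 _)
    (J : Over (Spec (CommRingCat.of k))) [GrpObj J] [IsCommMonObj J]
    (ψ : (ModFun.PicDeg (C ↘ Spec (CommRingCat.of k)) 0).Hom ⊤ J) (hJ : Jac.IsJacobian (C ↘ Spec (CommRingCat.of k)) ⊤ J ψ)
    (j : Over.mk (C ↘ Spec (CommRingCat.of k)) ⟶ J) (hj : Jac.IsAbelJacobiAt (C ↘ Spec (CommRingCat.of k)) σ ψ j)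
    (Kf : (PicF.XT (C ↘ Spec (CommRingCat.of k)) (𝟙_ (Over (Spec (CommRingCat.of k))))).Modules)
    (hKf : Nonempty (Kf ≅ (Scheme.Modules.pullback (pullback.fst (C ↘ Spec (CommRingCat.of k)) (𝟙_ (Over (Spec (CommRingCat.of k)))).hom)).obj
      (CohB1.tensorMod (Omega.sheaf (C ↘ Spec (CommRingCat.of k))) (CohB1.tensorPow (ClSub.idealMod σ.ker) (2 * g - 2)))))
    (hT₁ : (⊤ : ObjectProperty (Over (Spec (CommRingCat.of k)))) (𝟙_ (Over (Spec (CommRingCat.of k))))) (hKok : (ModFun.PicDeg (C ↘ Spec (CommRingCat.of k)) 0).ok (𝟙_ (Over (Spec (CommRingCat.of k)))) Kf)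
    (κ : (𝟙_ (Over (Spec (CommRingCat.of k)))) ⟶ J) (hκ : ψ.app (𝟙_ (Over (Spec (CommRingCat.of k)))) Kf hT₁ hKok = κ)
    (a : (𝟙_ (Over (Spec (CommRingCat.of k)))) ⟶ J) :
    (Jac.transl J κ).left.base '' (((𝟙 J)⁻¹).left.base '' ((Jac.transl J a).left.base '' Set.range ((List.ofFn fun i : Fin (g - 1) =>
        (Over.homMk (WidePullback.π (fun (_ : Fin (g - 1)) => (C ↘ Spec (CommRingCat.of k))) i)
          (WidePullback.π_arrow (fun (_ : Fin (g - 1)) => (C ↘ Spec (CommRingCat.of k))) i) : Over.mk (WidePullback.base fun (_ : Fin (g - 1)) => (C ↘ Spec (CommRingCat.of k))) ⟶ Over.mk (C ↘ Spec (CommRingCat.of k))) ≫ j).prod).left.base)) =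
      ((Jac.transl J a⁻¹).left.base '' Set.range ((List.ofFn fun i : Fin (g - 1) =>
        (Over.homMk (WidePullback.π (fun (_ : Fin (g - 1)) => (C ↘ Spec (CommRingCat.of k))) i)
          (WidePullback.π_arrow (fun (_ : Fin (g - 1)) => (C ↘ Spec (CommRingCat.of k))) i) : Over.mk (WidePullback.base fun (_ : Fin (g - 1)) => (C ↘ Spec (CommRingCat.of k))) ⟶ Over.mk (C ↘ Spec (CommRingCat.of k))) ≫ j).prod).left.base) := by
  have hsep := JacLib.isSeparated_jac σ hσ hJ hdim
  haveI := hsep.1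
  haveI := hsep.2
  have key : ∀ x, x ∈ WPts j (g - 1) → κ * x⁻¹ ∈ WPts j (g - 1) :=
    fun x hx => mul_inv_mem_WPts σ hσ hJ hdim hj g hg hg2 Kf hKf hT₁ hKok κ hκ hx
  have hcl : IsClosed ((Jac.transl J κ).left.base '' (((𝟙 J)⁻¹).left.base '' ((Jac.transl J a).left.base '' Set.range (powSum j (g - 1)).left.base))) := by
    rw [transl_image κ, inv_image]
    exact ((isClosed_transl (g - 1) a).preimage ((𝟙 J)⁻¹).left.continuous).preimage (Jac.transl J κ⁻¹).left.continuous
  have hmem : ∀ q, jpt q ∈ ((Jac.transl J κ).left.base '' (((𝟙 J)⁻¹).left.base '' ((Jac.transl J a).left.base '' Set.range (powSum j (g - 1)).left.base))) ↔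
      (q * κ⁻¹)⁻¹ * a⁻¹ ∈ WPts j (g - 1) := fun q => by
    rw [transl_image κ, inv_image, Set.mem_preimage, Set.mem_preimage, jpt_transl, ← jpt_mem_transl_iff (g - 1) a]
    have e : (q * κ⁻¹) ≫ (𝟙 J)⁻¹ = (q * κ⁻¹)⁻¹ := by rw [GrpObj.comp_inv, Category.comp_id]
    rw [← e]
    rfl
  refine Set.Subset.antisymm (subset_of_jpt hcl (isClosed_transl (g - 1) a⁻¹) fun q hq => ?_)
    (subset_of_jpt (isClosed_transl (g - 1) a⁻¹) hcl fun q hq => ?_)
  · refine (jpt_mem_transl_iff (g - 1) a⁻¹ q).2 ?_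
    have h := key _ ((hmem q).1 hq)
    rw [mul_inv_rev, inv_inv, inv_inv, show κ * (a * (q * κ⁻¹)) = κ * κ⁻¹ * (q * a) by ac_rfl, mul_inv_cancel, _root_.one_mul] at h
    rwa [inv_inv]
  · refine (hmem q).2 ?_
    have h := key _ ((jpt_mem_transl_iff (g - 1) a⁻¹ q).1 hq)
    rw [mul_inv_rev, inv_inv] at h
    rw [mul_inv_rev, inv_inv, _root_.mul_assoc, _root_.mul_comm q⁻¹ a⁻¹]
    exact h

end Groth.Agent.S17819
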