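import Groth.Statements.S17822
import Groth.Agent.JacLib.WCanon

set_option autoImplicit false
set_option linter.style.haveILetI false
set_option linter.unusedSectionVars false
set_option maxHeartbeats 1000000
set_option backward.isDefEq.respectTransparency false
set_option backward.isDefEq.respectTransparency.types false
universe u
open CategoryTheory CategoryTheory.Limits AlgebraicGeometry MonoidalCategory CartesianMonoidalCategory MonObj
open JacVar

namespace Groth.Agent.S17822

open Groth.Agent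

/-- Let k be an algebraically closed field, C a smooth proper connected curve of genus g ≥ 2 over k with
a k-point P, (J, ψ) its Jacobian (a commutative group scheme over k, coarse moduli scheme on all
k-schemes for degree-0 line bundles modulo twisting from the base, group law induced by tensor
product) and j : C ⟶ J the Abel map with base point P. Write W^r ⊂ J for the image of the r-fold
product C ×_k ⋯ ×_k C under (x_1, …, x_r) ↦ j(x_1) ⋯ j(x_r) (the image of the r-th symmetric power;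
W^0 is the origin), and W^r_a for its translate by a k-point a of J. Let κ be the k-point of J given
by ψ on Ω_{C/k} ⊗ I_P^{⊗(2g−2)} and Z^* the image of Z ⊂ J under x ↦ κ·x⁻¹. Let 0 ≤ r ≤ g − 2 and
let a, b, x, y be k-points of J with x in W^1, y in W^{g−1−r} and a·x = b·y. If W^{r+1}_a is not
contained in W^{g−1}_b, then W^{r+1}_a ∩ W^{g−1}_b = W^r_{a·x} ∪ (W^{r+1}_a ∩ (W^{g−2}_{y·a⁻¹})^*)
as subsets of J. -/
theorem result (k : Type u) [Field k] [IsAlgClosed k]
    (C : Scheme.{u}) [C.Over (Spec (CommRingCat.of k))]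
    [IsProper (C ↘ Spec (CommRingCat.of k))] [Smooth (C ↘ Spec (CommRingCat.of k))] [GeometricallyConnected (C ↘ Spec (CommRingCat.of k))]
    (hdim : topologicalKrullDim ↥C = 1)
    (g : ℕ) (hg : Curv2.genus k C = g) (hg2 : 2 ≤ g)
    (σ : Spec (CommRingCat.of k) ⟶ C) (hσ : σ ≫ (C ↘ Spec (CommRingCat.of k)) = 𝟙 _)
    (J : Over (Spec (CommRingCat.of k))) [GrpObj J] [IsCommMonObj J]
    (ψ : (ModFun.PicDeg (C ↘ Spec (CommRingCat.of k)) 0).Hom ⊤ J) (hJ : Jac.IsJacobian (C ↘ Spec (CommRingCat.of k)) ⊤ J ψ)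
    (j : Over.mk (C ↘ Spec (CommRingCat.of k)) ⟶ J) (hj : Jac.IsAbelJacobiAt (C ↘ Spec (CommRingCat.of k)) σ ψ j)
    (Kf : (PicF.XT (C ↘ Spec (CommRingCat.of k)) (𝟙_ (Over (Spec (CommRingCat.of k))))).Modules)
    (hKf : Nonempty (Kf ≅ (Scheme.Modules.pullback (pullback.fst (C ↘ Spec (CommRingCat.of k)) (𝟙_ (Over (Spec (CommRingCat.of k)))).hom)).obj
      (CohB1.tensorMod (Omega.sheaf (C ↘ Spec (CommRingCat.of k))) (CohB1.tensorPow (ClSub.idealMod σ.ker) (2 * g - 2)))))
    (hT₁ : (⊤ : ObjectProperty (Over (Spec (CommRingCat.of k)))) (𝟙_ (Over (Spec (CommRingCat.of k))))) (hKok : (ModFun.PicDeg (C ↘ Spec (CommRingCat.of k)) 0).ok (𝟙_ (Over (Spec (CommRingCat.of k)))) Kf)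
    (κ : (𝟙_ (Over (Spec (CommRingCat.of k)))) ⟶ J) (hκ : ψ.app (𝟙_ (Over (Spec (CommRingCat.of k)))) Kf hT₁ hKok = κ)
    (r : ℕ) (hr : r ≤ g - 2) (a b x y : (𝟙_ (Over (Spec (CommRingCat.of k)))) ⟶ J)
    (hx : ∀ p, x.left.base p ∈ Set.range ((List.ofFn fun i : Fin 1 =>
        (Over.homMk (WidePullback.π (fun (_ : Fin 1) => (C ↘ Spec (CommRingCat.of k))) i)
          (WidePullback.π_arrow (fun (_ : Fin 1) => (C ↘ Spec (CommRingCat.of k))) i) : Over.mk (WidePullback.base fun (_ : Fin 1) => (C ↘ Spec (CommRingCat.of k))) ⟶ Over.mk (C ↘ Spec (CommRingCat.of k))) ≫ j).prod).left.base)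
    (hy : ∀ p, y.left.base p ∈ Set.range ((List.ofFn fun i : Fin (g - 1 - r) =>
        (Over.homMk (WidePullback.π (fun (_ : Fin (g - 1 - r)) => (C ↘ Spec (CommRingCat.of k))) i)
          (WidePullback.π_arrow (fun (_ : Fin (g - 1 - r)) => (C ↘ Spec (CommRingCat.of k))) i) : Over.mk (WidePullback.base fun (_ : Fin (g - 1 - r)) => (C ↘ Spec (CommRingCat.of k))) ⟶ Over.mk (C ↘ Spec (CommRingCat.of k))) ≫ j).prod).left.base)
    (hab : a * x = b * y)
    (hnot : ¬ (((Jac.transl J a).left.base '' Set.range ((List.ofFn fun i : Fin (r + 1) =>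
        (Over.homMk (WidePullback.π (fun (_ : Fin (r + 1)) => (C ↘ Spec (CommRingCat.of k))) i)
          (WidePullback.π_arrow (fun (_ : Fin (r + 1)) => (C ↘ Spec (CommRingCat.of k))) i) : Over.mk (WidePullback.base fun (_ : Fin (r + 1)) => (C ↘ Spec (CommRingCat.of k))) ⟶ Over.mk (C ↘ Spec (CommRingCat.of k))) ≫ j).prod).left.base) ⊆ ((Jac.transl J b).left.base '' Set.range ((List.ofFn fun i : Fin (g - 1) =>
        (Over.homMk (WidePullback.π (fun (_ : Fin (g - 1)) => (C ↘ Spec (CommRingCat.of k))) i)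
          (WidePullback.π_arrow (fun (_ : Fin (g - 1)) => (C ↘ Spec (CommRingCat.of k))) i) : Over.mk (WidePullback.base fun (_ : Fin (g - 1)) => (C ↘ Spec (CommRingCat.of k))) ⟶ Over.mk (C ↘ Spec (CommRingCat.of k))) ≫ j).prod).left.base))) :
    ((Jac.transl J a).left.base '' Set.range ((List.ofFn fun i : Fin (r + 1) =>
        (Over.homMk (WidePullback.π (fun (_ : Fin (r + 1)) => (C ↘ Spec (CommRingCat.of k))) i)
          (WidePullback.π_arrow (fun (_ : Fin (r + 1)) => (C ↘ Spec (CommRingCat.of k))) i) : Over.mk (WidePullback.base fun (_ : Fin (r + 1)) => (C ↘ Spec (CommRingCat.of k))) ⟶ Over.mk (C ↘ Spec (CommRingCat.of k))) ≫ j).prod).left.base) ∩ ((Jac.transl J b).left.base '' Set.range ((List.ofFn fun i : Fin (g - 1) =>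
        (Over.homMk (WidePullback.π (fun (_ : Fin (g - 1)) => (C ↘ Spec (CommRingCat.of k))) i)
          (WidePullback.π_arrow (fun (_ : Fin (g - 1)) => (C ↘ Spec (CommRingCat.of k))) i) : Over.mk (WidePullback.base fun (_ : Fin (g - 1)) => (C ↘ Spec (CommRingCat.of k))) ⟶ Over.mk (C ↘ Spec (CommRingCat.of k))) ≫ j).prod).left.base) =
      ((Jac.transl J (a * x)).left.base '' Set.range ((List.ofFn fun i : Fin r =>
        (Over.homMk (WidePullback.π (fun (_ : Fin r) => (C ↘ Spec (CommRingCat.of k))) i)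
          (WidePullback.π_arrow (fun (_ : Fin r) => (C ↘ Spec (CommRingCat.of k))) i) : Over.mk (WidePullback.base fun (_ : Fin r) => (C ↘ Spec (CommRingCat.of k))) ⟶ Over.mk (C ↘ Spec (CommRingCat.of k))) ≫ j).prod).left.base) ∪
      (((Jac.transl J a).left.base '' Set.range ((List.ofFn fun i : Fin (r + 1) =>
        (Over.homMk (WidePullback.π (fun (_ : Fin (r + 1)) => (C ↘ Spec (CommRingCat.of k))) i)
          (WidePullback.π_arrow (fun (_ : Fin (r + 1)) => (C ↘ Spec (CommRingCat.of k))) i) : Over.mk (WidePullback.base fun (_ : Fin (r + 1)) => (C ↘ Spec (CommRingCat.of k))) ⟶ Over.mk (C ↘ Spec (CommRingCat.of k))) ≫ j).prod).left.base) ∩ ((Jac.transl J κ).left.base '' (((𝟙 J)⁻¹).left.base '' ((Jac.transl J (y * a⁻¹)).left.base '' Set.range ((List.ofFn fun i : Fin (g - 2) =>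
        (Over.homMk (WidePullback.π (fun (_ : Fin (g - 2)) => (C ↘ Spec (CommRingCat.of k))) i)
          (WidePullback.π_arrow (fun (_ : Fin (g - 2)) => (C ↘ Spec (CommRingCat.of k))) i) : Over.mk (WidePullback.base fun (_ : Fin (g - 2)) => (C ↘ Spec (CommRingCat.of k))) ⟶ Over.mk (C ↘ Spec (CommRingCat.of k))) ≫ j).prod).left.base)))) := by
  subst hg
  haveI : SmoothOfRelativeDimension 1 (C ↘ Spec (CommRingCat.of k)) :=
    JacLib.smoothOfRelativeDimension_one _ (JacLib.fibreDim (k := k) hdim)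
  have hsep := JacLib.isSeparated_jac σ hσ hJ hdim
  haveI := hsep.1
  haveI := hsep.2
  obtain ⟨facA, facB⟩ := JacLib.canonical_facts σ hσ hJ hdim hj Kf hKf hT₁ hKok κ hκ
  let g := Curv2.genus k C
  have hx' : x ∈ JacLib.WPts j 1 := (JacLib.jpt_mem_range_iff 1 x).1 (hx (IsLocalRing.closedPoint k))
  have hy' : y ∈ JacLib.WPts j (g - 1 - r) := (JacLib.jpt_mem_range_iff (g - 1 - r) y).1 (hy (IsLocalRing.closedPoint k))
  have hinv : ∀ p : 𝟙_ (Over (Spec (CommRingCat.of k))) ⟶ J, ((𝟙 J)⁻¹).left.base (JacLib.jpt p) = JacLib.jpt p⁻¹ := fun p => by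
    rw [show p⁻¹ = p ≫ (𝟙 J)⁻¹ by rw [GrpObj.comp_inv, Category.comp_id]]
    rfl
  have hinvinv : ∀ p : J.left, ((𝟙 J)⁻¹).left.base (((𝟙 J)⁻¹).left.base p) = p := fun p => by
    have h : (𝟙 J)⁻¹ ≫ (𝟙 J)⁻¹ = 𝟙 J := by rw [GrpObj.comp_inv, Category.comp_id, inv_inv]
    show ((𝟙 J)⁻¹).left (((𝟙 J)⁻¹).left p) = p
    rw [← Scheme.Hom.comp_apply, ← Over.comp_left, h]
    rfl
  let K : Set J.left := (Jac.transl J κ).left.base '' (((𝟙 J)⁻¹).left.base '' ((Jac.transl J (y * a⁻¹)).left.base '' Set.range (JacLib.powSum j (g - 2)).left.base))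
  have hK : IsClosed K := by
    show IsClosed ((Jac.transl J κ).left.base '' _)
    rw [JacLib.transl_image]
    refine IsClosed.preimage (Jac.transl J κ⁻¹).left.continuous ?_
    rw [Function.Involutive.image_eq_preimage_symm hinvinv]
    exact (JacLib.isClosed_transl (g - 2) _).preimage ((𝟙 J)⁻¹).left.continuous
  have hKmem : ∀ q, JacLib.jpt q ∈ K ↔ κ * q⁻¹ * (y * a⁻¹)⁻¹ ∈ JacLib.WPts j (g - 2) := fun q => by
    show JacLib.jpt q ∈ (Jac.transl J κ).left.base '' _ ↔ _
    rw [JacLib.transl_image, Set.mem_preimage, JacLib.jpt_transl, Function.Involutive.image_eq_preimage_symm hinvinv,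
      Set.mem_preimage, hinv, JacLib.jpt_mem_transl_iff, mul_inv_rev, inv_inv]
  have hab' : a⁻¹ * y = b⁻¹ * x := by
    rw [inv_mul_eq_iff_eq_mul, mul_left_comm, hab, inv_mul_cancel_left]
  have hst : ∀ q, κ * q⁻¹ * (y * a⁻¹)⁻¹ = κ * (q * a⁻¹ * y)⁻¹ := fun q => by
    simp [_root_.mul_assoc, mul_comm, mul_left_comm]
  refine Set.Subset.antisymm
    (JacLib.subset_of_jpt ((JacLib.isClosed_transl (r + 1) a).inter (JacLib.isClosed_transl (g - 1) b))
      ((JacLib.isClosed_transl r (a * x)).union ((JacLib.isClosed_transl (r + 1) a).inter hK)) fun q hq => ?_)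
    (JacLib.subset_of_jpt ((JacLib.isClosed_transl r (a * x)).union ((JacLib.isClosed_transl (r + 1) a).inter hK))
      ((JacLib.isClosed_transl (r + 1) a).inter (JacLib.isClosed_transl (g - 1) b)) fun q hq => ?_)
  · obtain ⟨u, hu⟩ := (JacLib.jpt_mem_transl_iff (r + 1) a q).1 hq.1
    obtain ⟨v, hv⟩ := (JacLib.jpt_mem_transl_iff (g - 1) b q).1 hq.2
    obtain ⟨ys, hys⟩ := hy'
    obtain ⟨xs, hxs⟩ := hx'
    rw [Fin.prod_univ_one] at hxs
    have huy : (∏ i, u i ≫ j) * (∏ i, ys i ≫ j) = (∏ i, v i ≫ j) * (xs 0 ≫ j) := by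
      rw [← hu, ← hv, ← hys, ← hxs, _root_.mul_assoc, hab', _root_.mul_assoc]
    rcases facA (n := r + 1 + (g - 1 - r)) (m := g - 1 + 1) hg2 (by omega) (by omega) (Fin.append u ys)
      (Fin.snoc v (xs 0)) (by rw [Fin.prod_univ_castSucc (n := g - 1)]; simpa only [Fin.prod_univ_add, Fin.append_left, Fin.append_right, Fin.snoc_castSucc, Fin.snoc_last] using huy) with h | ⟨w, hw, hwe⟩
    · obtain ⟨l, hl⟩ := h (Fin.last _)
      rw [Fin.snoc_last] at hl
      induction l using Fin.addCases with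
      | left l =>
        rw [Fin.append_left] at hl
        refine Or.inl ((JacLib.jpt_mem_transl_iff r (a * x) q).2 ⟨fun i => u (l.succAbove i), ?_⟩)
        rw [Fin.prod_univ_succAbove _ l, hl, ← hxs] at hu
        rw [mul_inv_rev, mul_left_comm, hu, inv_mul_cancel_left]
      | right l =>
        exfalso
        rw [Fin.append_right] at hl
        refine hnot (JacLib.subset_of_jpt (JacLib.isClosed_transl (r + 1) a) (JacLib.isClosed_transl (g - 1) b)
          fun p hp => (JacLib.jpt_mem_transl_iff (g - 1) b p).2 ?_)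
        have hd : y * x⁻¹ ∈ JacLib.WPts j (g - 2 - r) := by
          obtain ⟨n, hn⟩ : ∃ n, g - 1 - r = n + 1 := ⟨g - 2 - r, by omega⟩
          refine ⟨fun i => ys ((l.cast hn).succAbove (i.cast (show g - 2 - r = n by omega)) |>.cast hn.symm), ?_⟩
          rw [mul_inv_eq_iff_eq_mul, hys, hxs, ← hl,
            Fintype.prod_equiv (finCongr hn) (fun i => ys i ≫ j) (fun i => ys (i.cast hn.symm) ≫ j) (fun i => rfl),
            Fin.prod_univ_succAbove _ (l.cast hn), mul_comm,
            Fintype.prod_equiv (finCongr (show n = g - 2 - r by omega))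
              (fun i => ys (((l.cast hn).succAbove i).cast hn.symm) ≫ j)
              (fun i => ys ((l.cast hn).succAbove (i.cast (show g - 2 - r = n by omega)) |>.cast hn.symm) ≫ j) (fun i => rfl)]
          rfl
        have h := JacLib.mul_mem_WPts ((JacLib.jpt_mem_transl_iff (r + 1) a p).1 hp) hd
        rw [show r + 1 + (g - 2 - r) = g - 1 by omega] at h
        rw [show y * x⁻¹ = a * b⁻¹ by rw [mul_inv_eq_iff_eq_mul, mul_right_comm, hab, mul_inv_cancel_comm]] at h
        rwa [_root_.mul_assoc, inv_mul_cancel_left] at h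
    · refine Or.inr ⟨hq.1, (hKmem q).2 ?_⟩
      have he : (∏ i, Fin.append u ys i ≫ j) = q * a⁻¹ * y := by
        rw [Fin.prod_univ_add, hu, hys]; simp
      rwa [hst q, ← hwe, he, mul_inv_cancel_comm]
  · rcases hq with hq | hq
    · have hr' := (JacLib.jpt_mem_transl_iff r (a * x) q).1 hq
      refine ⟨(JacLib.jpt_mem_transl_iff (r + 1) a q).2 ?_, (JacLib.jpt_mem_transl_iff (g - 1) b q).2 ?_⟩
      · have h := JacLib.mul_mem_WPts hr' hx'
        rwa [mul_inv_rev, ← _root_.mul_assoc, mul_right_comm _ a⁻¹ x, inv_mul_cancel_right] at h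
      · have h := JacLib.mul_mem_WPts hr' hy'
        rw [show r + (g - 1 - r) = g - 1 by omega, hab, mul_inv_rev, ← _root_.mul_assoc, mul_right_comm _ b⁻¹ y,
          inv_mul_cancel_right] at h
        exact h
    · refine ⟨hq.1, (JacLib.jpt_mem_transl_iff (g - 1) b q).2 ?_⟩
      have hu := JacLib.mul_mem_WPts ((JacLib.jpt_mem_transl_iff (r + 1) a q).1 hq.1) hy'
      rw [show r + 1 + (g - 1 - r) = g by omega] at hu
      have h := facB _ hu _ ((hKmem q).1 hq.2) (by rw [hst q, mul_left_comm, mul_inv_cancel, _root_.mul_one]) hg2 x hx'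
      rwa [show q * a⁻¹ * y * x⁻¹ = q * b⁻¹ by
        rw [_root_.mul_assoc q, hab', _root_.mul_assoc, mul_inv_cancel_right]] at h

end Groth.Agent.S17822
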