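import Groth.Statements.S17824
import Groth.Agent.JacLib.OpenEll
-- import your own Groth.Agent.* helpers here

set_option autoImplicit false
set_option maxHeartbeats 1000000
set_option backward.isDefEq.respectTransparency false
set_option backward.isDefEq.respectTransparency.types false
set_option linter.style.haveILetI false
universe u
open CategoryTheory CategoryTheory.Limits AlgebraicGeometry
open JacVar

namespace Groth.Agent.S17824

open Groth.Agent
attribute [local instance] Curv2.stalkAlgebra
attribute [local instance high] FunFld.Place.algRes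
attribute [local instance] JacLib.overSelf

private theorem sum_split {A : Type*} [AddCommMonoid A] (g : ℕ) (F : Fin (2 * g) → A) :
    ∑ i, F i = (∑ i : Fin g, F (Fin.cast (two_mul g).symm (Fin.castAdd g i))) +
      ∑ i : Fin g, F (Fin.cast (two_mul g).symm (Fin.natAdd g i)) := by
  rw [← Fintype.sum_equiv (finCongr (two_mul g).symm) (fun i => F (Fin.cast (two_mul g).symm i)) F (fun _ => rfl),
    Fin.sum_univ_add]

private theorem prod_split {A : Type*} [CommMonoid A] (g : ℕ) (F : Fin (2 * g) → A) :
    ∏ i, F i = (∏ i : Fin g, F (Fin.cast (two_mul g).symm (Fin.castAdd g i))) *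
      ∏ i : Fin g, F (Fin.cast (two_mul g).symm (Fin.natAdd g i)) := by
  rw [← Fintype.prod_equiv (finCongr (two_mul g).symm) (fun i => F (Fin.cast (two_mul g).symm i)) F (fun _ => rfl),
    Fin.prod_univ_add]

/-- Parts (a) and (b) over an algebraically closed field. Let C be a smooth proper connected curve of
genus g > 0 over an algebraically closed field k with a k-point P, and consider the 2g-fold fibre
power C ×_k ⋯ ×_k C, a k-rational point of which is a pair (D, D') of g-tuples of k-points (the
first g and the last g coordinates). (a) There is a nonempty open subset U of it such that for every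
k-rational point (P_1, …, P_{2g}) of U and every invertible module M with M ⊗ I_{P_1} ⊗ ⋯ ⊗
I_{P_{2g}} ≅ I_P^{⊗g}, i.e. M ≅ O(D + D' − gP), one has h⁰(C, M) = 1. (b) There is a nonempty open
subset V such that for every k-rational point of V and every invertible M with M ⊗ I_{P_{g+1}} ⊗ ⋯ ⊗
I_{P_{2g}} ⊗ I_P^{⊗g} ≅ I_{P_1} ⊗ ⋯ ⊗ I_{P_g}, i.e. M ≅ O(D' − D + gP), one has h⁰(C, M) = 1. (The
published lemma is phrased on C^(g) × C^(g), over the ground field, and for points with values in
every field containing it; this row takes k algebraically closed and k-points of the 2g-fold fibre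
power.) -/
theorem result (k : Type u) [Field k] [IsAlgClosed k]
    (C : Scheme.{u}) [C.Over (Spec (CommRingCat.of k))]
    [IsProper (C ↘ Spec (CommRingCat.of k))] [Smooth (C ↘ Spec (CommRingCat.of k))] [GeometricallyConnected (C ↘ Spec (CommRingCat.of k))]
    (hdim : topologicalKrullDim ↥C = 1)
    (g : ℕ) (hg : Curv2.genus k C = g) (hg1 : 1 ≤ g)
    (σ : Spec (CommRingCat.of k) ⟶ C) (hσ : σ ≫ (C ↘ Spec (CommRingCat.of k)) = 𝟙 _) :
    (∃ U : (SymProd.fibPow (C ↘ Spec (CommRingCat.of k)) (2 * g)).Opens, (U : Set ↥(SymProd.fibPow (C ↘ Spec (CommRingCat.of k)) (2 * g))).Nonempty ∧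
      ∀ (x : Spec (CommRingCat.of k) ⟶ SymProd.fibPow (C ↘ Spec (CommRingCat.of k)) (2 * g))
        (hx : x ≫ WidePullback.base (fun (_ : Fin (2 * g)) => (C ↘ Spec (CommRingCat.of k))) = 𝟙 _)
        (hxU : ∀ p, x.base p ∈ U) (M : C.Modules) (hM : PicF.IsInvertible M)
        (hMD : Nonempty (CohB1.tensorMod M (FGA.tensorList (List.ofFn fun i : Fin (2 * g) => ClSub.idealMod (x ≫ WidePullback.π (fun (_ : Fin (2 * g)) => (C ↘ Spec (CommRingCat.of k))) i).ker)) ≅
          CohB1.tensorPow (ClSub.idealMod σ.ker) g)),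
        Module.finrank k (Coh.HH C M 0) = 1) ∧
    (∃ V : (SymProd.fibPow (C ↘ Spec (CommRingCat.of k)) (2 * g)).Opens, (V : Set ↥(SymProd.fibPow (C ↘ Spec (CommRingCat.of k)) (2 * g))).Nonempty ∧
      ∀ (x : Spec (CommRingCat.of k) ⟶ SymProd.fibPow (C ↘ Spec (CommRingCat.of k)) (2 * g))
        (hx : x ≫ WidePullback.base (fun (_ : Fin (2 * g)) => (C ↘ Spec (CommRingCat.of k))) = 𝟙 _)
        (hxV : ∀ p, x.base p ∈ V) (M : C.Modules) (hM : PicF.IsInvertible M)
        (hMD : Nonempty (CohB1.tensorMod M (CohB1.tensorMod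
            (FGA.tensorList (List.ofFn fun i : Fin g => ClSub.idealMod (x ≫ WidePullback.π (fun (_ : Fin (2 * g)) => (C ↘ Spec (CommRingCat.of k))) (Fin.cast (two_mul g).symm (Fin.natAdd g i))).ker))
            (CohB1.tensorPow (ClSub.idealMod σ.ker) g)) ≅
          FGA.tensorList (List.ofFn fun i : Fin g => ClSub.idealMod (x ≫ WidePullback.π (fun (_ : Fin (2 * g)) => (C ↘ Spec (CommRingCat.of k))) (Fin.cast (two_mul g).symm (Fin.castAdd g i))).ker))),
        Module.finrank k (Coh.HH C M 0) = 1) := by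
  haveI : SmoothOfRelativeDimension 1 (C ↘ Spec (CommRingCat.of k)) :=
    JacLib.smoothOfRelativeDimension_one _ fun s => (CurveFF.topologicalKrullDim_fiber_eq _ s).trans hdim
  have hIσ : PicF.IsInvertible (ClSub.idealMod σ.ker) :=
    JacLib.isInvertible_ker_of_section (C ↘ Spec (CommRingCat.of k)) σ hσ
  obtain ⟨hP, hPe⟩ := JacLib.cls_tensorPow hIσ g
  let m₂ : Fin (2 * g) → ℤ := fun i => Fin.append (fun _ : Fin g => (-1 : ℤ)) (fun _ : Fin g => 1) (Fin.cast (two_mul g) i)
  constructor
  · obtain ⟨U, hU, h⟩ := JacLib.exists_open_config (k := k) (C := C) hdim (fun _ : Fin (2 * g) => 1) (-(g : ℤ)) σ hσ (by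
      intro _ _ _ hd h0 hgY
      refine ⟨fun x => JacLib.ell_pos_of_deg hd h0 ?_, ?_⟩
      · rw [JacLib.deg_confDiv hd h0, hgY, hg]
        simp only [Finset.sum_const, Finset.card_univ, Fintype.card_fin, smul_eq_mul, nsmul_eq_mul]
        omega
      · obtain ⟨z, hz⟩ := JacLib.exists_general hd h0 g (by rw [hgY, hg])
        refine ⟨fun i => Fin.append z (fun _ => JacLib.secPt σ hσ) (Fin.cast (two_mul g) i), le_of_eq ?_⟩
        rw [JacLib.confDiv, sum_split g]
        simp only [Fin.cast_cast, Fin.cast_refl, id_eq, Fin.append_left, Fin.append_right, one_smul]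
        let v : FunFld.Divisor k (JacLib.self k C).functionField := Finsupp.single (CurveFF.placeOf k hd
          (JacLib.pointClosed (C ↘ Spec (CommRingCat.of k)) (𝟙 _) (JacLib.secPt σ hσ)).1
          (JacLib.pointClosed (C ↘ Spec (CommRingCat.of k)) (𝟙 _) (JacLib.secPt σ hσ)).2) (1 : ℤ)
        show FunFld.ell (_ + (∑ _i : Fin g, v) + (-(g : ℤ)) • v) = 1
        rw [Finset.sum_const, Finset.card_univ, Fintype.card_fin, ← natCast_zsmul]
        rw [add_assoc, ← add_smul, add_neg_cancel, zero_smul, add_zero]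
        exact hz)
    refine ⟨U, hU, fun x hx hxU M hM hMD => ?_⟩
    have hI : ∀ i, PicF.IsInvertible (ClSub.idealMod (x ≫ WidePullback.π (fun (_ : Fin (2 * g)) => (C ↘ Spec (CommRingCat.of k))) i).ker) :=
      fun i => JacLib.isInvertible_ker_of_section (C ↘ Spec (CommRingCat.of k)) _
        (by rw [Category.assoc, WidePullback.π_arrow]; exact hx)
    refine h x hx hxU M hM hI hIσ ?_
    obtain ⟨hT, e⟩ := JacLib.exists_cls_tensorList (2 * g) _ hI
    have h1 := (PicLib.cls_eq_cls (AmpleLib.isInvertible_tensor hM hT) hP).2 hMD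
    rw [PicLib.cls_tensor hM hT, e, hPe] at h1
    simp only [zpow_neg, zpow_one, inv_inv, neg_neg, zpow_natCast]
    rw [Finset.prod_inv_distrib, ← h1, mul_comm (PicLib.cls hM), inv_mul_cancel_left]
  · obtain ⟨U, hU, h⟩ := JacLib.exists_open_config (k := k) (C := C) hdim m₂ (g : ℤ) σ hσ (by
      intro _ _ _ hd h0 hgY
      refine ⟨fun x => JacLib.ell_pos_of_deg hd h0 ?_, ?_⟩
      · rw [JacLib.deg_confDiv hd h0, hgY, hg, sum_split g]
        simp only [m₂, Fin.cast_cast, Fin.cast_refl, id_eq, Fin.append_left, Fin.append_right, Finset.sum_const,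
          Finset.card_univ, Fintype.card_fin, nsmul_eq_mul]
        omega
      · obtain ⟨z, hz⟩ := JacLib.exists_general hd h0 g (by rw [hgY, hg])
        refine ⟨fun i => Fin.append (fun _ => JacLib.secPt σ hσ) z (Fin.cast (two_mul g) i), le_of_eq ?_⟩
        rw [JacLib.confDiv, sum_split g]
        simp only [m₂, Fin.cast_cast, Fin.cast_refl, id_eq, Fin.append_left, Fin.append_right, one_smul, neg_smul]
        let v : FunFld.Divisor k (JacLib.self k C).functionField := Finsupp.single (CurveFF.placeOf k hd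
          (JacLib.pointClosed (C ↘ Spec (CommRingCat.of k)) (𝟙 _) (JacLib.secPt σ hσ)).1
          (JacLib.pointClosed (C ↘ Spec (CommRingCat.of k)) (𝟙 _) (JacLib.secPt σ hσ)).2) (1 : ℤ)
        show FunFld.ell ((∑ _i : Fin g, -v) + _ + (g : ℤ) • v) = 1
        rw [Finset.sum_const, Finset.card_univ, Fintype.card_fin, ← natCast_zsmul, smul_neg]
        rw [add_comm (-_), add_assoc, neg_add_cancel, add_zero]
        exact hz)
    refine ⟨U, hU, fun x hx hxU M hM hMD => ?_⟩
    have hI : ∀ i, PicF.IsInvertible (ClSub.idealMod (x ≫ WidePullback.π (fun (_ : Fin (2 * g)) => (C ↘ Spec (CommRingCat.of k))) i).ker) :=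
      fun i => JacLib.isInvertible_ker_of_section (C ↘ Spec (CommRingCat.of k)) _
        (by rw [Category.assoc, WidePullback.π_arrow]; exact hx)
    refine h x hx hxU M hM hI hIσ ?_
    obtain ⟨hA, ea⟩ := JacLib.exists_cls_tensorList g _ fun i : Fin g => hI (Fin.cast (two_mul g).symm (Fin.castAdd g i))
    obtain ⟨hB, eb⟩ := JacLib.exists_cls_tensorList g _ fun i : Fin g => hI (Fin.cast (two_mul g).symm (Fin.natAdd g i))
    have hBP := AmpleLib.isInvertible_tensor hB hP
    have h1 := (PicLib.cls_eq_cls (AmpleLib.isInvertible_tensor hM hBP) hA).2 hMD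
    rw [PicLib.cls_tensor hM hBP, PicLib.cls_tensor hB hP, ea, eb, hPe] at h1
    rw [prod_split g]
    simp only [m₂, Fin.cast_cast, Fin.cast_refl, id_eq, Fin.append_left, Fin.append_right, zpow_neg, zpow_one, inv_inv,
      zpow_natCast]
    rw [Finset.prod_inv_distrib, ← h1, mul_assoc (PicLib.cls hM * _), ← mul_inv, mul_inv_cancel_right]

end Groth.Agent.S17824
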