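import Groth.Statements.S17825

-- import your own Groth.Agent.* helpers here

set_option autoImplicit false
universe u
open CategoryTheory CategoryTheory.Limits AlgebraicGeometry
open JacVar

namespace Groth.Agent.S17825

/-- Let S be a scheme, Y an S-scheme separated over S, F a presheaf of sets on the category of
S-schemes, f : h_Y ⟶ F a morphism from the functor of points of Y, and s : F ⟶ h_Y a section of f (s
followed by f is the identity). Then F is represented by a closed subscheme of Y: there are an
S-scheme Z, a morphism i : Z ⟶ Y over S which is a closed immersion, and an isomorphism F ≅ h_Z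
whose composite with h_i : h_Z ⟶ h_Y is s. (The published lemma treats the case where Y is the r-th
symmetric power of a curve, F the functor of degree-r invertible families modulo twisting and f the
divisor-class map.) -/
theorem result {S : Scheme.{u}} (Y : Over S) [IsSeparated Y.hom]
    (F : (Over S)ᵒᵖ ⥤ Type u) (f : yoneda.obj Y ⟶ F) (s : F ⟶ yoneda.obj Y) (hsf : s ≫ f = 𝟙 F) :
    ∃ (Z : Over S) (i : Z ⟶ Y), IsClosedImmersion i.left ∧
      ∃ e : F ≅ yoneda.obj Z, e.hom ≫ yoneda.map i = s := by
  let e : Y ⟶ Y := (f ≫ s).app (Opposite.op Y) (𝟙 Y)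
  have key : ∀ (T : (Over S)ᵒᵖ) (t : T.unop ⟶ Y), s.app T (f.app T t) = t ≫ e := by
    intro T t
    have := congrArg (fun φ => (ConcreteCategory.hom φ) (𝟙 Y)) ((f ≫ s).naturality t.op)
    simpa [e] using this
  have hsf' : ∀ (T : (Over S)ᵒᵖ) (x : F.obj T), f.app T (s.app T x) = x := fun T x => by
    have := congrArg (fun φ => (φ.app T) x) hsf
    simpa using this
  have heq : ∀ (T : (Over S)ᵒᵖ) (x : F.obj T), (s.app T x : T.unop ⟶ Y) ≫ e = s.app T x := fun T x => by
    rw [← key T, hsf' T x]
  let φ : F ⟶ yoneda.obj (equalizer e (𝟙 Y)) :=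
    { app := fun T => ↾fun x => equalizer.lift (s.app T x : T.unop ⟶ Y) (by rw [heq T x, Category.comp_id])
      naturality := fun T T' g => by
        ext x
        apply equalizer.hom_ext
        have := congrArg (fun φ => (ConcreteCategory.hom φ) x) (s.naturality g)
        simpa using this }
  let ψ : yoneda.obj (equalizer e (𝟙 Y)) ⟶ F := yoneda.map (equalizer.ι e (𝟙 Y)) ≫ f
  refine ⟨equalizer e (𝟙 Y), equalizer.ι e (𝟙 Y), inferInstance,
    ⟨φ, ψ, ?_, ?_⟩, ?_⟩
  · ext T x
    simp [φ, ψ, hsf']
  · ext T t
    apply equalizer.hom_ext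
    have h := key T (t ≫ equalizer.ι e (𝟙 Y))
    rw [Category.assoc, equalizer.condition, Category.comp_id] at h
    simpa [φ, ψ] using h
  · ext T x
    simp [φ]

end Groth.Agent.S17825
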