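import Groth.Statements.S5318
import Groth.Agent.GrpEasyLib.Basic
import Groth.Agent.UnramSecLib.Basic
import Mathlib

set_option autoImplicit false
universe u
open CategoryTheory CategoryTheory.Limits MonoidalCategory CartesianMonoidalCategory MonObj GrpObj AlgebraicGeometry
open SGA3

set_option backward.isDefEq.respectTransparency false
set_option backward.isDefEq.respectTransparency.types false

namespace Groth.Agent.S5318

open scoped TensorProduct in
/-- An algebra over a field admitting a separability idempotent is finite. -/
theorem finite_of_separabilityIdempotent {k A : Type*} [Field k] [CommRing A] [Algebra k A]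
    (e : A ⊗[k] A) (h1 : Algebra.TensorProduct.lmul' k e = 1)
    (he : ∀ x : A, (x ⊗ₜ[k] (1 : A)) * e = ((1 : A) ⊗ₜ[k] x) * e) : Module.Finite k A := by
  classical
  let bk := Module.Basis.ofVectorSpace k A
  let B := Algebra.TensorProduct.basis A bk
  let r := B.repr e
  let V : Submodule k A := Submodule.span k (Set.range r)
  have hV : Submodule.FG V := Submodule.fg_span r.finite_range
  have hl : ∀ x : A, ∀ z : A ⊗[k] A, (x ⊗ₜ[k] (1 : A)) * z = x • z := by
    intro x z
    induction z using TensorProduct.induction_on with
    | zero => simp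
    | tmul a b => simp [TensorProduct.smul_tmul']
    | add a b ha hb => simp [mul_add, ha, hb, smul_add]
  have hx : ∀ x : A, ∀ j, x * r j ∈ V := by
    intro x j
    have h : x * r j = B.repr (((1 : A) ⊗ₜ[k] x) * e) j := by
      rw [← he x, hl, map_smul]
      rfl
    rw [h, ← B.linearCombination_repr e, Finsupp.linearCombination_apply, Finsupp.sum, Finset.mul_sum,
      map_sum, Finsupp.finsetSum_apply]
    refine Submodule.sum_mem _ fun i _ => ?_
    rw [Algebra.TensorProduct.basis_apply, TensorProduct.smul_tmul', Algebra.TensorProduct.tmul_mul_tmul,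
      _root_.one_mul, smul_eq_mul, _root_.mul_one, Algebra.TensorProduct.basis_repr_tmul]
    simp only [Finsupp.smul_apply, Finsupp.mapRange_apply, smul_eq_mul]
    rw [← Algebra.commutes, ← Algebra.smul_def]
    exact V.smul_mem _ (Submodule.subset_span ⟨i, rfl⟩)
  have hone : (1 : A) = ∑ j ∈ r.support, r j * bk j := by
    rw [← h1]
    conv_lhs => rw [← B.linearCombination_repr e]
    simp [Finsupp.linearCombination_apply, Finsupp.sum, B, r, TensorProduct.smul_tmul']
  suffices hVtop : V = ⊤ from ⟨hVtop ▸ hV⟩
  refine eq_top_iff.2 fun x _ => ?_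
  have hx1 : x = ∑ j ∈ r.support, (x * bk j) * r j :=
    calc x = x * 1 := (_root_.mul_one x).symm
      _ = x * ∑ j ∈ r.support, r j * bk j := by rw [← hone]
      _ = _ := by rw [Finset.mul_sum]; exact Finset.sum_congr rfl fun j _ => by ring
  rw [hx1]
  exact Submodule.sum_mem _ fun j _ => hx _ j

open scoped TensorProduct in
theorem finitePresentation_of_diag {k A : CommRingCat.{u}} (φ : k ⟶ A) (hk : IsField k)
    [IsOpenImmersion (pullback.diagonal (Spec.map φ))] : φ.hom.FinitePresentation := by
  letI := hk.toField
  algebraize [φ.hom]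
  let F := (Algebra.TensorProduct.lmul' k (S := A)).toRingHom
  have hF : Function.Surjective F := fun x ↦ ⟨x ⊗ₜ 1, by simp [F]⟩
  have : IsOpenImmersion (Spec.map (CommRingCat.ofHom F)) := by
    rwa [← MorphismProperty.cancel_right_of_respectsIso (P := @IsOpenImmersion) _
      (pullbackSpecIso k A A).inv, ← AlgebraicGeometry.diagonal_SpecMap k A]
  obtain ⟨e, he, he'⟩ := (isOpenImmersion_SpecMap_iff_of_surjective _ hF).mp this
  have heF : F e = 0 := RingHom.mem_ker.1 (he'.ge (Ideal.mem_span_singleton_self e))
  haveI : Module.Finite k A := finite_of_separabilityIdempotent (1 - e) (by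
      show F (1 - e) = 1
      rw [map_sub, map_one, heF, sub_zero]) fun x => by
    have hm : x ⊗ₜ[k] (1 : A) - (1 : A) ⊗ₜ[k] x ∈ RingHom.ker F := by
      simp [RingHom.mem_ker, F]
    obtain ⟨z, hz⟩ := Ideal.mem_span_singleton.mp (he'.le hm)
    rw [← sub_eq_zero, ← sub_mul, hz]
    calc e * z * (1 - e) = (e - e * e) * z := by ring
      _ = 0 := by rw [he.eq, sub_self, zero_mul]
  haveI : Algebra.FinitePresentation k A :=
    (Algebra.FinitePresentation.of_finiteType (R := k) (A := A)).1 inferInstance
  assumption

/-- A scheme over a field whose diagonal is an open immersion is locally of finite presentation. -/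
theorem locallyOfFinitePresentation_of_diag (k : CommRingCat.{u}) (hk : IsField k) {X : Scheme.{u}}
    (f : X ⟶ Spec k) [IsOpenImmersion (pullback.diagonal f)] : LocallyOfFinitePresentation f := by
  rw [IsZariskiLocalAtSource.iff_of_openCover (P := @LocallyOfFinitePresentation) X.affineCover]
  intro i
  haveI : IsOpenImmersion (pullback.diagonal (X.affineCover.f i ≫ f)) :=
    MorphismProperty.comp_mem (.diagonal @IsOpenImmersion) _ _
      (inferInstanceAs (IsOpenImmersion _)) ‹_›
  obtain ⟨φ, hφ⟩ := Spec.map_surjective (X.affineCover.f i ≫ f)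
  rw [← hφ] at this ⊢
  rw [HasRingHomProperty.Spec_iff (P := @LocallyOfFinitePresentation)]
  exact finitePresentation_of_diag φ hk


/-- (ii) ⟺ (iii) and, for G locally of finite presentation over S, (ii) ⟺ (iv): let G be an S-group
scheme. The unit section of G is an open immersion if and only if G is locally of finite
presentation over S on some open containing the unit section and every fibre G_s is unramified
(formally unramified and locally of finite presentation) over κ(s). If G is locally of finite
presentation over S, the unit section is an open immersion if and only if G is unramified over S. -/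
theorem result (S : Scheme.{u}) (G : Over S) [GrpObj G] :
    (IsOpenImmersion η[G].left ↔
      ((∃ W : G.left.Opens, (∀ p : ↥(𝟙_ (Over S)).left, η[G].left.base p ∈ W) ∧ LocallyOfFinitePresentation (W.ι ≫ G.hom)) ∧
        ∀ s : S, FormallyUnramified (G.hom.fiberToSpecResidueField s) ∧ LocallyOfFinitePresentation (G.hom.fiberToSpecResidueField s))) ∧
    (LocallyOfFinitePresentation G.hom → (IsOpenImmersion η[G].left ↔ FormallyUnramified G.hom)) := by
  refine ⟨⟨fun h => ?_, fun ⟨⟨W, hWη, hW⟩, hs⟩ => ?_⟩, fun h => ?_⟩
  · haveI := h
    haveI : IsOpenImmersion (pullback.diagonal G.hom) := by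
      rw [← GrpEasyLib.diag_left]
      exact MorphismProperty.of_isPullback (P := @IsOpenImmersion)
        ((GrpEasyLib.isPullback_diag_one G).map (Over.forget S)).flip h
    refine ⟨⟨η[G].left.opensRange, fun p => ⟨p, rfl⟩, ?_⟩, fun s => ?_⟩
    · have e : η[G].left.isoOpensRange.hom ≫ η[G].left.opensRange.ι ≫ G.hom = 𝟙 S := by
        rw [← Category.assoc, Scheme.Hom.isoOpensRange_hom_ι]
        exact Over.w η[G]
      rw [← MorphismProperty.cancel_left_of_respectsIso (P := @LocallyOfFinitePresentation)
        η[G].left.isoOpensRange.hom, e]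
      exact inferInstanceAs (LocallyOfFinitePresentation (𝟙 S))
    · haveI : IsOpenImmersion (pullback.diagonal (G.hom.fiberToSpecResidueField s)) :=
        MorphismProperty.pullback_snd (P := .diagonal @IsOpenImmersion) _ _ ‹_›
      exact ⟨inferInstance, locallyOfFinitePresentation_of_diag _ (Field.toIsField _) _⟩
  · haveI := hW
    haveI : FormallyUnramified (W.ι ≫ G.hom) := FlatLocus.formallyUnramified_of_fibres _ fun s => by
      haveI := (hs s).1
      show FormallyUnramified (pullback.snd (W.ι ≫ G.hom) _)
      rw [← MorphismProperty.cancel_left_of_respectsIso (P := @FormallyUnramified)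
        (pullbackRightPullbackFstIso G.hom (S.fromSpecResidueField s) W.ι).hom,
        pullbackRightPullbackFstIso_hom_snd]
      exact MorphismProperty.comp_mem _ _ _
        (inferInstanceAs (FormallyUnramified (pullback.snd W.ι _))) (hs s).1
    have hr : Set.range η[G].left.base ⊆ Set.range W.ι.base := by
      rintro _ ⟨p, rfl⟩
      rw [Scheme.Opens.range_ι]
      exact hWη p
    have he := Over.w η[G]
    rw [← IsOpenImmersion.lift_fac W.ι η[G].left hr, Category.assoc] at he
    set u := IsOpenImmersion.lift W.ι η[G].left hr with hu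
    haveI : IsOpenImmersion u := by
      haveI : Etale (u ≫ W.ι ≫ G.hom) := by rw [he]; exact inferInstanceAs (Etale (𝟙 S))
      haveI : Etale u := Etale.of_comp u (W.ι ≫ G.hom)
      haveI : Mono (u ≫ W.ι ≫ G.hom) := by rw [he]; exact inferInstanceAs (Mono (𝟙 S))
      haveI : Mono u := mono_of_mono u (W.ι ≫ G.hom)
      exact IsOpenImmersion.of_flat_of_mono u
    rw [← IsOpenImmersion.lift_fac W.ι η[G].left hr]
    infer_instance
  · haveI := h
    exact (GrpEasyLib.formallyUnramified_iff G).symm

end Groth.Agent.S5318
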