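import Groth.Statements.S17831
import Groth.Agent.S13975
import Groth.Agent.S5318
import Groth.Agent.EllTangLib.Main
set_option backward.isDefEq.respectTransparency false

set_option autoImplicit false
universe u
open CategoryTheory MonoidalCategory CartesianMonoidalCategory MonObj GrpObj AlgebraicGeometry
open AutSch

namespace Groth.Agent.S17831


open CategoryTheory CategoryTheory.Limits MonoidalCategory CartesianMonoidalCategory MonObj GrpObj AlgebraicGeometry
open scoped DualNumber
open Groth.Agent.GrpSchLib (spO spMap)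

noncomputable section Helpers

variable {S : Scheme.{u}} {X G : Over S} [GrpObj G]

theorem famOf_one (a : AlgGrp.Action G X) (T : Over S) : famOf a (1 : T ⟶ G) = fst X T := by
  have h : lift (snd X T ≫ (1 : T ⟶ G)) (fst X T) = lift (toUnit (X ⊗ T)) (fst X T) ≫ (η[G] ▷ X) := by
    rw [lift_whiskerRight, MonObj.comp_one]
    rfl
  rw [famOf, h, Category.assoc, a.one_act]
  simp

theorem famOf_mul (a : AlgGrp.Action G X) {T : Over S} (g h : T ⟶ G) :
    famOf a (h * g) = endOf (famOf a g) ≫ famOf a h := by
  have h1 : endOf (famOf a g) ≫ famOf a h = lift (snd X T ≫ h) (famOf a g) ≫ a.act := by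
    rw [famOf, famOf, ← Category.assoc, comp_lift, endOf_fst, ← Category.assoc, endOf_snd]
  have h2 : lift (snd X T ≫ (h * g)) (fst X T) =
      lift (lift (snd X T ≫ h) (snd X T ≫ g)) (fst X T) ≫ (μ[G] ▷ X) := by
    rw [lift_whiskerRight, MonObj.comp_mul]
    rfl
  rw [h1, famOf, h2, Category.assoc, a.mul_act, lift_lift_associator_hom_assoc, lift_whiskerLeft_assoc]
  rfl

theorem endOf_famOf_mul (a : AlgGrp.Action G X) {T : Over S} (g h : T ⟶ G) :
    endOf (famOf a (h * g)) = endOf (famOf a g) ≫ endOf (famOf a h) := by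
  apply hom_ext
  · rw [endOf_fst, Category.assoc, endOf_fst, famOf_mul]
  · rw [endOf_snd, Category.assoc, endOf_snd, endOf_snd]

theorem isAutFamily_famOf (a : AlgGrp.Action G X) {T : Over S} (g : T ⟶ G) : IsAutFamily (famOf a g) := by
  have hone : endOf (famOf a (1 : T ⟶ G)) = 𝟙 (X ⊗ T) := by
    apply hom_ext
    · rw [endOf_fst, famOf_one, Category.id_comp]
    · rw [endOf_snd, Category.id_comp]
  refine ⟨endOf (famOf a g⁻¹), ?_, ?_⟩
  · rw [← endOf_famOf_mul, inv_mul_cancel, hone]
  · rw [← endOf_famOf_mul, mul_inv_cancel, hone]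

end Helpers

noncomputable section Field

variable {k : Type u} [Field k]

theorem subsingleton_hom_to_point {Z : Over (Spec (CommRingCat.of k))} (u v : Z ⟶ spO k k) : u = v := by
  ext1
  have hu := Over.w u
  have hv := Over.w v
  have e : (spO k k).hom = 𝟙 _ := Spec.map_id _
  rw [e] at hu hv
  exact ((Category.comp_id _).symm.trans hu).trans (hv.symm.trans (Category.comp_id _))

/-- The unique map to the point. -/
def toPt (Z : Over (Spec (CommRingCat.of k))) : Z ⟶ spO k k :=
  Over.homMk Z.hom (by
    show Z.hom ≫ Spec.map (CommRingCat.ofHom (algebraMap k k)) = Z.hom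
    rw [show CommRingCat.ofHom (algebraMap k k) = 𝟙 _ from rfl, Spec.map_id, Category.comp_id])

/-- The closed point of the dual numbers. -/
abbrev pt : spO k k ⟶ spO k (DualNumber k) := spMap (TrivSqZeroExt.fstHom k k k)

variable (X : Over (Spec (CommRingCat.of k)))

/-- The central fibre. -/
def incl : X ⟶ X ⊗ spO k (DualNumber k) := lift (𝟙 X) (toPt X ≫ pt)

theorem lift_toPt_fst : fst X (spO k k) ≫ lift (𝟙 X) (toPt X) = 𝟙 _ := by
  apply hom_ext
  · simp
  · exact subsingleton_hom_to_point _ _

theorem incl_eq : incl X = lift (𝟙 X) (toPt X) ≫ (X ◁ pt) := by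
  rw [lift_whiskerLeft]; rfl

theorem incl_comp_iff (φ : X ⊗ spO k (DualNumber k) ⟶ X) :
    incl X ≫ φ = 𝟙 X ↔ pullFam pt φ = fst X (spO k k) := by
  rw [incl_eq, Category.assoc]
  show lift (𝟙 X) (toPt X) ≫ pullFam pt φ = _ ↔ _
  constructor
  · intro h
    rw [← Category.id_comp (pullFam pt φ), ← lift_toPt_fst X, Category.assoc, h, Category.comp_id]
  · intro h
    rw [h, lift_fst]

variable {X} {G : Over (Spec (CommRingCat.of k))} [GrpObj G] (a : AlgGrp.Action G X)

/-- Infinitesimal automorphisms are trivial exactly when tangent vectors are. -/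
theorem tangent_of_der_eq_zero (hG : Represents X G a) [IsLocallyNoetherian X.left]
    (hD : ∀ (D : OmegaSh.Der X.hom (Coh.structureModule X.left)) (U : X.left.Opens) (s : Γ(X.left, U)), D.app U s = 0)
    (T : spO k (DualNumber k) ⟶ G) (hT : pt ≫ T = 1) : T = 1 := by
  haveI : QuasiSeparated X.hom := inferInstance
  haveI : Subsingleton (Omega.sheaf X.hom ⟶ Coh.structureModule X.left) := ⟨fun α β => by
    have hz : ∀ gm : Omega.sheaf X.hom ⟶ Coh.structureModule X.left,
        OmegaUnivLib.comp (OmegaSh.dOmega X.hom) gm =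
          OmegaUnivLib.comp (OmegaSh.dOmega X.hom) α := fun gm =>
      OmegaUnivLib.der_ext fun V b => (hD _ V b).trans (hD _ V b).symm
    obtain ⟨gm, -, hu⟩ := OmegaUnivLib.isUniversal_dOmega X.hom (Coh.structureModule X.left)
      (OmegaUnivLib.comp (OmegaSh.dOmega X.hom) α)
    exact (hu α rfl).trans (hu β (hz β)).symm⟩
  let Y := spO k (DualNumber k)
  obtain ⟨e, -⟩ := Groth.Agent.S13975.result k X.left X.hom (X ⊗ Y).left (fst X Y).left (snd X Y).left
    (IsPullback.of_hasPullback X.hom Y.hom) (incl X).left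
    (by rw [← Over.comp_left, incl, lift_fst]; rfl)
    (by rw [← Over.comp_left, incl, lift_snd]; rfl)
  have haut : IsIso (endOf (famOf a T)) := isAutFamily_famOf a T
  have hi : incl X ≫ endOf (famOf a T) = incl X := by
    have h0 : incl X ≫ famOf a T = 𝟙 X := by
      rw [incl_comp_iff, ← famOf_comp, hT, famOf_one]
    apply hom_ext
    · rw [Category.assoc, endOf_fst, h0, incl, lift_fst]
    · rw [Category.assoc, endOf_snd]
  let φ : (X ⊗ Y).left ≅ (X ⊗ Y).left := (Over.forget _).mapIso (asIso (endOf (famOf a T)))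
  haveI : Subsingleton {φ : (X ⊗ Y).left ≅ (X ⊗ Y).left //
      φ.hom ≫ (snd X Y).left = (snd X Y).left ∧ (incl X).left ≫ φ.hom = (incl X).left} :=
    e.injective.subsingleton
  have h1 : φ.hom ≫ (snd X Y).left = (snd X Y).left := by
    show (endOf (famOf a T) ≫ snd X Y).left = _
    rw [endOf_snd]
  have h2 : (incl X).left ≫ φ.hom = (incl X).left := congrArg CommaMorphism.left hi
  have h3 := congrArg Subtype.val (Subsingleton.elim (α := {φ : (X ⊗ Y).left ≅ (X ⊗ Y).left //
      φ.hom ≫ (snd X Y).left = (snd X Y).left ∧ (incl X).left ≫ φ.hom = (incl X).left})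
    ⟨φ, h1, h2⟩ ⟨Iso.refl _, Category.id_comp _, Category.comp_id _⟩)
  have h4 : endOf (famOf a T) = 𝟙 (X ⊗ Y) := by
    exact Over.OverMorphism.ext (congrArg Iso.hom h3)
  have h5 : famOf a T = famOf a (1 : Y ⟶ G) := by
    rw [famOf_one, ← endOf_fst (famOf a T), h4, Category.id_comp]
  exact ((represents_iff G a).1 hG Y (famOf a T) haut).unique rfl h5.symm

theorem der_eq_zero_of_tangent (hG : Represents X G a) [IsLocallyNoetherian X.left]
    (h : ∀ T : spO k (DualNumber k) ⟶ G, pt ≫ T = 1 → T = 1)
    (D : OmegaSh.Der X.hom (Coh.structureModule X.left)) (U : X.left.Opens) (s : Γ(X.left, U)) :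
    D.app U s = 0 := by
  haveI : QuasiSeparated X.hom := inferInstance
  let Y := spO k (DualNumber k)
  have hsub : ∀ φ : {φ : (X ⊗ Y).left ≅ (X ⊗ Y).left //
      φ.hom ≫ (snd X Y).left = (snd X Y).left ∧ (incl X).left ≫ φ.hom = (incl X).left},
      φ.1 = Iso.refl _ := by
    rintro ⟨φ, h1, h2⟩
    let ψ : X ⊗ Y ⟶ X ⊗ Y := Over.homMk φ.hom (by
      rw [← Over.w (snd X Y), reassoc_of% h1])
    haveI : IsIso ((Over.forget _).map ψ) := inferInstanceAs (IsIso φ.hom)
    haveI : IsIso ψ := isIso_of_reflects_iso ψ (Over.forget _)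
    have hψ2 : ψ ≫ snd X Y = snd X Y := Over.OverMorphism.ext h1
    have hψi : incl X ≫ ψ = incl X := Over.OverMorphism.ext h2
    have hend : endOf (ψ ≫ fst X Y) = ψ := by
      apply hom_ext
      · rw [endOf_fst]
      · rw [endOf_snd, hψ2]
    have haut : IsAutFamily (ψ ≫ fst X Y) := by
      show IsIso (endOf _)
      rw [hend]; infer_instance
    obtain ⟨T, hT, -⟩ := (represents_iff G a).1 hG Y _ haut
    have hT1 : pt ≫ T = 1 := by
      have haut0 : IsAutFamily (famOf a (1 : spO k k ⟶ G)) := isAutFamily_famOf a _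
      refine ((represents_iff G a).1 hG _ _ haut0).unique ?_ rfl
      rw [famOf_comp, hT, famOf_one, ← incl_comp_iff, reassoc_of% hψi, incl, lift_fst]
    have hψ : ψ = 𝟙 (X ⊗ Y) := by
      rw [← hend, ← hT, h T hT1, famOf_one]
      apply hom_ext
      · rw [endOf_fst, Category.id_comp]
      · rw [endOf_snd, Category.id_comp]
    exact Iso.ext (congrArg CommaMorphism.left hψ)
  obtain ⟨e, -⟩ := Groth.Agent.S13975.result k X.left X.hom (X ⊗ Y).left (fst X Y).left (snd X Y).left
    (IsPullback.of_hasPullback X.hom Y.hom) (incl X).left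
    (by rw [← Over.comp_left, incl, lift_fst]; rfl)
    (by rw [← Over.comp_left, incl, lift_snd]; rfl)
  obtain ⟨gm, hgm, -⟩ := OmegaUnivLib.isUniversal_dOmega X.hom (Coh.structureModule X.left) D
  have hgm0 : gm = 0 := by
    obtain ⟨φ, rfl⟩ := e.surjective gm
    obtain ⟨ψ, hψ⟩ := e.surjective (0 : Omega.sheaf X.hom ⟶ Coh.structureModule X.left)
    rw [← hψ]
    exact congrArg e (Subtype.ext ((hsub φ).trans (hsub ψ).symm))
  have hD : D.app U s = (OmegaUnivLib.comp (OmegaSh.dOmega X.hom) gm).app U s :=
    (congrArg (fun E : OmegaSh.Der X.hom (Coh.structureModule X.left) => E.app U s) hgm).symm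
  rw [hD, hgm0]
  rfl

theorem formallyUnramified_of_tangent [LocallyOfFiniteType G.hom]
    (h : ∀ T : spO k (DualNumber k) ⟶ G, pt ≫ T = 1 → T = 1) : FormallyUnramified G.hom := by
  haveI : IsNoetherianRing k := inferInstance
  haveI : LocallyOfFinitePresentation G.hom := inferInstance
  refine ((Groth.Agent.S5318.result _ G).2 inferInstance).1 ?_
  obtain ⟨A, _, _, jA, _, e, P, hA, he, -, -⟩ := EllTangLib.exists_chart (G := G)
  have hle := EllTangLib.le_sq_of_forall_tangent jA e he h
  have hidem : IsIdempotentElem (RingHom.ker e) :=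
    le_antisymm Ideal.mul_le_left (hle.trans_eq (pow_two _))
  obtain ⟨i, hi, hker⟩ :=
    (Ideal.isIdempotentElem_iff_of_fg _ (IsNoetherian.noetherian (RingHom.ker e))).1 hidem
  have hie : e i = 0 := RingHom.mem_ker.1 (hker ▸ Submodule.mem_span_singleton_self i)
  letI : Algebra A k := e.toRingHom.toAlgebra
  haveI hloc : IsLocalization.Away (1 - i) k := by
    constructor
    constructor
    · rintro ⟨y, n, rfl⟩
      show IsUnit (e ((1 - i) ^ n))
      rw [map_pow, map_sub, map_one, hie, sub_zero, one_pow]
      exact isUnit_one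
    · intro z
      refine ⟨⟨algebraMap k A z, 1⟩, ?_⟩
      show z * e 1 = e (algebraMap k A z)
      rw [map_one, _root_.mul_one, AlgHom.commutes]
      rfl
    · intro x y hxy
      have hmem : x - y ∈ Submodule.span A {i} := by
        rw [← hker, RingHom.mem_ker, map_sub, sub_eq_zero]
        exact hxy
      obtain ⟨r, hr⟩ := Submodule.mem_span_singleton.1 hmem
      refine ⟨⟨1 - i, Submonoid.mem_powers _⟩, ?_⟩
      show (1 - i) * x = (1 - i) * y
      rw [smul_eq_mul] at hr
      have hii : i * i = i := hi
      linear_combination -(1 - i) * hr - r * hii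
  haveI : IsOpenImmersion (spMap e).left := by
    exact IsOpenImmersion.of_isLocalization (S := k) (1 - i)
  have hu : IsOpenImmersion (spMap e ≫ jA).left := by
    rw [Over.comp_left]; infer_instance
  rw [he] at hu
  have h1 : (1 : spO k k ⟶ G).left = (toUnit (spO k k)).left ≫ η[G].left := rfl
  rw [h1] at hu
  haveI : IsIso (toUnit (spO k k)).left := by
    have e1 : (toUnit (spO k k)).left = (spO k k).hom := rfl
    rw [e1, show (spO k k).hom = 𝟙 _ from Spec.map_id _]
    infer_instance
  exact (MorphismProperty.cancel_left_of_respectsIso @IsOpenImmersion _ _).1 hu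

theorem tangent_of_formallyUnramified [LocallyOfFiniteType G.hom] (hu : FormallyUnramified G.hom)
    (T : spO k (DualNumber k) ⟶ G) (hT : pt ≫ T = 1) : T = 1 := by
  haveI : LocallyOfFinitePresentation G.hom := inferInstance
  haveI : IsOpenImmersion η[G].left := ((Groth.Agent.S5318.result _ G).2 inferInstance).2 hu
  haveI : Subsingleton ↥(spO k (DualNumber k)).left := ⟨fun p q => by
    have key : ∀ r : PrimeSpectrum (DualNumber k), r.asIdeal = RingHom.ker (TrivSqZeroExt.fstHom k k k) := by
      intro r
      refine (((RingHom.ker_isMaximal_of_surjective (TrivSqZeroExt.fstHom k k k)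
        fun c => ⟨TrivSqZeroExt.inl c, rfl⟩).eq_of_le r.isPrime.ne_top ?_)).symm
      intro z hz
      have hz0 : TrivSqZeroExt.fst z = 0 := RingHom.mem_ker.1 hz
      refine r.isPrime.mem_of_pow_mem 2 ?_
      have : z ^ 2 = 0 := by
        ext <;> simp [pow_two, hz0]
      rw [this]
      exact r.asIdeal.zero_mem
    exact PrimeSpectrum.ext ((key p).trans (key q).symm)⟩
  have hr : Set.range T.left ⊆ Set.range η[G].left := by
    rintro _ ⟨p, rfl⟩
    have h1 := congrArg (fun f : spO k k ⟶ G => f.left (⊥ : PrimeSpectrum k)) hT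
    have h2 : T.left p = T.left ((pt (k := k)).left (⊥ : PrimeSpectrum k)) :=
      congrArg _ (Subsingleton.elim _ _)
    rw [h2]
    exact ⟨_, h1.symm⟩
  let l : spO k (DualNumber k) ⟶ 𝟙_ _ := Over.homMk (IsOpenImmersion.lift η[G].left T.left hr) (by
    show _ ≫ (𝟙_ (Over (Spec (CommRingCat.of k)))).hom = _
    rw [← Over.w η[G], IsOpenImmersion.lift_fac_assoc]
    exact Over.w T)
  have hl : l ≫ η[G] = T := by ext1; exact IsOpenImmersion.lift_fac _ _ _
  rw [← hl, toUnit_unique l (toUnit _)]
  rfl

end Field

/-- Let k be a field and X a proper k-scheme of dimension at most 1, and let the k-group scheme G,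
locally of finite type over k, with its action a be the automorphism group scheme of X over k. Then
G → Spec k is unramified exactly when Der_k(O_X, O_X) = 0, i.e. when every k-derivation of O_X into
O_X takes the value zero on every section over every open. (Unramified is stated as formally
unramified, G being locally of finite type. The published statement also lists as equivalent that
the automorphism group scheme is geometrically reduced of dimension zero, and a condition on the
moduli stack of curves; this row states the unramified condition only.) -/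
theorem result (k : Type u) [Field k]
    (X : Over (Spec (CommRingCat.of k))) [IsProper X.hom] (hdim : topologicalKrullDim ↥X.left ≤ 1)
    (G : Over (Spec (CommRingCat.of k))) [GrpObj G] [LocallyOfFiniteType G.hom] (a : AlgGrp.Action G X)
    (hG : AutSch.Represents X G a) :
    FormallyUnramified G.hom ↔
      ∀ (D : OmegaSh.Der X.hom (Coh.structureModule X.left)) (U : X.left.Opens) (s : Γ(X.left, U)),
        D.app U s = 0 := by
  haveI : IsLocallyNoetherian X.left := LocallyOfFiniteType.isLocallyNoetherian X.hom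
  refine ⟨fun hu D U s => der_eq_zero_of_tangent a hG (fun T hT => tangent_of_formallyUnramified hu T hT) D U s,
    fun hD => formallyUnramified_of_tangent fun T hT => tangent_of_der_eq_zero a hG hD T hT⟩

end Groth.Agent.S17831
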