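import Groth.Statements.S17832
import Groth.Agent.AutDescLib.Birational
import Groth.Agent.ProjBundleLib.HProj

set_option backward.isDefEq.respectTransparency false
set_option linter.style.haveILetI false

set_option autoImplicit false
universe u
open CategoryTheory MonoidalCategory CartesianMonoidalCategory MonObj GrpObj AlgebraicGeometry
open AutSch

namespace Groth.Agent.S17832

/-- Over an algebraically closed field k, let X and Y be normal projective varieties (integral k-schemes
whose local rings are integrally closed domains, each admitting a closed immersion into a projective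
space over k) and f : X → Y a birational k-morphism: f restricts to an isomorphism over some
non-empty open subset of Y. Let (GX, aX) and (GY, aY) be the automorphism group schemes of X and Y
with their universal actions, both locally of finite type, and let H be a closed subgroup scheme of
GY (e : H → GY a homomorphism which is a closed immersion) whose action on Y through e lifts to an
action b of H on X for which f is equivariant. Then the homomorphism ρ : H → GX through which b is
obtained from the universal action is a closed immersion. (The published statement takes for H the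
reduced automorphism group of Y; the form here allows any closed subgroup scheme of the automorphism
group scheme whose action lifts.) -/
theorem result (k : Type u) [Field k] [IsAlgClosed k]
    (X Y : Over (Spec (CommRingCat.of k))) [IsIntegral X.left] [IsIntegral Y.left]
    (hXn : Pi1.IsNormalScheme X.left) (hYn : Pi1.IsNormalScheme Y.left)
    (hX : RelProj.IsHProjective X.hom) (hY : RelProj.IsHProjective Y.hom)
    (f : X ⟶ Y) (U : Y.left.Opens) (hU : (U : Set ↥Y.left).Nonempty) (hf : IsIso (f.left ∣_ U))
    (GX : Over (Spec (CommRingCat.of k))) [GrpObj GX] [LocallyOfFiniteType GX.hom] (aX : AlgGrp.Action GX X)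
    (hGX : AutSch.Represents X GX aX)
    (GY : Over (Spec (CommRingCat.of k))) [GrpObj GY] [LocallyOfFiniteType GY.hom] (aY : AlgGrp.Action GY Y)
    (hGY : AutSch.Represents Y GY aY)
    (H : Over (Spec (CommRingCat.of k))) [GrpObj H] (e : H ⟶ GY) [IsMonHom e] (he : IsClosedImmersion e.left)
    (b : AlgGrp.Action H X) (hb : (H ◁ f) ≫ (e ▷ Y) ≫ aY.act = b.act ≫ f)
    (ρ : H ⟶ GX) [IsMonHom ρ] (hρ : (ρ ▷ X) ≫ aX.act = b.act) :
    IsClosedImmersion ρ.left := by
  haveI : IsProper X.hom := (ProjBundleLib.isProper_of_isHProjective hX).2
  haveI : IsProper Y.hom := (ProjBundleLib.isProper_of_isHProjective hY).2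
  haveI : IsProper f.left := by
    haveI : IsProper (f.left ≫ Y.hom) := by rw [Over.w f]; infer_instance
    exact IsProper.of_comp f.left Y.hom
  have hfO : ∀ V : Y.left.Opens, IsIso (f.left.app V) := AutDescLib.isIso_app_of_birational hYn f.left U hU hf
  obtain ⟨Z, incl, hincl, hZ⟩ := AutDescLib.exists_locus f hfO aX
  haveI : Mono incl := Over.mono_of_mono_left _
  obtain ⟨ψ, hψa, hψ⟩ := (hZ Z incl).1 ⟨𝟙 Z, Category.id_comp incl⟩
  obtain ⟨q, hq, -⟩ := (AutSch.represents_iff _ _).1 hGY Z ψ hψa
  have hψ1 : AutSch.famOf aX incl ≫ f = (f ▷ Z) ≫ ψ := by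
    simpa using congrArg (· ≫ CartesianMonoidalCategory.fst Y Z) hψ
  -- the family of `ρ` lifts the family of `e`
  have hρe : AutSch.famOf aX ρ ≫ f = (f ▷ H) ≫ AutSch.famOf aY e := by
    have h1 : AutSch.famOf aX ρ = CartesianMonoidalCategory.lift (CartesianMonoidalCategory.snd X H)
        (CartesianMonoidalCategory.fst X H) ≫ b.act := by
      rw [AutSch.famOf, ← hρ, CartesianMonoidalCategory.lift_whiskerRight_assoc]
    rw [h1, Category.assoc, ← hb, CartesianMonoidalCategory.lift_whiskerLeft_assoc,
      CartesianMonoidalCategory.lift_whiskerRight_assoc, AutSch.famOf, CartesianMonoidalCategory.comp_lift_assoc]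
    simp
  obtain ⟨z, hz⟩ := (hZ H ρ).2 ⟨_, AutDescLib.isAutFamily_famOf aY e, by
    apply CartesianMonoidalCategory.hom_ext
    · simpa using hρe
    · simp⟩
  have hpull : ∀ {T : Over (Spec (CommRingCat.of k))} (t : T ⟶ Z),
      AutSch.famOf aX (t ≫ incl) ≫ f = (f ▷ T) ≫ AutSch.famOf aY (t ≫ q) := fun {T} t => by
    rw [AutSch.famOf_comp, AutSch.famOf_comp, hq, AutSch.pullFam, AutSch.pullFam, Category.assoc, hψ1,
      whisker_exchange_assoc]
  have hzq : z ≫ q = e := by
    obtain ⟨w, -, hw⟩ := (AutSch.represents_iff _ _).1 hGY H _ (AutDescLib.isAutFamily_famOf aY e)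
    refine (hw _ ?_).trans (hw e rfl).symm
    refine AutDescLib.epi_whiskerRight f hfO ?_
    rw [← hpull, hz, hρe]
  let P := Limits.pullback q e
  have hPcl : IsClosedImmersion (Limits.pullback.fst q e).left :=
    MorphismProperty.of_isPullback (P := @IsClosedImmersion)
      ((IsPullback.of_hasPullback q e).map (Over.forget _)).flip he
  let m : H ⟶ P := Limits.pullback.lift z (𝟙 H) (by rw [hzq, Category.id_comp])
  haveI : IsIso m := by
    refine ⟨Limits.pullback.snd q e, Limits.pullback.lift_snd _ _ _, Limits.pullback.hom_ext ?_ ?_⟩
    · rw [Category.assoc, Limits.pullback.lift_fst, Category.id_comp, ← cancel_mono incl, Category.assoc, hz]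
      obtain ⟨w, -, hw⟩ := (AutSch.represents_iff _ _).1 hGX P _
        (AutDescLib.isAutFamily_famOf aX (Limits.pullback.fst q e ≫ incl))
      refine (hw _ ?_).trans (hw _ rfl).symm
      refine (AutDescLib.fam_ext f U hU hf _ _ (AutDescLib.isAutFamily_famOf aX _) ?_).symm
      rw [hpull, Limits.pullback.condition, AutSch.famOf_comp aX (Limits.pullback.snd q e) ρ, AutSch.famOf_comp aY,
        AutSch.pullFam, AutSch.pullFam, Category.assoc, hρe, whisker_exchange_assoc]
    · rw [Category.assoc, Limits.pullback.lift_snd, Category.id_comp, Category.comp_id]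
  haveI : IsIso m.left := ((Over.forget _).mapIso (asIso m)).isIso_hom
  have hfac : ρ = m ≫ Limits.pullback.fst q e ≫ incl := by
    rw [Limits.pullback.lift_fst_assoc, hz]
  rw [hfac, Over.comp_left, Over.comp_left]
  infer_instance

end Groth.Agent.S17832
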