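import Groth.Statements.S17833
import Groth.Agent.MonoFibre.KernelFibre
import Groth.Agent.FpqcDesc.Stalk
import Groth.Agent.MonoFibre.RigidityProper
import Groth.Agent.GrpQuotLib.Kernel
import Groth.Agent.ASp.PropDescend
-- import your own Groth.Agent.* helpers here

set_option autoImplicit false
universe u
open CategoryTheory MonoidalCategory CartesianMonoidalCategory MonObj GrpObj AlgebraicGeometry
open AlgGrp

namespace Groth.Agent.S17833

/-- Over an algebraically closed field k, let G be a connected smooth k-group scheme of finite type (in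
the terminology of the notes, a smooth connected algebraic group), and H an affine normal subgroup
scheme of G such that the quotient G/H is an abelian variety: here j : H → G is the kernel of a flat
surjective homomorphism q : G → Q of k-group schemes with Q proper over k, and H is affine. Then an
automorphism u of the algebraic group G which fixes H pointwise (j ∘ u = j) and induces the identity
of Q (q ∘ u = q) is the identity. Equivalently, the map from the group of automorphisms of G fixing
H pointwise to the automorphism group of G/H is injective. -/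
theorem result (k : Type u) [Field k] [IsAlgClosed k]
    (G H Q : Over (Spec (CommRingCat.of k))) [GrpObj G] [GrpObj H] [GrpObj Q]
    [Smooth G.hom] [QuasiCompact G.hom] [ConnectedSpace ↥G.left]
    [IsAffine H.left] [IsProper Q.hom]
    (j : H ⟶ G) [IsMonHom j] (q : G ⟶ Q) [IsMonHom q] [Flat q.left] [Surjective q.left]
    (hker : AlgGrp.IsKernel j q)
    (u : G ≅ G) [IsMonHom u.hom] (hH : j ≫ u.hom = j) (hQ : u.hom ≫ q = q) :
    u.hom = 𝟙 G := by
  haveI := Groth.Agent.GrpSchLib.isSeparated_hom (G := Q)
  haveI := Groth.Agent.MonoFibre.KernelFibre.quasiCompact_left q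
  haveI : LocallyOfFiniteType Q.hom := inferInstance
  haveI := Groth.Agent.MonoFibre.KernelFibre.locallyOfFinitePresentation_left q
  haveI := Groth.Agent.SchDesc.IsFpqc.of_locallyOfFinitePresentation q.left
  haveI : Mono η[Q] := SplitMono.mono ⟨toUnit Q, toUnit_unique _ _⟩
  haveI : Mono j := ⟨fun a b hab => hker.hom_ext hab (toUnit_unique _ _)⟩
  let e : G ⟶ G := u.hom * (𝟙 G)⁻¹
  have he : e ≫ q = toUnit G ≫ η[Q] := by
    rw [MonObj.mul_comp, GrpObj.inv_comp, hQ, Category.id_comp, mul_inv_cancel, Hom.one_def]
  let e' : G ⟶ H := hker.lift e (toUnit G) he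
  have he' : e' ≫ j = e := hker.lift_fst _ _ _
  have sq := Groth.Agent.MonoFibre.KernelFibre.isPullback_torsor q j hker
  have inv : (fst G H * (snd G H ≫ j)) ≫ e' = fst G H ≫ e' := by
    rw [← cancel_mono j, Category.assoc, Category.assoc, he']
    simp only [e, MonObj.comp_mul, GrpObj.comp_inv, Category.comp_id, MonObj.mul_comp, Category.assoc, hH, _root_.mul_inv_rev]
    group
  let g : Q.left ⟶ H.left := EffectiveEpi.desc q.left e'.left (fun a b hab => by
    rw [← sq.lift_fst a b hab, Category.assoc, ← Over.comp_left, inv, Over.comp_left, ← Category.assoc, sq.lift_snd])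
  have hg : q.left ≫ g = e'.left := EffectiveEpi.fac _ _ _
  let g' : Q ⟶ H := Over.homMk g (by rw [← cancel_epi q.left, ← Category.assoc, hg, Over.w, Over.w])
  have hg' : q ≫ g' = e' := Over.OverMorphism.ext hg
  haveI : IsReduced G.left := Groth.Agent.ASp.isReduced_of_smooth G.hom
  haveI : IsReduced Q.left := Groth.Agent.FlatDescStalk.isReduced_of_flat_surjective q.left
  haveI : ConnectedSpace Q.left :=
    connectedSpace_iff_univ.mpr (by
      rw [← q.left.surjective.range_eq]
      exact isConnected_range q.left.continuous)
  haveI := Groth.Agent.GrpSchLib.irreducibleSpace_of_connectedSpace (G := Q)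
  haveI : IsIntegral Q.left := isIntegral_of_irreducibleSpace_of_isReduced _
  obtain ⟨z, hz⟩ := (Groth.Agent.MonoFibre.Rigidity.isAffz_of_bijective
    (Groth.Agent.MonoFibre.Rigidity.bijective_of_ratPt η[Q])).exists_lift g'
  have hz' : z = η[Q] ≫ g' := by
    rw [← hz, ← Category.assoc, toUnit_unique (η[Q] ≫ toUnit Q) (𝟙 _), Category.id_comp]
  have hone : e = 1 := by
    rw [← he', ← hg', ← hz, hz', ← IsMonHom.one_hom q, Category.assoc η[G] q g', hg']
    simp only [Category.assoc, he']
    simp only [e, MonObj.comp_mul, GrpObj.comp_inv, Category.comp_id, IsMonHom.one_hom u.hom, mul_inv_cancel,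
      MonObj.comp_one]
  exact mul_inv_eq_one.mp hone

end Groth.Agent.S17833
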