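import Groth.Statements.S17837
import Groth.Agent.AutDescLib.Locus
import Groth.Agent.ProjBundleLib.HProj

set_option backward.isDefEq.respectTransparency false
set_option linter.style.haveILetI false

set_option autoImplicit false
universe u
open CategoryTheory MonoidalCategory CartesianMonoidalCategory MonObj GrpObj AlgebraicGeometry
open AutSch

namespace Groth.Agent.S17837

/-- Over an algebraically closed field k, let f : X → Y be a fibration: X and Y are projective varieties
(integral k-schemes with closed immersions into projective spaces over k) and f is a k-morphism with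
O_Y → f_*O_X an isomorphism (bijective on sections over every open of Y). Let (GX, aX) be the
automorphism group scheme of X with its universal action, locally of finite type, and let the
k-group scheme Gf with its action af on X represent the automorphisms of f: the families φ of
automorphisms of X parametrised by T whose associated T-automorphism of X × T descends along f × T
to the T-automorphism associated with some family of automorphisms of Y. Then the homomorphism ρ :
Gf → GX through which af is obtained from the universal action (the first projection from the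
automorphism group scheme of f) is a closed immersion. -/
theorem result (k : Type u) [Field k] [IsAlgClosed k]
    (X Y : Over (Spec (CommRingCat.of k))) [IsIntegral X.left] [IsIntegral Y.left]
    (hX : RelProj.IsHProjective X.hom) (hY : RelProj.IsHProjective Y.hom)
    (f : X ⟶ Y) (hf : ∀ U : Y.left.Opens, IsIso (f.left.app U))
    (GX : Over (Spec (CommRingCat.of k))) [GrpObj GX] [LocallyOfFiniteType GX.hom] (aX : AlgGrp.Action GX X)
    (hGX : AutSch.Represents X GX aX)
    (Gf : Over (Spec (CommRingCat.of k))) [GrpObj Gf] (af : AlgGrp.Action Gf X)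
    (hGf : AutSch.RepresentsSub X
      (fun T φ => ∃ ψ : Y ⊗ T ⟶ Y, AutSch.IsAutFamily ψ ∧ AutSch.endOf φ ≫ (f ▷ T) = (f ▷ T) ≫ AutSch.endOf ψ) Gf af)
    (ρ : Gf ⟶ GX) [IsMonHom ρ] (hρ : (ρ ▷ X) ≫ aX.act = af.act) :
    IsClosedImmersion ρ.left := by
  haveI : IsProper X.hom := (ProjBundleLib.isProper_of_isHProjective hX).2
  haveI : IsProper Y.hom := (ProjBundleLib.isProper_of_isHProjective hY).2
  haveI : IsProper f.left := by
    haveI : IsProper (f.left ≫ Y.hom) := by rw [Over.w f]; infer_instance
    exact IsProper.of_comp f.left Y.hom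
  obtain ⟨Z, incl, hincl, hZ⟩ := AutDescLib.exists_locus f hf aX
  have hfam : ∀ {T : Over (Spec (CommRingCat.of k))} (h : T ⟶ Gf),
      AutSch.famOf af h = AutSch.famOf aX (h ≫ ρ) := fun {T} h => by
    rw [AutSch.famOf, AutSch.famOf, ← hρ, CartesianMonoidalCategory.lift_whiskerRight_assoc, Category.assoc]
  have hmono : Mono ρ := ⟨fun {T} a b hab => by
    obtain ⟨g, -, hg⟩ := hGf.2 T _ (AutDescLib.isAutFamily_famOf af a) (hGf.1 T a)
    rw [hg a rfl, hg b (show AutSch.famOf af b = AutSch.famOf af a by rw [hfam, hfam, hab])]⟩
  haveI : Mono incl := Over.mono_of_mono_left _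
  obtain ⟨z, hz⟩ := (hZ Gf ρ).2 (by
    have := hGf.1 Gf (𝟙 Gf)
    rwa [hfam, Category.id_comp] at this)
  have hZd := (hZ Z incl).1 ⟨𝟙 Z, Category.id_comp incl⟩
  obtain ⟨g, hg, -⟩ := hGf.2 Z _ (AutDescLib.isAutFamily_famOf aX incl) hZd
  rw [hfam] at hg
  obtain ⟨u, -, hu⟩ := (AutSch.represents_iff _ _).1 hGX Z _ (AutDescLib.isAutFamily_famOf aX incl)
  have hgρ : g ≫ ρ = incl := (hu _ hg).trans (hu incl rfl).symm
  haveI : IsIso z := ⟨g, by rw [← cancel_mono ρ, Category.assoc, hgρ, hz, Category.id_comp],
    by rw [← cancel_mono incl, Category.assoc, hz, hgρ, Category.id_comp]⟩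
  haveI : IsIso z.left := ((Over.forget _).mapIso (asIso z)).isIso_hom
  rw [← hz, Over.comp_left]
  infer_instance

end Groth.Agent.S17837
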