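import Groth.Statements.S17839
import Groth.Agent.CycLib.DivPull
import Groth.Agent.S9684
import Groth.Agent.S5090
import Groth.Agent.S0558
import Groth.Agent.HironakaLib.Basic
import Groth.Agent.RatliffLib.Formal
import Groth.Agent.GeomRk.Normal

set_option autoImplicit false
universe u
open CategoryTheory AlgebraicGeometry
open Cyc

namespace Groth.Agent.S17839

open CategoryTheory CategoryTheory.Limits AlgebraicGeometry

open Groth.Agent Groth.Agent.CycLib

/-- Let S be a locally Noetherian scheme all of whose local rings are regular and universally catenary,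
and δS : S → ℤ the function with δS(s) = −dim O_{S,s}. Let f : X ⟶ S be locally of finite type and δ
: X → ℤ the induced function, δ(x) = δS(f x) + trdeg_{κ(f x)} κ(x) — the S-dimension: for X
irreducible with generic point ξ, δ(ξ) is the transcendence degree of the function field of X over
κ(f ξ) minus dim O_{S, f ξ}. Then δ is a dimension function on X: it drops strictly along every
nontrivial specialization and by exactly one along immediate ones; equivalently, for irreducible
closed subsets V ⊆ W of X with generic points v and w, codim(V, W) = δ(w) − δ(v). (The published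
statement fixes S Noetherian, excellent, regular and separated and X separated of finite type over
S; its proof uses only the hypotheses listed.) -/
theorem result {X S : Scheme.{u}} (f : X ⟶ S)
    [LocallyOfFiniteType f] [IsLocallyNoetherian S]
    (hreg : ∀ s : S, IsRegularLocalRing (S.presheaf.stalk s))
    (huc : ∀ s : S, CAlg.IsUniversallyCatenary (S.presheaf.stalk s))
    (δS : S → ℤ) (hδS : ∀ s : S, ringKrullDim (S.presheaf.stalk s) = ((-δS s).toNat : WithBot ℕ∞) ∧ δS s ≤ 0)
    (δ : X → ℤ) (hδ : Cyc.DeltaCompat f δ δS) :
    Cyc.IsDimFun X δ := by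
  refine S9684.result f δS ⟨inferInstance, huc, ?_⟩ δ hδ
  intro x y hxy hne
  obtain ⟨Q, rfl⟩ := exists_fromSpecStalk hxy
  haveI := hreg y
  haveI : IsDomain (S.presheaf.stalk y) := RegLocal.isDomain _
  have hη := fromSpecStalk_specializes Q
  letI := (S.presheaf.stalkSpecializes hη).hom.toAlgebra
  haveI := S5090.isLocalization_stalkSpecializes hη
  haveI : IsLocalization.AtPrime (S.presheaf.stalk (S.fromSpecStalk y Q)) Q.asIdeal := by
    have e : Q.asIdeal = (IsLocalRing.maximalIdeal _).comap (S.presheaf.stalkSpecializes hη).hom := by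
      rw [← ker_specMap_eq Q hη]
      ext t
      exact IsLocalRing.residue_eq_zero_iff _
    have h' : Q.asIdeal.primeCompl =
        ((IsLocalRing.maximalIdeal _).comap (S.presheaf.stalkSpecializes hη).hom).primeCompl := by
      ext t
      simp only [Ideal.primeCompl, Submonoid.mem_mk, Subsemigroup.mem_mk, Set.mem_compl_iff, SetLike.mem_coe, ← e]
    show IsLocalization Q.asIdeal.primeCompl _
    rw [h']
    infer_instance
  obtain ⟨hx1, hx2⟩ := hδS (S.fromSpecStalk y Q)
  obtain ⟨hy1, hy2⟩ := hδS y
  rw [IsLocalization.AtPrime.ringKrullDim_eq_height Q.asIdeal (S.presheaf.stalk (S.fromSpecStalk y Q))] at hx1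
  rw [← IsLocalRing.maximalIdeal_height_eq_ringKrullDim] at hy1
  have hQx : (Q.asIdeal.height : ℕ∞) = ((-δS (S.fromSpecStalk y Q)).toNat : ℕ∞) := by exact_mod_cast hx1
  have hQy : ((IsLocalRing.maximalIdeal (S.presheaf.stalk y)).height : ℕ∞) = ((-δS y).toNat : ℕ∞) := by exact_mod_cast hy1
  have hQm : Q.asIdeal < IsLocalRing.maximalIdeal (S.presheaf.stalk y) :=
    lt_of_le_of_ne (IsLocalRing.le_maximalIdeal Q.2.ne_top) fun e => hne (by
      rw [show Q = IsLocalRing.closedPoint _ from PrimeSpectrum.ext e, Scheme.fromSpecStalk_closedPoint])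
  refine ⟨?_, fun himm => ?_⟩
  · have h1 := Ideal.height_strict_mono_of_isPrime_of_isPrime hQm
    rw [hQx, hQy, Nat.cast_lt] at h1
    omega
  · have hcov : Q ⋖ IsLocalRing.closedPoint (S.presheaf.stalk y) := by
      refine ⟨hQm, fun z hz1 hz2 => ?_⟩
      rcases himm (S.fromSpecStalk y z) ((fromSpecStalk_specializes_iff Q z).2 hz1.le) (fromSpecStalk_specializes z)
        with e | e
      · exact hz1.ne ((S.fromSpecStalk y).isEmbedding.injective e).symm
      · exact hz2.ne ((S.fromSpecStalk y).isEmbedding.injective (e.trans Scheme.fromSpecStalk_closedPoint.symm))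
    have hcat := RatliffLib.isCatenary_of_isUniversallyCatenary (huc y)
    have h1 := HironakaLib.height_succ_of_covBy hcat GeomRk.isEquidim_of_isDomain hcov
    rw [show (IsLocalRing.closedPoint (S.presheaf.stalk y)).asIdeal = IsLocalRing.maximalIdeal _ from rfl, hQx, hQy] at h1
    have h2 : (-δS y).toNat = (-δS (S.fromSpecStalk y Q)).toNat + 1 := by exact_mod_cast h1
    omega

end Groth.Agent.S17839
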