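import Groth.Statements.S17840
import Groth.Agent.CycLib.FlatShift
import Groth.Agent.S10831

set_option autoImplicit false
universe u
open CategoryTheory AlgebraicGeometry
open Cyc

namespace Groth.Agent.S17840

open CategoryTheory CategoryTheory.Limits AlgebraicGeometry

open Groth.Agent Groth.Agent.CycLib

/-- Let (Y, δY) be a locally Noetherian scheme with universally catenary local rings and a dimension
function, f : X ⟶ Y a flat morphism locally of finite type between irreducible schemes with generic
points ξ and η, and δX the induced function on X, δX(x) = δY(f x) + trdeg_{κ(f x)} κ(x). Put d =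
δX(ξ) − δY(η). Then d ≥ 0, every irreducible component of every fibre of f has dimension d, and for
every point x of X the fibre of f over f(x) has dimension d. (The published statement is for schemes
separated of finite type over a Noetherian excellent regular separated base S with δ the S-dimension
— transcendence degree of the residue field minus the dimension of the local ring of S at the image
point — and for the fibre over every point of Y; the fibre over a point outside f(X) is empty, so
the dimension statement is made here at points of the image; this row allows any dimension function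
δY on a locally Noetherian Y with universally catenary local rings, with δX induced from it.) -/
theorem result {X Y : Scheme.{u}} (f : X ⟶ Y) [Flat f] [LocallyOfFiniteType f]
    [IrreducibleSpace X] [IrreducibleSpace Y] (δX : X → ℤ) (δY : Y → ℤ) (hY : Cyc.IsSetup Y δY)
    (hδ : Cyc.DeltaCompat f δX δY) :
    0 ≤ δX (genericPoint X) - δY (genericPoint Y) ∧
      Cyc.HasRelDim f (δX (genericPoint X) - δY (genericPoint Y)).toNat ∧
      ∀ x : X, topologicalKrullDim ↥(f.fiber (f x)) =
        ((δX (genericPoint X) - δY (genericPoint Y)).toNat : WithBot ℕ∞) := by
  haveI := hY.1
  obtain ⟨hd, hs⟩ := isShift_of_irreducible f hY hδ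
  have hr := hasRelDim_of_isShift hs hδ
  refine ⟨hd, hr, fun x => ?_⟩
  rw [S10831.result ↥(f.fiber (f x))]
  haveI : Nonempty ↥(f.fiber (f x)) := by
    obtain ⟨z, -⟩ : x ∈ Set.range (f.fiberι (f x)) := by
      rw [Scheme.Hom.range_fiberι]
      rfl
    exact ⟨z⟩
  obtain ⟨T, hT⟩ : (irreducibleComponents ↥(f.fiber (f x))).Nonempty :=
    ⟨_, irreducibleComponent_mem_irreducibleComponents (Classical.arbitrary _)⟩
  exact le_antisymm (iSup₂_le fun T hT => (hr _ T hT).le) (le_iSup₂_of_le T hT (hr _ T hT).ge)

end Groth.Agent.S17840
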