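import Mathlib
import Groth.Statements.S17843

set_option autoImplicit false
universe u v
open CAlg

namespace Groth.Agent.S17843

/-- In the case of an affine scheme of finite presentation, let B be a finitely presented R-algebra, r ∈
R, and x : B → R[1/r][T] an R-algebra homomorphism whose value at T = 0, a homomorphism B → R[1/r],
is induced by a homomorphism x̃₀ : B → R. Then for every large enough n, the homomorphism x(rⁿT) : B
→ R[1/r][T] is induced by a homomorphism x̃ : B → R[T] whose value at T = 0 is x̃₀. The published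
statement is for algebraic spaces locally of finite presentation over R; this row takes an affine
scheme of finite presentation. -/
theorem result
    (R : Type u) (B : Type v) [CommRing R] [CommRing B] [Algebra R B]
    [Algebra.FinitePresentation R B] (r : R)
    (x : B →ₐ[R] Polynomial (Localization.Away r))
    (x₀ : B →ₐ[R] R)
    (hx₀ : (algebraMap R (Localization.Away r)).comp x₀.toRingHom =
      (Polynomial.evalRingHom 0).comp x.toRingHom) :
    ∃ N : ℕ, ∀ n : ℕ, N ≤ n →
      ∃ y : B →ₐ[R] Polynomial R,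
        (Polynomial.evalRingHom 0).comp y.toRingHom = x₀.toRingHom ∧
        (Polynomial.mapRingHom (algebraMap R (Localization.Away r))).comp y.toRingHom =
          (Polynomial.aeval (Polynomial.C (algebraMap R (Localization.Away r) (r ^ n)) * Polynomial.X) :
              Polynomial (Localization.Away r) →ₐ[Localization.Away r] Polynomial (Localization.Away r)).toRingHom.comp
            x.toRingHom := by
  classical
  let L := Localization.Away r
  let j : R →+* L := algebraMap R L
  let σ : ℕ → Polynomial R →ₐ[R] Polynomial R := fun d => Polynomial.aeval (Polynomial.C (r ^ d) * Polynomial.X)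
  let σ' : ℕ → Polynomial L →ₐ[L] Polynomial L := fun d => Polynomial.aeval (Polynomial.C (j (r ^ d)) * Polynomial.X)
  have hmap : ∀ d q, (σ d q).map j = σ' d (q.map j) := by
    intro d q
    induction q using Polynomial.induction_on' with
    | add p q hp hq => simp only [map_add, Polynomial.map_add, hp, hq]
    | monomial k a => simp [σ, σ', Polynomial.map_monomial, Polynomial.aeval_monomial, Polynomial.map_pow]
  have hσσ : ∀ d e p, σ' d (σ' e p) = σ' (e + d) p := by
    intro d e p
    have : (σ' d).comp (σ' e) = σ' (e + d) := Polynomial.algHom_ext (by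
      simp only [σ', AlgHom.comp_apply, Polynomial.aeval_X, map_mul, Polynomial.aeval_C, Polynomial.algebraMap_eq,
        map_pow, Polynomial.algebraMap_apply, Algebra.algebraMap_self, RingHom.id_apply]
      ring)
    exact AlgHom.congr_fun this p
  have hσ0 : ∀ d q, (σ d q).coeff 0 = q.coeff 0 := by
    intro d q
    show (q.comp (Polynomial.C (r ^ d) * Polynomial.X)).coeff 0 = q.coeff 0
    rw [Polynomial.comp_C_mul_X_coeff, pow_zero, mul_one]
  have hx0 : ∀ b, (x b).coeff 0 = j (x₀ b) := fun b => by
    rw [Polynomial.coeff_zero_eq_eval_zero]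
    exact (RingHom.congr_fun hx₀ b).symm
  -- lift one polynomial
  have lift1 : ∀ b, ∃ N : ℕ, ∀ n, N ≤ n → ∃ q : Polynomial R, q.coeff 0 = x₀ b ∧ q.map j = σ' n (x b) := by
    intro b
    obtain ⟨⟨_, N, rfl⟩, hb⟩ := IsLocalization.integerNormalization_map_to_map (Submonoid.powers r) (x b).divX
    refine ⟨N, fun n hn => ?_⟩
    obtain ⟨d, rfl⟩ := Nat.exists_eq_add_of_le hn
    set q' := IsLocalization.integerNormalization (Submonoid.powers r) (x b).divX
    refine ⟨σ d (Polynomial.X * σ N q' + Polynomial.C (x₀ b)), by simp [hσ0], ?_⟩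
    rw [hmap, Polynomial.map_add, Polynomial.map_mul, hmap, Polynomial.map_X, Polynomial.map_C]
    conv_rhs => rw [← hσσ d N, ← Polynomial.X_mul_divX_add (x b), map_add, map_mul, hx0]
    congr 1
    simp only at hb
    rw [hb]
    simp only [Algebra.smul_def, Polynomial.algebraMap_apply, map_mul, σ', Polynomial.aeval_C, Polynomial.aeval_X,
      Polynomial.algebraMap_eq, map_pow]
    simp only [j, map_pow, Algebra.algebraMap_self, RingHom.id_apply, Polynomial.C_pow]
    ring
  obtain ⟨m, ψ, hψ, hker⟩ := Algebra.FinitePresentation.out (R := R) (A := B)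
  choose N₁ hN₁ using lift1
  let N := Finset.univ.sup fun i => N₁ (ψ (MvPolynomial.X i))
  choose q hq0 hq using fun i => hN₁ (ψ (MvPolynomial.X i)) N (Finset.le_sup (f := fun i => N₁ (ψ (MvPolynomial.X i))) (Finset.mem_univ i))
  let φ : MvPolynomial (Fin m) R →ₐ[R] Polynomial R := MvPolynomial.aeval q
  have hφ : ∀ f, (φ f).map j = σ' N (x (ψ f)) := by
    intro f
    induction f using MvPolynomial.induction_on with
    | C a =>
      rw [← MvPolynomial.algebraMap_eq, AlgHom.commutes, AlgHom.commutes, AlgHom.commutes,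
        IsScalarTower.algebraMap_apply R L (Polynomial L), AlgHom.commutes, Polynomial.algebraMap_apply,
        Polynomial.map_C]
      simp [j, L, Polynomial.algebraMap_apply]
    | add f g hf hg => simp only [map_add, Polynomial.map_add, hf, hg]
    | mul_X f i hf =>
      rw [map_mul, map_mul, map_mul, map_mul, Polynomial.map_mul, hf]
      simp only [φ, MvPolynomial.aeval_X, hq]
  have hφ0 : ∀ f, (φ f).coeff 0 = x₀ (ψ f) := by
    intro f
    induction f using MvPolynomial.induction_on with
    | C a => simp [φ, Polynomial.algebraMap_apply, ← MvPolynomial.algebraMap_eq]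
    | add f g hf hg => simp [map_add, hf, hg]
    | mul_X f i hf => simp [map_mul, Polynomial.mul_coeff_zero, hf, φ, hq0]
  obtain ⟨S, hS⟩ := hker
  have kill : ∀ g : Polynomial R, g.coeff 0 = 0 → g.map j = 0 → ∃ M, ∀ d, M ≤ d → σ d g = 0 := by
    intro g hg0 hg
    have hc : ∀ k, ∃ M : ℕ, r ^ M * g.coeff k = 0 := fun k => by
      have h : j (g.coeff k) = 0 := by rw [← Polynomial.coeff_map, hg, Polynomial.coeff_zero]
      obtain ⟨⟨_, M, rfl⟩, hM⟩ := (IsLocalization.map_eq_zero_iff (Submonoid.powers r) L _).1 h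
      exact ⟨M, hM⟩
    choose M hM using hc
    refine ⟨g.support.sup M, fun d hd => ?_⟩
    rw [show σ d g = g.comp (Polynomial.C (r ^ d) * Polynomial.X) from rfl]
    ext k
    rw [Polynomial.comp_C_mul_X_coeff, Polynomial.coeff_zero]
    rcases eq_or_ne k 0 with rfl | hk
    · rw [hg0, zero_mul]
    by_cases hks : k ∈ g.support
    · have : M k ≤ d * k := ((Finset.le_sup hks).trans hd).trans (Nat.le_mul_of_pos_right _ (Nat.pos_of_ne_zero hk))
      obtain ⟨e, he⟩ := Nat.exists_eq_add_of_le this
      rw [← pow_mul, he, pow_add, ← mul_assoc, mul_comm (g.coeff k), hM, zero_mul]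
    · rw [Polynomial.notMem_support_iff.1 hks, zero_mul]
  have hkill : ∀ f ∈ S, ∃ M, ∀ d, M ≤ d → σ d (φ f) = 0 := by
    intro f hf
    have h0 : ψ f = 0 := RingHom.mem_ker.1 (hS ▸ Ideal.subset_span hf)
    exact kill _ (by rw [hφ0, h0, map_zero]) (by rw [hφ, h0, map_zero, map_zero])
  choose! M hM using hkill
  refine ⟨N + S.sup M, fun n hn => ?_⟩
  obtain ⟨d, rfl⟩ := Nat.exists_eq_add_of_le (le_trans le_self_add hn : N ≤ n)
  have hle : RingHom.ker ψ ≤ RingHom.ker ((σ d).comp φ) := by
    change RingHom.ker ψ.toRingHom ≤ _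
    rw [← hS, Ideal.span, Submodule.span_le]
    exact fun f hf => RingHom.mem_ker.2 (hM f hf d ((Finset.le_sup hf).trans (by omega)))
  let e : (MvPolynomial (Fin m) R ⧸ RingHom.ker ψ) ≃ₐ[R] B := Ideal.quotientKerAlgEquivOfSurjective hψ
  let y : B →ₐ[R] Polynomial R := (Ideal.Quotient.liftₐ _ ((σ d).comp φ) fun a ha => hle ha).comp e.symm.toAlgHom
  have hy : ∀ f, y (ψ f) = σ d (φ f) := fun f => by
    have : e.symm (ψ f) = Ideal.Quotient.mk _ f := e.symm_apply_eq.2 rfl
    simp only [y, AlgHom.comp_apply, AlgEquiv.coe_toAlgHom, this]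
    rfl
  refine ⟨y, RingHom.ext fun b => ?_, RingHom.ext fun b => ?_⟩
  · obtain ⟨f, rfl⟩ := hψ b
    simp [hy, ← Polynomial.coeff_zero_eq_eval_zero, hσ0, hφ0]
  · obtain ⟨f, rfl⟩ := hψ b
    show (y (ψ f)).map j = σ' (N + d) (x (ψ f))
    rw [hy, hmap, hφ, hσσ]

end Groth.Agent.S17843
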