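import Groth.Statements.S17855
import Groth.Agent.PatchLib.Points

set_option autoImplicit false
open CategoryTheory CategoryTheory.Limits MonoidalCategory CartesianMonoidalCategory MonObj GrpObj AlgebraicGeometry
universe u
open NonAbH1

namespace Groth.Agent.S17855

open Polynomial Groth.Agent.PatchLib
set_option backward.isDefEq.respectTransparency false
set_option maxHeartbeats 1600000


namespace Groth.Agent.S17855.Aux

variable (R : Type u) [CommRing R]

/-- Evaluation at zero. -/
noncomputable abbrev ev (C : Type u) [CommRing C] [Algebra R C] : C[X] →ₐ[R] C :=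
  (Polynomial.aeval (R := C) (0 : C)).restrictScalars R

theorem ev_apply (C : Type u) [CommRing C] [Algebra R C] (P : C[X]) : ev R C P = P.eval 0 := by
  simp [ev, Polynomial.coe_aeval_eq_eval]

/-- The substitution `T ↦ c T`. -/
noncomputable abbrev scl {C : Type u} [CommRing C] [Algebra R C] (c : C) : C[X] →ₐ[R] C[X] :=
  (Polynomial.aeval (R := C) (Polynomial.C c * Polynomial.X : C[X])).restrictScalars R

theorem scl_apply {C : Type u} [CommRing C] [Algebra R C] (c : C) (P : C[X]) :
    scl R c P = P.comp (Polynomial.C c * Polynomial.X) := rfl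

theorem away_of_mul (S T : Type u) [CommRing S] [CommRing T] [Algebra R S] [Algebra R T] [Algebra S T]
    [IsScalarTower R S T] (x y : R) [IsLocalization.Away x S] [IsLocalization.Away (x * y) T] :
    IsLocalization.Away (algebraMap R S y) T := by
  let e := IsLocalization.algEquiv (Submonoid.powers (x * y)) (Localization.Away (algebraMap R S y)) T
  have he : e.toRingEquiv.toRingHom.comp (algebraMap S (Localization.Away (algebraMap R S y))) =
      algebraMap S T := IsLocalization.ringHom_ext (Submonoid.powers x) (RingHom.ext fun r => by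
    show e (algebraMap S _ (algebraMap R S r)) = algebraMap S T (algebraMap R S r)
    rw [← IsScalarTower.algebraMap_apply R S, ← IsScalarTower.algebraMap_apply R S]
    exact e.commutes r)
  let e' : Localization.Away (algebraMap R S y) ≃ₐ[S] T :=
    AlgEquiv.ofRingEquiv (f := e.toRingEquiv) fun a => RingHom.congr_fun he a
  exact IsLocalization.isLocalization_of_algEquiv _ e'

end Groth.Agent.S17855.Aux

open Groth.Agent.S17855.Aux


/-- For a group scheme locally of finite presentation, let R be a ring, G an R-group scheme locally of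
finite presentation over S = Spec R, and r, r' ∈ R generating the unit ideal; let A = R[1/r], A' =
R[1/r'], B = R[1/rr']. For an R-algebra C write G₀(C) for the set of S-morphisms Spec C[T] → G whose
restriction along T ↦ 0 (the S-morphism Spec C → Spec C[T]) is the unit. Then G₀(B) = G₀(A)·G₀(A'):
every g ∈ G₀(B) is the product, in the group of Spec B[T]-points of G, of the pullback of some g₁ ∈
G₀(A) and the pullback of some g₂ ∈ G₀(A') along Spec B[T] → Spec A[T], Spec A'[T]. The S-morphisms
induced by T ↦ 0 and by the localisation maps are taken as data determined by their underlying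
scheme maps. The published statement also allows more general group functors and graded algebras. -/
theorem result
    (R : Type u) [CommRing R]
    (G : Over (Spec (CommRingCat.of R))) [GrpObj G] [LocallyOfFinitePresentation G.hom]
    (r r' : R) (hrr : Ideal.span ({r, r'} : Set R) = ⊤)
    (A A' B : Type u) [CommRing A] [CommRing A'] [CommRing B] [Algebra R A] [Algebra R A'] [Algebra R B]
    [IsLocalization.Away r A] [IsLocalization.Away r' A'] [IsLocalization.Away (r * r') B]
    [Algebra A B] [Algebra A' B] [IsScalarTower R A B] [IsScalarTower R A' B]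
    (eA : Over.mk (Spec.map (CommRingCat.ofHom (algebraMap R (A)))) ⟶ Over.mk (Spec.map (CommRingCat.ofHom (algebraMap R (Polynomial A)))))
    (heA : eA.left = Spec.map (CommRingCat.ofHom (Polynomial.evalRingHom (0 : A))))
    (eA' : Over.mk (Spec.map (CommRingCat.ofHom (algebraMap R (A')))) ⟶ Over.mk (Spec.map (CommRingCat.ofHom (algebraMap R (Polynomial A')))))
    (heA' : eA'.left = Spec.map (CommRingCat.ofHom (Polynomial.evalRingHom (0 : A'))))
    (eB : Over.mk (Spec.map (CommRingCat.ofHom (algebraMap R (B)))) ⟶ Over.mk (Spec.map (CommRingCat.ofHom (algebraMap R (Polynomial B)))))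
    (heB : eB.left = Spec.map (CommRingCat.ofHom (Polynomial.evalRingHom (0 : B))))
    (tA : Over.mk (Spec.map (CommRingCat.ofHom (algebraMap R (Polynomial B)))) ⟶ Over.mk (Spec.map (CommRingCat.ofHom (algebraMap R (Polynomial A)))))
    (htA : tA.left = Spec.map (CommRingCat.ofHom (Polynomial.mapRingHom (algebraMap A B))))
    (tA' : Over.mk (Spec.map (CommRingCat.ofHom (algebraMap R (Polynomial B)))) ⟶ Over.mk (Spec.map (CommRingCat.ofHom (algebraMap R (Polynomial A')))))
    (htA' : tA'.left = Spec.map (CommRingCat.ofHom (Polynomial.mapRingHom (algebraMap A' B))))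
    (g : Over.mk (Spec.map (CommRingCat.ofHom (algebraMap R (Polynomial B)))) ⟶ G) (hg : eB ≫ g = 1) :
    ∃ (g₁ : Over.mk (Spec.map (CommRingCat.ofHom (algebraMap R (Polynomial A)))) ⟶ G) (g₂ : Over.mk (Spec.map (CommRingCat.ofHom (algebraMap R (Polynomial A')))) ⟶ G),
      eA ≫ g₁ = 1 ∧ eA' ≫ g₂ = 1 ∧ g = (tA ≫ g₁) * (tA' ≫ g₂) := by
  haveI hlA : IsLocalization.Away (algebraMap R A r') B := away_of_mul R A B r r'
  haveI hlA' : IsLocalization.Away (algebraMap R A' r) B :=
    haveI : IsLocalization.Away (r' * r) B := mul_comm r r' ▸ inferInstance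
    away_of_mul R A' B r' r
  let φ : A →ₐ[R] B := IsScalarTower.toAlgHom R A B
  let φ' : A' →ₐ[R] B := IsScalarTower.toAlgHom R A' B
  have hEA : eA = pm (ev R A) := Over.OverMorphism.ext (heA.trans (congrArg (fun f => Spec.map (CommRingCat.ofHom f))
    (RingHom.ext fun P => (ev_apply R A P).symm)))
  have hEA' : eA' = pm (ev R A') := Over.OverMorphism.ext (heA'.trans (congrArg (fun f => Spec.map (CommRingCat.ofHom f))
    (RingHom.ext fun P => (ev_apply R A' P).symm)))
  have hEB : pm (ev R B) ≫ g = 1 := by
    have : eB = pm (ev R B) := Over.OverMorphism.ext (heB.trans (congrArg (fun f => Spec.map (CommRingCat.ofHom f))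
      (RingHom.ext fun P => (ev_apply R B P).symm)))
    rwa [← this]
  have hTA : tA = pm (Polynomial.mapAlgHom φ) := Over.OverMorphism.ext htA
  have hTA' : tA' = pm (Polynomial.mapAlgHom φ') := Over.OverMorphism.ext htA'
  -- first step
  obtain ⟨N₁, y₁, hy₁0, hy₁⟩ := exists_lift (G := G) (A := A) (B := B) (algebraMap R A r')
    (ev R A) (ev_apply R A) (ev R B) (ev_apply R B) φ (fun _ => rfl) g 1
    (by rw [hEB, MonObj.comp_one])
  -- second step
  letI algPQ : Algebra A'[X] B[X] := (Polynomial.mapRingHom (algebraMap A' B)).toAlgebra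
  haveI : IsScalarTower R A'[X] B[X] := IsScalarTower.of_algebraMap_eq fun x => by
    show _ = (algebraMap R A'[X] x).map (algebraMap A' B)
    rw [IsScalarTower.algebraMap_apply R A' A'[X], Polynomial.algebraMap_eq, Polynomial.map_C,
      IsScalarTower.algebraMap_apply R B B[X], Polynomial.algebraMap_eq,
      IsScalarTower.algebraMap_apply R A' B]
  haveI : IsLocalization.Away (Polynomial.C (algebraMap R A' r)) B[X] := by
    have := Polynomial.isLocalization (Submonoid.powers (algebraMap R A' r)) B
    rwa [Submonoid.map_powers] at this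
  let ψ' : A'[X] →ₐ[R] B[X] := Polynomial.mapAlgHom φ'
  let inc : B[X] →ₐ[R] B[X][X] := IsScalarTower.toAlgHom R B[X] B[X][X]
  let σp : B[X] →ₐ[R] B[X][X] := (Polynomial.aeval (R := B)
    (Polynomial.C Polynomial.X + Polynomial.X * Polynomial.C Polynomial.X : B[X][X])).restrictScalars R
  let k := (pm σp ≫ g)⁻¹ * (pm inc ≫ g)
  obtain ⟨N₂, y, hy0, hy⟩ := exists_lift (G := G) (A := A'[X]) (B := B[X])
    (Polynomial.C (algebraMap R A' r)) (ev R A'[X]) (ev_apply R A'[X]) (ev R B[X]) (ev_apply R B[X])
    ψ' (fun _ => rfl) k 1 (by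
      have e1 : (ev R B[X]).comp σp = AlgHom.id R B[X] := by
        refine AlgHom.ext fun P => ?_
        induction P using Polynomial.induction_on' with
        | add p q hp hq => simp only [map_add, hp, hq]
        | monomial m c => simp [σp, ev, ← Polynomial.C_mul_X_pow_eq_monomial]
      have e2 : (ev R B[X]).comp inc = AlgHom.id R B[X] := AlgHom.ext fun P => by simp [inc, ev]
      rw [MonObj.comp_mul, GrpObj.comp_inv, ← Category.assoc, ← Category.assoc, pm_pm, pm_pm, e1, e2,
        inv_mul_cancel, MonObj.comp_one])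
  obtain ⟨a, b, hab⟩ := (IsCoprime.pow (m := N₂) (n := N₁)
    ((Ideal.isCoprime_span_singleton_iff r r').mp (by
      rw [Ideal.isCoprime_iff_sup_eq, ← Ideal.span_insert]; exact hrr)))
  refine ⟨pm (scl R (algebraMap R A b)) ≫ y₁, pm ((Polynomial.aeval (R := A'[X])
      (Polynomial.C (algebraMap R A' (-a)) : A'[X])).restrictScalars R) ≫
        (y * (pm (Polynomial.mapAlgHom ((IsScalarTower.toAlgHom R A' A'[X]).comp (ev R A'))) ≫ y)⁻¹),
    ?_, ?_, ?_⟩
  · rw [hEA, ← Category.assoc, pm_pm]
    convert hy₁0 using 3
    refine AlgHom.ext fun P => ?_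
    simp [scl, ev, Polynomial.coe_aeval_eq_eval, ← Polynomial.comp_eq_aeval, Polynomial.eval_comp]
  · rw [hEA', ← Category.assoc, pm_pm, MonObj.comp_mul, GrpObj.comp_inv, ← Category.assoc, pm_pm]
    apply mul_inv_eq_one.mpr
    congr 2
    refine AlgHom.ext fun P => ?_
    induction P using Polynomial.induction_on' with
    | add p q hp hq => simp only [map_add, hp, hq]
    | monomial m c => simp [ev, Polynomial.coe_aeval_eq_eval]
  have hb : ∀ (C : Type u) [CommRing C] [Algebra R C],
      algebraMap R C b * algebraMap R C r' ^ N₁ = 1 - algebraMap R C a * algebraMap R C r ^ N₂ := by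
    intro C _ _
    rw [← map_one (algebraMap R C), ← hab]
    simp only [map_add, map_mul, map_pow]
    ring
  -- restriction of the first factor
  have h1 : tA ≫ pm (scl R (algebraMap R A b)) ≫ y₁ =
      pm (scl R (algebraMap R B b * algebraMap R B r' ^ N₁)) ≫ g := by
    rw [hTA, ← Category.assoc, pm_pm,
      show (Polynomial.mapAlgHom φ).comp (scl R (algebraMap R A b)) =
        (scl R (algebraMap R B b)).comp (Polynomial.mapAlgHom φ) from AlgHom.ext fun P => by
          show (P.comp _).map (algebraMap A B) = (P.map (algebraMap A B)).comp _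
          simp [Polynomial.map_comp, ← IsScalarTower.algebraMap_apply],
      ← pm_pm, Category.assoc,
      hy₁ (Polynomial.mapAlgHom φ) (scl R (algebraMap R B r' ^ N₁)) (fun _ => rfl) (fun Q => by
        rw [scl_apply, IsScalarTower.algebraMap_apply R A B, map_pow]),
      ← Category.assoc, pm_pm]
    congr 2
    refine AlgHom.ext fun P => ?_
    simp only [AlgHom.comp_apply, scl_apply, Polynomial.comp_assoc]
    simp [Polynomial.C_mul]
    congr 1
    ring
  let τB : B[X][X] →ₐ[R] B[X] := (Polynomial.aeval (R := B[X])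
      (Polynomial.C (algebraMap R B (-a)) : B[X])).restrictScalars R
  let σQ : B[X][X] →ₐ[R] B[X][X] := scl R (Polynomial.C (algebraMap R B r) ^ N₂)
  have hyσ : pm (Polynomial.mapAlgHom ψ') ≫ y = pm σQ ≫ k :=
    hy (Polynomial.mapAlgHom ψ') σQ (fun _ => rfl) (fun Q => by
      show _ = Q.comp (Polynomial.C (((Polynomial.C (algebraMap R A' r)).map (algebraMap A' B)) ^ N₂) *
        Polynomial.X)
      rw [Polynomial.map_C, ← IsScalarTower.algebraMap_apply R A' B, scl_apply])
  let κ : B[X] →ₐ[R] B[X] := (IsScalarTower.toAlgHom R B B[X]).comp (ev R B)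
  have hκ : pm κ ≫ g = 1 := by
    rw [← pm_pm, Category.assoc, hEB, MonObj.comp_one]
  have c1 : ψ'.comp ((Polynomial.aeval (R := A'[X])
      (Polynomial.C (algebraMap R A' (-a)) : A'[X])).restrictScalars R) =
        τB.comp (Polynomial.mapAlgHom ψ') := by
    refine AlgHom.ext fun P => ?_
    induction P using Polynomial.induction_on' with
    | add p q hp hq => simp only [map_add, hp, hq]
    | monomial m c => simp [τB, ψ', φ', Polynomial.coe_aeval_eq_eval, ← IsScalarTower.algebraMap_apply]
  have c2 : (Polynomial.mapAlgHom ψ').comp (Polynomial.mapAlgHom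
      ((IsScalarTower.toAlgHom R A' A'[X]).comp (ev R A'))) =
        (Polynomial.mapAlgHom κ).comp (Polynomial.mapAlgHom ψ') := by
    refine AlgHom.ext fun P => ?_
    induction P using Polynomial.induction_on' with
    | add p q hp hq => simp only [map_add, hp, hq]
    | monomial m c =>
      simp [κ, ψ', φ', ev, Polynomial.coe_aeval_eq_eval]
      rw [← Polynomial.coeff_zero_eq_eval_zero, Polynomial.coeff_zero_eq_aeval_zero']
  have m1 : (τB.comp σQ).comp inc = AlgHom.id R B[X] := AlgHom.ext fun P => by simp [τB, σQ, inc, scl]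
  have m2 : (τB.comp σQ).comp σp = scl R (algebraMap R B b * algebraMap R B r' ^ N₁) := by
    refine AlgHom.ext fun P => ?_
    induction P using Polynomial.induction_on' with
    | add p q hp hq => simp only [map_add, hp, hq]
    | monomial m c =>
      simp [τB, σQ, σp, scl, ← Polynomial.C_mul_X_pow_eq_monomial]
      rw [← Polynomial.C_pow, ← Polynomial.C_pow, ← Polynomial.C_mul, ← Polynomial.C_mul, hb B]
      simp
      ring
  have m3 : (τB.comp ((Polynomial.mapAlgHom κ).comp σQ)).comp inc = κ :=
    AlgHom.ext fun P => by simp [τB, σQ, inc, κ, scl]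
  have m4 : (τB.comp ((Polynomial.mapAlgHom κ).comp σQ)).comp σp = κ := by
    refine AlgHom.ext fun P => ?_
    induction P using Polynomial.induction_on' with
    | add p q hp hq => simp only [map_add, hp, hq]
    | monomial m c =>
      simp [τB, σQ, σp, κ, scl, ev, ← Polynomial.C_mul_X_pow_eq_monomial]
  have h2 : tA' ≫ pm ((Polynomial.aeval (R := A'[X])
      (Polynomial.C (algebraMap R A' (-a)) : A'[X])).restrictScalars R) ≫
        (y * (pm (Polynomial.mapAlgHom ((IsScalarTower.toAlgHom R A' A'[X]).comp (ev R A'))) ≫ y)⁻¹) =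
      (pm (scl R (algebraMap R B b * algebraMap R B r' ^ N₁)) ≫ g)⁻¹ * g := by
    rw [hTA', ← Category.assoc, pm_pm, c1, ← pm_pm, Category.assoc, MonObj.comp_mul, GrpObj.comp_inv,
      ← Category.assoc (pm (Polynomial.mapAlgHom ψ')), pm_pm, c2, ← pm_pm, Category.assoc, hyσ,
      MonObj.comp_mul, GrpObj.comp_inv]
    simp only [← Category.assoc, pm_pm]
    simp only [k, MonObj.comp_mul, GrpObj.comp_inv, ← Category.assoc, pm_pm, m1, m2, m3, m4, hκ,
      inv_one, _root_.mul_one]
    rw [show pm (AlgHom.id R B[X]) = 𝟙 _ from Over.OverMorphism.ext (Spec.map_id _), Category.id_comp]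
  rw [h1, h2, mul_inv_cancel_left]

end Groth.Agent.S17855
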