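import Groth.Statements.S17856
import Mathlib

set_option autoImplicit false
open CategoryTheory AlgebraicGeometry
universe u
open Algz

namespace Groth.Agent.S17856

open CategoryTheory.Limits TensorProduct

variable {ι : Type u} (A : ι → Type u) [∀ i, CommRing (A i)]

abbrev Loc (c : ∀ i, A i) : Type u := ∀ i, Localization.Away (c i)

abbrev locMonoid (c : ∀ i, A i) : Submonoid (∀ i, A i) :=
  Submonoid.pi Set.univ fun i => Submonoid.powers (c i)

instance (c : ∀ i, A i) : IsLocalization (locMonoid A c) (Loc A c) :=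
  inferInstanceAs (IsLocalization (Submonoid.pi Set.univ fun i => Submonoid.powers (c i)) (∀ i, Localization.Away (c i)))

/-- `Spec` of the map to a product localisation. -/
noncomputable abbrev ψ (c : ∀ i, A i) :
    Spec (CommRingCat.of (Loc A c)) ⟶ Spec (CommRingCat.of (∀ i, A i)) :=
  Spec.map (CommRingCat.ofHom (algebraMap (∀ i, A i) (Loc A c)))

lemma exists_thetas (c d : ∀ i, A i) :
    ∃ (θ₁ : Loc A c →ₐ[∀ i, A i] Loc A (c * d)) (θ₂ : Loc A d →ₐ[∀ i, A i] Loc A (c * d))
      (θ : Loc A (c * d) →ₐ[∀ i, A i] (Loc A c ⊗[∀ i, A i] Loc A d)),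
      θ.comp θ₁ = Algebra.TensorProduct.includeLeft ∧
        θ.comp θ₂ = Algebra.TensorProduct.includeRight := by
  have hu1 : ∀ (e f : ∀ i, A i) (y : locMonoid A e),
      IsUnit (algebraMap (∀ i, A i) (Loc A (e * f)) y) := by
    intro e f y
    refine Pi.isUnit_iff.mpr fun i => ?_
    obtain ⟨n, hn⟩ := y.2 i (Set.mem_univ i)
    have h := IsLocalization.map_units (Localization.Away ((e * f) i))
      (⟨(e * f) i ^ n, n, rfl⟩ : Submonoid.powers ((e * f) i))
    have h2 : (e * f) i ^ n = (y : ∀ i, A i) i * f i ^ n := by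
      rw [← hn, Pi.mul_apply, mul_pow]
    simp only [h2, map_mul, IsUnit.mul_iff] at h
    exact h.1
  have hu2 : ∀ y : locMonoid A d, IsUnit (algebraMap (∀ i, A i) (Loc A (c * d)) y) := by
    intro y
    refine Pi.isUnit_iff.mpr fun i => ?_
    obtain ⟨n, hn⟩ := y.2 i (Set.mem_univ i)
    have h := IsLocalization.map_units (Localization.Away ((c * d) i))
      (⟨(c * d) i ^ n, n, rfl⟩ : Submonoid.powers ((c * d) i))
    have h2 : (c * d) i ^ n = c i ^ n * (y : ∀ i, A i) i := by
      rw [← hn, Pi.mul_apply, mul_pow]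
    simp only [h2, map_mul, IsUnit.mul_iff] at h
    exact h.2
  have hu3 : ∀ y : locMonoid A (c * d),
      IsUnit (algebraMap (∀ i, A i) (Loc A c ⊗[∀ i, A i] Loc A d) y) := by
    intro y
    choose n hn using fun i => y.2 i (Set.mem_univ i)
    let yc : locMonoid A c := ⟨fun i => c i ^ n i, fun i _ => ⟨n i, rfl⟩⟩
    let yd : locMonoid A d := ⟨fun i => d i ^ n i, fun i _ => ⟨n i, rfl⟩⟩
    have hy : (y : ∀ i, A i) = (yc : ∀ i, A i) * (yd : ∀ i, A i) := by
      funext i
      rw [← hn i]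
      exact mul_pow _ _ _
    rw [hy, map_mul]
    refine IsUnit.mul ?_ ?_
    · rw [← AlgHom.commutes (Algebra.TensorProduct.includeLeft (S := ∀ i, A i)
        (A := Loc A c) (B := Loc A d))]
      exact (IsLocalization.map_units (Loc A c) yc).map _
    · rw [← AlgHom.commutes (Algebra.TensorProduct.includeRight (R := ∀ i, A i)
        (A := Loc A c) (B := Loc A d))]
      exact (IsLocalization.map_units (Loc A d) yd).map _
  refine ⟨IsLocalization.liftAlgHom (M := locMonoid A c) (f := Algebra.ofId _ _) (hu1 c d),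
    IsLocalization.liftAlgHom (M := locMonoid A d) (f := Algebra.ofId _ _) hu2,
    IsLocalization.liftAlgHom (M := locMonoid A (c * d)) (f := Algebra.ofId _ _) hu3, ?_, ?_⟩
  · exact @Subsingleton.elim _ (IsLocalization.algHom_subsingleton (locMonoid A c)) _ _
  · exact @Subsingleton.elim _ (IsLocalization.algHom_subsingleton (locMonoid A d)) _ _

/-- The projection `Spec (A i)[1/c i] ⟶ Spec ∏ (A i)[1/c i]`. -/
noncomputable abbrev pr (c : ∀ i, A i) (i : ι) :
    Spec (CommRingCat.of (Localization.Away (c i))) ⟶ Spec (CommRingCat.of (Loc A c)) :=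
  Spec.map (CommRingCat.ofHom (Pi.evalRingHom (fun j => Localization.Away (c j)) i))

noncomputable abbrev loc (c : ∀ i, A i) (i : ι) :
    Spec (CommRingCat.of (Localization.Away (c i))) ⟶ Spec (CommRingCat.of (A i)) :=
  Spec.map (CommRingCat.ofHom (algebraMap (A i) (Localization.Away (c i))))

noncomputable abbrev ev (i : ι) :
    Spec (CommRingCat.of (A i)) ⟶ Spec (CommRingCat.of (∀ i, A i)) :=
  Spec.map (CommRingCat.ofHom (Pi.evalRingHom A i))

lemma pr_ψ (c : ∀ i, A i) (i : ι) : pr A c i ≫ ψ A c = loc A c i ≫ ev A i := by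
  simp only [pr, ψ, loc, ev, ← Spec.map_comp, ← CommRingCat.ofHom_comp]
  rfl

variable {X : Scheme.{u}} [QuasiSeparatedSpace X] (f : ∀ i, Spec (CommRingCat.of (A i)) ⟶ X)

/-- Two compatible local liftings agree on the overlap. -/
lemma compat (c d : ∀ i, A i) (g : Spec (CommRingCat.of (Loc A c)) ⟶ X)
    (g' : Spec (CommRingCat.of (Loc A d)) ⟶ X)
    (hg : ∀ i, pr A c i ≫ g = loc A c i ≫ f i) (hg' : ∀ i, pr A d i ≫ g' = loc A d i ≫ f i)
    {Z : Scheme.{u}} (a : Z ⟶ Spec (CommRingCat.of (Loc A c)))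
    (b : Z ⟶ Spec (CommRingCat.of (Loc A d))) (h : a ≫ ψ A c = b ≫ ψ A d) : a ≫ g = b ≫ g' := by
  obtain ⟨θ₁, θ₂, θ, h1, h2⟩ := exists_thetas A c d
  let P := pullbackSpecIso (∀ i, A i) (Loc A c) (Loc A d)
  have ha : a = pullback.lift a b h ≫ P.hom ≫ Spec.map (CommRingCat.ofHom θ.toRingHom) ≫
      Spec.map (CommRingCat.ofHom θ₁.toRingHom) := by
    rw [← Spec.map_comp, ← CommRingCat.ofHom_comp]
    have : θ.toRingHom.comp θ₁.toRingHom = Algebra.TensorProduct.includeLeftRingHom := by
      exact congrArg AlgHom.toRingHom h1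
    rw [this, pullbackSpecIso_hom_fst, pullback.lift_fst]
  have hb : b = pullback.lift a b h ≫ P.hom ≫ Spec.map (CommRingCat.ofHom θ.toRingHom) ≫
      Spec.map (CommRingCat.ofHom θ₂.toRingHom) := by
    rw [← Spec.map_comp, ← CommRingCat.ofHom_comp]
    have : θ.toRingHom.comp θ₂.toRingHom =
        (Algebra.TensorProduct.includeRight (R := ∀ i, A i) (A := Loc A c) (B := Loc A d)).toRingHom := by
      exact congrArg AlgHom.toRingHom h2
    rw [this]
    exact ((congrArg (pullback.lift a b h ≫ ·) (pullbackSpecIso_hom_snd _ _ _)).trans (pullback.lift_snd a b h)).symm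
  have key : Spec.map (CommRingCat.ofHom θ₁.toRingHom) ≫ g =
      Spec.map (CommRingCat.ofHom θ₂.toRingHom) ≫ g' := by
    refine pointsPi_injective (fun i => CommRingCat.of (Localization.Away ((c * d) i))) X ?_
    funext i
    have hx : ∀ (e : ∀ i, A i) (θ₀ : Loc A e →ₐ[∀ i, A i] Loc A (c * d))
        (k : Spec (CommRingCat.of (Loc A e)) ⟶ X), (∀ i, pr A e i ≫ k = loc A e i ≫ f i) →
        IsUnit (algebraMap (A i) (Localization.Away ((c * d) i)) (e i)) →
        pr A (c * d) i ≫ Spec.map (CommRingCat.ofHom θ₀.toRingHom) ≫ k =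
          loc A (c * d) i ≫ f i := by
      intro e θ₀ k hk hue
      let γ : Localization.Away (e i) →+* Localization.Away ((c * d) i) :=
        IsLocalization.Away.lift (e i) hue
      have hγ : γ.comp (algebraMap (A i) (Localization.Away (e i))) =
          algebraMap (A i) (Localization.Away ((c * d) i)) := IsLocalization.Away.lift_comp _ hue
      have hcomp : (Pi.evalRingHom (fun j => Localization.Away ((c * d) j)) i).comp θ₀.toRingHom =
          γ.comp (Pi.evalRingHom (fun j => Localization.Away (e j)) i) := by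
        refine IsLocalization.ringHom_ext (locMonoid A e) ?_
        ext r
        change θ₀ (algebraMap (∀ i, A i) (Loc A e) r) i = γ (algebraMap (A i) _ (r i))
        rw [AlgHom.commutes, ← RingHom.comp_apply, hγ]
        rfl
      rw [← Spec.map_comp_assoc, ← CommRingCat.ofHom_comp, hcomp, CommRingCat.ofHom_comp,
        Spec.map_comp_assoc, hk i, ← Spec.map_comp_assoc, ← CommRingCat.ofHom_comp, hγ]
    have hu := IsLocalization.map_units (Localization.Away ((c * d) i))
      (⟨(c * d) i, Submonoid.mem_powers _⟩ : Submonoid.powers ((c * d) i))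
    simp only [Pi.mul_apply, map_mul, IsUnit.mul_iff] at hu
    exact (hx c θ₁ g hg hu.1).trans (hx d θ₂ g' hg' hu.2).symm
  refine (congrArg (· ≫ g) ha).trans (Eq.trans ?_ (congrArg (· ≫ g') hb).symm)
  simp only [Category.assoc, key]

omit [∀ i, CommRing (A i)] in
lemma exists_partition {R : Type u} [CommRing R] {K : Type u} [Fintype K]
    (U : K → Set (PrimeSpectrum R)) (hU : ∀ k, IsOpen (U k)) (hcov : ∀ p, ∃ k, p ∈ U k) :
    ∃ c : K → R, (∀ k, ∀ p : PrimeSpectrum R, c k ∉ p.asIdeal → p ∈ U k) ∧ ∑ k, c k = 1 := by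
  have hz : (⨆ k, PrimeSpectrum.vanishingIdeal (U k)ᶜ) = ⊤ := by
    rw [← PrimeSpectrum.zeroLocus_empty_iff_eq_top, PrimeSpectrum.zeroLocus_iSup,
      Set.eq_empty_iff_forall_notMem]
    intro p hp
    obtain ⟨k, hk⟩ := hcov p
    have := Set.mem_iInter.mp hp k
    rw [PrimeSpectrum.zeroLocus_vanishingIdeal_eq_closure, (hU k).isClosed_compl.closure_eq] at this
    exact this hk
  have h1 : (1 : R) ∈ ⨆ k ∈ (Finset.univ : Finset K), PrimeSpectrum.vanishingIdeal (U k)ᶜ := by
    simp [hz]
  obtain ⟨μ, hμ⟩ := (Submodule.mem_iSup_finset_iff_exists_sum _ _).mp h1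
  refine ⟨fun k => (μ k : R), fun k q hq => ?_, hμ⟩
  by_contra hqU
  exact hq ((PrimeSpectrum.mem_vanishingIdeal _ _).mp (μ k).2 q hqU)

lemma surjective_pointsPi [CompactSpace X] :
    ∃ F : Spec (CommRingCat.of (∀ i, A i)) ⟶ X, ∀ i, ev A i ≫ F = f i := by
  classical
  let 𝒰 : X.OpenCover := X.affineCover.finiteSubcover
  have : Fintype 𝒰.I₀ := inferInstance
  have hpart : ∀ i, ∃ c : 𝒰.I₀ → A i, (∀ k, ∀ p : PrimeSpectrum (A i), c k ∉ p.asIdeal →
      p ∈ (f i).base ⁻¹' Set.range (𝒰.f k).base) ∧ ∑ k, c k = 1 := by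
    intro i
    exact exists_partition (fun k => (f i).base ⁻¹' Set.range (𝒰.f k).base)
      (fun k => ((𝒰.f k).opensRange.2).preimage (f i).continuous)
      (fun p => ⟨𝒰.idx ((f i).base p), 𝒰.covers _⟩)
  choose c hc hsum using hpart
  let C : 𝒰.I₀ → ∀ i, A i := fun k i => c i k
  have hlift : ∀ k, ∃ g : Spec (CommRingCat.of (Loc A (C k))) ⟶ X,
      ∀ i, pr A (C k) i ≫ g = loc A (C k) i ≫ f i := by
    intro k
    have hr : ∀ i, Set.range (loc A (C k) i ≫ f i).base ⊆ Set.range (𝒰.f k).base := by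
      rintro i _ ⟨q, rfl⟩
      refine hc i k _ ?_
      intro hmem
      exact q.2.ne_top (Ideal.eq_top_of_isUnit_mem _ hmem
        (IsLocalization.map_units (Localization.Away (C k i))
          (⟨C k i, Submonoid.mem_powers _⟩ : Submonoid.powers (C k i))))
    obtain ⟨g, hg⟩ := pointsPi_surjective_of_isAffine
      (fun i => CommRingCat.of (Localization.Away (C k i))) (𝒰.X k)
      (fun i => IsOpenImmersion.lift (𝒰.f k) (loc A (C k) i ≫ f i) (hr i))
    refine ⟨g ≫ 𝒰.f k, fun i => ?_⟩
    have hgi := congr_fun hg i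
    simp only [pointsPi] at hgi
    rw [← Category.assoc]
    refine (congrArg (· ≫ 𝒰.f k) hgi).trans ?_
    exact IsOpenImmersion.lift_fac _ _ _
  choose g hg using hlift
  let π : (∐ fun k => Spec (CommRingCat.of (Loc A (C k)))) ⟶ Spec (CommRingCat.of (∀ i, A i)) :=
    Sigma.desc fun k => ψ A (C k)
  have : Surjective π := by
    refine ⟨fun P => ?_⟩
    have : ∃ k, Disjoint (locMonoid A (C k) : Set (∀ i, A i)) P.asIdeal := by
      by_contra hne
      simp only [not_exists, Set.not_disjoint_iff] at hne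
      choose y hy hyP using hne
      refine P.2.ne_top ?_
      have htop : Ideal.span (Set.range y) = ⊤ := by
        refine Ideal.span_eq_top_of_span_image_evalRingHom _ (Set.finite_range _) fun i => ?_
        rw [← Set.range_comp]
        choose n hn using fun k => hy k i (Set.mem_univ i)
        have h1 : Ideal.span (Set.range (c i)) = ⊤ := by
          rw [Ideal.eq_top_iff_one, ← hsum i]
          exact Ideal.sum_mem _ fun k _ => Ideal.subset_span ⟨k, rfl⟩
        have h2 := Ideal.span_pow_eq_top (Set.range (c i)) h1 (Finset.univ.sup n)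
        rw [eq_top_iff, ← h2, Ideal.span_le]
        rintro _ ⟨_, ⟨k, rfl⟩, rfl⟩
        refine Ideal.mem_of_dvd _ (pow_dvd_pow _ (Finset.le_sup (Finset.mem_univ k))) ?_
        refine Ideal.subset_span ⟨k, ?_⟩
        exact (hn k).symm
      rw [eq_top_iff, ← htop, Ideal.span_le]
      rintro _ ⟨k, rfl⟩
      exact hyP k
    obtain ⟨k, hk⟩ := this
    have : P ∈ Set.range (PrimeSpectrum.comap (algebraMap (∀ i, A i) (Loc A (C k)))) := by
      rw [PrimeSpectrum.localization_comap_range (Loc A (C k)) (locMonoid A (C k))]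
      exact hk
    obtain ⟨q, hq⟩ := this
    refine ⟨(Sigma.ι (fun k => Spec (CommRingCat.of (Loc A (C k)))) k).base q, ?_⟩
    rw [← Scheme.Hom.comp_apply, Sigma.ι_desc]
    exact hq
  have : Flat π := by
    rw [IsZariskiLocalAtSource.iff_of_openCover (P := @Flat) (sigmaOpenCover _)]
    intro k
    have : (sigmaOpenCover _).f k ≫ π = ψ A (C k) := Sigma.ι_desc _ _
    rw [this]
    have hf : (algebraMap (∀ i, A i) (Loc A (C k))).Flat :=
      RingHom.flat_algebraMap_iff.mpr (IsLocalization.flat (Loc A (C k)) (locMonoid A (C k)))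
    exact Flat.SpecMap_iff.mpr hf
  have hcompat : ∀ {Z : Scheme.{u}} (a b : Z ⟶ ∐ fun k => Spec (CommRingCat.of (Loc A (C k)))),
      a ≫ π = b ≫ π → a ≫ Sigma.desc g = b ≫ Sigma.desc g := by
    intro Z a b hab
    let 𝒲 := sigmaOpenCover fun k => Spec (CommRingCat.of (Loc A (C k)))
    refine Scheme.Cover.hom_ext (𝒲.pullback₁ a) _ _ fun k => ?_
    refine Scheme.Cover.hom_ext (𝒲.pullback₁ (pullback.fst a (𝒲.f k) ≫ b)) _ _ fun l => ?_
    change pullback.fst _ (𝒲.f l) ≫ pullback.fst a (𝒲.f k) ≫ a ≫ Sigma.desc g =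
      pullback.fst _ (𝒲.f l) ≫ pullback.fst a (𝒲.f k) ≫ b ≫ Sigma.desc g
    have hL : pullback.fst a (𝒲.f k) ≫ a = pullback.snd _ _ ≫ 𝒲.f k := pullback.condition
    have hR : pullback.fst (pullback.fst a (𝒲.f k) ≫ b) (𝒲.f l) ≫ pullback.fst a (𝒲.f k) ≫ b =
      pullback.snd _ _ ≫ 𝒲.f l := pullback.condition
    have hfk : ∀ k {W : Scheme.{u}} (v : ∀ k, Spec (CommRingCat.of (Loc A (C k))) ⟶ W),
        𝒲.f k ≫ Sigma.desc v = v k := fun k W v => Sigma.ι_desc _ _
    rw [reassoc_of% hL, hfk, reassoc_of% hR, hfk, ← Category.assoc]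
    refine compat A f (C k) (C l) _ _ (hg k) (hg l) _ _ ?_
    have := congrArg (fun t => pullback.fst (pullback.fst a (𝒲.f k) ≫ b) (𝒲.f l) ≫
      pullback.fst a (𝒲.f k) ≫ t) hab
    simp only [π] at this
    rwa [reassoc_of% hL, hfk, reassoc_of% hR, hfk, ← Category.assoc] at this
  let F := EffectiveEpi.desc π (Sigma.desc g) hcompat
  have hF : π ≫ F = Sigma.desc g := EffectiveEpi.fac π _ _
  refine ⟨F, fun i => ?_⟩
  have hspan : Ideal.span (Set.range (c i)) = ⊤ := by
    rw [Ideal.eq_top_iff_one, ← hsum i]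
    exact Ideal.sum_mem _ fun k _ => Ideal.subset_span ⟨k, rfl⟩
  refine Scheme.Cover.hom_ext
    (Scheme.affineOpenCoverOfSpanRangeEqTop (c i) hspan).openCover _ _ fun k => ?_
  change loc A (C k) i ≫ ev A i ≫ F = loc A (C k) i ≫ f i
  rw [← Category.assoc, ← pr_ψ, ← hg k i, Category.assoc]
  congr 1
  have : ψ A (C k) = Sigma.ι (fun k => Spec (CommRingCat.of (Loc A (C k)))) k ≫ π :=
    (Sigma.ι_desc (fun k => ψ A (C k)) k).symm
  rw [this, Category.assoc, hF, Sigma.ι_desc]

/-- Let `X` be a quasi-compact quasi-separated scheme and `A i` an arbitrary family of commutative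
rings. Sending a morphism from the spectrum of the product ring to `X` to the family of its
composites with the morphisms `Spec (A i) ⟶ Spec (∏ A i)` induced by the projections is a bijection
onto the set of all families of morphisms `Spec (A i) ⟶ X`. (Both quasi-compactness and
quasi-separatedness of `X` are needed.) -/
theorem result (X : Scheme.{u}) [CompactSpace X] [QuasiSeparatedSpace X]
    {ι : Type u} (A : ι → CommRingCat.{u}) :
    Function.Bijective (fun f : Spec (CommRingCat.of (∀ i, A i)) ⟶ X =>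
      fun i : ι => Spec.map (CommRingCat.ofHom (Pi.evalRingHom (fun j => (A j : Type u)) i)) ≫ f) := by
  refine ⟨pointsPi_injective A X, fun f => ?_⟩
  obtain ⟨F, hF⟩ := surjective_pointsPi (fun i => (A i : Type u)) f
  exact ⟨F, funext hF⟩

end Groth.Agent.S17856
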