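import Groth.Statements.S17858
import Mathlib

set_option autoImplicit false
open CategoryTheory AlgebraicGeometry
universe u
open Algz

namespace Groth.Agent.S17858

open Limits TopologicalSpace

theorem affine_piece {X Y S : Scheme.{u}} (f : X ⟶ S) (g : Y ⟶ S) {O : X.Opens} {D : Y.Opens} {V : S.Opens}
    (hO : IsAffineOpen O) (hD : IsAffineOpen D) (hV : IsAffineOpen V) (hOV : O ≤ f ⁻¹ᵁ V) (hDV : D ≤ g ⁻¹ᵁ V) :
    IsAffineOpen (pullback.fst f g ⁻¹ᵁ O ⊓ pullback.snd f g ⁻¹ᵁ D) := by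
  have : IsAffine O.toScheme := hO
  have : IsAffine D.toScheme := hD
  have : IsAffine V.toScheme := hV
  let p : pullback (f.resLE V O hOV) (g.resLE V D hDV) ⟶ pullback f g :=
    pullback.map _ _ _ _ O.ι D.ι V.ι (by simp) (by simp)
  have h2 : pullback.fst f g ⁻¹ᵁ O ⊓ pullback.snd f g ⁻¹ᵁ D = p.opensRange := by
    ext1
    simp [p, Scheme.Hom.opensRange, Scheme.Pullback.range_map]
  rw [h2]
  exact isAffineOpen_opensRange p

theorem exists_partition (B : CommRingCat.{u}) {ι : Type*} [Fintype ι] (P : ι → (Spec B).Opens) (hP : ⨆ a, P a = ⊤) :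
    ∃ e : ι → B, (∀ a, PrimeSpectrum.basicOpen (e a) ≤ P a) ∧ ∀ z : PrimeSpectrum B, ∃ a, z ∈ PrimeSpectrum.basicOpen (e a) := by
  classical
  let K : ι → Ideal B := fun a =>
    { carrier := {r | PrimeSpectrum.basicOpen r ≤ P a}
      zero_mem' := fun z hz => absurd z.asIdeal.zero_mem ((PrimeSpectrum.mem_basicOpen _ _).mp hz)
      add_mem' := fun {r s} hr hs z hz => by
        rw [PrimeSpectrum.mem_basicOpen] at hz
        by_cases h : r ∈ z.asIdeal
        · exact hs ((PrimeSpectrum.mem_basicOpen _ _).mpr fun h' => hz (add_mem h h'))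
        · exact hr ((PrimeSpectrum.mem_basicOpen _ _).mpr h)
      smul_mem' := fun c r hr z hz => hr ((PrimeSpectrum.mem_basicOpen _ _).mpr fun h =>
        (PrimeSpectrum.mem_basicOpen _ _).mp hz (z.asIdeal.mul_mem_left c h)) }
  have htop : (1 : B) ∈ ⨆ a ∈ (Finset.univ : Finset ι), K a := by
    suffices h : (⨆ a, K a) = ⊤ by simp [h]
    by_contra hne
    obtain ⟨M, hM, hle⟩ := Ideal.exists_le_maximal _ hne
    let z : PrimeSpectrum B := ⟨M, hM.isPrime⟩
    have hz : z ∈ (⨆ a, P a : (Spec B).Opens) := hP ▸ trivial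
    obtain ⟨a, ha⟩ := Opens.mem_iSup.mp hz
    obtain ⟨_, ⟨r, rfl⟩, hzr, hr⟩ := PrimeSpectrum.isTopologicalBasis_basic_opens.exists_subset_of_mem_open ha (P a).2
    have : r ∈ K a := hr
    exact (PrimeSpectrum.mem_basicOpen _ _).mp hzr (hle (Submodule.mem_iSup_of_mem a this))
  obtain ⟨μ, hμ⟩ := (Submodule.mem_iSup_finset_iff_exists_sum K 1).mp htop
  refine ⟨fun a => (μ a : B), fun a => (μ a).2, fun z => ?_⟩
  by_contra h
  simp only [not_exists, PrimeSpectrum.mem_basicOpen, not_not] at h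
  exact z.isPrime.ne_top ((Ideal.eq_top_iff_one _).mpr (hμ ▸ sum_mem fun a _ => h a))

theorem general {W Y : Scheme.{u}} (j : W ⟶ Y) [CompactSpace W] [CompactSpace Y] [QuasiSeparatedSpace Y] :
    ∃ m : ℕ, ∀ (B : CommRingCat.{u}) (g : Spec B ⟶ Y),
      ∃ U : Fin m → (Limits.pullback j g).Opens, (∀ k, IsAffineOpen (U k)) ∧ ⨆ k, U k = ⊤ := by
  classical
  obtain ⟨S, hS, hSU⟩ : ∃ S : Set Y.affineOpens, S.Finite ∧ ∀ y : Y, ∃ V ∈ S, y ∈ V.1 := by
    obtain ⟨t, ht⟩ := isCompact_univ.elim_finite_subcover (fun V : Y.affineOpens => (V.1 : Set Y))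
      (fun V => V.1.2) (fun y _ => by
        obtain ⟨V, hV, hy, -⟩ := exists_isAffineOpen_mem_and_subset (x := y) (U := ⊤) trivial
        exact Set.mem_iUnion.mpr ⟨⟨V, hV⟩, hy⟩)
    refine ⟨t, t.finite_toSet, fun y => ?_⟩
    simpa using ht (Set.mem_univ y)
  have : Fintype S := hS.fintype
  have hA : ∀ V : S, ∃ T : Set W.affineOpens, T.Finite ∧ (∀ O ∈ T, O.1 ≤ j ⁻¹ᵁ V.1.1) ∧
      ∀ w ∈ j ⁻¹ᵁ V.1.1, ∃ O ∈ T, w ∈ O.1 := by
    intro V
    have hc : IsCompact ((j ⁻¹ᵁ V.1.1 : W.Opens) : Set W) :=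
      QuasiCompact.isCompact_preimage (f := j) _ V.1.1.2 V.1.2.isCompact
    obtain ⟨t, ht⟩ := hc.elim_finite_subcover
      (fun O : {O : W.affineOpens // O.1 ≤ j ⁻¹ᵁ V.1.1} => (O.1.1 : Set W)) (fun O => O.1.1.2) (fun w hw => by
        obtain ⟨O, hO, hwO, hOU⟩ := exists_isAffineOpen_mem_and_subset (x := w) (U := j ⁻¹ᵁ V.1.1) hw
        exact Set.mem_iUnion.mpr ⟨⟨⟨O, hO⟩, hOU⟩, hwO⟩)
    refine ⟨((t.image Subtype.val : Finset W.affineOpens) : Set W.affineOpens), Finset.finite_toSet _, ?_, fun w hw => ?_⟩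
    · intro O hO
      obtain ⟨O', -, rfl⟩ := Finset.mem_image.mp (Finset.mem_coe.mp hO)
      exact O'.2
    · obtain ⟨O, hOt, hwO⟩ : ∃ O ∈ t, w ∈ O.1.1 := by simpa using ht hw
      exact ⟨O.1, Finset.mem_coe.mpr (Finset.mem_image_of_mem _ hOt), hwO⟩
  choose T hTfin hTle hTcov using hA
  have : ∀ V : S, Fintype (T V) := fun V => (hTfin V).fintype
  let I := Σ V : S, T V
  refine ⟨Fintype.card I, fun B g => ?_⟩
  obtain ⟨e, he, hecov⟩ := exists_partition B (fun V : S => g ⁻¹ᵁ V.1.1) (by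
    rw [eq_top_iff]
    intro z _
    obtain ⟨V, hV, hz⟩ := hSU (g z)
    exact Opens.mem_iSup.mpr ⟨⟨V, hV⟩, hz⟩)
  let U : I → (Limits.pullback j g).Opens := fun i =>
    Limits.pullback.fst j g ⁻¹ᵁ i.2.1.1 ⊓ Limits.pullback.snd j g ⁻¹ᵁ (PrimeSpectrum.basicOpen (e i.1) : (Spec B).Opens)
  refine ⟨fun k => U ((Fintype.equivFin I).symm k), fun k => ?_, ?_⟩
  · exact affine_piece j g ((Fintype.equivFin I).symm k).2.1.2 (IsAffineOpen.Spec_basicOpen _)
      ((Fintype.equivFin I).symm k).1.1.2 (hTle _ _ ((Fintype.equivFin I).symm k).2.2) (he _)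
  · rw [eq_top_iff]
    intro z _
    obtain ⟨V, hV⟩ := hecov ((Limits.pullback.snd j g) z)
    have h1 : (Limits.pullback.fst j g) z ∈ j ⁻¹ᵁ V.1.1 := by
      show j ((Limits.pullback.fst j g) z) ∈ V.1.1
      rw [← Scheme.Hom.comp_apply, Limits.pullback.condition, Scheme.Hom.comp_apply]
      exact he V hV
    obtain ⟨O, hO, hzO⟩ := hTcov V _ h1
    refine TopologicalSpace.Opens.mem_iSup.mpr ⟨Fintype.equivFin I ⟨V, O, hO⟩, ?_⟩
    simp only [Equiv.symm_apply_apply]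
    exact ⟨hzO, hV⟩


/-- Let `j : W ⟶ Y` be a quasi-affine morphism of quasi-compact quasi-separated schemes. There is a
natural number `m` such that for every commutative ring `B` and every morphism `Spec B ⟶ Y`, the
fibre product `W ×_Y Spec B` is the union of `m` affine open subschemes. -/
theorem result {W Y : Scheme.{u}} (j : W ⟶ Y)
    [CompactSpace W] [QuasiSeparatedSpace W] [CompactSpace Y] [QuasiSeparatedSpace Y]
    (hj : Mor2.IsQuasiAffine j) :
    ∃ m : ℕ, ∀ (B : CommRingCat.{u}) (g : Spec B ⟶ Y),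
      ∃ U : Fin m → (Limits.pullback j g).Opens, (∀ k, IsAffineOpen (U k)) ∧ ⨆ k, U k = ⊤ := by
  exact general j

end Groth.Agent.S17858
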