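import Groth.Statements.S17859
import Mathlib

set_option autoImplicit false
open CategoryTheory MonoidalCategory
universe u
open Algz

namespace Groth.Agent.S17859

theorem result (R : Type u) [CommRing R] (M : ModuleCat.{u} R)
    [Module.Finite R M] [Module.Projective R M] : Nonempty (HasRightDual M) := by
  classical
  obtain ⟨n, p, hp⟩ := Module.Finite.exists_fin' R M
  obtain ⟨s, hs⟩ := Module.projective_lifting_property p LinearMap.id hp
  let a : Fin n → M := fun i => p (Pi.single i 1)
  let f : Fin n → Module.Dual R M := fun i => (LinearMap.proj i).comp s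
  have key : ∀ m, ∑ i, f i m • a i = m := by
    intro m
    have h1 : p (s m) = m := DFunLike.congr_fun hs m
    rw [pi_eq_sum_univ' (s m), map_sum] at h1
    simpa [a, f, Pi.single_apply] using h1
  have keyd : ∀ φ : Module.Dual R M, ∑ i, φ (a i) • f i = φ := by
    intro φ; ext m
    conv_rhs => rw [← key m]
    simp [mul_comm]
  let D : ModuleCat.{u} R := ModuleCat.of R (Module.Dual R M)
  let co : R →ₗ[R] TensorProduct R M (Module.Dual R M) :=
    LinearMap.toSpanSingleton R _ (∑ i, a i ⊗ₜ[R] f i)
  have h1 : (contractLeft R M).rTensor (Module.Dual R M) ∘ₗ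
      (TensorProduct.assoc R (Module.Dual R M) M (Module.Dual R M)).symm.toLinearMap ∘ₗ
      co.lTensor (Module.Dual R M) =
      (TensorProduct.lid R _).symm.toLinearMap ∘ₗ (TensorProduct.rid R _).toLinearMap := by
    refine TensorProduct.ext' fun φ r => ?_
    simp only [co, LinearMap.comp_apply, LinearMap.lTensor_tmul, LinearMap.toSpanSingleton_apply,
      TensorProduct.tmul_sum, TensorProduct.tmul_smul, map_sum, map_smul, LinearEquiv.coe_coe,
      TensorProduct.assoc_symm_tmul, LinearMap.rTensor_tmul, contractLeft_apply,
      TensorProduct.rid_tmul, TensorProduct.lid_symm_apply]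
    conv_rhs => rw [← keyd φ]
    rw [TensorProduct.tmul_sum]
    congr 1
    exact Finset.sum_congr rfl fun i _ => by rw [← TensorProduct.smul_tmul, smul_eq_mul, mul_one]
  have h2 : (contractLeft R M).lTensor M ∘ₗ
      (TensorProduct.assoc R M (Module.Dual R M) M).toLinearMap ∘ₗ co.rTensor M =
      (TensorProduct.rid R _).symm.toLinearMap ∘ₗ (TensorProduct.lid R _).toLinearMap := by
    refine TensorProduct.ext' fun r m => ?_
    simp only [co, LinearMap.comp_apply, LinearMap.rTensor_tmul, LinearMap.toSpanSingleton_apply,
      TensorProduct.sum_tmul, ← TensorProduct.smul_tmul', map_sum, map_smul, LinearEquiv.coe_coe,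
      TensorProduct.assoc_tmul, LinearMap.lTensor_tmul, contractLeft_apply,
      TensorProduct.lid_tmul, TensorProduct.rid_symm_apply]
    conv_rhs => rw [← key m]
    rw [TensorProduct.sum_tmul]
    congr 1
    exact Finset.sum_congr rfl fun i _ => by rw [TensorProduct.smul_tmul, smul_eq_mul, mul_one]
  exact ⟨{ rightDual := D, exact :=
    { coevaluation' := ModuleCat.ofHom co
      evaluation' := ModuleCat.ofHom (contractLeft R M)
      coevaluation_evaluation' := ModuleCat.hom_ext h1
      evaluation_coevaluation' := ModuleCat.hom_ext h2 } }⟩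

end Groth.Agent.S17859
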