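import Groth.Statements.S17862
import Groth.Agent.S17856

set_option autoImplicit false
open CategoryTheory AlgebraicGeometry
universe u
open Algz

namespace Groth.Agent.S17862

open CategoryTheory.Limits

/-- Two points with values in a product of rings which agree on every factor agree, for a sheaf with
quasi-compact diagonal. -/
theorem eq_of_forall_pi {S : Scheme.{u}} (F : AlgSp.Sp S) (hqs : AlgSp.IsQuasiSeparatedSp F) {ι : Type u}
    (A : ι → CommRingCat.{u}) (h : Spec (CommRingCat.of (∀ i, A i)) ⟶ S)
    (a b : (AlgSp.yon S).obj (Over.mk h) ⟶ F)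
    (hab : ∀ i, (AlgSp.yon S).map (Over.homMk
        (Spec.map (CommRingCat.ofHom (Pi.evalRingHom (fun j => (A j : Type u)) i))) rfl :
        Over.mk (Spec.map (CommRingCat.ofHom (Pi.evalRingHom (fun j => (A j : Type u)) i)) ≫ h) ⟶ Over.mk h) ≫ a =
      (AlgSp.yon S).map (Over.homMk
        (Spec.map (CommRingCat.ofHom (Pi.evalRingHom (fun j => (A j : Type u)) i))) rfl :
        Over.mk (Spec.map (CommRingCat.ofHom (Pi.evalRingHom (fun j => (A j : Type u)) i)) ≫ h) ⟶ Over.mk h) ≫ b) :
    a = b := by
  let U : Over S := Over.mk h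
  let v : (AlgSp.yon S).obj U ⟶ F ⨯ F := prod.lift a b
  have hrep : Functor.relativelyRepresentable (AlgSp.yon S) (Limits.diag F) := hqs.rep
  have sq := hrep.isPullback v
  let π : hrep.pullback v ⟶ U := hrep.snd v
  haveI : QuasiCompact π.left := hqs.property _ _ _ sq
  have hd1 : Limits.diag F ≫ Limits.prod.fst = 𝟙 F := prod.lift_fst _ _
  have hd2 : Limits.diag F ≫ Limits.prod.snd = 𝟙 F := prod.lift_snd _ _
  have hv1 : v ≫ Limits.prod.fst = a := prod.lift_fst _ _
  have hv2 : v ≫ Limits.prod.snd = b := prod.lift_snd _ _
  haveI : Mono (Limits.diag F) := ⟨fun p q e => by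
    have h' := congrArg (· ≫ (Limits.prod.fst : F ⨯ F ⟶ F)) e
    simpa only [Category.assoc, hd1, Category.comp_id] using h'⟩
  haveI : Mono ((AlgSp.yon S).map π) := by
    constructor
    intro Z p q e
    refine sq.hom_ext ?_ e
    rw [← cancel_mono (Limits.diag F), Category.assoc, Category.assoc, sq.w, ← Category.assoc, e, Category.assoc]
  haveI : Mono π := (AlgSp.yon S).mono_of_mono_map inferInstance
  haveI : Mono π.left := inferInstance
  haveI : IsAffine U.left := inferInstanceAs (IsAffine (Spec (CommRingCat.of (∀ i, A i))))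
  haveI : CompactSpace (hrep.pullback v).left := QuasiCompact.compactSpace_of_compactSpace π.left
  haveI : QuasiSeparatedSpace (hrep.pullback v).left := quasiSeparatedSpace_of_quasiSeparated π.left
  have hf : ∀ i, ∃ c : Spec (A i) ⟶ (hrep.pullback v).left,
      c ≫ π.left = Spec.map (CommRingCat.ofHom (Pi.evalRingHom (fun j => (A j : Type u)) i)) := by
    intro i
    let e : Over.mk (Spec.map (CommRingCat.ofHom (Pi.evalRingHom (fun j => (A j : Type u)) i)) ≫ h) ⟶ U :=
      Over.homMk (Spec.map (CommRingCat.ofHom (Pi.evalRingHom (fun j => (A j : Type u)) i))) rfl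
    let l := sq.lift ((AlgSp.yon S).map e ≫ a) ((AlgSp.yon S).map e) (by
      apply Limits.prod.hom_ext
      · simp only [Category.assoc, hd1, hv1, Category.comp_id]
      · simp only [Category.assoc, hd2, hv2, Category.comp_id]
        exact hab i)
    refine ⟨((AlgSp.yon S).preimage l).left, ?_⟩
    have : (AlgSp.yon S).preimage l ≫ π = e := by
      apply (AlgSp.yon S).map_injective
      rw [Functor.map_comp, Functor.map_preimage]
      exact sq.lift_snd _ _ _
    exact congrArg CommaMorphism.left this
  choose c hc using hf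
  obtain ⟨G, hG⟩ := (Groth.Agent.S17856.result (hrep.pullback v).left A).2 c
  haveI : QuasiSeparatedSpace U.left := inferInstance
  have hGπ : G ≫ π.left = 𝟙 _ := pointsPi_injective A U.left (funext fun i => by
    have hGi := congrFun hG i
    simp only [pointsPi] at *
    rw [← Category.assoc, hGi, hc i, Category.comp_id])
  let s : U ⟶ hrep.pullback v := Over.homMk G (by
    rw [← Over.w π, ← Category.assoc, hGπ]
    exact Category.id_comp _)
  have hs : s ≫ π = 𝟙 U := Over.OverMorphism.ext hGπ
  have hv : v = ((AlgSp.yon S).map s ≫ hrep.fst v) ≫ Limits.diag F := by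
    rw [Category.assoc, sq.w, ← Functor.map_comp_assoc, hs, CategoryTheory.Functor.map_id, Category.id_comp]
  have h1 := congrArg (· ≫ Limits.prod.fst) hv
  have h2 := congrArg (· ≫ Limits.prod.snd) hv
  simp only [Category.assoc, hd1, hd2, hv1, hv2, Category.comp_id] at h1 h2
  exact h1.trans h2.symm

/-- Let `S` be an affine scheme, `X` a quasi-compact and quasi-separated algebraic space over `S`, and
`A i` a family of commutative rings indexed by an arbitrary type, with a morphism `h` from the
spectrum of the product ring to `S`. Two `S`-morphisms `Spec (Π i, A i) ⟶ X` that agree after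
composition with every `Spec (A i) ⟶ Spec (Π i, A i)` are equal. (For schemes this is the
injectivity half of the corresponding bijection; the algebraic-space case is the one stated here.
Over an affine base, relative and absolute quasi-separatedness agree.) -/
theorem result (S : Scheme.{u}) [IsAffine S]
    (X : AlgSp.Space S) (hqc : AlgSp.IsQuasiCompactSp X.obj) (hqs : AlgSp.IsQuasiSeparatedSp X.obj)
    {ι : Type u} (A : ι → CommRingCat.{u}) (h : Spec (CommRingCat.of (∀ i, A i)) ⟶ S) :
    Function.Injective (fun g : (AlgSp.ofScheme S).obj (Over.mk h) ⟶ X => fun i : ι =>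
      (AlgSp.ofScheme S).map (Over.homMk
        (Spec.map (CommRingCat.ofHom (Pi.evalRingHom (fun j => (A j : Type u)) i)))
        rfl : Over.mk (Spec.map (CommRingCat.ofHom (Pi.evalRingHom (fun j => (A j : Type u)) i)) ≫ h) ⟶
          Over.mk h) ≫ g) := by
  intro a b hab
  apply ObjectProperty.hom_ext
  refine eq_of_forall_pi X.obj hqs A h a.hom b.hom fun i => ?_
  exact congrArg InducedCategory.Hom.hom (congrFun hab i)

end Groth.Agent.S17862
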