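import Groth.Statements.S17861
import Groth.Agent.AlgSpInd.Chain
import Groth.Agent.ASp.HenselFamily
import Groth.Agent.ASp.RedFactor
import Groth.Agent.S17862

set_option autoImplicit false
open CategoryTheory AlgebraicGeometry
set_option backward.isDefEq.respectTransparency false
set_option backward.isDefEq.respectTransparency.types false
universe u
open Algz

namespace Groth.Agent.S17861

open CategoryTheory.Limits _root_.AlgSp
open Groth.Agent.ASp.HenselLift in
/-- An affine étale chart through which all field valued points lift. -/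
theorem exists_chart {S : Scheme.{u}} [QuasiSeparatedSpace ↥S] (X : AlgSp.Space S)
    (hqc : IsQuasiCompactSp X.obj) (hqs : IsQuasiSeparatedSp X.obj) :
    ∃ (W : Over S) (p : (yon S).obj W ⟶ X.obj), IsAffine W.left ∧ RepWith @Etale p ∧
      ∀ (k : Type u) [Field k] (σ : Spec (CommRingCat.of k) ⟶ S) (x : (yon S).obj (Over.mk σ) ⟶ X.obj),
        ∃ l : Over.mk σ ⟶ W, (yon S).map l ≫ p = x := by
  obtain ⟨n, Uo, j, k, T, i, hj, hkj, hj1, hempty, hred, hV⟩ := Groth.Agent.S10419.result X hqc hqs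
  choose V f hVs hVc hf hfs hiso using fun p : ULift.{u} (Fin n) => hV (p.down.val + 1) (Nat.le_add_left _ _)
  let 𝒰 := fun p => (V p).left.affineCover.finiteSubcover
  let Za : (Σ p : ULift.{u} (Fin n), (𝒰 p).I₀) → Over S := fun a => Over.mk ((𝒰 a.1).f a.2 ≫ (V a.1).hom)
  let ιa : ∀ a, Za a ⟶ V a.1 := fun a => Over.homMk ((𝒰 a.1).f a.2) rfl
  haveI : ∀ p, CompactSpace ↥(V p).left := hVc
  haveI : ∀ a, IsOpenImmersion (ιa a).left := fun a => inferInstanceAs (IsOpenImmersion ((𝒰 a.1).f a.2))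
  obtain ⟨W, p, c, -, hW, hp, hc⟩ := Groth.Agent.ASp.HenselFamily.exists_sigma_chart X.property Za
    (fun a => inferInstanceAs (IsAffine ((𝒰 a.1).X a.2)))
    (fun a => (yon S).map (ιa a) ≫ f a.1 ≫ (j (a.1.down.val + 1)).hom)
    (fun a => ASp.repWith_comp (P := @Etale) (ASp.repWith_yon_map (P := @Etale) (g := ιa a)
      (inferInstanceAs (Etale (ιa a).left))) (ASp.repWith_comp (P := @Etale) (hf a.1)
        (ASp.repWith_mono (fun _ _ g (hg : IsOpenImmersion g) => inferInstanceAs (Etale g)) (hj _))))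
  haveI : ∀ q, Finite (𝒰 q).I₀ := fun q => inferInstance
  refine ⟨W, p, hW inferInstance, hp, fun K _ σ x => ?_⟩
  let t₀ : ↥(Over.mk σ).left := IsLocalRing.closedPoint K
  have hpt : ∀ y : Points ((yon S).obj (Over.mk σ)), y = Points.schemeHomeo (Over.mk σ) t₀ := fun y => by
    obtain ⟨t, rfl⟩ := (Points.schemeHomeo (Over.mk σ)).surjective y
    exact congrArg _ (Subsingleton.elim (α := PrimeSpectrum K) _ _)
  let x₀ : Points X.obj := Points.map x (Points.schemeHomeo (Over.mk σ) t₀)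
  have hex : ∃ q : Fin n, x₀ ∈ Set.range (Points.map (j (q.val + 1)).hom) ∧
      x₀ ∉ Set.range (Points.map (j (q.val + 1 + 1)).hom) := by
    by_contra hne
    push Not at hne
    have hall : ∀ m, m ≤ n → x₀ ∈ Set.range (Points.map (j (m + 1)).hom) := by
      intro m
      induction m with
      | zero =>
        intro _
        haveI : IsIso (j 1).hom := inferInstanceAs (IsIso ((ObjectProperty.ι _).map (j 1)))
        exact ⟨Points.map (inv (j 1).hom) x₀, by rw [← Points.map_comp, IsIso.inv_hom_id, Points.map_id]⟩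
      | succ m ih => exact fun hm => hne ⟨m, hm⟩ (ih (Nat.le_of_succ_le hm))
    obtain ⟨y, -⟩ := hall n le_rfl
    exact hempty.elim y
  obtain ⟨q, hin, hout⟩ := hex
  obtain ⟨xU, hxU⟩ := AlgSpInd.exists_fac_openImm (hj (q.val + 1)) x (by
    rintro _ ⟨y, rfl⟩
    rw [hpt y]
    exact hin)
  have hredpt : IsReducedSp ((yon S).obj (Over.mk σ)) :=
    ⟨Over.mk σ, 𝟙 _, by rw [← (yon S).map_id]; exact (repWith_yon_map_iff _ _).2 (by dsimp; infer_instance),
      by rw [← (yon S).map_id]; exact (repWith_yon_map_iff _ _).2 (by dsimp; infer_instance),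
      inferInstanceAs (IsReduced (Spec (CommRingCat.of K)))⟩
  obtain ⟨hicl, hir, -⟩ := hred (q.val + 1)
  obtain ⟨xT, hxT⟩ := ASp.exists_lift_of_reduced hredpt hicl xU (by
    rintro _ ⟨y, rfl⟩
    rw [hir, hpt y]
    rintro ⟨z, hz⟩
    refine hout ⟨z, ?_⟩
    rw [← hkj (q.val + 1), ObjectProperty.FullSubcategory.comp_hom, Points.map_comp, hz, ← Points.map_comp, hxU])
  obtain ⟨P, fst, snd, sq⟩ : ∃ (P : Sp S) (fst : P ⟶ (T (q.val + 1)).obj) (snd : P ⟶ (yon S).obj (V ⟨q⟩)),
    IsPullback fst snd (i (q.val + 1)).hom (f ⟨q⟩) := ⟨_, _, _, IsPullback.of_hasPullback _ _⟩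
  haveI : IsIso fst := hiso ⟨q⟩ P fst snd sq
  obtain ⟨l, hl⟩ := (yon S).map_surjective (xT ≫ inv fst ≫ snd)
  let a : (𝒰 ⟨q⟩).I₀ := (𝒰 ⟨q⟩).idx (l.left t₀)
  have hr : Set.range l.left ⊆ Set.range ((𝒰 ⟨q⟩).f a) := by
    rintro _ ⟨t, rfl⟩
    rw [show t = t₀ from Subsingleton.elim (α := PrimeSpectrum K) _ _]
    exact (𝒰 ⟨q⟩).covers _
  let la : Over.mk σ ⟶ Za ⟨⟨q⟩, a⟩ := Over.homMk (IsOpenImmersion.lift ((𝒰 ⟨q⟩).f a) l.left hr) (by
    show _ ≫ (𝒰 ⟨q⟩).f a ≫ (V ⟨q⟩).hom = σ
    rw [IsOpenImmersion.lift_fac_assoc]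
    exact Over.w l)
  refine ⟨la ≫ c ⟨⟨q⟩, a⟩, ?_⟩
  have hla : la ≫ ιa ⟨⟨q⟩, a⟩ = l := Over.OverMorphism.ext (IsOpenImmersion.lift_fac _ _ _)
  rw [Functor.map_comp, Category.assoc, hc, ← Functor.map_comp_assoc, hla, hl]
  simp only [Category.assoc]
  rw [← reassoc_of% sq.w, IsIso.inv_hom_id_assoc, reassoc_of% hxT, hxU]

/-- Let `S` be an affine scheme, `X` a quasi-compact and quasi-separated algebraic space over `S`, and
`A i` a family of henselian local rings indexed by an arbitrary type, with a morphism `h` from the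
spectrum of the product ring `Π i, A i` to `S` (so that each `Spec (A i)` is an `S`-scheme through
the projection). Sending an `S`-morphism `Spec (Π i, A i) ⟶ X` to the family of its composites with
the morphisms `Spec (A i) ⟶ Spec (Π i, A i)` is a bijection onto the set of families of
`S`-morphisms `Spec (A i) ⟶ X`. (Over an affine base, quasi-separatedness relative to `S` agrees
with the absolute notion.) -/
theorem result (S : Scheme.{u}) [IsAffine S]
    (X : AlgSp.Space S) (hqc : AlgSp.IsQuasiCompactSp X.obj) (hqs : AlgSp.IsQuasiSeparatedSp X.obj)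
    {ι : Type u} (A : ι → CommRingCat.{u}) [∀ i, HenselianLocalRing (A i)]
    (h : Spec (CommRingCat.of (∀ i, A i)) ⟶ S) :
    Function.Bijective (fun g : (AlgSp.ofScheme S).obj (Over.mk h) ⟶ X => fun i : ι =>
      (AlgSp.ofScheme S).map (Over.homMk
        (Spec.map (CommRingCat.ofHom (Pi.evalRingHom (fun j => (A j : Type u)) i)))
        rfl : Over.mk (Spec.map (CommRingCat.ofHom (Pi.evalRingHom (fun j => (A j : Type u)) i)) ≫ h) ⟶
          Over.mk h) ≫ g) := by
  refine ⟨Groth.Agent.S17862.result S X hqc hqs A h, fun z => ?_⟩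
  obtain ⟨W, p, hW, hp, hlift⟩ := exists_chart X hqc hqs
  have hz : ∀ i, ∃ l : Over.mk (Spec.map (CommRingCat.ofHom (Pi.evalRingHom (fun j => (A j : Type u)) i)) ≫ h) ⟶ W,
      (AlgSp.yon S).map l ≫ p = (z i).hom := by
    intro i
    let str : Spec (CommRingCat.of (A i)) ⟶ S :=
      Spec.map (CommRingCat.ofHom (Pi.evalRingHom (fun j => (A j : Type u)) i)) ≫ h
    letI : Field ((A i : Type u) ⧸ IsLocalRing.maximalIdeal (A i)) := Ideal.Quotient.field _
    obtain ⟨l₀, hl₀⟩ := hlift ((A i : Type u) ⧸ IsLocalRing.maximalIdeal (A i))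
      (Spec.map (CommRingCat.ofHom (Ideal.Quotient.mk (IsLocalRing.maximalIdeal (A i)))) ≫ str)
      ((AlgSp.yon S).map (ASp.HenselLift.quoMap str (IsLocalRing.maximalIdeal (A i))) ≫ (z i).hom)
    obtain ⟨l, hl, -⟩ := ASp.HenselLift.exists_lift_chart str hp _
      (IsLocalRing.maximalIdeal.isMaximal (A i)).ne_top (z i).hom l₀ hl₀
    exact ⟨l, hl⟩
  choose l hl using hz
  haveI := hW
  obtain ⟨G, hG⟩ := AlgebraicGeometry.pointsPi_surjective_of_isAffine A W.left fun i => (l i).left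
  have hGi : ∀ i, Spec.map (CommRingCat.ofHom (Pi.evalRingHom (fun j => (A j : Type u)) i)) ≫ G = (l i).left :=
    fun i => congrFun hG i
  have hGh : G ≫ W.hom = h := pointsPi_injective A S (funext fun i => by
    show _ ≫ G ≫ W.hom = _ ≫ h
    rw [← Category.assoc, hGi i]
    exact Over.w (l i))
  refine ⟨ObjectProperty.homMk ((AlgSp.yon S).map (Over.homMk G hGh : Over.mk h ⟶ W) ≫ p), funext fun i => ?_⟩
  apply ObjectProperty.hom_ext
  refine Eq.trans ?_ (hl i)
  rw [ObjectProperty.FullSubcategory.comp_hom]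
  show (AlgSp.yon S).map _ ≫ (AlgSp.yon S).map _ ≫ p = _
  rw [← Functor.map_comp_assoc]
  congr 2
  exact Over.OverMorphism.ext (hGi i)

end Groth.Agent.S17861
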