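import Groth.Statements.S17863
import Mathlib

set_option autoImplicit false
open CategoryTheory AlgebraicGeometry
universe u
open Algz

namespace Groth.Agent.S17863

open AlgebraicGeometry CategoryTheory
set_option backward.isDefEq.respectTransparency false

/-- Let `A` be a commutative ring which is `I`-adically complete for an ideal `I` and let `X` be a
quasi-affine scheme. Then the natural map from `X(A)` to compatible systems in the `X(A/I^n)` is
bijective: two morphisms `Spec A ⟶ X` with the same restriction to every `Spec (A/I^n)` are equal,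
and every family of morphisms `Spec (A/I^n) ⟶ X` compatible with the transition maps `Spec (A/I^n) ⟶
Spec (A/I^(n+1))` is the family of restrictions of a morphism `Spec A ⟶ X`. -/
theorem result (A : Type u) [CommRing A] (I : Ideal A) [IsAdicComplete I A]
    (X : Scheme.{u}) [X.IsQuasiAffine] :
    (∀ f g : Spec (CommRingCat.of A) ⟶ X,
      (∀ n : ℕ, Spec.map (CommRingCat.ofHom (Ideal.Quotient.mk (I ^ n))) ≫ f =
        Spec.map (CommRingCat.ofHom (Ideal.Quotient.mk (I ^ n))) ≫ g) → f = g) ∧
    (∀ e : ∀ n : ℕ, Spec (CommRingCat.of (A ⧸ I ^ n)) ⟶ X,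
      (∀ n : ℕ, Spec.map (CommRingCat.ofHom (Ideal.Quotient.factorPowSucc I n)) ≫ e (n + 1) = e n) →
      ∃ f : Spec (CommRingCat.of A) ⟶ X,
        ∀ n : ℕ, Spec.map (CommRingCat.ofHom (Ideal.Quotient.mk (I ^ n))) ≫ f = e n) := by
  haveI : IsOpenImmersion X.toSpecΓ := inferInstance
  refine ⟨fun f g h => ?_, fun e he => ?_⟩
  · rw [← cancel_mono X.toSpecΓ]
    obtain ⟨φ, hφ⟩ := Spec.map_surjective (f ≫ X.toSpecΓ)
    obtain ⟨ψ, hψ⟩ := Spec.map_surjective (g ≫ X.toSpecΓ)
    rw [← hφ, ← hψ]
    congr 1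
    ext x
    refine sub_eq_zero.1 (IsHausdorff.haus (I := I) inferInstance _ fun n => ?_)
    have := congrArg (· ≫ X.toSpecΓ) (h n)
    simp only [Category.assoc] at this
    rw [← hφ, ← hψ, ← Spec.map_comp, ← Spec.map_comp] at this
    have hx := congr($(congrArg CommRingCat.Hom.hom (Spec.map_injective this)) x)
    rw [smul_eq_mul, Ideal.mul_top, SModEq.zero, ← Ideal.Quotient.eq_zero_iff_mem, map_sub, sub_eq_zero]
    exact hx
  · choose φ hφ using fun n => Spec.map_surjective (e n ≫ X.toSpecΓ)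
    have hs : ∀ n, (Ideal.Quotient.factorPowSucc I n).comp (φ (n + 1)).hom = (φ n).hom := by
      intro n
      have e1 : φ (n + 1) ≫ CommRingCat.ofHom (Ideal.Quotient.factorPowSucc I n) = φ n := by
        apply Spec.map_injective
        rw [Spec.map_comp, hφ, hφ, ← Category.assoc, he]
      exact congrArg CommRingCat.Hom.hom e1
    have hc : ∀ {m n : ℕ} (hle : m ≤ n), (Ideal.Quotient.factorPow I hle).comp (φ n).hom = (φ m).hom := by
      intro m n hle
      induction hle with
      | refl => ext x; simp [Ideal.Quotient.factorPow]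
      | @step k hk ih =>
        rw [← ih, ← hs k, ← RingHom.comp_assoc]
        congr 1
        exact Ideal.Quotient.ringHom_ext rfl
    let ψ : Γ(X, ⊤) →+* A := IsAdicComplete.liftRingHom I (fun n => (φ n).hom) hc
    let F : Spec (CommRingCat.of A) ⟶ Spec Γ(X, ⊤) := Spec.map (CommRingCat.ofHom ψ)
    have hF : ∀ n, Spec.map (CommRingCat.ofHom (Ideal.Quotient.mk (I ^ n))) ≫ F = e n ≫ X.toSpecΓ := by
      intro n
      rw [← hφ, ← Spec.map_comp]
      congr 1
      apply CommRingCat.hom_ext
      exact IsAdicComplete.mk_comp_liftRingHom I (fun n => (φ n).hom) hc n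
    have hrange : Set.range F ⊆ Set.range X.toSpecΓ := by
      rintro _ ⟨P, rfl⟩
      obtain ⟨M, hM, hle⟩ := Ideal.exists_le_maximal P.asIdeal P.isPrime.ne_top
      let M' : PrimeSpectrum A := ⟨M, hM.isPrime⟩
      have hsp : (P : Spec (CommRingCat.of A)) ⤳ M' := (PrimeSpectrum.le_iff_specializes P M').1 hle
      have hI : I ^ 1 ≤ M := by
        rw [pow_one]
        exact (IsAdicComplete.le_jacobson_bot I).trans (sInf_le ⟨bot_le, hM⟩)
      obtain ⟨Q, hQ⟩ : ∃ Q, Spec.map (CommRingCat.ofHom (Ideal.Quotient.mk (I ^ 1))) Q = M' := by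
        haveI := Ideal.map_isPrime_of_surjective (f := Ideal.Quotient.mk (I ^ 1)) Ideal.Quotient.mk_surjective
          (I := M) (by rw [Ideal.mk_ker]; exact hI)
        refine ⟨(⟨M.map (Ideal.Quotient.mk (I ^ 1)), this⟩ : PrimeSpectrum (A ⧸ I ^ 1)), PrimeSpectrum.ext ?_⟩
        exact Ideal.comap_map_mk hI
      refine (hsp.map F.continuous).mem_open X.toSpecΓ.opensRange.2 ?_
      exact ⟨e 1 Q, by rw [← hQ]; exact congr($((hF 1).symm).base Q)⟩
    refine ⟨IsOpenImmersion.lift X.toSpecΓ F hrange, fun n => ?_⟩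
    rw [← cancel_mono X.toSpecΓ, Category.assoc, IsOpenImmersion.lift_fac, hF]

end Groth.Agent.S17863
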