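import Groth.Statements.S17864
import Mathlib

set_option autoImplicit false
universe u
open Algz

namespace Groth.Agent.S17864

/-- The full-faithfulness assertion. Let `A` be a commutative ring which is `I`-adically complete for an
ideal `I`, and `P`, `Q` finitely generated projective `A`-modules. An `A`-linear map `P → Q` is
determined by its reductions modulo the powers `I^n`, and every family of `A`-linear maps `P/I^n P →
Q/I^n Q` compatible with the transition maps is the family of reductions of an `A`-linear map `P →
Q`. (The companion assertion, that compatible systems of finite projective modules over the rings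
`A/I^n` lift to `A`, is not restated here.) -/
theorem result (A : Type u) [CommRing A] (I : Ideal A)
    [IsAdicComplete I A] (P Q : Type u) [AddCommGroup P] [Module A P] [Module.Finite A P]
    [Module.Projective A P] [AddCommGroup Q] [Module A Q] [Module.Finite A Q] [Module.Projective A Q] :
    (∀ f f' : P →ₗ[A] Q, (∀ n : ℕ, f.reduceModIdeal (I ^ n) = f'.reduceModIdeal (I ^ n)) → f = f') ∧
    (∀ g : ∀ n : ℕ, P ⧸ (I ^ n • ⊤ : Submodule A P) →ₗ[A] Q ⧸ (I ^ n • ⊤ : Submodule A Q),
      (∀ n : ℕ, AdicCompletion.transitionMap I Q (Nat.le_succ n) ∘ₗ g (n + 1) =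
        g n ∘ₗ AdicCompletion.transitionMap I P (Nat.le_succ n)) →
      ∃ f : P →ₗ[A] Q, ∀ n : ℕ, f.reduceModIdeal (I ^ n) = g n) := by
  classical
  obtain ⟨m, π, hπ⟩ := Module.Finite.exists_fin' A Q
  obtain ⟨s, hs⟩ := Module.projective_lifting_property π LinearMap.id hπ
  have hsπ : ∀ y, π (s y) = y := fun y => LinearMap.congr_fun hs y
  refine ⟨fun f f' h => LinearMap.ext fun x => ?_, fun g hg => ?_⟩
  · rw [← hsπ (f x), ← hsπ (f' x)]
    congr 1
    funext j
    rw [← sub_eq_zero]
    refine IsHausdorff.haus inferInstance (I := I) _ fun n => ?_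
    have h1 := LinearMap.congr_fun (h n) (Submodule.Quotient.mk x)
    rw [LinearMap.reduceModIdeal_apply, LinearMap.reduceModIdeal_apply, Submodule.Quotient.eq] at h1
    rw [SModEq.zero]
    have h2 := Submodule.mem_map_of_mem (f := (LinearMap.proj j).comp s) h1
    rw [Submodule.map_smul''] at h2
    have h3 := Submodule.smul_mono (le_refl (I ^ n)) (le_top : _ ≤ (⊤ : Submodule A A)) h2
    simpa using h3
  · let red : ∀ (n : ℕ) (j : Fin m), Q ⧸ (I ^ n • ⊤ : Submodule A Q) →ₗ[A] A ⧸ (I ^ n • ⊤ : Submodule A A) :=
      fun n j => Submodule.mapQ _ _ ((LinearMap.proj j).comp s) (by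
        rw [← Submodule.map_le_iff_le_comap, Submodule.map_smul'']
        exact Submodule.smul_mono le_rfl le_top)
    let fn : ∀ (j : Fin m) (n : ℕ), P →ₗ[A] A ⧸ (I ^ n • ⊤ : Submodule A A) := fun j n =>
      (red n j).comp ((g n).comp (Submodule.mkQ _))
    have hgle : ∀ {a b : ℕ} (hab : a ≤ b) (x : P),
        AdicCompletion.transitionMap I Q hab (g b (Submodule.Quotient.mk x)) = g a (Submodule.Quotient.mk x) := by
      intro a b hab
      induction b, hab using Nat.le_induction with
      | base => intro x; simp
      | succ b hab ih =>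
        intro x
        have htc : ∀ z, AdicCompletion.transitionMap I Q (hab.trans (Nat.le_succ b)) z =
            AdicCompletion.transitionMap I Q hab (AdicCompletion.transitionMap I Q (Nat.le_succ b) z) := by
          intro z
          obtain ⟨y, rfl⟩ := Submodule.Quotient.mk_surjective _ z
          rfl
        rw [htc]
        have h1 : AdicCompletion.transitionMap I Q (Nat.le_succ b) (g (b + 1) (Submodule.Quotient.mk x)) =
            g b (Submodule.Quotient.mk x) := by
          have := LinearMap.congr_fun (hg b) (Submodule.Quotient.mk x)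
          simpa using this
        rw [h1]
        exact ih x
    have hcompat : ∀ (j : Fin m) {a b : ℕ} (hab : a ≤ b), Submodule.factorPow I A hab ∘ₗ fn j b = fn j a := by
      intro j a b hab
      refine LinearMap.ext fun x => ?_
      simp only [LinearMap.comp_apply, fn, Submodule.mkQ_apply]
      rw [← hgle hab x]
      obtain ⟨y, hy⟩ := Submodule.Quotient.mk_surjective _ (g b (Submodule.Quotient.mk x))
      rw [← hy]
      rfl
    let F : P →ₗ[A] Q := π.comp (LinearMap.pi fun j => IsAdicComplete.lift I (fn j) (hcompat j))
    refine ⟨F, fun n => LinearMap.ext fun z => ?_⟩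
    obtain ⟨x, rfl⟩ := Submodule.Quotient.mk_surjective _ z
    change Submodule.Quotient.mk (F x) = _
    obtain ⟨y, hy⟩ := Submodule.Quotient.mk_surjective _ (g n (Submodule.Quotient.mk x))
    rw [← hy]
    rw [Submodule.Quotient.eq]
    have hj : ∀ j, IsAdicComplete.lift I (fn j) (hcompat j) x - s y j ∈ (I ^ n • ⊤ : Submodule A A) := by
      intro j
      rw [← Submodule.Quotient.eq]
      refine (IsAdicComplete.mk_lift I (f := fn j) (hcompat j) n x).trans ?_
      simp only [fn, LinearMap.comp_apply, Submodule.mkQ_apply, ← hy]
      rfl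
    set w : Fin m → A := (fun j => IsAdicComplete.lift I (fn j) (hcompat j) x) - s y with hw
    have hFy : F x - y = π w := by
      rw [hw, map_sub, hsπ]
      rfl
    rw [hFy, pi_eq_sum_univ' w, map_sum]
    refine Submodule.sum_mem _ fun j _ => ?_
    rw [map_smul]
    refine Submodule.smul_mem_smul ?_ trivial
    have := hj j
    simpa [hw] using this

end Groth.Agent.S17864
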