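import Groth.Statements.S17865
import Groth.Prelude.Def_W4c5algebraiztannakaNis
import Mathlib

set_option autoImplicit false
open CategoryTheory AlgebraicGeometry
universe u
open Algz

namespace Groth.Agent.S17865

open CategoryTheory CategoryTheory.Limits AlgebraicGeometry Topology
set_option backward.isDefEq.respectTransparency false

/-- In the case of schemes. Let `f : U ⟶ Y` be a Nisnevich cover of length at most `m` of quasi-compact
quasi-separated schemes (an etale morphism together with a chain of `m` closed constructible subsets
`∅ = Z_0 ⊆ ⋯ ⊆ Z_m = Y` such that `f` has a section over each `Z_(k+1) ∖ Z_k`), and `g : Y' ⟶ Y` a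
morphism from a quasi-compact quasi-separated scheme. Then the base change `U ×_Y Y' ⟶ Y'` is a
Nisnevich cover of length at most `m`. (The original form is for quasi-compact quasi-separated
algebraic spaces; stated here for schemes.) -/
theorem result {U Y Y' : Scheme.{u}} (f : U ⟶ Y) (g : Y' ⟶ Y)
    [CompactSpace U] [QuasiSeparatedSpace U] [CompactSpace Y] [QuasiSeparatedSpace Y]
    [CompactSpace Y'] [QuasiSeparatedSpace Y'] (m : ℕ)
    (hf : W4c5algebraiztannaka.IsNisCoverLen f m) :
    W4c5algebraiztannaka.IsNisCoverLen (Limits.pullback.snd f g) m := by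
  obtain ⟨Z, h0, h1, hmono, hcl, hsec⟩ := hf.flag
  haveI : QuasiCompact g := inferInstance
  haveI := hf.etale
  refine ⟨MorphismProperty.pullback_snd f g inferInstance, fun k => g ⁻¹' Z k, by simp [h0], by simp [h1],
    fun i j hij => Set.preimage_mono (hmono hij), fun k => ⟨(hcl k).1.preimage g.continuous, ?_⟩, fun k => ?_⟩
  · refine (hcl k).2.preimage g.continuous fun s hs hsc => ?_
    exact (QuasiCompact.isCompact_preimage (f := g) s hs hsc.isCompact).isRetrocompact (hs.preimage g.continuous)
  · obtain ⟨T, i, s, hi, hrange, hs⟩ := hsec k
    haveI := hi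
    refine ⟨pullback i g, pullback.snd i g, pullback.lift (pullback.fst i g ≫ s) (pullback.snd i g)
      (by rw [Category.assoc, hs, pullback.condition]), inferInstance, ?_, pullback.lift_snd _ _ _⟩
    show Set.range (pullback.snd i g) = _
    rw [Scheme.Pullback.range_snd]
    rw [show Set.range i = _ from hrange, Set.preimage_diff]

end Groth.Agent.S17865
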