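import Groth.Statements.S17866
import Mathlib
import Groth.Agent.FLCLib.Topology

set_option autoImplicit false
open CategoryTheory AlgebraicGeometry
universe u
open Algz

namespace Groth.Agent.S17866

open CategoryTheory Limits Topology W4c5algebraiztannaka

theorem constructible_of_compl {X : Scheme.{u}} [CompactSpace X] [QuasiSeparatedSpace X] {S : Set X}
    (hS : IsClosed S) (h : IsCompact Sᶜ) : IsConstructible S := by
  have h1 : IsConstructible Sᶜ := (h.isRetrocompact hS.isOpen_compl).isConstructible hS.isOpen_compl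
  simpa using h1.compl

theorem compl_compact {X : Scheme.{u}} [CompactSpace X] [QuasiSeparatedSpace X] {S : Set X}
    (hS : IsClosed S) (h : IsConstructible S) : IsCompact Sᶜ :=
  FLCLib.isCompact_of_isConstructible h.compl

section
variable {Y₁ Y₂ Y₃ : Scheme.{u}} [CompactSpace Y₂] [QuasiSeparatedSpace Y₂]
  [CompactSpace Y₃] [QuasiSeparatedSpace Y₃] (g₁ : Y₁ ⟶ Y₂) (g₂ : Y₂ ⟶ Y₃)

/-- One stratum of the second cover, refined by a flag of the first. -/
theorem refine_stratum {a b : Set Y₃} (ha : IsClosed a ∧ IsConstructible a) (hb : IsClosed b ∧ IsConstructible b)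
    (hab : a ⊆ b) (h : HasSectOver g₂ (b \ a)) {m : ℕ} {Z : Fin (m + 1) → Set Y₂}
    (h0 : Z 0 = ∅) (h1 : Z (Fin.last m) = Set.univ) (hmono : Monotone Z)
    (hcl : ∀ k, IsClosed (Z k) ∧ IsConstructible (Z k))
    (hsec : ∀ k : Fin m, HasSectOver g₁ (Z k.succ \ Z k.castSucc)) :
    ∃ V : Fin (m + 1) → Set Y₃, V 0 = a ∧ V (Fin.last m) = b ∧ Monotone V ∧
      (∀ k, IsClosed (V k) ∧ IsConstructible (V k)) ∧
      ∀ k : Fin m, HasSectOver (g₁ ≫ g₂) (V k.succ \ V k.castSucc) := by
  obtain ⟨T, g, s, hg, hr, hs⟩ := h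
  haveI := hg
  have hTc : CompactSpace T := by
    refine ⟨g.isEmbedding.isInducing.isCompact_iff.mpr ?_⟩
    rw [Set.image_univ, show Set.range g = b \ a from hr, Set.sdiff_eq, Set.inter_comm]
    exact (compl_compact ha.1 ha.2).inter_right hb.1
  haveI : QuasiSeparated g := inferInstance
  haveI : QuasiSeparatedSpace T := quasiSeparatedSpace_of_quasiSeparated g
  haveI : QuasiCompact s := inferInstance
  refine ⟨fun k => a ∪ g '' (s ⁻¹' Z k), by simp [h0], ?_, fun i j hij =>
    Set.union_subset_union_right _ (Set.image_mono (Set.preimage_mono (hmono hij))), fun k => ?_, fun k => ?_⟩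
  · simp only [h1, Set.preimage_univ, Set.image_univ]
    rw [show Set.range g = b \ a from hr, Set.union_diff_self, Set.union_eq_right.mpr hab]
  · have hA : IsClosed (a ∪ g '' (s ⁻¹' Z k)) := by
      obtain ⟨C, hC, hCeq⟩ := g.isEmbedding.isInducing.isClosed_iff.mp ((hcl k).1.preimage s.continuous)
      have : a ∪ g '' (s ⁻¹' Z k) = a ∪ (C ∩ b) := by
        rw [← hCeq, Set.image_preimage_eq_inter_range, show Set.range g = b \ a from hr]
        ext x; simp only [Set.mem_union, Set.mem_inter_iff, Set.mem_sdiff]; tauto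
      rw [this]; exact ha.1.union (hC.inter hb.1)
    refine ⟨hA, constructible_of_compl hA ?_⟩
    have : (a ∪ g '' (s ⁻¹' Z k))ᶜ = bᶜ ∪ g '' (s ⁻¹' (Z k)ᶜ) := by
      rw [Set.preimage_compl, Set.compl_eq_univ_diff (s ⁻¹' Z k), Set.image_sdiff g.isEmbedding.injective,
        Set.image_univ, show Set.range g = b \ a from hr]
      have hsub : g '' (s ⁻¹' Z k) ⊆ b \ a := hr ▸ Set.image_subset_range _ _
      ext x
      have hx := @hsub x
      have hx' := @hab x
      simp only [Set.mem_union, Set.mem_compl_iff, Set.mem_sdiff] at hx ⊢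
      tauto
    rw [this]
    exact (compl_compact hb.1 hb.2).union ((QuasiCompact.isCompact_preimage (f := s) _ (hcl k).1.isOpen_compl
      (compl_compact (hcl k).1 (hcl k).2)).image g.continuous)
  · obtain ⟨T₁, i₁, s₁, hi₁, hr₁, hs₁⟩ := hsec k
    haveI := hi₁
    refine ⟨pullback s i₁, pullback.fst s i₁ ≫ g, pullback.snd s i₁ ≫ s₁, inferInstance, ?_, ?_⟩
    · show Set.range (pullback.fst s i₁ ≫ g) = _
      rw [show ⇑(pullback.fst s i₁ ≫ g) = g ∘ pullback.fst s i₁ from funext fun _ => rfl, Set.range_comp,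
        Scheme.Pullback.range_fst, show Set.range i₁ = _ from hr₁, Set.preimage_sdiff, Set.image_sdiff g.isEmbedding.injective]
      have hsub : ∀ k, g '' (s ⁻¹' Z k) ⊆ b \ a := fun k => hr ▸ Set.image_subset_range _ _
      ext x
      have := @hsub k.succ x
      simp only [Set.mem_union, Set.mem_sdiff] at this ⊢
      tauto
    · rw [Category.assoc, ← Category.assoc s₁, hs₁, ← Category.assoc, ← pullback.condition, Category.assoc, hs]

theorem comp_mul {m₁ m₂ : ℕ} (h₁ : IsNisCoverLen g₁ m₁) (h₂ : IsNisCoverLen g₂ m₂) :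
    IsNisCoverLen (g₁ ≫ g₂) (m₁ * m₂) := by
  classical
  haveI := h₁.etale
  haveI := h₂.etale
  obtain ⟨Z, z0, z1, zm, zc, zs⟩ := h₁.flag
  obtain ⟨W, w0, w1, wm, wc, ws⟩ := h₂.flag
  choose V v0 v1 vm vc vs using fun k : Fin m₂ =>
    refine_stratum g₁ g₂ (wc k.castSucc) (wc k.succ) (wm k.castSucc_lt_succ.le) (ws k) z0 z1 zm zc zs
  refine ⟨inferInstance, ?_⟩
  rcases Nat.eq_zero_or_pos m₁ with rfl | hm
  · have hu : (Set.univ : Set Y₃) = ∅ := by
      have : ∀ n : Fin (m₂ + 1), W n = ∅ := fun n => by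
        induction n using Fin.induction with
        | zero => exact w0
        | succ k ih =>
          rw [← v1 k, show Fin.last 0 = 0 from rfl, v0 k, ih]
      rw [← w1, this]
    refine ⟨fun _ => ∅, rfl, hu.symm, monotone_const, fun _ => ⟨isClosed_empty, IsConstructible.empty⟩, ?_⟩
    intro k; exact absurd k.2 (by simp)
  let F : Fin (m₁ * m₂ + 1) → Set Y₃ := fun n =>
    if h : n.val / m₁ < m₂ then V ⟨n.val / m₁, h⟩ ⟨n.val % m₁, Nat.lt_succ_of_lt (Nat.mod_lt _ hm)⟩ else Set.univ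
  have hstep : ∀ n : Fin (m₁ * m₂), ∃ (q : Fin m₂) (r : Fin m₁),
      F n.castSucc = V q r.castSucc ∧ F n.succ = V q r.succ := by
    intro n
    have hq : n.val / m₁ < m₂ := Nat.div_lt_of_lt_mul n.2
    refine ⟨⟨_, hq⟩, ⟨n.val % m₁, Nat.mod_lt _ hm⟩, dif_pos hq, ?_⟩
    have hd := Nat.div_add_mod n.val m₁
    have hml := Nat.mod_lt n.val hm
    by_cases hr : n.val % m₁ + 1 < m₁
    · have e1 : (n.val + 1) / m₁ = n.val / m₁ := (Nat.div_eq_iff hm).mpr (by have hc := Nat.mul_comm (n.val / m₁) m₁; omega)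
      have e2 : (n.val + 1) % m₁ = n.val % m₁ + 1 := by
        have := Nat.div_add_mod (n.val + 1) m₁; rw [e1] at this; omega
      have h' : n.succ.val / m₁ < m₂ := by rw [Fin.val_succ, e1]; exact hq
      exact (dif_pos h').trans (by congr 1 <;> simp [Fin.ext_iff, e1, e2])
    · have hr' : n.val % m₁ + 1 = m₁ := by omega
      have e0 : n.val + 1 = m₁ * (n.val / m₁ + 1) := by rw [Nat.mul_add, Nat.mul_one]; omega
      have e1 : (n.val + 1) / m₁ = n.val / m₁ + 1 := by rw [e0, Nat.mul_div_cancel_left _ hm]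
      have e2 : (n.val + 1) % m₁ = 0 := by rw [e0, Nat.mul_mod_right]
      have el : (⟨n.val % m₁, Nat.mod_lt _ hm⟩ : Fin m₁).succ = Fin.last m₁ := Fin.ext (by simpa using hr')
      rw [el, v1]
      by_cases h' : n.succ.val / m₁ < m₂
      · refine (dif_pos h').trans ?_
        have : (⟨n.succ.val % m₁, Nat.lt_succ_of_lt (Nat.mod_lt _ hm)⟩ : Fin (m₁ + 1)) = 0 := Fin.ext (by simpa using e2)
        rw [this, v0]
        exact congrArg W (Fin.ext (by simp [e1]))
      · refine (dif_neg h').trans ?_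
        rw [← w1]
        refine congrArg W (Fin.ext ?_)
        rw [Fin.val_succ, e1] at h'
        simp only [Fin.val_last, Fin.val_succ]
        omega
  refine ⟨F, ?_, ?_, ?_, fun n => ?_, fun n => ?_⟩
  · simp only [F, Fin.val_zero, Nat.zero_div, Nat.zero_mod]
    by_cases h : 0 < m₂
    · rw [dif_pos h]; exact (v0 _).trans ((congrArg W (Fin.ext rfl)).trans w0)
    · rw [dif_neg h]
      obtain rfl : m₂ = 0 := by omega
      exact w1.symm.trans w0
  · simp only [F, Fin.val_last, Nat.mul_div_cancel_left _ hm, lt_self_iff_false, dif_neg, not_false_eq_true]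
  · refine Fin.monotone_iff_le_succ.mpr fun n => ?_
    obtain ⟨q, r, e1, e2⟩ := hstep n
    rw [e1, e2]; exact vm q r.castSucc_lt_succ.le
  · simp only [F]
    split_ifs
    · exact vc _ _
    · exact ⟨isClosed_univ, IsConstructible.univ⟩
  · obtain ⟨q, r, e1, e2⟩ := hstep n
    rw [e1, e2]; exact vs q r

end

/-- In the case of schemes. Let `g₁ : Y₁ ⟶ Y₂` and `g₂ : Y₂ ⟶ Y₃` be Nisnevich covers of quasi-compact
quasi-separated schemes of lengths at most `m₁` and `m₂` respectively. Then `g₁ ≫ g₂` is a Nisnevich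
cover of length at most `m₁ * m₂`. (The original form is for quasi-compact quasi-separated algebraic
spaces; stated here for schemes.) -/
theorem result {Y₁ Y₂ Y₃ : Scheme.{u}} (g₁ : Y₁ ⟶ Y₂) (g₂ : Y₂ ⟶ Y₃)
    [CompactSpace Y₁] [QuasiSeparatedSpace Y₁] [CompactSpace Y₂] [QuasiSeparatedSpace Y₂]
    [CompactSpace Y₃] [QuasiSeparatedSpace Y₃] (m₁ m₂ : ℕ)
    (h₁ : W4c5algebraiztannaka.IsNisCoverLen g₁ m₁) (h₂ : W4c5algebraiztannaka.IsNisCoverLen g₂ m₂) :
    W4c5algebraiztannaka.IsNisCoverLen (g₁ ≫ g₂) (m₁ * m₂) := by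
  exact comp_mul g₁ g₂ h₁ h₂

end Groth.Agent.S17866
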