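import Groth.Statements.S17869
import Groth.Prelude.Def_W4c5algebraiztannakaNis
import Mathlib

set_option autoImplicit false
open CategoryTheory AlgebraicGeometry
universe u
open Algz

namespace Groth.Agent.S17869

open CategoryTheory CategoryTheory.Limits AlgebraicGeometry Topology
set_option backward.isDefEq.respectTransparency false

/-- In the case of schemes. Let `U` be a quasi-compact quasi-separated scheme and `V 0, …, V (k-1)`
quasi-compact open subschemes which cover `U`. Then the canonical morphism from the disjoint union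
`∐ V i` to `U` is a Nisnevich cover of length at most `k`. (The published example states more
generally that, for a Nisnevich cover of `Y` of length at most `m` with source `U`, the composite
from the disjoint union `∐ V i` to `Y` has length at most `m * k`; stated here is the case of the
identity of `U`, to which the published argument reduces, and the general bound follows by composing
Nisnevich covers. The original form is for quasi-compact quasi-separated algebraic spaces, with the
members of the cover quasi-compact; stated here for schemes.) -/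
theorem result {U : Scheme.{u}} [CompactSpace U] [QuasiSeparatedSpace U]
    (k : ℕ) (V : Fin k → U.Opens) (hV : ∀ i, IsCompact (V i : Set U)) (hcov : ⨆ i, V i = ⊤) :
    W4c5algebraiztannaka.IsNisCoverLen
      (Limits.Sigma.desc (fun i => (V i).ι) : (∐ fun i => ((V i : U.Opens) : Scheme.{u})) ⟶ U) k := by
  have het : Etale (Limits.Sigma.desc (fun i => (V i).ι) : (∐ fun i => ((V i : U.Opens) : Scheme.{u})) ⟶ U) :=
    IsZariskiLocalAtSource.sigmaDesc (fun i => inferInstance)
  let W : Fin (k + 1) → U.Opens := fun j => ⨆ i : {i : Fin k // (j : ℕ) ≤ i}, V i.1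
  refine ⟨het, fun j => ((W j : Set U))ᶜ, ?_, ?_, ?_, fun j => ⟨(W j).isOpen.isClosed_compl, ?_⟩, fun j => ?_⟩
  · show ((W 0 : Set U))ᶜ = ∅
    rw [show W 0 = ⊤ from eq_top_iff.2 (hcov ▸ iSup_le fun i =>
      le_iSup (fun i : {i : Fin k // ((0 : Fin (k+1)) : ℕ) ≤ i} => V i.1) ⟨i, by simp⟩)]
    simp
  · show ((W (Fin.last k) : Set U))ᶜ = Set.univ
    rw [show W (Fin.last k) = ⊥ from eq_bot_iff.2 (iSup_le fun i => absurd i.2 (by
      have := i.1.isLt; simp only [Fin.val_last]; omega))]
    simp
  · intro a b hab
    exact Set.compl_subset_compl.2 (show W b ≤ W a from iSup_le fun i =>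
      le_iSup (fun i : {i : Fin k // (a : ℕ) ≤ i} => V i.1) ⟨i.1, le_trans hab i.2⟩)
  · have hc : IsCompact (W j : Set U) := by
      rw [TopologicalSpace.Opens.coe_iSup]
      exact isCompact_iUnion fun i => hV i.1
    exact ((hc.isRetrocompact (W j).isOpen).isConstructible (W j).isOpen).compl
  · let C : Set U := (W j.succ : Set U)ᶜ
    let Z : TopologicalSpace.Closeds (V j : Scheme.{u}) :=
      ⟨(V j).ι ⁻¹' C, (W j.succ).isOpen.isClosed_compl.preimage (V j).ι.continuous⟩
    let I := Scheme.IdealSheafData.vanishingIdeal Z
    refine ⟨I.subscheme, I.subschemeι ≫ (V j).ι, I.subschemeι ≫ Limits.Sigma.ι (fun i => ((V i : U.Opens) : Scheme.{u})) j,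
      inferInstance, ?_, by rw [Category.assoc, Limits.Sigma.ι_desc]⟩
    have hW : W j.castSucc = W j.succ ⊔ V j := by
      refine le_antisymm (iSup_le fun i => ?_) (sup_le (iSup_le fun i => ?_) ?_)
      · rcases Nat.lt_or_eq_of_le (show (j : ℕ) ≤ i.1 from i.2) with h | h
        · exact le_sup_of_le_left (le_iSup (fun i : {i : Fin k // (j.succ : ℕ) ≤ i} => V i.1)
            ⟨i.1, by simp only [Fin.val_succ]; omega⟩)
        · rw [show i.1 = j from (Fin.ext h).symm]; exact le_sup_right
      · exact le_iSup (fun i : {i : Fin k // (j.castSucc : ℕ) ≤ i} => V i.1)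
          ⟨i.1, by have := i.2; simp only [Fin.val_succ, Fin.val_castSucc] at this ⊢; omega⟩
      · exact le_iSup (fun i : {i : Fin k // (j.castSucc : ℕ) ≤ i} => V i.1) ⟨j, le_rfl⟩
    have hr : Set.range I.subschemeι = (V j).ι ⁻¹' C := by
      rw [Scheme.IdealSheafData.range_subschemeι, Scheme.IdealSheafData.coe_support_vanishingIdeal]
      rfl
    show Set.range ((V j).ι ∘ I.subschemeι) = _
    rw [Set.range_comp, hr, Set.image_preimage_eq_inter_range, Scheme.Opens.range_ι]
    show C ∩ (V j : Set U) = (W j.succ : Set U)ᶜ \ (W j.castSucc : Set U)ᶜ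
    rw [hW]
    ext x
    simp [C]

end Groth.Agent.S17869
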