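import Groth.Statements.S17870
import Groth.Agent.AlgzSize.Step
-- import your own Groth.Agent.* helpers here

set_option autoImplicit false
set_option backward.isDefEq.respectTransparency false
open CategoryTheory
universe u
attribute [local instance] HasDerivedCategory.standard
open Algz

namespace Groth.Agent.S17870

/-- There is a function `F : ℕ → ℕ`, independent of the ring, such that for every commutative ring `R`
and every perfect complex over `R`, given as a bounded complex `E` of finitely generated projective
modules: if `E` locally has size at most `N` (after base change to some Nisnevich cover `Spec B ⟶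
Spec R` of length at most `N` it becomes isomorphic in `D(B)` to a complex vanishing outside `[-N,
N]` whose terms are projective quotients of `B^N`), then it globally has size at most `F N` (it is
isomorphic in `D(R)` to such a complex over `R` with bound `F N`). -/
theorem result :
    ∃ F : ℕ → ℕ, ∀ (R : Type u) [CommRing R] (E : DRing.Cx R) (a b : ℤ),
      DRing.VanishesOutside E a b → DRing.TermwiseFiniteProjective E →
      ∀ N : ℕ, W4c5algebraiztannaka.LocSize E N → W4c5algebraiztannaka.GlobSize R (DRing.toD E) (F N) := by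
  refine ⟨fun N => max N (Groth.Agent.AlgzSize.bound N (2 * N) N), ?_⟩
  intro R _ E a b hab hE N h
  obtain ⟨B, _, φ, hφ, P, ⟨hP1, hP2⟩, e⟩ := h
  have hE' : Groth.Agent.DRingLib.Bdd Groth.Agent.DRingLib.FProj E := ⟨⟨a, b, hab⟩, hE⟩
  have hloc : Groth.Agent.AlgzSize.Loc N E (-(N : ℤ)) (-(N : ℤ) + (2 * N : ℕ)) N :=
    ⟨B, inferInstance, φ, hφ, P, ⟨fun i hi => hP1 i (by push_cast at hi; omega), hP2⟩, e⟩
  obtain ⟨Q, hQ, eQ⟩ := Groth.Agent.AlgzSize.sized_of_loc N (2 * N) N (-(N : ℤ)) E hE' hloc
  have hQ' := hQ.mono (lo' := -((max N (Groth.Agent.AlgzSize.bound N (2 * N) N) : ℕ) : ℤ))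
    (hi' := ((max N (Groth.Agent.AlgzSize.bound N (2 * N) N) : ℕ) : ℤ))
    (by omega) (by omega) (le_max_right N _)
  exact ⟨Q, ⟨hQ'.1, hQ'.2⟩, eQ⟩

end Groth.Agent.S17870
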