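import Groth.Statements.S17871
import Mathlib
import Groth.Agent.ProdFPLib.Basic
import Groth.Agent.TildePullback.Basic
import Groth.Agent.TildeFinLib.Basic
import Groth.Agent.TildeD.Main
import Groth.Agent.PullbackMod.Props
import Groth.Agent.S17860

set_option autoImplicit false
open CategoryTheory AlgebraicGeometry Opposite
universe u
open Algz

namespace Groth.Agent.S17871

open CategoryTheory CategoryTheory.Limits AlgebraicGeometry Opposite
open scoped TensorProduct

set_option backward.isDefEq.respectTransparency false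
set_option maxHeartbeats 800000

theorem pb_to_ext {A B : CommRingCat.{u}} (φ : A ⟶ B) (M : ModuleCat.{u} A) {p q : ℕ} (h : ProdFPLib.PB A M p q) :
    ProdFPLib.PB B ((ModuleCat.extendScalars.{u, u, u} φ.hom).obj M) p q := by
  letI := φ.hom.toAlgebra
  exact h.baseChange B

theorem pb_of_ext {A : CommRingCat.{u}} {B : Type u} [CommRing B] [alg : Algebra A B] (i : A ⟶ CommRingCat.of B)
    (hi : i.hom = algebraMap A B) (M : ModuleCat.{u} A) {p q : ℕ}
    (h : ProdFPLib.PB B ((ModuleCat.extendScalars.{u, u, u} i.hom).obj M) p q) : ProdFPLib.PB B (B ⊗[A] M) p q := by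
  obtain rfl : alg = RingHom.toAlgebra i.hom := Algebra.algebra_ext _ _ (fun r => by rw [hi]; rfl)
  exact h

/-- Local presentations give uniformly bounded presentations of pullbacks to affine schemes. -/
theorem pb_pullback {X : Scheme.{u}} (F : X.Modules) [Coh.IsQCoh F] {c : ℕ} (W : Fin c → X.Opens)
    (hW : ∀ a, IsAffineOpen (W a)) (hcov : ⨆ a, W a = ⊤) (N : ∀ a, ModuleCat.{u} Γ(X, W a))
    (eN : ∀ a, Nonempty (tilde (N a) ≅ (Scheme.Modules.pullback (hW a).fromSpec).obj F))
    (p q : Fin c → ℕ) (hpq : ∀ a, ProdFPLib.PB Γ(X, W a) (N a) (p a) (q a))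
    (A : CommRingCat.{u}) (f : Spec A ⟶ X) :
    ∃ M : ModuleCat.{u} A, Nonempty (tilde M ≅ (Scheme.Modules.pullback f).obj F) ∧
      ProdFPLib.PB A M (∑ a, p a) (∑ a, ((∑ b, p b) + q a)) := by
  haveI : Coh.IsQCoh ((Scheme.Modules.pullback f).obj F) := PullbackMod.isQCoh_pullback f F
  obtain ⟨M, ⟨eM⟩⟩ := Groth.Agent.TildeD.qcoh_exists_tilde A ((Scheme.Modules.pullback f).obj F)
  refine ⟨M, ⟨eM⟩, ?_⟩
  obtain ⟨e, he, hecov⟩ := S17860.exists_basicOpen_cover (fun a => f ⁻¹ᵁ W a) (by
    rw [eq_top_iff]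
    intro z _
    obtain ⟨a, ha⟩ := TopologicalSpace.Opens.mem_iSup.mp (hcov ▸ trivial : f z ∈ ⨆ a, W a)
    exact TopologicalSpace.Opens.mem_iSup.mpr ⟨a, ha⟩)
  have htop : Ideal.span (Set.range e) = ⊤ := by
    by_contra hne
    obtain ⟨P, hP, hle⟩ := Ideal.exists_le_maximal _ hne
    obtain ⟨i, hi⟩ := hecov ⟨P, hP.isPrime⟩
    exact hi (hle (Ideal.subset_span ⟨i, rfl⟩))
  obtain ⟨r, hr⟩ := (Submodule.mem_span_range_iff_exists_fun A).mp ((Ideal.eq_top_iff_one _).mp htop : (1 : A) ∈ Ideal.span (Set.range e))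
  let e' : Fin c → A := fun a => r a * e a
  have he' : ∑ a, e' a = 1 := by simpa [smul_eq_mul] using hr
  refine ProdFPLib.PB.of_local e' he' p q fun a => ?_
  let Al : CommRingCat.{u} := CommRingCat.of (Localization.Away (e' a))
  let i : A ⟶ Al := CommRingCat.ofHom (algebraMap A (Localization.Away (e' a)))
  have hrange : Set.range (Spec.map i ≫ f) ⊆ Set.range (hW a).fromSpec := by
    rintro _ ⟨z, rfl⟩
    rw [IsAffineOpen.range_fromSpec]
    apply he a
    show e a ∉ (PrimeSpectrum.comap i.hom z).asIdeal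
    intro hmem
    have h1 : e' a ∈ (PrimeSpectrum.comap i.hom z).asIdeal := Ideal.mul_mem_left _ _ hmem
    exact z.isPrime.ne_top (Ideal.eq_top_of_isUnit_mem _ h1
      (IsLocalization.Away.algebraMap_isUnit (e' a)))
  let l : Spec Al ⟶ Spec Γ(X, W a) := IsOpenImmersion.lift (hW a).fromSpec (Spec.map i ≫ f) hrange
  let φ : Γ(X, W a) ⟶ Al := Spec.preimage l
  have hφ : Spec.map φ ≫ (hW a).fromSpec = Spec.map i ≫ f := by
    rw [show Spec.map φ = l from Spec.map_preimage l]
    exact IsOpenImmersion.lift_fac _ _ _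
  obtain ⟨ea⟩ := eN a
  let iso : (ModuleCat.extendScalars.{u, u, u} φ.hom).obj (N a) ≅ (ModuleCat.extendScalars.{u, u, u} i.hom).obj M :=
    (tilde.fullyFaithfulFunctor (R := Al)).preimageIso
      (((TildePullback.tildePullbackIso φ).app (N a)).symm ≪≫
        (Scheme.Modules.pullback (Spec.map φ)).mapIso ea ≪≫
        (Scheme.Modules.pullbackComp (Spec.map φ) (hW a).fromSpec).app F ≪≫
        (Scheme.Modules.pullbackCongr hφ).app F ≪≫
        ((Scheme.Modules.pullbackComp (Spec.map i) f).app F).symm ≪≫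
        (Scheme.Modules.pullback (Spec.map i)).mapIso eM.symm ≪≫
        (TildePullback.tildePullbackIso i).app M)
  refine pb_of_ext i rfl M ?_
  exact (pb_to_ext φ (N a) (hpq a)).equiv iso.toLinearEquiv

theorem transfer (A : CommRingCat.{u}) (M : ModuleCat.{u} A) (G : (Spec A).Modules) (e : tilde M ≅ G) (p q : ℕ)
    (h : ProdFPLib.PB A M p q) : ProdFPLib.PB Γ(Spec A, ⊤) Γ(G, ⊤) p q := by
  have h1 : ProdFPLib.PB A ((modulesSpecToSheaf.obj (tilde M)).presheaf.obj (op ⊤)) p q :=
    h.equiv (tilde.isoTop M).toLinearEquiv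
  have h2 : ProdFPLib.PB A Γ(G, ⊤) p q := h1.equiv (moduleSpecΓFunctor.mapIso e).toLinearEquiv
  exact h2.of_surjective Γ(Spec A, ⊤) (TildeFinLib.bijective_algebraMap_top A).2

/-- Let `X` be a quasi-compact quasi-separated scheme, `A i` a family of commutative rings indexed by an
arbitrary type together with morphisms `f i : Spec (A i) ⟶ X`, and `F` an `O_X`-module locally of
finite presentation (a finitely presented quasi-coherent sheaf). Then the product over `i` of the
modules of global sections of the pullbacks `(f i)^* F` is a finitely presented module over the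
product of the rings of global sections `Γ(Spec (A i), O)` (that is, over `Π i, A i`). The point is
that the index set may be infinite. -/
theorem result (X : Scheme.{u}) [CompactSpace X] [QuasiSeparatedSpace X]
    {ι : Type u} (A : ι → CommRingCat.{u}) (f : ∀ i, Spec (A i) ⟶ X) (F : X.Modules) (hF : CohB1.IsFP F) :
    Module.FinitePresentation (∀ i, Γ(Spec (A i), ⊤))
      (∀ i, Γ((Scheme.Modules.pullback (f i)).obj F, ⊤)) := by
  classical
  haveI hq : Coh.IsQCoh F := inferInstanceAs (SheafOfModules.IsQuasicoherent (R := X.ringCatSheaf) F)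
  obtain ⟨t, ht⟩ := isCompact_univ.elim_finite_subcover (fun V : X.affineOpens => (V.1 : Set X))
    (fun V => V.1.2) (fun y _ => by
      obtain ⟨V, hV, hy, -⟩ := exists_isAffineOpen_mem_and_subset (x := y) (U := ⊤) trivial
      exact Set.mem_iUnion.mpr ⟨⟨V, hV⟩, hy⟩)
  let W : Fin t.card → X.Opens := fun a => (t.equivFin.symm a).1.1
  have hW : ∀ a, IsAffineOpen (W a) := fun a => (t.equivFin.symm a).1.2
  have hcov : ⨆ a, W a = ⊤ := by
    rw [eq_top_iff]
    intro y _
    obtain ⟨V, hVt, hy⟩ : ∃ V ∈ t, y ∈ V.1 := by simpa using ht (Set.mem_univ y)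
    refine TopologicalSpace.Opens.mem_iSup.mpr ⟨t.equivFin ⟨V, hVt⟩, ?_⟩
    simp only [W, Equiv.symm_apply_apply]
    exact hy
  have hN : ∀ a, ∃ N : ModuleCat.{u} Γ(X, W a),
      Nonempty (tilde N ≅ (Scheme.Modules.pullback (hW a).fromSpec).obj F) ∧ Module.FinitePresentation Γ(X, W a) N := by
    intro a
    haveI : Coh.IsQCoh ((Scheme.Modules.pullback (hW a).fromSpec).obj F) := PullbackMod.isQCoh_pullback _ F
    obtain ⟨N, ⟨eN⟩⟩ := Groth.Agent.TildeD.qcoh_exists_tilde Γ(X, W a) ((Scheme.Modules.pullback (hW a).fromSpec).obj F)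
    haveI := QCohLib.finitePresentation_sections F hF (hW a)
    haveI : Module.FinitePresentation Γ(X, W a) (moduleSpecΓFunctor.obj ((Scheme.Modules.pullback (hW a).fromSpec).obj F)) :=
      Module.FinitePresentation.of_equiv ((QCohLib.topEquiv F (hW a)).symm ≪≫ₗ
        (moduleSpecΓFunctor.mapIso ((Scheme.Modules.restrictFunctorIsoPullback (hW a).fromSpec).app F)).toLinearEquiv)
    exact ⟨N, ⟨eN⟩, Module.FinitePresentation.of_equiv
      (moduleSpecΓFunctor.mapIso eN.symm ≪≫ (tilde.toTildeΓNatIso.app N).symm).toLinearEquiv⟩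
  choose N eN hfp using hN
  choose p q hpq using fun a => (haveI := hfp a; ProdFPLib.exists_pb (A := Γ(X, W a)) (M := N a))
  refine ProdFPLib.finitePresentation_pi (∑ a, p a) (∑ a, ((∑ b, p b) + q a)) fun i => ?_
  obtain ⟨M, ⟨e⟩, hM⟩ := pb_pullback F W hW hcov N eN p q hpq (A i) (f i)
  exact transfer (A i) M _ e _ _ hM

end Groth.Agent.S17871
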