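import Groth.Statements.S17872
import Mathlib

set_option autoImplicit false
universe u v
open GRRSing

namespace Groth.Agent.S17872

open Polynomial

/-- Let H be a vector space over a field K and let b_0, …, b_l be elements of H. If the sum of the t ^ i
• b_i vanishes for infinitely many scalars t of K, then all the b_i are zero. -/
theorem result {K : Type u} {H : Type v} [Field K] [AddCommGroup H] [Module K H]
    (l : ℕ) (b : Fin (l + 1) → H)
    (h : Set.Infinite {t : K | ∑ i : Fin (l + 1), t ^ (i : ℕ) • b i = 0}) :
    b = 0 := by
  funext i
  apply (Module.forall_dual_apply_eq_zero_iff K (b i)).1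
  intro φ
  let P : K[X] := ∑ j : Fin (l+1), C (φ (b j)) * Polynomial.X ^ (j:ℕ)
  have hP : P = 0 := P.eq_zero_of_infinite_isRoot (h.mono fun t ht => by
    have := congrArg φ ht
    simp only [map_sum, map_smul, smul_eq_mul, map_zero] at this
    simp only [Set.mem_setOf_eq, IsRoot, P, eval_finsetSum, eval_mul, eval_C, eval_pow, eval_X]
    rw [← this]; exact Finset.sum_congr rfl fun _ _ => mul_comm _ _)
  have := congrArg (fun f => coeff f i) hP
  simpa [P, finsetSum_coeff, coeff_C_mul, coeff_X_pow, Fin.val_inj] using this

end Groth.Agent.S17872
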