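import Groth.Statements.S17873
import Groth.Agent.Depth.Basic
import Mathlib.Algebra.Module.SpanRankOperations
-- import your own Groth.Agent.* helpers here

set_option autoImplicit false
set_option backward.isDefEq.respectTransparency false
universe u
open GRRSing

namespace Groth.Agent.S17873

/-- Let T be a Cohen–Macaulay Noetherian local ring, J a proper ideal of T, j the grade of J (the
J-depth of T, i.e. the supremum of the lengths of T-regular sequences inside J; a natural number
here) and c the minimal number of generators of J (equal to the dimension of J/𝔪J over the residue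
field). Then j ≤ c and there is a generating sequence t_1, …, t_c of J such that t_1, …, t_j is a
T-regular sequence. (The published statement does not exclude J = T; there c = 1 while the grade,
read as the depth of T, can exceed 1, so this row assumes J proper.) -/
theorem result {T : Type u} [CommRing T] [LocCoh.IsCohenMacaulayLocalRing T]
    (J : Ideal T) (hJ : J ≠ ⊤) (j : ℕ) (hj : LocCoh.idealDepth J T = j) :
    j ≤ Submodule.spanFinrank J ∧
      ∃ ts : List T, ts.length = Submodule.spanFinrank J ∧ Ideal.ofList ts = J ∧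
        RingTheory.Sequence.IsRegular T (ts.take j) := by
  classical
  set m := IsLocalRing.maximalIdeal T with hm
  letI : Field (T ⧸ m) := Ideal.Quotient.field m
  set V := (J : Submodule T T) ⧸ (m • (⊤ : Submodule T J)) with hV
  let q : J →ₗ[T] V := (m • (⊤ : Submodule T J)).mkQ
  have hc : Module.finrank (T ⧸ m) V = Submodule.spanFinrank J :=
    (IsLocalRing.spanFinrank_eq_finrank_quotient J (IsNoetherian.noetherian J)).symm
  haveI : Module.Finite (T ⧸ m) V := Module.Finite.of_restrictScalars_finite T _ _
  let Good : List T → Prop := fun ts =>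
    ∃ h : ∀ t ∈ ts, t ∈ J, LinearIndependent (T ⧸ m) fun i : Fin ts.length => q ⟨ts.get i, h _ (List.get_mem ts i)⟩
  have hP : ∀ (ts : List T) (h : ∀ t ∈ ts, t ∈ J),
      (∀ x : J, q x ∈ Submodule.span (T ⧸ m) (Set.range fun i : Fin ts.length => q ⟨ts.get i, h _ (List.get_mem ts i)⟩)) →
        Ideal.ofList ts = J := by
    intro ts h hall
    refine le_antisymm (Ideal.span_le.2 h) ?_
    refine Submodule.le_of_le_smul_of_le_jacobson_bot (I := m) (IsNoetherian.noetherian J)
      (IsLocalRing.maximalIdeal_le_jacobson _) fun x hx => ?_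
    have h1 := hall ⟨x, hx⟩
    rw [← Submodule.restrictScalars_mem T, Submodule.restrictScalars_span _ _ Ideal.Quotient.mk_surjective,
      Set.range_comp' q, Submodule.span_image] at h1
    obtain ⟨y, hy, hxy⟩ := h1
    replace hxy := (Submodule.Quotient.eq _).1 hxy
    have h2 : (y : T) ∈ Ideal.ofList ts := by
      have h3 := Submodule.apply_mem_span_image_of_mem_span (J : Submodule T T).subtype hy
      refine Submodule.span_mono ?_ h3
      rintro _ ⟨_, ⟨i, rfl⟩, rfl⟩
      exact List.get_mem ts i
    have h4 : ((y - ⟨x, hx⟩ : J) : T) ∈ m • (J : Submodule T T) := by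
      have := Submodule.mem_map_of_mem (f := (J : Submodule T T).subtype) hxy
      rwa [Submodule.map_smul'', Submodule.map_subtype_top] at this
    rw [Submodule.mem_sup]
    exact ⟨y, h2, -((y - ⟨x, hx⟩ : J) : T), neg_mem h4, by simp⟩
  have hstep : ∀ (ts : List T) (P : Finset (Ideal T)), (∀ p ∈ P, p.IsPrime ∧ ¬ J ≤ p) → Good ts →
      Ideal.ofList ts ≠ J → ∃ t, t ∈ J ∧ Good (ts ++ [t]) ∧ ∀ p ∈ P, t ∉ p := by
    intro ts P hPp hgood hne
    obtain ⟨h, hli⟩ := hgood
    set S := Submodule.span (T ⧸ m) (Set.range fun i : Fin ts.length => q ⟨ts.get i, h _ (List.get_mem ts i)⟩)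
    let A : Ideal T := ((S.restrictScalars T).comap q).map (J : Submodule T T).subtype
    obtain ⟨t, htJ, htA, htP⟩ : ∃ t ∈ J, t ∉ A ∧ ∀ p ∈ P, t ∉ p := by
      by_contra hno
      push Not at hno
      let f : Option (Ideal T) → Ideal T := fun o => o.elim A id
      have hsub : (J : Set T) ⊆ ⋃ o ∈ (↑(insert none (P.image some)) : Set (Option (Ideal T))), (f o : Set T) := by
        intro t ht
        by_cases htA : t ∈ A
        · exact Set.mem_biUnion (x := none) (by simp) htA
        · obtain ⟨p, hp, htp⟩ := hno t ht htA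
          exact Set.mem_biUnion (x := some p) (by simp [hp]) htp
      obtain ⟨o, ho, hle⟩ := (Ideal.subset_union_prime (f := f) none none (fun o ho h1 _ => by
        rcases o with - | p
        · exact absurd rfl h1
        · exact (hPp p (by simpa using ho)).1)).1 hsub
      rcases o with - | p
      · refine hne (hP ts h fun x => ?_)
        obtain ⟨y, hy, hyx⟩ := hle x.2
        rw [show x = y from Subtype.ext hyx.symm]
        exact hy
      · exact (hPp p (by simpa using ho)).2 hle
    have h' : ∀ z ∈ ts ++ [t], z ∈ J := fun z hz =>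
      (List.mem_append.1 hz).elim (h z) (fun hz => by rw [List.mem_singleton] at hz; exact hz ▸ htJ)
    refine ⟨t, htJ, ⟨h', ?_⟩, htP⟩
    have hnot : q ⟨t, htJ⟩ ∉ S := fun hmem => htA ⟨⟨t, htJ⟩, hmem, rfl⟩
    have hsn := linearIndependent_finSnoc.2 ⟨hli, hnot⟩
    have hlen : (ts ++ [t]).length = ts.length + 1 := by simp
    have heq : (fun i : Fin (ts ++ [t]).length => q ⟨(ts ++ [t]).get i, h' _ (List.get_mem _ i)⟩) =
        (Fin.snoc (fun i : Fin ts.length => q ⟨ts.get i, h _ (List.get_mem ts i)⟩) (q ⟨t, htJ⟩) :
          Fin (ts.length + 1) → V) ∘ Fin.cast hlen := by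
      funext i
      simp only [Function.comp_apply, Fin.snoc]
      split_ifs with hi
      · simp at hi ⊢
        congr 2
        exact List.getElem_append_left hi
      · simp at hi
        have := i.2
        simp at this
        have hiv : (i : ℕ) = ts.length := by omega
        simp
        congr 2
        simp [hiv]
    rw [heq]
    exact hsn.comp _ (Fin.cast_injective _)
  have hcard : ∀ ts, Good ts → ts.length ≤ Submodule.spanFinrank J := fun ts ⟨h, hli⟩ => by
    rw [← hc]
    simpa using hli.fintype_card_le_finrank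
  have hJtop : J • (⊤ : Submodule T T) ≠ ⊤ := by
    simpa using hJ
  have hA : ∀ i : ℕ, i ≤ j → ∃ ts, Good ts ∧ ts.length = i ∧ RingTheory.Sequence.IsWeaklyRegular T ts := by
    intro i
    induction i with
    | zero => exact fun _ => ⟨[], ⟨by simp, by haveI : IsEmpty (Fin ([] : List T).length) := inferInstanceAs (IsEmpty (Fin 0)); exact linearIndependent_empty_type⟩, rfl, RingTheory.Sequence.IsWeaklyRegular.nil T T⟩
    | succ i ih =>
      intro hi
      obtain ⟨ts, hgood, hlen, hreg⟩ := ih (by omega)
      have hmem := hgood.1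
      have hmax : ¬ Groth.Agent.Depth.IsMaxSeq J T ts := fun hmx => by
        have := Groth.Agent.Depth.idealDepth_eq_length hJtop hmx
        rw [hj, Nat.cast_inj] at this
        omega
      set Q := T ⧸ (Ideal.ofList ts • ⊤ : Submodule T T)
      have hfin := associatedPrimes.finite T Q
      have hass : ∀ p ∈ hfin.toFinset, p.IsPrime ∧ ¬ J ≤ p := fun p hp => by
        rw [Set.Finite.mem_toFinset] at hp
        refine ⟨hp.isPrime, fun hle => hmax ⟨hreg, hmem, ?_⟩⟩
        obtain ⟨-, f, hf⟩ := (isAssociatedPrime_iff_exists_injective_linearMap _ _).1 hp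
        obtain ⟨x, hx⟩ := Submodule.Quotient.mk_surjective _ (f 1)
        refine ⟨x, fun hx0 => ?_, fun r hr => ?_⟩
        · rw [← Submodule.Quotient.mk_eq_zero, hx, map_eq_zero_iff f hf, ← map_one (Ideal.Quotient.mk p),
            Ideal.Quotient.eq_zero_iff_mem] at hx0
          exact hp.isPrime.ne_top (p.eq_top_iff_one.2 hx0)
        · rw [← Submodule.Quotient.mk_eq_zero, Submodule.Quotient.mk_smul, hx, ← map_smul,
            show r • (1 : T ⧸ p) = 0 from Ideal.Quotient.eq_zero_iff_mem.2 (by simpa using hle hr), map_zero]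
      have hne : Ideal.ofList ts ≠ J := fun he => hmax ⟨hreg, hmem, 1, by
          simpa [he] using (Ideal.ne_top_iff_one _).1 hJ, fun r hr => by simpa [he] using hr⟩
      obtain ⟨t, -, hgood', htP⟩ := hstep ts hfin.toFinset hass hgood hne
      refine ⟨_, hgood', by simp [hlen],
        (RingTheory.Sequence.isWeaklyRegular_append_iff T ts [t]).2
          ⟨hreg, (RingTheory.Sequence.isWeaklyRegular_singleton_iff _ t).2 ?_⟩⟩
      by_contra hz
      rw [isSMulRegular_iff_right_eq_zero_of_smul] at hz
      push Not at hz
      obtain ⟨x, h1, h2⟩ := hz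
      have hu : t ∈ ⋃ p ∈ associatedPrimes T Q, (p : Set T) := by
        rw [biUnion_associatedPrimes_eq_zero_divisors]
        exact ⟨x, h2, h1⟩
      obtain ⟨p, hp, htp⟩ := Set.mem_iUnion₂.1 hu
      exact htP p (hfin.mem_toFinset.2 hp) htp
  obtain ⟨ts, hgood, hlen, hreg⟩ := hA j le_rfl
  have hjc : j ≤ Submodule.spanFinrank J := hlen ▸ hcard ts hgood
  refine ⟨hjc, ?_⟩
  have hB : ∀ i : ℕ, j + i ≤ Submodule.spanFinrank J →
      ∃ us, Good us ∧ us.length = j + i ∧ us.take j = ts := by
    intro i
    induction i with
    | zero => exact fun _ => ⟨ts, hgood, by simpa using hlen, by simp [← hlen]⟩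
    | succ i ih =>
      intro hi
      obtain ⟨us, hus, hul, hut⟩ := ih (by omega)
      have hne : Ideal.ofList us ≠ J := fun he => by
        have : Submodule.spanFinrank (Ideal.ofList us) ≤ us.length :=
          le_trans (Submodule.spanFinrank_span_le_ncard_of_finite us.finite_toSet)
            (le_trans (Set.ncard_le_ncard (fun x hx => List.mem_toFinset.2 hx) (Finset.finite_toSet _))
              (by rw [Set.ncard_coe_finset]; exact us.toFinset_card_le))
        rw [he] at this
        omega
      obtain ⟨t, -, hgood', -⟩ := hstep us ∅ (by simp) hus hne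
      exact ⟨_, hgood', by simp [hul]; omega, by rw [List.take_append_of_le_length (by omega)]; exact hut⟩
  obtain ⟨us, hus, hul, hut⟩ := hB (Submodule.spanFinrank J - j) (by omega)
  refine ⟨us, by omega, ?_, hut ▸ Groth.Agent.Depth.isRegular_of_isWeaklyRegular hJtop hreg hgood.1⟩
  obtain ⟨h, hli⟩ := hus
  refine hP us h fun x => ?_
  rw [hli.span_eq_top_of_card_eq_finrank' (by rw [hc, Fintype.card_fin]; omega)]
  trivial

end Groth.Agent.S17873
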