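import Groth.Statements.S17875
import Mathlib
set_option backward.isDefEq.respectTransparency false
set_option backward.isDefEq.respectTransparency.types false

set_option autoImplicit false
universe u
open Polynomial
open GRRSing

namespace Groth.Agent.S17875

/-- Let R be a commutative ℚ-algebra, r an element of R and δ a natural number with (r - 1) ^ (δ + 1) =
0. Write s(k, j) for the signed Stirling numbers of the first kind, the coefficients of x (x - 1) ⋯
(x - k + 1) = Σ_j s(k, j) x ^ j. Then (i) for every natural number n, r ^ n = Σ_{k ≤ δ} [n (n - 1) ⋯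
(n - k + 1) / k!] (r - 1) ^ k; and (ii) in the polynomial ring R[x], Σ_{k ≤ δ} [x (x - 1) ⋯ (x - k +
1) / k!] (r - 1) ^ k = Σ_{j ≤ δ} [Σ_{k ≤ δ} Σ_{u ≤ k} (-1) ^ (k - u) s(k, j) / (u! (k - u)!) · r ^
u] x ^ j. -/
theorem result {R : Type u} [CommRing R] [Algebra ℚ R]
    (r : R) (δ : ℕ) (hr : (r - 1) ^ (δ + 1) = 0) :
    (∀ n : ℕ, r ^ n = ∑ k ∈ Finset.range (δ + 1), ((descPochhammer ℚ k).eval (n : ℚ) / (k.factorial : ℚ)) • (r - 1) ^ k) ∧
    (∑ k ∈ Finset.range (δ + 1), ((k.factorial : ℚ)⁻¹ • (descPochhammer R k * Polynomial.C ((r - 1) ^ k))) =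
      ∑ j ∈ Finset.range (δ + 1), Polynomial.C (∑ k ∈ Finset.range (δ + 1), ∑ u ∈ Finset.range (k + 1),
        (((-1 : ℚ) ^ (k - u) * (((descPochhammer ℤ k).coeff j : ℤ) : ℚ)) / ((u.factorial * (k - u).factorial : ℕ) : ℚ)) • r ^ u) * Polynomial.X ^ j) := by
  have hsmall : ∀ k, δ < k → (r - 1) ^ k = 0 := fun k hk => by
    rw [show k = δ + 1 + (k - (δ + 1)) by omega, pow_add, hr, zero_mul]
  refine ⟨fun n => ?_, ?_⟩
  · conv_lhs => rw [← sub_add_cancel r 1, add_pow]
    have hc : ∀ k, (descPochhammer ℚ k).eval (n : ℚ) / (k.factorial : ℚ) = (n.choose k : ℚ) := fun k => by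
      rw [descPochhammer_eval_eq_descFactorial, Nat.descFactorial_eq_factorial_mul_choose, Nat.cast_mul,
        mul_div_cancel_left₀ _ (Nat.cast_ne_zero.2 k.factorial_ne_zero)]
    simp only [hc, Nat.cast_smul_eq_nsmul, one_pow, mul_one, nsmul_eq_mul, mul_comm _ ((r - 1) ^ _)]
    rw [Finset.sum_subset (Finset.range_subset_range.2 (le_max_left (n + 1) (δ + 1))) (fun k _ hk => by
      rw [Finset.mem_range, not_lt] at hk; rw [Nat.choose_eq_zero_of_lt (by omega), Nat.cast_zero, mul_zero])]
    exact (Finset.sum_subset (Finset.range_subset_range.2 (le_max_right (n + 1) (δ + 1))) (fun k _ hk => by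
      rw [Finset.mem_range, not_lt] at hk; rw [hsmall k (by omega), zero_mul])).symm
  · ext j
    simp only [Polynomial.finsetSum_coeff, Polynomial.coeff_smul, Polynomial.coeff_mul_C, Polynomial.coeff_C_mul,
      Polynomial.coeff_X_pow, mul_ite, mul_one, mul_zero, Finset.sum_ite_eq, Finset.mem_range]
    have hexp : ∀ k, ((k.factorial : ℚ)⁻¹ • ((descPochhammer R k).coeff j * (r - 1) ^ k)) =
        ∑ u ∈ Finset.range (k + 1), (((-1 : ℚ) ^ (k - u) * (((descPochhammer ℤ k).coeff j : ℤ) : ℚ)) / ((u.factorial * (k - u).factorial : ℕ) : ℚ)) • r ^ u := fun k => by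
      rw [sub_eq_add_neg, add_pow, Finset.mul_sum, Finset.smul_sum]
      refine Finset.sum_congr rfl fun u hu => ?_
      have hu' : u ≤ k := Nat.lt_succ_iff.1 (Finset.mem_range.1 hu)
      rw [← descPochhammer_map (Int.castRingHom R), Polynomial.coeff_map, eq_intCast, Algebra.smul_def, Algebra.smul_def,
        ← map_intCast (algebraMap ℚ R), ← map_natCast (algebraMap ℚ R) (k.choose u),
        show ((-1 : R) ^ (k - u)) = algebraMap ℚ R ((-1) ^ (k - u)) by simp, Nat.cast_choose ℚ hu']
      have hk : (k.factorial : ℚ) ≠ 0 := Nat.cast_ne_zero.2 k.factorial_ne_zero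
      rw [show (((-1 : ℚ) ^ (k - u) * (((descPochhammer ℤ k).coeff j : ℤ) : ℚ)) / ((u.factorial * (k - u).factorial : ℕ) : ℚ)) =
        (k.factorial : ℚ)⁻¹ * ((((descPochhammer ℤ k).coeff j : ℤ) : ℚ)) * (-1) ^ (k - u) * ((k.factorial : ℚ) / ((u.factorial : ℚ) * ((k - u).factorial : ℚ))) by
          push_cast; field_simp]
      simp only [map_mul]
      ring
    split_ifs with hj
    · exact Finset.sum_congr rfl fun k _ => hexp k
    · refine Finset.sum_eq_zero fun k hk => ?_
      rcases subsingleton_or_nontrivial R with hR | hR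
      · exact Subsingleton.elim _ _
      rw [Polynomial.coeff_eq_zero_of_natDegree_lt, zero_mul, smul_zero]
      rw [← descPochhammer_map (Int.castRingHom R)]
      refine lt_of_le_of_lt Polynomial.natDegree_map_le ?_
      rw [descPochhammer_natDegree]
      have := Finset.mem_range.1 hk
      omega

end Groth.Agent.S17875
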