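import Groth.Statements.S17878
import Mathlib.Analysis.SpecificLimits.Normed
import Mathlib.RingTheory.PowerSeries.Exp
import Mathlib.Data.Nat.Choose.Cast
-- import your own Groth.Agent.* helpers here

set_option autoImplicit false
set_option backward.isDefEq.respectTransparency false
universe u
open Filter Topology
open GRRSing

namespace Groth.Agent.S17878
open Filter Topology

/-- Let T be a nonzero commutative normed ℂ-algebra such that the map ℂ → T/nilradical(T) is surjective,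
let P = Σ_j d_j x ^ j be a polynomial over T and put h_k = P(k). Let E_0, E_1, … be the rational
numbers with 2/(e^t + 1) = Σ_j E_j t ^ j / j! (so E_0 = 1, E_1 = -1/2). Then for every complex y
with |y| < 1 the series Σ_k h_k y ^ k converges in T, and as y → -1 along real y in (-1, 1) its sum
tends to (1/2) Σ_j E_j d_j. (The published statement allows any norm topology on T as a complex
vector space; this row takes T a normed ℂ-algebra.) -/
theorem result {T : Type u} [NormedCommRing T] [NormedAlgebra ℂ T] [Nontrivial T]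
    (hT : Function.Surjective (algebraMap ℂ (T ⧸ nilradical T)))
    (E : ℕ → ℚ) (hE : PowerSeries.mk (fun j => E j / (j.factorial : ℚ)) * (PowerSeries.exp ℚ + 1) = 2)
    (P : Polynomial T) :
    (∀ y : ℂ, ‖y‖ < 1 → Summable (fun k : ℕ => y ^ k • P.eval (k : T))) ∧
    Tendsto (fun y : ℝ => ∑' k : ℕ, ((y : ℂ) ^ k) • P.eval (k : T)) (𝓝[Set.Ioo (-1 : ℝ) 1] (-1 : ℝ))
      (𝓝 ((2 : ℂ)⁻¹ • ∑ j ∈ Finset.range (P.natDegree + 1), ((E j : ℚ) : ℂ) • P.coeff j)) := by
  classical
  let A : ℕ → ℂ → ℂ := fun j y => ∑' k : ℕ, (k : ℂ) ^ j * y ^ k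
  have hsum : ∀ (j : ℕ) (y : ℂ), ‖y‖ < 1 → Summable fun k : ℕ => (k : ℂ) ^ j * y ^ k := fun j y hy =>
    summable_pow_mul_geometric_of_norm_lt_one j hy
  have hrec : ∀ (j : ℕ) (y : ℂ), ‖y‖ < 1 →
      (1 - y) * A j y = (0 : ℂ) ^ j + y * ∑ i ∈ Finset.range j, (j.choose i : ℂ) * A i y := by
    intro j y hy
    have h0 : A j y = (0 : ℂ) ^ j + ∑' k : ℕ, ((k : ℂ) + 1) ^ j * y ^ (k + 1) := by
      show (∑' k : ℕ, (k : ℂ) ^ j * y ^ k) = _
      rw [(hsum j y hy).tsum_eq_zero_add]
      simp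
    have h1 : ∑' k : ℕ, ((k : ℂ) + 1) ^ j * y ^ (k + 1) =
        y * ∑ i ∈ Finset.range (j + 1), (j.choose i : ℂ) * A i y := by
      have h2 : ∀ k : ℕ, ((k : ℂ) + 1) ^ j * y ^ (k + 1) =
          y * ∑ i ∈ Finset.range (j + 1), (j.choose i : ℂ) * ((k : ℂ) ^ i * y ^ k) := by
        intro k
        rw [add_pow, Finset.sum_mul, Finset.mul_sum]
        refine Finset.sum_congr rfl fun i _ => ?_
        ring
      rw [tsum_congr h2, tsum_mul_left, Summable.tsum_finsetSum fun i _ => (hsum i y hy).mul_left _]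
      simp_rw [tsum_mul_left]
      rfl
    rw [h1, Finset.sum_range_succ, Nat.choose_self, Nat.cast_one, one_mul] at h0
    linear_combination h0
  have hErec : ∀ j : ℕ, (∑ i ∈ Finset.range (j + 1), (j.choose i : ℂ) * (E i : ℂ)) + (E j : ℂ) = 2 * (0 : ℂ) ^ j := by
    intro j
    have h := congrArg (PowerSeries.coeff j) hE
    rw [mul_add, mul_one, map_add, PowerSeries.coeff_mul, PowerSeries.coeff_mk] at h
    have h2 : (PowerSeries.coeff j) (2 : PowerSeries ℚ) = 2 * (0 : ℚ) ^ j := by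
      rw [← map_ofNat (PowerSeries.C : ℚ →+* PowerSeries ℚ) 2, PowerSeries.coeff_C]
      rcases j with - | j
      · norm_num
      · simp
    rw [h2, Finset.Nat.sum_antidiagonal_eq_sum_range_succ_mk] at h
    have hj : (j.factorial : ℚ) ≠ 0 := by exact_mod_cast j.factorial_ne_zero
    have h3 : ((∑ i ∈ Finset.range (j + 1), (j.choose i : ℚ) * E i) + E j) = 2 * (0 : ℚ) ^ j := by
      have h4 := congrArg (· * (j.factorial : ℚ)) h
      simp only [add_mul, Finset.sum_mul] at h4
      rw [div_mul_cancel₀ _ hj] at h4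
      have h5 : (2 * (0 : ℚ) ^ j) * (j.factorial : ℚ) = 2 * (0 : ℚ) ^ j := by
        rcases j with - | j <;> simp
      rw [h5] at h4
      refine Eq.trans (congrArg (· + E j) (Finset.sum_congr rfl fun i hi => ?_)) h4
      rw [PowerSeries.coeff_mk, PowerSeries.coeff_exp, Nat.cast_choose ℚ (Nat.le_of_lt_succ (Finset.mem_range.1 hi))]
      simp only [map_div₀, map_one, map_natCast]
      ring
    exact_mod_cast h3
  let Y : Filter ℝ := 𝓝[Set.Ioo (-1 : ℝ) 1] (-1 : ℝ)
  have hev : ∀ᶠ y : ℝ in Y, ‖(y : ℂ)‖ < 1 := by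
    filter_upwards [self_mem_nhdsWithin] with y hy
    rw [Complex.norm_real, Real.norm_eq_abs]
    exact abs_lt.2 hy
  have hy0 : Tendsto (fun y : ℝ => (y : ℂ)) Y (𝓝 (-1)) := by
    have h := (Complex.continuous_ofReal.tendsto (-1 : ℝ)).mono_left (nhdsWithin_le_nhds (s := Set.Ioo (-1 : ℝ) 1))
    rwa [show (((-1 : ℝ)) : ℂ) = -1 by simp] at h
  have hlim : ∀ j, Tendsto (fun y : ℝ => A j (y : ℂ)) Y (𝓝 ((2 : ℂ)⁻¹ * (E j : ℂ))) := by
    intro j
    induction j using Nat.strong_induction_on with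
    | _ j ih =>
      have h1 : Tendsto (fun y : ℝ => ((0 : ℂ) ^ j + (y : ℂ) * ∑ i ∈ Finset.range j, (j.choose i : ℂ) * A i (y : ℂ)) /
          (1 - (y : ℂ))) Y (𝓝 (((0 : ℂ) ^ j + (-1) * ∑ i ∈ Finset.range j, (j.choose i : ℂ) * ((2 : ℂ)⁻¹ * (E i : ℂ))) /
            (1 - -1))) :=
        (tendsto_const_nhds.add (hy0.mul (tendsto_finsetSum _ fun i hi =>
          tendsto_const_nhds.mul (ih i (Finset.mem_range.1 hi))))).div (tendsto_const_nhds.sub hy0) (by norm_num)
      have hval : ((0 : ℂ) ^ j + (-1) * ∑ i ∈ Finset.range j, (j.choose i : ℂ) * ((2 : ℂ)⁻¹ * (E i : ℂ))) / (1 - -1) =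
          (2 : ℂ)⁻¹ * (E j : ℂ) := by
        have h := hErec j
        rw [Finset.sum_range_succ, Nat.choose_self, Nat.cast_one, one_mul] at h
        have h' : ∑ i ∈ Finset.range j, (j.choose i : ℂ) * ((2 : ℂ)⁻¹ * (E i : ℂ)) =
            (2 : ℂ)⁻¹ * ∑ i ∈ Finset.range j, (j.choose i : ℂ) * (E i : ℂ) := by
          rw [Finset.mul_sum]
          refine Finset.sum_congr rfl fun i _ => ?_
          ring
        rw [h']
        linear_combination (-(1 : ℂ) / 4) * h
      rw [hval] at h1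
      refine h1.congr' ?_
      filter_upwards [hev] with y hy
      have hne : (1 : ℂ) - (y : ℂ) ≠ 0 := sub_ne_zero.2 fun h => by rw [← h, norm_one] at hy; exact lt_irrefl _ hy
      rw [← hrec j (y : ℂ) hy, mul_div_cancel_left₀ _ hne]
  have key : ∀ y : ℂ, ‖y‖ < 1 → HasSum (fun k : ℕ => y ^ k • P.eval (k : T))
      (∑ j ∈ Finset.range (P.natDegree + 1), A j y • P.coeff j) := by
    intro y hy
    have h : (fun k : ℕ => y ^ k • P.eval (k : T)) =
        fun k : ℕ => ∑ j ∈ Finset.range (P.natDegree + 1), ((k : ℂ) ^ j * y ^ k) • P.coeff j := by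
      funext k
      rw [Polynomial.eval_eq_sum_range, Finset.smul_sum]
      refine Finset.sum_congr rfl fun j _ => ?_
      rw [Algebra.smul_def, Algebra.smul_def, map_mul, map_pow, map_pow, map_natCast]
      ring
    rw [h]
    exact hasSum_sum fun j _ => (hsum j y hy).hasSum.smul_const _
  refine ⟨fun y hy => (key y hy).summable, ?_⟩
  have h2 : Tendsto (fun y : ℝ => ∑ j ∈ Finset.range (P.natDegree + 1), A j (y : ℂ) • P.coeff j) Y
      (𝓝 (∑ j ∈ Finset.range (P.natDegree + 1), ((2 : ℂ)⁻¹ * (E j : ℂ)) • P.coeff j)) :=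
    tendsto_finsetSum _ fun j _ => (hlim j).smul_const _
  rw [Finset.smul_sum]
  simp_rw [smul_smul]
  refine h2.congr' ?_
  filter_upwards [hev] with y hy
  exact (key (y : ℂ) hy).tsum_eq.symm

end Groth.Agent.S17878
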