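import Groth.Statements.S17880
import Groth.Agent.NApproxLib.Tail
-- import your own Groth.Agent.* helpers here

set_option autoImplicit false
universe u
open CategoryTheory AlgebraicGeometry
open Lim

namespace Groth.Agent.S17880

/-- Let f : Y → X be a morphism of schemes with X and Y quasi-compact and quasi-separated. Then f is the
composite of an affine morphism Y → Z and a morphism Z → X of finite presentation (locally of finite
presentation, quasi-compact and quasi-separated); if f is separated, Z → X can in addition be chosen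
separated. Both assertions are packaged in one existential. -/
theorem result {X Y : Scheme.{u}} (f : Y ⟶ X)
    [CompactSpace X] [QuasiSeparatedSpace X] [CompactSpace Y] [QuasiSeparatedSpace Y] :
    ∃ (Z : Scheme.{u}) (g : Y ⟶ Z) (h : Z ⟶ X), IsAffineHom g ∧ LocallyOfFinitePresentation h ∧
      QuasiCompact h ∧ QuasiSeparated h ∧ (IsSeparated f → IsSeparated h) ∧ g ≫ h = f := by
  classical
  obtain ⟨J, hp, hd, hne, D, p, hc, hobj, hmap⟩ := NApproxLib.exists_over_limit f
  haveI := IsCofiltered.isConnected Jᵒᵖ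
  let i₀ : Jᵒᵖ := Opposite.op (Classical.arbitrary J)
  by_cases hsep : IsSeparated f
  · haveI : ∀ {i j} (a : i ⟶ j), IsAffineHom ((D ⋙ Over.forget X).map a) := fun a => hmap _ _ a
    haveI : ∀ i, CompactSpace ((D ⋙ Over.forget X).obj i) := fun i => (hobj i).2.2.2.1
    haveI : ∀ i, QuasiSeparatedSpace ((D ⋙ Over.forget X).obj i) := fun i => (hobj i).2.2.2.2.1
    let t : D ⋙ Over.forget X ⟶ (Functor.const Jᵒᵖ).obj X :=
      { app := fun i => (D.obj i).hom
        naturality := fun i j a => by simp }
    let c := (Over.forget X).mapCone (Limits.Cone.mk (Over.mk f) p)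
    haveI : IsSeparated (c.π.app i₀ ≫ t.app i₀) := by
      show IsSeparated ((p.app i₀).left ≫ (D.obj i₀).hom)
      rw [Over.w (p.app i₀)]
      exact hsep
    obtain ⟨i₁, hi₁⟩ := AffLim.exists_isSeparated_const t c (Limits.isLimitOfPreserves (Over.forget X) hc) i₀
    obtain ⟨ha, hq, hqs, -, -, haff⟩ := hobj i₁
    exact ⟨(D.obj i₁).left, (p.app i₁).left, (D.obj i₁).hom, haff, ha, hq, hqs, fun _ => hi₁ i₁ (𝟙 _), Over.w (p.app i₁)⟩
  · obtain ⟨ha, hq, hqs, -, -, haff⟩ := hobj i₀
    exact ⟨(D.obj i₀).left, (p.app i₀).left, (D.obj i₀).hom, haff, ha, hq, hqs, fun h => absurd h hsep, Over.w (p.app i₀)⟩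

end Groth.Agent.S17880
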