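import Groth.Statements.S17879
import Groth.Agent.RGBlowLib.Nagata
import Groth.Agent.S17880
-- import your own Groth.Agent.* helpers here

set_option autoImplicit false
universe u
open CategoryTheory AlgebraicGeometry
open Lim

namespace Groth.Agent.S17879

/-- Let f : Y → X be a morphism of schemes with X and Y quasi-compact and quasi-separated. Then f is
separated if and only if it is the composite of an affine morphism Y → Z and a proper morphism Z →
X, for some scheme Z. -/
theorem result {X Y : Scheme.{u}} (f : Y ⟶ X)
    [CompactSpace X] [QuasiSeparatedSpace X] [CompactSpace Y] [QuasiSeparatedSpace Y] :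
    IsSeparated f ↔
      ∃ (Z : Scheme.{u}) (g : Y ⟶ Z) (h : Z ⟶ X), IsAffineHom g ∧ IsProper h ∧ g ≫ h = f := by
  constructor
  · intro hf
    obtain ⟨Z₁, g₁, h₁, hg₁, hfp, hqc, -, hsep, hgh⟩ := S17880.result f
    haveI := hg₁
    haveI := hfp
    haveI := hqc
    haveI := hsep hf
    obtain ⟨Z, g, h, hg, hh, hgh'⟩ := RGBlowLib.exists_affineHom_comp_proper h₁
    haveI := hg
    exact ⟨Z, g₁ ≫ g, h, inferInstance, hh, by rw [Category.assoc, hgh', hgh]⟩
  · rintro ⟨Z, g, h, hg, hh, rfl⟩
    infer_instance

end Groth.Agent.S17879
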