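import Groth.Statements.S1788
import Groth.Agent.DualCxLib.GorFibres
-- Template for statement S1788 (row 1787; see the milestone table for weights).
-- Copy to Groth/Agent/S1788.lean and replace the sorry. The statement below is byte-identical to the frozen
-- statement Dual.GrothFrozen.S1788 (Groth/Statements/S1788.lean; the theorem Dual.isDualizing_iff_LBaseChange_faithfullyFlat_gorenstein_fibres);
-- the grader kernel-checks Groth.Agent.S1788.result against that frozen type. Keep the theorem IN THIS FILE
-- (a `result` declared elsewhere and merely imported here is not credited); helpers may live anywhere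
-- under Groth/Agent/.
-- helpers: DualCxLib

set_option autoImplicit false
universe u
open CategoryTheory
attribute [local instance] HasDerivedCategory.standard
open scoped TensorProduct
open Dual Groth.Agent.DualCxLib

namespace Groth.Agent.S1788

/-- Let A → B be a faithfully flat finite type homomorphism of Noetherian rings all of whose fibre rings
B ⊗_A κ(p) are Gorenstein, and K an object of D(A). Assuming the derived base change functor D(A) →
D(B) exists, K is a dualizing complex for A if and only if its base change is a dualizing complex
for B. -/
theorem result (A B : Type u) [CommRing A] [CommRing B] [Algebra A B] [IsNoetherianRing A] [IsNoetherianRing B] [Module.FaithfullyFlat A B] [Algebra.FiniteType A B] (hG : ∀ p : PrimeSpectrum A, LocCoh.IsGorensteinRing (B ⊗[A] p.asIdeal.ResidueField)) [DRing.HasLBaseChange (algebraMap A B)] (K : Dual.D A) : Dual.IsDualizing A K ↔ Dual.IsDualizing B ((DRing.LBaseChange (algebraMap A B)).obj K) := by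
  obtain ⟨N, hN⟩ := Groth.Agent.DualCxLib.exists_fibre_dim_bound A B
  refine ⟨fun hK => ?_, fun h => Groth.Agent.DualCxLib.isDualizing_of_bcD A B h⟩
  refine Groth.Agent.DualCxLib.isDualizing_bcD_of_fibres A B hK (fun p _ => ?_) N hN
  exact Groth.Agent.GorLib.gorensteinRing_of_ringEquiv
    (Algebra.TensorProduct.comm A B p.ResidueField).toRingEquiv (hG ⟨p, inferInstance⟩)

end Groth.Agent.S1788
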