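import Groth.Statements.S17881
import Mathlib

set_option autoImplicit false
universe u
open CAlg

namespace Groth.Agent.S17881

/-- Let O be a subring of a nontrivial commutative ring A. The following are equivalent: (i) A is a
local ring, every non-unit of A belongs to O, and for every unit u of A one of u, u⁻¹ belongs to O —
equivalently O is the preimage in the local ring A of a valuation ring of the residue field of A,
which makes O a semi-valuation ring with semi-fraction ring A; (ii) for all f, g in A generating the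
unit ideal, either f ∈ gO or g ∈ fO. (A is taken nontrivial: over the zero ring (ii) holds and (i)
fails.) -/
theorem result (A : Type u) [CommRing A] [Nontrivial A]
    (O : Subring A) :
    (IsLocalRing A ∧ (∀ a : A, ¬ IsUnit a → a ∈ O) ∧ (∀ u : Aˣ, (u : A) ∈ O ∨ ((u⁻¹ : Aˣ) : A) ∈ O)) ↔
      ∀ f g : A, IsCoprime f g → (∃ o ∈ O, f = g * o) ∨ (∃ o ∈ O, g = f * o) := by
  constructor
  · rintro ⟨hloc, hnu, hu⟩
    have main : ∀ f g : A, IsUnit g → (∃ o ∈ O, f = g * o) ∨ (∃ o ∈ O, g = f * o) := by
      intro f g hg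
      by_cases hfo : f * ↑hg.unit⁻¹ ∈ O
      · exact Or.inl ⟨_, hfo, by rw [mul_comm g, mul_assoc, IsUnit.val_inv_mul, mul_one]⟩
      · have hf : IsUnit (f * ↑hg.unit⁻¹) := by by_contra h; exact hfo (hnu _ h)
        have h2 := (hu hf.unit).resolve_left hfo
        refine Or.inr ⟨_, h2, ?_⟩
        have h3 : f * ↑hg.unit⁻¹ * ↑hf.unit⁻¹ = 1 := IsUnit.mul_val_inv hf
        have h4 : g * ↑hg.unit⁻¹ = 1 := IsUnit.mul_val_inv hg
        linear_combination (-g) * h3 + (f * ↑hf.unit⁻¹) * h4
    rintro f g ⟨a, b, hab⟩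
    rcases IsLocalRing.isUnit_or_isUnit_of_add_one hab with h | h
    · exact (main g f (isUnit_of_mul_isUnit_right h)).symm
    · exact main f g (isUnit_of_mul_isUnit_right h)
  · intro h
    refine ⟨IsLocalRing.of_isUnit_or_isUnit_one_sub_self ?_, fun a ha => ?_, fun u => ?_⟩
    · intro a
      obtain ⟨b, hab, hb⟩ : ∃ b, a + b = 1 ∧ b = 1 - a := ⟨1 - a, by ring, rfl⟩
      rw [← hb]
      rcases h a b ⟨1, 1, by rw [one_mul, one_mul, hab]⟩ with ⟨o, -, rfl⟩ | ⟨o, -, rfl⟩
      · exact Or.inr (IsUnit.of_mul_eq_one (o + 1) (by linear_combination hab))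
      · exact Or.inl (IsUnit.of_mul_eq_one (1 + o) (by linear_combination hab))
    · rcases h a 1 isCoprime_one_right with ⟨o, ho, hao⟩ | ⟨o, -, hao⟩
      · rw [hao, one_mul]; exact ho
      · exact absurd (IsUnit.of_mul_eq_one o hao.symm) ha
    · rcases h (u : A) 1 isCoprime_one_right with ⟨o, ho, hao⟩ | ⟨o, ho, hao⟩
      · exact Or.inl (by rw [hao, one_mul]; exact ho)
      · exact Or.inr (by rw [Units.inv_eq_of_mul_eq_one_right hao.symm]; exact ho)

end Groth.Agent.S17881
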