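import Mathlib
import Groth.Statements.S17882

set_option autoImplicit false
universe u
open CAlg

namespace Groth.Agent.S17882

/-- Let B be a commutative ring, r ≥ 1, N a finitely generated submodule of B^r, and n_1, …, n_r ∈ N.
Suppose the determinant of the matrix with rows n_1, …, n_r is a nonzerodivisor of B and that the
determinant of every matrix whose rows lie in N is a multiple of it (the image of the top exterior
power of N in that of B^r ≅ B is the principal ideal generated by n_1 ∧ ⋯ ∧ n_r, a nonzerodivisor).
Then n_1, …, n_r are linearly independent over B and span N: N is free of rank r with this basis. -/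
theorem result (B : Type u) [CommRing B] (r : ℕ) (hr : 0 < r)
    (N : Submodule B (Fin r → B)) (hN : N.FG) (n : Fin r → (Fin r → B)) (hn : ∀ i, n i ∈ N)
    (hgen : ∀ m : Fin r → (Fin r → B), (∀ i, m i ∈ N) →
      Matrix.det (Matrix.of m) ∈ Ideal.span {Matrix.det (Matrix.of n)})
    (hnzd : Matrix.det (Matrix.of n) ∈ nonZeroDivisors B) :
    LinearIndependent B n ∧ Submodule.span B (Set.range n) = N := by
  classical
  set D := Matrix.of n with hD
  have hli : LinearIndependent B n := by
    rw [Fintype.linearIndependent_iff]
    intro c hc i
    have h1 : Matrix.vecMul c D = 0 := by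
      rw [← hc]; funext j; simp [Matrix.vecMul, dotProduct, hD, Finset.sum_apply]
    have h2 : D.det • c = 0 := by
      rw [← Matrix.vecMul_one (D.det • c), Matrix.smul_vecMul, ← Matrix.vecMul_smul, ← Matrix.mul_adjugate,
        ← Matrix.vecMul_vecMul, h1, Matrix.zero_vecMul]
    exact (mul_left_mem_nonZeroDivisors_eq_zero_iff hnzd).1 (congr_fun h2 i)
  refine ⟨hli, le_antisymm (Submodule.span_le.2 (Set.range_subset_iff.2 hn)) fun v hv => ?_⟩
  have hdiv : ∀ i, ∃ c, c * D.det = (Matrix.of (Function.update n i v)).det := fun i =>
    Ideal.mem_span_singleton'.1 (hgen _ fun j => by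
      rcases eq_or_ne j i with rfl | hj
      · simpa using hv
      · simpa [hj] using hn j)
  choose c hc using hdiv
  have e : v = ∑ i, c i • n i := by
    have h1 : Matrix.vecMul (fun i => (Matrix.of (Function.update n i v)).det) D = D.det • v := by
      have h := Matrix.mulVec_cramer D.transpose v
      rw [Matrix.det_transpose, Matrix.mulVec_transpose] at h
      rw [← h]
      congr 1
      funext i
      rw [Matrix.cramer_transpose_apply]
      rfl
    refine funext fun j => (mul_cancel_left_mem_nonZeroDivisors hnzd).1 ?_
    have h2 := congr_fun h1 j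
    simp only [Pi.smul_apply, smul_eq_mul, Matrix.vecMul, dotProduct] at h2
    rw [← h2, Finset.sum_apply, Finset.mul_sum]
    refine Finset.sum_congr rfl fun i _ => ?_
    rw [Pi.smul_apply, smul_eq_mul, ← hc i]
    simp only [hD, Matrix.of_apply]
    ring
  rw [e]
  exact sum_mem fun i _ => Submodule.smul_mem _ _ (Submodule.subset_span ⟨i, rfl⟩)

end Groth.Agent.S17882
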