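import Groth.Statements.S17884
import Groth.Agent.RGBlowLib.ExtendBundle
import Groth.Agent.S8910
import Groth.Agent.S9706
import Groth.Agent.S9708
import Groth.Agent.ProjBundleLib.ProjMor

set_option autoImplicit false
set_option linter.style.haveILetI false
set_option backward.isDefEq.respectTransparency false
universe u v
open CategoryTheory AlgebraicGeometry
open FlatMor

namespace Groth.Agent.S17884

/-- Let S be a Noetherian scheme and f : X → S a separated quasi-projective morphism (of finite type,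
with an f-ample invertible module), and let (E_i) be a finite family of finite locally free
O_X-modules. Then there exist a scheme X', an open immersion j : X → X' with schematically dense
image and a projective morphism g : X' → S with j ≫ g = f, and for each i a finite locally free
module on X' whose pullback along j is isomorphic to E_i. -/
theorem result {S X : Scheme.{u}} (f : X ⟶ S)
    [IsNoetherian S] [IsSeparated f] (hf : RelProj.IsQuasiProjective f)
    {ι : Type v} [Finite ι] (E : ι → X.Modules) (hE : ∀ i, FlatMod.IsFinLocFree (E i)) :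
    ∃ (X' : Scheme.{u}) (j : X ⟶ X') (g : X' ⟶ S), IsOpenImmersion j ∧ QuasiCompact j ∧
      IsSchemeTheoreticallyDominant j ∧ RelProj.IsProjective g ∧ j ≫ g = f ∧
      ∀ i, ∃ E' : X'.Modules, FlatMod.IsFinLocFree E' ∧
        Nonempty ((Scheme.Modules.pullback j).obj E' ≅ E i) := by
  classical
  haveI : Fintype ι := Fintype.ofFinite ι
  obtain ⟨Y₀, j₀, g₀, hj₀, hg₀, hjg₀⟩ := S9706.result f hf
  haveI := hj₀
  haveI := hf.1
  haveI := hf.2.1
  have key : ∀ s : Finset ι, ∃ (X' : Scheme.{u}) (j : X ⟶ X') (g : X' ⟶ S), IsOpenImmersion j ∧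
      RelProj.IsProjective g ∧ j ≫ g = f ∧ ∀ i ∈ s, ∃ E' : X'.Modules, FlatMod.IsFinLocFree E' ∧
        Nonempty ((Scheme.Modules.pullback j).obj E' ≅ E i) := by
    intro s
    induction s using Finset.induction_on with
    | empty => exact ⟨Y₀, j₀, g₀, hj₀, hg₀, hjg₀, fun i hi => absurd hi (Finset.notMem_empty i)⟩
    | insert a s _ ih =>
      obtain ⟨X₁, j₁, g₁, hj₁, hg₁, hjg₁, h₁⟩ := ih
      haveI := hj₁
      haveI := (ProjBundleLib.isProper_of_isProjective hg₁).1
      haveI : IsNoetherian X₁ := RGBlowLib.Union.isNoetherian_of_ft g₁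
      obtain ⟨I, X₂, j₂, b, hbI, hI, hj₂, hb, hjb, hE'⟩ := RGBlowLib.exists_extend_one_blowUp j₁ (E a) (hE a)
      refine ⟨X₂, j₂, b ≫ g₁, hj₂, S9708.result b g₁ (S8910.result I hI.1 b hbI) hg₁,
        by rw [reassoc_of% hjb, hjg₁], fun i hi => ?_⟩
      rcases Finset.mem_insert.1 hi with rfl | hi
      · exact hE'
      · obtain ⟨E', hE'', ⟨e⟩⟩ := h₁ i hi
        exact ⟨_, PullbackMod.isFinLocFree_pullback b E' hE'',
          ⟨(Scheme.Modules.pullbackComp j₂ b).app E' ≪≫ (Scheme.Modules.pullbackCongr hjb).app E' ≪≫ e⟩⟩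
  obtain ⟨Y, j, g, hj, hg, hjg, h⟩ := key Finset.univ
  haveI := hj
  haveI := (ProjBundleLib.isProper_of_isProjective hg).1
  haveI : IsNoetherian Y := RGBlowLib.Union.isNoetherian_of_ft g
  haveI : IsNoetherian X := RGBlowLib.Union.isNoetherian_of_ft f
  refine ⟨j.image, j.toImage, j.imageι ≫ g, inferInstance, inferInstance, inferInstance,
    ProjBundleLib.isProjective_precomp j.imageι hg, by rw [Scheme.Hom.toImage_imageι_assoc, hjg], fun i => ?_⟩
  obtain ⟨E', hE', ⟨e⟩⟩ := h i (Finset.mem_univ i)
  exact ⟨_, PullbackMod.isFinLocFree_pullback j.imageι E' hE', ⟨(Scheme.Modules.pullbackComp _ _).app E' ≪≫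
    (Scheme.Modules.pullbackCongr j.toImage_imageι).app E' ≪≫ e⟩⟩

end Groth.Agent.S17884
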