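import Groth.Statements.S17885
import Groth.Agent.NApproxLib.Tail
-- import your own Groth.Agent.* helpers here

set_option autoImplicit false
universe u
open CategoryTheory AlgebraicGeometry
open Lim

namespace Groth.Agent.S17885

/-- Let f : Y → X be a morphism of schemes with X and Y quasi-compact and quasi-separated. Then f is
affine if and only if the X-scheme Y is a limit, in the category of schemes over X, of a filtered
inverse system of X-schemes that are affine and of finite presentation over X. -/
theorem result {X Y : Scheme.{u}} (f : Y ⟶ X)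
    [CompactSpace X] [QuasiSeparatedSpace X] [CompactSpace Y] [QuasiSeparatedSpace Y] :
    IsAffineHom f ↔
      ∃ (I : Type u) (_ : SmallCategory I) (_ : IsFiltered I) (D : Iᵒᵖ ⥤ Over X)
        (c : Limits.Cone D) (_ : Limits.IsLimit c),
        (∀ i, IsAffineHom (D.obj i).hom ∧ LocallyOfFinitePresentation (D.obj i).hom) ∧
        Nonempty (c.pt ≅ Over.mk f) := by
  constructor
  · intro hf
    obtain ⟨J, hp, hd, hne, D, p, hc, hobj, hmap⟩ := NApproxLib.exists_over_limit f
    haveI := IsCofiltered.isConnected Jᵒᵖ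
    let i₀ : Jᵒᵖ := Opposite.op (Classical.arbitrary J)
    haveI : ∀ {i j} (a : i ⟶ j), IsAffineHom ((D ⋙ Over.forget X).map a) := fun a => hmap _ _ a
    haveI : ∀ i, CompactSpace ((D ⋙ Over.forget X).obj i) := fun i => (hobj i).2.2.2.1
    haveI : ∀ i, QuasiSeparatedSpace ((D ⋙ Over.forget X).obj i) := fun i => (hobj i).2.2.2.2.1
    let t : D ⋙ Over.forget X ⟶ (Functor.const Jᵒᵖ).obj X :=
      { app := fun i => (D.obj i).hom
        naturality := fun i j a => by simp }
    let c := (Over.forget X).mapCone (Limits.Cone.mk (Over.mk f) p)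
    haveI : IsAffineHom (c.π.app i₀ ≫ t.app i₀) := by
      show IsAffineHom ((p.app i₀).left ≫ (D.obj i₀).hom)
      rw [Over.w (p.app i₀)]
      exact hf
    obtain ⟨i₁, hi₁⟩ := AffLim.exists_isAffineHom_const t c (Limits.isLimitOfPreserves (Over.forget X) hc) i₀
    exact ⟨NApproxLib.Above i₁.unop, inferInstance, inferInstance, NApproxLib.aboveFunctor i₁.unop ⋙ D, _,
      NApproxLib.isLimitTail i₁.unop hc, fun i => ⟨hi₁ _ (homOfLE i.unop.2).op, (hobj _).1⟩, ⟨Iso.refl _⟩⟩
  · rintro ⟨I, hI, hfilt, D, c, hc, hobj, ⟨e⟩⟩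
    haveI := IsCofiltered.isConnected Iᵒᵖ
    haveI : ∀ {i j} (a : i ⟶ j), IsAffineHom ((D ⋙ Over.forget X).map a) := fun {i j} a => by
      haveI := (hobj i).1
      haveI := (hobj j).1
      haveI : IsAffineHom ((D.map a).left ≫ (D.obj j).hom) := by rw [Over.w]; infer_instance
      exact IsAffineHom.of_comp (D.map a).left (D.obj j).hom
    let i₀ : Iᵒᵖ := Classical.arbitrary _
    haveI : IsAffineHom (c.π.app i₀).left :=
      isAffineHom_π_app (D ⋙ Over.forget X) _ (Limits.isLimitOfPreserves (Over.forget X) hc) i₀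
    haveI := (hobj i₀).1
    haveI : IsAffineHom c.pt.hom := by
      have h : (c.π.app i₀).left ≫ (D.obj i₀).hom = c.pt.hom := Over.w (c.π.app i₀)
      rw [← h]
      infer_instance
    rw [← show e.inv.left ≫ c.pt.hom = f from Over.w e.inv]
    infer_instance

end Groth.Agent.S17885
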