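import Groth.Statements.S17886
import Groth.Agent.GenSmooth.Scheme
import Groth.Agent.AmpleLib.RelLocal

set_option autoImplicit false
universe u
set_option backward.isDefEq.respectTransparency false
open CategoryTheory AlgebraicGeometry
open FlatMor

namespace Groth.Agent.S17886

/-- Let S be a Noetherian scheme and f : X → S separated and of finite type. Then X is covered by
finitely many affine opens U_1, …, U_n each of which is dense in X and quasi-projective over S (of
finite type with a relatively ample invertible module). -/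
theorem result {S X : Scheme.{u}} (f : X ⟶ S)
    [IsNoetherian S] [IsSeparated f] [QuasiCompact f] [LocallyOfFiniteType f] :
    ∃ (n : ℕ) (U : Fin n → X.Opens), (⨆ i, U i) = ⊤ ∧
      ∀ i, IsAffineOpen (U i) ∧ Dense ((U i : Set X)) ∧ RelProj.IsQuasiProjective ((U i).ι ≫ f) := by
  haveI : IsLocallyNoetherian X := LocallyOfFiniteType.isLocallyNoetherian f
  haveI : CompactSpace X := QuasiCompact.compactSpace_of_compactSpace f
  haveI : IsNoetherian X := {}
  have key : ∀ x : X, ∃ U : X.Opens, x ∈ U ∧ IsAffineOpen U ∧ Dense (U : Set X) := by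
    intro x
    obtain ⟨U₀, hU₀, hx, -⟩ := exists_isAffineOpen_mem_and_subset (X := X) (U := ⊤) (x := x) trivial
    let O : X.Opens := ⟨(closure (U₀ : Set X))ᶜ, isClosed_closure.isOpen_compl⟩
    haveI : TopologicalSpace.NoetherianSpace (O : Scheme.{u}) :=
      O.ι.isOpenEmbedding.isInducing.noetherianSpace
    obtain ⟨W, hW, hWd⟩ := GenSmooth.exists_dense_affine (O : Scheme.{u})
    have hd : Disjoint U₀ (O.ι ''ᵁ W) := by
      rw [← TopologicalSpace.Opens.coe_disjoint, Set.disjoint_left]
      intro y hy hy'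
      exact (show y ∈ O from O.ι_image_le W hy') (subset_closure hy)
    refine ⟨U₀ ⊔ O.ι ''ᵁ W, Or.inl hx, ?_, ?_⟩
    · rw [sup_eq_iSup]
      exact IsAffineOpen.iSup_of_disjoint (fun b => by cases b <;> first | exact hU₀ | exact hW.image_of_isOpenImmersion O.ι)
        (pairwise_disjoint_on_bool.2 hd)
    · intro y
      rw [TopologicalSpace.Opens.coe_sup, closure_union]
      by_cases hy : y ∈ closure (U₀ : Set X)
      · exact Or.inl hy
      · exact Or.inr (image_closure_subset_closure_image O.ι.continuous ⟨⟨y, hy⟩, hWd _, rfl⟩)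
  choose U hxU hUa hUd using key
  obtain ⟨t, ht⟩ := isCompact_univ.elim_finite_subcover (fun x => (U x : Set X)) (fun x => (U x).2)
    fun x _ => Set.mem_iUnion.2 ⟨x, hxU x⟩
  refine ⟨t.card, fun i => U (t.equivFin.symm i).1, top_le_iff.1 fun x _ => ?_, fun i => ⟨hUa _, hUd _, ?_⟩⟩
  · obtain ⟨y, hy, hxy⟩ := Set.mem_iUnion₂.1 (ht (Set.mem_univ x))
    exact TopologicalSpace.Opens.mem_iSup.2 ⟨t.equivFin ⟨y, hy⟩, by simpa using hxy⟩
  · exact qp _ (hUa _)
where
  qp {S X : Scheme.{u}} {f : X ⟶ S} [IsNoetherian X] [LocallyOfFiniteType f] (V : X.Opens) (hV : IsAffineOpen V)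
      [QuasiCompact (V.ι ≫ f)] : RelProj.IsQuasiProjective (V.ι ≫ f) := by
    haveI : IsAffine (V : Scheme.{u}) := hV
    refine ⟨inferInstance, inferInstance, Coh.structureModule _, inferInstance, fun W => ?_⟩
    haveI : CompactSpace ((V.ι ≫ f) ⁻¹ᵁ W.1 : Scheme.{u}) :=
      isCompact_iff_compactSpace.1 ((V.ι ≫ f).isCompact_preimage W.2.isCompact)
    haveI := Scheme.IsQuasiAffine.of_isImmersion ((V.ι ≫ f) ⁻¹ᵁ W.1).ι
    exact AmpleLib.isAmple_of_iso (DCohLib.restrictUnit _).symm (AmpleLib.isQuasiAffine_iff.1 inferInstance)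

end Groth.Agent.S17886
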