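import Groth.Statements.S17887
import Groth.Agent.S1571
import Groth.Agent.BlowCompLib.Flat
-- import your own Groth.Agent.* helpers here

set_option autoImplicit false
universe u
open CategoryTheory AlgebraicGeometry
open BlowUp

namespace Groth.Agent.S17887

/-- Let X be a Noetherian scheme, U ⊆ X an open subscheme that is schematically dense in X, I a
quasi-coherent ideal sheaf on X whose support does not meet U, and π : X' → X a blowing-up of X
along I. Then π⁻¹(U) is schematically dense in X'. -/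
theorem result {X X' : Scheme.{u}} [IsNoetherian X]
    (U : X.Opens) [IsSchemeTheoreticallyDominant U.ι] (𝓘 : X.IdealSheafData)
    (hU : Disjoint (𝓘.support : Set X) (U : Set X)) (π : X' ⟶ X) (hπ : BlowUp.IsBlowUp π 𝓘) :
    IsSchemeTheoreticallyDominant (π ⁻¹ᵁ U).ι := by
  let W : X.Opens := 𝓘.support.compl
  haveI : IsIso (π ∣_ W) := Groth.Agent.BlowCompLib.isIso_restrict 𝓘 π hπ
  have hW : π ⁻¹ᵁ W = ((𝓘.comap π).support.compl : X'.Opens) := TopologicalSpace.Opens.ext (by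
    show π ⁻¹' ((𝓘.support : Set X)ᶜ) = ((𝓘.comap π).support : Set X')ᶜ
    rw [Scheme.IdealSheafData.support_comap]
    rfl)
  haveI : IsSchemeTheoreticallyDominant (π ⁻¹ᵁ W).ι := by
    rw [hW]; exact (Groth.Agent.S1571.result X' (𝓘.comap π) hπ.1).2
  haveI : IsSchemeTheoreticallyDominant (W.ι ⁻¹ᵁ U).ι :=
    IsSchemeTheoreticallyDominant.of_isPullback (isPullback_morphismRestrict W.ι U)
  haveI : QuasiCompact (W.ι ⁻¹ᵁ U).ι :=
    MorphismProperty.of_isPullback (P := @QuasiCompact) (isPullback_morphismRestrict W.ι U) inferInstance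
  let K : (π ⁻¹ᵁ W : Scheme.{u}).Opens := (π ∣_ W) ⁻¹ᵁ (W.ι ⁻¹ᵁ U)
  haveI : IsSchemeTheoreticallyDominant K.ι :=
    IsSchemeTheoreticallyDominant.of_isPullback (isPullback_morphismRestrict (π ∣_ W) (W.ι ⁻¹ᵁ U))
  have hr : Set.range (π ⁻¹ᵁ U).ι = Set.range (K.ι ≫ (π ⁻¹ᵁ W).ι) := by
    have hpt : ∀ y : (π ⁻¹ᵁ W : Scheme.{u}), W.ι ((π ∣_ W) y) = π y.1 := fun y => by
      rw [← Scheme.Hom.comp_apply, morphismRestrict_ι]
      rfl
    rw [Scheme.Opens.range_ι]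
    ext x
    constructor
    · intro hx
      have hxW : x ∈ π ⁻¹ᵁ W := Set.disjoint_right.mp hU (show π x ∈ U from hx)
      refine ⟨⟨⟨x, hxW⟩, ?_⟩, rfl⟩
      show W.ι ((π ∣_ W) ⟨x, hxW⟩) ∈ U
      exact (congrArg (· ∈ U) (hpt ⟨x, hxW⟩)).mpr hx
    · rintro ⟨⟨y, hy⟩, rfl⟩
      show π y.1 ∈ U
      exact (congrArg (· ∈ U) (hpt y)).mp hy
  rw [← IsOpenImmersion.isoOfRangeEq_hom_fac (π ⁻¹ᵁ U).ι (K.ι ≫ (π ⁻¹ᵁ W).ι) hr]
  infer_instance

end Groth.Agent.S17887
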