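import Groth.Statements.S17888
import Groth.Agent.RGBlowLib.ExtendBundle
import Groth.Agent.RGBlowLib.Extend
import Groth.Agent.RGBlowLib.Target

set_option autoImplicit false
set_option linter.style.haveILetI false
set_option backward.isDefEq.respectTransparency false
universe u
open CategoryTheory AlgebraicGeometry
open FlatMor

namespace Groth.Agent.S17888

/-- S is a Noetherian scheme and f : X → S is separated and of finite type; X is covered by two open
subschemes X₁ and X₂, both containing an open subscheme U that is schematically dense in X; and E₁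
on X₁, E₂ on X₂ are finite locally free modules that become isomorphic after restricting to U. Then
there exist a proper morphism π : X' → X which restricts to an isomorphism over U and under which
the preimage of U is schematically dense in X', and a finite locally free module E' on X' whose
restriction to π⁻¹(U) is isomorphic to the pullback of E₁|_U along π⁻¹(U) → U. -/
theorem result {S X : Scheme.{u}} (f : X ⟶ S)
    [IsNoetherian S] [IsSeparated f] [QuasiCompact f] [LocallyOfFiniteType f]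
    (U X₁ X₂ : X.Opens) (hU₁ : U ≤ X₁) (hU₂ : U ≤ X₂) (hX : X₁ ⊔ X₂ = ⊤)
    [IsSchemeTheoreticallyDominant U.ι]
    (E₁ : (↑X₁ : Scheme.{u}).Modules) (E₂ : (↑X₂ : Scheme.{u}).Modules)
    (hE₁ : FlatMod.IsFinLocFree E₁) (hE₂ : FlatMod.IsFinLocFree E₂)
    (φ : (Scheme.Modules.pullback (X.homOfLE hU₁)).obj E₁ ≅ (Scheme.Modules.pullback (X.homOfLE hU₂)).obj E₂) :
    ∃ (X' : Scheme.{u}) (π : X' ⟶ X) (E' : X'.Modules), IsProper π ∧ IsIso (π ∣_ U) ∧
      IsSchemeTheoreticallyDominant (π ⁻¹ᵁ U).ι ∧ FlatMod.IsFinLocFree E' ∧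
      Nonempty ((Scheme.Modules.pullback (π ⁻¹ᵁ U).ι).obj E' ≅
        (Scheme.Modules.pullback (π ∣_ U ≫ X.homOfLE hU₁)).obj E₁) := by
  haveI : IsNoetherian X := RGBlowLib.Union.isNoetherian_of_ft f
  haveI : IsLocallyNoetherian (U : Scheme.{u}) := isLocallyNoetherian_of_isOpenImmersion U.ι
  obtain ⟨X₀, j, b, hj, hb, hjb, E', hE', ⟨e⟩⟩ := RGBlowLib.exists_extend_one U.ι
    ((Scheme.Modules.pullback (X.homOfLE hU₁)).obj E₁) (PullbackMod.isFinLocFree_pullback _ E₁ hE₁)
  haveI := hj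
  haveI := hb
  haveI : IsNoetherian X₀ := RGBlowLib.Union.isNoetherian_of_ft b
  haveI : IsIso ((j.imageι ≫ b) ∣_ U) := RGBlowLib.isIso_image_restrict b U j hjb
  let π := j.imageι ≫ b
  let s : (U : Scheme.{u}) ⟶ π ⁻¹ᵁ U := inv (π ∣_ U)
  have hs : s ≫ (π ⁻¹ᵁ U).ι = j.toImage := by
    rw [← cancel_mono j.imageι, Scheme.Hom.toImage_imageι]
    haveI : IsIso ((j.imageι ≫ b) ∣_ U) := inferInstance
    let t : (U : Scheme.{u}) ⟶ π ⁻¹ᵁ U := IsOpenImmersion.lift (π ⁻¹ᵁ U).ι j.toImage (by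
      rintro _ ⟨x, rfl⟩
      rw [Scheme.Opens.range_ι]
      show π (j.toImage x) ∈ U
      rw [← Scheme.Hom.comp_apply, Scheme.Hom.toImage_imageι_assoc, hjb]
      exact x.2)
    have ht : t ≫ (π ∣_ U) = 𝟙 _ := by
      rw [← cancel_mono U.ι, Category.assoc, morphismRestrict_ι, IsOpenImmersion.lift_fac_assoc, Category.id_comp,
        Scheme.Hom.toImage_imageι_assoc, hjb]
    have : s = t := by
      rw [← cancel_mono (π ∣_ U), ht, IsIso.inv_hom_id]
    rw [this, IsOpenImmersion.lift_fac, Scheme.Hom.toImage_imageι]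
  refine ⟨j.image, π, (Scheme.Modules.pullback j.imageι).obj E', inferInstance, inferInstance, ?_,
    PullbackMod.isFinLocFree_pullback _ E' hE', ?_⟩
  · haveI : IsSchemeTheoreticallyDominant (s ≫ (π ⁻¹ᵁ U).ι) := by rw [hs]; infer_instance
    exact ⟨le_bot_iff.1 ((Scheme.Hom.le_ker_comp s (π ⁻¹ᵁ U).ι).trans
      (le_of_eq (s ≫ (π ⁻¹ᵁ U).ι).ker_eq_bot))⟩
  · refine ⟨?_ ≪≫ ((Scheme.Modules.pullback (π ∣_ U)).mapIso e) ≪≫
      (Scheme.Modules.pullbackComp (π ∣_ U) (X.homOfLE hU₁)).app E₁⟩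
    exact (Scheme.Modules.pullbackComp (π ⁻¹ᵁ U).ι j.imageι).app E' ≪≫
      (Scheme.Modules.pullbackCongr (show (π ⁻¹ᵁ U).ι ≫ j.imageι = (π ∣_ U) ≫ j by
        rw [← cancel_epi s, reassoc_of% hs, Scheme.Hom.toImage_imageι, IsIso.inv_hom_id_assoc])).app E' ≪≫
      ((Scheme.Modules.pullbackComp (π ∣_ U) j).app E').symm

end Groth.Agent.S17888
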