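import Groth.Statements.S17889
import Groth.Agent.BlowAvoidLib.Core
-- import your own Groth.Agent.* helpers here

set_option autoImplicit false
universe u
open CategoryTheory AlgebraicGeometry TopologicalSpace
open BlowUp

namespace Groth.Agent.S17889

/-- Let X be a Noetherian scheme, X₀ ⊆ X an open subscheme, p : Z → X a morphism of finite type with Z
Noetherian, and F ⊆ X, G ⊆ Z closed subsets with p⁻¹(F ∩ X₀) ∩ G = ∅. Let a be a quasi-coherent
ideal sheaf on X whose support does not meet X₀, which contains the vanishing ideal I_F of F, and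
which is contained in the kernel ideal of V(I_F·O_Z + I_G) → Z → X (the ideal of the
scheme-theoretic image under p of p⁻¹(F) ∩ G). Let π : X' → X be a blowing-up along a, Z' = Z ×_X X'
with projections π' : Z' → Z and p' : Z' → X'. Then p'⁻¹ of the closure in X' of π⁻¹(F ∩ X₀) is
disjoint from the closure in Z' of π'⁻¹(G ∩ p⁻¹(X₀)). Taking a to be that kernel ideal shows such an
a exists. -/
theorem result
    {X Z : Scheme.{u}} [IsNoetherian X] [IsNoetherian Z] (p : Z ⟶ X) [LocallyOfFiniteType p]
    (X₀ : X.Opens) (F : Closeds X) (G : Closeds Z)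
    (hFG : p.base ⁻¹' ((F : Set X) ∩ (X₀ : Set X)) ∩ (G : Set Z) = ∅)
    (𝔞 : X.IdealSheafData) (h₁ : Disjoint (𝔞.support : Set X) (X₀ : Set X))
    (h₂ : Scheme.IdealSheafData.vanishingIdeal F ≤ 𝔞)
    (h₃ : 𝔞 ≤ (((Scheme.IdealSheafData.vanishingIdeal F).comap p ⊔
      Scheme.IdealSheafData.vanishingIdeal G).subschemeι ≫ p).ker)
    {X' : Scheme.{u}} (π : X' ⟶ X) (hπ : BlowUp.IsBlowUp π 𝔞) :
    (Limits.pullback.snd p π).base ⁻¹' closure (π.base ⁻¹' ((F : Set X) ∩ (X₀ : Set X))) ∩
      closure ((Limits.pullback.fst p π).base ⁻¹' ((G : Set Z) ∩ (p ⁻¹ᵁ X₀ : Set Z))) = ∅ := by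
  let E := 𝔞.comap π
  let A := (Scheme.IdealSheafData.vanishingIdeal F).comap π
  let B := (Scheme.IdealSheafData.vanishingIdeal G).comap (Limits.pullback.fst p π)
  refine Set.eq_empty_iff_forall_notMem.2 fun z hz => ?_
  obtain ⟨U, W, g, hg, hI, hW, hzW⟩ := BlowAvoidLib.exists_chart E hπ.1 (Limits.pullback.snd p π) z
  have h3 : 𝔞.comap p ≤ (Scheme.IdealSheafData.vanishingIdeal F).comap p ⊔ Scheme.IdealSheafData.vanishingIdeal G := by
    rw [← Scheme.IdealSheafData.le_map_iff_comap_le]
    refine h₃.trans ?_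
    rw [← Scheme.IdealSheafData.map_ker, Scheme.IdealSheafData.ker_subschemeι]
  have h4 : E.comap (Limits.pullback.snd p π) ≤ A.comap (Limits.pullback.snd p π) ⊔ B := by
    have h5 := Scheme.IdealSheafData.comap_mono (Limits.pullback.fst p π) h3
    simp only [Scheme.IdealSheafData.comap_sup] at h5
    rw [← Scheme.IdealSheafData.comap_comp, ← Scheme.IdealSheafData.comap_comp, Limits.pullback.condition,
      Scheme.IdealSheafData.comap_comp, Scheme.IdealSheafData.comap_comp] at h5
    exact h5
  let θ := ((Limits.pullback.snd p π).appLE U.1 W.1 hW).hom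
  have hmem : θ g ∈ (A.comap (Limits.pullback.snd p π)).ideal W ⊔ B.ideal W :=
    h4 W (by rw [BlowCompLib.ideal_comap_span E _ hI W hW]; exact Ideal.mem_span_singleton_self _)
  obtain ⟨a, ha, i, hi, hai⟩ := Submodule.mem_sup.1 hmem
  have hA : (π.base ⁻¹' ((F : Set X) ∩ (X₀ : Set X))) ⊆ (A.support : Set X') := by
    intro s hs
    simp only [A, Scheme.IdealSheafData.support_comap, TopologicalSpace.Closeds.coe_preimage,
      Scheme.IdealSheafData.coe_support_vanishingIdeal]
    exact hs.1
  have hE : ∀ s ∈ π.base ⁻¹' ((F : Set X) ∩ (X₀ : Set X)), s ∉ E.support := by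
    intro s hs hsE
    simp only [E, Scheme.IdealSheafData.support_comap] at hsE
    exact Set.disjoint_left.1 h₁ hsE hs.2
  obtain ⟨k, hk, hka⟩ := Ideal.mem_span_singleton_mul.1 (BlowAvoidLib.ideal_comap_le_mul A E
    (Scheme.IdealSheafData.comap_mono π h₂) (Limits.pullback.snd p π) U W hW hI hzW _ hz.1 hA hE ha)
  refine BlowAvoidLib.notMem_closure E B (Limits.pullback.snd p π) U W hW hI hzW (c := 1 - k)
    (fun hc => BlowAvoidLib.one_notMem_offIdeal hzW (by simpa using Ideal.add_mem _ hc hk)) ?_ _ ?_ ?_ hz.2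
  · have he : θ g * (1 - k) = i := by
      rw [mul_sub, mul_one, hka]
      exact sub_eq_of_eq_add' hai.symm
    exact he ▸ hi
  · intro s hs
    simp only [B, Scheme.IdealSheafData.support_comap, TopologicalSpace.Closeds.coe_preimage,
      Scheme.IdealSheafData.coe_support_vanishingIdeal]
    exact hs.1
  · intro s hs hsE
    simp only [E, Scheme.IdealSheafData.support_comap] at hsE
    have hc : π (Limits.pullback.snd p π s) = p (Limits.pullback.fst p π s) := by
      rw [← Scheme.Hom.comp_apply, ← Scheme.Hom.comp_apply, Limits.pullback.condition]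
    refine Set.disjoint_left.1 h₁ hsE ?_
    show π (Limits.pullback.snd p π s) ∈ X₀
    rw [hc]
    exact hs.2

end Groth.Agent.S17889
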