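import Groth.Statements.S17890
import Groth.Agent.LocImmersion.TwoGlue
import Groth.Agent.S2299
-- import your own Groth.Agent.* helpers here

set_option autoImplicit false
set_option backward.isDefEq.respectTransparency false
universe u
open CategoryTheory AlgebraicGeometry
open FlatMor

namespace Groth.Agent.S17890

open AlgebraicGeometry in
theorem app_injective_comp {U X Y : Scheme.{u}} (j : U ⟶ X) (i : X ⟶ Y) [IsSchemeTheoreticallyDominant j]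
    [QuasiCompact j] [IsOpenImmersion i] (V : Y.Opens) (hV : V ≤ i.opensRange) :
    Function.Injective ((j ≫ i).app V) := by
  haveI : IsIso (i.app V) := i.isIso_app V hV
  rw [Scheme.Hom.comp_app]
  exact (j.app_injective _).comp (asIso (i.app V)).commRingCatIsoToRingEquiv.injective

open AlgebraicGeometry in
theorem eq_of_dominant {X Y Z S : Scheme.{u}} (f : X ⟶ Y) [IsSchemeTheoreticallyDominant f]
    (s : Z ⟶ S) [IsSeparated s] (u v : Y ⟶ Z) (hS : u ≫ s = v ≫ s) (h : f ≫ u = f ≫ v) : u = v :=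
  Groth.Agent.S2299.result f s u v hS h

/-- Let S be a Noetherian scheme, X₁ and X₂ separated S-schemes of finite type, and j₁ : U → X₁, j₂ : U
→ X₂ open immersions over S with schematically dense images. Suppose X₁ quasi-dominates X₂ and X₂
quasi-dominates X₁ compatibly with U: there are schematically dense opens W₁ ⊆ X₁ and W₂ ⊆ X₂
through which j₁, j₂ factor, and S-morphisms φ : W₁ → X₂, ψ : W₂ → X₁ restricting to j₂ and j₁ on U,
whose graphs are closed subsets of X₁ ×_S X₂ and X₂ ×_S X₁. Then there exist a separated S-scheme Y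
of finite type and open immersions i₁ : X₁ → Y, i₂ : X₂ → Y over S with j₁ ≫ i₁ = j₂ ≫ i₂, such that
U → Y has schematically dense image. -/
theorem result {S X₁ X₂ U : Scheme.{u}} [IsNoetherian S]
    (p₁ : X₁ ⟶ S) (p₂ : X₂ ⟶ S) [IsSeparated p₁] [QuasiCompact p₁] [LocallyOfFiniteType p₁]
    [IsSeparated p₂] [QuasiCompact p₂] [LocallyOfFiniteType p₂]
    (j₁ : U ⟶ X₁) (j₂ : U ⟶ X₂) [IsOpenImmersion j₁] [IsOpenImmersion j₂]
    [IsSchemeTheoreticallyDominant j₁] [IsSchemeTheoreticallyDominant j₂] (hj : j₁ ≫ p₁ = j₂ ≫ p₂)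
    (W₁ : X₁.Opens) [IsSchemeTheoreticallyDominant W₁.ι] (φ : (↑W₁ : Scheme.{u}) ⟶ X₂)
    (hφ : W₁.ι ≫ p₁ = φ ≫ p₂)
    (hφc : IsClosed (Set.range (fun w => (Limits.pullback.lift W₁.ι φ hφ) w)))
    (k₁ : U ⟶ ↑W₁) (hk₁ : k₁ ≫ W₁.ι = j₁) (hk₁' : k₁ ≫ φ = j₂)
    (W₂ : X₂.Opens) [IsSchemeTheoreticallyDominant W₂.ι] (ψ : (↑W₂ : Scheme.{u}) ⟶ X₁)
    (hψ : W₂.ι ≫ p₂ = ψ ≫ p₁)
    (hψc : IsClosed (Set.range (fun w => (Limits.pullback.lift W₂.ι ψ hψ) w)))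
    (k₂ : U ⟶ ↑W₂) (hk₂ : k₂ ≫ W₂.ι = j₂) (hk₂' : k₂ ≫ ψ = j₁) :
    ∃ (Y : Scheme.{u}) (q : Y ⟶ S) (i₁ : X₁ ⟶ Y) (i₂ : X₂ ⟶ Y), IsSeparated q ∧ QuasiCompact q ∧
      LocallyOfFiniteType q ∧ IsOpenImmersion i₁ ∧ IsOpenImmersion i₂ ∧ i₁ ≫ q = p₁ ∧ i₂ ≫ q = p₂ ∧
      j₁ ≫ i₁ = j₂ ≫ i₂ ∧ QuasiCompact (j₁ ≫ i₁) ∧ IsSchemeTheoreticallyDominant (j₁ ≫ i₁) := by
  haveI : IsLocallyNoetherian X₁ := LocallyOfFiniteType.isLocallyNoetherian p₁
  haveI : IsLocallyNoetherian X₂ := LocallyOfFiniteType.isLocallyNoetherian p₂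
  haveI : CompactSpace X₁ := QuasiCompact.compactSpace_of_compactSpace p₁
  haveI : CompactSpace X₂ := QuasiCompact.compactSpace_of_compactSpace p₂
  let Z₁ : (W₁ : Scheme.{u}).Opens := φ ⁻¹ᵁ W₂
  let Z₂ : (W₂ : Scheme.{u}).Opens := ψ ⁻¹ᵁ W₁
  let a₁ : (Z₁ : Scheme.{u}) ⟶ X₁ := Z₁.ι ≫ W₁.ι
  let a₂ : (Z₂ : Scheme.{u}) ⟶ X₂ := Z₂.ι ≫ W₂.ι
  have hl₁ : ∀ z, (Z₁.ι ≫ φ) z ∈ W₂ := fun z => z.2
  have hl₂ : ∀ z, (Z₂.ι ≫ ψ) z ∈ W₁ := fun z => z.2
  let c₁ : (Z₁ : Scheme.{u}) ⟶ W₂ := IsOpenImmersion.lift W₂.ι (Z₁.ι ≫ φ) (by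
    rintro _ ⟨z, rfl⟩
    rw [Scheme.Opens.range_ι]
    exact hl₁ z)
  let c₂ : (Z₂ : Scheme.{u}) ⟶ W₁ := IsOpenImmersion.lift W₁.ι (Z₂.ι ≫ ψ) (by
    rintro _ ⟨z, rfl⟩
    rw [Scheme.Opens.range_ι]
    exact hl₂ z)
  have hc₁ : c₁ ≫ W₂.ι = Z₁.ι ≫ φ := IsOpenImmersion.lift_fac _ _ _
  have hc₂ : c₂ ≫ W₁.ι = Z₂.ι ≫ ψ := IsOpenImmersion.lift_fac _ _ _
  have hk₁W : Set.range k₁ ⊆ Set.range Z₁.ι := by
    rintro _ ⟨x, rfl⟩
    rw [Scheme.Opens.range_ι]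
    show φ (k₁ x) ∈ W₂
    rw [← Scheme.Hom.comp_apply, hk₁', ← hk₂, Scheme.Hom.comp_apply]
    exact (k₂ x).2
  have hk₂W : Set.range k₂ ⊆ Set.range Z₂.ι := by
    rintro _ ⟨x, rfl⟩
    rw [Scheme.Opens.range_ι]
    show ψ (k₂ x) ∈ W₁
    rw [← Scheme.Hom.comp_apply, hk₂', ← hk₁, Scheme.Hom.comp_apply]
    exact (k₁ x).2
  let l₁ := IsOpenImmersion.lift Z₁.ι k₁ hk₁W
  let l₂ := IsOpenImmersion.lift Z₂.ι k₂ hk₂W
  have hl₁a : l₁ ≫ a₁ = j₁ := by rw [IsOpenImmersion.lift_fac_assoc, hk₁]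
  have hl₂a : l₂ ≫ a₂ = j₂ := by rw [IsOpenImmersion.lift_fac_assoc, hk₂]
  haveI : IsOpenImmersion a₁ := inferInstance
  haveI : IsOpenImmersion a₂ := inferInstance
  have hpb : ∀ {Z : Scheme.{u}} {X : Scheme.{u}} (l : U ⟶ Z) (a : Z ⟶ X) (j : U ⟶ X), IsOpenImmersion a → l ≫ a = j →
      IsPullback (𝟙 U) l j a := fun {Z X} l a j _ h => by
    refine ⟨⟨by rw [Category.id_comp, h]⟩, ⟨Limits.PullbackCone.IsLimit.mk _ (fun c => c.fst) ?_ ?_ ?_⟩⟩
    · exact fun c => Category.comp_id _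
    · intro c
      rw [← cancel_mono a, Category.assoc, h]
      exact c.condition
    · intro c m hm₁ hm₂
      rw [← hm₁, Category.comp_id]
  haveI : IsSchemeTheoreticallyDominant l₁ := IsSchemeTheoreticallyDominant.of_isPullback (hpb l₁ a₁ j₁ inferInstance hl₁a)
  haveI : IsSchemeTheoreticallyDominant l₂ := IsSchemeTheoreticallyDominant.of_isPullback (hpb l₂ a₂ j₂ inferInstance hl₂a)
  have hlc₁ : l₁ ≫ c₁ = k₂ := (cancel_mono W₂.ι).1 (by
    rw [Category.assoc, hc₁, IsOpenImmersion.lift_fac_assoc, hk₁', hk₂])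
  have hlc₂ : l₂ ≫ c₂ = k₁ := (cancel_mono W₁.ι).1 (by
    rw [Category.assoc, hc₂, IsOpenImmersion.lift_fac_assoc, hk₂', hk₁])
  have e₁ : c₁ ≫ ψ = a₁ := eq_of_dominant l₁ p₁ _ _
    (by rw [Category.assoc, ← hψ, reassoc_of% hc₁, ← hφ, Category.assoc])
    (by rw [reassoc_of% hlc₁, hk₂', hl₁a])
  have e₂ : c₂ ≫ φ = a₂ := eq_of_dominant l₂ p₂ _ _
    (by rw [Category.assoc, ← hφ, reassoc_of% hc₂, ← hψ, Category.assoc])
    (by rw [reassoc_of% hlc₂, hk₁', hl₂a])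
  have hr₁ : Set.range c₁ ⊆ Set.range Z₂.ι := by
    rintro _ ⟨z, rfl⟩
    rw [Scheme.Opens.range_ι]
    show ψ (c₁ z) ∈ W₁
    rw [← Scheme.Hom.comp_apply, e₁]
    exact (Z₁.ι z).2
  have hr₂ : Set.range c₂ ⊆ Set.range Z₁.ι := by
    rintro _ ⟨z, rfl⟩
    rw [Scheme.Opens.range_ι]
    show φ (c₂ z) ∈ W₂
    rw [← Scheme.Hom.comp_apply, e₂]
    exact (Z₂.ι z).2
  let ν := IsOpenImmersion.lift Z₂.ι c₁ hr₁
  let ν' := IsOpenImmersion.lift Z₁.ι c₂ hr₂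
  have hν : ν ≫ Z₂.ι = c₁ := IsOpenImmersion.lift_fac _ _ _
  have hν' : ν' ≫ Z₁.ι = c₂ := IsOpenImmersion.lift_fac _ _ _
  have i₁ : ν ≫ ν' = 𝟙 _ := (cancel_mono a₁).1 (by
    rw [Category.assoc, show ν' ≫ a₁ = c₂ ≫ W₁.ι from by rw [← hν', Category.assoc], hc₂, reassoc_of% hν, e₁,
      Category.id_comp])
  have i₂ : ν' ≫ ν = 𝟙 _ := (cancel_mono a₂).1 (by
    rw [Category.assoc, show ν ≫ a₂ = c₁ ≫ W₂.ι from by rw [← hν, Category.assoc], hc₁, reassoc_of% hν', e₂,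
      Category.id_comp])
  haveI : IsIso ν := ⟨⟨ν', i₁, i₂⟩⟩
  let b : (Z₁ : Scheme.{u}) ⟶ X₂ := ν ≫ a₂
  have hb : b = Z₁.ι ≫ φ := by rw [show b = ν ≫ Z₂.ι ≫ W₂.ι from rfl, reassoc_of% hν, hc₁]
  have hab : a₁ ≫ p₁ = b ≫ p₂ := by rw [hb, Category.assoc, hφ, Category.assoc]
  have hclosed : IsClosed (Set.range (Limits.pullback.lift a₁ b hab)) := by
    let τ := (Limits.pullbackSymmetry p₂ p₁).hom
    have h₂c : IsClosed (τ '' Set.range (fun w => (Limits.pullback.lift W₂.ι ψ hψ) w)) :=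
      τ.homeomorph.isClosedMap _ hψc
    have eφ : Z₁.ι ≫ Limits.pullback.lift W₁.ι φ hφ = Limits.pullback.lift a₁ b hab := by
      apply Limits.pullback.hom_ext <;> simp [hb, a₁]
    have eψ : c₁ ≫ Limits.pullback.lift W₂.ι ψ hψ ≫ τ = Limits.pullback.lift a₁ b hab := by
      apply Limits.pullback.hom_ext <;> simp [τ, e₁, hc₁, hb]
    convert hφc.inter h₂c using 1
    ext z
    constructor
    · rintro ⟨w, rfl⟩
      refine ⟨⟨Z₁.ι w, ?_⟩, ⟨_, ⟨c₁ w, rfl⟩, ?_⟩⟩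
      · exact (Scheme.Hom.comp_apply _ _ _).symm.trans (congrArg (fun g => g w) eφ)
      · exact congrArg (fun g => g w) eψ
    · rintro ⟨⟨w, rfl⟩, y, ⟨v, rfl⟩, hy⟩
      have hw : φ w ∈ W₂ := by
        have e := congrArg (fun t => Limits.pullback.snd p₁ p₂ t) hy
        simp only [← Scheme.Hom.comp_apply, τ, Category.assoc, Limits.pullbackSymmetry_hom_comp_snd, Limits.pullback.lift_fst,
          Limits.pullback.lift_snd] at e
        rw [← e]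
        exact v.2
      exact ⟨⟨w, hw⟩, ((Scheme.Hom.comp_apply _ _ _).symm.trans (congrArg (fun g => g ⟨w, hw⟩) eφ)).symm⟩
  haveI := Groth.Agent.LocImmersion.isSeparated_pushout a₁ b p₁ p₂ hab hclosed
  haveI := Groth.Agent.LocImmersion.isOpenImmersion_pushoutInl a₁ b
  haveI := Groth.Agent.LocImmersion.isOpenImmersion_pushoutInr a₁ b
  let i := Limits.pushout.inl a₁ b
  let i' := Limits.pushout.inr a₁ b
  let q := Limits.pushout.desc p₁ p₂ hab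
  have hcov := Groth.Agent.LocImmersion.pushout_range_union a₁ b
  have hji : j₁ ≫ i = j₂ ≫ i' := by
    rw [← hl₁a, Category.assoc, Limits.pushout.condition, ← Category.assoc]
    congr 1
    rw [hb, IsOpenImmersion.lift_fac_assoc, hk₁']
  haveI : CompactSpace ↥(Limits.pushout a₁ b) := ⟨by
    rw [← hcov]
    exact (isCompact_range i.continuous).union (isCompact_range i'.continuous)⟩
  haveI : LocallyOfFiniteType q := by
    refine (IsZariskiLocalAtSource.iff_of_iSup_eq_top (P := @LocallyOfFiniteType)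
      (U := fun s : Bool => cond s i.opensRange i'.opensRange) ?_).2 ?_
    · refine top_le_iff.1 fun x _ => ?_
      rcases Set.eq_univ_iff_forall.1 hcov x with h | h
      · exact TopologicalSpace.Opens.mem_iSup.2 ⟨true, h⟩
      · exact TopologicalSpace.Opens.mem_iSup.2 ⟨false, h⟩
    · rintro (_ | _)
      · rw [← MorphismProperty.cancel_left_of_respectsIso @LocallyOfFiniteType i'.isoOpensRange.hom]
        show LocallyOfFiniteType (i'.isoOpensRange.hom ≫ i'.opensRange.ι ≫ q)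
        rw [Scheme.Hom.isoOpensRange_hom_ι_assoc, Limits.pushout.inr_desc]
        infer_instance
      · rw [← MorphismProperty.cancel_left_of_respectsIso @LocallyOfFiniteType i.isoOpensRange.hom]
        show LocallyOfFiniteType (i.isoOpensRange.hom ≫ i.opensRange.ι ≫ q)
        rw [Scheme.Hom.isoOpensRange_hom_ι_assoc, Limits.pushout.inl_desc]
        infer_instance
  haveI : IsLocallyNoetherian (Limits.pushout a₁ b) := LocallyOfFiniteType.isLocallyNoetherian q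
  haveI : IsNoetherian (Limits.pushout a₁ b) := ⟨⟩
  refine ⟨_, q, i, i', inferInstance, inferInstance, inferInstance, inferInstance, inferInstance,
    Limits.pushout.inl_desc _ _ _, Limits.pushout.inr_desc _ _ _, hji, inferInstance, ?_⟩
  rw [isSchemeTheoreticallyDominant_iff]
  let V : {V : (Limits.pushout a₁ b).affineOpens // V.1 ≤ i.opensRange ∨ V.1 ≤ i'.opensRange} → (Limits.pushout a₁ b).affineOpens :=
    fun V => V.1
  refine Scheme.IdealSheafData.ext_of_iSup_eq_top V ?_ fun W => ?_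
  · refine top_le_iff.1 fun x _ => ?_
    rcases Set.eq_univ_iff_forall.1 hcov x with h | h
    · obtain ⟨W, hW, hxW, hWle⟩ := exists_isAffineOpen_mem_and_subset (x := x) (U := i.opensRange) h
      exact TopologicalSpace.Opens.mem_iSup.2 ⟨⟨⟨W, hW⟩, Or.inl hWle⟩, hxW⟩
    · obtain ⟨W, hW, hxW, hWle⟩ := exists_isAffineOpen_mem_and_subset (x := x) (U := i'.opensRange) h
      exact TopologicalSpace.Opens.mem_iSup.2 ⟨⟨⟨W, hW⟩, Or.inr hWle⟩, hxW⟩
  · rw [Scheme.Hom.ker_apply, Scheme.IdealSheafData.ideal_bot, Pi.bot_apply, ← RingHom.injective_iff_ker_eq_bot]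
    obtain ⟨W, hW | hW⟩ := W
    · exact app_injective_comp j₁ i _ hW
    · rw [hji]
      exact app_injective_comp j₂ i' _ hW

end Groth.Agent.S17890
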