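import Groth.Statements.S17892
import Groth.Agent.AmpleEmb.ComposeRel
import Groth.Agent.AmpleEmb.GenFinite
import Groth.Agent.AmpleLib.Pullback
import Groth.Agent.AmpleLib.Rel

set_option autoImplicit false
universe u
open CategoryTheory AlgebraicGeometry
open FlatMor

namespace Groth.Agent.S17892

open Groth.Agent.AmpleLib in
/-- A section trivialises after pullback exactly when the map lands in its locus. -/
theorem isIso_map_iff {A B : Scheme.{u}} (f : A ⟶ B) {L : B.Modules} (hL : PicF.IsInvertible L)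
    (s : Coh.structureModule B ⟶ L) :
    IsIso ((Scheme.Modules.pullback f).map s) ↔ f ⁻¹ᵁ CohB1.genLocus L s = ⊤ := by
  rw [← genLocus_pullS f hL]
  constructor
  · intro h
    haveI := h
    haveI : IsIso (pullS f s) := by unfold pullS; infer_instance
    have h' := genLocus_comp_iso (𝟙 (Coh.structureModule A)) (asIso (pullS f s))
    rwa [asIso_hom, Category.id_comp, genLocus_id] at h'
  · intro h
    haveI : IsIso (pullS f s) := GenMorph.isIso_of_genLocus_eq_top (isInvertible_pullback f hL) h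
    haveI : IsIso ((pullO f).inv ≫ (Scheme.Modules.pullback f).map s) := ‹IsIso (pullS f s)›
    exact IsIso.of_isIso_comp_left (pullO f).inv _

open Groth.Agent.AmpleLib in
/-- Here f : Y → X is an affine morphism with X and Y quasi-compact and quasi-separated; a
Y-modification of X is a factorization f = fᵢ ≫ gᵢ with fᵢ : Y → Xᵢ schematically dominant and gᵢ :
Xᵢ → X proper, and it is a Y-blow-up of X when Xᵢ carries a gᵢ-ample module L with a section ε : O →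
L whose pullback along fᵢ is an isomorphism (a Y-trivialization). If (Xᵢ, fᵢ, gᵢ) is a Y-blow-up of
X and (Xⱼ, fⱼ, gᵢⱼ) is a Y-blow-up of Xᵢ (with respect to fᵢ : Y → Xᵢ), then (Xⱼ, fⱼ, gᵢⱼ ≫ gᵢ) is a
Y-blow-up of X. -/
theorem result {X Y : Scheme.{u}} (f : Y ⟶ X)
    [CompactSpace X] [QuasiSeparatedSpace X] [CompactSpace Y] [QuasiSeparatedSpace Y] [IsAffineHom f]
    {Xᵢ Xⱼ : Scheme.{u}} (fᵢ : Y ⟶ Xᵢ) (gᵢ : Xᵢ ⟶ X) (fⱼ : Y ⟶ Xⱼ) (gᵢⱼ : Xⱼ ⟶ Xᵢ)
    (hᵢ : IsSchemeTheoreticallyDominant fᵢ ∧ IsProper gᵢ ∧ fᵢ ≫ gᵢ = f ∧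
        ∃ (L : Xᵢ.Modules) (ε : Coh.structureModule Xᵢ ⟶ L),
          RelAmple.IsRelAmple gᵢ L ∧ IsIso ((Scheme.Modules.pullback fᵢ).map ε))
    (hⱼ : IsSchemeTheoreticallyDominant fⱼ ∧ IsProper gᵢⱼ ∧ fⱼ ≫ gᵢⱼ = fᵢ ∧
        ∃ (L : Xⱼ.Modules) (ε : Coh.structureModule Xⱼ ⟶ L),
          RelAmple.IsRelAmple gᵢⱼ L ∧ IsIso ((Scheme.Modules.pullback fⱼ).map ε)) :
    IsSchemeTheoreticallyDominant fⱼ ∧ IsProper (gᵢⱼ ≫ gᵢ) ∧ fⱼ ≫ (gᵢⱼ ≫ gᵢ) = f ∧
        ∃ (L : Xⱼ.Modules) (ε : Coh.structureModule Xⱼ ⟶ L),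
          RelAmple.IsRelAmple (gᵢⱼ ≫ gᵢ) L ∧ IsIso ((Scheme.Modules.pullback fⱼ).map ε) := by
  obtain ⟨-, hgi, hfi, L, ε, hL, hLiso⟩ := hᵢ
  obtain ⟨hdom, hgij, hfj, M, η, hM, hMiso⟩ := hⱼ
  haveI := hgi
  haveI := hgij
  refine ⟨hdom, inferInstance, by rw [← Category.assoc, hfj, hfi], ?_⟩
  obtain ⟨N, hN⟩ := AmpleEmb.eventually_isRelAmple_comp gᵢⱼ gᵢ hM hL
  have hLi := isInvertible_of_isRelAmple hL
  have hMi := isInvertible_of_isRelAmple hM
  let η' := pullS gᵢⱼ (powS ε (N + 1))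
  refine ⟨_, tensorS η η', hN (N + 1) (Nat.le_succ N), ?_⟩
  have hPi := isInvertible_pullback gᵢⱼ (isInvertible_tensorPow hLi (N + 1))
  rw [isIso_map_iff fⱼ (isInvertible_tensor hMi hPi), genLocus_tensorS hMi hPi, Scheme.Hom.preimage_inf,
    (isIso_map_iff fⱼ hMi η).1 hMiso, genLocus_pullS gᵢⱼ (isInvertible_tensorPow hLi (N + 1)), genLocus_powS hLi,
    ← Scheme.Hom.comp_preimage, hfj, (isIso_map_iff fᵢ hLi ε).1 hLiso, inf_idem]

end Groth.Agent.S17892
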