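import Groth.Statements.S17891
import Groth.Agent.S17892
import Groth.Agent.AmpleEmb.ComposeRel
import Groth.Agent.SchDenseLib.Basic

set_option backward.isDefEq.respectTransparency false

set_option autoImplicit false
universe u
open CategoryTheory AlgebraicGeometry
open FlatMor

namespace Groth.Agent.S17891

/-- Here f : Y → X is an affine morphism with X and Y quasi-compact and quasi-separated; a
Y-modification of X is a factorization f = fᵢ ≫ gᵢ with fᵢ : Y → Xᵢ schematically dominant and gᵢ :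
Xᵢ → X proper, and it is a Y-blow-up of X when Xᵢ carries a gᵢ-ample module L with a section ε : O →
L whose pullback along fᵢ is an isomorphism (a Y-trivialization). Given two Y-blow-ups (X₁, f₁, g₁),
(X₂, f₂, g₂) of X there is a Y-blow-up (X₃, f₃, g₃) of X together with morphisms dᵢ : X₃ → Xᵢ
satisfying f₃ ≫ dᵢ = fᵢ and dᵢ ≫ gᵢ = g₃. -/
theorem result {X Y : Scheme.{u}} (f : Y ⟶ X)
    [CompactSpace X] [QuasiSeparatedSpace X] [CompactSpace Y] [QuasiSeparatedSpace Y] [IsAffineHom f]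
    {X₁ X₂ : Scheme.{u}} (f₁ : Y ⟶ X₁) (g₁ : X₁ ⟶ X) (f₂ : Y ⟶ X₂) (g₂ : X₂ ⟶ X)
    (h₁ : IsSchemeTheoreticallyDominant f₁ ∧ IsProper g₁ ∧ f₁ ≫ g₁ = f ∧
        ∃ (L : X₁.Modules) (ε : Coh.structureModule X₁ ⟶ L),
          RelAmple.IsRelAmple g₁ L ∧ IsIso ((Scheme.Modules.pullback f₁).map ε))
    (h₂ : IsSchemeTheoreticallyDominant f₂ ∧ IsProper g₂ ∧ f₂ ≫ g₂ = f ∧
        ∃ (L : X₂.Modules) (ε : Coh.structureModule X₂ ⟶ L),
          RelAmple.IsRelAmple g₂ L ∧ IsIso ((Scheme.Modules.pullback f₂).map ε)) :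
    ∃ (X₃ : Scheme.{u}) (f₃ : Y ⟶ X₃) (g₃ : X₃ ⟶ X) (d₁ : X₃ ⟶ X₁) (d₂ : X₃ ⟶ X₂),
      (IsSchemeTheoreticallyDominant f₃ ∧ IsProper g₃ ∧ f₃ ≫ g₃ = f ∧
        ∃ (L : X₃.Modules) (ε : Coh.structureModule X₃ ⟶ L),
          RelAmple.IsRelAmple g₃ L ∧ IsIso ((Scheme.Modules.pullback f₃).map ε)) ∧
      f₃ ≫ d₁ = f₁ ∧ d₁ ≫ g₁ = g₃ ∧ f₃ ≫ d₂ = f₂ ∧ d₂ ≫ g₂ = g₃ := by
  obtain ⟨-, hg₁, hf₁, L₁, ε₁, hL₁, hL₁iso⟩ := h₁
  obtain ⟨-, hg₂, hf₂, L₂, ε₂, hL₂, hL₂iso⟩ := h₂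
  haveI := hg₁
  haveI := hg₂
  -- the fibre product and the map into it
  let p := Limits.pullback.fst g₂ g₁
  let q := Limits.pullback.snd g₂ g₁
  let h : Y ⟶ Limits.pullback g₂ g₁ := Limits.pullback.lift f₂ f₁ (by rw [hf₁, hf₂])
  let i := h.imageι
  let f₃ := h.toImage
  have hf₃ : f₃ ≫ i = h := h.toImage_imageι
  haveI : IsProper (q ≫ g₁) := inferInstance
  haveI : IsClosedImmersion i := inferInstanceAs (IsClosedImmersion h.imageι)
  -- an ample module on the fibre product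
  obtain ⟨N, hN⟩ := AmpleEmb.eventually_isRelAmple_comp q g₁ (AmpleLib.isRelAmple_baseChange g₂ g₁ hL₂) hL₁
  have hqa : Mor2.IsQuasiAffine i := ⟨inferInstance, fun V hV => by
    haveI : IsAffine (i ⁻¹ᵁ V : Scheme.{u}) := hV.preimage i
    infer_instance⟩
  have hM := AmpleLib.isRelAmple_pullback_quasiAffine i hqa (hN (N + 1) (Nat.le_succ N))
  -- its section
  have hI₁ := AmpleLib.isInvertible_of_isRelAmple hL₁
  have hI₂ := AmpleLib.isInvertible_of_isRelAmple hL₂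
  have hP₁ := AmpleLib.isInvertible_tensorPow hI₁ (N + 1)
  have hQ₁ := AmpleLib.isInvertible_pullback q hP₁
  have hQ₂ := AmpleLib.isInvertible_pullback p hI₂
  let s := AmpleLib.tensorS (AmpleLib.pullS p ε₂) (AmpleLib.pullS q (AmpleLib.powS ε₁ (N + 1)))
  have hloc₁ := (S17892.isIso_map_iff f₁ hI₁ ε₁).1 hL₁iso
  have hloc₂ := (S17892.isIso_map_iff f₂ hI₂ ε₂).1 hL₂iso
  have hp : f₃ ≫ i ≫ p = f₂ := by rw [← Category.assoc, hf₃]; exact Limits.pullback.lift_fst _ _ _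
  have hq : f₃ ≫ i ≫ q = f₁ := by rw [← Category.assoc, hf₃]; exact Limits.pullback.lift_snd _ _ _
  refine ⟨h.image, f₃, i ≫ q ≫ g₁, i ≫ q, i ≫ p,
    ⟨SchDenseLib.toImage_dominant h, inferInstance,
      by rw [← Category.assoc i, ← Category.assoc f₃, hq, hf₁],
      _, AmpleLib.pullS i s, hM, ?_⟩,
    hq, Category.assoc _ _ _, hp, ?_⟩
  · have hS := AmpleLib.isInvertible_tensor hQ₂ hQ₁
    rw [S17892.isIso_map_iff f₃ (AmpleLib.isInvertible_pullback i hS) (AmpleLib.pullS i s),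
      AmpleLib.genLocus_pullS i hS, AmpleLib.genLocus_tensorS hQ₂ hQ₁, AmpleLib.genLocus_pullS p hI₂,
      AmpleLib.genLocus_pullS q hP₁, AmpleLib.genLocus_powS hI₁, Scheme.Hom.preimage_inf,
      Scheme.Hom.preimage_inf, ← Scheme.Hom.comp_preimage, ← Scheme.Hom.comp_preimage,
      ← Scheme.Hom.comp_preimage, ← Scheme.Hom.comp_preimage, Category.assoc, Category.assoc, hp, hq,
      hloc₁, hloc₂, inf_idem]
  · rw [Category.assoc]
    exact congrArg (i ≫ ·) Limits.pullback.condition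

end Groth.Agent.S17891
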