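import Groth.Statements.S17896
import Groth.Agent.RGBlowLib.ExtendBundle

set_option autoImplicit false
set_option linter.style.haveILetI false
set_option backward.isDefEq.respectTransparency false
set_option maxHeartbeats 800000
universe u
open CategoryTheory AlgebraicGeometry
open FlatMor

namespace Groth.Agent.S17896

open AlgebraicGeometry CategoryTheory CategoryTheory.Limits

/-- A morphism to a compactification gives a proper quasi-domination over the given open. -/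
theorem exists_quasiDomination {S X X₁ Y₁ U : Scheme.{u}} (p : X ⟶ S) (p₁ : X₁ ⟶ S) [IsProper p]
    (j₁ : U ⟶ X₁) (k : U ⟶ X) [IsSchemeTheoreticallyDominant k] (i₁ : X₁ ⟶ Y₁) [IsOpenImmersion i₁]
    (q₁ : Y₁ ⟶ S) [IsProper q₁] (hiq : i₁ ≫ q₁ = p₁) (c : X ⟶ Y₁) (hc : c ≫ q₁ = p) (hkc : k ≫ c = j₁ ≫ i₁) :
    ∃ (W₁ : X.Opens) (φ₁ : (↑W₁ : Scheme.{u}) ⟶ X₁) (hφ₁ : W₁.ι ≫ p = φ₁ ≫ p₁) (l₁ : U ⟶ ↑W₁),
      IsSchemeTheoreticallyDominant W₁.ι ∧ IsProper φ₁ ∧ l₁ ≫ W₁.ι = k ∧ l₁ ≫ φ₁ = j₁ ∧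
      IsClosed (Set.range (fun w => (Limits.pullback.lift W₁.ι φ₁ hφ₁) w)) := by
  let W : X.Opens := c ⁻¹ᵁ i₁.opensRange
  have hr : Set.range (W.ι ≫ c) ⊆ Set.range i₁ := by
    rintro _ ⟨w, rfl⟩
    exact w.2
  let φ : (W : Scheme.{u}) ⟶ X₁ := IsOpenImmersion.lift i₁ (W.ι ≫ c) hr
  have hφ : φ ≫ i₁ = W.ι ≫ c := IsOpenImmersion.lift_fac _ _ _
  have hφp : W.ι ≫ p = φ ≫ p₁ := by rw [← hiq, reassoc_of% hφ, hc]
  have hkW : Set.range k ⊆ Set.range W.ι := by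
    rintro _ ⟨x, rfl⟩
    rw [Scheme.Opens.range_ι]
    show c (k x) ∈ i₁.opensRange
    rw [← Scheme.Hom.comp_apply, hkc]
    exact ⟨j₁ x, rfl⟩
  let l : U ⟶ (W : Scheme.{u}) := IsOpenImmersion.lift W.ι k hkW
  have hl : l ≫ W.ι = k := IsOpenImmersion.lift_fac _ _ _
  haveI : IsProper (c ≫ q₁) := by rw [hc]; infer_instance
  haveI : IsProper c := IsProper.of_comp c q₁
  have hφW : IsPullback W.ι φ c i₁ := by
    refine (IsOpenImmersion.isPullback φ W.ι i₁ c hφ.symm ?_).flip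
    ext x
    simp [W]
  haveI : IsProper φ := MorphismProperty.of_isPullback (P := @IsProper) hφW inferInstance
  refine ⟨W, φ, hφp, l, ⟨le_bot_iff.1 ((Scheme.Hom.le_ker_comp l W.ι).trans
    (le_of_eq (by rw [hl, Scheme.Hom.ker_eq_bot])))⟩, inferInstance, hl, ?_, ?_⟩
  · rw [← cancel_mono i₁, Category.assoc, hφ, reassoc_of% hl, hkc]
  · -- the graph is a closed subscheme
    haveI : IsSeparated p₁ := hiq ▸ inferInstance
    let L := pullback.lift W.ι φ hφp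
    haveI : IsProper (L ≫ pullback.snd p p₁) := by rw [pullback.lift_snd]; infer_instance
    haveI : IsSeparated (pullback.snd p p₁) :=
      MorphismProperty.pullback_snd (P := @IsSeparated) _ _ inferInstance
    haveI : IsProper L := IsProper.of_comp L (pullback.snd p p₁)
    exact L.isClosedMap.isClosed_range

end Groth.Agent.S17896

namespace Groth.Agent.S17896

/-- Let S be a Noetherian scheme, X₁ and X₂ separated S-schemes of finite type and j₁ : U → X₁, j₂ : U →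
X₂ open immersions over S with schematically dense images, and let E be an O_U-module extending to
finite locally free modules E₁ on X₁ and E₂ on X₂ (pullbacks along jᵢ isomorphic to E). Then there
exist a separated S-scheme X of finite type, an open immersion k : U → X over S with schematically
dense image, a finite locally free module E' on X whose pullback along k is isomorphic to E, and for
i = 1, 2 a proper quasi-domination of X over Xᵢ compatible with U: a schematically dense open Wᵢ ⊆ X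
through which k factors and a proper S-morphism φᵢ : Wᵢ → Xᵢ restricting to jᵢ on U, whose graph
morphism Wᵢ → X ×_S Xᵢ has closed image. -/
theorem result {S X₁ X₂ U : Scheme.{u}}
    [IsNoetherian S] (p₁ : X₁ ⟶ S) (p₂ : X₂ ⟶ S)
    [IsSeparated p₁] [QuasiCompact p₁] [LocallyOfFiniteType p₁]
    [IsSeparated p₂] [QuasiCompact p₂] [LocallyOfFiniteType p₂]
    (j₁ : U ⟶ X₁) (j₂ : U ⟶ X₂) [IsOpenImmersion j₁] [IsOpenImmersion j₂]
    [IsSchemeTheoreticallyDominant j₁] [IsSchemeTheoreticallyDominant j₂] (hj : j₁ ≫ p₁ = j₂ ≫ p₂)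
    (E : U.Modules) (E₁ : X₁.Modules) (E₂ : X₂.Modules)
    (hE₁ : FlatMod.IsFinLocFree E₁) (hE₂ : FlatMod.IsFinLocFree E₂)
    (e₁ : (Scheme.Modules.pullback j₁).obj E₁ ≅ E) (e₂ : (Scheme.Modules.pullback j₂).obj E₂ ≅ E) :
    ∃ (X : Scheme.{u}) (p : X ⟶ S) (k : U ⟶ X) (E' : X.Modules),
      IsSeparated p ∧ QuasiCompact p ∧ LocallyOfFiniteType p ∧ IsOpenImmersion k ∧ QuasiCompact k ∧
      IsSchemeTheoreticallyDominant k ∧ k ≫ p = j₁ ≫ p₁ ∧ FlatMod.IsFinLocFree E' ∧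
      Nonempty ((Scheme.Modules.pullback k).obj E' ≅ E) ∧
      (∃ (W₁ : X.Opens) (φ₁ : (↑W₁ : Scheme.{u}) ⟶ X₁) (hφ₁ : W₁.ι ≫ p = φ₁ ≫ p₁) (l₁ : U ⟶ ↑W₁),
        IsSchemeTheoreticallyDominant W₁.ι ∧ IsProper φ₁ ∧ l₁ ≫ W₁.ι = k ∧ l₁ ≫ φ₁ = j₁ ∧
        IsClosed (Set.range (fun w => (Limits.pullback.lift W₁.ι φ₁ hφ₁) w))) ∧
      (∃ (W₂ : X.Opens) (φ₂ : (↑W₂ : Scheme.{u}) ⟶ X₂) (hφ₂ : W₂.ι ≫ p = φ₂ ≫ p₂) (l₂ : U ⟶ ↑W₂),
        IsSchemeTheoreticallyDominant W₂.ι ∧ IsProper φ₂ ∧ l₂ ≫ W₂.ι = k ∧ l₂ ≫ φ₂ = j₂ ∧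
        IsClosed (Set.range (fun w => (Limits.pullback.lift W₂.ι φ₂ hφ₂) w))) := by
  haveI : IsNoetherian X₁ := RGBlowLib.Union.isNoetherian_of_ft p₁
  haveI : IsNoetherian X₂ := RGBlowLib.Union.isNoetherian_of_ft p₂
  haveI : IsLocallyNoetherian U := isLocallyNoetherian_of_isOpenImmersion j₁
  haveI : QuasiCompact j₁ := inferInstance
  haveI : IsSeparated (j₁ ≫ p₁) := inferInstance
  haveI : LocallyOfFiniteType (j₁ ≫ p₁) := inferInstance
  haveI : QuasiCompact (j₁ ≫ p₁) := inferInstance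
  obtain ⟨Y₁, i₁, q₁, hi₁, -, hq₁, hiq₁⟩ := RGBlowLib.compactifiable_of_noetherian p₁
  obtain ⟨Y₂, i₂, q₂, hi₂, -, hq₂, hiq₂⟩ := RGBlowLib.compactifiable_of_noetherian p₂
  haveI := hi₁
  haveI := hi₂
  haveI := hq₁
  haveI := hq₂
  obtain ⟨X₀, g₀, k₀, b₁, b₂, hg₀, hk₀, -, hkg₀, hb₁, hb₂, hkb₁, hkb₂⟩ :=
    RGBlowLib.exists_compactification_over₂ (j₁ ≫ p₁) q₁ q₂ (j₁ ≫ i₁) (j₂ ≫ i₂)
      (by rw [Category.assoc, hiq₁]) (by rw [Category.assoc, hiq₂, hj])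
  haveI := hg₀
  haveI := hk₀
  haveI : IsNoetherian X₀ := RGBlowLib.Union.isNoetherian_of_ft g₀
  obtain ⟨X₃, k₃, b, hk₃, hb, hkb, F, hF, ⟨eF⟩⟩ := RGBlowLib.exists_extend_one k₀ E
    (RGBlowLib.isFinLocFree_congr e₁ (PullbackMod.isFinLocFree_pullback j₁ E₁ hE₁))
  haveI := hk₃
  haveI := hb
  haveI : IsNoetherian X₃ := RGBlowLib.Union.isNoetherian_of_ft b
  let p := k₃.imageι ≫ b ≫ g₀
  haveI : IsProper p := inferInstance
  have hkp : k₃.toImage ≫ p = j₁ ≫ p₁ := by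
    simp only [p, Scheme.Hom.toImage_imageι_assoc, reassoc_of% hkb, hkg₀]
  refine ⟨k₃.image, p, k₃.toImage, (Scheme.Modules.pullback k₃.imageι).obj F, inferInstance, inferInstance,
    inferInstance, inferInstance, inferInstance, inferInstance, hkp,
    PullbackMod.isFinLocFree_pullback _ F hF,
    ⟨(Scheme.Modules.pullbackComp k₃.toImage k₃.imageι).app F ≪≫
      (Scheme.Modules.pullbackCongr k₃.toImage_imageι).app F ≪≫ eF⟩, ?_, ?_⟩
  · exact exists_quasiDomination p p₁ j₁ k₃.toImage i₁ q₁ hiq₁ (k₃.imageι ≫ b ≫ b₁)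
      (by simp only [p, Category.assoc, hb₁]) (by rw [Scheme.Hom.toImage_imageι_assoc, reassoc_of% hkb, hkb₁])
  · exact exists_quasiDomination p p₂ j₂ k₃.toImage i₂ q₂ hiq₂ (k₃.imageι ≫ b ≫ b₂)
      (by simp only [p, Category.assoc, hb₂]) (by rw [Scheme.Hom.toImage_imageι_assoc, reassoc_of% hkb, hkb₂])

end Groth.Agent.S17896
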