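import Mathlib

/-!
# A map from the spectrum of a valuation ring is defined over a field of definition of its generic point
-/

set_option autoImplicit false
set_option linter.style.haveILetI false

universe u

open CategoryTheory AlgebraicGeometry IsLocalRing

namespace Groth.Agent.ValFieldDefn

theorem range_subset_of_closedPoint {X : Scheme.{u}} {A : CommRingCat.{u}} [IsLocalRing A]
    (φ : Spec A ⟶ X) (U : X.Opens) (h : φ (closedPoint A) ∈ U) :
    Set.range φ ⊆ (U : Set X) := by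
  rintro _ ⟨p, rfl⟩
  exact ((IsLocalRing.specializes_closedPoint p).map φ.continuous).mem_open U.2 h

theorem exists_factor {X : Scheme.{u}} {A : CommRingCat.{u}} {U : X.Opens} (hU : IsAffineOpen U)
    (φ : Spec A ⟶ X) (h : Set.range φ ⊆ (U : Set X)) :
    ∃ a : Γ(X, U) ⟶ A, Spec.map a ≫ hU.fromSpec = φ := by
  refine ⟨Spec.preimage (IsOpenImmersion.lift hU.fromSpec φ (by rwa [hU.range_fromSpec])), ?_⟩
  rw [Spec.map_preimage, IsOpenImmersion.lift_fac]

theorem eq_of_comp_eq {X : Scheme.{u}} {A : CommRingCat.{u}} {U : X.Opens} (hU : IsAffineOpen U)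
    {a b : Γ(X, U) ⟶ A} (h : Spec.map a ≫ hU.fromSpec = Spec.map b ≫ hU.fromSpec) : a = b :=
  Spec.map_injective ((cancel_mono hU.fromSpec).1 h)

theorem existsUnique_factor {X : Scheme.{u}} {K L : Type u} [Field K] [Field L] (R : ValuationSubring K)
    (g : L →+* K) (η : Spec (CommRingCat.of L) ⟶ X) (φ : Spec (CommRingCat.of ↥R) ⟶ X)
    (w : Spec.map (CommRingCat.ofHom R.subtype) ≫ φ = Spec.map (CommRingCat.ofHom g) ≫ η)
    (ρ : ↥(R.comap g) →+* ↥R) (hρ : ∀ x : ↥(R.comap g), ((ρ x : ↥R) : K) = g (x : L)) :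
    ∃! φ' : Spec (CommRingCat.of ↥(R.comap g)) ⟶ X,
      Spec.map (CommRingCat.ofHom ρ) ≫ φ' = φ ∧
      Spec.map (CommRingCat.ofHom (R.comap g).subtype) ≫ φ' = η := by
  obtain ⟨_, ⟨U : X.Opens, hU : IsAffineOpen U, rfl⟩, hx, -⟩ :=
    X.isBasis_affineOpens.exists_subset_of_mem_open
      (Set.mem_univ (φ (closedPoint (CommRingCat.of ↥R)))) isOpen_univ
  haveI : Subsingleton (Spec (CommRingCat.of L) : Scheme.{u}) :=
    inferInstanceAs (Subsingleton (PrimeSpectrum L))
  haveI : IsLocalHom ρ := ⟨fun x hx => by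
    obtain ⟨v, hv⟩ := isUnit_iff_exists_inv.mp hx
    have hx0 : g (x : L) * (v : K) = 1 := by
      rw [← hρ]; exact congrArg Subtype.val hv
    have hne : (x : L) ≠ 0 := fun h0 => by simp [h0] at hx0
    have hmem : (x : L)⁻¹ ∈ R.comap g := by
      show g (x : L)⁻¹ ∈ R
      rw [map_inv₀, inv_eq_of_mul_eq_one_right hx0]
      exact v.2
    exact isUnit_iff_exists_inv.mpr ⟨⟨_, hmem⟩, Subtype.ext (mul_inv_cancel₀ hne)⟩⟩
  have hrange := range_subset_of_closedPoint φ U hx
  obtain ⟨a, ha⟩ := exists_factor hU φ hrange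
  have hη : Set.range η ⊆ (U : Set X) := by
    rintro _ ⟨p, rfl⟩
    obtain rfl := Subsingleton.elim (Spec.map (CommRingCat.ofHom g) (closedPoint (CommRingCat.of K))) p
    rw [← Scheme.Hom.comp_apply, ← w, Scheme.Hom.comp_apply]
    exact hrange ⟨_, rfl⟩
  obtain ⟨b, hb⟩ := exists_factor hU η hη
  have hab : a ≫ CommRingCat.ofHom R.subtype = b ≫ CommRingCat.ofHom g := eq_of_comp_eq hU (by
    rw [Spec.map_comp, Spec.map_comp, Category.assoc, Category.assoc, ha, hb, w])
  have hmem : ∀ x, b.hom x ∈ R.comap g := fun x => by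
    show g (b.hom x) ∈ R
    have h1 : ((a.hom x : ↥R) : K) = g (b.hom x) := congr($(hab) x)
    rw [← h1]
    exact (a.hom x).2
  let a' : Γ(X, U) ⟶ CommRingCat.of ↥(R.comap g) :=
    CommRingCat.ofHom (b.hom.codRestrict (R.comap g).toSubring hmem)
  have ha' : a' ≫ CommRingCat.ofHom (R.comap g).subtype = b := rfl
  have ha'' : a' ≫ CommRingCat.ofHom ρ = a := CommRingCat.hom_ext (RingHom.ext fun x =>
    Subtype.ext ((hρ _).trans (congr($(hab) x)).symm))
  refine ⟨Spec.map a' ≫ hU.fromSpec, ⟨?_, ?_⟩, fun φ'' ⟨h1, h2⟩ => ?_⟩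
  · rw [← Spec.map_comp_assoc, ha'', ha]
  · rw [← Spec.map_comp_assoc, ha', hb]
  · have hcl : φ'' (closedPoint (CommRingCat.of ↥(R.comap g))) ∈ U := by
      have e : Spec.map (CommRingCat.ofHom ρ) (closedPoint (CommRingCat.of ↥R)) =
          closedPoint (CommRingCat.of ↥(R.comap g)) := IsLocalRing.comap_closedPoint ρ
      rw [← e, ← Scheme.Hom.comp_apply, h1]
      exact hx
    obtain ⟨c, hc⟩ := exists_factor hU φ'' (range_subset_of_closedPoint φ'' U hcl)
    have hcb : c ≫ CommRingCat.ofHom (R.comap g).subtype = b := eq_of_comp_eq hU (by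
      rw [Spec.map_comp, Category.assoc, hc, h2, hb])
    rw [← hc, show c = a' from CommRingCat.hom_ext (RingHom.ext fun x =>
      Subtype.ext (congr($(hcb) x)))]

end Groth.Agent.ValFieldDefn
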