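import Groth.Agent.ValFieldDefn

/-!
# Gluing morphisms from spectra of composite valuation rings
-/

set_option autoImplicit false
set_option linter.style.haveILetI false

universe u

open CategoryTheory AlgebraicGeometry IsLocalRing

namespace Groth.Agent.ValGlue

open Groth.Agent.ValFieldDefn

variable {K : Type u} [Field K] {R R' : ValuationSubring K}

theorem mem_of_residue_eq {ι : ↥R →+* ↥R'} (hι : ∀ x : ↥R, ((ι x : ↥R') : K) = (x : K))
    (z : ↥R') (r : ↥R) (h : residue ↥R' z = residue ↥R' (ι r)) : (z : K) ∈ R := by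
  have hm : z - ι r ∈ maximalIdeal ↥R' := (Ideal.Quotient.eq (I := maximalIdeal ↥R')).mp h
  suffices hd : ((z - ι r : ↥R') : K) ∈ R by
    have := R.add_mem _ _ hd r.2
    simpa [hι] using this
  by_contra hd
  rcases R.mem_or_inv_mem ((z - ι r : ↥R') : K) with h1 | h1
  · exact hd h1
  have hne : ((z - ι r : ↥R') : K) ≠ 0 := fun h0 => hd (h0 ▸ R.zero_mem)
  refine (IsLocalRing.mem_maximalIdeal _).mp hm ?_
  refine isUnit_iff_exists_inv.mpr ⟨⟨_, (hι ⟨_, h1⟩) ▸ (ι ⟨_, h1⟩).2⟩, Subtype.ext ?_⟩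
  exact mul_inv_cancel₀ hne

variable {X Y : Scheme.{u}} (f : Y ⟶ X)

theorem existsUnique_glue
    (ι : ↥R →+* ↥R') (hι : ∀ x : ↥R, ((ι x : ↥R') : K) = (x : K))
    (i : Spec (CommRingCat.of K) ⟶ Y) (φ : Spec (CommRingCat.of ↥R) ⟶ X)
    (g : Spec (CommRingCat.of ↥R') ⟶ Y) (hg₁ : Spec.map (CommRingCat.ofHom R'.subtype) ≫ g = i)
    (hg₂ : g ≫ f = Spec.map (CommRingCat.ofHom ι) ≫ φ)
    (Rt : ValuationSubring (IsLocalRing.ResidueField ↥R')) (σ : ↥R →+* ↥Rt) (hσs : Function.Surjective σ)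
    (hσ : ∀ x : ↥R, ((σ x : ↥Rt) : IsLocalRing.ResidueField ↥R') = IsLocalRing.residue ↥R' (ι x))
    (ht : Spec (CommRingCat.of ↥Rt) ⟶ Y)
    (hht₁ : Spec.map (CommRingCat.ofHom Rt.subtype) ≫ ht =
      Spec.map (CommRingCat.ofHom (IsLocalRing.residue ↥R')) ≫ g)
    (hht₂ : ht ≫ f = Spec.map (CommRingCat.ofHom σ) ≫ φ) :
    ∃! h : Spec (CommRingCat.of ↥R) ⟶ Y, Spec.map (CommRingCat.ofHom R.subtype) ≫ h = i ∧ h ≫ f = φ ∧
      Spec.map (CommRingCat.ofHom ι) ≫ h = g ∧ Spec.map (CommRingCat.ofHom σ) ≫ h = ht := by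
  haveI : IsLocalHom σ := .of_surjective σ hσs
  have hιinj : Function.Injective ι := fun x y e => Subtype.ext (by rw [← hι, ← hι, e])
  have hσcl : Spec.map (CommRingCat.ofHom σ) (closedPoint (CommRingCat.of ↥Rt)) =
      closedPoint (CommRingCat.of ↥R) := IsLocalRing.comap_closedPoint σ
  obtain ⟨_, ⟨V : Y.Opens, hV : IsAffineOpen V, rfl⟩, hy, -⟩ :=
    Y.isBasis_affineOpens.exists_subset_of_mem_open
      (Set.mem_univ (ht (closedPoint (CommRingCat.of ↥Rt)))) isOpen_univ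
  obtain ⟨c, hc⟩ := exists_factor hV ht (range_subset_of_closedPoint ht V hy)
  have hgcl : g (closedPoint (CommRingCat.of ↥R')) ∈ V := by
    have e : Spec.map (CommRingCat.ofHom (residue ↥R'))
        (closedPoint (CommRingCat.of (ResidueField ↥R'))) = closedPoint (CommRingCat.of ↥R') :=
      IsLocalRing.comap_closedPoint (residue ↥R')
    rw [← e, ← Scheme.Hom.comp_apply, ← hht₁, Scheme.Hom.comp_apply]
    exact range_subset_of_closedPoint ht V hy ⟨_, rfl⟩
  obtain ⟨b, hb⟩ := exists_factor hV g (range_subset_of_closedPoint g V hgcl)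
  have hcb : c ≫ CommRingCat.ofHom Rt.subtype = b ≫ CommRingCat.ofHom (residue ↥R') :=
    eq_of_comp_eq hV (by rw [Spec.map_comp, Spec.map_comp, Category.assoc, Category.assoc, hc, hb, hht₁])
  have hmem : ∀ x, ((b.hom x : ↥R') : K) ∈ R := fun x => by
    obtain ⟨r, hr⟩ := hσs (c.hom x)
    have h1 : ((c.hom x : ↥Rt) : ResidueField ↥R') = residue ↥R' (b.hom x) := congr($(hcb) x)
    exact mem_of_residue_eq hι _ r (by rw [← hσ, hr, h1])
  let a : Γ(Y, V) ⟶ CommRingCat.of ↥R :=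
    CommRingCat.ofHom ((R'.subtype.comp b.hom).codRestrict R.toSubring hmem)
  have haι : a ≫ CommRingCat.ofHom ι = b :=
    CommRingCat.hom_ext (RingHom.ext fun x => Subtype.ext (hι _))
  have haσ : a ≫ CommRingCat.ofHom σ = c := CommRingCat.hom_ext (RingHom.ext fun x => Subtype.ext (by
    show ((σ (a.hom x) : ↥Rt) : ResidueField ↥R') = _
    rw [hσ, show ι (a.hom x) = b.hom x from congr($(haι) x)]
    exact (congr($(hcb) x)).symm))
  let h := Spec.map a ≫ hV.fromSpec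
  have hhι : Spec.map (CommRingCat.ofHom ι) ≫ h = g := by
    rw [← Spec.map_comp_assoc, haι, hb]
  have hhσ : Spec.map (CommRingCat.ofHom σ) ≫ h = ht := by
    rw [← Spec.map_comp_assoc, haσ, hc]
  have hRR' : CommRingCat.ofHom ι ≫ CommRingCat.ofHom R'.subtype = CommRingCat.ofHom R.subtype :=
    CommRingCat.hom_ext (RingHom.ext hι)
  have hhi : Spec.map (CommRingCat.ofHom R.subtype) ≫ h = i := by
    rw [← hRR', Spec.map_comp, Category.assoc, hhι, hg₁]
  refine ⟨h, ⟨hhi, ?_, hhι, hhσ⟩, fun h'' ⟨_, _, hι'', hσ''⟩ => ?_⟩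
  · obtain ⟨_, ⟨U : X.Opens, hU : IsAffineOpen U, rfl⟩, hx, -⟩ :=
      X.isBasis_affineOpens.exists_subset_of_mem_open
        (Set.mem_univ (φ (closedPoint (CommRingCat.of ↥R)))) isOpen_univ
    have hx' : (h ≫ f) (closedPoint (CommRingCat.of ↥R)) ∈ U := by
      rw [← hσcl, ← Scheme.Hom.comp_apply, ← Category.assoc, hhσ, hht₂, Scheme.Hom.comp_apply, hσcl]
      exact hx
    obtain ⟨p, hp⟩ := exists_factor hU φ (range_subset_of_closedPoint φ U hx)
    obtain ⟨q, hq⟩ := exists_factor hU (h ≫ f) (range_subset_of_closedPoint (h ≫ f) U hx')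
    have hpq : q ≫ CommRingCat.ofHom ι = p ≫ CommRingCat.ofHom ι := eq_of_comp_eq hU (by
      rw [Spec.map_comp, Spec.map_comp, Category.assoc, Category.assoc, hp, hq, ← Category.assoc, hhι, hg₂])
    rw [← hp, ← hq, show q = p from CommRingCat.hom_ext (RingHom.ext fun x =>
      hιinj (congr($(hpq) x)))]
  · have hy'' : h'' (closedPoint (CommRingCat.of ↥R)) ∈ V := by
      rw [← hσcl, ← Scheme.Hom.comp_apply, hσ'']
      exact hy
    obtain ⟨q, hq⟩ := exists_factor hV h'' (range_subset_of_closedPoint h'' V hy'')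
    have hqb : q ≫ CommRingCat.ofHom ι = b := eq_of_comp_eq hV (by
      rw [Spec.map_comp, Category.assoc, hq, hι'', hb])
    rw [← hq, show q = a from CommRingCat.hom_ext (RingHom.ext fun x =>
      hιinj (congr($(hqb.trans haι.symm) x)))]

end Groth.Agent.ValGlue
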