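import Groth.Statements.S17899
import Groth.Agent.SemiValLib.Basic
-- import your own Groth.Agent.* helpers here

set_option autoImplicit false
universe u
open TensorProduct
open CAlg

namespace Groth.Agent.S17899

/-- Let A be a local ring with residue field K, R a valuation ring of K and O ⊆ A the preimage of R
under A → K (so O is a semi-valuation ring with semi-fraction ring A, S = Spec O is glued from U =
Spec A and T = Spec R). Let C be an O-algebra of finite type which is U-admissible (C → A ⊗_O C
injective) and such that A ⊗_O C is flat and of finite presentation over A. Then C is flat and of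
finite presentation over O. (The published assertion is more general: the base may be any
quasi-compact quasi-separated U-admissible scheme over Spec O, and the scheme over it any
quasi-compact quasi-separated admissible scheme. This row is the case of an affine scheme over Spec
O itself, the case in which the published proof carries out its argument.) -/
theorem result
    (A : Type u) [CommRing A] [IsLocalRing A] (R : ValuationSubring (IsLocalRing.ResidueField A))
    (O : Subring A) (hO : O = R.toSubring.comap (IsLocalRing.residue A))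
    (C : Type u) [CommRing C] [Algebra ↥O C] [Algebra.FiniteType ↥O C]
    (hadm : Function.Injective (Algebra.TensorProduct.includeRight : C →ₐ[↥O] A ⊗[↥O] C))
    (hflat : Module.Flat A (A ⊗[↥O] C)) (hfp : Algebra.FinitePresentation A (A ⊗[↥O] C)) :
    Module.Flat ↥O C ∧ Algebra.FinitePresentation ↥O C := by
  subst hO
  let O := R.toSubring.comap (IsLocalRing.residue A)
  let π : ↥O →+* ↥R := ((IsLocalRing.residue A).comp O.subtype).codRestrict R.toSubring fun o => o.2
  letI : Algebra ↥O ↥R := π.toAlgebra
  let S : Submonoid ↥O := (IsUnit.submonoid A).comap O.subtype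
  have hiff : ∀ t : ↥O, t ∈ S ↔ IsUnit (t : A) := fun t => Iff.rfl
  have hR0 : ∀ t : ↥O, algebraMap ↥O ↥R t ≠ 0 ↔ t ∈ S := fun t => by
    rw [hiff, ← IsLocalRing.residue_ne_zero_iff_isUnit]
    refine not_congr ⟨fun h => congrArg Subtype.val h, fun h => Subtype.ext h⟩
  haveI : IsLocalization S A := by
    refine ⟨fun s => s.2, fun a => ?_, fun {x y} h => ⟨1, by rw [Subtype.ext h]⟩⟩
    rcases R.mem_or_inv_mem (IsLocalRing.residue A a) with h | h
    · exact ⟨⟨⟨a, h⟩, 1⟩, by show a * ((1 : ↥S) : ↥O).1 = a; simp⟩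
    by_cases h0 : IsLocalRing.residue A a = 0
    · exact ⟨⟨⟨a, show IsLocalRing.residue A a ∈ R by rw [h0]; exact zero_mem R⟩, 1⟩, by
        show a * ((1 : ↥S) : ↥O).1 = a; simp⟩
    obtain ⟨u, rfl⟩ := (IsLocalRing.residue_ne_zero_iff_isUnit a).1 h0
    have hu : IsLocalRing.residue A (↑u⁻¹ : A) ∈ R := by
      rw [map_units_inv]; exact h
    exact ⟨⟨1, ⟨⟨(↑u⁻¹ : A), hu⟩, u⁻¹.isUnit⟩⟩, Units.mul_inv u⟩
  have hdiv : ∀ s ∈ S, ∀ μ ∈ RingHom.ker (algebraMap ↥O ↥R), ∃ μ' ∈ RingHom.ker (algebraMap ↥O ↥R), μ = s * μ' := by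
    intro s hs μ hμ
    obtain ⟨u, hu⟩ := (hs : IsUnit (s : A))
    have hμ0 : IsLocalRing.residue A (μ : A) = 0 := congrArg Subtype.val (show algebraMap ↥O ↥R μ = 0 from hμ)
    have h0 : IsLocalRing.residue A ((↑u⁻¹ : A) * μ) = 0 := by rw [map_mul, hμ0, mul_zero]
    refine ⟨⟨(↑u⁻¹ : A) * μ, show IsLocalRing.residue A _ ∈ R by rw [h0]; exact zero_mem R⟩, Subtype.ext h0, Subtype.ext ?_⟩
    show (μ : A) = (s : A) * ((↑u⁻¹ : A) * μ)
    rw [show (s : A) = (u : A) from hu.symm, Units.mul_inv_cancel_left]
  have hsurj : Function.Surjective (algebraMap ↥O ↥R) := fun r => by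
    obtain ⟨a, ha⟩ := IsLocalRing.residue_surjective (R := A) (r : IsLocalRing.ResidueField A)
    exact ⟨⟨a, show IsLocalRing.residue A a ∈ R by rw [ha]; exact r.2⟩, Subtype.ext ha⟩
  haveI := hflat
  haveI := hfp
  exact SemiValLib.flat_and_finitePresentation A S ↥R (fun a b h => Subtype.ext h) hdiv
    (fun t ht => (hR0 t).1 ht) (fun s hs => (hR0 s).2 hs) hsurj hadm

end Groth.Agent.S17899
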