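import Groth.Statements.S17901
import Groth.Agent.PinchTensor.Basic
import Mathlib.RingTheory.Flat.Equalizer
set_option backward.isDefEq.respectTransparency false
set_option backward.isDefEq.respectTransparency.types false

set_option autoImplicit false
universe u
open TensorProduct
open Pinch

namespace Groth.Agent.S17901

/-- Let R be a commutative ring and let B' → B → A, B' → A' → A be a fibre square of R-algebras (B' = B
×_A A') with A' → A surjective, where B, A' and A are flat over R. Then for every commutative
R-algebra R' the square obtained by applying R' ⊗_R − is again a fibre square: R' ⊗_R A' → R' ⊗_R A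
is surjective and every pair of elements of R' ⊗_R B and R' ⊗_R A' with the same image in R' ⊗_R A
is the image of a unique element of R' ⊗_R B'. (The published lemma concludes that the base-changed
square of spectra is co-cartesian in ringed spaces; this row states the ring form, surjective edge
and fibre product, which its proof establishes before translating it to ringed spaces.) -/
theorem result (R B' B A' A : Type u) [CommRing R] [CommRing B'] [CommRing B] [CommRing A'] [CommRing A]
    [Algebra B' B] [Algebra B' A'] [Algebra B A] [Algebra A' A] [Algebra B' A]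
    [IsScalarTower B' B A] [IsScalarTower B' A' A]
    [Algebra R B'] [Algebra R B] [Algebra R A'] [Algebra R A]
    [IsScalarTower R B' B] [IsScalarTower R B' A'] [IsScalarTower R B' A] [IsScalarTower R B A] [IsScalarTower R A' A]
    (hsq : EtMil.IsFibreSquare B' B A' A)
    [Module.Flat R B] [Module.Flat R A'] [Module.Flat R A]
    (R' : Type u) [CommRing R'] [Algebra R R'] :
    Function.Surjective (Algebra.TensorProduct.map (AlgHom.id R R') (IsScalarTower.toAlgHom R A' A)) ∧
    ∀ (x : R' ⊗[R] B) (y : R' ⊗[R] A'),
      Algebra.TensorProduct.map (AlgHom.id R R') (IsScalarTower.toAlgHom R B A) x =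
        Algebra.TensorProduct.map (AlgHom.id R R') (IsScalarTower.toAlgHom R A' A) y →
      ∃! z : R' ⊗[R] B',
        Algebra.TensorProduct.map (AlgHom.id R R') (IsScalarTower.toAlgHom R B' B) z = x ∧
        Algebra.TensorProduct.map (AlgHom.id R R') (IsScalarTower.toAlgHom R B' A') z = y := by
  refine ⟨LinearMap.lTensor_surjective R' (g := (IsScalarTower.toAlgHom R A' A).toLinearMap) hsq.1, ?_⟩
  intro x y hxy
  let e := TensorProduct.prodRight R R R' B A'
  have hinj := LinearMap.lTensor_injective_of_exact_of_flat _ (PinchTensor.diff_surjective hsq) _
    (PinchTensor.pair_injective (R := R) hsq) (PinchTensor.exact hsq) R'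
  have hex := lTensor_exact R' (PinchTensor.exact (R := R) hsq) (PinchTensor.diff_surjective hsq)
  have hpair : ∀ z, e ((PinchTensor.pair R B' B A').lTensor R' z) =
      (Algebra.TensorProduct.map (AlgHom.id R R') (IsScalarTower.toAlgHom R B' B) z,
        Algebra.TensorProduct.map (AlgHom.id R R') (IsScalarTower.toAlgHom R B' A') z) := by
    intro z
    induction z using TensorProduct.induction_on with
    | zero => simp; rfl
    | tmul r b => simp [e, PinchTensor.pair]
    | add a c ha hc => simp [map_add, ha, hc]
  have hdiff : ∀ w, (PinchTensor.diff R B A' A).lTensor R' w =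
      Algebra.TensorProduct.map (AlgHom.id R R') (IsScalarTower.toAlgHom R B A) (e w).1 -
        Algebra.TensorProduct.map (AlgHom.id R R') (IsScalarTower.toAlgHom R A' A) (e w).2 := by
    intro w
    induction w using TensorProduct.induction_on with
    | zero => simp
    | tmul r b => simp [e, PinchTensor.diff, TensorProduct.tmul_sub]
    | add a c ha hc => simp only [map_add, ha, hc, Prod.fst_add, Prod.snd_add]; abel
  obtain ⟨z, hz⟩ := (hex (e.symm (x, y))).mp (by rw [hdiff, LinearEquiv.apply_symm_apply, hxy, sub_self])
  have hz' := hpair z
  rw [hz, LinearEquiv.apply_symm_apply, Prod.mk.injEq] at hz'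
  refine ⟨z, ⟨hz'.1.symm, hz'.2.symm⟩, ?_⟩
  intro z' hzz
  refine hinj (e.injective ?_)
  rw [hpair, hpair, hzz.1, hzz.2, ← hz'.1, ← hz'.2]

end Groth.Agent.S17901
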