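import Mathlib
import Groth.Agent.FlatCx.Fiber
import Groth.Statements.S17902

set_option autoImplicit false
universe u
open CAlg

namespace Groth.Agent.S17902

/-- Let A be a commutative ring, M a finitely generated projective A-module, n a natural number and P a
finite set of prime ideals of A such that for every p in P there is g outside p with M_g free of
rank n over A_g. Then there exist n elements of M and an open subset U of Spec A containing P such
that for every prime q in U the images of these elements in M_q form a basis of M_q over A_q. (The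
published conclusion is that the associated sheaf is free of rank n on some open neighbourhood of P;
the form given here, with n global elements of M, is what its proof produces.) -/
theorem result (A : Type u) [CommRing A] (M : Type u) [AddCommGroup M] [Module A M]
    [Module.Finite A M] [Module.Projective A M] (n : ℕ) (P : Finset (PrimeSpectrum A))
    (hP : ∀ p ∈ P, ∃ g : A, g ∉ p.asIdeal ∧
      Nonempty (Module.Basis (Fin n) (Localization.Away g) (LocalizedModule (Submonoid.powers g) M))) :
    ∃ (s : Fin n → M) (U : Set (PrimeSpectrum A)), IsOpen U ∧ (∀ p ∈ P, p ∈ U) ∧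
      ∀ q ∈ U,
        LinearIndependent (Localization.AtPrime q.asIdeal)
            (fun j => LocalizedModule.mkLinearMap q.asIdeal.primeCompl M (s j)) ∧
          Submodule.span (Localization.AtPrime q.asIdeal)
            (Set.range fun j => LocalizedModule.mkLinearMap q.asIdeal.primeCompl M (s j)) = ⊤ := by
  classical
  open TensorProduct in
  haveI : Module.FinitePresentation A M := Module.finitePresentation_of_projective A M
  -- local generators and the rank at the given primes
  have hloc : ∀ p ∈ P, (∃ v : Fin n → M, ∀ x : M, ∃ t ∉ p.asIdeal, t • x ∈ Submodule.span A (Set.range v)) ∧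
      Module.rankAtStalk (R := A) M p = n := by
    intro p hp
    obtain ⟨g, hg, ⟨b⟩⟩ := hP p hp
    have hsurj : ∀ j, ∃ (m : M) (t : Submonoid.powers g), t • b j = LocalizedModule.mkLinearMap (Submonoid.powers g) M m :=
      fun j => by
        obtain ⟨⟨m, t⟩, h⟩ := IsLocalizedModule.surj (Submonoid.powers g) (LocalizedModule.mkLinearMap (Submonoid.powers g) M) (b j)
        exact ⟨m, t, h⟩
    choose v t hv using hsurj
    refine ⟨⟨v, fun x => ?_⟩, ?_⟩
    · have hz : ∀ z : LocalizedModule (Submonoid.powers g) M, z ∈ Submodule.span (Localization.Away g) (Set.range b) →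
          ∃ (s : Submonoid.powers g), ∃ w ∈ Submodule.span A (Set.range v),
            s • z = LocalizedModule.mkLinearMap (Submonoid.powers g) M w := by
        intro z hz
        induction hz using Submodule.span_induction with
        | mem y hy => obtain ⟨j, rfl⟩ := hy; exact ⟨t j, v j, Submodule.subset_span ⟨j, rfl⟩, hv j⟩
        | zero => exact ⟨1, 0, zero_mem _, by simp⟩
        | add y y' _ _ hy hy' =>
          obtain ⟨s, w, hw, h⟩ := hy
          obtain ⟨s', w', hw', h'⟩ := hy'
          refine ⟨s * s', (s' : A) • w + (s : A) • w', add_mem (Submodule.smul_mem _ _ hw) (Submodule.smul_mem _ _ hw'), ?_⟩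
          rw [map_add, map_smul, map_smul, ← h, ← h', smul_add]
          simp only [Submonoid.smul_def, smul_smul, Submonoid.coe_mul]
          rw [mul_comm (s' : A) (s : A)]
        | smul c y _ hy =>
          obtain ⟨s, w, hw, h⟩ := hy
          obtain ⟨⟨a, s'⟩, hc⟩ := IsLocalization.surj (Submonoid.powers g) c
          refine ⟨s * s', a • w, Submodule.smul_mem _ _ hw, ?_⟩
          have h' : (s' : A) • c • y = a • y := by
            rw [← algebraMap_smul (Localization.Away g) (s' : A), smul_smul, mul_comm, hc, algebraMap_smul]
          rw [map_smul, ← h, Submonoid.smul_def, Submonoid.smul_def, Submonoid.coe_mul, mul_smul, h', smul_comm]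
      obtain ⟨s, w, hw, h⟩ := hz (LocalizedModule.mkLinearMap _ M x) (by rw [b.span_eq]; trivial)
      rw [Submonoid.smul_def, ← map_smul] at h
      obtain ⟨s', h'⟩ := IsLocalizedModule.exists_of_eq (S := Submonoid.powers g) h
      refine ⟨(s' : A) * (s : A), fun hmem => ?_, ?_⟩
      · rcases p.2.mem_or_mem hmem with h1 | h1
        · obtain ⟨k, hk⟩ := s'.2
          exact hg (p.2.mem_of_pow_mem k (by rw [show g ^ k = (s' : A) from hk]; exact h1))
        · obtain ⟨k, hk⟩ := s.2
          exact hg (p.2.mem_of_pow_mem k (by rw [show g ^ k = (s : A) from hk]; exact h1))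
      · rw [mul_smul, show (s' : A) • (s : A) • x = (s' : A) • w from h']
        exact Submodule.smul_mem _ _ hw
    · rcases subsingleton_or_nontrivial A with hA | hA
      · exact absurd (Subsingleton.elim g 0 ▸ p.asIdeal.zero_mem) hg
      obtain ⟨y, rfl⟩ : p ∈ Set.range (PrimeSpectrum.comap (algebraMap A (Localization.Away g))) := by
        rw [PrimeSpectrum.localization_away_comap_range (Localization.Away g) g]; exact hg
      haveI : Nontrivial (Localization.Away g) := ⟨0, 1, fun h => y.2.ne_top ((Ideal.eq_top_iff_one _).2 (h ▸ y.asIdeal.zero_mem))⟩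
      let b' : Module.Basis (Fin n) (Localization.Away g) (Localization.Away g ⊗[A] M) :=
        b.map (LocalizedModule.equivTensorProduct (Submonoid.powers g) M)
      haveI := Module.Free.of_basis b'
      have h1 := Groth.Agent.FlatCx.fdim_comap (A := A) M (Localization.Away g) y
      unfold Groth.Agent.FlatCx.fdim at h1
      rw [Module.rankAtStalk_eq, ← h1, ← Module.rankAtStalk_eq,
        Module.rankAtStalk_eq_finrank_of_free, Pi.natCast_apply, Module.finrank_eq_card_basis b', Fintype.card_fin]
      rfl
  -- separating elements for the maximal members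
  set P' := P.filter (fun p => ∀ q ∈ P, p.asIdeal ≤ q.asIdeal → q = p)
  have hsep : ∀ p : P', ∃ e : A, e ∉ p.1.asIdeal ∧ ∀ q : P', q ≠ p → e ∈ q.1.asIdeal := by
    intro p
    have h : ∀ q : P', q ≠ p → ∃ e ∈ q.1.asIdeal, e ∉ p.1.asIdeal := by
      intro q hq
      refine Set.not_subset.1 fun hle => hq (Subtype.ext ?_)
      exact ((Finset.mem_filter.1 q.2).2 p.1 (Finset.mem_filter.1 p.2).1 hle).symm
    choose e he1 he2 using h
    refine ⟨∏ q : {q : P' // q ≠ p}, e q.1 q.2, fun hmem => ?_, fun q hq => ?_⟩
    · obtain ⟨q, -, hq⟩ := (p.1.2.prod_mem_iff).1 hmem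
      exact he2 _ _ hq
    · exact Ideal.mem_of_dvd _ (Finset.dvd_prod_of_mem _ (Finset.mem_univ (⟨q, hq⟩ : {q : P' // q ≠ p}))) (he1 q hq)
  choose e he1 he2 using hsep
  choose v hv using fun p : P' => (hloc p.1 (Finset.mem_filter.1 p.2).1).1
  let s : Fin n → M := fun j => ∑ p : P', e p • v p j
  let Q := M ⧸ Submodule.span A (Set.range s)
  have hrankopen : IsOpen {q : PrimeSpectrum A | Module.rankAtStalk (R := A) M q = n} :=
    (Module.isLocallyConstant_rankAtStalk (R := A) (M := M)).isOpen_fiber n
  refine ⟨s, (Module.support A Q)ᶜ ∩ {q | Module.rankAtStalk (R := A) M q = n},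
    (Module.isClosed_support (R := A) (M := Q)).isOpen_compl.inter hrankopen, ?_, ?_⟩
  · have hmax : ∀ p : P', p.1 ∉ Module.support A Q := by
      intro p
      rw [Module.mem_support_iff_nontrivial_residueField_tensorProduct, not_nontrivial_iff_subsingleton]
      refine subsingleton_of_forall_eq 0 fun z => ?_
      induction z using TensorProduct.induction_on with
      | zero => rfl
      | add a b ha hb => rw [ha, hb, add_zero]
      | tmul c x =>
        obtain ⟨x, rfl⟩ := Submodule.Quotient.mk_surjective _ x
        obtain ⟨a, ha, hax⟩ := hv p x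
        have hkill : ∀ (r : A) (m : M), r ∈ p.1.asIdeal →
            c ⊗ₜ[A] (Submodule.Quotient.mk (r • m) : Q) = (0 : p.1.asIdeal.ResidueField ⊗[A] Q) := fun r m hr => by
          rw [Submodule.Quotient.mk_smul, ← TensorProduct.smul_tmul, Algebra.smul_def,
            Ideal.algebraMap_residueField_eq_zero.2 hr, zero_mul, TensorProduct.zero_tmul]
        have hgen : ∀ w ∈ Submodule.span A (Set.range (v p)),
            c ⊗ₜ[A] (Submodule.Quotient.mk (e p • w) : Q) = (0 : p.1.asIdeal.ResidueField ⊗[A] Q) := by
          intro w hw
          induction hw using Submodule.span_induction with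
          | mem y hy =>
            obtain ⟨j, rfl⟩ := hy
            have h0 : (Submodule.Quotient.mk (s j) : Q) = 0 :=
              (Submodule.Quotient.mk_eq_zero _).2 (Submodule.subset_span ⟨j, rfl⟩)
            have h1 : e p • v p j = s j - ∑ q ∈ Finset.univ.erase p, e q • v q j := by
              rw [eq_sub_iff_add_eq, Finset.add_sum_erase _ (fun q => e q • v q j) (Finset.mem_univ p)]
            rw [h1, Submodule.Quotient.mk_sub, h0, zero_sub, TensorProduct.tmul_neg, neg_eq_zero,
              ← Submodule.mkQ_apply, map_sum, TensorProduct.tmul_sum]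
            refine Finset.sum_eq_zero fun q hq => hkill _ _ (he2 q p (Finset.ne_of_mem_erase hq).symm)
          | zero => simp
          | add a b _ _ ha hb => rw [smul_add, Submodule.Quotient.mk_add, TensorProduct.tmul_add, ha, hb, add_zero]
          | smul r y _ hy => rw [smul_comm, Submodule.Quotient.mk_smul, TensorProduct.tmul_smul, hy, smul_zero]
        have h2 := hgen _ hax
        rw [smul_smul, Submodule.Quotient.mk_smul, ← TensorProduct.smul_tmul] at h2
        have hu : algebraMap A p.1.asIdeal.ResidueField (e p * a) ≠ 0 := fun h =>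
          (p.1.2.mem_or_mem (Ideal.algebraMap_residueField_eq_zero.1 h)).elim (he1 p) ha
        have h3 := congrArg (fun z => (algebraMap A p.1.asIdeal.ResidueField (e p * a))⁻¹ • z) h2
        simp only [smul_zero, TensorProduct.smul_tmul', smul_eq_mul] at h3
        rwa [Algebra.smul_def, ← mul_assoc, inv_mul_cancel₀ hu, one_mul] at h3
    intro p hp
    refine ⟨fun hsupp => ?_, (hloc p hp).2⟩
    obtain ⟨q, hq, hqmax⟩ := (P.filter fun q => p ≤ q).exists_maximal ⟨p, Finset.mem_filter.2 ⟨hp, le_rfl⟩⟩
    rw [Finset.mem_filter] at hq
    have hqP' : q ∈ P' := Finset.mem_filter.2 ⟨hq.1, fun r hr hqr =>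
      le_antisymm (hqmax (Finset.mem_filter.2 ⟨hr, hq.2.trans hqr⟩) hqr) hqr⟩
    exact hmax ⟨q, hqP'⟩ (Module.mem_support_mono hq.2 hsupp)
  · rintro q ⟨hq1, hq2⟩
    haveI : Module.Free (Localization.AtPrime q.asIdeal) (LocalizedModule q.asIdeal.primeCompl M) :=
      Module.free_of_flat_of_isLocalRing
    haveI hQ : Subsingleton (LocalizedModule q.asIdeal.primeCompl Q) := Module.notMem_support_iff.1 hq1
    have hspan : Submodule.span (Localization.AtPrime q.asIdeal)
        (Set.range fun j => LocalizedModule.mkLinearMap q.asIdeal.primeCompl M (s j)) = ⊤ := by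
      refine eq_top_iff.2 fun z _ => ?_
      induction z using LocalizedModule.induction_on with
      | h x t =>
        obtain ⟨r, hr, hrx⟩ := LocalizedModule.subsingleton_iff.1 hQ (Submodule.Quotient.mk x)
        rw [← Submodule.Quotient.mk_smul, Submodule.Quotient.mk_eq_zero] at hrx
        have h1 : LocalizedModule.mkLinearMap q.asIdeal.primeCompl M (r • x) ∈ Submodule.span (Localization.AtPrime q.asIdeal)
            (Set.range fun j => LocalizedModule.mkLinearMap q.asIdeal.primeCompl M (s j)) := by
          have h2 := Submodule.mem_map_of_mem (f := LocalizedModule.mkLinearMap q.asIdeal.primeCompl M) hrx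
          rw [Submodule.map_span, ← Set.range_comp] at h2
          exact Submodule.span_le_restrictScalars A _ _ h2
        have h3 := Submodule.smul_mem _ (IsLocalization.mk' (Localization.AtPrime q.asIdeal) 1 (⟨r, hr⟩ * t)) h1
        convert! h3 using 1
        rw [LocalizedModule.mkLinearMap_apply]; rw [← Localization.mk_eq_mk', LocalizedModule.mk_smul_mk]; rw [one_smul, mul_one, LocalizedModule.mk_eq]
        exact ⟨1, by simp [Submonoid.smul_def, smul_smul, mul_comm]⟩
    exact ⟨linearIndependent_of_top_le_span_of_card_le_finrank hspan.ge (by rw [Fintype.card_fin]; exact hq2.ge), hspan⟩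

end Groth.Agent.S17902
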