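import Groth.Statements.S17905
import Groth.Agent.PinchFlatLib.Ringed
import Groth.Agent.PinchFlatLib.Basic
import Groth.Agent.ASp.MonoSectInj
-- import your own Groth.Agent.* helpers here

set_option autoImplicit false
set_option backward.isDefEq.respectTransparency false
universe u
open CategoryTheory AlgebraicGeometry
open Pinch

namespace Groth.Agent.S17905

/-- Let S be a scheme and Z → X, Z → Z', X → X', Z' → X' a commutative square of S-schemes which is a
pushout square in the category of ringed spaces, with Z → X and Z' → X' closed immersions, X → X'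
affine, Z → Z' finite, flat and surjective, and X, Z, Z' flat over S. Suppose that for every T → S
the map O_T → (f_T)_* O_{X_T} induced by the base change f_T : X_T → T of X → S is an isomorphism.
Then for every T → S the map O_T → (f'_T)_* O_{X'_T} induced by the base change of X' → S is an
isomorphism. (The published lemma is stated for the pinching of a finite surjective Z → Z' whose
fibres lie in affine opens of X, with X → S admitting a section; this row assumes X → X' only affine
and drops the affine-fibre and section conditions, which the printed proof does not use.) -/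
theorem result {S X Z Z' X' : Scheme.{u}}
    (fX : X ⟶ S) (fZ' : Z' ⟶ S) (fX' : X' ⟶ S) (ι : Z ⟶ X) (q : Z ⟶ Z') (π : X ⟶ X') (ι' : Z' ⟶ X')
    [IsClosedImmersion ι] [IsClosedImmersion ι'] [IsFinite q] [Flat q] [Surjective q] [IsAffineHom π]
    (hq : q ≫ fZ' = ι ≫ fX) (hπ : π ≫ fX' = fX) (hι' : ι' ≫ fX' = fZ')
    (hpo : IsPushout ((Scheme.forgetToLocallyRingedSpace ⋙ LocallyRingedSpace.forgetToSheafedSpace).map ι) ((Scheme.forgetToLocallyRingedSpace ⋙ LocallyRingedSpace.forgetToSheafedSpace).map q)
      ((Scheme.forgetToLocallyRingedSpace ⋙ LocallyRingedSpace.forgetToSheafedSpace).map π) ((Scheme.forgetToLocallyRingedSpace ⋙ LocallyRingedSpace.forgetToSheafedSpace).map ι'))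
    [Flat fX] [Flat (ι ≫ fX)] [Flat fZ']
    (hX : ∀ (T : Scheme.{u}) (g : T ⟶ S) (U : T.Opens), IsIso ((Limits.pullback.snd fX g).app U))
    (T : Scheme.{u}) (g : T ⟶ S) (U : T.Opens) :
    IsIso ((Limits.pullback.snd fX' g).app U) := by
  have hP := PinchFlatLib.isPushout_scheme hpo
  have hbot : ∀ {A B : Scheme.{u}} (m : A ⟶ B) (sA : A ⟶ S) (sB : B ⟶ S) (w : m ≫ sB = sA),
      IsPullback (Limits.pullback.fst sA g)
        ((Over.pullback g).map (Over.homMk m w : Over.mk sA ⟶ Over.mk sB)).left m (Limits.pullback.fst sB g) := by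
    intro A B m sA sB w
    refine (IsPullback.of_right ?_ ?_ (IsPullback.of_hasPullback sB g).flip).flip
    · subst w
      simpa using (IsPullback.of_hasPullback (m ≫ sB) g).flip
    · simp
  have hflat : Flat g ∨ Flat ((ι ≫ π) ≫ fX') := Or.inr (by rw [Category.assoc, hπ]; infer_instance)
  have hb1 := hbot ι (ι ≫ fX) fX rfl
  have hb2 := hbot q (ι ≫ fX) fZ' hq
  have hb3 := hbot π fX fX' hπ
  have hb4 := hbot ι' fZ' fX' hι'
  haveI := MorphismProperty.of_isPullback (P := @IsClosedImmersion) hb1 inferInstance
  haveI := MorphismProperty.of_isPullback (P := @IsAffineHom) hb2 inferInstance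
  haveI := MorphismProperty.of_isPullback (P := @IsAffineHom) hb3 inferInstance
  haveI := MorphismProperty.of_isPullback (P := @IsAffineHom) hb4 inferInstance
  haveI hqf := MorphismProperty.of_isPullback (P := @Flat) hb2 inferInstance
  haveI hqs := MorphismProperty.of_isPullback (P := @Surjective) hb2 inferInstance
  have hT := FerrandPush.isPushout_baseChange hP fX' g hflat (IsPullback.of_hasPullback fX' g)
    hb3 hb4 hb1 hb2.w.symm (by
      rw [← Over.comp_left, ← Over.comp_left, ← Functor.map_comp, ← Functor.map_comp]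
      congr 2
      ext1
      exact hP.w.symm)
  set aT := ((Over.pullback g).map (Over.homMk π hπ : Over.mk fX ⟶ Over.mk fX')).left with haT
  set bT := ((Over.pullback g).map (Over.homMk ι' hι' : Over.mk fZ' ⟶ Over.mk fX')).left with hbT
  set qT := ((Over.pullback g).map (Over.homMk q hq : Over.mk (ι ≫ fX) ⟶ Over.mk fZ')).left with hqT
  set iT := ((Over.pullback g).map (Over.homMk ι rfl : Over.mk (ι ≫ fX) ⟶ Over.mk fX)).left with hiT
  have hw : aT ≫ Limits.pullback.snd fX' g = Limits.pullback.snd fX g :=
    Over.w ((Over.pullback g).map (Over.homMk π hπ : Over.mk fX ⟶ Over.mk fX'))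
  let O := Limits.pullback.snd fX' g ⁻¹ᵁ U
  have hinj : Function.Injective (aT.app O) := by
    intro s t hst
    refine PinchFlatLib.sections_ext hT O hst ?_
    haveI : Flat (qT ∣_ (bT ⁻¹ᵁ O)) :=
      MorphismProperty.of_isPullback (isPullback_morphismRestrict qT (bT ⁻¹ᵁ O)).flip hqf
    haveI : Surjective (qT ∣_ (bT ⁻¹ᵁ O)) :=
      MorphismProperty.of_isPullback (isPullback_morphismRestrict qT (bT ⁻¹ᵁ O)).flip hqs
    have hq' : Function.Injective (qT.app (bT ⁻¹ᵁ O)) := by
      intro x y hxy
      have hi := ASp.appTop_injective_of_flat_surjective (qT ∣_ (bT ⁻¹ᵁ O))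
      rw [← Scheme.Hom.resLE_eq_morphismRestrict, Scheme.Hom.appTop, Scheme.Hom.resLE_app_top,
        ← Scheme.Hom.app_eq_appLE] at hi
      have hx := @hi ((bT ⁻¹ᵁ O).topIso.inv x) ((bT ⁻¹ᵁ O).topIso.inv y) (by
        simp only [CommRingCat.comp_apply, Iso.inv_hom_id_apply]
        rw [hxy])
      exact (bT ⁻¹ᵁ O).topIso.commRingCatIsoToRingEquiv.symm.injective hx
    apply hq'
    have h0 : (iT ≫ aT).app O s = (iT ≫ aT).app O t := congrArg (iT.app (aT ⁻¹ᵁ O)) hst
    have hc := Scheme.Hom.congr_app hT.w.symm O
    exact (congrArg (fun m => m.hom s) hc).trans ((congrArg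
      (fun r => (Limits.pullback (ι ≫ fX) g).presheaf.map _ r) h0).trans
        (congrArg (fun m => m.hom t) hc).symm)
  rw [ConcreteCategory.isIso_iff_bijective]
  haveI := hX T g U
  have hbij := ConcreteCategory.bijective_of_isIso ((Limits.pullback.snd fX g).app U)
  have hc : (Limits.pullback.snd fX g).app U = ((Limits.pullback.snd fX' g).app U ≫ aT.app O) ≫ _ :=
    Scheme.Hom.congr_app hw.symm U
  refine ⟨fun x y hxy => hbij.1 ?_, fun z => ?_⟩
  · exact (congrArg (fun m => m.hom x) hc).trans ((congrArg
      (fun r => (Limits.pullback fX g).presheaf.map _ (aT.app O r)) hxy).trans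
        (congrArg (fun m => m.hom y) hc).symm)
  · obtain ⟨x, hx⟩ := hbij.2 ((Limits.pullback fX g).presheaf.map (eqToHom (by
      rw [← hw]; rfl)).op (aT.app O z))
    refine ⟨x, hinj ((ConcreteCategory.bijective_of_isIso _).1 (Eq.trans ?_ hx))⟩
    exact (congrArg (fun m => m.hom x) hc).symm

end Groth.Agent.S17905
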