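import Groth.Statements.S17906
import Groth.Prelude.Def_PicLoc
import Mathlib
-- import your own Groth.Agent.* helpers here

set_option autoImplicit false
universe u
open CategoryTheory CategoryTheory.Limits AlgebraicGeometry
open PicRel

namespace Groth.Agent.S17906

/-- Let f : X → S be a morphism of schemes, g : S' → S a morphism and X' = X ×_S S'. If the relative
Picard functor of X over S, sheafified and described through a representing S-scheme P with maps φ_T
from classes of modules on X ×_S T to S-morphisms T → P, is represented by P, then the relative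
Picard functor of X' over S' is represented by P ×_S S': a class c on (X ×_S S') ×_{S'} T is sent,
after transport along the canonical isomorphism of this scheme with X ×_S T, to the S'-morphism T →
P ×_S S' whose components are φ(c) and the structure morphism of T. (The published statement is for
the fppf sheafification, asserts the isomorphism of functors Pic_{X/S} ×_S S' ≅ Pic_{X'/S'} in
general, and adds the compatibility of universal bundles and rigidifications; stated here is the
representability consequence for the étale sheafification, to which the same argument applies.) -/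
theorem result {X S S' : Scheme.{u}} (f : X ⟶ S) (g : S' ⟶ S)
    (P : Over S) (φ : ∀ T : Over S, PicF.Cl (PicF.XT f T) → (T ⟶ P)) (hP : PicRel.IsRelPic f P φ) :
    PicRel.IsRelPic (pullback.snd f g) (Over.mk (pullback.snd P.hom g))
      (fun T c => Over.homMk
        (pullback.lift (φ (Over.mk (T.hom ≫ g)) (PicF.pullCl (pullbackLeftPullbackSndIso f g T.hom).inv c)).left T.hom
          (Over.w (φ (Over.mk (T.hom ≫ g)) (PicF.pullCl (pullbackLeftPullbackSndIso f g T.hom).inv c))))
        (pullback.lift_snd _ _ _)) := by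
  let G : Over S' → Over S := fun T => Over.mk (T.hom ≫ g)
  let e : ∀ T : Over S', PicF.XT (pullback.snd f g) T ≅ PicF.XT f (G T) :=
    fun T => pullbackLeftPullbackSndIso f g T.hom
  have key0 : ∀ {A A' : Scheme.{u}} (b : A ⟶ S') (b' : A' ⟶ S') (h : A' ⟶ A) (w : h ≫ b = b'),
      pullback.map f (b' ≫ g) f (b ≫ g) (𝟙 X) h (𝟙 S) (by simp) (by simp [← w]) ≫
          (pullbackLeftPullbackSndIso f g b).inv =
        (pullbackLeftPullbackSndIso f g b').inv ≫
          pullback.map (pullback.snd f g) b' (pullback.snd f g) b (𝟙 _) h (𝟙 S') (by simp) (by simp [w]) := by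
    intro A A' b b' h w
    refine (Iso.comp_inv_eq _).2 (((Iso.eq_inv_comp _).2 ?_).trans (Category.assoc _ _ _).symm)
    apply pullback.hom_ext
    · simp only [pullback.map, Category.assoc]
      erw [pullback.lift_fst, pullback.lift_fst_assoc]
      simp [pullbackLeftPullbackSndIso_hom_fst_assoc, pullbackLeftPullbackSndIso_hom_fst]
      erw [pullback.lift_fst_assoc]
    · simp only [pullback.map, Category.assoc]
      erw [pullback.lift_snd, pullback.lift_snd]
      simp [pullbackLeftPullbackSndIso_hom_snd_assoc, pullbackLeftPullbackSndIso_hom_snd]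
      erw [pullback.lift_snd]
  have key : ∀ (T T' : Over S') (h : T' ⟶ T) (hh : G T' ⟶ G T), hh.left = h.left →
      PicF.XTmap f hh ≫ (e T).inv = (e T').inv ≫ PicF.XTmap (pullback.snd f g) h := by
    intro T T' h hh hl
    have h0 := key0 T.hom T'.hom h.left (Over.w h)
    simp only [PicF.XTmap, hl]
    exact h0
  have hXc : ∀ {A B C : Over S} (a : A ⟶ B) (b : B ⟶ C),
      PicF.XTmap f (a ≫ b) = PicF.XTmap f a ≫ PicF.XTmap f b := by
    intro A B C a b
    apply pullback.hom_ext
    · simp only [PicF.XTmap, pullback.map, Category.assoc]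
      erw [pullback.lift_fst, pullback.lift_fst, pullback.lift_fst_assoc]
      simp
    · simp only [PicF.XTmap, pullback.map, Category.assoc]
      erw [pullback.lift_snd, pullback.lift_snd, pullback.lift_snd_assoc]
      simp
  let ψ : ∀ T : Over S', PicF.Cl (PicF.XT (pullback.snd f g) T) → (T ⟶ Over.mk (pullback.snd P.hom g)) :=
    fun T c => Over.homMk (pullback.lift (φ (G T) (PicF.pullCl (e T).inv c)).left T.hom (Over.w _))
      (pullback.lift_snd _ _ _)
  show PicRel.IsRelPic (pullback.snd f g) _ ψ
  have hψ : ∀ T c, (ψ T c).left ≫ pullback.fst P.hom g = (φ (G T) (PicF.pullCl (e T).inv c)).left :=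
    fun T c => pullback.lift_fst _ _ _
  refine ⟨fun T T' h c hc => ?_, fun T a => ?_, fun T c c' hc hc' he => ?_⟩
  · apply Over.OverMorphism.ext
    apply pullback.hom_ext
    · rw [hψ, Over.comp_left, Category.assoc, hψ, ← PicLoc.pullCl_comp]
      let hh : G T' ⟶ G T := Over.homMk h.left (by simp [G])
      rw [← key T T' h hh rfl, PicLoc.pullCl_comp,
        hP.natural (G T) (G T') hh _ (PicLoc.isInvertibleCl_pullCl _ hc)]
      rfl
    · exact (Over.w (ψ T' _)).trans ((Over.w (h ≫ ψ T c)).symm)
  · let aa : G T ⟶ P := Over.homMk (a.left ≫ pullback.fst P.hom g) (by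
      have := Over.w a
      simp only [Over.mk_hom] at this
      simp [G, pullback.condition, reassoc_of% this])
    obtain ⟨ι, U, hU, hc⟩ := hP.locallySurjective (G T) aa
    refine ⟨ι, U, hU, fun i => ?_⟩
    obtain ⟨c, hcinv, hφc⟩ := hc i
    let q : G (PicRel.ovr T (U i)) ⟶ PicRel.ovr (G T) (U i) := Over.homMk (𝟙 _) (by simp [G])
    refine ⟨PicF.pullCl (e _).hom (PicF.pullCl (PicF.XTmap f q) c),
      PicLoc.isInvertibleCl_pullCl _ (PicLoc.isInvertibleCl_pullCl _ hcinv), ?_⟩
    apply Over.OverMorphism.ext
    apply pullback.hom_ext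
    · rw [hψ, ← PicLoc.pullCl_comp, Iso.inv_hom_id, PicLoc.pullCl_id, hP.natural _ _ q c hcinv, hφc]
      simp [q, aa]
    · exact (Over.w (ψ _ _)).trans ((Over.w (PicRel.ovrHom T (U i) ≫ a)).symm)
  · have he' : φ (G T) (PicF.pullCl (e T).inv c) = φ (G T) (PicF.pullCl (e T).inv c') := by
      apply Over.OverMorphism.ext
      rw [← hψ, ← hψ]
      exact congrArg (fun m : T ⟶ Over.mk (pullback.snd P.hom g) => m.left ≫ pullback.fst P.hom g) he
    obtain ⟨ι, U, hU, hc''⟩ := hP.locallyInjective (G T) _ _ (PicLoc.isInvertibleCl_pullCl _ hc)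
      (PicLoc.isInvertibleCl_pullCl _ hc') he'
    refine ⟨ι, U, hU, fun i => ?_⟩
    let q : G (PicRel.ovr T (U i)) ⟶ PicRel.ovr (G T) (U i) := Over.homMk (𝟙 _) (by simp [G])
    let hh : G (PicRel.ovr T (U i)) ⟶ G T := q ≫ PicRel.ovrHom (G T) (U i)
    have hk := key T _ (PicRel.ovrHom T (U i)) hh (by simp [hh, q])
    have hfac : PicF.XTmap (pullback.snd f g) (PicRel.ovrHom T (U i)) =
        (e _).hom ≫ PicF.XTmap f q ≫ PicF.XTmap f (PicRel.ovrHom (G T) (U i)) ≫ (e T).inv := by
      rw [← (e (PicRel.ovr T (U i))).inv_comp_eq, ← hk, ← Category.assoc]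
      congr 1
      exact hXc q (PicRel.ovrHom (G T) (U i))
    simp only [hfac, PicLoc.pullCl_comp, hc'' i]

end Groth.Agent.S17906
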