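import Groth.Statements.S19888
import Groth.Agent.PushoutSecLib.Sections
import Groth.Agent.FlatDescHomLib.Main
-- import your own Groth.Agent.* helpers here

set_option autoImplicit false
universe u
open CategoryTheory AlgebraicGeometry
open Pinch

namespace Groth.Agent.S19888

open Groth.Agent.CohBase Groth.Agent.PullbackMod Groth.Agent.GenBCLib Groth.Agent.FlatDescHomLib
open CategoryTheory.Limits TopologicalSpace Opposite

section

variable {X Y Z T : Scheme.{u}} {fX : Z ⟶ X} {fY : Z ⟶ Y} {gX : X ⟶ T} {gY : Y ⟶ T}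

theorem sections_of_isPushout (hpo : IsPushout ((Scheme.forgetToLocallyRingedSpace ⋙ LocallyRingedSpace.forgetToSheafedSpace).map fX) ((Scheme.forgetToLocallyRingedSpace ⋙ LocallyRingedSpace.forgetToSheafedSpace).map fY)
      ((Scheme.forgetToLocallyRingedSpace ⋙ LocallyRingedSpace.forgetToSheafedSpace).map gX) ((Scheme.forgetToLocallyRingedSpace ⋙ LocallyRingedSpace.forgetToSheafedSpace).map gY)) :
    (∀ (U : T.Opens) (r r' : Γ(T, U)), gX.app U r = gX.app U r' → gY.app U r = gY.app U r' → r = r') ∧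
    (∀ (U : T.Opens) (x : Γ(X, gX ⁻¹ᵁ U)) (y : Γ(Y, gY ⁻¹ᵁ U))
        (h : fX ⁻¹ᵁ (gX ⁻¹ᵁ U) = fY ⁻¹ᵁ (gY ⁻¹ᵁ U)),
      fX.appLE (gX ⁻¹ᵁ U) (fX ⁻¹ᵁ (gX ⁻¹ᵁ U)) le_rfl x = fY.appLE (gY ⁻¹ᵁ U) (fX ⁻¹ᵁ (gX ⁻¹ᵁ U)) h.le y →
      ∃ r, gX.app U r = x ∧ gY.app U r = y) := by
  have hP := hpo.map SheafedSpace.forgetToPresheafedSpace
  refine ⟨fun U r r' ha hb => PushoutSecLib.sec_injective hP U ha hb, fun U x y h hxy => ?_⟩
  refine PushoutSecLib.sec_exists hP U x y h ?_
  have e := congrArg (Z.presheaf.map (homOfLE h.ge).op) hxy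
  rw [← ConcreteCategory.comp_apply, ← ConcreteCategory.comp_apply, Scheme.Hom.appLE_map,
    Scheme.Hom.appLE_map] at e
  have e2 : fY.appLE (gY ⁻¹ᵁ U) (fY ⁻¹ᵁ (gY ⁻¹ᵁ U)) le_rfl y = fY.app _ y := by rw [Scheme.Hom.appLE_eq_app]
  exact e.trans e2

theorem cross (hw : fX ≫ gX = fY ≫ gY) {M N : T.Modules}
    (a : (Scheme.Modules.pullback gX).obj M ⟶ (Scheme.Modules.pullback gX).obj N)
    (b : (Scheme.Modules.pullback gY).obj M ⟶ (Scheme.Modules.pullback gY).obj N)
    (hab : (Scheme.Modules.pullback fX).map a ≫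
            ((Scheme.Modules.pullbackComp fX gX).app N ≪≫ (Scheme.Modules.pullbackCongr hw).app N ≪≫
              ((Scheme.Modules.pullbackComp fY gY).app N).symm).hom =
          ((Scheme.Modules.pullbackComp fX gX).app M ≪≫ (Scheme.Modules.pullbackCongr hw).app M ≪≫
              ((Scheme.Modules.pullbackComp fY gY).app M).symm).hom ≫
            (Scheme.Modules.pullback fY).map b)
    (W : T.Opens) (O : Z.Opens) (e₁ : O ≤ fX ⁻¹ᵁ (gX ⁻¹ᵁ W)) (e₂ : O ≤ fY ⁻¹ᵁ (gY ⁻¹ᵁ W)) (s : Γ(M, W)) :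
    trans fX gX hw N (gX ⁻¹ᵁ W) O e₁ (a.app _ (pullMap gX M le_rfl s)) =
      trans fY gY (rfl : fY ≫ gY = fY ≫ gY) N (gY ⁻¹ᵁ W) O e₂ (b.app _ (pullMap gY M le_rfl s)) := by
  have e₁' : O ≤ (fX ≫ gX) ⁻¹ᵁ W := e₁
  have e₂' : O ≤ (fY ≫ gY) ⁻¹ᵁ W := e₂
  let z := pullMap fX _ e₁ (pullMap gX M (le_refl (gX ⁻¹ᵁ W)) s)
  let cX := (Scheme.Modules.pullbackComp fX gX)
  let cY := (Scheme.Modules.pullbackComp fY gY)
  let k := (Scheme.Modules.pullbackCongr hw)
  have h : (cY.inv.app N).app O ((k.hom.app N).app O ((cX.hom.app N).app O (((Scheme.Modules.pullback fX).map a).app O z))) =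
      ((Scheme.Modules.pullback fY).map b).app O ((cY.inv.app M).app O ((k.hom.app M).app O ((cX.hom.app M).app O z))) :=
    congrArg (fun m : (Scheme.Modules.pullback fX).obj ((Scheme.Modules.pullback gX).obj M) ⟶
      (Scheme.Modules.pullback fY).obj ((Scheme.Modules.pullback gY).obj N) => m.app O z) hab
  have hl : ((Scheme.Modules.pullback fX).map a).app O z = pullMap fX _ e₁ (a.app _ (pullMap gX M le_rfl s)) :=
    pullMap_natural fX a e₁ _
  have hr : ((Scheme.Modules.pullback fY).map b).app O ((cY.inv.app M).app O ((k.hom.app M).app O ((cX.hom.app M).app O z))) =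
      pullMap fY _ e₂ (b.app _ (pullMap gY M le_rfl s)) := by
    have t1 : (cX.hom.app M).app O z = pullMap (fX ≫ gX) M e₁' s := pullMap_comp fX gX M le_rfl e₁ e₁' s
    have t2 : (k.hom.app M).app O (pullMap (fX ≫ gX) M e₁' s) = pullMap (fY ≫ gY) M e₂' s :=
      pullMap_congr hw M e₁' e₂' s
    have t3 : (cY.inv.app M).app O (pullMap (fY ≫ gY) M e₂' s) = pullMap fY _ e₂ (pullMap gY M le_rfl s) :=
      comp_inv_pullMap fY gY M (gY ⁻¹ᵁ W) O le_rfl e₂ e₂' s
    rw [t1, t2, t3]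
    exact pullMap_natural fY b e₂ _
  rw [hl, hr] at h
  have h' := congrArg ((cY.hom.app N).app O) h
  refine Eq.trans ?_ h'
  exact (congrArg (fun m : (Scheme.Modules.pullback (fY ≫ gY)).obj N ⟶ (Scheme.Modules.pullback (fY ≫ gY)).obj N => m.app O _)
    (cY.inv_hom_id_app N)).symm

variable (hinj : ∀ (U : T.Opens) (r r' : Γ(T, U)), gX.app U r = gX.app U r' → gY.app U r = gY.app U r' → r = r')
  {M : T.Modules} (hM : FlatMod.IsFinLocFree M)

include hinj hM

theorem pair_injective (V : T.Opens) {s t : Γ(M, V)}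
    (hX : pullMap gX M (le_refl (gX ⁻¹ᵁ V)) s = pullMap gX M le_rfl t)
    (hY : pullMap gY M (le_refl (gY ⁻¹ᵁ V)) s = pullMap gY M le_rfl t) : s = t := by
  haveI := (isQCoh_and_isFP_of_isFinLocFree M hM).1
  refine sec_ext M fun y hy => ?_
  obtain ⟨D, hD, n, hyD, ⟨b⟩⟩ := exists_basisOn M hM y
  refine ⟨V ⊓ D, inf_le_left, ⟨hy, hyD⟩, ?_⟩
  obtain ⟨c, hc⟩ := (basisOn_self M hD b (V ⊓ D) inf_le_right).2 (rs M inf_le_left s)
  obtain ⟨d, hd⟩ := (basisOn_self M hD b (V ⊓ D) inf_le_right).2 (rs M inf_le_left t)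
  dsimp only at hc hd
  rw [← hc, ← hd]
  have coef : ∀ {W : Scheme.{u}} (f : W ⟶ T),
      pullMap f M (le_refl (f ⁻¹ᵁ V)) s = pullMap f M le_rfl t → ∀ i, f.app _ (c i) = f.app _ (d i) := by
    intro W f h
    have e := congrArg (rs _ (f.preimage_mono (inf_le_left : V ⊓ D ≤ V))) h
    rw [← pullMap_of_le f M (inf_le_left : V ⊓ D ≤ V) s, ← pullMap_of_le f M (inf_le_left : V ⊓ D ≤ V) t, ← hc, ← hd,
      pullMap_comb, pullMap_comb] at e
    exact congrFun ((basisOn_pullMap f M hD b (f ⁻¹ᵁ (V ⊓ D)) (f.preimage_mono inf_le_right)).1 e)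
  exact Finset.sum_congr rfl fun i _ => congrArg (· • _) (hinj _ _ _ (coef gX hX i) (coef gY hY i))

end

attribute [-instance] CategoryTheory.catToReflQuiver

/-- Let f_X : Z → X, f_Y : Z → Y, g_X : X → T and g_Y : Y → T be morphisms of schemes with g_X ∘ f_X =
g_Y ∘ f_Y forming a pushout square in the category of ringed spaces, and let M and N be locally free
O_T-modules of finite rank. For an O_T-module P write ξ_P : f_X^* g_X^* P ≅ f_Y^* g_Y^* P for the
canonical isomorphism. Then the functor P ↦ (g_X^* P, g_Y^* P, ξ_P) is fully faithful on such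
modules: a morphism φ : M → N is determined by the pair (g_X^* φ, g_Y^* φ), and every pair of
morphisms a : g_X^* M → g_X^* N, b : g_Y^* M → g_Y^* N with ξ_N ∘ f_X^*(a) = f_Y^*(b) ∘ ξ_M is of
this form. (The source states the equivalence of categories for the pinching square of a closed
immersion Z → X along a finite surjective Z → Z'; the full-faithfulness half is established there
for any square of schemes that is a pushout of ringed spaces, which is the form given here. The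
essential-surjectivity half is a separate statement.) -/
theorem result {X Y Z T : Scheme.{u}}
    (fX : Z ⟶ X) (fY : Z ⟶ Y) (gX : X ⟶ T) (gY : Y ⟶ T) (hw : fX ≫ gX = fY ≫ gY)
    (hpo : IsPushout ((Scheme.forgetToLocallyRingedSpace ⋙ LocallyRingedSpace.forgetToSheafedSpace).map fX) ((Scheme.forgetToLocallyRingedSpace ⋙ LocallyRingedSpace.forgetToSheafedSpace).map fY)
      ((Scheme.forgetToLocallyRingedSpace ⋙ LocallyRingedSpace.forgetToSheafedSpace).map gX) ((Scheme.forgetToLocallyRingedSpace ⋙ LocallyRingedSpace.forgetToSheafedSpace).map gY))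
    (M N : T.Modules) (hM : FlatMod.IsFinLocFree M) (hN : FlatMod.IsFinLocFree N) :
    (∀ φ ψ : M ⟶ N, (Scheme.Modules.pullback gX).map φ = (Scheme.Modules.pullback gX).map ψ →
        (Scheme.Modules.pullback gY).map φ = (Scheme.Modules.pullback gY).map ψ → φ = ψ) ∧
      (∀ (a : (Scheme.Modules.pullback gX).obj M ⟶ (Scheme.Modules.pullback gX).obj N)
        (b : (Scheme.Modules.pullback gY).obj M ⟶ (Scheme.Modules.pullback gY).obj N),
        (Scheme.Modules.pullback fX).map a ≫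
            ((Scheme.Modules.pullbackComp fX gX).app N ≪≫ (Scheme.Modules.pullbackCongr hw).app N ≪≫
              ((Scheme.Modules.pullbackComp fY gY).app N).symm).hom =
          ((Scheme.Modules.pullbackComp fX gX).app M ≪≫ (Scheme.Modules.pullbackCongr hw).app M ≪≫
              ((Scheme.Modules.pullbackComp fY gY).app M).symm).hom ≫
            (Scheme.Modules.pullback fY).map b →
        ∃ φ : M ⟶ N, (Scheme.Modules.pullback gX).map φ = a ∧ (Scheme.Modules.pullback gY).map φ = b) := by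
  obtain ⟨hinj, hex⟩ := sections_of_isPushout hpo
  haveI := (isQCoh_and_isFP_of_isFinLocFree N hN).1
  refine ⟨fun φ ψ hX hY => Scheme.Modules.hom_ext _ _ fun V => AddCommGrpCat.hom_ext (AddMonoidHom.ext fun s => ?_), fun a b hab => ?_⟩
  · refine pair_injective hinj hN V ?_ ?_
    · show pullMap gX N le_rfl (φ.app V s) = pullMap gX N le_rfl (ψ.app V s)
      rw [← pullMap_natural, ← pullMap_natural, hX]
    · show pullMap gY N le_rfl (φ.app V s) = pullMap gY N le_rfl (ψ.app V s)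
      rw [← pullMap_natural, ← pullMap_natural, hY]
  have hOO : ∀ U : T.Opens, fX ⁻¹ᵁ (gX ⁻¹ᵁ U) = fY ⁻¹ᵁ (gY ⁻¹ᵁ U) := fun U => by
    show (fX ≫ gX) ⁻¹ᵁ U = _
    rw [hw]
    rfl
  have heq : ∀ (W : T.Opens) (s : Γ(M, W)),
      trans fX gX hw N (gX ⁻¹ᵁ W) (fX ⁻¹ᵁ (gX ⁻¹ᵁ W)) le_rfl (a.app _ (pullMap gX M le_rfl s)) =
      trans fY gY (rfl : fY ≫ gY = fY ≫ gY) N (gY ⁻¹ᵁ W) (fX ⁻¹ᵁ (gX ⁻¹ᵁ W)) (hOO W).le
        (b.app _ (pullMap gY M le_rfl s)) :=
    fun W s => cross hw a b hab W _ le_rfl (hOO W).le s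
  have key : ∀ (V : T.Opens) (s : Γ(M, V)), ∃ m : Γ(N, V),
      pullMap gX N le_rfl m = a.app _ (pullMap gX M le_rfl s) ∧
      pullMap gY N le_rfl m = b.app _ (pullMap gY M le_rfl s) := by
    intro V s
    have hloc : ∀ y : V, ∃ (W : T.Opens) (hW : W ≤ V), y.1 ∈ W ∧
        ∃ m : Γ(N, W), pullMap gX N le_rfl m = a.app _ (pullMap gX M le_rfl (rs M hW s)) ∧
          pullMap gY N le_rfl m = b.app _ (pullMap gY M le_rfl (rs M hW s)) := by
      intro y
      obtain ⟨D, hD, n, hyD, ⟨e⟩⟩ := exists_basisOn N hN y.1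
      refine ⟨V ⊓ D, inf_le_left, ⟨y.2, hyD⟩, ?_⟩
      set W := V ⊓ D
      have hWD : W ≤ D := inf_le_right
      obtain ⟨c, hc'⟩ := (basisOn_pullMap gX N hD e (gX ⁻¹ᵁ W) (gX.preimage_mono hWD)).2
        (a.app _ (pullMap gX M le_rfl (rs M inf_le_left s)))
      obtain ⟨d, hd'⟩ := (basisOn_pullMap gY N hD e (gY ⁻¹ᵁ W) (gY.preimage_mono hWD)).2
        (b.app _ (pullMap gY M le_rfl (rs M inf_le_left s)))
      dsimp only at hc' hd'
      have h := heq W (rs M inf_le_left s)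
      rw [← hc', ← hd', trans_sum, trans_sum] at h
      have hbq : ∀ {A : Scheme.{u}} (p : Z ⟶ A) (g : A ⟶ T) (hp : p ≫ g = fY ≫ gY)
          (eO : fX ⁻¹ᵁ (gX ⁻¹ᵁ W) ≤ p ⁻¹ᵁ (g ⁻¹ᵁ W)) (i : Fin n),
          trans p g hp N (g ⁻¹ᵁ W) (fX ⁻¹ᵁ (gX ⁻¹ᵁ W)) eO (rs _ (g.preimage_mono hWD) (pullMap g N le_rfl (e i))) =
            rs _ (show fX ⁻¹ᵁ (gX ⁻¹ᵁ W) ≤ (fY ≫ gY) ⁻¹ᵁ D from (hOO W).le.trans (fY.preimage_mono (gY.preimage_mono hWD)))
              (pullMap (fY ≫ gY) N le_rfl (e i)) := by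
        intro A p g hp eO i
        rw [← pullMap_of_le g N hWD (e i), trans_pullMap p g hp N _ _ le_rfl eO (show _ ≤ (fY ≫ gY) ⁻¹ᵁ W from (hOO W).le)]
        exact (pullMap_res (fY ≫ gY) N le_rfl hWD _ _ _).symm
      simp only [hbq] at h
      have hcoef := (basisOn_pullMap (fY ≫ gY) N hD e _ _).1 h
      choose r hrx hry using fun i => hex W (c i) (d i) (hOO W) (congrFun hcoef i)
      refine ⟨∑ i, r i • rs N hWD (e i), ?_, ?_⟩
      · rw [← hc', pullMap_comb]
        exact Finset.sum_congr rfl fun i _ => by rw [hrx]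
      · rw [← hd', pullMap_comb]
        exact Finset.sum_congr rfl fun i _ => by rw [hry]
    choose W hW hy m hmX hmY using hloc
    obtain ⟨g, hg, -⟩ := TopCat.Sheaf.existsUnique_gluing' ⟨N.presheaf, N.isSheaf⟩ W V (fun y => homOfLE (hW y))
      (fun y hyV => Opens.mem_iSup.2 ⟨⟨y, hyV⟩, hy _⟩) m (fun y z => by
        refine pair_injective hinj hN _ ?_ ?_
        · show pullMap gX N le_rfl (rs N inf_le_left (m y)) = pullMap gX N le_rfl (rs N inf_le_right (m z))
          rw [pullMap_of_le gX N inf_le_left, pullMap_of_le gX N inf_le_right, hmX, hmX]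
          rw [rs_app a, rs_app a]
          refine congrArg _ ?_
          show rs _ _ (pullMap gX M le_rfl _) = rs _ _ (pullMap gX M le_rfl _)
          rw [← pullMap_of_le gX M inf_le_left, ← pullMap_of_le gX M inf_le_right, rs_rs, rs_rs]
        · show pullMap gY N le_rfl (rs N inf_le_left (m y)) = pullMap gY N le_rfl (rs N inf_le_right (m z))
          rw [pullMap_of_le gY N inf_le_left, pullMap_of_le gY N inf_le_right, hmY, hmY]
          rw [rs_app b, rs_app b]
          refine congrArg _ ?_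
          show rs _ _ (pullMap gY M le_rfl _) = rs _ _ (pullMap gY M le_rfl _)
          rw [← pullMap_of_le gY M inf_le_left, ← pullMap_of_le gY M inf_le_right, rs_rs, rs_rs])
    refine ⟨g, sec_ext _ fun x hx => ⟨gX ⁻¹ᵁ W ⟨gX x, hx⟩, gX.preimage_mono (hW _), hy ⟨gX x, hx⟩, ?_⟩,
      sec_ext _ fun x hx => ⟨gY ⁻¹ᵁ W ⟨gY x, hx⟩, gY.preimage_mono (hW _), hy ⟨gY x, hx⟩, ?_⟩⟩
    · rw [← pullMap_of_le gX N (hW _), rs_app a]
      show _ = a.app _ (rs _ _ (pullMap gX M le_rfl s))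
      rw [← pullMap_of_le gX M (hW _), ← hmX]
      exact congrArg _ (hg _)
    · rw [← pullMap_of_le gY N (hW _), rs_app b]
      show _ = b.app _ (rs _ _ (pullMap gY M le_rfl s))
      rw [← pullMap_of_le gY M (hW _), ← hmY]
      exact congrArg _ (hg _)
  choose φ0 hφX hφY using key
  let φ : M ⟶ N := ⟨PresheafOfModules.homMk
    { app := fun V => AddCommGrpCat.ofHom
        { toFun := φ0 V.unop
          map_zero' := pair_injective hinj hN _ ((hφX _ _).trans ((congrArg _ (map_zero _)).trans ((map_zero _).trans (map_zero _).symm))) ((hφY _ _).trans ((congrArg _ (map_zero _)).trans ((map_zero _).trans (map_zero _).symm)))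
          map_add' := fun s t => pair_injective hinj hN _ ((hφX _ _).trans ((congrArg _ (map_add _ _ _)).trans ((map_add _ _ _).trans (Eq.trans (congrArg₂ (· + ·) (hφX _ _).symm (hφX _ _).symm) (map_add _ _ _).symm)))) ((hφY _ _).trans ((congrArg _ (map_add _ _ _)).trans ((map_add _ _ _).trans (Eq.trans (congrArg₂ (· + ·) (hφY _ _).symm (hφY _ _).symm) (map_add _ _ _).symm)))) }
      naturality := fun V W i => AddCommGrpCat.hom_ext (AddMonoidHom.ext fun s => pair_injective hinj hN _ (by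
        show pullMap gX N le_rfl (φ0 W.unop (rs M i.unop.le s)) = pullMap gX N le_rfl (rs N i.unop.le (φ0 V.unop s))
        rw [hφX, pullMap_of_le gX N i.unop.le, hφX, pullMap_of_le gX M i.unop.le, rs, appRes]) (by
        show pullMap gY N le_rfl (φ0 W.unop (rs M i.unop.le s)) = pullMap gY N le_rfl (rs N i.unop.le (φ0 V.unop s))
        rw [hφY, pullMap_of_le gY N i.unop.le, hφY, pullMap_of_le gY M i.unop.le, rs, appRes])) }
    fun V (r : Γ(T, V.unop)) (s : Γ(M, V.unop)) => pair_injective hinj hN V.unop (by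
      show pullMap gX N le_rfl (φ0 V.unop (r • s)) = pullMap gX N le_rfl (r • φ0 V.unop s)
      rw [hφX, pullMap_smul, pullMap_smul, hφX, Scheme.Modules.Hom.app_smul]) (by
      show pullMap gY N le_rfl (φ0 V.unop (r • s)) = pullMap gY N le_rfl (r • φ0 V.unop s)
      rw [hφY, pullMap_smul, pullMap_smul, hφY, Scheme.Modules.Hom.app_smul])⟩
  have hφ : ∀ (V : T.Opens) (s : Γ(M, V)), φ.app V s = φ0 V s := fun V s => rfl
  refine ⟨φ, ?_, ?_⟩
  · refine ((Scheme.Modules.pullbackPushforwardAdjunction gX).homEquiv M _).injective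
      (Scheme.Modules.hom_ext _ _ fun V => AddCommGrpCat.hom_ext (AddMonoidHom.ext fun s => ?_))
    rw [Adjunction.homEquiv_unit, Adjunction.homEquiv_unit]
    show ((Scheme.Modules.pullback gX).map φ).app (gX ⁻¹ᵁ V) (((Scheme.Modules.pullbackPushforwardAdjunction gX).unit.app M).app V s) =
      a.app (gX ⁻¹ᵁ V) (((Scheme.Modules.pullbackPushforwardAdjunction gX).unit.app M).app V s)
    rw [← pullMap_self_eq, pullMap_natural, hφ, hφX]
  · refine ((Scheme.Modules.pullbackPushforwardAdjunction gY).homEquiv M _).injective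
      (Scheme.Modules.hom_ext _ _ fun V => AddCommGrpCat.hom_ext (AddMonoidHom.ext fun s => ?_))
    rw [Adjunction.homEquiv_unit, Adjunction.homEquiv_unit]
    show ((Scheme.Modules.pullback gY).map φ).app (gY ⁻¹ᵁ V) (((Scheme.Modules.pullbackPushforwardAdjunction gY).unit.app M).app V s) =
      b.app (gY ⁻¹ᵁ V) (((Scheme.Modules.pullbackPushforwardAdjunction gY).unit.app M).app V s)
    rw [← pullMap_self_eq, pullMap_natural, hφ, hφY]

end Groth.Agent.S19888
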