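import Groth.Statements.S17907
import Groth.Agent.PinchGlueModLib.Basic
import Groth.Agent.PinchFlatLib.Ringed
import Groth.Agent.PinchFlatLib.Basic
import Groth.Agent.FormalSysLib.Sections
import Groth.Agent.QCohLib.Push
import Groth.Agent.DCohLib.QCohAbelian
import Groth.Agent.S19888
-- import your own Groth.Agent.* helpers here

set_option backward.isDefEq.respectTransparency false
set_option linter.style.haveILetI false

set_option autoImplicit false
universe u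
open CategoryTheory AlgebraicGeometry
open Pinch

namespace Groth.Agent.S17907

open Groth.Agent.CohBase Groth.Agent.PullbackMod Groth.Agent.FlatDescHomLib Groth.Agent.PinchGlueModLib Groth.Agent.GenBCLib
open CategoryTheory.Limits TopologicalSpace Opposite

noncomputable section

variable {X Z Z' X' : Scheme.{u}} (ι : Z ⟶ X) (q : Z ⟶ Z') (π : X ⟶ X') (ι' : Z' ⟶ X')
  (hw : ι ≫ π = q ≫ ι') {LX : X.Modules} {LZ' : Z'.Modules}
  (σ : (Scheme.Modules.pullback ι).obj LX ≅ (Scheme.Modules.pullback q).obj LZ')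

include hw in
theorem hOO (W : X'.Opens) : ι ⁻¹ᵁ (π ⁻¹ᵁ W) = q ⁻¹ᵁ (ι' ⁻¹ᵁ W) := by
  show (ι ≫ π) ⁻¹ᵁ W = _
  rw [hw]
  rfl

variable (LZ') in
/-- Modules on `Z` pushed to `X'`. -/
abbrev T : X'.Modules := (Scheme.Modules.pushforward π).obj ((Scheme.Modules.pushforward ι).obj ((Scheme.Modules.pullback q).obj LZ'))

def a1 : (Scheme.Modules.pushforward π).obj LX ⟶ T ι q π LZ' :=
  (Scheme.Modules.pushforward π).map ((Scheme.Modules.pullbackPushforwardAdjunction ι).homEquiv _ _ σ.hom)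

variable (LZ') in
def a2 : (Scheme.Modules.pushforward ι').obj LZ' ⟶ T ι q π LZ' :=
  (Scheme.Modules.pushforward ι').map ((Scheme.Modules.pullbackPushforwardAdjunction q).unit.app LZ') ≫
    (Scheme.Modules.pushforwardComp q ι').hom.app _ ≫ (Scheme.Modules.pushforwardCongr hw.symm).hom.app _ ≫
    (Scheme.Modules.pushforwardComp ι π).inv.app _

theorem a1_app (W : X'.Opens) (s : Γ(LX, π ⁻¹ᵁ W)) :
    (a1 ι q π σ).app W s = σ.hom.app _ (pullMap ι LX (le_refl (ι ⁻¹ᵁ (π ⁻¹ᵁ W))) s) := by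
  rw [pullMap_self_eq, a1, Adjunction.homEquiv_unit]
  rfl

theorem a2_app (W : X'.Opens) (t : Γ(LZ', ι' ⁻¹ᵁ W)) :
    (a2 ι q π ι' hw LZ').app W t = pullMap q LZ' (hOO ι q π ι' hw W).le t := rfl

/-- The difference map. -/
def diff : (Scheme.Modules.pushforward π).obj LX ⊞ (Scheme.Modules.pushforward ι').obj LZ' ⟶ T ι q π LZ' :=
  biprod.fst ≫ a1 ι q π σ - biprod.snd ≫ a2 ι q π ι' hw LZ'

/-- The glued module. -/
def M : X'.Modules := kernel (diff ι q π ι' hw σ)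

def prX : M ι q π ι' hw σ ⟶ (Scheme.Modules.pushforward π).obj LX := kernel.ι (diff ι q π ι' hw σ) ≫ biprod.fst

def prZ : M ι q π ι' hw σ ⟶ (Scheme.Modules.pushforward ι').obj LZ' := kernel.ι (diff ι q π ι' hw σ) ≫ biprod.snd

theorem pr_eq (W : X'.Opens) (s : Γ(M ι q π ι' hw σ, W)) :
    (a1 ι q π σ).app W ((prX ι q π ι' hw σ).app W s) = (a2 ι q π ι' hw LZ').app W ((prZ ι q π ι' hw σ).app W s) := by
  have h : (kernel.ι (diff ι q π ι' hw σ) ≫ diff ι q π ι' hw σ).app W s = 0 := by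
    rw [kernel.condition]
    rfl
  exact sub_eq_zero.1 h

theorem pr_ext (W : X'.Opens) {s t : Γ(M ι q π ι' hw σ, W)}
    (hX : (prX ι q π ι' hw σ).app W s = (prX ι q π ι' hw σ).app W t)
    (hZ : (prZ ι q π ι' hw σ).app W s = (prZ ι q π ι' hw σ).app W t) : s = t := by
  apply FormalSys.app_injective_of_mono (kernel.ι (diff ι q π ι' hw σ)) W
  let A := (Scheme.Modules.pushforward π).obj LX
  let B := (Scheme.Modules.pushforward ι').obj LZ'
  have key : ∀ v : Γ(A ⊞ B, W),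
      (biprod.inl : A ⟶ A ⊞ B).app W ((biprod.fst : A ⊞ B ⟶ A).app W v) +
        (biprod.inr : B ⟶ A ⊞ B).app W ((biprod.snd : A ⊞ B ⟶ B).app W v) = v :=
    fun v => congrArg (fun m : A ⊞ B ⟶ A ⊞ B => Scheme.Modules.Hom.app m W v) biprod.total
  rw [← key ((kernel.ι (diff ι q π ι' hw σ)).app W s), ← key ((kernel.ι (diff ι q π ι' hw σ)).app W t)]
  exact congrArg₂ (fun a b => (biprod.inl : A ⟶ A ⊞ B).app W a + (biprod.inr : B ⟶ A ⊞ B).app W b) hX hZ

theorem pr_exists (W : X'.Opens) (a : Γ(LX, π ⁻¹ᵁ W)) (b : Γ(LZ', ι' ⁻¹ᵁ W))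
    (h : (a1 ι q π σ).app W a = (a2 ι q π ι' hw LZ').app W b) :
    ∃ s, (prX ι q π ι' hw σ).app W s = a ∧ (prZ ι q π ι' hw σ).app W s = b := by
  let A := (Scheme.Modules.pushforward π).obj LX
  let B := (Scheme.Modules.pushforward ι').obj LZ'
  let a' : Γ(A, W) := a
  let b' : Γ(B, W) := b
  let v : Γ(A ⊞ B, W) := (biprod.inl : A ⟶ A ⊞ B).app W a' + (biprod.inr : B ⟶ A ⊞ B).app W b'
  have hfst : (biprod.fst : A ⊞ B ⟶ A).app W v = a' := by
    rw [map_add]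
    show (biprod.inl ≫ biprod.fst : A ⟶ A).app W a' + (biprod.inr ≫ biprod.fst : B ⟶ A).app W b' = a'
    rw [biprod.inl_fst, biprod.inr_fst]
    exact add_zero a'
  have hsnd : (biprod.snd : A ⊞ B ⟶ B).app W v = b' := by
    rw [map_add]
    show (biprod.inl ≫ biprod.snd : A ⟶ B).app W a' + (biprod.inr ≫ biprod.snd : B ⟶ B).app W b' = b'
    rw [biprod.inl_snd, biprod.inr_snd]
    exact zero_add b'
  have h0 : (diff ι q π ι' hw σ).app W v = 0 := by
    show (a1 ι q π σ).app W ((biprod.fst : A ⊞ B ⟶ A).app W v) - (a2 ι q π ι' hw LZ').app W ((biprod.snd : A ⊞ B ⟶ B).app W v) = 0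
    rw [hfst, hsnd]
    exact sub_eq_zero.2 h
  obtain ⟨s, hs⟩ := QCohLib.kernel_app_exact _ W v h0
  refine ⟨s, ?_, ?_⟩
  · show (biprod.fst : A ⊞ B ⟶ A).app W ((kernel.ι (diff ι q π ι' hw σ)).app W s) = _
    rw [hs, hfst]
  · show (biprod.snd : A ⊞ B ⟶ B).app W ((kernel.ι (diff ι q π ι' hw σ)).app W s) = _
    rw [hs, hsnd]

theorem isQCoh_M [IsClosedImmersion ι] [IsClosedImmersion ι'] [IsFinite π] (hX : Coh.IsQCoh LX) (hZ : Coh.IsQCoh LZ') :
    Coh.IsQCoh (M ι q π ι' hw σ) := by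
  haveI := hX
  haveI := hZ
  haveI := isQCoh_pullback q LZ'
  haveI h1 : Coh.IsQCoh ((Scheme.Modules.pushforward ι).obj ((Scheme.Modules.pullback q).obj LZ')) :=
    QCohLib.isQCoh_pushforward _ ι
  exact (QCohLib.isQCoh_image (diff ι q π ι' hw σ)
    (DCohLib.isQCoh_biprod' (QCohLib.isQCoh_pushforward _ π) (QCohLib.isQCoh_pushforward _ ι'))
    (QCohLib.isQCoh_pushforward _ π)).1

variable {n : ℕ}

/-- A compatible pair of frames over `W`. -/
def Frame (W : X'.Opens) (x : Fin n → Γ(LX, π ⁻¹ᵁ W)) (y : Fin n → Γ(LZ', ι' ⁻¹ᵁ W)) : Prop :=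
  BasisOn LX (π ⁻¹ᵁ W) x ∧ BasisOn LZ' (ι' ⁻¹ᵁ W) y ∧
    BasisOn ((Scheme.Modules.pullback q).obj LZ') (ι ⁻¹ᵁ (π ⁻¹ᵁ W)) (fun i => (a2 ι q π ι' hw LZ').app W (y i)) ∧
    ∀ i, (a1 ι q π σ).app W (x i) = (a2 ι q π ι' hw LZ').app W (y i)

theorem a1_rs {V W : X'.Opens} (h : V ≤ W) (s : Γ(LX, π ⁻¹ᵁ W)) :
    (a1 ι q π σ).app V (rs LX (π.preimage_mono h) s) =
      rs ((Scheme.Modules.pullback q).obj LZ') (ι.preimage_mono (π.preimage_mono h)) ((a1 ι q π σ).app W s) :=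
  QCohLib.app_res (a1 ι q π σ) h s

theorem a2_rs {V W : X'.Opens} (h : V ≤ W) (s : Γ(LZ', ι' ⁻¹ᵁ W)) :
    (a2 ι q π ι' hw LZ').app V (rs LZ' (ι'.preimage_mono h) s) =
      rs ((Scheme.Modules.pullback q).obj LZ') (ι.preimage_mono (π.preimage_mono h)) ((a2 ι q π ι' hw LZ').app W s) :=
  QCohLib.app_res (a2 ι q π ι' hw LZ') h s

variable (hinj : ∀ (U : X'.Opens) (r r' : Γ(X', U)), π.app U r = π.app U r' → ι'.app U r = ι'.app U r' → r = r')
  (hex : ∀ (U : X'.Opens) (x : Γ(X, π ⁻¹ᵁ U)) (y : Γ(Z', ι' ⁻¹ᵁ U)) (h : ι ⁻¹ᵁ (π ⁻¹ᵁ U) = q ⁻¹ᵁ (ι' ⁻¹ᵁ U)),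
      ι.appLE (π ⁻¹ᵁ U) (ι ⁻¹ᵁ (π ⁻¹ᵁ U)) le_rfl x = q.appLE (ι' ⁻¹ᵁ U) (ι ⁻¹ᵁ (π ⁻¹ᵁ U)) h.le y →
      ∃ r, π.app U r = x ∧ ι'.app U r = y)

include hinj hex in
theorem basisOn_M {W : X'.Opens} {x : Fin n → Γ(LX, π ⁻¹ᵁ W)} {y : Fin n → Γ(LZ', ι' ⁻¹ᵁ W)}
    (hF : Frame ι q π ι' hw σ W x y) :
    ∃ m : Fin n → Γ(M ι q π ι' hw σ, W), (∀ i, (prX ι q π ι' hw σ).app W (m i) = x i) ∧
      (∀ i, (prZ ι q π ι' hw σ).app W (m i) = y i) ∧
      BasisOn (M ι q π ι' hw σ) W m := by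
  obtain ⟨hx, hy, hP, hxy⟩ := hF
  choose m hmX hmZ using fun i => pr_exists ι q π ι' hw σ W (x i) (y i) (hxy i)
  refine ⟨m, hmX, hmZ, fun V hV => ?_⟩
  have eX : ∀ c : Fin n → Γ(X', V), (prX ι q π ι' hw σ).app V (∑ i, c i • rs _ hV (m i)) =
      ∑ i, π.app V (c i) • rs LX (π.preimage_mono hV) (x i) := fun c => by
    rw [map_sum]
    refine Finset.sum_congr rfl fun i _ => ?_
    rw [Scheme.Modules.Hom.app_smul, ← rs_app, hmX]
    rfl
  have eZ : ∀ c : Fin n → Γ(X', V), (prZ ι q π ι' hw σ).app V (∑ i, c i • rs _ hV (m i)) =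
      ∑ i, ι'.app V (c i) • rs LZ' (ι'.preimage_mono hV) (y i) := fun c => by
    rw [map_sum]
    refine Finset.sum_congr rfl fun i _ => ?_
    rw [Scheme.Modules.Hom.app_smul, ← rs_app, hmZ]
    rfl
  refine ⟨fun c c' e => funext fun i => ?_, fun s => ?_⟩
  · dsimp only at e
    have e1 := congrArg ((prX ι q π ι' hw σ).app V) e
    have e2 := congrArg ((prZ ι q π ι' hw σ).app V) e
    rw [eX, eX] at e1
    rw [eZ, eZ] at e2
    exact hinj V _ _ (congrFun ((hx _ (π.preimage_mono hV)).1 e1) i) (congrFun ((hy _ (ι'.preimage_mono hV)).1 e2) i)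
  obtain ⟨c, hc⟩ := (hx _ (π.preimage_mono hV)).2 ((prX ι q π ι' hw σ).app V s)
  obtain ⟨d, hd⟩ := (hy _ (ι'.preimage_mono hV)).2 ((prZ ι q π ι' hw σ).app V s)
  dsimp only at hc hd
  have h := pr_eq ι q π ι' hw σ V s
  let w := fun i => rs ((Scheme.Modules.pullback q).obj LZ') (ι.preimage_mono (π.preimage_mono hV)) ((a2 ι q π ι' hw LZ').app W (y i))
  have hl : (a1 ι q π σ).app V ((prX ι q π ι' hw σ).app V s) =
      ∑ i, ι.appLE (π ⁻¹ᵁ V) (ι ⁻¹ᵁ (π ⁻¹ᵁ V)) le_rfl (c i) • w i := by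
    rw [← hc, a1_app, map_sum, map_sum]
    refine Finset.sum_congr rfl fun i _ => ?_
    rw [pullMap_smul, Scheme.Modules.Hom.app_smul, ← a1_app, a1_rs ι q π σ hV, hxy]
  have hr : (a2 ι q π ι' hw LZ').app V ((prZ ι q π ι' hw σ).app V s) =
      ∑ i, q.appLE (ι' ⁻¹ᵁ V) (ι ⁻¹ᵁ (π ⁻¹ᵁ V)) (hOO ι q π ι' hw V).le (d i) • w i := by
    rw [← hd, a2_app, map_sum]
    refine Finset.sum_congr rfl fun i _ => ?_
    rw [pullMap_smul, ← a2_app ι q π ι' hw, a2_rs ι q π ι' hw hV]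
  choose r hrx hry using fun i => hex V (c i) (d i) (hOO ι q π ι' hw V)
    (congrFun ((hP _ (ι.preimage_mono (π.preimage_mono hV))).1 (hl.symm.trans (h.trans hr))) i)
  refine ⟨r, pr_ext ι q π ι' hw σ V ?_ ?_⟩
  · rw [eX, ← hc]
    exact Finset.sum_congr rfl fun i _ => by rw [hrx]
  · rw [eZ, ← hd]
    exact Finset.sum_congr rfl fun i _ => by rw [hry]

theorem frame_res {W V : X'.Opens} (h : V ≤ W) {x : Fin n → Γ(LX, π ⁻¹ᵁ W)} {y : Fin n → Γ(LZ', ι' ⁻¹ᵁ W)}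
    (hF : Frame ι q π ι' hw σ W x y) :
    Frame ι q π ι' hw σ V (fun i => rs LX (π.preimage_mono h) (x i)) (fun i => rs LZ' (ι'.preimage_mono h) (y i)) := by
  obtain ⟨hx, hy, hP, hxy⟩ := hF
  refine ⟨basisOn_res hx _, basisOn_res hy _, ?_, fun i => ?_⟩
  · simp only [a2_rs ι q π ι' hw h]
    exact basisOn_res hP _
  · rw [a1_rs ι q π σ h, a2_rs ι q π ι' hw h, hxy]

/-- Frames exist. -/
theorem exists_frame [IsClosedImmersion ι] [IsClosedImmersion ι'] [IsFinite q] [IsFinite π]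
    (hpo : IsPushout ((Scheme.forgetToLocallyRingedSpace ⋙ LocallyRingedSpace.forgetToSheafedSpace).map ι) ((Scheme.forgetToLocallyRingedSpace ⋙ LocallyRingedSpace.forgetToSheafedSpace).map q)
      ((Scheme.forgetToLocallyRingedSpace ⋙ LocallyRingedSpace.forgetToSheafedSpace).map π) ((Scheme.forgetToLocallyRingedSpace ⋙ LocallyRingedSpace.forgetToSheafedSpace).map ι'))
    (U : X'.Opens) (hU : (U : Set X') = (Set.range ι'.base)ᶜ) (hiso : IsIso (π ∣_ U))
    (hLX : FlatMod.IsFinLocFreeOfRank n LX) (hLZ' : FlatMod.IsFinLocFreeOfRank n LZ') (x' : X') :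
    ∃ (A : X'.Opens) (_ : IsAffineOpen A) (x : Fin n → Γ(LX, π ⁻¹ᵁ A)) (y : Fin n → Γ(LZ', ι' ⁻¹ᵁ A)),
      x' ∈ A ∧ Frame ι q π ι' hw σ A x y := by
  suffices h : ∃ (W : X'.Opens) (x : Fin n → Γ(LX, π ⁻¹ᵁ W)) (y : Fin n → Γ(LZ', ι' ⁻¹ᵁ W)),
      x' ∈ W ∧ Frame ι q π ι' hw σ W x y by
    obtain ⟨W, x, y, hx', hF⟩ := h
    obtain ⟨A, hA, hxA, hAW⟩ := exists_isAffineOpen_mem_and_subset (x := x') (U := W) hx'
    exact ⟨A, hA, _, _, hxA, frame_res ι q π ι' hw σ hAW hF⟩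
  have hclosed : IsClosedMap π.base := π.isClosedMap
  by_cases hxU : x' ∈ U
  swap
  · obtain ⟨z', rfl⟩ : x' ∈ Set.range ι'.base := by
      by_contra hc
      exact hxU (show x' ∈ (U : Set X') from hU ▸ hc)
    haveI := (isQCoh_and_isFP_of_isFinLocFree LZ' (isFinLocFree_of_rank hLZ')).1
    obtain ⟨D, hD, hzD, ⟨b⟩⟩ := exists_basis hLZ' z'
    obtain ⟨O, hO, hOD⟩ := ι'.isClosedEmbedding.isInducing.isOpen_iff.1 D.2
    obtain ⟨W, hW, hxW, hWO⟩ := exists_isAffineOpen_mem_and_subset (x := ι' z') (U := ⟨O, hO⟩)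
      (show z' ∈ ι'.base ⁻¹' O from hOD ▸ hzD)
    have hWD : ι' ⁻¹ᵁ W ≤ D := fun a ha => show a ∈ (D : Set Z') from (Set.ext_iff.1 hOD a).1 (hWO ha)
    let y : Fin n → Γ(LZ', ι' ⁻¹ᵁ W) := fun i => rs LZ' hWD (b i)
    have hy : BasisOn LZ' (ι' ⁻¹ᵁ W) y := basisOn_res (basisOn_self LZ' hD b) hWD
    have hqD : ι ⁻¹ᵁ (π ⁻¹ᵁ W) ≤ q ⁻¹ᵁ D := (hOO ι q π ι' hw W).le.trans (q.preimage_mono hWD)
    have hP : BasisOn ((Scheme.Modules.pullback q).obj LZ') (ι ⁻¹ᵁ (π ⁻¹ᵁ W))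
        (fun i => (a2 ι q π ι' hw LZ').app W (y i)) := by
      have e : (fun i => (a2 ι q π ι' hw LZ').app W (y i)) =
          fun i => rs _ hqD (pullMap q LZ' le_rfl (b i)) := funext fun i => by
        rw [a2_app]
        exact (pullMap_res q LZ' le_rfl hWD hqD _ (b i)).symm
      rw [e]
      exact basisOn_res (basisOn_pullMap q LZ' hD b) hqD
    have hz := hP.map_iso σ.symm
    obtain ⟨x, G, hG, hxz, hmem, hGB⟩ := exists_basisOn_lift ι hLX (hW.preimage π) _ hz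
    have hF : ∀ i, (a1 ι q π σ).app W (x i) = (a2 ι q π ι' hw LZ').app W (y i) := fun i => by
      rw [a1_app, hxz]
      exact congrArg (fun m : _ ⟶ _ => Scheme.Modules.Hom.app m _ _) σ.inv_hom_id
    let V : X'.Opens := W ⊓ ⟨(π.base '' (G : Set X)ᶜ)ᶜ, (hclosed _ G.2.isClosed_compl).isOpen_compl⟩
    have hVW : V ≤ W := inf_le_left
    have hVG : π ⁻¹ᵁ V ≤ G := fun a ha => by
      by_contra hc
      exact ha.2 ⟨a, hc, rfl⟩
    refine ⟨V, fun i => rs LX (π.preimage_mono hVW) (x i), fun i => rs LZ' (ι'.preimage_mono hVW) (y i), ⟨hxW, ?_⟩, ?_, ?_, ?_, ?_⟩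
    · rintro ⟨a, ha, hae⟩
      obtain ⟨z, hz, -⟩ := PinchFlatLib.exists_overlap (PinchFlatLib.isPushout_scheme hpo) hae
      subst hz
      exact ha (hmem z (show π (ι z) ∈ W from hae ▸ hxW))
    · have := basisOn_res hGB hVG
      simpa only [rs_rs] using this
    · exact basisOn_res hy _
    · simp only [a2_rs ι q π ι' hw hVW]
      exact basisOn_res hP _
    · exact fun i => by rw [a1_rs ι q π σ hVW, a2_rs ι q π ι' hw hVW, hF]
  obtain ⟨p, rfl⟩ : x' ∈ Set.range π.base := (PinchFlatLib.jointly_surjective hpo x').resolve_right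
    (show x' ∈ (Set.range ι'.base)ᶜ from hU ▸ hxU)
  haveI := (isQCoh_and_isFP_of_isFinLocFree LX (isFinLocFree_of_rank hLX)).1
  obtain ⟨D, hD, hpD, ⟨b⟩⟩ := exists_basis hLX p
  let W : X'.Opens := U ⊓ ⟨(π.base '' (D : Set X)ᶜ)ᶜ, (hclosed _ D.2.isClosed_compl).isOpen_compl⟩
  have hWD : π ⁻¹ᵁ W ≤ D := fun a ha => by
    by_contra hc
    exact ha.2 ⟨a, hc, rfl⟩
  have hZe : ∀ a : Z', a ∉ ι' ⁻¹ᵁ W := fun a ha => by
    have h1 : ι' a ∈ (U : Set X') := ha.1
    rw [hU] at h1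
    exact h1 ⟨a, rfl⟩
  have hPe : ∀ a : Z, a ∉ ι ⁻¹ᵁ (π ⁻¹ᵁ W) := fun a ha => hZe (q a) ((hOO ι q π ι' hw W).le ha)
  haveI := subsingleton_of_bot ((Scheme.Modules.pullback q).obj LZ') hPe
  refine ⟨W, fun i => rs LX hWD (b i), fun _ => 0, ⟨hxU, ?_⟩, basisOn_res (basisOn_self LX hD b) hWD,
    basisOn_of_empty _ hZe _, basisOn_of_empty _ hPe _, fun i => @Subsingleton.elim Γ((Scheme.Modules.pullback q).obj LZ', ι ⁻¹ᵁ (π ⁻¹ᵁ W)) inferInstance _ _⟩
  rintro ⟨a, ha, hae⟩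
  haveI := hiso
  have : (⟨a, show π a ∈ U from hae ▸ hxU⟩ : π ⁻¹ᵁ U) = ⟨p, hxU⟩ :=
    (π ∣_ U).homeomorph.injective (Subtype.ext (by simpa [morphismRestrict_base] using hae))
  obtain rfl : a = p := congrArg Subtype.val this
  exact ha hpD

end


/-- Let Z → X be a closed immersion and Z → Z' a finite surjective morphism such that every fibre of Z →
Z' lies in an affine open of X; let X → X', Z' → X' complete a commutative square of schemes which
is a pushout square in the category of ringed spaces, with Z' → X' a closed immersion, X → X' finite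
and an isomorphism over the open complement of the image of Z'. Given locally free modules L_X on X
and L_{Z'} on Z' of the same rank n and an isomorphism σ from the pullback of L_X to Z onto the
pullback of L_{Z'} to Z, there are a locally free module M of rank n on X', an isomorphism e_X from
the pullback of M to X onto L_X and an isomorphism e_{Z'} from the pullback of M to Z' onto L_{Z'},
compatible with σ: the canonical isomorphism between the two iterated pullbacks of M to Z (through X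
and through Z') followed by the pullback of e_{Z'} to Z equals the pullback of e_X to Z followed by
σ. (The published result is an equivalence of categories between locally free modules of rank n on
X' and such triples (L_X, L_{Z'}, σ); stated here is the essential surjectivity of the functor
towards triples, not its full faithfulness. Finiteness of X → X' and the isomorphism away from Z'
are part of the pinching construction and are taken as hypotheses.) -/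
theorem result {X Z Z' X' : Scheme.{u}}
    (ι : Z ⟶ X) (q : Z ⟶ Z') (π : X ⟶ X') (ι' : Z' ⟶ X')
    [IsClosedImmersion ι] [IsClosedImmersion ι'] [IsFinite q] [Surjective q] [IsFinite π]
    (hw : ι ≫ π = q ≫ ι')
    (hpo : IsPushout ((Scheme.forgetToLocallyRingedSpace ⋙ LocallyRingedSpace.forgetToSheafedSpace).map ι) ((Scheme.forgetToLocallyRingedSpace ⋙ LocallyRingedSpace.forgetToSheafedSpace).map q)
      ((Scheme.forgetToLocallyRingedSpace ⋙ LocallyRingedSpace.forgetToSheafedSpace).map π) ((Scheme.forgetToLocallyRingedSpace ⋙ LocallyRingedSpace.forgetToSheafedSpace).map ι'))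
    (hAF : ∀ z' : Z', ∃ U : X.Opens, IsAffineOpen U ∧ ∀ z : Z, q.base z = z' → ι.base z ∈ U)
    (U : X'.Opens) (hU : (U : Set X') = (Set.range ι'.base)ᶜ) (hiso : IsIso (π ∣_ U))
    (n : ℕ) (LX : X.Modules) (LZ' : Z'.Modules)
    (hLX : FlatMod.IsFinLocFreeOfRank n LX) (hLZ' : FlatMod.IsFinLocFreeOfRank n LZ')
    (σ : (Scheme.Modules.pullback ι).obj LX ≅ (Scheme.Modules.pullback q).obj LZ') :
    ∃ (M : X'.Modules) (eX : (Scheme.Modules.pullback π).obj M ≅ LX)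
      (eZ' : (Scheme.Modules.pullback ι').obj M ≅ LZ'),
      FlatMod.IsFinLocFreeOfRank n M ∧
      (Scheme.Modules.pullbackComp ι π).app M ≪≫ (Scheme.Modules.pullbackCongr hw).app M ≪≫
          ((Scheme.Modules.pullbackComp q ι').app M).symm ≪≫ (Scheme.Modules.pullback q).mapIso eZ' =
        (Scheme.Modules.pullback ι).mapIso eX ≪≫ σ := by
  obtain ⟨hinj, hex⟩ := S19888.sections_of_isPushout hpo
  have hqX := (isQCoh_and_isFP_of_isFinLocFree LX (isFinLocFree_of_rank hLX)).1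
  have hqZ := (isQCoh_and_isFP_of_isFinLocFree LZ' (isFinLocFree_of_rank hLZ')).1
  haveI hqM := isQCoh_M ι q π ι' hw σ hqX hqZ
  let N := M ι q π ι' hw σ
  let adjπ := Scheme.Modules.pullbackPushforwardAdjunction π
  let adjι' := Scheme.Modules.pullbackPushforwardAdjunction ι'
  let φX : (Scheme.Modules.pullback π).obj N ⟶ LX := (adjπ.homEquiv _ _).symm (prX ι q π ι' hw σ)
  let φZ : (Scheme.Modules.pullback ι').obj N ⟶ LZ' := (adjι'.homEquiv _ _).symm (prZ ι q π ι' hw σ)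
  have hφX : ∀ (W : X'.Opens) (s : Γ(N, W)), φX.app _ (pullMap π N le_rfl s) = (prX ι q π ι' hw σ).app W s := fun W s => by
    rw [pullMap_self_eq, ← (adjπ.homEquiv _ _).apply_symm_apply (prX ι q π ι' hw σ), Adjunction.homEquiv_unit]
    rfl
  have hφZ : ∀ (W : X'.Opens) (s : Γ(N, W)), φZ.app _ (pullMap ι' N le_rfl s) = (prZ ι q π ι' hw σ).app W s := fun W s => by
    rw [pullMap_self_eq, ← (adjι'.homEquiv _ _).apply_symm_apply (prZ ι q π ι' hw σ), Adjunction.homEquiv_unit]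
    rfl
  have hloc : ∀ x' : X', ∃ (A : X'.Opens) (_ : IsAffineOpen A) (m : Module.Basis (Fin n) Γ(X', A) Γ(N, A)), x' ∈ A ∧
      BasisOn LX (π ⁻¹ᵁ A) (fun i => φX.app _ (pullMap π N le_rfl (m i))) ∧
      BasisOn LZ' (ι' ⁻¹ᵁ A) (fun i => φZ.app _ (pullMap ι' N le_rfl (m i))) := fun x' => by
    obtain ⟨A, hA, x, y, hxA, hF⟩ := exists_frame ι q π ι' hw σ hpo U hU hiso hLX hLZ' x'
    obtain ⟨m, hmX, hmZ, hm⟩ := basisOn_M ι q π ι' hw σ hinj hex hF
    let e : (Fin n → Γ(X', A)) ≃ₗ[Γ(X', A)] Γ(N, A) := LinearEquiv.ofBijective (Fintype.linearCombination Γ(X', A) m) (by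
      refine Eq.subst (motive := fun F : (Fin n → Γ(X', A)) → Γ(N, A) => Function.Bijective F) ?_ (hm A le_rfl)
      funext c
      rw [Fintype.linearCombination_apply]
      exact Finset.sum_congr rfl fun i _ => congrArg (c i • ·) (restr_self N _ _))
    let bm : Module.Basis (Fin n) Γ(X', A) Γ(N, A) := Module.Basis.ofEquivFun e.symm
    have hbm : ∀ i, bm i = m i := fun i => by
      simp only [bm, Module.Basis.coe_ofEquivFun, LinearEquiv.symm_symm]
      show Fintype.linearCombination Γ(X', A) m (Pi.single i 1) = m i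
      rw [Fintype.linearCombination_apply_single, one_smul]
    refine ⟨A, hA, bm, hxA, ?_, ?_⟩
    · simpa only [hφX, hbm, hmX] using hF.1
    · simpa only [hφZ, hbm, hmZ] using hF.2.1
  haveI : IsIso φX := isIso_of_bases φX fun p => by
    obtain ⟨A, hA, m, hp, hX, -⟩ := hloc (π p)
    exact ⟨π ⁻¹ᵁ A, _, hp, basisOn_pullMap π N hA m, hX⟩
  haveI : IsIso φZ := isIso_of_bases φZ fun p => by
    obtain ⟨A, hA, m, hp, -, hZ⟩ := hloc (ι' p)
    exact ⟨ι' ⁻¹ᵁ A, _, hp, basisOn_pullMap ι' N hA m, hZ⟩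
  refine ⟨N, asIso φX, asIso φZ, fun x' => ?_, Iso.ext ?_⟩
  · obtain ⟨A, hA, m, hxA, -, -⟩ := hloc x'
    exact ⟨A, hxA, FlatLocus.nonempty_iso_freeMod N hA n m.equivFun⟩
  refine ((Scheme.Modules.pullbackPushforwardAdjunction ι).homEquiv _ _).injective ?_
  refine (adjπ.homEquiv _ _).injective ?_
  refine Scheme.Modules.hom_ext _ _ fun W => AddCommGrpCat.hom_ext (AddMonoidHom.ext fun s => ?_)
  rw [Adjunction.homEquiv_unit, Adjunction.homEquiv_unit, Adjunction.homEquiv_unit, Adjunction.homEquiv_unit]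
  let O := ι ⁻¹ᵁ (π ⁻¹ᵁ W)
  let z := pullMap ι _ (le_refl O) (pullMap π N (le_refl (π ⁻¹ᵁ W)) s)
  suffices h : ((Scheme.Modules.pullback q).map φZ).app O (((Scheme.Modules.pullbackComp q ι').inv.app N).app O
      (((Scheme.Modules.pullbackCongr hw).hom.app N).app O (((Scheme.Modules.pullbackComp ι π).hom.app N).app O z))) =
      σ.hom.app O (((Scheme.Modules.pullback ι).map φX).app O z) by
    simp only [z, O, pullMap_self_eq] at h
    exact h
  have e₁ : O ≤ (ι ≫ π) ⁻¹ᵁ W := le_rfl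
  have e₂ : O ≤ (q ≫ ι') ⁻¹ᵁ W := (hOO ι q π ι' hw W).le
  have t1 : ((Scheme.Modules.pullbackComp ι π).hom.app N).app O z = pullMap (ι ≫ π) N e₁ s :=
    pullMap_comp ι π N le_rfl (le_refl O) e₁ s
  have t2 : ((Scheme.Modules.pullbackCongr hw).hom.app N).app O (pullMap (ι ≫ π) N e₁ s) = pullMap (q ≫ ι') N e₂ s :=
    pullMap_congr hw N e₁ e₂ s
  have t3 : ((Scheme.Modules.pullbackComp q ι').inv.app N).app O (pullMap (q ≫ ι') N e₂ s) =
      pullMap q _ e₂ (pullMap ι' N le_rfl s) := comp_inv_pullMap q ι' N (ι' ⁻¹ᵁ W) O le_rfl e₂ e₂ s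
  rw [t1, t2, t3, pullMap_natural, pullMap_natural, hφX, hφZ, ← a1_app]
  exact (pr_eq ι q π ι' hw σ W s).symm

end Groth.Agent.S17907
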