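import Groth.Statements.S17910
import Mathlib
-- import your own Groth.Agent.* helpers here

set_option autoImplicit false
universe u
open scoped TensorProduct
open SymTen

namespace Groth.Agent.S17910

/-- Let R be a commutative ring, A a commutative R-algebra, d ≥ 0, and P an A-module that is finitely
generated projective (finite locally free) as an R-module. Let the d-fold tensor power of A over R
act on the d-fold tensor power of P over R factor by factor, and let I_d be the R-span of the pure
tensors p_1 ⊗ ⋯ ⊗ p_d with two equal factors p_i = p_j, i ≠ j (the submodule by which the tensor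
power is divided to give the d-th exterior power). Then every symmetric tensor a ∈ TS^d_R(A) maps
I_d into itself, so that TS^d_R(A) acts on the d-th exterior power of P over R. -/
theorem result (R : Type u) [CommRing R] (A : Type u) [CommRing A] [Algebra R A]
    (P : Type u) [AddCommGroup P] [Module R P] [Module A P] [IsScalarTower R A P]
    [Module.Finite R P] [Module.Projective R P] (d : ℕ)
    (a : ⨂[R] _ : Fin d, A) (ha : a ∈ SymTen.TS R A d)
    (x : ⨂[R] _ : Fin d, P) (hx : x ∈ SymTen.altSpan R P d) :
    SymTen.tpowAct R A P d a x ∈ SymTen.altSpan R P d := by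
  classical
  -- fixed tensors of a transposition lie in the alternating span
  have key : ∀ (i j : Fin d), i ≠ j → ∀ t : ⨂[R] _ : Fin d, P,
      PiTensorProduct.reindex R (fun _ : Fin d => P) (Equiv.swap i j) t = t → t ∈ SymTen.altSpan R P d := by
    intro i j hij t ht
    obtain ⟨s, hs⟩ := (Finsupp.linearCombination R (id : P → P)).exists_rightInverse_of_surjective
      (LinearMap.range_eq_top.mpr fun x => ⟨Finsupp.single x 1, by simp⟩)
    let ι : P →ₗ[R] (P →₀ R) := s
    let π : (P →₀ R) →ₗ[R] P := Finsupp.linearCombination R id
    let F := P →₀ R
    let Bs := Basis.piTensorProduct fun _ : Fin d => (Finsupp.basisSingleOne : Module.Basis P R F)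
    let M := PiTensorProduct.map (R := R) fun _ : Fin d => ι
    let N := PiTensorProduct.map (R := R) fun _ : Fin d => π
    have hNM : ∀ u, N (M u) = u := fun u => by
      rw [← LinearMap.comp_apply, ← PiTensorProduct.map_comp]
      have hid : (fun _ : Fin d => π ∘ₗ ι) = fun _ : Fin d => (LinearMap.id : P →ₗ[R] P) := funext fun _ => hs
      rw [hid, PiTensorProduct.map_id, LinearMap.id_apply]
    have hcomm : ∀ u, M (PiTensorProduct.reindex R (fun _ : Fin d => P) (Equiv.swap i j) u) =
        PiTensorProduct.reindex R (fun _ : Fin d => F) (Equiv.swap i j) (M u) := fun u => by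
      induction u using PiTensorProduct.induction_on with
      | smul_tprod c g => simp [M]
      | add u v hu hv => simp only [map_add, hu, hv]
    -- symmetric coefficients
    let w := M t
    have hw : PiTensorProduct.reindex R (fun _ : Fin d => F) (Equiv.swap i j) w = w := by
      rw [← hcomm, ht]
    let τ : Equiv.Perm (Fin d → P) := Equiv.arrowCongr (Equiv.swap i j) (Equiv.refl P)
    have hτ : ∀ q l, τ q l = q (Equiv.swap i j l) := fun q l => by simp [τ, Equiv.arrowCongr]
    have hττ : ∀ q, τ (τ q) = q := fun q => funext fun l => by rw [hτ, hτ, Equiv.swap_apply_self]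
    have hBs : ∀ q, Bs q = PiTensorProduct.tprod R fun l => (Finsupp.single (q l) 1 : F) := fun q => by
      simp [Bs]
    have hrepr : ∀ q, Bs.repr w (τ q) = Bs.repr w q := fun q => by
      have h1 : ∀ (u : ⨂[R] _ : Fin d, F), Bs.repr (PiTensorProduct.reindex R (fun _ : Fin d => F) (Equiv.swap i j) u) q =
          Bs.repr u (τ q) := by
        intro u
        induction u using PiTensorProduct.induction_on with
        | smul_tprod c g =>
            simp only [map_smul, PiTensorProduct.reindex_tprod, Finsupp.coe_smul, Pi.smul_apply,
              Bs, Basis.piTensorProduct_repr_tprod_apply]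
            congr 1
            refine (Fintype.prod_equiv (Equiv.swap i j) _ _ fun l => ?_).symm
            simp [hτ]
            rw [Equiv.swap_apply_self]
        | add u v hu hv => simp only [map_add, Finsupp.coe_add, Pi.add_apply, hu, hv]
      rw [← h1 w, hw]
    let G : (Fin d → P) → ⨂[R] _ : Fin d, P := fun q => Bs.repr w q • PiTensorProduct.tprod R q
    have hexp : t = ∑ q ∈ (Bs.repr w).support, G q := by
      rw [← hNM t]
      show N w = _
      conv_lhs => rw [← Bs.linearCombination_repr w, Finsupp.linearCombination_apply, Finsupp.sum]
      rw [map_sum]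
      refine Finset.sum_congr rfl fun q _ => ?_
      rw [map_smul, hBs, PiTensorProduct.map_tprod]
      simp [G, π]
    let Q : Submodule R (⨂[R] _ : Fin d, P) := SymTen.altSpan R P d
    have hfix : ∀ q, τ q = q → G q ∈ Q := fun q hq => Submodule.smul_mem _ _ (Submodule.subset_span
      ⟨q, i, j, hij, by have := congrFun hq i; rw [hτ, Equiv.swap_apply_left] at this; exact this.symm, rfl⟩)
    have hpair : ∀ q, G q + G (τ q) ∈ Q := fun q => by
      have hτq : τ q = Function.update (Function.update q i (q j)) j (q i) := funext fun l => by
        rw [hτ]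
        by_cases hlj : l = j
        · subst hlj; rw [Function.update_self, Equiv.swap_apply_right]
        · rw [Function.update_of_ne hlj]
          by_cases hli : l = i
          · subst hli; rw [Function.update_self, Equiv.swap_apply_left]
          · rw [Function.update_of_ne hli, Equiv.swap_apply_of_ne_of_ne hli hlj]
      simp only [G, hrepr, ← smul_add]
      refine Submodule.smul_mem _ _ ?_
      let T : P → P → ⨂[R] _ : Fin d, P := fun x y =>
        PiTensorProduct.tprod R (Function.update (Function.update q i x) j y)
      have hd : ∀ x, T x x ∈ Q := fun x => Submodule.subset_span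
        ⟨_, i, j, hij, by rw [Function.update_of_ne hij, Function.update_self, Function.update_self], rfl⟩
      have hadd1 : ∀ x x' y, T (x + x') y = T x y + T x' y := fun x x' y => by
        simp only [T, Function.update_comm hij, MultilinearMap.map_update_add]
      have hadd2 : ∀ x y y', T x (y + y') = T x y + T x y' := fun x y y' => by
        simp only [T, MultilinearMap.map_update_add]
      have hq0 : T (q i) (q j) = PiTensorProduct.tprod R q := by simp [T]
      have hq1 : T (q j) (q i) = PiTensorProduct.tprod R (τ q) := by rw [hτq]
      have h2 : T (q i) (q j) + T (q j) (q i) =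
          T (q i + q j) (q i + q j) - T (q i) (q i) - T (q j) (q j) := by
        rw [hadd1, hadd2, hadd2]; abel
      rw [← hq0, ← hq1, h2]
      exact sub_mem (sub_mem (hd _) (hd _)) (hd _)
    rw [hexp]
    have hmain : ∀ S : Finset (Fin d → P), (∀ q, q ∈ S → τ q ∈ S) → ∑ q ∈ S, G q ∈ Q := by
      intro S
      induction S using Finset.strongInduction with
      | _ S ih =>
        intro hS
        rcases S.eq_empty_or_nonempty with rfl | ⟨q, hq⟩
        · simp
        by_cases hqq : τ q = q
        · rw [← Finset.add_sum_erase S G hq]
          refine add_mem (hfix q hqq) (ih _ (Finset.erase_ssubset hq) fun r hr => ?_)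
          obtain ⟨h1, h2⟩ := Finset.mem_erase.mp hr
          exact Finset.mem_erase.mpr ⟨fun h => h1 (by rw [← hττ r, h, hqq]), hS r h2⟩
        · have hq2 : τ q ∈ S.erase q := Finset.mem_erase.mpr ⟨hqq, hS q hq⟩
          rw [← Finset.add_sum_erase S G hq, ← Finset.add_sum_erase _ G hq2, ← add_assoc]
          refine add_mem (hpair q) (ih _ ((Finset.erase_ssubset hq2).trans (Finset.erase_ssubset hq)) fun r hr => ?_)
          obtain ⟨h1, h2⟩ := Finset.mem_erase.mp hr
          obtain ⟨h3, h4⟩ := Finset.mem_erase.mp h2
          exact Finset.mem_erase.mpr ⟨fun h => h3 (τ.injective h),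
            Finset.mem_erase.mpr ⟨fun h => h1 (by rw [← hττ r, h]), hS r h4⟩⟩
    exact hmain _ fun q hq => by
      rw [Finsupp.mem_support_iff] at hq ⊢
      rwa [hrepr]
  induction hx using Submodule.span_induction with
  | zero => rw [map_zero]; exact zero_mem _
  | add x y _ _ hx hy => rw [map_add]; exact add_mem hx hy
  | smul c x _ hx => rw [map_smul]; exact Submodule.smul_mem _ c hx
  | mem x hx =>
    obtain ⟨q, i, j, hij, heq, rfl⟩ := hx
    refine key i j hij _ ?_
    have hequiv : ∀ (b : ⨂[R] _ : Fin d, A) (u : ⨂[R] _ : Fin d, P),
        PiTensorProduct.reindex R (fun _ : Fin d => P) (Equiv.swap i j) (SymTen.tpowAct R A P d b u) =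
          SymTen.tpowAct R A P d (PiTensorProduct.reindex R (fun _ : Fin d => A) (Equiv.swap i j) b)
            (PiTensorProduct.reindex R (fun _ : Fin d => P) (Equiv.swap i j) u) := by
      intro b u
      induction b using PiTensorProduct.induction_on with
      | add b b' hb hb' => simp only [map_add, LinearMap.add_apply, hb, hb']
      | smul_tprod c g =>
          induction u using PiTensorProduct.induction_on with
          | add u u' hu hu' => simp only [map_add, hu, hu']
          | smul_tprod c' g' => simp [SymTen.tpowAct]
    rw [hequiv, ha (Equiv.swap i j), PiTensorProduct.reindex_tprod]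
    congr 2
    funext l
    rw [Equiv.symm_swap]
    by_cases hli : l = i
    · subst hli; rw [Equiv.swap_apply_left, heq]
    · by_cases hlj : l = j
      · subst hlj; rw [Equiv.swap_apply_right, heq]
      · rw [Equiv.swap_apply_of_ne_of_ne hli hlj]

end Groth.Agent.S17910
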