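import Groth.Statements.S17917
import Groth.Agent.RefChLib.Setup

set_option autoImplicit false
universe u
open CategoryTheory CategoryTheory.Limits AlgebraicGeometry
open RefCh

namespace Groth.Agent.S17917

/-- Let k be an algebraically closed field, X an integral normal scheme of dimension s + 2 admitting a
closed immersion into some P^N_k over k, and L_1, …, L_s invertible O_X-modules with inverses M_1,
…, M_s. Let ℒ_1 be a coherent reflexive O_X-module of rank one (ℒ_1 = O_X(D_1) for a Weil divisor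
D_1, with dual ℒ_1^∨ = O_X(-D_1)) and ℒ_2 an invertible O_X-module (a Cartier divisor D_2) with
inverse 𝓜_2. With q(ℱ) the limit of 2 χ(c_1(L_1) ⋯ c_1(L_s) · [ℱ^[m]]) / m^2 (reflexive powers,
FGA.intNum in the M_i), assumed to exist for ℒ_1, ℒ_2 and the reflexive hull ℒ_1 ⊗̂ ℒ_2 of ℒ_1 ⊗
ℒ_2, one has (q(ℒ_1 ⊗̂ ℒ_2) - q(ℒ_1) - q(ℒ_2)) / 2 = χ(c_1(ℒ_2) c_1(L_1) ⋯ c_1(L_s) · ([O_X] -
[ℒ_1^∨])), the right side written as the difference of the alternating sums FGA.intNum in (𝓜_2, M_1,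
…, M_s) of O_X and of ℒ_1^∨; that is, D_1 · D_2 · L_1 ⋯ L_s equals the usual intersection number of
the Cartier divisor D_2 and the L_i with the cycle of D_1. (The published text normalises D^2 · L_1
⋯ L_s as twice the limit of χ(c_1(L_1) ⋯ c_1(L_s) · ([O_X] - [O_X(-mD)])) / m^2, the negative of the
number used here, and with that sign the identity fails for two lines on the projective plane, where
it would read -1 = 1.) -/
theorem result (k : Type u) [Field k] [IsAlgClosed k] (X : Scheme.{u}) [X.Over (Spec (CommRingCat.of k))]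
    [AlgebraicGeometry.IsIntegral X] (hnorm : Pi1.IsNormalScheme X) (s : ℕ) (hdim : topologicalKrullDim X = (s + 2 : ℕ))
    (hproj : ∃ (N : ℕ) (ι : X ⟶ CohB1.ProjSpace N k), IsClosedImmersion ι ∧ ι ≫ CohB1.ProjSpace.toSpec N k = X ↘ Spec (CommRingCat.of k))
    (L M : Fin s → X.Modules) (hL : ∀ i, PicF.IsInvertible (L i))
    (hLM : ∀ i, Nonempty (CohB1.tensorMod (L i) (M i) ≅ Coh.structureModule X))
    (ℒ₁ ℒ₂ 𝓜₂ : X.Modules) (h₁ : RefHull.IsRef1 ℒ₁) (h₂ : PicF.IsInvertible ℒ₂)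
    (h₂' : Nonempty (CohB1.tensorMod ℒ₂ 𝓜₂ ≅ Coh.structureModule X))
    (q₁ q₂ q₁₂ : ℝ)
    (hq₁ : Filter.Tendsto (fun m : ℕ => (2 : ℝ) * (FGA.intNum k X (s + 2) M (RefPow.refPow ℒ₁ m) : ℝ) / ((m : ℝ) ^ 2)) Filter.atTop (nhds q₁))
    (hq₂ : Filter.Tendsto (fun m : ℕ => (2 : ℝ) * (FGA.intNum k X (s + 2) M (RefPow.refPow ℒ₂ m) : ℝ) / ((m : ℝ) ^ 2)) Filter.atTop (nhds q₂))
    (hq₁₂ : Filter.Tendsto (fun m : ℕ => (2 : ℝ) * (FGA.intNum k X (s + 2) M (RefPow.refPow (RefPow.refTensor ℒ₁ ℒ₂) m) : ℝ) / ((m : ℝ) ^ 2)) Filter.atTop (nhds q₁₂)) :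
    (q₁₂ - q₁ - q₂) / 2 =
      ((FGA.intNum k X (s + 2) (Fin.cons 𝓜₂ M) (Coh.structureModule X) -
        FGA.intNum k X (s + 2) (Fin.cons 𝓜₂ M) (RefHull.dual ℒ₁) : ℤ) : ℝ) := by
  obtain ⟨hp, H, hH⟩ := Groth.Agent.RefChLib.proper_and_ample hproj
  haveI := hp
  haveI : IsNoetherian X := Groth.Agent.EulerIneqLib.isNoetherian_proper (X := X) k
  have hM : ∀ i, PicF.IsInvertible (M i) := fun i => by
    obtain ⟨e⟩ := hLM i
    exact Groth.Agent.AmpleLib.isInvertible_of_tensor_iso (Groth.Agent.AmpleLib.comm _ _ ≪≫ e)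
  obtain ⟨e₂⟩ := h₂'
  have hM₂ : PicF.IsInvertible 𝓜₂ := Groth.Agent.AmpleLib.isInvertible_of_tensor_iso (Groth.Agent.AmpleLib.comm _ _ ≪≫ e₂)
  have hn : topologicalKrullDim X = ((s + 1 + 1 : ℕ) : WithBot ℕ∞) := hdim
  obtain ⟨z, hz⟩ : ∃ z, z = ∏ i, Groth.Agent.IntLib.dif (hM i) := ⟨_, rfl⟩
  have hzm : z ∈ Groth.Agent.Nakai.Aug X ^ s := hz ▸ Groth.Agent.RefChLib.prod_dif_mem M hM
  have hO := Groth.Agent.DevLib.isCoh_structureModule X
  have hI : ∀ F : X.Modules, FGA.intNum k X (s + 2) M F = Groth.Agent.IntLib.pairing k F z := fun F =>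
    hz ▸ Groth.Agent.IntLib.intNum_eq k hdim.le F M hM
  obtain ⟨c, hc⟩ : ∃ c : ℤ, c = Groth.Agent.IntLib.pairing k ℒ₁ (Groth.Agent.Nakai.cl h₂ * z) -
    Groth.Agent.IntLib.pairing k (Coh.structureModule X) (Groth.Agent.Nakai.cl h₂ * z) := ⟨_, rfl⟩
  obtain ⟨b, hb⟩ : ∃ b : ℤ, b = Groth.Agent.IntLib.pairing k (Coh.structureModule X) (Groth.Agent.Nakai.cl h₂ * z) :=
    ⟨_, rfl⟩
  obtain ⟨a, ha⟩ : ∃ a : ℤ, a = Groth.Agent.IntLib.pairing k (Coh.structureModule X)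
    (Groth.Agent.Nakai.cl h₂ ^ 2 * z) := ⟨_, rfl⟩
  have htop : ∀ F : X.Modules, RefHull.IsRef1 F → ∀ w ∈ Groth.Agent.Nakai.Aug X ^ (s + 2),
      Groth.Agent.IntLib.pairing k F w = Groth.Agent.IntLib.pairing k (Coh.structureModule X) w := fun F hF w hw =>
    Groth.Agent.RefChLib.pairing_top_of_rank_one k hH hdim hF.1 hF.2.2 hw
  have hlin : ∀ F : X.Modules, Groth.Agent.IntLib.pairing k F (Groth.Agent.Nakai.cl h₂ * z) =
      - Groth.Agent.IntLib.pairing k F (∏ i : Fin (s + 1), Groth.Agent.IntLib.dif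
        (show PicF.IsInvertible (Fin.cons (α := fun _ => X.Modules) ℒ₂ M i) from
          Fin.cases (motive := fun j => PicF.IsInvertible (Fin.cons (α := fun _ => X.Modules) ℒ₂ M j)) h₂ hM i)) :=
    fun F => hz ▸ Groth.Agent.RefChLib.pairing_cl_mul k M hM h₂ F
  have hpow : ∀ m : ℕ, Groth.Agent.IntLib.pairing k (RefPow.refPow ℒ₁ m) (Groth.Agent.Nakai.cl h₂ * z) =
      b + (m : ℤ) * c := fun m => by
    rw [hlin, Groth.Agent.RefChLib.pairing_refPow k hnorm hH hn _ _ h₁ m, hb, hc, hlin, hlin]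
    ring
  have hmem2 : Groth.Agent.Nakai.cl h₂ ^ 2 * z ∈ Groth.Agent.Nakai.Aug X ^ (s + 2) := by
    rw [show s + 2 = 2 + s by omega, pow_add]
    exact Ideal.mul_mem_mul (Ideal.pow_mem_pow (Groth.Agent.Nakai.cl_mem _) 2) hzm
  have h12 : ∀ m : ℕ, FGA.intNum k X (s + 2) M (RefPow.refPow (RefPow.refTensor ℒ₁ ℒ₂) m) =
      FGA.intNum k X (s + 2) M (RefPow.refPow ℒ₁ m) + (m : ℤ) * (b + (m : ℤ) * c) + (m.choose 2 : ℤ) * a := fun m => by
    obtain ⟨i⟩ := Groth.Agent.RefChLib.refPow_refTensor_iso hnorm h₁ h₂ m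
    have hR := Groth.Agent.RefOne.isRef1_refPow h₁ m
    rw [hI, hI, Groth.Agent.IntLib.pairing_iso k i, Groth.Agent.RefChLib.pairing_twist k hdim hR.1 h₂ hzm m,
      hpow, htop _ hR _ hmem2, ha]
  have h22 : ∀ m : ℕ, FGA.intNum k X (s + 2) M (RefPow.refPow ℒ₂ m) =
      FGA.intNum k X (s + 2) M (Coh.structureModule X) + (m : ℤ) * b + (m.choose 2 : ℤ) * a := fun m => by
    obtain ⟨i⟩ := Groth.Agent.RefChLib.refPow_invertible_iso hnorm h₂ m
    rw [hI, hI, Groth.Agent.IntLib.pairing_iso k (i ≪≫ (Groth.Agent.AmpleLib.unitL _).symm),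
      Groth.Agent.RefChLib.pairing_twist k hdim hO h₂ hzm m, hb, ha]
  have hinv : Filter.Tendsto (fun m : ℕ => (1 : ℝ) / (m : ℝ)) Filter.atTop (nhds 0) :=
    tendsto_one_div_atTop_nhds_zero_nat
  have hq₂' : q₂ = (a : ℝ) := by
    refine tendsto_nhds_unique hq₂ ?_
    have h : Filter.Tendsto (fun m : ℕ => (a : ℝ) + (2 * (b : ℝ) - (a : ℝ)) * (1 / (m : ℝ)) +
        2 * (FGA.intNum k X (s + 2) M (Coh.structureModule X) : ℝ) * ((1 / (m : ℝ)) * (1 / (m : ℝ)))) Filter.atTop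
        (nhds (a : ℝ)) := by
      simpa using (tendsto_const_nhds.add (hinv.const_mul (2 * (b : ℝ) - (a : ℝ)))).add
        ((hinv.mul hinv).const_mul (2 * (FGA.intNum k X (s + 2) M (Coh.structureModule X) : ℝ)))
    refine h.congr' (Filter.eventually_atTop.2 ⟨1, fun m hm => ?_⟩)
    have hm0 : (m : ℝ) ≠ 0 := by exact_mod_cast (by omega : m ≠ 0)
    show _ = (2 : ℝ) * ((FGA.intNum k X (s + 2) M (RefPow.refPow ℒ₂ m) : ℤ) : ℝ) / (m : ℝ) ^ 2
    rw [h22 m]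
    push_cast [Nat.cast_choose_two]
    field_simp
    ring
  have hq₁₂' : q₁₂ = q₁ + (2 * (c : ℝ) + (a : ℝ)) := by
    refine tendsto_nhds_unique hq₁₂ ?_
    have h : Filter.Tendsto (fun m : ℕ =>
        (2 : ℝ) * (FGA.intNum k X (s + 2) M (RefPow.refPow ℒ₁ m) : ℝ) / ((m : ℝ) ^ 2) +
          ((2 * (c : ℝ) + (a : ℝ)) + (2 * (b : ℝ) - (a : ℝ)) * (1 / (m : ℝ)))) Filter.atTop
        (nhds (q₁ + (2 * (c : ℝ) + (a : ℝ)))) := by
      simpa using hq₁.add (tendsto_const_nhds.add (hinv.const_mul (2 * (b : ℝ) - (a : ℝ))))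
    refine h.congr' (Filter.eventually_atTop.2 ⟨1, fun m hm => ?_⟩)
    have hm0 : (m : ℝ) ≠ 0 := by exact_mod_cast (by omega : m ≠ 0)
    show _ = (2 : ℝ) * ((FGA.intNum k X (s + 2) M (RefPow.refPow (RefPow.refTensor ℒ₁ ℒ₂) m) : ℤ) : ℝ) / (m : ℝ) ^ 2
    rw [h12 m]
    push_cast [Nat.cast_choose_two]
    field_simp
    ring
  have hD : RefHull.IsRef1 (RefHull.dual ℒ₁) := (Groth.Agent.RefChLib.refTensor_dual_iso hnorm h₁).1
  have hall : ∀ j : Fin (s + 1), PicF.IsInvertible (Fin.cons (α := fun _ => X.Modules) 𝓜₂ M j) :=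
    Fin.cases (motive := fun j => PicF.IsInvertible (Fin.cons (α := fun _ => X.Modules) 𝓜₂ M j)) hM₂ hM
  have hmemd : Groth.Agent.IntLib.dif hM₂ * z - Groth.Agent.Nakai.cl h₂ * z ∈ Groth.Agent.Nakai.Aug X ^ (s + 2) := by
    rw [show s + 2 = 2 + s by omega, pow_add, ← sub_mul]
    refine Ideal.mul_mem_mul ?_ hzm
    rw [← neg_sub]
    exact Ideal.neg_mem_iff _ |>.2 (Groth.Agent.Nakai.cl_mul_inverse_mem h₂ hM₂ e₂)
  have hcons : ∀ F : X.Modules, FGA.intNum k X (s + 2) (Fin.cons 𝓜₂ M) F =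
      Groth.Agent.IntLib.pairing k F (Groth.Agent.IntLib.dif hM₂ * z) := fun F => by
    rw [Groth.Agent.IntLib.intNum_eq k hdim.le F (Fin.cons 𝓜₂ M) hall, Fin.prod_univ_succ, hz]
    rfl
  have hrhs : FGA.intNum k X (s + 2) (Fin.cons 𝓜₂ M) (Coh.structureModule X) -
      FGA.intNum k X (s + 2) (Fin.cons 𝓜₂ M) (RefHull.dual ℒ₁) = c := by
    have h1 : ∀ F : X.Modules, Groth.Agent.IntLib.pairing k F (Groth.Agent.IntLib.dif hM₂ * z) =
        Groth.Agent.IntLib.pairing k F (Groth.Agent.Nakai.cl h₂ * z) + Groth.Agent.IntLib.pairing k F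
          (Groth.Agent.IntLib.dif hM₂ * z - Groth.Agent.Nakai.cl h₂ * z) := fun F => by
      rw [← map_add, add_sub_cancel]
    have h2 := Groth.Agent.RefChLib.pairing_dual k hnorm hH hn _
      (Fin.cases (motive := fun j => PicF.IsInvertible (Fin.cons (α := fun _ => X.Modules) ℒ₂ M j)) h₂ hM) h₁
    rw [hcons, hcons, h1, h1, htop _ hD _ hmemd, hc, hlin, hlin, hlin]
    linarith
  rw [hrhs, hq₁₂', hq₂']
  ring

end Groth.Agent.S17917
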