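import Groth.Statements.S17918
import Groth.Agent.RefChLib.Setup

set_option autoImplicit false
universe u
open CategoryTheory CategoryTheory.Limits AlgebraicGeometry
open RefCh

namespace Groth.Agent.S17918

/-- Let k be an algebraically closed field, X an integral normal scheme of dimension s + 3 admitting a
closed immersion into some P^N_k over k, L_1, …, L_s, A and B invertible O_X-modules with inverses
M_1, …, M_s, A' and B' (so that A' ⊗ B' is an inverse of A ⊗ B), and ℒ a coherent reflexive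
O_X-module of rank one (ℒ = O_X(D)). Suppose 2 χ(c_1(A) c_1(L_1) ⋯ c_1(L_s) · [ℒ^[m]]) / m^2 → a, 2
χ(c_1(B) c_1(L_1) ⋯ c_1(L_s) · [ℒ^[m]]) / m^2 → b and 2 χ(c_1(A ⊗ B) c_1(L_1) ⋯ c_1(L_s) · [ℒ^[m]])
/ m^2 → c as m → ∞, the Euler characteristics being the alternating sums FGA.intNum in (A', M_1, …,
M_s), (B', M_1, …, M_s) and (A' ⊗ B', M_1, …, M_s) of the reflexive powers ℒ^[m]. Then c = a + b:
the self-intersection number D^2 · L_0 · L_1 ⋯ L_s is additive in the invertible module L_0. -/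
theorem result (k : Type u) [Field k] [IsAlgClosed k] (X : Scheme.{u}) [X.Over (Spec (CommRingCat.of k))]
    [AlgebraicGeometry.IsIntegral X] (hnorm : Pi1.IsNormalScheme X) (s : ℕ) (hdim : topologicalKrullDim X = (s + 3 : ℕ))
    (hproj : ∃ (N : ℕ) (ι : X ⟶ CohB1.ProjSpace N k), IsClosedImmersion ι ∧ ι ≫ CohB1.ProjSpace.toSpec N k = X ↘ Spec (CommRingCat.of k))
    (L M : Fin s → X.Modules) (hL : ∀ i, PicF.IsInvertible (L i))
    (hLM : ∀ i, Nonempty (CohB1.tensorMod (L i) (M i) ≅ Coh.structureModule X))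
    (A A' B B' : X.Modules) (hA : PicF.IsInvertible A) (hB : PicF.IsInvertible B)
    (hAA' : Nonempty (CohB1.tensorMod A A' ≅ Coh.structureModule X))
    (hBB' : Nonempty (CohB1.tensorMod B B' ≅ Coh.structureModule X))
    (ℒ : X.Modules) (hℒ : RefHull.IsRef1 ℒ) (a b c : ℝ)
    (ha : Filter.Tendsto (fun m : ℕ => (2 : ℝ) * (FGA.intNum k X (s + 3) (Fin.cons A' M) (RefPow.refPow ℒ m) : ℝ) / ((m : ℝ) ^ 2)) Filter.atTop (nhds a))
    (hb : Filter.Tendsto (fun m : ℕ => (2 : ℝ) * (FGA.intNum k X (s + 3) (Fin.cons B' M) (RefPow.refPow ℒ m) : ℝ) / ((m : ℝ) ^ 2)) Filter.atTop (nhds b))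
    (hc : Filter.Tendsto (fun m : ℕ => (2 : ℝ) * (FGA.intNum k X (s + 3) (Fin.cons (CohB1.tensorMod A' B') M) (RefPow.refPow ℒ m) : ℝ) / ((m : ℝ) ^ 2)) Filter.atTop (nhds c)) :
    c = a + b := by
  obtain ⟨hp, H, hH⟩ := Groth.Agent.RefChLib.proper_and_ample hproj
  haveI := hp
  haveI : IsNoetherian X := Groth.Agent.EulerIneqLib.isNoetherian_proper (X := X) k
  have hM : ∀ i, PicF.IsInvertible (M i) := fun i => by
    obtain ⟨e⟩ := hLM i
    exact Groth.Agent.AmpleLib.isInvertible_of_tensor_iso (Groth.Agent.AmpleLib.comm _ _ ≪≫ e)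
  obtain ⟨eA⟩ := hAA'
  obtain ⟨eB⟩ := hBB'
  have hA' : PicF.IsInvertible A' := Groth.Agent.AmpleLib.isInvertible_of_tensor_iso (Groth.Agent.AmpleLib.comm _ _ ≪≫ eA)
  have hB' : PicF.IsInvertible B' := Groth.Agent.AmpleLib.isInvertible_of_tensor_iso (Groth.Agent.AmpleLib.comm _ _ ≪≫ eB)
  have hAB : PicF.IsInvertible (CohB1.tensorMod A' B') := Groth.Agent.AmpleLib.isInvertible_tensor hA' hB'
  have hn : topologicalKrullDim X = ((s + 2 + 1 : ℕ) : WithBot ℕ∞) := hdim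
  obtain ⟨z, hz⟩ : ∃ z, z = ∏ i, Groth.Agent.IntLib.dif (hM i) := ⟨_, rfl⟩
  have hI : ∀ (N : X.Modules) (hN : PicF.IsInvertible N) (F : X.Modules), FGA.intNum k X (s + 3) (Fin.cons N M) F =
      Groth.Agent.IntLib.pairing k F (Groth.Agent.IntLib.dif hN * z) := fun N hN F => by
    rw [Groth.Agent.IntLib.intNum_eq k hdim.le F (Fin.cons N M)
      (Fin.cases (motive := fun j => PicF.IsInvertible (Fin.cons (α := fun _ => X.Modules) N M j)) hN hM),
      Fin.prod_univ_succ, hz]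
    rfl
  have h1 : ∀ j, PicF.IsInvertible (Fin.cons (α := fun _ => X.Modules) B' M j) :=
    Fin.cases (motive := fun j => PicF.IsInvertible (Fin.cons (α := fun _ => X.Modules) B' M j)) hB' hM
  have h2 : ∀ j, PicF.IsInvertible (Fin.cons (α := fun _ => X.Modules) A' (Fin.cons (α := fun _ => X.Modules) B' M) j) :=
    Fin.cases (motive := fun j => PicF.IsInvertible (Fin.cons (α := fun _ => X.Modules) A' (Fin.cons (α := fun _ => X.Modules) B' M) j))
      hA' h1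
  have hw : Groth.Agent.IntLib.dif hA' * (Groth.Agent.IntLib.dif hB' * z) =
      ∏ i : Fin (s + 2), Groth.Agent.IntLib.dif (h2 i) := by
    rw [Fin.prod_univ_succ, Fin.prod_univ_succ, hz]
    rfl
  have hdif : Groth.Agent.IntLib.dif hAB = Groth.Agent.IntLib.dif hA' + Groth.Agent.IntLib.dif hB' -
      Groth.Agent.IntLib.dif hA' * Groth.Agent.IntLib.dif hB' := by
    have h := Groth.Agent.Nakai.cl_tensor hA' hB'
    rw [Groth.Agent.Nakai.cl_eq_neg_dif, Groth.Agent.Nakai.cl_eq_neg_dif, Groth.Agent.Nakai.cl_eq_neg_dif] at h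
    linear_combination -h
  obtain ⟨u, hu⟩ : ∃ u : ℤ, u = Groth.Agent.IntLib.pairing k (Coh.structureModule X)
    (∏ i : Fin (s + 2), Groth.Agent.IntLib.dif (h2 i)) := ⟨_, rfl⟩
  obtain ⟨v, hv⟩ : ∃ v : ℤ, v = Groth.Agent.IntLib.pairing k ℒ (∏ i : Fin (s + 2), Groth.Agent.IntLib.dif (h2 i)) - u :=
    ⟨_, rfl⟩
  have key : ∀ m : ℕ, FGA.intNum k X (s + 3) (Fin.cons (CohB1.tensorMod A' B') M) (RefPow.refPow ℒ m) =
      FGA.intNum k X (s + 3) (Fin.cons A' M) (RefPow.refPow ℒ m) +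
        FGA.intNum k X (s + 3) (Fin.cons B' M) (RefPow.refPow ℒ m) - (u + (m : ℤ) * v) := fun m => by
    rw [hI _ hAB, hI _ hA', hI _ hB', hdif, sub_mul, add_mul, map_sub, map_add, mul_assoc, hw,
      Groth.Agent.RefChLib.pairing_refPow k hnorm hH hn _ h2 hℒ m, hv, hu]
  have hinv : Filter.Tendsto (fun m : ℕ => (1 : ℝ) / (m : ℝ)) Filter.atTop (nhds 0) :=
    tendsto_one_div_atTop_nhds_zero_nat
  refine tendsto_nhds_unique hc ?_
  have h : Filter.Tendsto (fun m : ℕ =>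
      (2 : ℝ) * (FGA.intNum k X (s + 3) (Fin.cons A' M) (RefPow.refPow ℒ m) : ℝ) / ((m : ℝ) ^ 2) +
        (2 : ℝ) * (FGA.intNum k X (s + 3) (Fin.cons B' M) (RefPow.refPow ℒ m) : ℝ) / ((m : ℝ) ^ 2) -
          (2 * (u : ℝ) * ((1 / (m : ℝ)) * (1 / (m : ℝ))) + 2 * (v : ℝ) * (1 / (m : ℝ)))) Filter.atTop (nhds (a + b)) := by
    simpa using (ha.add hb).sub (((hinv.mul hinv).const_mul (2 * (u : ℝ))).add (hinv.const_mul (2 * (v : ℝ))))
  refine h.congr' (Filter.eventually_atTop.2 ⟨1, fun m hm => ?_⟩)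
  have hm0 : (m : ℝ) ≠ 0 := by exact_mod_cast (by omega : m ≠ 0)
  show _ = (2 : ℝ) * ((FGA.intNum k X (s + 3) (Fin.cons (CohB1.tensorMod A' B') M) (RefPow.refPow ℒ m) : ℤ) : ℝ) / (m : ℝ) ^ 2
  rw [key m]
  push_cast
  field_simp

end Groth.Agent.S17918
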