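import Groth.Statements.S17925
import Groth.Agent.DivClassKLib.Rank

set_option autoImplicit false
universe u
open CategoryTheory CategoryTheory.Limits AlgebraicGeometry
open RefCh

set_option backward.isDefEq.respectTransparency false
set_option backward.isDefEq.respectTransparency.types false
set_option linter.style.haveILetI false

namespace Groth.Agent.S17925

/-- Let k be an algebraically closed field, X an integral normal scheme of dimension n = s + 2 admitting
a closed immersion into some P^N_k over k, δ a dimension function on X (Cyc.IsSetup) with δ(generic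
point) = n, and F a torsion-free coherent O_X-module whose stalk at the generic point has dimension
r, with W = Λ^r F and W^** coherent (as it is), so that det F = W^** = O_X(c_1(F)) and [O_{-c_1(F)}]
= [O_X] - [W^**]. With K_m(X) ⊆ K_0(Coh(X)) the subgroup generated by coherent modules with support
of dimension at most m, the class α(F) = [F] - r [O_X] + ([O_X] - [W^**]) lies in K_{n-2}(X): it
vanishes in K_0(Coh(X)) / K_{n-2}(X) (Cyc.toK0CohQuot δ n (n - 2)). -/
theorem result (k : Type u) [Field k] [IsAlgClosed k] (X : Scheme.{u}) [X.Over (Spec (CommRingCat.of k))]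
    [AlgebraicGeometry.IsIntegral X] (hnorm : Pi1.IsNormalScheme X) (s : ℕ) (hdim : topologicalKrullDim X = (s + 2 : ℕ))
    (hproj : ∃ (N : ℕ) (ι : X ⟶ CohB1.ProjSpace N k), IsClosedImmersion ι ∧ ι ≫ CohB1.ProjSpace.toSpec N k = X ↘ Spec (CommRingCat.of k))
    (δ : X → ℤ) (hδ : Cyc.IsSetup X δ) (hδη : δ (genericPoint X) = (s + 2 : ℕ))
    (r : ℕ) (F : X.Modules) (hF : Coh.IsCoh F) (hFtf : TorSh.IsTorsionFree F)
    (hrk : Module.finrank (X.presheaf.stalk (genericPoint X)) (F.presheaf.stalk (genericPoint X)) = r) (W : X.Modules) (hW : ExtPow.IsExtPow r F W)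
    (hWc : Coh.IsCoh (RefHull.ddual W)) :
    Cyc.toK0CohQuot δ (s + 2 : ℕ) (s : ℕ) F - (r : ℤ) • Cyc.toK0CohQuot δ (s + 2 : ℕ) (s : ℕ) (Coh.structureModule X) +
      (Cyc.toK0CohQuot δ (s + 2 : ℕ) (s : ℕ) (Coh.structureModule X) -
        Cyc.toK0CohQuot δ (s + 2 : ℕ) (s : ℕ) (RefHull.ddual W)) = 0 := by
  haveI : IsNoetherian X := by
    obtain ⟨N, ι, hι, hc⟩ := hproj
    haveI : IsProper (CohB1.ProjSpace.toSpec N k) := inferInstance
    haveI : IsProper (X ↘ Spec (CommRingCat.of k)) := hc ▸ inferInstance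
    haveI := LocallyOfFiniteType.isLocallyNoetherian (X ↘ Spec (CommRingCat.of k))
    haveI := QuasiCompact.compactSpace_of_compactSpace (X ↘ Spec (CommRingCat.of k))
    exact {}
  obtain ⟨rk, hrk', hmem⟩ := Groth.Agent.DivClassKLib.exists_rank hnorm
  obtain ⟨Ψ, hΨ, hker⟩ := Groth.Agent.DivClassKLib.exists_toQuot hδ.2.2 (b := ((s : ℕ) : ℤ)) hδη
  obtain ⟨hdet, hone⟩ := Groth.Agent.DivClassKLib.c1K_det hnorm hF hFtf hrk hW hWc
  have hO := Groth.Agent.DevLib.isCoh_structureModule X
  let cO := Groth.Agent.K0LocLib.cl (Coh.structureModule X)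
  let z := Groth.Agent.K0LocLib.cl F - (r : ℤ) • cO + (cO - Groth.Agent.K0LocLib.cl (RefHull.ddual W))
  have hO1 : Module.finrank X.functionField (Groth.Agent.DivClassKLib.Gen (Coh.structureModule X)) = 1 :=
    (Groth.Agent.RefOne.oEquiv (genericPoint X)).symm.finrank_eq.trans (Module.finrank_self X.functionField)
  have hz : z ∈ Groth.Agent.DivClassKLib.H2 X := hmem z (by
      simp only [z, cO, map_add, map_sub, map_zsmul, hrk' _ hF, hrk' _ hO, hrk' _ hWc, hone, hO1,
        show Module.finrank X.functionField (Groth.Agent.DivClassKLib.Gen F) = r from hrk]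
      simp) (by
      simp only [z, cO, map_add, map_sub, map_zsmul, hdet, Groth.Agent.DivClassKLib.c1K_structureModule]
      simp)
  have h := AddMonoidHom.mem_ker.1 (hker (by push_cast; ring) hz)
  simpa only [z, cO, map_add, map_sub, map_zsmul, hΨ _ hF, hΨ _ hO, hΨ _ hWc] using h

end Groth.Agent.S17925
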