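import Groth.Statements.S17929
import Groth.Agent.RefChLib.KRel
import Groth.Agent.NakaiLib.Ring

set_option autoImplicit false
universe u
open CategoryTheory CategoryTheory.Limits AlgebraicGeometry
open RefCh

namespace Groth.Agent.S17929

/-- Let k be an algebraically closed field, X an integral normal scheme of dimension n = s + 2 admitting
a closed immersion into some P^N_k over k, δ a dimension function on X (Cyc.IsSetup) with δ(generic
point) = n, L_1, …, L_s, A and B invertible O_X-modules with inverses M_1, …, M_s, A' and B' (so A'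
⊗ B' is an inverse of A ⊗ B), and ℒ a coherent reflexive O_X-module of rank one (ℒ = O_X(-D)). For a
family (N_0, …, N_s) of modules put S_N(ℒ) = Σ_{I ⊆ {0, …, s}} (-1)^{|I|} ([N_I ⊗ O_X] - [N_I ⊗ ℒ])
in K(X) = K_0(Coh(X)) (classes KZero.clSub of coherent modules), N_I = ⊗_{i∈I} N_i, so that S_{(A',
M_1, …, M_s)}(O_X(-D)) = c_1(A) c_1(L_1) ⋯ c_1(L_s) · [O_D]. Then S_{(A' ⊗ B', M)}(ℒ) = S_{(A',
M)}(ℒ) + S_{(B', M)}(ℒ): the K(X)-valued symbol c_1(L_0) c_1(L_1) ⋯ c_1(L_s) · [O_D] is additive,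
hence ℤ-linear, in the invertible module L_0. -/
theorem result (k : Type u) [Field k] [IsAlgClosed k] (X : Scheme.{u}) [X.Over (Spec (CommRingCat.of k))]
    [AlgebraicGeometry.IsIntegral X] (hnorm : Pi1.IsNormalScheme X) (s : ℕ) (hdim : topologicalKrullDim X = (s + 2 : ℕ))
    (hproj : ∃ (N : ℕ) (ι : X ⟶ CohB1.ProjSpace N k), IsClosedImmersion ι ∧ ι ≫ CohB1.ProjSpace.toSpec N k = X ↘ Spec (CommRingCat.of k))
    (δ : X → ℤ) (hδ : Cyc.IsSetup X δ) (hδη : δ (genericPoint X) = (s + 2 : ℕ))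
    (L M : Fin s → X.Modules) (hL : ∀ i, PicF.IsInvertible (L i))
    (hLM : ∀ i, Nonempty (CohB1.tensorMod (L i) (M i) ≅ Coh.structureModule X))
    (A A' B B' : X.Modules) (hA : PicF.IsInvertible A) (hB : PicF.IsInvertible B)
    (hAA' : Nonempty (CohB1.tensorMod A A' ≅ Coh.structureModule X))
    (hBB' : Nonempty (CohB1.tensorMod B B' ≅ Coh.structureModule X))
    (ℒ : X.Modules) (hℒ : RefHull.IsRef1 ℒ) :
    (∑ I : Finset (Fin (s + 1)), ((-1 : ℤ) ^ I.card) •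
        (KZero.clSub (Cyc.CohLe δ (s + 2 : ℕ)) (CohB1.tensorMod (FGA.tensorList ((I.sort (· ≤ ·)).map (Fin.cons (CohB1.tensorMod A' B') M))) (Coh.structureModule X)) -
          KZero.clSub (Cyc.CohLe δ (s + 2 : ℕ)) (CohB1.tensorMod (FGA.tensorList ((I.sort (· ≤ ·)).map (Fin.cons (CohB1.tensorMod A' B') M))) ℒ))) =
      (∑ I : Finset (Fin (s + 1)), ((-1 : ℤ) ^ I.card) •
        (KZero.clSub (Cyc.CohLe δ (s + 2 : ℕ)) (CohB1.tensorMod (FGA.tensorList ((I.sort (· ≤ ·)).map (Fin.cons A' M))) (Coh.structureModule X)) -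
          KZero.clSub (Cyc.CohLe δ (s + 2 : ℕ)) (CohB1.tensorMod (FGA.tensorList ((I.sort (· ≤ ·)).map (Fin.cons A' M))) ℒ))) +
      (∑ I : Finset (Fin (s + 1)), ((-1 : ℤ) ^ I.card) •
        (KZero.clSub (Cyc.CohLe δ (s + 2 : ℕ)) (CohB1.tensorMod (FGA.tensorList ((I.sort (· ≤ ·)).map (Fin.cons B' M))) (Coh.structureModule X)) -
          KZero.clSub (Cyc.CohLe δ (s + 2 : ℕ)) (CohB1.tensorMod (FGA.tensorList ((I.sort (· ≤ ·)).map (Fin.cons B' M))) ℒ))) := by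
  classical
  obtain ⟨hproper, H, hH⟩ := RefChLib.proper_and_ample hproj
  haveI := hproper
  haveI := EulerIneqLib.isNoetherian_proper (X := X) k
  have hM : ∀ i, PicF.IsInvertible (M i) := fun i =>
    AmpleLib.isInvertible_of_tensor_iso (AmpleLib.comm _ _ ≪≫ (hLM i).some)
  have hA' : PicF.IsInvertible A' := AmpleLib.isInvertible_of_tensor_iso (AmpleLib.comm _ _ ≪≫ hAA'.some)
  have hB' : PicF.IsInvertible B' := AmpleLib.isInvertible_of_tensor_iso (AmpleLib.comm _ _ ≪≫ hBB'.some)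
  have hAB : PicF.IsInvertible (CohB1.tensorMod A' B') := AmpleLib.isInvertible_tensor hA' hB'
  have hle := RefChLib.dimFun_le hδ.2.2 hδη
  have hlt := RefChLib.dimFun_lt hδ.2.2
  obtain ⟨c, hc⟩ : ∃ c, c = RefChLib.kcl δ ((s + 2 : ℕ) : ℤ) (Coh.structureModule X) -
    RefChLib.kcl δ ((s + 2 : ℕ) : ℤ) ℒ := ⟨_, rfl⟩
  have hcfil : c ∈ RefChLib.fil δ ((s + 2 : ℕ) : ℤ) (((s + 2 : ℕ) : ℤ) - 1) :=
    hc ▸ RefChLib.kcl_sub_structure_mem hδ.2.2 hδη hℒ.1 hℒ.2.2
  have hS : ∀ (N : X.Modules) (hN : PicF.IsInvertible N),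
      RefChLib.act δ _ hle (IntLib.dif hN * ∏ i, IntLib.dif (hM i)) c =
      ∑ I : Finset (Fin (s + 1)), ((-1 : ℤ) ^ I.card) •
        (KZero.clSub (Cyc.CohLe δ (s + 2 : ℕ)) (CohB1.tensorMod (FGA.tensorList ((I.sort (· ≤ ·)).map (Fin.cons N M))) (Coh.structureModule X)) -
          KZero.clSub (Cyc.CohLe δ (s + 2 : ℕ)) (CohB1.tensorMod (FGA.tensorList ((I.sort (· ≤ ·)).map (Fin.cons N M))) ℒ)) := fun N hN => by
    have e : ∀ F : X.Modules, Coh.IsCoh F → RefChLib.act δ _ hle (IntLib.dif hN * ∏ i, IntLib.dif (hM i))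
        (RefChLib.kcl δ ((s + 2 : ℕ) : ℤ) F) = ∑ I : Finset (Fin (s + 1)), ((-1 : ℤ) ^ I.card) •
          RefChLib.kcl δ ((s + 2 : ℕ) : ℤ) (CohB1.tensorMod (FGA.tensorList ((I.sort (· ≤ ·)).map (Fin.cons N M))) F) := fun F hF => by
      have e0 := RefChLib.act_prod δ _ hle (Fin.cons (α := fun _ => X.Modules) N M)
        (Fin.cases (motive := fun j => PicF.IsInvertible (Fin.cons (α := fun _ => X.Modules) N M j)) hN hM) hF
      rw [Fin.prod_univ_succ] at e0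
      exact e0
    simp only [smul_sub, Finset.sum_sub_distrib]
    rw [hc, map_sub]
    exact congrArg₂ (· - ·) (e _ (DevLib.isCoh_structureModule X)) (e _ hℒ.1)
  rw [← hS _ hAB, ← hS _ hA', ← hS _ hB']
  have hdif : IntLib.dif hAB = IntLib.dif hA' + IntLib.dif hB' - IntLib.dif hA' * IntLib.dif hB' := by
    have h := Nakai.cl_tensor hA' hB'
    rw [Nakai.cl_eq_neg_dif, Nakai.cl_eq_neg_dif, Nakai.cl_eq_neg_dif] at h
    linear_combination -h
  have hzero : RefChLib.act δ _ hle (IntLib.dif hA' * (IntLib.dif hB' * ∏ i, IntLib.dif (hM i))) c = 0 := by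
    have h1 := RefChLib.act_prod_mem δ _ hle hlt M hM hcfil
    have h2 := RefChLib.act_dif_mem δ _ hle hlt hA' (RefChLib.act_dif_mem δ _ hle hlt hB' h1)
    rw [RefChLib.fil_eq_bot δ _ (show ((s + 2 : ℕ) : ℤ) - 1 - (s : ℤ) - 1 - 1 < 0 by push_cast; omega)
      (RefChLib.dimFun_nonneg hδ.2.2 hδη hdim.le rfl), AddSubgroup.mem_bot] at h2
    rw [map_mul, map_mul]
    exact h2
  rw [hdif, sub_mul, add_mul, mul_assoc, map_sub, map_add]
  show _ + _ - RefChLib.act δ _ hle (IntLib.dif hA' * (IntLib.dif hB' * ∏ i, IntLib.dif (hM i))) c = _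
  rw [hzero, sub_zero]
  rfl

end Groth.Agent.S17929
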