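import Groth.Statements.S17954
import Groth.Agent.HensSchLib.Full
import Groth.Agent.DevLib.Closed
import Groth.Agent.FactorOne.Basic
-- import your own Groth.Agent.* helpers here

set_option autoImplicit false
universe u
open CategoryTheory AlgebraicGeometry Opposite
open HensSch

namespace Groth.Agent.S17954

/-- Let `(A, I)` be a Noetherian Henselian pair with `A` `I`-adically complete, `X` a proper `A`-scheme
with `I`-adic Henselization `ι : Xh ⟶ X` (the Henselization along the preimage of `V(I)`), and `F` a
coherent `O_X`-module. Then the natural map `Γ(X, F) → Γ(Xh, F^h)` (the unit of the inverse-image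
adjunction on global sections) is bijective. -/
theorem result (A : Type u) [CommRing A] (I : Ideal A) [IsNoetherianRing A]
    [HenselianRing A I] [IsAdicComplete I A]
    (X : Scheme.{u}) (s : X ⟶ Spec (CommRingCat.of A)) [IsProper s]
    (Xh : LocallyRingedSpace.{u}) (ι : Xh ⟶ X.toLocallyRingedSpace)
    (hh : HensSch.IsHenselizationAlong X (s.base ⁻¹' PrimeSpectrum.zeroLocus (I : Set A)) Xh ι)
    (F : X.Modules) (hF : Coh.IsCoh F) :
    Function.Bijective (((HensSch.pullPushAdj ι).unit.app F).val.app (op ⊤)) := by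
  letI : X.Over (Spec (CommRingCat.of A)) := ⟨s⟩
  haveI : IsProper (X ↘ Spec (CommRingCat.of A)) := ‹IsProper s›
  have key := fun ψ => HensSchLib.existsUnique_hom_of_pullMod (I := I) (X := X) (ι := ι) hh
    (DevLib.isCoh_structureModule X) hF ψ
  let adj := HensSch.pullPushAdj ι
  let Q : X.Modules := (HensSch.pushMod ι).obj ((HensSch.pullMod ι).obj F)
  let η : F ⟶ Q := adj.unit.app F
  have top : ∀ (M : X.Modules) (m : Γ(M, ⊤)), (FactorOne.ofSection M m).app ⊤ (1 : Γ(X, ⊤)) = m := fun M m => by
    rw [FactorOne.ofSection_app, one_smul]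
    exact ConcreteCategory.congr_hom (M.presheaf.map_id (op ⊤)) m
  have comp : ∀ (φ : Coh.structureModule X ⟶ F),
      adj.homEquiv _ _ ((HensSch.pullMod ι).map φ) = φ ≫ η := fun φ => by
    rw [Adjunction.homEquiv_unit]
    exact (adj.unit.naturality φ).symm
  refine ⟨fun (a : Γ(F, ⊤)) (b : Γ(F, ⊤)) e => ?_, fun (t : Γ(Q, ⊤)) => ?_⟩
  · have h : FactorOne.ofSection F a = FactorOne.ofSection F b := by
      refine (key ((HensSch.pullMod ι).map (FactorOne.ofSection F b))).unique ?_ rfl
      refine (adj.homEquiv _ _).injective ?_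
      rw [comp, comp]
      refine Scheme.Modules.hom_ext _ _ fun V => AddCommGrpCat.hom_ext (AddMonoidHom.ext fun (c : Γ(X, V)) => ?_)
      change η.app V ((FactorOne.ofSection F a).app V c) = η.app V ((FactorOne.ofSection F b).app V c)
      rw [FactorOne.ofSection_app, FactorOne.ofSection_app, Scheme.Modules.Hom.app_smul,
        Scheme.Modules.Hom.app_smul]
      congr 1
      refine (ConcreteCategory.congr_hom (η.mapPresheaf.naturality (homOfLE le_top).op) a).trans ?_
      refine Eq.trans ?_ (ConcreteCategory.congr_hom (η.mapPresheaf.naturality (homOfLE le_top).op) b).symm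
      exact congrArg (Q.presheaf.map (homOfLE le_top).op) e
    rw [← top F a, ← top F b, h]
  · let u : Coh.structureModule X ⟶ Q := FactorOne.ofSection Q t
    obtain ⟨φ, hφ, -⟩ := key ((adj.homEquiv _ _).symm u)
    have hu : φ ≫ η = u := by rw [← comp, hφ]; exact Equiv.apply_symm_apply _ _
    refine ⟨φ.app ⊤ (1 : Γ(X, ⊤)), ?_⟩
    exact (congr(($hu).app ⊤ (1 : Γ(X, ⊤)))).trans (top Q t)

end Groth.Agent.S17954
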