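import Groth.Statements.S17956
import Groth.Agent.HensSchLib.SphSections
-- import your own Groth.Agent.* helpers here

set_option autoImplicit false
set_option backward.isDefEq.respectTransparency false
set_option backward.isDefEq.respectTransparency.types false
universe u
open CategoryTheory AlgebraicGeometry Opposite
open HensSch
open scoped TensorProduct

namespace Groth.Agent.S17956

/-- Let `(A, I)` be a Henselian pair with affine Henselian spectrum `(X, π)`, `M` an `A`-module and `f :
A`; put `U = π⁻¹ D(f)` (the distinguished open `D(f) ∩ V(I)`), let `S = O_X(U)` with its ring map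
from `A`, and let `θ : M → Γ(U, M~)` be the canonical map (unit of the tilde adjunction on `Spec A`,
then the unit of `π^* ⊣ π_*`, then restriction to `U`), where `M~` on `X` is the pullback along `π`
of `M~` on `Spec A`. Then `Γ(U, M~)` together with `θ` is the base change of `M` along `A → S`: for
every `S`-module `P` and every additive map `ψ : M → P` with `ψ (a • m) = a • ψ m` (with `A` acting
on `P` through `S`) there is exactly one `S`-linear `χ : Γ(U, M~) → P` with `χ ∘ θ = ψ`.
Equivalently `S ⊗_A M → Γ(U, M~)` is bijective, i.e. the sections of `M~` over `D(f) ∩ V(I)` are `M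
⊗_A O_X(D(f) ∩ V(I))`. -/
theorem result (A : Type u) [CommRing A] (I : Ideal A) [HenselianRing A I]
    (X : LocallyRingedSpace.{u}) (π : X ⟶ HensSch.specLRS A) (hX : HensSch.IsSph A I X π)
    (M : ModuleCat.{u} A) (f : A)
    (P : Type u) [AddCommGroup P] [Module ((ModSite.ringSh X.sheaf).obj.obj (op (HensSch.dOpen π f))) P]
    (ψ : M →+ P)
    (hψ : ∀ (a : A) (m : M), ψ (a • m) =
      HSMul.hSMul (α := ((ModSite.ringSh X.sheaf).obj.obj (op (HensSch.dOpen π f)) : Type u))
        (HensSch.secMap π (PrimeSpectrum.basicOpen f) a) (ψ m)) :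
    ∃! χ : ((HensSch.sphTilde π M).val.obj (op (HensSch.dOpen π f))) →ₗ[(ModSite.ringSh X.sheaf).obj.obj (op (HensSch.dOpen π f))] P,
      ∀ m : M, χ (((HensSch.sphTilde π M).val.map ((TopologicalSpace.Opens.map π.base).map (homOfLE (le_top : PrimeSpectrum.basicOpen f ≤ ⊤))).op).hom
          ((((HensSch.pullPushAdj π).unit.app (tilde M)).val.app (op ⊤)).hom
            (((tilde.adjunction (R := CommRingCat.of A)).unit.app M).hom m))) = ψ m := by
  letI : Module (Groth.Agent.HensSchLib.Sx π f) P := (inferInstanceAs (Module ((ModSite.ringSh X.sheaf).obj.obj (op (HensSch.dOpen π f))) P) : _)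
  letI : Module A P := Module.compHom P (algebraMap A (Groth.Agent.HensSchLib.Sx π f))
  haveI : IsScalarTower A (Groth.Agent.HensSchLib.Sx π f) P := .of_algebraMap_smul fun _ _ => rfl
  let ψl : M →ₗ[A] P := { ψ with map_smul' := hψ }
  let e := LinearEquiv.ofBijective (Groth.Agent.HensSchLib.mu π M f) (Groth.Agent.HensSchLib.mu_bijective π M hX f)
  let χ : Groth.Agent.HensSchLib.Tx π M f →ₗ[Groth.Agent.HensSchLib.Sx π f] P :=
    (LinearMap.liftBaseChange (Groth.Agent.HensSchLib.Sx π f) ψl).comp e.symm.toLinearMap
  have key : ∀ m : M, ((HensSch.sphTilde π M).val.map ((TopologicalSpace.Opens.map π.base).map (homOfLE (le_top : PrimeSpectrum.basicOpen f ≤ ⊤))).op).hom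
      ((((HensSch.pullPushAdj π).unit.app (tilde M)).val.app (op ⊤)).hom
        (((tilde.adjunction (R := CommRingCat.of A)).unit.app M).hom m)) = Groth.Agent.HensSchLib.theta π M f m :=
    fun m => (Groth.Agent.ModTensor.lin_res ((Groth.Agent.ModTensor.preFunctor _).map
      ((HensSch.pullPushAdj π).unit.app (tilde (R := CommRingCat.of A) M)))
        (homOfLE (le_top : PrimeSpectrum.basicOpen f ≤ ⊤)).op _).symm.trans rfl
  refine ⟨χ, fun m => ?_, fun χ' hχ' => ?_⟩
  · refine (congrArg χ (key m)).trans ?_
    show LinearMap.liftBaseChange _ ψl (e.symm (Groth.Agent.HensSchLib.theta π M f m)) = ψ m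
    rw [show e.symm (Groth.Agent.HensSchLib.theta π M f m) = (1 : Groth.Agent.HensSchLib.Sx π f) ⊗ₜ[A] m by
      rw [LinearEquiv.symm_apply_eq]; exact ((Groth.Agent.HensSchLib.mu_tmul π M f 1 m).trans (one_smul _ _)).symm,
      LinearMap.liftBaseChange_tmul, one_smul]
    rfl
  · let χ'' : Groth.Agent.HensSchLib.Tx π M f →ₗ[Groth.Agent.HensSchLib.Sx π f] P := χ'
    have : χ''.comp e.toLinearMap = LinearMap.liftBaseChange (Groth.Agent.HensSchLib.Sx π f) ψl := by
      refine LinearMap.ext fun z => ?_
      induction z using TensorProduct.induction_on with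
      | zero => simp
      | add a b ha hb => simp only [map_add, ha, hb]
      | tmul s m =>
        rw [LinearMap.liftBaseChange_tmul]
        show χ'' (Groth.Agent.HensSchLib.mu π M f (s ⊗ₜ[A] m)) = _
        rw [Groth.Agent.HensSchLib.mu_tmul, map_smul]
        congr 1
        rw [← key]
        exact hχ' m
    refine LinearMap.ext fun t => ?_
    obtain ⟨z, rfl⟩ := e.surjective t
    show χ'' (e z) = LinearMap.liftBaseChange _ ψl (e.symm (e z))
    rw [e.symm_apply_apply, ← this]
    rfl

end Groth.Agent.S17956
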