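import Groth.Statements.S17959
import Groth.Agent.H9HensCouple
import Mathlib

set_option autoImplicit false
open CategoryTheory CategoryTheory.Limits AlgebraicGeometry
universe u
open Hensel

namespace Groth.Agent.S17959

theorem h9_hom {X : Scheme.{u}} {R : CommRingCat.{u}} (v : X ⟶ Spec R) (φ : Γ(X, ⊤) ⟶ R)
    (hv : v ≫ Spec.map φ = X.toSpecΓ) :
    φ ≫ (Scheme.ΓSpecIso R).inv ≫ v.appTop = 𝟙 _ := by
  have h1 := congrArg Scheme.Hom.appTop hv
  rw [Scheme.Hom.comp_appTop, Scheme.toSpecΓ_appTop] at h1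
  rw [← Category.assoc, Scheme.ΓSpecIso_inv_naturality, Category.assoc, h1, Iso.inv_hom_id]

theorem h9_root {X X₀ : Scheme.{u}} (i : X₀ ⟶ X) [IsClosedImmersion i] [CompactSpace ↥X] [QuasiSeparatedSpace ↥X]
    (hX : Groth.Agent.H9HensCouple.Lifts i) (f : Polynomial Γ(X, ⊤)) (hf : f.Monic) (a₀ : Γ(X, ⊤))
    (h0 : i.appTop.hom (f.eval a₀) = 0) (hd : IsUnit (i.appTop.hom (f.derivative.eval a₀))) :
    ∃ a : Γ(X, ⊤), f.IsRoot a ∧ i.appTop.hom a = i.appTop.hom a₀ := by
  letI : Algebra Γ(X, ⊤) Γ(X₀, ⊤) := i.appTop.hom.toAlgebra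
  let P : StandardEtalePair Γ(X, ⊤) := ⟨f, hf, f.derivative, 1, 0, 1, by simp⟩
  have hm : P.HasMap (algebraMap Γ(X, ⊤) Γ(X₀, ⊤) a₀) := by
    refine ⟨?_, ?_⟩
    · rw [Polynomial.aeval_algebraMap_apply_eq_algebraMap_eval]; exact h0
    · rw [Polynomial.aeval_algebraMap_apply_eq_algebraMap_eval]; exact hd
  let χ : CommRingCat.of P.Ring ⟶ Γ(X₀, ⊤) := CommRingCat.ofHom (P.lift _ hm).toRingHom
  let al : Γ(X, ⊤) ⟶ CommRingCat.of P.Ring := CommRingCat.ofHom (algebraMap Γ(X, ⊤) P.Ring)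
  have hal : al ≫ χ = i.appTop := by
    ext b
    exact (P.lift _ hm).commutes b
  haveI : Etale (Spec.map al) := by
    rw [HasRingHomProperty.Spec_iff (P := @Etale)]
    show RingHom.Etale (algebraMap Γ(X, ⊤) P.Ring)
    rw [RingHom.etale_algebraMap]
    infer_instance
  let g := pullback.fst X.toSpecΓ (Spec.map al)
  haveI : Etale g := inferInstanceAs (Etale (pullback.fst _ _))
  haveI : IsSeparated g := inferInstanceAs (IsSeparated (pullback.fst _ _))
  let w : X₀ ⟶ pullback X.toSpecΓ (Spec.map al) := pullback.lift i (X₀.toSpecΓ ≫ Spec.map χ)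
    (by rw [Category.assoc, ← Spec.map_comp, hal, Scheme.toSpecΓ_naturality])
  obtain ⟨u, hu, hiu⟩ := Groth.Agent.H9HensCouple.exists_section hX g w (pullback.lift_fst _ _ _)
  let v := u ≫ pullback.snd X.toSpecΓ (Spec.map al)
  have hv : v ≫ Spec.map al = X.toSpecΓ := by
    simp only [v, Category.assoc]
    rw [← pullback.condition, ← Category.assoc, hu, Category.id_comp]
  let ψ : CommRingCat.of P.Ring ⟶ Γ(X, ⊤) := (Scheme.ΓSpecIso (CommRingCat.of P.Ring)).inv ≫ v.appTop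
  have hψ : al ≫ ψ = 𝟙 _ := h9_hom v al hv
  let ψ' : P.Ring →ₐ[Γ(X, ⊤)] Γ(X, ⊤) :=
    { ψ.hom with commutes' := fun b => congr($(hψ).hom b) }
  refine ⟨ψ' P.X, ?_, ?_⟩
  · show f.eval (ψ' P.X) = 0
    rw [← Polynomial.coe_aeval_eq_eval, Polynomial.aeval_algHom_apply, P.hasMap_X.1, map_zero]
  · have h2 : ψ ≫ i.appTop = χ := by
      have : i ≫ v = X₀.toSpecΓ ≫ Spec.map χ := by
        simp only [v]
        rw [← Category.assoc, hiu, pullback.lift_snd]
      simp only [ψ, Category.assoc]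
      rw [← Scheme.Hom.comp_appTop, this, Scheme.Hom.comp_appTop, Scheme.toSpecΓ_appTop,
        Scheme.ΓSpecIso_naturality, Iso.inv_hom_id_assoc]
    have h3 : i.appTop.hom (ψ' P.X) = χ.hom P.X := congr($(h2).hom P.X)
    rw [h3]
    exact P.lift_X _ hm

/-- Let X be a quasi-compact quasi-separated scheme and i : X₀ ⟶ X a closed immersion such that (X, X₀)
is a henselian couple, i.e. for every finite morphism g : Y ⟶ X every open-closed subset of Y ×_X X₀
is the inverse image under the first projection of exactly one open-closed subset of Y. Let B = Γ(X,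
O_X) and let J be the kernel of the restriction map B → Γ(X₀, O_{X₀}). Then (B, J) is a henselian
pair. -/
theorem result {X X₀ : Scheme.{u}}
    (i : X₀ ⟶ X) [IsClosedImmersion i] [CompactSpace ↥X] [QuasiSeparatedSpace ↥X]
    (hX : ∀ (Y : Scheme.{u}) (g : Y ⟶ X), IsFinite g →
      ∀ V : Set ↥(pullback g (i)), IsClopen V →
        ∃! U : Set ↥Y, IsClopen U ∧ (pullback.fst g (i)).base ⁻¹' U = V) :
    HenselianRing (Γ(X, ⊤) : Type u) (RingHom.ker i.appTop.hom) := by
  constructor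
  · intro b hb
    rw [Ideal.mem_jacobson_bot]
    intro y
    have h1 : i.appTop.hom (b * y + 1) = 1 := by
      rw [map_add, map_mul, RingHom.mem_ker.1 hb, zero_mul, zero_add, map_one]
    have h2 := Groth.Agent.H9HensCouple.eq_univ (i := i) hX (X.basicOpen (b * y + 1)).isOpen (by
      rintro _ ⟨x, rfl⟩
      have h3 : i ⁻¹ᵁ X.basicOpen (b * y + 1) = ⊤ := by
        rw [Scheme.preimage_basicOpen_top]
        exact (X₀.basicOpen_of_isUnit (h1 ▸ isUnit_one)).trans rfl
      exact (h3.ge trivial : x ∈ i ⁻¹ᵁ X.basicOpen (b * y + 1)))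
    exact X.toRingedSpace.isUnit_of_isUnit_germ ⊤ _ fun x hx =>
      (X.mem_basicOpen (b * y + 1) x hx).1 (h2.ge (Set.mem_univ x))
  · intro f hf a₀ h₁ h₂
    have hd : IsUnit (i.appTop.hom (f.derivative.eval a₀)) := by
      have := h₂.map (RingHom.kerLift i.appTop.hom)
      simpa using this
    obtain ⟨a, ha, ha'⟩ := h9_root i hX f hf a₀ (RingHom.mem_ker.1 h₁) hd
    exact ⟨a, ha, RingHom.mem_ker.2 (by rw [map_sub, ha', sub_self])⟩

end Groth.Agent.S17959
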