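import Groth.Statements.S17962
import Mathlib.AlgebraicGeometry.Morphisms.Finite

set_option autoImplicit false
open CategoryTheory CategoryTheory.Limits AlgebraicGeometry
universe u
open Hensel

namespace Groth.Agent.S17962

/-- Let i : X₀ ⟶ X be a closed immersion such that (X, X₀) is a henselian couple, i.e. for every finite
morphism g : Y ⟶ X every open-closed subset of Y ×_X X₀ is the inverse image under the first
projection of exactly one open-closed subset of Y. Then for every finite morphism h : Y ⟶ X the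
couple (Y, Y ×_X X₀), with the first projection as closed immersion, is again henselian. -/
theorem result {X X₀ : Scheme.{u}}
    (i : X₀ ⟶ X) [IsClosedImmersion i]
    (hX : ∀ (Y : Scheme.{u}) (g : Y ⟶ X), IsFinite g →
      ∀ V : Set ↥(pullback g (i)), IsClopen V →
        ∃! U : Set ↥Y, IsClopen U ∧ (pullback.fst g (i)).base ⁻¹' U = V)
    {Y : Scheme.{u}} (h : Y ⟶ X) [IsFinite h] :
    ∀ (Z : Scheme.{u}) (g : Z ⟶ Y), IsFinite g →
      ∀ V : Set ↥(pullback g (pullback.fst h i)), IsClopen V →
        ∃! U : Set ↥Z, IsClopen U ∧ (pullback.fst g (pullback.fst h i)).base ⁻¹' U = V := by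
  intro Z g hg V hV
  let α := pullbackRightPullbackFstIso h i g
  have hα : α.hom ≫ pullback.fst (g ≫ h) i = pullback.fst g (pullback.fst h i) :=
    pullbackRightPullbackFstIso_hom_fst _ _ _
  obtain ⟨U, ⟨hU, hUV⟩, huniq⟩ := hX Z (g ≫ h) inferInstance (α.inv.base ⁻¹' V)
    (hV.preimage α.inv.continuous)
  refine ⟨U, ⟨hU, ?_⟩, fun U' ⟨hU', hUV'⟩ => huniq U' ⟨hU', ?_⟩⟩
  · ext x
    rw [Set.mem_preimage, ← hα, show (α.hom ≫ pullback.fst (g ≫ h) i).base x =
      (pullback.fst (g ≫ h) i).base (α.hom.base x) from rfl, ← Set.mem_preimage, hUV, Set.mem_preimage,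
      show α.inv.base (α.hom.base x) = (α.hom ≫ α.inv).base x from rfl, Iso.hom_inv_id]
    rfl
  · ext y
    rw [Set.mem_preimage, Set.mem_preimage, ← hUV', Set.mem_preimage, ← hα,
      show (α.hom ≫ pullback.fst (g ≫ h) i).base (α.inv.base y) =
        (α.inv ≫ α.hom ≫ pullback.fst (g ≫ h) i).base y from rfl, Iso.inv_hom_id_assoc]

end Groth.Agent.S17962
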