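import Groth.Statements.S17964

set_option autoImplicit false
open CategoryTheory CategoryTheory.Limits AlgebraicGeometry
universe u
open Hensel

namespace Groth.Agent.S17964

section helpers

variable {ι : Type u} (X X₀ : ι → Scheme.{u}) (i : ∀ j, X₀ j ⟶ X j)

lemma exists_sigmaι (z : ↥(∐ X)) : ∃ j x, Sigma.ι X j x = z := by
  obtain ⟨⟨j, x⟩, rfl⟩ := (sigmaMk X).surjective z
  exact ⟨j, x, (sigmaMk_mk X j x).symm⟩

lemma sigmaι_inj {j k : ι} {x : X j} {y : X k} (h : Sigma.ι X j x = Sigma.ι X k y) :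
    (⟨j, x⟩ : Σ j, X j) = ⟨k, y⟩ :=
  (sigmaι_eq_iff _ _ _ _ _).mp h

lemma map_sigmaι (j : ι) (z : X₀ j) :
    Limits.Sigma.map i (Sigma.ι X₀ j z) = Sigma.ι X j (i j z) := by
  rw [← Scheme.Hom.comp_apply, ← Scheme.Hom.comp_apply, Limits.Sigma.ι_map]

lemma preimage_range_sigmaι (j : ι) :
    Limits.Sigma.map i ⁻¹' Set.range (Sigma.ι X j) = Set.range (Sigma.ι X₀ j) := by
  ext z
  constructor
  · rintro ⟨x, hx⟩
    obtain ⟨k, y, rfl⟩ := exists_sigmaι X₀ z
    rw [map_sigmaι] at hx
    obtain rfl : j = k := congrArg Sigma.fst (sigmaι_inj X hx)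
    exact ⟨y, rfl⟩
  · rintro ⟨y, rfl⟩
    exact ⟨i j y, (map_sigmaι X X₀ i j y).symm⟩

lemma isClosed_range_sigmaι (j : ι) : IsClosed (Set.range (Sigma.ι X j)) := by
  rw [← isOpen_compl_iff]
  have : (Set.range (Sigma.ι X j))ᶜ = ⋃ k : {k : ι // k ≠ j}, Set.range (Sigma.ι X k.1) := by
    ext z
    obtain ⟨k, x, rfl⟩ := exists_sigmaι X z
    simp only [Set.mem_compl_iff, Set.mem_range, Set.mem_iUnion]
    constructor
    · intro h
      refine ⟨⟨k, ?_⟩, x, rfl⟩
      rintro rfl
      exact h ⟨x, rfl⟩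
    · rintro ⟨⟨l, hl⟩, y, hy⟩ ⟨w, hw⟩
      exact hl (congrArg Sigma.fst (sigmaι_inj X (hy.trans hw.symm)))
  rw [this]
  exact isOpen_iUnion fun k => (Sigma.ι X k.1).isOpenEmbedding.isOpen_range

lemma isClosedImmersion_sigmaι (j : ι) : IsClosedImmersion (Sigma.ι X j) :=
  IsClosedImmersion.of_isPreimmersion _ (isClosed_range_sigmaι X j)

lemma isClosedImmersion_sigmaMap [∀ j, IsClosedImmersion (i j)] :
    IsClosedImmersion (Limits.Sigma.map i) := by
  apply IsZariskiLocalAtTarget.of_openCover (P := @IsClosedImmersion) (sigmaOpenCover X)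
  intro j
  have hP : IsPullback (Sigma.ι X₀ j) (i j) (Limits.Sigma.map i) (Sigma.ι X j) := by
    refine (IsOpenImmersion.isPullback (i j) (Sigma.ι X₀ j) (Sigma.ι X j) _ ?_ ?_).flip
    · exact Limits.Sigma.ι_map i j
    · exact TopologicalSpace.Opens.ext (preimage_range_sigmaι X X₀ i j)
  change IsClosedImmersion (pullback.snd (Limits.Sigma.map i) (Sigma.ι X j))
  rw [← hP.isoPullback_inv_snd]
  infer_instance

/-- the topological lifting property of a map -/
def L {P Y : Type u} [TopologicalSpace P] [TopologicalSpace Y] (e : P → Y) : Prop :=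
  ∀ V : Set P, IsClopen V → ∃! U : Set Y, IsClopen U ∧ e ⁻¹' U = V

lemma L_cover {P Y : Type u} [TopologicalSpace P] [TopologicalSpace Y] (e : P → Y)
    {κ : Type u} (Q W : κ → Type u) [∀ j, TopologicalSpace (Q j)] [∀ j, TopologicalSpace (W j)]
    (f : ∀ j, Q j → W j) (a : ∀ j, Q j → P) (ε : ∀ j, W j → Y)
    (ha : ∀ j, Continuous (a j)) (hε : ∀ j, Topology.IsOpenEmbedding (ε j))
    (comm : ∀ j q, e (a j q) = ε j (f j q))
    (cov : ∀ y, ∃ j w, ε j w = y)
    (disj : ∀ j k w v, ε j w = ε k v → j = k)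
    (lift : ∀ j p w, e p = ε j w → ∃ q, a j q = p)
    (h : ∀ j, L (f j)) : L e := by
  intro V hV
  choose U hU hUu using fun j => h j (a j ⁻¹' V) (hV.preimage (ha j))
  have key : ∀ (S : ∀ j, Set (W j)) (j : κ) (w : W j),
      ε j w ∈ (⋃ k, ε k '' S k) ↔ w ∈ S j := by
    intro S j w
    simp only [Set.mem_iUnion, Set.mem_image]
    constructor
    · rintro ⟨k, v, hv, hvw⟩
      obtain rfl := disj _ _ _ _ hvw
      rwa [← (hε k).injective hvw]
    · exact fun hw => ⟨j, w, hw, rfl⟩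
  refine ⟨⋃ j, ε j '' U j, ⟨⟨?_, ?_⟩, ?_⟩, ?_⟩
  · rw [← isOpen_compl_iff]
    have : (⋃ j, ε j '' U j)ᶜ = ⋃ j, ε j '' (U j)ᶜ := by
      ext y
      obtain ⟨j, w, rfl⟩ := cov y
      rw [Set.mem_compl_iff, key, key, Set.mem_compl_iff]
    rw [this]
    exact isOpen_iUnion fun j => (hε j).isOpenMap _ (hU j).1.1.isOpen_compl
  · exact isOpen_iUnion fun j => (hε j).isOpenMap _ (hU j).1.2
  · ext p
    obtain ⟨j, w, hw⟩ := cov (e p)
    obtain ⟨q, rfl⟩ := lift j p w hw.symm
    rw [Set.mem_preimage, comm, key]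
    exact Set.ext_iff.mp (hU j).2 q
  · rintro U' ⟨hU'c, hU'⟩
    ext y
    obtain ⟨j, w, rfl⟩ := cov y
    rw [key]
    have := hUu j (ε j ⁻¹' U') ⟨hU'c.preimage (hε j).continuous, by
      ext q
      simp only [Set.mem_preimage, ← comm]
      rw [← hU']
      rfl⟩
    rw [← this]
    rfl

lemma L_of_factor {P Q Y : Type u} [TopologicalSpace P] [TopologicalSpace Q] [TopologicalSpace Y]
    (e : P → Y) (f : Q → Y) (a : Q → P) (he : Topology.IsEmbedding e)
    (hf : Topology.IsEmbedding f) (ha : Continuous a) (comm : e ∘ a = f)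
    (hr : Set.range e ⊆ Set.range f) (h : L e) : L f := by
  have hae : Topology.IsEmbedding a := Topology.IsEmbedding.of_comp ha he.continuous (comm ▸ hf)
  have has : Function.Surjective a := by
    intro p
    obtain ⟨q, hq⟩ := hr ⟨p, rfl⟩
    exact ⟨q, he.injective ((congrFun comm q).trans hq)⟩
  let φ : Q ≃ₜ P := hae.toHomeomorphOfSurjective has
  intro V hV
  obtain ⟨U, ⟨hUc, hU⟩, huniq⟩ := h (φ.symm ⁻¹' V) (hV.preimage φ.symm.continuous)
  have hf' : ∀ S : Set Y, f ⁻¹' S = φ ⁻¹' (e ⁻¹' S) := by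
    intro S
    rw [← comm]
    rfl
  refine ⟨U, ⟨hUc, ?_⟩, ?_⟩
  · rw [hf', hU, ← Set.preimage_comp, φ.symm_comp_self, Set.preimage_id]
  · rintro U' ⟨hU'c, hU'⟩
    refine huniq U' ⟨hU'c, ?_⟩
    rw [← hU', hf', ← Set.preimage_comp, φ.self_comp_symm, Set.preimage_id]

end helpers

/-- Let (X_j) be a family of schemes indexed by a type ι, with closed immersions i_j : X_{j,0} ⟶ X_j,
and consider the induced morphism of disjoint unions ∐ X_{j,0} ⟶ ∐ X_j. Then the couple (∐ X_j, ∐
X_{j,0}) is henselian (for every finite morphism g : Y ⟶ ∐ X_j, every open-closed subset of the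
fibre product of Y with ∐ X_{j,0} is the inverse image under the first projection of exactly one
open-closed subset of Y) if and only if each couple (X_j, X_{j,0}) is henselian. -/
theorem result {ι : Type u} (X X₀ : ι → Scheme.{u})
    (i : ∀ j, X₀ j ⟶ X j) [∀ j, IsClosedImmersion (i j)] :
    (∀ (Y : Scheme.{u}) (g : Y ⟶ ∐ X), IsFinite g →
      ∀ V : Set ↥(pullback g (Limits.Sigma.map i)), IsClopen V →
        ∃! U : Set ↥Y, IsClopen U ∧ (pullback.fst g (Limits.Sigma.map i)).base ⁻¹' U = V) ↔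
    ∀ j : ι, ∀ (Y : Scheme.{u}) (g : Y ⟶ X j), IsFinite g →
      ∀ V : Set ↥(pullback g (i j)), IsClopen V →
        ∃! U : Set ↥Y, IsClopen U ∧ (pullback.fst g (i j)).base ⁻¹' U = V := by
  haveI := isClosedImmersion_sigmaMap X X₀ i
  constructor
  · intro H j Y g hg
    haveI := hg
    haveI := isClosedImmersion_sigmaι X j
    let a : pullback g (i j) ⟶ pullback (g ≫ Sigma.ι X j) (Limits.Sigma.map i) :=
      pullback.map _ _ _ _ (𝟙 Y) (Sigma.ι X₀ j) (Sigma.ι X j) (by simp)
        (Limits.Sigma.ι_map i j).symm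
    refine L_of_factor (pullback.fst (g ≫ Sigma.ι X j) (Limits.Sigma.map i)) (pullback.fst g (i j))
      a (Scheme.Hom.isEmbedding _) (Scheme.Hom.isEmbedding _) a.continuous ?_ ?_
      (H Y (g ≫ Sigma.ι X j) inferInstance)
    · rw [← TopCat.coe_comp]
      have : a ≫ pullback.fst _ _ = pullback.fst g (i j) :=
        (pullback.lift_fst _ _ _).trans (Category.comp_id _)
      exact funext fun q => congrArg (fun h : pullback g (i j) ⟶ Y => h q) this
    · rw [Scheme.Pullback.range_fst, Scheme.Pullback.range_fst]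
      rintro y ⟨z, hz⟩
      obtain ⟨k, x, rfl⟩ := exists_sigmaι X₀ z
      rw [map_sigmaι, Scheme.Hom.comp_apply] at hz
      obtain rfl : k = j := congrArg Sigma.fst (sigmaι_inj X hz)
      exact ⟨x, (Sigma.ι X k).isOpenEmbedding.injective hz⟩
  · intro H Y g hg
    haveI := hg
    let ε : ∀ j, pullback g (Sigma.ι X j) ⟶ Y := fun j => pullback.fst g (Sigma.ι X j)
    let gj : ∀ j, pullback g (Sigma.ι X j) ⟶ X j := fun j => pullback.snd g (Sigma.ι X j)
    let a : ∀ j, pullback (gj j) (i j) ⟶ pullback g (Limits.Sigma.map i) := fun j =>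
      pullback.map _ _ _ _ (ε j) (Sigma.ι X₀ j) (Sigma.ι X j) pullback.condition.symm
        (Limits.Sigma.ι_map i j).symm
    have ha : ∀ j, a j ≫ pullback.fst g (Limits.Sigma.map i) = pullback.fst (gj j) (i j) ≫ ε j :=
      fun j => pullback.lift_fst _ _ _
    refine L_cover (pullback.fst g (Limits.Sigma.map i)) (fun j => ↥(pullback (gj j) (i j)))
      (fun j => ↥(pullback g (Sigma.ι X j))) (fun j => pullback.fst (gj j) (i j))
      (fun j => a j) (fun j => ε j) (fun j => (a j).continuous)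
      (fun j => (ε j).isOpenEmbedding) (fun j q => ?_) (fun y => ?_) (fun j k w v h => ?_)
      (fun j p w hp => ?_) (fun j => H j _ (gj j) inferInstance)
    · exact congrArg (fun h : pullback (gj j) (i j) ⟶ Y => h q) (ha j)
    · obtain ⟨j, x, hx⟩ := exists_sigmaι X (g y)
      have : y ∈ Set.range (pullback.fst g (Sigma.ι X j)) := by
        rw [Scheme.Pullback.range_fst]; exact ⟨x, hx⟩
      obtain ⟨w, hw⟩ := this
      exact ⟨j, w, hw⟩
    · have hjw : g (ε j w) = Sigma.ι X j (gj j w) :=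
        congrArg (fun f : pullback g (Sigma.ι X j) ⟶ ∐ X => f w) pullback.condition
      have hkv : g (ε k v) = Sigma.ι X k (gj k v) :=
        congrArg (fun f : pullback g (Sigma.ι X k) ⟶ ∐ X => f v) pullback.condition
      exact congrArg Sigma.fst (sigmaι_inj X (hjw.symm.trans ((congrArg g h).trans hkv)))
    · have h1 : g (pullback.fst g (Limits.Sigma.map i) p) =
          Limits.Sigma.map i (pullback.snd g (Limits.Sigma.map i) p) :=
        congrArg (fun f : pullback g (Limits.Sigma.map i) ⟶ ∐ X => f p) pullback.condition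
      have h2 : g (ε j w) = Sigma.ι X j (gj j w) :=
        congrArg (fun f : pullback g (Sigma.ι X j) ⟶ ∐ X => f w) pullback.condition
      rw [hp, h2] at h1
      obtain ⟨k, z, hz⟩ := exists_sigmaι X₀ (pullback.snd g (Limits.Sigma.map i) p)
      rw [← hz, map_sigmaι] at h1
      have hjk := sigmaι_inj X h1
      obtain rfl : j = k := congrArg Sigma.fst hjk
      have hw : w ∈ Set.range (pullback.fst (gj j) (i j)) := by
        rw [Scheme.Pullback.range_fst]
        exact ⟨z, ((Sigma.ι X j).isOpenEmbedding.injective h1).symm⟩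
      obtain ⟨q, hq⟩ := hw
      refine ⟨q, (pullback.fst g (Limits.Sigma.map i)).isEmbedding.injective ?_⟩
      rw [hp]
      exact (congrArg (fun h : pullback (gj j) (i j) ⟶ Y => h q) (ha j)).trans (congrArg (ε j) hq)

end Groth.Agent.S17964
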