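import Groth.Statements.S17968
import Groth.Agent.Hensel.Idempotent

set_option autoImplicit false
universe u
open Hensel
open Polynomial

namespace Groth.Agent.S17968

/-- Let A be a commutative ring and I an ideal contained in the Jacobson radical of A. Suppose that for
every natural number m and every monic polynomial p over A whose reduction modulo I is the reduction
of (T^2 - T)^m, every idempotent of B/IB is the image of an idempotent of B, where B = A[T]/(p).
Then (A, I) is a henselian pair. -/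
theorem result (A : Type u) [CommRing A]
    (I : Ideal A) (hI : I ≤ Ideal.jacobson ⊥)
    (h : ∀ (m : ℕ) (p : Polynomial A), p.Monic →
      Polynomial.map (Ideal.Quotient.mk I) p =
        Polynomial.map (Ideal.Quotient.mk I) ((Polynomial.X ^ 2 - Polynomial.X) ^ m) →
      Set.SurjOn (Ideal.Quotient.mk (Ideal.map (algebraMap A (AdjoinRoot p)) I))
        {e : AdjoinRoot p | IsIdempotentElem e} {e | IsIdempotentElem e}) :
    HenselianRing A I := by
  refine Groth.Agent.Hensel.of_gabberRoot hI fun n hn p hp hc => ?_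
  have hGm := Groth.Agent.Hensel.gabber_monic hp
  set G := X ^ n * (X - 1) + p with hG
  have hder : Polynomial.eval 1 (derivative G) - 1 ∈ I := by
    rw [hG, Groth.Agent.Hensel.gabber_derivative_eval_one, add_sub_cancel_left]
    exact Groth.Agent.Hensel.eval_mem_of_coeff_mem (Groth.Agent.Hensel.derivative_coeff_mem hc) 1
  have hG1 : G.eval 1 ∈ I := by
    simpa [hG] using Groth.Agent.Hensel.eval_mem_of_coeff_mem hc 1
  suffices H : ∀ (q : A[X]) (v : A), G - C (G.eval 1) = (X - C 1) * q → q.eval 1 * v = 1 →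
      AdjoinRoot.mk G (C v * q * (C v * q) - C v * q) ∈ I.map (algebraMap A (AdjoinRoot G)) →
      ∃ e : AdjoinRoot G, IsIdempotentElem e ∧
        e - AdjoinRoot.mk G (C v * q) ∈ I.map (algebraMap A (AdjoinRoot G)) by
    obtain ⟨α, hα, hα1⟩ := Groth.Agent.Hensel.exists_root_of_idempotent' hI hGm hG1
      (Groth.Agent.Hensel.isUnit_of_sub_mem hI isUnit_one hder) H
    exact ⟨α, hα1, hα⟩
  intro q v hq hv _
  let π := Ideal.Quotient.mk I
  have hX1 : (X - 1 : (A ⧸ I)[X]).Monic := by simpa using monic_X_sub_C (1 : A ⧸ I)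
  have hpπ : p.map π = 0 := Polynomial.ext fun i => by
    rw [coeff_map, coeff_zero]; exact Ideal.Quotient.eq_zero_iff_mem.2 (hc i)
  have hGπ : G.map π = X ^ n * (X - 1) := by simp [hG, hpπ]
  have hqπ : q.map π = X ^ n := by
    have h1 := congrArg (Polynomial.map π) hq
    simp only [Polynomial.map_sub, Polynomial.map_mul, map_X, map_C, map_one, Polynomial.map_one, hGπ,
      show π (G.eval 1) = 0 from Ideal.Quotient.eq_zero_iff_mem.2 hG1, map_zero, sub_zero] at h1
    rw [mul_comm (X ^ n)] at h1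
    exact (hX1.isRegular.left h1).symm
  have hvπ : π v = 1 := by
    have h1 := congrArg π hv
    rwa [map_mul, map_one, ← Polynomial.eval₂_at_apply, ← Polynomial.eval_map, hqπ, map_one,
      eval_pow, eval_X, one_pow, one_mul] at h1
  obtain ⟨u, w, huw⟩ : IsCoprime (X ^ n : A[X]) ((X - 1) ^ n) :=
    IsCoprime.pow ⟨1, -1, by ring⟩
  set F := G * (X - 1) ^ (n - 1) with hF
  have hX1' : (X - 1 : A[X]).Monic := by simpa using monic_X_sub_C (1 : A)
  have hFm : F.Monic := hGm.mul (hX1'.pow _)
  have hFπ : F.map π = ((X ^ 2 - X : A[X]) ^ n).map π := by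
    obtain ⟨k, rfl⟩ := Nat.exists_eq_succ_of_ne_zero hn.ne'
    simp only [hF, Polynomial.map_mul, hGπ, Polynomial.map_pow, Polynomial.map_sub, map_X,
      Polynomial.map_one, Nat.succ_sub_one]
    rw [show (X ^ 2 - X : (A ⧸ I)[X]) = X * (X - 1) by ring, mul_pow, pow_succ (X - 1)]
    ring
  have hmk : ∀ (P : A[X]) (K : A[X]), P.map π ∈ Ideal.span {K.map π} →
      AdjoinRoot.mk K P ∈ I.map (algebraMap A (AdjoinRoot K)) := by
    intro P K hPK
    obtain ⟨r, hr⟩ := Ideal.mem_span_singleton'.1 hPK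
    obtain ⟨r, rfl⟩ := Polynomial.map_surjective π Ideal.Quotient.mk_surjective r
    have hmem : P - r * K ∈ I.map C := Ideal.mem_map_C_iff.2 fun i => by
      rw [← Ideal.Quotient.eq_zero_iff_mem, ← coeff_map, Polynomial.map_sub, Polynomial.map_mul, hr,
        sub_self, coeff_zero]
    have h2 := Ideal.mem_map_of_mem (AdjoinRoot.mk K) hmem
    rw [Ideal.map_map, map_sub, map_mul, AdjoinRoot.mk_self, mul_zero, sub_zero] at h2
    exact h2
  have hidem : IsIdempotentElem
      (Ideal.Quotient.mk (I.map (algebraMap A (AdjoinRoot F))) (AdjoinRoot.mk F (u * X ^ n))) := by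
    show _ * _ = _
    rw [← map_mul, Ideal.Quotient.eq, ← map_mul, ← map_sub]
    refine hmk _ _ (Ideal.mem_span_singleton'.2 ⟨-(u * w).map π, ?_⟩)
    rw [hFπ, ← Polynomial.map_neg, ← Polynomial.map_mul]
    congr 1
    rw [show (X ^ 2 - X : A[X]) = X * (X - 1) by ring, mul_pow]
    linear_combination -(u * X ^ n) * huw
  obtain ⟨e, he, hee⟩ := h n F hFm hFπ hidem
  let ρ : AdjoinRoot F →ₐ[A] AdjoinRoot G := AdjoinRoot.liftAlgHom F (Algebra.ofId A _) (AdjoinRoot.root G)
    (by
      show Polynomial.eval₂ (AdjoinRoot.of G) (AdjoinRoot.root G) F = 0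
      rw [hF, eval₂_mul, AdjoinRoot.eval₂_root, zero_mul])
  have hρ : ∀ P, ρ (AdjoinRoot.mk F P) = AdjoinRoot.mk G P := fun P => by
    rw [AdjoinRoot.liftAlgHom_mk]
    exact AdjoinRoot.aeval_eq P
  refine ⟨ρ e, he.map ρ, ?_⟩
  have h3 := Ideal.mem_map_of_mem ρ.toRingHom (Ideal.Quotient.eq.1 hee)
  rw [Ideal.map_map, show ρ.toRingHom.comp (algebraMap A (AdjoinRoot F)) = algebraMap A (AdjoinRoot G) from
    RingHom.ext ρ.commutes, map_sub] at h3
  have h4 : AdjoinRoot.mk G (u * X ^ n - C v * q) ∈ I.map (algebraMap A (AdjoinRoot G)) := by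
    refine hmk _ _ ?_
    obtain ⟨r, hr⟩ : X - C 1 ∣ u.map π - 1 := by
      rw [dvd_iff_isRoot]
      have h1 := congrArg (fun P => (P.map π).eval 1) huw
      simp only [Polynomial.map_add, Polynomial.map_mul, Polynomial.map_pow, map_X, Polynomial.map_sub,
        Polynomial.map_one, eval_add, eval_mul, eval_pow, eval_X, eval_sub, eval_one, sub_self,
        one_pow, mul_one, zero_pow hn.ne', mul_zero, add_zero] at h1
      simp [IsRoot, h1]
    rw [Ideal.mem_span_singleton]
    refine ⟨r, ?_⟩
    rw [map_one] at hr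
    simp only [Polynomial.map_sub, Polynomial.map_mul, Polynomial.map_pow, map_X, map_C, hqπ, hvπ,
      map_one, hGπ]
    linear_combination X ^ n * hr
  rw [map_sub] at h4
  have h5 := add_mem h3 h4
  rw [show ρ.toRingHom (AdjoinRoot.mk F (u * X ^ n)) = AdjoinRoot.mk G (u * X ^ n) from hρ _,
    sub_add_sub_cancel] at h5
  exact h5

end Groth.Agent.S17968
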