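import Groth.Statements.S17969
import Mathlib

set_option autoImplicit false
universe u
open scoped TensorProduct
open CAlg

namespace Groth.Agent.S17969

/-- Let A be an integrally closed domain with fraction field K and B a commutative A-algebra which is
finite and torsion-free as an A-module and generated as an A-algebra by a single element x. Let P be
the characteristic polynomial of multiplication by 1 ⊗ x on the finite free K-module K ⊗_A B. Then P
has coefficients in A, namely P is the image of a monic polynomial over A, and the kernel of the
A-algebra map A[T] → B sending T to x is generated by that polynomial, so that B is A[T]/(P). -/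
theorem result
    (A : Type u) [CommRing A] [IsDomain A] [IsIntegrallyClosed A]
    (B : Type u) [CommRing B] [Algebra A B] [Module.Finite A B] [NoZeroSMulDivisors A B]
    (x : B) (hx : Algebra.adjoin A {x} = ⊤) :
    ∃ P : Polynomial A, P.Monic ∧
      Polynomial.map (algebraMap A (FractionRing A)) P =
        (LinearMap.mulLeft (FractionRing A) ((1 : FractionRing A) ⊗ₜ[A] x)).charpoly ∧
      RingHom.ker (Polynomial.aeval x).toRingHom = Ideal.span {P} := by
  classical
  let K := FractionRing A
  let ι : B →ₐ[A] K ⊗[A] B := Algebra.TensorProduct.includeRight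
  have hι : Function.Injective ι := by
    let f := TensorProduct.mk A K B 1
    haveI : IsLocalizedModule (nonZeroDivisors A) f := (isLocalizedModule_iff_isBaseChange (nonZeroDivisors A) K f).mpr (TensorProduct.isBaseChange A B K)
    intro a b hab
    obtain ⟨c, hc⟩ := IsLocalizedModule.exists_of_eq (S := nonZeroDivisors A) (f := f) (x₁ := a) (x₂ := b) hab
    exact smul_right_injective B (nonZeroDivisors.coe_ne_zero c) hc
  set y : K ⊗[A] B := (1 : K) ⊗ₜ[A] x with hy
  have hadj : Algebra.adjoin K {y} = ⊤ := by
    rw [eq_top_iff]
    rintro z -
    induction z with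
    | zero => exact zero_mem _
    | add a b ha hb => exact add_mem ha hb
    | tmul c b =>
      have hb : b ∈ Algebra.adjoin A {x} := hx ▸ Algebra.mem_top
      have h1 : (1 : K) ⊗ₜ[A] b ∈ Algebra.adjoin K {y} := by
        have : ι b ∈ Algebra.adjoin A {y} := by
          have : ι b ∈ (Algebra.adjoin A {x}).map ι := Subalgebra.mem_map.mpr ⟨b, hb, rfl⟩
          rwa [AlgHom.map_adjoin, Set.image_singleton] at this
        exact Algebra.adjoin_le (S := (Algebra.adjoin K {y}).restrictScalars A) Algebra.subset_adjoin this
      have := Subalgebra.smul_mem _ h1 c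
      rwa [TensorProduct.smul_tmul', smul_eq_mul, mul_one] at this
  have hxint : IsIntegral A x := Algebra.IsIntegral.isIntegral x
  have hyint : IsIntegral K y := Algebra.IsIntegral.isIntegral y
  have hg0 : Polynomial.aeval y ((minpoly A x).map (algebraMap A K)) = 0 := by
    rw [Polynomial.aeval_map_algebraMap, show y = ι x from rfl, Polynomial.aeval_algHom_apply, minpoly.aeval, map_zero]
  obtain ⟨P, hP⟩ := IsIntegrallyClosed.eq_map_mul_C_of_dvd K (minpoly.monic hxint) (minpoly.dvd K y hg0)
  rw [(minpoly.monic hyint).leadingCoeff, map_one, mul_one] at hP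
  have hinjA : Function.Injective (algebraMap A K) := IsFractionRing.injective A K
  have hPm : P.Monic := Polynomial.monic_of_injective hinjA (hP ▸ minpoly.monic hyint)
  refine ⟨P, hPm, ?_, ?_⟩
  · let pb := PowerBasis.ofAdjoinEqTop hyint hadj
    rw [hP, ← LinearMap.charpoly_toMatrix _ pb.basis, ← show pb.gen = y from PowerBasis.ofAdjoinEqTop_gen hyint hadj, ← charpoly_leftMulMatrix pb, Algebra.leftMulMatrix_apply]
    rfl
  · ext f
    rw [RingHom.mem_ker, Ideal.mem_span_singleton, ← Polynomial.map_dvd_map _ hinjA hPm, hP, minpoly.dvd_iff, Polynomial.aeval_map_algebraMap,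
      show y = ι x from rfl, Polynomial.aeval_algHom_apply]
    exact (map_eq_zero_iff ι hι).symm

end Groth.Agent.S17969
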