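import Groth.Statements.S17971
import Groth.Agent.S0521
import Mathlib.AlgebraicGeometry.Morphisms.Finite
import Mathlib.AlgebraicGeometry.PullbackCarrier

set_option autoImplicit false
open CategoryTheory CategoryTheory.Limits AlgebraicGeometry
universe u
open Hensel

namespace Groth.Agent.S17971

/-- For a commutative ring A and an ideal I, the pair (A, I) is henselian if and only if the couple
(Spec A, Spec (A/I)) is henselian, i.e. if and only if for every finite morphism g : Y ⟶ Spec A
every open-closed subset of Y ×_{Spec A} Spec (A/I) is the inverse image under the first projection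
of exactly one open-closed subset of Y. -/
theorem result (A : Type u) [CommRing A] (I : Ideal A) :
    HenselianRing A I ↔
    ∀ (Y : Scheme.{u}) (g : Y ⟶ Spec (CommRingCat.of A)), IsFinite g →
      ∀ V : Set ↥(pullback g (Spec.map (CommRingCat.ofHom (Ideal.Quotient.mk I)))), IsClopen V →
        ∃! U : Set ↥Y, IsClopen U ∧ (pullback.fst g (Spec.map (CommRingCat.ofHom (Ideal.Quotient.mk I)))).base ⁻¹' U = V := by
  let i := Spec.map (CommRingCat.ofHom (Ideal.Quotient.mk I))
  have hi : IsClosedImmersion i :=
    IsClosedImmersion.spec_of_surjective _ Ideal.Quotient.mk_surjective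
  -- for finite algebras both sides agree
  have key : ∀ (B : Type u) [CommRing B] [Algebra A B] [Module.Finite A B],
      (∀ V : Set ↥(pullback (Spec.map (CommRingCat.ofHom (algebraMap A B))) i), IsClopen V →
        ∃! U : Set ↥(Spec (CommRingCat.of B)), IsClopen U ∧
          (pullback.fst (Spec.map (CommRingCat.ofHom (algebraMap A B))) i).base ⁻¹' U = V) ↔
      Set.BijOn (Ideal.Quotient.mk (Ideal.map (algebraMap A B) I))
        {e : B | IsIdempotentElem e} {e | IsIdempotentElem e} := by
    intro B _ _ _
    let g := Spec.map (CommRingCat.ofHom (algebraMap A B))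
    let q := Ideal.Quotient.mk (Ideal.map (algebraMap A B) I)
    let f : PrimeSpectrum (B ⧸ Ideal.map (algebraMap A B) I) → PrimeSpectrum B := PrimeSpectrum.comap q
    have hf : Topology.IsClosedEmbedding f :=
      PrimeSpectrum.isClosedEmbedding_comap_of_surjective _ q Ideal.Quotient.mk_surjective
    let p : ↥(pullback g i) → PrimeSpectrum B := (pullback.fst g i).base
    have hp : Topology.IsClosedEmbedding p := (pullback.fst g i).isClosedEmbedding
    have hrange : Set.range p = Set.range f := by
      have h1 : Set.range p = g.base ⁻¹' Set.range i.base := Scheme.Pullback.range_fst ..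
      have h2 : Set.range i.base = PrimeSpectrum.zeroLocus (I : Set A) := by
        show Set.range (PrimeSpectrum.comap (Ideal.Quotient.mk I)) = _
        rw [range_comap_of_surjective _ _ Ideal.Quotient.mk_surjective, Ideal.mk_ker]
      rw [h1, h2, range_comap_of_surjective _ _ Ideal.Quotient.mk_surjective,
        Ideal.mk_ker]
      show PrimeSpectrum.comap (algebraMap A B) ⁻¹' _ = _
      rw [PrimeSpectrum.preimage_comap_zeroLocus, Ideal.map, PrimeSpectrum.zeroLocus_span]
    let φ := (hp.isEmbedding.toHomeomorph.trans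
      (Homeomorph.setCongr hrange)).trans hf.isEmbedding.toHomeomorph.symm
    have hφ : ∀ x, f (φ x) = p x := fun x => by
      show f (hf.isEmbedding.toHomeomorph.symm _) = _
      have := congrArg Subtype.val (hf.isEmbedding.toHomeomorph.apply_symm_apply
        (Homeomorph.setCongr hrange (hp.isEmbedding.toHomeomorph x)))
      exact this
    have hpre : ∀ U, p ⁻¹' U = φ ⁻¹' (f ⁻¹' U) := fun U => by
      ext x; simp [hφ]
    have hbasic : ∀ e : B, f ⁻¹' (PrimeSpectrum.basicOpen e : Set (PrimeSpectrum B)) =
        PrimeSpectrum.basicOpen (q e) := fun e => rfl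
    have hclo : ∀ {R : Type u} [CommRing R] {e : R}, IsIdempotentElem e →
        IsClopen (PrimeSpectrum.basicOpen e : Set (PrimeSpectrum R)) := fun he =>
      PrimeSpectrum.isClopen_iff_mul_add.2
        ⟨_, _, he.mul_one_sub_self, add_sub_cancel _ _, rfl⟩
    constructor
    · intro h
      refine ⟨fun e he => IsIdempotentElem.map he _, fun e he e' he' hee => ?_, fun x hx => ?_⟩
      · obtain ⟨U, -, huniq⟩ := h (φ ⁻¹' PrimeSpectrum.basicOpen (q e)) ((hclo (he.map q)).preimage φ.continuous)
        have h1 := huniq _ ⟨hclo he, by show p ⁻¹' _ = _; rw [hpre, hbasic]⟩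
        have h2 := huniq _ ⟨hclo he', by show p ⁻¹' _ = _; rw [hpre, hbasic, ← show q e = q e' from hee]⟩
        exact PrimeSpectrum.basicOpen_injOn_isIdempotentElem he he' (SetLike.ext' (h1.trans h2.symm))
      · obtain ⟨U, ⟨hU, hUV⟩, -⟩ := h (φ ⁻¹' (PrimeSpectrum.basicOpen x : Set (PrimeSpectrum (B ⧸ Ideal.map (algebraMap A B) I)))) ((hclo hx).preimage φ.continuous)
        obtain ⟨e, he, rfl⟩ := PrimeSpectrum.exists_idempotent_basicOpen_eq_of_isClopen hU
        have hUV' : p ⁻¹' _ = _ := hUV
        rw [hpre, hbasic] at hUV'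
        exact ⟨e, he, PrimeSpectrum.basicOpen_injOn_isIdempotentElem (he.map q) hx
          (SetLike.ext' (φ.surjective.preimage_injective hUV'))⟩
    · intro h V hV
      obtain ⟨x, hx, hxV⟩ := PrimeSpectrum.exists_idempotent_basicOpen_eq_of_isClopen
        (hV.preimage φ.symm.continuous)
      obtain ⟨e, he, hex⟩ := h.surjOn hx
      refine ⟨(PrimeSpectrum.basicOpen e : Set (PrimeSpectrum B)), ⟨hclo he, ?_⟩, fun U hU => ?_⟩
      · show p ⁻¹' _ = V
        rw [hpre, hbasic, show q e = x from hex, ← hxV, ← Set.preimage_comp]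
        simp
      · obtain ⟨hUc, hUV⟩ := hU
        obtain ⟨e', he', rfl⟩ := PrimeSpectrum.exists_idempotent_basicOpen_eq_of_isClopen hUc
        have hUV' : p ⁻¹' _ = V := hUV
        rw [hpre, hbasic] at hUV'
        have h3 : (PrimeSpectrum.basicOpen (q e') : Set (PrimeSpectrum (B ⧸ Ideal.map (algebraMap A B) I))) =
            (PrimeSpectrum.basicOpen x : Set (PrimeSpectrum (B ⧸ Ideal.map (algebraMap A B) I))) := by
          rw [← hxV, ← hUV', ← Set.preimage_comp]
          simp
        have h4 : q e' = q e := by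
          rw [show q e = x from hex]
          exact PrimeSpectrum.basicOpen_injOn_isIdempotentElem (he'.map q) hx (SetLike.ext' h3)
        rw [h.injOn he' he h4]
  rw [Groth.Agent.S0521.result]
  constructor
  · intro h Y g hg V hV
    have : IsAffine Y := isAffine_of_isAffineHom g
    let ψ := Spec.preimage (Y.isoSpec.inv ≫ g)
    let _ : Algebra A Γ(Y, ⊤) := ψ.hom.toAlgebra
    have hψ : Y.isoSpec.inv ≫ g = Spec.map (CommRingCat.ofHom (algebraMap A Γ(Y, ⊤))) :=
      (Spec.map_preimage _).symm
    have hfin : IsFinite (Spec.map (CommRingCat.ofHom (algebraMap A Γ(Y, ⊤)))) := by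
      rw [← hψ]; infer_instance
    rw [IsFinite.SpecMap_iff] at hfin
    have : Module.Finite A Γ(Y, ⊤) := RingHom.finite_algebraMap.1 hfin
    let G := Spec.map (CommRingCat.ofHom (algebraMap A Γ(Y, ⊤)))
    have hg' : g = Y.isoSpec.hom ≫ G := by rw [show G = _ from hψ.symm, Iso.hom_inv_id_assoc]
    let α : pullback g i ≅ pullback G i := asIso (pullback.map g i G i Y.isoSpec.hom (𝟙 _) (𝟙 _)
      (by rw [Category.comp_id, ← hg']) (by simp))
    have hα : α.hom ≫ pullback.fst G i = pullback.fst g i ≫ Y.isoSpec.hom :=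
      pullback.lift_fst _ _ _
    obtain ⟨U, ⟨hU, hUV⟩, huniq⟩ := (key Γ(Y, ⊤)).2 (h _ inferInstance) (α.inv.base ⁻¹' V)
      (hV.preimage α.inv.continuous)
    let σ := Scheme.homeoOfIso Y.isoSpec
    have hcomm : ∀ x, (pullback.fst G i).base (α.hom.base x) = σ ((pullback.fst g i).base x) := fun x =>
      congrArg (fun F : pullback g i ⟶ Spec Γ(Y, ⊤) => F.base x) hα
    have hinv : ∀ x, α.inv.base (α.hom.base x) = x := fun x =>
      congrArg (fun F : pullback g i ⟶ pullback g i => F.base x) α.hom_inv_id
    have hinv' : ∀ y, α.hom.base (α.inv.base y) = y := fun y =>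
      congrArg (fun F : pullback G i ⟶ pullback G i => F.base y) α.inv_hom_id
    refine ⟨σ ⁻¹' U, ⟨hU.preimage σ.continuous, ?_⟩, fun U' hU' => ?_⟩
    · ext x
      have h1 := Set.ext_iff.1 hUV (α.hom.base x)
      rw [Set.mem_preimage, Set.mem_preimage, hinv, hcomm] at h1
      exact h1
    · have h2 := huniq (σ.symm ⁻¹' U') ⟨hU'.1.preimage σ.symm.continuous, by
        ext y
        have h1 := Set.ext_iff.1 hU'.2 (α.inv.base y)
        rw [Set.mem_preimage] at h1
        rw [Set.mem_preimage, Set.mem_preimage, Set.mem_preimage, ← hinv' y, hcomm,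
          Homeomorph.symm_apply_apply, hinv']
        exact h1⟩
      rw [← h2, ← Set.preimage_comp]
      simp
  · intro h B _ _ hB
    have hfin : IsFinite (Spec.map (CommRingCat.ofHom (algebraMap A B))) := by
      rw [IsFinite.SpecMap_iff]; exact RingHom.finite_algebraMap.2 hB
    exact (key B).1 (h _ _ hfin)

end Groth.Agent.S17971
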