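import Groth.Statements.S17973
import Mathlib.RingTheory.Etale.Locus
import Mathlib.RingTheory.Localization.Ideal
import Mathlib.RingTheory.MvPolynomial.Localization
import Mathlib
-- import your own Groth.Agent.* helpers here

set_option autoImplicit false
set_option backward.isDefEq.respectTransparency false
set_option maxHeartbeats 1000000
universe u
open EGA4loc

namespace Groth.Agent.S17973

/-- Let A be a local ring, B a local ring which is a local-etale A-algebra (isomorphic over A to the
localization of an etale A-algebra at a prime ideal lying over the maximal ideal of A), and C a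
local-etale B-algebra, regarded as an A-algebra through B. Then C is a local-etale A-algebra. -/
theorem result (A : Type u) [CommRing A] [IsLocalRing A]
    (B : Type u) [CommRing B] [IsLocalRing B] [Algebra A B]
    (C : Type u) [CommRing C] [Algebra B C] [Algebra A C] [IsScalarTower A B C]
    (hB : EGA4loc.IsEssentiallyEtale A B) (hC : EGA4loc.IsEssentiallyEtale B C) :
    EGA4loc.IsEssentiallyEtale A C := by
  classical
  obtain ⟨A', _, _, q, _, hA', hq, ⟨e⟩⟩ := hB
  obtain ⟨B', _, _, r, _, hB', hr, ⟨e'⟩⟩ := hC
  letI : Algebra A' B := (e.symm.toRingEquiv.toRingHom.comp (algebraMap A' (Localization.AtPrime q))).toAlgebra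
  haveI : IsScalarTower A A' B := IsScalarTower.of_algebraMap_eq fun a => by
    show _ = e.symm (algebraMap A' (Localization.AtPrime q) (algebraMap A A' a))
    rw [← IsScalarTower.algebraMap_apply A A' (Localization.AtPrime q), e.symm.commutes]
  let eA' : Localization.AtPrime q ≃ₐ[A'] B :=
    { e.symm.toRingEquiv with commutes' := fun _ => rfl }
  haveI : IsLocalization q.primeCompl B :=
    IsLocalization.isLocalization_of_algEquiv q.primeCompl eA'
  letI : Algebra B' C := (e'.symm.toRingEquiv.toRingHom.comp (algebraMap B' (Localization.AtPrime r))).toAlgebra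
  haveI : IsScalarTower B B' C := IsScalarTower.of_algebraMap_eq fun a => by
    show _ = e'.symm (algebraMap B' (Localization.AtPrime r) (algebraMap B B' a))
    rw [← IsScalarTower.algebraMap_apply B B' (Localization.AtPrime r), e'.symm.commutes]
  let eB' : Localization.AtPrime r ≃ₐ[B'] C :=
    { e'.symm.toRingEquiv with commutes' := fun _ => rfl }
  haveI : IsLocalization r.primeCompl C :=
    IsLocalization.isLocalization_of_algEquiv r.primeCompl eB'
  haveI : Algebra.FormallyEtale A' B := Algebra.FormallyEtale.of_isLocalization q.primeCompl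
  haveI : Algebra.FormallyEtale B' C := Algebra.FormallyEtale.of_isLocalization r.primeCompl
  haveI : Algebra.FormallyEtale A B := Algebra.FormallyEtale.comp A A' B
  haveI : Algebra.FormallyEtale B C := Algebra.FormallyEtale.comp B B' C
  haveI : Algebra.FormallyEtale A C := Algebra.FormallyEtale.comp A B C
  obtain ⟨n, π, hπ, hker⟩ := (inferInstance : Algebra.FinitePresentation B B').out
  let P := MvPolynomial (Fin n) A'
  letI : Algebra P (MvPolynomial (Fin n) B) := (MvPolynomial.map (algebraMap A' B)).toAlgebra
  haveI : IsLocalization (q.primeCompl.map (MvPolynomial.C (σ := Fin n))) (MvPolynomial (Fin n) B) :=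
    MvPolynomial.isLocalization q.primeCompl B
  let M := q.primeCompl.map (MvPolynomial.C (σ := Fin n))
  obtain ⟨s, hs⟩ := hker
  have hnum : ∀ x : MvPolynomial (Fin n) B, ∃ p : P, ∃ m : M, x * algebraMap P _ (m : P) = algebraMap P _ p :=
    fun x => by
      obtain ⟨⟨p, m⟩, h⟩ := IsLocalization.surj M x
      exact ⟨p, m, h⟩
  choose num den hnd using hnum
  let J : Ideal P := Ideal.span (num '' (s : Set (MvPolynomial (Fin n) B)))
  have hJ : J.map (algebraMap P (MvPolynomial (Fin n) B)) = RingHom.ker π.toRingHom := by
    apply le_antisymm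
    · rw [Ideal.map_span, Ideal.span_le]
      rintro _ ⟨_, ⟨x, hx, rfl⟩, rfl⟩
      rw [← hnd]
      exact Ideal.mul_mem_right _ _ (hs ▸ Ideal.subset_span hx)
    · rw [← hs]
      refine Ideal.span_le.mpr fun x hx => ?_
      have h1 : algebraMap P _ (num x) ∈ J.map (algebraMap P (MvPolynomial (Fin n) B)) :=
        Ideal.mem_map_of_mem _ (Ideal.subset_span ⟨x, hx, rfl⟩)
      rw [← hnd] at h1
      obtain ⟨w, hw⟩ := (IsLocalization.map_units (MvPolynomial (Fin n) B) (den x)).exists_right_inv
      have := Ideal.mul_mem_right w _ h1
      rwa [mul_assoc, hw, mul_one] at this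
  let D := P ⧸ J
  let g : D →+* B' := Ideal.Quotient.lift J (π.toRingHom.comp (algebraMap P (MvPolynomial (Fin n) B)))
    fun a ha => RingHom.mem_ker.mp (hJ.le (Ideal.mem_map_of_mem _ ha))
  letI : Algebra D B' := g.toAlgebra
  haveI : IsLocalization (M.map (Ideal.Quotient.mk J)) B' :=
    IsLocalization.of_surjective (S := MvPolynomial (Fin n) B) (M := M) (Ideal.Quotient.mk J) Ideal.Quotient.mk_surjective π.toRingHom hπ
      (RingHom.ext fun x => rfl) (by rw [Ideal.mk_ker, hJ])
  letI : Algebra D C := ((algebraMap B' C).comp g).toAlgebra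
  haveI : IsScalarTower D B' C := IsScalarTower.of_algebraMap_eq fun d => rfl
  haveI : IsScalarTower A D C := IsScalarTower.of_algebraMap_eq (R := A) (S := D) (A := C) fun a => by
    show algebraMap A C a = algebraMap B' C (π (MvPolynomial.map (algebraMap A' B) (algebraMap A P a)))
    rw [MvPolynomial.algebraMap_apply, MvPolynomial.map_C, ← IsScalarTower.algebraMap_apply A A' B,
      ← MvPolynomial.algebraMap_eq, π.commutes, ← IsScalarTower.algebraMap_apply B B' C,
      ← IsScalarTower.algebraMap_apply A B C]
  let Q := r.comap (algebraMap D B')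
  haveI hQ : IsLocalization.AtPrime C Q :=
    IsLocalization.isLocalization_isLocalization_atPrime_isLocalization (M.map (Ideal.Quotient.mk J)) _ r
  let eC : Localization.AtPrime Q ≃ₐ[A] C :=
    (IsLocalization.algEquiv Q.primeCompl (Localization.AtPrime Q) C).restrictScalars A
  haveI : Algebra.IsEtaleAt A Q := Algebra.FormallyEtale.of_equiv eC.symm
  haveI : Algebra.FinitePresentation A P := inferInstance
  haveI : Algebra.FinitePresentation A D := Algebra.FinitePresentation.quotient
    (Submodule.fg_span (s.finite_toSet.image num))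
  obtain ⟨f, hf, hE⟩ := Algebra.exists_etale_of_isEtaleAt (R := A) Q
  letI : Algebra (Localization.Away f) C :=
    (IsLocalization.Away.lift f (g := algebraMap D C) (IsLocalization.map_units C (⟨f, hf⟩ : Q.primeCompl))).toAlgebra
  haveI : IsScalarTower D (Localization.Away f) C := IsScalarTower.of_algebraMap_eq fun d =>
    (IsLocalization.Away.lift_eq f _ d).symm
  haveI : IsScalarTower A (Localization.Away f) C := IsScalarTower.to₁₃₄ A D (Localization.Away f) C
  let Q' := Q.map (algebraMap D (Localization.Away f))
  have hdisj : Disjoint (Submonoid.powers f : Set D) (Q : Set D) := Set.disjoint_left.mpr fun x hx hx' => by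
    obtain ⟨k, rfl⟩ := hx
    exact hf ((inferInstance : Q.IsPrime).mem_of_pow_mem k hx')
  haveI : Q'.IsPrime := IsLocalization.isPrime_of_isPrime_disjoint (Submonoid.powers f) _ Q inferInstance hdisj
  have hQc : Q'.comap (algebraMap D (Localization.Away f)) = Q :=
    IsLocalization.under_map_of_isPrime_disjoint (Submonoid.powers f) _ inferInstance hdisj
  haveI : IsLocalization (Q.primeCompl.map (algebraMap D (Localization.Away f))) C :=
    IsLocalization.isLocalization_of_submonoid_le (Localization.Away f) C (Submonoid.powers f) Q.primeCompl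
      (Submonoid.powers_le.mpr hf)
  have hle : Q.primeCompl.map (algebraMap D (Localization.Away f)) ≤ Q'.primeCompl := by
    rintro _ ⟨x, hx, rfl⟩ h
    exact hx (hQc ▸ h : x ∈ Q)
  haveI : IsLocalization.AtPrime C Q' :=
    IsLocalization.isLocalization_of_is_exists_mul_mem (S := C) (M := Q.primeCompl.map (algebraMap D (Localization.Away f))) (N := Q'.primeCompl) hle
      fun z => by
        obtain ⟨⟨x, m⟩, hx⟩ := IsLocalization.surj (Submonoid.powers f) (z : Localization.Away f)
        refine ⟨algebraMap D _ (m : D), x, fun hxQ => ?_, ?_⟩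
        · have h' : algebraMap D (Localization.Away f) x ∈ Q' := Ideal.mem_map_of_mem _ hxQ
          rw [← hx] at h'
          rcases (inferInstance : Q'.IsPrime).mem_or_mem h' with h' | h'
          · exact z.2 h'
          · exact Set.disjoint_left.mp hdisj m.2 (hQc ▸ h' : (m : D) ∈ Q)
        · exact hx.symm.trans (mul_comm _ _)
  refine ⟨Localization.Away f, _, _, Q', inferInstance, hE, ?_,
    ⟨((IsLocalization.algEquiv Q'.primeCompl (Localization.AtPrime Q') C).restrictScalars A).symm⟩⟩
  rw [IsScalarTower.algebraMap_eq A D (Localization.Away f), ← Ideal.comap_comap, hQc, Ideal.comap_comap]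
  have h1 : g.comp (algebraMap A D) = (algebraMap B B').comp ((algebraMap A' B).comp (algebraMap A A')) :=
    RingHom.ext fun a => by
      show π (MvPolynomial.map (algebraMap A' B) (algebraMap A P a)) = _
      rw [MvPolynomial.algebraMap_apply, MvPolynomial.map_C, ← MvPolynomial.algebraMap_eq, π.commutes]
      rfl
  show r.comap (g.comp (algebraMap A D)) = _
  rw [h1, ← Ideal.comap_comap, ← Ideal.comap_comap, hr,
    show (IsLocalRing.maximalIdeal B).comap (algebraMap A' B) = q from IsLocalization.AtPrime.under_maximalIdeal B q, hq]

end Groth.Agent.S17973
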