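import Groth.Statements.S17974
import Groth.Agent.Hensel.Lift
-- import your own Groth.Agent.* helpers here

set_option autoImplicit false
universe u
open Unram

namespace Groth.Agent.S17974

/-- Let A be a commutative ring, B an unramified A-algebra (formally unramified and of finite type), C
an A-algebra, p a prime ideal of C, and u, v : B → C two A-algebra homomorphisms which agree after
composition with C → C/p. Then there is an element f of C not in p such that u and v agree after
composition with the localization map C → C[1/f]. -/
theorem result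
    (A : Type u) [CommRing A] (B : Type u) [CommRing B] [Algebra A B]
    [Algebra.FormallyUnramified A B] [Algebra.FiniteType A B]
    (C : Type u) [CommRing C] [Algebra A C] (p : Ideal C) [p.IsPrime]
    (u v : B →ₐ[A] C)
    (huv : (Ideal.Quotient.mk p).comp u.toRingHom = (Ideal.Quotient.mk p).comp v.toRingHom) :
    ∃ f : C, f ∉ p ∧
      (algebraMap C (Localization.Away f)).comp u.toRingHom =
        (algebraMap C (Localization.Away f)).comp v.toRingHom := by
  classical
  let L := Localization.AtPrime p
  let π := IsScalarTower.toAlgHom A C L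
  have hmem : ∀ x, u x - v x ∈ p := fun x => Ideal.Quotient.eq.1 (RingHom.congr_fun huv x)
  have hL : π.comp u = π.comp v := by
    refine Groth.Agent.Hensel.algHom_unique (A := L) (I := IsLocalRing.maximalIdeal L)
      (le_sInf fun M hM => (IsLocalRing.eq_maximalIdeal hM.2).ge) fun x => ?_
    rw [← Localization.AtPrime.map_eq_maximalIdeal]
    show algebraMap C L (u x) - algebraMap C L (v x) ∈ _
    rw [← map_sub]
    exact Ideal.mem_map_of_mem _ (hmem x)
  obtain ⟨s, hs⟩ := (inferInstance : Algebra.FiniteType A B).out
  have hk : ∀ b : B, ∃ t : C, t ∉ p ∧ t * (u b - v b) = 0 := fun b => by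
    have h0 : algebraMap C L (u b - v b) = 0 := by
      rw [map_sub, sub_eq_zero]
      exact AlgHom.congr_fun hL b
    obtain ⟨⟨t, ht⟩, htx⟩ := (IsLocalization.map_eq_zero_iff p.primeCompl L _).1 h0
    exact ⟨t, ht, htx⟩
  choose t ht htz using hk
  let f := ∏ b ∈ s, t b
  refine ⟨f, fun hf => ?_, ?_⟩
  · obtain ⟨b, -, hb⟩ := (Ideal.IsPrime.prod_mem_iff (hp := ‹p.IsPrime›)).1 hf
    exact ht b hb
  · let π' := IsScalarTower.toAlgHom A C (Localization.Away f)
    have key : π'.comp u = π'.comp v := AlgHom.ext_of_adjoin_eq_top hs fun b hb => by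
      show algebraMap C (Localization.Away f) (u b) = algebraMap C _ (v b)
      rw [← sub_eq_zero, ← map_sub, IsLocalization.map_eq_zero_iff (Submonoid.powers f)]
      refine ⟨⟨f, Submonoid.mem_powers f⟩, ?_⟩
      show f * (u b - v b) = 0
      simp only [f]
      rw [← Finset.mul_prod_erase s t hb, mul_comm (t b), mul_assoc, htz, mul_zero]
    exact congrArg AlgHom.toRingHom key

end Groth.Agent.S17974
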