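import Groth.Statements.S17975
import Mathlib

set_option autoImplicit false
universe u
open Hensel

namespace Groth.Agent.S17975

/-- Let A be a local ring with maximal ideal m and residue field k, C a commutative A-algebra which is
finitely generated as an A-module, Q₀ a monic polynomial of degree n over k, e an A-algebra
isomorphism from C/mC to k[T]/(Q₀), and x an element of C whose class is sent by e to the class of
T. Then x generates C as an A-algebra, and x is a root of a monic polynomial Q over A of degree n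
whose reduction modulo m equals Q₀. -/
theorem result
    (A : Type u) [CommRing A] [IsLocalRing A] (C : Type u) [CommRing C] [Algebra A C] [Module.Finite A C]
    (Q₀ : Polynomial (IsLocalRing.ResidueField A)) (hQ₀ : Q₀.Monic)
    (e : (C ⧸ Ideal.map (algebraMap A C) (IsLocalRing.maximalIdeal A)) ≃ₐ[A] AdjoinRoot Q₀)
    (x : C) (hx : e (Ideal.Quotient.mk (Ideal.map (algebraMap A C) (IsLocalRing.maximalIdeal A)) x) = AdjoinRoot.root Q₀) :
    Algebra.adjoin A {x} = ⊤ ∧
      ∃ Q : Polynomial A, Q.Monic ∧ Q.natDegree = Q₀.natDegree ∧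
        Polynomial.map (IsLocalRing.residue A) Q = Q₀ ∧ Polynomial.aeval x Q = 0 := by
  classical
  let m := IsLocalRing.maximalIdeal A
  let J := Ideal.map (algebraMap A C) m
  have key : ∀ P : Polynomial A, e (Ideal.Quotient.mk J (Polynomial.aeval x P)) =
      AdjoinRoot.mk Q₀ (P.map (IsLocalRing.residue A)) := by
    intro P
    rw [show Ideal.Quotient.mk J (Polynomial.aeval x P) = Ideal.Quotient.mkₐ A J (Polynomial.aeval x P)
      from rfl, ← Polynomial.aeval_algHom_apply, Ideal.Quotient.mkₐ_eq_mk, ← Polynomial.aeval_algHom_apply,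
      hx, ← AdjoinRoot.aeval_eq, ← IsLocalRing.ResidueField.algebraMap_eq,
      Polynomial.aeval_map_algebraMap]
  obtain ⟨G, hG, hGd, hGm⟩ := Polynomial.lifts_and_natDegree_eq_and_monic
    ((Polynomial.mem_lifts Q₀).2 (Polynomial.map_surjective _ IsLocalRing.residue_surjective Q₀)) hQ₀
  let n := Q₀.natDegree
  let v : Fin n → C := fun i => x ^ (i : ℕ)
  have hspan : Submodule.span A (Set.range v) = ⊤ := by
    refine top_le_iff.1 (Submodule.le_of_le_smul_of_le_jacobson_bot (R := A) Module.Finite.fg_top
      (IsLocalRing.maximalIdeal_le_jacobson ⊥) ?_)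
    intro c _
    obtain ⟨P₀, hP₀⟩ := AdjoinRoot.mk_surjective (e (Ideal.Quotient.mk J c))
    obtain ⟨P, rfl⟩ := Polynomial.map_surjective _ IsLocalRing.residue_surjective P₀
    have hmod : (P.map (IsLocalRing.residue A)) %ₘ Q₀ = (P %ₘ G).map (IsLocalRing.residue A) := by
      rw [Polynomial.map_modByMonic _ hGm, hG]
    have h1 : Ideal.Quotient.mk J c = Ideal.Quotient.mk J (Polynomial.aeval x (P %ₘ G)) := by
      apply e.injective
      rw [key, ← hmod, ← hP₀, AdjoinRoot.mk_eq_mk]
      exact ⟨_, eq_sub_of_add_eq' (Polynomial.modByMonic_add_div (P.map (IsLocalRing.residue A)) Q₀) |>.symm⟩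
    have h2 : Polynomial.aeval x (P %ₘ G) ∈ Submodule.span A (Set.range v) := by
      by_cases hG1 : G = 1
      · rw [hG1, Polynomial.modByMonic_one, map_zero]
        exact zero_mem _
      have hd : (P %ₘ G).natDegree < n := (Polynomial.natDegree_modByMonic_lt P hGm hG1).trans_eq hGd
      rw [Polynomial.aeval_eq_sum_range' hd]
      exact sum_mem fun i hi => Submodule.smul_mem _ _
        (Submodule.subset_span ⟨⟨i, Finset.mem_range.1 hi⟩, rfl⟩)
    rw [show c = Polynomial.aeval x (P %ₘ G) + (c - Polynomial.aeval x (P %ₘ G)) by ring]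
    refine Submodule.add_mem_sup h2 ?_
    rw [Ideal.smul_top_eq_map]
    exact Ideal.Quotient.eq.1 h1
  refine ⟨eq_top_iff.2 fun c _ => ?_, ?_⟩
  · have hle : Submodule.span A (Set.range v) ≤ (Algebra.adjoin A {x}).toSubmodule :=
      Submodule.span_le.2 (Set.range_subset_iff.2 fun i => pow_mem (Algebra.self_mem_adjoin_singleton A x) _)
    exact hle (hspan ▸ trivial)
  · have hmem : Polynomial.aeval x G ∈ Submodule.span A (Set.range v) := hspan ▸ trivial
    obtain ⟨a, ha⟩ := (Submodule.mem_span_range_iff_exists_fun A).1 hmem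
    let S : Polynomial A := ∑ i : Fin n, Polynomial.C (a i) * Polynomial.X ^ (i : ℕ)
    have hS : S.degree < (n : WithBot ℕ) := by
      refine (Polynomial.degree_sum_le _ _).trans_lt ((Finset.sup_lt_iff (WithBot.bot_lt_coe n)).2 fun i _ => ?_)
      exact (Polynomial.degree_C_mul_X_pow_le _ _).trans_lt (Nat.cast_lt.2 i.2)
    have hGdeg : G.degree = (n : WithBot ℕ) := by
      rw [Polynomial.degree_eq_natDegree hGm.ne_zero, hGd]
    have hlt : S.degree < G.degree := hGdeg.symm ▸ hS
    have haev : Polynomial.aeval x (G - S) = 0 := by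
      simp [S, ← ha, v, Algebra.smul_def]
    refine ⟨G - S, hGm.sub_of_left hlt, ?_, ?_, haev⟩
    · rw [Polynomial.natDegree_eq_of_degree_eq (Polynomial.degree_sub_eq_left_of_degree_lt hlt), hGd]
    · have h0 : AdjoinRoot.mk Q₀ ((G - S).map (IsLocalRing.residue A)) = 0 := by
        rw [← key, haev, map_zero, map_zero]
      rw [Polynomial.map_sub, hG, map_sub, AdjoinRoot.mk_self, zero_sub, neg_eq_zero,
        AdjoinRoot.mk_eq_zero] at h0
      rw [Polynomial.map_sub, hG, sub_eq_self]
      by_contra hne
      have := Polynomial.degree_le_of_dvd h0 hne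
      rw [Polynomial.degree_eq_natDegree hQ₀.ne_zero] at this
      exact absurd (this.trans Polynomial.degree_map_le) (not_le.2 hS)

end Groth.Agent.S17975
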