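import Groth.Statements.S17976
import Groth.Agent.HensFinite.Basic
import Groth.Agent.PairHens.Fp

set_option autoImplicit false
universe u
open Hensel

namespace Groth.Agent.S17976

open TensorProduct PairHens in
theorem exists_finset_range {A H : Type u} [CommRing A] [CommRing H] [Algebra A H] (P : Type u) [CommRing P]
    [Algebra A P] (y : H ⊗[A] P) :
    ∃ s : Finset H, ∀ (S : Type u) [CommRing S] [Algebra A S] (φ : S →ₐ[A] H), (s : Set H) ⊆ Set.range φ →
      y ∈ Set.range (Algebra.TensorProduct.map φ (AlgHom.id A P)) := by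
  classical
  induction y using TensorProduct.induction_on with
  | zero => exact ⟨∅, fun S _ _ φ _ => ⟨0, map_zero _⟩⟩
  | tmul h p =>
    refine ⟨{h}, fun S _ _ φ hs => ?_⟩
    obtain ⟨s, rfl⟩ := hs (Finset.mem_singleton_self h)
    exact ⟨s ⊗ₜ p, by simp⟩
  | add x y hx hy =>
    obtain ⟨s, hs⟩ := hx
    obtain ⟨t, ht⟩ := hy
    refine ⟨s ∪ t, fun S _ _ φ h => ?_⟩
    rw [Finset.coe_union, Set.union_subset_iff] at h
    obtain ⟨a, rfl⟩ := hs S φ h.1
    obtain ⟨b, rfl⟩ := ht S φ h.2
    exact ⟨a + b, map_add _ _ _⟩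

open TensorProduct PairHens in
theorem exists_kill {A : Type u} [CommRing A] {I : Ideal A} {S : Type u} [CommRing S] [Algebra A S]
    [Algebra.Etale A S] (φ : S →ₐ[A] Hz A I) (n : ℕ) (z : S ⊗[A] MvPolynomial (Fin n) A)
    (hz : Algebra.TensorProduct.map φ (AlgHom.id A _) z = 0) :
    ∃ t : S, IsUnit (εH A I (φ t)) ∧ (t ⊗ₜ[A] (1 : MvPolynomial (Fin n) A)) * z = 0 := by
  classical
  let b := MvPolynomial.basisMonomials (Fin n) A
  let c := TensorProduct.equivFinsuppOfBasisRight (M := S) b
  have hcoord : ∀ d, φ (c z d) = 0 := by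
    intro d
    have key : ∀ w, TensorProduct.equivFinsuppOfBasisRight (M := Hz A I) b
        (Algebra.TensorProduct.map φ (AlgHom.id A _) w) d = φ (c w d) := by
      intro w
      induction w using TensorProduct.induction_on with
      | zero => simp
      | tmul a p => simp [c, Algebra.smul_def]
      | add x y hx hy => simp only [map_add, Finsupp.add_apply, hx, hy]
    rw [← key, hz, map_zero, Finsupp.zero_apply]
  choose T hT hT0 using fun d => exists_killed φ (c z d) (hcoord d)
  refine ⟨∏ d ∈ (c z).support, T d, ?_, ?_⟩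
  · rw [map_prod, map_prod]
    exact IsUnit.prod_iff.2 fun d _ => hT d
  · refine c.injective (Finsupp.ext fun d => ?_)
    have hlin : ∀ (s : S) (w : S ⊗[A] MvPolynomial (Fin n) A), c ((s ⊗ₜ[A] 1) * w) d = s * c w d := by
      intro s w
      induction w using TensorProduct.induction_on with
      | zero => simp
      | tmul a p => simp [c, Algebra.smul_def]; ring
      | add x y hx hy => simp only [mul_add, map_add, Finsupp.add_apply, hx, hy]
    rw [hlin, map_zero, Finsupp.zero_apply]
    by_cases hd : d ∈ (c z).support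
    · obtain ⟨r, hr⟩ := Finset.dvd_prod_of_mem T hd
      rw [hr, mul_right_comm, hT0, zero_mul]
    · rw [Finsupp.notMem_support_iff.1 hd, mul_zero]

open TensorProduct PairHens in
theorem main {A : Type u} [CommRing A] (I : Ideal A) (B : Type u) [CommRing B] [Algebra A B]
    [Algebra.FiniteType A B] (hfin : Module.Finite A (B ⧸ Ideal.map (algebraMap A B) I)) :
    ∃ (A' : Type u) (_ : CommRing A') (_ : Algebra A A') (_ : Algebra.Etale A A') (e : A' ⊗[A] B)
      (θ : (A' ⊗[A] B) →+* B ⧸ I.map (algebraMap A B)),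
      Function.Bijective (Ideal.quotientMap (I.map (algebraMap A A')) (algebraMap A A') Ideal.le_comap_map) ∧
      Module.Finite A' (Localization.Away e) ∧ θ e = 1 ∧ (∀ b : B, θ (1 ⊗ₜ b) = Ideal.Quotient.mk _ b) ∧
      Function.Surjective (algebraMap (A' ⊗[A] B) (Localization.Away e)) := by
  classical
  obtain ⟨n, π, hπ⟩ := Algebra.FiniteType.iff_quotient_mvPolynomial''.1 ‹Algebra.FiniteType A B›
  let H := Hz A I
  let J : Ideal H := I.map (algebraMap A H)
  have hH := PairHens.isPairHenselization A I
  haveI : HenselianRing H J := hH.1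
  let T := H ⊗[A] B
  let ω : T →ₐ[A] B ⧸ I.map (algebraMap A B) := Algebra.TensorProduct.lift
    ((Ideal.quotientMapₐ _ (Algebra.ofId A B) Ideal.le_comap_map).comp (εH A I))
    (Ideal.Quotient.mkₐ A _) (fun _ _ => Commute.all _ _)
  haveI : Module.Finite H (T ⧸ J.map (algebraMap H T)) := by
    let g : B →ₐ[A] T ⧸ J.map (algebraMap H T) :=
      (Ideal.Quotient.mkₐ A _).comp Algebra.TensorProduct.includeRight
    let gq : (B ⧸ I.map (algebraMap A B)) →ₐ[A] T ⧸ J.map (algebraMap H T) :=
      Ideal.Quotient.liftₐ _ g (by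
        refine fun b hb => ?_
        refine (Ideal.map_le_iff_le_comap.2 (fun a ha => ?_) : I.map (algebraMap A B) ≤ RingHom.ker g.toRingHom) hb
        show g (algebraMap A B a) = 0
        rw [AlgHom.commutes, IsScalarTower.algebraMap_apply A H (T ⧸ J.map (algebraMap H T)),
          IsScalarTower.algebraMap_apply H T (T ⧸ J.map (algebraMap H T)), Ideal.Quotient.algebraMap_eq,
          Ideal.Quotient.eq_zero_iff_mem]
        exact Ideal.mem_map_of_mem _ (Ideal.mem_map_of_mem _ ha))
    obtain ⟨s, hs⟩ := hfin.fg_top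
    refine ⟨⟨s.image gq, Submodule.eq_top_iff'.2 fun x => ?_⟩⟩
    obtain ⟨y, rfl⟩ := Ideal.Quotient.mk_surjective x
    induction y using TensorProduct.induction_on with
    | zero => exact zero_mem _
    | tmul h b =>
      have h1 : Ideal.Quotient.mk (J.map (algebraMap H T)) (h ⊗ₜ[A] b) = h • gq (Ideal.Quotient.mk _ b) := by
        show Ideal.Quotient.mk (J.map (algebraMap H T)) (h ⊗ₜ[A] b) = Ideal.Quotient.mk _ (h • ((1 : H) ⊗ₜ[A] b))
        rw [TensorProduct.smul_tmul', smul_eq_mul, mul_one]
      rw [h1]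
      refine Submodule.smul_mem _ _ ?_
      rw [Finset.coe_image]
      have h2 : Ideal.Quotient.mk _ b ∈ Submodule.span A (s : Set (B ⧸ I.map (algebraMap A B))) :=
        hs ▸ Submodule.mem_top
      exact Submodule.span_le_restrictScalars A H _ (Submodule.span_image gq.toLinearMap ▸ ⟨_, h2, rfl⟩)
    | add x y hx hy => rw [map_add]; exact add_mem hx hy
  obtain ⟨e, he, he1, hefin⟩ := HensFinite.exists_idempotent_finite_away (R := T) J
  have hωe : ω e = 1 := by
    have h1 : J.map (algebraMap H T) ≤ RingHom.ker ω.toRingHom := by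
      rw [Ideal.map_map, ← IsScalarTower.algebraMap_eq, Ideal.map_le_iff_le_comap]
      intro a ha
      show ω (algebraMap A T a) = 0
      rw [AlgHom.commutes, IsScalarTower.algebraMap_apply A B, Ideal.Quotient.algebraMap_eq,
        Ideal.Quotient.eq_zero_iff_mem]
      exact Ideal.mem_map_of_mem _ ha
    have h2 : ω (e - 1) = 0 := h1 he1
    rwa [map_sub, map_one, sub_eq_zero] at h2
  have hint : ∀ j : Fin n, ∃ (Pj : Polynomial H) (N : ℕ), Pj.Monic ∧
      e ^ N * Polynomial.aeval ((1 : H) ⊗ₜ[A] π (MvPolynomial.X j)) Pj = 0 := by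
    intro j
    obtain ⟨Pj, hm, hP⟩ := Algebra.IsIntegral.isIntegral (R := H)
      (algebraMap T (Localization.Away e) ((1 : H) ⊗ₜ[A] π (MvPolynomial.X j)))
    rw [← Polynomial.aeval_def, Polynomial.aeval_algebraMap_apply,
      IsLocalization.map_eq_zero_iff (Submonoid.powers e) (Localization.Away e)] at hP
    obtain ⟨⟨_, N, rfl⟩, hN⟩ := hP
    exact ⟨Pj, N, hm, hN⟩
  choose Pj Nj hPm hPe using hint
  let q : H ⊗[A] MvPolynomial (Fin n) A →ₐ[A] T := Algebra.TensorProduct.map (AlgHom.id A H) π
  have hq : Function.Surjective q := TensorProduct.map_surjective (fun h => ⟨h, rfl⟩) hπ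
  obtain ⟨E, hE⟩ := hq e
  let W : Option (Fin n) → H ⊗[A] MvPolynomial (Fin n) A := fun o => o.elim (E ^ 2 - E)
    fun j => E ^ Nj j * Polynomial.aeval ((1 : H) ⊗ₜ[A] MvPolynomial.X j) (Pj j)
  have hW : ∀ o, W o ∈ (RingHom.ker π).map (Algebra.TensorProduct.includeRight :
      MvPolynomial (Fin n) A →ₐ[A] H ⊗[A] MvPolynomial (Fin n) A) := by
    intro o
    rw [← Algebra.TensorProduct.lTensor_ker π hπ]
    show q (W o) = 0
    rcases o with _ | j
    · simp only [W, Option.elim, map_sub, map_pow, hE]
      rw [pow_two, he.eq, sub_self]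
    · let qH : H ⊗[A] MvPolynomial (Fin n) A →ₐ[H] T := Algebra.TensorProduct.map (AlgHom.id H H) π
      show qH (E ^ Nj j * Polynomial.aeval ((1 : H) ⊗ₜ[A] MvPolynomial.X j) (Pj j)) = 0
      rw [map_mul, map_pow, show qH E = e from hE, ← Polynomial.aeval_algHom_apply]
      exact hPe j
  have hW' : ∀ o, ∃ (m : ℕ) (r : Fin m → H ⊗[A] MvPolynomial (Fin n) A) (k : Fin m → RingHom.ker π),
      W o = ∑ i, r i * ((1 : H) ⊗ₜ[A] (k i).1) := by
    intro o
    have h1 := hW o
    rw [Ideal.map, Ideal.span, Submodule.mem_span_set'] at h1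
    obtain ⟨m, r, g, hg⟩ := h1
    choose k hk hkg using fun i => (g i).2
    refine ⟨m, r, fun i => ⟨k i, hk i⟩, ?_⟩
    rw [← hg]
    exact Finset.sum_congr rfl fun i _ => by rw [smul_eq_mul, ← hkg i]; rfl
  choose m r k hrk using hW'
  obtain ⟨sE, hsE⟩ := exists_finset_range _ E
  choose sr hsr using fun o i => exists_finset_range _ (r o i)
  let s : Finset H := sE ∪ (Finset.univ.biUnion fun o => Finset.univ.biUnion fun i => sr o i) ∪
    (Finset.univ.biUnion fun j => (Finset.range ((Pj j).natDegree + 1)).image (Pj j).coeff)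
  obtain ⟨S, _, _, _, -, φ, hφ⟩ := exists_nbhd_finset hH s
  let M := Algebra.TensorProduct.map φ (AlgHom.id A (MvPolynomial (Fin n) A))
  obtain ⟨E', hE'⟩ := hsE S φ (Set.Subset.trans (by intro x hx; simp [s, Finset.mem_coe.1 hx]) hφ)
  have hr' : ∀ o i, ∃ r', M r' = r o i := fun o i => hsr o i S φ (Set.Subset.trans (by
    intro x hx
    simp only [s, Finset.coe_union, Set.mem_union, Finset.mem_coe, Finset.mem_biUnion, Finset.mem_univ, true_and]
    exact Or.inl (Or.inr ⟨o, i, hx⟩)) hφ)
  choose r' hr' using hr'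
  have hP' : ∀ j, ∃ Q : Polynomial S, Q.Monic ∧ Q.map φ.toRingHom = Pj j := by
    intro j
    have h1 : Pj j ∈ Polynomial.lifts φ.toRingHom := by
      rw [Polynomial.lifts_iff_coeff_lifts]
      intro i
      by_cases hi : i ≤ (Pj j).natDegree
      · refine hφ ?_
        simp only [s, Finset.coe_union, Set.mem_union, Finset.mem_coe, Finset.mem_biUnion, Finset.mem_univ, true_and]
        exact Or.inr ⟨j, Finset.mem_image_of_mem _ (Finset.mem_range.2 (by omega))⟩
      · exact ⟨0, by rw [map_zero, Polynomial.coeff_eq_zero_of_natDegree_lt (by omega)]⟩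
    obtain ⟨Q, hQ, -, hQm⟩ := Polynomial.lifts_and_natDegree_eq_and_monic h1 (hPm j)
    exact ⟨Q, hQm, hQ⟩
  choose Q hQm hQ using hP'
  let W' : Option (Fin n) → S ⊗[A] MvPolynomial (Fin n) A := fun o => o.elim (E' ^ 2 - E')
    fun j => E' ^ Nj j * Polynomial.aeval ((1 : S) ⊗ₜ[A] MvPolynomial.X j) (Q j)
  let D : Option (Fin n) → S ⊗[A] MvPolynomial (Fin n) A := fun o =>
    W' o - ∑ i, r' o i * ((1 : S) ⊗ₜ[A] (k o i).1)
  have hMW : ∀ o, M (W' o) = W o := by
    rintro (_ | j)
    · simp [W', W, M, hE']
    · have h2 : M (Polynomial.aeval ((1 : S) ⊗ₜ[A] MvPolynomial.X j) (Q j)) =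
          Polynomial.aeval ((1 : H) ⊗ₜ[A] MvPolynomial.X j) (Pj j) := by
        rw [← hQ j, Polynomial.aeval_def, Polynomial.aeval_def, Polynomial.eval₂_map]
        show M.toRingHom _ = _
        rw [Polynomial.hom_eval₂]
        congr 1
        simp [M]
      simp only [W', W, Option.elim, map_mul, map_pow, h2]
      rw [show M E' = E from hE']
  have hD : ∀ o, M (D o) = 0 := fun o => by
    simp only [D, map_sub, map_sum, map_mul, hMW, hr']
    rw [hrk o, sub_eq_zero]
    exact Finset.sum_congr rfl fun i _ => by simp [M]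
  choose tk htk htk0 using fun o => exists_kill φ n (D o) (hD o)
  obtain ⟨v, hv, hdvd, hbij⟩ := exists_away ((εH A I).comp φ) (∏ o, tk o) (by
    rw [map_prod]; exact IsUnit.prod_iff.2 fun o _ => htk o)
  let A' := Localization.Away v
  haveI : Algebra.Etale A A' :=
    haveI := Algebra.Etale.of_isLocalizationAway (R := S) (A := A') v
    Algebra.Etale.comp A S _
  let g : S →ₐ[A] A' := IsScalarTower.toAlgHom A S A'
  let σ : A' →ₐ[A] A ⧸ I := IsLocalization.liftAlgHom (M := Submonoid.powers v) (f := (εH A I).comp φ) (by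
    rintro ⟨_, m, rfl⟩
    rw [map_pow]
    exact hv.pow m)
  have hσ : ∀ x, σ (g x) = εH A I (φ x) := fun x => IsLocalization.lift_eq _ x
  let q' : S ⊗[A] MvPolynomial (Fin n) A →ₐ[A] A' ⊗[A] B := Algebra.TensorProduct.map g π
  have hq'D : ∀ o, q' (D o) = 0 := by
    intro o
    have h1 := congrArg q' (htk0 o)
    rw [map_mul, map_zero] at h1
    have h2 : IsUnit (q' (tk o ⊗ₜ[A] (1 : MvPolynomial (Fin n) A))) := by
      have h3 : IsUnit (g (tk o)) := by
        refine isUnit_of_dvd_unit (map_dvd g ((Finset.dvd_prod_of_mem tk (Finset.mem_univ o)).trans hdvd)) ?_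
        exact IsLocalization.Away.algebraMap_isUnit v
      simpa [q'] using h3.map (Algebra.TensorProduct.includeLeft : A' →ₐ[A] A' ⊗[A] B)
    exact h2.mul_right_eq_zero.1 h1
  have hker : ∀ o, q' (W' o) = 0 := fun o => by
    have h1 := hq'D o
    have h0 : ∀ i, q' ((1 : S) ⊗ₜ[A] (k o i).1) = 0 := fun i => by
      simp [q', show π (k o i).1 = 0 from (k o i).2]
    simpa only [D, map_sub, map_sum, map_mul, h0, mul_zero, Finset.sum_const_zero, sub_zero] using h1
  let e' := q' E'
  have he' : IsIdempotentElem e' := by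
    have h1 := hker none
    simp only [W', Option.elim, map_sub, map_pow, sub_eq_zero] at h1
    show e' * e' = e'
    rw [← pow_two]; exact h1
  have hsurj : Function.Surjective (algebraMap (A' ⊗[A] B) (Localization.Away e')) := by
    intro y
    obtain ⟨x, ⟨_, i, rfl⟩, rfl⟩ := IsLocalization.exists_mk'_eq (.powers e') y
    refine ⟨x, ?_⟩
    rw [eq_comm, IsLocalization.mk'_eq_iff_eq_mul, ← map_mul]
    refine (IsLocalization.eq_iff_exists (Submonoid.powers e') _).mpr ⟨⟨e', 1, pow_one _⟩, ?_⟩
    rcases i with _ | i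
    · simp
    · show e' * x = e' * (x * e' ^ (i + 1))
      rw [pow_succ, mul_comm x, ← mul_assoc, ← mul_assoc]
      rw [show e' * e' ^ i * e' = e' from by rw [mul_comm e' (e' ^ i), mul_assoc, he'.eq, ← pow_succ, he'.pow_succ_eq]]
  let θ : A' ⊗[A] B →ₐ[A] B ⧸ I.map (algebraMap A B) := Algebra.TensorProduct.lift
    ((Ideal.quotientMapₐ _ (Algebra.ofId A B) Ideal.le_comap_map).comp σ)
    (Ideal.Quotient.mkₐ A _) (fun _ _ => Commute.all _ _)
  refine ⟨A', inferInstance, inferInstance, inferInstance, e', θ.toRingHom, hbij, ?_, ?_, fun b => ?_, hsurj⟩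
  · haveI : Algebra.FiniteType A' (Localization.Away e') :=
      Algebra.FiniteType.of_surjective (IsScalarTower.toAlgHom A' (A' ⊗[A] B) (Localization.Away e')) hsurj
    haveI : Algebra.IsIntegral A' (Localization.Away e') := ⟨fun y => by
      obtain ⟨x, rfl⟩ := hsurj y
      induction x using TensorProduct.induction_on with
      | zero => rw [map_zero]; exact isIntegral_zero
      | add x y hx hy => rw [map_add]; exact hx.add hy
      | tmul a b =>
        obtain ⟨p, rfl⟩ := hπ b
        rw [show a ⊗ₜ[A] π p = algebraMap A' (A' ⊗[A] B) a * ((1 : A') ⊗ₜ[A] π p) by simp,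
          map_mul, ← IsScalarTower.algebraMap_apply]
        refine isIntegral_algebraMap.mul ?_
        induction p using MvPolynomial.induction_on with
        | C c =>
          rw [show π (MvPolynomial.C c) = algebraMap A B c from π.commutes c,
            show (1 : A') ⊗ₜ[A] algebraMap A B c = algebraMap A (A' ⊗[A] B) c from
              (Algebra.TensorProduct.includeRight : B →ₐ[A] A' ⊗[A] B).commutes c,
            IsScalarTower.algebraMap_apply A A' (A' ⊗[A] B), ← IsScalarTower.algebraMap_apply]
          exact isIntegral_algebraMap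
        | add p q hp hq => rw [map_add, TensorProduct.tmul_add, map_add]; exact hp.add hq
        | mul_X p j hp =>
          rw [map_mul, show (1 : A') ⊗ₜ[A] (π p * π (MvPolynomial.X j)) =
            ((1 : A') ⊗ₜ[A] π p) * ((1 : A') ⊗ₜ[A] π (MvPolynomial.X j)) by simp, map_mul]
          refine hp.mul ⟨(Q j).map g.toRingHom, (hQm j).map _, ?_⟩
          have h1 := congrArg (algebraMap (A' ⊗[A] B) (Localization.Away e')) (hker (some j))
          simp only [W', Option.elim, map_mul, map_pow, map_zero] at h1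
          have hu : IsUnit (algebraMap (A' ⊗[A] B) (Localization.Away e') (q' E')) :=
            IsLocalization.Away.algebraMap_isUnit e'
          have h2 := (hu.pow (Nj j)).mul_right_eq_zero.1 h1
          rw [Polynomial.eval₂_map]
          rw [← h2, Polynomial.aeval_def]
          show _ = ((algebraMap (A' ⊗[A] B) (Localization.Away e')).comp q'.toRingHom) _
          rw [Polynomial.hom_eval₂]
          congr 1
          · refine RingHom.ext fun x => ?_
            show algebraMap A' (Localization.Away e') (g x) =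
              algebraMap (A' ⊗[A] B) (Localization.Away e') (q' (x ⊗ₜ[A] 1))
            rw [IsScalarTower.algebraMap_apply A' (A' ⊗[A] B) (Localization.Away e'),
              show q' (x ⊗ₜ[A] (1 : MvPolynomial (Fin n) A)) = g x ⊗ₜ[A] (1 : B) by simp [q']]
            rfl
          · simp [q']⟩
    exact Algebra.IsIntegral.finite
  · show θ (q' E') = 1
    rw [← hωe, ← hE, ← hE']
    suffices h : ∀ z, θ (q' z) = ω (q (M z)) from h E'
    intro z
    induction z using TensorProduct.induction_on with
    | zero => simp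
    | add x y hx hy => simp only [map_add, hx, hy]
    | tmul a p =>
      show Ideal.quotientMapₐ _ (Algebra.ofId A B) Ideal.le_comap_map (σ (g a)) * Ideal.Quotient.mk _ (π p) =
        Ideal.quotientMapₐ _ (Algebra.ofId A B) Ideal.le_comap_map (εH A I (φ a)) * Ideal.Quotient.mk _ (π p)
      rw [hσ]
  · show Ideal.quotientMapₐ _ (Algebra.ofId A B) Ideal.le_comap_map (σ 1) * Ideal.Quotient.mk _ b = _
    rw [map_one, map_one]; exact one_mul _

/-- Let A be a commutative ring, I an ideal of A and B an A-algebra of finite type such that B/IB is a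
finite A-module. Then there exist an etale A-algebra A' such that A → A'/IA' is surjective with
kernel I, and a commutative ring C which is an A'-algebra finite over A' and an etale B-algebra,
with compatible A-algebra structures, such that B → C/IC is surjective with kernel IB. In scheme
language: an etale affine neighbourhood S' of Spec (A/I) in Spec A and an etale neighbourhood Z =
Spec C of Spec (B/IB) in Spec B, finite over S', forming a commutative square. -/
theorem result
    (A : Type u) [CommRing A] (I : Ideal A) (B : Type u) [CommRing B] [Algebra A B] [Algebra.FiniteType A B]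
    (hfin : Module.Finite A (B ⧸ Ideal.map (algebraMap A B) I)) :
    ∃ (A' : Type u) (_ : CommRing A') (_ : Algebra A A') (_ : Algebra.Etale A A')
      (C : Type u) (_ : CommRing C) (_ : Algebra A C) (_ : Algebra A' C) (_ : Algebra B C)
      (_ : IsScalarTower A A' C) (_ : IsScalarTower A B C),
      Function.Surjective ((Ideal.Quotient.mk (Ideal.map (algebraMap A A') I)).comp (algebraMap A A')) ∧
      RingHom.ker ((Ideal.Quotient.mk (Ideal.map (algebraMap A A') I)).comp (algebraMap A A')) = I ∧
      Algebra.Etale B C ∧ Module.Finite A' C ∧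
      Function.Surjective ((Ideal.Quotient.mk (Ideal.map (algebraMap A C) I)).comp (algebraMap B C)) ∧
      RingHom.ker ((Ideal.Quotient.mk (Ideal.map (algebraMap A C) I)).comp (algebraMap B C)) =
        Ideal.map (algebraMap A B) I := by
  classical
  open TensorProduct in
  obtain ⟨A', _, _, hEt, e, θ, hbij, hfinC, hθe, hθb, hsurj⟩ := main I B hfin
  letI : Algebra B (A' ⊗[A] B) := Algebra.TensorProduct.rightAlgebra
  haveI : Algebra.Etale B (A' ⊗[A] B) :=
    Algebra.Etale.of_equiv (Algebra.TensorProduct.commRight A B A')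
  haveI : Algebra.Etale (A' ⊗[A] B) (Localization.Away e) := Algebra.Etale.of_isLocalizationAway e
  have hAB : IsScalarTower A B (Localization.Away e) := IsScalarTower.of_algebraMap_eq fun a => by
    show algebraMap A (Localization.Away e) a =
      algebraMap (A' ⊗[A] B) (Localization.Away e) (algebraMap B (A' ⊗[A] B) (algebraMap A B a))
    rw [IsScalarTower.algebraMap_apply A (A' ⊗[A] B) (Localization.Away e)]
    congr 1
    show algebraMap A (A' ⊗[A] B) a = (1 : A') ⊗ₜ[A] algebraMap A B a
    rw [← Algebra.TensorProduct.includeRight_apply, AlgHom.commutes]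
  refine ⟨A', inferInstance, inferInstance, hEt, Localization.Away e, inferInstance, inferInstance, inferInstance,
    inferInstance, inferInstance, hAB, ?_, ?_, Algebra.Etale.comp B (A' ⊗[A] B) _, hfinC, ?_, ?_⟩
  · intro y
    obtain ⟨a, ha⟩ := hbij.2 y
    obtain ⟨a, rfl⟩ := Ideal.Quotient.mk_surjective a
    exact ⟨a, by rw [← ha]; rfl⟩
  · refine le_antisymm (fun a ha => ?_) (fun a ha => ?_)
    · rw [← Ideal.Quotient.eq_zero_iff_mem]
      refine hbij.1 ?_
      rw [map_zero, Ideal.quotientMap_mk]
      exact ha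
    · exact Ideal.Quotient.eq_zero_iff_mem.2 (Ideal.mem_map_of_mem _ ha)
  · intro y
    obtain ⟨y, rfl⟩ := Ideal.Quotient.mk_surjective y
    obtain ⟨x, rfl⟩ := hsurj y
    induction x using TensorProduct.induction_on with
    | zero => exact ⟨0, by simp⟩
    | add x y hx hy =>
      obtain ⟨b, hb⟩ := hx
      obtain ⟨c, hc⟩ := hy
      exact ⟨b + c, by rw [map_add, map_add, map_add, hb, hc]⟩
    | tmul a b =>
      obtain ⟨r, hr⟩ := hbij.2 (Ideal.Quotient.mk _ a)
      obtain ⟨r, rfl⟩ := Ideal.Quotient.mk_surjective r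
      rw [Ideal.quotientMap_mk, Ideal.Quotient.eq] at hr
      refine ⟨algebraMap A B r * b, ?_⟩
      show Ideal.Quotient.mk _ (algebraMap (A' ⊗[A] B) (Localization.Away e) (1 ⊗ₜ[A] (algebraMap A B r * b))) = _
      rw [Ideal.Quotient.eq, ← map_sub]
      have h1 : (1 : A') ⊗ₜ[A] (algebraMap A B r * b) - a ⊗ₜ[A] b =
          (algebraMap A A' r - a) ⊗ₜ[A] b := by
        rw [TensorProduct.sub_tmul, ← Algebra.smul_def, TensorProduct.tmul_smul, TensorProduct.smul_tmul',
          Algebra.algebraMap_eq_smul_one]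
      rw [h1, ← mul_one (algebraMap A A' r - a), ← one_mul b, ← Algebra.TensorProduct.tmul_mul_tmul, map_mul]
      refine Ideal.mul_mem_right _ _ ?_
      have h2 := Ideal.mem_map_of_mem (algebraMap (A' ⊗[A] B) (Localization.Away e))
        (Ideal.mem_map_of_mem (algebraMap A' (A' ⊗[A] B)) hr)
      rw [Ideal.map_map, Ideal.map_map, ← IsScalarTower.algebraMap_eq, ← IsScalarTower.algebraMap_eq] at h2
      exact h2
  · refine le_antisymm (fun b hb => ?_) (Ideal.map_le_iff_le_comap.2 fun a ha => ?_)
    · let Θ : Localization.Away e →+* B ⧸ I.map (algebraMap A B) :=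
        IsLocalization.Away.lift e (g := θ) (by rw [hθe]; exact isUnit_one)
      have hΘ : ∀ x, Θ (algebraMap (A' ⊗[A] B) _ x) = θ x := fun x => IsLocalization.Away.lift_eq e _ x
      have hle : I.map (algebraMap A (Localization.Away e)) ≤ RingHom.ker Θ := by
        rw [Ideal.map_le_iff_le_comap]
        intro a ha
        show Θ (algebraMap A (Localization.Away e) a) = 0
        rw [IsScalarTower.algebraMap_apply A B (Localization.Away e)]
        show Θ (algebraMap (A' ⊗[A] B) _ ((1 : A') ⊗ₜ[A] algebraMap A B a)) = 0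
        rw [hΘ, hθb, Ideal.Quotient.eq_zero_iff_mem]
        exact Ideal.mem_map_of_mem _ ha
      rw [← Ideal.Quotient.eq_zero_iff_mem, ← hθb, ← hΘ]
      exact hle (Ideal.Quotient.eq_zero_iff_mem.1 hb)
    · show Ideal.Quotient.mk _ (algebraMap B (Localization.Away e) (algebraMap A B a)) = 0
      rw [← IsScalarTower.algebraMap_apply, Ideal.Quotient.eq_zero_iff_mem]
      exact Ideal.mem_map_of_mem _ ha

end Groth.Agent.S17976
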