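import Groth.Statements.S1798
import Groth.Agent.FactorOne.Basic

set_option autoImplicit false
universe u
open CategoryTheory AlgebraicGeometry
open LocCoh

namespace Groth.Agent.S1798

open CategoryTheory CategoryTheory.Limits AlgebraicGeometry

open Opposite TopologicalSpace

/-- Cohomology of the underlying abelian sheaves. -/
noncomputable def hm {X : Scheme.{u}} {M N : X.Modules} (φ : M ⟶ N) (p : ℕ) : Coh.HH X M p →+ Coh.HH X N p :=
  Sheaf.H.map ((SheafOfModules.toSheaf X.ringCatSheaf).map φ) p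

lemma hm_add {X : Scheme.{u}} {M N : X.Modules} (φ ψ : M ⟶ N) (p : ℕ) (x : Coh.HH X M p) :
    hm (φ + ψ) p x = hm φ p x + hm ψ p x :=
  (congrArg (fun k => Sheaf.H.map k p x) ((QCohLib.toAbF X).map_add (f := φ) (g := ψ))).trans (Sheaf.H.map_add_apply _ _ x)

lemma hm_sum {X : Scheme.{u}} {M N : X.Modules} {r : ℕ} (φ : Fin r → (M ⟶ N)) (p : ℕ) (x : Coh.HH X M p) :
    hm (∑ j, φ j) p x = ∑ j, hm (φ j) p x := by
  let e : (M ⟶ N) →+ Coh.HH X N p := AddMonoidHom.mk' (fun φ => hm φ p x) fun φ ψ => hm_add φ ψ p x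
  exact map_sum e φ Finset.univ

lemma hm_comp {X : Scheme.{u}} {M N K : X.Modules} (φ : M ⟶ N) (ψ : N ⟶ K) (p : ℕ) (x : Coh.HH X M p) :
    hm (φ ≫ ψ) p x = hm ψ p (hm φ p x) :=
  (congrArg (fun k => Sheaf.H.map k p x) ((QCohLib.toAbF X).map_comp φ ψ)).trans (Sheaf.H.map_comp_apply _ _ x)

lemma hm_smul {X : Scheme.{u}} {M N : X.Modules} (φ : M ⟶ N) (g : Coh.Γtop X) (p : ℕ) (x : Coh.HH X M p) :
    hm φ p (g • x) = g • hm φ p x := by
  show Sheaf.H.map _ p (Sheaf.H.map (Coh.smulAb M g) p x) = Sheaf.H.map (Coh.smulAb N g) p (Sheaf.H.map _ p x)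
  rw [← Sheaf.H.map_comp_apply, ← Sheaf.H.map_comp_apply, ProjCoh.smulAb_natural]

/-- The key step: a power of `f` times an annihilator of the cohomology of `O` kills that of `F`. -/
lemma exists_pow_kill {X : Scheme.{u}} [CompactSpace X] [QuasiSeparatedSpace X] (F : X.Modules)
    (hF : FlatMod.IsFinLocFree F) (f : Γ(X, ⊤)) (hD : IsAffineOpen (X.basicOpen f)) (p : ℕ) :
    ∃ N : ℕ, ∀ g : Coh.Γtop X, (∀ y : Coh.HH X (Coh.structureModule X) p, g • y = 0) →
      ∀ x : Coh.HH X F p, (show Coh.Γtop X from f ^ N) • g • x = 0 := by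
  obtain ⟨N, r, φ, ψ, c, h⟩ := Groth.Agent.FactorOne.exists_factor F hF f hD
  refine ⟨N, fun g hg x => ?_⟩
  show hm (Groth.Agent.FactorOne.mulEnd F (f ^ N)) p (g • x) = 0
  rw [h, hm_comp, hm_sum, Finset.sum_eq_zero fun j _ => ?_, map_zero]
  rw [hm_comp, hm_smul, hg, map_zero]


/-- Let A be a ring, J ⊆ I finitely generated ideals, U the open complement of V(I) in Spec A and p ≥ 0.
If some power of J kills H^p(U, O_U), then for each finite locally free O_U-module F some power of J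
kills H^p(U, F). -/
theorem result (A : Type u) [CommRing A] (J I : Ideal A) (hJI : J ≤ I) (hJ : J.FG) (hI : I.FG) (p n : ℕ) (hO : ∀ a ∈ J ^ n, ∀ x : Coh.HH (↑(LocCoh.puncturedOpen A I)) (Coh.structureModule (↑(LocCoh.puncturedOpen A I))) p, a • x = 0) (F : (↑(LocCoh.puncturedOpen A I) : Scheme.{u}).Modules) (hF : FlatMod.IsFinLocFree F) : ∃ m : ℕ, ∀ a ∈ J ^ m, ∀ x : Coh.HH (↑(LocCoh.puncturedOpen A I)) F p, a • x = 0 := by
  let V := LocCoh.puncturedOpen A I
  let X : Scheme.{u} := ↑V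
  haveI : CompactSpace X := by
    obtain ⟨s, hs⟩ := id hI
    refine isCompact_iff_compactSpace.mp (?_ : IsCompact (SetLike.coe V))
    show IsCompact ((PrimeSpectrum.zeroLocus (R := A) (I : Set A))ᶜ)
    rw [← hs, PrimeSpectrum.zeroLocus_span, ← Set.biUnion_of_singleton (s : Set A), PrimeSpectrum.zeroLocus_iUnion₂,
      Set.compl_iInter₂]
    refine s.finite_toSet.isCompact_biUnion fun a _ => ?_
    rw [← PrimeSpectrum.basicOpen_eq_zeroLocus_compl]
    exact PrimeSpectrum.isCompact_basicOpen a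
  haveI : QuasiSeparatedSpace X := QuasiSeparatedSpace.of_isOpenEmbedding V.2.isOpenEmbedding_subtypeVal
  let φ : A →+* Coh.Γtop X := Coh.toGlobal (X ↘ Spec (CommRingCat.of A))
  let K : Ideal A := Module.annihilator A (Coh.HH X F p)
  have key : ∀ f ∈ I, ∃ N : ℕ, ∀ a ∈ J ^ n, f ^ N * a ∈ K := by
    intro f hf
    have hD : IsAffineOpen (X.basicOpen (show Γ(X, ⊤) from φ f)) := by
      let f' : Γ(Spec (CommRingCat.of A), ⊤) := (Scheme.ΓSpecIso (CommRingCat.of A)).inv f
      have h1 : (Spec (CommRingCat.of A)).basicOpen f' = PrimeSpectrum.basicOpen f := by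
        rw [basicOpen_eq_of_affine']
        exact congrArg PrimeSpectrum.basicOpen ((Scheme.ΓSpecIso (CommRingCat.of A)).inv_hom_id_apply f)
      have h2 : V.ι ⁻¹ᵁ (Spec (CommRingCat.of A)).basicOpen f' = X.basicOpen (show Γ(X, ⊤) from φ f) :=
        Scheme.preimage_basicOpen V.ι f'
      rw [← h2]
      refine IsAffineOpen.preimage_of_isOpenImmersion ((isAffineOpen_top _).basicOpen f') V.ι ?_
      rw [Scheme.Opens.opensRange_ι, h1]
      intro q hq hq'
      exact hq (hq' hf)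
    obtain ⟨N, hN⟩ := exists_pow_kill F hF (show Γ(X, ⊤) from φ f) hD p
    refine ⟨N, fun a ha => Module.mem_annihilator.2 fun x => ?_⟩
    show φ (f ^ N * a) • x = 0
    rw [map_mul, map_pow, mul_smul]
    exact hN (φ a) (hO a ha) x
  let Q : Ideal A := K.colon ((J ^ n : Ideal A) : Set A)
  have hrad : I ≤ Q.radical := fun f hf => by
    obtain ⟨N, hN⟩ := key f hf
    exact ⟨N, Submodule.mem_colon.2 fun a ha => hN a ha⟩
  obtain ⟨m, hm'⟩ := Ideal.exists_pow_le_of_le_radical_of_fg hrad hI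
  refine ⟨m + n, fun a ha x => ?_⟩
  suffices J ^ (m + n) ≤ K from Module.mem_annihilator.1 (this ha) x
  rw [pow_add]
  refine Ideal.mul_le.2 fun b hb c hc => ?_
  exact Submodule.mem_colon.1 (hm' (Ideal.pow_right_mono hJI m hb)) c hc

end Groth.Agent.S1798
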