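import Mathlib
import Groth.Agent.WeilNumLib.Order
import Groth.Agent.GorLib.Ring
import Groth.Agent.GrSegreLib.Dim
import Groth.Statements.S17985

set_option autoImplicit false
universe u
open MvPolynomial
open WeilNum

namespace Groth.Agent.S17985

theorem gor_quot_pair {A : Type u} [CommRing A] [LocCoh.IsGorensteinRing A] {r h : A}
    (hr : IsSMulRegular A r)
    (hh : IsSMulRegular (A ⧸ Ideal.span ({r} : Set A)) (Ideal.Quotient.mk (Ideal.span ({r} : Set A)) h)) :
    LocCoh.IsGorensteinRing (A ⧸ (Ideal.span ({r} : Set A) ⊔ Ideal.span ({h} : Set A))) := by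
  haveI := Groth.Agent.GorLib.gorensteinRing_quot A r hr
  have e1 : Ideal.span {Ideal.Quotient.mk (Ideal.span ({r} : Set A)) h} =
      (Ideal.span ({h} : Set A)).map (Ideal.Quotient.mk (Ideal.span ({r} : Set A))) := by
    rw [Ideal.map_span, Set.image_singleton]
  exact Groth.Agent.GorLib.gorensteinRing_of_ringEquiv
    ((Ideal.quotEquivOfEq e1).trans (DoubleQuot.quotQuotEquivQuotSup _ _))
    (Groth.Agent.GorLib.gorensteinRing_quot _ _ hh)

/-- Let p be a prime, e ≥ 1 and q = p^e. Let (π_i) be a nonempty finite family of pairwise nonconjugate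
Weil q-numbers: π_i is an element of a field K_i of characteristic zero, integral over ℤ with
minimal polynomial P_i, every complex root of P_i has absolute value √q, and P_i ≠ P_j for i ≠ j.
Suppose the total degree Σ_i deg P_i is even, equal to 2D. Let R_w be the minimal central order, the
image of ℤ[F, V] → ∏_i K_i, F ↦ (π_i), V ↦ (q/π_i). Then R_w is free of rank 2D as a ℤ-module, has
Krull dimension 1, and is a Gorenstein ring (Noetherian, with all localizations at primes of finite
injective dimension over themselves). -/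
theorem result (p e : ℕ) [Fact p.Prime] (he : 0 < e)
    (ι : Type) [Fintype ι] (K : ι → Type u) [∀ i, Field (K i)] [∀ i, CharZero (K i)] (π : ∀ i, K i)
    (hint : ∀ i, IsIntegral ℤ (π i))
    (hweil : ∀ i, ∀ z ∈ (minpoly ℤ (π i)).aroots ℂ, ‖z‖ = Real.sqrt ((p : ℝ) ^ e))
    (hinj : ∀ i j, minpoly ℤ (π i) = minpoly ℤ (π j) → i = j)
    [Nonempty ι] (D : ℕ) (hD : ∑ i, (minpoly ℤ (π i)).natDegree = 2 * D) :
    Module.Free ℤ (MvPolynomial.aeval ![fun i => π i, fun i => ((p : K i) ^ e) / π i] :
        MvPolynomial (Fin 2) ℤ →ₐ[ℤ] ((i : ι) → K i)).range ∧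
      Module.finrank ℤ (MvPolynomial.aeval ![fun i => π i, fun i => ((p : K i) ^ e) / π i] :
        MvPolynomial (Fin 2) ℤ →ₐ[ℤ] ((i : ι) → K i)).range = 2 * D ∧
      ringKrullDim (MvPolynomial.aeval ![fun i => π i, fun i => ((p : K i) ^ e) / π i] :
        MvPolynomial (Fin 2) ℤ →ₐ[ℤ] ((i : ι) → K i)).range = 1 ∧
      LocCoh.IsGorensteinRing (MvPolynomial.aeval ![fun i => π i, fun i => ((p : K i) ^ e) / π i] :
        MvPolynomial (Fin 2) ℤ →ₐ[ℤ] ((i : ι) → K i)).range := by
  have hq : 0 < p ^ e := pow_pos (Fact.out : p.Prime).pos e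
  have hn : ∀ i, ∀ z ∈ (minpoly ℤ (π i)).aroots ℂ, ‖z‖ ^ 2 = ((p ^ e : ℕ) : ℝ) := fun i z hz => by
    rw [hweil i z hz, Real.sq_sqrt (by positivity)]; push_cast; rfl
  have hφ : (MvPolynomial.aeval ![fun i => π i, fun i => ((p : K i) ^ e) / π i] :
      MvPolynomial (Fin 2) ℤ →ₐ[ℤ] ((i : ι) → K i)) = Groth.Agent.WeilNumLib.evalFV π (p ^ e) := by
    simp [Groth.Agent.WeilNumLib.evalFV]
  rw [hφ]
  set φ := Groth.Agent.WeilNumLib.evalFV π (p ^ e) with hφdef
  haveI : Module.Finite ℤ φ.range := Groth.Agent.WeilNumLib.finite_range hint hn hq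
  haveI : IsAddTorsionFree φ.range :=
    Function.Injective.isAddTorsionFree (φ.range.val.toAddMonoidHom) Subtype.val_injective
  haveI hfree : Module.Free ℤ φ.range := inferInstance
  refine ⟨hfree, Groth.Agent.WeilNumLib.finrank_range hint hn hinj hD hq, ?_, ?_⟩
  · have hinj' : Function.Injective (algebraMap ℤ φ.range) := fun a b hab => by
      have := congrFun (congrArg Subtype.val hab) (Classical.arbitrary ι)
      simpa using this
    rw [← Groth.Agent.GrSegreLib.ringKrullDim_eq_of_integral_injective _ hinj'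
      (algebraMap_isIntegral_iff.mpr (Algebra.IsIntegral.of_finite ℤ φ.range))]
    exact IsPrincipalIdealRing.ringKrullDim_eq_one ℤ Int.not_isField
  · obtain ⟨h, hh⟩ := Groth.Agent.WeilNumLib.exists_h hint hn hD hq
    have hker := Groth.Agent.WeilNumLib.ker_evalFV hint hn hinj hD hq hh
    have hreg := Groth.Agent.WeilNumLib.isWeaklyRegular_pair (π := π) hint hq hh
    let U := ULift.{u} ℤ
    haveI : IsDomain U := MulEquiv.isDomain ℤ (ULift.ringEquiv : U ≃+* ℤ).toMulEquiv
    haveI : IsPrincipalIdealRing U :=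
      IsPrincipalIdealRing.of_surjective ((ULift.ringEquiv : U ≃+* ℤ).symm : ℤ →+* U)
        (ULift.ringEquiv : U ≃+* ℤ).symm.surjective
    let A := MvPolynomial (Fin 2) U
    let E : A ≃+* MvPolynomial (Fin 2) ℤ := MvPolynomial.mapEquiv (Fin 2) ULift.ringEquiv
    set r : MvPolynomial (Fin 2) ℤ := X 0 * X 1 - C ((p ^ e : ℕ) : ℤ) with hr
    let r' : A := E.symm r
    let h' : A := E.symm h
    haveI := Groth.Agent.GorLib.gorensteinRing_of_regular A
    have hr0 : IsSMulRegular A r' := by
      have h1 : IsSMulRegular (MvPolynomial (Fin 2) ℤ) r :=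
        ((RingTheory.Sequence.isWeaklyRegular_cons_iff _ _ _).1 hreg).1
      intro a b hab
      apply E.injective
      apply h1
      simp only [smul_eq_mul] at hab ⊢
      have := congrArg E hab
      simpa [r'] using this
    haveI := Groth.Agent.GorLib.gorensteinRing_quot _ r' hr0
    have hspan : Ideal.span {r'} = (Groth.Agent.WeilNumLib.relFV (p ^ e)).comap (E : A →+* _) := by
      ext x
      rw [Ideal.mem_comap, Groth.Agent.WeilNumLib.relFV, Ideal.mem_span_singleton,
        Ideal.mem_span_singleton]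
      show r' ∣ x ↔ r ∣ E x
      rw [← map_dvd_iff E, E.apply_symm_apply]
    have hh0 : IsSMulRegular (A ⧸ Ideal.span {r'}) (Ideal.Quotient.mk (Ideal.span {r'}) h') := by
      haveI := Groth.Agent.WeilNumLib.relFV_isPrime (q := p ^ e) hq
      haveI : (Ideal.span {r'}).IsPrime := by rw [hspan]; exact Ideal.comap_isPrime _ _
      have hne : Ideal.Quotient.mk (Ideal.span {r'}) h' ≠ 0 := fun h0 => by
        rw [Ideal.Quotient.eq_zero_iff_mem, hspan, Ideal.mem_comap] at h0
        exact Groth.Agent.WeilNumLib.h_not_mem (π := π) hint hq hh (by simpa [h'] using h0)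
      intro a b hab
      exact mul_left_cancel₀ hne hab
    have e2 : RingHom.ker φ = (Ideal.span {r'} ⊔ Ideal.span {h'}).map (E : A →+* _) := by
      rw [hker, ← Ideal.span_union, Set.singleton_union, Ideal.map_span, Set.image_pair]
      simp [r', h']
    exact Groth.Agent.GorLib.gorensteinRing_of_ringEquiv
      ((Ideal.quotientEquiv _ _ E e2).trans (Ideal.quotientKerEquivRange φ).toRingEquiv)
      (gor_quot_pair hr0 hh0)

end Groth.Agent.S17985
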