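import Mathlib
import Groth.Agent.WeilNumLib.Sym
import Groth.Agent.WeilNumLib.Newton
import Groth.Statements.S17987

set_option autoImplicit false
universe u
open scoped Classical
open WeilNum

namespace Groth.Agent.S17987

/-- Let p be a prime, e ≥ 1 and q = p^e, and let (π_i) be a finite family of nonreal Weil q-numbers: π_i
lies in a field K_i of characteristic zero, is integral over ℤ with minimal polynomial P_i, every
complex root of P_i has absolute value √q, and no complex root of P_i is real; in particular deg P_i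
= 2d_i is even. Call π_i ordinary when exactly half of the roots of P_i in an algebraic closure of
ℚ_p, counted with multiplicity, are p-adic units (have absolute value 1). Then all π_i are ordinary
if and only if p does not divide ∏_i a_{d_i}, the product of the middle coefficients of the P_i
(this product is the value at F = V = 0 of the symmetric polynomial h_w of the family). -/
theorem result (p e : ℕ) [Fact p.Prime] (he : 0 < e)
    (ι : Type) [Fintype ι] (K : ι → Type u) [∀ i, Field (K i)] [∀ i, CharZero (K i)] (π : ∀ i, K i)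
    (hint : ∀ i, IsIntegral ℤ (π i))
    (hweil : ∀ i, ∀ z ∈ (minpoly ℤ (π i)).aroots ℂ, ‖z‖ = Real.sqrt ((p : ℝ) ^ e))
    (hnr : ∀ i, ∀ z ∈ (minpoly ℤ (π i)).aroots ℂ, z.im ≠ 0) :
    (∀ i, 2 * Multiset.card (((minpoly ℤ (π i)).aroots (PadicAlgCl p)).filter (fun z => ‖z‖ = 1)) = (minpoly ℤ (π i)).natDegree) ↔
      ¬ ((p : ℤ) ∣ ∏ i, (minpoly ℤ (π i)).coeff ((minpoly ℤ (π i)).natDegree / 2)) := by
  have hpp : Prime (p : ℤ) := Nat.prime_iff_prime_int.1 Fact.out
  rw [Prime.dvd_finsetProd_iff hpp]
  push Not
  simp only [Finset.mem_univ, true_implies]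
  refine forall_congr' fun i => ?_
  set P := minpoly ℤ (π i) with hP
  have hm : P.Monic := minpoly.monic (hint i)
  obtain ⟨hev, hsym⟩ := Groth.Agent.WeilNumLib.coeff_symm P hm (p ^ e)
    (pow_pos (Fact.out : p.Prime).pos e)
    (fun z hz => by rw [hweil i z hz, Real.sq_sqrt (by positivity)]; push_cast; rfl) (hnr i)
  set s := P.aroots (PadicAlgCl p) with hs
  have hcard : s.card = P.natDegree := IsAlgClosed.card_aroots_eq_natDegree
  have hle : ∀ z ∈ s, ‖z‖ ≤ 1 := fun z hz =>
    Groth.Agent.WeilNumLib.norm_root_le_one P hm (Polynomial.mem_aroots.1 hz).2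
  have hprod : (s.map fun z => Polynomial.X - Polynomial.C z).prod =
      P.map (algebraMap ℤ (PadicAlgCl p)) :=
    Polynomial.prod_multiset_X_sub_C_of_monic_of_roots_card_eq (hm.map _)
      (by rw [hm.natDegree_map]; exact hcard)
  obtain ⟨-, h2, h3⟩ := Groth.Agent.WeilNumLib.coeff_prod_X_sub_C_norm s hle
  rw [hprod] at h2 h3
  simp only [Polynomial.coeff_map, eq_intCast] at h2 h3
  have hdvd : ∀ a : ℤ, ‖(a : PadicAlgCl p)‖ < 1 ↔ (p : ℤ) ∣ a := fun a => by
    rw [← Padic.norm_intCast_lt_one_iff (p := p), ← PadicAlgCl.norm_extends]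
    norm_num
  set m := (s.filter fun z => ‖z‖ < 1).card with hmdef
  have hlow : ∀ j < P.natDegree / 2, (p : ℤ) ∣ P.coeff j := by
    intro j hj
    have h := hsym (P.natDegree / 2 - j) (by omega)
    rw [show P.natDegree / 2 - (P.natDegree / 2 - j) = j by omega] at h
    rw [h]
    refine dvd_mul_of_dvd_left (dvd_pow ?_ (by omega)) _
    push_cast
    exact dvd_pow_self _ he.ne'
  have hnot : ¬ (p : ℤ) ∣ P.coeff m := fun h => absurd h3 ((hdvd _).2 h).ne
  have hge : P.natDegree / 2 ≤ m := not_lt.1 fun h => hnot (hlow m h)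
  have hsplit : (s.filter fun z => ‖z‖ = 1).card + m = P.natDegree := by
    rw [← hcard, hmdef, ← Multiset.card_add]
    congr 1
    conv_rhs => rw [← Multiset.filter_add_not (fun z => ‖z‖ < 1) s, add_comm]
    congr 1
    exact Multiset.filter_congr fun z hz =>
      ⟨fun h => h.not_lt, fun h => le_antisymm (hle z hz) (not_lt.1 h)⟩
  obtain ⟨d, hd⟩ := hev
  constructor
  · intro h
    rwa [show P.natDegree / 2 = m by omega]
  · intro h
    have : m ≤ P.natDegree / 2 := not_lt.1 fun hlt => h ((hdvd _).1 (h2 _ hlt))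
    omega

end Groth.Agent.S17987
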