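import Mathlib
import Groth.Agent.WeilNumLib.ExtendedSocle
import Groth.Agent.S17987
import Groth.Statements.S17986

set_option autoImplicit false
universe u
open MvPolynomial
open scoped Classical
open WeilNum

namespace Groth.Agent.S17986

/-- Let p be a prime, e ≥ 1, and assume q = p^e = s² for an integer s (of either sign; s is then a
rational Weil q-number). Let (π_i) be a finite family of pairwise nonconjugate nonrational Weil
q-numbers: π_i lies in a field K_i of characteristic zero, is integral over ℤ with minimal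
polynomial P_i of degree different from 1, every complex root of P_i has absolute value √q, and P_i
≠ P_j for i ≠ j (since q is a square these π_i are nonreal, so Σ_i deg P_i = 2D is even). Put P_v =
∏_i P_i and let h ∈ ℤ[F, V] (F = X_0, V = X_1) be any polynomial with F^D · h ≡ P_v(F) modulo FV −
q. Consider the ring map ℤ[F, V] → (∏_i K_i) × ℚ sending F to ((π_i)_i, s) and V to ((q/π_i)_i, s);
its image R_w is the minimal central order of the family enlarged by s. Then: (1) its kernel is the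
ideal generated by FV − q, h · (F − s) and h · (V − s); (2) R_w is a Gorenstein ring if and only if
every π_i is ordinary, meaning that exactly half of the roots of P_i in an algebraic closure of ℚ_p,
counted with multiplicity, are p-adic units. -/
theorem result (p e : ℕ) [Fact p.Prime] (he : 0 < e)
    (s : ℤ) (hs : s ^ 2 = (p : ℤ) ^ e)
    (ι : Type) [Fintype ι] (K : ι → Type u) [∀ i, Field (K i)] [∀ i, CharZero (K i)] (π : ∀ i, K i)
    (hint : ∀ i, IsIntegral ℤ (π i)) (hdeg : ∀ i, (minpoly ℤ (π i)).natDegree ≠ 1)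
    (hweil : ∀ i, ∀ z ∈ (minpoly ℤ (π i)).aroots ℂ, ‖z‖ = Real.sqrt ((p : ℝ) ^ e))
    (hinj : ∀ i j, minpoly ℤ (π i) = minpoly ℤ (π j) → i = j)
    (D : ℕ) (hD : ∑ i, (minpoly ℤ (π i)).natDegree = 2 * D)
    (h : MvPolynomial (Fin 2) ℤ)
    (hh : X 0 ^ D * h - Polynomial.aeval (X 0 : MvPolynomial (Fin 2) ℤ) (∏ i, minpoly ℤ (π i)) ∈
      Ideal.span ({X 0 * X 1 - C ((p : ℤ) ^ e)} : Set (MvPolynomial (Fin 2) ℤ))) :
    RingHom.ker (MvPolynomial.aeval ![(⟨fun i => π i, (s : ℚ)⟩ : ((i : ι) → K i) × ℚ), ⟨fun i => ((p : K i) ^ e) / π i, (s : ℚ)⟩] :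
        MvPolynomial (Fin 2) ℤ →ₐ[ℤ] (((i : ι) → K i) × ℚ)) =
        Ideal.span {X 0 * X 1 - C ((p : ℤ) ^ e), h * (X 0 - C s), h * (X 1 - C s)} ∧
      (LocCoh.IsGorensteinRing (MvPolynomial.aeval ![(⟨fun i => π i, (s : ℚ)⟩ : ((i : ι) → K i) × ℚ), ⟨fun i => ((p : K i) ^ e) / π i, (s : ℚ)⟩] :
        MvPolynomial (Fin 2) ℤ →ₐ[ℤ] (((i : ι) → K i) × ℚ)).range ↔
        ∀ i, 2 * Multiset.card (((minpoly ℤ (π i)).aroots (PadicAlgCl p)).filter (fun z => ‖z‖ = 1)) = (minpoly ℤ (π i)).natDegree) := by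
  have hp : p.Prime := Fact.out
  have hq : 0 < p ^ e := pow_pos hp.pos e
  have hn : ∀ i, ∀ z ∈ (minpoly ℤ (π i)).aroots ℂ, ‖z‖ ^ 2 = ((p ^ e : ℕ) : ℝ) := fun i z hz => by
    rw [hweil i z hz, Real.sq_sqrt (by positivity)]; push_cast; rfl
  have hs' : s ^ 2 = ((p ^ e : ℕ) : ℤ) := by rw [hs]; push_cast; rfl
  have hroot : ∀ i (t : ℤ), (minpoly ℤ (π i)).eval t ≠ 0 := by
    intro i t ht
    apply hdeg i
    have h1 : Polynomial.X - Polynomial.C t ∣ minpoly ℤ (π i) := Polynomial.dvd_iff_isRoot.2 ht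
    have h2 := ((minpoly.irreducible (hint i)).dvd_iff.1 h1).resolve_left
      (Polynomial.not_isUnit_X_sub_C t)
    rw [Polynomial.eq_of_monic_of_associated (minpoly.monic (hint i)) (Polynomial.monic_X_sub_C t)
      h2, Polynomial.natDegree_X_sub_C]
  have hnr : ∀ i, ∀ z ∈ (minpoly ℤ (π i)).aroots ℂ, z.im ≠ 0 := by
    intro i z hz him
    have h1 : z.re ^ 2 = (s : ℝ) ^ 2 := by
      have h2 := hn i z hz
      rw [Complex.sq_norm, Complex.normSq_apply, him, mul_zero, add_zero] at h2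
      rw [sq, h2, ← Int.cast_natCast (R := ℝ), ← hs']
      push_cast
      rfl
    have hz' : ∀ t : ℤ, z = (t : ℂ) → False := fun t ht => by
      have h2 := (Polynomial.mem_aroots.1 hz).2
      rw [ht, Polynomial.aeval_def, show (t : ℂ) = algebraMap ℤ ℂ t from (eq_intCast _ t).symm,
        Polynomial.eval₂_at_apply, eq_intCast, Int.cast_eq_zero] at h2
      exact hroot i t h2
    rcases sq_eq_sq_iff_eq_or_eq_neg.1 h1 with h2 | h2
    · exact hz' s (Complex.ext (by simpa using h2) (by simpa using him))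
    · exact hz' (-s) (Complex.ext (by simpa using h2) (by simpa using him))
  have hφ : (MvPolynomial.aeval ![(⟨fun i => π i, (s : ℚ)⟩ : ((i : ι) → K i) × ℚ), ⟨fun i => ((p : K i) ^ e) / π i, (s : ℚ)⟩] :
      MvPolynomial (Fin 2) ℤ →ₐ[ℤ] (((i : ι) → K i) × ℚ)) = Groth.Agent.WeilNumLib.evalExt π (p ^ e) s := by
    simp [Groth.Agent.WeilNumLib.evalExt]
  have hC : ((p : ℤ) ^ e) = ((p ^ e : ℕ) : ℤ) := by push_cast; rfl
  rw [hC] at hh ⊢
  rw [hφ]
  refine ⟨Groth.Agent.WeilNumLib.ker_evalExt hint hn hinj hD hq hs' (fun i => hroot i s) hh, ?_⟩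
  rw [Groth.Agent.S17987.result p e he ι K π hint hweil hnr]
  -- the middle coefficient of the product
  have hdvd : (p : ℤ) ∣ ∏ i, (minpoly ℤ (π i)).coeff ((minpoly ℤ (π i)).natDegree / 2) ↔
      (p : ℤ) ∣ (Groth.Agent.WeilNumLib.prodMin π).coeff D := by
    rw [← ZMod.intCast_zmod_eq_zero_iff_dvd, ← ZMod.intCast_zmod_eq_zero_iff_dvd]
    let f := fun i => (minpoly ℤ (π i)).map (Int.castRingHom (ZMod p))
    have hev : ∀ i, Even (minpoly ℤ (π i)).natDegree ∧ ∀ j < (minpoly ℤ (π i)).natDegree / 2,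
        (p : ℤ) ∣ (minpoly ℤ (π i)).coeff j := by
      intro i
      obtain ⟨hev, hsym⟩ := Groth.Agent.WeilNumLib.coeff_symm _ (minpoly.monic (hint i)) (p ^ e) hq
        (hn i) (hnr i)
      refine ⟨hev, fun j hj => ?_⟩
      have h1 := hsym ((minpoly ℤ (π i)).natDegree / 2 - j) (by omega)
      rw [show (minpoly ℤ (π i)).natDegree / 2 - ((minpoly ℤ (π i)).natDegree / 2 - j) = j by omega] at h1
      rw [h1]
      refine dvd_mul_of_dvd_left (dvd_pow ?_ (by omega)) _
      push_cast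
      exact dvd_pow_self _ he.ne'
    choose g hg using fun i => (Polynomial.X_pow_dvd_iff
      (f := f i) (n := (minpoly ℤ (π i)).natDegree / 2)).2 (fun j hj => by
        rw [Polynomial.coeff_map, eq_intCast, ZMod.intCast_zmod_eq_zero_iff_dvd]
        exact (hev i).2 j hj)
    have hsum : ∑ i, (minpoly ℤ (π i)).natDegree / 2 = D := by
      have : ∀ i, (minpoly ℤ (π i)).natDegree = 2 * ((minpoly ℤ (π i)).natDegree / 2) :=
        fun i => (Nat.two_mul_div_two_of_even (hev i).1).symm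
      rw [Finset.sum_congr rfl (fun i _ => this i), ← Finset.mul_sum] at hD
      omega
    have hone : ∀ i, ((minpoly ℤ (π i)).coeff ((minpoly ℤ (π i)).natDegree / 2) : ZMod p) =
        (g i).coeff 0 := fun i => by
      rw [← eq_intCast (Int.castRingHom (ZMod p)), ← Polynomial.coeff_map]
      show (f i).coeff _ = _
      rw [hg i, mul_comm, Polynomial.coeff_mul_X_pow', if_pos le_rfl, Nat.sub_self]
    have hprod : (Groth.Agent.WeilNumLib.prodMin π).map (Int.castRingHom (ZMod p)) =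
        Polynomial.X ^ D * ∏ i, g i := by
      rw [Groth.Agent.WeilNumLib.prodMin, Polynomial.map_prod, ← hsum, ← Finset.prod_pow_eq_pow_sum,
        ← Finset.prod_mul_distrib]
      exact Finset.prod_congr rfl fun i _ => hg i
    rw [Int.cast_prod, ← eq_intCast (Int.castRingHom (ZMod p))
      ((Groth.Agent.WeilNumLib.prodMin π).coeff D), ← Polynomial.coeff_map, hprod, mul_comm,
      Polynomial.coeff_mul_X_pow', if_pos le_rfl, Nat.sub_self, Finset.prod_congr rfl (fun i _ => hone i),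
      Polynomial.coeff_zero_prod]
  rw [hdvd]
  exact ⟨fun hG hd => Groth.Agent.WeilNumLib.not_gorenstein_ext_of_dvd hint hn hinj hD he hs'
    (fun i => hroot i s) hh hd hG,
    fun hd => Groth.Agent.WeilNumLib.gorenstein_ext_of_not_dvd hint hn hinj hD he hs'
      (fun i => hroot i s) hh hd⟩

end Groth.Agent.S17986
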