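import Groth.Statements.S17988
import Groth.Agent.GorOneLib.Basic

set_option autoImplicit false
universe u
open CAlg

namespace Groth.Agent.S17988

/-- Let Λ be a principal ideal domain and S a commutative Λ-algebra which is finitely generated and free
as a Λ-module and reduced as a ring; let M be a finitely generated S-module. Then M is torsionless
(the canonical map M → M** to the double S-dual is injective) if and only if M is free as a
Λ-module. If in addition S is a Gorenstein ring (it has Krull dimension at most 1, being finite over
Λ), then M is reflexive (M → M** bijective) if and only if M is free as a Λ-module, so that for such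
S torsionless and reflexive finitely generated modules coincide. The published statement is the case
Λ = ℤ, resp. Λ = ℤ_ℓ for a prime ℓ, with S the minimal central order R_w of a finite set of Weil
q-numbers, resp. its ℓ-adic completion R_w ⊗ ℤ_ℓ, under the assumption that R_w is Gorenstein; the
argument given there uses only that S is finite free over Λ, reduced, and (for reflexivity)
Gorenstein of dimension one. -/
theorem result (Λ : Type u) [CommRing Λ] [IsDomain Λ] [IsPrincipalIdealRing Λ]
    (S : Type u) [CommRing S] [Algebra Λ S] [Module.Finite Λ S] [Module.Free Λ S] [IsReduced S]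
    (M : Type u) [AddCommGroup M] [Module S M] [Module Λ M] [IsScalarTower Λ S M] [Module.Finite S M] :
    (Function.Injective (Module.Dual.eval S M) ↔ Module.Free Λ M) ∧
      (LocCoh.IsGorensteinRing S → (Module.IsReflexive S M ↔ Module.Free Λ M)) := by
  classical
  haveI : IsNoetherianRing S := IsNoetherianRing.of_finite Λ S
  haveI : Module.Finite Λ M := Module.Finite.trans S M
  have hfree : Function.Injective (Module.Dual.eval S M) → Module.Free Λ M := fun h => by
    obtain ⟨n, j, hj⟩ := GorOneLib.exists_embedding M h
    haveI : Module.IsTorsionFree Λ M :=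
      Function.Injective.moduleIsTorsionFree (j.restrictScalars Λ) hj (fun r x => map_smul (j.restrictScalars Λ) r x)
    exact Module.free_of_finite_type_torsion_free'
  have htl : Module.Free Λ M → Function.Injective (Module.Dual.eval S M) := by
    intro hMf
    refine (injective_iff_map_eq_zero _).2 fun x hx => ?_
    by_contra hne
    -- a minimal prime where `x` survives
    obtain ⟨P, hP, hPx⟩ : ∃ P ∈ minimalPrimes S, ∀ c ∉ P, c • x ≠ 0 := by
      by_contra hcon
      push_neg at hcon
      have hfin := minimalPrimes.finite_of_isNoetherianRing S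
      obtain ⟨a, ha, haP⟩ : ∃ a : S, a • x = 0 ∧ ∀ P ∈ minimalPrimes S, a ∉ P := by
        let A : Ideal S := LinearMap.ker (LinearMap.toSpanSingleton S M x)
        by_contra hh
        push_neg at hh
        have hsub : (A : Set S) ⊆ ⋃ P ∈ (hfin.toFinset : Set (Ideal S)), (P : Set S) := fun a ha => by
          obtain ⟨P, hP, haP⟩ := hh a (by simpa [A] using ha)
          exact Set.mem_iUnion₂.2 ⟨P, by simpa using hP, haP⟩
        obtain ⟨P, hP, hle⟩ := (Ideal.subset_union_prime (f := id) ⊥ ⊥
          (fun P hP _ _ => (hfin.mem_toFinset.1 hP).1.1)).1 hsub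
        obtain ⟨c, hc, hc0⟩ := hcon P (hfin.mem_toFinset.1 hP)
        exact hc (hle (show c ∈ A by simpa [A] using hc0))
      have hreg : ∀ z : S, a * z = 0 → z = 0 := fun z hz => by
        have : z ∈ sInf (minimalPrimes S) := Submodule.mem_sInf.2 fun P hP =>
          (hP.1.1.mem_or_mem (hz ▸ P.zero_mem)).resolve_left (haP P hP)
        rw [show sInf (minimalPrimes S) = (⊥ : Ideal S).radical from (Ideal.sInf_minimalPrimes (I := ⊥)),
          Ideal.mem_radical_iff] at this
        obtain ⟨k, hk⟩ := this
        exact IsReduced.eq_zero z ⟨k, by simpa using hk⟩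
      haveI : Algebra.IsIntegral Λ S := Algebra.IsIntegral.of_finite Λ S
      obtain ⟨p, hp, hp0⟩ := Algebra.IsIntegral.isIntegral (R := Λ) a
      obtain ⟨q, hq, hq0⟩ := Polynomial.exists_eq_pow_rootMultiplicity_mul_and_not_dvd p hp.ne_zero 0
      rw [map_zero, sub_zero, Polynomial.X_dvd_iff] at hq0
      have hp1 : Polynomial.aeval a p = 0 := hp0
      rw [hq, map_zero, sub_zero, map_mul, map_pow, Polynomial.aeval_X] at hp1
      have hq1 : Polynomial.aeval a q = 0 := by
        have hpow : ∀ (k : ℕ) (z : S), a ^ k * z = 0 → z = 0 := by
          intro k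
          induction k with
          | zero => simp
          | succ k ih => exact fun z hz => hreg z (ih _ (by rw [← mul_assoc, ← pow_succ]; exact hz))
        exact hpow _ _ hp1
      rw [← Polynomial.X_mul_divX_add q, map_add, map_mul, Polynomial.aeval_X, Polynomial.aeval_C] at hq1
      have hzero : (algebraMap Λ S (q.coeff 0)) • x = 0 := by
        rw [eq_neg_of_add_eq_zero_right hq1, neg_smul, mul_comm, mul_smul, ha, smul_zero, neg_zero]
      rw [algebraMap_smul] at hzero
      exact hne ((smul_eq_zero.1 hzero).resolve_left hq0)
    haveI := hP.1.1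
    let B := Localization.AtPrime P
    let N := LocalizedModule P.primeCompl M
    haveI : Ring.KrullDimLE 0 B := .of_isLocalization _ hP _
    haveI : IsReduced B := isReduced_localizationPreserves P.primeCompl B inferInstance
    have hBf : IsField B := Ring.KrullDimLE.isField_of_isReduced
    letI := hBf.toField
    let f := LocalizedModule.mkLinearMap P.primeCompl M
    have hfx : f x ≠ 0 := fun h => by
      obtain ⟨⟨c, hc⟩, hc0⟩ := (IsLocalizedModule.eq_zero_iff P.primeCompl f).1 h
      exact hPx c hc hc0
    obtain ⟨ψ, hψ⟩ := Module.Projective.exists_dual_ne_zero B hfx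
    haveI : Module.FinitePresentation S M := Module.finitePresentation_of_finite S M
    let T : Module.Dual S M →ₗ[S] Module.Dual B N :=
      IsLocalizedModule.mapExtendScalars P.primeCompl f (Algebra.linearMap S B) B
    haveI : IsLocalizedModule P.primeCompl T :=
      Module.FinitePresentation.isLocalizedModule_mapExtendScalars P.primeCompl _ _ B
    obtain ⟨⟨φ, s⟩, hφs⟩ := IsLocalizedModule.surj P.primeCompl T ψ
    apply hψ
    have h1 : (s : S) • ψ (f x) = T φ (f x) := by
      rw [← hφs]; rfl
    have h2 : T φ (f x) = algebraMap S B (φ x) := IsLocalizedModule.map_apply P.primeCompl f (Algebra.linearMap S B) φ x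
    rw [h2, show φ x = 0 from LinearMap.congr_fun hx φ, map_zero, Algebra.smul_def] at h1
    exact ((IsLocalization.map_units B s).mul_right_eq_zero).1 h1
  refine ⟨⟨hfree, htl⟩, fun hG => ⟨fun hR => hfree (Module.bijective_dual_eval S M).1, fun hMf => ?_⟩⟩
  refine GorOneLib.reflexive_of_torsionless ?_ M (htl hMf)
  haveI : Algebra.IsIntegral Λ S := Algebra.IsIntegral.of_finite Λ S
  refine le_trans (Order.krullDim_le_of_strictMono (PrimeSpectrum.comap (algebraMap Λ S)) ?_)
    ((Order.krullDimLE_iff 1 _).1 (inferInstance : Ring.KrullDimLE 1 Λ))
  intro p q hpq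
  exact Ideal.IsIntegral.comap_lt_comap hpq

end Groth.Agent.S17988
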