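import Groth.Statements.S17990
import Groth.Agent.GorOneLib.Basic

set_option autoImplicit false
universe u
open CAlg

namespace Groth.Agent.S17990

/-- Let S be a reduced Gorenstein ring (Noetherian, all localizations at primes of finite injective
dimension over themselves) whose Krull dimension is ≤ 1; let M be a finitely generated S-module
which is reflexive (M → M** bijective). Then M is locally free of rank 1, i.e. the localization M_P
is isomorphic to S_P as an S_P-module for every prime ideal P of S, if and only if the natural ring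
map S → End_S(M), sending s to multiplication by s, is bijective. -/
theorem result (S : Type u) [CommRing S]
    [IsReduced S] [LocCoh.IsGorensteinRing S] (hdim : ringKrullDim S ≤ 1)
    (M : Type u) [AddCommGroup M] [Module S M] [Module.Finite S M] [Module.IsReflexive S M] :
    (∀ (P : Ideal S) (_ : P.IsPrime),
        Nonempty (LocalizedModule P.primeCompl M ≃ₗ[Localization.AtPrime P] Localization.AtPrime P)) ↔
      Function.Bijective (algebraMap S (Module.End S M)) := by
  classical
  constructor
  · intro hloc
    constructor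
    · refine (injective_iff_map_eq_zero _).2 fun s hs => ?_
      by_contra hne
      obtain ⟨P, hP, hle⟩ := Ideal.exists_le_maximal (LinearMap.ker (LinearMap.toSpanSingleton S S s))
        ((Ideal.ne_top_iff_one _).2 (by simpa using hne))
      obtain ⟨e⟩ := hloc P hP.isPrime
      obtain ⟨⟨m, t⟩, hm⟩ := IsLocalizedModule.mk'_surjective P.primeCompl (LocalizedModule.mkLinearMap P.primeCompl M) (e.symm 1)
      have h0 : algebraMap S (Localization.AtPrime P) s = 0 := by
        rw [← mul_one (algebraMap S (Localization.AtPrime P) s), ← smul_eq_mul, ← e.apply_symm_apply 1, ← map_smul,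
          algebraMap_smul, ← hm]
        simp only [Function.uncurry]
        rw [← IsLocalizedModule.mk'_smul, show s • m = 0 from LinearMap.congr_fun hs m,
          IsLocalizedModule.mk'_zero, map_zero]
      obtain ⟨⟨c, hc⟩, hc0⟩ := (IsLocalization.map_eq_zero_iff P.primeCompl _ _).1 h0
      exact hc (hle (by simpa using hc0))
    · intro g
      by_contra hne
      let J : Ideal S := (LinearMap.range (Algebra.linearMap S (Module.End S M))).comap
        (LinearMap.toSpanSingleton S (Module.End S M) g)
      have hJne : J ≠ ⊤ := (Ideal.ne_top_iff_one _).2 (by simpa [J] using hne)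
      obtain ⟨P, hP, hle⟩ := Ideal.exists_le_maximal J hJne
      obtain ⟨e⟩ := hloc P hP.isPrime
      let B := Localization.AtPrime P
      let f := LocalizedModule.mkLinearMap P.primeCompl M
      obtain ⟨⟨m, t⟩, hm⟩ := IsLocalizedModule.mk'_surjective P.primeCompl f (e.symm 1)
      simp only [Function.uncurry] at hm
      have htm : f m = (t : S) • e.symm 1 := by rw [← hm, ← Submonoid.smul_def, IsLocalizedModule.mk'_cancel']
      have hcyc : ∀ x : M, ∃ c ∉ P, ∃ a : S, c • x = a • m := by
        intro x
        obtain ⟨⟨a, v⟩, hav⟩ := IsLocalization.surj P.primeCompl (e (f x))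
        simp only at hav
        have h1 : f x = e (f x) • e.symm 1 := by rw [← map_smul, smul_eq_mul, mul_one, e.symm_apply_apply]
        have h2 : f (((t : S) * v) • x) = f (a • m) := by
          rw [map_smul, map_smul, htm, h1, ← algebraMap_smul B, ← algebraMap_smul B (t : S) (e.symm 1),
            ← algebraMap_smul B a, smul_smul, smul_smul, ← hav, map_mul]
          congr 1
          ring
        obtain ⟨⟨c, hc⟩, hc'⟩ := (IsLocalizedModule.eq_iff_exists P.primeCompl f).1 h2
        refine ⟨c * ((t : S) * v), P.primeCompl.mul_mem hc (P.primeCompl.mul_mem t.2 v.2), c * a, ?_⟩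
        rw [mul_smul c, mul_smul c]
        exact hc'
      obtain ⟨c, hc, a, hca⟩ := hcyc (g m)
      obtain ⟨G, hG⟩ := (Module.Finite.fg_top : (⊤ : Submodule S M).FG)
      have hkill : ∀ x : M, ∃ d ∉ P, d • (c • g x - a • x) = 0 := by
        intro x
        obtain ⟨d, hd, b, hdb⟩ := hcyc x
        refine ⟨d, hd, ?_⟩
        rw [smul_sub, smul_comm d c, ← map_smul, hdb, map_smul, smul_comm c b, hca, smul_comm d a, hdb, smul_comm b a, sub_self]
      choose d hd hdx using hkill
      let D := ∏ x ∈ G, d x
      have hD : D ∉ P := fun h => by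
        obtain ⟨x, -, hx⟩ := (Ideal.IsPrime.prod_mem_iff (hp := hP.isPrime)).1 h
        exact hd x hx
      have hDh : D • (c • g - a • (1 : Module.End S M)) = 0 := by
        refine LinearMap.ext_on hG fun x hx => ?_
        obtain ⟨z, hz⟩ := Finset.dvd_prod_of_mem d hx
        show D • (c • g x - a • x) = 0
        rw [show D = z * d x from hz.trans (mul_comm _ _), mul_smul, hdx, smul_zero]
      refine (P.primeCompl.mul_mem hD hc) (hle ⟨D * a, ?_⟩)
      rw [LinearMap.toSpanSingleton_apply, Algebra.linearMap_apply, Algebra.algebraMap_eq_smul_one, mul_smul, mul_smul]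
      rw [smul_sub, sub_eq_zero] at hDh
      exact hDh.symm
  · intro hbij P hP
    let J : Ideal S := Ideal.span {y | ∃ (φ : Module.Dual S M) (x : M), φ x = y}
    have hmem : ∀ (φ : Module.Dual S M) (x : M), φ x ∈ J := fun φ x => Ideal.subset_span ⟨φ, x, rfl⟩
    haveI : Module.Finite S J := Module.Finite.of_fg (IsNoetherian.noetherian J)
    have hJ : Function.Injective (Module.Dual.eval S J) := fun a b h =>
      Subtype.ext (LinearMap.congr_fun h J.subtype)
    haveI := GorOneLib.reflexive_of_torsionless hdim J hJ
    have hscal : ∀ ψ : Module.Dual S J, ∃ s : S, ψ = s • J.subtype := by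
      intro ψ
      let F : Module.Dual S M →ₗ[S] Module.Dual S M :=
        { toFun := fun φ => ψ.comp (φ.codRestrict J (hmem φ))
          map_add' := fun φ φ' => LinearMap.ext fun x => by
            simp only [LinearMap.add_apply, LinearMap.comp_apply]
            rw [← map_add]
            rfl
          map_smul' := fun r φ => LinearMap.ext fun x => by
            simp only [LinearMap.smul_apply, LinearMap.comp_apply, RingHom.id_apply]
            rw [← map_smul]
            rfl }
      let ev := Module.evalEquiv S M
      obtain ⟨s, hs⟩ := hbij.2 (ev.symm.toLinearMap ∘ₗ F.dualMap ∘ₗ ev.toLinearMap)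
      refine ⟨s, ?_⟩
      have key : ∀ (φ : Module.Dual S M) (x : M), F φ x = s * φ x := by
        intro φ x
        have h1 := congrArg ev (LinearMap.congr_fun hs x)
        simp only [LinearMap.comp_apply, LinearEquiv.coe_coe, LinearEquiv.apply_symm_apply, Module.algebraMap_end_apply, map_smul] at h1
        exact (LinearMap.congr_fun h1 φ).symm
      refine LinearMap.ext fun y => ?_
      obtain ⟨y, hy⟩ := y
      induction hy using Submodule.span_induction with
      | mem y hy =>
        obtain ⟨φ, x, rfl⟩ := hy
        exact key φ x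
      | zero => exact (map_zero ψ).trans (map_zero (s • J.subtype)).symm
      | add a b ha hb h1 h2 =>
        exact (map_add ψ ⟨a, ha⟩ ⟨b, hb⟩).trans ((congrArg₂ (· + ·) h1 h2).trans (map_add (s • J.subtype) ⟨a, ha⟩ ⟨b, hb⟩).symm)
      | smul r a ha h1 =>
        exact (map_smul ψ r ⟨a, ha⟩).trans ((congrArg (r • ·) h1).trans (map_smul (s • J.subtype) r ⟨a, ha⟩).symm)
    let μ : S →ₗ[S] Module.Dual S J := LinearMap.toSpanSingleton S _ J.subtype
    have hμ : Function.Bijective μ := by
      refine ⟨(injective_iff_map_eq_zero _).2 fun s hs => hbij.1 ?_, fun ψ => ?_⟩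
      · rw [map_zero]
        refine LinearMap.ext fun x => (Module.bijective_dual_eval S M).1 (LinearMap.ext fun φ => ?_)
        rw [Module.algebraMap_end_apply, LinearMap.zero_apply, map_zero, Module.Dual.eval_apply, map_smul]
        exact LinearMap.congr_fun hs (⟨φ x, hmem φ x⟩ : J)
      · obtain ⟨s, hs⟩ := hscal ψ
        exact ⟨s, hs.symm⟩
    obtain ⟨j, hj⟩ := (Module.bijective_dual_eval S J).2 (LinearEquiv.ofBijective μ hμ).symm.toLinearMap
    have hj1 : (j : S) = 1 := by
      have h := LinearMap.congr_fun hj (μ 1)
      rw [Module.Dual.eval_apply, LinearEquiv.coe_coe, LinearEquiv.ofBijective_symm_apply_apply] at h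
      rw [← h, LinearMap.toSpanSingleton_apply, one_smul]
      rfl
    obtain ⟨φ, m, hu⟩ : ∃ φ : Module.Dual S M, ∃ m : M, φ m ∉ P := by
      by_contra hcon
      push_neg at hcon
      refine hP.ne_top ((Ideal.eq_top_iff_one _).2 ((?_ : J ≤ P) (hj1 ▸ j.2)))
      exact Ideal.span_le.2 fun _ ⟨φ, x, h⟩ => h ▸ hcon φ x
    obtain ⟨s, hs⟩ := hbij.2 (φ.smulRight m)
    have hsx : ∀ x, s • x = φ x • m := fun x => LinearMap.congr_fun hs x
    have hsu : φ m * φ m = φ m * s := by
      have h := congrArg φ (hsx m)
      rw [map_smul, map_smul, smul_eq_mul, smul_eq_mul] at h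
      rw [mul_comm (φ m) s]
      exact h.symm
    let B := Localization.AtPrime P
    let f := LocalizedModule.mkLinearMap P.primeCompl M
    let Φ := IsLocalizedModule.mapExtendScalars P.primeCompl f (Algebra.linearMap S B) B φ
    have hΦ : ∀ x, Φ (f x) = algebraMap S B (φ x) := fun x =>
      IsLocalizedModule.map_apply P.primeCompl f (Algebra.linearMap S B) φ x
    refine ⟨LinearEquiv.ofBijective Φ ⟨(injective_iff_map_eq_zero _).2 fun z hz => ?_, fun b => ?_⟩⟩
    · obtain ⟨⟨x, t⟩, htz⟩ := IsLocalizedModule.surj P.primeCompl f z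
      have h1 : algebraMap S B (φ x) = 0 := by
        rw [← hΦ, ← htz, Submonoid.smul_def, LinearMap.map_smul_of_tower, hz, smul_zero]
      obtain ⟨⟨c, hc⟩, hc0⟩ := (IsLocalization.map_eq_zero_iff P.primeCompl _ _).1 h1
      have h2 : f x = 0 := by
        rw [IsLocalizedModule.eq_zero_iff P.primeCompl f]
        refine ⟨⟨c * (φ m * φ m), P.primeCompl.mul_mem hc (P.primeCompl.mul_mem hu hu)⟩, ?_⟩
        rw [Submonoid.mk_smul, hsu, ← mul_assoc, mul_smul, hsx, smul_smul, mul_right_comm, hc0, zero_mul, zero_smul]
      refine (IsLocalizedModule.smul_inj f t z 0).1 ?_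
      rw [htz, smul_zero]
      exact h2
    · obtain ⟨c, hc⟩ := IsLocalization.map_units B (⟨φ m, hu⟩ : P.primeCompl)
      refine ⟨(b * ↑c⁻¹) • f m, ?_⟩
      rw [map_smul, hΦ, smul_eq_mul, mul_assoc]
      have : algebraMap S B (φ m) = (c : B) := hc.symm
      rw [this, Units.inv_mul, mul_one]

end Groth.Agent.S17990
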