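import Mathlib
import Groth.Agent.WeilNumLib.Order
import Groth.Agent.PicLib.Surjective
import Groth.Statements.S17999

set_option autoImplicit false
universe u
open MvPolynomial
open WeilNum

namespace Groth.Agent.S17999
theorem exists_den (f : Polynomial ℚ) : ∃ n : ℤ, n ≠ 0 ∧
    ∃ g : Polynomial ℤ, g.map (Int.castRingHom ℚ) = Polynomial.C (n : ℚ) * f := by
  induction f using Polynomial.induction_on' with
  | add f f' hf hf' =>
    obtain ⟨n, hn, g, hg⟩ := hf
    obtain ⟨n', hn', g', hg'⟩ := hf'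
    refine ⟨n * n', mul_ne_zero hn hn', Polynomial.C n' * g + Polynomial.C n * g', ?_⟩
    simp only [Polynomial.map_add, Polynomial.map_mul, Polynomial.map_C, hg, hg', Int.coe_castRingHom,
      Int.cast_mul, map_mul]
    ring
  | monomial k c =>
    refine ⟨c.den, Int.natCast_ne_zero.2 c.den_nz, Polynomial.monomial k c.num, ?_⟩
    rw [Polynomial.map_monomial, Polynomial.C_mul_monomial, eq_intCast, Int.cast_natCast,
      mul_comm, Rat.mul_den_eq_num]


/-- The case of finite sets of Weil numbers; let p be a prime, e ≥ 1 and q = p^e; let (π_j)_{j ∈ J} be a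
finite family of pairwise nonconjugate Weil q-numbers (π_j in a field K_j of characteristic zero,
integral over ℤ with minimal polynomial P_j, all complex roots of P_j of absolute value √q, P_i ≠
P_j for i ≠ j), and let e : J' → J be an injective map selecting a subfamily. Let I_w, resp. I_v, be
the kernel of ℤ[F, V] → ∏_{j ∈ J} K_j, resp. → ∏_{j' ∈ J'} K_{e(j')}, sending F ↦ (π_j) and V ↦
(q/π_j); then I_w ⊆ I_v and ℤ[F,V]/I_w → ℤ[F,V]/I_v is the natural surjection R_w → R_v of minimal
central orders. Then the induced homomorphism of Picard groups Pic(R_w) → Pic(R_v) is surjective.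
The published statement concerns the Picard groups of the pro-rings attached to arbitrary subsets V
⊆ W of Weil q-number classes; only the case of finite sets is stated here. -/
theorem result (p e : ℕ) [Fact p.Prime] (he : 0 < e)
    (J J' : Type) [Fintype J] [Fintype J'] (emb : J' → J) (hemb : Function.Injective emb)
    (K : J → Type u) [∀ j, Field (K j)] [∀ j, CharZero (K j)] (ϖ : ∀ j, K j)
    (hint : ∀ j, IsIntegral ℤ (ϖ j))
    (hweil : ∀ j, ∀ z ∈ (minpoly ℤ (ϖ j)).aroots ℂ, ‖z‖ = Real.sqrt ((p : ℝ) ^ e))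
    (hinj : ∀ i j, minpoly ℤ (ϖ i) = minpoly ℤ (ϖ j) → i = j)
    (hle : RingHom.ker (MvPolynomial.aeval ![fun j => ϖ j, fun j => ((p : K j) ^ e) / ϖ j] :
          MvPolynomial (Fin 2) ℤ →ₐ[ℤ] ((j : J) → K j)) ≤
        RingHom.ker (MvPolynomial.aeval ![fun j' => ϖ (emb j'), fun j' => ((p : K (emb j')) ^ e) / ϖ (emb j')] :
          MvPolynomial (Fin 2) ℤ →ₐ[ℤ] ((j' : J') → K (emb j')))) :
    Function.Surjective (CommRing.Pic.mapRingHom (Ideal.Quotient.factor hle)) := by
  classical
  have hq : 0 < p ^ e := pow_pos (Fact.out : p.Prime).pos e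
  have hn : ∀ i, ∀ z ∈ (minpoly ℤ (ϖ i)).aroots ℂ, ‖z‖ ^ 2 = ((p ^ e : ℕ) : ℝ) := fun i z hz => by
    rw [hweil i z hz, Real.sq_sqrt (by positivity)]; push_cast; rfl
  let J'' := {j : J // j ∉ Set.range emb}
  set φw := (MvPolynomial.aeval ![fun j => ϖ j, fun j => ((p : K j) ^ e) / ϖ j] :
          MvPolynomial (Fin 2) ℤ →ₐ[ℤ] ((j : J) → K j)) with hφw
  set φv := (MvPolynomial.aeval ![fun j' => ϖ (emb j'), fun j' => ((p : K (emb j')) ^ e) / ϖ (emb j')] :
          MvPolynomial (Fin 2) ℤ →ₐ[ℤ] ((j' : J') → K (emb j'))) with hφv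
  let φu := Groth.Agent.WeilNumLib.evalFV (fun j : J'' => ϖ j.1) (p ^ e)
  have hw : φw = Groth.Agent.WeilNumLib.evalFV ϖ (p ^ e) := by
    simp [φw, Groth.Agent.WeilNumLib.evalFV]
  have hv : φv = Groth.Agent.WeilNumLib.evalFV (fun j' => ϖ (emb j')) (p ^ e) := by
    simp [φv, Groth.Agent.WeilNumLib.evalFV]
  have hwv : ∀ g j', φw g (emb j') = φv g j' := fun g j' => by
    rw [hw, hv, Groth.Agent.WeilNumLib.evalFV_apply, Groth.Agent.WeilNumLib.evalFV_apply]
  have hwu : ∀ g (j : J''), φw g j.1 = φu g j := fun g j => by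
    rw [hw, Groth.Agent.WeilNumLib.evalFV_apply]
    exact (Groth.Agent.WeilNumLib.evalFV_apply (fun j : J'' => ϖ j.1) (p ^ e) g j).symm
  have hleu : RingHom.ker φw ≤ RingHom.ker φu := fun g hg => by
    rw [RingHom.mem_ker] at hg ⊢
    funext j
    rw [← hwu, hg]
    rfl
  have hinf : RingHom.ker φv ⊓ RingHom.ker φu ≤ RingHom.ker φw := by
    rintro g ⟨hgv, hgu⟩
    rw [RingHom.mem_ker]
    funext j
    by_cases hj : j ∈ Set.range emb
    · obtain ⟨j', rfl⟩ := hj
      rw [hwv, RingHom.mem_ker.1 hgv]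
      rfl
    · exact (hwu g ⟨j, hj⟩).trans (congrFun (RingHom.mem_ker.1 hgu) ⟨j, hj⟩)
  -- an integer in the sum of the two kernels
  let Pv := Groth.Agent.WeilNumLib.prodMin (fun j' => ϖ (emb j'))
  let Pu := Groth.Agent.WeilNumLib.prodMin (fun j : J'' => ϖ j.1)
  have hirr : ∀ i, Irreducible ((minpoly ℤ (ϖ i)).map (Int.castRingHom ℚ)) := fun i => by
    have h1 := minpoly.irreducible (hint i).tower_top (A := ℚ)
    rwa [minpoly.isIntegrallyClosed_eq_field_fractions' ℚ (hint i)] at h1
  have hcop : IsCoprime (Pv.map (Int.castRingHom ℚ)) (Pu.map (Int.castRingHom ℚ)) := by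
    simp only [Pv, Pu, Groth.Agent.WeilNumLib.prodMin, Polynomial.map_prod]
    refine IsCoprime.prod_left fun i _ => IsCoprime.prod_right fun j _ => ?_
    refine (hirr _).coprime_iff_not_dvd.2 fun hdvd => j.2 ⟨i, hinj _ _ ?_⟩
    exact Polynomial.map_injective (Int.castRingHom ℚ) Int.cast_injective
      (Polynomial.eq_of_monic_of_associated ((minpoly.monic (hint _)).map _)
        ((minpoly.monic (hint _)).map _) ((hirr _).associated_of_dvd (hirr _) hdvd))
  obtain ⟨a, b, hab⟩ := hcop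
  obtain ⟨n, hn0, a', ha'⟩ := exists_den a
  obtain ⟨m, hm0, b', hb'⟩ := exists_den b
  have hid : Polynomial.C m * a' * Pv + Polynomial.C n * b' * Pu = Polynomial.C (n * m) := by
    apply Polynomial.map_injective (Int.castRingHom ℚ) Int.cast_injective
    simp only [Polynomial.map_add, Polynomial.map_mul, Polynomial.map_C, ha', hb', Int.coe_castRingHom,
      Int.cast_mul, map_mul]
    linear_combination (Polynomial.C (n : ℚ) * Polynomial.C (m : ℚ)) * hab
  let X0 : MvPolynomial (Fin 2) ℤ := X 0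
  have hPv : Polynomial.aeval X0 Pv ∈ RingHom.ker φv := by
    rw [RingHom.mem_ker, hv, ← Polynomial.aeval_algHom_apply, Groth.Agent.WeilNumLib.evalFV,
      MvPolynomial.aeval_X]
    exact Groth.Agent.WeilNumLib.prodMin_aeval_pi fun j' => hint (emb j')
  have hPu : Polynomial.aeval X0 Pu ∈ RingHom.ker φu := by
    rw [RingHom.mem_ker, ← Polynomial.aeval_algHom_apply]
    simp only [φu, Groth.Agent.WeilNumLib.evalFV, X0, MvPolynomial.aeval_X]
    exact Groth.Agent.WeilNumLib.prodMin_aeval_pi fun j : J'' => hint j.1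
  have hnm : C (n * m) ∈ RingHom.ker φv ⊔ RingHom.ker φu := by
    have h1 := congrArg (Polynomial.aeval X0) hid
    rw [map_add, map_mul (Polynomial.aeval X0), map_mul (Polynomial.aeval X0) _ Pu,
      Polynomial.aeval_C] at h1
    rw [show (C (n * m) : MvPolynomial (Fin 2) ℤ) = algebraMap ℤ (MvPolynomial (Fin 2) ℤ) (n * m)
      from rfl, ← h1]
    exact add_mem (Ideal.mem_sup_left (Ideal.mul_mem_left _ _ hPv))
      (Ideal.mem_sup_right (Ideal.mul_mem_left _ _ hPu))
  set T := RingHom.ker φv ⊔ RingHom.ker φu with hT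
  haveI : Finite (MvPolynomial (Fin 2) ℤ ⧸ T) := by
    haveI : Module.Finite ℤ φw.range := by
      rw [hw]; exact Groth.Agent.WeilNumLib.finite_range hint hn hq
    haveI : Module.Finite ℤ (MvPolynomial (Fin 2) ℤ ⧸ RingHom.ker φw) :=
      Module.Finite.equiv (Ideal.quotientKerEquivRange φw).symm.toLinearEquiv
    haveI : Module.Finite ℤ (MvPolynomial (Fin 2) ℤ ⧸ T) :=
      Module.Finite.of_surjective
        (Ideal.Quotient.factor (hle.trans le_sup_left : RingHom.ker φw ≤ T)).toIntAlgHom.toLinearMap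
        (Ideal.Quotient.factor_surjective (hle.trans le_sup_left : RingHom.ker φw ≤ T))
    haveI : AddGroup.FG (MvPolynomial (Fin 2) ℤ ⧸ T) := Module.Finite.iff_addGroup_fg.1 inferInstance
    refine AddCommGroup.finite_of_fg_torsion _ fun x => ?_
    rw [isOfFinAddOrder_iff_zsmul_eq_zero]
    refine ⟨n * m, mul_ne_zero hn0 hm0, ?_⟩
    obtain ⟨g, rfl⟩ := Ideal.Quotient.mk_surjective x
    rw [zsmul_eq_mul, ← map_intCast (Ideal.Quotient.mk T), ← map_mul, Ideal.Quotient.eq_zero_iff_mem]
    refine Ideal.mul_mem_right _ _ ?_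
    rwa [show ((n * m : ℤ) : MvPolynomial (Fin 2) ℤ) = C (n * m) from
      (eq_intCast (C : ℤ →+* MvPolynomial (Fin 2) ℤ) _).symm]
  exact Groth.Agent.PicLib.pic_surjective_factor (RingHom.ker φw) (RingHom.ker φv) (RingHom.ker φu)
    hle hleu hinf

end Groth.Agent.S17999
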