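import Mathlib
import Groth.Agent.WeilNumLib.Order
import Groth.Statements.S18003

set_option autoImplicit false
universe u
open MvPolynomial
open WeilNum

namespace Groth.Agent.S18003

/-- Let p be a prime, e ≥ 1 and q = p^e; let (π_i) be a finite family of pairwise nonconjugate Weil
q-numbers (π_i in a field K_i of characteristic zero, integral over ℤ with minimal polynomial P_i,
all complex roots of P_i of absolute value √q, P_i ≠ P_j for i ≠ j) of even total degree Σ_i deg
P_i, P_w = ∏_i P_i, and R_w ⊆ ∏_i K_i the minimal central order, the image of ℤ[F, V] → ∏_i K_i, F ↦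
(π_i), V ↦ (q/π_i). Let T be a finitely generated free ℤ-module and F_T an endomorphism of T. Then
there exists an R_w-module structure on the additive group T in which the class of F acts as F_T if
and only if P_w(F_T) = 0 (equivalently: F_T is semisimple after tensoring with ℚ, with eigenvalues
among the conjugates of the π_i) and there is an endomorphism V_T of T with F_T ∘ V_T = q. When it
exists the structure is determined by F_T (the class of V acts as V_T = q·F_T⁻¹), and reflexive
R_w-modules are exactly the ℤ-free finitely generated ones, so this identifies the objects of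
Refl(R_w) with such pairs (T, F_T); the uniqueness remark is not part of the formal statement. -/
theorem result (p e : ℕ) [Fact p.Prime] (he : 0 < e)
    (ι : Type) [Fintype ι] (K : ι → Type u) [∀ i, Field (K i)] [∀ i, CharZero (K i)] (π : ∀ i, K i)
    (hint : ∀ i, IsIntegral ℤ (π i))
    (hweil : ∀ i, ∀ z ∈ (minpoly ℤ (π i)).aroots ℂ, ‖z‖ = Real.sqrt ((p : ℝ) ^ e))
    (hinj : ∀ i j, minpoly ℤ (π i) = minpoly ℤ (π j) → i = j)
    (D : ℕ) (hD : ∑ i, (minpoly ℤ (π i)).natDegree = 2 * D)
    (T : Type) [AddCommGroup T] [Module.Finite ℤ T] [Module.Free ℤ T] (FT : T →ₗ[ℤ] T) :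
    (∃ _ : Module (MvPolynomial.aeval ![fun i => π i, fun i => ((p : K i) ^ e) / π i] :
        MvPolynomial (Fin 2) ℤ →ₐ[ℤ] ((i : ι) → K i)).range T,
        ∀ t : T, (⟨(MvPolynomial.aeval ![fun i => π i, fun i => ((p : K i) ^ e) / π i] :
        MvPolynomial (Fin 2) ℤ →ₐ[ℤ] ((i : ι) → K i)) (X 0), AlgHom.mem_range_self _ _⟩ : (MvPolynomial.aeval ![fun i => π i, fun i => ((p : K i) ^ e) / π i] :
        MvPolynomial (Fin 2) ℤ →ₐ[ℤ] ((i : ι) → K i)).range) • t = FT t) ↔
      (Polynomial.aeval FT (∏ i, minpoly ℤ (π i)) = 0 ∧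
        ∃ VT : T →ₗ[ℤ] T, FT ∘ₗ VT = ((p : ℤ) ^ e) • LinearMap.id) := by
  have hq : 0 < p ^ e := pow_pos (Fact.out : p.Prime).pos e
  have hn : ∀ i, ∀ z ∈ (minpoly ℤ (π i)).aroots ℂ, ‖z‖ ^ 2 = ((p ^ e : ℕ) : ℝ) := fun i z hz => by
    rw [hweil i z hz, Real.sq_sqrt (by positivity)]; push_cast; rfl
  have hφ : (MvPolynomial.aeval ![fun i => π i, fun i => ((p : K i) ^ e) / π i] :
      MvPolynomial (Fin 2) ℤ →ₐ[ℤ] ((i : ι) → K i)) = Groth.Agent.WeilNumLib.evalFV π (p ^ e) := by
    simp [Groth.Agent.WeilNumLib.evalFV]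
  set φ := (MvPolynomial.aeval ![fun i => π i, fun i => ((p : K i) ^ e) / π i] :
      MvPolynomial (Fin 2) ℤ →ₐ[ℤ] ((i : ι) → K i)) with hφdef
  let F : φ.range := ⟨φ (X 0), AlgHom.mem_range_self _ _⟩
  have hpoly : ∀ f : Polynomial ℤ, φ (Polynomial.aeval (X 0 : MvPolynomial (Fin 2) ℤ) f) =
      Polynomial.aeval (fun i => π i) f := fun f => by
    rw [← Polynomial.aeval_algHom_apply, hφdef, MvPolynomial.aeval_X]
    rfl
  constructor
  · rintro ⟨mod, hF⟩
    have hP : ∀ (f : Polynomial ℤ) (t : T), (Polynomial.aeval F f) • t = Polynomial.aeval FT f t := by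
      intro f
      induction f using Polynomial.induction_on with
      | C c =>
        intro t
        rw [Polynomial.aeval_C, Polynomial.aeval_C, eq_intCast, eq_intCast, Int.cast_smul_eq_zsmul]
        simp [Module.End.intCast_apply]
      | add f g hf hg => intro t; rw [map_add, map_add, add_smul, hf, hg, LinearMap.add_apply]
      | monomial n c h =>
        intro t
        rw [pow_succ, ← mul_assoc]
        simp only [map_mul, Polynomial.aeval_X] at h ⊢
        rw [mul_smul, hF, h]
        rfl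
    refine ⟨LinearMap.ext fun t => ?_, ?_⟩
    · have h0 : Polynomial.aeval F (∏ i, minpoly ℤ (π i)) = 0 := by
        apply Subtype.ext
        rw [← Subalgebra.aeval_coe]
        change Polynomial.aeval (φ (X 0)) _ = 0
        rw [hφdef, MvPolynomial.aeval_X]
        exact Groth.Agent.WeilNumLib.prodMin_aeval_pi hint
      rw [← hP, h0, zero_smul]
      rfl
    · let V : φ.range := ⟨φ (X 1), AlgHom.mem_range_self _ _⟩
      have hFV : F * V = (((p : ℤ) ^ e : ℤ) : φ.range) := by
        apply Subtype.ext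
        funext i
        have hx := Groth.Agent.WeilNumLib.pi_ne_zero hint hn hq i
        simp [F, V, hφdef, mul_div_cancel₀ _ hx]
      refine ⟨(DistribSMul.toAddMonoidHom T V).toIntLinearMap, LinearMap.ext fun t => ?_⟩
      show FT (V • t) = ((p : ℤ) ^ e) • t
      rw [← hF, ← mul_smul]
      change (F * V) • t = _
      rw [hFV, Int.cast_smul_eq_zsmul]
  · rintro ⟨hP, VT, hFV⟩
    have hinjF : Function.Injective FT := by
      have hdet : LinearMap.det FT * LinearMap.det VT ≠ 0 := by
        rw [← map_mul, Module.End.mul_eq_comp, hFV, LinearMap.det_smul, LinearMap.det_id, mul_one]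
        exact pow_ne_zero _ (pow_ne_zero _ (by exact_mod_cast (Fact.out : p.Prime).ne_zero))
      rw [← LinearMap.ker_eq_bot]
      by_contra hk
      exact left_ne_zero_of_mul hdet (LinearMap.det_eq_zero_iff_ker_ne_bot.2 hk)
    have hVF : VT ∘ₗ FT = ((p : ℤ) ^ e) • LinearMap.id := LinearMap.ext fun t => hinjF (by
      have := LinearMap.congr_fun hFV (FT t)
      simp only [LinearMap.comp_apply, LinearMap.smul_apply, LinearMap.id_apply] at this ⊢
      rw [map_smul]
      exact this)
    have hcomm : ∀ a ∈ ({FT, VT} : Set (Module.End ℤ T)), ∀ b ∈ ({FT, VT} : Set (Module.End ℤ T)),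
        a * b = b * a := by
      rintro a (rfl | rfl) b (rfl | rfl) <;> simp only [Module.End.mul_eq_comp, hFV, hVF]
    letI := Algebra.adjoinCommRingOfComm ℤ hcomm
    let S := Algebra.adjoin ℤ ({FT, VT} : Set (Module.End ℤ T))
    let fS : S := ⟨FT, Algebra.subset_adjoin (Set.mem_insert _ _)⟩
    let vS : S := ⟨VT, Algebra.subset_adjoin (Set.mem_insert_of_mem _ rfl)⟩
    let ψ : MvPolynomial (Fin 2) ℤ →+* S := MvPolynomial.eval₂Hom (Int.castRingHom S) ![fS, vS]
    let Ψ : MvPolynomial (Fin 2) ℤ →+* Module.End ℤ T := S.val.toRingHom.comp ψ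
    have hΨ0 : Ψ (X 0) = FT := by simp [Ψ, ψ, fS]
    have hΨ1 : Ψ (X 1) = VT := by simp [Ψ, ψ, vS]
    obtain ⟨h, hh⟩ := Groth.Agent.WeilNumLib.exists_h hint hn hD hq
    have hker : RingHom.ker φ = Ideal.span {X 0 * X 1 - C ((p ^ e : ℕ) : ℤ), h} := by
      rw [hφ]
      exact Groth.Agent.WeilNumLib.ker_evalFV hint hn hinj hD hq hh
    have hr : Ψ (X 0 * X 1 - C ((p ^ e : ℕ) : ℤ)) = 0 := by
      rw [map_sub, map_mul, hΨ0, hΨ1, sub_eq_zero, Module.End.mul_eq_comp, hFV]
      ext t
      simp [Ψ, ψ]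
    have hPF : Ψ (Polynomial.aeval (X 0 : MvPolynomial (Fin 2) ℤ) (∏ i, minpoly ℤ (π i))) = 0 := by
      rw [← hP, ← hΨ0]
      exact (Polynomial.aeval_algHom_apply Ψ.toIntAlgHom (X 0) (∏ i, minpoly ℤ (π i))).symm
    have hh0 : Ψ h = 0 := by
      have h1 : Ψ (X 0 ^ D * h) = 0 := by
        have h2 : X 0 ^ D * h - Polynomial.aeval (X 0 : MvPolynomial (Fin 2) ℤ)
            (∏ i, minpoly ℤ (π i)) ∈ RingHom.ker Ψ := by
          refine Ideal.span_le.2 ?_ hh
          rintro _ rfl
          exact hr
        rw [RingHom.mem_ker, map_sub, hPF, sub_zero] at h2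
        exact h2
      rw [map_mul, map_pow, hΨ0] at h1
      refine LinearMap.ext fun t => ?_
      apply Function.Injective.iterate hinjF D
      have := LinearMap.congr_fun h1 t
      rw [Module.End.mul_apply, Module.End.pow_apply] at this
      simpa [iterate_map_zero] using this
    have hle : RingHom.ker φ.rangeRestrict.toRingHom ≤ RingHom.ker Ψ := by
      intro g hg
      have hg' : g ∈ RingHom.ker φ := RingHom.mem_ker.2 (congrArg Subtype.val (RingHom.mem_ker.1 hg))
      rw [hker] at hg'
      refine Ideal.span_le.2 ?_ hg'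
      rintro _ (rfl | rfl)
      exacts [hr, hh0]
    let Φ : φ.range →+* Module.End ℤ T := φ.rangeRestrict.toRingHom.liftOfSurjective
      φ.rangeRestrict_surjective ⟨Ψ, hle⟩
    refine ⟨Module.compHom T Φ, fun t => ?_⟩
    change Φ (φ.rangeRestrict.toRingHom (X 0)) t = FT t
    rw [RingHom.liftOfRightInverse_comp_apply, hΨ0]

end Groth.Agent.S18003
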