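import Groth.Statements.S18008
import Groth.Agent.AffLiftLib.One

set_option autoImplicit false
universe u
open ThetaS

set_option backward.isDefEq.respectTransparency false
set_option backward.isDefEq.respectTransparency.types false

namespace Groth.Agent.S18008

open CategoryTheory AlgebraicGeometry MonoidalCategory CartesianMonoidalCategory MonObj in
theorem orbit_eq (R : Type u) [CommRing R] :
    lift (𝟙 (Gm R)) (Over.homMk ((Gm R).hom ≫ onePt R) (by
        rw [Category.assoc, onePt_hom, Category.comp_id]) : Gm R ⟶ Line R) ≫ (lineAction R).act =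
      CoactBr.pt (linePt (zPow R 1)) := by
  have h₁ : (Over.homMk ((Gm R).hom ≫ onePt R) (by
        rw [Category.assoc, onePt_hom, Category.comp_id]) : Gm R ⟶ Line R) =
      CoactBr.pt (linePt (1 : Lau R)) := by
    apply Over.OverMorphism.ext
    change Spec.map (CommRingCat.ofHom (algebraMap R (Lau R))) ≫
      Spec.map (CommRingCat.ofHom (lineOne R).toRingHom) = _
    rw [CoactBr.pt_left, ← Spec.map_comp]
    congr 1
    apply CommRingCat.hom_ext
    apply Polynomial.ringHom_ext <;> simp [MonoidAlgebra.one_def]
  rw [h₁]
  refine (congrArg (fun g => lift g (CoactBr.pt (linePt (1 : Lau R))) ≫ (lineAction R).act)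
    (CoactBr.pt_id (R := R) (B := Lau R)).symm).trans ?_
  rw [lineAction_pt]
  simp

open CategoryTheory AlgebraicGeometry in
/-- Let f : X → Y be a functor over (Sch/S) between algebraic stacks (fppf topology) which is
representable by algebraic spaces and separated (its diagonal is representable by algebraic spaces
and proper). Then for every commutative ring R and every Spec R → S, in any 2-commutative square
whose left side is the point 1 : Spec R → Θ_R = [A¹_R/G_m] and whose right side is f, any two dotted
arrows Θ_R → X are related by exactly one morphism of dotted arrows. (The published statement says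
that the evaluation morphism on filtrations is a monomorphism, and assumes moreover that X and Y are
locally of finite presentation over S, have quasi-compact and separated diagonals, and have affine
stabilizers; those hypotheses are not assumed here.) -/
theorem result {S : Scheme.{u}} (𝒳 𝒴 : AlgSt.Cat S)
    (f : 𝒳 ⥤ᵇ 𝒴) (h𝒳 : AlgSt.IsAlgStack Scheme.fppfPrecoverage 𝒳) (h𝒴 : AlgSt.IsAlgStack Scheme.fppfPrecoverage 𝒴)
    (hrep : AlgSt.RepByAlgSp1 f) (hsep : AlgSt.IsSeparatedMor f)
    (R : Type u) [CommRing R] (h : Spec (CommRingCat.of R) ⟶ S) :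
    LiftSq.LiftsUnique (ThetaS.thetaOne Scheme.fppfPrecoverage R h) f := by
  haveI := h𝒳.isStack.1
  haveI := h𝒴.isStack.1
  have hf : AlgSt.RepByAlgSpWith AlgSp.IsSeparatedMor f :=
    Groth.Agent.ASt.isSeparatedMor_of_diag hrep
      (Groth.Agent.ASt.repByAlgSpWith_mono (fun _ _ a _ _ h => h.2.2) hsep)
  have hfa : f.toFunctor.Faithful := Groth.Agent.ASt.faithful_of_repByAlgSp1 hrep
  have hinj : Function.Injective ((linePt (zPow R 1) : Polynomial R →ₐ[R] Lau R)) := by
    have e : ∀ (p : Polynomial R) (n : ℕ),
        (((linePt (zPow R 1) : Polynomial R →ₐ[R] Lau R) p)).coeff (Multiplicative.ofAdd (n : ℤ)) = p.coeff n := by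
      intro p n
      induction p using Polynomial.induction_on' with
      | add p q hp hq => simp [hp, hq]
      | monomial m r =>
        simp [Polynomial.aeval_monomial, zPow, MonoidAlgebra.single_pow, MonoidAlgebra.coe_algebraMap,
          MonoidAlgebra.single_mul_single, Polynomial.coeff_monomial, Finsupp.single_apply, ← ofAdd_nsmul]
    intro p q hpq
    ext n
    rw [← e p n, ← e q n, hpq]
  refine Groth.Agent.AffLift.liftsUnique_of_orbit (y := (Over.homMk ((Gm R).hom ≫ onePt R) (by
      rw [Category.assoc, onePt_hom, Category.comp_id]) : Gm R ⟶ Line R)) h hf hfa _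
    (isAffine_Spec _) (isAffine_Spec _) ?_ (Gm R) rfl
  rw [orbit_eq, CoactBr.pt_left]
  intro p q hpq
  refine (ConcreteCategory.bijective_of_isIso (Scheme.ΓSpecIso _).hom).1 (hinj ?_)
  have := fun p => congrArg (fun φ => φ p)
    (congrArg (fun φ => φ.hom) (Scheme.ΓSpecIso_naturality
      (CommRingCat.ofHom ((linePt (zPow R 1) : Polynomial R →ₐ[R] Lau R)).toRingHom)))
  exact ((this p).symm.trans (congrArg (Scheme.ΓSpecIso (CommRingCat.of (Lau R))).hom hpq)).trans (this q)

end Groth.Agent.S18008
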