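import Groth.Statements.S18014
import Groth.Agent.FPPairLib.Basic

set_option autoImplicit false
universe u
open CategoryTheory CategoryTheory.Limits
open Lim

namespace Groth.Agent.S18014


open MvPolynomial Groth.Agent.FPPairLib Groth.Agent.FPSysLib.Alg

noncomputable section

variable {A B : Type u} [CommRing A] [CommRing B] [Algebra A B]

/-- Relations forcing integrality, and triviality when the base surjects. -/
theorem exists_rels [Algebra.IsIntegral A B] (b : B) : ∃ z w : MvPolynomial B A,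
    aeval (id : B → B) z = 0 ∧ aeval (id : B → B) w = 0 ∧
    (∀ (p : Idx A B), z ∈ p.1.2 → ∀ hb : b ∈ p.1.1, IsIntegral A (Ideal.Quotient.mk (rel p) (X ⟨b, hb⟩) : Stage p)) ∧
    (Function.Surjective (algebraMap A B) → ∀ (p : Idx A B), w ∈ p.1.2 → ∀ hb : b ∈ p.1.1,
      ∃ a, (Ideal.Quotient.mk (rel p) (X ⟨b, hb⟩) : Stage p) = algebraMap A (Stage p) a) := by
  classical
  obtain ⟨P, hPm, hP⟩ := Algebra.IsIntegral.isIntegral (R := A) b
  have hz : aeval (id : B → B) (Polynomial.aeval (X b : MvPolynomial B A) P) = 0 := by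
    rw [← Polynomial.aeval_algHom_apply, aeval_X]
    exact hP
  have hint : ∀ (p : Idx A B), Polynomial.aeval (X b : MvPolynomial B A) P ∈ p.1.2 → ∀ hb : b ∈ p.1.1,
      IsIntegral A (Ideal.Quotient.mk (rel p) (X ⟨b, hb⟩) : Stage p) := by
    intro p hp hb
    refine ⟨P, hPm, ?_⟩
    show Polynomial.aeval (Ideal.Quotient.mkₐ A (rel p) (X ⟨b, hb⟩)) P = 0
    rw [Polynomial.aeval_algHom_apply]
    refine mk_eq_zero_of_mem p _ ?_
    rw [← Polynomial.aeval_algHom_apply, rename_X]
    exact hp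
  by_cases hs : Function.Surjective (algebraMap A B)
  · obtain ⟨a, rfl⟩ := hs b
    refine ⟨_, X (algebraMap A B a) - C a, hz, by simp, hint, fun _ p hp hb => ⟨a, ?_⟩⟩
    rw [← sub_eq_zero]
    show Ideal.Quotient.mk (rel p) (X ⟨_, hb⟩) - Ideal.Quotient.mk (rel p) (C a) = 0
    rw [← map_sub]
    exact mk_eq_zero_of_mem p _ (by rw [map_sub, rename_X, rename_C]; exact hp)
  · exact ⟨_, 0, hz, map_zero _, hint, fun h => absurd h hs⟩

/-- The generators of the stage all have their relations. -/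
def Rels [Algebra.IsIntegral A B] (p : Idx A B) : Prop :=
  ∀ b ∈ p.1.1, (exists_rels b).choose ∈ p.1.2 ∧ (exists_rels b).choose_spec.choose ∈ p.1.2

theorem exists_rels_ge [Algebra.IsIntegral A B] (p : Idx A B) : ∃ q : Idx A B, p ≤ q ∧ q.1.1 = p.1.1 ∧ Rels q := by
  classical
  refine ⟨addRel p (p.1.1.image (fun b => (exists_rels (A := A) b).choose) ∪
    p.1.1.image (fun b => (exists_rels (A := A) b).choose_spec.choose)) ?_, le_addRel _ _ _, rfl, fun b hb => ?_⟩
  · intro z hz
    rcases Finset.mem_union.mp hz with hz | hz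
    · obtain ⟨b, -, rfl⟩ := Finset.mem_image.mp hz
      exact (exists_rels b).choose_spec.choose_spec.1
    · obtain ⟨b, -, rfl⟩ := Finset.mem_image.mp hz
      exact (exists_rels b).choose_spec.choose_spec.2.1
  · exact ⟨mem_addRel.mpr (Or.inr (Finset.mem_union_left _ (Finset.mem_image_of_mem _ hb))),
      mem_addRel.mpr (Or.inr (Finset.mem_union_right _ (Finset.mem_image_of_mem _ hb)))⟩

theorem Rels.of_le [Algebra.IsIntegral A B] {p q : Idx A B} (h : Rels p) (hpq : p ≤ q) (e : q.1.1 = p.1.1) : Rels q :=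
  fun b hb => ⟨hpq.2 (h b (e.le hb)).1, hpq.2 (h b (e.le hb)).2⟩

theorem Rels.finite [Algebra.IsIntegral A B] {p : Idx A B} (h : Rels p) : Module.Finite A (Stage p) :=
  finite_stage p fun x => (exists_rels x.1).choose_spec.choose_spec.2.2.1 p (h x.1 x.2).1 x.2

theorem Rels.surjective [Algebra.IsIntegral A B] {p : Idx A B} (h : Rels p) (hs : Function.Surjective (algebraMap A B)) :
    Function.Surjective (algebraMap A (Stage p)) := by
  intro z
  obtain ⟨w, rfl⟩ := Ideal.Quotient.mk_surjective z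
  induction w using MvPolynomial.induction_on with
  | C r => exact ⟨r, rfl⟩
  | add a b ha hb =>
    obtain ⟨x, hx⟩ := ha
    obtain ⟨y, hy⟩ := hb
    exact ⟨x + y, by rw [map_add, hx, hy, ← map_add]⟩
  | mul_X a x ha =>
    obtain ⟨u, hu⟩ := ha
    obtain ⟨v, hv⟩ := (exists_rels x.1).choose_spec.choose_spec.2.2.2 hs p (h x.1 x.2).2 x.2
    exact ⟨u * v, by rw [map_mul, hu, ← hv, ← map_mul]⟩

theorem isNilpotent_ker_stage (p : Idx A B) (h : IsNilpotent (RingHom.ker (algebraMap A B))) :
    IsNilpotent (RingHom.ker (algebraMap A (Stage p))) := by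
  obtain ⟨n, hn⟩ := h
  refine ⟨n, le_bot_iff.mp ((pow_le_pow_left' ?_ n).trans hn.le)⟩
  intro a ha
  show algebraMap A B a = 0
  rw [← (toLim p).commutes, show algebraMap A (Stage p) a = 0 from ha, map_zero]

variable {C : Type u} [CommRing C] [Algebra A C] (g : B →ₐ[A] C)
  [Algebra.IsIntegral A B] [Algebra.IsIntegral A C]

/-- The required properties of a pair of stages. -/
def Good (t : Idx A B × Idx A C) : Prop :=
  ∃ (h : Cpt g t.1 t.2), Rels t.1 ∧ Rels t.2 ∧
    (Function.Surjective g → Function.Surjective (mapS g t.1 t.2 h)) ∧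
    (Function.Surjective g → IsNilpotent (RingHom.ker g.toRingHom) →
      IsNilpotent (RingHom.ker (mapS g t.1 t.2 h).toRingHom))

/-- Every pair of stages is dominated by a good one. -/
theorem exists_good (t : Idx A B × Idx A C) : ∃ s, t ≤ s ∧ Good g s := by
  classical
  obtain ⟨p₀, q₀⟩ := t
  have hsec : ∀ c : C, ∃ b : B, Function.Surjective g → g b = c := fun c => by
    by_cases h : Function.Surjective g
    · exact (h c).imp fun b hb _ => hb
    · exact ⟨0, fun h' => absurd h' h⟩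
  choose sg hsg using hsec
  obtain ⟨p₁, hp₁, ep₁, hR₁⟩ := exists_rels_ge (addGen p₀ (q₀.1.1.image sg))
  obtain ⟨q₁, hq₁, eq₁, hS₁⟩ := exists_rels_ge (addRel (addGen q₀ (p₁.1.1.image g)) (p₁.1.2.image fun z => rename g z)
    (fun z hz => by
      obtain ⟨y, hy, rfl⟩ := Finset.mem_image.mp hz
      rw [aeval_rename_hom, p₁.2 y hy, map_zero]))
  have h₁ : Cpt g p₁ q₁ := ⟨fun a ha => hq₁.1 (mem_addGen.mpr (Or.inr (Finset.mem_image_of_mem _ ha))),
    fun z hz => hq₁.2 (mem_addRel.mpr (Or.inr (Finset.mem_image_of_mem _ hz)))⟩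
  have hgen : Function.Surjective g → ∀ c ∈ q₁.1.1, ∃ b ∈ p₁.1.1, g b = c := by
    intro hg c hc
    rcases mem_addGen.mp (eq₁.le hc) with hc | hc
    · exact ⟨sg c, hp₁.1 (mem_addGen.mpr (Or.inr (Finset.mem_image_of_mem _ hc))), hsg c hg⟩
    · obtain ⟨b, hb, rfl⟩ := Finset.mem_image.mp hc
      exact ⟨b, hb, rfl⟩
  have hle : (p₀, q₀) ≤ (p₁, q₁) := ⟨(le_addGen _ _).trans hp₁, ((le_addGen _ _).trans (le_addRel _ _ _)).trans hq₁⟩
  by_cases hc : Function.Surjective g ∧ IsNilpotent (RingHom.ker g.toRingHom)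
  · have hel : ∀ a, g a = 0 → IsNilpotent a := fun a ha => by
      obtain ⟨n, hn⟩ := hc.2
      exact ⟨n, (Submodule.mem_bot B).mp (hn.le (Ideal.pow_mem_pow (show a ∈ RingHom.ker g.toRingHom from ha) n))⟩
    obtain ⟨p₂, q₂, hp₂, hq₂, h₂, ep₂, eq₂, -, hs₂, hn₂⟩ :=
      exists_nil_repair g hel p₁ q₁ h₁ (surjective_mapS g p₁ q₁ h₁ (hgen hc.1))
    haveI := finitePresentation_stage p₂
    haveI := finitePresentation_stage q₂
    exact ⟨(p₂, q₂), hle.trans ⟨hp₂, hq₂⟩, h₂, hR₁.of_le hp₂ ep₂, hS₁.of_le hq₂ eq₂, fun _ => hs₂,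
      fun _ _ => isNilpotent_ker_of_fg _ (Algebra.FinitePresentation.ker_fG_of_surjective _ hs₂) hn₂⟩
  · exact ⟨(p₁, q₁), hle, h₁, hR₁, hS₁, fun hg => surjective_mapS g p₁ q₁ h₁ (hgen hg), fun a b => absurd ⟨a, b⟩ hc⟩

end

/-- Let A be a commutative ring, B an A-algebra and C a B-algebra, with B and C both integral over A.
Then B → C is a filtered colimit, in the category of A-algebras, of maps B_i → C_i between
A-algebras each of which is finite and of finite presentation over A: there are a small filtered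
index category, two diagrams of A-algebras over it with a morphism of diagrams, and colimiting
cocones with vertices B and C under which the morphism of diagrams induces B → C. Moreover the
system can be chosen so that if A → B (resp. B → C, resp. A → C) is surjective then so is every A →
B_i (resp. B_i → C_i, resp. A → C_i), and if A → B (resp. B → C, resp. A → C) is surjective with
nilpotent kernel then so is every A → B_i (resp. B_i → C_i, resp. A → C_i). -/
theorem result {A B C : Type u} [CommRing A] [CommRing B]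
    [CommRing C] [Algebra A B] [Algebra A C] [Algebra B C] [IsScalarTower A B C]
    [Algebra.IsIntegral A B] [Algebra.IsIntegral A C] :
    ∃ (ι : Type u) (_ : SmallCategory ι) (_ : IsFiltered ι) (DB DC : ι ⥤ Under (CommRingCat.of A)) (τ : DB ⟶ DC)
      (cB : DB ⟶ (Functor.const ι).obj (Under.mk (CommRingCat.ofHom (algebraMap A B))))
      (cC : DC ⟶ (Functor.const ι).obj (Under.mk (CommRingCat.ofHom (algebraMap A C)))),
      Nonempty (IsColimit (Cocone.mk _ cB)) ∧ Nonempty (IsColimit (Cocone.mk _ cC)) ∧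
      (∀ i, (τ.app i).right ≫ (cC.app i).right = (cB.app i).right ≫ CommRingCat.ofHom (algebraMap B C)) ∧
      (∀ i, (DB.obj i).hom.hom.Finite ∧ (DB.obj i).hom.hom.FinitePresentation ∧
        (DC.obj i).hom.hom.Finite ∧ (DC.obj i).hom.hom.FinitePresentation) ∧
      (Function.Surjective (algebraMap A B) → ∀ i, Function.Surjective (DB.obj i).hom.hom) ∧
      (Function.Surjective (algebraMap B C) → ∀ i, Function.Surjective (τ.app i).right.hom) ∧
      (Function.Surjective (algebraMap A C) → ∀ i, Function.Surjective (DC.obj i).hom.hom) ∧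
      (Function.Surjective (algebraMap A B) → IsNilpotent (RingHom.ker (algebraMap A B)) →
        ∀ i, Function.Surjective (DB.obj i).hom.hom ∧ IsNilpotent (RingHom.ker (DB.obj i).hom.hom)) ∧
      (Function.Surjective (algebraMap B C) → IsNilpotent (RingHom.ker (algebraMap B C)) →
        ∀ i, Function.Surjective (τ.app i).right.hom ∧ IsNilpotent (RingHom.ker (τ.app i).right.hom)) ∧
      (Function.Surjective (algebraMap A C) → IsNilpotent (RingHom.ker (algebraMap A C)) →
        ∀ i, Function.Surjective (DC.obj i).hom.hom ∧ IsNilpotent (RingHom.ker (DC.obj i).hom.hom)) := by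
  classical
  let g : B →ₐ[A] C := IsScalarTower.toAlgHom A B C
  let J := {t : FPSysLib.Alg.Idx A B × FPSysLib.Alg.Idx A C // Good g t}
  haveI : IsDirected J (· ≤ ·) := ⟨fun a b => by
    obtain ⟨s, hs, hg⟩ := exists_good g (FPPairLib.sup a.1.1 b.1.1, FPPairLib.sup a.1.2 b.1.2)
    exact ⟨⟨s, hg⟩, (show a.1 ≤ s from le_trans (show a.1 ≤ _ from ⟨FPPairLib.le_sup_left _ _, FPPairLib.le_sup_left _ _⟩) hs),
      (show b.1 ≤ s from le_trans (show b.1 ≤ _ from ⟨FPPairLib.le_sup_right _ _, FPPairLib.le_sup_right _ _⟩) hs)⟩⟩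
  let e0 : FPSysLib.Alg.Idx A B × FPSysLib.Alg.Idx A C := (Classical.arbitrary _, Classical.arbitrary _)
  haveI : Nonempty J := (exists_good g e0).elim fun s hs => ⟨⟨s, hs.2⟩⟩
  have hext : ∀ (j : J) t, j.1 ≤ t → ∃ k : J, j ≤ k ∧ t ≤ k.1 := fun j t h => by
    obtain ⟨s, hs, hg⟩ := exists_good g t
    exact ⟨⟨s, hg⟩, (show j.1 ≤ s from le_trans h hs), hs⟩
  have hget : ∀ t, ∃ k : J, t ≤ k.1 := fun t => by
    obtain ⟨s, hs, hg⟩ := exists_good g t
    exact ⟨⟨s, hg⟩, hs⟩
  have h₁ : ∀ j : J, Cpt g j.1.1 j.1.2 := fun j => j.2.1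
  let sB : J → FPSysLib.Alg.Idx A B := fun j => j.1.1
  let sC : J → FPSysLib.Alg.Idx A C := fun j => j.1.2
  have mB : Monotone sB := fun a b h => h.1
  have mC : Monotone sC := fun a b h => h.2
  refine ⟨J, inferInstance, inferInstance, stageFun sB mB, stageFun sC mC, stageMap g sB mB sC mC h₁,
    stageCocone sB mB, stageCocone sC mC, ?_, ?_, fun j => (stageMap_comp g sB mB sC mC h₁ j).trans rfl,
    fun j => ⟨RingHom.finite_algebraMap.mpr j.2.2.1.finite,
      RingHom.finitePresentation_algebraMap.mpr (FPSysLib.Alg.finitePresentation_stage _),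
      RingHom.finite_algebraMap.mpr j.2.2.2.1.finite,
      RingHom.finitePresentation_algebraMap.mpr (FPSysLib.Alg.finitePresentation_stage _)⟩,
    fun hs j => j.2.2.1.surjective hs, fun hs j => j.2.2.2.2.1 hs, fun hs j => j.2.2.2.1.surjective hs,
    fun hs hn j => ⟨j.2.2.1.surjective hs, isNilpotent_ker_stage _ hn⟩,
    fun hs hn j => ⟨j.2.2.2.2.1 hs, j.2.2.2.2.2 hs hn⟩,
    fun hs hn j => ⟨j.2.2.2.1.surjective hs, isNilpotent_ker_stage _ hn⟩⟩
  · exact isColimit_stage sB mB (fun p => (hget (p, e0.2)).imp fun k hk => hk.1)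
      fun j p h => (hext j (p, j.1.2) ⟨h, le_rfl⟩).imp fun k hk => ⟨hk.1, hk.2.1⟩
  · exact isColimit_stage sC mC (fun q => (hget (e0.1, q)).imp fun k hk => hk.2)
      fun j q h => (hext j (j.1.1, q) ⟨le_rfl, h⟩).imp fun k hk => ⟨hk.1, hk.2.2⟩

end Groth.Agent.S18014
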