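import Groth.Statements.S18016
import Groth.Agent.FPPairLib.Basic

set_option autoImplicit false
universe u
open CategoryTheory CategoryTheory.Limits
open Lim

namespace Groth.Agent.S18016


open MvPolynomial Groth.Agent.FPPairLib Groth.Agent.FPSysLib.Alg

noncomputable section

variable {R B D D' : Type u} [CommRing R] [CommRing B] [CommRing D] [CommRing D'] [Algebra R B] [Algebra R D]
  [Algebra R D'] (f : B →ₐ[R] D) (i : D' →ₐ[R] D)

/-- Triples of stages. -/
abbrev Tri (R B D D' : Type u) [CommRing R] [CommRing B] [CommRing D] [CommRing D'] [Algebra R B] [Algebra R D]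
    [Algebra R D'] : Type u :=
  Idx R B × Idx R D × Idx R D'

/-- The required properties of a triple of stages. -/
def Good (t : Tri R B D D') : Prop :=
  ∃ (h₁ : Cpt f t.1 t.2.1) (h₂ : Cpt i t.2.2 t.2.1),
    Function.Surjective (mapS i t.2.2 t.2.1 h₂) ∧
    (∀ x ∈ RingHom.ker (mapS i t.2.2 t.2.1 h₂).toRingHom, IsNilpotent x) ∧
    (Function.Surjective f → Function.Surjective (mapS f t.1 t.2.1 h₁)) ∧
    (Function.Surjective f → (∀ x ∈ RingHom.ker f.toRingHom, IsNilpotent x) →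
      ∀ x ∈ RingHom.ker (mapS f t.1 t.2.1 h₁).toRingHom, IsNilpotent x) ∧
    (f.toRingHom.IsIntegral → (mapS f t.1 t.2.1 h₁).toRingHom.IsIntegral)

/-- Data forcing an element to be integral at a stage. -/
theorem exists_int_data (d : D) : ∃ (cs : Finset B) (z : MvPolynomial D R), aeval (id : D → D) z = 0 ∧
    (f.toRingHom.IsIntegral → ∀ (p : Idx R B) (q : Idx R D) (h : Cpt f p q), cs ⊆ p.1.1 → z ∈ q.1.2 →
      ∀ hd : d ∈ q.1.1, (mapS f p q h).toRingHom.IsIntegralElem (Ideal.Quotient.mk (rel q) (X ⟨d, hd⟩))) := by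
  classical
  by_cases hf : f.toRingHom.IsIntegral
  · obtain ⟨P, hPm, hPd⟩ := hf d
    refine ⟨(Finset.range P.natDegree).image P.coeff,
      (∑ k ∈ Finset.range P.natDegree, X (f (P.coeff k)) * X d ^ k) + X d ^ P.natDegree, ?_, ?_⟩
    · rw [Polynomial.eval₂_eq_sum_range, Finset.sum_range_succ, hPm.coeff_natDegree] at hPd
      simp only [map_one, one_mul] at hPd
      simp only [map_add, map_sum, map_mul, map_pow, aeval_X, id_eq]
      exact hPd
    · intro _ p q h hcs hz hd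
      let y : Stage q := Ideal.Quotient.mk (rel q) (X ⟨d, hd⟩)
      let φ := (mapS f p q h).toRingHom
      let c : Fin P.natDegree → Stage p := fun k =>
        Ideal.Quotient.mk (rel p) (X ⟨P.coeff k, hcs (Finset.mem_image_of_mem _ (Finset.mem_range.mpr k.2))⟩)
      have hrel : y ^ P.natDegree + ∑ k : Fin P.natDegree, φ (c k) * y ^ (k : ℕ) = 0 := by
        have e : ∀ k : Fin P.natDegree, φ (c k) = Ideal.Quotient.mk (rel q)
            (X ⟨f (P.coeff k), h.1 _ (hcs (Finset.mem_image_of_mem _ (Finset.mem_range.mpr k.2)))⟩) := fun k => by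
          refine (mapS_mk f p q h _).trans ?_
          rw [rename_X]
        simp only [e, y, ← map_pow, ← map_mul, ← map_sum, ← map_add]
        refine mk_eq_zero_of_mem q _ ?_
        simp only [map_add, map_sum, map_mul, map_pow, rename_X]
        rw [add_comm, Fin.sum_univ_eq_sum_range (fun k => X (f (P.coeff k)) * X d ^ k)]
        exact hz
      refine ⟨Polynomial.X ^ P.natDegree + ∑ k : Fin P.natDegree, Polynomial.C (c k) * Polynomial.X ^ (k : ℕ),
        Polynomial.monic_X_pow_add ((Polynomial.degree_sum_fin_lt c)), ?_⟩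
      simpa [Polynomial.eval₂_finsetSum, y, φ] using hrel
  · exact ⟨∅, 0, map_zero _, fun h => absurd h hf⟩

theorem exists_sect {A C : Type u} [Nonempty A] (g : A → C) (c : C) : ∃ a : A, Function.Surjective g → g a = c := by
  by_cases h : Function.Surjective g
  · exact (h c).imp fun a ha _ => ha
  · exact ⟨Classical.arbitrary A, fun h' => absurd h' h⟩

theorem isIntegral_mapS {p : Idx R B} {q : Idx R D} (h : Cpt f p q)
    (hg : ∀ d (hd : d ∈ q.1.1), (mapS f p q h).toRingHom.IsIntegralElem (Ideal.Quotient.mk (rel q) (X ⟨d, hd⟩))) :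
    (mapS f p q h).toRingHom.IsIntegral := by
  letI := (mapS f p q h).toRingHom.toAlgebra
  intro z
  obtain ⟨w, rfl⟩ := Ideal.Quotient.mk_surjective z
  induction w using MvPolynomial.induction_on with
  | C r =>
    have e : Ideal.Quotient.mk (rel q) (C r) = mapS f p q h (algebraMap R (Stage p) r) :=
      ((mapS f p q h).commutes r).symm
    rw [e]
    exact RingHom.isIntegralElem_map _
  | add a b ha hb => rw [map_add]; exact IsIntegral.add (R := Stage p) ha hb
  | mul_X a x ha => rw [map_mul]; exact IsIntegral.mul (R := Stage p) ha (hg x.1 x.2)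

/-- Every triple of stages is dominated by a good one. -/
theorem exists_good (hi : Function.Surjective i) (hnil : ∀ x ∈ RingHom.ker i.toRingHom, IsNilpotent x)
    (t : Tri R B D D') : ∃ s : Tri R B D D', t ≤ s ∧ Good f i s := by
  classical
  choose cs rl hrl hint using exists_int_data f
  choose sf hsf using exists_sect (f : B → D)
  choose si hsi using hi
  obtain ⟨p₀, q₀, r₀⟩ := t
  let SD₁ : Finset D := q₀.1.1 ∪ r₀.1.1.image i
  let p₁ := addGen p₀ (SD₁.image sf ∪ SD₁.biUnion cs)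
  let qg := addGen q₀ (SD₁ ∪ p₁.1.1.image f)
  let r₁ := addGen r₀ (qg.1.1.image si)
  let T : Finset (MvPolynomial D R) :=
    (p₁.1.2.image fun z => rename f z) ∪ (r₁.1.2.image fun z => rename i z) ∪ SD₁.image rl
  let q₁ := addRel qg T (by
    intro z hz
    rcases Finset.mem_union.mp hz with hz | hz
    · rcases Finset.mem_union.mp hz with hz | hz
      · obtain ⟨y, hy, rfl⟩ := Finset.mem_image.mp hz
        rw [aeval_rename_hom, p₁.2 y hy, map_zero]
      · obtain ⟨y, hy, rfl⟩ := Finset.mem_image.mp hz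
        rw [aeval_rename_hom, r₁.2 y hy, map_zero]
    · obtain ⟨d, -, rfl⟩ := Finset.mem_image.mp hz
      exact hrl d)
  have hqg : ∀ d, d ∈ qg.1.1 ↔ d ∈ SD₁ ∨ d ∈ p₁.1.1.image f := fun d => by
    refine mem_addGen.trans ?_
    rw [Finset.mem_union]
    exact ⟨fun h => h.elim (fun h => Or.inl (Finset.mem_union_left _ h)) id, Or.inr⟩
  have hf₁ : Cpt f p₁ q₁ := ⟨fun a ha => (hqg _).mpr (Or.inr (Finset.mem_image_of_mem _ ha)),
    fun z hz => mem_addRel.mpr (Or.inr (Finset.mem_union_left _ (Finset.mem_union_left _ (Finset.mem_image_of_mem _ hz))))⟩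
  have hi₁ : Cpt i r₁ q₁ := ⟨fun a ha => by
      rcases mem_addGen.mp ha with ha | ha
      · exact (hqg _).mpr (Or.inl (Finset.mem_union_right _ (Finset.mem_image_of_mem _ ha)))
      · obtain ⟨d, hd, rfl⟩ := Finset.mem_image.mp ha
        rw [hsi]
        exact hd,
    fun z hz => mem_addRel.mpr (Or.inr (Finset.mem_union_left _ (Finset.mem_union_right _ (Finset.mem_image_of_mem _ hz))))⟩
  have hsurj : ∀ d ∈ q₁.1.1, ∃ a ∈ r₁.1.1, i a = d := fun d hd =>
    ⟨si d, mem_addGen.mpr (Or.inr (Finset.mem_image_of_mem _ hd)), hsi d⟩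
  obtain ⟨r₂, q₂, hr₂, hq₂, hi₂, er₂, eq₂, hbij₂, hs₂, hn₂⟩ :=
    exists_nil_repair i (fun a ha => hnil a ha) r₁ q₁ hi₁ (surjective_mapS i r₁ q₁ hi₁ hsurj)
  have hgenf : ∀ (p : Idx R B) (q : Idx R D), p₁ ≤ p → q.1.1 = q₁.1.1 → Function.Surjective f →
      ∀ d ∈ q.1.1, ∃ a ∈ p.1.1, f a = d := by
    intro p q hp e hf d hd
    rcases (hqg d).mp (e.le hd) with hd | hd
    · exact ⟨sf d, hp.1 (mem_addGen.mpr (Or.inr (Finset.mem_union_left _ (Finset.mem_image_of_mem _ hd)))), hsf d hf⟩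
    · obtain ⟨a, ha, rfl⟩ := Finset.mem_image.mp hd
      exact ⟨a, hp.1 ha, rfl⟩
  have hgeni : ∀ (p : Idx R B) (q : Idx R D) (h : Cpt f p q), p₁ ≤ p → q.1.1 = q₁.1.1 → q₁ ≤ q →
      f.toRingHom.IsIntegral → (mapS f p q h).toRingHom.IsIntegral := by
    intro p q h hp e hq hf
    refine isIntegral_mapS f h fun d hd => ?_
    rcases (hqg d).mp (e.le hd) with hd' | hd'
    · exact hint d hf p q h (fun b hb => hp.1 (mem_addGen.mpr (Or.inr (Finset.mem_union_right _
        (Finset.mem_biUnion.mpr ⟨d, hd', hb⟩)))))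
        (hq.2 (mem_addRel.mpr (Or.inr (Finset.mem_union_right _ (Finset.mem_image_of_mem _ hd'))))) hd
    · obtain ⟨a, ha, rfl⟩ := Finset.mem_image.mp hd'
      have e' : mapS f p q h (Ideal.Quotient.mk (rel p) (X ⟨a, hp.1 ha⟩)) = Ideal.Quotient.mk (rel q) (X ⟨f a, hd⟩) := by
        rw [mapS_mk, rename_X]
      rw [← e']
      exact RingHom.isIntegralElem_map _
  have key : ∃ (p₃ : Idx R B) (q₃ : Idx R D) (hp : p₁ ≤ p₃) (hq : q₂ ≤ q₃) (h₁ : Cpt f p₃ q₃),
      q₃.1.1 = q₂.1.1 ∧ Function.Injective (trans q₂ q₃ hq) ∧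
      (Function.Surjective f → (∀ x ∈ RingHom.ker f.toRingHom, IsNilpotent x) →
        ∀ x ∈ RingHom.ker (mapS f p₃ q₃ h₁).toRingHom, IsNilpotent x) := by
    by_cases hc : Function.Surjective f ∧ ∀ x ∈ RingHom.ker f.toRingHom, IsNilpotent x
    · obtain ⟨p₃, q₃, hp₃, hq₃, h₃, -, e₃, hb₃, -, hn₃⟩ := exists_nil_repair f (fun a ha => hc.2 a ha) p₁ q₂
        (hf₁.mono_right hq₂) (surjective_mapS f p₁ q₂ _ (hgenf p₁ q₂ le_rfl eq₂ hc.1))
      exact ⟨p₃, q₃, hp₃, hq₃, h₃, e₃, hb₃.1, fun _ _ => hn₃⟩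
    · exact ⟨p₁, q₂, le_rfl, le_rfl, hf₁.mono_right hq₂, rfl, by rw [trans_self]; exact fun a b e => e,
        fun a b => absurd ⟨a, b⟩ hc⟩
  obtain ⟨p₃, q₃, hp₃, hq₃, h₁, e₃, hinj₃, hnf⟩ := key
  have e31 : q₃.1.1 = q₁.1.1 := e₃.trans eq₂
  refine ⟨(p₃, q₃, r₂), ⟨(le_addGen _ _).trans hp₃,
    ((le_addGen q₀ (SD₁ ∪ p₁.1.1.image f)).trans (le_addRel _ _ _)).trans (hq₂.trans hq₃),
    (le_addGen _ _).trans hr₂⟩, h₁, hi₂.mono_right hq₃, surjective_mapS i r₂ q₃ _ fun d hd => ?_, fun x hx => ?_,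
    fun hf => surjective_mapS f p₃ q₃ h₁ (hgenf p₃ q₃ hp₃ e31 hf), hnf,
    fun hf => hgeni p₃ q₃ h₁ hp₃ e31 (hq₂.trans hq₃) hf⟩
  · obtain ⟨a, ha, e⟩ := hsurj d (e31.le hd)
    exact ⟨a, hr₂.1 ha, e⟩
  · refine hn₂ x (hinj₃ ?_)
    rw [map_zero]
    refine ((mapS_trans_apply i hi₂ (hi₂.mono_right hq₃) le_rfl hq₃ x).symm.trans ?_)
    rw [trans_self]
    exact hx

/-- A square of rings which is elementwise a pullback is a pullback. -/
theorem isPullback_of_forall {A₁ A₂ A₃ A₄ : CommRingCat.{u}} (t : A₁ ⟶ A₂) (l : A₁ ⟶ A₃) (r : A₂ ⟶ A₄) (b : A₃ ⟶ A₄)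
    (w : t ≫ r = l ≫ b) (h1 : ∀ x y, t x = t y → l x = l y → x = y)
    (h2 : ∀ x₂ x₃, r x₂ = b x₃ → ∃ x, t x = x₂ ∧ l x = x₃) : IsPullback t l r b := by
  haveI : ReflectsLimit (cospan r b) (forget CommRingCat.{u}) := reflectsLimit_of_reflectsIsomorphisms _ _
  refine IsPullback.of_map (forget CommRingCat.{u}) w ?_
  rw [Types.isPullback_iff]
  refine ⟨?_, fun x y e => h1 x y e.1 e.2, h2⟩
  rw [← Functor.map_comp, ← Functor.map_comp, w]

variable {P : Type u} [CommRing P] [Algebra R P] (q₁ : P →ₐ[R] B) (q₂ : P →ₐ[R] D')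

theorem bijective_toEqualizer
    (hP : IsPullback (CommRingCat.ofHom q₁.toRingHom) (CommRingCat.ofHom q₂.toRingHom)
      (CommRingCat.ofHom f.toRingHom) (CommRingCat.ofHom i.toRingHom)) :
    Function.Bijective ((q₁.prod q₂).codRestrict (AlgHom.equalizer (f.comp (AlgHom.fst R B D')) (i.comp (AlgHom.snd R B D')))
      fun x => congrArg (fun g : CommRingCat.of P ⟶ CommRingCat.of D => g.hom x) hP.w) := by
  have h := hP.map (forget CommRingCat.{u})
  constructor
  · intro x y e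
    exact Types.ext_of_isPullback h (congrArg (fun z => z.1.1) e) (congrArg (fun z => z.1.2) e)
  · rintro ⟨⟨b, d⟩, e⟩
    obtain ⟨x, hx1, hx2⟩ := Types.exists_of_isPullback h b d e
    exact ⟨x, Subtype.ext (Prod.ext hx1 hx2)⟩

end

/-- In ring form, let R be a commutative ring, f : B → D any map of R-algebras and i : D' → D a
surjective map of R-algebras every element of whose kernel is nilpotent (so Spec D → Spec D' is a
locally nilpotent closed immersion of affine R-schemes and Spec D → Spec B is affine), and let q₁ :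
P → B, q₂ : P → D' exhibit P as the fibre product ring B ×_D D' (the pushout of the two affine
schemes). Then the diagram B → D ← D' is a filtered colimit, in R-algebras, of diagrams B_j → D_j ←
D'_j of R-algebras of finite presentation in which D'_j → D_j is surjective with locally nilpotent
kernel; and the fibre products P_j = B_j ×_{D_j} D'_j form a compatible diagram whose colimit is P.
Moreover: if f is surjective (resp. surjective with locally nilpotent kernel, resp. integral) then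
every B_j → D_j can be taken surjective (resp. surjective with locally nilpotent kernel, resp.
integral). (The published statement also covers two further classes, maps that become a closed or a
locally nilpotent immersion after composing with a locally nilpotent closed immersion; those two
clauses are not stated here.) -/
theorem result {R B D D' P : Type u} [CommRing R] [CommRing B]
    [CommRing D] [CommRing D'] [CommRing P] [Algebra R B] [Algebra R D] [Algebra R D'] [Algebra R P]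
    (f : B →ₐ[R] D) (i : D' →ₐ[R] D) (hi : Function.Surjective i)
    (hnil : ∀ x ∈ RingHom.ker i.toRingHom, IsNilpotent x) (q₁ : P →ₐ[R] B) (q₂ : P →ₐ[R] D')
    (hP : IsPullback (CommRingCat.ofHom q₁.toRingHom) (CommRingCat.ofHom q₂.toRingHom)
      (CommRingCat.ofHom f.toRingHom) (CommRingCat.ofHom i.toRingHom)) :
    ∃ (ι : Type u) (_ : SmallCategory ι) (_ : IsFiltered ι) (DB DD DD' DP : ι ⥤ Under (CommRingCat.of R))
      (φ : DB ⟶ DD) (ψ : DD' ⟶ DD) (π₁ : DP ⟶ DB) (π₂ : DP ⟶ DD')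
      (cB : DB ⟶ (Functor.const ι).obj (Under.mk (CommRingCat.ofHom (algebraMap R B))))
      (cD : DD ⟶ (Functor.const ι).obj (Under.mk (CommRingCat.ofHom (algebraMap R D))))
      (cD' : DD' ⟶ (Functor.const ι).obj (Under.mk (CommRingCat.ofHom (algebraMap R D'))))
      (cP : DP ⟶ (Functor.const ι).obj (Under.mk (CommRingCat.ofHom (algebraMap R P)))),
      Nonempty (IsColimit (Cocone.mk _ cB)) ∧ Nonempty (IsColimit (Cocone.mk _ cD)) ∧
      Nonempty (IsColimit (Cocone.mk _ cD')) ∧ Nonempty (IsColimit (Cocone.mk _ cP)) ∧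
      (∀ j, (φ.app j).right ≫ (cD.app j).right = (cB.app j).right ≫ CommRingCat.ofHom f.toRingHom) ∧
      (∀ j, (ψ.app j).right ≫ (cD.app j).right = (cD'.app j).right ≫ CommRingCat.ofHom i.toRingHom) ∧
      (∀ j, (π₁.app j).right ≫ (cB.app j).right = (cP.app j).right ≫ CommRingCat.ofHom q₁.toRingHom) ∧
      (∀ j, (π₂.app j).right ≫ (cD'.app j).right = (cP.app j).right ≫ CommRingCat.ofHom q₂.toRingHom) ∧
      (∀ j, (DB.obj j).hom.hom.FinitePresentation ∧ (DD.obj j).hom.hom.FinitePresentation ∧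
        (DD'.obj j).hom.hom.FinitePresentation) ∧
      (∀ j, Function.Surjective (ψ.app j).right.hom ∧ ∀ x ∈ RingHom.ker (ψ.app j).right.hom, IsNilpotent x) ∧
      (∀ j, IsPullback (π₁.app j).right (π₂.app j).right (φ.app j).right (ψ.app j).right) ∧
      (Function.Surjective f → ∀ j, Function.Surjective (φ.app j).right.hom) ∧
      (Function.Surjective f → (∀ x ∈ RingHom.ker f.toRingHom, IsNilpotent x) →
        ∀ j, Function.Surjective (φ.app j).right.hom ∧ ∀ x ∈ RingHom.ker (φ.app j).right.hom, IsNilpotent x) ∧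
      (f.toRingHom.IsIntegral → ∀ j, (φ.app j).right.hom.IsIntegral) := by
  classical
  let J := {t : Tri R B D D' // Good f i t}
  have hcof := exists_good f i hi hnil
  haveI : IsDirected J (· ≤ ·) := ⟨fun a b => by
    obtain ⟨s, hs, hg⟩ := hcof (FPPairLib.sup a.1.1 b.1.1, FPPairLib.sup a.1.2.1 b.1.2.1, FPPairLib.sup a.1.2.2 b.1.2.2)
    exact ⟨⟨s, hg⟩, (show a.1 ≤ s from le_trans (show a.1 ≤ _ from ⟨FPPairLib.le_sup_left _ _, FPPairLib.le_sup_left _ _, FPPairLib.le_sup_left _ _⟩) hs),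
      (show b.1 ≤ s from le_trans (show b.1 ≤ _ from ⟨FPPairLib.le_sup_right _ _, FPPairLib.le_sup_right _ _, FPPairLib.le_sup_right _ _⟩) hs)⟩⟩
  let e0 : Tri R B D D' := (Classical.arbitrary _, Classical.arbitrary _, Classical.arbitrary _)
  haveI : Nonempty J := (hcof e0).elim fun s hs => ⟨⟨s, hs.2⟩⟩
  have h₁ : ∀ j : J, Cpt f j.1.1 j.1.2.1 := fun j => j.2.1
  have h₂ : ∀ j : J, Cpt i j.1.2.2 j.1.2.1 := fun j => j.2.2.1
  let sB : J → Idx R B := fun j => j.1.1
  let sD : J → Idx R D := fun j => j.1.2.1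
  let sD' : J → Idx R D' := fun j => j.1.2.2
  have mB : Monotone sB := fun a b h => h.1
  have mD : Monotone sD := fun a b h => h.2.1
  have mD' : Monotone sD' := fun a b h => h.2.2
  have hext : ∀ (j : J) (t : Tri R B D D'), j.1 ≤ t → ∃ k : J, j ≤ k ∧ t ≤ k.1 := fun j t h => by
    obtain ⟨s, hs, hg⟩ := hcof t
    exact ⟨⟨s, hg⟩, (show j.1 ≤ s from le_trans h hs), hs⟩
  have hget : ∀ t : Tri R B D D', ∃ k : J, t ≤ k.1 := fun t => by
    obtain ⟨s, hs, hg⟩ := hcof t
    exact ⟨⟨s, hg⟩, hs⟩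
  let φ₁ : ∀ j : J, Stage (sB j) × Stage (sD' j) →ₐ[R] Stage (sD j) := fun j =>
    (mapS f (sB j) (sD j) (h₁ j)).comp (AlgHom.fst R _ _)
  let φ₂ : ∀ j : J, Stage (sB j) × Stage (sD' j) →ₐ[R] Stage (sD j) := fun j =>
    (mapS i (sD' j) (sD j) (h₂ j)).comp (AlgHom.snd R _ _)
  let E : ∀ j : J, Subalgebra R (Stage (sB j) × Stage (sD' j)) := fun j => AlgHom.equalizer (φ₁ j) (φ₂ j)
  let mE : ∀ j k : J, j ≤ k → (E j →ₐ[R] E k) := fun j k h =>
    (((trans (sB j) (sB k) (mB h)).comp (AlgHom.fst R _ _)).prod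
      ((trans (sD' j) (sD' k) (mD' h)).comp (AlgHom.snd R _ _))).comp (E j).val |>.codRestrict (E k) fun x => by
        show mapS f (sB k) (sD k) (h₁ k) (trans (sB j) (sB k) (mB h) x.1.1) =
          mapS i (sD' k) (sD k) (h₂ k) (trans (sD' j) (sD' k) (mD' h) x.1.2)
        rw [mapS_trans_apply f (h₁ j) (h₁ k) (mB h) (mD h), mapS_trans_apply i (h₂ j) (h₂ k) (mD' h) (mD h)]
        exact congrArg _ x.2
  let DP : J ⥤ Under (CommRingCat.of R) :=
    { obj := fun j => Under.mk (CommRingCat.ofHom (R := R) (S := ↥(E j)) (algebraMap R ↥(E j)))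
      map := fun {j k} h => Under.homMk (CommRingCat.ofHom (R := ↥(E j)) (S := ↥(E k)) (mE j k h.le).toRingHom)
        (CommRingCat.hom_ext (mE j k h.le).comp_algebraMap)
      map_id := fun j => Under.UnderMorphism.ext (CommRingCat.hom_ext (RingHom.ext fun x => Subtype.ext (Prod.ext
        (DFunLike.congr_fun (trans_self (sB j)) x.1.1) (DFunLike.congr_fun (trans_self (sD' j)) x.1.2))))
      map_comp := fun {j k l} h h' => Under.UnderMorphism.ext (CommRingCat.hom_ext (RingHom.ext fun x => Subtype.ext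
        (Prod.ext (trans_apply_trans (mB h.le) (mB h'.le) x.1.1).symm
          (trans_apply_trans (mD' h.le) (mD' h'.le) x.1.2).symm))) }
  let eP := AlgEquiv.ofBijective _ (bijective_toEqualizer f i q₁ q₂ hP)
  let lE : ∀ j : J, E j →ₐ[R] P := fun j => eP.symm.toAlgHom.comp
    ((((toLim (sB j)).comp (AlgHom.fst R _ _)).prod ((toLim (sD' j)).comp (AlgHom.snd R _ _))).comp (E j).val |>.codRestrict _
      fun x => by
        show f (toLim (sB j) x.1.1) = i (toLim (sD' j) x.1.2)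
        rw [← toLim_mapS_apply f _ (sD j) (h₁ j), ← toLim_mapS_apply i _ (sD j) (h₂ j)]
        exact congrArg _ x.2)
  have hlE : ∀ (j : J) (x : E j), q₁ (lE j x) = toLim (sB j) x.1.1 ∧ q₂ (lE j x) = toLim (sD' j) x.1.2 := fun j x =>
    ⟨congrArg (fun z => z.1.1) (eP.apply_symm_apply _), congrArg (fun z => z.1.2) (eP.apply_symm_apply _)⟩
  have hPext : ∀ a b : P, q₁ a = q₁ b → q₂ a = q₂ b → a = b := fun a b e e' =>
    eP.injective (Subtype.ext (Prod.ext e e'))
  let cP : DP ⟶ (Functor.const J).obj (Under.mk (CommRingCat.ofHom (algebraMap R P))) :=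
    { app := fun j => Under.homMk (CommRingCat.ofHom (R := ↥(E j)) (lE j).toRingHom) (CommRingCat.hom_ext (lE j).comp_algebraMap)
      naturality := fun j k h => Under.UnderMorphism.ext (CommRingCat.hom_ext (RingHom.ext fun x => hPext _ _
        ((hlE k _).1.trans ((DFunLike.congr_fun (toLim_trans (sB j) (sB k) (mB h.le)) x.1.1).trans (hlE j x).1.symm))
        ((hlE k _).2.trans ((DFunLike.congr_fun (toLim_trans (sD' j) (sD' k) (mD' h.le)) x.1.2).trans (hlE j x).2.symm)))) }
  let π₁ : DP ⟶ stageFun sB mB :=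
    { app := fun j => Under.homMk (CommRingCat.ofHom (R := ↥(E j)) ((AlgHom.fst R _ _).comp (E j).val).toRingHom)
        (CommRingCat.hom_ext ((AlgHom.fst R _ _).comp (E j).val).comp_algebraMap)
      naturality := fun j k h => Under.UnderMorphism.ext (CommRingCat.hom_ext (RingHom.ext fun x => rfl)) }
  let π₂ : DP ⟶ stageFun sD' mD' :=
    { app := fun j => Under.homMk (CommRingCat.ofHom (R := ↥(E j)) ((AlgHom.snd R _ _).comp (E j).val).toRingHom)
        (CommRingCat.hom_ext ((AlgHom.snd R _ _).comp (E j).val).comp_algebraMap)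
      naturality := fun j k h => Under.UnderMorphism.ext (CommRingCat.hom_ext (RingHom.ext fun x => rfl)) }
  have hcP : Nonempty (IsColimit (Cocone.mk _ cP)) := by
    refine nonempty_isColimit _ (fun a => ?_) (fun j x y e => ?_)
    · obtain ⟨p, u, hu⟩ := exists_toLim_eq (R := R) (q₁ a)
      obtain ⟨r, v, hv⟩ := exists_toLim_eq (R := R) (q₂ a)
      obtain ⟨j, hj⟩ := hget (p, Classical.arbitrary _, r)
      let u' : Stage (sB j) := trans p (sB j) hj.1 u
      let v' : Stage (sD' j) := trans r (sD' j) hj.2.2 v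
      have hu' : toLim (sB j) u' = q₁ a := (DFunLike.congr_fun (toLim_trans p (sB j) hj.1) u).trans hu
      have hv' : toLim (sD' j) v' = q₂ a := (DFunLike.congr_fun (toLim_trans r (sD' j) hj.2.2) v).trans hv
      have h0 : toLim (sD j) (mapS f (sB j) (sD j) (h₁ j) u' - mapS i (sD' j) (sD j) (h₂ j) v') = 0 := by
        rw [map_sub, toLim_mapS_apply, toLim_mapS_apply, hu', hv', sub_eq_zero]
        exact congrArg (fun g : CommRingCat.of P ⟶ CommRingCat.of D => g.hom a) hP.w
      obtain ⟨q, hq, -, hq0⟩ := exists_trans_eq_zero (sD j) _ h0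
      obtain ⟨k, hjk, hk⟩ := hext j (j.1.1, q, j.1.2.2) ⟨le_rfl, hq, le_rfl⟩
      have hmem : (trans (sB j) (sB k) (mB hjk) u', trans (sD' j) (sD' k) (mD' hjk) v') ∈ E k := by
        show mapS f (sB k) (sD k) (h₁ k) (trans (sB j) (sB k) (mB hjk) u') =
          mapS i (sD' k) (sD k) (h₂ k) (trans (sD' j) (sD' k) (mD' hjk) v')
        rw [mapS_trans_apply f (h₁ j) (h₁ k) (mB hjk) (mD hjk), mapS_trans_apply i (h₂ j) (h₂ k) (mD' hjk) (mD hjk),
          ← sub_eq_zero, ← map_sub, ← trans_apply_trans (A := D) hq (show q ≤ sD k from hk.2.1), hq0, map_zero]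
      exact ⟨k, ⟨_, hmem⟩, hPext _ _
        ((hlE k _).1.trans ((DFunLike.congr_fun (toLim_trans (sB j) (sB k) (mB hjk)) u').trans hu'))
        ((hlE k _).2.trans ((DFunLike.congr_fun (toLim_trans (sD' j) (sD' k) (mD' hjk)) v').trans hv'))⟩
    · have e1 : toLim (sB j) x.1.1 = toLim (sB j) y.1.1 :=
        (hlE j x).1.symm.trans ((congrArg q₁ e).trans (hlE j y).1)
      have e2 : toLim (sD' j) x.1.2 = toLim (sD' j) y.1.2 :=
        (hlE j x).2.symm.trans ((congrArg q₂ e).trans (hlE j y).2)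
      obtain ⟨p, hp, -, hp0⟩ := exists_trans_eq_zero (sB j) (x.1.1 - y.1.1) ((map_sub _ _ _).trans (sub_eq_zero.mpr e1))
      obtain ⟨r, hr, -, hr0⟩ := exists_trans_eq_zero (sD' j) (x.1.2 - y.1.2) ((map_sub _ _ _).trans (sub_eq_zero.mpr e2))
      obtain ⟨k, hjk, hk⟩ := hext j (p, j.1.2.1, r) ⟨hp, le_rfl, hr⟩
      refine ⟨k, hjk, Subtype.ext (Prod.ext ?_ ?_)⟩
      · show trans (sB j) (sB k) (mB hjk) x.1.1 = trans (sB j) (sB k) (mB hjk) y.1.1
        rw [← sub_eq_zero, ← map_sub, ← trans_apply_trans (A := B) hp (show p ≤ sB k from hk.1), hp0, map_zero]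
      · show trans (sD' j) (sD' k) (mD' hjk) x.1.2 = trans (sD' j) (sD' k) (mD' hjk) y.1.2
        rw [← sub_eq_zero, ← map_sub, ← trans_apply_trans (A := D') hr (show r ≤ sD' k from hk.2.2), hr0, map_zero]
  refine ⟨J, inferInstance, inferInstance, stageFun sB mB, stageFun sD mD, stageFun sD' mD', DP,
    stageMap f sB mB sD mD h₁, stageMap i sD' mD' sD mD h₂, π₁, π₂, stageCocone sB mB, stageCocone sD mD,
    stageCocone sD' mD', cP, ?_, ?_, ?_, hcP, stageMap_comp f sB mB sD mD h₁, stageMap_comp i sD' mD' sD mD h₂,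
    fun j => CommRingCat.hom_ext (RingHom.ext fun x => (hlE j x).1.symm),
    fun j => CommRingCat.hom_ext (RingHom.ext fun x => (hlE j x).2.symm),
    fun j => ⟨RingHom.finitePresentation_algebraMap.mpr (finitePresentation_stage _),
      RingHom.finitePresentation_algebraMap.mpr (finitePresentation_stage _),
      RingHom.finitePresentation_algebraMap.mpr (finitePresentation_stage _)⟩,
    fun j => ⟨j.2.2.2.1, j.2.2.2.2.1⟩,
    fun j => ?_, fun hf j => j.2.2.2.2.2.1 hf,
    fun hf hn j => ⟨j.2.2.2.2.2.1 hf, j.2.2.2.2.2.2.1 hf hn⟩, fun hf j => j.2.2.2.2.2.2.2 hf⟩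
  · exact isColimit_stage sB mB (fun p => (hget (p, e0.2)).imp fun k hk => hk.1)
      fun j p h => (hext j (p, j.1.2) ⟨h, le_rfl⟩).imp fun k hk => ⟨hk.1, hk.2.1⟩
  · exact isColimit_stage sD mD (fun q => (hget (e0.1, q, e0.2.2)).imp fun k hk => hk.2.1)
      fun j q h => (hext j (j.1.1, q, j.1.2.2) ⟨le_rfl, h, le_rfl⟩).imp fun k hk => ⟨hk.1, hk.2.2.1⟩
  · exact isColimit_stage sD' mD' (fun r => (hget (e0.1, e0.2.1, r)).imp fun k hk => hk.2.2)
      fun j r h => (hext j (j.1.1, j.1.2.1, r) ⟨le_rfl, le_rfl, h⟩).imp fun k hk => ⟨hk.1, hk.2.2.2⟩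
  · refine isPullback_of_forall _ _ _ _ (CommRingCat.hom_ext (RingHom.ext fun x => x.2))
      (fun x y e e' => Subtype.ext (Prod.ext e e')) (fun b d e => ⟨⟨(b, d), e⟩, rfl, rfl⟩)

end Groth.Agent.S18016
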