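import Groth.Statements.S18017
import Groth.Agent.VersalLib.Point
import Groth.Agent.S7407
import Groth.Agent.DefClassLib.Alg
-- import your own Groth.Agent.* helpers here

set_option autoImplicit false
set_option backward.isDefEq.respectTransparency false
set_option maxHeartbeats 1000000
universe u
open CategoryTheory AlgebraicGeometry
open Unram

namespace Groth.Agent.S18017

/-- In the case where the S-groupoid is the base scheme S itself, let g : T → S be a morphism of
schemes, e : U → T an étale morphism and u a point of U with t = e(u). Say that T is formally versal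
over S at t when, for every surjection π : C' → C of local Artinian rings, every morphism a : Spec C
→ T sending the closed point to t and inducing a surjection (hence an isomorphism) of residue fields
κ(t) → κ, and every b : Spec C' → S compatible with a over S, there is c : Spec C' → T restricting
to a and lying over b. If T is formally versal over S at t, then U (over S via e) is formally versal
over S at u. (No Noetherian or finiteness hypotheses; a scheme has all the pushouts of local
Artinian schemes that the general statement asks of the target.) -/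
theorem result {S T U : Scheme.{u}} (g : T ⟶ S) (e : U ⟶ T) [Etale e] (u : U)
    (hT : ∀ (C C' : Type u) [CommRing C] [CommRing C'] [IsLocalRing C] [IsLocalRing C'] [IsArtinianRing C]
        [IsArtinianRing C'] (π : C' →+* C), Function.Surjective π →
        ∀ (a : Spec (CommRingCat.of C) ⟶ T) (b : Spec (CommRingCat.of C') ⟶ S),
          a (IsLocalRing.closedPoint C) = e u →
          Function.Surjective (a.residueFieldMap (IsLocalRing.closedPoint C)).hom →
          Spec.map (CommRingCat.ofHom π) ≫ b = a ≫ g →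
          ∃ c : Spec (CommRingCat.of C') ⟶ T, Spec.map (CommRingCat.ofHom π) ≫ c = a ∧ c ≫ g = b) :
    ∀ (C C' : Type u) [CommRing C] [CommRing C'] [IsLocalRing C] [IsLocalRing C'] [IsArtinianRing C]
        [IsArtinianRing C'] (π : C' →+* C), Function.Surjective π →
        ∀ (a : Spec (CommRingCat.of C) ⟶ U) (b : Spec (CommRingCat.of C') ⟶ S),
          a (IsLocalRing.closedPoint C) = u →
          Function.Surjective (a.residueFieldMap (IsLocalRing.closedPoint C)).hom →
          Spec.map (CommRingCat.ofHom π) ≫ b = a ≫ (e ≫ g) →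
          ∃ c : Spec (CommRingCat.of C') ⟶ U, Spec.map (CommRingCat.ofHom π) ≫ c = a ∧ c ≫ (e ≫ g) = b := by
  intro C C' _ _ _ _ _ _ π hπ a b hau hres hab
  haveI : Nontrivial C := inferInstance
  haveI : IsLocalHom π := IsLocalHom.of_surjective π hπ
  let φu := Scheme.stalkClosedPointTo a
  haveI : IsLocalHom φu.hom := Scheme.isLocalHom_stalkClosedPointTo' a
  let x := a (IsLocalRing.closedPoint C)
  haveI : IsLocalHom (e.stalkMap x).hom := inferInstance
  let φt := e.stalkMap x ≫ φu
  haveI : IsLocalHom φt.hom := by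
    show IsLocalHom (φu.hom.comp (e.stalkMap x).hom)
    exact RingHom.isLocalHom_comp _ _
  haveI : IsLocalHom ((IsLocalRing.residue C).comp φu.hom) := RingHom.isLocalHom_comp _ _
  let ρu : U.residueField x →+* IsLocalRing.ResidueField C := IsLocalRing.ResidueField.lift ((IsLocalRing.residue C).comp φu.hom)
  have hρu : ∀ w, ρu (U.residue x w) = IsLocalRing.residue C (φu.hom w) := fun w => IsLocalRing.ResidueField.lift_residue_apply _ w
  let ρ : T.residueField (e x) →+* IsLocalRing.ResidueField C := ρu.comp (e.residueFieldMap x).hom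
  have hρ : ∀ w, ρ (T.residue (e x) w) = IsLocalRing.residue C (φt.hom w) := fun w => by
    show ρu (e.residueFieldMap x (T.residue (e x) w)) = _
    rw [← ConcreteCategory.comp_apply, Scheme.residue_residueFieldMap]
    exact hρu _
  have hρsurj : Function.Surjective ρu := fun y => by
    have h := (Groth.Agent.VersalLib.resRange_surjective_iff a).mp hres
    obtain ⟨w, hw⟩ := Set.eq_univ_iff_forall.mp h y
    exact ⟨U.residue x w, (hρu w).trans hw⟩
  have hρfin : ρ.Finite := (RingHom.Finite.of_surjective ρu hρsurj).comp (Groth.Agent.S7407.finite_residueFieldMap_of_etale e x)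
  let Ee : IsLocalRing.ResidueField C' ≃+* IsLocalRing.ResidueField C := RingEquiv.ofBijective (IsLocalRing.ResidueField.map π)
      ⟨(IsLocalRing.ResidueField.map π).injective, fun y => by
        obtain ⟨c, rfl⟩ := IsLocalRing.residue_surjective y
        obtain ⟨c', rfl⟩ := hπ c
        exact ⟨IsLocalRing.residue C' c', rfl⟩⟩
  let ρ' : T.residueField (e x) →+* IsLocalRing.ResidueField C' := Ee.symm.toRingHom.comp ρ
  have hρ'fin : ρ'.Finite := RingHom.Finite.comp (RingHom.Finite.of_surjective _ Ee.symm.surjective) hρfin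
  have hmem : ∀ c' : C', c' ∈ Groth.Agent.VersalLib.sub ρ' ↔ π c' ∈ Groth.Agent.VersalLib.sub ρ := fun c' => by
    rw [Groth.Agent.VersalLib.mem_sub, Groth.Agent.VersalLib.mem_sub]
    have he : Ee (IsLocalRing.residue C' c') = IsLocalRing.residue C (π c') := rfl
    constructor
    · rintro ⟨k, hk⟩
      refine ⟨k, ?_⟩
      rw [← he, ← hk]
      exact (Ee.apply_symm_apply (ρ k)).symm
    · rintro ⟨k, hk⟩
      refine ⟨k, ?_⟩
      show Ee.symm (ρ k) = _
      rw [hk, ← he, Ee.symm_apply_apply]
  haveI : IsArtinianRing (Groth.Agent.VersalLib.sub ρ) := Groth.Agent.VersalLib.isArtinianRing_sub ρ hρfin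
  haveI : IsArtinianRing (Groth.Agent.VersalLib.sub ρ') := Groth.Agent.VersalLib.isArtinianRing_sub ρ' hρ'fin
  let π₀ : Groth.Agent.VersalLib.sub ρ' →+* Groth.Agent.VersalLib.sub ρ :=
    (π.comp (Groth.Agent.VersalLib.sub ρ').subtype).codRestrict _ fun c => (hmem c).mp c.2
  have hπ₀ : Function.Surjective π₀ := fun c => by
    obtain ⟨c', hc'⟩ := hπ c
    exact ⟨⟨c', (hmem c').mpr (hc' ▸ c.2)⟩, Subtype.ext hc'⟩
  let φ₀ : T.presheaf.stalk (e x) ⟶ CommRingCat.of (Groth.Agent.VersalLib.sub ρ) :=
    CommRingCat.ofHom (φt.hom.codRestrict _ fun w => ⟨T.residue (e x) w, hρ w⟩)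
  haveI : IsLocalHom φ₀.hom := ⟨fun w hw => (isUnit_map_iff φt.hom w).mp (hw.map (Groth.Agent.VersalLib.sub ρ).subtype)⟩
  let a₀ := Spec.map φ₀ ≫ T.fromSpecStalk (e x)
  have haa : Spec.map (CommRingCat.ofHom (Groth.Agent.VersalLib.sub ρ).subtype) ≫ a₀ = a ≫ e := by
    show _ ≫ Spec.map φ₀ ≫ _ = _
    rw [← Category.assoc, ← Spec.map_comp,
      show φ₀ ≫ CommRingCat.ofHom (Groth.Agent.VersalLib.sub ρ).subtype = φt from rfl,
      ← Scheme.Spec_stalkClosedPointTo_fromSpecStalk (a ≫ e), Scheme.stalkClosedPointTo_comp]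
    rfl
  have hclosed : a₀ (IsLocalRing.closedPoint (Groth.Agent.VersalLib.sub ρ)) = e u := by
    rw [← hau]
    show (Spec.map φ₀ ≫ T.fromSpecStalk (e x)) _ = e x
    rw [Scheme.Hom.comp_apply, Spec_closedPoint, Scheme.fromSpecStalk_closedPoint]
  have hsurj₀ : Function.Surjective (a₀.residueFieldMap (IsLocalRing.closedPoint (Groth.Agent.VersalLib.sub ρ))).hom := by
    rw [Groth.Agent.VersalLib.resRange_surjective_iff, Groth.Agent.VersalLib.resRange_fromSpecStalk, Set.eq_univ_iff_forall]
    intro y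
    obtain ⟨c, rfl⟩ := IsLocalRing.residue_surjective y
    obtain ⟨k, hk⟩ := (Groth.Agent.VersalLib.mem_sub ρ).mp c.2
    obtain ⟨w, rfl⟩ := T.residue_surjective (e x) k
    refine ⟨w, ?_⟩
    show IsLocalRing.residue _ (φ₀.hom w) = _
    rw [← sub_eq_zero, ← map_sub, IsLocalRing.residue_eq_zero_iff, IsLocalRing.mem_maximalIdeal, mem_nonunits_iff]
    intro hu
    rw [hρ] at hk
    have h0 : IsLocalRing.residue C (φt.hom w - c.1) = 0 := by rw [map_sub, hk, sub_self]
    rw [IsLocalRing.residue_eq_zero_iff] at h0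
    exact h0 (hu.map (Groth.Agent.VersalLib.sub ρ).subtype)
  -- `b` factors through the smaller ring
  let φb := Scheme.stalkClosedPointTo b
  haveI : IsLocalHom φb.hom := Scheme.isLocalHom_stalkClosedPointTo' b
  have hb_mem : ∀ w, φb.hom w ∈ Groth.Agent.VersalLib.sub ρ' := fun w => by
    rw [hmem, Groth.Agent.VersalLib.mem_sub]
    have h1 : IsLocalRing.residue C (π (φb.hom w)) ∈ Groth.Agent.VersalLib.resRange (Spec.map (CommRingCat.ofHom π) ≫ b) := by
      rw [Groth.Agent.VersalLib.resRange_spec_comp]; exact ⟨w, rfl⟩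
    rw [hab, ← Category.assoc] at h1
    obtain ⟨v, hv⟩ := Groth.Agent.VersalLib.resRange_comp_subset _ _ h1
    rw [← hv, Scheme.stalkClosedPointTo_comp]
    exact ⟨T.residue (e x) v, hρ v⟩
  let ψb : S.presheaf.stalk (b (IsLocalRing.closedPoint C')) ⟶ CommRingCat.of (Groth.Agent.VersalLib.sub ρ') :=
    CommRingCat.ofHom (φb.hom.codRestrict _ hb_mem)
  let b₀ := Spec.map ψb ≫ S.fromSpecStalk _
  have hbb : Spec.map (CommRingCat.ofHom (Groth.Agent.VersalLib.sub ρ').subtype) ≫ b₀ = b := by
    show _ ≫ Spec.map ψb ≫ _ = _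
    rw [← Category.assoc, ← Spec.map_comp,
      show ψb ≫ CommRingCat.ofHom (Groth.Agent.VersalLib.sub ρ').subtype = φb from rfl]
    exact Scheme.Spec_stalkClosedPointTo_fromSpecStalk b
  have hab₀ : Spec.map (CommRingCat.ofHom π₀) ≫ b₀ = a₀ ≫ g := by
    obtain ⟨_, ⟨O, hO, rfl⟩, hxO, -⟩ := S.isBasis_affineOpens.exists_subset_of_mem_open
      (Set.mem_univ (g (e x))) isOpen_univ
    haveI : IsLocalHom π₀ := IsLocalHom.of_surjective π₀ hπ₀
    have hbO : (Spec.map (CommRingCat.ofHom π₀) ≫ b₀) (IsLocalRing.closedPoint _) ∈ O := by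
      have h1 : ((Spec.map (CommRingCat.ofHom π) ≫ b) : Spec (CommRingCat.of C) ⟶ S) (IsLocalRing.closedPoint C) = g (e x) := by
        rw [hab, Scheme.Hom.comp_apply, Scheme.Hom.comp_apply]
      rw [Scheme.Hom.comp_apply, Spec_closedPoint] at h1
      rw [Scheme.Hom.comp_apply, Spec_closedPoint]
      show (Spec.map ψb ≫ S.fromSpecStalk _) _ ∈ O
      haveI : IsLocalHom ψb.hom := ⟨fun w hw => (isUnit_map_iff φb.hom w).mp (hw.map (Groth.Agent.VersalLib.sub ρ').subtype)⟩
      rw [Scheme.Hom.comp_apply, Spec_closedPoint, Scheme.fromSpecStalk_closedPoint, h1]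
      exact hxO
    have haO : (a₀ ≫ g) (IsLocalRing.closedPoint _) ∈ O := by
      rw [Scheme.Hom.comp_apply, hclosed, ← hau]; exact hxO
    rw [← Groth.Agent.VersalLib.eq_spec_fromSpec _ hO hbO, ← Groth.Agent.VersalLib.eq_spec_fromSpec _ hO haO]
    congr 2
    have hmono : Function.Injective (Groth.Agent.VersalLib.sub ρ).subtype := Subtype.coe_injective
    have h2 : Spec.map (CommRingCat.ofHom (Groth.Agent.VersalLib.sub ρ).subtype) ≫ Spec.map (CommRingCat.ofHom π₀) ≫ b₀ =
        Spec.map (CommRingCat.ofHom (Groth.Agent.VersalLib.sub ρ).subtype) ≫ a₀ ≫ g := by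
      rw [← Category.assoc, ← Spec.map_comp, show CommRingCat.ofHom π₀ ≫ CommRingCat.ofHom (Groth.Agent.VersalLib.sub ρ).subtype =
        CommRingCat.ofHom (Groth.Agent.VersalLib.sub ρ').subtype ≫ CommRingCat.ofHom π from rfl, Spec.map_comp, Category.assoc, hbb,
        hab, ← Category.assoc, ← Category.assoc, ← haa]
    have eA := Groth.Agent.VersalLib.eq_spec_fromSpec _ hO hbO
    have eB := Groth.Agent.VersalLib.eq_spec_fromSpec _ hO haO
    replace h2 := (congrArg (Spec.map (CommRingCat.ofHom (Groth.Agent.VersalLib.sub ρ).subtype) ≫ ·) eA).trans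
      (h2.trans (congrArg (Spec.map (CommRingCat.ofHom (Groth.Agent.VersalLib.sub ρ).subtype) ≫ ·) eB).symm)
    simp only [← Category.assoc, cancel_mono, ← Spec.map_comp] at h2
    have h3 := Spec.map_injective h2
    exact CommRingCat.hom_ext (RingHom.ext fun r => hmono (RingHom.congr_fun (congrArg CommRingCat.Hom.hom h3) r))
  obtain ⟨c₀, hc₁, hc₂⟩ := hT _ _ π₀ hπ₀ a₀ b₀ hclosed hsurj₀ hab₀
  let c := Spec.map (CommRingCat.ofHom (Groth.Agent.VersalLib.sub ρ').subtype) ≫ c₀
  have hca : Spec.map (CommRingCat.ofHom π) ≫ c = a ≫ e := by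
    rw [← Category.assoc, ← Spec.map_comp, show CommRingCat.ofHom (Groth.Agent.VersalLib.sub ρ').subtype ≫ CommRingCat.ofHom π =
      CommRingCat.ofHom π₀ ≫ CommRingCat.ofHom (Groth.Agent.VersalLib.sub ρ).subtype from rfl, Spec.map_comp, Category.assoc,
      hc₁, haa]
  have hcb : c ≫ g = b := by rw [Category.assoc, hc₂, hbb]
  -- lift along the étale morphism
  obtain ⟨_, ⟨W, hW, rfl⟩, hxW, -⟩ := T.isBasis_affineOpens.exists_subset_of_mem_open (Set.mem_univ (e x)) isOpen_univ
  obtain ⟨_, ⟨V, hV, rfl⟩, hxV, hVW⟩ := U.isBasis_affineOpens.exists_subset_of_mem_open (show x ∈ e ⁻¹ᵁ W from hxW) (e ⁻¹ᵁ W).2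
  have hcW : c (IsLocalRing.closedPoint C') ∈ W := by
    have h1 := congrArg (fun f : Spec (CommRingCat.of C) ⟶ T => f (IsLocalRing.closedPoint C)) hca
    simp only [Scheme.Hom.comp_apply] at h1
    haveI : IsLocalHom (CommRingCat.ofHom π).hom := inferInstanceAs (IsLocalHom π)
    have h3 : c (IsLocalRing.closedPoint C') = e x := (congrArg c (Spec_closedPoint (f := CommRingCat.ofHom π))).symm.trans h1
    exact h3 ▸ hxW
  have hE : (e.appLE W V hVW).hom.Etale := HasRingHomProperty.appLE @Etale e inferInstance ⟨W, hW⟩ ⟨V, hV⟩ hVW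
  let fc := T.presheaf.germ W _ hcW ≫ Scheme.stalkClosedPointTo c
  let ga := U.presheaf.germ V x hxV ≫ φu
  have hcompat : fc ≫ CommRingCat.ofHom π = e.appLE W V hVW ≫ ga := by
    apply Spec.map_injective
    rw [← cancel_mono hW.fromSpec]
    have eC : Spec.map fc ≫ hW.fromSpec = c := Groth.Agent.VersalLib.eq_spec_fromSpec c hW hcW
    have eA : Spec.map ga ≫ hV.fromSpec = a := Groth.Agent.VersalLib.eq_spec_fromSpec a hV hxV
    calc Spec.map (fc ≫ CommRingCat.ofHom π) ≫ hW.fromSpec = Spec.map (CommRingCat.ofHom π) ≫ c := by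
          rw [Spec.map_comp, Category.assoc, eC]
      _ = a ≫ e := hca
      _ = Spec.map ga ≫ hV.fromSpec ≫ e := by rw [← Category.assoc, eA]
      _ = Spec.map (e.appLE W V hVW ≫ ga) ≫ hW.fromSpec := by
          rw [← IsAffineOpen.SpecMap_appLE_fromSpec e hW hV hVW, ← Category.assoc, ← Spec.map_comp]
  have hn : IsNilpotent (RingHom.ker π) := by
    obtain ⟨n, hn⟩ := IsArtinianRing.isNilpotent_jacobson_bot (R := C')
    exact ⟨n, le_bot_iff.mp (le_trans (Ideal.pow_right_mono ((IsLocalRing.le_maximalIdeal (RingHom.ker_ne_top π)).trans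
      (IsLocalRing.jacobson_eq_maximalIdeal ⊥ bot_ne_top).ge) n) hn.le)⟩
  obtain ⟨F, hF1, hF2⟩ := Groth.Agent.DefClassLib.exists_etale_lift (e.appLE W V hVW).hom hE π hπ hn fc.hom ga.hom
    (congrArg CommRingCat.Hom.hom hcompat)
  refine ⟨Spec.map (CommRingCat.ofHom F) ≫ hV.fromSpec, ?_, ?_⟩
  · rw [← Category.assoc, ← Spec.map_comp, show CommRingCat.ofHom F ≫ CommRingCat.ofHom π = ga from CommRingCat.hom_ext hF2]
    exact Groth.Agent.VersalLib.eq_spec_fromSpec a hV hxV
  · rw [Category.assoc, ← Category.assoc hV.fromSpec, ← IsAffineOpen.SpecMap_appLE_fromSpec e hW hV hVW, Category.assoc,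
      ← Category.assoc, ← Spec.map_comp, show e.appLE W V hVW ≫ CommRingCat.ofHom F = fc from CommRingCat.hom_ext hF1,
      ← Category.assoc, Groth.Agent.VersalLib.eq_spec_fromSpec c hW hcW, hcb]

end Groth.Agent.S18017
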