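import Groth.Statements.S18019
import Mathlib

set_option autoImplicit false
universe u
open ClassStk

namespace Groth.Agent.S18019

open Polynomial in
/-- Let R be an integral domain of characteristic 2 and let a be a nonzero element of R, so that x ↦ x +
a defines an R-algebra involution of the polynomial ring R[x] (an action of the group of order two).
A polynomial f is invariant, f(x + a) = f(x), if and only if f belongs to the R-subalgebra generated
by u = x (x + a); in other words the ring of invariants is the polynomial ring R[u]. -/
theorem result (R : Type u) [CommRing R] [IsDomain R]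
    [CharP R 2] (a : R) (ha : a ≠ 0) (f : Polynomial R) :
    f.comp (X + C a) = f ↔ f ∈ Algebra.adjoin R ({X * (X + C a)} : Set (Polynomial R)) := by
  let v : Polynomial R := X * (X + C a)
  have h2 : (2 : Polynomial R) = 0 := CharTwo.two_eq_zero
  have hv : v.comp (X + C a) = v := by
    simp only [v, mul_comp, add_comp, X_comp, C_comp]
    linear_combination (X + C a) * C a * h2
  have hmon : v.Monic := monic_X.mul (monic_X_add_C a)
  have hdeg : v.natDegree = 2 := by
    rw [natDegree_mul X_ne_zero (X_add_C_ne_zero a), natDegree_X, natDegree_X_add_C]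
  have hback : f ∈ Algebra.adjoin R ({X * (X + C a)} : Set (Polynomial R)) → f.comp (X + C a) = f := by
    intro hf
    induction hf using Algebra.adjoin_induction with
    | mem x hx => rw [Set.mem_singleton_iff.1 hx]; exact hv
    | algebraMap r => rw [Polynomial.algebraMap_eq, C_comp]
    | add x y _ _ hx hy => rw [add_comp, hx, hy]
    | mul x y _ _ hx hy => rw [mul_comp, hx, hy]
  refine ⟨fun hf => ?_, hback⟩
  clear hback
  induction hn : f.natDegree using Nat.strong_induction_on generalizing f with
  | _ n ih =>
    have hr : (f %ₘ v).natDegree < 2 := hdeg ▸ natDegree_modByMonic_lt f hmon (fun h => by rw [h, natDegree_one] at hdeg; omega)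
    obtain ⟨α, β, hαβ⟩ := exists_eq_X_add_C_of_natDegree_le_one (p := f %ₘ v) (by omega)
    have hdiv := modByMonic_add_div f v
    have hcomp : (f %ₘ v).comp (X + C a) + v * (f /ₘ v).comp (X + C a) = f := by
      conv_rhs => rw [← hf, ← hdiv]
      rw [add_comp, mul_comp, hv]
    have hdr : ((f %ₘ v).comp (X + C a)).degree < v.degree := by
      refine lt_of_le_of_lt degree_le_natDegree ?_
      rw [degree_eq_natDegree hmon.ne_zero, hdeg, natDegree_comp, natDegree_X_add_C, mul_one]
      exact_mod_cast hr
    obtain ⟨hq', hr'⟩ := div_modByMonic_unique _ _ hmon ⟨hcomp, hdr⟩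
    have hα : α = 0 := by
      have h := congrArg (fun p => p.coeff 0) hr'
      simp only [hαβ, add_comp, mul_comp, C_comp, X_comp, coeff_add, coeff_C_zero, mul_coeff_zero, coeff_X_zero,
        mul_zero, zero_add] at h
      have : α * a = 0 := by linear_combination -h
      exact (mul_eq_zero.1 this).resolve_right ha
    rw [← hdiv, hαβ, hα, C_0, zero_mul, zero_add]
    refine add_mem (Subalgebra.algebraMap_mem _ β) (mul_mem (Algebra.subset_adjoin rfl) ?_)
    by_cases hq0 : f /ₘ v = 0
    · rw [hq0]; exact zero_mem _
    · refine ih _ ?_ _ hq'.symm rfl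
      have : ¬ f.natDegree < 2 := fun hlt => hq0 ((divByMonic_eq_zero_iff hmon).2 (by
        refine lt_of_le_of_lt degree_le_natDegree ?_
        rw [degree_eq_natDegree hmon.ne_zero, hdeg]
        exact_mod_cast hlt))
      rw [natDegree_divByMonic f hmon, hdeg]
      omega

end Groth.Agent.S18019
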