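import Groth.Statements.S1802
import Groth.Agent.HLVTLib.Punctured
import Groth.Agent.HLVTLib.Connected

set_option autoImplicit false
universe u
open AlgebraicGeometry
open LocCoh

namespace Groth.Agent.S1802

/-- For a Noetherian ring. Let I be an ideal of a Noetherian ring A with cd(A, I) = 1, i.e. H^i_I(M) = 0
for all modules M and all i ≥ 2 but H^1_I(M) ≠ 0 for some M. Then the open subscheme Spec A minus
V(I) is nonempty and affine. -/
theorem result (A : Type u) [CommRing A] [IsNoetherianRing A] (I : Ideal A) (h1 : LocCoh.CdLE A I 1) (h0 : ¬ LocCoh.CdLE A I 0) : Nonempty (↑(LocCoh.puncturedOpen A I) : Scheme.{u}) ∧ IsAffine (↑(LocCoh.puncturedOpen A I) : Scheme.{u}) := by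
  refine ⟨?_, HLVTLib.isAffine_puncturedOpen h1⟩
  by_contra hne
  refine h0 ?_
  have hI : I.radical = (⊥ : Ideal A).radical := by
    rw [← PrimeSpectrum.zeroLocus_eq_iff, Submodule.bot_coe, PrimeSpectrum.zeroLocus_singleton_zero]
    refine Set.eq_univ_of_forall fun p => ?_
    by_contra hp
    exact hne ⟨⟨p, hp⟩⟩
  refine HLVTLib.cdLE_congr hI.symm ?_
  have := HLVTLib.cdLE_span_fin (R := A) (fun i : Fin 0 => i.elim0)
  simpa using this


end Groth.Agent.S1802
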