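import Groth.Statements.S18021
import Groth.Agent.InertiaLib.Basic

set_option autoImplicit false
open W4c5stacksedinertia

namespace Groth.Agent.S18021

open W4c5stacksedinertia in
/-- In the rational vector space K with basis the isomorphism classes of finite groups (the class of a
group standing for its classifying groupoid), the inertia operator is diagonalizable with spectrum
the positive integers: the eigenspaces attached to natural numbers span everything, and a rational
number is an eigenvalue if and only if it is a positive integer. -/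
theorem result :
    (⨆ n : ℕ, Module.End.eigenspace inertia (n : ℚ)) = ⊤ ∧
    ∀ μ : ℚ, Module.End.HasEigenvalue inertia μ ↔ ∃ n : ℕ, 0 < n ∧ μ = (n : ℚ) := by
  classical
  refine ⟨?_, fun μ => ⟨fun hμ => ?_, ?_⟩⟩
  · rw [eq_top_iff, ← InertiaLib.iSup_pos_eigen]
    exact iSup_le fun n => le_iSup (fun n : ℕ => Module.End.eigenspace inertia (n : ℚ)) n.1
  · by_contra hcon
    push Not at hcon
    apply hμ
    have hd := (Module.End.eigenspaces_iSupIndep (inertia : Module.End ℚ K)) μ
    rw [disjoint_iff] at hd
    rw [eq_bot_iff, ← hd]
    refine le_inf le_rfl (le_trans le_top ?_)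
    rw [← InertiaLib.iSup_pos_eigen]
    exact iSup_le fun n => le_iSup₂ (f := fun (ν : ℚ) (_ : ν ≠ μ) => Module.End.eigenspace inertia ν) ((n : ℕ) : ℚ)
      (fun e => hcon n.1 n.2 e.symm)
  · rintro ⟨n, hn, rfl⟩
    haveI : NeZero n := ⟨hn.ne'⟩
    set G := Multiplicative (ZMod n)
    haveI : Fintype G := Fintype.ofFinite G
    refine Module.End.hasEigenvalue_of_hasEigenvector (x := cl G) ⟨Module.End.mem_eigenspace_iff.2 ?_, ?_⟩
    · rw [InertiaLib.inertia_cl, Finset.sum_congr rfl (fun h _ => InertiaLib.centralizer_equiv_top _
        (Subgroup.centralizer_eq_top_iff_subset.2 (fun x _ => Subgroup.mem_center_iff.2 fun g => mul_comm g x))),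
        Finset.sum_const, Finset.card_univ, ← Nat.card_eq_fintype_card, Nat.cast_smul_eq_nsmul]
      congr 1
      exact (Nat.card_congr (Multiplicative.toAdd : G ≃ ZMod n)).trans (Nat.card_zmod n)
    · exact fun h => one_ne_zero (Finsupp.single_eq_zero.1 h)

end Groth.Agent.S18021
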