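import Groth.Statements.S18024
import Groth.Agent.InertiaLib.Basic

set_option autoImplicit false
open W4c5stacksedinertia

namespace Groth.Agent.S18024

open W4c5stacksedinertia in
/-- In the rational vector space K with basis the isomorphism classes of finite groups (the class of a
group standing for its classifying groupoid), for every `r` the kernel of `inertiaR r` is the span
of the eigenspaces of the inertia operator with eigenvalue a natural number `k < r`. -/
theorem result (r : ℕ) :
    LinearMap.ker (inertiaR r) = ⨆ k ∈ Finset.range r, Module.End.eigenspace inertia (k : ℚ) := by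
  refine le_antisymm (fun v hv => ?_) (iSup₂_le fun k hk v hv => ?_)
  · obtain ⟨S, f, hf, hsum, h0, hP⟩ := InertiaLib.projection v
    rw [hsum]
    refine Submodule.sum_mem _ fun n hn => ?_
    rcases lt_or_ge n r with h | h
    · exact Submodule.mem_iSup_of_mem n (Submodule.mem_iSup_of_mem (Finset.mem_range.2 h) (hf n))
    · rw [show f n = 0 from ?_]
      · exact zero_mem _
      · rw [← hP n]
        refine finsum_eq_zero_of_forall_eq_zero fun r' => ?_
        rcases lt_or_ge r' r with h' | h'
        · rw [Nat.choose_eq_zero_of_lt (h'.trans_le h)]; simp
        · rw [InertiaLib.inertiaR_eq_zero_of_le (LinearMap.mem_ker.1 hv) r' h', smul_zero]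
  · rw [LinearMap.mem_ker, InertiaLib.inertiaR_apply_eigen hv r,
      Nat.descFactorial_eq_zero_iff_lt.2 (Finset.mem_range.1 hk), Nat.cast_zero, zero_smul]

end Groth.Agent.S18024
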