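import Groth.Statements.S18026
import Groth.Agent.Hensel.Sections
import Groth.Agent.Hensel.QuasiFinite
import Mathlib
-- import your own Groth.Agent.* helpers here

set_option autoImplicit false
universe u
open Hensel

namespace Groth.Agent.S18026

open AlgebraicGeometry CategoryTheory in
/-- Let `A` be a henselian discrete valuation ring and `f : T ⟶ Spec A` an étale surjective morphism of
schemes. Then some open subscheme `U` of `T` is finite over `Spec A` and still maps onto it; in
particular `U → Spec A` is a finite étale cover sitting inside `T` as an open subscheme (étaleness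
of the restriction is automatic, and surjectivity records that `U` meets the closed fibre). (The
published statement asks for an open component of `T` finite étale over `Spec A`; when `T` is not
separated — two copies of `Spec A` glued along the generic point — no open and closed subset of `T`
is finite over `Spec A`, while the published proof constructs an open subscheme, the spectrum of the
local ring of `T` at a point of the closed fibre; so this row asks only for an open subscheme.) -/
theorem result
    (A : Type u) [CommRing A] [IsDomain A] [IsDiscreteValuationRing A] [HenselianLocalRing A]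
    (T : Scheme.{u}) (f : T ⟶ Spec (CommRingCat.of A)) [Etale f] [Surjective f] :
    ∃ U : T.Opens, IsFinite (U.ι ≫ f) ∧ Surjective (U.ι ≫ f) := by
  classical
  obtain ⟨t, ht⟩ := (inferInstance : Surjective f).surj (IsLocalRing.closedPoint A)
  obtain ⟨S, _, _, j, hj, ⟨p, rfl⟩, hjf⟩ := Groth.Agent.Hensel.exists_affine_presentation f t
  have het : Etale (Spec.map (CommRingCat.ofHom (algebraMap A S))) := by
    rw [← hjf]; infer_instance
  rw [HasRingHomProperty.Spec_iff (P := @Etale)] at het
  have : Algebra.Etale A S := RingHom.etale_algebraMap.1 het
  have hp : p.asIdeal.comap (algebraMap A S) = IsLocalRing.maximalIdeal A := by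
    have h1 : (j ≫ f).base p = IsLocalRing.closedPoint A := ht
    rw [hjf] at h1
    exact congrArg PrimeSpectrum.asIdeal h1
  obtain ⟨e, he, hep, -⟩ := Groth.Agent.Hensel.exists_finIdem (R := A) p.asIdeal hp
  have := he.module_finite
  have hloc := IsLocalization.Away.quotient_of_isIdempotentElem he.1
  let π : CommRingCat.of S ⟶ CommRingCat.of (S ⧸ Ideal.span ({1 - e} : Set S)) :=
    CommRingCat.ofHom (algebraMap S _)
  have hπ : IsOpenImmersion (Spec.map π) := IsOpenImmersion.of_isLocalization e
  let g := Spec.map π ≫ j
  have hgf : g ≫ f = Spec.map (CommRingCat.ofHom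
      (algebraMap A (S ⧸ Ideal.span ({1 - e} : Set S)))) := by
    simp only [g, Category.assoc, hjf, ← Spec.map_comp]
    rfl
  have hfin : IsFinite (g ≫ f) := by
    rw [hgf, IsFinite.SpecMap_iff]
    exact RingHom.finite_algebraMap.2 inferInstance
  refine ⟨g.opensRange, ?_, ?_⟩
  · have : g.opensRange.ι ≫ f = g.isoOpensRange.inv ≫ (g ≫ f) := by
      rw [← Category.assoc, Scheme.Hom.isoOpensRange_inv_comp]
    rw [this]
    exact MorphismProperty.RespectsIso.precomp (P := @IsFinite) _ _ hfin
  · refine ⟨fun x => ?_⟩
    have hpmem : p ∈ Set.range (Spec.map π).base := by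
      have := PrimeSpectrum.localization_away_comap_range (S ⧸ Ideal.span ({1 - e} : Set S)) e
      exact this.symm ▸ hep
    obtain ⟨w, hw⟩ := hpmem
    obtain ⟨u, hu⟩ : j.base p ∈ Set.range g.opensRange.ι.base := by
      rw [Scheme.Opens.range_ι]
      exact ⟨w, by simp [g, hw]⟩
    have hu' : (g.opensRange.ι ≫ f).base u = IsLocalRing.closedPoint A := by
      show f.base (g.opensRange.ι.base u) = _
      rw [hu]; exact ht
    have hx : x ⤳ (g.opensRange.ι ≫ f).base u := by
      rw [hu']; exact IsLocalRing.specializes_closedPoint x
    obtain ⟨v, -, hv⟩ := Flat.generalizingMap (g.opensRange.ι ≫ f) hx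
    exact ⟨v, hv⟩

end Groth.Agent.S18026
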