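import Groth.Statements.S18027
import Groth.Agent.GrpSchLib.Component
import Groth.Agent.GrpSchLib.Dimension
import Groth.Agent.GrpSchLib.DimLie
-- import your own Groth.Agent.* helpers here

set_option autoImplicit false
set_option backward.isDefEq.respectTransparency false
set_option backward.isDefEq.respectTransparency false
universe u
open CategoryTheory MonoidalCategory CartesianMonoidalCategory MonObj GrpObj AlgebraicGeometry CategoryTheory.Limits
open AlgGrp

namespace Groth.Agent.S18027

/-- Let `k` be a field and `u : G ⟶ H` a homomorphism of smooth `k`-group schemes which is a closed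
immersion, where `G` and `H` have the same dimension. Then `u` carries the connected component of
the identity of `G` onto the connected component of the identity of `H`; as `u` is a closed
immersion and `H` is reduced, `u` therefore restricts to an isomorphism between the identity
components. (The second printed assertion, on the groups of components, is not included.) -/
theorem result (k : Type u) [Field k]
    (G H : Over (Spec (CommRingCat.of k))) [GrpObj G] [GrpObj H]
    [Smooth G.hom] [Smooth H.hom] (u : G ⟶ H) [IsMonHom u] [IsClosedImmersion u.left]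
    (hdim : topologicalKrullDim ↥G.left = topologicalKrullDim ↥H.left)
    (t : ↥((𝟙_ (Over (Spec (CommRingCat.of k)))).left)) :
    ⇑u.left.base '' connectedComponent (η[G].left.base t) = connectedComponent (η[H].left.base t) := by
  obtain rfl : t = IsLocalRing.closedPoint k := Subsingleton.elim (α := PrimeSpectrum k) _ _
  let eG := Groth.Agent.GrpSchLib.unitPt G
  let eH := Groth.Agent.GrpSchLib.unitPt H
  have he : u.left eG = eH := by
    show u.left (η[G].left _) = η[H].left _
    rw [← Scheme.Hom.comp_apply, ← Over.comp_left, IsMonHom.one_hom u]
  refine Set.Subset.antisymm ?_ ?_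
  · rintro _ ⟨z, hz, rfl⟩
    rw [show η[H].left (IsLocalRing.closedPoint k) = u.left eG from he.symm]
    exact u.left.continuous.image_connectedComponent_subset _ ⟨z, hz, rfl⟩
  haveI : IsLocallyNoetherian H.left := LocallyOfFiniteType.isLocallyNoetherian H.hom
  haveI : IsLocallyNoetherian G.left := LocallyOfFiniteType.isLocallyNoetherian G.hom
  have h1 := Groth.Agent.GrpSchLib.ringKrullDim_stalk_eq_topologicalKrullDim (G := G) eG
    Groth.Agent.GrpSchLib.isClosed_unitPt
  have h2 := Groth.Agent.GrpSchLib.ringKrullDim_stalk_eq_topologicalKrullDim (G := H) eH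
    Groth.Agent.GrpSchLib.isClosed_unitPt
  have h3 := Groth.Agent.GrpSchLib.dim_eq_of_smooth G
  rw [ringKrullDim_stalk_eq_coheight, h3] at h1
  rw [ringKrullDim_stalk_eq_coheight, ← hdim, h3] at h2
  obtain ⟨n, hn, hn'⟩ : ∃ n : ℕ, Order.coheight eG = n ∧ Order.coheight eH = n :=
    ⟨_, WithBot.coe_injective h1, WithBot.coe_injective h2⟩
  obtain ⟨p, hp, hpl⟩ := Order.exists_series_of_coheight_eq_coe eG hn
  have hmono : StrictMono (u.left : G.left → H.left) := fun a b hab =>
    lt_iff_le_not_ge.mpr ⟨hab.le.map u.left.continuous, fun h =>
      hab.not_ge (u.left.isClosedEmbedding.isInducing.specializes_iff.mp h)⟩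
  let q := p.map u.left hmono
  have hξ : ∀ z : H.left, ¬ u.left p.last < z := by
    intro z hz
    have := Order.length_le_coheight (p := q.snoc z (by simpa [q] using hz)) (x := eH) (by simp [q, hp, he])
    rw [hn', RelSeries.snoc_length] at this
    have h4 : q.length = n := hpl
    rw [h4] at this
    have h5 : n + 1 ≤ n := by exact_mod_cast this
    omega
  have hξe : p.last ⤳ eG := hp ▸ p.head_le_last
  have hsub : connectedComponent eH ⊆ closure {u.left p.last} := by
    rw [Groth.Agent.GrpSchLib.connectedComponent_eq]
    obtain ⟨g, hg⟩ := QuasiSober.sober (isIrreducible_irreducibleComponent (x := eH)) isClosed_irreducibleComponent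
    have hu : u.left p.last ∈ irreducibleComponent eH := Groth.Agent.GrpSchLib.subset_irreducibleComponent
      isIrreducible_singleton.closure (he ▸ (hξe.map u.left.continuous).mem_closure) (subset_closure rfl)
    have hle : g ⤳ u.left p.last := hg.specializes hu
    rw [← hg.def]
    refine closure_minimal (Set.singleton_subset_iff.mpr ?_) isClosed_closure
    by_contra hne
    exact hξ g (lt_iff_le_not_ge.mpr ⟨hle, fun h => hne h.mem_closure⟩)
  refine fun z hz => ?_
  have hz' := hsub hz
  rw [← Set.image_singleton, u.left.isClosedEmbedding.closure_image_eq] at hz'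
  obtain ⟨w, hw, rfl⟩ := hz'
  refine ⟨w, ?_, rfl⟩
  have hc : _root_.IsPreconnected (closure ({p.last} : Set G.left)) := isPreconnected_singleton.closure
  exact hc.subset_connectedComponent hξe.mem_closure hw

end Groth.Agent.S18027
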