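import Groth.Statements.S18040
import Mathlib
-- import your own Groth.Agent.* helpers here

set_option autoImplicit false
set_option backward.isDefEq.respectTransparency false
universe u
open AdjLin

namespace Groth.Agent.S18040

/-- Let k be an algebraically closed field of characteristic zero and Z a finite set of points of
projective 3-space over k, realised as points of the projectivization of k⁴, a homogeneous form in
four variables being evaluated at the chosen representative of a point (its vanishing does not
depend on the choice). Suppose Z has the Cayley–Bacharach property in degree n: every form of degree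
n vanishing at all points of Z but one vanishes at that point as well. Then for every m ≤ n, either
there is a nonzero form of degree n − m vanishing at every point of Z, or the rank of the evaluation
map from forms of degree m to functions on Z is at most the number of points of Z minus the
dimension of the space of forms of degree n − m. -/
theorem result (k : Type u) [Field k] [IsAlgClosed k] [CharZero k]
    (Z : Finset (Projectivization k (Fin 4 → k))) (n : ℕ)
    (hCB : (∀ z ∈ Z, ∀ p : MvPolynomial (Fin 4) k, p.IsHomogeneous n →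
      (∀ z' ∈ Z, z' ≠ z → MvPolynomial.eval z'.rep p = 0) → MvPolynomial.eval z.rep p = 0))
    (m : ℕ) (hm : m ≤ n) :
    (∃ s : MvPolynomial (Fin 4) k, s.IsHomogeneous (n - m) ∧ s ≠ 0 ∧ ∀ z ∈ Z, MvPolynomial.eval z.rep s = 0) ∨
      Module.finrank k (LinearMap.range
          ((LinearMap.pi fun z : ↥Z => (MvPolynomial.aeval (R := k) z.1.rep).toLinearMap) ∘ₗ
            (MvPolynomial.homogeneousSubmodule (Fin 4) k m).subtype)) +
        Module.finrank k ↥(MvPolynomial.homogeneousSubmodule (Fin 4) k (n - m)) ≤ Z.card := by
  classical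
  let T : ∀ d : ℕ, MvPolynomial.homogeneousSubmodule (Fin 4) k d →ₗ[k] (↥Z → k) := fun d =>
    (LinearMap.pi fun z : ↥Z => (MvPolynomial.aeval (R := k) z.1.rep).toLinearMap) ∘ₗ
      (MvPolynomial.homogeneousSubmodule (Fin 4) k d).subtype
  have hT : ∀ d p w, T d p w = MvPolynomial.eval w.1.rep (p : MvPolynomial (Fin 4) k) := fun d p w => by
    simp [T, MvPolynomial.aeval_eq_eval]
  by_cases hinj : Function.Injective (T (n - m))
  swap
  · rw [← LinearMap.ker_eq_bot] at hinj
    obtain ⟨s, hs, hs0⟩ := (Submodule.ne_bot_iff _).1 hinj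
    refine Or.inl ⟨s, (MvPolynomial.mem_homogeneousSubmodule _ _).1 s.2, fun h => hs0 (Subtype.ext h), fun z hz => ?_⟩
    rw [← hT _ s ⟨z, hz⟩, LinearMap.mem_ker.1 hs]
    rfl
  refine Or.inr ?_
  -- CB: no function of degree `n` is supported at one point
  have hno : ∀ w : ↥Z, (Pi.single w 1 : ↥Z → k) ∉ LinearMap.range (T n) := by
    rintro w ⟨p, hp⟩
    have h0 := hCB w.1 w.2 p ((MvPolynomial.mem_homogeneousSubmodule _ _).1 p.2) fun z' hz' hne => by
      rw [← hT n p ⟨z', hz'⟩, hp, Pi.single_eq_of_ne]
      exact fun h => hne (congrArg Subtype.val h)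
    rw [← hT n p w, hp, Pi.single_eq_same] at h0
    exact one_ne_zero h0
  choose f hfz hf using fun w => Submodule.exists_le_ker_of_notMem (hno w)
  let e := Fintype.equivFin ↥Z
  let P : ↥Z → Polynomial k := fun w => ∑ i, Polynomial.C (f (e.symm i) (Pi.single w 1)) * Polynomial.X ^ (i : ℕ)
  have hP : ∀ w, P w ≠ 0 := fun w h => hfz w (by
    have := congrArg (fun q : Polynomial k => q.coeff (e w)) h
    simpa [P, Polynomial.finsetSum_coeff, Polynomial.coeff_C_mul, Polynomial.coeff_X_pow, Fin.val_inj] using this)
  have hprod : (∏ w, P w) ≠ 0 := Finset.prod_ne_zero_iff.2 fun w _ => hP w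
  obtain ⟨t, ht⟩ : ∃ t : k, (∏ w, P w).eval t ≠ 0 := by
    by_contra h
    push_neg at h
    exact hprod (Polynomial.zero_of_eval_zero _ h)
  rw [Polynomial.eval_prod, Finset.prod_ne_zero_iff] at ht
  let F : (↥Z → k) →ₗ[k] k := ∑ i : Fin (Fintype.card ↥Z), t ^ (i : ℕ) • f (e.symm i)
  have hF0 : ∀ w, F (Pi.single w 1) ≠ 0 := fun w => by
    have : F (Pi.single w 1) = (P w).eval t := by
      simp only [F, P, LinearMap.sum_apply, LinearMap.smul_apply, Polynomial.eval_finsetSum, Polynomial.eval_mul,
        Polynomial.eval_C, Polynomial.eval_pow, Polynomial.eval_X, smul_eq_mul]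
      exact Finset.sum_congr rfl fun i _ => mul_comm _ _
    rw [this]
    exact ht w (Finset.mem_univ _)
  have hFC : ∀ p, F (T n p) = 0 := fun p => by
    simp only [F, LinearMap.sum_apply, LinearMap.smul_apply, LinearMap.mem_ker.1 (hf _ (LinearMap.mem_range_self _ p)),
      smul_zero, Finset.sum_const_zero]
  let Φ : (↥Z → k) →ₗ[k] Module.Dual k (↥Z → k) :=
    LinearMap.mk₂ k (fun a b => F (a * b)) (fun a a' b => by rw [add_mul, map_add])
      (fun c a b => by rw [smul_mul_assoc, map_smul]) (fun a b b' => by rw [mul_add, map_add])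
      (fun c a b => by rw [mul_smul_comm, map_smul])
  have hΦ : Function.Injective Φ := by
    rw [injective_iff_map_eq_zero]
    intro a ha
    ext w
    have := LinearMap.congr_fun ha (Pi.single w 1)
    have he : a * Pi.single w 1 = a w • (Pi.single w 1 : ↥Z → k) := by
      ext v
      by_cases h : v = w
      · subst h; simp
      · simp [h]
    simp only [Φ, LinearMap.mk₂_apply, he, map_smul, LinearMap.zero_apply, smul_eq_mul, mul_eq_zero] at this
    exact this.resolve_right (hF0 w)
  have hAB : (LinearMap.range (T m)).map Φ ≤ (LinearMap.range (T (n - m))).dualAnnihilator := by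
    rintro _ ⟨_, ⟨p, rfl⟩, rfl⟩
    rw [Submodule.mem_dualAnnihilator]
    rintro _ ⟨q, rfl⟩
    have hpq : (p : MvPolynomial (Fin 4) k) * q ∈ MvPolynomial.homogeneousSubmodule (Fin 4) k n := by
      have h := ((MvPolynomial.mem_homogeneousSubmodule _ _).1 p.2).mul ((MvPolynomial.mem_homogeneousSubmodule _ _).1 q.2)
      rw [Nat.add_sub_cancel' hm] at h
      exact (MvPolynomial.mem_homogeneousSubmodule _ _).2 h
    refine Eq.trans (congrArg F (funext fun w => ?_)) (hFC ⟨_, hpq⟩)
    rw [Pi.mul_apply, hT, hT, hT, map_mul]
  have h1 := Submodule.finrank_mono hAB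
  rw [← (Submodule.equivMapOfInjective Φ hΦ _).finrank_eq] at h1
  have h2 := Subspace.finrank_add_finrank_dualAnnihilator_eq (LinearMap.range (T (n - m)))
  rw [LinearMap.finrank_range_of_inj hinj, Module.finrank_fintype_fun_eq_card, Fintype.card_coe] at h2
  show Module.finrank k (LinearMap.range (T m)) + _ ≤ _
  omega

end Groth.Agent.S18040
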