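import Groth.Statements.S18042
import Mathlib.LinearAlgebra.Projectivization.Basic

set_option autoImplicit false
universe u
open AdjLin

namespace Groth.Agent.S18042

open Finset Module

section
variable {k : Type u} [Field k]

local notation "V" => (Fin 4 → k)
local notation "PP" => Projectivization k (Fin 4 → k)

def CB (Z : Finset PP) (n : ℕ) : Prop :=
  ∀ z ∈ Z, ∀ p : MvPolynomial (Fin 4) k, p.IsHomogeneous n →
    (∀ z' ∈ Z, z' ≠ z → MvPolynomial.eval z'.rep p = 0) → MvPolynomial.eval z.rep p = 0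

noncomputable def lin (f : Module.Dual k V) : MvPolynomial (Fin 4) k :=
  ∑ i, MvPolynomial.C (f (Pi.single i 1)) * MvPolynomial.X i

theorem eval_lin (f : Module.Dual k V) (v : V) : MvPolynomial.eval v (lin f) = f v := by
  conv_rhs => rw [pi_eq_sum_univ' v, map_sum]
  simp [lin, mul_comm]

theorem lin_homogeneous (f : Module.Dual k V) : (lin f).IsHomogeneous 1 :=
  MvPolynomial.IsHomogeneous.sum _ _ _ fun i _ => MvPolynomial.isHomogeneous_C_mul_X _ i

theorem exists_avoid (W : Submodule k V) (v : V) (hv : v ∉ W) :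
    ∃ f : Module.Dual k V, (∀ w ∈ W, f w = 0) ∧ f v ≠ 0 := by
  obtain ⟨f, h1, h2⟩ := Submodule.exists_dual_map_eq_bot_of_notMem hv inferInstance
  refine ⟨f, fun w hw => ?_, h1⟩
  have : f w ∈ W.map f := ⟨w, hw, rfl⟩
  simpa [h2] using this

theorem exists_plane (W : Submodule k V) (hW : finrank k W ≤ 3) :
    ∃ f : Module.Dual k V, f ≠ 0 ∧ ∀ w ∈ W, f w = 0 := by
  have hne : W ≠ ⊤ := fun h => by subst h; simp at hW
  obtain ⟨v, -, hv⟩ := SetLike.exists_of_lt hne.lt_top
  obtain ⟨f, hf, hfv⟩ := exists_avoid W v hv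
  exact ⟨f, fun h => hfv (by simp [h]), hf⟩

theorem finrank_ker {f : Module.Dual k V} (hf : f ≠ 0) : finrank k (LinearMap.ker f) = 3 := by
  have h := Module.Dual.finrank_ker_add_one_of_ne_zero hf
  simp at h; omega

theorem finrank_sup_span_le (W : Submodule k V) (v : V) : finrank k ↥(W ⊔ (k ∙ v)) ≤ finrank k W + 1 := by
  refine (Submodule.finrank_add_le_finrank_add_finrank W (k ∙ v)).trans (Nat.add_le_add_left ?_ _)
  refine (finrank_span_le_card ({v} : Set V)).trans ?_
  simp

theorem finrank_sup_span (W : Submodule k V) (v : V) (hv : v ∉ W) : finrank k ↥(W ⊔ (k ∙ v)) = finrank k W + 1 := by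
  refine le_antisymm (finrank_sup_span_le W v) ?_
  exact Submodule.finrank_lt_finrank_of_lt (left_lt_sup.2 fun h => hv (h (Submodule.mem_span_singleton_self v)))

theorem exists_ge_finrank (W : Submodule k V) (d : ℕ) (hW : finrank k W ≤ d) (hd : d ≤ 4) :
    ∃ W' : Submodule k V, W ≤ W' ∧ finrank k W' = d := by
  induction d with
  | zero => exact ⟨W, le_rfl, by omega⟩
  | succ d ih =>
    rcases lt_or_eq_of_le hW with h | h
    · obtain ⟨W', h1, h2⟩ := ih (by omega) (by omega)
      have hne : W' ≠ ⊤ := fun h => by subst h; simp at h2; omega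
      obtain ⟨v, -, hv⟩ := SetLike.exists_of_lt hne.lt_top
      exact ⟨W' ⊔ (k ∙ v), h1.trans le_sup_left, by rw [finrank_sup_span W' v hv, h2]⟩
    · exact ⟨W, le_rfl, h⟩

theorem rep_notMem_span {z z' : PP} (h : z ≠ z') : z.rep ∉ (k ∙ z'.rep) := fun hm => h (by
  apply Projectivization.submodule_injective
  rw [z.submodule_eq, z'.submodule_eq]
  refine Submodule.eq_of_le_of_finrank_eq ((Submodule.span_singleton_le_iff_mem _ _).2 hm) ?_
  rw [finrank_span_singleton z.rep_nonzero, finrank_span_singleton z'.rep_nonzero])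

theorem line_eq {W : Submodule k V} (hW : finrank k W ≤ 2) {z z' : PP} (h : z ≠ z') (hz : z.rep ∈ W) (hz' : z'.rep ∈ W) :
    (k ∙ z.rep) ⊔ (k ∙ z'.rep) = W := by
  refine Submodule.eq_of_le_of_finrank_le (sup_le ((Submodule.span_singleton_le_iff_mem _ _).2 hz)
    ((Submodule.span_singleton_le_iff_mem _ _).2 hz')) ?_
  rw [finrank_sup_span _ _ (rep_notMem_span (Ne.symm h)), finrank_span_singleton z.rep_nonzero]
  omega

variable [DecidableEq k]

theorem CB.step {Z : Finset PP} {n : ℕ} (h : CB Z (n + 1)) (f : Module.Dual k V) :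
    CB (Z.filter fun z => f z.rep ≠ 0) n := by
  intro z hz p hp hv
  obtain ⟨hzZ, hfz⟩ := mem_filter.1 hz
  have h1 := h z hzZ (p * lin f) (hp.mul (lin_homogeneous f)) fun z' hz' hne => by
    rw [map_mul, eval_lin]
    by_cases hf : f z'.rep = 0
    · rw [hf, mul_zero]
    · rw [hv z' (mem_filter.2 ⟨hz', hf⟩) hne, zero_mul]
  rw [map_mul, eval_lin] at h1
  exact (mul_eq_zero.1 h1).resolve_right hfz

theorem CB.card_le {Z : Finset PP} {n : ℕ} (h : CB Z n) (hne : Z.Nonempty) : n + 2 ≤ Z.card := by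
  induction n generalizing Z with
  | zero =>
    obtain ⟨z, hz⟩ := hne
    by_contra hc
    have := h z hz 1 (MvPolynomial.isHomogeneous_one _ _) fun z' hz' hne =>
      absurd (card_le_one.1 (by omega) z' hz' z hz) hne
    simp at this
  | succ n ih =>
    obtain ⟨z0, hz0⟩ := hne
    by_cases hs : ∃ z1 ∈ Z, z1 ≠ z0
    · obtain ⟨z1, hz1, h10⟩ := hs
      obtain ⟨f, hf1, hf0⟩ := exists_avoid _ _ (rep_notMem_span (Ne.symm h10))
      have h1 := ih (h.step f) ⟨z0, mem_filter.2 ⟨hz0, hf0⟩⟩
      have h2 : (Z.filter fun z => f z.rep ≠ 0).card < Z.card :=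
        card_lt_card ((filter_ssubset).2 ⟨z1, hz1, not_not.2 (hf1 _ (Submodule.mem_span_singleton_self _))⟩)
      omega
    · push Not at hs
      obtain ⟨f, hf, -⟩ := exists_plane (⊥ : Submodule k V) (by simp)
      obtain ⟨g, hg0, hg⟩ := exists_avoid (⊥ : Submodule k V) z0.rep (by simp [z0.rep_nonzero])
      have := h z0 hz0 ((lin g) ^ (n + 1)) (by simpa using (lin_homogeneous g).pow (n + 1))
        (fun z' hz' hne => absurd (hs z' hz') hne)
      rw [map_pow, eval_lin] at this
      exact absurd (eq_zero_of_pow_eq_zero this) hg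

/-- No point off `L` has at most `n - 1` companions off `L`. -/
theorem CB.sep {Z : Finset PP} {n : ℕ} (h : CB Z n) (L : Submodule k V) {z : PP} (hz : z ∈ Z) (hzL : z.rep ∉ L)
    (s : Finset PP) (hs : ∀ z' ∈ Z, z' ≠ z → z'.rep ∈ L ∨ z' ∈ s) (hzs : z ∉ s) : n ≤ s.card := by
  classical
  by_contra hc
  obtain ⟨g, hg, hgz⟩ := exists_avoid L _ hzL
  choose f hf hfz using fun q : ↥s => exists_avoid _ _ (rep_notMem_span (z := z) (z' := q.1)
    (fun he => hzs (he ▸ q.2)))
  have hhom : ((lin g) ^ (n - s.card) * ∏ q : ↥s, lin (f q)).IsHomogeneous n := by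
    have h1 := ((lin_homogeneous g).pow (n - s.card)).mul
      (MvPolynomial.IsHomogeneous.prod Finset.univ (fun q : ↥s => lin (f q)) (fun _ => 1) fun q _ => lin_homogeneous (f q))
    rw [Finset.sum_const, Finset.card_univ, Fintype.card_coe, one_mul, smul_eq_mul, mul_one, Nat.sub_add_cancel (by omega)] at h1
    exact h1
  have h1 := h z hz _ hhom fun z' hz' hne => by
    rw [map_mul, map_pow, eval_lin, map_prod]
    rcases hs z' hz' hne with hL | hS
    · rw [hg _ hL, zero_pow (by omega), zero_mul]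
    · rw [prod_eq_zero (mem_univ (⟨z', hS⟩ : ↥s)), mul_zero]
      rw [eval_lin]; exact hf _ _ (Submodule.mem_span_singleton_self _)
  rw [map_mul, map_pow, eval_lin, map_prod] at h1
  rcases mul_eq_zero.1 h1 with h2 | h2
  · exact hgz (eq_zero_of_pow_eq_zero h2)
  · obtain ⟨q, -, hq⟩ := prod_eq_zero_iff.1 h2
    rw [eval_lin] at hq
    exact hfz q hq

theorem CB.collinear {n : ℕ} : ∀ {Z : Finset PP}, CB Z n → Z.card ≤ 2 * n + 1 →
    ∃ W : Submodule k V, finrank k W ≤ 2 ∧ ∀ z ∈ Z, z.rep ∈ W := by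
  classical
  induction n with
  | zero =>
    intro Z _ hc
    rcases Z.eq_empty_or_nonempty with rfl | ⟨z, hz⟩
    · exact ⟨⊥, by simp, by simp⟩
    · exact ⟨k ∙ z.rep, by rw [finrank_span_singleton z.rep_nonzero]; omega, fun z' hz' =>
        card_le_one.1 (by omega) z hz z' hz' ▸ Submodule.mem_span_singleton_self _⟩
  | succ n ih =>
    intro Z h hc
    rcases Z.eq_empty_or_nonempty with rfl | hne
    · exact ⟨⊥, by simp, by simp⟩
    have h3 := h.card_le hne
    obtain ⟨z1, hz1, z2, hz2, h12⟩ := one_lt_card.1 (show 1 < Z.card by omega)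
    let W0 := (k ∙ z1.rep) ⊔ (k ∙ z2.rep)
    have hW0 : finrank k W0 ≤ 2 := by
      refine (finrank_sup_span_le _ _).trans ?_
      rw [finrank_span_singleton z1.rep_nonzero]
    by_cases hall : ∀ z ∈ Z, z.rep ∈ W0
    · exact ⟨W0, hW0, hall⟩
    push Not at hall
    obtain ⟨z, hz, hzW⟩ := hall
    obtain ⟨f, hf, hfz⟩ := exists_avoid W0 _ hzW
    set Z' := Z.filter fun z => f z.rep ≠ 0
    have hne' : Z'.Nonempty := ⟨z, mem_filter.2 ⟨hz, hfz⟩⟩
    have hsub : Z' ⊆ (Z.erase z1).erase z2 := fun q hq => by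
      obtain ⟨hqZ, hqf⟩ := mem_filter.1 hq
      refine mem_erase.2 ⟨?_, mem_erase.2 ⟨?_, hqZ⟩⟩
      · rintro rfl; exact hqf (hf _ (Submodule.mem_sup_right (Submodule.mem_span_singleton_self _)))
      · rintro rfl; exact hqf (hf _ (Submodule.mem_sup_left (Submodule.mem_span_singleton_self _)))
    have hc' := card_le_card hsub
    rw [card_erase_of_mem (mem_erase.2 ⟨h12.symm, hz2⟩), card_erase_of_mem hz1] at hc'
    obtain ⟨L, hL, hL'⟩ := ih (h.step f) (show Z'.card ≤ 2 * n + 1 by omega)
    have hn := (h.step f).card_le hne'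
    refine ⟨L, hL, fun q hq => ?_⟩
    by_contra hqL
    have := h.sep L hq hqL ((Z.filter fun w => w.rep ∉ L).erase q) (fun w hw hne => by
      by_cases hwL : w.rep ∈ L
      · exact Or.inl hwL
      · exact Or.inr (mem_erase.2 ⟨hne, mem_filter.2 ⟨hw, hwL⟩⟩)) (notMem_erase q _)
    have hsub2 : Z' ⊆ Z.filter fun w => w.rep ∈ L := fun w hw => mem_filter.2 ⟨(mem_filter.1 hw).1, hL' w hw⟩
    have := card_le_card hsub2
    have := card_filter_add_card_filter_not (s := Z) (fun w => w.rep ∈ L)
    rw [card_erase_of_mem (mem_filter.2 ⟨hq, hqL⟩)] at *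
    change n + 2 ≤ Z'.card at hn
    omega

open scoped Classical in
theorem main (n : ℕ) : ∀ (Z : Finset PP), CB Z n → Z.card ≤ 3 * n + 1 →
    (∃ f : Module.Dual k V, f ≠ 0 ∧ ∀ z ∈ Z, f z.rep = 0) ∨
      (∃ L M : Submodule k V, finrank k L = 2 ∧ finrank k M = 2 ∧ L ⊓ M = ⊥ ∧ (∀ z ∈ Z, z.rep ∈ L ∨ z.rep ∈ M) ∧
        n + 2 ≤ (Z.filter fun z => z.rep ∈ L).card ∧ n + 2 ≤ (Z.filter fun z => z.rep ∈ M).card) := by
  classical
  induction n with
  | zero =>
    intro Z _ hc
    left
    rcases Z.eq_empty_or_nonempty with rfl | ⟨z, hz⟩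
    · obtain ⟨f, hf, -⟩ := exists_plane (⊥ : Submodule k V) (by simp)
      exact ⟨f, hf, by simp⟩
    · obtain ⟨f, hf, hf'⟩ := exists_plane (k ∙ z.rep) (by rw [finrank_span_singleton z.rep_nonzero]; omega)
      exact ⟨f, hf, fun w hw => hf' _ (card_le_one.1 (by omega) z hz w hw ▸ Submodule.mem_span_singleton_self _)⟩
  | succ m ih =>
    intro Z h hc
    by_cases hcop : ∃ f : Module.Dual k V, f ≠ 0 ∧ ∀ z ∈ Z, f z.rep = 0
    · exact Or.inl hcop
    right
    have hplane : ∀ W : Submodule k V, finrank k W ≤ 3 → ∃ z ∈ Z, z.rep ∉ W := by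
      intro W hW
      obtain ⟨f, hf, hf'⟩ := exists_plane W hW
      push Not at hcop
      obtain ⟨z, hz, hzf⟩ := hcop f hf
      exact ⟨z, hz, fun hm => hzf (hf' _ hm)⟩
    -- three points in a plane
    obtain ⟨z1, hz1, -⟩ := hplane ⊥ (by simp)
    obtain ⟨z2, hz2, hz2'⟩ := hplane (k ∙ z1.rep) (by rw [finrank_span_singleton z1.rep_nonzero]; omega)
    have hd2 : finrank k ↥((k ∙ z1.rep) ⊔ (k ∙ z2.rep)) = 2 := by
      rw [finrank_sup_span _ _ hz2', finrank_span_singleton z1.rep_nonzero]
    obtain ⟨z3, hz3, hz3'⟩ := hplane ((k ∙ z1.rep) ⊔ (k ∙ z2.rep)) (by omega)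
    obtain ⟨f0, hf0, hf0'⟩ := exists_plane ((k ∙ z1.rep) ⊔ (k ∙ z2.rep) ⊔ (k ∙ z3.rep)) (by
      rw [finrank_sup_span _ _ hz3', hd2])
    let cnt : Module.Dual k V → ℕ := fun f => (Z.filter fun z => f z.rep = 0).card
    have h3 : 3 ≤ cnt f0 := by
      have hsub : ({z1, z2, z3} : Finset PP) ⊆ Z.filter fun z => f0 z.rep = 0 := by
        intro q hq
        simp only [mem_insert, mem_singleton] at hq
        refine mem_filter.2 ?_
        rcases hq with rfl | rfl | rfl
        · exact ⟨hz1, hf0' _ (Submodule.mem_sup_left (Submodule.mem_sup_left (Submodule.mem_span_singleton_self _)))⟩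
        · exact ⟨hz2, hf0' _ (Submodule.mem_sup_left (Submodule.mem_sup_right (Submodule.mem_span_singleton_self _)))⟩
        · exact ⟨hz3, hf0' _ (Submodule.mem_sup_right (Submodule.mem_span_singleton_self _))⟩
      refine le_trans (le_of_eq ?_) (card_le_card hsub)
      have e12 : z1 ≠ z2 := fun e => hz2' (e ▸ Submodule.mem_span_singleton_self _)
      have e13 : z1 ≠ z3 := fun e => hz3' (e ▸ Submodule.mem_sup_left (Submodule.mem_span_singleton_self _))
      have e23 : z2 ≠ z3 := fun e => hz3' (e ▸ Submodule.mem_sup_right (Submodule.mem_span_singleton_self _))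
      rw [card_insert_of_notMem (by simp [e12, e13]), card_insert_of_notMem (by simp [e23]), card_singleton]
    let P : ℕ → Prop := fun h => ∃ f : Module.Dual k V, f ≠ 0 ∧ h ≤ cnt f
    have hspec : P (Nat.findGreatest P Z.card) :=
      Nat.findGreatest_spec (P := P) (card_filter_le _ _) ⟨f0, hf0, le_rfl⟩
    obtain ⟨F, hF, hFh⟩ := hspec
    have hmax : ∀ f : Module.Dual k V, f ≠ 0 → cnt f ≤ cnt F := fun f hf =>
      (Nat.le_findGreatest (P := P) (card_filter_le _ _) ⟨f, hf, le_rfl⟩).trans hFh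
    set Z' := Z.filter fun z => F z.rep ≠ 0 with hZ'
    have hsum : cnt F + Z'.card = Z.card := card_filter_add_card_filter_not (fun z : PP => F z.rep = 0)
    have hh3 : 3 ≤ cnt F := h3.trans (hmax f0 hf0)
    have hne' : Z'.Nonempty := by
      push Not at hcop
      obtain ⟨z, hz, hzf⟩ := hcop F hF
      exact ⟨z, mem_filter.2 ⟨hz, hzf⟩⟩
    by_cases hsmall : Z'.card ≤ 2 * m + 1
    · obtain ⟨L₀, hL₀, hL₀'⟩ := (h.step F).collinear hsmall
      obtain ⟨L, hLle, hL⟩ := exists_ge_finrank L₀ 2 hL₀ (by omega)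
      have hn := (h.step F).card_le hne'
      change m + 2 ≤ Z'.card at hn
      have hsub2 : Z' ⊆ Z.filter fun w => w.rep ∈ L := fun w hw => mem_filter.2 ⟨(mem_filter.1 hw).1, hLle (hL₀' w hw)⟩
      have hLcard := card_le_card hsub2
      set W := Z.filter fun w => w.rep ∉ L with hW
      have hWc : (Z.filter fun w => w.rep ∈ L).card + W.card = Z.card := card_filter_add_card_filter_not (fun w : PP => w.rep ∈ L)
      have group : ∀ z ∈ W, ∃ (g : Module.Dual k V) (M : Submodule k V), g ≠ 0 ∧ (∀ w ∈ L ⊔ (k ∙ z.rep), g w = 0) ∧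
          finrank k M ≤ 2 ∧ (∀ q ∈ Z, g q.rep ≠ 0 → q.rep ∈ M) ∧ m + 2 ≤ (Z.filter fun q => g q.rep ≠ 0).card := by
        intro z hz
        obtain ⟨g, hg, hg'⟩ := exists_plane (L ⊔ (k ∙ z.rep)) ((finrank_sup_span_le _ _).trans (by omega))
        have hsubW : (Z.filter fun q => g q.rep ≠ 0) ⊆ W.erase z := fun q hq => by
          obtain ⟨hq1, hq2⟩ := mem_filter.1 hq
          refine mem_erase.2 ⟨?_, mem_filter.2 ⟨hq1, fun hm => hq2 (hg' _ (Submodule.mem_sup_left hm))⟩⟩
          rintro rfl; exact hq2 (hg' _ (Submodule.mem_sup_right (Submodule.mem_span_singleton_self _)))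
        have hc2 := card_le_card hsubW
        rw [card_erase_of_mem hz] at hc2
        obtain ⟨M, hM, hM'⟩ := (h.step g).collinear (by omega)
        refine ⟨g, M, hg, hg', hM, fun q hq hq' => hM' q (mem_filter.2 ⟨hq, hq'⟩), (h.step g).card_le ?_⟩
        push Not at hcop
        obtain ⟨q, hq, hqg⟩ := hcop g hg
        exact ⟨q, mem_filter.2 ⟨hq, hqg⟩⟩
      have kerEq : ∀ {g : Module.Dual k V}, g ≠ 0 → ∀ {v : V}, v ∉ L → (∀ w ∈ L ⊔ (k ∙ v), g w = 0) →
          L ⊔ (k ∙ v) = LinearMap.ker g := fun {g} hg {v} hv hgv =>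
        Submodule.eq_of_le_of_finrank_eq hgv (by rw [finrank_sup_span L v hv, hL, finrank_ker hg])
      obtain ⟨z0, hz0, hz0'⟩ := hplane L (by omega)
      obtain ⟨g0, M0, hg0, hg0', hM0, hA, hAc⟩ := group z0 (mem_filter.2 ⟨hz0, hz0'⟩)
      obtain ⟨y, hy⟩ := card_pos.1 (show 0 < (Z.filter fun q => g0 q.rep ≠ 0).card by omega)
      obtain ⟨hyZ, hyg⟩ := mem_filter.1 hy
      have hyL : y.rep ∉ L := fun hm => hyg (hg0' _ (Submodule.mem_sup_left hm))
      obtain ⟨g1, M1, hg1, hg1', hM1, hB, hBc⟩ := group y (mem_filter.2 ⟨hyZ, hyL⟩)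
      have hcover : ∀ q ∈ W, g0 q.rep ≠ 0 ∨ g1 q.rep ≠ 0 := by
        intro q hq
        obtain ⟨-, hqL⟩ := mem_filter.1 hq
        by_contra hcon
        push Not at hcon
        have e0 := kerEq hg0 hqL (fun w hw => by
          obtain ⟨l, hl, c, hc', rfl⟩ := Submodule.mem_sup.1 hw
          obtain ⟨c, rfl⟩ := Submodule.mem_span_singleton.1 hc'
          rw [map_add, map_smul, hcon.1, hg0' l (Submodule.mem_sup_left hl), smul_zero, add_zero])
        have e1 := kerEq hg1 hqL (fun w hw => by
          obtain ⟨l, hl, c, hc', rfl⟩ := Submodule.mem_sup.1 hw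
          obtain ⟨c, rfl⟩ := Submodule.mem_span_singleton.1 hc'
          rw [map_add, map_smul, hcon.2, hg1' l (Submodule.mem_sup_left hl), smul_zero, add_zero])
        have : y.rep ∈ LinearMap.ker g0 := e0 ▸ e1.symm ▸ LinearMap.mem_ker.2 (hg1' _ (Submodule.mem_sup_right (Submodule.mem_span_singleton_self _)))
        exact hyg (LinearMap.mem_ker.1 this)
      set A := Z.filter fun q => g0 q.rep ≠ 0
      set B := Z.filter fun q => g1 q.rep ≠ 0
      have hAB : A ∪ B ⊆ W := by
        intro q hq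
        rcases mem_union.1 hq with hq | hq <;> obtain ⟨hq1, hq2⟩ := mem_filter.1 hq <;> refine mem_filter.2 ⟨hq1, fun hm => hq2 ?_⟩
        · exact hg0' _ (Submodule.mem_sup_left hm)
        · exact hg1' _ (Submodule.mem_sup_left hm)
      have hint : 1 < (A ∩ B).card := by
        have := card_union_add_card_inter A B
        have := card_le_card hAB
        omega
      obtain ⟨p, hp, q, hq, hpq⟩ := one_lt_card.1 hint
      simp only [A, B, mem_inter, mem_filter] at hp hq
      have hMM : M1 = M0 := (line_eq hM1 hpq (hB p hp.1.1 hp.2.2) (hB q hq.1.1 hq.2.2)).symm.trans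
        (line_eq hM0 hpq (hA p hp.1.1 hp.1.2) (hA q hq.1.1 hq.1.2))
      obtain ⟨M, hMle, hM⟩ := exists_ge_finrank M0 2 hM0 (by omega)
      have hWM : ∀ q ∈ W, q.rep ∈ M := by
        intro q hq
        rcases hcover q hq with h' | h'
        · exact hMle (hA q (mem_filter.1 hq).1 h')
        · exact hMle (hMM ▸ hB q (mem_filter.1 hq).1 h')
      have hall : ∀ z ∈ Z, z.rep ∈ L ∨ z.rep ∈ M := fun z hz => by
        by_cases hzL : z.rep ∈ L
        · exact Or.inl hzL
        · exact Or.inr (hWM z (mem_filter.2 ⟨hz, hzL⟩))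
      have hskew : L ⊓ M = ⊥ := by
        by_contra hne
        have h1 := Submodule.finrank_sup_add_finrank_inf_eq L M
        have h2 : finrank k ↥(L ⊓ M) ≠ 0 := fun e => hne (Submodule.finrank_eq_zero.1 e)
        obtain ⟨z, hz, hz'⟩ := hplane (L ⊔ M) (by omega)
        rcases hall z hz with h' | h'
        · exact hz' (Submodule.mem_sup_left h')
        · exact hz' (Submodule.mem_sup_right h')
      have count : ∀ L M : Submodule k V, finrank k L = 2 → finrank k M = 2 → L ⊓ M = ⊥ →
          (∀ z ∈ Z, z.rep ∈ L ∨ z.rep ∈ M) → 1 < (Z.filter fun z => z.rep ∈ M).card →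
          m + 1 + 2 ≤ (Z.filter fun z => z.rep ∈ M).card := by
        intro L M _ hM hskew hall hcard
        obtain ⟨p, hp, q, hq, hpq⟩ := one_lt_card.1 hcard
        obtain ⟨hpZ, hpM⟩ := mem_filter.1 hp
        obtain ⟨hqZ, hqM⟩ := mem_filter.1 hq
        have hpL : p.rep ∉ L ⊔ (k ∙ q.rep) := by
          intro hm
          obtain ⟨l, hl, c, hc', e⟩ := Submodule.mem_sup.1 hm
          have hlM : l ∈ L ⊓ M := ⟨hl, by
            rw [eq_sub_of_add_eq e]
            exact sub_mem hpM ((Submodule.span_singleton_le_iff_mem _ _).2 hqM hc')⟩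
          rw [hskew, Submodule.mem_bot] at hlM
          rw [hlM, zero_add] at e
          exact rep_notMem_span hpq (e ▸ hc')
        have := h.sep _ hpZ hpL (((Z.filter fun z => z.rep ∈ M).erase p).erase q) (fun w hw hwp => by
          rcases hall w hw with h' | h'
          · exact Or.inl (Submodule.mem_sup_left h')
          · by_cases hwq : w = q
            · exact Or.inl (hwq ▸ Submodule.mem_sup_right (Submodule.mem_span_singleton_self _))
            · exact Or.inr (mem_erase.2 ⟨hwq, mem_erase.2 ⟨hwp, mem_filter.2 ⟨hw, h'⟩⟩⟩))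
          (fun hm => (mem_erase.1 (mem_of_mem_erase hm)).1 rfl)
        rw [card_erase_of_mem (mem_erase.2 ⟨hpq.symm, hq⟩), card_erase_of_mem hp] at this
        omega
      refine ⟨L, M, hL, hM, hskew, hall, ?_, ?_⟩
      · exact count M L hM hL (by rw [inf_comm, hskew]) (fun z hz => (hall z hz).symm) (by omega)
      · refine count L M hL hM hskew hall ?_
        have : W ⊆ Z.filter fun z => z.rep ∈ M := fun q hq => mem_filter.2 ⟨(mem_filter.1 hq).1, hWM q hq⟩
        have := card_le_card this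
        have := card_le_card hAB
        have := card_le_card (subset_union_left : A ⊆ A ∪ B)
        omega
    · exfalso
      rcases ih Z' (h.step F) (by omega) with ⟨g, hg, hg'⟩ | ⟨L, M, hL, -, hLM, -, hLc, hMc⟩
      · have h1 := card_le_card (fun q hq => mem_filter.2 ⟨(mem_filter.1 hq).1, hg' q hq⟩ : Z' ⊆ Z.filter fun z => g z.rep = 0)
        have := hmax g hg
        change Z'.card ≤ cnt g at h1
        omega
      · obtain ⟨q, hq⟩ := card_pos.1 (show 0 < (Z'.filter fun z => z.rep ∈ M).card by omega)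
        obtain ⟨hqZ', hqM⟩ := mem_filter.1 hq
        have hqL : q.rep ∉ L := fun hm => q.rep_nonzero (by
          have : q.rep ∈ L ⊓ M := ⟨hm, hqM⟩
          rwa [hLM, Submodule.mem_bot] at this)
        obtain ⟨g, hg, hg'⟩ := exists_plane (L ⊔ (k ∙ q.rep)) ((finrank_sup_span_le _ _).trans (by omega))
        have hsub : insert q (Z'.filter fun z => z.rep ∈ L) ⊆ Z.filter fun z => g z.rep = 0 := by
          intro w hw
          rcases mem_insert.1 hw with rfl | hw
          · exact mem_filter.2 ⟨(mem_filter.1 hqZ').1, hg' _ (Submodule.mem_sup_right (Submodule.mem_span_singleton_self _))⟩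
          · exact mem_filter.2 ⟨(mem_filter.1 (mem_filter.1 hw).1).1, hg' _ (Submodule.mem_sup_left (mem_filter.1 hw).2)⟩
        have h1 := card_le_card hsub
        rw [card_insert_of_notMem (a := q) (s := Z'.filter fun z => z.rep ∈ L) (fun hm => hqL (mem_filter.1 hm).2)] at h1
        have := hmax g hg
        change _ ≤ cnt g at h1
        omega

end

/-- Let k be an algebraically closed field of characteristic zero, n ≥ 1, and Z a finite set of points
of projective 3-space over k (points of the projectivization of k⁴, forms in four variables being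
evaluated at the chosen representative) with the Cayley–Bacharach property in degree n: every form
of degree n vanishing at all points of Z but one vanishes at that point as well. If Z has at most 3n
+ 1 points, then either all points of Z lie in one plane (a common 3-dimensional subspace of k⁴), or
they lie on the union of two skew lines (two 2-dimensional subspaces of k⁴ meeting in zero), each
line carrying at least n + 1 points of Z, and Z has at least 2n + 3 points. (The source states this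
for an arbitrary zero-dimensional subscheme, with a third alternative, containment in the
first-order thickening of a line; for the reduced subschemes treated here that alternative is a case
of coplanarity.) -/
theorem result (k : Type u) [Field k] [IsAlgClosed k] [CharZero k]
    (Z : Finset (Projectivization k (Fin 4 → k))) (n : ℕ) (hn : 1 ≤ n)
    (hCB : (∀ z ∈ Z, ∀ p : MvPolynomial (Fin 4) k, p.IsHomogeneous n →
      (∀ z' ∈ Z, z' ≠ z → MvPolynomial.eval z'.rep p = 0) → MvPolynomial.eval z.rep p = 0))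
    (hcard : Z.card ≤ 3 * n + 1) :
    (∃ W : Submodule k (Fin 4 → k), Module.finrank k ↥W = 3 ∧ ∀ z ∈ Z, z.submodule ≤ W) ∨
      (∃ W₁ W₂ : Submodule k (Fin 4 → k), Module.finrank k ↥W₁ = 2 ∧ Module.finrank k ↥W₂ = 2 ∧ W₁ ⊓ W₂ = ⊥ ∧
        (∀ z ∈ Z, z.submodule ≤ W₁ ∨ z.submodule ≤ W₂) ∧
        n + 1 ≤ Set.ncard {z : Projectivization k (Fin 4 → k) | z ∈ Z ∧ z.submodule ≤ W₁} ∧
        n + 1 ≤ Set.ncard {z : Projectivization k (Fin 4 → k) | z ∈ Z ∧ z.submodule ≤ W₂} ∧
        2 * n + 3 ≤ Z.card) := by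
  classical
  have conv : ∀ (W : Submodule k (Fin 4 → k)) (z : Projectivization k (Fin 4 → k)), z.submodule ≤ W ↔ z.rep ∈ W :=
    fun W z => by rw [z.submodule_eq]; exact Submodule.span_singleton_le_iff_mem _ _
  rcases main n Z hCB hcard with ⟨f, hf, hf'⟩ | ⟨L, M, hL, hM, hskew, hall, hLc, hMc⟩
  · exact Or.inl ⟨LinearMap.ker f, finrank_ker hf, fun z hz => (conv _ z).2 (hf' z hz)⟩
  · right
    have hset : ∀ W : Submodule k (Fin 4 → k), Set.ncard {z : Projectivization k (Fin 4 → k) | z ∈ Z ∧ z.submodule ≤ W} =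
        (Z.filter fun z => z.rep ∈ W).card := fun W => by
      rw [← Set.ncard_coe_finset]
      congr 1
      ext z
      simp [conv]
    refine ⟨L, M, hL, hM, hskew, fun z hz => (hall z hz).imp (conv _ z).2 (conv _ z).2, ?_, ?_, ?_⟩
    · rw [hset]; omega
    · rw [hset]; omega
    · have hdis : Disjoint (Z.filter fun z => z.rep ∈ L) (Z.filter fun z => z.rep ∈ M) := by
        rw [Finset.disjoint_left]
        intro z hz hz'
        have : z.rep ∈ L ⊓ M := ⟨(Finset.mem_filter.1 hz).2, (Finset.mem_filter.1 hz').2⟩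
        rw [hskew, Submodule.mem_bot] at this
        exact z.rep_nonzero this
      have := Finset.card_le_card (Finset.union_subset (Finset.filter_subset (fun z => z.rep ∈ L) Z) (Finset.filter_subset (fun z => z.rep ∈ M) Z))
      rw [Finset.card_union_of_disjoint hdis] at this
      omega

end Groth.Agent.S18042
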