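import Groth.Statements.S18049
import Groth.Agent.SmallAlgLib.Euclid

set_option autoImplicit false
open STCI

namespace Groth.Agent.S18049

/-- For natural numbers 0 < k < N such that k does not divide N, ⌊N/k⌋ ≤ (N - k)/gcd(k, N); stated here
in the equivalent cleared form ⌊N/k⌋ · gcd(k, N) ≤ N - k. -/
theorem result (k N : ℕ) (hk : 0 < k) (hkN : k < N) (hndvd : ¬ k ∣ N) :
    N / k * Nat.gcd k N ≤ N - k := by
  exact Groth.Agent.SmallAlgLib.div_mul_gcd_le k N hk hkN hndvd

end Groth.Agent.S18049
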