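import Groth.Statements.S18051
import Groth.Agent.SmallAlgLib.Euclid

set_option autoImplicit false
open STCI

namespace Groth.Agent.S18051

open W4c5stcicurvesp3 in
/-- Let k ≤ N/2 be positive integers and let r_i = rem_i(N, k), d_i = div_i(N, k) be the iterated
Euclidean remainders and quotients of (N, k) (r_0 = k, r_1 = N mod k, r_2 = r_0 mod r_1, d_1 =
⌊N/k⌋, d_2 = ⌊r_0/r_1⌋). If the least positive t with r_t = 0 satisfies t ≥ 3, i.e. r_1 ≠ 0 and r_2
≠ 0, then (r_0 - r_1)/d_1 + (r_1 - r_2)/(d_1 + d_2) + r_2/(d_1 + d_2 + 1) ≤ k²/N (in ℚ). -/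
theorem result (k N : ℕ) (hk : 0 < k) (hkN : 2 * k ≤ N)
    (h1 : irem N k 1 ≠ 0) (h2 : irem N k 2 ≠ 0) :
    ((irem N k 0 : ℚ) - irem N k 1) / (idiv N k 1)
      + ((irem N k 1 : ℚ) - irem N k 2) / ((idiv N k 1 : ℚ) + idiv N k 2)
      + (irem N k 2 : ℚ) / ((idiv N k 1 : ℚ) + idiv N k 2 + 1)
      ≤ (k : ℚ) ^ 2 / N := by
  have hr : N % k ≠ 0 := by simpa [irem] using h1
  have h2' : k % (N % k) ≠ 0 := by
    rw [Groth.Agent.SmallAlgLib.irem_add_two N k 0, if_neg h1] at h2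
    simpa [irem] using h2
  rw [Groth.Agent.SmallAlgLib.idiv_add_two N k 0, if_neg h1, Groth.Agent.SmallAlgLib.irem_add_two N k 0, if_neg h1]
  simp only [irem, idiv, zero_add]
  have hN : (N : ℚ) = k * (N / k : ℕ) + (N % k : ℕ) := by exact_mod_cast (Nat.div_add_mod N k).symm
  have hK : (k : ℚ) = (N % k : ℕ) * (k / (N % k) : ℕ) + (k % (N % k) : ℕ) := by
    exact_mod_cast (Nat.div_add_mod k (N % k)).symm
  have hq : (2 : ℚ) ≤ (N / k : ℕ) := by exact_mod_cast (Nat.le_div_iff_mul_le hk).2 (by omega)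
  have hd : 1 ≤ k / (N % k) := Nat.div_pos (Nat.mod_lt N hk).le (Nat.pos_of_ne_zero hr)
  have hs : (k % (N % k) : ℕ) + (1 : ℚ) ≤ (N % k : ℕ) := by exact_mod_cast Nat.mod_lt k (Nat.pos_of_ne_zero hr)
  have hs0 : (1 : ℚ) ≤ (k % (N % k) : ℕ) := by exact_mod_cast Nat.pos_of_ne_zero h2'
  have hd' : (1 : ℚ) ≤ (k / (N % k) : ℕ) := by exact_mod_cast hd
  have hd2 : k / (N % k) = 1 ∨ (2 : ℚ) ≤ (k / (N % k) : ℕ) := by
    rcases eq_or_lt_of_le hd with h | h
    · exact Or.inl h.symm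
    · exact Or.inr (by exact_mod_cast h)
  rw [hN]
  generalize hA : ((N / k : ℕ) : ℚ) = q at *
  generalize hB : ((N % k : ℕ) : ℚ) = r at *
  generalize hC : ((k % (N % k) : ℕ) : ℚ) = s at *
  have key : ∀ d : ℚ, (k : ℚ) = r * d + s → (d = 1 ∨ 2 ≤ d) →
      ((k : ℚ) - r) / q + (r - s) / (q + d) + s / (q + d + 1) ≤ (k : ℚ) ^ 2 / ((k : ℚ) * q + r) := by
    intro d hkd hd
    have hd1 : 1 ≤ d := by rcases hd with h | h <;> linarith
    have hP : 0 < q + d := by linarith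
    have hr0 : 0 < r := by linarith
    have hk0 : 0 < (k : ℚ) := by exact_mod_cast hk
    have hN0 : 0 < (k : ℚ) * q + r := by positivity
    rw [← sub_nonneg]
    have e : (k : ℚ) ^ 2 / ((k : ℚ) * q + r) - (((k : ℚ) - r) / q + (r - s) / (q + d) + s / (q + d + 1)) =
        (r * ((k * q + r) * d - k * q - k * d) * (q + d + 1) + s * (q * (k * q + r))) /
          (q * (k * q + r) * (q + d) * (q + d + 1)) := by
      field_simp
      ring
    rw [e]
    refine div_nonneg ?_ (by positivity)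
    rcases hd with rfl | hd
    · have h3 : r * (q + 2) ≤ q * (k * q + r) := by
        have : r ≤ (k : ℚ) := by rw [hkd]; linarith
        nlinarith [mul_nonneg (mul_nonneg (sub_nonneg.2 hq) (le_of_lt hr0)) (by linarith : (0 : ℚ) ≤ q)]
      rw [show ((k : ℚ) * q + r) * 1 - k * q - k * 1 = -s by rw [hkd]; ring]
      nlinarith [mul_le_mul_of_nonneg_left h3 (by linarith : (0 : ℚ) ≤ s)]
    · have h4 : 0 ≤ ((k : ℚ) * q + r) * d - k * q - k * d := by
        nlinarith [mul_nonneg (mul_nonneg (sub_nonneg.2 hq) (le_of_lt hk0)) (by linarith : (0 : ℚ) ≤ d - 1),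
          mul_nonneg hr0.le (by linarith : (0 : ℚ) ≤ d)]
      positivity
  rcases hd2 with hd2 | hd2
  · rw [hd2, Nat.cast_one] at hK ⊢
    exact key 1 hK (Or.inl rfl)
  · exact key _ hK (Or.inr hd2)

end Groth.Agent.S18051
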