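import Groth.Statements.S18053
import Mathlib

set_option autoImplicit false
open STCI

namespace Groth.Agent.S18053

/-- Let (p_k)_{k ≥ 1} be a sequence of nonnegative integers and n a nonnegative integer such that (i)
p_1 ≤ 9 - (2/5)n, (ii) p_1 ≥ p_2 ≥ p_3 ≥ ⋯, (iii) Σ_k p_k ≤ 19 - n, and (iv) n/4 + Σ_{k ≥ 1}
p_k/(k(k+1)) ≥ 6. Then n = 0 and (p_k) is one of (9, 8, 2), (9, 9), (9, 9, 1) (followed by zeros).
Here the sequence is indexed from 0 (so p 0 is p_1 and the weight of p k is 1/((k+1)(k+2))), (iii)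
is stated for every partial sum, and the series in (iv) is the real sum Σ' over all k. -/
theorem result (p : ℕ → ℕ) (n : ℕ)
    (h1 : (p 0 : ℝ) ≤ 9 - (2 / 5 : ℝ) * n) (h2 : Antitone p)
    (h3 : ∀ m : ℕ, ((∑ k ∈ Finset.range m, p k : ℕ) : ℝ) ≤ 19 - (n : ℝ))
    (h4 : (6 : ℝ) ≤ (n : ℝ) / 4 + ∑' k : ℕ, (p k : ℝ) / (((k : ℝ) + 1) * ((k : ℝ) + 2))) :
    n = 0 ∧ (p = (fun k => if k = 0 then 9 else if k = 1 then 8 else if k = 2 then 2 else 0)
      ∨ p = (fun k => if k = 0 then 9 else if k = 1 then 9 else 0)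
      ∨ p = (fun k => if k = 0 then 9 else if k = 1 then 9 else if k = 2 then 1 else 0)) := by
  have hz : ∀ k, 19 ≤ k → p k = 0 := by
    intro k hk
    by_contra hne
    have h := h3 20
    have h20 : 20 ≤ ∑ j ∈ Finset.range 20, p j := by
      have := Finset.card_nsmul_le_sum (Finset.range 20) p 1 fun j hj =>
        le_trans (Nat.one_le_iff_ne_zero.2 hne) (h2 (by have := Finset.mem_range.1 hj; omega))
      simpa using this
    have : (20 : ℝ) ≤ ((∑ j ∈ Finset.range 20, p j : ℕ) : ℝ) := by exact_mod_cast h20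
    have := (Nat.cast_nonneg n : (0 : ℝ) ≤ n)
    linarith
  rw [tsum_eq_sum (s := Finset.range 19) fun k hk => by simp [hz k (by simpa using hk)]] at h4
  have hsplit : ∀ f : ℕ → ℝ, ∑ k ∈ Finset.range 19, f k = f 0 + f 1 + ∑ k ∈ Finset.range 17, f (k + 2) := fun f => by
    rw [Finset.sum_range_succ' _ 18, Finset.sum_range_succ' _ 17]
    ring
  have h19 := h3 19
  rw [Nat.cast_sum, hsplit] at h19
  have h4' := h4
  rw [hsplit] at h4
  have hb : ∑ k ∈ Finset.range 17, (p (k + 2) : ℝ) / ((((k + 2 : ℕ) : ℝ) + 1) * (((k + 2 : ℕ) : ℝ) + 2)) ≤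
      (∑ k ∈ Finset.range 17, (p (k + 2) : ℝ)) / 12 := by
    rw [Finset.sum_div]
    refine Finset.sum_le_sum fun k _ => div_le_div_of_nonneg_left (Nat.cast_nonneg _) (by norm_num) ?_
    push_cast
    nlinarith [(Nat.cast_nonneg k : (0 : ℝ) ≤ k)]
  norm_num at h4
  push_cast at hb
  have h01 : (p 1 : ℝ) ≤ p 0 := by exact_mod_cast h2 (Nat.zero_le 1)
  obtain rfl : n = 0 := by
    by_contra hn
    have hn1 : (1 : ℝ) ≤ n := by exact_mod_cast Nat.one_le_iff_ne_zero.2 hn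
    rcases le_or_gt 3 n with hn3 | hn3
    · have : (3 : ℝ) ≤ n := by exact_mod_cast hn3
      nlinarith
    · have h8 : p 0 ≤ 8 := by
        by_contra h
        have : (9 : ℝ) ≤ p 0 := by exact_mod_cast (by omega : 9 ≤ p 0)
        linarith
      have : (p 0 : ℝ) ≤ 8 := by exact_mod_cast h8
      have : (n : ℝ) ≤ 2 := by exact_mod_cast (by omega : n ≤ 2)
      linarith
  refine ⟨rfl, ?_⟩
  norm_num at h1 h3 h19 h4 h4'
  have hp0 : p 0 = 9 := by
    have h9 : p 0 ≤ 9 := by exact_mod_cast h1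
    by_contra h
    have : (p 0 : ℝ) ≤ 8 := by exact_mod_cast (by omega : p 0 ≤ 8)
    linarith
  have hp1 : 8 ≤ p 1 := by
    by_contra h
    have : (p 1 : ℝ) ≤ 7 := by exact_mod_cast (by omega : p 1 ≤ 7)
    rw [hp0] at h4 h19
    push_cast at h4 h19
    linarith
  have hs5 : p 0 + p 1 + p 2 + p 3 + p 4 ≤ 19 := by
    have h := h3 5
    simp only [Finset.sum_range_succ, Finset.sum_range_zero, zero_add] at h
    exact_mod_cast h
  have h23 : p 3 ≤ p 2 := h2 (by norm_num)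
  have h34 : p 4 ≤ p 3 := h2 (by norm_num)
  have h12 : p 1 ≤ 9 := le_trans (h2 (Nat.zero_le 1)) hp0.le
  have hz4 : ∀ k, p (k + 4) = 0 := fun k => by
    have : p (k + 4) ≤ p 4 := h2 (by omega)
    omega
  simp only [Finset.sum_range_succ, Finset.sum_range_zero, hz4 0, hz4 1, hz4 2, hz4 3, hz4 4, hz4 5, hz4 6, hz4 7,
    hz4 8, hz4 9, hz4 10, hz4 11, hz4 12, hz4 13, hz4 14, hp0] at h4'
  norm_num at h4'
  have hcomb : (p 1 = 8 ∧ p 2 = 2 ∧ p 3 = 0) ∨ (p 1 = 9 ∧ p 2 = 0 ∧ p 3 = 0) ∨ (p 1 = 9 ∧ p 2 = 1 ∧ p 3 = 0) := by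
    have h5 : 60 * 6 ≤ 30 * 9 + 10 * p 1 + 5 * p 2 + 3 * p 3 := by
      have : ((60 * 6 : ℕ) : ℝ) ≤ ((30 * 9 + 10 * p 1 + 5 * p 2 + 3 * p 3 : ℕ) : ℝ) := by push_cast; linarith
      exact_mod_cast this
    omega
  rcases hcomb with ⟨a, b, c⟩ | ⟨a, b, c⟩ | ⟨a, b, c⟩
  · exact Or.inl (funext fun k => by rcases k with _ | _ | _ | _ | k <;> simp [hp0, a, b, c, hz4])
  · exact Or.inr (Or.inl (funext fun k => by rcases k with _ | _ | _ | _ | k <;> simp [hp0, a, b, c, hz4]))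
  · exact Or.inr (Or.inr (funext fun k => by rcases k with _ | _ | _ | _ | k <;> simp [hp0, a, b, c, hz4]))

end Groth.Agent.S18053
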