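import Groth.Statements.S18054
import Mathlib

set_option autoImplicit false
open STCI

namespace Groth.Agent.S18054

/-- Let s, t, d, g be integers with t ≥ s ≥ 4, d ≥ 1, g ≥ 0 and d dividing st; put n = st/d and assume n
≥ 2; put r = d[n(s - 4) + t] + (2 - 2g)n and assume r ≤ (s/3)(2s² - 6s + 7) - 1. Then d ≤ g + 3.
(The bound is written cleared of the denominator 3; s(2s² - 6s + 7) is always divisible by 3, so
this is the same condition.) -/
theorem result (s t d g n : ℤ) (hs : 4 ≤ s) (hst : s ≤ t) (hd : 1 ≤ d) (hg : 0 ≤ g)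
    (hn : s * t = d * n) (hn2 : 2 ≤ n)
    (hr : 3 * (d * (n * (s - 4) + t) + (2 - 2 * g) * n) ≤ s * (2 * s ^ 2 - 6 * s + 7) - 3) :
    d ≤ g + 3 := by
  by_contra hd'
  have hdg : 0 ≤ d - g - 4 := by omega
  have h1 : 3 * (t * (s * (s - 6) + d) + 10 * n) ≤ s * (2 * s ^ 2 - 6 * s + 7) - 3 := by
    nlinarith [mul_nonneg hdg (by omega : (0 : ℤ) ≤ n), congrArg (· * (s - 4)) hn]
  have h2 : 3 * t * (d * (s * (s - 6) + d) + 10 * s) ≤ d * (s * (2 * s ^ 2 - 6 * s + 7) - 3) := by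
    have := mul_le_mul_of_nonneg_left h1 (by omega : (0 : ℤ) ≤ d)
    nlinarith [congrArg (· * 30) hn]
  rcases hs.eq_or_lt with rfl | hs5
  · have hG : 24 ≤ d * (4 * (4 - 6) + d) + 10 * 4 := by nlinarith [sq_nonneg (d - 4)]
    have hd6 : 6 ≤ d ∧ d ≤ 7 := by
      have h3 := mul_le_mul_of_nonneg_right hst (by linarith : 0 ≤ d * (4 * (4 - 6) + d) + 10 * 4)
      constructor <;> by_contra h
      · interval_cases d <;> nlinarith
      · nlinarith [mul_nonneg (by omega : 0 ≤ d - 8) (by omega : 0 ≤ d)]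
    obtain ⟨h6, h7⟩ := hd6
    interval_cases d <;> omega
  · have hG : 0 ≤ d * (s * (s - 6) + d) + 10 * s := by
      nlinarith [sq_nonneg (s - 5), mul_nonneg (by omega : 0 ≤ s - 5) (by omega : (0 : ℤ) ≤ d), sq_nonneg (2 * d - 5)]
    have h3 := mul_le_mul_of_nonneg_left (mul_le_mul_of_nonneg_right hst hG) (by norm_num : (0 : ℤ) ≤ 3)
    rcases le_or_gt 13 s with h13 | h13
    · nlinarith [mul_nonneg (mul_nonneg (by omega : 0 ≤ s - 13) (by omega : (0 : ℤ) ≤ s)) (by omega : (0 : ℤ) ≤ d),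
        mul_nonneg (sq_nonneg d) (by omega : (0 : ℤ) ≤ s),
        mul_nonneg (mul_nonneg (mul_nonneg (by omega : 0 ≤ s - 13) (by omega : (0 : ℤ) ≤ s)) (by omega : (0 : ℤ) ≤ s)) (by omega : (0 : ℤ) ≤ d)]
    · interval_cases s <;> nlinarith [sq_nonneg (d - 4), sq_nonneg (d - 7), sq_nonneg (d - 9), sq_nonneg (d - 10), sq_nonneg (2 * d - 13), sq_nonneg (2 * d - 19)]

end Groth.Agent.S18054
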