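import Groth.Statements.S18055
import Mathlib

set_option autoImplicit false
open STCI

namespace Groth.Agent.S18055

/-- Let d ≥ 1, g ≥ 0 and 1 ≤ s ≤ t be integers with d dividing st, put n = st/d and r = d[n(s - 4) + t]
+ (2 - 2g)n, and assume n ≥ 2, r > 0 and (n - 1) divides r. Then s < 2d² and t < 2d⁴. This is the
statement about the degree data (d, g the degree and genus of the curve, s ≤ t the degrees of the
two surfaces) to which the published proof reduces the degree bound: there the divisibility and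
positivity express that r/(n - 1), the common value of the type numbers of the pair, is a positive
integer; the geometric hypotheses themselves are not part of this row. -/
theorem result (d g s t n : ℤ) (hd : 1 ≤ d) (hg : 0 ≤ g) (hs : 1 ≤ s) (hst : s ≤ t)
    (hn : s * t = d * n) (hn2 : 2 ≤ n)
    (hpos : 0 < d * (n * (s - 4) + t) + (2 - 2 * g) * n)
    (hdvd : (n - 1) ∣ d * (n * (s - 4) + t) + (2 - 2 * g) * n) :
    s < 2 * d ^ 2 ∧ t < 2 * d ^ 4 := by
  obtain ⟨q, hq⟩ := hdvd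
  obtain ⟨k, hk⟩ : ∃ k, k = q - (d * (s - 4) + 2 - 2 * g) := ⟨_, rfl⟩
  have hE : (n - 1) * k = d * (s + t - 4) + 2 - 2 * g := by rw [hk]; linear_combination -hq
  have hid : t * (k * s - d ^ 2) = d * q := by
    linear_combination k * hn + d * hE + d * hk
  have hq0 : 0 < q := by
    have h1 : 0 < (n - 1) * q := hq ▸ hpos
    exact (pos_iff_pos_of_mul_pos h1).mp (by omega)
  have ht : 0 < t := by omega
  have hks : 0 < k * s - d ^ 2 := (pos_iff_pos_of_mul_pos (hid ▸ mul_pos (by omega) hq0)).mp ht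
  have hk1 : 1 ≤ k := by
    by_contra h
    have : k * s ≤ 0 := mul_nonpos_of_nonpos_of_nonneg (by omega) (by omega)
    nlinarith [sq_nonneg d]
  have hqle : d * q ≤ d ^ 2 * (s - 4) + 2 * d + d * k := by
    rw [show q = k + (d * (s - 4) + 2 - 2 * g) by rw [hk]; ring]
    nlinarith
  have hd2 : 1 ≤ d ^ 2 := one_le_pow₀ hd
  have hs2 : s < 2 * d ^ 2 := by
    by_contra h
    push Not at h
    have h1 : 2 * d ^ 2 ≤ k * s := le_trans h (le_mul_of_one_le_left (by omega) hk1)
    nlinarith [mul_le_mul_of_nonneg_left h1 ht.le, mul_le_mul_of_nonneg_right (h.trans hst) (mul_nonneg (by omega : (0:ℤ) ≤ k) (by omega : (0:ℤ) ≤ s)),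
      mul_le_mul_of_nonneg_left h (mul_nonneg (by omega : (0:ℤ) ≤ k - 1) (sq_nonneg d)),
      mul_le_mul_of_nonneg_left hd2 (mul_nonneg (by omega : (0:ℤ) ≤ k - 1) (sq_nonneg d))]
  refine ⟨hs2, ?_⟩
  have h3 : d ≤ d ^ 2 := by nlinarith
  have h4 : d ^ 2 * (s - 4) + 2 * d < 2 * d ^ 4 - 2 * d ^ 2 + 1 := by nlinarith
  by_cases hkd : k ≤ d ^ 2
  · rcases le_or_gt s (d ^ 2) with hs1 | hs1
    · nlinarith [mul_le_mul_of_nonneg_left hkd (by omega : (0:ℤ) ≤ d), mul_le_mul_of_nonneg_left hs1 (sq_nonneg d),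
        mul_le_mul_of_nonneg_left h3 (sq_nonneg d), le_mul_of_one_le_right ht.le (by omega : (1:ℤ) ≤ k * s - d ^ 2)]
    · nlinarith [mul_le_mul_of_nonneg_right (show k * (s - d ^ 2) ≤ k * s - d ^ 2 by nlinarith) ht.le,
        mul_le_mul_of_nonneg_left (show 1 ≤ s - d ^ 2 by omega) (mul_nonneg (by omega : (0:ℤ) ≤ k) ht.le),
        mul_le_mul_of_nonneg_left h3 (by omega : (0:ℤ) ≤ k)]
  · push Not at hkd
    by_contra hcon
    push Not at hcon
    obtain ⟨j, hj, hjk⟩ : ∃ j, 1 ≤ j ∧ k = d ^ 2 + j := ⟨k - d ^ 2, by omega, by ring⟩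
    have e1 : s * j ≤ k * s - d ^ 2 := by subst hjk; nlinarith
    have e2 : 2 * d ^ 4 * (s * j) ≤ d ^ 2 * (s - 4) + 2 * d + d * k :=
      le_trans (mul_le_mul hcon e1 (mul_nonneg (by omega) (by omega)) ht.le) (hid ▸ hqle)
    have e3 : d ^ 2 * s ≤ d ^ 4 * (s * j) :=
      le_trans (mul_le_mul_of_nonneg_right (by nlinarith : d ^ 2 ≤ d ^ 4) (by omega))
        (mul_le_mul_of_nonneg_left (le_mul_of_one_le_right (by omega) hj) (by positivity))
    have e4 : d ^ 4 * j ≤ d ^ 4 * (s * j) :=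
      mul_le_mul_of_nonneg_left (le_mul_of_one_le_left (by omega) hs) (by positivity)
    have e5 : (d ^ 4 - d) * 1 ≤ (d ^ 4 - d) * j := mul_le_mul_of_nonneg_left hj (by nlinarith)
    have e6 : d ^ 3 ≤ d ^ 4 := by nlinarith [mul_le_mul_of_nonneg_left hd (by positivity : (0:ℤ) ≤ d ^ 3)]
    subst hjk
    nlinarith

end Groth.Agent.S18055
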