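import Groth.Statements.S18056
import Mathlib
import Groth.Agent.ArtSmooth.Basic

set_option autoImplicit false
universe u v
open STCI
open scoped TensorProduct

namespace Groth.Agent.S18056

/-- Let A → B be a homomorphism of Artinian local rings that is flat and formally smooth, where A has a
subring that is a field. Then A and B have the same length, each as a module over itself. -/
theorem result (A : Type u) (B : Type v) [CommRing A] [CommRing B]
    [IsLocalRing A] [IsLocalRing B] [IsArtinianRing A] [IsArtinianRing B] [Algebra A B]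
    [Module.Flat A B] [Algebra.FormallySmooth A B] (hK : ∃ K : Subring A, IsField K) :
    Module.length A A = Module.length B B := by
  classical
  open IsLocalRing in
  have hmA : maximalIdeal A ≤ (maximalIdeal B).comap (algebraMap A B) := fun x hx => by
    rw [Ideal.mem_comap]
    refine IsLocalRing.le_maximalIdeal (Ideal.IsPrime.ne_top inferInstance : maximalIdeal B ≠ ⊤) ?_
    obtain ⟨n, hn⟩ : IsNilpotent x := by
      have := Ring.KrullDimLE.nilradical_eq_maximalIdeal A
      rw [← mem_nilradical, this]; exact hx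
    exact (Ideal.IsPrime.mem_of_pow_mem inferInstance n (by rw [← map_pow, hn, map_zero]; exact zero_mem _))
  haveI : IsLocalHom (algebraMap A B) := ⟨fun a ha => by
    by_contra h
    exact (IsLocalRing.mem_maximalIdeal _).mp (hmA ((IsLocalRing.mem_maximalIdeal _).mpr h)) ha⟩
  let mA := IsLocalRing.maximalIdeal A
  let C := B ⧸ mA.map (algebraMap A B)
  haveI : Algebra.FormallySmooth (A ⧸ mA) ((A ⧸ mA) ⊗[A] B) := inferInstance
  have hCne : mA.map (algebraMap A B) ≠ ⊤ := fun h =>
    (IsLocalRing.maximalIdeal.isMaximal B).ne_top (eq_top_iff.mpr (h ▸ Ideal.map_le_iff_le_comap.mpr hmA))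
  haveI : Nontrivial C := Ideal.Quotient.nontrivial_iff.mpr hCne
  haveI : IsLocalRing C := IsLocalRing.of_surjective' (Ideal.Quotient.mk _) Ideal.Quotient.mk_surjective
  haveI : IsArtinianRing C := Function.Surjective.isArtinianRing
    (f := Ideal.Quotient.mk (mA.map (algebraMap A B))) Ideal.Quotient.mk_surjective
  letI := Ideal.Quotient.field mA
  let e : C ≃ₐ[A] (A ⧸ mA) ⊗[A] B :=
    ((Algebra.TensorProduct.quotIdealMapEquivTensorQuot B mA).restrictScalars A).trans
      (Algebra.TensorProduct.comm A B (A ⧸ mA))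
  haveI : IsLocalRing ((A ⧸ mA) ⊗[A] B) := e.toRingEquiv.isLocalRing
  haveI : IsArtinianRing ((A ⧸ mA) ⊗[A] B) := e.toRingEquiv.isArtinianRing
  have hkey : ∀ (k₀ : Type) [Field k₀] [PerfectField k₀] (f : k₀ →+* A ⧸ mA),
      IsLocalRing.maximalIdeal ((A ⧸ mA) ⊗[A] B) = ⊥ := fun k₀ _ _ f => by
    letI : Algebra k₀ (A ⧸ mA) := f.toAlgebra
    haveI : Algebra.FormallySmooth k₀ (A ⧸ mA) := Groth.Agent.FieldExtLib.formallySmooth_field_of_perfectField k₀ _
    haveI : Algebra.FormallySmooth k₀ ((A ⧸ mA) ⊗[A] B) := Algebra.FormallySmooth.comp k₀ (A ⧸ mA) _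
    exact Groth.Agent.ArtSmooth.maximalIdeal_eq_bot (k₀ := k₀)
  have hbot : IsLocalRing.maximalIdeal ((A ⧸ mA) ⊗[A] B) = ⊥ := by
    obtain ⟨p, hp⟩ := CharP.exists (A ⧸ mA)
    rcases CharP.char_is_prime_or_zero (A ⧸ mA) p with h | rfl
    · haveI := Fact.mk h
      exact hkey (ZMod p) (ZMod.castHom dvd_rfl _)
    · haveI : CharZero (A ⧸ mA) := CharP.charP_to_charZero _
      exact hkey ℚ (algebraMap ℚ _)
  have hfield : IsField C := e.toRingEquiv.toMulEquiv.isField (IsLocalRing.isField_iff_maximalIdeal_eq.mpr hbot)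
  have hlen : Module.length B C = 1 := by
    rw [Module.length_eq_one_iff, isSimpleModule_iff_isCoatom, ← Ideal.isMaximal_def]
    exact Ideal.Quotient.maximal_of_isField _ hfield
  have h := IsLocalRing.length_baseChange A B A
  rw [(TensorProduct.AlgebraTensorModule.rid A B B).length_eq, show Module.length B
    (B ⧸ (IsLocalRing.maximalIdeal A).map (algebraMap A B)) = 1 from hlen, mul_one] at h
  exact h.symm

end Groth.Agent.S18056
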