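import Groth.Statements.S18057
import Mathlib
import Groth.Agent.S18056

set_option autoImplicit false
universe u
open STCI

namespace Groth.Agent.S18057

open AlgebraicGeometry CategoryTheory in
/-- For a morphism f : X' → X between irreducible Noetherian schemes that is flat and formally smooth,
with X defined over a field (rendered: the ring of global sections of X contains a subring that is a
field, which for nonempty X is the same as giving a morphism from X to the spectrum of a field), the
local rings of X' and X at their generic points η', η (Artinian local rings) satisfy length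
O_{X',η'} = length O_{X,η}. Formal smoothness is the infinitesimal lifting property against
square-zero thickenings of affine schemes. -/
theorem result {X' X : Scheme.{u}} (f : X' ⟶ X)
    [IrreducibleSpace ↥X'] [IrreducibleSpace ↥X] [IsNoetherian X'] [IsNoetherian X] [Flat f]
    (hf : MoreMor.IsFormallySmoothHom f) (hK : ∃ K : Subring Γ(X, ⊤), IsField K) :
    Module.length (X'.presheaf.stalk (genericPoint X')) (X'.presheaf.stalk (genericPoint X'))
      = Module.length (X.presheaf.stalk (genericPoint X)) (X.presheaf.stalk (genericPoint X)) := by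
  classical
  set x := genericPoint X' with hxdef
  set y := genericPoint X with hydef
  have hgen : ∀ {Z : Scheme.{u}} [IrreducibleSpace ↥Z] (z : Z), z ⤳ genericPoint Z → z = genericPoint Z :=
    fun {Z} _ z hz => (hz.antisymm ((genericPoint_spec Z).specializes trivial)).eq
  have hfx : f x = y := by
    obtain ⟨z, hz, hzy⟩ := Flat.generalizingMap f (show y ⤳ f x from (genericPoint_spec X).specializes trivial)
    rw [← hzy, hgen z hz]
  obtain ⟨V, hV, hyV, -⟩ := exists_isAffineOpen_mem_and_subset (show f x ∈ (⊤ : X.Opens) from trivial)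
  obtain ⟨U, hU, hxU, hUV⟩ := exists_isAffineOpen_mem_and_subset (show x ∈ f ⁻¹ᵁ V from hyV)
  let R := Γ(X, V)
  let S := Γ(X', U)
  letI : Algebra R S := (f.appLE V U hUV).hom.toAlgebra
  haveI : Algebra.FormallySmooth R S := by
    refine Algebra.FormallySmooth.of_comp_surjective fun T _ _ I hI g => ?_
    let a : Spec (CommRingCat.of (T ⧸ I)) ⟶ X' := Spec.map (CommRingCat.ofHom g.toRingHom) ≫ hU.fromSpec
    let b : Spec (CommRingCat.of T) ⟶ X := Spec.map (CommRingCat.ofHom (algebraMap R T)) ≫ hV.fromSpec
    have hab : Spec.map (CommRingCat.ofHom (Ideal.Quotient.mk I)) ≫ b = a ≫ f := by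
      simp only [a, b, Category.assoc]
      rw [← IsAffineOpen.SpecMap_appLE_fromSpec f hV hU hUV, ← Spec.map_comp_assoc, ← Spec.map_comp_assoc]
      congr 2
      refine CommRingCat.hom_ext (RingHom.ext fun r => ?_)
      exact (g.commutes r).symm
    obtain ⟨l, hl1, hl2⟩ := hf T I hI a b hab
    have hrange : Set.range l ⊆ Set.range hU.fromSpec := by
      rintro _ ⟨q, rfl⟩
      have hq : I ≤ q.asIdeal := fun z hz => q.2.mem_of_pow_mem 2 (by
        have : z ^ 2 ∈ I ^ 2 := Ideal.pow_mem_pow hz 2
        rw [hI] at this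
        rw [Ideal.mem_bot.mp this]; exact zero_mem _)
      obtain ⟨q', hq'⟩ : q ∈ Set.range (PrimeSpectrum.comap (Ideal.Quotient.mk I)) := by
        rw [range_comap_of_surjective _ _ Ideal.Quotient.mk_surjective, Ideal.mk_ker]
        exact hq
      have hq'' : Spec.map (CommRingCat.ofHom (Ideal.Quotient.mk I)) q' = q := hq'
      rw [← hq'', ← Scheme.Hom.comp_apply, hl1]
      exact ⟨Spec.map (CommRingCat.ofHom g.toRingHom) q', rfl⟩
    let l' := IsOpenImmersion.lift hU.fromSpec l hrange
    obtain ⟨ψ, hψ⟩ : ∃ ψ, Spec.map ψ = l' := ⟨Spec.preimage l', Spec.map_preimage l'⟩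
    have hcomp : Spec.map (CommRingCat.ofHom (Ideal.Quotient.mk I)) ≫ Spec.map ψ =
        Spec.map (CommRingCat.ofHom g.toRingHom) := by
      rw [← cancel_mono hU.fromSpec, Category.assoc, hψ, IsOpenImmersion.lift_fac, hl1]
    rw [← Spec.map_comp] at hcomp
    have hb : Spec.map ψ ≫ Spec.map (f.appLE V U hUV) = Spec.map (CommRingCat.ofHom (algebraMap R T)) := by
      rw [← cancel_mono hV.fromSpec, Category.assoc, IsAffineOpen.SpecMap_appLE_fromSpec f hV hU hUV, hψ,
        IsOpenImmersion.lift_fac_assoc, hl2]
    rw [← Spec.map_comp] at hb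
    exact ⟨{ ψ.hom with commutes' := fun r => RingHom.congr_fun (congrArg CommRingCat.Hom.hom (Spec.map_injective hb)) r },
      AlgHom.ext fun s => RingHom.congr_fun (congrArg CommRingCat.Hom.hom (Spec.map_injective hcomp)) s⟩
  let A := X.presheaf.stalk (f x)
  let B := X'.presheaf.stalk x
  letI : Algebra R A := (X.presheaf.germ V (f x) hyV).hom.toAlgebra
  letI : Algebra S B := (X'.presheaf.germ U x hxU).hom.toAlgebra
  haveI hlA : IsLocalization.AtPrime A (hV.primeIdealOf ⟨f x, hyV⟩).asIdeal := hV.isLocalization_stalk ⟨f x, hyV⟩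
  haveI hlB : IsLocalization.AtPrime B (hU.primeIdealOf ⟨x, hxU⟩).asIdeal := hU.isLocalization_stalk ⟨x, hxU⟩
  letI : Algebra A B := (f.stalkMap x).hom.toAlgebra
  letI : Algebra R B := ((algebraMap S B).comp (algebraMap R S)).toAlgebra
  haveI : IsScalarTower R S B := IsScalarTower.of_algebraMap_eq fun _ => rfl
  haveI : IsScalarTower R A B := IsScalarTower.of_algebraMap_eq fun r => by
    show X'.presheaf.germ U x hxU (f.appLE V U hUV r) = f.stalkMap x (X.presheaf.germ V (f x) hyV r)
    rw [Scheme.Hom.germ_stalkMap_apply, Scheme.Hom.appLE, CommRingCat.comp_apply,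
      TopCat.Presheaf.germ_res_apply]
  haveI : Algebra.FormallySmooth S B := Algebra.FormallySmooth.of_isLocalization (hU.primeIdealOf ⟨x, hxU⟩).asIdeal.primeCompl
  haveI : Algebra.FormallySmooth R B := Algebra.FormallySmooth.comp R S B
  haveI : Algebra.FormallySmooth A B :=
    Algebra.FormallySmooth.localization_base (R := R) (hV.primeIdealOf ⟨f x, hyV⟩).asIdeal.primeCompl
  haveI : Module.Flat A B := Flat.stalkMap f x
  have hart : ∀ {Z : Scheme.{u}} [IrreducibleSpace ↥Z] [IsNoetherian Z] (z : Z), z = genericPoint Z →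
      IsArtinianRing (Z.presheaf.stalk z) := fun {Z} _ _ z hz => by
    subst hz
    haveI : Subsingleton (PrimeSpectrum (Z.presheaf.stalk (genericPoint Z))) := by
      refine ⟨fun p q => (Z.fromSpecStalk (genericPoint Z)).isEmbedding.injective ?_⟩
      have hp : ∀ p, Z.fromSpecStalk (genericPoint Z) p = genericPoint Z := fun p => hgen _ (by
        have := Scheme.range_fromSpecStalk (X := Z) (x := genericPoint Z)
        exact (this ▸ Set.mem_range_self p : Z.fromSpecStalk (genericPoint Z) p ∈ {y | y ⤳ genericPoint Z}))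
      rw [hp p, hp q]
    haveI : IsNoetherianRing (Z.presheaf.stalk (genericPoint Z)) := inferInstance
    haveI : Ring.KrullDimLE 0 (Z.presheaf.stalk (genericPoint Z)) :=
      Ring.KrullDimLE.mk₀ fun P hP => by
        obtain ⟨M, hM, hle⟩ := P.exists_le_maximal hP.ne_top
        have h : (⟨P, hP⟩ : PrimeSpectrum _) = ⟨M, hM.isPrime⟩ := Subsingleton.elim _ _
        have hPM : P = M := congrArg PrimeSpectrum.asIdeal h
        rw [hPM]; exact hM
    exact IsNoetherianRing.isArtinianRing_of_krullDimLE_zero
  haveI : IsArtinianRing A := hart (f x) hfx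
  haveI : IsArtinianRing B := hart x rfl
  have hKA : ∃ K : Subring A, IsField K := by
    obtain ⟨K, hK⟩ := hK
    letI := hK.toField
    let φ : K →+* A := (X.presheaf.germ ⊤ (f x) trivial).hom.comp K.subtype
    exact ⟨φ.range, (RingEquiv.ofBijective φ.rangeRestrict
      ⟨φ.rangeRestrict.injective, φ.rangeRestrict_surjective⟩).symm.toMulEquiv.isField hK⟩
  have h := Groth.Agent.S18056.result A B hKA
  rw [← hfx]
  exact h.symm

end Groth.Agent.S18057
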