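import Groth.Statements.S18063
import Groth.Agent.GrpInfLib.Comm
-- import your own Groth.Agent.* helpers here

set_option autoImplicit false
universe u
open CategoryTheory MonoidalCategory CartesianMonoidalCategory MonObj GrpObj AlgebraicGeometry CategoryTheory.Limits
open AlgGrp

namespace Groth.Agent.S18063


set_option backward.isDefEq.respectTransparency false

open Groth.Agent.FixedSmooth in
/-- A flat separated group is commutative when a schematically dense fibre is. -/
theorem isCommMonObj_of_schDense {S T : Scheme.{u}} (g : T ⟶ S) [IsSchemeTheoreticallyDominant g] [QuasiCompact g]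
    (B : Over S) [GrpObj B] [Flat B.hom] [IsSeparated B.hom]
    (h : ∀ (X : Over T) (a b : X ⟶ Red.bc g B), a * b = b * a) : IsCommMonObj B := by
  haveI : Flat (B ⊗ B).hom := inferInstanceAs (Flat (pullback.fst B.hom B.hom ≫ B.hom))
  let T' : Over T := Over.mk (pullback.snd (B ⊗ B).hom g)
  let m : (Over.map g).obj T' ⟶ B ⊗ B := Over.homMk (pullback.fst (B ⊗ B).hom g) pullback.condition
  have hc : m ≫ (fst B B * snd B B) = m ≫ (snd B B * fst B B) := by
    rw [MonObj.comp_mul, MonObj.comp_mul]
    apply (adjEquiv g B T').injective
    rw [map_mul, map_mul]
    exact h _ _ _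
  let i := equalizer.ι (fst B B * snd B B : B ⊗ B ⟶ B) (snd B B * fst B B)
  have hi : (equalizer.lift m hc).left ≫ i.left = pullback.fst (B ⊗ B).hom g :=
    congrArg CommaMorphism.left (equalizer.lift_ι m hc)
  haveI : IsIso i.left := by
    refine IsClosedImmersion.isIso_iff_ker_eq_bot.2 (le_bot_iff.1 ?_)
    rw [← Scheme.Hom.ker_eq_bot (pullback.fst (B ⊗ B).hom g), ← hi]
    exact Scheme.Hom.le_ker_comp _ _
  haveI : IsIso ((Over.forget S).map i) := ‹IsIso i.left›
  haveI : IsIso i := isIso_of_reflects_iso i (Over.forget S)
  have heq : (fst B B * snd B B : B ⊗ B ⟶ B) = snd B B * fst B B :=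
    (cancel_epi i).1 (equalizer.condition _ _)
  refine ⟨?_⟩
  have hμ : (μ[B] : B ⊗ B ⟶ B) = fst B B * snd B B := by
    rw [Hom.mul_def, lift_fst_snd, Category.id_comp]
  rw [hμ, MonObj.comp_mul]
  simp only [braiding_hom_fst, braiding_hom_snd]
  exact heq.symm

/-- A is a discrete valuation ring, K denotes its field of fractions and k its residue field, and G is
an A-group scheme that is flat, separated and of finite presentation. If the generic fibre G_K is
commutative, then the special fibre G_k is commutative. (The published statement does not require G
separated over A, and its proof argues by density of the generic fibre; without separatedness the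
conclusion fails: gluing copies of Spec A indexed by a finite non-abelian group along their common
generic point gives a flat group scheme of finite presentation over A whose generic fibre is the
trivial group and whose special fibre is that non-abelian constant group. So G is taken separated
here.) -/
theorem result (A : Type u) [CommRing A] [IsDomain A] [IsDiscreteValuationRing A]
    (K : Type u) [Field K] [Algebra A K] [IsFractionRing A K]
    (G : Over (Spec (CommRingCat.of A))) [GrpObj G] [Flat G.hom] [LocallyOfFinitePresentation G.hom] [QuasiCompact G.hom]
    [IsSeparated G.hom] [IsCommMonObj (Red.bc (Spec.map (CommRingCat.ofHom (algebraMap A K))) G)] :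
    IsCommMonObj (Red.bc (Spec.map (CommRingCat.ofHom (algebraMap A (IsLocalRing.ResidueField A)))) G) := by
  haveI := Groth.Agent.GrpInfLib.isDominant_fraction A K
  haveI : IsSchemeTheoreticallyDominant (Spec.map (CommRingCat.ofHom (algebraMap A K))) := .of_isDominant _
  haveI : IsCommMonObj G := isCommMonObj_of_schDense (Spec.map (CommRingCat.ofHom (algebraMap A K))) G fun X a b => by
    letI : CommGroup (X ⟶ Red.bc (Spec.map (CommRingCat.ofHom (algebraMap A K))) G) := Hom.commGroup
    exact mul_comm a b
  infer_instance

end Groth.Agent.S18063
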