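import Groth.Statements.S18082
import Groth.Agent.GrpInfLib.Comm

set_option autoImplicit false
universe u
open CategoryTheory MonoidalCategory CartesianMonoidalCategory MonObj GrpObj AlgebraicGeometry CategoryTheory.Limits
open AlgGrp

namespace Groth.Agent.S18082


open MonObj CartesianMonoidalCategory MonoidalCategory
open scoped commutatorElement

set_option backward.isDefEq.respectTransparency false

section Words

variable {G G' : Type*} [Group G] [Group G']

/-- Values of the iterated commutator `[[x, y₁], ..., yₙ]`. -/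
def nilVal (G : Type*) [Group G] : ℕ → Set G
  | 0 => Set.univ
  | n + 1 => {z | ∃ a ∈ nilVal G n, ∃ y : G, z = ⁅a, y⁆}

/-- Values of the derived words. -/
def solVal (G : Type*) [Group G] : ℕ → Set G
  | 0 => Set.univ
  | n + 1 => {z | ∃ a ∈ solVal G n, ∃ b ∈ solVal G n, z = ⁅a, b⁆}

theorem map_nilVal (e : G ≃* G') : ∀ (n : ℕ) {z : G}, z ∈ nilVal G n → e z ∈ nilVal G' n
  | 0, _, _ => trivial
  | n + 1, _, ⟨a, ha, y, rfl⟩ => ⟨e a, map_nilVal e n ha, e y, map_commutatorElement e a y⟩

theorem map_solVal (e : G ≃* G') : ∀ (n : ℕ) {z : G}, z ∈ solVal G n → e z ∈ solVal G' n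
  | 0, _, _ => trivial
  | n + 1, _, ⟨a, ha, b, hb, rfl⟩ =>
    ⟨e a, map_solVal e n ha, e b, map_solVal e n hb, map_commutatorElement e a b⟩

theorem upper_eq_top_iff (n : ℕ) :
    Subgroup.upperCentralSeries G n = ⊤ ↔ ∀ z ∈ nilVal G n, z = 1 := by
  constructor
  · intro h
    have key : ∀ m k, m + k = n → ∀ z ∈ nilVal G m, z ∈ Subgroup.upperCentralSeries G k := by
      intro m
      induction m with
      | zero => intro k hk z _; obtain rfl : k = n := by omega
                exact h ▸ Subgroup.mem_top z
      | succ m ih =>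
        rintro k hk _ ⟨a, ha, y, rfl⟩
        exact Subgroup.mem_upperCentralSeries_succ_iff.mp (ih (k + 1) (by omega) a ha) y
    intro z hz
    simpa using key n 0 (by omega) z hz
  · intro h
    have key : ∀ k m, m + k = n → ∀ z ∈ nilVal G m, z ∈ Subgroup.upperCentralSeries G k := by
      intro k
      induction k with
      | zero => intro m hm z hz; obtain rfl : m = n := by omega
                simpa using h z hz
      | succ k ih =>
        intro m hm z hz
        exact Subgroup.mem_upperCentralSeries_succ_iff.mpr fun y => ih (m + 1) (by omega) _ ⟨z, hz, y, rfl⟩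
    exact eq_top_iff.mpr fun z _ => key n 0 (by omega) z trivial

theorem derived_eq_bot_iff (n : ℕ) : derivedSeries G n = ⊥ ↔ ∀ z ∈ solVal G n, z = 1 := by
  have hsub : ∀ (n : ℕ), ∀ z ∈ solVal G n, z ∈ derivedSeries G n := by
    intro n
    induction n with
    | zero => exact fun z _ => Subgroup.mem_top z
    | succ n ih =>
      rintro _ ⟨a, ha, b, hb, rfl⟩
      exact Subgroup.commutator_mem_commutator (ih a ha) (ih b hb)
  have hle : ∀ (n : ℕ), derivedSeries G n ≤ Subgroup.normalClosure (solVal G n) := by
    intro n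
    induction n with
    | zero => exact fun z _ => Subgroup.subset_normalClosure trivial
    | succ n ih =>
      let N := Subgroup.normalClosure (solVal G (n + 1))
      have hinv : ∀ (c : G) (m : ℕ), ∀ z ∈ solVal G m, c * z * c⁻¹ ∈ solVal G m := fun c m z hz =>
        map_solVal (MulAut.conj c) m hz
      have hnc : Subgroup.normalClosure (solVal G n) = Subgroup.closure (solVal G n) := by
        refine le_antisymm ((Subgroup.closure_le _).mpr ?_) Subgroup.closure_le_normalClosure
        intro x hx
        obtain ⟨a, ha, hax⟩ := Group.mem_conjugatesOfSet_iff.mp hx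
        obtain ⟨c, rfl⟩ := isConj_iff.mp hax
        exact Subgroup.subset_closure (hinv c n a ha)
      refine (Subgroup.commutator_mono ih ih).trans ?_
      rw [hnc]
      refine Subgroup.commutator_le.mpr fun a ha b hb => ?_
      have hcomm : ∀ x ∈ Subgroup.closure (QuotientGroup.mk' N '' solVal G n),
          ∀ y ∈ Subgroup.closure (QuotientGroup.mk' N '' solVal G n), Commute x y := by
        intro x hx y hy
        have hle1 : Subgroup.closure (QuotientGroup.mk' N '' solVal G n) ≤
            Subgroup.centralizer (QuotientGroup.mk' N '' solVal G n) := by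
          refine (Subgroup.closure_le _).mpr ?_
          rintro _ ⟨p, hp, rfl⟩
          rw [SetLike.mem_coe, Subgroup.mem_centralizer_iff]
          rintro _ ⟨q, hq, rfl⟩
          rw [← commutatorElement_eq_one_iff_mul_comm, ← map_commutatorElement, QuotientGroup.mk'_apply,
            QuotientGroup.eq_one_iff]
          exact Subgroup.subset_normalClosure ⟨q, hq, p, hp, rfl⟩
        have h2 := hle1 hy
        refine Commute.symm ?_
        induction hx using Subgroup.closure_induction with
        | mem p hp => exact ((Subgroup.mem_centralizer_iff.mp h2) p hp).symm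
        | one => exact Commute.one_right _
        | mul p q _ _ hp hq => exact hp.mul_right hq
        | inv p _ hp => exact hp.inv_right
      rw [← QuotientGroup.eq_one_iff, ← QuotientGroup.mk'_apply, map_commutatorElement,
        commutatorElement_eq_one_iff_mul_comm]
      exact hcomm _ (MonoidHom.map_closure (QuotientGroup.mk' N) _ ▸ Subgroup.mem_map_of_mem _ ha)
        _ (MonoidHom.map_closure (QuotientGroup.mk' N) _ ▸ Subgroup.mem_map_of_mem _ hb)
  refine ⟨fun h z hz => (Subgroup.mem_bot.mp (h ▸ hsub n z hz)), fun h => ?_⟩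
  refine le_bot_iff.mp ((hle n).trans (Subgroup.normalClosure_le_normal fun z hz => Subgroup.mem_bot.mpr (h z hz)))

end Words

section Universal

variable {S : Scheme.{u}} (B : Over S) [GrpObj B]

/-- The scheme of arguments for the nilpotency words. -/
noncomputable def nilObj : ℕ → Over S
  | 0 => B
  | n + 1 => nilObj n ⊗ B

/-- The nilpotency words. -/
noncomputable def nilWord : ∀ n : ℕ, nilObj B n ⟶ B
  | 0 => 𝟙 B
  | n + 1 => (⁅fst (nilObj B n) B ≫ nilWord n, snd (nilObj B n) B⁆ : nilObj B n ⊗ B ⟶ B)

/-- The scheme of arguments for the derived words. -/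
noncomputable def solObj : ℕ → Over S
  | 0 => B
  | n + 1 => solObj n ⊗ solObj n

/-- The derived words. -/
noncomputable def solWord : ∀ n : ℕ, solObj B n ⟶ B
  | 0 => 𝟙 B
  | n + 1 => (⁅fst (solObj B n) (solObj B n) ≫ solWord n, snd (solObj B n) (solObj B n) ≫ solWord n⁆ :
      solObj B n ⊗ solObj B n ⟶ B)

theorem comp_commutator {P X : Over S} (q : X ⟶ P) (a b : P ⟶ B) : q ≫ ⁅a, b⁆ = ⁅q ≫ a, q ≫ b⁆ := by
  simp only [commutatorElement_def, MonObj.comp_mul, GrpObj.comp_inv]

theorem nilVal_iff : ∀ (n : ℕ) (X : Over S) (z : X ⟶ B), z ∈ nilVal (X ⟶ B) n ↔ ∃ q, q ≫ nilWord B n = z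
  | 0, _, z => ⟨fun _ => ⟨z, Category.comp_id z⟩, fun _ => trivial⟩
  | n + 1, X, z => by
    constructor
    · rintro ⟨a, ha, y, rfl⟩
      obtain ⟨q, rfl⟩ := (nilVal_iff n X a).mp ha
      refine ⟨lift q y, ?_⟩
      rw [nilWord, comp_commutator, lift_fst_assoc, lift_snd]
    · rintro ⟨q, rfl⟩
      refine ⟨(q ≫ fst _ _) ≫ nilWord B n, (nilVal_iff n X _).mpr ⟨_, rfl⟩, q ≫ snd _ _, ?_⟩
      rw [nilWord, comp_commutator, Category.assoc]

theorem solVal_iff : ∀ (n : ℕ) (X : Over S) (z : X ⟶ B), z ∈ solVal (X ⟶ B) n ↔ ∃ q, q ≫ solWord B n = z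
  | 0, _, z => ⟨fun _ => ⟨z, Category.comp_id z⟩, fun _ => trivial⟩
  | n + 1, X, z => by
    constructor
    · rintro ⟨a, ha, b, hb, rfl⟩
      obtain ⟨q, rfl⟩ := (solVal_iff n X a).mp ha
      obtain ⟨r, rfl⟩ := (solVal_iff n X b).mp hb
      refine ⟨lift q r, ?_⟩
      rw [solWord, comp_commutator, lift_fst_assoc, lift_snd_assoc]
    · rintro ⟨q, rfl⟩
      refine ⟨(q ≫ fst _ _) ≫ solWord B n, (solVal_iff n X _).mpr ⟨_, rfl⟩,
        (q ≫ snd _ _) ≫ solWord B n, (solVal_iff n X _).mpr ⟨_, rfl⟩, ?_⟩
      rw [solWord, comp_commutator, Category.assoc, Category.assoc]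

theorem flat_nilObj [Flat B.hom] : ∀ n, Flat (nilObj B n).hom
  | 0 => ‹_›
  | n + 1 => by
    haveI := flat_nilObj n
    exact inferInstanceAs (Flat (Limits.pullback.fst (nilObj B n).hom B.hom ≫ (nilObj B n).hom))

theorem flat_solObj [Flat B.hom] : ∀ n, Flat (solObj B n).hom
  | 0 => ‹_›
  | n + 1 => by
    haveI := flat_solObj n
    exact inferInstanceAs (Flat (Limits.pullback.fst (solObj B n).hom (solObj B n).hom ≫ (solObj B n).hom))

open Groth.Agent.FixedSmooth in
theorem eq_one_of_schDense {T : Scheme.{u}} (g : T ⟶ S) [IsSchemeTheoreticallyDominant g] [QuasiCompact g]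
    [IsSeparated B.hom] (P : Over S) [Flat P.hom] (w : P ⟶ B)
    (h : ∀ (X : Over T) (m : (Over.map g).obj X ⟶ P), adjEquiv g B X (m ≫ w) = 1) : w = 1 := by
  let T' : Over T := Over.mk (Limits.pullback.snd P.hom g)
  let m : (Over.map g).obj T' ⟶ P := Over.homMk (Limits.pullback.fst P.hom g) Limits.pullback.condition
  have hc : m ≫ w = m ≫ 1 := by
    apply (adjEquiv g B T').injective
    rw [h, MonObj.comp_one, map_one]
  let i := Limits.equalizer.ι w 1
  have hi : (Limits.equalizer.lift m hc).left ≫ i.left = Limits.pullback.fst P.hom g :=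
    congrArg CommaMorphism.left (Limits.equalizer.lift_ι m hc)
  haveI : IsIso i.left := by
    refine IsClosedImmersion.isIso_iff_ker_eq_bot.2 (le_bot_iff.1 ?_)
    rw [← Scheme.Hom.ker_eq_bot (Limits.pullback.fst P.hom g), ← hi]
    exact Scheme.Hom.le_ker_comp _ _
  haveI : IsIso ((Over.forget S).map i) := ‹IsIso i.left›
  haveI : IsIso i := isIso_of_reflects_iso i (Over.forget S)
  exact (cancel_epi i).1 (Limits.equalizer.condition _ _)

open Groth.Agent.FixedSmooth in
theorem nilpotent_of_schDense {T T₀ : Scheme.{u}} (g : T ⟶ S) (g₀ : T₀ ⟶ S) [IsSchemeTheoreticallyDominant g]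
    [QuasiCompact g] [IsSeparated B.hom] [Flat B.hom] (h : AGF.IsNilpotentGrp (Red.bc g B)) :
    AGF.IsNilpotentGrp (Red.bc g₀ B) := by
  obtain ⟨n, hn⟩ := h
  haveI := flat_nilObj B n
  have hw : nilWord B n = 1 := eq_one_of_schDense B g _ _ fun X m =>
    (upper_eq_top_iff n).mp (hn X) _ (map_nilVal _ n ((nilVal_iff B n _ _).mpr ⟨m, rfl⟩))
  refine ⟨n, fun X => (upper_eq_top_iff n).mpr fun z hz => ?_⟩
  obtain ⟨q, hq⟩ := (nilVal_iff B n _ _).mp (map_nilVal (adjEquiv g₀ B X).symm n hz)
  rw [hw, MonObj.comp_one] at hq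
  exact (adjEquiv g₀ B X).symm.map_eq_one_iff.mp hq.symm

open Groth.Agent.FixedSmooth in
theorem solvable_of_schDense {T T₀ : Scheme.{u}} (g : T ⟶ S) (g₀ : T₀ ⟶ S) [IsSchemeTheoreticallyDominant g]
    [QuasiCompact g] [IsSeparated B.hom] [Flat B.hom] (h : Red.IsSolvableGrp (Red.bc g B)) :
    Red.IsSolvableGrp (Red.bc g₀ B) := by
  obtain ⟨n, hn⟩ := h
  haveI := flat_solObj B n
  have hw : solWord B n = 1 := eq_one_of_schDense B g _ _ fun X m =>
    (derived_eq_bot_iff n).mp (hn X) _ (map_solVal _ n ((solVal_iff B n _ _).mpr ⟨m, rfl⟩))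
  refine ⟨n, fun X => (derived_eq_bot_iff n).mpr fun z hz => ?_⟩
  obtain ⟨q, hq⟩ := (solVal_iff B n _ _).mp (map_solVal (adjEquiv g₀ B X).symm n hz)
  rw [hw, MonObj.comp_one] at hq
  exact (adjEquiv g₀ B X).symm.map_eq_one_iff.mp hq.symm

end Universal

/-- A is a discrete valuation ring, with K denoting its field of fractions and k its residue field, and
G is an A-group scheme that is flat, separated and of finite presentation. If the generic fibre G_K
is nilpotent then the special fibre G_k is nilpotent; if G_K is solvable then G_k is solvable. (The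
published statement does not require G separated over A; gluing copies of Spec A indexed by a finite
non-nilpotent, resp. non-solvable, group along their common generic point gives a flat group scheme
of finite presentation with trivial generic fibre and that constant group as special fibre, so G is
taken separated here, the case covered by the density argument of the published proof.) -/
theorem result (A : Type u) [CommRing A] [IsDomain A] [IsDiscreteValuationRing A]
    (K : Type u) [Field K] [Algebra A K] [IsFractionRing A K]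
    (G : Over (Spec (CommRingCat.of A))) [GrpObj G] [Flat G.hom] [LocallyOfFinitePresentation G.hom] [QuasiCompact G.hom]
    [IsSeparated G.hom] :
    (AGF.IsNilpotentGrp (Red.bc (Spec.map (CommRingCat.ofHom (algebraMap A K))) G) → AGF.IsNilpotentGrp (Red.bc (Spec.map (CommRingCat.ofHom (algebraMap A (IsLocalRing.ResidueField A)))) G)) ∧
    (Red.IsSolvableGrp (Red.bc (Spec.map (CommRingCat.ofHom (algebraMap A K))) G) → Red.IsSolvableGrp (Red.bc (Spec.map (CommRingCat.ofHom (algebraMap A (IsLocalRing.ResidueField A)))) G)) := by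
  haveI := Groth.Agent.GrpInfLib.isDominant_fraction A K
  haveI : IsSchemeTheoreticallyDominant (Spec.map (CommRingCat.ofHom (algebraMap A K))) := .of_isDominant _
  exact ⟨nilpotent_of_schDense G (Spec.map (CommRingCat.ofHom (algebraMap A K))) _,
    solvable_of_schDense G (Spec.map (CommRingCat.ofHom (algebraMap A K))) _⟩

end Groth.Agent.S18082
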