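import Groth.Statements.S18064
import Groth.Agent.SubgSpecLib.Tower
import Groth.Agent.SubgSpecLib.Props

set_option backward.isDefEq.respectTransparency false
set_option linter.style.haveILetI false

set_option autoImplicit false
universe u
open CategoryTheory MonoidalCategory CartesianMonoidalCategory MonObj GrpObj AlgebraicGeometry CategoryTheory.Limits
open AlgGrp

namespace Groth.Agent.S18064

/-- Suppose A is a regular local ring, and write K for its field of fractions and k for its residue
field; take G to be a flat A-group scheme of finite presentation and d a natural number. If the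
generic fibre G_K contains a closed subgroup scheme of dimension d, then so does the special fibre
G_k; if G_K contains a normal closed subgroup scheme of dimension d, then so does G_k. -/
theorem result (A : Type u) [CommRing A] [IsDomain A] [IsRegularLocalRing A]
    (K : Type u) [Field K] [Algebra A K] [IsFractionRing A K]
    (G : Over (Spec (CommRingCat.of A))) [GrpObj G] [Flat G.hom] [LocallyOfFinitePresentation G.hom] [QuasiCompact G.hom]
    [QuasiSeparated G.hom] (d : ℕ) :
    ((∃ (H : Over (Spec (CommRingCat.of K))) (_ : GrpObj H) (i : H ⟶ Red.bc (Spec.map (CommRingCat.ofHom (algebraMap A K))) G),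
        IsMonHom i ∧ IsClosedImmersion i.left ∧ topologicalKrullDim ↥H.left = (d : WithBot ℕ∞)) →
      ∃ (H' : Over (Spec (CommRingCat.of (IsLocalRing.ResidueField A)))) (_ : GrpObj H')
        (i' : H' ⟶ Red.bc (Spec.map (CommRingCat.ofHom (algebraMap A (IsLocalRing.ResidueField A)))) G),
        IsMonHom i' ∧ IsClosedImmersion i'.left ∧ topologicalKrullDim ↥H'.left = (d : WithBot ℕ∞)) ∧
    ((∃ (H : Over (Spec (CommRingCat.of K))) (_ : GrpObj H) (i : H ⟶ Red.bc (Spec.map (CommRingCat.ofHom (algebraMap A K))) G),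
        IsMonHom i ∧ IsClosedImmersion i.left ∧ AlgGrp.IsNormalHom i ∧ topologicalKrullDim ↥H.left = (d : WithBot ℕ∞)) →
      ∃ (H' : Over (Spec (CommRingCat.of (IsLocalRing.ResidueField A)))) (_ : GrpObj H')
        (i' : H' ⟶ Red.bc (Spec.map (CommRingCat.ofHom (algebraMap A (IsLocalRing.ResidueField A)))) G),
        IsMonHom i' ∧ IsClosedImmersion i'.left ∧ AlgGrp.IsNormalHom i' ∧ topologicalKrullDim ↥H'.left = (d : WithBot ℕ∞)) := by
  obtain ⟨n, hn⟩ : ∃ n : ℕ, ringKrullDim A = n :=
    ⟨_, (IsRegularLocalRing.spanFinrank_maximalIdeal (R := A)).symm⟩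
  have key : ∀ P : SubgSpecLib.GProp.{u},
      (∀ (V : Type u) [CommRing V] [IsDomain V] [IsDiscreteValuationRing V]
        (v : Spec (CommRingCat.of V) ⟶ Spec (CommRingCat.of A)), SubgSpecLib.ClosureStable P (Red.bc v G)) →
      SubgSpecLib.Sub P (Spec.map (CommRingCat.ofHom (algebraMap A K))) G d →
        SubgSpecLib.Sub P (Spec.map (CommRingCat.ofHom (algebraMap A (IsLocalRing.ResidueField A)))) G d :=
    fun P hcl h => SubgSpecLib.Sub.regular G hcl d n A (RingHom.id A) hn K h
  refine ⟨fun ⟨H, hH, i, hi, hc, hd⟩ => ?_, fun ⟨H, hH, i, hi, hc, hN, hd⟩ => ?_⟩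
  · obtain ⟨H', hH', i', hi', hc', -, hd'⟩ := key SubgSpecLib.GProp.triv
      (fun V _ _ _ v => SubgSpecLib.closureStable_triv _) ⟨H, hH, i, hi, hc, trivial, hd⟩
    exact ⟨H', hH', i', hi', hc', hd'⟩
  · obtain ⟨H', hH', i', hi', hc', hN', hd'⟩ := key SubgSpecLib.GProp.normal (fun V _ _ _ v => by
      haveI : Flat (Red.bc v G).hom := MorphismProperty.pullback_snd _ _ ‹Flat G.hom›
      exact SubgSpecLib.closureStable_normal _) ⟨H, hH, i, hi, hc, hN, hd⟩
    exact ⟨H', hH', i', hi', hc', hN', hd'⟩

end Groth.Agent.S18064
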