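import Groth.Statements.S18065
import Groth.Agent.AffSpecLib.Conc
import Groth.Agent.AffSpecLib.Big
import Groth.Agent.SubgSpecLib.Chain
import Groth.Agent.FpqcDesc.Basic

set_option autoImplicit false
set_option backward.isDefEq.respectTransparency false
set_option backward.isDefEq.respectTransparency.types false
set_option linter.style.haveILetI false
universe u
open CategoryTheory MonoidalCategory CartesianMonoidalCategory MonObj GrpObj AlgebraicGeometry CategoryTheory.Limits
open AlgGrp

attribute [-instance] CategoryTheory.CommGrpObj.toIsCommMonObj CategoryTheory.CommGrpObj.toGrpObj CategoryTheory.Hom.commGroup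

namespace Groth.Agent.S18065

/-- Suppose A is a discrete valuation ring, and write K for its field of fractions and k for its residue
field; let G be a flat A-group scheme of finite presentation, not assumed separated. If the generic
fibre G_K is affine, then the special fibre G_k is affine. -/
theorem result (A : Type u) [CommRing A] [IsDomain A] [IsDiscreteValuationRing A]
    (K : Type u) [Field K] [Algebra A K] [IsFractionRing A K]
    (G : Over (Spec (CommRingCat.of A))) [GrpObj G] [Flat G.hom] [LocallyOfFinitePresentation G.hom] [QuasiCompact G.hom]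
    [IsAffine (Red.bc (Spec.map (CommRingCat.ofHom (algebraMap A K))) G).left] :
    IsAffine (Red.bc (Spec.map (CommRingCat.ofHom (algebraMap A (IsLocalRing.ResidueField A)))) G).left := by
  let K' := AlgebraicClosure K
  let f : A →+* K' := (algebraMap K K').comp (algebraMap A K)
  obtain ⟨V, g, hg, hloc, hint⟩ := SubgSpecLib.exists_valuationSubring f
  haveI := hloc
  haveI : IsAlgClosed (IsLocalRing.ResidueField V) := SubgSpecLib.isAlgClosed_residueField V
  let Ω := IsLocalRing.ResidueField V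
  let π : V →+* Ω := IsLocalRing.residue V
  let r₀ : IsLocalRing.ResidueField A →+* Ω := IsLocalRing.ResidueField.map g
  let v : Spec (CommRingCat.of V) ⟶ Spec (CommRingCat.of A) := Spec.map (CommRingCat.ofHom g)
  let j := Spec.map (CommRingCat.ofHom π)
  let wK := Spec.map (CommRingCat.ofHom (algebraMap A K))
  let wk := Spec.map (CommRingCat.ofHom (algebraMap A (IsLocalRing.ResidueField A)))
  let e₀ := Spec.map (CommRingCat.ofHom (algebraMap K K'))
  let e₁ := Spec.map (CommRingCat.ofHom r₀)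
  have h1 : SubgSpecLib.gen (V := V) K' ≫ v = e₀ ≫ wK := by
    rw [← Spec.map_comp, ← Spec.map_comp]
    congr 1
    ext r
    exact hg r
  have h2 : j ≫ v = e₁ ≫ wk := by
    rw [← Spec.map_comp, ← Spec.map_comp]
    rfl
  -- the groups
  haveI : LocallyOfFiniteType G.hom := inferInstance
  let GV := Red.bc v G
  haveI : LocallyOfFiniteType GV.hom := MorphismProperty.pullback_snd _ _ ‹LocallyOfFiniteType G.hom›
  haveI : QuasiCompact GV.hom := MorphismProperty.pullback_snd _ _ ‹QuasiCompact G.hom›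
  let G₁ := Red.bc (SubgSpecLib.gen (V := V) K') GV
  let G₂ := Red.bc j GV
  obtain ⟨φ, hφ⟩ : ∃ φ : G₁ ≅ Red.bc (e₀ ≫ wK) G, IsMonHom φ.hom :=
    ⟨_, ActBC.bcCompIso_isMonHom (SubgSpecLib.gen (V := V) K') v h1⟩
  obtain ⟨φ', hφ'⟩ : ∃ φ' : Red.bc e₀ (Red.bc wK G) ≅ Red.bc (e₀ ≫ wK) G, IsMonHom φ'.hom :=
    ⟨_, ActBC.bcCompIso_isMonHom e₀ wK rfl⟩
  obtain ⟨ψ, hψ⟩ : ∃ ψ : G₂ ≅ Red.bc (e₁ ≫ wk) G, IsMonHom ψ.hom :=
    ⟨_, ActBC.bcCompIso_isMonHom j v h2⟩
  obtain ⟨ψ', hψ'⟩ : ∃ ψ' : Red.bc e₁ (Red.bc wk G) ≅ Red.bc (e₁ ≫ wk) G, IsMonHom ψ'.hom :=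
    ⟨_, ActBC.bcCompIso_isMonHom e₁ wk rfl⟩
  haveI : LocallyOfFiniteType G₁.hom := MorphismProperty.pullback_snd _ _ ‹LocallyOfFiniteType GV.hom›
  haveI : QuasiCompact G₁.hom := MorphismProperty.pullback_snd _ _ ‹QuasiCompact GV.hom›
  haveI : LocallyOfFiniteType G₂.hom := MorphismProperty.pullback_snd _ _ ‹LocallyOfFiniteType GV.hom›
  haveI : QuasiCompact G₂.hom := MorphismProperty.pullback_snd _ _ ‹QuasiCompact GV.hom›
  haveI : IsAffine (Red.bc e₀ (Red.bc wK G)).left := by
    haveI : IsAffineHom (Red.bc wK G).hom := isAffineHom_of_isAffine _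
    haveI : IsAffineHom (Red.bc e₀ (Red.bc wK G)).hom := MorphismProperty.pullback_snd _ _ ‹IsAffineHom (Red.bc wK G).hom›
    exact isAffine_of_isAffineHom (Red.bc e₀ (Red.bc wK G)).hom
  haveI : IsAffine G₁.left := IsAffine.of_isIso (φ ≪≫ φ'.symm).hom.left
  -- the companion
  obtain ⟨H, hH, i, hi, hci, hsm, hconn, hdimH⟩ := AffSpecLib.exists_idRed G₁
  letI := hH
  haveI := hi
  haveI := hci
  haveI := hsm
  haveI := hconn
  haveI : IsAffine H.left := isAffine_of_isAffineHom i.left
  haveI := GrpSchLib.irreducibleSpace_of_connectedSpace (G := H)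
  obtain ⟨-, d, -, hd, -, -⟩ := DimFormulaLib.field_dims H.hom (genericPoint H.left)
  have hd' := DimFormulaLib.topologicalKrullDim_eq_trdeg H.hom d hd
  obtain ⟨Γ, hΓ, i', hi', hci', hsm', hconn', haff', -, hdim, -⟩ :=
    AffSpecLib.exists_special_affine (V := V) (G := GV) K' π IsLocalRing.residue_surjective AffSpecLib.botSeries H i
      (fun T => rfl) d hd'.ge
  letI := hΓ
  haveI := hi'
  haveI := hci'
  haveI := hsm'
  haveI := hconn'
  haveI := haff'
  haveI := GrpSchLib.irreducibleSpace_of_connectedSpace (G := Γ)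
  -- dimensions
  have hgen : topologicalKrullDim ↥(Red.bc (Neron.genPt A) G).left = (d : WithBot ℕ∞) := by
    rw [← hd', hdimH, (Scheme.homeoOfIso (asIso (φ.hom.left))).isHomeomorph.topologicalKrullDim_eq,
      Neutral.dim_bc_field, Neutral.dim_bc_field (e₀ ≫ wK)]
    have hp : ∀ (p : Spec (CommRingCat.of (FractionRing A))) (q : Spec (CommRingCat.of K)),
        Neron.genPt A p = wK q := fun p q =>
      (SubgSpecLib.gen_apply (FractionRing A) p).trans (SubgSpecLib.gen_apply K q).symm
    exact congrArg (fun x => topologicalKrullDim ↥(G.hom ⁻¹' {x}))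
      (hp (IsLocalRing.closedPoint (FractionRing A)) (e₀ (IsLocalRing.closedPoint K')))
  have hspec := SubgSpecLib.dim_special G d hgen
  have hG₂ : topologicalKrullDim G₂.left = (d : WithBot ℕ∞) := by
    rw [← hspec, (Scheme.homeoOfIso (asIso (ψ.hom.left))).isHomeomorph.topologicalKrullDim_eq, Neutral.dim_bc_field,
      Neutral.dim_bc_field wk]
    exact congrArg (fun x => topologicalKrullDim ↥(G.hom ⁻¹' {wk x}))
      (Subsingleton.elim (α := PrimeSpectrum (IsLocalRing.ResidueField A)) (e₁ (IsLocalRing.closedPoint Ω))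
        (IsLocalRing.closedPoint (IsLocalRing.ResidueField A)))
  haveI : IsAffine G₂.left := AffSpecLib.isAffine_of_big G₂ Γ i' hG₂ hdim
  haveI : IsAffine (Red.bc e₁ (Red.bc wk G)).left := IsAffine.of_isIso (ψ' ≪≫ ψ.symm).hom.left
  have hd1 : (@Surjective ⊓ @Flat ⊓ @QuasiCompact : MorphismProperty Scheme.{u}) e₁ := by
    refine ⟨⟨⟨fun p => ⟨IsLocalRing.closedPoint Ω, Subsingleton.elim (α := PrimeSpectrum (IsLocalRing.ResidueField A)) _ _⟩⟩, ?_⟩,
      inferInstance⟩
    exact (HasRingHomProperty.Spec_iff (P := @Flat)).2 (by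
      letI := r₀.toAlgebra
      haveI : Module.Free (IsLocalRing.ResidueField A) Ω := Module.Free.of_divisionRing _ _
      exact RingHom.flat_algebraMap_iff.2 Module.Flat.of_free)
  haveI := FpqcDesc.isAffineHom_descends.{u}
  haveI : IsAffineHom (Red.bc wk G).hom := MorphismProperty.of_isPullback_of_descendsAlong
    (P := @IsAffineHom) (IsPullback.of_hasPullback (Red.bc wk G).hom e₁).flip hd1
    (isAffineHom_of_isAffine (Red.bc e₁ (Red.bc wk G)).hom)
  exact isAffine_of_isAffineHom (Red.bc wk G).hom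

end Groth.Agent.S18065
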