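import Groth.Statements.S18068
import Groth.Agent.MonoFibre.AntiAffineApps
import Groth.Agent.GrpQuotLib.FieldQuot
import Groth.Agent.MonoFibre.HomFlat
import Groth.Agent.MonoFibre.AntiAffineBasic
import Groth.Agent.ASp.PropDescend

set_option autoImplicit false
universe u
open CategoryTheory MonoidalCategory CartesianMonoidalCategory MonObj GrpObj AlgebraicGeometry CategoryTheory.Limits
open AlgGrp

namespace Groth.Agent.S18068

/-- Let k be a field and f : G → H an isogeny (a surjective homomorphism with finite kernel, i.e.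
surjective and finite) of connected commutative algebraic groups over k. Then G is anti-affine (O(G)
= k) if and only if H is anti-affine. -/
theorem result (k : Type u) [Field k]
    (G H : Over (Spec (CommRingCat.of k))) [GrpObj G] [Smooth G.hom] [QuasiCompact G.hom] [ConnectedSpace ↥G.left] [IsCommMonObj G]
    [GrpObj H] [Smooth H.hom] [QuasiCompact H.hom] [ConnectedSpace ↥H.left] [IsCommMonObj H]
    (f : G ⟶ H) [IsMonHom f] [Surjective f.left] [IsFinite f.left] :
    Function.Bijective ((Scheme.ΓSpecIso (CommRingCat.of k)).inv ≫ G.hom.appTop).hom ↔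
      Function.Bijective ((Scheme.ΓSpecIso (CommRingCat.of k)).inv ≫ H.hom.appTop).hom := by
  haveI : AlgebraicGeometry.IsReduced G.left := ASp.isReduced_of_smooth G.hom
  haveI : AlgebraicGeometry.IsReduced H.left := ASp.isReduced_of_smooth H.hom
  rw [MonoFibre.KerAntiAffine.bijective_iff, MonoFibre.KerAntiAffine.bijective_iff]
  haveI : Flat f.left := MonoFibre.flat_of_maxPt_mem_range f fun ξ _ => f.left.surjective ξ
  refine ⟨MonoFibre.AntiAffineBasic.isIso_appTop_of_surjective f, fun hH => ?_⟩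
  obtain ⟨hA, N, hN, i, ht, -, hts, hAl, hi, hic, hNl, hNq, hker, -⟩ :=
    MonoFibre.KerAntiAffine.exists_antiAffineKernel G
  letI := hA; letI := hN
  haveI := ht; haveI := hi; haveI := hic; haveI := hNl; haveI := hNq; haveI := hAl
  let q := MonoFibre.Affinization.toAff G
  haveI : IsSeparated G.hom := GrpSchLib.isSeparated_hom
  haveI : IsSeparated H.hom := GrpSchLib.isSeparated_hom
  haveI : QuasiCompact (i ≫ f).left := by
    have : QuasiCompact ((i ≫ f).left ≫ H.hom) := by rw [Over.w]; exact hNq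
    exact QuasiCompact.of_comp (i ≫ f).left H.hom
  obtain ⟨K, hK, u, g, hu, huc, -, hgu, -, -, hgs⟩ := MonoFibre.AntiAffinePart.exists_schemeImage (i ≫ f)
  letI := hK; haveI := hu; haveI := huc; haveI := hgs
  -- the image of the anti-affine part is everything
  obtain ⟨Q, hQ, π, hπ, -, hQl, -, hπs, -, -, hπk⟩ := GrpQuotLib.exists_quotientGrp_field K H u (by
    intro T x y
    exact ⟨y, by rw [_root_.mul_comm x, mul_inv_cancel_right]⟩)
  letI := hQ; haveI := hπ; haveI := hQl; haveI := hπs
  have hsf : Surjective (f ≫ π).left := by rw [Over.comp_left]; infer_instance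
  haveI := hsf
  haveI : IsAffine Q.left := MonoFibre.AntiAffinePart.isAffine_of_kills i hker Q (f ≫ π) (by
    rw [← Category.assoc, ← hgu, Category.assoc, hπk.w, toUnit_unique (toUnit K) (toUnit K)]
    rw [← Category.assoc, toUnit_unique (g ≫ toUnit K) (toUnit N), Hom.one_def])
  have hπ1 : π = 1 := MonoFibre.AntiAffinePart.eq_one_of_antiAffine hH π
  have hsur : ∀ y : H.left, y ∈ Set.range (i ≫ f).left := by
    intro y
    have hy : y ∈ Set.range u.left := by
      rw [MonoFibre.AntiAffinePart.range_kernel π u hπk, hπ1, Hom.one_def]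
      exact ⟨(toUnit H).left y, (Scheme.Hom.comp_apply _ _ _).symm⟩
    obtain ⟨z, rfl⟩ := hy
    obtain ⟨n, rfl⟩ := g.left.surjective z
    exact ⟨n, by rw [← hgu]; exact Scheme.Hom.comp_apply _ _ _⟩
  -- the affinization of `G` is the image of the finite kernel
  haveI : Finite (𝟙_ (Over (Spec (CommRingCat.of k)))).left := inferInstanceAs (Finite (PrimeSpectrum k))
  have hfin : (f.left ⁻¹' Set.range η[H].left).Finite :=
    Set.Finite.preimage' (Set.finite_range _) fun y _ => f.left.finite_preimage_singleton y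
  have hcover : Set.univ ⊆ q.left '' (f.left ⁻¹' Set.range η[H].left) := by
    rintro a -
    obtain ⟨x, rfl⟩ := hts.surj a
    obtain ⟨T, p, r, t, ht, he⟩ := GrpSchLib.exists_lift f (i ≫ f) x (hsur _)
    let c : T ⟶ G := p * (r ≫ i)⁻¹
    have hc1 : c ≫ f = 1 := by
      rw [MonObj.mul_comp, GrpObj.inv_comp, he, ← Category.assoc, mul_inv_cancel]
    have hc2 : c ≫ q = p ≫ q := by
      rw [MonObj.mul_comp, GrpObj.inv_comp, MonoFibre.AntiAffineApps.comp_isKernel hker r, inv_one,
        _root_.mul_one]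
    refine ⟨c.left t, ⟨(toUnit T).left t, ?_⟩, ?_⟩
    · rw [← Scheme.Hom.comp_apply, ← Scheme.Hom.comp_apply, ← Over.comp_left, ← Over.comp_left, hc1, Hom.one_def]
    · rw [← Scheme.Hom.comp_apply, ← Over.comp_left, hc2, Over.comp_left, Scheme.Hom.comp_apply, ht]
  haveI : Finite (MonoFibre.Affinization.aff G).left :=
    Set.finite_univ_iff.mp ((hfin.image _).subset hcover)
  haveI : JacobsonSpace (MonoFibre.Affinization.aff G).left :=
    LocallyOfFiniteType.jacobsonSpace (MonoFibre.Affinization.aff G).hom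
  haveI : T1Space (MonoFibre.Affinization.aff G).left := ⟨fun x => by
    have h1 : IsClosed (closedPoints (MonoFibre.Affinization.aff G).left) := by
      rw [← Set.biUnion_of_singleton (closedPoints _)]
      exact Set.Finite.isClosed_biUnion (Set.toFinite _) fun y hy => hy
    have h2 : x ∈ closedPoints (MonoFibre.Affinization.aff G).left := by
      rw [← h1.closure_eq, closure_closedPoints]; trivial
    exact h2⟩
  haveI : ConnectedSpace (MonoFibre.Affinization.aff G).left :=
    hts.surj.connectedSpace q.left.continuous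
  haveI : Subsingleton (PrimeSpectrum Γ(G.left, ⊤)) :=
    PreconnectedSpace.trivial_of_discrete (X := (MonoFibre.Affinization.aff G).left)
  obtain ⟨⟨P, hP⟩⟩ : Nonempty (PrimeSpectrum Γ(G.left, ⊤)) :=
    ⟨q.left (η[G].left (IsLocalRing.closedPoint k))⟩
  haveI := hP
  haveI : Nontrivial Γ(G.left, ⊤) := ⟨⟨0, 1, fun h => hP.ne_top (by rw [Ideal.eq_top_iff_one, ← h]; exact P.zero_mem)⟩⟩
  have huniq : ∀ I : Ideal Γ(G.left, ⊤), I.IsPrime → I = P := fun I hI =>
    congrArg PrimeSpectrum.asIdeal (Subsingleton.elim (⟨I, hI⟩ : PrimeSpectrum Γ(G.left, ⊤)) ⟨P, hP⟩)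
  have hPmax : P.IsMaximal := by
    obtain ⟨m, hm⟩ := Ideal.exists_maximal Γ(G.left, ⊤)
    exact huniq m hm.isPrime ▸ hm
  haveI : IsLocalRing Γ(G.left, ⊤) :=
    IsLocalRing.of_unique_max_ideal ⟨P, hPmax, fun I hI => huniq I hI.isPrime⟩
  haveI : Ring.KrullDimLE 0 Γ(G.left, ⊤) := Ring.krullDimLE_zero_iff.mpr fun I hI => huniq I hI ▸ hPmax
  have hF : IsField Γ(G.left, ⊤) := Ring.KrullDimLE.isField_of_isReduced
  rw [← MonoFibre.KerAntiAffine.bijective_iff]
  let φ := (Scheme.ΓSpecIso (CommRingCat.of k)).inv ≫ G.hom.appTop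
  let ρ := η[G].left.appTop ≫ (Scheme.ΓSpecIso (CommRingCat.of k)).hom
  have hρ : φ ≫ ρ = 𝟙 _ := by
    simp only [φ, ρ, Category.assoc]
    rw [← Scheme.Hom.comp_appTop_assoc, Over.w η[G]]
    erw [Scheme.Hom.id_appTop]
    simp
  letI := hF.toField
  have hinj : Function.Injective ρ.hom := ρ.hom.injective
  refine ⟨fun a b hab => ?_, fun a => ⟨ρ.hom a, hinj ?_⟩⟩
  · simpa using (ConcreteCategory.congr_hom hρ a).symm.trans ((congrArg ρ.hom hab).trans (ConcreteCategory.congr_hom hρ b))
  · exact ConcreteCategory.congr_hom hρ (ρ.hom a)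

end Groth.Agent.S18068
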