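import Groth.Statements.S18072
import Groth.Agent.GenSubLib.Nilp
-- import your own Groth.Agent.* helpers here

set_option autoImplicit false
universe u
open CategoryTheory MonoidalCategory CartesianMonoidalCategory MonObj GrpObj AlgebraicGeometry CategoryTheory.Limits
open AlgGrp

namespace Groth.Agent.S18072

/-- Let F be a field and f : G → H an isogeny between affine smooth connected F-groups (a surjective
homomorphism with finite kernel, i.e. surjective and finite). Then each of the properties unipotent,
solvable, nilpotent and commutative holds for G exactly when it holds for H; here unipotence is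
expressed as: the base change to an algebraic closure contains no non-trivial subtorus, solvable and
nilpotent through the derived and upper central series of the groups of points. -/
theorem result (F : Type u) [Field F]
    (G H : Over (Spec (CommRingCat.of F))) [GrpObj G] [Smooth G.hom] [QuasiCompact G.hom] [IsAffine G.left] [ConnectedSpace ↥G.left]
    [GrpObj H] [Smooth H.hom] [QuasiCompact H.hom] [IsAffine H.left] [ConnectedSpace ↥H.left]
    (f : G ⟶ H) [IsMonHom f] [Surjective f.left] [IsFinite f.left] :
    (Red.HasNoSubtorus (AlgebraicClosure F) (Red.bc (Spec.map (CommRingCat.ofHom (algebraMap F (AlgebraicClosure F)))) G) ↔ Red.HasNoSubtorus (AlgebraicClosure F) (Red.bc (Spec.map (CommRingCat.ofHom (algebraMap F (AlgebraicClosure F)))) H)) ∧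
    (Red.IsSolvableGrp G ↔ Red.IsSolvableGrp H) ∧ (AGF.IsNilpotentGrp G ↔ AGF.IsNilpotentGrp H) ∧
    (IsCommMonObj G ↔ IsCommMonObj H) := by
  let K := AlgebraicClosure F
  let σ := Spec.map (CommRingCat.ofHom (algebraMap F K))
  haveI : Surjective σ := ⟨fun x => ⟨IsLocalRing.closedPoint K, Subsingleton.elim (α := PrimeSpectrum F) _ _⟩⟩
  haveI : QuasiCompact σ := inferInstance
  haveI : Flat σ := by
    rw [HasRingHomProperty.Spec_iff (P := @Flat)]
    exact RingHom.flat_algebraMap_iff.2 inferInstance
  haveI : Smooth (Red.bc σ G).hom := inferInstanceAs (Smooth (Limits.pullback.snd G.hom σ))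
  haveI : QuasiCompact (Red.bc σ G).hom := inferInstanceAs (QuasiCompact (Limits.pullback.snd G.hom σ))
  haveI : LocallyOfFiniteType (Red.bc σ G).hom := inferInstance
  haveI : ConnectedSpace (Red.bc σ G).left := by
    haveI := Groth.Agent.GenSubLib.geometricallyConnected_of_rational η[G]
    exact GeometricallyConnected.geometrically_connectedSpace σ _ _ (IsPullback.of_hasPullback G.hom σ)
  haveI : Smooth (Red.bc σ H).hom := inferInstanceAs (Smooth (Limits.pullback.snd H.hom σ))
  haveI : QuasiCompact (Red.bc σ H).hom := inferInstanceAs (QuasiCompact (Limits.pullback.snd H.hom σ))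
  haveI : LocallyOfFiniteType (Red.bc σ H).hom := inferInstance
  haveI : ConnectedSpace (Red.bc σ H).left := by
    haveI := Groth.Agent.GenSubLib.geometricallyConnected_of_rational η[H]
    exact GeometricallyConnected.geometrically_connectedSpace σ _ _ (IsPullback.of_hasPullback H.hom σ)
  let fK : Red.bc σ G ⟶ Red.bc σ H := (Over.pullback σ).map f
  haveI : IsMonHom fK := inferInstanceAs (IsMonHom ((Over.pullback σ).map f))
  haveI : IsFinite fK.left := MorphismProperty.overPullbackMap (P := @IsFinite) σ f ‹_›
  haveI : Surjective fK.left := MorphismProperty.overPullbackMap (P := @Surjective) σ f ‹_›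
  refine ⟨⟨fun h => GenSubLib.hasNoSubtorus_of_surjective fK h, fun h => GenSubLib.hasNoSubtorus_of_finite fK h⟩,
    ?_, ?_, ?_⟩
  · rw [← GenSubLib.isSolvableGrp_bc_iff K G, ← GenSubLib.isSolvableGrp_bc_iff K H]
    exact ⟨GenSubLib.isSolvableGrp_of_surjective fK, GenSubLib.isSolvableGrp_of_finite fK⟩
  · rw [← GenSubLib.isNilpotentGrp_bc_iff K G, ← GenSubLib.isNilpotentGrp_bc_iff K H]
    exact GenSubLib.isNilpotentGrp_iff_of_finite_surjective fK
  · rw [← GenSubLib.isCommMonObj_bc_iff K G, ← GenSubLib.isCommMonObj_bc_iff K H]
    exact GenSubLib.isCommMonObj_iff_of_finite_surjective fK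

end Groth.Agent.S18072
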