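import Groth.Statements.S18079
import Groth.Agent.GenSubLib.Torus
-- import your own Groth.Agent.* helpers here

set_option autoImplicit false
universe u
open CategoryTheory MonoidalCategory CartesianMonoidalCategory MonObj GrpObj AlgebraicGeometry CategoryTheory.Limits
open AlgGrp

namespace Groth.Agent.S18079

/-- Let k be a field with algebraic closure k̄ and f : G → H an isogeny of algebraic k-groups (a
surjective homomorphism of k-group schemes of finite type with finite kernel, i.e. surjective and
finite). Then for every d, G_{k̄} contains a smooth connected unipotent subgroup of dimension at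
least d (unipotent: no non-trivial subtorus) if and only if H_{k̄} does; that is, d_u(G) = d_u(H). -/
theorem result (k : Type u) [Field k]
    (G H : Over (Spec (CommRingCat.of k))) [GrpObj G] [LocallyOfFiniteType G.hom] [QuasiCompact G.hom]
    [GrpObj H] [LocallyOfFiniteType H.hom] [QuasiCompact H.hom]
    (f : G ⟶ H) [IsMonHom f] [Surjective f.left] [IsFinite f.left] (d : ℕ) :
    (∃ (U : Over (Spec (CommRingCat.of (AlgebraicClosure k)))) (_ : GrpObj U) (i : U ⟶ Red.bc (Spec.map (CommRingCat.ofHom (algebraMap k (AlgebraicClosure k)))) G), IsMonHom i ∧ IsClosedImmersion i.left ∧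
        Smooth U.hom ∧ IsAffine U.left ∧ ConnectedSpace ↥U.left ∧ Red.HasNoSubtorus (AlgebraicClosure k) U ∧
        (d : WithBot ℕ∞) ≤ topologicalKrullDim ↥U.left) ↔
    (∃ (U : Over (Spec (CommRingCat.of (AlgebraicClosure k)))) (_ : GrpObj U) (i : U ⟶ Red.bc (Spec.map (CommRingCat.ofHom (algebraMap k (AlgebraicClosure k)))) H), IsMonHom i ∧ IsClosedImmersion i.left ∧
        Smooth U.hom ∧ IsAffine U.left ∧ ConnectedSpace ↥U.left ∧ Red.HasNoSubtorus (AlgebraicClosure k) U ∧
        (d : WithBot ℕ∞) ≤ topologicalKrullDim ↥U.left) := by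
  let K := AlgebraicClosure k
  let σ := Spec.map (CommRingCat.ofHom (algebraMap k (AlgebraicClosure k)))
  let fK : Red.bc σ G ⟶ Red.bc σ H := (Over.pullback σ).map f
  haveI : IsMonHom fK := inferInstanceAs (IsMonHom ((Over.pullback σ).map f))
  haveI : IsFinite fK.left := MorphismProperty.overPullbackMap (P := @IsFinite) σ f ‹_›
  haveI : Surjective fK.left := MorphismProperty.overPullbackMap (P := @Surjective) σ f ‹_›
  haveI : LocallyOfFiniteType (Red.bc σ G).hom := inferInstanceAs (LocallyOfFiniteType (Limits.pullback.snd G.hom σ))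
  haveI : LocallyOfFiniteType (Red.bc σ H).hom := inferInstanceAs (LocallyOfFiniteType (Limits.pullback.snd H.hom σ))
  haveI : QuasiCompact (Red.bc σ G).hom := inferInstanceAs (QuasiCompact (Limits.pullback.snd G.hom σ))
  haveI : QuasiCompact (Red.bc σ H).hom := inferInstanceAs (QuasiCompact (Limits.pullback.snd H.hom σ))
  constructor
  · rintro ⟨U, hU, i, hi, hci, hs, hA, hc, hn, hd⟩
    letI := hU
    haveI := hi
    haveI := hci
    haveI := hs
    haveI := hc
    haveI := hA
    obtain ⟨U', hU', i', q, hi', hci', hs', hc', hq, -, hqf, hqs⟩ :=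
      GenSubLib.exists_image (i ≫ fK) (by rw [Over.comp_left]; infer_instance)
    haveI := hq
    haveI := hqf
    haveI := hqs
    haveI := hci'
    haveI := hc'
    haveI : LocallyOfFiniteType U'.hom := inferInstance
    haveI : QuasiCompact U.hom := by rw [← Over.w i]; infer_instance
    haveI : QuasiCompact U'.hom := by rw [← Over.w i']; infer_instance
    haveI := GrpSchLib.irreducibleSpace_of_connectedSpace (G := U)
    haveI := GrpSchLib.irreducibleSpace_of_connectedSpace (G := U')
    haveI := GrpSchLib.quasiSeparatedSpace (G := U')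
    haveI : CompactSpace U'.left := GrpSchLib.compactSpace_of_irreducibleSpace
    haveI : IsLocallyNoetherian U'.left := LocallyOfFiniteType.isLocallyNoetherian U'.hom
    exact ⟨U', hU', i', hi', hci', hs', ChevAffine.isAffine_of_finite_surjective q.left, hc',
      GenSubLib.hasNoSubtorus_of_surjective q hn,
      GenSubLib.topologicalKrullDim_eq_of_finite_surjective q.left ▸ hd⟩
  · rintro ⟨U, hU, i, hi, hci, hs, hA, hc, hn, hd⟩
    letI := hU
    haveI := hi
    haveI := hci
    haveI := hc
    haveI := hA
    obtain ⟨U', hU', i', q, hi', hci', hs', hc', hq, -, hqf, hqs⟩ := GenSubLib.exists_preimage fK i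
    haveI := hq
    haveI := hqf
    haveI := hqs
    haveI := hc'
    haveI := hci'
    haveI : LocallyOfFiniteType U.hom := inferInstance
    haveI : LocallyOfFiniteType U'.hom := inferInstance
    haveI : QuasiCompact U.hom := by rw [← Over.w i]; infer_instance
    haveI := GrpSchLib.irreducibleSpace_of_connectedSpace (G := U)
    haveI := GrpSchLib.irreducibleSpace_of_connectedSpace (G := U')
    haveI : IsLocallyNoetherian U.left := LocallyOfFiniteType.isLocallyNoetherian U.hom
    exact ⟨U', hU', i', hi', hci', hs', isAffine_of_isAffineHom q.left, hc',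
      GenSubLib.hasNoSubtorus_of_finite q hn,
      (GenSubLib.topologicalKrullDim_eq_of_finite_surjective q.left).symm ▸ hd⟩

end Groth.Agent.S18079
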