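import Groth.Statements.S18083
import Groth.Agent.SubgSpecLib.Tower
import Groth.Agent.SubgSpecLib.Props

set_option backward.isDefEq.respectTransparency false
set_option linter.style.haveILetI false

set_option autoImplicit false
universe u
open CategoryTheory MonoidalCategory CartesianMonoidalCategory MonObj GrpObj AlgebraicGeometry CategoryTheory.Limits
open AlgGrp

namespace Groth.Agent.S18083

/-- A is a regular local ring, K denotes its field of fractions and k its residue field; G is a flat
separated A-group scheme of finite presentation, and d is a natural number. If G_K contains a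
commutative (resp. nilpotent, resp. solvable) closed subgroup scheme of dimension d, then so does
G_k. (The published statement does not require G separated; its proof goes through the
specialisation of commutativity, nilpotency and solvability over a discrete valuation ring by a
density argument that is valid for separated group schemes, so G is taken separated here.) -/
theorem result (A : Type u) [CommRing A] [IsDomain A] [IsRegularLocalRing A]
    (K : Type u) [Field K] [Algebra A K] [IsFractionRing A K]
    (G : Over (Spec (CommRingCat.of A))) [GrpObj G] [Flat G.hom] [LocallyOfFinitePresentation G.hom] [QuasiCompact G.hom]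
    [IsSeparated G.hom] (d : ℕ) :
    ((∃ (H : Over (Spec (CommRingCat.of K))) (_ : GrpObj H) (i : H ⟶ Red.bc (Spec.map (CommRingCat.ofHom (algebraMap A K))) G),
        IsMonHom i ∧ IsClosedImmersion i.left ∧ IsCommMonObj H ∧ topologicalKrullDim ↥H.left = (d : WithBot ℕ∞)) → ∃ (H : Over (Spec (CommRingCat.of (IsLocalRing.ResidueField A)))) (_ : GrpObj H) (i : H ⟶ Red.bc (Spec.map (CommRingCat.ofHom (algebraMap A (IsLocalRing.ResidueField A)))) G),
        IsMonHom i ∧ IsClosedImmersion i.left ∧ IsCommMonObj H ∧ topologicalKrullDim ↥H.left = (d : WithBot ℕ∞)) ∧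
    ((∃ (H : Over (Spec (CommRingCat.of K))) (_ : GrpObj H) (i : H ⟶ Red.bc (Spec.map (CommRingCat.ofHom (algebraMap A K))) G),
        IsMonHom i ∧ IsClosedImmersion i.left ∧ AGF.IsNilpotentGrp H ∧ topologicalKrullDim ↥H.left = (d : WithBot ℕ∞)) → ∃ (H : Over (Spec (CommRingCat.of (IsLocalRing.ResidueField A)))) (_ : GrpObj H) (i : H ⟶ Red.bc (Spec.map (CommRingCat.ofHom (algebraMap A (IsLocalRing.ResidueField A)))) G),
        IsMonHom i ∧ IsClosedImmersion i.left ∧ AGF.IsNilpotentGrp H ∧ topologicalKrullDim ↥H.left = (d : WithBot ℕ∞)) ∧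
    ((∃ (H : Over (Spec (CommRingCat.of K))) (_ : GrpObj H) (i : H ⟶ Red.bc (Spec.map (CommRingCat.ofHom (algebraMap A K))) G),
        IsMonHom i ∧ IsClosedImmersion i.left ∧ Red.IsSolvableGrp H ∧ topologicalKrullDim ↥H.left = (d : WithBot ℕ∞)) → ∃ (H : Over (Spec (CommRingCat.of (IsLocalRing.ResidueField A)))) (_ : GrpObj H) (i : H ⟶ Red.bc (Spec.map (CommRingCat.ofHom (algebraMap A (IsLocalRing.ResidueField A)))) G),
        IsMonHom i ∧ IsClosedImmersion i.left ∧ Red.IsSolvableGrp H ∧ topologicalKrullDim ↥H.left = (d : WithBot ℕ∞)) := by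
  obtain ⟨n, hn⟩ : ∃ n : ℕ, ringKrullDim A = n :=
    ⟨_, (IsRegularLocalRing.spanFinrank_maximalIdeal (R := A)).symm⟩
  have key : ∀ P : SubgSpecLib.GProp.{u},
      (∀ (V : Type u) [CommRing V] [IsDomain V] [IsDiscreteValuationRing V]
        (v : Spec (CommRingCat.of V) ⟶ Spec (CommRingCat.of A)), SubgSpecLib.ClosureStable P (Red.bc v G)) →
      SubgSpecLib.Sub P (Spec.map (CommRingCat.ofHom (algebraMap A K))) G d →
        SubgSpecLib.Sub P (Spec.map (CommRingCat.ofHom (algebraMap A (IsLocalRing.ResidueField A)))) G d :=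
    fun P hcl h => SubgSpecLib.Sub.regular G hcl d n A (RingHom.id A) hn K h
  refine ⟨fun ⟨H, hH, i, hi, hc, hP, hd⟩ => ?_, fun ⟨H, hH, i, hi, hc, hP, hd⟩ => ?_,
    fun ⟨H, hH, i, hi, hc, hP, hd⟩ => ?_⟩
  · obtain ⟨H', hH', i', hi', hc', hP', hd'⟩ := key SubgSpecLib.GProp.comm (fun V _ _ _ v => by
      haveI : IsSeparated (Red.bc v G).hom := MorphismProperty.pullback_snd _ _ ‹IsSeparated G.hom›
      haveI : QuasiCompact (Red.bc v G).hom := MorphismProperty.pullback_snd _ _ ‹QuasiCompact G.hom›
      haveI : LocallyOfFiniteType (Red.bc v G).hom :=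
        MorphismProperty.pullback_snd _ _ (inferInstance : LocallyOfFiniteType G.hom)
      exact SubgSpecLib.closureStable_comm _) ⟨H, hH, i, hi, hc, hP, hd⟩
    exact ⟨H', hH', i', hi', hc', hP', hd'⟩
  · obtain ⟨H', hH', i', hi', hc', hP', hd'⟩ := key SubgSpecLib.GProp.nilp (fun V _ _ _ v => by
      haveI : IsSeparated (Red.bc v G).hom := MorphismProperty.pullback_snd _ _ ‹IsSeparated G.hom›
      haveI : QuasiCompact (Red.bc v G).hom := MorphismProperty.pullback_snd _ _ ‹QuasiCompact G.hom›
      haveI : LocallyOfFiniteType (Red.bc v G).hom :=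
        MorphismProperty.pullback_snd _ _ (inferInstance : LocallyOfFiniteType G.hom)
      exact SubgSpecLib.closureStable_nilp _) ⟨H, hH, i, hi, hc, hP, hd⟩
    exact ⟨H', hH', i', hi', hc', hP', hd'⟩
  · obtain ⟨H', hH', i', hi', hc', hP', hd'⟩ := key SubgSpecLib.GProp.solv (fun V _ _ _ v => by
      haveI : IsSeparated (Red.bc v G).hom := MorphismProperty.pullback_snd _ _ ‹IsSeparated G.hom›
      haveI : QuasiCompact (Red.bc v G).hom := MorphismProperty.pullback_snd _ _ ‹QuasiCompact G.hom›
      haveI : LocallyOfFiniteType (Red.bc v G).hom :=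
        MorphismProperty.pullback_snd _ _ (inferInstance : LocallyOfFiniteType G.hom)
      exact SubgSpecLib.closureStable_solv _) ⟨H, hH, i, hi, hc, hP, hd⟩
    exact ⟨H', hH', i', hi', hc', hP', hd'⟩

end Groth.Agent.S18083
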