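import Groth.Statements.S18084
import Groth.Agent.S18073
import Groth.Agent.S3022
import Groth.Agent.S9777
-- import your own Groth.Agent.* helpers here

set_option autoImplicit false
universe u
open CategoryTheory MonoidalCategory CartesianMonoidalCategory MonObj GrpObj AlgebraicGeometry CategoryTheory.Limits
open AlgGrp

namespace Groth.Agent.S18084


open CategoryTheory CategoryTheory.Limits MonoidalCategory CartesianMonoidalCategory MonObj GrpObj AlgebraicGeometry

set_option backward.isDefEq.respectTransparency false in
/-- The dimension of a geometric fibre is the dimension of the fibre. -/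
theorem dim_geomFibre {S : Scheme.{u}} (G : Over S) [LocallyOfFiniteType G.hom] [QuasiCompact G.hom] (s : S) :
    topologicalKrullDim ↥(Red.geomFibre s G).left = topologicalKrullDim ↥(G.hom.base ⁻¹' {s}) := by
  let ξ := Red.geomPt s
  have hs : ξ default = s :=
    Scheme.fromSpecResidueField_apply s _
  have h : (Set.univ : Set ↥(pullback G.hom ξ)) = pullback.snd G.hom ξ ⁻¹' {default} :=
    Set.ext fun z => by simpa using Subsingleton.elim (α := ↥(Spec (CommRingCat.of (AlgebraicClosure (S.residueField s))))) _ _
  have h1 : topologicalKrullDim ↥(pullback G.hom ξ) = topologicalKrullDim ↥((pullback.snd G.hom ξ).fiber default) :=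
    IsHomeomorph.topologicalKrullDim_eq _
      (((Homeomorph.Set.univ _).symm.trans (Homeomorph.setCongr h)).trans
        ((pullback.snd G.hom ξ).fiberHomeo default).symm).isHomeomorph
  have h2 := Groth.Agent.S9777.result G.hom ξ (pullback.snd G.hom ξ) (pullback.fst G.hom ξ)
    (IsPullback.of_hasPullback G.hom ξ) default
  have h3 : topologicalKrullDim ↥(G.hom.fiber s) = topologicalKrullDim ↥(G.hom.base ⁻¹' {s}) :=
    IsHomeomorph.topologicalKrullDim_eq _ (G.hom.fiberHomeo s).isHomeomorph
  rw [hs] at h2
  exact h1.trans (h2.trans h3)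

/-- Let S be a scheme and G a smooth S-group scheme of finite presentation; for s ∈ S let d_ab(s) be the
dimension of the abelianization of the geometric fibre of G at s, i.e. the dimension of that fibre
minus the dimension of its derived group (the least dimension of a closed normal subgroup scheme
containing all commutators of points). Then d_ab does not decrease under specialization: for every
natural number n, if s specializes to s' (that is, s' lies in the closure of s) and d_ab(s) ≥ n,
then d_ab(s') ≥ n. (The published statement asserts that d_ab is upper semicontinuous on S, i.e.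
that the set of points s with d_ab(s) ≥ n is closed; the published argument reduces to the spectrum
of an integral local ring and establishes that this set is stable under specialization, which is
what is stated here. Closedness would in addition need the set to be locally constructible, which
the argument does not address.) -/
theorem result (S : Scheme.{u}) (G : Over S) [GrpObj G]
    [Smooth G.hom] [QuasiCompact G.hom] [QuasiSeparated G.hom] (n : ℕ) :
    StableUnderSpecialization {s : ↥S | ∃ (N : Over (Spec (CommRingCat.of (AlgebraicClosure (S.residueField s))))) (_ : GrpObj N)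
      (i : N ⟶ Red.geomFibre s G), IsMonHom i ∧ IsClosedImmersion i.left ∧ AlgGrp.IsNormalHom i ∧
      (∀ (T : Over (Spec (CommRingCat.of (AlgebraicClosure (S.residueField s))))) (g h : T ⟶ Red.geomFibre s G),
        ∃ m : T ⟶ N, g * h * g⁻¹ * h⁻¹ = m ≫ i) ∧
      (n : WithBot ℕ∞) + topologicalKrullDim ↥N.left ≤ topologicalKrullDim ↥(Red.geomFibre s G).left} := by
  intro s s' h hs
  obtain ⟨N, hN, i, hi, hci, hnorm, hcomm, hdim⟩ := hs
  have hc := Groth.Agent.S3022.result S G
  have heq : topologicalKrullDim ↥(Red.geomFibre s G).left = topologicalKrullDim ↥(Red.geomFibre s' G).left := by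
    rw [dim_geomFibre, dim_geomFibre]
    exact h.mem_open (hc {topologicalKrullDim ↥(G.hom.base ⁻¹' {s'})}) rfl
  haveI : Nonempty ↥N.left := ⟨η[N].left (IsLocalRing.closedPoint (AlgebraicClosure (S.residueField s)))⟩
  have h0 : (0 : WithBot ℕ∞) ≤ topologicalKrullDim ↥N.left := by
    haveI : Nonempty (TopologicalSpace.IrreducibleCloseds ↥N.left) :=
      ⟨⟨closure {Classical.arbitrary _}, isIrreducible_singleton.closure, isClosed_closure⟩⟩
    exact Order.krullDim_nonneg
  obtain ⟨c, hcN⟩ : ∃ c : ℕ∞, topologicalKrullDim ↥N.left = (c : WithBot ℕ∞) := by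
    rcases WithBot.ne_bot_iff_exists.1 (show topologicalKrullDim ↥N.left ≠ ⊥ from fun e => not_lt.2 (e ▸ h0) (WithBot.bot_lt_coe (0 : ℕ∞))) with ⟨c, hc⟩
    exact ⟨c, hc.symm⟩
  cases c with
  | top =>
    refine ⟨Red.geomFibre s' G, inferInstance, 𝟙 _, inferInstance, inferInstanceAs (IsClosedImmersion (𝟙 _)),
      fun T g m => ⟨g * (m ≫ 𝟙 _) * g⁻¹, (Category.comp_id _).symm⟩,
      fun T g m => ⟨g * m * g⁻¹ * m⁻¹, (Category.comp_id _).symm⟩, ?_⟩
    have htop : (⊤ : WithBot ℕ∞) ≤ topologicalKrullDim ↥(Red.geomFibre s' G).left := by
      rw [← heq]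
      refine le_trans ?_ hdim
      rw [hcN]
      exact le_of_eq (congrArg (fun a : ℕ∞ => (a : WithBot ℕ∞)) (add_top (n : ℕ∞))).symm
    rw [top_le_iff.1 htop]
    exact le_top
  | coe m =>
    obtain ⟨N', hN', i', a, b, c', d, he⟩ := Groth.Agent.S18073.result S G m h
      ⟨N, hN, i, hi, hci, hnorm, hcomm, hcN.le⟩
    refine ⟨N', hN', i', a, b, c', d, ?_⟩
    rw [← heq]
    exact le_trans (add_le_add_right he _) (le_of_eq_of_le (congrArg _ hcN.symm) hdim)

end Groth.Agent.S18084
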