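import Groth.Statements.S1809
import Groth.Agent.DualCxLib.SchStalk
-- import your own Groth.Agent.* helpers here

set_option autoImplicit false
universe u
open CategoryTheory CategoryTheory.Limits AlgebraicGeometry
attribute [local instance] HasDerivedCategory.standard
open Dual

open Groth.Agent
namespace Groth.Agent.S1809

/-- Let X be a locally Noetherian scheme and ω a dualizing complex on X (affine-locally the derived
tilde of a dualizing complex of the ring; exactness of restriction of module sheaves to opens and of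
M ↦ M~ is assumed through instance binders). Then for every point x the local ring O_{X,x} is
Cohen–Macaulay if and only if exactly one cohomology sheaf of ω has nonzero stalk at x; and the set
of points whose local ring is Cohen–Macaulay is open. -/
theorem result (X : Scheme.{u}) [IsLocallyNoetherian X] [∀ (U : Scheme.{u}) (j : U ⟶ X) [IsOpenImmersion j], PreservesFiniteLimits (Scheme.Modules.restrictFunctor j)] [∀ (R : CommRingCat.{u}), PreservesFiniteLimits (tilde.functor R)] (ω : DCoh.D X) (hω : Dual2.IsDualizingSch X ω) : (∀ x : X, LocCoh.IsCohenMacaulayLocalRing (X.presheaf.stalk x) ↔ ∃! i : ℤ, Nontrivial ((DCoh.HD ω i).presheaf.stalk x)) ∧ IsOpen {x : X | LocCoh.IsCohenMacaulayLocalRing (X.presheaf.stalk x)} := by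
  have key : ∀ x : X, ∃ (A : Type u) (_ : CommRing A) (j : Spec (CommRingCat.of A) ⟶ X) (_ : IsOpenImmersion j)
      (p : PrimeSpectrum A), j p = x := by
    intro x
    obtain ⟨U, hU, hxU, -⟩ := exists_isAffineOpen_mem_and_subset (X := X) (x := x) (U := ⊤) trivial
    exact ⟨Γ(X, U), inferInstance, hU.fromSpec, inferInstanceAs (IsOpenImmersion hU.fromSpec),
      hU.primeIdealOf ⟨x, hxU⟩, hU.fromSpec_primeIdealOf ⟨x, hxU⟩⟩
  refine ⟨fun x => ?_, isOpen_iff_forall_mem_open.2 fun x hx => ?_⟩
  · obtain ⟨A, _, j, _, p, rfl⟩ := key x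
    obtain ⟨ωA, hωA, ⟨e⟩⟩ := hω A j
    haveI := hωA.isNoetherianRing
    rw [DualCxLib.cm_stalk_iff, DualCxLib.cm_localization_iff hωA]
    simp only [DualCxLib.nontrivial_stalk_HD_iff j e]
  · obtain ⟨A, _, j, _, p, rfl⟩ := key x
    obtain ⟨ωA, hωA, -⟩ := hω A j
    haveI := hωA.isNoetherianRing
    refine ⟨j '' {q | LocCoh.IsCohenMacaulayLocalRing (Localization.AtPrime q.asIdeal)}, ?_,
      j.isOpenEmbedding.isOpenMap _ (DualCxLib.isOpen_cmLocus hωA), ⟨p, (DualCxLib.cm_stalk_iff j p).1 hx, rfl⟩⟩
    rintro _ ⟨q, hq, rfl⟩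
    exact (DualCxLib.cm_stalk_iff j q).2 hq

end Groth.Agent.S1809
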