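import Groth.Statements.S18094
import Groth.Agent.AffSpecLib.Unip2

set_option autoImplicit false
universe u
open CategoryTheory MonoidalCategory CartesianMonoidalCategory MonObj GrpObj AlgebraicGeometry CategoryTheory.Limits
open AlgGrp

attribute [-instance] CategoryTheory.CommGrpObj.toIsCommMonObj CategoryTheory.CommGrpObj.toGrpObj CategoryTheory.Hom.commGroup

namespace Groth.Agent.S18094

/-- Let S be a scheme and G an S-group scheme of finite presentation; for s ∈ S let d_cu(s) be the
largest dimension of a smooth connected affine commutative unipotent closed subgroup of the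
geometric fibre of G at s, unipotent meaning without non-trivial subtorus. Then d_cu does not
decrease under specialization: for every natural number n, if s specializes to s' (that is, s' lies
in the closure of s) and d_cu(s) ≥ n, then d_cu(s') ≥ n. (The published statement asserts that d_cu
is upper semicontinuous on S, i.e. that the set of points s with d_cu(s) ≥ n is closed; the
published argument reduces to the spectrum of an integral local ring and establishes that this set
is stable under specialization, which is what is stated here. Closedness would in addition need the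
set to be locally constructible, which the argument does not address.) -/
theorem result (S : Scheme.{u}) (G : Over S) [GrpObj G]
    [LocallyOfFinitePresentation G.hom] [QuasiCompact G.hom] [QuasiSeparated G.hom] (n : ℕ) :
    StableUnderSpecialization {s : ↥S | ∃ (H : Over (Spec (CommRingCat.of (AlgebraicClosure (S.residueField s))))) (_ : GrpObj H)
      (i : H ⟶ Red.geomFibre s G), IsMonHom i ∧ IsClosedImmersion i.left ∧ Smooth H.hom ∧ IsAffine H.left ∧
      ConnectedSpace ↥H.left ∧ IsCommMonObj H ∧ Red.HasNoSubtorus (AlgebraicClosure (S.residueField s)) H ∧ (n : WithBot ℕ∞) ≤ topologicalKrullDim ↥H.left} := by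
  rintro s s' h ⟨H, hH, i, hi, hci, hsm, haff, hconn, hc, hnt, hn⟩
  letI := hH
  haveI := hi
  haveI := hci
  haveI := hsm
  haveI := haff
  haveI := hconn
  obtain ⟨Γ, hΓ, i', hi', hci', hsm', hconn', haff', hF, hn', hu⟩ :=
    AffSpecLib.exists_specialized_affine G n h (SubgSpecLib.lcs 1) H i
      (fun T => SubgSpecLib.lcs_one_top.2 ((GenSubLib.isCommMonObj_iff H).1 hc T)) hn
  letI := hΓ
  haveI := hsm'
  haveI := haff'
  haveI := hconn'
  exact ⟨Γ, hΓ, i', hi', hci', hsm', haff', hconn', SubgSpecLib.isCommMonObj_of_pts Γ (SubgSpecLib.lcs_one_top.1 hF),
    AffSpecLib.hasNoSubtorus_of_hasUnipTrans Γ (hu (AffSpecLib.isUnipAct_of_hasNoSubtorus H hnt)), hn'⟩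

end Groth.Agent.S18094
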