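import Groth.Statements.S18097
import Groth.Agent.SubgSpecLib.Ext
import Groth.Agent.FixedSmooth.Split

set_option linter.style.haveILetI false
set_option backward.isDefEq.respectTransparency false

set_option autoImplicit false
universe u
open CategoryTheory MonoidalCategory CartesianMonoidalCategory MonObj GrpObj AlgebraicGeometry CategoryTheory.Limits
open AlgGrp

namespace Groth.Agent.S18097

/-- Let k be an algebraically closed field, F an algebraically closed field extension of k, G an
algebraic k-group (a k-group scheme of finite type) and d a natural number. Then G_F contains a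
smooth connected solvable closed subgroup of dimension at least d if and only if G does; that is,
D'_s(k, G) = D'_s(F, G). -/
theorem result (k : Type u) [Field k] [IsAlgClosed k]
    (F : Type u) [Field F] [IsAlgClosed F] [Algebra k F]
    (G : Over (Spec (CommRingCat.of k))) [GrpObj G] [LocallyOfFiniteType G.hom] [QuasiCompact G.hom] (d : ℕ) :
    (∃ (U : Over (Spec (CommRingCat.of F))) (_ : GrpObj U) (i : U ⟶ Red.bc (Spec.map (CommRingCat.ofHom (algebraMap k F))) G), IsMonHom i ∧ IsClosedImmersion i.left ∧
        Smooth U.hom ∧ ConnectedSpace ↥U.left ∧ Red.IsSolvableGrp U ∧ (d : WithBot ℕ∞) ≤ topologicalKrullDim ↥U.left) ↔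
    (∃ (U : Over (Spec (CommRingCat.of k))) (_ : GrpObj U) (i : U ⟶ G), IsMonHom i ∧ IsClosedImmersion i.left ∧
        Smooth U.hom ∧ ConnectedSpace ↥U.left ∧ Red.IsSolvableGrp U ∧ (d : WithBot ℕ∞) ≤ topologicalKrullDim ↥U.left) := by
  let σ := Spec.map (CommRingCat.ofHom (algebraMap k F))
  constructor
  · rintro ⟨H, hH, i, hi, hci, hsm, hconn, ⟨m, hm⟩, hn⟩
    letI := hH
    haveI := hi
    haveI := hci
    haveI := hsm
    haveI := hconn
    obtain ⟨Γ, hΓ, i', hi', hci', hsm', hconn', hqc', hF, hn'⟩ :=
      SubgSpecLib.exists_descended F G d (SubgSpecLib.derived m) H i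
        (fun T => (SubgSpecLib.derived_top m).trans (hm T)) hn
    letI := hΓ
    haveI := hsm'
    haveI := hqc'
    exact ⟨Γ, hΓ, i', hi', hci', hsm', hconn',
      (SolvLocusLib.isSolvableGrp_iff_pts Γ).2 ⟨m, (SubgSpecLib.derived_top m).symm.trans hF⟩, hn'⟩
  · rintro ⟨U, hU, i, hi, hci, hsm, hconn, hsol, hn⟩
    letI := hU
    haveI := hi
    haveI := hci
    haveI := hsm
    haveI := hconn
    haveI : LocallyOfFiniteType U.hom := inferInstance
    haveI : GeometricallyConnected U.hom := GeomIrred.geometricallyConnected_of_connectedSpace U.hom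
    refine ⟨Red.bc σ U, inferInstance, (Over.pullback σ).map i, inferInstance,
      MorphismProperty.of_isPullback (P := @IsClosedImmersion) (FixedSmooth.isPullback_bc σ i) hci, MorphismProperty.pullback_snd _ _ hsm, ?_,
      (GenSubLib.isSolvableGrp_bc_iff F U).2 hsol, ?_⟩
    · show ConnectedSpace ↥(pullback U.hom σ)
      infer_instance
    · refine hn.trans (le_of_eq ?_)
      rw [Neutral.dim_bc_field σ]
      have h : U.hom ⁻¹' {σ (IsLocalRing.closedPoint F)} = Set.univ :=
        Set.eq_univ_of_forall fun x => Subsingleton.elim (α := PrimeSpectrum k) _ _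
      rw [h]
      exact (Homeomorph.Set.univ U.left).symm.isHomeomorph.topologicalKrullDim_eq

end Groth.Agent.S18097
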