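import Groth.Statements.S18101
import Groth.Agent.AntiAffActLib.Main
import Groth.Agent.S14577

set_option autoImplicit false
universe u
open CategoryTheory MonoidalCategory CartesianMonoidalCategory MonObj GrpObj AlgebraicGeometry CategoryTheory.Limits
open AlgGrp

namespace Groth.Agent.S18101

/-- Let k be a field and G a k-group scheme of finite type. Then G is anti-affine, i.e. O(G) = k, if and
only if every action of G on a variety having a fixed point is trivial; the fixed point is taken
k-rational here (the published condition allows any closed fixed point, which gives a formally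
stronger necessary condition; the equivalence with a rational fixed point is what the published
argument through linear representations yields). -/
theorem result (k : Type u) [Field k]
    (G : Over (Spec (CommRingCat.of k))) [GrpObj G] [LocallyOfFiniteType G.hom] [QuasiCompact G.hom] :
    Function.Bijective ((Scheme.ΓSpecIso (CommRingCat.of k)).inv ≫ G.hom.appTop).hom ↔
      ∀ (X : Over (Spec (CommRingCat.of k))) [LocallyOfFiniteType X.hom] [QuasiCompact X.hom] [IsSeparated X.hom] [GeometricallyIntegral X.hom]
        (a : AlgGrp.Action G X) (x : 𝟙_ (Over (Spec (CommRingCat.of k))) ⟶ X), a.IsFixedPt x → a.act = snd G X := by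
  refine ⟨fun hG X _ _ _ _ a x hx => ?_, fun h => AntiAffActLib.bijective_of_forall G fun n a x hx => ?_⟩
  · haveI : IsSeparated G.hom := GrpSchLib.isSeparated_hom
    haveI : IsLocallyNoetherian X.left := LocallyOfFiniteType.isLocallyNoetherian X.hom
    haveI : IsIntegral X.left := GeometricallyIntegral.isIntegral_of_subsingleton X.hom
    have h0 : lift η[G] x ≫ a.act = x := by
      have := hx (𝟙_ _) η[G]
      rwa [toUnit_unique (toUnit (𝟙_ (Over (Spec (CommRingCat.of k))))) (𝟙 _), Category.id_comp] at this
    have h1 := Groth.Agent.S14577.result k G X X hG η[G] x a.act (by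
      rw [h0]
      have := hx (G ⊗ 𝟙_ _) (fst _ _)
      rw [← this]
      congr 1
      apply CartesianMonoidalCategory.hom_ext
      · simp
      · rw [whiskerLeft_snd, lift_snd, toUnit_unique (snd G (𝟙_ _)) (toUnit _)])
    rw [h1, ← Hom.one_def, a.lift_one_act, Category.comp_id]
  · haveI : LocallyOfFiniteType (Over.mk (𝔸(ULift.{u} (Fin n); Spec (CommRingCat.of k)) ↘ Spec (CommRingCat.of k))).hom :=
      inferInstanceAs (LocallyOfFiniteType (𝔸(ULift.{u} (Fin n); Spec (CommRingCat.of k)) ↘ Spec (CommRingCat.of k)))
    haveI : QuasiCompact (Over.mk (𝔸(ULift.{u} (Fin n); Spec (CommRingCat.of k)) ↘ Spec (CommRingCat.of k))).hom :=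
      inferInstanceAs (QuasiCompact (𝔸(ULift.{u} (Fin n); Spec (CommRingCat.of k)) ↘ Spec (CommRingCat.of k)))
    haveI : IsSeparated (Over.mk (𝔸(ULift.{u} (Fin n); Spec (CommRingCat.of k)) ↘ Spec (CommRingCat.of k))).hom :=
      inferInstanceAs (IsSeparated (𝔸(ULift.{u} (Fin n); Spec (CommRingCat.of k)) ↘ Spec (CommRingCat.of k)))
    haveI : GeometricallyIntegral (Over.mk (𝔸(ULift.{u} (Fin n); Spec (CommRingCat.of k)) ↘ Spec (CommRingCat.of k))).hom :=
      inferInstanceAs (GeometricallyIntegral (𝔸(ULift.{u} (Fin n); Spec (CommRingCat.of k)) ↘ Spec (CommRingCat.of k)))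
    exact h _ a x hx

end Groth.Agent.S18101
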