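import Groth.Statements.S18103
import Groth.Agent.DerivDimLib.Base
import Groth.Agent.Neutral.Smooth

set_option autoImplicit false
universe u
open CategoryTheory MonoidalCategory CartesianMonoidalCategory MonObj GrpObj AlgebraicGeometry CategoryTheory.Limits
open AlgGrp

namespace Groth.Agent.S18103

/-- Let S be a scheme and G a smooth S-group scheme of finite presentation; for s ∈ S let d_0(s) be the
dimension of the derived group of the identity component of the geometric fibre of G at s, i.e. the
least dimension of a closed subgroup scheme N of the identity component C (the connected open and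
closed subgroup scheme) which is normal in C and contains all commutators of points of C. Then d_0
does not increase under specialization: for every natural number n, if s specializes to s' (that is,
s' lies in the closure of s) and d_0(s) ≤ n, then d_0(s') ≤ n. (The published statement asserts that
d_0 is lower semicontinuous on S, i.e. that the set of points s with d_0(s) ≤ n is closed; the
published argument reduces to the spectrum of an integral local ring and establishes that this set
is stable under specialization, which is what is stated here. Closedness would in addition need the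
set to be locally constructible, which the argument does not address.) -/
theorem result (S : Scheme.{u}) (G : Over S) [GrpObj G]
    [Smooth G.hom] [QuasiCompact G.hom] [QuasiSeparated G.hom] (n : ℕ) :
    StableUnderSpecialization {s : ↥S | ∃ (C : Over (Spec (CommRingCat.of (AlgebraicClosure (S.residueField s))))) (_ : GrpObj C) (c : C ⟶ Red.geomFibre s G)
      (N : Over (Spec (CommRingCat.of (AlgebraicClosure (S.residueField s))))) (_ : GrpObj N) (i : N ⟶ C),
      IsMonHom c ∧ IsOpenImmersion c.left ∧ IsClosedImmersion c.left ∧ ConnectedSpace ↥C.left ∧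
      IsMonHom i ∧ IsClosedImmersion i.left ∧ AlgGrp.IsNormalHom i ∧
      (∀ (T : Over (Spec (CommRingCat.of (AlgebraicClosure (S.residueField s))))) (g h : T ⟶ C), ∃ m : T ⟶ N, g * h * g⁻¹ * h⁻¹ = m ≫ i) ∧
      topologicalKrullDim ↥N.left ≤ (n : WithBot ℕ∞)} := by
  obtain ⟨-, G0, hG0, j, hj, hjo, hjr, hjs, hjq⟩ :=
    Neutral.exists_neutralComponent (G := G) ⊤ (fun _ => trivial)
  letI := hG0
  haveI := hj
  haveI := hjo
  haveI := hjs
  haveI := hjq
  suffices h : ∀ s : ↥S, (∃ (C : Over (Spec (CommRingCat.of (AlgebraicClosure (S.residueField s))))) (_ : GrpObj C) (c : C ⟶ Red.geomFibre s G)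
      (N : Over (Spec (CommRingCat.of (AlgebraicClosure (S.residueField s))))) (_ : GrpObj N) (i : N ⟶ C),
      IsMonHom c ∧ IsOpenImmersion c.left ∧ IsClosedImmersion c.left ∧ ConnectedSpace ↥C.left ∧
      IsMonHom i ∧ IsClosedImmersion i.left ∧ AlgGrp.IsNormalHom i ∧
      (∀ (T : Over (Spec (CommRingCat.of (AlgebraicClosure (S.residueField s))))) (g h : T ⟶ C), ∃ m : T ⟶ N, g * h * g⁻¹ * h⁻¹ = m ≫ i) ∧
      topologicalKrullDim ↥N.left ≤ (n : WithBot ℕ∞)) ↔ s ∈ DerivDimLib.locus G0 n by
    exact (Set.ext h : _ = DerivDimLib.locus G0 n) ▸ DerivDimLib.stableUnderSpecialization_locus G0 n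
  intro s
  let z := Red.geomPt s
  have hz : ∀ p, z p = s := fun p => by
    rw [Scheme.Hom.comp_apply]
    exact Scheme.fromSpecResidueField_apply s _
  rw [← DerivDimLib.mem_locus_iff G0 z s hz n]
  let jz := (Over.pullback z).map j
  haveI : IsOpenImmersion jz.left :=
    MorphismProperty.of_isPullback (P := @IsOpenImmersion) (GenSubLib.isPullback_map z j).flip hjo
  haveI : Smooth (Red.bc z G).hom := MorphismProperty.pullback_snd _ _ ‹Smooth G.hom›
  have hr : Set.range jz.left = connectedComponent (GrpSchLib.unitPt (Red.bc z G)) := by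
    rw [← Neutral.neutralSet_field, Neutral.neutralSet_bc, ← hjr]
    ext x
    constructor
    · rintro ⟨y, rfl⟩
      exact ⟨pullback.fst G0.hom z y, (congrArg (fun φ => φ y) (GenSubLib.isPullback_map z j).w).symm⟩
    · rintro ⟨y, hy⟩
      obtain ⟨v, hv, -⟩ := Scheme.exists_preimage_of_isPullback (GenSubLib.isPullback_map z j) x y hy.symm
      exact ⟨v, hv⟩
  -- the unit component is unique
  have huniq : ∀ (C : Over (Spec (CommRingCat.of (AlgebraicClosure (S.residueField s))))) [GrpObj C]
      (c : C ⟶ Red.bc z G) [IsMonHom c] [IsOpenImmersion c.left] [IsClosedImmersion c.left] [ConnectedSpace ↥C.left],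
      Set.range c.left = connectedComponent (GrpSchLib.unitPt (Red.bc z G)) := by
    intro C _ c _ _ _ _
    have h1 : GrpSchLib.unitPt (Red.bc z G) ∈ Set.range c.left := by
      refine ⟨GrpSchLib.unitPt C, ?_⟩
      exact congrArg (fun φ => φ.left (IsLocalRing.closedPoint _)) (IsMonHom.one_hom c)
    refine Set.Subset.antisymm ((isPreconnected_range c.left.continuous).subset_connectedComponent h1) ?_
    exact IsClopen.connectedComponent_subset
      ⟨c.left.isClosedEmbedding.isClosed_range, c.left.isOpenEmbedding.isOpen_range⟩ h1
  constructor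
  · rintro ⟨C, hC, c, N, hN, i, hc, hco, hcc, hCc, hi, hic, hin, hcomm, hdim⟩
    letI := hC
    haveI := hc
    haveI := hco
    haveI := hcc
    haveI := hCc
    letI := hN
    haveI := hi
    haveI := hic
    have hsame : Set.range c.left = Set.range jz.left := (huniq C c).trans hr.symm
    let eL := IsOpenImmersion.isoOfRangeEq c.left jz.left hsame
    have heL : eL.hom ≫ jz.left = c.left := IsOpenImmersion.isoOfRangeEq_hom_fac _ _ _
    let e : C ≅ Red.bc z G0 := Over.isoMk eL (by rw [← Over.w jz, ← Category.assoc, heL, Over.w c])
    have he : e.hom ≫ jz = c := Over.OverMorphism.ext heL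
    haveI : Mono jz := Over.mono_of_mono_left jz
    haveI : IsMonHom e.hom :=
      { one_hom := by rw [← cancel_mono jz, Category.assoc, he, IsMonHom.one_hom c, IsMonHom.one_hom jz]
        mul_hom := by
          rw [← cancel_mono jz, Category.assoc, he, IsMonHom.mul_hom c, Category.assoc, IsMonHom.mul_hom jz,
            ← Category.assoc, MonoidalCategory.tensorHom_comp_tensorHom, he] }
    refine ⟨N, hN, i ≫ e.hom, inferInstance, ?_, ?_, ?_, hdim⟩
    · rw [Over.comp_left]; infer_instance
    · intro T g x
      obtain ⟨x', hx'⟩ := hin T (g ≫ e.inv) x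
      refine ⟨x', ?_⟩
      have := congrArg (· ≫ e.hom) hx'
      simp only [MonObj.mul_comp, GrpObj.inv_comp, Category.assoc, Iso.inv_hom_id, Category.comp_id] at this
      exact this
    · intro T g h
      obtain ⟨m, hm⟩ := hcomm T (g ≫ e.inv) (h ≫ e.inv)
      refine ⟨m, ?_⟩
      have := congrArg (· ≫ e.hom) hm
      simp only [MonObj.mul_comp, GrpObj.inv_comp, Category.assoc, Iso.inv_hom_id, Category.comp_id] at this
      exact this
  · rintro ⟨N, hN, i, hi, hic, hin, hcomm, hdim⟩
    haveI : IsClosedImmersion jz.left := IsClosedImmersion.of_isPreimmersion _ (hr ▸ isClosed_connectedComponent)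
    haveI : ConnectedSpace ↥(Red.bc z G0).left := by
      have hpc : _root_.IsPreconnected (Set.univ : Set ↥(Red.bc z G0).left) :=
        jz.left.isOpenEmbedding.isInducing.isPreconnected_image.1 (by
          rw [Set.image_univ, hr]; exact isPreconnected_connectedComponent)
      rw [connectedSpace_iff_univ]
      exact ⟨⟨GrpSchLib.unitPt (Red.bc z G0), trivial⟩, hpc⟩
    exact ⟨Red.bc z G0, inferInstance, jz, N, hN, i, inferInstance, inferInstance, inferInstance, inferInstance,
      hi, hic, hin, hcomm, hdim⟩

end Groth.Agent.S18103
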