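import Groth.Statements.S18121
import Mathlib
set_option backward.isDefEq.respectTransparency false
set_option backward.isDefEq.respectTransparency.types false

set_option autoImplicit false
universe u
open Pinch

namespace Groth.Agent.S18121

/-- Let B be a commutative ring, b an element of B, B' := B[z]/(z^2 - b) the rank-two B-algebra with z^2
= b, and Ψ : B[u, v] → B'[t] the B-algebra homomorphism with u ↦ z t and v ↦ t. Then the kernel of Ψ
is the principal ideal generated by u^2 - b v^2, and a polynomial of B'[t] lies in the image of Ψ as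
soon as its constant coefficient lies in B. Equivalently, B[u, v]/(u^2 - b v^2) is the fibre product
of B'[t] and B over B' (for t ↦ 0 and the inclusion of B): the pinching of Spec B' × 𝔸¹ along Spec
B' × {0} by the double cover Spec B' → Spec B is the hypersurface u^2 = b v^2 over B; for B = K[w]
and b = w this is the pinch point u^2 = v^2 w. -/
theorem result (B : Type u) [CommRing B] (b : B) :
    letI Ψ : MvPolynomial (Fin 2) B →ₐ[B] Polynomial (AdjoinRoot (Polynomial.X ^ 2 - Polynomial.C b)) :=
      MvPolynomial.aeval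
        ![Polynomial.C (AdjoinRoot.root (Polynomial.X ^ 2 - Polynomial.C b)) * Polynomial.X, Polynomial.X]
    RingHom.ker Ψ.toRingHom =
        Ideal.span {MvPolynomial.X 0 ^ 2 - MvPolynomial.C b * MvPolynomial.X 1 ^ 2} ∧
      ∀ G : Polynomial (AdjoinRoot (Polynomial.X ^ 2 - Polynomial.C b)),
        (∃ c : B, G.coeff 0 = algebraMap B (AdjoinRoot (Polynomial.X ^ 2 - Polynomial.C b)) c) →
          G ∈ Ψ.range := by
  let Ψ : MvPolynomial (Fin 2) B →ₐ[B] Polynomial (AdjoinRoot (Polynomial.X ^ 2 - Polynomial.C b)) :=
    MvPolynomial.aeval ![Polynomial.C (AdjoinRoot.root (Polynomial.X ^ 2 - Polynomial.C b)) * Polynomial.X, Polynomial.X]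
  change RingHom.ker Ψ.toRingHom = Ideal.span {MvPolynomial.X 0 ^ 2 - MvPolynomial.C b * MvPolynomial.X 1 ^ 2} ∧
    ∀ G : Polynomial (AdjoinRoot (Polynomial.X ^ 2 - Polynomial.C b)),
      (∃ c : B, G.coeff 0 = algebraMap B (AdjoinRoot (Polynomial.X ^ 2 - Polynomial.C b)) c) → G ∈ Ψ.range
  let q : Polynomial B := Polynomial.X ^ 2 - Polynomial.C b
  have hq : q = Polynomial.X ^ 2 - Polynomial.C b := rfl
  let z : AdjoinRoot q := AdjoinRoot.root q
  have hz : z = AdjoinRoot.root q := rfl
  have hz2 : z ^ 2 = algebraMap B (AdjoinRoot q) b := by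
    have h := AdjoinRoot.eval₂_root q
    simp only [hq, Polynomial.eval₂_sub, Polynomial.eval₂_X_pow, Polynomial.eval₂_C] at h
    exact sub_eq_zero.mp h
  have hu : Ψ (MvPolynomial.X 0) = Polynomial.C z * Polynomial.X := MvPolynomial.aeval_X _ _
  have hv : Ψ (MvPolynomial.X 1) = Polynomial.X := MvPolynomial.aeval_X _ _
  have hcoef : ∀ p r : B, algebraMap B (AdjoinRoot q) p + z * algebraMap B (AdjoinRoot q) r = 0 → p = 0 ∧ r = 0 := by
    intro p r h
    rcases subsingleton_or_nontrivial B with hB | hB
    · exact ⟨Subsingleton.elim _ _, Subsingleton.elim _ _⟩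
    have hm : q.Monic := Polynomial.monic_X_pow_sub_C b (by norm_num)
    have h' : AdjoinRoot.mk q (Polynomial.C p + Polynomial.C r * Polynomial.X) = 0 := by
      rw [map_add, map_mul, AdjoinRoot.mk_C, AdjoinRoot.mk_C, AdjoinRoot.mk_X, mul_comm]
      exact h
    rw [AdjoinRoot.mk_eq_zero] at h'
    have h0 : Polynomial.C p + Polynomial.C r * Polynomial.X = 0 := by
      by_contra hne
      refine hm.not_dvd_of_degree_lt hne (lt_of_le_of_lt ?_ (show (1 : WithBot ℕ) < q.degree from ?_)) h'
      · refine (Polynomial.degree_add_le _ _).trans (max_le (Polynomial.degree_C_le.trans (by norm_num)) ?_)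
        exact (Polynomial.degree_C_mul_X_le r)
      · rw [hq, Polynomial.degree_X_pow_sub_C (by norm_num)]
        norm_num
    exact ⟨by simpa using congrArg (Polynomial.coeff · 0) h0, by simpa using congrArg (Polynomial.coeff · 1) h0⟩
  set I : Ideal (MvPolynomial (Fin 2) B) :=
    Ideal.span {MvPolynomial.X 0 ^ 2 - MvPolynomial.C b * MvPolynomial.X 1 ^ 2} with hI
  have hIker : I ≤ RingHom.ker Ψ.toRingHom := by
    rw [hI, Ideal.span_le, Set.singleton_subset_iff, SetLike.mem_coe, RingHom.mem_ker]
    show Ψ _ = 0
    rw [map_sub, map_mul, map_pow, map_pow, hu, hv, MvPolynomial.algHom_C, mul_pow, ← map_pow, hz2]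
    simp
    exact sub_self _
  have hdiv : ∀ G : MvPolynomial (Fin 2) B, ∃ P R : Polynomial B,
      G - (Polynomial.aeval (MvPolynomial.X 1) P + MvPolynomial.X 0 * Polynomial.aeval (MvPolynomial.X 1) R) ∈ I := by
    intro G
    induction G using MvPolynomial.induction_on with
    | C c => exact ⟨Polynomial.C c, 0, by simp⟩
    | add f g hf hg =>
      obtain ⟨P, R, h⟩ := hf
      obtain ⟨P', R', h'⟩ := hg
      refine ⟨P + P', R + R', ?_⟩
      have := I.add_mem h h'
      convert this using 1
      simp only [map_add]; ring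
    | mul_X f i hf =>
      obtain ⟨P, R, h⟩ := hf
      fin_cases i
      · refine ⟨Polynomial.C b * Polynomial.X ^ 2 * R, P, ?_⟩
        have h2 : (MvPolynomial.X 0 ^ 2 - MvPolynomial.C b * MvPolynomial.X 1 ^ 2) *
            Polynomial.aeval (MvPolynomial.X 1) R ∈ I := Ideal.mul_mem_right _ _ (Ideal.subset_span rfl)
        have := I.add_mem (I.mul_mem_right (MvPolynomial.X 0) h) h2
        convert this using 1
        simp only [map_mul, map_pow, Polynomial.aeval_X, Polynomial.aeval_C, MvPolynomial.algebraMap_eq, Fin.zero_eta]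
        ring
      · refine ⟨Polynomial.X * P, Polynomial.X * R, ?_⟩
        have := I.mul_mem_right (MvPolynomial.X 1) h
        convert this using 1
        simp only [map_mul, Polynomial.aeval_X, Fin.mk_one]
        ring
  refine ⟨le_antisymm (fun G hG => ?_) hIker, fun G ⟨c, hc⟩ => ?_⟩
  · obtain ⟨P, R, h⟩ := hdiv G
    have h0 : Ψ (Polynomial.aeval (MvPolynomial.X 1) P + MvPolynomial.X 0 * Polynomial.aeval (MvPolynomial.X 1) R) = 0 := by
      have := hIker h
      rw [RingHom.mem_ker, map_sub, RingHom.mem_ker.mp hG, zero_sub, neg_eq_zero] at this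
      exact this
    rw [map_add, map_mul, ← Polynomial.aeval_algHom_apply, ← Polynomial.aeval_algHom_apply, hu, hv] at h0
    have hmap : ∀ P : Polynomial B, Polynomial.aeval (Polynomial.X : Polynomial (AdjoinRoot q)) P =
        P.map (algebraMap B (AdjoinRoot q)) := fun P => by
      induction P using Polynomial.induction_on' with
      | add f g hf hg => simp [hf, hg]
      | monomial n a => rw [Polynomial.aeval_monomial, Polynomial.map_monomial, ← Polynomial.C_mul_X_pow_eq_monomial]; rfl
    rw [hmap, hmap] at h0
    have key : ∀ n, P.coeff (n + 1) = 0 ∧ R.coeff n = 0 := fun n => by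
      refine hcoef _ _ ?_
      have := congrArg (Polynomial.coeff · (n + 1)) h0
      simp only [Polynomial.coeff_add, Polynomial.coeff_zero, mul_assoc] at this
      erw [Polynomial.coeff_C_mul, Polynomial.coeff_X_mul, Polynomial.coeff_map, Polynomial.coeff_map] at this
      exact this
    have hP0 : P.coeff 0 = 0 := (hcoef _ 0 (by
      have := congrArg (Polynomial.coeff · 0) h0
      simpa [mul_assoc, Polynomial.coeff_C_mul] using this)).1
    have hP : P = 0 := Polynomial.ext fun n => by cases n with
      | zero => simpa using hP0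
      | succ n => simpa using (key n).1
    have hR : R = 0 := Polynomial.ext fun n => by simpa using (key n).2
    simpa [hP, hR] using h
  · rw [← G.sum_monomial_eq]
    refine sum_mem fun n _ => ?_
    have hB : ∀ p : B, Polynomial.C (algebraMap B (AdjoinRoot q) p) ∈ Ψ.range := fun p =>
      ⟨MvPolynomial.C p, by simp only [AlgHom.toRingHom_eq_coe, RingHom.coe_coe, MvPolynomial.algHom_C]; rfl⟩
    show Polynomial.monomial n (G.coeff n) ∈ Ψ.range
    rw [← Polynomial.C_mul_X_pow_eq_monomial]
    cases n with
    | zero => rw [pow_zero, mul_one, hc]; exact hB c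
    | succ n =>
      obtain ⟨F, hF⟩ := AdjoinRoot.mk_surjective (G.coeff (n + 1))
      rw [← hF]
      clear hF
      induction F using Polynomial.induction_on' with
      | add f g hf hg => rw [map_add, map_add, add_mul]; exact add_mem hf hg
      | monomial k a =>
        rw [← Polynomial.C_mul_X_pow_eq_monomial, map_mul, map_pow, AdjoinRoot.mk_C, AdjoinRoot.mk_X, ← hz]
        rcases Nat.even_or_odd' k with ⟨j, rfl | rfl⟩
        · rw [pow_mul, hz2, ← AdjoinRoot.algebraMap_eq, ← map_pow, ← map_mul]
          exact mul_mem (hB _) (pow_mem (show Polynomial.X ∈ Ψ.range from ⟨_, hv⟩) _)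
        · rw [pow_succ z, pow_mul, hz2, ← AdjoinRoot.algebraMap_eq, ← map_pow, ← mul_assoc (algebraMap B (AdjoinRoot q) a),
            ← map_mul, Polynomial.C_mul, pow_succ' Polynomial.X n,
            show ∀ x y w v : Polynomial (AdjoinRoot q), x * y * (w * v) = x * (y * w) * v by intros; ring]
          exact mul_mem (mul_mem (hB _) (show Polynomial.C z * Polynomial.X ∈ Ψ.range from ⟨_, hu⟩)) (pow_mem (show Polynomial.X ∈ Ψ.range from ⟨_, hv⟩) _)

end Groth.Agent.S18121
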