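import Groth.Statements.S18122
import Mathlib
set_option backward.isDefEq.respectTransparency false
set_option backward.isDefEq.respectTransparency.types false

set_option autoImplicit false
universe u
open Pinch

namespace Groth.Agent.S18122

/-- Let K be a field in which 2 ≠ 0, S = K[x, y], and R ⊆ S the K-subalgebra generated by x^2, x y and
y; R is the coordinate ring of the pinch point u^2 = v^2 w (u = x y, v = y, w = x^2) and S is its
normalization. Then restriction along R ⊆ S is a bijection from the K-derivations S → S onto the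
K-derivations R → S: every K-derivation R → S extends uniquely to S. In sheaf terms, the natural
injective map from the tangent sheaf of the normalization to the dual of the pulled-back sheaf of
differentials of the pinch point is an isomorphism. (The text works over an algebraically closed
field of characteristic different from 2 and for every semi-smooth variety; only this model case is
stated, and the computation uses only 2 ≠ 0.) -/
theorem result
    (K : Type u) [Field K] [NeZero (2 : K)] :
    letI R : Subalgebra K (MvPolynomial (Fin 2) K) :=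
      Algebra.adjoin K {MvPolynomial.X 0 ^ 2, MvPolynomial.X 0 * MvPolynomial.X 1, MvPolynomial.X 1}
    ∀ δ : Derivation K R (MvPolynomial (Fin 2) K),
      ∃! D : Derivation K (MvPolynomial (Fin 2) K) (MvPolynomial (Fin 2) K),
        ∀ r : R, D (r : MvPolynomial (Fin 2) K) = δ r := by
  let R : Subalgebra K (MvPolynomial (Fin 2) K) :=
    Algebra.adjoin K {MvPolynomial.X 0 ^ 2, MvPolynomial.X 0 * MvPolynomial.X 1, MvPolynomial.X 1}
  change ∀ δ : Derivation K R (MvPolynomial (Fin 2) K),
    ∃! D : Derivation K (MvPolynomial (Fin 2) K) (MvPolynomial (Fin 2) K),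
      ∀ r : R, D (r : MvPolynomial (Fin 2) K) = δ r
  intro δ
  let S := MvPolynomial (Fin 2) K
  let x : S := MvPolynomial.X 0
  let y : S := MvPolynomial.X 1
  have h2 : (2 : S) ≠ 0 := by
    rw [← map_ofNat MvPolynomial.C 2, Ne, map_eq_zero]
    exact two_ne_zero
  have hs : x ^ 2 ∈ R := Algebra.subset_adjoin (by simp [x])
  have ht : x * y ∈ R := Algebra.subset_adjoin (by simp [x, y])
  have hy : y ∈ R := Algebra.subset_adjoin (by simp [y])
  have hx0 : x ≠ 0 := MvPolynomial.X_ne_zero _
  have hy0 : y ≠ 0 := MvPolynomial.X_ne_zero _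
  have rel : (⟨x * y, ht⟩ : R) * ⟨x * y, ht⟩ = ⟨x ^ 2, hs⟩ * (⟨y, hy⟩ * ⟨y, hy⟩) :=
    Subtype.ext (by simp; ring)
  have key := congrArg δ rel
  simp only [Derivation.leibniz, Subalgebra.smul_def, smul_eq_mul, MulMemClass.coe_mul] at key
  have hdvd : x ∣ δ ⟨x ^ 2, hs⟩ := by
    have h : x ∣ y * y * δ ⟨x ^ 2, hs⟩ :=
      ⟨2 * y * δ ⟨x * y, ht⟩ - 2 * x * y * δ ⟨y, hy⟩, by linear_combination -key⟩
    have hxy : ¬ x ∣ y := fun h => absurd (MvPolynomial.X_dvd_X.mp h) (by decide)
    rcases (MvPolynomial.X_prime (i := 0)).dvd_or_dvd h with h | h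
    · exact absurd ((MvPolynomial.X_prime (i := 0)).dvd_or_dvd h |>.elim id id) hxy
    · exact h
  obtain ⟨a, ha⟩ := hdvd
  let D : Derivation K S S := MvPolynomial.mkDerivation K ![MvPolynomial.C (2⁻¹ : K) * a, δ ⟨y, hy⟩]
  have hC : (2 : S) * MvPolynomial.C (2⁻¹ : K) = 1 := by
    rw [← map_ofNat MvPolynomial.C 2, ← map_mul, mul_inv_cancel₀ two_ne_zero, map_one]
  have hDx : D x = MvPolynomial.C (2⁻¹ : K) * a := MvPolynomial.mkDerivation_X _ _ _
  have hDy : D y = δ ⟨y, hy⟩ := MvPolynomial.mkDerivation_X _ _ _
  have hsq : D (x ^ 2) = δ ⟨x ^ 2, hs⟩ := by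
    refine Eq.trans ?_ ha.symm
    rw [pow_two, Derivation.leibniz, hDx]
    simp only [smul_eq_mul]
    linear_combination (x * a) * hC
  have hxy : D (x * y) = δ ⟨x * y, ht⟩ := by
    have h : (2 * x * y) * D (x * y) = (2 * x * y) * δ ⟨x * y, ht⟩ := by
      rw [Derivation.leibniz, hDx, hDy]
      simp only [smul_eq_mul]
      linear_combination -key - y * y * ha + (x * y * y * a) * hC
    exact mul_left_cancel₀ (mul_ne_zero (mul_ne_zero h2 hx0) hy0) h
  refine ⟨D, ?_, ?_⟩
  · have hgen : ∀ r : S, ∀ hr : r ∈ R, D r = δ ⟨r, hr⟩ := by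
      intro r hr
      induction hr using Algebra.adjoin_induction with
      | mem z hz =>
        rcases hz with rfl | rfl | rfl
        · exact hsq
        · exact hxy
        · exact hDy
      | algebraMap c => rw [Derivation.map_algebraMap]; exact (Derivation.map_algebraMap δ c).symm
      | add p q hp hq h1 h2' => rw [map_add, h1, h2', ← map_add]; rfl
      | mul p q hp hq h1 h2' =>
        rw [Derivation.leibniz, h1, h2', show (⟨p * q, mul_mem hp hq⟩ : R) = ⟨p, hp⟩ * ⟨q, hq⟩ from rfl, Derivation.leibniz]
        rfl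
    exact fun r => hgen r r.2
  · intro E hE
    have hEy : E y = δ ⟨y, hy⟩ := hE ⟨y, hy⟩
    refine MvPolynomial.derivation_ext fun i => ?_
    fin_cases i
    · change E x = D x
      have h : (2 * x) * E x = (2 * x) * D x := by
        have h1 : E (x ^ 2) = D (x ^ 2) := (hE ⟨x ^ 2, hs⟩).trans hsq.symm
        rw [pow_two, Derivation.leibniz, Derivation.leibniz] at h1
        simp only [smul_eq_mul] at h1
        linear_combination h1
      exact mul_left_cancel₀ (mul_ne_zero h2 hx0) h
    · change E y = D y
      rw [hDy, hEy]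

end Groth.Agent.S18122
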