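import Groth.Statements.S18123
import Mathlib
set_option backward.isDefEq.respectTransparency false
set_option backward.isDefEq.respectTransparency.types false

set_option autoImplicit false
universe u
open Pinch

namespace Groth.Agent.S18123

/-- Let K be a field in which 2 ≠ 0, S = K[x, y], and R ⊆ S the K-subalgebra generated by x^2, x y, y,
the coordinate ring of the pinch point with normalization S, obtained by gluing the plane along the
line y = 0 via x ↦ -x. A K-derivation D of S maps R into R if and only if D(y) is a multiple of y
and D(x) = y s + x p(x^2) for some s in S and some polynomial p in one variable. Every K-derivation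
R → S extends uniquely to S, and under this identification the derivations mapping R into R form the
image of the tangent sheaf of the pinch point in that of its normalization; so this image contains y
times all derivations of S, and modulo those it is spanned by the odd multiples x^(2k+1) ∂/∂x, the
part of the tangent sheaf of the line y = 0 invariant under x ↦ -x. (The text works over an
algebraically closed field of characteristic different from 2; the computation uses only 2 ≠ 0.) -/
theorem result
    (K : Type u) [Field K] [NeZero (2 : K)]
    (D : Derivation K (MvPolynomial (Fin 2) K) (MvPolynomial (Fin 2) K)) :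
    letI x : MvPolynomial (Fin 2) K := MvPolynomial.X 0
    letI y : MvPolynomial (Fin 2) K := MvPolynomial.X 1
    letI R : Subalgebra K (MvPolynomial (Fin 2) K) := Algebra.adjoin K {x ^ 2, x * y, y}
    (∀ r ∈ R, D r ∈ R) ↔
      (D y ∈ Ideal.span {y} ∧
        ∃ (s : MvPolynomial (Fin 2) K) (p : Polynomial K), D x = y * s + x * Polynomial.aeval (x ^ 2) p) := by
  let x : MvPolynomial (Fin 2) K := MvPolynomial.X 0
  let y : MvPolynomial (Fin 2) K := MvPolynomial.X 1
  let R : Subalgebra K (MvPolynomial (Fin 2) K) := Algebra.adjoin K {x ^ 2, x * y, y}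
  change (∀ r ∈ R, D r ∈ R) ↔ (D y ∈ Ideal.span {y} ∧
    ∃ (s : MvPolynomial (Fin 2) K) (p : Polynomial K), D x = y * s + x * Polynomial.aeval (x ^ 2) p)
  let ρ : MvPolynomial (Fin 2) K →ₐ[K] Polynomial K := MvPolynomial.aeval ![Polynomial.X, 0]
  let σ : Polynomial K →ₐ[K] Polynomial K := Polynomial.aeval (-Polynomial.X)
  have hρx : ρ x = Polynomial.X := MvPolynomial.aeval_X _ _
  have hρy : ρ y = 0 := MvPolynomial.aeval_X _ _
  have hx2 : x ^ 2 ∈ R := Algebra.subset_adjoin (by simp)
  have hxy : x * y ∈ R := Algebra.subset_adjoin (by simp)
  have hy : y ∈ R := Algebra.subset_adjoin (by simp)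
  have hys : ∀ s, y * s ∈ R ∧ x * y * s ∈ R := by
    intro s
    induction s using MvPolynomial.induction_on with
    | C c => exact ⟨mul_mem hy (R.algebraMap_mem c), mul_mem hxy (R.algebraMap_mem c)⟩
    | add f g hf hg => exact ⟨by rw [mul_add]; exact add_mem hf.1 hg.1, by rw [mul_add]; exact add_mem hf.2 hg.2⟩
    | mul_X f i hf =>
      fin_cases i
      · constructor
        · convert hf.2 using 1; simp only [x, Fin.zero_eta]; ring
        · convert mul_mem hx2 hf.1 using 1; simp only [x, Fin.zero_eta]; ring
      · constructor
        · convert mul_mem hy hf.1 using 1; simp only [y, Fin.mk_one]; ring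
        · convert mul_mem hy hf.2 using 1; simp only [y, Fin.mk_one]; ring
  have hp : ∀ p : Polynomial K, Polynomial.aeval (x ^ 2) p ∈ R := fun p => by
    induction p using Polynomial.induction_on' with
    | add f g hf hg => rw [map_add]; exact add_mem hf hg
    | monomial n a => rw [Polynomial.aeval_monomial]; exact mul_mem (R.algebraMap_mem a) (pow_mem hx2 n)
  have hspan : ∀ f, f ∈ Ideal.span {y} → f ∈ R := fun f hf => by
    obtain ⟨s, rfl⟩ := Ideal.mem_span_singleton'.mp hf
    rw [mul_comm]; exact (hys s).1
  have hσX : σ Polynomial.X = -Polynomial.X := Polynomial.aeval_X _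
  have heven : ∀ r ∈ R, σ (ρ r) = ρ r := fun r hr => by
    induction hr using Algebra.adjoin_induction with
    | mem z hz =>
      rcases hz with rfl | rfl | rfl <;> simp [hρx, hρy, hσX]
    | algebraMap c => rw [AlgHom.commutes, AlgHom.commutes]
    | add a b _ _ ha hb => simp [ha, hb]
    | mul a b _ _ ha hb => simp [ha, hb]
  have hdec : ∀ f, ∃ s, f = y * s + Polynomial.aeval x (ρ f) := by
    intro f
    induction f using MvPolynomial.induction_on with
    | C c => exact ⟨0, by simp⟩
    | add f g hf hg =>
      obtain ⟨s, hs⟩ := hf
      obtain ⟨t, ht⟩ := hg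
      exact ⟨s + t, by rw [map_add, map_add, mul_add]; linear_combination hs + ht⟩
    | mul_X f i hf =>
      obtain ⟨s, hs⟩ := hf
      fin_cases i
      · refine ⟨s * x, ?_⟩
        simp only [Fin.zero_eta, map_mul]
        rw [show ρ (MvPolynomial.X 0) = Polynomial.X from hρx, Polynomial.aeval_X]
        linear_combination x * hs
      · refine ⟨f, ?_⟩
        simp only [Fin.mk_one, map_mul]
        rw [show ρ (MvPolynomial.X 1) = 0 from hρy, map_zero, mul_zero, add_zero, mul_comm]
  have h2 : ∀ q : Polynomial K, 2 * q = 0 → q = 0 := fun q h => by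
    have : (Polynomial.C (2 : K)) * q = 0 := by rw [map_ofNat]; exact h
    exact (mul_eq_zero.mp this).resolve_left (Polynomial.C_ne_zero.mpr two_ne_zero)
  constructor
  · intro H
    obtain ⟨s, hs⟩ := hdec (D y)
    have e1 := heven _ (H y hy)
    have hq : ρ (D y) = 0 := by
      have e2 := heven _ (H _ hxy)
      rw [D.leibniz, smul_eq_mul, smul_eq_mul, map_add, map_mul ρ, map_mul ρ, hρx, hρy, zero_mul, add_zero, map_mul, hσX, e1] at e2
      refine (mul_eq_zero.mp (h2 (Polynomial.X * ρ (D y)) ?_)).resolve_left Polynomial.X_ne_zero
      linear_combination -e2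
    rw [hq, map_zero, add_zero] at hs
    refine ⟨Ideal.mem_span_singleton'.mpr ⟨s, by rw [hs, mul_comm]⟩, ?_⟩
    obtain ⟨t, ht⟩ := hdec (D x)
    have e3 := heven _ (H _ hx2)
    set q := ρ (D x) with hq'
    have hodd : σ q = -q := by
      rw [sq, D.leibniz, smul_eq_mul, ← two_mul] at e3
      simp only [map_mul, map_ofNat, hρx, hσX, ← hq'] at e3
      have := (mul_eq_zero.mp (h2 (Polynomial.X * (σ q + q)) (by linear_combination -e3))).resolve_left Polynomial.X_ne_zero
      linear_combination this
    have hco : ∀ n, (-1 : K) ^ n * q.coeff n = -q.coeff n := fun n => by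
      have := congrArg (Polynomial.coeff · n) hodd
      simp only [Polynomial.coeff_neg] at this
      rw [← this]
      have hσ : σ q = q.comp (Polynomial.C (-1) * Polynomial.X) := by
        simp [σ, Polynomial.comp_eq_aeval]
      rw [hσ, Polynomial.comp_C_mul_X_coeff, mul_comm]
    let p := Polynomial.contract 2 q.divX
    have hqp : q = Polynomial.X * Polynomial.expand K 2 p := by
      ext n
      rcases n with _ | n
      · simp only [Polynomial.mul_coeff_zero, Polynomial.coeff_X_zero, zero_mul]
        have := hco 0
        simp only [pow_zero, one_mul] at this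
        exact (mul_eq_zero.mp (show (2 : K) * q.coeff 0 = 0 by linear_combination this)).resolve_left two_ne_zero
      · rw [Polynomial.coeff_X_mul, Polynomial.coeff_expand (by norm_num)]
        split_ifs with hn
        · rw [Polynomial.coeff_contract (by norm_num), Nat.div_mul_cancel hn, Polynomial.coeff_divX]
        · have := hco (n + 1)
          have hev : Even (n + 1) := by
            rcases Nat.even_or_odd n with h | h
            · exact absurd h.two_dvd hn
            · exact Odd.add_one h
          rw [hev.neg_one_pow, one_mul] at this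
          exact (mul_eq_zero.mp (show (2 : K) * q.coeff (n + 1) = 0 by linear_combination this)).resolve_left two_ne_zero
    refine ⟨t, p, ?_⟩
    rw [ht, hqp, map_mul, Polynomial.aeval_X, Polynomial.expand_aeval]
  · rintro ⟨hDy, s, p, hDx⟩ r hr
    induction hr using Algebra.adjoin_induction with
    | mem z hz =>
      rcases hz with rfl | rfl | rfl
      · rw [sq, D.leibniz, smul_eq_mul, hDx,
          show x * (y * s + x * Polynomial.aeval (x ^ 2) p) + x * (y * s + x * Polynomial.aeval (x ^ 2) p) =
            (x * y * s + x * y * s) + (x ^ 2 * Polynomial.aeval (x ^ 2) p + x ^ 2 * Polynomial.aeval (x ^ 2) p) by ring]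
        exact add_mem (add_mem (hys s).2 (hys s).2) (add_mem (mul_mem hx2 (hp p)) (mul_mem hx2 (hp p)))
      · refine hspan _ ?_
        rw [D.leibniz, smul_eq_mul, smul_eq_mul]
        exact add_mem (Ideal.mul_mem_left _ _ hDy) (Ideal.mul_mem_right _ _ (Ideal.mem_span_singleton_self y))
      · exact hspan _ hDy
    | algebraMap c => rw [D.map_algebraMap]; exact zero_mem _
    | add a b _ _ ha hb => rw [map_add]; exact add_mem ha hb
    | mul a b ha' hb' ha hb => rw [D.leibniz]; exact add_mem (mul_mem ha' hb) (mul_mem hb' ha)

end Groth.Agent.S18123
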