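import Groth.Statements.S18125
import Mathlib
set_option backward.isDefEq.respectTransparency false
set_option backward.isDefEq.respectTransparency.types false

set_option autoImplicit false
universe u
open Pinch

namespace Groth.Agent.S18125

/-- Let K be a field in which 2 ≠ 0, n ≥ 0, S = K[u, v, w, t_1, …, t_n] (u, v, w the first three
variables), h = u^2 - v^2 w the equation of the pinch-point model, and Jac the ideal generated by h
and its three partial derivatives 2u, -2vw, -v^2, which cuts out the scheme-theoretic singular locus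
of {h = 0}. Then the ideal (u, v) of the double locus is Jac + (v), and the colon ideal of Jac by
(v) is (u, v, w). Consequently (u, v)/Jac, the ideal of the double locus restricted to the singular
locus, is an invertible sheaf on the pinch locus u = v = w = 0: it is free of rank one over K[t_1,
…, t_n] on the class of v. (The text states this for every semi-smooth variety and reduces to this
model; K algebraically closed is not needed for the model computation.) -/
theorem result
    (K : Type u) [Field K] [NeZero (2 : K)] (n : ℕ) :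
    letI u : MvPolynomial (Fin (n + 3)) K := MvPolynomial.X 0
    letI v : MvPolynomial (Fin (n + 3)) K := MvPolynomial.X 1
    letI w : MvPolynomial (Fin (n + 3)) K := MvPolynomial.X 2
    letI Jac : Ideal (MvPolynomial (Fin (n + 3)) K) :=
      Ideal.span {u ^ 2 - v ^ 2 * w, 2 * u, -(2 * v * w), -(v ^ 2)}
    Ideal.span {u, v} = Jac ⊔ Ideal.span {v} ∧ Jac.colon (Ideal.span {v}) = Ideal.span {u, v, w} := by
  let u : MvPolynomial (Fin (n + 3)) K := MvPolynomial.X 0
  let v : MvPolynomial (Fin (n + 3)) K := MvPolynomial.X 1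
  let w : MvPolynomial (Fin (n + 3)) K := MvPolynomial.X 2
  let Jac : Ideal (MvPolynomial (Fin (n + 3)) K) :=
    Ideal.span {u ^ 2 - v ^ 2 * w, 2 * u, -(2 * v * w), -(v ^ 2)}
  change Ideal.span {u, v} = Jac ⊔ Ideal.span {v} ∧ Jac.colon (Ideal.span {v}) = Ideal.span {u, v, w}
  have h2 : IsUnit (2 : MvPolynomial (Fin (n + 3)) K) := by
    simpa [map_ofNat] using (IsUnit.mk0 (2 : K) two_ne_zero).map (MvPolynomial.C (σ := Fin (n + 3)))
  have hle : ∀ {I : Ideal (MvPolynomial (Fin (n + 3)) K)}, u ∈ I → v * v ∈ I → v * w ∈ I → Jac ≤ I := by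
    intro I hu hvv hvw
    refine Ideal.span_le.mpr ?_
    rintro f (rfl | rfl | rfl | rfl)
    · exact sub_mem (by rw [pow_two]; exact I.mul_mem_left _ hu) (by rw [pow_two]; exact I.mul_mem_right _ hvv)
    · exact I.mul_mem_left _ hu
    · exact neg_mem (by rw [_root_.mul_assoc]; exact I.mul_mem_left _ hvw)
    · exact neg_mem (by rwa [pow_two])
  have hu : u ∈ Jac := (Ideal.unit_mul_mem_iff_mem _ h2).mp (Ideal.subset_span (by simp))
  have hvv : v * v ∈ Jac := by
    have h : -(v ^ 2) ∈ Jac := Ideal.subset_span (by simp)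
    simpa [pow_two] using h
  have hvw : v * w ∈ Jac := by
    refine (Ideal.unit_mul_mem_iff_mem _ h2).mp ?_
    have h : -(2 * v * w) ∈ Jac := Ideal.subset_span (by simp)
    simpa [_root_.mul_assoc] using h
  refine ⟨le_antisymm ?_ ?_, le_antisymm ?_ ?_⟩
  · refine Ideal.span_le.mpr ?_
    rintro f (rfl | rfl)
    · exact Ideal.mem_sup_left hu
    · exact Ideal.mem_sup_right (Ideal.mem_span_singleton_self _)
  · refine sup_le (hle ?_ ?_ ?_) (Ideal.span_mono (by simp))
    · exact Ideal.subset_span (by simp)
    · exact Ideal.mul_mem_left _ _ (Ideal.subset_span (by simp))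
    · exact Ideal.mul_mem_right _ _ (Ideal.subset_span (by simp))
  · intro f hf
    rw [Submodule.mem_colon] at hf
    have hfv : f * v ∈ Jac := hf v (Ideal.mem_span_singleton_self v)
    let g : Fin (n + 3) → (MvPolynomial (Fin (n + 3)) K) := fun i => if (i : ℕ) < 3 then 0 else MvPolynomial.X i
    let π : (MvPolynomial (Fin (n + 3)) K) →ₐ[K] (MvPolynomial (Fin (n + 3)) K) := MvPolynomial.aeval g
    let φ : (MvPolynomial (Fin (n + 3)) K) →ₐ[K] DualNumber (MvPolynomial (Fin (n + 3)) K) := MvPolynomial.aeval
      fun i => if i = 1 then DualNumber.eps else TrivSqZeroExt.inl (g i)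
    have hφ : TrivSqZeroExt.fst (φ f) = π f := by
      change ((TrivSqZeroExt.fstHom K (MvPolynomial (Fin (n + 3)) K) (MvPolynomial (Fin (n + 3)) K)).comp φ) f = π f
      congr 1
      refine MvPolynomial.algHom_ext fun i => ?_
      by_cases h : i = 1
      · subst h; simp [φ, π, g]
      · simp [φ, π, h]
    have h2v : ((2 : Fin (n + 3)) : ℕ) = 2 := Nat.mod_eq_of_lt (show 2 < n + 3 by omega)
    have h21 : (2 : Fin (n + 3)) ≠ 1 := fun h => by
      have h' := congrArg Fin.val h
      rw [h2v, Fin.val_one', Nat.one_mod_eq_one.mpr (by omega)] at h'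
      omega
    have hJ : Jac ≤ RingHom.ker φ := by
      refine hle ?_ ?_ ?_
      · simp [RingHom.mem_ker, φ, u, g]
      · simp [RingHom.mem_ker, φ, v, DualNumber.eps_mul_eps]
      · simp [RingHom.mem_ker, φ, v, w, g, Fin.val_two, h21, h2v, show 2 % (n + 3) < 3 from lt_of_le_of_lt (Nat.mod_le 2 _) (by norm_num)]
    have h0 : π f = 0 := by
      have h := hJ hfv
      rw [RingHom.mem_ker, map_mul] at h
      rw [← hφ]
      have h' := congrArg TrivSqZeroExt.snd h
      simpa [φ, v] using h'
    have hdiff : ∀ q : (MvPolynomial (Fin (n + 3)) K), q - π q ∈ Ideal.span {u, v, w} := by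
      intro q
      rw [← Ideal.Quotient.eq]
      have : (Ideal.Quotient.mkₐ K (Ideal.span {u, v, w})) = (Ideal.Quotient.mkₐ K (Ideal.span {u, v, w})).comp π := by
        refine MvPolynomial.algHom_ext fun i => ?_
        by_cases h : (i : ℕ) < 3
        · simp only [AlgHom.comp_apply, π, MvPolynomial.aeval_X, g, if_pos h, map_zero]
          refine Ideal.Quotient.eq_zero_iff_mem.mpr (Ideal.subset_span ?_)
          obtain ⟨i, hi⟩ := i
          simp only at h
          interval_cases i <;> simp [u, v, w] <;> grind
        · simp [π, g, h]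
      exact AlgHom.congr_fun this q
    simpa [h0] using hdiff f
  · refine Ideal.span_le.mpr ?_
    intro a ha
    rw [SetLike.mem_coe, Submodule.mem_colon]
    intro p hp
    obtain ⟨q, rfl⟩ := Ideal.mem_span_singleton'.mp hp
    have hav : a * v ∈ Jac := by
      rcases ha with rfl | rfl | rfl
      · exact Jac.mul_mem_right _ hu
      · exact hvv
      · rwa [_root_.mul_comm]
    simpa [smul_eq_mul, _root_.mul_left_comm] using Jac.mul_mem_left q hav

end Groth.Agent.S18125
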