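import Mathlib
import Groth.Statements.S18127

set_option autoImplicit false
universe u
open LocAlg

namespace Groth.Agent.S18127

/-- Let R be a local ring with maximal ideal m and algebraically closed residue field, and M an n × n
matrix over R whose reduction modulo m has rank at most r. Then the determinant of M lies in m^(n −
r). (The published setting is the local ring of germs of holomorphic functions at a point of a
complex manifold, where this says that the determinant vanishes to order at least n − r at a point
where the matrix has rank at most r.) -/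
theorem result
    {R : Type u} [CommRing R] [IsLocalRing R] [IsAlgClosed (IsLocalRing.ResidueField R)]
    {n : ℕ} (M : Matrix (Fin n) (Fin n) R) (r : ℕ)
    (hr : (M.map (IsLocalRing.residue R)).rank ≤ r) :
    M.det ∈ IsLocalRing.maximalIdeal R ^ (n - r) := by
  classical
  let k := IsLocalRing.ResidueField R
  let L := (M.map (IsLocalRing.residue R)).mulVecLin
  obtain ⟨W, hW⟩ := Submodule.exists_isCompl (LinearMap.ker L)
  let b₀ := ((Module.finBasis k (LinearMap.ker L)).prod (Module.finBasis k W)).map
    (Submodule.prodEquivOfIsCompl _ W hW)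
  have hcard : Fintype.card (Fin (Module.finrank k (LinearMap.ker L)) ⊕ Fin (Module.finrank k W)) = n := by
    rw [← Module.finrank_eq_card_basis b₀, Module.finrank_pi, Fintype.card_fin]
  let σ := Fintype.equivFinOfCardEq hcard
  let b := b₀.reindex σ
  choose P hP using fun q : Fin n × Fin n => IsLocalRing.residue_surjective (R := R) (b q.2 q.1)
  let Pm : Matrix (Fin n) (Fin n) R := Matrix.of fun i j => P (i, j)
  have hunit : IsUnit Pm.det := by
    refine (IsLocalRing.residue_ne_zero_iff_isUnit _).mp ?_
    rw [RingHom.map_det, show (IsLocalRing.residue R).mapMatrix Pm = (Pi.basisFun k (Fin n)).toMatrix ⇑b from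
      Matrix.ext fun i j => by simp [Pm, hP, Module.Basis.toMatrix_apply]]
    exact ((Matrix.isUnit_iff_isUnit_det _).mp (@isUnit_of_invertible _ _ _ ((Pi.basisFun k (Fin n)).invertibleToMatrix b))).ne_zero
  let S : Finset (Fin n) := Finset.univ.map (Function.Embedding.inl.trans σ.toEmbedding)
  have hS : n - r ≤ S.card := by
    rw [Finset.card_map, Finset.card_univ, Fintype.card_fin]
    have h := LinearMap.finrank_range_add_finrank_ker L
    rw [Module.finrank_pi, Fintype.card_fin] at h
    have hr' : (M.map (IsLocalRing.residue R)).rank = Module.finrank (IsLocalRing.ResidueField R) (LinearMap.range L) := rfl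
    show n - r ≤ Module.finrank (IsLocalRing.ResidueField R) (LinearMap.ker L)
    omega
  have hcol : ∀ j ∈ S, ∀ i, (M * Pm) i j ∈ IsLocalRing.maximalIdeal R := by
    intro j hj i
    obtain ⟨j₀, -, rfl⟩ := Finset.mem_map.mp hj
    rw [← IsLocalRing.residue_eq_zero_iff, Matrix.mul_apply, map_sum]
    have hker : b (σ (Sum.inl j₀)) ∈ LinearMap.ker L := by
      simp [b, b₀, Module.Basis.reindex_apply, Module.Basis.prod_apply]
    have h0 := congrFun (LinearMap.mem_ker.mp hker) i
    refine Eq.trans (Finset.sum_congr rfl fun l _ => ?_) h0
    simp [Pm, hP]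
  have hdet : (M * Pm).det ∈ IsLocalRing.maximalIdeal R ^ (n - r) := by
    rw [Matrix.det_apply']
    refine Ideal.sum_mem _ fun τ _ => Ideal.mul_mem_left _ _ ?_
    rw [← Finset.prod_sdiff (Finset.subset_univ S)]
    refine Ideal.mul_mem_left _ _ (Ideal.pow_le_pow_right hS ?_)
    have h := Ideal.prod_mem_prod (s := S) (I := fun _ => IsLocalRing.maximalIdeal R) fun j hj => hcol j hj (τ j)
    rwa [Finset.prod_const] at h
  rw [Matrix.det_mul] at hdet
  exact (Ideal.mul_unit_mem_iff_mem _ hunit).mp hdet

end Groth.Agent.S18127
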