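import Mathlib
import Groth.Agent.AcycLib.Basic
import Groth.Statements.S18128

set_option autoImplicit false
universe u
open CAlg

namespace Groth.Agent.S18128

/-- Local step of Buchsbaum–Eisenbud: let R be a Noetherian local ring with maximal ideal m, and 0 →
R^(n_e) → ⋯ → R^(n_1) → R^(n_0) a complex of finite free modules, the map R^(n_(i+1)) → R^(n_i)
being given by the matrix A i, with 1 ≤ e and e at most the depth of R (there is an R-regular
sequence of length e inside m). If for every prime ideal p ≠ m the complex of matrices over R_p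
obtained by localization is exact at R_p^(n_e), …, R_p^(n_1), then the complex is exact at R^(n_e),
…, R^(n_1). -/
theorem result
    {R : Type u} [CommRing R] [IsLocalRing R] [IsNoetherianRing R]
    (e : ℕ) (he : 1 ≤ e) (n : ℕ → ℕ) (A : (i : ℕ) → Matrix (Fin (n i)) (Fin (n (i + 1))) R)
    (hA : ∀ i, i + 2 ≤ e → A i * A (i + 1) = 0)
    (rs : List R) (hlen : rs.length = e) (hmem : ∀ x ∈ rs, x ∈ IsLocalRing.maximalIdeal R)
    (hreg : RingTheory.Sequence.IsRegular R rs)
    (hloc : ∀ (p : Ideal R) [p.IsPrime], p ≠ IsLocalRing.maximalIdeal R →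
      LinearMap.ker ((A (e - 1)).map (algebraMap R (Localization.AtPrime p))).mulVecLin = ⊥ ∧
        ∀ i, i + 2 ≤ e →
          LinearMap.ker ((A i).map (algebraMap R (Localization.AtPrime p))).mulVecLin =
            LinearMap.range ((A (i + 1)).map (algebraMap R (Localization.AtPrime p))).mulVecLin) :
    LinearMap.ker (A (e - 1)).mulVecLin = ⊥ ∧
      ∀ i, i + 2 ≤ e → LinearMap.ker (A i).mulVecLin = LinearMap.range (A (i + 1)).mulVecLin := by
  classical
  have hX : ∀ (N j : ℕ), j ≤ e → (j : ℕ∞) ≤ LocCoh.depth R (Fin N → R) := fun N j hj =>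
    (show (j : ℕ∞) ≤ (e : ℕ∞) by exact_mod_cast hj).trans
      (hlen ▸ Groth.Agent.AcycLib.length_le_depth_pi N rs hmem hreg.1)
  have step : ∀ i, i + 1 ≤ e → ∀ B : Submodule R (Fin (n (i + 1)) → R), B ≤ LinearMap.ker (A i).mulVecLin →
      ((i + 2 : ℕ) : ℕ∞) ≤ LocCoh.depth R B →
      (∀ (p : Ideal R) [p.IsPrime], p ≠ IsLocalRing.maximalIdeal R → ∀ x ∈ LinearMap.ker (A i).mulVecLin,
        ∃ t : R, t ∉ p ∧ t • x ∈ B) →
      LinearMap.ker (A i).mulVecLin = B ∧ ((i + 1 : ℕ) : ℕ∞) ≤ LocCoh.depth R (LinearMap.range (A i).mulVecLin) := by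
    intro i hi B hBZ hB hl
    let Z := LinearMap.ker (A i).mulVecLin
    have hH := Groth.Agent.AcycLib.one_le_depth_subquot (hX (n (i + 1)) 1 (by omega)) B Z hBZ
      ((show ((2 : ℕ) : ℕ∞) ≤ ((i + 2 : ℕ) : ℕ∞) by exact_mod_cast (show 2 ≤ i + 2 by omega)).trans hB)
    obtain ⟨r, hr, hreg'⟩ := Groth.Agent.AcycLib.exists_regular_of_one_le_depth hH
    have heq : Z = B := by
      refine le_antisymm (fun x hx => ?_) hBZ
      let J : Ideal R := Submodule.comap (LinearMap.toSpanSingleton R (Fin (n (i + 1)) → R) x) B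
      have hrad : r ∈ J.radical := by
        rw [Ideal.radical_eq_sInf, Submodule.mem_sInf]
        rintro p ⟨hJp, hp⟩
        by_contra hrp
        obtain ⟨t, htp, htx⟩ := @hl p hp (fun h => hrp (h ▸ hr)) x hx
        exact htp (hJp htx)
      obtain ⟨N, hN⟩ := hrad
      have h0 : (r ^ N) • Submodule.Quotient.mk (p := B.comap Z.subtype) ⟨x, hx⟩ = 0 := by
        rw [← Submodule.Quotient.mk_smul, Submodule.Quotient.mk_eq_zero]
        exact hN
      exact (Submodule.Quotient.mk_eq_zero (B.comap Z.subtype)).mp ((hreg'.pow N) (h0.trans (smul_zero (r ^ N)).symm))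
    refine ⟨heq, Groth.Agent.AcycLib.le_depth_quot B.subtype (A i).mulVecLin.rangeRestrict (Submodule.injective_subtype _)
      (A i).mulVecLin.surjective_rangeRestrict (LinearMap.exact_iff.mpr ?_) (i + 1) (hX _ _ hi) hB⟩
    rw [LinearMap.ker_rangeRestrict, Submodule.range_subtype]
    exact heq
  have hcomm : ∀ (p : Ideal R) [p.IsPrime] (i : ℕ) (x : Fin (n (i + 1)) → R),
      ((A i).map (algebraMap R (Localization.AtPrime p))).mulVecLin (fun k => algebraMap R (Localization.AtPrime p) (x k)) =
        fun k => algebraMap R (Localization.AtPrime p) (((A i).mulVecLin x) k) := fun p _ i x => by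
    funext k
    exact (RingHom.map_mulVec (algebraMap R (Localization.AtPrime p)) (A i) x k).symm
  have hzero : ∀ (p : Ideal R) [p.IsPrime] {N : ℕ} (y : Fin N → R),
      (fun k => algebraMap R (Localization.AtPrime p) (y k)) = 0 → ∃ t : R, t ∉ p ∧ t • y = 0 := fun p _ N y hy => by
    choose t ht using fun k => (IsLocalization.map_eq_zero_iff p.primeCompl (Localization.AtPrime p) (y k)).mp (congrFun hy k)
    refine ⟨∏ k, (t k : R), (∏ k, t k : p.primeCompl).2 |> fun h => by simpa using h, funext fun k => ?_⟩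
    rw [Pi.smul_apply, smul_eq_mul, ← Finset.prod_erase_mul Finset.univ _ (Finset.mem_univ k), mul_assoc, ht k, mul_zero]
    rfl
  have top := step (e - 1) (by omega) ⊥ bot_le (by rw [Groth.Agent.AcycLib.depth_subsingleton]; exact le_top)
    (fun p _ hp x hx => by
      have h1 := hcomm p (e - 1) x
      rw [show (A (e - 1)).mulVecLin x = 0 from hx] at h1
      have h2 : (fun k => algebraMap R (Localization.AtPrime p) (x k)) ∈
          LinearMap.ker ((A (e - 1)).map (algebraMap R (Localization.AtPrime p))).mulVecLin :=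
        LinearMap.mem_ker.mpr (h1.trans (funext fun k => by simp))
      rw [(hloc p hp).1, Submodule.mem_bot] at h2
      obtain ⟨t, ht, htx⟩ := hzero p x h2
      exact ⟨t, ht, (Submodule.mem_bot R).mpr htx⟩)
  have loc : ∀ i, i + 2 ≤ e → ∀ (p : Ideal R) [p.IsPrime], p ≠ IsLocalRing.maximalIdeal R →
      ∀ x ∈ LinearMap.ker (A i).mulVecLin, ∃ t : R, t ∉ p ∧ t • x ∈ LinearMap.range (A (i + 1)).mulVecLin := by
    intro i hi p _ hp x hx
    have h1 := hcomm p i x
    rw [show (A i).mulVecLin x = 0 from hx] at h1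
    have h2 : (fun k => algebraMap R (Localization.AtPrime p) (x k)) ∈
        LinearMap.ker ((A i).map (algebraMap R (Localization.AtPrime p))).mulVecLin :=
      LinearMap.mem_ker.mpr (h1.trans (funext fun k => by simp))
    rw [(hloc p hp).2 i hi] at h2
    obtain ⟨w, hw⟩ := h2
    obtain ⟨s, hs⟩ := IsLocalization.exist_integer_multiples_of_finite p.primeCompl w
    choose w₀ hw₀ using hs
    have h3 : (fun k => algebraMap R (Localization.AtPrime p) (((s : R) • x - (A (i + 1)).mulVecLin w₀) k)) = 0 := by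
      have h4 := congrArg ((s : R) • ·) hw
      simp only [← LinearMap.map_smul_of_tower] at h4
      have h5 : (s : R) • w = fun k => algebraMap R (Localization.AtPrime p) (w₀ k) := funext fun k => (hw₀ k).symm
      rw [h5, hcomm] at h4
      funext k
      have h6 := congrFun h4 k
      rw [Pi.smul_apply, Algebra.smul_def] at h6
      rw [Pi.sub_apply, Pi.smul_apply, smul_eq_mul, map_sub, map_mul, h6, sub_self]
      rfl
    obtain ⟨t, ht, htx⟩ := hzero p _ h3
    refine ⟨t * s, fun h => (Ideal.IsPrime.mem_or_mem ‹_› h).elim ht s.2, ?_⟩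
    rw [smul_sub, sub_eq_zero] at htx
    exact ⟨t • w₀, by rw [map_smul, ← htx, mul_smul]⟩
  have down : ∀ k i, i + 2 + k = e → LinearMap.ker (A i).mulVecLin = LinearMap.range (A (i + 1)).mulVecLin ∧
      ((i + 1 : ℕ) : ℕ∞) ≤ LocCoh.depth R (LinearMap.range (A i).mulVecLin) := by
    intro k
    induction k with
    | zero =>
      intro i hi
      refine step i (by omega) _ ?_ ?_ ?_
      · rintro _ ⟨w, rfl⟩
        rw [LinearMap.mem_ker, ← LinearMap.comp_apply, ← Matrix.mulVecLin_mul, hA i (by omega)]; simp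
      · have := top.2
        rw [show e - 1 = i + 1 by omega] at this
        exact this
      · exact loc i (by omega)
    | succ k ih =>
      intro i hi
      refine step i (by omega) _ ?_ (ih (i + 1) (by omega)).2 ?_
      · rintro _ ⟨w, rfl⟩
        rw [LinearMap.mem_ker, ← LinearMap.comp_apply, ← Matrix.mulVecLin_mul, hA i (by omega)]; simp
      · exact loc i (by omega)
  exact ⟨top.1, fun i hi => (down (e - (i + 2)) i (by omega)).1⟩

end Groth.Agent.S18128
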