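import Groth.Statements.S18131
import Groth.Agent.LazMukLib.Basic
-- import your own Groth.Agent.* helpers here

set_option autoImplicit false
set_option backward.isDefEq.respectTransparency false
set_option maxHeartbeats 800000
set_option synthInstance.maxHeartbeats 200000
universe u
open CategoryTheory CategoryTheory.Limits AlgebraicGeometry
open Surf

namespace Groth.Agent.S18131

open Groth.Agent CategoryTheory
set_option backward.isDefEq.respectTransparency false
set_option synthInstance.maxHeartbeats 200000
set_option maxHeartbeats 800000

/-- Let X be a K3 surface over an algebraically closed field k of characteristic zero — an integral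
scheme, smooth and proper over k, of dimension two, carrying an ample invertible module, whose
structure sheaf is a second exterior power of its sheaf of differentials (trivial canonical sheaf)
and with H^1(X, O_X) = 0. Let i : C → X be a closed immersion over k with C integral, smooth over k
and of dimension one, A an invertible O_C-module, and lam : O_X^e → i_*A an epimorphism from the
free module of rank e which induces a bijection H^0(X, O_X^e) → H^0(X, i_*A) (so e = h^0(C, A) and A
is generated by its global sections); let F be the kernel of lam, the Lazarsfeld–Mukai bundle of (C,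
A). Then the Euler characteristic of the sheaf of endomorphisms Hom(F, F) equals 2 − 2ρ(A), where
ρ(A) = g(C) − h^0(C, A) · h^1(C, A) is the Brill–Noether number and g(C) = dim_k H^1(C, O_C). -/
theorem result (k : Type u) [Field k] [IsAlgClosed k] [CharZero k]
    (X : Scheme.{u}) [X.Over (Spec (CommRingCat.of k))] [IsIntegral X]
    [Smooth (X ↘ Spec (CommRingCat.of k))] (hdim : topologicalKrullDim X = 2)
    [IsProper (X ↘ Spec (CommRingCat.of k))]
    (H : X.Modules) (hHa : CohB1.IsAmple H)
    (hK : Canon.IsTopDiff (X ↘ Spec (CommRingCat.of k)) 2 (Coh.structureModule X))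
    (hq : Module.finrank k (Coh.HH X (Coh.structureModule X) 1) = 0)
    (C : Scheme.{u}) [C.Over (Spec (CommRingCat.of k))] [IsIntegral C]
    [Smooth (C ↘ Spec (CommRingCat.of k))] (hC : topologicalKrullDim C = 1)
    (i : C ⟶ X) [IsClosedImmersion i] (hi : i ≫ (X ↘ Spec (CommRingCat.of k)) = C ↘ Spec (CommRingCat.of k))
    (A : C.Modules) (hA : PicF.IsInvertible A) (e : ℕ)
    (lam : FlatMod.freeMod X e ⟶ (Coh.push i).obj A) [Epi lam]
    (hlam : Function.Bijective (Sheaf.H.map ((SheafOfModules.toSheaf _).map lam) 0)) :
    Curv2.euler k X (RefHull.homSh (kernel lam) (kernel lam)) =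
      2 - 2 * ((Curv2.genus k C : ℤ) -
        (Module.finrank k (Coh.HH C A 0) : ℤ) * (Module.finrank k (Coh.HH C A 1) : ℤ)) := by
  haveI := EulerIneqLib.isNoetherian_proper (X := X) k
  haveI : IsProper (C ↘ Spec (CommRingCat.of k)) := by rw [← hi]; infer_instance
  haveI := EulerIneqLib.isNoetherian_proper (X := C) k
  have hAc : Coh.IsCoh A := CurveLib.isCoh_of_isInvertible hA
  have hF : FlatMod.IsFinLocFree (kernel lam) := S15848.result k X hdim C i hC A hAc
    (TFCurvSSLib.isTorsionFree_flf (CurveLib.isFinLocFreeOfRank_one hA)) (FlatMod.freeMod X e)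
    (VBLib.DualDeg.flf_of_rank (DegDevLib.isFinLocFreeOfRank_freeMod e)) lam
  rw [LazMuk.euler_end k hdim hHa hK hC i hi hA lam hF, LazMuk.euler_structure_K3 k hdim hHa hK hq]
  haveI := hAc.1
  haveI := EulerIneqLib.finite_HH (k := k) (DevLib.isCoh_structureModule X) 0
  have he : Module.finrank k (Coh.HH C A 0) = e := by
    rw [← IntLib.finrank_push k i hi A 0]
    have h1 := (LinearEquiv.ofBijective (CurveLib.hMap (k := k) lam 0) hlam).finrank_eq
    have h2 : Module.finrank k (Coh.HH X (FlatMod.freeMod X e) 0) = e :=
      (LazMuk.finrank_HH_sigma_const k e (Coh.structureModule X) 0).trans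
        (by rw [CurveLib.finrank_H0_structure (k := k), mul_one])
    exact h1.symm.trans h2
  have hs : ∀ M : C.Modules, Curv2.euler k C M =
      (Module.finrank k (Coh.HH C M 0) : ℤ) - Module.finrank k (Coh.HH C M 1) := fun M => by
    rw [CurveLib.euler_eq_sum (K := k) M 2 fun q hq => CurveLib.subsingleton_HH_of_dim (d := 1) M hC.le (by omega)]
    simp [Finset.sum_range_succ, sub_eq_add_neg]
  rw [hs A, hs (Coh.structureModule C), CurveLib.finrank_H0_structure (k := k), he, Curv2.genus]
  push_cast
  ring

end Groth.Agent.S18131
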