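import Groth.Statements.S18130
import Groth.Agent.LazMukLib.EndBound
import Groth.Agent.LazMukLib.GlobGen
import Groth.Agent.S18131
-- import your own Groth.Agent.* helpers here

set_option autoImplicit false
set_option backward.isDefEq.respectTransparency false
set_option maxHeartbeats 800000
set_option synthInstance.maxHeartbeats 200000
universe u
open CategoryTheory CategoryTheory.Limits AlgebraicGeometry
open Surf

namespace Groth.Agent.S18130

open Groth.Agent CategoryTheory
set_option backward.isDefEq.respectTransparency false
set_option maxHeartbeats 800000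
set_option synthInstance.maxHeartbeats 200000

/-- Let X be a K3 surface over an algebraically closed field k of characteristic zero — an integral
scheme, smooth and proper over k, of dimension two, carrying an ample invertible module, whose
structure sheaf is a second exterior power of its sheaf of differentials (trivial canonical sheaf)
and with H^1(X, O_X) = 0. Let i : C → X be a closed immersion over k with C integral, smooth over k
and of dimension one, whose ideal sheaf I_C is invertible and such that the Picard group of X is
infinite cyclic, generated by the class of I_C (equivalently of O_X(C)). Then for every invertible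
O_C-module A the Brill–Noether number is non-negative: h^0(C, A) · h^1(C, A) ≤ g(C), where g(C) =
dim_k H^1(C, O_C). -/
theorem result (k : Type u) [Field k] [IsAlgClosed k] [CharZero k]
    (X : Scheme.{u}) [X.Over (Spec (CommRingCat.of k))] [IsIntegral X]
    [Smooth (X ↘ Spec (CommRingCat.of k))] (hdim : topologicalKrullDim X = 2)
    [IsProper (X ↘ Spec (CommRingCat.of k))]
    (H : X.Modules) (hHa : CohB1.IsAmple H)
    (hK : Canon.IsTopDiff (X ↘ Spec (CommRingCat.of k)) 2 (Coh.structureModule X))
    (hq : Module.finrank k (Coh.HH X (Coh.structureModule X) 1) = 0)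
    [PicGrp.Law X]
    (C : Scheme.{u}) [C.Over (Spec (CommRingCat.of k))] [IsIntegral C]
    [Smooth (C ↘ Spec (CommRingCat.of k))] (hC : topologicalKrullDim C = 1)
    (i : C ⟶ X) [IsClosedImmersion i] (hi : i ≫ (X ↘ Spec (CommRingCat.of k)) = C ↘ Spec (CommRingCat.of k))
    (hI : PicF.IsInvertible (ClSub.idealMod i.ker))
    (hgen : ∀ c : PicLoc.PicSet X, ∃ n : ℤ, c = PicGrp.cls (ClSub.idealMod i.ker) hI ^ n)
    (hfree : ∀ n : ℤ, PicGrp.cls (ClSub.idealMod i.ker) hI ^ n = 1 → n = 0)
    (A : C.Modules) (hA : PicF.IsInvertible A) :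
    Module.finrank k (Coh.HH C A 0) * Module.finrank k (Coh.HH C A 1) ≤ Curv2.genus k C := by
  haveI := EulerIneqLib.isNoetherian_proper (X := X) k
  haveI : IsProper (C ↘ Spec (CommRingCat.of k)) := by rw [← hi]; infer_instance
  haveI := EulerIneqLib.isNoetherian_proper (X := C) k
  haveI := VBLib.isRegCurve_of_smooth k (X := C) hC.le
  by_cases h0 : Module.finrank k (Coh.HH C A 0) = 0
  · rw [h0, zero_mul]; exact Nat.zero_le _
  obtain ⟨A', n, q, hq1, hA', hn', hn, hqb, h1⟩ :=
    LazMuk.exists_globGen k hC (CurveLib.finrank_H0_structure (k := k)) hA h0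
  haveI := hq1
  haveI := (CurveLib.isCoh_of_isInvertible hA').1
  obtain ⟨lam, hlam, hb⟩ := LazMuk.exists_lam k (CurveLib.finrank_H0_structure (k := k) (X := X))
    (CurveLib.finrank_H0_structure (k := k) (X := C)) i hi hn' q hqb
  haveI := hlam
  have hF : FlatMod.IsFinLocFree (kernel lam) := S15848.result k X hdim C i hC A' (CurveLib.isCoh_of_isInvertible hA')
    (TFCurvSSLib.isTorsionFree_flf (CurveLib.isFinLocFreeOfRank_one hA')) (FlatMod.freeMod X n)
    (VBLib.DualDeg.flf_of_rank (DegDevLib.isFinLocFreeOfRank_freeMod n)) lam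
  obtain ⟨r, hFr⟩ := KRRAmple.exists_isFinLocFreeOfRank (X := X) hF
  have hle := LazMuk.euler_end_le_two k hdim hHa hK hFr
    (LazMuk.exists_eq_mulEnd k hdim hHa hC i hi hI hgen hA' lam hb.1)
  rw [S18131.result k X hdim H hHa hK hq C hC i hi A' hA' n lam hb, hn'] at hle
  rw [hn]
  have h2 : (n : ℤ) * (Module.finrank k (Coh.HH C A' 1) : ℤ) ≤ (Curv2.genus k C : ℤ) := by linarith
  have h3 : n * Module.finrank k (Coh.HH C A' 1) ≤ Curv2.genus k C := by exact_mod_cast h2
  exact le_trans (Nat.mul_le_mul_left n h1) h3

end Groth.Agent.S18130
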