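import Groth.Statements.S18135
import Groth.Agent.TwistShriek.SurfSections
-- import your own Groth.Agent.* helpers here

set_option autoImplicit false
set_option backward.isDefEq.respectTransparency false
set_option maxHeartbeats 800000
set_option synthInstance.maxHeartbeats 200000
universe u
open CategoryTheory CategoryTheory.Limits AlgebraicGeometry
open Surf
open Groth.Agent Groth.Agent.TwistShriek

namespace Groth.Agent.S18135

/-- Torsion-freeness of Pic: let X be a K3 surface over an algebraically closed field k of
characteristic zero — an integral scheme, smooth and proper over k, of dimension two, carrying an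
ample invertible module, whose structure sheaf is a second exterior power of its sheaf of
differentials (trivial canonical sheaf) and with H^1(X, O_X) = 0. If L is an invertible O_X-module
some positive tensor power of which is isomorphic to O_X, then L ≅ O_X; that is, the Picard group of
X has no torsion (the published statement adds that it is free of finite rank, by finite generation
of the Néron–Severi group). -/
theorem result (k : Type u) [Field k] [IsAlgClosed k] [CharZero k]
    (X : Scheme.{u}) [X.Over (Spec (CommRingCat.of k))] [IsIntegral X]
    [Smooth (X ↘ Spec (CommRingCat.of k))] (hdim : topologicalKrullDim X = 2)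
    [IsProper (X ↘ Spec (CommRingCat.of k))]
    (H : X.Modules) (hHa : CohB1.IsAmple H)
    (hK : Canon.IsTopDiff (X ↘ Spec (CommRingCat.of k)) 2 (Coh.structureModule X))
    (hq : Module.finrank k (Coh.HH X (Coh.structureModule X) 1) = 0)
    (L : X.Modules) (hL : PicF.IsInvertible L) (n : ℕ) (hn : 1 ≤ n)
    (htors : Nonempty (CohB1.tensorPow L n ≅ Coh.structureModule X)) :
    Nonempty (L ≅ Coh.structureModule X) := by
    refine nonempty_iso_of_numTrivial_K3 k hdim hHa hK hq hL fun v hv => ?_
    have hpow := Nakai.cl_tensorPow_sub_mem hL n
    have hP := AmpleLib.isInvertible_tensorPow hL n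
    have h0 : Nakai.cl hP = 0 := by
      obtain ⟨θ⟩ := htors
      rw [Nakai.cl_congr hP ParaFLib.isInvertible_structureModule θ, Nakai.cl,
        show IntLib.inv' (ParaFLib.isInvertible_structureModule (X := X)) = 1 from Subtype.ext rfl, map_one, sub_self]
    have h := Nakai.form_congr k hdim hpow hv
    rw [h0, Nakai.form, zero_mul, map_zero, Nakai.form, mul_assoc, ← nsmul_eq_mul, map_nsmul, nsmul_eq_mul] at h
    exact (mul_eq_zero.1 h.symm).resolve_left (Int.natCast_ne_zero.2 (by omega))

end Groth.Agent.S18135
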