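import Groth.Statements.S18136
import Mathlib
-- import your own Groth.Agent.* helpers here

set_option autoImplicit false
universe u v
open IsLocalRing
open CAlg

namespace Groth.Agent.S18136

/-- Let A be a regular local ring with maximal ideal m and residue field k, written as a directed
colimit of regular local rings A_j with local transition maps (compatible maps ψ_j : A_j → A that
are jointly surjective, an element dying in A dying at some later stage). Let f_1, …, f_c, g_1, …,
g_d ∈ m have linearly independent classes in m/m^2 over k, and put I = (f_1, …, f_c) ⊆ I' = (f_1, …,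
f_c, g_1, …, g_d) (so I is generated by part of a regular system of parameters of A and I'/I by part
of a regular system of parameters of A/I; for a regular local ring the condition on I ⊆ I' is stated
through such a joint family). Then there are an index j_0 and ideals I_j ⊆ I'_j ⊆ A_j for j ≥ j_0
such that: each I_j is generated by c elements and I'_j by these together with d further elements of
the maximal ideal m_j, the c + d classes in m_j/m_j^2 being linearly independent over the residue
field of A_j; the transition maps carry I_i, I'_i onto generators of I_j, I'_j for j_0 ≤ i ≤ j; and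
I_j, I'_j generate I, I' in A. -/
theorem result
    {A : Type u} [CommRing A] [IsRegularLocalRing A]
    {ι : Type v} [Preorder ι] [Nonempty ι] [IsDirected ι (· ≤ ·)]
    (B : ι → Type u) [∀ j, CommRing (B j)] [∀ j, IsRegularLocalRing (B j)]
    (φ : ∀ i j, i ≤ j → (B i →+* B j)) (hφloc : ∀ i j (h : i ≤ j), IsLocalHom (φ i j h))
    (hφ : ∀ i j l (hij : i ≤ j) (hjl : j ≤ l), (φ j l hjl).comp (φ i j hij) = φ i l (hij.trans hjl))
    (ψ : ∀ j, B j →+* A) (hψ : ∀ i j (h : i ≤ j), (ψ j).comp (φ i j h) = ψ i)
    (hsurj : ∀ a : A, ∃ j, ∃ x : B j, ψ j x = a)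
    (hker : ∀ j (x : B j), ψ j x = 0 → ∃ l, ∃ h : j ≤ l, φ j l h x = 0)
    (c d : ℕ) (f : Fin c → maximalIdeal A) (g : Fin d → maximalIdeal A)
    (hind : LinearIndependent (ResidueField A) (⇑(maximalIdeal A).toCotangent ∘ Sum.elim f g)) :
    ∃ j₀ : ι, ∃ (P : ∀ j, j₀ ≤ j → Ideal (B j)) (Q : ∀ j, j₀ ≤ j → Ideal (B j)),
      (∀ j (hj : j₀ ≤ j), ∃ (F : Fin c → maximalIdeal (B j)) (E : Fin d → maximalIdeal (B j)),
        LinearIndependent (ResidueField (B j)) (⇑(maximalIdeal (B j)).toCotangent ∘ Sum.elim F E) ∧
        P j hj = Ideal.span (Set.range (fun s => (F s : B j))) ∧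
        Q j hj = P j hj ⊔ Ideal.span (Set.range (fun t => (E t : B j)))) ∧
      (∀ i j (hi : j₀ ≤ i) (hij : i ≤ j),
        (P i hi).map (φ i j hij) = P j (le_trans hi hij) ∧ (Q i hi).map (φ i j hij) = Q j (le_trans hi hij)) ∧
      (∀ j (hj : j₀ ≤ j),
        (P j hj).map (ψ j) = Ideal.span (Set.range (fun s => (f s : A))) ∧
        (Q j hj).map (ψ j) = Ideal.span (Set.range (fun s => (f s : A))) ⊔ Ideal.span (Set.range (fun t => (g t : A)))) := by
  classical
  have hloc : ∀ j, IsLocalHom (ψ j) := fun j => ⟨fun x hx => by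
    obtain ⟨y, hy⟩ := hx.exists_right_inv
    obtain ⟨i, y', rfl⟩ := hsurj y
    obtain ⟨k, hjk, hik⟩ := exists_ge_ge (α := ι) j i
    have h0 : ψ k (φ j k hjk x * φ i k hik y' - 1) = 0 := by
      rw [map_sub, map_mul, map_one, ← RingHom.comp_apply, ← RingHom.comp_apply, hψ, hψ, hy, sub_self]
    obtain ⟨l, hkl, hl⟩ := hker k _ h0
    rw [map_sub, map_mul, map_one, sub_eq_zero, ← RingHom.comp_apply, hφ j k l hjk hkl] at hl
    haveI := hφloc j l (hjk.trans hkl)
    exact isUnit_of_map_unit (φ j l (hjk.trans hkl)) x (IsUnit.of_mul_eq_one _ hl)⟩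
  let w : Fin c ⊕ Fin d → maximalIdeal A := Sum.elim f g
  choose J x hx using fun s => hsurj (w s : A)
  obtain ⟨j₀, hj₀⟩ := Finset.exists_le (Finset.univ.image J)
  have hJ : ∀ s, J s ≤ j₀ := fun s => hj₀ _ (Finset.mem_image_of_mem _ (Finset.mem_univ s))
  let X : ∀ j, j₀ ≤ j → Fin c ⊕ Fin d → B j := fun j hj s => φ (J s) j ((hJ s).trans hj) (x s)
  have hψX : ∀ j hj s, ψ j (X j hj s) = (w s : A) := fun j hj s => by
    rw [show ψ j (X j hj s) = (ψ j).comp (φ (J s) j _) (x s) from rfl, hψ]; exact hx s
  have hXm : ∀ j hj s, X j hj s ∈ maximalIdeal (B j) := fun j hj s h => by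
    have := h.map (ψ j)
    rw [hψX j hj] at this
    exact (w s).2 this
  have hind' : ∀ j hj, LinearIndependent (ResidueField (B j))
      (⇑(maximalIdeal (B j)).toCotangent ∘ fun s => (⟨X j hj s, hXm j hj s⟩ : maximalIdeal (B j))) := by
    intro j hj
    rw [Fintype.linearIndependent_iff]
    intro a ha s
    choose a' ha' using fun t => residue_surjective (a t)
    obtain rfl : a = fun t => residue (B j) (a' t) := funext fun t => (ha' t).symm
    have h1 : (∑ t, a' t * X j hj t) ∈ maximalIdeal (B j) ^ 2 := by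
      have h2 : (maximalIdeal (B j)).toCotangent (∑ t, a' t • (⟨X j hj t, hXm j hj t⟩ : maximalIdeal (B j))) = 0 := by
        rw [map_sum]
        refine Eq.trans (Finset.sum_congr rfl fun t _ => ?_) ha
        rw [map_smul]
        rfl
      rw [Ideal.toCotangent_eq_zero] at h2
      simpa using h2
    have h3 : (∑ t, ψ j (a' t) * (w t : A)) ∈ maximalIdeal A ^ 2 := by
      have := Ideal.mem_map_of_mem (ψ j) h1
      rw [Ideal.map_pow, map_sum] at this
      simp only [map_mul, hψX j hj] at this
      refine Ideal.pow_right_mono ?_ 2 this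
      haveI := hloc j
      exact (IsLocalRing.local_hom_TFAE (ψ j)).out 0 2 rfl rfl |>.mp (hloc j)
    have h4 : (maximalIdeal A).toCotangent (∑ t, ψ j (a' t) • w t) = 0 := by
      rw [Ideal.toCotangent_eq_zero]
      simpa using h3
    have h5 : ∑ t, residue A (ψ j (a' t)) • ((maximalIdeal A).toCotangent ∘ w) t = 0 := by
      rw [← h4, map_sum]
      refine Finset.sum_congr rfl fun t _ => ?_
      rw [map_smul]
      rfl
    have h6 := (Fintype.linearIndependent_iff.1 hind) _ h5 s
    show residue (B j) (a' s) = 0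
    rw [residue_eq_zero_iff, mem_maximalIdeal] at h6 ⊢
    exact fun h => h6 (h.map (ψ j))
  refine ⟨j₀, fun j hj => Ideal.span (Set.range fun s => X j hj (Sum.inl s)),
    fun j hj => Ideal.span (Set.range fun s => X j hj (Sum.inl s)) ⊔ Ideal.span (Set.range fun t => X j hj (Sum.inr t)),
    fun j hj => ⟨fun s => ⟨_, hXm j hj (Sum.inl s)⟩, fun t => ⟨_, hXm j hj (Sum.inr t)⟩, ?_, rfl, rfl⟩,
    fun i j hi hij => ?_, fun j hj => ?_⟩
  · convert hind' j hj using 2
    funext s
    cases s <;> rfl
  · have e : ∀ s, φ i j hij (X i hi s) = X j (hi.trans hij) s := fun s => by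
      rw [show φ i j hij (X i hi s) = (φ i j hij).comp (φ (J s) i _) (x s) from rfl, hφ]
    constructor <;> simp only [Ideal.map_sup, Ideal.map_span, ← Set.range_comp] <;> simp only [Function.comp_def, e]
  · constructor <;> simp only [Ideal.map_sup, Ideal.map_span, ← Set.range_comp] <;> simp only [Function.comp_def, hψX] <;> rfl

end Groth.Agent.S18136
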