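import Groth.Statements.S18150
import Groth.Agent.FrobSplitLib.Power
import Groth.Agent.FibVanLib.Basic
import Groth.Agent.BoundaryConn.Main
import Groth.Agent.GeomRk.AnyExt
import Groth.Agent.S1535

set_option autoImplicit false
universe u
open CategoryTheory AlgebraicGeometry Opposite TopologicalSpace
open FrobSch

namespace Groth.Agent.S18150

open CategoryTheory CategoryTheory.Limits AlgebraicGeometry

open Groth.Agent


/-- Let p be a prime, k a perfect field of characteristic p, and X an irreducible smooth proper k-scheme
of dimension n. Let φ be the p-th power map on the sheaf of additive groups underlying O_X and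
suppose X is Frobenius split: φ admits a retraction s, an additive endomorphism of O_X with s ∘ φ
the identity and s(a^p·b) = a·s(b) on every open. Then Kodaira vanishing holds on X: for every ample
invertible module L with tensor inverse L⁻¹ and every i < n, the cohomology group H^i(X, L⁻¹)
vanishes. (The source allows X Gorenstein projective; X is taken smooth, proper with an ample
invertible module, and irreducible so that n is the dimension of every component.) -/
theorem result (p : ℕ) [Fact p.Prime]
    (k : Type u) [Field k] [CharP k p] [PerfectRing k p]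
    (X : Scheme.{u}) [X.Over (Spec (CommRingCat.of k))] [IsProper (X ↘ Spec (CommRingCat.of k))]
    [Smooth (X ↘ Spec (CommRingCat.of k))] [IrreducibleSpace X] (n : ℕ) (hn : topologicalKrullDim X = n)
    (φ : Coh.toAb (Coh.structureModule X) ⟶ Coh.toAb (Coh.structureModule X))
    (hφ : ∀ (U : X.Opens) (t : Γ(X, U)), φ.hom.app (op U) t = t ^ p)
    (s : Coh.toAb (Coh.structureModule X) ⟶ Coh.toAb (Coh.structureModule X))
    (hs : φ ≫ s = 𝟙 _)
    (hlin : ∀ (U : X.Opens) (a b : Γ(X, U)),
      s.hom.app (op U) (a ^ p * b) = a * @id Γ(X, U) (s.hom.app (op U) b))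
    (L Linv : X.Modules) (hL : CohB1.IsAmple L) (hLinv : ClSub.IsInverseOf Linv L)
    (i : ℕ) (hi : i < n) :
    Subsingleton (Coh.HH X Linv i) := by
  haveI : IsLocallyNoetherian X := LocallyOfFiniteType.isLocallyNoetherian (X ↘ Spec (CommRingCat.of k))
  have hdepth : ∀ x : X, IsClosed ({x} : Set X) → (n : ℕ∞) ≤ LocCoh.depth (X.presheaf.stalk x)
      ((Coh.structureModule X).presheaf.stalk x) := fun x hx => by
    haveI := S1535.result k X x
    have h := GeomRk.depth_eq_dim_of_regular (X.presheaf.stalk x)
    rw [BoundaryConn.ringKrullDim_stalk_closed (X ↘ Spec (CommRingCat.of k)) x hx, hn] at h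
    have h' : (n : ℕ∞) = LocCoh.depth (X.presheaf.stalk x) (X.presheaf.stalk x) := by
      have := h.symm
      exact WithBot.coe_injective this
    rw [h']
    exact le_of_eq (Depth.depth_congr (LinearEquiv.ofBijective (LinearMap.toSpanSingleton _ _ _)
      (ParaFLib.bijective_oneG x)))
  have hinv : PicF.IsInvertible Linv := AmpleLib.isInvertible_of_tensor_iso (Classical.choice hLinv)
  obtain ⟨m₀, hm₀⟩ := FibVanLib.eventually_subsingleton_neg_coh k hL ⟨AmpleLib.comm L Linv ≪≫ Classical.choice hLinv⟩
    (DevLib.isCoh_structureModule X)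
    (CurveLib.isFinLocFree_of_isInvertible (ParaFLib.isInvertible_structureModule (X := X))) hdepth
  have hadd := FrobSplitLib.add_pow_of_frob p φ hφ
  have hp1 : 1 < p := (Fact.out : p.Prime).one_lt
  have step : ∀ e, Subsingleton (Coh.HH X (CohB1.tensorPow Linv (p ^ (e + 1))) i) →
      Subsingleton (Coh.HH X (CohB1.tensorPow Linv (p ^ e)) i) := fun e he => by
    have hP := AmpleLib.isInvertible_tensorPow hinv (p ^ e)
    have hT := FrobSplitLib.frobHH_injective p hP hadd hlin φ hφ hs i
    rw [pow_succ] at he
    haveI := he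
    haveI : Subsingleton (Coh.HH X (CohB1.tensorPow (CohB1.tensorPow Linv (p ^ e)) p) i) :=
      (ProjCoh.hhLinearEquiv (AmpleLib.powMul Linv (p ^ e) p) i).toEquiv.subsingleton
    exact hT.subsingleton
  have big : Subsingleton (Coh.HH X (CohB1.tensorPow Linv (p ^ m₀)) i) := by
    haveI := hm₀ (p ^ m₀) (Nat.lt_pow_self hp1).le i hi
    exact (ProjCoh.hhLinearEquiv (AmpleLib.unitL _ ≪≫ AmpleLib.unitL (CohB1.tensorPow Linv (p ^ m₀))) i).symm.toEquiv.subsingleton
  have all : ∀ e, Subsingleton (Coh.HH X (CohB1.tensorPow Linv (p ^ e)) i) → Subsingleton (Coh.HH X (CohB1.tensorPow Linv 1) i) := by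
    intro e
    induction e with
    | zero => intro h; rwa [pow_zero] at h
    | succ e ih => exact fun h => ih (step e h)
  haveI := all m₀ big
  exact (ProjCoh.hhLinearEquiv (AmpleLib.powOne Linv) i).symm.toEquiv.subsingleton

end Groth.Agent.S18150
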