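import Groth.Statements.S18153
import Mathlib

set_option autoImplicit false
universe u w
open FrobAlg

namespace Groth.Agent.S18153

open MvPolynomial in
theorem X_mul_pderiv_monomial' {R : Type*} [CommRing R] {τ : Type*} (j : τ) (a : τ →₀ ℕ) (c : R) :
    X j * pderiv j (monomial a c) = C (a j : R) * monomial a c := by
  classical
  rw [pderiv_monomial, X, monomial_mul, C_mul_monomial, one_mul]
  rcases Nat.eq_zero_or_pos (a j) with h | h
  · simp [h]
  · rw [add_comm, tsub_add_cancel_of_le (Finsupp.single_le_iff.2 h), mul_comm]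

/-- Let R be a commutative ring of prime characteristic p and f_1, …, f_m (m ≥ 1) polynomials over R in
the variables t_1, …, t_m and a further, possibly empty, family of variables s_a. Then in the m × m
Jacobian determinant det(∂f_i/∂t_j) with respect to the t-variables, the coefficient of the monomial
t_1^{p-1} ⋯ t_m^{p-1} (all s-exponents zero) vanishes. (In the source this is the claim, for formal
power series in n ≥ m variables over the base field, to which the proof of the proposition reduces;
the coefficient in question only involves truncations of the f_i, so the polynomial form over any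
ring of characteristic p is the same assertion.) -/
theorem result
    (p : ℕ) [Fact p.Prime] (R : Type u) [CommRing R] [CharP R p]
    {m : ℕ} (hm : 0 < m) (σ : Type w) (f : Fin m → MvPolynomial (Fin m ⊕ σ) R) :
    MvPolynomial.coeff
        (Finsupp.sumElim (Finsupp.equivFunOnFinite.symm fun _ : Fin m => p - 1) (0 : σ →₀ ℕ))
        (Matrix.of fun i j : Fin m => MvPolynomial.pderiv (Sum.inl j) (f i)).det = 0 := by
  classical
  let P : Fin m ⊕ σ →₀ ℕ :=
    Finsupp.sumElim (Finsupp.equivFunOnFinite.symm fun _ : Fin m => p - 1) (0 : σ →₀ ℕ)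
  let row : MvPolynomial (Fin m ⊕ σ) R → Fin m → MvPolynomial (Fin m ⊕ σ) R :=
    fun g j => MvPolynomial.pderiv (Sum.inl j) g
  let d : MultilinearMap (MvPolynomial (Fin m ⊕ σ) R)
      (fun _ : Fin m => Fin m → MvPolynomial (Fin m ⊕ σ) R) (MvPolynomial (Fin m ⊕ σ) R) :=
    (Matrix.detRowAlternating : AlternatingMap _ _ _ (Fin m)).toMultilinearMap
  show MvPolynomial.coeff P (d (fun i => row (f i))) = 0
  have hsplit : (fun i => row (f i)) =
      fun i => ∑ a ∈ (f i).support, row (MvPolynomial.monomial a ((f i).coeff a)) := by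
    funext i j
    simp only [row, Finset.sum_apply, ← map_sum, ← MvPolynomial.as_sum]
  rw [hsplit, MultilinearMap.map_sum_finset, MvPolynomial.coeff_sum]
  refine Finset.sum_eq_zero fun r _ => ?_
  show MvPolynomial.coeff P (Matrix.of fun i j => MvPolynomial.pderiv (Sum.inl j)
    (MvPolynomial.monomial (r i) ((f i).coeff (r i)))).det = 0
  set G : Matrix (Fin m) (Fin m) (MvPolynomial (Fin m ⊕ σ) R) := Matrix.of fun i j =>
    MvPolynomial.pderiv (Sum.inl j) (MvPolynomial.monomial (r i) ((f i).coeff (r i))) with hG
  set A : Matrix (Fin m) (Fin m) R := Matrix.of fun i j => ((r i (Sum.inl j) : ℕ) : R) with hA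
  set c : Fin m → MvPolynomial (Fin m ⊕ σ) R :=
    fun i => MvPolynomial.monomial (r i) ((f i).coeff (r i)) with hc
  have hkey : (∏ j : Fin m, MvPolynomial.X (Sum.inl j)) * G.det = (∏ i, c i) * MvPolynomial.C A.det := by
    rw [RingHom.map_det, ← Matrix.det_mul_row, ← Matrix.det_mul_column]
    congr 1
    refine Matrix.ext fun i j => ?_
    simp only [hG, hA, hc, Matrix.of_apply, RingHom.mapMatrix_apply, Matrix.map_apply]
    rw [X_mul_pderiv_monomial', mul_comm]
  have hX : (∏ j : Fin m, (MvPolynomial.X (Sum.inl j) : MvPolynomial (Fin m ⊕ σ) R)) =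
      MvPolynomial.monomial (∑ j : Fin m, Finsupp.single (Sum.inl j) 1) 1 :=
    (MvPolynomial.monomial_sum_one _ _).symm
  have hcp : (∏ i, c i) = MvPolynomial.monomial (∑ i, r i) (∏ i, (f i).coeff (r i)) :=
    (MvPolynomial.monomial_sum_prod _ _ _).symm
  rw [hX, hcp, mul_comm (MvPolynomial.monomial _ _) (MvPolynomial.C _), MvPolynomial.C_mul_monomial] at hkey
  have := congrArg (MvPolynomial.coeff ((∑ j : Fin m, Finsupp.single (Sum.inl j) 1) + P)) hkey
  rw [MvPolynomial.coeff_monomial_mul, one_mul, MvPolynomial.coeff_monomial] at this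
  rw [this]
  split_ifs with hEq
  · have hdet : A.det = 0 := by
      have h1 := Matrix.det_updateRow_sum A ⟨0, hm⟩ (fun _ => (1 : R))
      rw [one_smul] at h1
      rw [← h1]
      refine Matrix.det_eq_zero_of_row_eq_zero ⟨0, hm⟩ fun j => ?_
      rw [Matrix.updateRow_self, Finset.sum_apply]
      simp only [Pi.smul_apply, one_smul, hA, Matrix.of_apply]
      rw [← Nat.cast_sum, CharP.cast_eq_zero_iff R p]
      have h2 := DFunLike.congr_fun hEq (Sum.inl j)
      simp [P, Finsupp.finset_sum_apply, Finsupp.single_apply] at h2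
      have hp := (Fact.out : p.Prime).one_le
      refine ⟨1, ?_⟩
      omega
    rw [hdet, zero_mul]
  · rfl

end Groth.Agent.S18153
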