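import Groth.Statements.S18154
import Groth.Agent.FrobAlgLib.DivDet

set_option autoImplicit false
universe u v
open FrobAlg

namespace Groth.Agent.S18154

/-- Let k be an algebraically closed field of characteristic p, A a smooth k-algebra that is an integral
domain, and t_1, …, t_n ∈ A such that dt_1, …, dt_n is a basis of the module of Kähler differentials
Ω_{A/k}. Let (B, ι, π, Φ) be a flat lifting of A over W_2(k) together with a lift Φ of Frobenius,
T_i ∈ B lifts of the t_i, and F_i ∈ B with Φ(T_i) = T_i^p + p·F_i; put f_i = π(F_i) ∈ A. Then the n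
× n matrix over A with entries δ_{ij} t_i^{p-1} + ∂f_i/∂t_j, the partial derivatives being the
coordinates of df_i in the basis dt_j, has nonzero determinant. This is the matrix of the A-linear
map F_A^*Ω_{A/k} → Ω_{A/k} obtained from dΦ after dividing by p, which is therefore generically
bijective. (The source states generic bijectivity for a smooth variety and reduces it to this
determinant on an affine open with étale coordinates.) -/
theorem result
    (p : ℕ) [Fact p.Prime] (k : Type u) [Field k] [IsAlgClosed k] [CharP k p]
    (A : Type v) [CommRing A] [IsDomain A] [Algebra k A] [Algebra.Smooth k A]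
    {n : ℕ} (t : Fin n → A) (b : Module.Basis (Fin n) A (KaehlerDifferential k A))
    (hb : ∀ i, b i = KaehlerDifferential.D k A (t i))
    (B : Type v) [CommRing B] (ι : FrobAlg.W2 p k →+* B) (π : B →+* A) (Φ : B →+* B)
    (hΦ : FrobAlg.IsFrobLift p k A B ι π Φ)
    (T F : Fin n → B) (hT : ∀ i, π (T i) = t i) (hF : ∀ i, Φ (T i) = T i ^ p + (p : B) * F i) :
    (Matrix.of fun i j : Fin n =>
        (if i = j then t i ^ (p - 1) else 0) +
          b.coord j (KaehlerDifferential.D k A (π (F i)))).det ≠ 0 := by
  classical
  haveI : CharP A p := charP_of_injective_algebraMap (algebraMap k A).injective p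
  let Dv : Fin n → Derivation k A A := fun j => (b.coord j).compDer (KaehlerDifferential.D k A)
  have hDv : ∀ i j, Dv i (t j) = if i = j then 1 else 0 := fun i j => by
    show b.coord i (KaehlerDifferential.D k A (t j)) = _
    rw [← hb, Module.Basis.coord_apply, Module.Basis.repr_self, Finsupp.single_apply]
    simp only [eq_comm]
  have hzero : ∀ E : Derivation k A A, (∀ j, E (t j) = 0) → E = 0 := fun E hE => by
    have h : E.liftKaehlerDifferential = 0 := b.ext fun j => by
      rw [hb, Derivation.liftKaehlerDifferential_comp_D, hE, LinearMap.zero_apply]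
    refine Derivation.ext fun a => ?_
    rw [← Derivation.liftKaehlerDifferential_comp_D E a, h]
    rfl
  have hcomm : ∀ i j a, Dv i (Dv j a) = Dv j (Dv i a) := fun i j a => by
    have h := hzero (Groth.Agent.FrobAlgLib.bracket (Dv i) (Dv j)) fun l => by
      rw [Groth.Agent.FrobAlgLib.bracket_apply, hDv, hDv]
      split_ifs <;> simp
    have h' := congrArg (fun E : Derivation k A A => E a) h
    simp only [Groth.Agent.FrobAlgLib.bracket_apply, Derivation.zero_apply] at h'
    exact sub_eq_zero.1 h'
  have hp : ∀ j a, ((Dv j).toLinearMap ^ p) a = 0 := fun j a => by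
    have h := hzero (Groth.Agent.FrobAlgLib.iterPow p (Dv j)) fun l => by
      have hpp := (Fact.out : p.Prime)
      rw [Groth.Agent.FrobAlgLib.iterPow_apply, show p = (p - 2) + 1 + 1 by have := hpp.two_le; omega, pow_succ,
        Module.End.mul_apply, Derivation.coeFn_coe, hDv, pow_succ, Module.End.mul_apply, Derivation.coeFn_coe]
      split_ifs <;> simp
    exact congrArg (fun E : Derivation k A A => E a) h
  have := Groth.Agent.FrobAlgLib.det_ne_zero Dv hcomm p t hDv hp (fun i => π (F i))
  convert this using 4
  funext j
  rfl

end Groth.Agent.S18154
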