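import Groth.Statements.S18161
import Groth.Agent.EtaleSplit.DegStrat
import Groth.Agent.StratX.Quot
import Groth.Agent.Unibranch.Open
import Mathlib.AlgebraicGeometry.Morphisms.LocalIso
-- import your own Groth.Agent.* helpers here
set_option backward.isDefEq.respectTransparency false
set_option backward.isDefEq.respectTransparency.types false
set_option maxHeartbeats 1000000

set_option autoImplicit false
universe u
open BSB

namespace Groth.Agent.S18161

section
open CategoryTheory CategoryTheory.Limits AlgebraicGeometry Groth.Agent Groth.Agent.EtaleSplit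

/-- The degree of a finite scheme over a field is the dimension of its global sections. -/
theorem finrank_toSpec {k : Type u} [Field k] {P : Scheme.{u}} (p : P ⟶ Spec (CommRingCat.of k))
    [IsFinite p] [Flat p] (s : Spec (CommRingCat.of k)) :
    p.finrank s = @Module.finrank k Γ(P, ⊤) _ _
      (((Scheme.ΓSpecIso (CommRingCat.of k)).inv ≫ p.appTop).hom.toAlgebra).toModule := by
  letI := ((Scheme.ΓSpecIso (CommRingCat.of k)).inv ≫ p.appTop).hom.toAlgebra
  haveI : IsAffine P := isAffine_of_isAffineHom p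
  have hp : p = P.isoSpec.hom ≫ Spec.map (CommRingCat.ofHom (algebraMap k Γ(P, ⊤))) := by
    rw [RingHom.algebraMap_toAlgebra, CommRingCat.ofHom_hom, Spec.map_comp,
      Scheme.isoSpec_hom_naturality_assoc, Scheme.isoSpec_Spec_hom, ← Spec.map_comp, Iso.inv_hom_id,
      Spec.map_id, Category.comp_id]
  haveI : IsFinite (Spec.map (CommRingCat.ofHom (algebraMap k Γ(P, ⊤)))) :=
    (MorphismProperty.cancel_left_of_respectsIso @IsFinite P.isoSpec.hom _).1 (hp ▸ ‹IsFinite p›)
  haveI : Module.Finite k Γ(P, ⊤) := RingHom.finite_algebraMap.1 ((IsFinite.SpecMap_iff _).1 ‹_›)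
  haveI : Flat (Spec.map (CommRingCat.ofHom (algebraMap k Γ(P, ⊤)))) := by
    rw [Flat.SpecMap_iff]; exact RingHom.flat_algebraMap_iff.2 inferInstance
  conv_lhs => rw [hp]
  rw [Scheme.Hom.finrank_comp_left_of_isIso,
    Scheme.Hom.finrank_SpecMap_eq_finrank ((IsFinite.SpecMap_iff _).1 ‹_›) ((Flat.SpecMap_iff).1 ‹_›),
    CommRingCat.hom_ofHom, RingHom.finrank_algebraMap, Module.rankAtStalk_eq_finrank_of_free]
  rfl

/-- A flat surjection of finite schemes of the same degree over a field is an isomorphism. -/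
theorem isIso_of_finrank_eq {k : Type u} [Field k] {P Q : Scheme.{u}}
    (p : P ⟶ Spec (CommRingCat.of k)) (e : Q ⟶ P)
    [IsFinite p] [IsFinite (e ≫ p)] [Flat p] [Flat e] [Surjective e] (s : Spec (CommRingCat.of k))
    (h : (e ≫ p).finrank s = p.finrank s) : IsIso e := by
  haveI : IsAffine P := isAffine_of_isAffineHom p
  haveI : IsAffine Q := isAffine_of_isAffineHom (e ≫ p)
  rw [finrank_toSpec (e ≫ p) s, finrank_toSpec p s] at h
  letI := ((Scheme.ΓSpecIso (CommRingCat.of k)).inv ≫ p.appTop).hom.toAlgebra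
  letI := ((Scheme.ΓSpecIso (CommRingCat.of k)).inv ≫ (e ≫ p).appTop).hom.toAlgebra
  let φ : Γ(P, ⊤) →ₐ[k] Γ(Q, ⊤) := AlgHom.mk e.appTop.hom fun r => by
    rw [RingHom.algebraMap_toAlgebra, RingHom.algebraMap_toAlgebra, Scheme.Hom.comp_appTop]
    rfl
  have hes : Spec.map e.appTop = Q.isoSpec.inv ≫ e ≫ P.isoSpec.hom := by
    rw [← Scheme.isoSpec_hom_naturality, Iso.inv_hom_id_assoc]
  haveI : Flat (Spec.map e.appTop) := by rw [hes]; infer_instance
  haveI : Surjective (Spec.map e.appTop) := by rw [hes]; infer_instance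
  haveI : Module.Finite k Γ(Q, ⊤) := by
    have hh : IsFinite (Spec.map ((Scheme.ΓSpecIso (CommRingCat.of k)).inv ≫ (e ≫ p).appTop)) := by
      have : Spec.map ((Scheme.ΓSpecIso (CommRingCat.of k)).inv ≫ (e ≫ p).appTop) = Q.isoSpec.inv ≫ e ≫ p := by
        rw [Spec.map_comp, ← cancel_epi Q.isoSpec.hom, Scheme.isoSpec_hom_naturality_assoc,
          Scheme.isoSpec_Spec_hom, ← Spec.map_comp, Iso.inv_hom_id, Spec.map_id, Category.comp_id,
          Iso.hom_inv_id_assoc]
      rw [this]; infer_instance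
    exact RingHom.finite_algebraMap.1 ((IsFinite.SpecMap_iff _).1 hh)
  have hinj : Function.Injective φ.toLinearMap :=
    (RingHom.FaithfullyFlat.iff_flat_and_comap_surjective.2
      ⟨(Flat.SpecMap_iff).1 ‹_›, (Spec.map e.appTop).surjective⟩).injective
  haveI : FiniteDimensional k Γ(P, ⊤) := Module.Finite.of_injective φ.toLinearMap hinj
  have hsurj := (LinearMap.injective_iff_surjective_of_finrank_eq_finrank h.symm).1 hinj
  haveI : IsIso e.appTop := (ConcreteCategory.isIso_iff_bijective _).2 ⟨hinj, hsurj⟩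
  haveI : IsIso (Q.isoSpec.inv ≫ e ≫ P.isoSpec.hom) := hes ▸ inferInstance
  haveI : IsIso (e ≫ P.isoSpec.hom) := IsIso.of_isIso_comp_left Q.isoSpec.inv _
  exact IsIso.of_isIso_comp_right e P.isoSpec.hom

/-- An injective local isomorphism is an open immersion. -/
theorem isOpenImmersion_of_isLocalIso_injective {X Y : Scheme.{u}} (e : X ⟶ Y) [IsLocalIso e]
    (hinj : Function.Injective e) : IsOpenImmersion e := by
  rw [IsOpenImmersion.iff_isIso_stalkMap]
  refine ⟨Topology.IsOpenEmbedding.of_continuous_injective_isOpenMap e.continuous hinj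
    (isOpenMap_iff_nhds_le.mpr fun x => ?_), fun x => ?_⟩
  · obtain ⟨U, hx, hU⟩ := IsLocalIso.exists_isOpenImmersion (f := e) x
    obtain ⟨w, rfl⟩ : x ∈ Set.range U.ι := ⟨⟨x, hx⟩, rfl⟩
    rw [← U.ι.isOpenEmbedding.map_nhds_eq, Filter.map_map]
    exact ((U.ι ≫ e).isOpenEmbedding.map_nhds_eq w).ge
  · obtain ⟨U, hx, hU⟩ := IsLocalIso.exists_isOpenImmersion (f := e) x
    obtain ⟨w, rfl⟩ : x ∈ Set.range U.ι := ⟨⟨x, hx⟩, rfl⟩
    have := Scheme.Hom.stalkMap_comp U.ι e w
    haveI : IsIso (e.stalkMap (U.ι w) ≫ U.ι.stalkMap w) := this ▸ inferInstance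
    exact IsIso.of_isIso_comp_right _ (U.ι.stalkMap w)

theorem isIso_of_isOpenImmersion_surjective {X Y : Scheme.{u}} (e : X ⟶ Y) [IsOpenImmersion e]
    [Surjective e] : IsIso e := by
  haveI : Epi e.base := (TopCat.epi_iff_surjective _).2 e.surjective
  exact IsOpenImmersion.isIso e

/-- Near a point, after an etale cover, a universally closed etale map of constant degree is finite. -/
theorem exists_etale_nbhd_isFinite {T S : Scheme.{u}} (f : T ⟶ S) [Etale f] [QuasiCompact f]
    [UniversallyClosed f] [LocallyQuasiFinite f] (hf : FinFib f) (d : ℕ) (hdeg0 : ∀ y, fdeg f y = d) (y : S) :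
    ∃ (U : Scheme.{u}) (g : U ⟶ S), Etale g ∧ y ∈ Set.range g ∧ IsFinite (pullback.snd f g) := by
  classical
  haveI := hf y
  let F := (f ⁻¹' {y} : Set T)
  have hF : F.Finite := Scheme.Hom.finite_preimage_singleton f y
  haveI := hF.fintype
  let x : Fin (Fintype.card ↥F) → T := fun i => ((Fintype.equivFin ↥F).symm i).1
  obtain ⟨U, g, t, ⟨hg, ht, hbij⟩, V, v, hv⟩ := exists_nbhd_finite_parts f y x
    (fun i => ((Fintype.equivFin ↥F).symm i).2) (fun i => f.quasiFiniteAt _)
  haveI := hg
  let f' := pullback.snd f g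
  obtain ⟨hf', hdeg⟩ := finFib_baseChange hf (IsPullback.of_hasPullback f g)
  let Q : ULift.{u} (Fin (Fintype.card ↥F)) → Scheme.{u} := fun i => (V i.down).toScheme
  let e : ∐ Q ⟶ pullback f g := Limits.Sigma.desc fun i => (V i.down).ι
  have hι : ∀ i, Limits.Sigma.ι Q i ≫ e = (V i.down).ι := fun i => Limits.Sigma.ι_desc _ _
  haveI : IsFinite (e ≫ f') := by
    have : e ≫ f' = Limits.Sigma.desc (f := Q) fun i => (V i.down).ι ≫ f' := Limits.Sigma.hom_ext _ _ fun i => by
      rw [← Category.assoc, hι, Limits.Sigma.ι_desc]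
    rw [this]
    exact StratX.isFinite_sigmaDesc' _ _ fun i => (hv i.down).2.1
  haveI : IsLocalIso e :=
    IsZariskiLocalAtSource.sigmaDesc (P := @IsLocalIso) fun i => ⟨fun a => ⟨⊤, trivial, inferInstance⟩⟩
  haveI : Etale e := IsZariskiLocalAtSource.sigmaDesc fun i => inferInstance
  have hcover : ∀ z : ↥(∐ Q), ∃ i a, Limits.Sigma.ι Q i a = z := fun z => (sigmaOpenCover Q).exists_eq z
  have hrange : ∀ i (a : Q i), e (Limits.Sigma.ι Q i a) = a.1 := fun i a => by
    rw [← Scheme.Hom.comp_apply, hι]; rfl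
  have hpt : ∀ w, f' w = t → ∃ i, w = v i := fun w hw => by
    have hwF : pullback.fst f g w ∈ F := by
      show f _ = y
      rw [← Scheme.Hom.comp_apply, pullback.condition, Scheme.Hom.comp_apply, hw, ht]
    obtain ⟨-, -, h3, -, h5, -⟩ := hv (Fintype.equivFin ↥F ⟨_, hwF⟩)
    exact ⟨_, fst_injOn_fibre f g t hbij hw h3 (by rw [h5]; simp [x])⟩
  have hvinj : Function.Injective v := fun i j hij => by
    have h := congrArg (pullback.fst f g) hij
    rw [(hv i).2.2.2.2.1, (hv j).2.2.2.2.1] at h
    exact (Fintype.equivFin ↥F).symm.injective (Subtype.ext h)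
  have sq : ∀ u : U, IsPullback (pullback.fst e (pullback.fst f' (U.fromSpecResidueField u)))
      (pullback.snd e (pullback.fst f' (U.fromSpecResidueField u)) ≫ pullback.snd f' (U.fromSpecResidueField u))
      (e ≫ f') (U.fromSpecResidueField u) := fun u =>
    (IsPullback.of_hasPullback e _).paste_vert (IsPullback.of_hasPullback f' _)
  have hp₁ : ∀ (u : U) (z), f' (pullback.fst f' (U.fromSpecResidueField u) z) = u := fun u z => by
    rw [← Scheme.Hom.comp_apply, pullback.condition, Scheme.Hom.comp_apply]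
    exact (congrArg _ (Subsingleton.elim _ _)).trans
      (Scheme.fromSpecResidueField_apply _ (IsLocalRing.closedPoint _))
  have hEsurj : ∀ u : U, (∀ w, f' w = u → w ∈ Set.range e) →
      Surjective (pullback.snd e (pullback.fst f' (U.fromSpecResidueField u))) := fun u hu => ⟨fun z => by
    obtain ⟨b, hb⟩ := hu _ (hp₁ u z)
    obtain ⟨w, -, hw⟩ := Scheme.Pullback.exists_preimage_pullback (f := e) b z hb
    exact ⟨w, hw⟩⟩
  have hdegu : ∀ u : U, (pullback.snd e (pullback.fst f' (U.fromSpecResidueField u)) ≫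
      pullback.snd f' (U.fromSpecResidueField u)).finrank (IsLocalRing.closedPoint _) = (e ≫ f').finrank u :=
    fun u => by
      rw [Scheme.Hom.finrank_of_isPullback _ _ _ _ (sq u), Scheme.fromSpecResidueField_apply]
  have hdd : ∀ u : U, (pullback.snd f' (U.fromSpecResidueField u)).finrank (IsLocalRing.closedPoint _) = d :=
    fun u => (hdeg u).trans (hdeg0 _)
  have hinjt : ∀ z z', f' (e z) = t → e z = e z' → z = z' := by
    have h1 : ∀ z, f' (e z) = t → ∃ i, ∃ h : v i.down ∈ V i.down, z = Limits.Sigma.ι Q i ⟨_, h⟩ ∧ e z = v i.down :=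
      fun z hz => by
        obtain ⟨i, a, rfl⟩ := hcover z
        rw [hrange] at hz
        have ha : a.1 = v i.down := (hv i.down).2.2.2.1 a.1 a.2 hz
        refine ⟨i, (hv i.down).1, ?_, by rw [hrange, ha]⟩
        exact congrArg (Limits.Sigma.ι Q i) (Subtype.ext ha)
    intro z z' hz he
    obtain ⟨i, hi, rfl, h2⟩ := h1 z hz
    obtain ⟨j, hj, rfl, h3⟩ := h1 z' (he ▸ hz)
    obtain rfl : i = j := ULift.down_injective (hvinj (h2.symm.trans (he.trans h3)))
    rfl
  have hcovt : ∀ w, f' w = t → w ∈ Set.range e := fun w hw => by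
    obtain ⟨i, rfl⟩ := hpt w hw
    exact ⟨Limits.Sigma.ι Q ⟨i⟩ ⟨_, (hv i).1⟩, hrange _ _⟩
  have hrt : (e ≫ f').finrank t = d := by
    let E := pullback.snd e (pullback.fst f' (U.fromSpecResidueField t))
    haveI : IsLocalIso E := MorphismProperty.pullback_snd _ _ inferInstance
    haveI : Surjective E := hEsurj t hcovt
    haveI : IsPreimmersion (pullback.fst e (pullback.fst f' (U.fromSpecResidueField t))) :=
      MorphismProperty.pullback_fst _ _ (MorphismProperty.pullback_fst _ _ inferInstance)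
    haveI : IsOpenImmersion E := isOpenImmersion_of_isLocalIso_injective E fun w w' h => by
      apply (pullback.fst e (pullback.fst f' (U.fromSpecResidueField t))).isEmbedding.injective
      have hc : ∀ w, e (pullback.fst e (pullback.fst f' (U.fromSpecResidueField t)) w) =
          pullback.fst f' (U.fromSpecResidueField t) (E w) := fun w => by
        rw [← Scheme.Hom.comp_apply, pullback.condition, Scheme.Hom.comp_apply]
      exact hinjt _ _ (by rw [hc]; exact hp₁ t _) (by rw [hc, hc, h])
    haveI : IsIso E := isIso_of_isOpenImmersion_surjective E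
    rw [← hdegu, Scheme.Hom.finrank_comp_left_of_isIso, hdd]
  let C : Set U := f' '' (Set.range e)ᶜ
  have hC : IsClosed C := f'.isClosedMap _ e.isOpenMap.isOpen_range.isClosed_compl
  let O : U.Opens := ⟨{u | (e ≫ f').finrank u = d} ∩ Cᶜ,
    ((Scheme.Hom.isLocallyConstant_finrank (e ≫ f')) {d}).inter hC.isOpen_compl⟩
  have hcovO : ∀ w, f' w ∈ O → w ∈ Set.range e := fun w hw => by
    by_contra hne
    exact hw.2 ⟨w, hne, rfl⟩
  have hinjO : ∀ z z', f' (e z) ∈ O → e z = e z' → z = z' := by
    intro z z' hz he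
    let u := f' (e z)
    let E := pullback.snd e (pullback.fst f' (U.fromSpecResidueField u))
    haveI : Surjective E := hEsurj u fun w hw => hcovO w (by rw [hw]; exact hz)
    haveI := hf' u
    haveI : IsFinite (E ≫ pullback.snd f' (U.fromSpecResidueField u)) :=
      MorphismProperty.of_isPullback (P := @IsFinite) (sq u) inferInstance
    haveI : IsIso E := isIso_of_finrank_eq (k := U.residueField u) (pullback.snd f' (U.fromSpecResidueField u)) E
      (IsLocalRing.closedPoint _) ((hdegu u).trans (hz.1.trans (hdd u).symm))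
    obtain ⟨a, ha, -⟩ := Scheme.Pullback.exists_preimage_pullback (f := f') (g := U.fromSpecResidueField u)
      (e z) (IsLocalRing.closedPoint _) (by rw [Scheme.fromSpecResidueField_apply])
    obtain ⟨w, hw1, hw2⟩ := Scheme.Pullback.exists_preimage_pullback (f := e) z a ha.symm
    obtain ⟨w', hw1', hw2'⟩ := Scheme.Pullback.exists_preimage_pullback (f := e) z' a (he ▸ ha.symm)
    rw [← hw1, ← hw1', E.homeomorph.injective (a₁ := w) (a₂ := w') (hw2.trans hw2'.symm)]
  refine ⟨O, O.ι ≫ g, inferInstance, ⟨⟨t, hrt, fun ⟨w, hw, hwt⟩ => hw (hcovt w hwt)⟩, ht⟩, ?_⟩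
  haveI : IsLocalIso (e ∣_ f' ⁻¹ᵁ O) :=
    MorphismProperty.of_isPullback (P := @IsLocalIso) (isPullback_morphismRestrict e _).flip inferInstance
  haveI : IsOpenImmersion (e ∣_ f' ⁻¹ᵁ O) := isOpenImmersion_of_isLocalIso_injective _ fun a b h => by
    have h' := congrArg Subtype.val h
    rw [morphismRestrict_base_coe, morphismRestrict_base_coe] at h'
    exact Subtype.ext (hinjO _ _ a.2 h')
  haveI : Surjective (e ∣_ f' ⁻¹ᵁ O) := ⟨fun w => by
    obtain ⟨z, hz⟩ := hcovO w.1 w.2
    refine ⟨⟨z, (show f' (e z) ∈ O from hz.symm ▸ w.2)⟩, Subtype.ext ?_⟩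
    rw [morphismRestrict_base_coe]; exact hz⟩
  haveI : IsIso (e ∣_ f' ⁻¹ᵁ O) := isIso_of_isOpenImmersion_surjective _
  haveI : IsFinite (f' ∣_ O) := by
    rw [← MorphismProperty.cancel_left_of_respectsIso @IsFinite (e ∣_ f' ⁻¹ᵁ O), ← morphismRestrict_comp]
    infer_instance
  have sq2 := ((isPullback_morphismRestrict f' O).flip.paste_horiz (IsPullback.of_hasPullback f g))
  rw [← sq2.isoPullback_inv_snd]
  infer_instance

end

open AlgebraicGeometry CategoryTheory CategoryTheory.Limits Groth.Agent Groth.Agent.EtaleSplit in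
/-- Let f : T ⟶ S be an étale, quasi-compact, quasi-separated and universally closed morphism of
schemes, and suppose that for some natural number d the global functions of every scheme-theoretic
fibre of f form a d-dimensional vector space over the residue field of the corresponding point of S.
Then f is finite. (Separatedness of f is not assumed.) -/
theorem result {T S : Scheme.{u}} (f : T ⟶ S)
    [Etale f] [QuasiCompact f] [QuasiSeparated f] [UniversallyClosed f] (d : ℕ)
    (hd : ∀ s : S, Module.finrank (S.residueField s) Γ(f.fiber s, ⊤) = d) :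
    IsFinite f := by
  haveI := Unibranch.locallyQuasiFinite_of_etale f
  have hf : FinFib f := fun y => by
    haveI : LocallyQuasiFinite (pullback.snd f (S.fromSpecResidueField y)) := inferInstance
    exact IsFinite.of_locallyQuasiFinite _
  have hdeg0 : ∀ y, fdeg f y = d := fun y => by
    haveI := hf y
    rw [← hd y]
    exact finrank_toSpec (k := S.residueField y) (pullback.snd f (S.fromSpecResidueField y)) _
  have key2 : ∀ y : S, ∃ W : S.Opens, y ∈ W ∧ IsFinite (f ∣_ W) := fun y => by
    obtain ⟨U, g, hg, hyg, hfin⟩ := exists_etale_nbhd_isFinite f hf d hdeg0 y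
    haveI := hg
    let W : S.Opens := ⟨Set.range g, g.isOpenMap.isOpen_range⟩
    refine ⟨W, hyg, ?_⟩
    let k : U ⟶ W.toScheme := IsOpenImmersion.lift W.ι g (by simp [W])
    have hk : k ≫ W.ι = g := IsOpenImmersion.lift_fac _ _ _
    haveI : Etale (k ≫ W.ι) := by rw [hk]; infer_instance
    haveI : Etale k := Etale.of_comp k W.ι
    haveI : Surjective k := ⟨fun z => by
      obtain ⟨v, hv⟩ := z.2
      refine ⟨v, W.ι.isOpenEmbedding.injective ?_⟩
      rw [← Scheme.Hom.comp_apply, hk, hv]
      rfl⟩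
    let l : pullback f g ⟶ (f ⁻¹ᵁ W).toScheme := (isPullback_morphismRestrict f W).lift
      (pullback.snd f g ≫ k) (pullback.fst f g) (by rw [Category.assoc, hk, pullback.condition])
    have hl : IsPullback l (pullback.snd f g) (f ∣_ W) k := by
      refine IsPullback.of_right (h₁₂ := (f ⁻¹ᵁ W).ι) (h₂₂ := W.ι) ?_ ?_ (isPullback_morphismRestrict f W).flip
      · rw [IsPullback.lift_snd, hk]; exact IsPullback.of_hasPullback f g
      · exact IsPullback.lift_fst _ _ _ _
    haveI := Groth.Agent.FpqcDesc.isFinite_descends.{u}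
    exact MorphismProperty.of_isPullback_of_descendsAlong (P := @IsFinite)
      (Q := @Surjective ⊓ @Flat ⊓ @LocallyOfFinitePresentation) hl.flip
      ⟨⟨inferInstance, inferInstance⟩, inferInstance⟩ hfin
  choose W hyW hW using key2
  exact (IsZariskiLocalAtTarget.iff_of_iSup_eq_top (P := @IsFinite) W
    (top_le_iff.mp fun y _ => TopologicalSpace.Opens.mem_iSup.mpr ⟨y, hyW y⟩)).mpr hW

end Groth.Agent.S18161
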