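import Groth.Statements.S18163
import Groth.Agent.SemiampleLib.Descend
import Groth.Agent.GGDescLib.Main
import Groth.Agent.AmpleEmb.Inverse
import Groth.Agent.AmpleLib.ExtendMod
import Groth.Agent.CurveLib.Inv
import Groth.Agent.QCohLib.FiniteType
import Groth.Agent.DCohLib.ProjMap

set_option autoImplicit false
universe u
open BSB

namespace Groth.Agent.S18163

set_option backward.isDefEq.respectTransparency false
set_option linter.style.haveILetI false
open CategoryTheory CategoryTheory.Limits AlgebraicGeometry TopologicalSpace Opposite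
open Groth.Agent

theorem finite_invertible {X : Scheme.{u}} {F : X.Modules} (hF : PicF.IsInvertible F) (W : X.Opens)
    (hW : IsAffineOpen W) : Module.Finite Γ(X, W) Γ(F, W) := by
  have h := PullbackMod.isQCoh_and_isFP_of_isFinLocFree F (CurveLib.isFinLocFree_of_isInvertible hF)
  haveI := h.1
  haveI := h.2
  exact QCohLib.finite_sections F (inferInstanceAs (SheafOfModules.IsFiniteType (R := X.ringCatSheaf) F)) hW

theorem exists_gg {Y : Scheme.{u}} {M F : Y.Modules} (hM : CohB1.IsAmple M) (hF : PicF.IsInvertible F) :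
    ∃ a : ℕ, 0 < a ∧ ∃ k₀ : ℕ, ∀ k, k₀ ≤ k →
      Curv2.IsGloballyGenerated (CohB1.tensorMod F (CohB1.tensorPow M (a * k))) := by
  haveI := hM.2.1
  haveI : Coh.IsQCoh F := InvExt.isQCoh_of_isInvertible hF
  exact AmpleLib.exists_twist_globallyGenerated hM F (finite_invertible hF)

theorem nonempty_iso_of_isEmpty {X : Scheme.{u}} [IsEmpty X] (M N : X.Modules) : Nonempty (M ≅ N) := by
  have key : ∀ M : X.Modules, IsZero M := fun M => by
    refine (IsZero.iff_id_eq_zero M).2 (Scheme.Modules.hom_ext _ _ fun U => ?_)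
    obtain rfl : U = ⊥ := Opens.ext (Set.eq_empty_of_isEmpty _)
    haveI : Subsingleton Γ(M, (⊥ : X.Opens)) := Module.subsingleton Γ(X, (⊥ : X.Opens)) _
    ext s
    exact Subsingleton.elim _ _
  exact ⟨(key M).iso (key N)⟩

/-- Globally generated invertible modules with a power coming from a generated one descend. -/
theorem exists_descend {k : Type u} [Field k] {X Y : Scheme.{u}} [CompactSpace X] [CompactSpace Y]
    {π : X ⟶ Y} [Surjective π] (hb : RigidLib.BijApp π) (pY : Y ⟶ Spec (CommRingCat.of k))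
    {P : X.Modules} (hP : PicF.IsInvertible P) (hgg : Curv2.IsGloballyGenerated P)
    {B : Y.Modules} (hB : PicF.IsInvertible B) (hBg : Curv2.IsGloballyGenerated B)
    {a c : ℕ} (e : CohB1.tensorPow P (a + 1) ≅ CohB1.tensorPow ((Scheme.Modules.pullback π).obj B) (c + 1)) :
    ∃ A : Y.Modules, PicF.IsInvertible A ∧ Nonempty ((Scheme.Modules.pullback π).obj A ≅ P) := by
  rcases isEmpty_or_nonempty X with hX | hX
  · exact ⟨_, ParaFLib.isInvertible_structureModule (X := Y), nonempty_iso_of_isEmpty _ _⟩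
  haveI : Nonempty Y := hX.map π.base
  obtain ⟨n₀, s₀, hc₀⟩ := SemiampleLib.exists_family hB hBg
  obtain ⟨n, s, hc⟩ := SemiampleLib.exists_family hP hgg
  obtain ⟨F, hFU, hFg, hFt⟩ := GenMorph.exists_ratioFamily hP s hc
  have hV : ∀ i, CohB1.genLocus _ (AmpleLib.pullS π (s₀ i)) = π ⁻¹ᵁ CohB1.genLocus B (s₀ i) := fun i =>
    AmpleLib.genLocus_pullS π hB (s₀ i)
  have hcov : ∀ x, ∃ i, x ∈ CohB1.genLocus _ (AmpleLib.pullS π (s₀ i)) := fun x => by
    obtain ⟨i, hi⟩ := hc₀ (π x)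
    exact ⟨i, (hV i).ge hi⟩
  choose V hVj using fun j => SemiampleLib.exists_preimage hb hP _ _
    (AmpleLib.isInvertible_pullback π hB) hV hcov e (s j)
  obtain ⟨G, hGU, hGt⟩ := SemiampleLib.exists_descend hb F V fun j => (hVj j).symm.trans (hFU j).symm
  let φY : k →+* Γ(Y, ⊤) := ((Scheme.ΓSpecIso (CommRingCat.of k)).inv ≫ pY.appTop).hom
  let h := GenMorph.toProj φY G
  have hpre : ∀ i, (π ≫ h) ⁻¹ᵁ AmpleEmb.stdOpen n k i = F.U i := fun i => by
    rw [Scheme.Hom.comp_preimage]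
    exact (congrArg (π ⁻¹ᵁ ·) (GenMorph.preimage_basicOpen φY G i)).trans (hGU i)
  have hr : ∀ i a, (π ≫ h).appLE (AmpleEmb.stdOpen n k i) (F.U i) (hpre i).ge (AmpleEmb.coordRatio n k i a) =
      F.t i a := fun i a => by
    rw [← Scheme.Hom.appLE_comp_appLE π h (AmpleEmb.stdOpen n k i) (G.U i) (F.U i)
      (GenMorph.le_preimage_stdOpen φY G i) (hGU i).ge, ConcreteCategory.comp_apply,
      GenMorph.toProj_appLE_ratio]
    exact hGt i a
  obtain ⟨ε⟩ := SemiampleLib.nonempty_iso_pullback F (π ≫ h) hpre hr s hFg hFt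
  exact ⟨(Scheme.Modules.pullback h).obj (Twist.twistProjSpace n k 1),
    AmpleLib.isInvertible_pullback _ (AmpleEmb.isInvertible_twistOne n k),
    ⟨(Scheme.Modules.pullbackComp π h).app _ ≪≫ ε.symm⟩⟩

/-- Let X and X' be proper over a field k, π : X ⟶ X' a k-morphism such that O_{X'} ⟶ π_* O_X is an
isomorphism, L an invertible O_X-module, M an ample invertible module on X' whose pullback along π
is isomorphic to L^m for some m > 0, and d > 0 such that for all large n the power L^n is globally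
generated exactly when d ∣ n (d is the exponent of the semiample module L, and X' with π is the
contraction L determines). Then for e > 0 the power L^e is isomorphic to the pullback of an
invertible module on X' if and only if d ∣ e. -/
theorem result (k : Type u) [Field k] (X X' : Scheme.{u})
    [X.Over (Spec (CommRingCat.of k))] [X'.Over (Spec (CommRingCat.of k))]
    [IsProper (X ↘ Spec (CommRingCat.of k))] [IsProper (X' ↘ Spec (CommRingCat.of k))]
    (π : X ⟶ X') (hover : π ≫ (X' ↘ Spec (CommRingCat.of k)) = X ↘ Spec (CommRingCat.of k))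
    (hπ : ∀ U : X'.Opens, IsIso (π.app U))
    (L : X.Modules) (hL : PicF.IsInvertible L) (M : X'.Modules) (hM : PicF.IsInvertible M) (hMa : CohB1.IsAmple M)
    (m : ℕ) (hm : 0 < m) (e0 : Nonempty ((Scheme.Modules.pullback π).obj M ≅ CohB1.tensorPow L m))
    (d : ℕ) (hd : 0 < d)
    (hexp : ∃ m0 : ℕ, ∀ n : ℕ, m0 ≤ n → (Curv2.IsGloballyGenerated (CohB1.tensorPow L n) ↔ d ∣ n)) :
    ∀ e : ℕ, 0 < e →
      ((∃ L' : X'.Modules, PicF.IsInvertible L' ∧ Nonempty ((Scheme.Modules.pullback π).obj L' ≅ CohB1.tensorPow L e)) ↔ d ∣ e) := by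
  haveI : CompactSpace X := QuasiCompact.compactSpace_of_compactSpace (X ↘ Spec (CommRingCat.of k))
  haveI : CompactSpace X' := hMa.2.1
  haveI : IsProper π := by
    haveI : IsProper (π ≫ (X' ↘ Spec (CommRingCat.of k))) := by rw [hover]; infer_instance
    exact IsProper.of_comp π (X' ↘ Spec (CommRingCat.of k))
  have hb : RigidLib.BijApp π := fun U => by
    haveI := hπ U
    exact ConcreteCategory.bijective_of_isIso (π.app U)
  haveI : Surjective π := ⟨fun y => by
    by_contra hy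
    let U : X'.Opens := ⟨(Set.range π.base)ᶜ, π.isClosedMap.isClosed_range.isOpen_compl⟩
    have hU : π ⁻¹ᵁ U = ⊥ := Opens.ext (Set.eq_empty_iff_forall_notMem.2 fun x hx => hx ⟨x, rfl⟩)
    haveI : Subsingleton Γ(X, π ⁻¹ᵁ U) := by rw [hU]; infer_instance
    haveI : Subsingleton Γ(X', U) := (hb U).1.subsingleton
    haveI : Nonempty U := ⟨⟨y, hy⟩⟩
    exact not_subsingleton Γ(X', U) ‹_›⟩
  obtain ⟨a, ha, k₀, hk₀⟩ := exists_gg hMa (ParaFLib.isInvertible_structureModule (X := X'))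
  let B := CohB1.tensorPow M (a * (k₀ + 1))
  have hBi : PicF.IsInvertible B := AmpleLib.isInvertible_tensorPow hM _
  have hBg : Curv2.IsGloballyGenerated B := AmpleLib.isGloballyGenerated_of_iso (AmpleLib.unitL B) (hk₀ _ (Nat.le_succ _))
  obtain ⟨e0⟩ := e0
  let eB : (Scheme.Modules.pullback π).obj B ≅ CohB1.tensorPow L (m * (a * (k₀ + 1))) :=
    AmpleLib.pullPow π M _ ≪≫ AmpleLib.powCongr e0 _ ≪≫ AmpleLib.powMul L m _
  obtain ⟨m0, hm0⟩ := hexp
  have desc : ∀ n : ℕ, m0 ≤ n → 0 < n → d ∣ n →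
      ∃ A : X'.Modules, PicF.IsInvertible A ∧ Nonempty ((Scheme.Modules.pullback π).obj A ≅ CohB1.tensorPow L n) := by
    intro n hn hn0 hdn
    obtain ⟨c, rfl⟩ : ∃ c, n = c + 1 := ⟨n - 1, by omega⟩
    obtain ⟨b, hb'⟩ : ∃ b, m * (a * (k₀ + 1)) = b + 1 :=
      ⟨_, (Nat.succ_pred_eq_of_pos (Nat.mul_pos hm (Nat.mul_pos ha (Nat.succ_pos _)))).symm⟩
    refine exists_descend hb (X' ↘ Spec (CommRingCat.of k)) (AmpleLib.isInvertible_tensorPow hL _)
      ((hm0 _ hn).2 hdn) hBi hBg (a := b) (c := c) ?_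
    exact AmpleLib.powMul L (c + 1) (b + 1) ≪≫ eqToIso (congrArg (CohB1.tensorPow L) (mul_comm _ _)) ≪≫
      (AmpleLib.powMul L (b + 1) (c + 1)).symm ≪≫
      AmpleLib.powCongr (eqToIso (congrArg (CohB1.tensorPow L) hb'.symm) ≪≫ eB.symm) (c + 1)
  intro e he
  refine ⟨?_, fun hde => ?_⟩
  · rintro ⟨L', hL', ⟨ε⟩⟩
    obtain ⟨a', ha', k₁, hk₁⟩ := exists_gg hMa hL'
    let t := d * (k₁ + m0)
    haveI : Coh.IsQCoh (CohB1.tensorMod L' (CohB1.tensorPow M (a' * t))) :=
      InvExt.isQCoh_of_isInvertible (AmpleLib.isInvertible_tensor hL' (AmpleLib.isInvertible_tensorPow hM _))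
    have h1 := GGDescLib.isGloballyGenerated_pullback π _ (hk₁ t
      ((Nat.le_add_right _ _).trans (Nat.le_mul_of_pos_left _ hd)))
    have h2 : Curv2.IsGloballyGenerated (CohB1.tensorPow L (e + m * (a' * t))) :=
      AmpleLib.isGloballyGenerated_of_iso (AmpleLib.pullTensor π L' _ ≪≫
        AmpleLib.tIso ε (AmpleLib.pullPow π M _ ≪≫ AmpleLib.powCongr e0 _ ≪≫ AmpleLib.powMul L m _) ≪≫
        (AmpleLib.powAdd L e _).symm) h1
    have hle : m0 ≤ e + m * (a' * t) := by
      have h3 : m0 ≤ t := (Nat.le_add_left _ _).trans (Nat.le_mul_of_pos_left _ hd)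
      have h4 : t ≤ m * (a' * t) := (Nat.le_mul_of_pos_left t ha').trans (Nat.le_mul_of_pos_left _ hm)
      omega
    exact (Nat.dvd_add_left (Dvd.dvd.mul_left (Dvd.dvd.mul_left (dvd_mul_right d _) a') m)).1 ((hm0 _ hle).1 h2)
  · have h1 : m0 ≤ e * (m0 + 1) := (Nat.le_succ _).trans (Nat.le_mul_of_pos_left _ he)
    obtain ⟨A₁, hA₁, ⟨i₁⟩⟩ := desc (e * (m0 + 1)) h1 (Nat.mul_pos he (Nat.succ_pos _)) (hde.mul_right _)
    obtain ⟨A₂, hA₂, ⟨i₂⟩⟩ := desc (e + e * (m0 + 1)) (h1.trans (Nat.le_add_left _ _)) (by omega)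
      (dvd_add hde (hde.mul_right _))
    obtain ⟨N, hN, ⟨ι⟩⟩ := AmpleEmb.exists_isInverseOf hA₁
    refine ⟨CohB1.tensorMod A₂ N, AmpleLib.isInvertible_tensor hA₂ hN, ⟨?_⟩⟩
    exact AmpleLib.pullTensor π A₂ N ≪≫
      AmpleLib.tIso (i₂ ≪≫ AmpleLib.powAdd L e _ ≪≫ AmpleLib.tIso (Iso.refl _) i₁.symm) (Iso.refl _) ≪≫
      AmpleLib.assoc _ _ _ ≪≫
      AmpleLib.tIso (Iso.refl _) ((AmpleLib.pullTensor π A₁ N).symm ≪≫
        (Scheme.Modules.pullback π).mapIso ι ≪≫ DCohLib.pullStructureIso π) ≪≫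
      AmpleLib.unitR _

end Groth.Agent.S18163
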