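import Groth.Statements.S18165
import Groth.Agent.InvSectionLib.Core
import Mathlib.AlgebraicGeometry.Morphisms.Smooth
import Mathlib.AlgebraicGeometry.Morphisms.Affine

set_option autoImplicit false
universe u
open BSB

namespace Groth.Agent.S18165

open AlgebraicGeometry CategoryTheory in
/-- Let A be a Henselian local ring with residue field κ and f : X ⟶ Spec A a smooth morphism. Let a
finite group G, of order invertible in κ, act on A by ring automorphisms inducing the identity on κ,
and on X by morphisms σ_g with σ_1 = 𝟙 and σ_{gh} = σ_g ≫ σ_h, compatibly with f (σ_g ≫ f = f ≫ Spec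
of the action of g on A). If x is a κ-point of X over the closed point that is fixed by every σ_g,
then f has a section a : Spec A ⟶ X through x which is equivariant: Spec of the action of g,
followed by a, equals a followed by σ_g. -/
theorem result (A : Type u) [CommRing A] [HenselianLocalRing A]
    (X : Scheme.{u}) (f : X ⟶ Spec (CommRingCat.of A)) [Smooth f]
    (G : Type u) [Group G] [Finite G] [MulSemiringAction G A]
    (hG : IsUnit ((Nat.card G : ℕ) : IsLocalRing.ResidueField A))
    (htriv : ∀ (g : G) (a : A), g • a - a ∈ IsLocalRing.maximalIdeal A)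
    (σ : G → (X ⟶ X)) (hσ1 : σ 1 = 𝟙 X) (hσmul : ∀ g h : G, σ (g * h) = σ g ≫ σ h)
    (hσf : ∀ g : G, σ g ≫ f = f ≫ Spec.map (CommRingCat.ofHom (MulSemiringAction.toRingHom G A g)))
    (x : Spec (CommRingCat.of (IsLocalRing.ResidueField A)) ⟶ X)
    (hx : x ≫ f = Spec.map (CommRingCat.ofHom (IsLocalRing.residue A)))
    (hfix : ∀ g : G, x ≫ σ g = x) :
    ∃ a : Spec (CommRingCat.of A) ⟶ X, a ≫ f = 𝟙 _ ∧
      Spec.map (CommRingCat.ofHom (IsLocalRing.residue A)) ≫ a = x ∧
      ∀ g : G, Spec.map (CommRingCat.ofHom (MulSemiringAction.toRingHom G A g)) ≫ a = a ≫ σ g := by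
  classical
  haveI := Fintype.ofFinite G
  let x₀ : X := x.base (IsLocalRing.closedPoint (IsLocalRing.ResidueField A))
  have hx₀ : ∀ g, (σ g).base x₀ = x₀ := fun g => by
    conv_rhs => rw [show x₀ = (x ≫ σ g).base (IsLocalRing.closedPoint (IsLocalRing.ResidueField A)) by rw [hfix g]]
    rfl
  have hcomp : ∀ g h y, (σ (g * h)).base y = (σ h).base ((σ g).base y) := fun g h y => by
    rw [hσmul]; rfl
  -- a stable affine neighbourhood
  obtain ⟨U, hU, hxU, -⟩ := exists_isAffineOpen_mem_and_subset (U := ⊤) (x := x₀) trivial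
  let W₀ : X.Opens := ⟨⋂ g : G, (σ g).base ⁻¹' (U : Set X),
    isOpen_iInter_of_finite fun g => U.2.preimage (σ g).continuous⟩
  obtain ⟨f₀, hf₀, hxf₀⟩ := hU.exists_basicOpen_le (V := W₀) ⟨x₀, Set.mem_iInter.2 fun g => by
    show (σ g).base x₀ ∈ U
    rw [hx₀]; exact hxU⟩ hxU
  have hD : IsAffineOpen (X.basicOpen f₀) := hU.basicOpen f₀
  have hle : ∀ g : G, X.basicOpen f₀ ≤ (σ g) ⁻¹ᵁ U := fun g y hy => Set.mem_iInter.1 (hf₀ hy) g
  let fg : G → Γ(X, X.basicOpen f₀) := fun g => ((σ g).appLE U (X.basicOpen f₀) (hle g)).hom f₀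
  have hprod : ∀ (T : Finset G) (y : X), y ∈ X.basicOpen (∏ g ∈ T, fg g) ↔
      y ∈ X.basicOpen f₀ ∧ ∀ g ∈ T, (σ g).base y ∈ X.basicOpen f₀ := by
    intro T y
    induction T using Finset.induction_on with
    | empty => simp [Scheme.basicOpen_of_isUnit]
    | insert i T hi ih =>
      rw [Finset.prod_insert hi, Scheme.basicOpen_mul, TopologicalSpace.Opens.mem_inf, ih, Finset.forall_mem_insert]
      simp only [fg, Scheme.basicOpen_appLE, TopologicalSpace.Opens.mem_inf]
      exact ⟨fun h => ⟨h.2.1, h.1.2, h.2.2⟩, fun h => ⟨⟨h.1, h.2.1⟩, h.1, h.2.2⟩⟩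
  let V : X.Opens := X.basicOpen (∏ g : G, fg g)
  have hV : IsAffineOpen V := hD.basicOpen _
  have hVmem : ∀ y, y ∈ V ↔ y ∈ X.basicOpen f₀ ∧ ∀ g, (σ g).base y ∈ X.basicOpen f₀ := fun y => by
    simpa using hprod Finset.univ y
  have hxV : x₀ ∈ V := (hVmem _).2 ⟨hxf₀, fun g => by rw [hx₀]; exact hxf₀⟩
  have hVs : ∀ g y, y ∈ V → (σ g).base y ∈ V := fun g y hy =>
    (hVmem _).2 ⟨((hVmem y).1 hy).2 g, fun h => by rw [← hcomp]; exact ((hVmem y).1 hy).2 (g * h)⟩
  -- the ring
  let S : Type u := Γ(X, V)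
  let j : Spec (CommRingCat.of S) ⟶ X := hV.fromSpec
  haveI : IsOpenImmersion j := inferInstanceAs (IsOpenImmersion hV.fromSpec)
  have hjr : Set.range j.base = (V : Set X) := hV.range_fromSpec
  letI : Algebra A S := (Spec.preimage (j ≫ f)).hom.toAlgebra
  have hjf : j ≫ f = Spec.map (CommRingCat.ofHom (algebraMap A S)) := (Spec.map_preimage _).symm
  haveI : Algebra.Smooth A S := by
    have hsm : Smooth (Spec.map (CommRingCat.ofHom (algebraMap A S))) := by rw [← hjf]; infer_instance
    rw [HasRingHomProperty.Spec_iff (P := @Smooth)] at hsm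
    exact RingHom.smooth_algebraMap.1 hsm
  have hrσ : ∀ g, Set.range (j ≫ σ g).base ⊆ Set.range j.base := by
    rintro g _ ⟨y, rfl⟩
    rw [hjr]
    exact hVs g _ (SetLike.mem_coe.1 (by rw [← hjr]; exact ⟨y, rfl⟩))
  let ψ : G → (CommRingCat.of S ⟶ CommRingCat.of S) := fun g =>
    Spec.preimage (IsOpenImmersion.lift j (j ≫ σ g) (hrσ g))
  have hψ : ∀ g, Spec.map (ψ g) ≫ j = j ≫ σ g := fun g => by
    rw [Spec.map_preimage, IsOpenImmersion.lift_fac]
  have hψ1 : ψ 1 = 𝟙 _ := by
    apply Spec.map_injective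
    rw [← cancel_mono j, hψ, Spec.map_id, hσ1, Category.comp_id, Category.id_comp]
  have hψmul : ∀ g h, ψ (g * h) = ψ h ≫ ψ g := fun g h => by
    apply Spec.map_injective
    rw [← cancel_mono j, hψ, Spec.map_comp, Category.assoc, hψ, ← Category.assoc, hψ, Category.assoc, hσmul]
  have hψA : ∀ g, CommRingCat.ofHom (algebraMap A S) ≫ ψ g =
      CommRingCat.ofHom (MulSemiringAction.toRingHom G A g) ≫ CommRingCat.ofHom (algebraMap A S) := fun g => by
    apply Spec.map_injective
    rw [Spec.map_comp, Spec.map_comp, ← hjf, ← Category.assoc, hψ, Category.assoc, hσf, Category.assoc]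
  have hxr : Set.range x.base ⊆ Set.range j.base := by
    rintro _ ⟨z, rfl⟩
    rw [hjr, Subsingleton.elim z (IsLocalRing.closedPoint (IsLocalRing.ResidueField A))]
    exact hxV
  let e : CommRingCat.of S ⟶ CommRingCat.of (IsLocalRing.ResidueField A) :=
    Spec.preimage (IsOpenImmersion.lift j x hxr)
  have he : Spec.map e ≫ j = x := by rw [Spec.map_preimage, IsOpenImmersion.lift_fac]
  have heA : CommRingCat.ofHom (algebraMap A S) ≫ e = CommRingCat.ofHom (IsLocalRing.residue A) := by
    apply Spec.map_injective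
    rw [Spec.map_comp, ← hjf, ← Category.assoc, he, hx]
  have heψ : ∀ g, ψ g ≫ e = e := fun g => by
    apply Spec.map_injective
    rw [← cancel_mono j, Spec.map_comp, Category.assoc, hψ, ← Category.assoc, he, hfix]
  let ε : S →ₐ[A] IsLocalRing.ResidueField A :=
    { toRingHom := e.hom, commutes' := fun a => congr($(heA).hom a) }
  obtain ⟨τ, hτ, hτeq⟩ := Groth.Agent.InvSectionLib.exists_equivariant_algHom hG htriv
    (fun g => (ψ g).hom) (fun r => congr($(hψ1).hom r)) (fun g h r => congr($(hψmul g h).hom r))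
    (fun g a => congr($(hψA g).hom a)) ε (fun g r => congr($(heψ g).hom r))
  refine ⟨Spec.map (CommRingCat.ofHom τ.toRingHom) ≫ j, ?_, ?_, fun g => ?_⟩
  · rw [Category.assoc, hjf, ← Spec.map_comp, ← Spec.map_id]
    congr 1
    exact CommRingCat.hom_ext (RingHom.ext τ.commutes)
  · rw [← Category.assoc, ← Spec.map_comp, ← he]
    congr 2
    exact CommRingCat.hom_ext (RingHom.ext hτ)
  · rw [Category.assoc, ← hψ, ← Category.assoc, ← Category.assoc, ← Spec.map_comp, ← Spec.map_comp]
    congr 2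
    exact CommRingCat.hom_ext (RingHom.ext fun r => (hτeq g r).symm)

end Groth.Agent.S18165
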