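import Groth.Statements.S18167
import Groth.Agent.SpanNearLib.Near
import Groth.Agent.S18164
import Groth.Agent.ProjBundleLib.Canon

set_option backward.isDefEq.respectTransparency false
set_option backward.isDefEq.respectTransparency.types false
set_option maxHeartbeats 1000000
set_option synthInstance.maxHeartbeats 100000

set_option autoImplicit false
set_option linter.style.haveILetI false
universe u
open BSB

namespace Groth.Agent.S18167

open AlgebraicGeometry CategoryTheory TopologicalSpace Groth.Agent.PullbackMod Groth.Agent.DCohLib Groth.Agent.AmpleLib in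
/-- Lifts of the coordinates generate along the fibre. -/
theorem exists_gen_fibre {X S : Scheme.{u}} (f : X ⟶ S) [IsAffine S] [IsProper f] [LocallyOfFinitePresentation f] [Flat f]
    (s : S) {L : X.Modules} (hL : PicF.IsInvertible L) (h1 : Subsingleton (CohIII.fiberH f L s 1))
    (hva : RelAmple.IsRelVeryAmplePn (f.fiberToSpecResidueField s) ((Scheme.Modules.pullback (f.fiberι s)).obj L)) :
    ∃ (n : ℕ) (τ : Fin n → Γ(L, ⊤)), ∀ x : X, f x = s → ∃ i, x ∈ CohB1.genLocus L (secHom L (τ i)) := by
  obtain ⟨n, i, hi, hif, ⟨θ⟩⟩ := hva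
  haveI : IsProper (f.fiberToSpecResidueField s) :=
    MorphismProperty.of_isPullback (IsPullback.of_hasPullback f (S.fromSpecResidueField s)) inferInstance
  haveI : IsProper (i ≫ CohB1.ProjSpaceOver.toBase n (Spec (S.residueField s))) := by
    rw [show i ≫ CohB1.ProjSpaceOver.toBase n (Spec (S.residueField s)) = f.fiberToSpecResidueField s from hif]
    infer_instance
  haveI := IsProper.of_comp i (CohB1.ProjSpaceOver.toBase n (Spec (S.residueField s)))
  haveI : IsClosedImmersion i := (IsClosedImmersion.iff_isProper_and_mono _).2 ⟨inferInstance, inferInstance⟩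
  choose b τ hb hτ using fun a => SpanNearLib.exists_lift f s hL h1 (θ.inv.app ⊤ (sec (RelVALib.coordPull i a)))
  refine ⟨n + 1, τ, fun x hx => ?_⟩
  obtain ⟨z, rfl⟩ : x ∈ Set.range (f.fiberι s) := by rw [f.range_fiberι s]; exact hx
  obtain ⟨a, ha⟩ := (RelVALib.embGen_coordPull i hif).cover z
  refine ⟨a, ?_⟩
  show z ∈ f.fiberι s ⁻¹ᵁ CohB1.genLocus L (secHom L (τ a))
  rw [← RelVALib.genLocus_pullSec (f.fiberι s) hL,
    RelVALib.genLocus_smul_app (isInvertible_pullback i (AmpleEmb.isInvertible_twistOver n))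
      (isInvertible_pullback _ hL) θ.symm (β := SpanNearLib.scal f s (b a))
      ((hb a).map (f.fiberToSpecResidueField s).appTop.hom) (s := RelVALib.coordPull i a) ?_]
  · exact ha
  · rw [RelVALib.sec_pullSec, sec_secHom]
    exact hτ a

open AlgebraicGeometry CategoryTheory CategoryTheory.Limits Opposite in
/-- Let A be a Noetherian ring, π : X ⟶ Spec A proper and flat, L an ample invertible O_X-module and y a
point of Spec A. Suppose the restriction L_y of L to the fibre X_y is very ample over the residue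
field of y, that for every n ≥ 1 the global sections of L_y^(n+1) are additively generated by the
products m ⊗ s of a global section m of L_y^n and a global section s of L_y (normal generation), and
that H^1(X_y, L^n restricted to X_y) = 0 for all n ≥ 1. Then y has an open neighbourhood U such that
L restricted to π⁻¹(U) is very ample relative to π⁻¹(U) ⟶ U and, for every n ≥ 1, the sections of
L^(n+1) over π⁻¹(U) are additively generated by products of a section of L^n over π⁻¹(U) and a
section of L over π⁻¹(U). (Projectivity of π in the source is rendered as properness together with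
the ample module L; surjectivity of the symmetric powers of the sections of L onto the sections of
the powers is rendered degree by degree.) -/
theorem result (A : Type u) [CommRing A] [IsNoetherianRing A]
    (X : Scheme.{u}) (π : X ⟶ Spec (CommRingCat.of A)) [IsProper π] [Flat π]
    (L : X.Modules) (hLi : PicF.IsInvertible L) (hLa : CohB1.IsAmple L) (y : Spec (CommRingCat.of A))
    (hva : RelAmple.IsRelVeryAmplePn (π.fiberToSpecResidueField y) (CohIII.fiberMod π L y))
    (hng : ∀ n : ℕ, 1 ≤ n → AddSubgroup.closure {t | ∃ (m : (CohB1.tensorPow (CohIII.fiberMod π L y) n).val.obj (op ⊤)) (s : (CohIII.fiberMod π L y).val.obj (op ⊤)), t = SecTwist.tmul (CohB1.tensorPow (CohIII.fiberMod π L y) n) (CohIII.fiberMod π L y) ⊤ m s} = ⊤)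
    (h1 : ∀ n : ℕ, 1 ≤ n → Subsingleton (CohIII.fiberH π (CohB1.tensorPow L n) y 1)) :
    ∃ U : (Spec (CommRingCat.of A)).Opens, y ∈ U ∧ RelProj.IsRelVeryAmple (π ∣_ U) (L.restrict (π ⁻¹ᵁ U).ι) ∧
      ∀ n : ℕ, 1 ≤ n → AddSubgroup.closure {t | ∃ (m : (CohB1.tensorPow L n).val.obj (op (π ⁻¹ᵁ U))) (s : L.val.obj (op (π ⁻¹ᵁ U))), t = SecTwist.tmul (CohB1.tensorPow L n) L (π ⁻¹ᵁ U) m s} = ⊤ := by
  classical
  haveI : IsLocallyNoetherian (Spec (CommRingCat.of A)) := inferInstance
  haveI : LocallyOfFinitePresentation π := inferInstance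
  have hng' : ∀ n : ℕ, 1 ≤ n → ∀ z, z ∈ SpanNearLib.prods
      (CohB1.tensorPow ((Scheme.Modules.pullback (π.fiberι y)).obj L) n)
      ((Scheme.Modules.pullback (π.fiberι y)).obj L) ⊤ := fun n hn z => by
    refine AddSubgroup.closure_mono ?_ ((hng n hn).ge (AddSubgroup.mem_top z))
    rintro _ ⟨m, s, rfl⟩
    exact ⟨(m, s), rfl⟩
  have h11 := SpanNearLib.subsingleton_one π y hLi h1
  obtain ⟨U₁, hy₁, hva₁⟩ := Groth.Agent.S18164.result A X π L hLi hLa y hva h11
  obtain ⟨r, τ, hτ⟩ := exists_gen_fibre π y hLi h11 hva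
  obtain ⟨U₀, hy₀, hU₀⟩ := BCLib.exists_open_preimage_le π
    (⨆ i, CohB1.genLocus L (DCohLib.secHom L (τ i))) y fun x hx => TopologicalSpace.Opens.mem_iSup.2 (hτ x hx)
  obtain ⟨n₀, hn₀⟩ := SpanNearLib.exists_large π hLi hLa τ U₀ fun x hx => TopologicalSpace.Opens.mem_iSup.1 (hU₀ hx)
  obtain ⟨c, hc, hyc⟩ := (isAffineOpen_top (Spec (CommRingCat.of A))).exists_basicOpen_le
    (V := U₁ ⊓ U₀) ⟨y, ⟨hy₁, hy₀⟩⟩ trivial
  have hsmall := fun j : Fin n₀ => SpanNearLib.exists_smul_mem_prods π y hLi hng' h1 (j.1 + 1) (by omega)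
  choose b hb hbx using hsmall
  let a := c * ∏ j, b j
  have hyu : IsUnit (SpanNearLib.ev y a) := by
    rw [map_mul, map_prod]
    exact ((SpanNearLib.isUnit_ev_iff y c).2 hyc).mul (IsUnit.prod_iff.2 fun j _ => hb j)
  have hle : (Spec (CommRingCat.of A)).basicOpen a ≤ U₁ ⊓ U₀ := by
    refine le_trans ?_ hc
    rw [Scheme.basicOpen_mul]
    exact inf_le_left
  have hle₁ : π ⁻¹ᵁ (Spec (CommRingCat.of A)).basicOpen a ≤ π ⁻¹ᵁ U₁ := π.preimage_mono (hle.trans inf_le_left)
  refine ⟨(Spec (CommRingCat.of A)).basicOpen a, (SpanNearLib.isUnit_ev_iff y a).1 hyu, ?_, fun n hn => ?_⟩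
  · have sq : IsPullback (X.homOfLE hle₁) (π ∣_ (Spec (CommRingCat.of A)).basicOpen a) (π ∣_ U₁)
        ((Spec (CommRingCat.of A)).homOfLE (hle.trans inf_le_left)) :=
      IsPullback.of_right (by rw [Scheme.homOfLE_ι, Scheme.homOfLE_ι]; exact (isPullback_morphismRestrict π _).flip)
        (by rw [← cancel_mono U₁.ι]; simp) (isPullback_morphismRestrict π U₁).flip
    exact ProjBundleLib.isRelVeryAmple_of_iso
      ((Scheme.Modules.restrictFunctorIsoPullback _).app L ≪≫ (Scheme.Modules.pullbackCongr (X.homOfLE_ι hle₁).symm).app L ≪≫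
        ((Scheme.Modules.pullbackComp (X.homOfLE hle₁) (π ⁻¹ᵁ U₁).ι).app L).symm ≪≫
        (Scheme.Modules.pullback (X.homOfLE hle₁)).mapIso ((Scheme.Modules.restrictFunctorIsoPullback _).app L).symm)
      (ProjBundleLib.isRelVeryAmple_baseChange sq hva₁)
  · refine eq_top_iff.2 fun z _ => ?_
    have key : z ∈ SpanNearLib.prods (CohB1.tensorPow L n) L (π ⁻¹ᵁ (Spec (CommRingCat.of A)).basicOpen a) := by
      by_cases hlt : n₀ ≤ n
      · exact hn₀ n hlt a (hle.trans inf_le_right) z
      · haveI : Coh.IsQCoh (DCohLib.tmod (CohB1.tensorPow L n) L) :=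
          InvExt.isQCoh_of_isInvertible (AmpleLib.isInvertible_tensorPow hLi (n + 1))
        refine SpanNearLib.mem_prods_of_smul π a (fun x => ?_) z
        obtain ⟨j, rfl⟩ : ∃ j : Fin n₀, j.1 + 1 = n := ⟨⟨n - 1, by omega⟩, Nat.sub_add_cancel hn⟩
        obtain ⟨d, hd⟩ : b j ∣ a := (Finset.dvd_prod_of_mem b (Finset.mem_univ j)).mul_left c
        rw [show π.appTop a = π.appTop d * π.appTop (b j) by rw [hd, map_mul, mul_comm], mul_smul]
        exact SpanNearLib.smul_mem_prods _ (hbx j x)
    refine AddSubgroup.closure_mono ?_ key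
    rintro _ ⟨⟨m, s⟩, rfl⟩
    exact ⟨m, s, rfl⟩

end Groth.Agent.S18167
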