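import Groth.Statements.S18168
import Groth.Agent.DCohMore.PushFlf
import Groth.Agent.TwistFlatLib.Flat
import Groth.Agent.AmpleLib.Pullback
import Groth.Agent.AmpleLib.Rel
import Groth.Agent.VecFrameLib.Basic
import Groth.Agent.DerSchH7.RelFlat
import Groth.Agent.TwistShriek.PerfRpush
import Groth.Agent.CurveLib.Inv

set_option autoImplicit false
set_option backward.isDefEq.respectTransparency false
universe u
open BSB

namespace Groth.Agent.S18168

open AlgebraicGeometry CategoryTheory CategoryTheory.Limits in
/-- Let S be a Noetherian scheme, φ : X ⟶ S proper and flat, L an invertible O_X-module, q : X' ⟶ S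
proper and ψ : X ⟶ X' an S-morphism with O_{X'} ⟶ ψ_* O_X an isomorphism, and N an invertible module
on X', ample relative to q, with ψ^* N ≅ L^m for some m > 0 (L is then relatively semiample and ψ is
the contraction it determines). If for some n > 0 the higher direct images R^i φ_* (L^(jn)) vanish
for all i > 0 and j ≥ 1, then X' is flat over S. (The published statement also asserts that the
direct images φ_* (L^(jn)) are finite locally free and that their formation commutes with base
change; those clauses are not restated. The instance argument recording injective resolutions of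
O_X-modules is true but not yet in Mathlib.) -/
theorem result {X X' S : Scheme.{u}} [IsNoetherian S]
    (φ : X ⟶ S) [IsProper φ] [Flat φ] [HasInjectiveResolutions X.Modules]
    (L : X.Modules) (hLi : PicF.IsInvertible L)
    (q : X' ⟶ S) [IsProper q] (ψ : X ⟶ X') (hψ : ψ ≫ q = φ) (hψO : ∀ U : X'.Opens, IsIso (ψ.app U))
    (N : X'.Modules) (hNi : PicF.IsInvertible N) (hN : RelAmple.IsRelAmple q N)
    (m : ℕ) (hm : 0 < m) (eN : Nonempty ((Scheme.Modules.pullback ψ).obj N ≅ CohB1.tensorPow L m))
    (n : ℕ) (hn : 0 < n)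
    (hvan : ∀ (i j : ℕ), 0 < i → 1 ≤ j → IsZero ((Coh.Rpush φ i).obj (CohB1.tensorPow L (j * n)))) :
    Flat q := by
  subst hψ
  obtain ⟨eN⟩ := eN
  haveI : IsLocallyNoetherian X := LocallyOfFiniteType.isLocallyNoetherian (ψ ≫ q)
  haveI : IsLocallyNoetherian X' := LocallyOfFiniteType.isLocallyNoetherian q
  haveI : LocallyOfFinitePresentation (ψ ≫ q) := inferInstance
  -- direct images of the powers of `L`
  have hflf : ∀ j : ℕ, 1 ≤ j →
      FlatMod.IsFinLocFree ((Scheme.Modules.pushforward (ψ ≫ q)).obj (CohB1.tensorPow L (j * n))) := by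
    intro j hj
    have hP := AmpleLib.isInvertible_tensorPow hLi (j * n)
    have hc := CurveLib.isCoh_of_isInvertible hP
    haveI := hc.1
    haveI : Coh.IsQCoh (Coh.structureModule X) := (DevLib.isCoh_structureModule X).1
    have e : DCohLib.tmod (Coh.structureModule X) (CohB1.tensorPow L (j * n)) ≅ CohB1.tensorPow L (j * n) :=
      AmpleLib.unitL _
    haveI : Coh.IsQCoh (DCohLib.tmod (Coh.structureModule X) (CohB1.tensorPow L (j * n))) :=
      DCohLib.isQCoh_of_iso' e.symm hc.1
    exact DCohMore.PushFlf.isFinLocFree_push (ψ ≫ q) _ (QCohLib.isFP_of_isCoh _ hc)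
      (DCohMore.isFlatOver_of_iso (ψ ≫ q) e
        (TwistFlat.isFlatOver_tensor (ψ ≫ q) hP (BCLib.isFlatOver_structureModule (ψ ≫ q))))
      (TwistShriek.isProperOver_support (ψ ≫ q) _ hc) (fun i hi => hvan i j hi hj)
  -- the twisting module
  let N' := CohB1.tensorPow N n
  have hN' : PicF.IsInvertible N' := AmpleLib.isInvertible_tensorPow hNi n
  have ha := (AmpleLib.isRelAmple_pow_iff hNi hn).2 hN
  refine (DerSchH7.flat_iff_isFlatOver q).2 ?_
  refine TwistFlat.isFlatOver_of_twists q hN' (fun W hW => ha.2 ⟨W, hW⟩) (DevLib.isCoh_structureModule X') 1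
    fun j hj => ?_
  let P := CohB1.tensorPow N (n * j)
  have hP : FlatMod.IsFinLocFree P :=
    CurveLib.isFinLocFree_of_isInvertible (AmpleLib.isInvertible_tensorPow hNi _)
  haveI := VecFrameLib.isIso_unit ψ (fun U => (haveI := hψO U; ConcreteCategory.bijective_of_isIso (ψ.app U))) hP
  have hm1 : 1 ≤ m * j := Nat.one_le_iff_ne_zero.2 (Nat.mul_ne_zero hm.ne' (Nat.one_le_iff_ne_zero.1 hj))
  refine DCohLib.isFinLocFree_iso ?_ (hflf (m * j) hm1)
  exact (Scheme.Modules.pushforwardComp ψ q).symm.app _ ≪≫ (Scheme.Modules.pushforward q).mapIso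
    ((Scheme.Modules.pushforward ψ).mapIso
        (eqToIso (congrArg (CohB1.tensorPow L) (by ring : m * j * n = m * (n * j))) ≪≫
          (AmpleLib.powMul L m (n * j)).symm ≪≫ AmpleLib.powCongr eN.symm (n * j) ≪≫
          (AmpleLib.pullPow ψ N (n * j)).symm) ≪≫
      (asIso ((Scheme.Modules.pullbackPushforwardAdjunction ψ).unit.app P)).symm ≪≫
      (AmpleLib.powMul N n j).symm ≪≫ (AmpleLib.unitL _).symm)

end Groth.Agent.S18168
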