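import Groth.Statements.S18177
import Mathlib
import Groth.Agent.FF.Chain

set_option autoImplicit false
open FunFld
open Groth.Agent.FF

namespace Groth.Agent.S18177

/-- Let `k` be an algebraically closed field of characteristic zero and `K/k` a function field of one
variable (the function field of a smooth projective curve over `k`). A `g^r_d` is a divisor `D` of
degree `d` with a subspace `V ⊆ L(D)` of dimension `r + 1`; for a place `P` and `n ≥ 0`, `V(-nP) = V
∩ L(D - nP)` is the space of members vanishing to order at least `n` at `P`, so `dim V(-nP)` counts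
the vanishing orders `m_0 < ⋯ < m_r` of `V` at `P` that are at least `n`, and the weight of `V` at
`P` is `∑_{n=1}^{d} dim V(-nP) - r(r+1)/2`. Let `(D, V)` be a `g^r_d` with `r ≥ 1` and `P ≠ Q`
places at which the weights are large: `w(V, P) + w(V, Q) ≥ (r+1)(d-r) - (r-1)`, that is `(r+1)d + 1
≤ ∑_{n=1}^{d} dim V(-nP) + ∑_{n=1}^{d} dim V(-nQ) + r`. Then `V` contains members with divisors `m_i
Q + (d - m_i) P` for two different indices `i`, and hence `m(Q - P)` is a principal divisor for some
`1 ≤ m ≤ d`. (In the source `K` is an elliptic tail of a degenerate curve, `P` its node and `Q` the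
limit of the moving ramification point, the weight hypothesis coming from `ρ ≤ 0`; it concludes that
only finitely many `Q` are possible. The torsion assertion holds in any genus and is what is stated
here.) (The source states this for curves over the complex numbers.) -/
theorem result
    (k : Type*) [Field k] [IsAlgClosed k] [CharZero k]
    (K : Type*) [Field K] [Algebra k K] (hK : FunFld.IsFunctionField k K)
    (d r : ℕ) (hr : 1 ≤ r) (D : FunFld.Divisor k K) (hD : D.deg = d)
    (V : Submodule k K) (hV : V ≤ FunFld.L D) (hVr : Module.finrank k ↥V = r + 1)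
    (P Q : FunFld.Place k K) (hPQ : P ≠ Q)
    (hw : (r + 1) * d + 1 ≤
      (∑ n ∈ Finset.range d, Module.finrank k ↥(V ⊓ FunFld.L (D - Finsupp.single P ((n : ℤ) + 1)))) +
        (∑ n ∈ Finset.range d, Module.finrank k ↥(V ⊓ FunFld.L (D - Finsupp.single Q ((n : ℤ) + 1)))) + r) :
    ∃ m : ℕ, 1 ≤ m ∧ m ≤ d ∧ ∃ h : K, h ≠ 0 ∧
      FunFld.div k h = Finsupp.single Q (m : ℤ) - Finsupp.single P (m : ℤ) := by
  classical
  let a : ℕ → ℕ := fun n => vd V D P n + vd V D Q ((d : ℤ) - n)
  have hsum : ∑ n ∈ Finset.range (d + 1), a n = 2 * (r + 1) + wsum d V D P + wsum d V D Q := by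
    rw [Finset.sum_add_distrib]
    have e1 : ∑ n ∈ Finset.range (d + 1), vd V D P n = (r + 1) + wsum d V D P := by
      rw [Finset.sum_range_succ', wsum, add_comm, Nat.cast_zero, vd_zero hV, hVr]
      congr 1
    have e2 : ∑ n ∈ Finset.range (d + 1), vd V D Q ((d : ℤ) - n) = (r + 1) + wsum d V D Q := by
      rw [← Finset.sum_range_reflect, Finset.sum_range_succ', wsum, add_comm]
      congr 1
      · simp [vd_zero hV, hVr]
      · refine Finset.sum_congr rfl fun n hn => ?_
        rw [Finset.mem_range] at hn
        congr 1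
        omega
    omega
  have hale : ∀ n, a n ≤ (r + 1) + if a n = r + 2 then 1 else 0 := fun n => by
    have := vd_add_le_succ hK hV hPQ (m := (n : ℤ)) (n := (d : ℤ) - n) (by omega)
    rw [hVr] at this
    simp only [a]
    split <;> omega
  set S := (Finset.range (d + 1)).filter fun n => a n = r + 2 with hS
  have hcard : 2 ≤ S.card := by
    have h1 := Finset.sum_le_sum (s := Finset.range (d + 1)) fun n _ => hale n
    rw [hsum, Finset.sum_add_distrib, Finset.sum_boole, Finset.sum_const, Finset.card_range, smul_eq_mul, ← hS,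
      Nat.cast_id] at h1
    have hw' : (r + 1) * d + 1 ≤ wsum d V D P + wsum d V D Q + r := hw
    have : (d + 1) * (r + 1) = (r + 1) * d + (r + 1) := by ring
    omega
  obtain ⟨i, hi, j, hj, hij⟩ := Finset.one_lt_card.1 (by omega : 1 < S.card)
  wlog hlt : i < j generalizing i j
  · exact this j hj i hi hij.symm (by omega)
  obtain ⟨hid, hai⟩ := Finset.mem_filter.1 hi
  obtain ⟨hjd, haj⟩ := Finset.mem_filter.1 hj
  simp only [a] at hai haj
  rw [Finset.mem_range] at hjd
  obtain ⟨f, -, hf0, hf⟩ := exists_exact hK hV hPQ (m := (i : ℤ)) (n := (d : ℤ) - i) (by omega) (by omega)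
  obtain ⟨g, -, hg0, hg⟩ := exists_exact hK hV hPQ (m := (j : ℤ)) (n := (d : ℤ) - j) (by omega) (by omega)
  refine ⟨j - i, by omega, by omega, f / g, div_ne_zero hf0 hg0, ?_⟩
  rw [div_eq_mul_inv, div_mul hK hf0 (inv_ne_zero hg0), div_inv hK, eq_sub_of_add_eq hf, eq_sub_of_add_eq hg]
  ext R
  simp only [Finsupp.single_apply, Finsupp.coe_add, Pi.add_apply, Finsupp.coe_sub, Pi.sub_apply,
    Finsupp.coe_neg, Pi.neg_apply]
  split_ifs <;> omega

end Groth.Agent.S18177
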