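import Groth.Statements.S18182
import Mathlib
import Groth.Agent.FF.Series
import Groth.Agent.FF.Derivation
import Groth.Agent.S18177

set_option autoImplicit false
open FunFld
open Groth.Agent.FF

namespace Groth.Agent.S18182

/-- Let `k` be an algebraically closed field of characteristic zero and `K/k` a function field of one
variable (the function field of a smooth projective curve over `k`). A `g^r_d` is a divisor `D` of
degree `d` with a subspace `V ⊆ L(D)` of dimension `r + 1`; for a place `P` and `n ≥ 0`, `V(-nP) = V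
∩ L(D - nP)` is the space of members vanishing to order at least `n` at `P`, so `dim V(-nP)` counts
the vanishing orders `m_0 < ⋯ < m_r` of `V` at `P` that are at least `n`, and the weight of `V` at
`P` is `∑_{n=1}^{d} dim V(-nP) - r(r+1)/2`. Assume `K` has genus one, fix a place `P` and natural
numbers `d` and `r ≥ 1`. Then only finitely many places `Q ≠ P` admit a `g^r_d` `(D, V)` whose
weights at `P` and `Q` are large in the sense `w(V, P) + w(V, Q) ≥ (r+1)(d-r) - (r-1)`, that is
`(r+1)d + 1 ≤ ∑_{n=1}^{d} dim V(-nP) + ∑_{n=1}^{d} dim V(-nQ) + r`. (In the source `K` is an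
elliptic tail of a flag curve degenerating a general curve of genus `g`, `P` its node, `Q` the limit
of a moving ramification point, and the weight hypothesis is what `ρ ≤ 0` gives; the finiteness of
torsion points of bounded order on an elliptic curve is used.) (The source states this for curves
over the complex numbers.) -/
theorem result
    (k : Type*) [Field k] [IsAlgClosed k] [CharZero k]
    (K : Type*) [Field K] [Algebra k K] (hK : FunFld.IsFunctionField k K) (hg1 : FunFld.genus k K = 1)
    (P : FunFld.Place k K) (d r : ℕ) (hr : 1 ≤ r) :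
    Set.Finite {Q : FunFld.Place k K | Q ≠ P ∧ ∃ (D : FunFld.Divisor k K) (V : Submodule k K),
      D.deg = d ∧ V ≤ FunFld.L D ∧ Module.finrank k ↥V = r + 1 ∧
      (r + 1) * d + 1 ≤
        (∑ n ∈ Finset.range d, Module.finrank k ↥(V ⊓ FunFld.L (D - Finsupp.single P ((n : ℤ) + 1)))) +
          (∑ n ∈ Finset.range d, Module.finrank k ↥(V ⊓ FunFld.L (D - Finsupp.single Q ((n : ℤ) + 1)))) + r} := by
  classical
  have hfin : ∀ m : ℕ, 1 ≤ m → {Q : Place k K | ∃ h ∈ L (Finsupp.single P (m : ℤ) : Divisor k K), h ≠ 0 ∧
      Q.1 h ≤ WithZero.exp (-(m : ℤ))}.Finite := fun m hm => by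
    haveI := finite_L hK (Finsupp.single P (m : ℤ) : Divisor k K)
    have e := ell_of_deg_large hK (D := (Finsupp.single P (m : ℤ) : Divisor k K))
      (by rw [hg1, deg_single_ac hK]; push_cast; omega)
    rw [hg1, deg_single_ac hK, ell] at e
    push_cast at e
    have h := finite_inflection hK (L (Finsupp.single P (m : ℤ) : Divisor k K))
    rw [show (Module.finrank k (L (Finsupp.single P (m : ℤ) : Divisor k K)) : ℤ) = (m : ℤ) by omega] at h
    exact h
  refine ((Set.finite_Icc 1 d).biUnion fun m hm => hfin m hm.1).subset ?_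
  rintro Q ⟨hQP, D, V, hD, hV, hVr, hw⟩
  have hPQ : P ≠ Q := hQP.symm
  obtain ⟨m, hm1, hmd, h, h0, hh⟩ := Groth.Agent.S18177.result k K hK d r hr D hD V hV hVr P Q hPQ hw
  refine Set.mem_iUnion₂.2 ⟨m, Set.mem_Icc.2 ⟨hm1, hmd⟩, h, (mem_L_iff_ord h0).2 fun R => ?_, h0, ?_⟩
  · rw [← div_apply hK, hh, Finsupp.sub_apply, sub_add_cancel, Finsupp.single_apply]
    split <;> simp
  · rw [v_le_exp_iff Q h0, ← div_apply hK, hh]
    simp [Finsupp.single_eq_of_ne hQP]

end Groth.Agent.S18182
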