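import Groth.Statements.S18183
import Mathlib
import Groth.Agent.FF.Chain

set_option autoImplicit false
open FunFld
open Groth.Agent.FF

namespace Groth.Agent.S18183

/-- Let `k` be an algebraically closed field of characteristic zero and `K/k` a function field of one
variable (the function field of a smooth projective curve over `k`). A `g^r_d` is a divisor `D` of
degree `d` with a subspace `V ⊆ L(D)` of dimension `r + 1`; for a place `P` and `n ≥ 0`, `V(-nP) = V
∩ L(D - nP)` is the space of members vanishing to order at least `n` at `P`, so `dim V(-nP)` counts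
the vanishing orders `m_0 < ⋯ < m_r` of `V` at `P` that are at least `n`, and the weight of `V` at
`P` is `∑_{n=1}^{d} dim V(-nP) - r(r+1)/2`. Aspects `(D_Y, V_Y)` on `K_Y` and `(D_Z, V_Z)` on `K_Z`
of a limit `g^r_d` on two components meeting in a node (a place `P` of `K_Y` and a place `Q` of
`K_Z`) are compatible there when `m_i(V_Y, P) + m_{r-i}(V_Z, Q) = d` for every `i`, equivalently
`dim V_Y(-nP) + dim V_Z(-(d+1-n)Q) = r + 1` for `0 ≤ n ≤ d + 1`. A backbone is a chain of rational
components `Z_0, …, Z_N` (function fields `K_i` of genus `0`), `Z_i` meeting `Z_{i+1}` in a node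
given by a place `B_i` of `K_i` and a place `A_{i+1}` of `K_{i+1}`, the two node places `A_i ≠ B_i`
of an inner component being distinct; each `Z_i` carries an aspect `(D_i, V_i)` of a limit `g^r_d`
and consecutive aspects are compatible at the nodes. A set `T` of indices marks the components
carrying a tail: for `i ∈ T` the aspect `V_i` has at least a cusp (`dim V_i(-2Q_i) ≥ r`) at a
further place `Q_i` of `K_i`, distinct from the node places of `Z_i`. (In the source these are the
backbone components of a flag curve to which a chain of rational curves ending in an elliptic tail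
is attached, `T` has `g` elements, and the cusp is forced by that chain.) Let `Q'` be a place of
some `Z_i` other than its node places and other than `Q_i` when `i ∈ T`. Then `w(V_i, Q') ≤
(r+1)(d-r) - r · |T|`, that is `∑_{j=1}^{d} dim V_i(-jQ') + r · |T| + r(r+1) ≤ (r+1)d + r(r+1)/2`.
Hence, when `|T| = g` and the moving-point Brill–Noether number `ρ = 1 + g - (r+1)(g+r-d) - ∑(m_i -
i)` is `≤ 0`, a point with vanishing sequence `(m_i)`, whose weight is then at least `(r+1)(d-r) -
rg + 1`, cannot lie on a backbone component away from the nodes; the source states this as: the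
limit of the ramification point lies on an elliptic tail. (The printed argument bounds such weights
only by `(r+1)(d-r) - r(g-1)`; the sharper bound here also uses that the aspect has weight at least
`r` at a cusp.) (The source states this for curves over the complex numbers.) -/
theorem result
    (k : Type*) [Field k] [IsAlgClosed k] [CharZero k]
    (N : ℕ) (Z : Fin (N + 1) → Type*) [∀ i, Field (Z i)] [∀ i, Algebra k (Z i)]
    (hZ : ∀ i, FunFld.IsFunctionField k (Z i)) (hrat : ∀ i, FunFld.genus k (Z i) = 0)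
    (d r : ℕ) (D : ∀ i, FunFld.Divisor k (Z i)) (hD : ∀ i, (D i).deg = d)
    (V : ∀ i, Submodule k (Z i)) (hV : ∀ i, V i ≤ FunFld.L (D i))
    (hVr : ∀ i, Module.finrank k ↥(V i) = r + 1)
    (A B : ∀ i, FunFld.Place k (Z i))
    (hAB : ∀ i : Fin (N + 1), 0 < (i : ℕ) → (i : ℕ) < N → A i ≠ B i)
    (hcomp : ∀ (l : Fin N) (m : ℕ), m ≤ d + 1 →
      Module.finrank k ↥((V l.castSucc) ⊓ FunFld.L ((D l.castSucc) - Finsupp.single (B l.castSucc) ((m : ℤ)))) +
        Module.finrank k ↥((V l.succ) ⊓ FunFld.L ((D l.succ) - Finsupp.single (A l.succ) ((d : ℤ) + 1 - m))) = r + 1)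
    (T : Finset (Fin (N + 1))) (Q : ∀ i, FunFld.Place k (Z i))
    (hQA : ∀ i ∈ T, 0 < (i : ℕ) → Q i ≠ A i) (hQB : ∀ i ∈ T, (i : ℕ) < N → Q i ≠ B i)
    (hcusp : ∀ i ∈ T, r ≤ Module.finrank k ↥((V i) ⊓ FunFld.L ((D i) - Finsupp.single (Q i) ((2 : ℤ)))))
    (i : Fin (N + 1)) (Q' : FunFld.Place k (Z i)) (hQ'A : 0 < (i : ℕ) → Q' ≠ A i)
    (hQ'B : (i : ℕ) < N → Q' ≠ B i) (hQ'Q : i ∈ T → Q' ≠ Q i) :
    (∑ j ∈ Finset.range d, Module.finrank k ↥((V i) ⊓ FunFld.L ((D i) - Finsupp.single Q' ((j : ℤ) + 1)))) + r * T.card + r * (r + 1) ≤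
      (r + 1) * d + r * (r + 1) / 2 := by
  classical
  have hcomp' : Compat d r D V A B := hcomp
  obtain ⟨h1, h1'⟩ := rational_chain_bounds hcomp' hZ hD hV hVr hAB T Q hcusp hrat hQA hQB i
  have h2 := half_two_mul r
  set t := r * (r + 1) / 2
  let w := wsum d (V i) (D i)
  change w Q' + _ + _ ≤ _
  -- grow the set of special points of the component
  have step : ∀ (S : Finset (Place k (Z i))) (X : Place k (Z i)) (a b : ℕ), X ∉ S → t + a ≤ w X →
      w Q' + t * (S.card - 1) + b ≤ ∑ P ∈ S, w P → 1 ≤ S.card →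
      w Q' + t * ((insert X S).card - 1) + (a + b) ≤ ∑ P ∈ insert X S, w P := by
    intro S X a b hX hw hS hc
    rw [Finset.card_insert_of_notMem hX, Finset.sum_insert hX, Nat.add_sub_cancel]
    obtain ⟨c, hc'⟩ := Nat.exists_eq_add_of_le hc
    rw [hc', Nat.add_sub_cancel_left] at hS
    rw [hc', Nat.mul_add, Nat.mul_one]
    omega
  have s0 : ∃ S : Finset (Place k (Z i)), (∀ P ∈ S, P = Q') ∧ 1 ≤ S.card ∧ w Q' + t * (S.card - 1) + 0 ≤ ∑ P ∈ S, w P :=
    ⟨{Q'}, by simp, by simp, by simp⟩
  obtain ⟨S0, m0, c0, b0⟩ := s0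
  obtain ⟨S1, m1, c1, b1⟩ : ∃ S : Finset (Place k (Z i)), (∀ P ∈ S, P = Q' ∨ (i ∈ T ∧ P = Q i)) ∧ 1 ≤ S.card ∧
      w Q' + t * (S.card - 1) + (r * (T.filter (· = i)).card) ≤ ∑ P ∈ S, w P := by
    by_cases hT : i ∈ T
    · have hX : Q i ∉ S0 := fun h => hQ'Q hT (m0 _ h).symm
      refine ⟨insert (Q i) S0, ?_, by rw [Finset.card_insert_of_notMem hX]; omega, ?_⟩
      · intro P hP; rcases Finset.mem_insert.1 hP with h | h
        exacts [Or.inr ⟨hT, h⟩, Or.inl (m0 P h)]
      · rw [Finset.filter_eq', if_pos hT, Finset.card_singleton, Nat.mul_one]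
        have := step S0 (Q i) r 0 hX (by
          rcases Nat.eq_zero_or_pos r with hr | hr
          · subst hr; simp [t]
          · exact wsum_ge_cusp (hZ i) (hD i) hr (hcusp i hT)) b0 c0
        omega
    · refine ⟨S0, fun P hP => Or.inl (m0 P hP), c0, ?_⟩
      rw [Finset.filter_eq', if_neg hT, Finset.card_empty, Nat.mul_zero]; exact b0
  obtain ⟨S2, m2, c2, b2⟩ : ∃ S : Finset (Place k (Z i)),
      (∀ P ∈ S, P = Q' ∨ (i ∈ T ∧ P = Q i) ∨ (0 < (i : ℕ) ∧ P = A i)) ∧ 1 ≤ S.card ∧
      w Q' + t * (S.card - 1) + (r * (T.filter (· = i)).card + r * (T.filter (· < i)).card) ≤ ∑ P ∈ S, w P := by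
    rcases Nat.eq_zero_or_pos (i : ℕ) with hi | hi
    · refine ⟨S1, fun P hP => (m1 P hP).imp_right Or.inl, c1, ?_⟩
      rw [show T.filter (· < i) = ∅ from Finset.filter_false_of_mem fun x _ => by simp [Fin.lt_def, hi],
        Finset.card_empty, Nat.mul_zero, Nat.add_zero]
      exact b1
    · have hX : A i ∉ S1 := fun h => by
        rcases m1 _ h with h' | ⟨hT, h'⟩
        exacts [hQ'A hi h'.symm, hQA i hT hi h'.symm]
      refine ⟨insert (A i) S1, ?_, by rw [Finset.card_insert_of_notMem hX]; omega, ?_⟩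
      · intro P hP; rcases Finset.mem_insert.1 hP with h | h
        exacts [Or.inr (Or.inr ⟨hi, h⟩), (m1 P h).imp_right Or.inl]
      · have := step S1 (A i) _ _ hX (h1 hi) b1 c1
        omega
  obtain ⟨S3, c3, b3⟩ : ∃ S : Finset (Place k (Z i)), 1 ≤ S.card ∧
      w Q' + t * (S.card - 1) + r * T.card ≤ ∑ P ∈ S, w P := by
    have hsplit : T.card = (T.filter (· = i)).card + (T.filter (· < i)).card + (T.filter (i < ·)).card := by
      simp only [Finset.card_filter]
      rw [← Finset.sum_add_distrib, ← Finset.sum_add_distrib, Finset.card_eq_sum_ones]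
      refine Finset.sum_congr rfl fun x _ => ?_
      simp only [Fin.ext_iff, Fin.lt_def]
      split_ifs <;> omega
    rcases Nat.lt_or_ge (i : ℕ) N with hi | hi
    · have hX : B i ∉ S2 := fun h => by
        rcases m2 _ h with h' | ⟨hT, h'⟩ | ⟨h0, h'⟩
        exacts [hQ'B hi h'.symm, hQB i hT hi h'.symm, hAB i h0 hi h'.symm]
      refine ⟨insert (B i) S2, by rw [Finset.card_insert_of_notMem hX]; omega, ?_⟩
      have := step S2 (B i) _ _ hX (h1' hi) b2 c2
      rw [hsplit, Nat.mul_add, Nat.mul_add]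
      omega
    · refine ⟨S2, c2, ?_⟩
      rw [hsplit, show T.filter (i < ·) = ∅ from Finset.filter_false_of_mem fun x _ => by
        have := x.isLt; simp only [Fin.lt_def]; omega, Finset.card_empty, Nat.add_zero, Nat.mul_add]
      exact b2
  have hp := plucker (hZ i) (hrat i) (hD i) (hV i) (hVr i) S3 (Finset.card_pos.1 c3)
  obtain ⟨c, hc⟩ := Nat.exists_eq_add_of_le c3
  rw [hc, Nat.add_sub_cancel_left] at b3
  rw [hc] at hp
  have : (1 + c) * (r * (r + 1)) = 2 * t + 2 * (t * c) := by rw [← h2]; ring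
  replace hp : 2 * (∑ P ∈ S3, w P) + 2 * (r * (r + 1)) ≤ 2 * ((r + 1) * d) + (1 + c) * (r * (r + 1)) := hp
  omega

end Groth.Agent.S18183
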