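import Groth.Statements.S18187
import Mathlib

set_option autoImplicit false
universe u v
open CategoryTheory
open T1Lift

namespace Groth.Agent.S18187

open ArtFun ArtFun.Art

noncomputable section

variable (k : Type u) [Field k]

theorem αAlg_mk (m : ℕ) (p : Polynomial k) :
    T1Lift.αAlg k m (AdjoinRoot.mk _ p) = AdjoinRoot.mk ((Polynomial.X : Polynomial k) ^ (m + 1)) p := by
  show AdjoinRoot.liftAlgHom _ (Algebra.ofId k _) (T1Lift.t k m) _ (AdjoinRoot.mk _ p) = _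
  rw [AdjoinRoot.liftAlgHom_mk]
  exact AdjoinRoot.aeval_eq p

theorem αAlg_surjective (m : ℕ) : Function.Surjective (T1Lift.αAlg k m) := fun y => by
  induction y using AdjoinRoot.induction_on with
  | ih p => exact ⟨AdjoinRoot.mk _ p, αAlg_mk k m p⟩

theorem exists_of_αAlg_eq_zero (m : ℕ) (x : T1Lift.Tr k (m + 1)) (h : T1Lift.αAlg k m x = 0) :
    ∃ c, x = T1Lift.t k (m + 1) ^ (m + 1) * c := by
  induction x using AdjoinRoot.induction_on with
  | ih p =>
    rw [αAlg_mk, AdjoinRoot.mk_eq_zero] at h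
    obtain ⟨q, hq⟩ := h
    exact ⟨AdjoinRoot.mk _ q, by rw [hq, map_mul, map_pow, AdjoinRoot.mk_X]⟩

theorem exists_eq_t_mul (m : ℕ) (x : T1Lift.Tr k m) (h : T1Lift.resA k m x = 0) :
    ∃ b, x = T1Lift.t k m * b := by
  obtain ⟨b, hb⟩ := T1Lift.eq_algebraMap_add_t_mul k m x
  exact ⟨b, by rw [hb, h, map_zero, zero_add]⟩

theorem t_pow_ne_zero (m : ℕ) : T1Lift.t k m ^ m ≠ 0 := by
  intro h
  rw [T1Lift.t, ← AdjoinRoot.mk_X, ← map_pow, AdjoinRoot.mk_eq_zero] at h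
  have := Polynomial.natDegree_le_of_dvd h (pow_ne_zero _ Polynomial.X_ne_zero)
  simp at this

/-- The kernel used to build the fibre product. -/
def K (n : ℕ) : Ideal (T1Lift.B k (n + 1)) :=
  RingHom.ker (T1Lift.ξ k n).toAlgHom ⊓ RingHom.ker (T1Lift.β k (n + 1)).toAlgHom

theorem K_le (n : ℕ) : K k n ≤ IsLocalRing.maximalIdeal (T1Lift.B k (n + 1)) :=
  inf_le_left.trans (IsLocalRing.le_maximalIdeal (RingHom.ker_ne_top _))

/-- The fibre product `B n ×_{A n} A (n+1)`. -/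
def P (n : ℕ) : Art k k := quot (T1Lift.B k (n + 1)) (K k n) (K_le k n)

def ψ (n : ℕ) : T1Lift.B k (n + 1) ⟶ P k n := quotMk _ (K k n) (K_le k n)

def p₁ (n : ℕ) : P k n ⟶ T1Lift.B k n := quotFactor (K_le k n) (T1Lift.ξ k n) inf_le_left

def p₂ (n : ℕ) : P k n ⟶ T1Lift.A k (n + 1) := quotFactor (K_le k n) (T1Lift.β k (n + 1)) inf_le_right

theorem isFibreProd_P (n : ℕ) : IsFibreProd (p₁ k n) (p₂ k n) (T1Lift.β k n) (T1Lift.α k n) where
  w := hom_ext (AlgHom.ext fun x => by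
    obtain ⟨a, rfl⟩ := Ideal.Quotient.mk_surjective x
    rfl)
  inj b₁ b₂ h₁ h₂ := by
    obtain ⟨a₁, rfl⟩ := Ideal.Quotient.mk_surjective b₁
    obtain ⟨a₂, rfl⟩ := Ideal.Quotient.mk_surjective b₂
    refine Ideal.Quotient.eq.2 ⟨?_, ?_⟩
    · exact (RingHom.sub_mem_ker_iff _).2 h₁
    · exact (RingHom.sub_mem_ker_iff _).2 h₂
  surj a' a'' h := by
    obtain ⟨c, hc⟩ := αAlg_surjective k n (TrivSqZeroExt.snd a')
    let b : DualNumber (T1Lift.Tr k (n + 1)) := (a'', c)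
    refine ⟨Ideal.Quotient.mk _ (b : T1Lift.B k (n + 1)), ?_, rfl⟩
    exact TrivSqZeroExt.ext h.symm hc

theorem mem_K_iff (n : ℕ) (x : T1Lift.B k (n + 1)) :
    x ∈ K k n ↔ TrivSqZeroExt.fst x = 0 ∧ T1Lift.αAlg k n (TrivSqZeroExt.snd x) = 0 := by
  constructor
  · rintro ⟨h1, h2⟩
    exact ⟨h2, congrArg TrivSqZeroExt.snd h1⟩
  · rintro ⟨h1, h2⟩
    refine ⟨?_, h1⟩
    refine TrivSqZeroExt.ext ?_ h2
    show T1Lift.αAlg k n (TrivSqZeroExt.fst x) = 0
    rw [h1, map_zero]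

theorem gen_pow_mem_K (n : ℕ) :
    ((TrivSqZeroExt.inl (T1Lift.t k (n + 1)) + DualNumber.eps : DualNumber (T1Lift.Tr k (n + 1))) ^ (n + 2) :
      T1Lift.B k (n + 1)) ∈ K k n := by
  refine (mem_K_iff k n _).2 ⟨?_, ?_⟩
  · rw [TrivSqZeroExt.fst_pow, TrivSqZeroExt.fst_add, TrivSqZeroExt.fst_inl, DualNumber.fst_eps, add_zero,
      T1Lift.t_pow]
  · rw [TrivSqZeroExt.snd_pow, TrivSqZeroExt.fst_add, TrivSqZeroExt.fst_inl, DualNumber.fst_eps, add_zero,
      TrivSqZeroExt.snd_add, TrivSqZeroExt.snd_inl, DualNumber.snd_eps, zero_add]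
    simp [T1Lift.t_pow]

/-- The map `A (n+1) → P`, `t ↦ t + y`. -/
def gAlg (n : ℕ) : T1Lift.Tr k (n + 1) →ₐ[k] P k n :=
  AdjoinRoot.liftAlgHom _ (Algebra.ofId k _)
    (Ideal.Quotient.mk (K k n) (TrivSqZeroExt.inl (T1Lift.t k (n + 1)) + DualNumber.eps :
      DualNumber (T1Lift.Tr k (n + 1))))
    ((Polynomial.eval₂_X_pow _ _).trans
      ((map_pow (Ideal.Quotient.mk (K k n)) _ _).symm.trans (Ideal.Quotient.eq_zero_iff_mem.2 (gen_pow_mem_K k n))))

theorem gAlg_t (n : ℕ) : gAlg k n (T1Lift.t k (n + 1)) =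
    Ideal.Quotient.mk (K k n) (TrivSqZeroExt.inl (T1Lift.t k (n + 1)) + DualNumber.eps :
      DualNumber (T1Lift.Tr k (n + 1))) :=
  AdjoinRoot.liftAlgHom_root _ _ _ _

theorem g_res (n : ℕ) : (P k n).res.comp (gAlg k n) = (T1Lift.A k (n + 1)).res := by
  refine AdjoinRoot.algHom_ext ?_
  change (P k n).res (gAlg k n (T1Lift.t k (n + 1))) = T1Lift.resA k (n + 1) (T1Lift.t k (n + 1))
  rw [gAlg_t]
  change T1Lift.resA k (n + 1) (TrivSqZeroExt.fst (TrivSqZeroExt.inl (T1Lift.t k (n + 1)) + DualNumber.eps :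
      DualNumber (T1Lift.Tr k (n + 1)))) = _
  rw [TrivSqZeroExt.fst_add, TrivSqZeroExt.fst_inl, DualNumber.fst_eps, add_zero]

def g (n : ℕ) : T1Lift.A k (n + 1) ⟶ P k n := homMk (gAlg k n) (g_res k n)

theorem g_p₁ (n : ℕ) : g k n ≫ p₁ k n = T1Lift.ε k n := hom_ext (AdjoinRoot.algHom_ext (by
  change (p₁ k n).toAlgHom (gAlg k n (T1Lift.t k (n + 1))) = T1Lift.εAlg k n (T1Lift.t k (n + 1))
  rw [gAlg_t, T1Lift.εAlg_t]
  refine TrivSqZeroExt.ext ?_ ?_
  · change T1Lift.αAlg k n (TrivSqZeroExt.fst (TrivSqZeroExt.inl (T1Lift.t k (n + 1)) + DualNumber.eps :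
      DualNumber (T1Lift.Tr k (n + 1)))) = _
    simp
  · change T1Lift.αAlg k n (TrivSqZeroExt.snd (TrivSqZeroExt.inl (T1Lift.t k (n + 1)) + DualNumber.eps :
      DualNumber (T1Lift.Tr k (n + 1)))) = _
    simp))

theorem g_p₂ (n : ℕ) : g k n ≫ p₂ k n = 𝟙 _ := hom_ext (AdjoinRoot.algHom_ext (by
  change (p₂ k n).toAlgHom (gAlg k n (T1Lift.t k (n + 1))) = T1Lift.t k (n + 1)
  rw [gAlg_t]
  change TrivSqZeroExt.fst (TrivSqZeroExt.inl (T1Lift.t k (n + 1)) + DualNumber.eps :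
      DualNumber (T1Lift.Tr k (n + 1))) = _
  simp))

theorem square (n : ℕ) : T1Lift.α k (n + 1) ≫ g k n = T1Lift.ε k (n + 1) ≫ ψ k n :=
  hom_ext (AdjoinRoot.algHom_ext (by
    change gAlg k n (T1Lift.αAlg k (n + 1) (T1Lift.t k (n + 2))) =
      Ideal.Quotient.mk (K k n) (T1Lift.εAlg k (n + 1) (T1Lift.t k (n + 2)))
    rw [T1Lift.αAlg_t, gAlg_t, T1Lift.εAlg_t]))

theorem mul_ker_α (n : ℕ) {x j : T1Lift.Tr k (n + 1)} (hx : T1Lift.resA k (n + 1) x = 0)
    (hj : T1Lift.αAlg k n j = 0) : x * j = 0 := by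
  obtain ⟨b, rfl⟩ := exists_eq_t_mul k _ x hx
  obtain ⟨c, rfl⟩ := exists_of_αAlg_eq_zero k n j hj
  calc T1Lift.t k (n + 1) * b * (T1Lift.t k (n + 1) ^ (n + 1) * c)
      = T1Lift.t k (n + 1) ^ (n + 1 + 1) * (b * c) := by ring
    _ = 0 := by rw [T1Lift.t_pow, zero_mul]

theorem ψ_semismall (n : ℕ) : IsSemismallExt (ψ k n) := by
  refine ⟨quotMk_surjective _ _ _, eq_bot_iff.2 (Ideal.mul_le.2 fun x hx j hj => ?_)⟩
  have hj' := (mem_K_iff k n j).1 (Ideal.Quotient.eq_zero_iff_mem.1 hj)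
  have hx' : T1Lift.resA k (n + 1) (TrivSqZeroExt.fst x) = 0 := ((T1Lift.B k (n + 1)).mem_maximalIdeal_iff x).1 hx
  refine Submodule.mem_bot _ |>.2 (TrivSqZeroExt.ext ?_ ?_)
  · change TrivSqZeroExt.fst x * TrivSqZeroExt.fst j = 0
    rw [hj'.1, mul_zero]
  · change TrivSqZeroExt.fst x * TrivSqZeroExt.snd j + TrivSqZeroExt.snd x * TrivSqZeroExt.fst j = 0
    rw [hj'.1, mul_zero, add_zero, mul_ker_α k n hx' hj'.2]

theorem α_semismall' (n : ℕ) : IsSemismallExt (T1Lift.α k (n + 1)) := by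
  refine ⟨αAlg_surjective k (n + 1), eq_bot_iff.2 (Ideal.mul_le.2 fun x hx j hj => ?_)⟩
  exact Submodule.mem_bot _ |>.2 (mul_ker_α k (n + 1) (((T1Lift.A k (n + 1 + 1)).mem_maximalIdeal_iff x).1 hx) hj)

/-- The map on kernels. -/
def ell (n : ℕ) : ↥(RingHom.ker (T1Lift.α k (n + 1)).toAlgHom) →ₗ[k] ↥(RingHom.ker (ψ k n).toAlgHom) where
  toFun j := ⟨(T1Lift.ε k (n + 1)) (j : T1Lift.A k (n + 2)), by
    rw [RingHom.mem_ker]
    have h := congrArg (fun m : T1Lift.A k (n + 2) ⟶ P k n => m (j : T1Lift.A k (n + 2))) (square k n)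
    rw [Art.comp_apply, Art.comp_apply] at h
    exact h.symm.trans ((congrArg (g k n).toAlgHom (RingHom.mem_ker.1 j.2)).trans (map_zero _))⟩
  map_add' x y := Subtype.ext (map_add (T1Lift.ε k (n + 1)).toAlgHom _ _)
  map_smul' r x := Subtype.ext (map_smul (T1Lift.ε k (n + 1)).toAlgHom r (x : T1Lift.A k (n + 2)))

theorem eq_zero_of_εAlg [CharZero k] (n : ℕ) (j : T1Lift.Tr k (n + 1 + 1))
    (hj : T1Lift.αAlg k (n + 1) j = 0) (h' : T1Lift.εAlg k (n + 1) j = 0) : j = 0 := by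
  obtain ⟨c, hc⟩ := exists_of_αAlg_eq_zero k (n + 1) j hj
  obtain ⟨b, hb⟩ := T1Lift.eq_algebraMap_add_t_mul k (n + 1 + 1) c
  have hj2 : j = algebraMap k _ (T1Lift.resA k (n + 1 + 1) c) * T1Lift.t k (n + 1 + 1) ^ (n + 2) := by
    rw [hc]
    conv_lhs => rw [hb]
    rw [mul_add, ← mul_assoc, ← pow_succ, T1Lift.t_pow, zero_mul, add_zero, mul_comm]
  rw [hj2, map_mul, map_pow, T1Lift.εAlg_t, AlgHom.commutes] at h'
  have h2 := congrArg TrivSqZeroExt.snd h'
  rw [TrivSqZeroExt.algebraMap_eq_inl', TrivSqZeroExt.snd_mul, TrivSqZeroExt.snd_inl, TrivSqZeroExt.fst_inl,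
    TrivSqZeroExt.snd_pow, TrivSqZeroExt.fst_add, TrivSqZeroExt.fst_inl, DualNumber.fst_eps, add_zero,
    TrivSqZeroExt.snd_add, TrivSqZeroExt.snd_inl, DualNumber.snd_eps, zero_add, smul_zero, add_zero,
    TrivSqZeroExt.snd_zero] at h2
  simp only [Nat.pred_succ, smul_eq_mul, _root_.mul_one, nsmul_eq_mul] at h2
  by_contra hne
  have hr : T1Lift.resA k (n + 1 + 1) c ≠ 0 := fun h0 => hne (by rw [hj2, h0, map_zero, zero_mul])
  have h3 : algebraMap k (T1Lift.Tr k (n + 1)) (T1Lift.resA k (n + 1 + 1) c * ((n + 2 : ℕ) : k)) *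
      T1Lift.t k (n + 1) ^ (n + 1) = 0 := by
    rw [map_mul, map_natCast, mul_assoc]; exact h2
  exact t_pow_ne_zero k (n + 1) (((IsUnit.mk0 _ (mul_ne_zero hr (Nat.cast_ne_zero.2 (by omega)))).map
    (algebraMap k (T1Lift.Tr k (n + 1)))).mul_right_eq_zero.1 h3)
theorem ell_injective [CharZero k] (n : ℕ) : Function.Injective (ell k n) := by
  rw [injective_iff_map_eq_zero]
  intro j h
  exact Subtype.ext (eq_zero_of_εAlg k n _ j.2 (congrArg Subtype.val h))

end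

/-- In the set-valued case, let k be a field of characteristic zero and F a functor on local Artinian
k-algebras with residue field k such that F(k) is one point, F satisfies the Rim–Schlessinger
condition (for every fibre-product square A' ×_A A'' with A'' → A surjective the comparison map F(A'
×_A A'') → F(A') ×_{F(A)} F(A'') is bijective), and F has an obstruction theory with values in a
k-vector space V which is moreover functorial for every commutative square of surjections whose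
kernels are killed by the maximal ideal. Write A_m = k[t]/(t^(m+1)), B_m = A_m[y]/(y²), α : A_(m+1)
→ A_m and ξ : B_(m+1) → B_m for t ↦ t, β : B_m → A_m for y ↦ 0 and ε : A_(m+1) → B_m for t ↦ t + y.
Then an element X ∈ F(A_(n+1)) lifts to F(A_(n+2)) along α if and only if there is Y ∈ F(B_(n+1))
with F(β) Y = X and F(ξ) Y = F(ε) X, i.e. if and only if the element of the first-order tangent set
T¹(F(α)X / A_n) defined by F(ε) X lies in the image of T¹(X / A_(n+1)). (Stated here for functors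
with values in sets; the version for predeformation categories in groupoids satisfying the
Rim–Schlessinger condition specialises to it. The functoriality of the obstruction theory for
arbitrary commutative squares is an explicit hypothesis, pinned through linear maps between the
kernels that agree with the given ring map.) -/
theorem result (k : Type u) [Field k] [CharZero k]
    (F : ArtFun.Art k k ⥤ Type v) (h0 : ArtFun.H0 F)
    (hRS : ∀ ⦃P A A' A'' : ArtFun.Art k k⦄ (p' : P ⟶ A') (p'' : P ⟶ A'') (f' : A' ⟶ A) (f'' : A'' ⟶ A)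
      (h : ArtFun.Art.IsFibreProd p' p'' f' f''), Function.Surjective f'' → Function.Bijective (ArtFun.cmp F h))
    (V : Type u) [AddCommGroup V] [Module k V] (O : ArtFun.ObsTheory F V)
    (hnat : ∀ ⦃A' A C' C : ArtFun.Art k k⦄ (φ : A' ⟶ A) (hφ : ArtFun.Art.IsSemismallExt φ)
      (ψ : C' ⟶ C) (hψ : ArtFun.Art.IsSemismallExt ψ) (g' : A' ⟶ C') (g : A ⟶ C), φ ≫ g = g' ≫ ψ →
      ∀ (ℓ : ↥(RingHom.ker φ.toAlgHom) →ₗ[k] ↥(RingHom.ker ψ.toAlgHom)),
        (∀ j : ↥(RingHom.ker φ.toAlgHom), ((ℓ j : ↥(RingHom.ker ψ.toAlgHom)) : C') = g' (j : A')) →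
        ∀ u : F.obj A, O.obs ψ hψ (F.map g u) = LinearMap.lTensor V ℓ (O.obs φ hφ u))
    (n : ℕ) (X : F.obj (T1Lift.A k (n + 1))) :
    (∃ X' : F.obj (T1Lift.A k (n + 2)), F.map (T1Lift.α k (n + 1)) X' = X) ↔
      ∃ Y : F.obj (T1Lift.B k (n + 1)), F.map (T1Lift.β k (n + 1)) Y = X ∧
        F.map (T1Lift.ξ k n) Y = F.map (T1Lift.ε k n) X := by
  let φ := T1Lift.α k (n + 1)
  have hφ : ArtFun.Art.IsSemismallExt φ := α_semismall' k n
  have hψ : ArtFun.Art.IsSemismallExt (ψ k n) := ψ_semismall k n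
  have key := hnat φ hφ (ψ k n) hψ (T1Lift.ε k (n + 1)) (g k n) (square k n) (ell k n) (fun _ => rfl) X
  have h1 : (∃ X' : F.obj (T1Lift.A k (n + 2)), F.map (T1Lift.α k (n + 1)) X' = X) ↔
      ∃ Y : F.obj (T1Lift.B k (n + 1)), F.map (ψ k n) Y = F.map (g k n) X := by
    rw [← O.obs_eq_zero_iff φ hφ X, ← O.obs_eq_zero_iff (ψ k n) hψ, key]
    exact (map_eq_zero_iff _
      (Module.Flat.lTensor_preserves_injective_linearMap (M := V) _ (ell_injective k n))).symm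
  rw [h1]
  have hmap : ∀ {A B C : ArtFun.Art k k} (a : A ⟶ B) (b : B ⟶ C) (x : F.obj A),
      F.map b (F.map a x) = F.map (a ≫ b) x := fun a b x => by rw [F.map_comp]; rfl
  have hs : Function.Surjective (T1Lift.α k n) := αAlg_surjective k n
  refine exists_congr fun Y => ⟨fun h => ?_, fun h => ?_⟩
  · refine ⟨?_, ?_⟩
    · have := congrArg (F.map (p₂ k n)) h
      rw [hmap, hmap, g_p₂, F.map_id] at this
      simp only [ψ, p₂, ArtFun.Art.quotMk_quotFactor] at this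
      exact this
    · have := congrArg (F.map (p₁ k n)) h
      rw [hmap, hmap, g_p₁] at this
      simp only [ψ, p₁, ArtFun.Art.quotMk_quotFactor] at this
      exact this
  · refine (hRS _ _ _ _ (isFibreProd_P k n) hs).1 (Subtype.ext (Prod.ext ?_ ?_))
    · change F.map (p₁ k n) (F.map (ψ k n) Y) = F.map (p₁ k n) (F.map (g k n) X)
      rw [hmap, hmap, g_p₁]
      simp only [ψ, p₁, ArtFun.Art.quotMk_quotFactor]
      exact h.2
    · change F.map (p₂ k n) (F.map (ψ k n) Y) = F.map (p₂ k n) (F.map (g k n) X)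
      rw [hmap, hmap, g_p₂, F.map_id]
      simp only [ψ, p₂, ArtFun.Art.quotMk_quotFactor]
      exact h.1

end Groth.Agent.S18187
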