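import Groth.Statements.S18188
import Mathlib


set_option autoImplicit false
universe u
open OrbRR

namespace Groth.Agent.S18188

/-- Let K be a field in which 6 ≠ 0, let j < N be natural numbers (so N ≥ 1), and let ζ ∈ K be a
primitive N-th root of unity. Then the sum over i = 1, …, N − 1 of ζ^{ij} / (2 − ζ^i − ζ^{−i})
equals j(j − N)/2 + (N² − 1)/12. (The published setting is characteristic zero; the identity is
stated here over any field of characteristic different from 2 and 3, where the published proof
applies unchanged: a field containing a primitive N-th root of unity has characteristic prime to N,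
and each denominator 2 − ζ^i − ζ^{−i} = −(1 − ζ^i)²/ζ^i with 0 < i < N is nonzero. In
characteristics 2 and 3 the right-hand side has no meaning.) -/
theorem result (K : Type u) [Field K] (h6 : (6 : K) ≠ 0)
    (N j : ℕ) (hj : j < N) (ζ : K) (hζ : IsPrimitiveRoot ζ N) :
    ∑ i ∈ Finset.Ioo 0 N, ζ ^ (i * j) / (2 - ζ ^ i - (ζ ^ i)⁻¹) =
      (j : K) * ((j : K) - (N : K)) / 2 + ((N : K) ^ 2 - 1) / 12 := by
  haveI : NeZero N := ⟨by omega⟩
  have h2 : (2 : K) ≠ 0 := fun h => h6 (by rw [show (6 : K) = 2 * 3 by norm_num, h, zero_mul])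
  have h3 : (3 : K) ≠ 0 := fun h => h6 (by rw [show (6 : K) = 2 * 3 by norm_num, h, mul_zero])
  have h12 : (12 : K) ≠ 0 := by rw [show (12 : K) = 2 * (2 * 3) by norm_num]; simp [h2, h3]
  have hN : (N : K) ≠ 0 := hζ.neZero'.out
  let I := Finset.Ioo 0 N
  let z : ℕ → K := fun i => ζ ^ i
  let d : ℕ → K := fun i => 2 - z i - (z i)⁻¹
  have hz1 : ∀ i ∈ I, z i ≠ 1 := fun i hi => by
    rw [Finset.mem_Ioo] at hi
    exact hζ.pow_ne_one_of_pos_of_lt (by omega) hi.2
  have hz0 : ∀ i, z i ≠ 0 := fun i => pow_ne_zero _ (hζ.ne_zero (by omega))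
  have hd : ∀ i ∈ I, d i ≠ 0 := fun i hi h => by
    have h' : (z i - 1) ^ 2 = 0 := by
      have := congrArg (· * z i) h
      simp only [d, sub_mul, inv_mul_cancel₀ (hz0 i), zero_mul] at this
      linear_combination -this
    exact hz1 i hi (sub_eq_zero.1 (pow_eq_zero_iff (by norm_num) |>.1 h'))
  let T : ℕ → K := fun j => ∑ i ∈ I, z i ^ j / d i
  have recur : ∀ j, T (j + 2) - 2 * T (j + 1) + T j = - ∑ i ∈ I, z i ^ (j + 1) := by
    intro j
    simp only [T, Finset.mul_sum, ← Finset.sum_sub_distrib, ← Finset.sum_add_distrib,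
      ← Finset.sum_neg_distrib]
    refine Finset.sum_congr rfl fun i hi => ?_
    field_simp [hd i hi]
    simp only [d]
    field_simp [hz0 i]
    ring
  have hrange : Finset.range N = insert 0 I := by
    ext i; simp [I]; omega
  have geo : ∀ k, ¬ N ∣ k → ∑ i ∈ I, z i ^ k = -1 := by
    intro k hk
    have h1 : ∑ i ∈ Finset.range N, (ζ ^ k) ^ i = 0 := by
      have hne : ζ ^ k ≠ 1 := fun h => hk ((hζ.pow_eq_one_iff_dvd k).1 h)
      have h' := geom_sum_mul (ζ ^ k) N
      rw [← pow_mul, mul_comm k N, pow_mul, hζ.pow_eq_one, one_pow, sub_self] at h'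
      exact (mul_eq_zero.1 h').resolve_right (sub_ne_zero.2 hne)
    rw [hrange, Finset.sum_insert (by simp [I]), pow_zero] at h1
    rw [show ∑ i ∈ I, z i ^ k = ∑ i ∈ I, (ζ ^ k) ^ i from
      Finset.sum_congr rfl fun i _ => pow_right_comm ζ i k]
    linear_combination h1
  have sym : T (N - 1) = T 1 := by
    refine Finset.sum_nbij' (fun i => N - i) (fun i => N - i) ?_ ?_ ?_ ?_ ?_
    · intro i hi; simp only [I, Finset.mem_Ioo, Finset.mem_coe] at hi ⊢; omega
    · intro i hi; simp only [I, Finset.mem_Ioo, Finset.mem_coe] at hi ⊢; omega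
    · intro i hi; simp only [I, Finset.mem_Ioo, Finset.mem_coe] at hi; omega
    · intro i hi; simp only [I, Finset.mem_Ioo, Finset.mem_coe] at hi; omega
    · intro i hi
      simp only [I, Finset.mem_Ioo] at hi
      have hinv : z (N - i) = (z i)⁻¹ := by
        refine eq_inv_of_mul_eq_one_left ?_
        simp only [z]
        rw [← pow_add, Nat.sub_add_cancel hi.2.le, hζ.pow_eq_one]
      have hp : z i ^ (N - 1) = (z i)⁻¹ := by
        refine eq_inv_of_mul_eq_one_left ?_
        rw [← pow_succ, Nat.sub_add_cancel (by omega : 1 ≤ N)]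
        simp only [z]
        rw [pow_right_comm, hζ.pow_eq_one, one_pow]
      rw [pow_one, hp, hinv]
      simp only [d, hinv, inv_inv]
      ring_nf
  have perN : ∀ k, T (k + N) = T k := fun k => Finset.sum_congr rfl fun i _ => by
    have : z i ^ N = 1 := by simp only [z]; rw [pow_right_comm, hζ.pow_eq_one, one_pow]
    rw [pow_add, this, mul_one]
  let f : ℕ → K := fun j => (j : K) * ((j : K) - (N : K)) / 2 + ((N : K) ^ 2 - 1) / 12
  have base : T 1 - T 0 = f 1 - f 0 := by
    have h := recur (N - 1)
    rw [show N - 1 + 2 = 1 + N by omega, show N - 1 + 1 = 0 + N by omega, perN, perN, sym] at h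
    have hs : ∑ i ∈ I, z i ^ (0 + N) = ((N - 1 : ℕ) : K) := by
      rw [Finset.sum_eq_card_nsmul (b := (1 : K)) fun i _ => by
        simp only [z, zero_add]; rw [pow_right_comm, hζ.pow_eq_one, one_pow]]
      simp [I]
    rw [hs, Nat.cast_sub (by omega : 1 ≤ N)] at h
    simp only [f]
    field_simp
    linear_combination 12 * h
  have main : ∀ j, j < N → T j = f j + (T 0 - f 0) := by
    intro j
    induction j using Nat.strong_induction_on with
    | _ j ih =>
      intro hj
      match j with
      | 0 => ring
      | 1 => linear_combination base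
      | j + 2 =>
        have h := recur j
        rw [geo (j + 1) (fun hd => by have := Nat.le_of_dvd (by omega) hd; omega),
          ih (j + 1) (by omega) (by omega), ih j (by omega) (by omega)] at h
        simp only [f] at h ⊢
        push_cast at h ⊢
        field_simp at h ⊢
        linear_combination h
  have hsumf : ∀ n : ℕ, 12 * ∑ j ∈ Finset.range n, f j =
      (n : K) * ((n : K) - 1) * (2 * (n : K) - 1) - 3 * (n : K) * ((n : K) - 1) * (N : K)
        + (n : K) * ((N : K) ^ 2 - 1) := by
    intro n
    induction n with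
    | zero => simp
    | succ n ihn =>
      rw [Finset.sum_range_succ, mul_add, ihn]
      simp only [f]
      push_cast
      field_simp
      ring
  have hsumT : ∑ j ∈ Finset.range N, T j = 0 := by
    rw [Finset.sum_comm]
    refine Finset.sum_eq_zero fun i hi => ?_
    have h' := geom_sum_mul (z i) N
    rw [show z i ^ N = 1 by simp only [z]; rw [pow_right_comm, hζ.pow_eq_one, one_pow], sub_self] at h'
    rw [← Finset.sum_div, (mul_eq_zero.1 h').resolve_right (sub_ne_zero.2 (hz1 i hi)), zero_div]
  have hc : T 0 - f 0 = 0 := by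
    rw [Finset.sum_congr rfl fun j hj => main j (Finset.mem_range.1 hj), Finset.sum_add_distrib,
      Finset.sum_const, Finset.card_range, nsmul_eq_mul] at hsumT
    have h := hsumf N
    have : (12 : K) * (N : K) * (T 0 - f 0) = 0 := by linear_combination 12 * hsumT - h
    exact (mul_eq_zero.1 this).resolve_left (mul_ne_zero h12 hN)
  have := main j hj
  rw [hc, add_zero] at this
  refine Eq.trans ?_ this
  exact Finset.sum_congr rfl fun i _ => by rw [pow_mul]

end Groth.Agent.S18188
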