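import Groth.Statements.S18189
import Mathlib

set_option autoImplicit false
open OrbRR

namespace Groth.Agent.S18189

/-- Let N ≥ 1 be a natural number, let ζ ∈ ℂ be a primitive N-th root of unity, and put f(i) = i(i −
N)/2 + (N² − 1)/12 for 0 ≤ i < N. For every natural number m the complex number ε_m = (1/N)
∑_{i=0}^{N−1} f(i) ζ^{mi}, an eigenvalue of the symmetric circulant N × N matrix with (i, j) entry
f(j − i)/N, is real and nonnegative. -/
theorem result (N : ℕ) (hN : 0 < N) (ζ : ℂ)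
    (hζ : IsPrimitiveRoot ζ N) (m : ℕ) :
    (∑ i ∈ Finset.range N,
        ((i : ℂ) * ((i : ℂ) - (N : ℂ)) / 2 + ((N : ℂ) ^ 2 - 1) / 12) / (N : ℂ) * ζ ^ (m * i)).im = 0 ∧
    0 ≤ (∑ i ∈ Finset.range N,
        ((i : ℂ) * ((i : ℂ) - (N : ℂ)) / 2 + ((N : ℂ) ^ 2 - 1) / 12) / (N : ℂ) * ζ ^ (m * i)).re := by
  set w := ζ ^ m with hw
  have hwN : w ^ N = 1 := by rw [hw, ← pow_mul, mul_comm, pow_mul, hζ.pow_eq_one, one_pow]
  have hN' : (N : ℂ) ≠ 0 := Nat.cast_ne_zero.2 hN.ne'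
  suffices h : ∃ t : ℝ, 0 ≤ t ∧ (∑ i ∈ Finset.range N,
      ((i : ℂ) * ((i : ℂ) - (N : ℂ)) / 2 + ((N : ℂ) ^ 2 - 1) / 12) / (N : ℂ) * ζ ^ (m * i)) = (t : ℂ) by
    obtain ⟨t, ht, he⟩ := h
    rw [he]
    exact ⟨Complex.ofReal_im t, by rw [Complex.ofReal_re]; exact ht⟩
  simp only [pow_mul, ← hw]
  by_cases h1 : w = 1
  · refine ⟨0, le_rfl, ?_⟩
    simp only [h1, one_pow, mul_one, Complex.ofReal_zero]
    have a1 : ∀ M : ℕ, ∑ i ∈ Finset.range M, ((i : ℂ) * ((i : ℂ) - N) / 2 + ((N : ℂ) ^ 2 - 1) / 12) / N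
        = ((M : ℂ) * (M - 1) * (2 * M - 1) / 12 - N * M * (M - 1) / 4 + M * ((N : ℂ) ^ 2 - 1) / 12) / N := by
      intro M
      induction M with
      | zero => simp
      | succ M ih => rw [Finset.sum_range_succ, ih]; push_cast; field_simp; ring
    rw [a1]
    field_simp
    ring
  · have s0 : ∀ M : ℕ, (w - 1) * ∑ i ∈ Finset.range M, w ^ i = w ^ M - 1 := fun M => mul_geom_sum w M
    have s1 : ∀ M : ℕ, (w - 1) ^ 2 * ∑ i ∈ Finset.range M, (i : ℂ) * w ^ i = (M : ℂ) * w ^ M * (w - 1) - w * (w ^ M - 1) := by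
      intro M
      induction M with
      | zero => simp
      | succ M ih => rw [Finset.sum_range_succ, mul_add, ih]; push_cast; ring
    have s2 : ∀ M : ℕ, (w - 1) ^ 3 * ∑ i ∈ Finset.range M, (i : ℂ) ^ 2 * w ^ i =
        (M : ℂ) ^ 2 * w ^ M * (w - 1) ^ 2 - 2 * w * (M * w ^ M) * (w - 1) + w * (w + 1) * (w ^ M - 1) := by
      intro M
      induction M with
      | zero => simp
      | succ M ih => rw [Finset.sum_range_succ, mul_add, ih]; push_cast; ring
    have hne : w - 1 ≠ 0 := sub_ne_zero.2 h1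
    have e : (∑ i ∈ Finset.range N, ((i : ℂ) * ((i : ℂ) - N) / 2 + ((N : ℂ) ^ 2 - 1) / 12) / N * w ^ i) =
        (1 / (2 * N)) * ∑ i ∈ Finset.range N, (i : ℂ) ^ 2 * w ^ i - (1 / 2) * ∑ i ∈ Finset.range N, (i : ℂ) * w ^ i
          + (((N : ℂ) ^ 2 - 1) / (12 * N)) * ∑ i ∈ Finset.range N, w ^ i := by
      rw [Finset.mul_sum, Finset.mul_sum, Finset.mul_sum, ← Finset.sum_sub_distrib, ← Finset.sum_add_distrib]
      refine Finset.sum_congr rfl fun i _ => ?_
      field_simp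
    have z0 : ∑ i ∈ Finset.range N, w ^ i = 0 := by
      have := s0 N
      rw [hwN, sub_self] at this
      exact (mul_eq_zero.1 this).resolve_left hne
    have z1 : ∑ i ∈ Finset.range N, (i : ℂ) * w ^ i = (N : ℂ) / (w - 1) := by
      have := s1 N
      rw [hwN, sub_self, mul_zero, sub_zero] at this
      rw [eq_div_iff hne]
      refine mul_left_cancel₀ hne ?_
      linear_combination this
    have z2 : ∑ i ∈ Finset.range N, (i : ℂ) ^ 2 * w ^ i = ((N : ℂ) ^ 2 * (w - 1) - 2 * w * N) / (w - 1) ^ 2 := by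
      have := s2 N
      rw [hwN, sub_self, mul_zero, add_zero] at this
      rw [eq_div_iff (pow_ne_zero 2 hne)]
      refine mul_left_cancel₀ hne ?_
      linear_combination this
    have hnorm : ‖w‖ = 1 := Complex.norm_eq_one_of_pow_eq_one hwN hN.ne'
    have hconj : w * (starRingEnd ℂ) w = 1 := by
      rw [Complex.mul_conj, Complex.normSq_eq_norm_sq, hnorm]; simp
    refine ⟨1 / Complex.normSq (w - 1), div_nonneg zero_le_one (Complex.normSq_nonneg _), ?_⟩
    rw [e, z0, z1, z2, Complex.ofReal_div, Complex.ofReal_one, ← Complex.mul_conj, map_sub, map_one]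
    have hne' : (starRingEnd ℂ) w - 1 ≠ 0 := fun h => h1 (by rw [sub_eq_zero.1 h, mul_one] at hconj; exact hconj)
    field_simp
    linear_combination (-24 * (N : ℂ)) * hconj

end Groth.Agent.S18189
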