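import Groth.Statements.S18190
import Mathlib

set_option autoImplicit false
open OrbRR

namespace Groth.Agent.S18190

/-- Let N ≥ 1 and let f : ℤ/Nℤ → ℚ be f(x) = x(x − N)/2 + (N² − 1)/12, where x is read as its
representative with 0 ≤ x < N. The real N × N matrix indexed by ℤ/Nℤ whose (i, j) entry is f(j −
i)/N, a symmetric circulant matrix, is positive semidefinite. -/
theorem result (N : ℕ) [NeZero N] :
    (Matrix.of fun i j : ZMod N =>
        ((((j - i).val : ℝ) * (((j - i).val : ℝ) - (N : ℝ))) / 2 + ((N : ℝ) ^ 2 - 1) / 12) / (N : ℝ)).PosSemidef := by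
  classical
  set f : ZMod N → ℝ := fun x => ((x.val : ℝ) * ((x.val : ℝ) - N)) / 2 + ((N : ℝ) ^ 2 - 1) / 12 with hf
  set M : Matrix (ZMod N) (ZMod N) ℝ := Matrix.of fun i j => f (j - i) / N with hMdef
  show M.PosSemidef
  have hN0 : (N : ℝ) ≠ 0 := Nat.cast_ne_zero.2 (NeZero.ne N)
  have hN1 : 1 ≤ N := NeZero.one_le
  -- symmetry
  have hneg : ∀ x : ZMod N, f (-x) = f x := fun x => by
    by_cases hx : x = 0
    · rw [hx, neg_zero]
    · simp only [hf]
      rw [ZMod.neg_val, if_neg hx, Nat.cast_sub (ZMod.val_lt x).le]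
      ring
  -- second difference
  have hdiff : ∀ x : ZMod N, 2 * f x - f (x + 1) - f (x - 1) = (if x = 0 then (N : ℝ) else 0) - 1 := by
    intro x
    rcases eq_or_lt_of_le hN1 with h1 | h1
    · subst h1
      have : ∀ y : ZMod 1, y = 0 := fun y => Subsingleton.elim _ _
      simp [this x, this (0 + 1), this (0 - 1), hf]
    have : Fact (1 < N) := ⟨h1⟩
    have hone : ((1 : ZMod N).val : ℝ) = 1 := by rw [ZMod.val_one]; simp
    have hm1 : ((-1 : ZMod N).val : ℝ) = (N : ℝ) - 1 := by
      rw [ZMod.neg_val, if_neg one_ne_zero, ZMod.val_one, Nat.cast_sub hN1]; simp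
    by_cases hx : x = 0
    · subst hx
      simp only [hf, zero_add, zero_sub, ZMod.val_zero, Nat.cast_zero, hone, hm1, if_true]
      ring
    · rw [if_neg hx]
      have hlt := ZMod.val_lt x
      have hpos : 1 ≤ x.val := Nat.one_le_iff_ne_zero.2 fun h => hx ((ZMod.val_eq_zero x).1 h)
      have hsub : ((x - 1).val : ℝ) = (x.val : ℝ) - 1 := by
        rw [ZMod.val_sub (by rw [ZMod.val_one]; exact hpos), ZMod.val_one, Nat.cast_sub hpos]; simp
      by_cases hlast : x.val + 1 = N
      · have hx1 : x + 1 = 0 := by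
          rw [← ZMod.natCast_zmod_val x, ← Nat.cast_one (R := ZMod N), ← Nat.cast_add, hlast, ZMod.natCast_self]
        have hxN : (x.val : ℝ) = (N : ℝ) - 1 := by
          have h := congrArg (Nat.cast (R := ℝ)) hlast
          push_cast at h
          linarith
        simp only [hf, hx1, ZMod.val_zero, Nat.cast_zero, hsub]
        rw [hxN]; ring
      · have hadd : ((x + 1).val : ℝ) = (x.val : ℝ) + 1 := by
          rw [ZMod.val_add_of_lt (by rw [ZMod.val_one]; omega), ZMod.val_one]; push_cast; ring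
        simp only [hf, hadd, hsub]
        ring
  have hsum : ∑ x : ZMod N, f x = 0 := by
    have key : ∀ n : ℕ, (∑ i ∈ Finset.range n, (((i : ℝ) * ((i : ℝ) - N)) / 2 + ((N : ℝ) ^ 2 - 1) / 12)) =
        ((n : ℝ) * ((n : ℝ) - 1) * (2 * n - 1) / 6 - N * ((n : ℝ) * ((n : ℝ) - 1) / 2)) / 2 + n * (((N : ℝ) ^ 2 - 1) / 12) := by
      intro n
      induction n with
      | zero => simp
      | succ n ih => rw [Finset.sum_range_succ, ih]; push_cast; ring
    have h2 : ∑ x : ZMod N, f x = ∑ i ∈ Finset.range N, (((i : ℝ) * ((i : ℝ) - N)) / 2 + ((N : ℝ) ^ 2 - 1) / 12) :=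
      Finset.sum_bij' (fun x _ => x.val) (fun i _ => (i : ZMod N)) (fun x _ => Finset.mem_range.2 (ZMod.val_lt x))
        (fun _ _ => Finset.mem_univ _) (fun x _ => ZMod.natCast_zmod_val x)
        (fun i hi => ZMod.val_cast_of_lt (Finset.mem_range.1 hi)) (fun x _ => rfl)
    rw [h2, key]; ring
  have hsymm : M.IsHermitian := by
    ext i j
    simp only [Matrix.conjTranspose_apply, hMdef, Matrix.of_apply, star_trivial]
    rw [← hneg, neg_sub]
  refine Matrix.PosSemidef.of_dotProduct_mulVec_nonneg hsymm fun x => ?_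
  rw [star_trivial]
  set y := M.mulVec x with hy
  have hcol : ∀ j, ∑ i, M i j = 0 := fun j => by
    simp only [hMdef, Matrix.of_apply, ← Finset.sum_div]
    rw [Fintype.sum_equiv (Equiv.subLeft j) (fun i => f (j - i)) f (fun i => rfl), hsum, zero_div]
  have hy0 : ∑ i, y i = 0 := by
    simp only [hy, Matrix.mulVec, dotProduct]
    rw [Finset.sum_comm]
    exact Finset.sum_eq_zero fun j _ => by rw [← Finset.sum_mul, hcol, zero_mul]
  have hL : ∀ i, 2 * y i - y (i + 1) - y (i - 1) = x i - (∑ j, x j) / N := fun i => by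
    simp only [hy, Matrix.mulVec, dotProduct, hMdef, Matrix.of_apply, Finset.mul_sum, ← Finset.sum_sub_distrib]
    have hterm : ∀ j, 2 * (f (j - i) / N * x j) - f (j - (i + 1)) / N * x j - f (j - (i - 1)) / N * x j =
        (if j = i then x j else 0) - x j / N := fun j => by
      have h := hdiff (j - i)
      rw [show j - i + 1 = j - (i - 1) by ring, show j - i - 1 = j - (i + 1) by ring] at h
      have e : 2 * (f (j - i) / N * x j) - f (j - (i + 1)) / N * x j - f (j - (i - 1)) / N * x j =
          (2 * f (j - i) - f (j - (i - 1)) - f (j - (i + 1))) / N * x j := by ring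
      rw [e, h]
      simp only [sub_eq_zero]
      split_ifs <;> field_simp <;> ring
    rw [Finset.sum_congr rfl fun j _ => hterm j, Finset.sum_sub_distrib, Finset.sum_ite_eq', if_pos (Finset.mem_univ i), Finset.sum_div]
  have hquad : x ⬝ᵥ y = ∑ i, y i * (2 * y i - y (i + 1) - y (i - 1)) := by
    simp only [hL, dotProduct, mul_sub, Finset.sum_sub_distrib]
    rw [← Finset.sum_mul, hy0, zero_mul, sub_zero]
    exact Finset.sum_congr rfl fun i _ => mul_comm _ _
  have hshift : ∀ g : ZMod N → ℝ, ∑ i, g (i + 1) = ∑ i, g i := fun g => Equiv.sum_comp (Equiv.addRight (1 : ZMod N)) g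
  have hsq : ∑ i, y i * (2 * y i - y (i + 1) - y (i - 1)) = ∑ i, (y (i + 1) - y i) ^ 2 := by
    have h1 : ∑ i, y i * y (i - 1) = ∑ i, y (i + 1) * y i := by
      rw [← hshift fun i => y i * y (i - 1)]
      simp
    have h2 := hshift fun i => y i ^ 2
    simp only [mul_sub, Finset.sum_sub_distrib, h1, sub_sq, Finset.sum_add_distrib, h2]
    have h3 : ∑ i, 2 * y (i + 1) * y i = ∑ i, y i * y (i + 1) + ∑ i, y (i + 1) * y i := by
      rw [← Finset.sum_add_distrib]; exact Finset.sum_congr rfl fun i _ => by ring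
    have h4 : ∑ i, y i * (2 * y i) = ∑ i, y i ^ 2 + ∑ i, y i ^ 2 := by
      rw [← Finset.sum_add_distrib]; exact Finset.sum_congr rfl fun i _ => by ring
    rw [h3, h4]; ring
  rw [hquad, hsq]
  exact Finset.sum_nonneg fun i _ => sq_nonneg _

end Groth.Agent.S18190
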