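import Groth.Statements.S18200
import Groth.Agent.LocImmersion.Factor
import Groth.Agent.FiniteFactor.Main
set_option backward.isDefEq.respectTransparency false
set_option backward.isDefEq.respectTransparency.types false

set_option autoImplicit false
universe u
open LocImm

namespace Groth.Agent.S18200

open CategoryTheory AlgebraicGeometry in
/-- Let `f : X ⟶ Y` be a separated morphism of Noetherian schemes that is essentially quasi-finite:
essentially of finite type with every fibre the spectrum of a finite algebra over the residue field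
(equivalently, `f` locally quasi-finite in the fibrewise sense, which carries no finite-type
condition). Then `f` factors as a localizing immersion `i : X ⟶ Z` (localizing and injective on
points, `Z` Noetherian) followed by a finite morphism `h : Z ⟶ Y`. -/
theorem result {X Y : Scheme.{u}} [IsNoetherian X] [IsNoetherian Y] (f : X ⟶ Y) [IsSeparated f] [EssFT.EssFiniteType f] [LocallyQuasiFinite f] :
    ∃ (Z : Scheme.{u}) (i : X ⟶ Z) (h : Z ⟶ Y), IsNoetherian Z ∧ LocImm.IsLocImmersion i ∧ IsFinite h ∧ i ≫ h = f := by
  obtain ⟨C, k, h, _, hk, _, _, _, rfl⟩ := Groth.Agent.LocImmersion.exists_factorization f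
  have hq : ∀ x : X, h.QuasiFiniteAt (k x) := fun x => by
    haveI := Groth.Agent.LocImmersion.isIso_stalkMap hk.1 x
    have h1 := (k ≫ h).quasiFiniteAt x
    simp only [Scheme.Hom.QuasiFiniteAt, Scheme.Hom.stalkMap_comp, CommRingCat.hom_comp,
      RingHom.QuasiFinite.respectsIso.cancel_right_isIso] at h1
    exact h1
  let Q := h.quasiFiniteLocus
  haveI := Groth.Agent.LocImmersion.isNoetherian_opens Q
  let i : Q.toScheme ⟶ h.normalization := Q.ι ≫ h.toNormalization
  haveI : IsOpenImmersion i := inferInstanceAs (IsOpenImmersion (h.quasiFiniteLocus.ι ≫ h.toNormalization))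
  haveI : CompactSpace i.opensRange.toScheme := i.isoOpensRange.hom.homeomorph.compactSpace
  haveI : LocallyOfFiniteType (i.opensRange.ι ≫ h.fromNormalization) := by
    rw [← i.isoOpensRange_inv_comp, Category.assoc, show i ≫ h.fromNormalization = Q.ι ≫ h by simp [i]]
    infer_instance
  obtain ⟨Z, g, j, hg, hj, hjg⟩ := Groth.Agent.FiniteFactor.exists_isImmersion_finite h.fromNormalization i.opensRange
  haveI := hg
  haveI := hj
  let J : Q.toScheme ⟶ Z := i.isoOpensRange.hom ≫ j
  haveI : IsImmersion J := inferInstanceAs (IsImmersion (i.isoOpensRange.hom ≫ j))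
  have hJg : J ≫ g = Q.ι ≫ h := by
    simp only [J, Category.assoc, hjg]
    rw [← Category.assoc, Scheme.Hom.isoOpensRange_hom_ι]
    simp [i]
  have hr : Set.range k ⊆ Set.range Q.ι := by
    rintro _ ⟨x, rfl⟩
    rw [Scheme.Opens.range_ι]
    exact hq x
  let k' := IsOpenImmersion.lift Q.ι k hr
  have hk'e : k' ≫ Q.ι = k := IsOpenImmersion.lift_fac _ _ _
  have hk' : LocImm.IsLocImmersion k' :=
    Groth.Agent.LocImmersion.isLocImmersion_of_comp_openImmersion Q.ι (by rw [hk'e]; exact hk)
  haveI : IsLocallyNoetherian Z := LocallyOfFiniteType.isLocallyNoetherian g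
  haveI : CompactSpace Z := QuasiCompact.compactSpace_of_compactSpace g
  haveI : IsLocallyNoetherian J.image := LocallyOfFiniteType.isLocallyNoetherian J.imageι
  haveI : CompactSpace J.image := QuasiCompact.compactSpace_of_compactSpace J.imageι
  refine ⟨J.image, k' ≫ J.toImage, J.imageι ≫ g, {}, Groth.Agent.LocImmersion.isLocImmersion_comp_openImmersion J.toImage hk', inferInstance, ?_⟩
  rw [Category.assoc, Scheme.Hom.toImage_imageι_assoc, hJg, reassoc_of% hk'e]

end Groth.Agent.S18200
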