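import Groth.Statements.S18206
import Groth.Agent.LocImmersion.Local
set_option backward.isDefEq.respectTransparency false
set_option backward.isDefEq.respectTransparency.types false

set_option autoImplicit false
universe u
open LocImm

namespace Groth.Agent.S18206

open CategoryTheory AlgebraicGeometry in
/-- Let `f : X ⟶ Y` be a localizing immersion (localizing and injective on points) of Noetherian
schemes. Then every quasi-coherent ideal sheaf `I` on `X` is the inverse image ideal `J·O_X` of some
quasi-coherent ideal sheaf `J` on `Y` (all such ideals are coherent, the schemes being Noetherian). -/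
theorem result {X Y : Scheme.{u}} [IsNoetherian X] [IsNoetherian Y]
    (f : X ⟶ Y) (hf : LocImm.IsLocImmersion f) (I : X.IdealSheafData) : ∃ J : Y.IdealSheafData, J.comap f = I := by
  refine ⟨I.map f, ?_⟩
  choose W hxW _ hW hW' hloc using fun x => Groth.Agent.LocImmersion.exists_nbhd hf x (O := ⊤) trivial
  refine Scheme.IdealSheafData.ext_of_iSup_eq_top (fun x => ⟨f ⁻¹ᵁ W x, hW' x⟩)
    (top_le_iff.mp fun x _ => TopologicalSpace.Opens.mem_iSup.mpr ⟨x, hxW x⟩) fun x => le_antisymm (I.comap_map_le f _) ?_
  letI := (f.app (W x)).hom.toAlgebra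
  obtain ⟨S, hS⟩ := hloc x
  have h1 := (I.map f).le_map_comap f ⟨W x, hW x⟩
  rw [Scheme.IdealSheafData.ideal_map ((I.map f).comap f) f ⟨W x, hW x⟩ (hW' x)] at h1
  conv_lhs => rw [← IsLocalization.map_under S _ (I.ideal ⟨f ⁻¹ᵁ W x, hW' x⟩)]
  rw [Ideal.map_le_iff_le_comap]
  refine le_trans (le_of_eq ?_) h1
  exact (Scheme.IdealSheafData.ideal_map I f ⟨W x, hW x⟩ (hW' x)).symm

end Groth.Agent.S18206
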