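import Groth.Statements.S18208
import Groth.Agent.LocImmersion.Local
set_option backward.isDefEq.respectTransparency false
set_option backward.isDefEq.respectTransparency.types false

set_option autoImplicit false
universe u
open LocImm

namespace Groth.Agent.S18208

open CategoryTheory AlgebraicGeometry in
/-- A morphism `f : X ⟶ Y` of Noetherian schemes is a localizing immersion (localizing and injective on
points) if and only if every point of `f(X)` has an affine open neighbourhood `V` in `Y` whose
preimage `f⁻¹V` is affine with `Γ(Y, V) → Γ(X, f⁻¹V)` a localizing ring map (its target is the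
localization of its source at some submonoid). In particular such an `f` is quasi-affine. -/
theorem result {X Y : Scheme.{u}} [IsNoetherian X] [IsNoetherian Y] (f : X ⟶ Y) :
    LocImm.IsLocImmersion f ↔ ∀ x : X, ∃ V : Y.Opens, f x ∈ V ∧ IsAffineOpen V ∧ IsAffineOpen (f ⁻¹ᵁ V) ∧ LocImm.IsLocHom (f.app V).hom := by
  constructor
  · intro hf x
    obtain ⟨W, hxW, -, hW, hW', h⟩ := Groth.Agent.LocImmersion.exists_nbhd hf x (O := ⊤) trivial
    exact ⟨W, hxW, hW, hW', h⟩
  · intro h
    refine ⟨Groth.Agent.LocImmersion.isLocalizing_of_nbhd h, fun x y hxy => ?_⟩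
    obtain ⟨V, hx, hV, hV', hloc⟩ := h x
    rw [Scheme.Hom.app_eq_appLE] at hloc
    exact Groth.Agent.LocImmersion.eq_of_isLocHom hV hV' le_rfl hloc hx (show f y ∈ V by rw [← show f x = f y from hxy]; exact hx) hxy

end Groth.Agent.S18208
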