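import Groth.Statements.S18213
import Groth.Agent.LocImmersion.ExtendProp
import Groth.Agent.FlatLocus.Scheme
set_option backward.isDefEq.respectTransparency false
set_option backward.isDefEq.respectTransparency.types false

set_option autoImplicit false
universe u
open LocImm

namespace Groth.Agent.S18213

open CategoryTheory AlgebraicGeometry in
/-- Let `f : X ⟶ Y` be a separated morphism of Noetherian schemes, essentially of finite type. Then the
set of points `x` for which the composite `Spec O_{X,x} ⟶ X ⟶ Y` is flat is open, and if `f` is flat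
it factors as a localizing immersion `i : X ⟶ Z` (localizing and injective on points, `Z`
Noetherian) followed by a separated flat morphism of finite type `h : Z ⟶ Y`. -/
theorem result {X Y : Scheme.{u}} [IsNoetherian X] [IsNoetherian Y] (f : X ⟶ Y) [IsSeparated f] [EssFT.EssFiniteType f] :
    IsOpen {x : X | Flat (X.fromSpecStalk x ≫ f)} ∧
      (Flat f → ∃ (Z : Scheme.{u}) (i : X ⟶ Z) (h : Z ⟶ Y), IsNoetherian Z ∧ LocImm.IsLocImmersion i ∧ IsSeparated h ∧ LocallyOfFiniteType h ∧ QuasiCompact h ∧ Flat h ∧ i ≫ h = f) := by
  have key : ∀ {X Y : Scheme.{u}} (f : X ⟶ Y) (x : X), Flat (X.fromSpecStalk x ≫ f) ↔ (f.stalkMap x).hom.Flat := by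
    intro X Y f x
    constructor
    · intro h
      have hl := Groth.Agent.LocImmersion.isIso_stalkMap (Groth.Agent.LocImmersion.isLocImmersion_fromSpecStalk x).1
        (IsLocalRing.closedPoint (X.presheaf.stalk x))
      have h1 := Flat.stalkMap (X.fromSpecStalk x ≫ f) (IsLocalRing.closedPoint (X.presheaf.stalk x))
      rw [Scheme.Hom.stalkMap_comp, CommRingCat.hom_comp] at h1
      have h2 : ∀ z, z = x → (f.stalkMap z).hom.Flat → (f.stalkMap x).hom.Flat := fun z hz => hz ▸ id
      refine h2 _ Scheme.fromSpecStalk_closedPoint ?_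
      let σ := ((asIso ((X.fromSpecStalk x).stalkMap (IsLocalRing.closedPoint (X.presheaf.stalk x)))).commRingCatIsoToRingEquiv)
      have h3 := RingHom.Flat.comp h1 (RingHom.Flat.of_bijective (f := σ.symm.toRingHom) σ.symm.bijective)
      rwa [← RingHom.comp_assoc, show σ.symm.toRingHom.comp ((X.fromSpecStalk x).stalkMap
        (IsLocalRing.closedPoint (X.presheaf.stalk x))).hom = RingHom.id _ from RingHom.ext σ.symm_apply_apply,
        RingHom.id_comp] at h3
    · intro h
      rw [← Scheme.SpecMap_stalkMap_fromSpecStalk]
      haveI : Flat (Spec.map (f.stalkMap x)) := by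
        rw [HasRingHomProperty.Spec_iff (P := @Flat)]; exact h
      haveI := Groth.Agent.LocImmersion.flat (Groth.Agent.LocImmersion.isLocImmersion_fromSpecStalk (X := Y) (f x)).1
      infer_instance
  have h := Groth.Agent.LocImmersion.extend_property @Flat
    (fun i f _ _ hi hf => by
      haveI := Groth.Agent.LocImmersion.flat hi.1
      haveI := hf
      infer_instance)
    (fun f _ _ hx => Flat.of_stalkMap _ fun x => (key f x).mp (hx x))
    (fun {X Y} _ _ f _ _ => by
      simp only [key]
      exact Groth.Agent.FlatLocus.isOpen_flat_stalkMap f) f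
  exact ⟨h.2.1, h.2.2⟩

end Groth.Agent.S18213
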