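import Groth.Statements.S18223
import Groth.Agent.MultSurjLib.Basic
-- import your own Groth.Agent.* helpers here

set_option autoImplicit false
universe u
open CategoryTheory CategoryTheory.Limits AlgebraicGeometry
open Coh

set_option backward.isDefEq.respectTransparency false
set_option backward.isDefEq.respectTransparency.types false

namespace Groth.Agent.S18223

/-- Let k be an algebraically closed field, X a proper k-scheme and L an invertible O_X-module which is
globally generated, its evaluation map H^0(X, L) ⊗ O_X → L given as an epimorphism ev from a free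
module inducing a bijection on global sections; let M_L = ker ev be the kernel bundle. Let i ≥ 0 and
h ≥ 1 and suppose H^1(X, M_L^{⊗(i+1)} ⊗ L^{⊗h}) = 0. Then the multiplication map on global sections
H^0(X, L) ⊗ H^0(X, M_L^{⊗i} ⊗ L^{⊗h}) → H^0(X, L ⊗ (M_L^{⊗i} ⊗ L^{⊗h})), written as the map from the
global sections of the sectionwise tensor product presheaf to the global sections of its
sheafification, is surjective (its target is H^0(X, M_L^{⊗i} ⊗ L^{⊗(h+1)}) up to the canonical
isomorphism; the published statement writes both sides as the iterated kernels K(L^h, L, …, L) of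
multiplication maps, which its first part identifies with these section spaces). The published
statement is for a projective variety; this row allows any proper k-scheme. -/
theorem result (k : Type u) [Field k] [IsAlgClosed k]
    (X : Scheme.{u}) [X.Over (Spec (CommRingCat.of k))] [IsProper (X ↘ Spec (CommRingCat.of k))]
    (L : X.Modules) (hL : PicF.IsInvertible L)
    (J : Type u) (ev : (SheafOfModules.free J : X.Modules) ⟶ L) [Epi ev]
    (hev : Function.Bijective (Sheaf.H.map ((SheafOfModules.toSheaf X.ringCatSheaf).map ev) 0))
    (i h : ℕ) (hh : 1 ≤ h)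
    (hvan : Subsingleton (Coh.HH X (CohB1.tensorMod (CohB1.tensorPow (kernel ev) (i + 1)) (CohB1.tensorPow L h)) 1)) :
    Function.Surjective ((toSheafify (Opens.grothendieckTopology ↥X)
      (CohB1.tensorPre L (CohB1.tensorMod (CohB1.tensorPow (kernel ev) i) (CohB1.tensorPow L h))).presheaf).app
        (Opposite.op ⊤)) := by
  classical
  let A := CohB1.tensorMod (CohB1.tensorPow (kernel ev) i) (CohB1.tensorPow L h)
  refine MultSurjLib.surjective_toSheafify fun z => ?_
  rcases isEmpty_or_nonempty X with hX | hX
  · have hz : z = 0 := TopCat.Presheaf.section_ext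
      (⟨(DCohLib.tmod L A).presheaf, (DCohLib.tmod L A).isSheaf⟩ : TopCat.Sheaf Ab X) ⊤ z 0
      fun y _ => hX.elim y
    rw [hz]; exact zero_mem _
  let ι' : J → (Coh.structureModule X ⟶ (SheafOfModules.free J : X.Modules)) := fun j => SheafOfModules.ιFree j
  let π : J → ((SheafOfModules.free J : X.Modules) ⟶ Coh.structureModule X) := fun j =>
    Sigma.desc fun l => if l = j then 𝟙 _ else 0
  have hι : ∀ j l, ι' j ≫ π l = if j = l then 𝟙 _ else 0 := fun j l => Sigma.ι_desc _ j
  haveI := EulerIneqLib.isNoetherian_proper (X := X) k
  haveI := EulerIneqLib.finite_HH (k := k) (CurveLib.isCoh_of_isInvertible hL) 0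
  haveI : Module.Finite k (Coh.HH X (SheafOfModules.free J : X.Modules) 0) :=
    Module.Finite.of_injective (CurveLib.hMap (k := k) ev 0) hev.injective
  haveI := MultSurjLib.finite_of_free (k := k) ι' π (fun j => (hι j j).trans (if_pos rfl))
    fun j l hjl => (hι j l).trans (if_neg hjl)
  haveI := Fintype.ofFinite J
  have htot : ∑ j, π j ≫ ι' j = 𝟙 _ := by
    refine Sigma.hom_ext _ _ fun j => ?_
    show ι' j ≫ _ = _
    rw [Preadditive.comp_sum, Finset.sum_eq_single j, ← Category.assoc, hι, if_pos rfl, Category.id_comp]
    · exact (Category.comp_id _).symm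
    · exact fun l _ hl => by rw [← Category.assoc, hι, if_neg (Ne.symm hl), zero_comp]
    · exact fun hj => absurd (Finset.mem_univ j) hj
  let S : ShortComplex X.Modules := ShortComplex.mk (kernel.ι ev) ev (kernel.condition ev)
  have hS : S.ShortExact :=
    { exact := ShortComplex.exact_of_f_is_kernel _ (kernelIsKernel ev) }
  have hTS := MultSurjLib.shortExact_tensR_invertible hS hL A
  have e : CohB1.tensorMod (kernel ev) A ≅
      CohB1.tensorMod (CohB1.tensorPow (kernel ev) (i + 1)) (CohB1.tensorPow L h) :=
    (AmpleLib.assoc _ _ _).symm ≪≫ AmpleLib.tIso (AmpleLib.comm _ _) (Iso.refl _)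
  haveI := hvan
  have hK : Subsingleton (Coh.HH X ((S.map (CurveLib.tensR A)).X₁) 1) :=
    (CurveLib.hMap_bijective_iso (k := k) e 1).1.subsingleton
  obtain ⟨w, rfl⟩ := MultSurjLib.surjective_sections k hTS hK z
  obtain ⟨a, rfl⟩ := MultSurjLib.free_tensor_sum ι' π htot A w
  rw [map_sum]
  refine sum_mem fun j _ => AddSubgroup.subset_closure ?_
  exact ⟨(Scheme.Modules.Hom.app ev (⊤ : X.Opens) ((ι' j).app ⊤ (1 : Γ(X, ⊤))), a j),
    (DCohLib.tensorBi_app_pairS_left ev _ _).symm⟩

end Groth.Agent.S18223
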