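import Groth.Statements.S1823
import Groth.Agent.DualTildeLib.Global

set_option backward.isDefEq.respectTransparency false
set_option backward.isDefEq.respectTransparency.types false

set_option autoImplicit false
universe u
open CategoryTheory CategoryTheory.Limits AlgebraicGeometry
attribute [local instance] HasDerivedCategory.standard
open Dual

namespace Groth.Agent.S1823

/-- Values in D_Coh and biduality, stated objectwise: Let X be a locally Noetherian scheme and K a
dualizing complex on X (exactness instances for restriction and tilde assumed). Let L be a complex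
of O_X-modules with coherent cohomology sheaves, with − ⊗^L L and its right adjoint RSheafHom(L, −)
assumed to exist. Then all cohomology sheaves of RSheafHom(L, K) are coherent, and for every complex
M representing RSheafHom(L, K) (with the same functors assumed for M) there is an isomorphism
RSheafHom(M, K) ≅ L in D(O_X). -/
theorem result (X : Scheme.{u}) [IsLocallyNoetherian X] [∀ (U : Scheme.{u}) (j : U ⟶ X) [IsOpenImmersion j], PreservesFiniteLimits (Scheme.Modules.restrictFunctor j)] [∀ (R : CommRingCat.{u}), PreservesFiniteLimits (tilde.functor R)] (K : DCoh.D X) (hK : Dual2.IsDualizingSch X K) (L : CochainComplex X.Modules ℤ) (hL : ∀ i : ℤ, Coh.IsCoh (DCoh.HD (DCoh.toD X L) i)) [DCoh.HasLTensorCx L] [DCoh.HasRSheafHom L] : (∀ i : ℤ, Coh.IsCoh (DCoh.HD ((DCoh.RSheafHom L).obj K) i)) ∧ ∀ (M : CochainComplex X.Modules ℤ) [DCoh.HasLTensorCx M] [DCoh.HasRSheafHom M], Nonempty (DCoh.toD X M ≅ (DCoh.RSheafHom L).obj K) → Nonempty ((DCoh.RSheafHom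 M).obj K ≅ DCoh.toD X L) := by
  obtain ⟨J, hJ, -, ⟨eJ'⟩⟩ := Groth.Agent.DCohLib.exists_injective_resolution X K
  haveI := hJ
  let eJ : DerivedCategory.Q.obj J ≅ K := eJ'.symm
  let L' := (Groth.Agent.DCohLib.resX X).obj L
  have hL' : DCoh.IsKFlat L' := Groth.Agent.DCohLib.isKFlat_resX L
  haveI hπ := Groth.Agent.DCohLib.isIso_Q_resXπ L
  let eL : DerivedCategory.Q.obj L' ≅ DCoh.toD X L :=
    asIso (DerivedCategory.Q.map ((Groth.Agent.DCohLib.resXπ X).app L))
  obtain ⟨hcoh, hbi⟩ := Groth.Agent.DualTildeLib.biGood_global hK J eJ L' hL'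
    (Groth.Agent.DCohMore.isCohD_of_iso' eL.symm hL)
  have e1 : ∀ i, Nonempty (DCoh.HD (DerivedCategory.Q.obj ((Groth.Agent.DCohLib.hCx L').obj J)) i ≅
      DCoh.HD ((DCoh.RSheafHom L).obj K) i) := fun i =>
    let ⟨e⟩ := Groth.Agent.DCohMore.nonempty_homology_rSheafHom L J eJ i
    ⟨(DerivedCategory.homologyFunctorFactors X.Modules i).app _ ≪≫ e⟩
  refine ⟨fun i => let ⟨e⟩ := e1 i; Groth.Agent.DCohLib.isCoh_iso e (hcoh i), fun M _ _ ⟨eM⟩ => ?_⟩
  haveI := Groth.Agent.DCohLib.hasRSheafHom_of_isKFlat L' hL'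
  obtain ⟨t⟩ := Groth.Agent.DCohLib.nonempty_lTensor_of_qis ((Groth.Agent.DCohLib.resXπ X).app L)
    (Groth.Agent.DCohLib.quasiIso_resXπ L)
  let uL : DCoh.RSheafHom L' ≅ DCoh.RSheafHom L :=
    (DCoh.RSheafHomAdj L').rightAdjointUniq ((DCoh.RSheafHomAdj L).ofNatIsoLeft t.symm)
  obtain ⟨eH⟩ := Groth.Agent.DCohLib.nonempty_rSheafHom_hCx L' hL' J
  let H := (Groth.Agent.DCohLib.hCx L').obj J
  let P := (Groth.Agent.DCohLib.resX X).obj H
  have hP : DCoh.IsKFlat P := Groth.Agent.DCohLib.isKFlat_resX H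
  haveI := Groth.Agent.DCohLib.isIso_Q_resXπ H
  let eP : DerivedCategory.Q.obj P ≅ DCoh.toD X M :=
    asIso (DerivedCategory.Q.map ((Groth.Agent.DCohLib.resXπ X).app H)) ≪≫ eH ≪≫
      (DCoh.RSheafHom L').mapIso eJ ≪≫ uL.app K ≪≫ eM.symm
  haveI := Groth.Agent.DCohLib.hasRSheafHom_of_isKFlat P hP
  obtain ⟨t'⟩ := Groth.Agent.DCohLib.nonempty_lTensor_of_iso (E := M) (E' := P) eP
  let uM : DCoh.RSheafHom P ≅ DCoh.RSheafHom M :=
    (DCoh.RSheafHomAdj P).rightAdjointUniq ((DCoh.RSheafHomAdj M).ofNatIsoLeft t'.symm)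
  obtain ⟨eHP⟩ := Groth.Agent.DCohLib.nonempty_rSheafHom_hCx P hP J
  haveI : IsIso (DerivedCategory.Q.map (Groth.Agent.DCohLib.bidualC L' J)) :=
    (DerivedCategory.isIso_Q_map_iff_quasiIso (C := X.Modules) _).2 hbi
  exact ⟨(uM.app K).symm ≪≫ (DCoh.RSheafHom P).mapIso eJ.symm ≪≫ eHP.symm ≪≫
    (asIso (DerivedCategory.Q.map (Groth.Agent.DCohLib.bidualC L' J))).symm ≪≫ eL⟩

end Groth.Agent.S1823
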