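import Groth.Statements.S18234
import Mathlib
import Groth.Agent.MagnetHom.Thick
set_option backward.isDefEq.respectTransparency false
set_option backward.isDefEq.respectTransparency.types false

set_option autoImplicit false
universe u
open CategoryTheory MonoidalCategory CartesianMonoidalCategory AlgebraicGeometry Opposite
open Magnet

namespace Groth.Agent.S18234

/-- Let S be a scheme, M a finitely generated abelian group, N a submonoid of M, X and Y schemes over S
with actions of the diagonalizable group scheme D(M)_S, and f : X → Y a formally unramified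
equivariant S-morphism. If the attractors X^N and Y^N are represented by S-schemes Z_X and Z_Y, and
j : Z_X → Z_Y is the S-morphism that corresponds to f^N under the two representing bijections, then
j is formally unramified. (Stated for schemes; the published statement is for algebraic spaces over
S.) -/
theorem result (S : Scheme.{u}) (M : Type) [AddCommGroup M]
    [AddGroup.FG M] (N : AddSubmonoid M) {X Y : Over S} (aX : Magnet.MonAct (Magnet.AMonS S M) X)
    (aY : Magnet.MonAct (Magnet.AMonS S M) Y) (f : X ⟶ Y) (hf : Magnet.MonAct.IsEquivariant aX aY f)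
    [FormallyUnramified f.left] {ZX ZY : Over S} (eX : (Magnet.attr aX N).RepresentableBy ZX) (eY : (Magnet.attr aY N).RepresentableBy ZY)
    (j : ZX ⟶ ZY) (hj : ∀ (T : Over S) (z : T ⟶ ZX),
      eY.homEquiv (z ≫ j) = (Magnet.MonAct.eqvHom.postcomp (Magnet.subAct S M N) f hf).app (op T) (eX.homEquiv z)) :
    FormallyUnramified j.left := by
  refine FormallyUnramified.of_hom_ext _ fun R R' φ hsur hker g₁ g₂ htop hbot => ?_
  let str := g₁ ≫ ZX.hom
  have hs : g₂ ≫ ZX.hom = str := by
    change _ = g₁ ≫ ZX.hom
    rw [← Over.w j, ← Category.assoc, ← Category.assoc, hbot]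
  let T : Over S := Over.mk str
  let z₁ : T ⟶ ZX := Over.homMk g₁
  let z₂ : T ⟶ ZX := Over.homMk g₂ hs
  let t : Over.mk (Spec.map (CommRingCat.ofHom φ.hom) ≫ str) ⟶ T := Groth.Agent.MagnetHom.thickT R str R' φ.hom
  suffices z₁ = z₂ from congrArg CommaMorphism.left this
  apply eX.homEquiv.injective
  refine Subtype.ext (Groth.Agent.MagnetHom.hom_ext_of_formallyUnramified R str R' φ.hom hsur hker N f ?_ ?_)
  · have e : t ≫ z₁ = t ≫ z₂ := Over.OverMorphism.ext htop
    have h := congrArg Subtype.val (congrArg eX.homEquiv e)
    rw [eX.homEquiv_comp, eX.homEquiv_comp] at h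
    exact h
  · have e : z₁ ≫ j = z₂ ≫ j := Over.OverMorphism.ext hbot
    have h := congrArg Subtype.val (congrArg eY.homEquiv e)
    rw [hj, hj] at h
    exact h

end Groth.Agent.S18234
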