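import Groth.Statements.S18235
import Mathlib
import Groth.Agent.MagnetHom.Vertex
set_option backward.isDefEq.respectTransparency false
set_option backward.isDefEq.respectTransparency.types false

set_option autoImplicit false
universe u
open CategoryTheory MonoidalCategory CartesianMonoidalCategory AlgebraicGeometry Opposite
open Magnet

namespace Groth.Agent.S18235

/-- Let S be a scheme, M a finitely generated abelian group, N a submonoid of M, X and Y schemes locally
of finite presentation over S with actions of the diagonalizable group scheme D(M)_S, and f : X → Y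
an equivariant S-morphism which is an open immersion. If the attractors X^N and Y^N are represented
by S-schemes Z_X and Z_Y, and j : Z_X → Z_Y is the S-morphism that corresponds to f^N under the two
representing bijections, then j is an open immersion. (Stated for schemes; the published statement
is for algebraic spaces over S.) -/
theorem result (S : Scheme.{u}) (M : Type) [AddCommGroup M]
    [AddGroup.FG M] (N : AddSubmonoid M) {X Y : Over S} [LocallyOfFinitePresentation X.hom]
    [LocallyOfFinitePresentation Y.hom] (aX : Magnet.MonAct (Magnet.AMonS S M) X)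
    (aY : Magnet.MonAct (Magnet.AMonS S M) Y) (f : X ⟶ Y) (hf : Magnet.MonAct.IsEquivariant aX aY f)
    [IsOpenImmersion f.left] {ZX ZY : Over S} (eX : (Magnet.attr aX N).RepresentableBy ZX) (eY : (Magnet.attr aY N).RepresentableBy ZY)
    (j : ZX ⟶ ZY) (hj : ∀ (T : Over S) (z : T ⟶ ZX),
      eY.homEquiv (z ≫ j) = (Magnet.MonAct.eqvHom.postcomp (Magnet.subAct S M N) f hf).app (op T) (eX.homEquiv z)) :
    IsOpenImmersion j.left := by
  let ev : ∀ (T : Over S), (Magnet.attr aY N).obj (op T) → (T ⟶ Y) := fun T φ =>
    CartesianMonoidalCategory.lift (CartesianMonoidalCategory.toUnit T ≫ Groth.Agent.MagnetHom.vertex N S) (𝟙 T) ≫ φ.1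
  let u : ZY ⟶ Y := ev ZY (eY.homEquiv (𝟙 ZY))
  let w : ZX ⟶ X := CartesianMonoidalCategory.lift (CartesianMonoidalCategory.toUnit ZX ≫ Groth.Agent.MagnetHom.vertex N S) (𝟙 ZX) ≫ (eX.homEquiv (𝟙 ZX)).1
  have hnat : ∀ {T : Over S} (z : T ⟶ ZY), ev T (eY.homEquiv z) = z ≫ u := by
    intro T z
    have h := congrArg Subtype.val (eY.homEquiv_comp z (𝟙 ZY))
    rw [Category.comp_id] at h
    simp only [ev, u, h, Magnet.MonAct.eqvHom_map_coe]
    rw [CartesianMonoidalCategory.comp_lift_assoc]
    simp
  have hsq : j ≫ u = w ≫ f := by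
    rw [← hnat, ← Category.id_comp j, hj]
    simp [ev, w]
  haveI : Mono f.left := inferInstance
  haveI : Mono f := Over.mono_of_mono_left f
  have hjmono : ∀ {T : Over S} (z₁ z₂ : T ⟶ ZX), z₁ ≫ j = z₂ ≫ j → z₁ = z₂ := by
    intro T z₁ z₂ h
    have h' := congrArg eY.homEquiv h
    rw [hj, hj] at h'
    exact eX.homEquiv.injective (Subtype.ext ((cancel_mono f).mp (congrArg Subtype.val h')))
  have hex : ∀ {T : Over S} (z : T ⟶ ZY) (x : T ⟶ X), z ≫ u = x ≫ f → ∃ z', z' ≫ j = z := by
    intro T z x h
    rw [← hnat] at h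
    have hr := Groth.Agent.MagnetHom.range_subset_of_vertex N aX aY f hf (eY.homEquiv z) (by
      change Set.range (ev T (eY.homEquiv z)).left ⊆ _
      rw [h, Over.comp_left, Scheme.Hom.comp_base, TopCat.coe_comp, Set.range_comp]
      exact Set.image_subset_range _ _)
    let m : Magnet.AMonS S N ⊗ T ⟶ X := Over.homMk (IsOpenImmersion.lift f.left _ hr) (by
      rw [← Over.w f, ← Category.assoc, IsOpenImmersion.lift_fac, Over.w])
    have hm : m ≫ f = (eY.homEquiv z).1 := Over.OverMorphism.ext (IsOpenImmersion.lift_fac _ _ _)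
    have hφ : Magnet.MonAct.IsEquivariant ((Magnet.subAct S M N).prod (Magnet.MonAct.trivial _ T)) aY (eY.homEquiv z).1 := (eY.homEquiv z).2
    have hmm : Magnet.MonAct.IsEquivariant ((Magnet.subAct S M N).prod (Magnet.MonAct.trivial _ T)) aX m := by
      have hf' : aX.act ≫ f = (_ ◁ f) ≫ aY.act := hf
      unfold Magnet.MonAct.IsEquivariant at hφ ⊢
      rw [← cancel_mono f, Category.assoc, hm, hφ, Category.assoc, hf', ← MonoidalCategory.whiskerLeft_comp_assoc, hm]
    refine ⟨eX.homEquiv.symm ⟨m, hmm⟩, eY.homEquiv.injective ?_⟩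
    rw [hj, Equiv.apply_symm_apply]
    exact Subtype.ext hm
  have hP : IsPullback j w u f := by
    refine ⟨⟨hsq⟩, ⟨Limits.PullbackCone.IsLimit.mk hsq (fun s => Classical.choose (hex s.fst s.snd s.condition))
      (fun s => Classical.choose_spec (hex s.fst s.snd s.condition)) (fun s => ?_) (fun s m h₁ _ => hjmono _ _ ?_)⟩⟩
    · rw [← cancel_mono f, Category.assoc, ← hsq, ← Category.assoc, Classical.choose_spec (hex s.fst s.snd s.condition), s.condition]
    · rw [h₁, Classical.choose_spec (hex s.fst s.snd s.condition)]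
  have hP' : IsPullback w.left j.left f.left u.left := (hP.map (Over.forget S)).flip
  exact MorphismProperty.of_isPullback (P := @IsOpenImmersion) hP' inferInstance

end Groth.Agent.S18235
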