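import Groth.Statements.S18236
import Groth.Agent.MagnetHom.Factor
-- import your own Groth.Agent.* helpers here

set_option autoImplicit false
set_option backward.isDefEq.respectTransparency false
universe u
open CategoryTheory MonoidalCategory CartesianMonoidalCategory AlgebraicGeometry Opposite
open Magnet

namespace Groth.Agent.S18236

/-- Let S be a scheme, M a finitely generated abelian group, N a submonoid of M and Z = N* its subgroup
of invertible elements; let X and Y be schemes locally of finite presentation over S with actions of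
the diagonalizable group scheme D(M)_S, and f : X → Y an equivariant S-morphism which is a closed
immersion. Assume that Y admits an N*-FPR atlas: an equivariant, étale and surjective g : U → Y
where U is a disjoint union of D(M)_S-stable open subschemes each affine over S, such that for the
actions restricted along D(M/Z)_S → D(M)_S the square of fixed-point subfunctors U^{D(M/Z)} →
Y^{D(M/Z)} over U → Y is cartesian; assume also that N is finitely generated or X is separated over
S. Then the commutative square with top f^N : X^N → Y^N, sides the evaluation maps X^N → X and Y^N →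
Y at the unit section, and bottom f is cartesian, i.e. X^N = Y^N ×_Y X as functors on S-schemes (so
that f^N is a closed immersion whenever X^N and Y^N are representable). (Stated for schemes; the
published statement is for algebraic spaces over S.) -/
theorem result (S : Scheme.{u}) (M : Type)
    [AddCommGroup M] [AddGroup.FG M] (N : AddSubmonoid M) (Z : AddSubgroup M)
    (hZ : ∀ m : M, m ∈ Z ↔ (m ∈ N ∧ -m ∈ N)) {X Y : Over S} [LocallyOfFinitePresentation X.hom]
    [LocallyOfFinitePresentation Y.hom] (aX : Magnet.MonAct (Magnet.AMonS S M) X)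
    (aY : Magnet.MonAct (Magnet.AMonS S M) Y) (f : X ⟶ Y) (hf : Magnet.MonAct.IsEquivariant aX aY f)
    [IsClosedImmersion f.left] (U : Over S) (aU : Magnet.MonAct (Magnet.AMonS S M) U) (g : U ⟶ Y)
    (hg : Magnet.MonAct.IsEquivariant aU aY g) [Etale g.left] [Surjective g.left]
    (ι : Type u) (V : ι → U.left.Opens) (hVd : ∀ i i', i ≠ i' → Disjoint (V i) (V i'))
    (hVc : ⨆ i, V i = ⊤) (hVa : ∀ i, IsAffineHom ((V i).ι ≫ U.hom))
    (hVs : ∀ i, (CartesianMonoidalCategory.snd (Magnet.AMonS S M) U).left ⁻¹ᵁ (V i) ≤ aU.act.left ⁻¹ᵁ (V i))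
    (hgZ : Magnet.MonAct.IsEquivariant (aU.restrict (Magnet.AMonS.map S (QuotientAddGroup.mk' Z))) (aY.restrict (Magnet.AMonS.map S (QuotientAddGroup.mk' Z))) g)
    (hfpr : IsPullback (Magnet.MonAct.fixedPsh.map g hgZ)
      (Magnet.MonAct.fixedPshι (aU.restrict (Magnet.AMonS.map S (QuotientAddGroup.mk' Z))))
      (Magnet.MonAct.fixedPshι (aY.restrict (Magnet.AMonS.map S (QuotientAddGroup.mk' Z)))) (yoneda.map g))
    (hc : N.FG ∨ IsSeparated X.hom) :
    IsPullback (Magnet.MonAct.eqvHom.postcomp (Magnet.subAct S M N) f hf) (Magnet.attrToX aX N)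
      (Magnet.attrToX aY N) (yoneda.map f) := by
  have hmem : ∀ (T : Over S) (φ : (Magnet.attr aY N).obj (op T)) (z : T ⟶ X),
      (Magnet.attrToX aY N).app (op T) φ = z ≫ f →
      ∃ ψ : (Magnet.attr aX N).obj (op T), (Magnet.MonAct.eqvHom.postcomp (Magnet.subAct S M N) f hf).app (op T) ψ = φ ∧
        (Magnet.attrToX aX N).app (op T) ψ = z := by
    intro T φ z hz
    have h := Groth.Agent.MagnetHom.whiskerRight_subtype_comp aY N φ
    rw [hz, MonoidalCategory.whiskerLeft_comp, Category.assoc] at h
    have hf' : aX.act ≫ f = (_ ◁ f) ≫ aY.act := hf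
    rw [← hf', ← Category.assoc] at h
    obtain ⟨m, hm⟩ := Groth.Agent.MagnetHom.exists_factor_of_map N.subtype N.subtype_injective f φ.1 _ h.symm
    haveI : Mono f.left := inferInstance
    haveI : Mono f := Over.mono_of_mono_left f
    have hmm : Magnet.MonAct.IsEquivariant ((Magnet.subAct S M N).prod (Magnet.MonAct.trivial _ T)) aX m := by
      have hφ : Magnet.MonAct.IsEquivariant ((Magnet.subAct S M N).prod (Magnet.MonAct.trivial _ T)) aY φ.1 := φ.2
      unfold Magnet.MonAct.IsEquivariant at hφ ⊢
      rw [← cancel_mono f, Category.assoc, hm, hφ, Category.assoc, hf', ← MonoidalCategory.whiskerLeft_comp_assoc, hm]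
    refine ⟨⟨m, hmm⟩, Subtype.ext hm, ?_⟩
    rw [← cancel_mono f, Magnet.MonAct.eqvHom.evalAt_app, Category.assoc]
    change _ ≫ m ≫ f = _
    rw [hm, ← hz, Magnet.MonAct.eqvHom.evalAt_app]
  have hw : Magnet.MonAct.eqvHom.postcomp (Magnet.subAct S M N) f hf ≫ Magnet.attrToX aY N =
      Magnet.attrToX aX N ≫ yoneda.map f := by
    ext T φ
    exact (Category.assoc _ _ _).symm
  refine IsPullback.of_forall_isPullback_app fun T => ?_
  haveI : Mono f.left := inferInstance
  haveI : Mono f := Over.mono_of_mono_left f
  rw [CategoryTheory.Limits.Types.isPullback_iff]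
  refine ⟨by rw [← NatTrans.comp_app, hw, NatTrans.comp_app], ?_, ?_⟩
  · intro ψ₁ ψ₂ h
    have h₁ := congrArg Subtype.val h.1
    exact Subtype.ext ((cancel_mono f).mp h₁)
  · intro φ z h
    obtain ⟨ψ, h₁, h₂⟩ := hmem (unop T) φ z h
    exact ⟨ψ, h₁, h₂⟩

end Groth.Agent.S18236
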