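import Groth.Statements.S18237
import Groth.Agent.MagnetEt.AtlasOrbit
import Groth.Agent.MagnetHom.AttrDegree
-- import your own Groth.Agent.* helpers here

set_option autoImplicit false
universe u
open CategoryTheory MonoidalCategory CartesianMonoidalCategory AlgebraicGeometry Opposite
open Magnet

namespace Groth.Agent.S18237

/-- Let S be a quasi-compact scheme, M a finitely generated abelian group, X a scheme which is
quasi-compact, separated and locally of finite presentation over S with an action of the
diagonalizable group scheme D(M)_S, and N a submonoid of M with subgroup of invertible elements Z =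
N*. Assume X admits an S-affine N*-FPR atlas: an equivariant, étale and surjective g : U → X with U
affine over S such that, for the actions restricted along D(M/Z)_S → D(M)_S, the square of
fixed-point subfunctors U^{D(M/Z)} → X^{D(M/Z)} over U → X is cartesian. Then there is a finitely
generated submonoid N_c of N with the same invertible elements as N such that the canonical map of
attractors X^{N_c} → X^N is an isomorphism of functors. (Stated for schemes, the published statement
being for algebraic spaces. The published statement assumes only M finitely generated and X → S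
quasi-compact and separated; it fails without X locally of finite presentation over S or without S
quasi-compact, so this row assumes both, and it assumes an S-affine N*-FPR atlas, which the
published argument obtains from a general existence result.) -/
theorem result (S : Scheme.{u}) [CompactSpace S] (M : Type)
    [AddCommGroup M] [AddGroup.FG M] {X : Over S} [QuasiCompact X.hom] [IsSeparated X.hom]
    [LocallyOfFinitePresentation X.hom] (a : Magnet.MonAct (Magnet.AMonS S M) X) (N : AddSubmonoid M)
    (Z : AddSubgroup M) (hZ : ∀ m : M, m ∈ Z ↔ (m ∈ N ∧ -m ∈ N)) (U : Over S) [IsAffineHom U.hom]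
    (aU : Magnet.MonAct (Magnet.AMonS S M) U) (g : U ⟶ X) (hg : Magnet.MonAct.IsEquivariant aU a g)
    [Etale g.left] [Surjective g.left]
    (hgZ : Magnet.MonAct.IsEquivariant (aU.restrict (Magnet.AMonS.map S (QuotientAddGroup.mk' Z))) (a.restrict (Magnet.AMonS.map S (QuotientAddGroup.mk' Z))) g)
    (hfpr : IsPullback (Magnet.MonAct.fixedPsh.map g hgZ)
      (Magnet.MonAct.fixedPshι (aU.restrict (Magnet.AMonS.map S (QuotientAddGroup.mk' Z))))
      (Magnet.MonAct.fixedPshι (a.restrict (Magnet.AMonS.map S (QuotientAddGroup.mk' Z)))) (yoneda.map g)) :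
    ∃ (Nc : AddSubmonoid M) (h : Nc ≤ N), Nc.FG ∧ (∀ m : M, (m ∈ Nc ∧ -m ∈ Nc) ↔ (m ∈ N ∧ -m ∈ N)) ∧
      IsIso (Magnet.attrMap a h) := by
  classical
  have hface : Magnet.IsFace N Z.toAddSubmonoid :=
    { le := fun x hx => ((hZ x).1 hx).1
      mem_of_add_mem := fun x hx y hy h => by
        obtain ⟨-, hneg⟩ := (hZ _).1 h
        refine ⟨(hZ x).2 ⟨hx, ?_⟩, (hZ y).2 ⟨hy, ?_⟩⟩
        · have := N.add_mem hneg hy
          rwa [neg_add, add_assoc, neg_add_cancel, add_zero] at this
        · have := N.add_mem hneg hx
          rwa [neg_add_rev, add_assoc, neg_add_cancel, add_zero] at this }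
  haveI : LocallyOfFinitePresentation U.hom := by rw [← Over.w g]; infer_instance
  obtain ⟨G, hG⟩ := Groth.Agent.MagnetHom.exists_degrees aU
  obtain ⟨t, ht⟩ : Z.FG := by
    haveI : Module.Finite ℤ M := Module.Finite.iff_addGroup_fg.mpr inferInstance
    exact (Submodule.fg_iff_addSubgroup_fg Z.toIntSubmodule).1 (IsNoetherian.noetherian Z.toIntSubmodule)
  let s : Finset M := G.filter (fun m => m ∈ N) ∪ (t ∪ t.image Neg.neg)
  let Nc : AddSubmonoid M := AddSubmonoid.closure (↑s : Set M)
  have htZ : ∀ m ∈ t, m ∈ Z := fun m hm => ht ▸ AddSubgroup.subset_closure hm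
  have hle : Nc ≤ N := AddSubmonoid.closure_le.2 fun m hm => by
    simp only [s, Finset.coe_union, Set.mem_union, Finset.mem_coe, Finset.mem_filter, Finset.mem_image] at hm
    rcases hm with hm | hm | ⟨k, hk, rfl⟩
    · exact hm.2
    · exact ((hZ m).1 (htZ m hm)).1
    · exact ((hZ k).1 (htZ k hk)).2
  have hZc : ∀ m ∈ Z, m ∈ Nc := fun m hm => by
    have h : m ∈ AddSubmonoid.closure ((↑t : Set M) ∪ -(↑t : Set M)) := by
      rw [← AddSubgroup.closure_toAddSubmonoid, ht]
      exact hm
    refine AddSubmonoid.closure_mono ?_ h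
    rintro x (hx | hx)
    · simp [s, Finset.mem_coe.1 hx]
    · simp only [s, Finset.coe_union, Set.mem_union, Finset.mem_coe, Finset.mem_image]
      exact Or.inr (Or.inr ⟨-x, hx, neg_neg x⟩)
  have hsub : ∀ T : Over S,
      Set.range (fun φ => (Magnet.attrToX a N).app (op T) φ) ⊆
        Set.range (fun φ => (Magnet.attrToX a Nc).app (op T) φ) := fun T =>
    Groth.Agent.MagnetEt.range_subset_of_atlas aU a hg hface
      (fun x u hu => Groth.Agent.MagnetEt.exists_attr_of_fpr aU a hg Z hgZ hfpr (Q := Z.toAddSubmonoid) rfl x u hu)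
      (fun T' => Groth.Agent.MagnetEt.good_of_lfp aU a hg hface T') Nc
      (fun T' x hx => by
        rw [← Groth.Agent.MagnetHom.hasOrbit_iff] at hx ⊢
        exact hG N Nc (fun m hm hmN => AddSubmonoid.subset_closure (by
          simp [s, hm, hmN])) x hx) T
  refine ⟨Nc, hle, ⟨s, rfl⟩, fun m => ⟨fun h => ⟨hle h.1, hle h.2⟩, fun h =>
    ⟨hZc m ((hZ m).2 h), hZc _ (neg_mem ((hZ m).2 h))⟩⟩, ?_⟩
  rw [NatTrans.isIso_iff_isIso_app]
  rintro ⟨T⟩
  rw [isIso_iff_bijective]
  refine ⟨fun φ ψ e => ?_, fun φ => ?_⟩
  · refine Groth.Agent.MagnetHom.attrToX_injective a Nc T ?_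
    dsimp only
    rw [← Groth.Agent.MagnetHom.attrToX_attrMap a hle T φ, ← Groth.Agent.MagnetHom.attrToX_attrMap a hle T ψ]
    exact congrArg _ e
  · obtain ⟨ψ, hψ⟩ := hsub T ⟨φ, rfl⟩
    refine ⟨ψ, Groth.Agent.MagnetHom.attrToX_injective a N T ?_⟩
    dsimp only at hψ ⊢
    rw [← hψ]
    exact Groth.Agent.MagnetHom.attrToX_attrMap a hle T ψ

end Groth.Agent.S18237
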