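import Groth.Statements.S18241
import Groth.Agent.MagnetSmooth.FaceRep
import Groth.Agent.SmoothLiftLib.Iff
import Groth.Agent.ASp.EtLocal
-- import your own Groth.Agent.* helpers here

set_option autoImplicit false
universe u
open CategoryTheory MonoidalCategory CartesianMonoidalCategory AlgebraicGeometry Opposite
open Magnet

namespace Groth.Agent.S18241

/-- Let S be a scheme, M a finitely generated abelian group, N a submonoid of M and F a face of N, and X
an S-scheme smooth over S with an action of the diagonalizable group scheme D(M)_S. If the
attractors X^N and X^F are represented by S-schemes Z_N and Z_F, and j : Z_N → Z_F is the S-morphism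
that corresponds to the canonical map X^N → X^F under the two representing bijections, then j is
smooth. (Stated for schemes; the published statement is for algebraic spaces over S.) -/
theorem result (S : Scheme.{u}) (M : Type) [AddCommGroup M] [AddGroup.FG M]
    {N F : AddSubmonoid M} (hF : Magnet.IsFace N F) {X : Over S} [Smooth X.hom]
    (a : Magnet.MonAct (Magnet.AMonS S M) X) {ZN ZF : Over S} (eN : (Magnet.attr a N).RepresentableBy ZN)
    (eF : (Magnet.attr a F).RepresentableBy ZF) (j : ZN ⟶ ZF)
    (hj : ∀ (T : Over S) (z : T ⟶ ZN), eF.homEquiv (z ≫ j) = (Magnet.attrFace a hF).app (op T) (eN.homEquiv z)) :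
    Smooth j.left := by
  haveI : LocallyOfFinitePresentation X.hom := inferInstance
  haveI hN := Groth.Agent.MagnetSmooth.locallyOfFinitePresentation_of_representsAttr N a eN
  haveI hF' := Groth.Agent.MagnetSmooth.locallyOfFinitePresentation_of_representsAttr F a eF
  exact (Groth.Agent.SmoothLiftLib.smooth_iff j.left).mpr
    ⟨Groth.Agent.ASp.locallyOfFinitePresentation_of_comp j.left ZF.hom (by rw [Over.w j]; exact hN) inferInstance,
      Groth.Agent.MagnetSmooth.isFormallySmoothHom_of_hasLift _ eN eF j hj fun A _ I hI str x y h =>
        Groth.Agent.MagnetSmooth.hasLift_attrFace hF a A I hI str x y h⟩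

end Groth.Agent.S18241
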