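import Groth.Statements.S18247
import Mathlib

set_option autoImplicit false
universe u
open W4c5m1nsnscurves
open Curves

namespace Groth.Agent.S18247

open CategoryTheory CategoryTheory.Limits AlgebraicGeometry


open MvPolynomial

/-- The values of the generators of `U_5` in the polynomial ring in six variables. -/
noncomputable def val5 : UGen 2 → MvPolynomial (Fin 6) ℤ
  | .a => X 0
  | .c => (X 0 + X 1 + X 2 + X 3 + X 4 - X 5) * X 3 + X 5 * X 1 - X 1 * X 3
  | .cb => (X 0 + X 1 + X 2 + X 3 + X 4 - X 5) * X 2 + X 5 * X 4 - X 2 * X 4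
  | .ci i => if i = 0 then X 1 else X 3
  | .cbi i => if i = 0 then X 2 else X 4
  | .cij i _ _ => if i = 0 then X 5 else X 0 + X 1 + X 2 + X 3 + X 4 - X 5

lemma val5_rel (p : MvPolynomial (UGen 2) ℤ) (hp : p ∈ URel ℤ 2) : aeval val5 p = 0 := by
  simp only [URel, Set.mem_union, Set.mem_range] at hp
  rcases hp with ((⟨q, rfl⟩ | ⟨q, rfl⟩) | ⟨q, rfl⟩) | ⟨q, rfl⟩
  all_goals first
    | (obtain ⟨⟨i, j, l⟩, h1, h2, h3⟩ := q
       exfalso
       fin_cases i <;> fin_cases j <;> fin_cases l <;> simp_all)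
    | (obtain ⟨⟨i, j⟩, h1⟩ := q
       fin_cases i <;> fin_cases j
       · exact absurd rfl h1
       · simp [val5] <;> ring
       · simp [val5] <;> ring
       · exact absurd rfl h1)

/-- The inverse map. -/
noncomputable def inv5 : URing ℤ 2 →ₐ[ℤ] MvPolynomial (Fin 6) ℤ :=
  Ideal.Quotient.liftₐ (Ideal.span (URel ℤ 2)) (aeval val5) fun p hp ↦
    (Ideal.span_le.mpr fun q hq ↦ val5_rel q hq :
      Ideal.span (URel ℤ 2) ≤ RingHom.ker (aeval val5).toRingHom) hp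

lemma ugen_rel_lin : ugen ℤ 2 (.cij 1 0 (by decide)) =
    ugen ℤ 2 .a + ugen ℤ 2 (.ci 0) + ugen ℤ 2 (.cbi 0) + ugen ℤ 2 (.ci 1) + ugen ℤ 2 (.cbi 1) -
      ugen ℤ 2 (.cij 0 1 Fin.zero_ne_one) := by
  simp only [ugen, ← map_add, ← map_sub]
  rw [Ideal.Quotient.mk_eq_mk_iff_sub_mem]
  refine Ideal.subset_span (Or.inl (Or.inl (Or.inl ⟨⟨(1, 0), by decide⟩, ?_⟩)))
  ring

lemma ugen_rel_c : ugen ℤ 2 .c =
    ugen ℤ 2 (.cij 1 0 (by decide)) * ugen ℤ 2 (.ci 1) +
      ugen ℤ 2 (.cij 0 1 Fin.zero_ne_one) * ugen ℤ 2 (.ci 0) -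
      ugen ℤ 2 (.ci 0) * ugen ℤ 2 (.ci 1) := by
  simp only [ugen, ← map_add, ← map_sub, ← map_mul]
  refine (Ideal.Quotient.mk_eq_mk_iff_sub_mem _ _).mpr ?_
  rw [← neg_mem_iff, neg_sub]
  exact Ideal.subset_span (Or.inl (Or.inl (Or.inr ⟨⟨(0, 1), by decide⟩, rfl⟩)))

lemma ugen_rel_cb : ugen ℤ 2 .cb =
    ugen ℤ 2 (.cij 1 0 (by decide)) * ugen ℤ 2 (.cbi 0) +
      ugen ℤ 2 (.cij 0 1 Fin.zero_ne_one) * ugen ℤ 2 (.cbi 1) -
      ugen ℤ 2 (.cbi 0) * ugen ℤ 2 (.cbi 1) := by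
  simp only [ugen, ← map_add, ← map_sub, ← map_mul]
  refine (Ideal.Quotient.mk_eq_mk_iff_sub_mem _ _).mpr ?_
  rw [← neg_mem_iff, neg_sub]
  exact Ideal.subset_span (Or.inl (Or.inr ⟨⟨(0, 1), by decide⟩, rfl⟩))

/-- Case n = 5: the coordinate ring of U_5 over ℤ (m = 2 indices, standing for the points 4 and 5;
generators a, c, c̄, c_4, c̄_4, c_5, c̄_5, c_{45}, c_{54} with the linear and the two quadratic
relations for the one pair of indices, and no triple) is the polynomial ring on a, c_4, c̄_4, c_5,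
c̄_5, c_{45}: the ℤ-algebra map from the polynomial ring in six variables sending the variables to
these six classes, in this order, is bijective. -/
theorem result :
    Function.Bijective (MvPolynomial.aeval (R := ℤ) (S₁ := URing ℤ 2)
      ![ugen ℤ 2 .a, ugen ℤ 2 (.ci 0), ugen ℤ 2 (.cbi 0), ugen ℤ 2 (.ci 1), ugen ℤ 2 (.cbi 1),
        ugen ℤ 2 (.cij 0 1 Fin.zero_ne_one)]) := by
  refine Function.bijective_iff_has_inverse.mpr ⟨inv5, fun p ↦ ?_, fun p ↦ ?_⟩
  · rw [← AlgHom.comp_apply, show inv5.comp (aeval _) = AlgHom.id ℤ _ from ?_]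
    · rfl
    · refine MvPolynomial.algHom_ext fun i ↦ ?_
      fin_cases i <;> simp [inv5, ugen, val5]
  · obtain ⟨p, rfl⟩ := Ideal.Quotient.mk_surjective p
    set φ := MvPolynomial.aeval (R := ℤ) (S₁ := URing ℤ 2)
      ![ugen ℤ 2 .a, ugen ℤ 2 (.ci 0), ugen ℤ 2 (.cbi 0), ugen ℤ 2 (.ci 1), ugen ℤ 2 (.cbi 1),
        ugen ℤ 2 (.cij 0 1 Fin.zero_ne_one)] with hφ
    have : φ.comp (MvPolynomial.aeval val5) = Ideal.Quotient.mkₐ ℤ _ := by
      refine MvPolynomial.algHom_ext fun g ↦ ?_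
      show φ (MvPolynomial.aeval val5 (MvPolynomial.X g)) = ugen ℤ 2 g
      rw [MvPolynomial.aeval_X]
      match g with
      | .a => simp [val5, hφ]
      | .c => rw [ugen_rel_c, ugen_rel_lin]; simp [val5, hφ]
      | .cb => rw [ugen_rel_cb, ugen_rel_lin]; simp [val5, hφ]
      | .ci i => fin_cases i <;> simp [val5, hφ]
      | .cbi i => fin_cases i <;> simp [val5, hφ]
      | .cij i j h =>
        fin_cases i <;> fin_cases j
        · exact absurd rfl h
        · simp [val5, hφ]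
        · refine Eq.trans ?_ ugen_rel_lin.symm
          simp [val5, hφ]
        · exact absurd rfl h
    exact DFunLike.congr_fun this p

end Groth.Agent.S18247
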