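import Groth.Statements.S18248
import Groth.Agent.S18252

set_option autoImplicit false
universe u
open W4c5m1nsnscurves
open Curves

namespace Groth.Agent.S18248

open CategoryTheory CategoryTheory.Limits AlgebraicGeometry


open MvPolynomial Groth.Agent.CurveU5Lib

/-- The indices of the minimal generators. -/
abbrev Ix (m : ℕ) : Type := Unit ⊕ Fin m ⊕ Fin m ⊕ {q : Fin m × Fin m // q.1 < q.2}

/-- The minimal generators. -/
def gx {m : ℕ} : Ix m → UGen m
  | Sum.inl _ => .a
  | Sum.inr (Sum.inl i) => .ci i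
  | Sum.inr (Sum.inr (Sum.inl i)) => .cbi i
  | Sum.inr (Sum.inr (Sum.inr q)) => .cij q.1.1 q.1.2 (ne_of_lt q.2)

lemma two_mul_card_pairs (m : ℕ) :
    2 * Fintype.card {q : Fin m × Fin m // q.1 < q.2} + m = m * m := by
  let e : {q : Fin m × Fin m // q.1 < q.2} ≃ Σ j : Fin m, Fin j.val :=
    { toFun := fun q ↦ ⟨q.1.2, ⟨q.1.1.val, q.2⟩⟩
      invFun := fun x ↦ ⟨(⟨x.2.val, x.2.isLt.trans x.1.isLt⟩, x.1), x.2.isLt⟩
      left_inv := fun q ↦ rfl
      right_inv := fun x ↦ rfl }
  rw [Fintype.card_congr e, Fintype.card_sigma]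
  simp only [Fintype.card_fin]
  rw [Fin.sum_univ_eq_sum_range (fun j ↦ j)]
  have := Finset.sum_range_id_mul_two m
  rcases m with _ | n
  · simp
  · simp only [Nat.add_sub_cancel] at this
    nlinarith

variable (k : Type u) [Field k] {m : ℕ}

/-- The tangent values of the generators. -/
noncomputable def tv : UGen m → (Ix m →₀ k)
  | .a => Finsupp.single (Sum.inl ()) 1
  | .c => 0
  | .cb => 0
  | .ci i => Finsupp.single (Sum.inr (Sum.inl i)) 1
  | .cbi i => Finsupp.single (Sum.inr (Sum.inr (Sum.inl i))) 1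
  | .cij i j h =>
      if hlt : i < j then Finsupp.single (Sum.inr (Sum.inr (Sum.inr ⟨(i, j), hlt⟩))) 1
      else Finsupp.single (Sum.inl ()) 1 + Finsupp.single (Sum.inr (Sum.inl i)) 1 +
        Finsupp.single (Sum.inr (Sum.inr (Sum.inl i))) 1 + Finsupp.single (Sum.inr (Sum.inl j)) 1 +
        Finsupp.single (Sum.inr (Sum.inr (Sum.inl j))) 1 -
        Finsupp.single (Sum.inr (Sum.inr (Sum.inr ⟨(j, i),
          (not_lt.mp hlt).lt_of_ne h.symm⟩))) 1

lemma tv_gx (x : Ix m) : tv k (gx x) = Finsupp.single x 1 := by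
  rcases x with _ | i | i | q
  · rfl
  · rfl
  · rfl
  · simp only [gx, tv, dif_pos q.2]

/-- The tangent vector map. -/
noncomputable def tang : URing k m →ₐ[k] TrivSqZeroExt k (Ix m →₀ k) :=
  Ideal.Quotient.liftₐ (Ideal.span (URel k m))
    (aeval fun g ↦ TrivSqZeroExt.inr (tv k g)) fun p hp ↦ by
    refine (Ideal.span_le.mpr ?_ : Ideal.span (URel k m) ≤ RingHom.ker
      (aeval fun g ↦ (TrivSqZeroExt.inr (tv k g) : TrivSqZeroExt k (Ix m →₀ k))).toRingHom) hp
    rintro q hq
    show aeval _ q = 0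
    simp only [URel, Set.mem_union, Set.mem_range] at hq
    rcases hq with ((⟨⟨⟨i, j⟩, h⟩, rfl⟩ | ⟨w, rfl⟩) | ⟨w, rfl⟩) | ⟨w, rfl⟩
    · simp only [map_sub, map_add, aeval_X, ← TrivSqZeroExt.inr_add, ← TrivSqZeroExt.inr_sub]
      rw [← TrivSqZeroExt.inr_zero k]
      congr 1
      rcases lt_or_gt_of_ne h with hlt | hlt
      · simp only [tv, dif_pos hlt, dif_neg hlt.asymm]; abel
      · simp only [tv, dif_pos hlt, dif_neg hlt.asymm]; abel
    · simp [tv, TrivSqZeroExt.inr_mul_inr]
    · simp [tv, TrivSqZeroExt.inr_mul_inr]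
    · simp only [map_sub, map_add, map_mul, aeval_X, ← TrivSqZeroExt.inr_add,
        TrivSqZeroExt.inr_mul_inr]
      simp [tv]

lemma tang_ugen (g : UGen m) : tang k (ugen k m g) = TrivSqZeroExt.inr (tv k g) := by
  simp [tang, ugen]

lemma fst_tang {x : URing k m} (hx : x ∈ uorigin k m) : (tang k x).fst = 0 := by
  induction hx using Submodule.span_induction with
  | mem y hy => obtain ⟨g, rfl⟩ := hy; simp [tang_ugen]
  | zero => simp
  | add x y _ _ hx hy => rw [map_add, TrivSqZeroExt.fst_add, hx, hy, add_zero]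
  | smul a x _ hx => rw [smul_eq_mul, map_mul, TrivSqZeroExt.fst_mul, hx, mul_zero]

lemma tang_sq {x : URing k m} (hx : x ∈ uorigin k m ^ 2) : tang k x = 0 := by
  rw [pow_two] at hx
  induction hx using Submodule.mul_induction_on' with
  | mem_mul_mem a ha b hb =>
    rw [map_mul]
    refine TrivSqZeroExt.ext ?_ ?_
    · simp [fst_tang k ha, fst_tang k hb]
    · simp [TrivSqZeroExt.snd_mul, fst_tang k ha, fst_tang k hb]
  | add x _ y _ hx hy => rw [map_add, hx, hy, add_zero]

lemma ugen_mem (g : UGen m) : ugen k m g ∈ uorigin k m := Ideal.subset_span ⟨g, rfl⟩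

/-- The class of a generator in the cotangent space. -/
noncomputable def vx (g : UGen m) : (uorigin k m).Cotangent :=
  (uorigin k m).toCotangent ⟨ugen k m g, ugen_mem k g⟩

lemma toCot_smul (r : k) (z : uorigin k m) :
    (uorigin k m).toCotangent (r • z) = r • (uorigin k m).toCotangent z := by
  rfl

lemma exists_const (a : URing k m) :
    ∃ a₀ : k, a - algebraMap k (URing k m) a₀ ∈ uorigin k m := by
  obtain ⟨p, rfl⟩ := Ideal.Quotient.mk_surjective a
  induction p using MvPolynomial.induction_on with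
  | C r => exact ⟨r, by rw [← MvPolynomial.algebraMap_eq, Ideal.Quotient.mk_algebraMap, sub_self]; exact zero_mem _⟩
  | add p q hp hq =>
    obtain ⟨a, ha⟩ := hp
    obtain ⟨b, hb⟩ := hq
    refine ⟨a + b, ?_⟩
    rw [map_add, map_add, add_sub_add_comm]
    exact add_mem ha hb
  | mul_X p g _ =>
    refine ⟨0, ?_⟩
    rw [map_zero, sub_zero, map_mul]
    exact Ideal.mul_mem_left _ _ (ugen_mem k g)

lemma finrank_cotangent (hm : 2 ≤ m) :
    Module.finrank k (uorigin k m).Cotangent = (m + 2) * (m + 1) / 2 := by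
  have hv := S18252.ugen_rel (R := k) (m := m)
  have hli : LinearIndependent k (fun x : Ix m ↦ vx k (gx x)) := by
    rw [Fintype.linearIndependent_iff]
    intro c hc x
    let s : uorigin k m := ∑ x, c x • (⟨ugen k m (gx x), ugen_mem k (gx x)⟩ : uorigin k m)
    have h0 : (uorigin k m).toCotangent s = 0 := by
      rw [← hc, map_sum]
      exact Finset.sum_congr rfl fun x _ ↦ toCot_smul k _ _
    have h1 := congrArg TrivSqZeroExt.snd (tang_sq k ((Ideal.toCotangent_eq_zero _ _).mp h0))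
    rw [TrivSqZeroExt.snd_zero] at h1
    simp only [s, Submodule.coe_sum, SetLike.val_smul_of_tower, map_sum, map_smul,
      TrivSqZeroExt.snd_sum, TrivSqZeroExt.snd_smul, tang_ugen, TrivSqZeroExt.snd_inr, tv_gx] at h1
    have h2 := DFunLike.congr_fun h1 x
    simpa only [Finsupp.coe_finsetSum, Finset.sum_apply, Finsupp.smul_apply, Finsupp.single_apply,
      smul_eq_mul, mul_ite, mul_one, mul_zero, Finset.sum_ite_eq', Finset.mem_univ, if_true,
      Finsupp.zero_apply] using h2
  have hspan : ⊤ ≤ Submodule.span k (Set.range fun x : Ix m ↦ vx k (gx x)) := by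
    rintro v -
    obtain ⟨⟨y, hy⟩, rfl⟩ := (uorigin k m).toCotangent_surjective v
    have hsq : ∀ {z : URing k m} (hz : z ∈ uorigin k m), z ∈ uorigin k m ^ 2 →
        (uorigin k m).toCotangent ⟨z, hz⟩ = 0 := fun _ h ↦ (Ideal.toCotangent_eq_zero _ _).mpr h
    have hmul : ∀ g h : UGen m, ugen k m g * ugen k m h ∈ uorigin k m ^ 2 := fun g h ↦ by
      rw [pow_two]; exact Ideal.mul_mem_mul (ugen_mem k g) (ugen_mem k h)
    induction hy using Submodule.span_induction with
    | mem z hz =>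
      obtain ⟨g, rfl⟩ := hz
      show vx k g ∈ _
      rcases g with _ | _ | _ | i | i | ⟨i, j, h⟩
      · exact Submodule.subset_span ⟨Sum.inl (), rfl⟩
      · rw [vx, hsq]
        · exact zero_mem _
        · rw [← c_rel _ hv ⟨0, by omega⟩ ⟨1, by omega⟩ (by simp [Fin.ext_iff])]
          exact sub_mem (add_mem (hmul _ _) (hmul _ _)) (hmul _ _)
      · rw [vx, hsq]
        · exact zero_mem _
        · rw [← cb_rel _ hv ⟨0, by omega⟩ ⟨1, by omega⟩ (by simp [Fin.ext_iff])]
          exact sub_mem (add_mem (hmul _ _) (hmul _ _)) (hmul _ _)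
      · exact Submodule.subset_span ⟨Sum.inr (Sum.inl i), rfl⟩
      · exact Submodule.subset_span ⟨Sum.inr (Sum.inr (Sum.inl i)), rfl⟩
      · rcases lt_or_gt_of_ne h with hlt | hlt
        · exact Submodule.subset_span ⟨Sum.inr (Sum.inr (Sum.inr ⟨(i, j), hlt⟩)), rfl⟩
        · have e : (⟨ugen k m (.cij i j h), ugen_mem k _⟩ : uorigin k m) =
              ⟨ugen k m .a, ugen_mem k _⟩ + ⟨ugen k m (.ci i), ugen_mem k _⟩ +
                ⟨ugen k m (.cbi i), ugen_mem k _⟩ + ⟨ugen k m (.ci j), ugen_mem k _⟩ +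
                ⟨ugen k m (.cbi j), ugen_mem k _⟩ - ⟨ugen k m (.cij j i h.symm), ugen_mem k _⟩ :=
            Subtype.ext (eq_sub_of_add_eq (lin_rel _ hv i j h))
          rw [vx, e, map_sub, map_add, map_add, map_add, map_add]
          exact sub_mem (add_mem (add_mem (add_mem (add_mem
            (Submodule.subset_span ⟨Sum.inl (), rfl⟩)
            (Submodule.subset_span ⟨Sum.inr (Sum.inl i), rfl⟩))
            (Submodule.subset_span ⟨Sum.inr (Sum.inr (Sum.inl i)), rfl⟩))
            (Submodule.subset_span ⟨Sum.inr (Sum.inl j), rfl⟩))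
            (Submodule.subset_span ⟨Sum.inr (Sum.inr (Sum.inl j)), rfl⟩))
            (Submodule.subset_span ⟨Sum.inr (Sum.inr (Sum.inr ⟨(j, i), hlt⟩)), rfl⟩)
    | zero => exact ((uorigin k m).toCotangent).map_zero.symm ▸ zero_mem _
    | add x y hx hy h1 h2 =>
      rw [show (⟨x + y, _⟩ : uorigin k m) = ⟨x, hx⟩ + ⟨y, hy⟩ from rfl, map_add]
      exact add_mem h1 h2
    | smul a x hx h1 =>
      obtain ⟨a₀, ha⟩ := exists_const k a
      have e : (⟨a • x, Ideal.mul_mem_left _ a hx⟩ : uorigin k m) =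
          a₀ • ⟨x, hx⟩ + ⟨(a - algebraMap k (URing k m) a₀) * x, Ideal.mul_mem_left _ _ hx⟩ :=
        Subtype.ext (by
          show a * x = a₀ • x + (a - algebraMap k (URing k m) a₀) * x
          rw [show a₀ • x = algebraMap k (URing k m) a₀ * x from
            Algebra.smul_def (R := k) (A := URing k m) _ _]
          ring)
      rw [e, map_add, toCot_smul, hsq (Ideal.mul_mem_left _ _ hx)
        (by rw [pow_two]; exact Ideal.mul_mem_mul ha hx), add_zero]
      exact Submodule.smul_mem _ _ h1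
  rw [Module.finrank_eq_card_basis (Module.Basis.mk hli hspan)]
  have := two_mul_card_pairs m
  simp only [Ix, Fintype.card_sum, Fintype.card_unit, Fintype.card_fin]
  symm
  apply Nat.div_eq_of_eq_mul_left (by norm_num)
  nlinarith

lemma adjoin_eq_top {R : Type} [CommRing R] {m : ℕ} (hm : 2 ≤ m) :
    Algebra.adjoin R (Set.range fun x : Ix m ↦ ugen R m (gx x)) = ⊤ := by
  have hv := S18252.ugen_rel (R := R) (m := m)
  set S := Algebra.adjoin R (Set.range fun x : Ix m ↦ ugen R m (gx x))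
  have hx : ∀ x, ugen R m (gx x) ∈ S := fun x ↦ Algebra.subset_adjoin ⟨x, rfl⟩
  have hij : ∀ i j h, ugen R m (.cij i j h) ∈ S := by
    intro i j h
    rcases lt_or_gt_of_ne h with hlt | hlt
    · exact hx (Sum.inr (Sum.inr (Sum.inr ⟨(i, j), hlt⟩)))
    · rw [eq_sub_of_add_eq (lin_rel _ hv i j h)]
      exact sub_mem (add_mem (add_mem (add_mem (add_mem (hx (Sum.inl ())) (hx (Sum.inr (Sum.inl i))))
        (hx (Sum.inr (Sum.inr (Sum.inl i))))) (hx (Sum.inr (Sum.inl j))))
        (hx (Sum.inr (Sum.inr (Sum.inl j))))) (hx (Sum.inr (Sum.inr (Sum.inr ⟨(j, i), hlt⟩))))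
  have hci : ∀ i, ugen R m (.ci i) ∈ S := fun i ↦ hx (Sum.inr (Sum.inl i))
  have hcbi : ∀ i, ugen R m (.cbi i) ∈ S := fun i ↦ hx (Sum.inr (Sum.inr (Sum.inl i)))
  have hg : ∀ g, ugen R m g ∈ S := by
    rintro (_ | _ | _ | i | i | ⟨i, j, h⟩)
    · exact hx (Sum.inl ())
    · rw [← c_rel _ hv ⟨0, by omega⟩ ⟨1, by omega⟩ (by simp [Fin.ext_iff])]
      exact sub_mem (add_mem (mul_mem (hij _ _ _) (hci _)) (mul_mem (hij _ _ _) (hci _)))
        (mul_mem (hci _) (hci _))
    · rw [← cb_rel _ hv ⟨0, by omega⟩ ⟨1, by omega⟩ (by simp [Fin.ext_iff])]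
      exact sub_mem (add_mem (mul_mem (hij _ _ _) (hcbi _)) (mul_mem (hij _ _ _) (hcbi _)))
        (mul_mem (hcbi _) (hcbi _))
    · exact hci i
    · exact hcbi i
    · exact hij i j h
  rw [eq_top_iff]
  rintro x -
  obtain ⟨p, rfl⟩ := Ideal.Quotient.mk_surjective x
  induction p using MvPolynomial.induction_on with
  | C r => exact S.algebraMap_mem r
  | add p q hp hq => rw [map_add]; exact add_mem hp hq
  | mul_X p g hp => rw [map_mul]; exact mul_mem hp (hg g)

/-- Let m ≥ 2, so that n = m + 3 ≥ 5 points are marked. For every field k, the Zariski cotangent space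
of U_n over k at the origin, that is I/I² for the ideal I of the coordinate ring of U_n over k
generated by the classes of all the generators a, c, c̄, c_i, c̄_i, c_{ij}, has dimension (n − 1)(n
− 2)/2 = (m + 2)(m + 1)/2 over k; and the weight-one classes a, c_i, c̄_i (all indices i) and c_{ij}
(i < j) generate the coordinate ring of U_n over ℤ as a ℤ-algebra (so they form a minimal generating
set). -/
theorem result (m : ℕ) (hm : 2 ≤ m) :
    (∀ (k : Type u) [Field k], Module.finrank k (uorigin k m).Cotangent = (m + 2) * (m + 1) / 2) ∧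
    Algebra.adjoin ℤ ({ugen ℤ m .a} ∪ Set.range (fun i : Fin m => ugen ℤ m (.ci i)) ∪
        Set.range (fun i : Fin m => ugen ℤ m (.cbi i)) ∪
        Set.range (fun q : {q : Fin m × Fin m // q.1 < q.2} => ugen ℤ m (.cij q.1.1 q.1.2 (ne_of_lt q.2)))) = ⊤ := by
  refine ⟨fun k _ ↦ finrank_cotangent k hm, ?_⟩
  rw [eq_top_iff, ← adjoin_eq_top (R := ℤ) hm]
  refine Algebra.adjoin_mono ?_
  rintro _ ⟨x, rfl⟩
  rcases x with _ | i | i | q
  · exact Or.inl (Or.inl (Or.inl rfl))
  · exact Or.inl (Or.inl (Or.inr ⟨i, rfl⟩))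
  · exact Or.inl (Or.inr ⟨i, rfl⟩)
  · exact Or.inr ⟨q, rfl⟩

end Groth.Agent.S18248
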