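import Groth.Statements.S18249
import Groth.Agent.CurveU5Lib.Hilb

set_option autoImplicit false
universe u
open W4c5m1nsnscurves
open Curves

namespace Groth.Agent.S18249

open CategoryTheory CategoryTheory.Limits AlgebraicGeometry


open Groth.Agent.CurveU5Lib

lemma main {R : Type} [CommRing R] [Nontrivial R] {m : ℕ} (hm : 2 ≤ m) :
    Module.Free R (URing R m) ∧ DirectSum.IsInternal (upiece R m) ∧
      ∀ d : ℕ, (Module.finrank R (upiece R m d) : ℤ) = PowerSeries.coeff d (uhilb m) := by
  obtain ⟨ι, deg, b, hfin, hmem, hgen⟩ := gradedBasis (R := R) hm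
  have hspan := upiece_eq_span deg b hmem
  refine ⟨Module.Free.of_basis b, ?_, fun d ↦ ?_⟩
  · refine DirectSum.isInternal_submodule_of_iSupIndep_of_iSup_eq_top ?_ ?_
    · intro d
      simp only [hspan]
      refine Disjoint.mono_right ?_ (b.linearIndependent.disjoint_span_image
        (s := {i | deg i = d}) (t := {i | deg i ≠ d})
        (Set.disjoint_left.mpr fun i h1 h2 ↦ h2 h1))
      refine iSup₂_le fun j hj ↦ Submodule.span_mono (Set.image_mono fun i hi ↦ ?_)
      show deg i ≠ d
      exact fun h ↦ hj (hi.symm.trans h)
    · rw [eq_top_iff, ← b.span_eq, Submodule.span_le]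
      rintro _ ⟨i, rfl⟩
      exact Submodule.mem_iSup_of_mem (deg i) (hmem i)
  · haveI := hfin d
    have : Fintype {i // deg i = d} := Fintype.ofFinite _
    rw [← hgen, Count.gen, PowerSeries.coeff_mk, hspan d]
    have hli : LinearIndependent R (fun i : {i // deg i = d} ↦ b i) :=
      b.linearIndependent.comp _ Subtype.val_injective
    rw [Nat.card_eq_fintype_card, ← finrank_span_eq_card hli, Set.image_eq_range]
    rfl

/-- Let m ≥ 2, so that n = m + 3 ≥ 5 points are marked. Grade the coordinate ring of U_n over ℤ by
giving the generators a, c_i, c̄_i, c_{ij} weight 1 and c, c̄ weight 2 (the defining relations are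
weighted-homogeneous). Then the coordinate ring of U_n is a free ℤ-module, it is the internal direct
sum of its weight pieces (the weight-d piece being the image of the weighted-homogeneous polynomials
of weight d), and the weight-d piece has rank the coefficient of t^d in the power series (1 −
t)^{−(n+1)} ∏_{k=3}^{n−3} (1 + k t + t²). -/
theorem result (m : ℕ) (hm : 2 ≤ m) :
    Module.Free ℤ (URing ℤ m) ∧ DirectSum.IsInternal (upiece ℤ m) ∧
      ∀ d : ℕ, (Module.finrank ℤ (upiece ℤ m d) : ℤ) = PowerSeries.coeff d (uhilb m) := by
  exact main hm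

end Groth.Agent.S18249
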