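import Groth.Statements.S1825
import Groth.Agent.DualCxLib.FlatDual
import Groth.Agent.S0509
import Groth.Agent.S0507
-- Template for statement S1825 (row 1824; see the milestone table for weights).
-- Copy to Groth/Agent/S1825.lean and replace the sorry. The statement below is byte-identical to the frozen
-- statement Dual.GrothFrozen.S1825 (Groth/Statements/S1825.lean; the theorem Dual.isDualizing_LBaseChange_henselization);
-- the grader kernel-checks Groth.Agent.S1825.result against that frozen type. Keep the theorem IN THIS FILE
-- (a `result` declared elsewhere and merely imported here is not credited); helpers may live anywhere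
-- under Groth/Agent/.
-- helpers: DualCxLib

set_option autoImplicit false
universe u
open CategoryTheory
attribute [local instance] HasDerivedCategory.standard
open Dual Groth.Agent.DualCxLib

namespace Groth.Agent.S1825

/-- Let A be a Noetherian local ring, B a henselization of A (a Noetherian local ring with a local
homomorphism A → B exhibiting it as such) and ω a dualizing complex for A. Assuming the derived base
change functor D(A) → D(B) along A → B exists (carried as an instance binder), the base change of ω
to B is a dualizing complex for B. -/
theorem result (A B : Type u) [CommRing A] [IsLocalRing A] [IsNoetherianRing A] [CommRing B] [IsLocalRing B] [IsNoetherianRing B] [Algebra A B] [IsLocalHom (algebraMap A B)] [Hensel.IsHenselization A B] [DRing.HasLBaseChange (algebraMap A B)] (ω : Dual.D A) (hω : Dual.IsDualizing A ω) : Dual.IsDualizing B ((DRing.LBaseChange (algebraMap A B)).obj ω) := by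
  haveI : Module.FaithfullyFlat A B := Groth.Agent.S0509.result A B
  exact isDualizing_bcD_of_maximal A B hω fun n hn =>
    ⟨IsLocalRing.maximalIdeal A, (Groth.Agent.S0507.result A B).trans (IsLocalRing.eq_maximalIdeal hn).symm⟩

end Groth.Agent.S1825
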