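import Groth.Statements.S18250
import Groth.Agent.TwistShriek.PointTwist
import Groth.Agent.S1536
import Groth.Agent.ModelDual.Pairing
import Groth.Agent.SerreAff.Basic
import Groth.Agent.InjCokerStage.Stalk
-- import your own Groth.Agent.* helpers here

set_option autoImplicit false
set_option backward.isDefEq.respectTransparency false
set_option maxHeartbeats 800000
set_option synthInstance.maxHeartbeats 200000
universe u
open AlgebraicGeometry CategoryTheory CategoryTheory.Limits
open Curves
open Groth.Agent Groth.Agent.TwistShriek Groth.Agent.VBLib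

namespace Groth.Agent.S18250

/-- Let k be an algebraically closed field and C a reduced, connected scheme, proper over k and of
dimension one (a reduced connected projective curve), of arithmetic genus 1, i.e. dim_k H^1(C, O_C)
= 1. Let (ω, tr) be a 1-dualizing pair for C over k (ω a dualizing sheaf with its trace on H^1), let
p be a closed point of C whose local ring is regular (a smooth point), and let L be an invertible
O_C-module inverse to the ideal sheaf of the reduced point p (L = O_C(p)). Then dim_k H^0(C, L) = 1
if and only if H^1(C, L) = 0; and H^1(C, L) = 0 if and only if every nonzero global section s of ω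
generates ω near p, i.e. p lies in the open C_s (equivalently, since H^0(C, ω) and the fibre of ω at
p are one-dimensional, the restriction map from H^0(C, ω) to the fibre of ω at p is an isomorphism). -/
theorem result
    (k : Type u) [Field k] [IsAlgClosed k] (C : Scheme.{u}) [C.Over (Spec (CommRingCat.of k))]
    [IsProper (C ↘ Spec (CommRingCat.of k))] [AlgebraicGeometry.IsReduced C] [ConnectedSpace C]
    (hdim : topologicalKrullDim C = 1) (hg : Curv2.genus k C = 1)
    (ω : C.Modules) (tr : Coh.HH C ω 1 →ₗ[k] k) (hω : Canon.IsRDualOver k C 1 ω tr)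
    (p : C) (hp : IsClosed ({p} : Set C)) (hreg : IsRegularLocalRing (C.presheaf.stalk p))
    (L : C.Modules)
    (hL : ClSub.IsInverseOf L (ClSub.idealMod (Scheme.IdealSheafData.vanishingIdeal ⟨{p}, hp⟩))) :
    (Module.finrank k (Coh.HH C L 0) = 1 ↔ Subsingleton (Coh.HH C L 1)) ∧
      (Subsingleton (Coh.HH C L 1) ↔
        ∀ s : Coh.structureModule C ⟶ ω, s ≠ 0 → p ∈ CohB1.genLocus ω s) := by
    haveI := EulerIneqLib.isNoetherian_proper (X := C) k
    let J := Scheme.IdealSheafData.vanishingIdeal (⟨{p}, hp⟩ : TopologicalSpace.Closeds C)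
    let P := ClSub.idealMod J
    let ι : P ⟶ Coh.structureModule C := ClSub.idealModι J
    haveI : Mono ι := inferInstanceAs (Mono (kernel.ι _))
    have hm := mem_maximalIdeal_iff_exists (X := C) hp
    have hoff : ∀ y, y ≠ p → Function.Bijective (PullbackMod.stalkLin ι y) :=
      fun y hy => bijective_idealModι_of_ne (X := C) hp hy
    obtain ⟨e⟩ := hL
    have hLi : PicF.IsInvertible L := AmpleLib.isInvertible_of_tensor_iso e
    have hPi : PicF.IsInvertible P := AmpleLib.isInvertible_of_tensor_iso (AmpleLib.comm P L ≪≫ e)
    have hLc := CurveLib.isCoh_of_isInvertible hLi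
    have hPc := CurveLib.isCoh_of_isInvertible hPi
    have hOc := DevLib.isCoh_structureModule C
    have hd1 : topologicalKrullDim C ≤ (1 : ℕ) := hdim.le
    haveI := fun n => EulerIneqLib.finite_HH (k := k) hLc n
    haveI := fun n => EulerIneqLib.finite_HH (k := k) hPc n
    haveI := fun n => EulerIneqLib.finite_HH (k := k) hOc n
    -- global functions
    have h0 : Module.finrank k (Coh.HH C (Coh.structureModule C) 0) = 1 := by
      let φ : k →+* Γ(C, ⊤) := Coh.toGlobal (C ↘ Spec (CommRingCat.of k))
      letI := φ.toAlgebra
      let e' : Coh.HH C (Coh.structureModule C) 0 ≃ₗ[k] Γ(C, ⊤) :=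
        { (CurveLib.secOf (Coh.structureModule C)) with
          map_smul' := fun r c => CurveLib.secOf_smul (k := k) _ r c }
      haveI : Module.Finite k Γ(C, ⊤) := Module.Finite.equiv e'
      rw [e'.finrank_eq]
      haveI : Nontrivial Γ(C, ⊤) := (C.presheaf.germ ⊤ p trivial).hom.domain_nontrivial
      exact S1536.finrank_eq_one_of_idempotents k Γ(C, ⊤) S1536.idempotent_trivial
    have hc1 : Module.finrank k (Coh.HH C (Coh.structureModule C) 1) = 1 := hg
    obtain ⟨hωc, hω1⟩ := isCoh_finrank_of_pair k hd1 hω
    haveI := hωc.1
    haveI := hOc.1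
    rw [h0] at hω1
    have hω0 : Module.finrank k (Coh.HH C ω 0) = 1 := (finrank_H0_dualizing k hω).trans hc1
    -- the quotient
    have hQsupp : CohB1.support (cokernel ι) ⊆ {p} := fun y hy => by
      by_contra hyp
      exact hy (DevLib.subsingleton_coker ι (hoff y hyp).2)
    have hQd : topologicalKrullDim (CohB1.support (cokernel ι)) ≤ 0 :=
      (Topology.IsEmbedding.inclusion hQsupp).isInducing.topologicalKrullDim_le.trans dim_singleton
    have hQc : Coh.IsCoh (cokernel ι) := (QCohLib.isCoh_kernel_cokernel ι hPc hOc).2
    let eQ : cokernel ι ≅ ClSub.quotMod J := by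
      haveI := SerreAff.epi_unitToPush J.subschemeι
      let S : ShortComplex C.Modules := ShortComplex.mk ι (ClSub.toSubscheme J) (kernel.condition _)
      have hS : S.ShortExact := ShortComplex.ShortExact.mk'
        (ShortComplex.exact_of_f_is_kernel _ (kernelIsKernel _)) (inferInstanceAs (Mono ι))
        (inferInstanceAs (Epi (ClSub.toSubscheme J)))
      exact (cokernelIsCokernel ι).coconePointUniqueUpToIso hS.gIsCokernel
    have hQ0 : Module.finrank k (Coh.HH C (cokernel ι) 0) = 1 := by
      haveI : IsIntegral J.subscheme := CurveLib.isIntegral_vanishingIdeal hp isIrreducible_singleton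
      letI : J.subscheme.Over (Spec (CommRingCat.of k)) := ⟨J.subschemeι ≫ (C ↘ Spec (CommRingCat.of k))⟩
      haveI : IsProper (J.subscheme ↘ Spec (CommRingCat.of k)) :=
        inferInstanceAs (IsProper (J.subschemeι ≫ (C ↘ Spec (CommRingCat.of k))))
      haveI : Coh.IsQCoh (Coh.structureModule J.subscheme) := inferInstance
      rw [CurveLib.hMap_bijective_finrank (k := k) eQ 0]
      exact (IntLib.finrank_push k J.subschemeι rfl (Coh.structureModule J.subscheme) 0).trans
        CurveLib.finrank_H0_structure
    have heul : ∀ {M : C.Modules}, Coh.IsCoh M → Curv2.euler k C M =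
        (Module.finrank k (Coh.HH C M 0) : ℤ) - Module.finrank k (Coh.HH C M 1) := fun {M} hM => by
      rw [CurveLib.euler_eq_sum (K := k) M 2 fun q hq => CurveLib.subsingleton_HH_of_dim M hd1 (by omega),
        Finset.sum_range_succ, Finset.sum_range_one]
      ring
    have hχQ : Curv2.euler k C (cokernel ι) = 1 := by
      rw [CurveLib.euler_of_dim_le_zero (k := k) (DevLib.isClosed_support hQc) subset_rfl hQd, hQ0]
      rfl
    have hχP : Curv2.euler k C P = -1 := by
      have h1 := CurveLib.euler_shortExact (K := k) (DevLib.cokerSeq_shortExact ι) hPc hOc hQc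
      change Curv2.euler k C (Coh.structureModule C) = Curv2.euler k C P + Curv2.euler k C (cokernel ι) at h1
      rw [heul hOc, h0, hc1, hχQ] at h1
      omega
    have hP0 : Module.finrank k (Coh.HH C P 0) = 0 := by
      suffices Subsingleton (Coh.HH C P 0) from Module.finrank_zero_of_subsingleton
      refine subsingleton_of_forall_eq 0 fun x => ?_
      obtain ⟨v, hv, hspan⟩ := finrank_eq_one_iff'.1 h0
      let oneH := (CurveLib.secOf (Coh.structureModule C)).symm (1 : Γ(C, ⊤))
      obtain ⟨c, hc⟩ := hspan (CurveLib.hMap (k := k) ι 0 x)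
      have hinj := CurveLib.hMap_f_zero_injective (k := k) (DevLib.cokerSeq_shortExact ι)
      by_contra hx
      have hc0 : c ≠ 0 := fun h' => hx (hinj (by
        show CurveLib.hMap (k := k) ι 0 x = CurveLib.hMap (k := k) ι 0 0
        rw [map_zero, ← hc, h', zero_smul]))
      obtain ⟨d, hd⟩ := hspan oneH
      have h2 : CurveLib.hMap (k := k) ι 0 ((d * c⁻¹) • x) = oneH := by
        rw [map_smul, ← hc, smul_smul, mul_assoc, inv_mul_cancel₀ hc0, mul_one, hd]
      have h3 := congrArg (fun z => (Coh.structureModule C).presheaf.germ ⊤ p trivial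
        (CurveLib.secOf (Coh.structureModule C) z)) h2
      simp only [oneH, AddEquiv.apply_symm_apply] at h3
      rw [show CurveLib.secOf (Coh.structureModule C) (CurveLib.hMap (k := k) ι 0 ((d * c⁻¹) • x)) =
        ι.app ⊤ (CurveLib.secOf P ((d * c⁻¹) • x)) from ModelDual.secOf_hMap' k ι _,
        ← PullbackMod.stalkLin_germ ι (U := ⊤) p trivial] at h3
      exact (IsLocalRing.notMem_maximalIdeal.2 isUnit_one) ((hm 1).1 ⟨_, h3.trans (one_smul _ _).symm⟩)
    have hP1 : Module.finrank k (Coh.HH C P 1) = 1 := by
      rw [heul hPc, hP0] at hχP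
      omega
    -- the twist
    let G := CohB1.tensorMod ω L
    have hGc : Coh.IsCoh G := CurveLib.isCoh_tmod hωc hLc
    let w : CohB1.tensorMod P G ≅ ω := AmpleLib.comm P G ≪≫ (VBLib.untwist e).app ω
    have hG0 : Module.finrank k (Coh.HH C G 0) = 1 := by
      have hflf := VBLib.DualDeg.flf_of_rank (CurveLib.isFinLocFreeOfRank_one hPi)
      haveI := LocFreeHomLib.isIso_alpha P hflf ω
      obtain ⟨a⟩ := VBLib.DualOps.nonempty_dd_iso_dual hflf
      obtain ⟨b⟩ := DualInvLib.nonempty_iso_dual hPi (AmpleLib.comm P L ≪≫ e)
      rw [← hP1]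
      exact (finrank_top_of_iso k hω hPc.1
        (AmpleLib.tIso (Iso.refl ω) (b ≪≫ a.symm) ≪≫ asIso (LocFreeHomLib.alpha P ω))).symm
    obtain ⟨g, hgen, t, ht, htm, htinj⟩ := exists_stalk_twist k ι hm hoff hω hp hGc hPc
      (ParaFLib.exists_stalk_gen hPi p) w hω1 (hG0.trans hω0.symm).le
    haveI : Mono (phi ι G) := mono_phi k ι hoff hω hp hGc hPc w
    -- H¹ and maps
    have hdual : Subsingleton (Coh.HH C L 1) ↔ ∀ u : L ⟶ ω, u = 0 :=
      ⟨fun _ => hom_eq_zero_of_subsingleton_HH k hω L hLc.1, subsingleton_HH_of_hom_eq_zero k hω L hLc.1⟩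
    refine ⟨?_, ?_⟩
    · have hχL : Curv2.euler k C L = 1 := by
        have h1 := CurveLib.euler_tmod_sub (k := k) ι
          (CurveLib.freeAt_of_isFinLocFreeOfRank (CurveLib.isFinLocFreeOfRank_one hLi)) hPc hOc hLc hQd
        change Curv2.euler k C (DCohLib.tmod (Coh.structureModule C) L) - Curv2.euler k C (DCohLib.tmod P L) = _ at h1
        rw [CurveLib.euler_iso (K := k) (CurveLib.tmodUnit L),
          CurveLib.euler_iso (K := k) (AmpleLib.comm P L ≪≫ e : DCohLib.tmod P L ≅ _), hχP, heul hOc, h0, hc1] at h1
        push_cast at h1
        omega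
      rw [heul hLc] at hχL
      refine ⟨fun h' => ?_, fun h' => ?_⟩
      · have : Module.finrank k (Coh.HH C L 1) = 0 := by omega
        exact Module.finrank_zero_iff.1 this
      · rw [Module.finrank_zero_of_subsingleton (M := Coh.HH C L 1)] at hχL
        omega
    · rw [hdual]
      let m := IsLocalRing.maximalIdeal (C.presheaf.stalk p)
      refine ⟨fun hu s hs => ?_, fun hgenl u => ?_⟩
      · obtain ⟨E⟩ := HilbLib.nonempty_stalk_equiv hLi ω p
        obtain ⟨a, ha⟩ := hgen (E.symm (PullbackMod.stalkLin s p (ParaFLib.oneG p)))
        have hEa : PullbackMod.stalkLin s p (ParaFLib.oneG p) = a • E g := by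
          rw [← map_smul, ha, LinearEquiv.apply_symm_apply]
        by_cases hin : PullbackMod.stalkLin s p (ParaFLib.oneG p) ∈
            m • (⊤ : Submodule (C.presheaf.stalk p) (ω.presheaf.stalk p))
        · exfalso
          let sL : DCohLib.tmod (Coh.structureModule C) L ⟶ G := CurveLib.tmap s L
          have hsL0 : sL ≫ cokernel.π (phi ι G) = 0 := (PullbackMod.eq_zero_iff_stalk _).2 fun y =>
            LinearMap.ext fun z => by
            rw [PullbackMod.stalkLin_comp, LinearMap.comp_apply, LinearMap.zero_apply]
            refine (DevLib.coker_exact (phi ι G) y _).2 ?_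
            by_cases hy : y = p
            · subst hy
              show PullbackMod.stalkLin sL y z ∈ LinearMap.range (PullbackMod.stalkLin (phi ι G) y)
              rw [range_phi ι hm G]
              obtain ⟨q, rfl⟩ := (DCohLib.stalkTensor y (Coh.structureModule C) L).surjective z
              induction q using TensorProduct.induction_on with
              | zero => simp
              | tmul o l =>
                obtain ⟨r, rfl⟩ := (ParaFLib.bijective_oneG y).2 o
                rw [show PullbackMod.stalkLin sL y (DCohLib.stalkTensor y (Coh.structureModule C) L ((r • ParaFLib.oneG y) ⊗ₜ l)) =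
                  DCohLib.stalkTensor y ω L ((r • PullbackMod.stalkLin s y (ParaFLib.oneG y)) ⊗ₜ l) from
                  (DCohLib.stalkTensor_natural_left y s _).trans (by rw [LinearMap.rTensor_tmul, map_smul])]
                exact Submodule.smul_induction_on (Submodule.smul_mem _ r hin)
                  (fun b hb x _ => by
                    rw [← TensorProduct.smul_tmul']
                    exact (map_smul (DCohLib.stalkTensor y ω L) b _).symm ▸ Submodule.smul_mem_smul hb trivial)
                  (fun x₁ x₂ h₁ h₂ => by rw [TensorProduct.add_tmul, map_add]; exact add_mem h₁ h₂)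
              | add q₁ q₂ h₁ h₂ => rw [map_add, map_add]; exact add_mem h₁ h₂
            · exact (phi_bijective ι (hoff y hy) G).2 _
          let v := Abelian.monoLift (phi ι G) sL hsL0
          have hv : (CurveLib.tmodUnit L).inv ≫ v ≫ w.hom = 0 := hu _
          have hv0 : v = 0 := by
            rwa [← cancel_mono w.hom, zero_comp, ← cancel_epi (CurveLib.tmodUnit L).inv, comp_zero]
          have hsL : sL = 0 := (Abelian.monoLift_comp (phi ι G) sL hsL0).symm.trans ((congrArg (· ≫ phi ι G) hv0).trans zero_comp)
          haveI := VBLib.isEquivalence_tensR e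
          refine hs ((CurveLib.tensR L).map_injective (show (CurveLib.tensR L).map s = _ from ?_))
          rw [Functor.map_zero]
          exact hsL
        · have hau : IsUnit a := by
            by_contra hna
            exact hin (hEa ▸ Submodule.smul_mem_smul ((IsLocalRing.mem_maximalIdeal a).2 hna) trivial)
          have hbij : Function.Bijective (PullbackMod.stalkLin s p) := by
            let A : Submodule (C.presheaf.stalk p) (C.presheaf.stalk p) :=
              LinearMap.ker (LinearMap.toSpanSingleton (C.presheaf.stalk p) _ g)
            have hg0 : g ≠ 0 := fun hg0 => hin (by rw [hEa, hg0, map_zero, smul_zero]; exact zero_mem _)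
            have hA : A ≤ m • A := fun r hr => by
              have hrm : r ∈ m := (IsLocalRing.mem_maximalIdeal r).2 fun hu' =>
                hg0 (hu'.smul_eq_zero.1 hr)
              obtain ⟨b, rfl⟩ := htm r hrm
              have hb : b ∈ A := by
                refine htinj _ ?_
                show t • (b • g) = 0
                rw [smul_smul, mul_comm]
                exact hr
              rw [mul_comm]
              exact Submodule.smul_mem_smul ht hb
            have hA0 : A = ⊥ := Submodule.eq_bot_of_le_smul_of_le_jacobson_bot m A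
              (IsNoetherian.noetherian A) hA (IsLocalRing.maximalIdeal_le_jacobson _)
            have hfun : ∀ r : C.presheaf.stalk p, PullbackMod.stalkLin s p (r • ParaFLib.oneG p) = E ((r * a) • g) :=
              fun r => by rw [map_smul, hEa, map_smul, smul_smul]
            refine ⟨fun x y hxy => ?_, fun z => ?_⟩
            · obtain ⟨r, rfl⟩ := (ParaFLib.bijective_oneG p).2 x
              obtain ⟨r', rfl⟩ := (ParaFLib.bijective_oneG p).2 y
              simp only at hxy ⊢
              rw [hfun, hfun, E.injective.eq_iff, ← sub_eq_zero, ← sub_smul, ← sub_mul] at hxy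
              have h' : (r - r') * a ∈ A := hxy
              rw [hA0, Submodule.mem_bot, hau.mul_left_eq_zero, sub_eq_zero] at h'
              rw [h']
            · obtain ⟨b, hb⟩ := hgen (E.symm z)
              obtain ⟨a', ha'⟩ := hau.exists_left_inv
              refine ⟨(b * a') • ParaFLib.oneG p, ?_⟩
              rw [hfun, mul_assoc, ha', mul_one, hb, LinearEquiv.apply_symm_apply]
          have hker := (QCohLib.isCoh_kernel_cokernel s hOc hωc)
          let Z : Set C := CohB1.support (kernel s) ∪ CohB1.support (cokernel s)
          have hZ : IsClosed Z := (DevLib.isClosed_support hker.1).union (DevLib.isClosed_support hker.2)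
          let U : C.Opens := ⟨Zᶜ, hZ.isOpen_compl⟩
          have hstalk : ∀ y ∈ U, Function.Bijective (PullbackMod.stalkLin s y) := fun y hy => by
            haveI hk1 : Subsingleton ((kernel s).presheaf.stalk y) := not_not.1 fun h' => hy (Or.inl h')
            haveI hk2 : Subsingleton ((cokernel s).presheaf.stalk y) := not_not.1 fun h' => hy (Or.inr h')
            refine ⟨(injective_iff_map_eq_zero _).2 fun x hx => ?_, fun z => ?_⟩
            · obtain ⟨x', rfl⟩ := HilbObsLib.stalk_kernel_ι_exists s y hx
              rw [Subsingleton.elim x' 0, map_zero]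
            · exact (InjCokerStage.stalk_cokernel s y).2.le (LinearMap.mem_ker.2 (Subsingleton.elim _ _))
          have hpU : p ∈ U := fun h' => by
            rcases h' with h' | h'
            · refine h' (subsingleton_of_forall_eq 0 fun x => ?_)
              refine (PullbackMod.mono_iff_stalk (kernel.ι s)).1 inferInstance p ?_
              rw [map_zero]
              refine hbij.1 ?_
              rw [map_zero, ← LinearMap.comp_apply, ← PullbackMod.stalkLin_comp, kernel.condition]
              exact LinearMap.congr_fun ((PullbackMod.eq_zero_iff_stalk _).1 rfl p) x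
            · refine h' (subsingleton_of_forall_eq 0 fun x => ?_)
              obtain ⟨z, rfl⟩ := (InjCokerStage.stalk_cokernel s p).1 x
              exact LinearMap.mem_ker.1 ((InjCokerStage.stalk_cokernel s p).2.ge (hbij.2 z))
          exact TopologicalSpace.Opens.mem_sSup.2 ⟨U, isIso_restrict_of_bijective s U hstalk, hpU⟩
      · by_contra hu
        let i' : Coh.structureModule C ⟶ L := (AmpleLib.comm P L ≪≫ e).inv ≫ phi ι L
        have hs : i' ≫ u ≠ 0 := fun h' => hu ((PullbackMod.eq_zero_iff_stalk u).2 fun y => by
          have h1 : phi ι L ≫ u = 0 := by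
            rw [← cancel_epi (AmpleLib.comm P L ≪≫ e).inv, comp_zero, ← Category.assoc]
            exact h'
          haveI : Mono (phi ι L) := by
            unfold phi
            haveI := CurveLib.mono_tmap ι (CurveLib.freeAt_of_isFinLocFreeOfRank (CurveLib.isFinLocFreeOfRank_one hLi))
            infer_instance
          have h2 : cokernel.desc (phi ι L) u h1 = 0 := hom_eq_zero_of_support k hω hp
            (QCohLib.isCoh_kernel_cokernel (phi ι L) (CurveLib.isCoh_tmod hPc hLc) hLc).2
            (support_cokernel_phi ι hoff L) _
          exact (PullbackMod.eq_zero_iff_stalk u).1 (by rw [← cokernel.π_desc (phi ι L) u h1, h2, comp_zero]) y)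
        obtain ⟨U, hU, hpU⟩ := TopologicalSpace.Opens.mem_sSup.1 (hgenl _ hs)
        have hb := bijective_stalk_of_isIso_restrict (i' ≫ u) U hU hpU
        have hle : (⊤ : Submodule (C.presheaf.stalk p) (ω.presheaf.stalk p)) ≤ m • ⊤ := fun z _ => by
          obtain ⟨x, rfl⟩ := hb.2 z
          rw [PullbackMod.stalkLin_comp, LinearMap.comp_apply, PullbackMod.stalkLin_comp, LinearMap.comp_apply]
          refine (Submodule.map_smul'' m ⊤ (PullbackMod.stalkLin u p)).le.trans
            (Submodule.smul_mono le_rfl le_top) (Submodule.mem_map_of_mem ?_)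
          rw [← range_phi ι hm L]
          exact LinearMap.mem_range_self _ _
        haveI := hωc.1
        haveI := PullbackMod.finite_stalk_of_isFT hωc.2 p
        have h0' : (⊤ : Submodule (C.presheaf.stalk p) (ω.presheaf.stalk p)) = ⊥ :=
          Submodule.eq_bot_of_le_smul_of_le_jacobson_bot m _ Module.Finite.fg_top hle
            (IsLocalRing.maximalIdeal_le_jacobson _)
        have h1 : (1 : C.presheaf.stalk p) • ParaFLib.oneG p = (0 : C.presheaf.stalk p) • ParaFLib.oneG p := by
          refine hb.1 ?_
          have : ∀ z : ω.presheaf.stalk p, z = 0 := fun z => (Submodule.mem_bot _).1 (h0'.le trivial)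
          rw [this (PullbackMod.stalkLin (i' ≫ u) p _), this (PullbackMod.stalkLin (i' ≫ u) p ((0 : C.presheaf.stalk p) • _))]
        exact one_ne_zero ((ParaFLib.bijective_oneG p).1 h1)

end Groth.Agent.S18250
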