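import Groth.Statements.S18254
import Groth.Agent.BlowBundleLib.Conormal2
import Groth.Agent.CILib.KoszulRegular
import Groth.Agent.S12422
-- import your own Groth.Agent.* helpers here

set_option linter.style.haveILetI false
set_option backward.isDefEq.respectTransparency false

set_option autoImplicit false
universe u
open Omega

namespace Groth.Agent.S18254

open AlgebraicGeometry CategoryTheory CategoryTheory.Limits Opposite in
/-- Let Y be a locally Noetherian scheme, E a finite locally free O_Y-module and u : E → O_Y a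
homomorphism with image ideal sheaf J such that around every point of the support of O_Y/J some
affine open U carries a basis of E(U) whose images under u form a regular sequence; thus the closed
subscheme X = V(J) is cut out by a regular section of the dual bundle of E and is a complete
intersection in Y whose codimension is the rank of E. Let f : Y' → Y be a blowing up of Y in J with
exceptional ideal J' = J·O_{Y'} (an invertible ideal, the ideal of the exceptional divisor), let (π
: P → Y, O(1), q : π^*E → O(1)) be the projective bundle of E (universal for invertible quotients of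
pull-backs of E), and let j : Y' → P be the Y-morphism attached to the invertible quotient f^*E → J'
induced by f^*u: j ≫ π = f together with an isomorphism j^*O(1) ≅ J' under which j^*q followed by
the inclusion J' ⊆ O_{Y'} is f^*u followed by the canonical map f^*O_Y → O_{Y'}; j is a closed
immersion. Then the conormal sheaf of j is isomorphic to the kernel of the epimorphism j^*q :
j^*π^*E → j^*O(1); equivalently there is an exact sequence 0 → C_{Y'/P} → f^*E → J' → 0, and dually
the normal bundle of Y' in P is the quotient of f^*(E^∨) by the line sub-bundle dual to J'. Only the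
existence of an isomorphism is asserted, as in the published statement. (The published statement is
for separated, pure-dimensional schemes of finite type over a field that embed in a nonsingular
scheme; this row assumes only that Y is locally Noetherian.) -/
theorem result {Y Y' P : Scheme.{u}}
    [IsLocallyNoetherian Y]
    (E : Y.Modules) (hE : FlatMod.IsFinLocFree E) (u : E ⟶ Coh.structureModule Y)
    (J : Y.IdealSheafData)
    (hJ : ∀ U : Y.affineOpens, J.ideal U = @Ideal.span Γ(Y, U.1) _
      (Set.range fun s : E.val.obj (op U.1) => ((u.val.app (op U.1)).hom s : Γ(Y, U.1))))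
    (hu : ∀ y : Y, y ∈ J.support → ∃ U : Y.affineOpens, y ∈ U.1 ∧
      ∃ (n : ℕ) (b : Module.Basis (Fin n) Γ(Y, U.1) (E.val.obj (op U.1))),
        RegImm.Kind.Seq RegImm.Kind.regular Γ(Y, U.1)
          (List.ofFn fun k => ((u.val.app (op U.1)).hom (b k) : Γ(Y, U.1))))
    (π : P ⟶ Y) (O1 : P.Modules) (q : (Scheme.Modules.pullback π).obj E ⟶ O1)
    (hP : KRR.IsProjBundle π E O1 q)
    (f : Y' ⟶ Y) (hf : BlowUp.IsBlowUp f J)
    (j : Y' ⟶ P) (hjπ : j ≫ π = f)
    (e : (Scheme.Modules.pullback j).obj O1 ≅ ClSub.idealMod (BlowUp.exceptional f J))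
    (hcomp : (Scheme.Modules.pullbackCongr hjπ).inv.app E ≫ (Scheme.Modules.pullbackComp j π).inv.app E ≫
        (Scheme.Modules.pullback j).map q ≫ e.hom ≫ ClSub.idealModι (BlowUp.exceptional f J) =
      (Scheme.Modules.pullback f).map u ≫
        ((Scheme.Modules.pullbackPushforwardAdjunction f).homEquiv _ _).symm
          (SheafOfModules.unitToPushforwardObjUnit f.toRingCatSheafHom)) :
    Nonempty (Omega.conormal j ≅ kernel ((Scheme.Modules.pullback j).map q)) := by
  classical
  have hqE : Coh.IsQCoh E := (Groth.Agent.PullbackMod.isQCoh_and_isFP_of_isFinLocFree E hE).1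
  haveI := hqE
  have hI : ∀ (U : Y.affineOpens) {n : ℕ} (b : Module.Basis (Fin n) Γ(Y, U.1) Γ(E, U.1)),
      J.ideal U = Ideal.span (Set.range fun l => Groth.Agent.BlowBundleLib.uval u U.1 (b l)) := fun U {n} b => by
    refine (hJ U).trans (le_antisymm (Ideal.span_le.2 ?_) (Ideal.span_le.2 ?_))
    · rintro _ ⟨z, rfl⟩
      show (u.val.app (op U.1)).hom z ∈ _
      rw [← b.sum_repr z, map_sum]
      refine Ideal.sum_mem _ fun l _ => ?_
      rw [map_smul]
      exact Ideal.mul_mem_left _ _ (Ideal.subset_span ⟨l, rfl⟩)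
    · rintro _ ⟨l, rfl⟩
      exact Ideal.subset_span ⟨b l, rfl⟩
  have hu' : ∀ y : Y, ∃ U : Y.affineOpens, y ∈ U.1 ∧ ∃ (n : ℕ) (b : Module.Basis (Fin n) Γ(Y, U.1) Γ(E, U.1)),
      LCI.IsKoszulRegularSeq Γ(Y, U.1) (List.ofFn fun k => Groth.Agent.BlowBundleLib.uval u U.1 (b k)) ∧
        J.ideal U = Ideal.span (Set.range fun k => Groth.Agent.BlowBundleLib.uval u U.1 (b k)) := by
    intro y
    by_cases hy : y ∈ J.support
    · obtain ⟨U, hyU, n, b, hb⟩ := hu y hy
      exact ⟨U, hyU, n, b, Groth.Agent.RegKindLib.isKoszulRegularSeq_of_isRegular hb, hI U b⟩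
    · obtain ⟨O, m, hyO, ⟨i⟩⟩ := hE y
      obtain ⟨_, ⟨W, hW, rfl⟩, hyW, hle⟩ := Y.isBasis_affineOpens.exists_subset_of_mem_open
        (show y ∈ (O : Set Y) ∩ (J.support : Set Y)ᶜ from ⟨hyO, hy⟩) (O.2.inter J.support.isClosed.isOpen_compl)
      obtain ⟨eb⟩ := Groth.Agent.S12422.nonempty_sections_equiv E i hW (fun z hz => (hle hz).1)
      let b := Module.Basis.ofEquivFun eb
      refine ⟨⟨W, hW⟩, hyW, m, b, Groth.Agent.CILib.isKoszulRegularSeq_of_span_eq_top _ ?_, hI ⟨W, hW⟩ b⟩
      have htop : J.ideal ⟨W, hW⟩ = ⊤ := by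
        by_contra hne
        obtain ⟨𝔭, h𝔭, hle'⟩ := Ideal.exists_le_maximal _ hne
        let q : PrimeSpectrum Γ(Y, W) := ⟨𝔭, h𝔭.isPrime⟩
        have hqW : hW.fromSpec q ∈ W := hW.range_fromSpec.le ⟨q, rfl⟩
        refine (hle hqW).2 ((J.mem_support_iff_of_mem (U := ⟨W, hW⟩) hqW).2 ?_)
        have : q ∈ hW.fromSpec ⁻¹' (Y.zeroLocus (U := W) (J.ideal ⟨W, hW⟩)) := by
          rw [hW.fromSpec_preimage_zeroLocus]; exact hle'
        exact this
      rw [← htop, hI ⟨W, hW⟩ b]
      congr 1
      ext a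
      simp [List.mem_ofFn]
  obtain ⟨hj, -⟩ := Groth.Agent.BlowBundleLib.exists_local E hE u
    (fun y => by obtain ⟨U, h1, n, b, h2, -⟩ := hu' y; exact ⟨U, h1, n, b, h2⟩) J hJ π O1 q hP f hf j hjπ e hcomp
  obtain ⟨P₀, p₀, O₀, φ, ⟨D⟩⟩ := Groth.Agent.ProjBundleLib.exists_bundle hqE
  obtain ⟨v, hv, τ, hiso, hτ⟩ := Groth.Agent.CycLib.PB.exists_iso_of_isGrass
    (Groth.Agent.GrassShLib.isGrass_of_pdata D) (Grass.IsGrass.of_isProjBundle hP)
  haveI := hiso
  let r := j ≫ v
  have hr : r ≫ p₀ = f := by rw [Category.assoc, hv, hjπ]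
  let τ' : (Scheme.Modules.pullback r).obj O₀ ≅ ClSub.idealMod (BlowUp.exceptional f J) :=
    ((Scheme.Modules.pullbackComp j v).app O₀).symm ≪≫ (Scheme.Modules.pullback j).mapIso τ ≪≫ e
  let s := Groth.Agent.ProjBundleLib.pullAdj hr φ ≫ τ'.hom
  let s' := (Scheme.Modules.pullbackCongr hjπ).inv.app E ≫ (Scheme.Modules.pullbackComp j π).inv.app E ≫
    (Scheme.Modules.pullback j).map q ≫ e.hom
  have hss : s ≫ ClSub.idealModι (BlowUp.exceptional f J) = s' ≫ ClSub.idealModι (BlowUp.exceptional f J) := by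
    have h := Groth.Agent.FlagLib.qb_qb (((Scheme.Modules.pullbackPushforwardAdjunction p₀).homEquiv E O₀).symm φ) hv
      (rfl : j ≫ v = r) hjπ hr τ.hom
    rw [show Groth.Agent.FlagLib.qb (((Scheme.Modules.pullbackPushforwardAdjunction p₀).homEquiv E O₀).symm φ) hv ≫
        τ.hom = q from hτ, Groth.Agent.FlagLib.qb_rfl] at h
    show (Groth.Agent.FlagLib.qb (((Scheme.Modules.pullbackPushforwardAdjunction p₀).homEquiv E O₀).symm φ) hr ≫
      ((Scheme.Modules.pullbackComp j v).inv.app O₀ ≫ (Scheme.Modules.pullback j).map τ.hom ≫ e.hom)) ≫ _ = _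
    have h' := congrArg (fun t => t ≫ e.hom ≫ ClSub.idealModι (BlowUp.exceptional f J)) h
    simp only [s', Groth.Agent.FlagLib.qb, Grass.quotBC, Category.assoc] at h' ⊢
    exact h'.symm
  haveI : Mono (ClSub.idealModι (BlowUp.exceptional f J)) := by unfold ClSub.idealModι; infer_instance
  have hs_eq : s = s' := (cancel_mono (ClSub.idealModι (BlowUp.exceptional f J))).1 hss
  have hs : Groth.Agent.BlowBundleLib.HasVal u s := by
    refine Groth.Agent.BlowBundleLib.hasVal_of_eq u s ?_
    rw [hss]
    simp only [s', Category.assoc]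
    exact hcomp
  have hc := D.compat_of_iso s hr τ' rfl
  haveI : IsClosedImmersion j := hj
  haveI : IsClosedImmersion r := inferInstanceAs (IsClosedImmersion (j ≫ v))
  obtain ⟨i₁⟩ := Groth.Agent.BlowBundleLib.nonempty_conormal_iso D hf hs r hc hu'
  let qr := (Scheme.Modules.pullback r).map (Groth.Agent.BlowBundleLib.qP p₀ φ)
  let i₂ : Omega.conormal r ≅ Omega.conormal j := Groth.Agent.TildePullback.conormalCompIso j v ≪≫
    (Scheme.Modules.pullback j).mapIso (Groth.Agent.TildePullback.idealModKerIso j).symm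
  let i₃ : kernel s ≅ kernel qr :=
    kernelIsoOfEq (by simp [s, qr, Groth.Agent.ProjBundleLib.pullAdj, Groth.Agent.BlowBundleLib.qP]) ≪≫
      kernelIsIsoComp ((Scheme.Modules.pullbackCongr hr).inv.app E ≫ (Scheme.Modules.pullbackComp r p₀).inv.app E)
        (qr ≫ τ'.hom) ≪≫ kernelCompMono qr τ'.hom
  let i₄ : kernel s' ≅ kernel ((Scheme.Modules.pullback j).map q) :=
    kernelIsoOfEq (by simp [s']) ≪≫ kernelIsIsoComp ((Scheme.Modules.pullbackCongr hjπ).inv.app E ≫
      (Scheme.Modules.pullbackComp j π).inv.app E) ((Scheme.Modules.pullback j).map q ≫ e.hom) ≪≫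
      kernelCompMono ((Scheme.Modules.pullback j).map q) e.hom
  exact ⟨i₂.symm ≪≫ i₁ ≪≫ i₃.symm ≪≫ kernelIsoOfEq hs_eq ≪≫ i₄⟩

end Groth.Agent.S18254
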