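import Groth.Statements.S18257
import Groth.Agent.UnitsDefLib.Step
-- import your own Groth.Agent.* helpers here

set_option autoImplicit false
set_option backward.isDefEq.respectTransparency false
set_option maxHeartbeats 800000
set_option synthInstance.maxHeartbeats 200000
universe u
open UnitsSh

namespace Groth.Agent.S18257

open CategoryTheory CategoryTheory.Limits AlgebraicGeometry in
/-- In the case of the multiplicative group, for schemes and with Zariski cohomology of the sheaf of
units. Let A be a local ring with maximal ideal m, t a nonzero element of m with m·t = 0, and X' a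
scheme flat over Spec A; let i : X ⟶ X' be the closed subscheme cut out by t (base change to A/(t))
and X₀ the closed fibre (base change to the residue field). If H^{q+1}(X₀, O_{X₀}) = 0, then the map
H^q(X', O_{X'}^×) → H^q(X', i_* O_X^×) induced by the units map of i is surjective. (The published
statement covers any smooth commutative group scheme in place of the multiplicative group, with the
Lie algebra of its closed fibre in place of O_{X₀}, uses étale cohomology, and takes A Artinian;
this row allows any local ring A with t as stated.) -/
theorem result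
    (A : Type u) [CommRing A] [IsLocalRing A]
    (t : A) (ht0 : t ≠ 0) (ht : t ∈ IsLocalRing.maximalIdeal A)
    (hmt : ∀ x ∈ IsLocalRing.maximalIdeal A, x * t = 0)
    (X' : Scheme.{u}) [X'.Over (Spec (CommRingCat.of A))] [Flat (X' ↘ Spec (CommRingCat.of A))]
    (q : ℕ)
    (hvan : Subsingleton (Coh.HH
      (pullback (X' ↘ Spec (CommRingCat.of A)) (Spec.map (CommRingCat.ofHom (IsLocalRing.residue A))))
      (Coh.structureModule _) (q + 1))) :
    Function.Surjective (Sheaf.H.map (UnitsSh.comap
      (pullback.fst (X' ↘ Spec (CommRingCat.of A))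
        (Spec.map (CommRingCat.ofHom (Ideal.Quotient.mk (Ideal.span ({t} : Set A))))))) q) := by
  have hsurj := Ideal.Quotient.mk_surjective (I := Ideal.span ({t} : Set A))
  have hψ : Function.Surjective (IsLocalRing.residue A) := IsLocalRing.residue_surjective
  have hkψ : RingHom.ker (IsLocalRing.residue A) = IsLocalRing.maximalIdeal A := IsLocalRing.ker_residue
  have h2 : t * t = 0 := hmt t ht
  let f := X' ↘ Spec (CommRingCat.of A)
  let j := pullback.fst f (Spec.map (CommRingCat.ofHom (Ideal.Quotient.mk (Ideal.span ({t} : Set A)))))
  have sq : IsPullback j _ f (Spec.map (CommRingCat.ofHom (Ideal.Quotient.mk (Ideal.span ({t} : Set A))))) :=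
    IsPullback.of_hasPullback _ _
  have sq₀ : IsPullback _ _ f (Spec.map (CommRingCat.ofHom (IsLocalRing.residue A))) := IsPullback.of_hasPullback _ _
  haveI : IsClosedImmersion j := Groth.Agent.UnitsDefLib.isClosedImmersion_of_sq f _ hsurj sq
  haveI : Surjective j := Groth.Agent.UnitsDefLib.surjective_of_sq f _ hsurj
    (by rw [Ideal.mk_ker, Ideal.span_singleton_le_iff_mem]; exact mem_nilradical.2 ⟨2, by rw [pow_two, h2]⟩) sq
  haveI := Groth.Agent.UnitsDefLib.epi_comap j
  obtain ⟨e⟩ := Groth.Agent.UnitsDefLib.exists_kerEquiv f t (h2 := h2) (hmt := hmt) (ht0 := ht0)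
    (hφ := hsurj) (hkφ := Ideal.mk_ker) (hψ := hψ) (hkψ := hkψ) (sq := sq) (sq₀ := sq₀) (q + 1)
  have hK := @Equiv.subsingleton _ _ e.toEquiv hvan
  exact Groth.Agent.UnitsDefLib.surjective_H_map (UnitsSh.comap j) q hK

end Groth.Agent.S18257
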