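import Groth.Statements.S18258
import Groth.Agent.UnitsDefLib.Split
-- import your own Groth.Agent.* helpers here

set_option autoImplicit false
set_option backward.isDefEq.respectTransparency false
set_option maxHeartbeats 800000
set_option synthInstance.maxHeartbeats 200000
universe u
open UnitsSh

namespace Groth.Agent.S18258

open CategoryTheory CategoryTheory.Limits AlgebraicGeometry in
/-- In the case of the multiplicative group, for schemes and with Zariski cohomology of the sheaf of
units. Let k be a field, X₀ a k-scheme, X' = X₀ ×_k Spec k[ε] (k[ε] the dual numbers) and i : X ⟶ X'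
the closed subscheme ε = 0 (base change of X' along k[ε] → k, a copy of X₀). Then for every q the
kernel of the map H^q(X', O_{X'}^×) → H^q(X', i_* O_X^×) induced by the units map of i — the tangent
space at the origin of the functor A ↦ H^q(X₀ ⊗_k A, O^×) on local Artinian k-algebras — is
isomorphic, as an additive group, to H^q(X, O_X). (Existence of an isomorphism only. The published
statement covers any smooth commutative group scheme in place of the multiplicative group, with the
Lie algebra of its closed fibre in place of the structure sheaf, and uses étale cohomology.) -/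
theorem result
    (k : Type u) [Field k] (X₀ : Scheme.{u}) [X₀.Over (Spec (CommRingCat.of k))] (q : ℕ) :
    Nonempty ((Sheaf.H.map (UnitsSh.comap (pullback.fst (pullback.snd (X₀ ↘ Spec (CommRingCat.of k)) (Spec.map (CommRingCat.ofHom (algebraMap k (DualNumber k))))) (Spec.map (CommRingCat.ofHom (TrivSqZeroExt.fstHom k k k).toRingHom)))) q).ker ≃+
      Coh.HH (pullback (pullback.snd (X₀ ↘ Spec (CommRingCat.of k)) (Spec.map (CommRingCat.ofHom (algebraMap k (DualNumber k))))) (Spec.map (CommRingCat.ofHom (TrivSqZeroExt.fstHom k k k).toRingHom))) (Coh.structureModule (pullback (pullback.snd (X₀ ↘ Spec (CommRingCat.of k)) (Spec.map (CommRingCat.ofHom (algebraMap k (DualNumber k))))) (Spec.map (CommRingCat.ofHom (TrivSqZeroExt.fstHom k k k).toRingHom)))) q) := by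
  exact Groth.Agent.UnitsDefLib.nonempty_ker_equiv_split (algebraMap k (DualNumber k))
    (TrivSqZeroExt.fstHom k k k).toRingHom (fun c => ⟨TrivSqZeroExt.inl c, TrivSqZeroExt.fst_inl k c⟩)
    (RingHom.ext fun c => TrivSqZeroExt.fst_inl k c) DualNumber.eps
    (fun h => by simpa using congrArg TrivSqZeroExt.snd h)
    (fun x hx => by
      rw [DualNumber.maximalIdeal_eq_span_singleton_eps] at hx
      obtain ⟨c, rfl⟩ := Ideal.mem_span_singleton'.1 hx
      rw [mul_assoc, DualNumber.eps_mul_eps, mul_zero])
    (Ideal.ext fun x => by rw [RingHom.mem_ker, Ideal.mem_span_singleton]; exact DualNumber.fst_eq_zero_iff_eps_dvd)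
    (Ideal.ext fun x => by
      rw [RingHom.mem_ker, DualNumber.maximalIdeal_eq_span_singleton_eps, Ideal.mem_span_singleton]
      exact DualNumber.fst_eq_zero_iff_eps_dvd)
    X₀ (X₀ ↘ Spec (CommRingCat.of k)) q

end Groth.Agent.S18258
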