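import Groth.Statements.S18261
import Groth.Agent.GITLib.HMPointsSemistable

set_option autoImplicit false
set_option backward.isDefEq.respectTransparency false
universe u
open InvQ

namespace Groth.Agent.S18261

/-- Let k be an algebraically closed field in which m! is non-zero, n and m natural numbers, and p_1, …,
p_m non-zero vectors of k^(n+1), an ordered configuration of m points of projective n-space. Encode
the configuration by the product π = ∏_i (Σ_j p_i,j x_j) of its m linear forms, on which the special
linear group SL(n+1) acts by substitution, and let a be the point of the affine space of degree-m
forms in n + 1 variables whose form is π. Then a is semistable — some invariant homogeneous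
polynomial of positive degree on that affine space does not vanish at a — if and only if for every
linear subspace W of k^(n+1) the number of indices i with p_i ∈ W, multiplied by n + 1, is at most m
times the dimension of W. (Affine-cone form, with the configuration carried by the product of its
linear forms; the criterion does not depend on the order of the points. The published statement asks
the non-strict inequality only of proper subsets of the points, through the dimension of their span;
that version agrees with this one when m ≥ n + 2 but not for m ≤ n + 1, where three distinct
collinear points of the projective plane, or a single point of the projective line, pass it and are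
unstable. The published statement allows any characteristic; this row assumes m! non-zero in k, as
the space of forms used here requires.) -/
theorem result (k : Type u) [Field k] [IsAlgClosed k] (n m : ℕ)
    (hm : (Nat.factorial m : k) ≠ 0) (p : Fin m → Fin (n + 1) → k) (hp : ∀ i, p i ≠ 0)
    (a : CoordGrp.FormIdx (n + 1) m → k)
    (ha : CoordGrp.formPoly a = ∏ i, ∑ j, MvPolynomial.C (p i j) * MvPolynomial.X j) :
    @GLin.IsSemistableVec k _ (CoordGrp.SLn (n + 1) k) _ _ (CoordGrp.FormIdx (n + 1) m)
      (GLin.comodAlong ((CoordGrp.SLn.mkHom (n + 1) k).comp (CoordGrp.Mat.toGLn (n + 1) k)) (CoordGrp.formsCoact k (n + 1) m))
      (GLin.isCoactAlg_comodAlong ((CoordGrp.SLn.mkHom (n + 1) k).comp (CoordGrp.Mat.toGLn (n + 1) k)) (CoordGrp.formsCoact k (n + 1) m) (CoordGrp.formsCoact_isCoactAlg k (n + 1) m)) a ↔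
      ∀ W : Submodule k (Fin (n + 1) → k),
        Nat.card {i : Fin m // p i ∈ W} * (n + 1) ≤ m * Module.finrank k W := by
  exact Groth.Agent.GITLib.semistable_iff_count hm p hp a ha

end Groth.Agent.S18261
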