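import Groth.Statements.S18265
import Groth.Prelude.Def_W4c5pointsetsdelpezzoInv
import Mathlib

set_option autoImplicit false
universe u
open InvQ

namespace Groth.Agent.S18265

open MvPolynomial
set_option maxHeartbeats 1000000
set_option synthInstance.maxHeartbeats 100000

/-- A subalgebra of a normal domain closed under "quotients of its elements" is normal. -/
lemma isIntegrallyClosed_of_div {k P : Type*} [CommRing k] [CommRing P] [IsDomain P] [Algebra k P]
    [IsIntegrallyClosed P] (A : Subalgebra k P)
    (h : ∀ a b : P, a ∈ A → a * b ∈ A → a ≠ 0 → b ∈ A) : IsIntegrallyClosed A := by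
  refine (isIntegrallyClosed_iff (FractionRing A)).2 fun {x} hx => ?_
  let F : FractionRing A →+* FractionRing P :=
    IsFractionRing.lift (g := (algebraMap P (FractionRing P)).comp A.val.toRingHom)
      ((IsFractionRing.injective P (FractionRing P)).comp Subtype.val_injective)
  have hF : ∀ a : A, F (algebraMap A (FractionRing A) a) = algebraMap P (FractionRing P) a :=
    fun a => IsFractionRing.lift_algebraMap _ a
  have hx' : IsIntegral P (F x) :=
    hx.map_of_comp_eq A.val.toRingHom F (RingHom.ext fun a => (hF a).symm)
  obtain ⟨p, hp⟩ := IsIntegrallyClosed.isIntegral_iff.1 hx'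
  obtain ⟨a, b, hb, rfl⟩ := IsFractionRing.div_surjective A x
  have hb0 : b ≠ 0 := nonZeroDivisors.ne_zero hb
  have hb1 : (b : P) ≠ 0 := fun h => hb0 (Subtype.ext h)
  rw [map_div₀, hF, hF, eq_div_iff (by simpa using hb1), ← map_mul] at hp
  have hab : p * (b : P) = a := IsFractionRing.injective P (FractionRing P) hp
  refine ⟨⟨p, h b p b.2 (by rw [mul_comm, hab]; exact a.2) hb1⟩, ?_⟩
  rw [eq_div_iff (by simpa using hb0), ← map_mul]
  exact congrArg _ (Subtype.ext hab)

lemma div_mem_equalizer {k P : Type*} [CommRing k] [CommRing P] [IsDomain P] [Algebra k P]
    (φ : P →ₐ[k] P) (a b : P) (ha : φ a = a) (hab : φ (a * b) = a * b) (h0 : a ≠ 0) : φ b = b := by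
  rw [map_mul, ha] at hab
  exact mul_left_cancel₀ h0 hab

/-- Let k be an algebraically closed field and n, m natural numbers, and let R be the ring of polynomial
functions of m vectors of k^(n+1) invariant under the special linear group SL(n+1, k) acting on all
the vectors at once and under the rescalings of the individual vectors by units with product 1
(equivalently: invariant and homogeneous of one and the same degree in each vector) — the graded
ring of invariant sections whose Proj is the quotient variety of ordered m-point sets in projective
n-space. Then R is integrally closed in its field of fractions; hence that quotient variety is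
normal. (Only the normality assertion of the source's statement is given here; its dimension,
rationality and singular-locus assertions are not.) -/
theorem result (k : Type u) [Field k] [IsAlgClosed k] (n m : ℕ) :
    IsIntegrallyClosed (W4c5pointsetsdelpezzo.invRing k n m) := by
  haveI : IsDomain (MvPolynomial (Fin m × Fin (n + 1)) k) := inferInstance
  haveI : IsIntegrallyClosed (MvPolynomial (Fin m × Fin (n + 1)) k) := inferInstance
  refine isIntegrallyClosed_of_div (k := k) (P := MvPolynomial (Fin m × Fin (n + 1)) k) (W4c5pointsetsdelpezzo.invRing k n m) fun a b ha hab h0 => ?_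
  simp only [W4c5pointsetsdelpezzo.invRing, Algebra.mem_inf, Algebra.mem_iInf, AlgHom.mem_equalizer,
    AlgHom.id_apply] at ha hab ⊢
  exact ⟨fun g => div_mem_equalizer _ a b (ha.1 g) (hab.1 g) h0,
    fun s => div_mem_equalizer _ a b (ha.2 s) (hab.2 s) h0⟩

end Groth.Agent.S18265
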