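import Groth.Statements.S18266
import Mathlib

set_option backward.isDefEq.respectTransparency false
set_option autoImplicit false
universe u
open CategoryTheory AlgebraicGeometry
open FDesc

namespace Groth.Agent.S18266

theorem isOpenImmersion_generic {A : Type u} [CommRing A] [IsDomain A] [IsDiscreteValuationRing A]
    (η : ↥(Spec (CommRingCat.of A))) (hη : η.asIdeal = ⊥) :
    IsOpenImmersion ((Spec (CommRingCat.of A)).fromSpecResidueField η) := by
  obtain ⟨π, hπ⟩ := IsDiscreteValuationRing.exists_irreducible A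
  let p : Ideal A := η.asIdeal
  haveI : p.IsPrime := η.2
  have hinj : Function.Injective (algebraMap A p.ResidueField) := by
    rw [injective_iff_map_eq_zero]
    intro a ha
    rw [Ideal.algebraMap_residueField_eq_zero] at ha
    exact (Submodule.mem_bot A).1 (hη ▸ ha)
  haveI : IsLocalization.Away π p.ResidueField := by
    constructor
    constructor
    · rintro ⟨_, n, rfl⟩
      exact IsUnit.mk0 _ fun h => pow_ne_zero n hπ.ne_zero ((map_eq_zero_iff _ hinj).1 h)
    · intro z
      obtain ⟨⟨a, b⟩, hab⟩ := IsLocalization.surj (nonZeroDivisors (A ⧸ p)) z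
      obtain ⟨a, rfl⟩ := Ideal.Quotient.mk_surjective a
      obtain ⟨b₀, hb₀⟩ := Ideal.Quotient.mk_surjective b.1
      have hb0 : b₀ ≠ 0 := fun h => nonZeroDivisors.ne_zero b.2 (by rw [← hb₀, h, map_zero])
      obtain ⟨n, u, rfl⟩ := IsDiscreteValuationRing.eq_unit_mul_pow_irreducible hb0 hπ
      refine ⟨⟨a * ↑u⁻¹, ⟨_, n, rfl⟩⟩, ?_⟩
      have h1 : z * algebraMap A p.ResidueField (↑u * π ^ n) = algebraMap A p.ResidueField a := by
        rw [IsScalarTower.algebraMap_apply A (A ⧸ p) p.ResidueField,
          IsScalarTower.algebraMap_apply A (A ⧸ p) p.ResidueField, Ideal.Quotient.algebraMap_eq, hb₀]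
        exact hab
      calc z * algebraMap A p.ResidueField (π ^ n)
          = z * algebraMap A p.ResidueField (↑u * π ^ n) * algebraMap A p.ResidueField ↑u⁻¹ := by
            rw [mul_assoc, ← map_mul, mul_comm (↑u : A), mul_assoc, Units.mul_inv, mul_one]
        _ = algebraMap A p.ResidueField (a * ↑u⁻¹) := by rw [h1, map_mul]
    · intro a b h
      exact ⟨1, by rw [hinj h]⟩
  haveI := IsOpenImmersion.of_isLocalization (S := p.ResidueField) π
  rw [← Scheme.Spec.map_residueFieldIso_inv_eq_fromSpecResidueField]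
  haveI : IsOpenImmersion (Spec.map (CommRingCat.ofHom
    (algebraMap (CommRingCat.of A) η.asIdeal.ResidueField))) := this
  infer_instance

theorem flat_of_torsionFree {A B : Type u} [CommRing A] [IsDomain A] [IsDiscreteValuationRing A]
    [CommRing B] (φ : A →+* B) (h : ∀ a b, a ≠ 0 → φ a * b = 0 → b = 0) : φ.Flat := by
  algebraize [φ]
  refine RingHom.flat_algebraMap_iff.2 ?_
  rw [Module.Flat.flat_iff_torsion_eq_bot_of_isBezout, eq_bot_iff]
  rintro b ⟨r, hr⟩
  exact (Submodule.mem_bot A).2 (h r.1 b (nonZeroDivisors.ne_zero r.2) (by rw [← hr]; exact (Algebra.smul_def r.1 b).symm))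


/-- Let A be a discrete valuation ring, η the generic point of Spec A, and f : X → Spec A a morphism
from an arbitrary scheme X. The scheme-theoretic closure of the generic fibre X_η in X (the flat
completion) is flat over Spec A, and it is the largest closed subscheme of X flat over Spec A: for
every closed immersion i : Z → X with Z flat over Spec A, the ideal sheaf of the flat completion is
contained in the ideal sheaf of i. -/
theorem result (A : Type u) [CommRing A] [IsDomain A]
    [IsDiscreteValuationRing A] {X : Scheme.{u}} (f : X ⟶ Spec (CommRingCat.of A))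
    (η : ↥(Spec (CommRingCat.of A))) (hη : η.asIdeal = ⊥) :
    Flat ((f.fiberι η).imageι ≫ f) ∧
      ∀ (Z : Scheme.{u}) (i : Z ⟶ X), IsClosedImmersion i → Flat (i ≫ f) → (f.fiberι η).ker ≤ i.ker := by
  haveI := isOpenImmersion_generic η hη
  haveI : IsOpenImmersion (f.fiberι η) :=
    MorphismProperty.pullback_fst (P := @IsOpenImmersion) f ((Spec (CommRingCat.of A)).fromSpecResidueField η)
      inferInstance
  haveI : QuasiCompact ((Spec (CommRingCat.of A)).fromSpecResidueField η) := inferInstance
  haveI : QuasiCompact (f.fiberι η) :=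
    MorphismProperty.pullback_fst (P := @QuasiCompact) f ((Spec (CommRingCat.of A)).fromSpecResidueField η)
      inferInstance
  set g := f.fiberι η
  obtain ⟨π, hπ⟩ := IsDiscreteValuationRing.exists_irreducible A
  let α : ∀ U : X.affineOpens, CommRingCat.of A ⟶ Γ(X, U) := fun U => Spec.preimage (U.2.fromSpec ≫ f)
  have hα : ∀ U, Spec.map (α U) = U.2.fromSpec ≫ f := fun U => Spec.map_preimage _
  have hbasic : ∀ (U : X.affineOpens) (a : A), U.1 ⊓ f ⁻¹ᵁ PrimeSpectrum.basicOpen a = X.basicOpen (α U a) := by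
    intro U a
    rw [← U.2.fromSpec_image_basicOpen]
    ext x
    constructor
    · rintro ⟨hxU, hxa⟩
      obtain ⟨P, rfl⟩ : x ∈ Set.range U.2.fromSpec := by rw [U.2.range_fromSpec]; exact hxU
      refine ⟨P, ?_, rfl⟩
      have : f (U.2.fromSpec P) ∈ PrimeSpectrum.basicOpen a := hxa
      rw [← Scheme.Hom.comp_apply, ← hα] at this
      exact this
    · rintro ⟨P, hP, rfl⟩
      refine ⟨U.2.range_fromSpec.subset ⟨P, rfl⟩, ?_⟩
      show f (U.2.fromSpec P) ∈ PrimeSpectrum.basicOpen a
      rw [← Scheme.Hom.comp_apply, ← hα]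
      exact hP
  have hgen : ∀ a : A, a ≠ 0 → g.opensRange ≤ f ⁻¹ᵁ PrimeSpectrum.basicOpen a := by
    rintro a ha _ ⟨z, rfl⟩
    have hz : f (g z) = η := by
      have : g z ∈ Set.range (f.fiberι η) := ⟨z, rfl⟩
      rw [Scheme.Hom.range_fiberι] at this
      exact this
    show a ∉ (f (g z)).asIdeal
    rw [hz, hη]
    exact fun h => ha ((Submodule.mem_bot A).1 h)
  have hunit : ∀ (U : X.affineOpens) (a : A), a ≠ 0 → IsUnit (g.app U.1 (α U a)) := by
    intro U a ha
    have hbo : (f.fiber η).basicOpen (g.app U.1 (α U a)) = g ⁻¹ᵁ U.1 := by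
      rw [← Scheme.preimage_basicOpen, ← hbasic]
      refine le_antisymm (fun z hz => hz.1) fun z hz => ⟨hz, hgen a ha ⟨z, rfl⟩⟩
    refine (f.fiber η).toRingedSpace.isUnit_of_isUnit_germ _ _ fun z hz => ?_
    rw [← hbo] at hz
    exact ((Scheme.mem_basicOpen _ _ z _).1 hz)
  have hrange : f ⁻¹ᵁ PrimeSpectrum.basicOpen π = g.opensRange := by
    refine le_antisymm (fun x hx => ?_) (hgen π hπ.ne_zero)
    have : x ∈ Set.range (f.fiberι η) := by
      rw [Scheme.Hom.range_fiberι]
      show f x = η
      refine PrimeSpectrum.ext ?_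
      rw [hη]
      by_contra h0
      haveI := (f x).2
      have hmax : (f x).asIdeal.IsMaximal := Ideal.IsPrime.isMaximal ‹_› h0
      rw [IsLocalRing.eq_maximalIdeal hmax] at h0
      exact hx (by rw [IsLocalRing.eq_maximalIdeal hmax]; exact hπ.not_isUnit)
    exact this
  refine ⟨?_, fun Z i hi hflat => ?_⟩
  · show Flat (g.ker.subschemeι ≫ f)
    rw [IsZariskiLocalAtSource.iff_of_openCover (P := @Flat) g.ker.subschemeCover.openCover]
    intro U
    show Flat (g.ker.subschemeCover.f U ≫ g.ker.subschemeι ≫ f)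
    rw [← Category.assoc, g.ker.subschemeCover_map_subschemeι]
    have : (g.ker.glueDataObjι U ≫ U.1.ι) ≫ f =
        Spec.map (α U ≫ CommRingCat.ofHom (Ideal.Quotient.mk (g.ker.ideal U))) := by
      rw [Spec.map_comp, hα]
      simp [Scheme.IdealSheafData.glueDataObjι, IsAffineOpen.isoSpec_inv_ι_assoc]
    rw [this, HasRingHomProperty.Spec_iff (P := @Flat)]
    refine flat_of_torsionFree _ fun a b ha hab => ?_
    obtain ⟨b, rfl⟩ := Ideal.Quotient.mk_surjective b
    rw [CommRingCat.hom_comp, RingHom.comp_apply, CommRingCat.hom_ofHom, ← map_mul,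
      Ideal.Quotient.eq_zero_iff_mem, Scheme.Hom.ker_apply, RingHom.mem_ker, map_mul] at hab
    rw [Ideal.Quotient.eq_zero_iff_mem, Scheme.Hom.ker_apply, RingHom.mem_ker]
    exact ((hunit U a ha).mul_right_eq_zero).1 hab
  · haveI := hi
    intro U b hb
    rw [Scheme.Hom.ker_apply, RingHom.mem_ker] at hb ⊢
    haveI := U.2.isLocalization_basicOpen (α U π)
    have hle : X.basicOpen (α U π) ≤ g.opensRange := by
      rw [← hbasic, hrange]
      exact inf_le_right
    have h0 : algebraMap Γ(X, U.1) Γ(X, X.basicOpen (α U π)) b = 0 := by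
      have hinj : Function.Injective (g.app (X.basicOpen (α U π))) := by
        haveI := g.isIso_app (X.basicOpen (α U π)) hle
        exact (ConcreteCategory.bijective_of_isIso _).1
      refine hinj ?_
      rw [map_zero]
      have := congrArg ((f.fiber η).presheaf.map (homOfLE (g.preimage_mono (X.basicOpen_le (α U π)))).op) hb
      rw [map_zero] at this
      rw [← this]
      exact congr($(g.naturality (homOfLE (X.basicOpen_le (α U π))).op) b)
    obtain ⟨⟨_, n, rfl⟩, hn⟩ := (IsLocalization.map_eq_zero_iff (Submonoid.powers (α U π))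
      Γ(X, X.basicOpen (α U π)) b).1 h0
    have hV : IsAffineOpen (i ⁻¹ᵁ U.1) := U.2.preimage i
    have e₀ : i ⁻¹ᵁ U.1 ≤ (i ≫ f) ⁻¹ᵁ ⊤ := le_top
    have hfl : (Spec.preimage (hV.fromSpec ≫ i ≫ f)).hom.Flat := by
      rw [← HasRingHomProperty.Spec_iff (P := @Flat), Spec.map_preimage]
      haveI := hflat
      infer_instance
    have heq : Spec.preimage (hV.fromSpec ≫ i ≫ f) = α U ≫ i.app U.1 := by
      apply Spec.map_injective
      rw [Spec.map_preimage, Spec.map_comp, hα, ← Category.assoc, ← Category.assoc]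
      congr 1
      rw [Scheme.Hom.app_eq_appLE, IsAffineOpen.SpecMap_appLE_fromSpec]
    rw [heq, CommRingCat.hom_comp] at hfl
    algebraize [(i.app U.1).hom.comp (α U).hom]
    haveI : Module.Flat A Γ(Z, i ⁻¹ᵁ U.1) := RingHom.flat_algebraMap_iff.1 hfl
    have hreg : IsSMulRegular Γ(Z, i ⁻¹ᵁ U.1) (π ^ n) :=
      Module.Flat.isSMulRegular_of_nonZeroDivisors (mem_nonZeroDivisors_of_ne_zero (pow_ne_zero n hπ.ne_zero))
    refine hreg ?_
    show π ^ n • i.app U.1 b = π ^ n • 0
    rw [smul_zero, Algebra.smul_def]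
    show i.app U.1 (α U (π ^ n)) * i.app U.1 b = 0
    rw [← map_mul, map_pow]
    exact (congrArg (i.app U.1) hn).trans (map_zero _)

end Groth.Agent.S18266
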