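import Groth.Statements.S18267
import Groth.Agent.H6CurveCorr

set_option autoImplicit false
open CategoryTheory CategoryTheory.Limits AlgebraicGeometry
open ZCorr

namespace Groth.Agent.S18267

open CategoryTheory CategoryTheory.Limits AlgebraicGeometry

open Groth.Agent

/-- Over the complex numbers, suppose C is a quasi-projective curve that is smooth and irreducible and X
is a projective variety that is smooth and irreducible; take Z to be an integral closed subscheme of
C × X of dimension one whose projection to C is surjective (a non-vertical irreducible component of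
a correspondence from C to X). Then the projection Z → C is finite and flat. -/
theorem result
    (C X : Scheme.{0}) [C.Over (Spec (CommRingCat.of ℂ))] [X.Over (Spec (CommRingCat.of ℂ))]
    [AlgebraicGeometry.IsIntegral C] [Smooth (C ↘ Spec (CommRingCat.of ℂ))] (hC : RelProj.IsHQuasiProjective (C ↘ Spec (CommRingCat.of ℂ)))
    (hdimC : topologicalKrullDim C = 1)
    [AlgebraicGeometry.IsIntegral X] [Smooth (X ↘ Spec (CommRingCat.of ℂ))] (hX : RelProj.IsHProjective (X ↘ Spec (CommRingCat.of ℂ)))
    {Z : Scheme.{0}} (i : Z ⟶ pullback (C ↘ Spec (CommRingCat.of ℂ)) (X ↘ Spec (CommRingCat.of ℂ))) [IsClosedImmersion i]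
    [AlgebraicGeometry.IsIntegral Z] (hdimZ : topologicalKrullDim Z = 1)
    (hsurj : Function.Surjective ⇑(i ≫ pullback.fst (C ↘ Spec (CommRingCat.of ℂ)) (X ↘ Spec (CommRingCat.of ℂ)))) :
    IsFinite (i ≫ pullback.fst (C ↘ Spec (CommRingCat.of ℂ)) (X ↘ Spec (CommRingCat.of ℂ))) ∧
      Flat (i ≫ pullback.fst (C ↘ Spec (CommRingCat.of ℂ)) (X ↘ Spec (CommRingCat.of ℂ))) := by
  haveI : IsProper (X ↘ Spec (CommRingCat.of ℂ)) := (ProjBundleLib.isProper_of_isHProjective hX).2
  haveI : IsLocallyNoetherian C :=
    LocallyOfFiniteType.isLocallyNoetherian (C ↘ Spec (CommRingCat.of ℂ))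
  haveI : QuasiCompact (C ↘ Spec (CommRingCat.of ℂ)) := by
    obtain ⟨n, j, hj, hq, e⟩ := hC
    rw [← e]
    infer_instance
  haveI : CompactSpace C := QuasiCompact.compactSpace_of_compactSpace (C ↘ Spec (CommRingCat.of ℂ))
  haveI : IsNoetherian C := { }
  set f := i ≫ pullback.fst (C ↘ Spec (CommRingCat.of ℂ)) (X ↘ Spec (CommRingCat.of ℂ)) with hf
  haveI : IsProper f := by rw [hf]; infer_instance
  haveI : IsLocallyNoetherian Z := LocallyOfFiniteType.isLocallyNoetherian f
  haveI : CompactSpace Z := QuasiCompact.compactSpace_of_compactSpace f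
  haveI : IsNoetherian Z := { }
  haveI : LocallyQuasiFinite f :=
    LocallyQuasiFinite.of_finite_preimage_singleton f
      (H6CurveCorr.finite_preimage f hsurj hdimZ.le hdimC)
  haveI : IsDominant f := ⟨hsurj.denseRange⟩
  exact ⟨IsFinite.iff_isProper_and_locallyQuasiFinite f |>.mpr ⟨inferInstance, inferInstance⟩,
    H6CurveCorr.flat (k := ℂ) f hdimC.le⟩


end Groth.Agent.S18267
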