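import Groth.Statements.S18268
import Groth.Agent.CycLib.Shift
import Groth.Agent.CycLib.DivPull
import Groth.Agent.CycLib.FieldSetup
import Groth.Agent.CycLib.IntPull
import Groth.Agent.HSLib.Dim
import Groth.Agent.ProjBundleLib.HProj
import Groth.Agent.BivarLib.Basic
-- import your own Groth.Agent.* helpers here

set_option autoImplicit false
set_option linter.style.haveILetI false
set_option maxHeartbeats 800000
set_option backward.isDefEq.respectTransparency false
open CategoryTheory CategoryTheory.Limits AlgebraicGeometry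
open ZCorr

namespace Groth.Agent.S18268

open Groth.Agent AlgEqCyc

/-- A finite closed set in a Jacobson space consists of closed points. -/
theorem isClosed_singleton_of_finite {T : Type*} [TopologicalSpace T] [JacobsonSpace T] {F : Set T}
    (hF : IsClosed F) (hfin : F.Finite) {y : T} (hy : y ∈ F) : IsClosed ({y} : Set T) := by
  have h1 : IsClosed (F ∩ closedPoints T) := by
    rw [← Set.biUnion_of_singleton (F ∩ closedPoints T)]
    exact (hfin.subset Set.inter_subset_left).isClosed_biUnion fun z hz => hz.2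
  have h2 : F ∩ closedPoints T = F := h1.closure_eq.symm.trans (closure_inter_closedPoints hF)
  exact (h2.ge hy).2

/-- The multiplicity of a fibre at an isolated point is positive. -/
theorem fibreMult_ne_zero {P C : Scheme.{0}} [IsLocallyNoetherian P] (g : P ⟶ C) (v w : P) (h : w ⤳ v)
    (hiso : ∀ y : P, w ⤳ y → y ⤳ v → g y = g v → y = v) : fibreMult g v w h ≠ 0 := by
  let B := P.presheaf.stalk v
  let m := IsLocalRing.maximalIdeal (C.presheaf.stalk (g v))
  let J : Ideal (Cyc.LocQuot v w h) :=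
    m.map ((Ideal.Quotient.mk (RingHom.ker (Cyc.specMap v w h))).comp (g.stalkMap v).hom)
  haveI : Module.Finite B (Cyc.LocQuot v w h ⧸ J) :=
    Module.Finite.of_surjective ((Ideal.Quotient.mkₐ B J).toLinearMap ∘ₗ (Ideal.Quotient.mkₐ B (RingHom.ker (Cyc.specMap v w h))).toLinearMap)
      (Ideal.Quotient.mk_surjective.comp Ideal.Quotient.mk_surjective)
  have hann : ∀ a : B, (Ideal.Quotient.mk (RingHom.ker (Cyc.specMap v w h)) a ∈ J) →
      a ∈ Module.annihilator B (Cyc.LocQuot v w h ⧸ J) := fun a ha => Module.mem_annihilator.2 fun z => by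
    obtain ⟨z, rfl⟩ := Ideal.Quotient.mk_surjective z
    show Ideal.Quotient.mk J (a • z) = 0
    rw [Ideal.Quotient.eq_zero_iff_mem, Algebra.smul_def]
    exact Ideal.mul_mem_right _ _ ha
  have hJ : J ≠ ⊤ := fun e => by
    have h1 : J ≤ (IsLocalRing.maximalIdeal B).map (Ideal.Quotient.mk (RingHom.ker (Cyc.specMap v w h))) := by
      show m.map _ ≤ _
      rw [← Ideal.map_map]
      exact Ideal.map_mono (Ideal.map_le_iff_le_comap.2 fun a ha => by
        rw [Ideal.mem_comap, IsLocalRing.mem_maximalIdeal]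
        exact fun hu => (IsLocalRing.mem_maximalIdeal a).1 ha (IsLocalHom.map_nonunit (f := (g.stalkMap v).hom) a hu))
    rw [e, top_le_iff] at h1
    have h2 := congrArg (Ideal.comap (Ideal.Quotient.mk (RingHom.ker (Cyc.specMap v w h)))) h1
    rw [Ideal.comap_map_of_surjective _ Ideal.Quotient.mk_surjective, ← RingHom.ker_eq_comap_bot, Ideal.mk_ker,
      Ideal.comap_top, sup_eq_left.2 (IsLocalRing.le_maximalIdeal (RingHom.ker_ne_top _))] at h2
    exact (IsLocalRing.maximalIdeal.isMaximal _).ne_top h2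
  haveI : Nontrivial (Cyc.LocQuot v w h ⧸ J) := Ideal.Quotient.nontrivial_iff.2 hJ
  have htop : Module.length B (Cyc.LocQuot v w h ⧸ J) ≠ ⊤ := by
    refine HSLib.length_ne_top_of_support fun p hp => ?_
    have hle := Module.mem_support_iff_of_finite.1 hp
    have h1 : RingHom.ker (Cyc.specMap v w h) ≤ p.asIdeal := fun a ha => hle (hann a (by
      rw [Ideal.Quotient.eq_zero_iff_mem.2 ha]
      exact zero_mem _))
    have h2 : m.map (g.stalkMap v).hom ≤ p.asIdeal := Ideal.map_le_iff_le_comap.2 fun a ha =>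
      hle (hann _ (Ideal.mem_map_of_mem _ ha))
    obtain ⟨Q, rfl⟩ := CycLib.exists_fromSpecStalk h
    rw [CycLib.ker_specMap_eq Q h] at h1
    have hsp : P.fromSpecStalk v Q ⤳ P.fromSpecStalk v p := (CycLib.fromSpecStalk_specializes_iff Q p).2 h1
    have hg : g (P.fromSpecStalk v p) = g v := (CycLib.apply_fromSpecStalk_eq_iff g p).2 (by
      refine le_trans (le_of_eq ?_) h2
      rfl)
    rw [show p = IsLocalRing.closedPoint B from (P.fromSpecStalk v).isEmbedding.injective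
      ((hiso _ hsp (CycLib.fromSpecStalk_specializes p) hg).trans Scheme.fromSpecStalk_closedPoint.symm)]
    exact IsLocalRing.maximalIdeal.isMaximal B
  unfold fibreMult
  intro h0
  exact ((ENat.toNat_eq_zero).1 h0).elim Module.length_pos.ne' htop

/-- Over the complex numbers let W be a smooth irreducible quasi-projective variety of dimension n, X a
smooth irreducible projective variety and Γ an n-cycle on X × W, viewed as a correspondence from W
to X, with no vertical component (every point of the support of Γ maps to the generic point of W).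
If there is a nonempty open U ⊂ W over whose points the closures of the support points of Γ have
finite fibres, and such that for every complex point u of U the fibre cycle Γ_u on X vanishes, then
Γ = 0. Here Γ_u is the sum, over the support points ξ of Γ with coefficient Γ(ξ), of the fundamental
cycles of the scheme-theoretic fibres over u of the closures of ξ, read on X (the cycle-level fibre
of the family at u; it agrees with the refined intersection of Γ with X × {u} where the components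
are flat over u and has the same support wherever they are finite over u). -/
theorem result
    (W X : Scheme.{0}) [W.Over (Spec (CommRingCat.of ℂ))] [X.Over (Spec (CommRingCat.of ℂ))]
    [AlgebraicGeometry.IsIntegral W] [Smooth (W ↘ Spec (CommRingCat.of ℂ))] (hW : RelProj.IsHQuasiProjective (W ↘ Spec (CommRingCat.of ℂ)))
    (n : ℕ) (hdimW : topologicalKrullDim W = n)
    [AlgebraicGeometry.IsIntegral X] [Smooth (X ↘ Spec (CommRingCat.of ℂ))] (hX : RelProj.IsHProjective (X ↘ Spec (CommRingCat.of ℂ)))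
    (δ : ↥(pullback (X ↘ Spec (CommRingCat.of ℂ)) (W ↘ Spec (CommRingCat.of ℂ))) → ℤ)
    (hδ : Cyc.DeltaCompat (pullback.fst (X ↘ Spec (CommRingCat.of ℂ)) (W ↘ Spec (CommRingCat.of ℂ)) ≫ (X ↘ Spec (CommRingCat.of ℂ))) δ (fun _ => 0))
    (Γ : AlgebraicCycle (pullback (X ↘ Spec (CommRingCat.of ℂ)) (W ↘ Spec (CommRingCat.of ℂ))) ℤ)
    (hΓ : Γ ∈ Cyc.Zk (pullback (X ↘ Spec (CommRingCat.of ℂ)) (W ↘ Spec (CommRingCat.of ℂ))) δ n)
    (hvert : ∀ ξ, Γ ξ ≠ 0 → pullback.snd (X ↘ Spec (CommRingCat.of ℂ)) (W ↘ Spec (CommRingCat.of ℂ)) ξ = genericPoint W)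
    (U : W.Opens) (hU : (U : Set W).Nonempty)
    (hfin : ∀ ξ, Γ ξ ≠ 0 → ∀ w ∈ U,
      (closure {ξ} ∩ pullback.snd (X ↘ Spec (CommRingCat.of ℂ)) (W ↘ Spec (CommRingCat.of ℂ)) ⁻¹' {w}).Finite)
    (hzero : ∀ (u : Spec (CommRingCat.of ℂ) ⟶ W) (hu : u ≫ (W ↘ Spec (CommRingCat.of ℂ)) = 𝟙 _),
      u (IsLocalRing.closedPoint ℂ) ∈ U →
        ∀ x : X, AlgEqCyc.fibreFun (X ↘ Spec (CommRingCat.of ℂ)) (W ↘ Spec (CommRingCat.of ℂ)) Γ u hu x = 0) :
    Γ = 0 := by
  classical
  haveI : IsProper (X ↘ Spec (CommRingCat.of ℂ)) := (ProjBundleLib.isProper_of_isHProjective hX).2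
  obtain ⟨N, i, hi, hiqc, hib⟩ := hW
  haveI := hi
  haveI := hiqc
  haveI : QuasiCompact (W ↘ Spec (CommRingCat.of ℂ)) := by rw [← hib]; infer_instance
  haveI : IsSeparated (W ↘ Spec (CommRingCat.of ℂ)) := by rw [← hib]; infer_instance
  letI : (pullback (X ↘ Spec (CommRingCat.of ℂ)) (W ↘ Spec (CommRingCat.of ℂ))).Over (Spec (CommRingCat.of ℂ)) := ⟨pullback.fst (X ↘ Spec (CommRingCat.of ℂ)) (W ↘ Spec (CommRingCat.of ℂ)) ≫ (X ↘ Spec (CommRingCat.of ℂ))⟩
  haveI : LocallyOfFiniteType ((pullback (X ↘ Spec (CommRingCat.of ℂ)) (W ↘ Spec (CommRingCat.of ℂ))) ↘ Spec (CommRingCat.of ℂ)) :=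
    (inferInstance : LocallyOfFiniteType (pullback.fst (X ↘ Spec (CommRingCat.of ℂ)) (W ↘ Spec (CommRingCat.of ℂ)) ≫ (X ↘ Spec (CommRingCat.of ℂ))))
  haveI : IsLocallyNoetherian (pullback (X ↘ Spec (CommRingCat.of ℂ)) (W ↘ Spec (CommRingCat.of ℂ))) := LocallyOfFiniteType.isLocallyNoetherian (pullback.fst (X ↘ Spec (CommRingCat.of ℂ)) (W ↘ Spec (CommRingCat.of ℂ)) ≫ (X ↘ Spec (CommRingCat.of ℂ)))
  haveI : JacobsonSpace ↥(pullback (X ↘ Spec (CommRingCat.of ℂ)) (W ↘ Spec (CommRingCat.of ℂ))) := LocallyOfFiniteType.jacobsonSpace (pullback.fst (X ↘ Spec (CommRingCat.of ℂ)) (W ↘ Spec (CommRingCat.of ℂ)) ≫ (X ↘ Spec (CommRingCat.of ℂ)))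
  haveI : JacobsonSpace W := LocallyOfFiniteType.jacobsonSpace (W ↘ Spec (CommRingCat.of ℂ))
  haveI : CompactSpace ↥(pullback (X ↘ Spec (CommRingCat.of ℂ)) (W ↘ Spec (CommRingCat.of ℂ))) := QuasiCompact.compactSpace_of_compactSpace (pullback.fst (X ↘ Spec (CommRingCat.of ℂ)) (W ↘ Spec (CommRingCat.of ℂ)) ≫ (X ↘ Spec (CommRingCat.of ℂ)))
  have hsP : Cyc.IsSetup (pullback (X ↘ Spec (CommRingCat.of ℂ)) (W ↘ Spec (CommRingCat.of ℂ))) δ := CycLib.isSetup_of_field ℂ δ hδ
  have hfinΓ : (Function.support Γ).Finite := by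
    have := Γ.locallyFiniteSupport.finite_inter_support_of_isCompact (isCompact_univ (X := ↥(pullback (X ↘ Spec (CommRingCat.of ℂ)) (W ↘ Spec (CommRingCat.of ℂ)))))
    rwa [Set.univ_inter] at this
  by_contra hne
  obtain ⟨ξ₀, hξ₀⟩ : ∃ ξ, Γ ξ ≠ 0 := by
    by_contra h
    push Not at h
    exact hne (Function.locallyFinsuppWithin.ext fun ξ => h ξ)
  -- the bad set of the base
  let bad : Set W := ⋃ ξ ∈ Function.support Γ \ {ξ₀}, (pullback.snd (X ↘ Spec (CommRingCat.of ℂ)) (W ↘ Spec (CommRingCat.of ℂ))) '' (closure {ξ₀} ∩ closure {ξ})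
  have hbad : IsClosed bad := ((hfinΓ.sdiff).isClosed_biUnion fun ξ _ =>
    (pullback.snd (X ↘ Spec (CommRingCat.of ℂ)) (W ↘ Spec (CommRingCat.of ℂ))).isClosedMap _ (isClosed_closure.inter isClosed_closure))
  have hgenbad : genericPoint W ∉ bad := by
    intro hmem
    obtain ⟨ξ, ⟨hξ, hξne⟩, y, ⟨hy₀, hy⟩, hgy⟩ := Set.mem_iUnion₂.1 hmem
    have hξ₀y := specializes_iff_mem_closure.2 hy₀
    have hξy := specializes_iff_mem_closure.2 hy
    have hne₀ : ξ₀ ≠ y := fun e => hξne (by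
      have hd := fun w (hw : Γ w ≠ 0) => show δ w = n by
        by_contra h
        exact hw (hΓ w h)
      by_contra hne'
      have h1 := (hsP.2.2 ξ y hξy (fun e' => hne' (by show ξ = ξ₀; rw [e', ← e]))).1
      rw [← e, hd ξ hξ, hd ξ₀ hξ₀] at h1
      exact lt_irrefl _ h1)
    have h1 := (hsP.2.2 ξ₀ y hξ₀y hne₀).1
    obtain ⟨δW, hδW⟩ := CycLib.exists_delta ℂ W
    have hgd : Cyc.DeltaCompat (pullback.snd (X ↘ Spec (CommRingCat.of ℂ)) (W ↘ Spec (CommRingCat.of ℂ))) δ δW := BivarLib.deltaCompat_of_comp (pullback.snd (X ↘ Spec (CommRingCat.of ℂ)) (W ↘ Spec (CommRingCat.of ℂ))) (W ↘ Spec (CommRingCat.of ℂ)) (pullback.condition (f := (X ↘ Spec (CommRingCat.of ℂ))) (g := (W ↘ Spec (CommRingCat.of ℂ))) ▸ hδ) hδW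
    obtain ⟨a, -, ha⟩ := hgd y
    obtain ⟨t, ht, htd⟩ := CycLib.delta_dim ℂ δW hδW (genericPoint W)
    have hgen : δW (genericPoint W) = n := by
      rw [ht]
      have h2 : topologicalKrullDim ↥(closure ({genericPoint W} : Set W)) = topologicalKrullDim W := by
        rw [show closure ({genericPoint W} : Set W) = Set.univ from (genericPoint_spec W).def]
        exact IsHomeomorph.topologicalKrullDim_eq _ (Homeomorph.Set.univ W).isHomeomorph
      rw [htd, hdimW] at h2
      exact_mod_cast h2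
    rw [show (pullback.snd (X ↘ Spec (CommRingCat.of ℂ)) (W ↘ Spec (CommRingCat.of ℂ))) y = genericPoint W from hgy, hgen] at ha
    have h3 : δ ξ₀ = n := by
      by_contra h
      exact hξ₀ (hΓ ξ₀ h)
    omega
  obtain ⟨u, ⟨huU, hubad⟩, huc⟩ := nonempty_inter_closedPoints (Z := (U : Set W) ∩ badᶜ)
    ⟨genericPoint W, ((genericPoint_spec W).mem_open_set_iff U.2).2 (by simpa using hU), hgenbad⟩
    (U.2.inter hbad.isOpen_compl).isLocallyClosed
  let F : Set ↥(pullback (X ↘ Spec (CommRingCat.of ℂ)) (W ↘ Spec (CommRingCat.of ℂ))) := closure {ξ₀} ∩ (pullback.snd (X ↘ Spec (CommRingCat.of ℂ)) (W ↘ Spec (CommRingCat.of ℂ))) ⁻¹' {u}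
  have hFc : IsClosed F := isClosed_closure.inter (huc.preimage (pullback.snd (X ↘ Spec (CommRingCat.of ℂ)) (W ↘ Spec (CommRingCat.of ℂ))).continuous)
  have hFfin : F.Finite := hfin ξ₀ hξ₀ u huU
  obtain ⟨v, hv⟩ : F.Nonempty := by
    have hc : IsClosed ((pullback.snd (X ↘ Spec (CommRingCat.of ℂ)) (W ↘ Spec (CommRingCat.of ℂ))) '' closure ({ξ₀} : Set ↥(pullback (X ↘ Spec (CommRingCat.of ℂ)) (W ↘ Spec (CommRingCat.of ℂ))))) := (pullback.snd (X ↘ Spec (CommRingCat.of ℂ)) (W ↘ Spec (CommRingCat.of ℂ))).isClosedMap _ isClosed_closure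
    obtain ⟨y, hy, hyu⟩ := hc.closure_subset_iff.2 (Set.singleton_subset_iff.2 ⟨ξ₀, subset_closure rfl, rfl⟩)
      (show u ∈ closure ({(pullback.snd (X ↘ Spec (CommRingCat.of ℂ)) (W ↘ Spec (CommRingCat.of ℂ))) ξ₀} : Set W) by
        rw [hvert ξ₀ hξ₀, (genericPoint_spec W).def]
        trivial)
    exact ⟨y, hy, hyu⟩
  have hvc : IsClosed ({v} : Set ↥(pullback (X ↘ Spec (CommRingCat.of ℂ)) (W ↘ Spec (CommRingCat.of ℂ)))) := isClosed_singleton_of_finite hFc hFfin hv
  let t := pointOfClosedPoint (W ↘ Spec (CommRingCat.of ℂ)) u huc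
  have ht : t ≫ (W ↘ Spec (CommRingCat.of ℂ)) = 𝟙 _ := pointOfClosedPoint_comp (W ↘ Spec (CommRingCat.of ℂ)) u huc
  let T := pointOfClosedPoint (pullback.fst (X ↘ Spec (CommRingCat.of ℂ)) (W ↘ Spec (CommRingCat.of ℂ)) ≫ (X ↘ Spec (CommRingCat.of ℂ))) v hvc
  have hT : T ≫ pullback.fst (X ↘ Spec (CommRingCat.of ℂ)) (W ↘ Spec (CommRingCat.of ℂ)) ≫ (X ↘ Spec (CommRingCat.of ℂ)) = 𝟙 _ := pointOfClosedPoint_comp _ v hvc
  have hTv : T (IsLocalRing.closedPoint ℂ) = v := pointOfClosedPoint_apply _ v hvc _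
  have hTg : T ≫ (pullback.snd (X ↘ Spec (CommRingCat.of ℂ)) (W ↘ Spec (CommRingCat.of ℂ))) = t := by
    refine ext_of_apply_closedPoint_eq (W ↘ Spec (CommRingCat.of ℂ)) ?_ ht ?_
    · rw [Category.assoc, ← pullback.condition, hT]
    · show (T ≫ (pullback.snd (X ↘ Spec (CommRingCat.of ℂ)) (W ↘ Spec (CommRingCat.of ℂ)))) (IsLocalRing.closedPoint ℂ) = t (IsLocalRing.closedPoint ℂ)
      rw [Scheme.Hom.comp_apply, hTv, pointOfClosedPoint_apply]
      exact hv.2
  have hsl : slice (X ↘ Spec (CommRingCat.of ℂ)) (W ↘ Spec (CommRingCat.of ℂ)) t ht (pullback.fst (X ↘ Spec (CommRingCat.of ℂ)) (W ↘ Spec (CommRingCat.of ℂ)) v) = v := by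
    have e : T ≫ pullback.fst (X ↘ Spec (CommRingCat.of ℂ)) (W ↘ Spec (CommRingCat.of ℂ)) ≫ slice (X ↘ Spec (CommRingCat.of ℂ)) (W ↘ Spec (CommRingCat.of ℂ)) t ht = T := by
      apply pullback.hom_ext
      · simp only [slice, Category.assoc, pullback.lift_fst, Category.comp_id]
      · simp only [slice, Category.assoc, pullback.lift_snd]
        rw [← Category.assoc (pullback.fst (X ↘ Spec (CommRingCat.of ℂ)) (W ↘ Spec (CommRingCat.of ℂ))), ← Category.assoc T, hT, Category.id_comp, ← hTg]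
    conv_rhs => rw [← hTv, ← e]
    rw [Scheme.Hom.comp_apply, Scheme.Hom.comp_apply, hTv]
  have hsum := hzero t ht (by rw [pointOfClosedPoint_apply]; exact huU) (pullback.fst (X ↘ Spec (CommRingCat.of ℂ)) (W ↘ Spec (CommRingCat.of ℂ)) v)
  have h₀ : ξ₀ ⤳ slice (X ↘ Spec (CommRingCat.of ℂ)) (W ↘ Spec (CommRingCat.of ℂ)) t ht (pullback.fst (X ↘ Spec (CommRingCat.of ℂ)) (W ↘ Spec (CommRingCat.of ℂ)) v) := by
    rw [hsl]
    exact specializes_iff_mem_closure.2 hv.1
  rw [fibreFun, finsum_eq_single _ ⟨ξ₀, hξ₀, h₀⟩ (fun w hw => ?_)] at hsum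
  · rcases mul_eq_zero.1 hsum with h | h
    · exact hξ₀ h
    · refine fibreMult_ne_zero (pullback.snd (X ↘ Spec (CommRingCat.of ℂ)) (W ↘ Spec (CommRingCat.of ℂ))) _ ξ₀ h₀ (fun y hy1 hy2 hgy => ?_) (by exact_mod_cast h)
      have hyF : y ∈ F := ⟨specializes_iff_mem_closure.1 hy1, by rw [Set.mem_preimage, hgy, hsl]; exact hv.2⟩
      exact (hy2.mem_closed (isClosed_singleton_of_finite hFc hFfin hyF) rfl).symm
  · refine absurd (Subtype.ext ?_) hw
    by_contra hne'
    refine hubad (Set.mem_iUnion₂.2 ⟨w.1, ⟨w.2.1, hne'⟩, v, ⟨hv.1, ?_⟩, hv.2⟩)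
    exact specializes_iff_mem_closure.1 (w.2.2.trans (specializes_of_eq hsl))

end Groth.Agent.S18268
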