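import Groth.Statements.S18272
import Groth.Agent.MonoFibre.RedSubgroup
import Groth.Agent.GrpSchLib.ZeroTangent
import Groth.Agent.S7596
import Groth.Agent.AVLib.Isogeny
-- import your own Groth.Agent.* helpers here

set_option autoImplicit false
open CategoryTheory MonoidalCategory CartesianMonoidalCategory MonObj GrpObj AlgebraicGeometry
open AbVar CategoryTheory.Limits

namespace Groth.Agent.S18272

/-- Let A be an abelian variety over the complex numbers (a proper integral group scheme over Spec of
the complex numbers), G an abstract group and f : A(ℂ) → G a homomorphism from the group of complex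
points. If V ⊂ A is an irreducible closed subset containing the neutral element and every complex
point lying in V is in the kernel of f, then there is an abelian subvariety A' ⊂ A (an integral
closed subgroup scheme) containing V and with all its complex points in the kernel of f. -/
theorem result
    (A : Over (Spec (CommRingCat.of ℂ))) [GrpObj A] [IsProper A.hom] [AlgebraicGeometry.IsIntegral A.left]
    (G : Type) [Group G] (f : (𝟙_ (Over (Spec (CommRingCat.of ℂ))) ⟶ A) →* G)
    (V : Set ↥A.left) (hVcl : IsClosed V) (hVirr : IsIrreducible V)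
    (hV1 : Set.range ⇑(η[A]).left ⊆ V)
    (hVker : ∀ a : 𝟙_ (Over (Spec (CommRingCat.of ℂ))) ⟶ A, Set.range ⇑a.left ⊆ V → f a = 1) :
    ∃ (B : Over (Spec (CommRingCat.of ℂ))) (_ : GrpObj B) (incl : B ⟶ A), IsMonHom incl ∧ IsClosedImmersion incl.left ∧
      AlgebraicGeometry.IsIntegral B.left ∧ V ⊆ Set.range ⇑incl.left ∧
      ∀ b : 𝟙_ (Over (Spec (CommRingCat.of ℂ))) ⟶ B, f (b ≫ incl) = 1 := by
  classical
  let K := CommRingCat.of ℂ
  let pt : ↥(Spec K) := IsLocalRing.closedPoint ℂ
  haveI : Subsingleton ↥(Spec K) := inferInstanceAs (Subsingleton (PrimeSpectrum ℂ))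
  haveI : IsLocallyNoetherian A.left := LocallyOfFiniteType.isLocallyNoetherian A.hom
  haveI : CompactSpace A.left := QuasiCompact.compactSpace_of_compactSpace A.hom
  haveI : IsNoetherian A.left := ⟨⟩
  -- the subsets under consideration
  let P : Set A.left → Prop := fun W => IsClosed W ∧ IsIrreducible W ∧ V ⊆ W ∧
    ∀ a : 𝟙_ (Over (Spec K)) ⟶ A, a.left pt ∈ W → f a = 1
  -- products of closed irreducible subsets
  let m : A ⊗ A ⟶ A := fst A A * (snd A A)⁻¹
  have hnext : ∀ W, P W → W ⊆ m.left '' ((fst A A).left ⁻¹' W ∩ (snd A A).left ⁻¹' W) ∧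
      P (m.left '' ((fst A A).left ⁻¹' W ∩ (snd A A).left ⁻¹' W)) := by
    rintro W ⟨hW, hWi, hVW, hWk⟩
    let I := Scheme.IdealSheafData.vanishingIdeal (⟨W, hW⟩ : TopologicalSpace.Closeds A.left)
    let X : Over (Spec K) := Over.mk (I.subschemeι ≫ A.hom)
    let i : X ⟶ A := Over.homMk I.subschemeι rfl
    haveI : IsClosedImmersion i.left := inferInstanceAs (IsClosedImmersion I.subschemeι)
    have hr : Set.range i.left = W := by
      show Set.range I.subschemeι = W
      rw [Scheme.IdealSheafData.range_subschemeι, Scheme.IdealSheafData.coe_support_vanishingIdeal]; rfl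
    haveI : IsProper X.hom := by rw [← Over.w i]; infer_instance
    haveI : IrreducibleSpace X.left :=
      i.left.isEmbedding.toHomeomorph.irreducibleSpace_iff.mpr
        (isIrreducible_iff_irreducibleSpace.mp (hr.symm ▸ hWi))
    haveI : GeometricallyIrreducible X.hom := by
      letI : X.left.Over (Spec (CommRingCat.of ℂ)) := ⟨X.hom⟩
      haveI : LocallyOfFiniteType (X.left ↘ Spec (CommRingCat.of ℂ)) := inferInstanceAs (LocallyOfFiniteType X.hom)
      haveI := LocallyOfFiniteType.jacobsonSpace (X.left ↘ Spec (CommRingCat.of ℂ))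
      refine Groth.Agent.S7596.result ℂ X.left ((dense_iff_closure_eq.2 closure_closedPoints).mono fun x hx => ?_)
      have e : CommRingCat.ofHom (Curv2.resMap ℂ X.left x) =
          (residueFieldIsoBase (X.left ↘ Spec (CommRingCat.of ℂ)) x hx).inv :=
        Spec.map_injective ((GeomIrred.spec_resMap ℂ X.left x).trans
          (SpecMap_residueFieldIsoBase_inv (X.left ↘ Spec (CommRingCat.of ℂ)) x hx).symm)
      have := ConcreteCategory.bijective_of_isIso (residueFieldIsoBase (X.left ↘ Spec (CommRingCat.of ℂ)) x hx).inv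
      rw [← e] at this
      exact this.2
    haveI : IrreducibleSpace ↥(pullback X.hom X.hom) := by
      haveI : Flat X.hom := inferInstance
      infer_instance
    have hXX : IrreducibleSpace (X ⊗ X).left := ‹IrreducibleSpace ↥(pullback X.hom X.hom)›
    have hSr : (fst A A).left ⁻¹' W ∩ (snd A A).left ⁻¹' W = Set.range (i ⊗ₘ i).left := by
      have e : (i ⊗ₘ i).left = pullback.map X.hom X.hom A.hom A.hom i.left i.left (𝟙 _) (by simp) (by simp) := by
        apply pullback.hom_ext
        · rw [pullback.lift_fst]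
          exact congrArg CommaMorphism.left (tensorHom_fst i i)
        · rw [pullback.lift_snd]
          exact congrArg CommaMorphism.left (tensorHom_snd i i)
      rw [e, Scheme.Pullback.range_map, hr]
      rfl
    set S := (fst A A).left ⁻¹' W ∩ (snd A A).left ⁻¹' W with hS
    have hSc : IsClosed S := (hW.preimage (fst A A).left.continuous).inter (hW.preimage (snd A A).left.continuous)
    haveI hmp : IsProper m.left := by
      haveI : IsProper (A ⊗ A).hom := by
        rw [← Over.w (snd A A)]
        haveI : IsProper (snd A A).left := MorphismProperty.pullback_snd (P := @IsProper) A.hom A.hom inferInstance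
        infer_instance
      haveI : IsProper (m.left ≫ A.hom) := by rw [Over.w m]; infer_instance
      exact IsProper.of_comp m.left A.hom
    have hWS : W ⊆ m.left '' S := by
      intro a ha
      let c : A ⟶ A ⊗ A := lift (𝟙 A) (toUnit A ≫ η[A])
      refine ⟨c.left a, ⟨?_, ?_⟩, ?_⟩
      · show (c ≫ fst A A).left a ∈ W
        rw [lift_fst]; exact ha
      · show (c ≫ snd A A).left a ∈ W
        rw [lift_snd]
        exact hVW (hV1 ⟨_, rfl⟩)
      · show (c ≫ m).left a = a
        rw [MonObj.comp_mul, GrpObj.comp_inv, lift_fst, lift_snd, ← Hom.one_def, inv_one, _root_.mul_one]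
        rfl
    refine ⟨hWS, m.left.isClosedMap _ hSc, ?_, hVW.trans hWS, ?_⟩
    · rw [hSr, ← Set.range_comp, ← Set.image_univ]
      exact ((IrreducibleSpace.isIrreducible_univ _).image _
        (m.left.continuous.comp (i ⊗ₘ i).left.continuous).continuousOn)
    · intro a ha
      haveI : LocallyOfFiniteType (A ⊗ A).hom := by
        rw [← Over.w (snd A A)]
        haveI : LocallyOfFiniteType (snd A A).left :=
          MorphismProperty.pullback_snd (P := @LocallyOfFiniteType) A.hom A.hom inferInstance
        infer_instance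
      haveI := LocallyOfFiniteType.jacobsonSpace (A ⊗ A).hom
      have hac : IsClosed ({a.left pt} : Set A.left) := ((pointEquivClosedPoint A.hom) ⟨a.left, Over.w a⟩).2
      obtain ⟨s, hs, hsc⟩ := nonempty_inter_closedPoints (Z := S ∩ m.left ⁻¹' {a.left pt})
        (by obtain ⟨s, hs, hse⟩ := ha; exact ⟨s, hs, hse⟩)
        (hSc.inter (hac.preimage m.left.continuous)).isLocallyClosed
      obtain ⟨⟨q, hq⟩, hqs⟩ := (pointEquivClosedPoint (A ⊗ A).hom).surjective ⟨s, hsc⟩
      let Q : 𝟙_ (Over (Spec K)) ⟶ A ⊗ A := Over.homMk q hq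
      have hQ : Q.left pt = s := congrArg Subtype.val hqs
      have hQm : Q ≫ m = a := by
        ext1
        refine congrArg Subtype.val ((pointEquivClosedPoint A.hom).injective
          (a₁ := ⟨(Q ≫ m).left, Over.w _⟩) (a₂ := ⟨a.left, Over.w a⟩) (Subtype.ext ?_))
        show m.left (Q.left pt) = a.left pt
        rw [hQ]; exact hs.2
      rw [← hQm, MonObj.comp_mul, GrpObj.comp_inv, map_mul, map_inv,
        hWk _ (show (Q ≫ fst A A).left pt ∈ W by rw [← hQ] at hs; exact hs.1.1),
        hWk _ (show (Q ≫ snd A A).left pt ∈ W by rw [← hQ] at hs; exact hs.1.2), inv_one, _root_.mul_one]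
  have hP0 : P V := ⟨hVcl, hVirr, subset_rfl, fun a ha => hVker a (by
    rintro _ ⟨t, rfl⟩
    rwa [Subsingleton.elim (α := PrimeSpectrum ℂ) t pt])⟩
  let seq : ℕ → Set A.left := fun n =>
    (fun W => m.left '' ((fst A A).left ⁻¹' W ∩ (snd A A).left ⁻¹' W))^[n] V
  have hseq : ∀ n, P (seq n) := fun n => by
    induction n with
    | zero => exact hP0
    | succ n ih =>
      show P ((fun W => _)^[n + 1] V)
      rw [Function.iterate_succ_apply']
      exact (hnext _ ih).2
  have hmono : ∀ n, seq n ⊆ seq (n + 1) := fun n => by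
    show _ ⊆ (fun W => _)^[n + 1] V
    rw [Function.iterate_succ_apply']
    exact (hnext _ (hseq n)).1
  -- the sequence becomes stationary
  obtain ⟨N, hN⟩ : ∃ N, seq (N + 1) ⊆ seq N := by
    by_contra hcon
    push Not at hcon
    obtain ⟨d, hd⟩ : ∃ d : ℕ, topologicalKrullDim A.left < d := by
      obtain ⟨t, -, ht⟩ := FlatDim.topologicalKrullDim_closure ℂ A.hom (genericPoint A.left)
      rw [(genericPoint_spec A.left).def, (Homeomorph.Set.univ ↥A.left).isHomeomorph.topologicalKrullDim_eq] at ht
      exact ⟨t + 1, by rw [ht]; exact_mod_cast Nat.lt_succ_self t⟩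
    let ch : LTSeries (TopologicalSpace.IrreducibleCloseds A.left) :=
      { length := d
        toFun := fun j => ⟨seq j, (hseq j).2.1, (hseq j).1⟩
        step := fun j => by
          show seq _ ⊂ seq _
          exact ⟨hmono j, hcon j⟩ }
    exact absurd ((Order.LTSeries.length_le_krullDim ch)) (not_le.2 hd)
  obtain ⟨hWc, hWi, hVW, hWk⟩ := hseq N
  set W := seq N with hW
  have hclosed : m.left '' ((fst A A).left ⁻¹' W ∩ (snd A A).left ⁻¹' W) ⊆ W := by
    intro x hx
    refine hN ?_
    show x ∈ (fun W => _)^[N + 1] V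
    rw [Function.iterate_succ_apply']
    exact hx
  have h1W : ∀ {T : Over (Spec K)} (t : T.left), (1 : T ⟶ A).left t ∈ W := fun {T} t => hVW (hV1 ⟨_, rfl⟩)
  have hdiv : ∀ {T : Over (Spec K)} (a b : T ⟶ A) (t : T.left), a.left t ∈ W → b.left t ∈ W →
      (a * b⁻¹).left t ∈ W := fun {T} a b t ha hb => by
    refine hclosed ⟨(lift a b).left t, ⟨?_, ?_⟩, ?_⟩
    · show (lift a b ≫ fst A A).left t ∈ W
      rw [lift_fst]; exact ha
    · show (lift a b ≫ snd A A).left t ∈ W
      rw [lift_snd]; exact hb
    · show (lift a b ≫ m).left t = _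
      rw [MonObj.comp_mul, GrpObj.comp_inv, lift_fst, lift_snd]
  have hinv : ∀ {T : Over (Spec K)} (a : T ⟶ A) (t : T.left), a.left t ∈ W → a⁻¹.left t ∈ W := fun {T} a t ha => by
    simpa using hdiv 1 a t (h1W t) ha
  obtain ⟨B, hB, incl, hi, hci, hred, hr⟩ := MonoFibre.exists_redSubgroup W hWc (hVW (hV1 ⟨_, rfl⟩))
    (fun {T} a b t ha hb => by simpa using hdiv a b⁻¹ t ha (hinv b t hb)) hinv
  haveI := hci
  haveI := hred
  haveI : IrreducibleSpace B.left :=
    incl.left.isEmbedding.toHomeomorph.irreducibleSpace_iff.mpr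
      (isIrreducible_iff_irreducibleSpace.mp (hr.symm ▸ hWi))
  refine ⟨B, hB, incl, hi, hci, isIntegral_of_irreducibleSpace_of_isReduced _, hr.symm ▸ hVW, fun b => hWk _ ?_⟩
  rw [← hr]
  exact ⟨_, rfl⟩

end Groth.Agent.S18272
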