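import Groth.Statements.S18275
import Groth.Agent.CycLib.CurvePoints
import Groth.Agent.CycLib.PushEquiv
import Groth.Agent.CurveRigid.Curve
import Groth.Agent.NormalSch.Curve
import Groth.Agent.PicProdGrpLib.Closed
import Groth.Agent.ProjBundleLib.HProj
import Groth.Agent.BivarLib.Basic
import Groth.Agent.WeilCohLib.FixedPts
import Groth.Agent.WeilCohLib.Geom
import Groth.Agent.DimOneAffineLib.IntegralCase
-- import your own Groth.Agent.* helpers here

set_option autoImplicit false
open CategoryTheory CategoryTheory.Limits AlgebraicGeometry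
open ZCorr

namespace Groth.Agent.S18275

universe u

set_option linter.style.haveILetI false
set_option backward.isDefEq.respectTransparency false
set_option maxHeartbeats 800000

open Groth.Agent

/-- A closed set of closed points of a Noetherian scheme is finite. -/
theorem finite_of_closed_points {C : Scheme.{u}} [IsNoetherian C] {T : Set C} (hT : IsClosed T)
    (h : ∀ y ∈ T, IsClosed ({y} : Set C)) : T.Finite := by
  obtain ⟨S, hS, hSc, hSi, rfl⟩ := TopologicalSpace.NoetherianSpace.exists_finite_set_isClosed_irreducible hT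
  refine hS.sUnion fun t ht => ?_
  obtain ⟨η, hη⟩ := QuasiSober.sober (hSi t ht) (hSc t ht)
  rw [← show closure {η} = t from hη.def]
  rw [(h η ⟨t, ht, hη.mem⟩).closure_eq]
  exact Set.finite_singleton η

/-- A closed point is rationally equivalent to a zero cycle in a given open. -/
theorem exists_move_point {k : Type u} [Field k] [IsAlgClosed k] (W : Scheme.{u}) [W.Over (Spec (CommRingCat.of k))]
    [AlgebraicGeometry.IsIntegral W] [IsProper (W ↘ Spec (CommRingCat.of k))] [DecidableEq W]
    (δ : W → ℤ) (hδ : Cyc.DeltaCompat (W ↘ Spec (CommRingCat.of k)) δ (fun _ => 0))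
    (U : W.Opens) (hU : (U : Set W).Nonempty) (w : W) (hw : δ w = 0) :
    ∃ z : AlgebraicCycle W ℤ, z ∈ Cyc.Zk W δ 0 ∧ (∀ v, z v ≠ 0 → v ∈ U) ∧
      Cyc.RatEquiv δ 0 (Function.locallyFinsuppWithin.single w (1 : ℤ)) z := by
  classical
  have hsetup := CycLib.isSetup_of_field k δ hδ
  haveI := hsetup.1
  have hsingleZ : Function.locallyFinsuppWithin.single w (1 : ℤ) ∈ Cyc.Zk W δ 0 := fun v hv => by
    rw [Function.locallyFinsuppWithin.single_apply, if_neg fun e : v = w => hv (by rw [e]; exact hw)]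
  by_cases hwU : w ∈ U
  · refine ⟨_, hsingleZ, fun v hv => ?_, ?_⟩
    · rw [Function.locallyFinsuppWithin.single_apply] at hv
      split_ifs at hv with h
      · exact h ▸ hwU
      · exact absurd rfl hv
    · rw [Cyc.RatEquiv, sub_self]
      exact CycLib.ratEquivZero_zero
  have hwc : IsClosed ({w} : Set W) := (CycLib.delta_eq_zero_iff k δ hδ w).1 hw
  obtain ⟨C, hCo, hCi, hCd, hCp, hCs, U₀, φ, c, z, hφ, hc, hφc, hφz⟩ :=
    CurveRigid.exists_curve' (k := k) w hwc (↑U)ᶜ U.2.isClosed_compl hwU
      (fun e => by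
        obtain ⟨p, hp⟩ := hU
        have : p ∈ ((↑U)ᶜ : Set W) := by rw [e]; trivial
        exact this hp)
  letI := hCo
  haveI := hCi
  haveI := hCp
  haveI := hCs
  have hnormC : Pi1.IsNormalScheme C := PicProdGrp.isNormalScheme_of_smooth (C ↘ Spec (CommRingCat.of k))
  obtain ⟨ψ, ⟨hψ1, hψ2⟩, -⟩ := NormalSch.existsUnique_extension k hCd hnormC (W ↘ Spec (CommRingCat.of k)) U₀
    (U₀.2.dense ⟨c.1, c.2⟩) φ hφ
  haveI : IsProper (ψ ≫ (W ↘ Spec (CommRingCat.of k))) := by rw [hψ2]; infer_instance
  haveI : IsProper ψ := IsProper.of_comp ψ (W ↘ Spec (CommRingCat.of k))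
  obtain ⟨δC, hδC⟩ := CycLib.exists_delta k C
  have hsC := CycLib.isSetup_of_field k δC hδC
  haveI := hsC.1
  have hψd : Cyc.DeltaCompat ψ δC δ := BivarLib.deltaCompat_of_comp ψ _ (hψ2.symm ▸ hδC) hδ
  have hψc : ψ c.1 = w := by
    rw [← hφc, ← hψ1]
    rfl
  have hψz : ψ z.1 ∈ U := by
    have h1 : ψ z.1 = φ z := by rw [← hψ1]; rfl
    rw [h1]
    by_contra h
    exact hφz h
  have hc0 : δC c.1 = 0 := (CycLib.delta_eq_zero_iff k δC hδC _).2 hc
  have hgen : δC (genericPoint C) = 1 := by
    have h := (S6459.result C δC hsC c.1).1 (hCd _ hc)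
    omega
  have hpts : ∀ y : C, y ≠ genericPoint C → δC y = 0 ∧ IsClosed ({y} : Set C) := fun y hy => by
    have h1 := (hsC.2.2 _ _ (genericPoint_specializes y) (Ne.symm hy)).1
    obtain ⟨a, -, ha⟩ := hδC y
    have h2 : δC y = 0 := by
      have e : δC y = (a : ℤ) := by rw [ha]; exact zero_add _
      omega
    exact ⟨h2, (CycLib.delta_eq_zero_iff k δC hδC y).1 h2⟩
  have hgenU : ψ (genericPoint C) ∈ U :=
    ((genericPoint_specializes z.1).map ψ.continuous).mem_open U.2 hψz
  have hcgen : c.1 ≠ genericPoint C := fun e => hwU (by rw [← hψc, e]; exact hgenU)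
  haveI : CompactSpace C := QuasiCompact.compactSpace_of_compactSpace (C ↘ Spec (CommRingCat.of k))
  haveI : IsNoetherian C := {}
  set S : Set C := ψ ⁻¹' (↑U)ᶜ with hSdef
  have hSfin : S.Finite := finite_of_closed_points (U.2.isClosed_compl.preimage ψ.continuous)
    fun y hy => (hpts y fun e => hy (e ▸ hgenU)).2
  have hcS : c.1 ∈ S := fun h => hwU (by rw [← hψc]; exact h)
  haveI : C.IsSeparated := ⟨by
    rw [← terminal.comp_from (C ↘ Spec (CommRingCat.of k))]
    infer_instance⟩
  obtain ⟨V, hV, hSV⟩ := DimOneAffineLib.exists_affine_of_finite S hSfin fun y hy =>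
    ⟨inferInstance, (hCd y (hpts y fun e => hy (e ▸ hgenU)).2).le⟩
  let B := Γ(C, V)
  have hcV : c.1 ∈ V := hSV hcS
  letI : Algebra B (C.presheaf.stalk c.1) := (C.presheaf.germ V c.1 hcV).hom.toAlgebra
  haveI hloc : IsLocalization.AtPrime (C.presheaf.stalk c.1) (hV.primeIdealOf ⟨c.1, hcV⟩).asIdeal :=
    hV.isLocalization_stalk ⟨c.1, hcV⟩
  haveI : IsDomain (C.presheaf.stalk c.1) := (hnormC c.1).1
  let m := IsLocalRing.maximalIdeal (C.presheaf.stalk c.1)
  have hm2 : m ^ 2 ≠ m := fun e => by
    have h0 : m = ⊥ := Submodule.eq_bot_of_le_smul_of_le_jacobson_bot m m (IsNoetherian.noetherian m)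
      (by rw [smul_eq_mul, ← sq, e]) (IsLocalRing.maximalIdeal_le_jacobson ⊥)
    have hfield : IsField (C.presheaf.stalk c.1) := IsLocalRing.isField_iff_maximalIdeal_eq.2 h0
    have h1 := hCd c.1 hc
    rw [ringKrullDim_eq_zero_of_isField hfield] at h1
    exact zero_ne_one h1
  let pc := (hV.primeIdealOf ⟨c.1, hcV⟩).asIdeal
  let J : Ideal B := (m ^ 2).comap (algebraMap B (C.presheaf.stalk c.1))
  let F := hSfin.toFinset.erase c.1
  have hFS : ∀ y ∈ F, y ∈ V ∧ y ≠ c.1 ∧ y ∈ S := fun y hy =>
    ⟨hSV (hSfin.mem_toFinset.1 (Finset.mem_of_mem_erase hy)), Finset.ne_of_mem_erase hy,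
      hSfin.mem_toFinset.1 (Finset.mem_of_mem_erase hy)⟩
  let I : Option F → Ideal B := fun o =>
    match o with
    | none => J
    | some y => (hV.primeIdealOf ⟨y.1, (hFS y.1 y.2).1⟩).asIdeal
  obtain ⟨t, htc, htI⟩ : ∃ t ∈ pc, ∀ o, t ∉ I o := by
    by_contra hcon
    push Not at hcon
    have hsub : (pc : Set B) ⊆ ⋃ o ∈ ((Finset.univ : Finset (Option F)) : Set (Option F)), (I o : Set B) :=
      fun t ht => by
        obtain ⟨o, ho⟩ := hcon t ht
        exact Set.mem_iUnion₂.2 ⟨o, Finset.mem_coe.2 (Finset.mem_univ o), ho⟩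
    obtain ⟨o, -, ho⟩ := (Ideal.subset_union_prime none none (fun o _ hne _ => by
      cases o with
      | none => exact absurd rfl hne
      | some y => exact (hV.primeIdealOf ⟨y.1, (hFS y.1 y.2).1⟩).isPrime)).1 hsub
    cases o with
    | none =>
      refine hm2 (le_antisymm (Ideal.pow_le_self two_ne_zero) ?_)
      have h1 := Ideal.map_mono (f := algebraMap B (C.presheaf.stalk c.1)) ho
      rw [IsLocalization.AtPrime.map_eq_maximalIdeal pc (C.presheaf.stalk c.1)] at h1
      exact h1.trans Ideal.map_comap_le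
    | some y =>
      obtain ⟨hyV, hyc, hyS⟩ := hFS y.1 y.2
      have hsp : c.1 ⤳ y.1 := by
        rw [← hV.fromSpec_primeIdealOf ⟨c.1, hcV⟩, ← hV.fromSpec_primeIdealOf ⟨y.1, hyV⟩]
        exact ((PrimeSpectrum.le_iff_specializes _ _).1 ho).map hV.fromSpec.continuous
      exact hyc (hsp.mem_closed hc rfl)
  have hgV : genericPoint C ∈ V := (genericPoint_specializes c.1).mem_open V.2 hcV
  let f : C.residueField (genericPoint C) :=
    C.residue (genericPoint C) (C.presheaf.germ V (genericPoint C) hgV t)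
  have hf0 : f ≠ 0 := by
    intro e
    have h1 : C.presheaf.germ V (genericPoint C) hgV t ∈ IsLocalRing.maximalIdeal _ :=
      (IsLocalRing.residue_eq_zero_iff _).1 e
    rw [show IsLocalRing.maximalIdeal (C.presheaf.stalk (genericPoint C)) = ⊥ from
      IsLocalRing.isField_iff_maximalIdeal_eq.1 (Field.toIsField C.functionField), Ideal.mem_bot] at h1
    haveI : Nonempty V := ⟨⟨_, hgV⟩⟩
    have h2 : t = 0 := germ_injective_of_isIntegral C (genericPoint C) hgV (h1.trans (map_zero _).symm)
    exact htI none (by rw [h2]; exact zero_mem _)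
  let D := (CycLib.Fam.single (δ := δC) (k := 0) (ξ := genericPoint C) (by rw [hgen]; rfl) hf0).cycle hsC.2.2
  have hD : ∀ y, D y = Cyc.divFun δC (genericPoint C) f y := fun y => by
    show (∑ᶠ _i : PUnit.{u+1}, Cyc.divFun δC (genericPoint C) f y) = _
    exact finsum_unique _
  have hDrat : Cyc.RatEquivZero δC 0 D := CycLib.Fam.ratEquivZero hsC.2.2 _
  have hDS : ∀ y ∈ S, D y = if y = c.1 then 1 else 0 := by
    intro y hy
    obtain ⟨hy0, hyc⟩ := hpts y fun e => hy (e ▸ hgenU)
    have hyV : y ∈ V := hSV hy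
    have hsp := genericPoint_specializes y
    have hd : δC y + 1 = δC (genericPoint C) := by rw [hy0, hgen]; rfl
    rw [hD, CycLib.divFun_of hsp hd, show f = Cyc.specMap y (genericPoint C) hsp (C.presheaf.germ V y hyV t) from
      (CycLib.specMap_germ hsp hyV hgV t).symm]
    split_ifs with hyeq
    · subst hyeq
      rw [CycLib.ordAt_specMap hsC.2.2 hsp hd (by rw [CycLib.specMap_germ hsp hyV hgV t]; exact hf0)]
      have hspan : Ideal.span {C.presheaf.germ V c.1 hyV t} = m := by
        haveI : IsDiscreteValuationRing (C.presheaf.stalk c.1) := NormalSch.isDVR_of_ne_generic k hCd hnormC hcgen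
        have htm : C.presheaf.germ V c.1 hyV t ∈ m :=
          (IsLocalization.AtPrime.to_map_mem_maximal_iff (C.presheaf.stalk c.1) pc t).2 htc
        have htm2 : C.presheaf.germ V c.1 hyV t ∉ m ^ 2 := fun h => htI none h
        obtain ⟨π, hπ'⟩ := IsDiscreteValuationRing.exists_irreducible (C.presheaf.stalk c.1)
        have hπ : m = Ideal.span {π} := hπ'.maximalIdeal_eq
        rw [hπ, Ideal.mem_span_singleton'] at htm
        obtain ⟨u, hu⟩ := htm
        have huu : IsUnit u := by
          by_contra hnu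
          refine htm2 ?_
          rw [← hu, sq]
          exact Ideal.mul_mem_mul ((IsLocalRing.mem_maximalIdeal u).2 hnu) (hπ ▸ Ideal.mem_span_singleton_self π)
        rw [hπ, ← hu, Ideal.span_singleton_mul_left_unit huu]
      have hlen : Ring.ord (Cyc.LocQuot c.1 (genericPoint C) hsp)
          (Ideal.Quotient.mk _ (C.presheaf.germ V c.1 hyV t)) = 1 := by
        rw [Ring.ord, Module.length_eq_one_iff, isSimpleModule_iff_isCoatom, ← Ideal.isMaximal_def]
        have h1 : Ideal.span {Ideal.Quotient.mk (RingHom.ker (Cyc.specMap c.1 (genericPoint C) hsp))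
            (C.presheaf.germ V c.1 hyV t)} = m.map (Ideal.Quotient.mk _) := by
          rw [← hspan, Ideal.map_span, Set.image_singleton]
        rw [h1]
        refine (Ideal.map_eq_top_or_isMaximal_of_surjective (Ideal.Quotient.mk (RingHom.ker (Cyc.specMap c.1 (genericPoint C) hsp)))
          Ideal.Quotient.mk_surjective
          (IsLocalRing.maximalIdeal.isMaximal _)).resolve_left fun e => ?_
        have h2 := congrArg (Ideal.comap (Ideal.Quotient.mk (RingHom.ker (Cyc.specMap c.1 (genericPoint C) hsp)))) e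
        rw [Ideal.comap_map_of_surjective _ Ideal.Quotient.mk_surjective, ← RingHom.ker_eq_comap_bot, Ideal.mk_ker,
          Ideal.comap_top, sup_eq_left.2 (IsLocalRing.le_maximalIdeal (RingHom.ker_ne_top _))] at h2
        exact (IsLocalRing.maximalIdeal.isMaximal _).ne_top h2
      rw [hlen]
      rfl
    · refine CycLib.ordAt_specMap_unit hsC.2.2 hsp hd ?_
      have hyF : y ∈ F := Finset.mem_erase.2 ⟨hyeq, hSfin.mem_toFinset.2 hy⟩
      letI : Algebra B (C.presheaf.stalk y) := (C.presheaf.germ V y hyV).hom.toAlgebra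
      haveI : IsLocalization.AtPrime (C.presheaf.stalk y) (hV.primeIdealOf ⟨y, hyV⟩).asIdeal :=
        hV.isLocalization_stalk ⟨y, hyV⟩
      exact IsLocalization.map_units (C.presheaf.stalk y)
        (⟨t, htI (some ⟨y, hyF⟩)⟩ : (hV.primeIdealOf ⟨y, hyV⟩).asIdeal.primeCompl)
  refine ⟨Function.locallyFinsuppWithin.single w (1 : ℤ) - AlgebraicCycle.map ψ δC δ D, ?_, ?_, ?_⟩
  · intro v hv
    show Function.locallyFinsuppWithin.single w (1 : ℤ) v - AlgebraicCycle.map ψ δC δ D v = 0
    rw [hsingleZ v hv, AlgebraicCycle.map, Function.locallyFinsupp.map_apply,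
      finsum_mem_eq_zero_of_forall_eq_zero fun y hy => ?_, sub_zero]
    by_contra hne
    have h1 := left_ne_zero_of_mul hne
    rw [hD] at h1
    have h2 := (CycLib.specializes_of_divFun_ne_zero h1).2
    refine right_ne_zero_of_mul hne ?_
    rw [AlgebraicCycle.mapCoeff, if_neg fun e => hv (by rw [← show ψ y = v from hy, ← e]; omega)]
    rfl
  · intro v hv
    by_contra hvU
    refine hv ?_
    show Function.locallyFinsuppWithin.single w (1 : ℤ) v - AlgebraicCycle.map ψ δC δ D v = 0
    have hmem : ∀ y, ψ y = v → y ∈ S := fun y hy h => hvU (hy ▸ h)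
    rw [Function.locallyFinsuppWithin.single_apply, AlgebraicCycle.map, Function.locallyFinsupp.map_apply]
    by_cases hvw : v = w
    · subst hvw
      have hdeg : ψ.residueDegree c.1 = 1 := by
        have h1 := WeilCohLib.residueDegree_closed_eq_one (C ↘ Spec (CommRingCat.of k)) c.1 hc
        rw [WeilCohLib.residueDegree_congr hψ2.symm c.1, WeilCohLib.residueDegree_comp'] at h1
        exact Nat.eq_one_of_mul_eq_one_left h1
      rw [if_pos rfl, finsum_mem_eq_sum_of_inter_support_eq _ (t := {c.1}) (by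
        ext y
        constructor
        · rintro ⟨hy, hne⟩
          refine ⟨Finset.mem_coe.2 (Finset.mem_singleton.2 ?_), hne⟩
          by_contra hyc
          exact left_ne_zero_of_mul hne (by rw [hDS y (hmem y hy), if_neg hyc])
        · rintro ⟨hy, hne⟩
          exact ⟨by rw [Finset.mem_singleton.1 (Finset.mem_coe.1 hy)]; exact hψc, hne⟩), Finset.sum_singleton,
        hDS c.1 hcS, if_pos rfl, AlgebraicCycle.mapCoeff,
        if_pos (show δC c.1 = δ (ψ c.1) by rw [hψc, hc0, hw]), hdeg]
      norm_num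
    · rw [if_neg hvw, finsum_mem_eq_zero_of_forall_eq_zero fun y hy => ?_, sub_zero]
      rw [hDS y (hmem y hy), if_neg (fun e => hvw (by rw [← show ψ y = v from hy, e, hψc])), zero_mul]
  · rw [Cyc.RatEquiv, sub_sub_cancel]
    exact CycLib.ratEquivZero_map ψ hsC hsetup hψd hDrat

/-- Over the complex numbers let W be a smooth irreducible projective variety, U ⊂ W a nonempty open
subset and z a 0-cycle on W (dimension function induced from the base). Then z is rationally
equivalent to a 0-cycle supported in U. -/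
theorem result
    (W : Scheme.{0}) [W.Over (Spec (CommRingCat.of ℂ))]
    [AlgebraicGeometry.IsIntegral W] [Smooth (W ↘ Spec (CommRingCat.of ℂ))] (hW : RelProj.IsHProjective (W ↘ Spec (CommRingCat.of ℂ)))
    (δ : W → ℤ) (hδ : Cyc.DeltaCompat (W ↘ Spec (CommRingCat.of ℂ)) δ (fun _ => 0))
    (U : W.Opens) (hU : (U : Set W).Nonempty)
    (z : AlgebraicCycle W ℤ) (hz : z ∈ Cyc.Zk W δ 0) :
    ∃ z' : AlgebraicCycle W ℤ, z' ∈ Cyc.Zk W δ 0 ∧ (∀ w, z' w ≠ 0 → w ∈ U) ∧ Cyc.RatEquiv δ 0 z z' := by
  classical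
  haveI : IsProper (W ↘ Spec (CommRingCat.of ℂ)) := (ProjBundleLib.isProper_of_isHProjective hW).2
  have hsetup := CycLib.isSetup_of_field ℂ δ hδ
  haveI := hsetup.1
  haveI : CompactSpace W := QuasiCompact.compactSpace_of_compactSpace (W ↘ Spec (CommRingCat.of ℂ))
  have hfin : (Function.support z).Finite := by
    have := z.locallyFiniteSupport.finite_inter_support_of_isCompact (isCompact_univ (X := W))
    rwa [Set.univ_inter] at this
  suffices key : ∀ s : Finset W, ∀ z : AlgebraicCycle W ℤ, z ∈ Cyc.Zk W δ 0 → (∀ w, z w ≠ 0 → w ∈ s) →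
      ∃ z' : AlgebraicCycle W ℤ, z' ∈ Cyc.Zk W δ 0 ∧ (∀ w, z' w ≠ 0 → w ∈ U) ∧ Cyc.RatEquiv δ 0 z z' from
    key hfin.toFinset z hz fun w hw => hfin.mem_toFinset.2 hw
  intro s
  induction s using Finset.induction_on with
  | empty =>
    intro z hz hs
    exact ⟨z, hz, fun w hw => absurd (hs w hw) (Finset.notMem_empty w), by
      rw [Cyc.RatEquiv, sub_self]
      exact CycLib.ratEquivZero_zero⟩
  | insert a s ha ih =>
    intro z hz hs
    by_cases hza : z a = 0
    · exact ih z hz fun w hw => Finset.mem_of_mem_insert_of_ne (hs w hw) (fun e => hw (e ▸ hza))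
    have hda : δ a = 0 := by
      by_contra h
      exact hza (hz a h)
    obtain ⟨y, hyZ, hyU, hyrat⟩ := exists_move_point W δ hδ U hU a hda
    set e := Function.locallyFinsuppWithin.single a (1 : ℤ) with he
    have heZ : e ∈ Cyc.Zk W δ 0 := fun v hv => by
      rw [he, Function.locallyFinsuppWithin.single_apply, if_neg fun e' : v = a => hv (by rw [e']; exact hda)]
    obtain ⟨z₁, hz₁Z, hz₁U, hz₁rat⟩ := ih (z - z a • e) ((ChowOps.zk W δ 0).sub_mem hz ((ChowOps.zk W δ 0).zsmul_mem heZ _))
      fun w hw => by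
        change z w - z a • e w ≠ 0 at hw
        by_cases hwa : w = a
        · subst hwa
          rw [he, Function.locallyFinsuppWithin.single_apply, if_pos rfl] at hw
          simp at hw
        · rw [he, Function.locallyFinsuppWithin.single_apply, if_neg hwa, smul_zero, sub_zero] at hw
          exact Finset.mem_of_mem_insert_of_ne (hs w hw) hwa
    refine ⟨z₁ + z a • y, (ChowOps.zk W δ 0).add_mem hz₁Z ((ChowOps.zk W δ 0).zsmul_mem hyZ _), fun w hw => ?_, ?_⟩
    · by_contra hwU
      refine hw ?_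
      show z₁ w + z a • y w = 0
      rw [not_not.1 fun h => hwU (hz₁U w h), not_not.1 fun h => hwU (hyU w h), smul_zero, add_zero]
    · have h2 := CycLib.ratEquivZero_zsmul hsetup.2.2 hyrat (z a)
      have h3 := CycLib.ratEquivZero_add hz₁rat h2
      rw [Cyc.RatEquiv]
      convert h3 using 1
      rw [smul_sub]
      abel

end Groth.Agent.S18275
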