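import Groth.Statements.S18281
import Groth.Agent.FlatLocus.Scheme
import Groth.Agent.DimFormulaLib.Irreducible
import Groth.Agent.ProjBundleLib.HProj
import Groth.Agent.S9685
import Mathlib.AlgebraicGeometry.ZariskisMainTheorem
-- import your own Groth.Agent.* helpers here

set_option autoImplicit false
open CategoryTheory CategoryTheory.Limits AlgebraicGeometry
open ZCorr

namespace Groth.Agent.S18281

/-- Over the complex numbers let W be a smooth irreducible quasi-projective variety of dimension n, X a
smooth irreducible projective variety, and Z an integral closed subscheme of X × W of dimension n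
(an irreducible component of a correspondence from W to X), with projection π : Z → W. (a) The set
of points of W over which π is flat (flat at every point of the fibre) is open and nonempty. (b) The
set U of points of W with finite fibre is open and nonempty, and π restricted over U is finite. -/
theorem result
    (W X : Scheme.{0}) [W.Over (Spec (CommRingCat.of ℂ))] [X.Over (Spec (CommRingCat.of ℂ))]
    [AlgebraicGeometry.IsIntegral W] [Smooth (W ↘ Spec (CommRingCat.of ℂ))] (hW : RelProj.IsHQuasiProjective (W ↘ Spec (CommRingCat.of ℂ)))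
    (n : ℕ) (hdimW : topologicalKrullDim W = n)
    [AlgebraicGeometry.IsIntegral X] [Smooth (X ↘ Spec (CommRingCat.of ℂ))] (hX : RelProj.IsHProjective (X ↘ Spec (CommRingCat.of ℂ)))
    {Z : Scheme.{0}} (i : Z ⟶ pullback (X ↘ Spec (CommRingCat.of ℂ)) (W ↘ Spec (CommRingCat.of ℂ))) [IsClosedImmersion i]
    [AlgebraicGeometry.IsIntegral Z] (hdimZ : topologicalKrullDim Z = n) :
    (IsOpen {w : W | ∀ z : Z, (i ≫ pullback.snd (X ↘ Spec (CommRingCat.of ℂ)) (W ↘ Spec (CommRingCat.of ℂ))) z = w →
        ((i ≫ pullback.snd (X ↘ Spec (CommRingCat.of ℂ)) (W ↘ Spec (CommRingCat.of ℂ))).stalkMap z).hom.Flat} ∧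
      {w : W | ∀ z : Z, (i ≫ pullback.snd (X ↘ Spec (CommRingCat.of ℂ)) (W ↘ Spec (CommRingCat.of ℂ))) z = w →
        ((i ≫ pullback.snd (X ↘ Spec (CommRingCat.of ℂ)) (W ↘ Spec (CommRingCat.of ℂ))).stalkMap z).hom.Flat}.Nonempty) ∧
    ∃ U : W.Opens, (U : Set W) = {w : W | ((i ≫ pullback.snd (X ↘ Spec (CommRingCat.of ℂ)) (W ↘ Spec (CommRingCat.of ℂ))) ⁻¹' {w}).Finite} ∧
      (U : Set W).Nonempty ∧ IsFinite ((i ≫ pullback.snd (X ↘ Spec (CommRingCat.of ℂ)) (W ↘ Spec (CommRingCat.of ℂ))) ∣_ U) := by
  haveI : IsProper (X ↘ Spec (CommRingCat.of ℂ)) := Groth.Agent.ProjBundleLib.isProper_of_isHProjective hX |>.2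
  haveI : IsLocallyNoetherian W :=
    LocallyOfFiniteType.isLocallyNoetherian (W ↘ Spec (CommRingCat.of ℂ))
  generalize hπ : i ≫ pullback.snd (X ↘ Spec (CommRingCat.of ℂ)) (W ↘ Spec (CommRingCat.of ℂ)) = π
  haveI : IsProper π := hπ ▸ inferInstance
  haveI : LocallyOfFinitePresentation π :=
    inferInstance
  have hη : ∀ z : Z, π z = genericPoint W → (π.stalkMap z).hom.Flat := fun z hz => by
    letI := (π.stalkMap z).hom.toAlgebra
    have hF : IsField ↥(W.presheaf.stalk (π z)) := by
      rw [hz]
      exact Field.toIsField W.functionField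
    letI := hF.toField
    show Module.Flat _ _
    infer_instance
  refine ⟨⟨?_, ⟨genericPoint W, hη⟩⟩, ?_⟩
  · have e : {w : W | ∀ z : Z, π z = w → (π.stalkMap z).hom.Flat} =
        (π '' {z : Z | (π.stalkMap z).hom.Flat}ᶜ)ᶜ := by
      ext w
      simp only [Set.mem_setOf_eq, Set.mem_compl_iff, Set.mem_image, not_exists, not_and]
      exact ⟨fun h z hz hzw => hz (h z hzw), fun h z hzw => by_contra fun hz => h z hz hzw⟩
    rw [e]
    exact (π.isClosedMap _ (Groth.Agent.FlatLocus.isOpen_flat_stalkMap π).isClosed_compl).isOpen_compl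
  have hfin : ∀ w : W, (π ⁻¹' {w}).Finite ↔ ∀ z : Z, π z = w → π.QuasiFiniteAt z := fun w => by
    constructor
    · rintro hw z rfl
      haveI : Finite ↥(π.fiber (π z)) := by
        haveI := hw.to_subtype
        exact Finite.of_equiv _ (π.fiberHomeo (π z)).symm.toEquiv
      haveI : LocallyOfFiniteType (π.fiberToSpecResidueField (π z)) :=
        MorphismProperty.pullback_snd _ _ inferInstance
      haveI : JacobsonSpace ↥(π.fiber (π z)) :=
        LocallyOfFiniteType.jacobsonSpace (π.fiberToSpecResidueField (π z))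
      exact Scheme.Hom.quasiFiniteAt_iff_isOpen_singleton_asFiber.2 (isOpen_discrete _)
    · intro h
      haveI : DiscreteTopology ↥(π ⁻¹' {w}) := discreteTopology_iff_isOpen_singleton.2 fun a => by
        obtain ⟨z, hz⟩ := a
        obtain rfl : π z = w := hz
        have hh := (π.fiberHomeo (π z)).isOpen_image.2
          (Scheme.Hom.quasiFiniteAt_iff_isOpen_singleton_asFiber.1 (h z rfl))
        rw [Set.image_singleton, Scheme.Hom.asFiber, Homeomorph.apply_symm_apply] at hh
        exact hh
      haveI : CompactSpace ↥(π ⁻¹' {w}) := isCompact_iff_compactSpace.1 (π.isCompact_preimage_singleton w)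
      haveI : Finite ↥(π ⁻¹' {w}) := finite_of_compact_of_discrete
      exact Set.toFinite _
  let U : W.Opens := ⟨(π '' {z : Z | π.QuasiFiniteAt z}ᶜ)ᶜ,
    (π.isClosedMap _ π.isOpen_quasiFiniteAt.isClosed_compl).isOpen_compl⟩
  have hU : (U : Set W) = {w : W | (π ⁻¹' {w}).Finite} := by
    ext w
    rw [Set.mem_setOf_eq, hfin]
    show w ∈ (π '' {z : Z | π.QuasiFiniteAt z}ᶜ)ᶜ ↔ _
    simp only [Set.mem_setOf_eq, Set.mem_compl_iff, Set.mem_image, not_exists, not_and]
    exact ⟨fun h z hzw => by_contra fun hz => h z hz hzw, fun h z hz hzw => hz (h z hzw)⟩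
  refine ⟨U, hU, ⟨genericPoint W, ?_⟩, ?_⟩
  · rw [hU]
    show (π ⁻¹' {genericPoint W}).Finite
    by_cases hd : DenseRange π.base
    · haveI : IsDominant π := ⟨hd⟩
      obtain ⟨t, ht, htd, -⟩ := Groth.Agent.DimFormulaLib.genericFibre_dim π hd
      have heq := (Groth.Agent.S9685.result π t ht).2 π.isClosedMap
      rw [hdimZ, hdimW] at heq
      have ht0 : t = 0 := by
        have : n = n + t := by exact_mod_cast heq
        omega
      refine Set.Subsingleton.finite fun a ha b hb => ?_
      have key : ∀ c : Z, π c = genericPoint W → c = genericPoint Z := fun c hc => by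
        have hζ : π (genericPoint Z) = genericPoint W := Groth.Agent.DimFormulaLib.image_genericPoint π hd
        by_contra hne
        let q : ↥(π.fiber (genericPoint W)) := (π.fiberHomeo _).symm ⟨c, hc⟩
        let q₀ : ↥(π.fiber (genericPoint W)) := (π.fiberHomeo _).symm ⟨genericPoint Z, hζ⟩
        have hs : q₀ ⤳ q := ((π.fiberHomeo _).symm.isInducing.specializes_iff).2
          ((subtype_specializes_iff _ _).2 (genericPoint_specializes c))
        have hq : q₀ ≠ q := fun h => hne (congrArg Subtype.val ((π.fiberHomeo _).symm.injective h)).symm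
        let C : TopologicalSpace.IrreducibleCloseds ↥(π.fiber (genericPoint W)) :=
          ⟨closure {q}, isIrreducible_singleton.closure, isClosed_closure⟩
        let C₀ : TopologicalSpace.IrreducibleCloseds ↥(π.fiber (genericPoint W)) :=
          ⟨closure {q₀}, isIrreducible_singleton.closure, isClosed_closure⟩
        have hlt : C < C₀ := by
          refine lt_of_le_of_ne (specializes_iff_closure_subset.1 hs) fun h => hq ?_
          have h' : closure ({q} : Set ↥(π.fiber (genericPoint W))) = closure {q₀} :=
            congrArg TopologicalSpace.IrreducibleCloseds.carrier h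
          exact (hs.antisymm (specializes_iff_closure_subset.2 h'.ge)).eq
        haveI : Nonempty (TopologicalSpace.IrreducibleCloseds ↥(π.fiber (genericPoint W))) := ⟨C⟩
        have h1 : (1 : WithBot ℕ∞) ≤ topologicalKrullDim ↥(π.fiber (genericPoint W)) := by
          refine le_trans ?_ (Order.height_le_krullDim C₀)
          exact_mod_cast le_trans (le_add_self) (Order.height_add_one_le hlt)
        rw [htd, ht0] at h1
        exact absurd h1 (by decide)
      rw [key a ha, key b hb]
    · have hempty : π ⁻¹' {genericPoint W} = ∅ := by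
        refine Set.eq_empty_iff_forall_notMem.2 fun z hz => hd ?_
        refine dense_iff_closure_eq.2 (Set.eq_univ_of_univ_subset ?_)
        rw [← (genericPoint_spec W).def]
        exact closure_mono (Set.singleton_subset_iff.2 ⟨z, hz⟩)
      rw [hempty]
      exact Set.finite_empty
  · have : LocallyQuasiFinite (π ∣_ U) := LocallyQuasiFinite.of_finite_preimage_singleton _ fun w => by
      have h := hU.subset w.2
      refine Set.Finite.of_finite_image (f := (π ⁻¹ᵁ U).ι) ?_ (π ⁻¹ᵁ U).ι.isOpenEmbedding.injective.injOn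
      refine h.subset ?_
      rintro _ ⟨z, hz, rfl⟩
      show π ((π ⁻¹ᵁ U).ι z) = w.1
      rw [← Scheme.Hom.comp_apply, ← morphismRestrict_ι, Scheme.Hom.comp_apply]
      exact congrArg (U.ι) hz
    exact IsFinite.of_isProper_of_locallyQuasiFinite _


end Groth.Agent.S18281
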