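import Groth.Statements.S18283
import Mathlib

set_option autoImplicit false
universe u v
open CAlgX

namespace Groth.Agent.S18283

/-- Let A be a commutative ring, ι a finite index type, H a finite set of indices (the head indices) and
c : ι → ι → A a table of coefficients; for j ∈ H put f_j = e_j − Σ_{i ∉ H} c_{ji} e_i in the free
module A^ι, so that each f_j has head e_j with coefficient 1 and tail supported outside H. If a
submodule M of A^ι contains every f_j with j ∈ H, then M is the A-span of these f_j if and only if
every wedge product of |H|+1 elements of M vanishes in the (|H|+1)-st exterior power of A^ι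
(equivalently, every (|H|+1)-minor of every matrix whose rows lie in M vanishes). The published
statement is the case where A is a Noetherian algebra over a field of characteristic zero, A^ι is
the degree-(m+1) part of the polynomial ring over A with its basis of terms, H is the set of
degree-(m+1) terms of a strongly stable monomial ideal generated in degree m, and M is the
degree-(m+1) part of an ideal generated by a marked set on that monomial ideal; this row allows any
commutative ring and any submodule containing the marked polynomials. -/
theorem result
    {A : Type u} [CommRing A] {ι : Type v} [Fintype ι] [DecidableEq ι]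
    (H : Finset ι) (c : ι → ι → A) (M : Submodule A (ι → A))
    (hf : ∀ j ∈ H, (Pi.single j (1 : A) - ∑ i ∈ Hᶜ, c j i • Pi.single i (1 : A)) ∈ M) :
    M = Submodule.span A ((fun j => Pi.single j (1 : A) - ∑ i ∈ Hᶜ, c j i • Pi.single i (1 : A)) '' ↑H)
      ↔ ∀ v : Fin (H.card + 1) → ι → A, (∀ k, v k ∈ M) →
          exteriorPower.ιMulti A (H.card + 1) v = 0 := by
  classical
  let g : ι → ι → A := fun j => Pi.single j (1 : A) - ∑ i ∈ Hᶜ, c j i • Pi.single i (1 : A)
  have hg : ∀ j ∈ H, ∀ l ∈ H, g j l = if j = l then 1 else 0 := by
    intro j _ l hl
    simp only [g, Pi.sub_apply, Finset.sum_apply, Pi.smul_apply, smul_eq_mul]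
    rw [Finset.sum_eq_zero fun i hi => by
      rw [Pi.single_eq_of_ne (by intro h; subst h; exact Finset.mem_compl.1 hi hl), mul_zero], sub_zero, Pi.single_apply]
    exact if_congr eq_comm rfl rfl
  change M = Submodule.span A (g '' ↑H) ↔ _
  constructor
  · intro hM v hv
    let L : (↥H → A) →ₗ[A] (ι → A) := Fintype.linearCombination A (fun j : ↥H => g j.1)
    have hw : ∀ k, ∃ w, L w = v k := fun k => by
      have h := hv k
      rw [hM, Set.image_eq_range] at h
      exact (Submodule.mem_span_range_iff_exists_fun A).1 h
    choose w hw using hw
    have h0 : (exteriorPower.ιMulti A (H.card + 1)).compLinearMap L = 0 := by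
      refine Module.Basis.ext_alternating (Pi.basisFun A ↥H) fun σ hσ => ?_
      have := Fintype.card_le_of_injective σ hσ
      simp at this
    have h1 := DFunLike.congr_fun h0 w
    simp only [AlternatingMap.compLinearMap_apply, AlternatingMap.zero_apply] at h1
    rwa [funext hw] at h1
  · intro hvan
    refine le_antisymm (fun m hm => ?_) (Submodule.span_le.2 fun x ⟨j, hj, hx⟩ => hx ▸ hf j hj)
    let m' := m - ∑ j : ↥H, m j.1 • g j.1
    have hm'M : m' ∈ M := sub_mem hm (sum_mem fun j _ => M.smul_mem _ (hf j.1 j.2))
    have hm'H : ∀ l ∈ H, m' l = 0 := fun l hl => by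
      simp only [m', Pi.sub_apply, Finset.sum_apply, Pi.smul_apply, smul_eq_mul]
      rw [Finset.sum_eq_single (⟨l, hl⟩ : ↥H) (fun j _ hj => by
        rw [hg j.1 j.2 l hl, if_neg fun h => hj (Subtype.ext h), mul_zero]) (fun h => absurd (Finset.mem_univ _) h),
        hg l hl l hl, if_pos rfl, mul_one, sub_self]
    have hm' : m' = 0 := by
      funext i
      let e := (Fintype.equivFinOfCardEq (Fintype.card_coe H)).symm
      let rows : Fin (H.card + 1) → ι → A := Fin.lastCases m' fun k => g (e k).1
      let cols : Fin (H.card + 1) → ι := Fin.lastCases i fun k => (e k).1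
      let proj : (ι → A) →ₗ[A] (Fin (H.card + 1) → A) := LinearMap.funLeft A A cols
      let δ : (ι → A) [⋀^Fin (H.card + 1)]→ₗ[A] A := Matrix.detRowAlternating.compLinearMap proj
      have h := congrArg (exteriorPower.alternatingMapLinearEquiv δ) (hvan rows fun k => by
        induction k using Fin.lastCases with
        | last => simp only [rows, Fin.lastCases_last]; exact hm'M
        | cast k => simp only [rows, Fin.lastCases_castSucc]; exact hf _ (e k).2)
      rw [exteriorPower.alternatingMapLinearEquiv_apply_ιMulti, map_zero] at h
      have hd : δ rows = m' i := by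
        show Matrix.det (Matrix.of fun k l => rows k (cols l)) = _
        rw [Matrix.det_of_upperTriangular]
        · rw [Fin.prod_univ_castSucc]
          simp only [Matrix.of_apply, rows, cols, Fin.lastCases_last, Fin.lastCases_castSucc]
          rw [Finset.prod_eq_one fun k _ => (hg _ (e k).2 _ (e k).2).trans (if_pos rfl), one_mul]
        · intro k l (hkl : l < k)
          induction l using Fin.lastCases with
          | last => exact absurd hkl (not_lt.2 (Fin.le_last k))
          | cast l =>
            simp only [Matrix.of_apply, rows, cols, Fin.lastCases_castSucc]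
            induction k using Fin.lastCases with
            | last => rw [Fin.lastCases_last]; exact hm'H _ (e l).2
            | cast k =>
              rw [Fin.lastCases_castSucc, hg _ (e k).2 _ (e l).2, if_neg]
              exact fun h => (ne_of_gt hkl) (congrArg Fin.castSucc (e.injective (Subtype.ext h)))
      exact hd.symm.trans h
    rw [sub_eq_zero.1 hm']
    exact sum_mem fun j _ => Submodule.smul_mem _ _ (Submodule.subset_span ⟨j.1, j.2, rfl⟩)

end Groth.Agent.S18283
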