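import Groth.Statements.S18286
import Mathlib
import Groth.Agent.MagnetHom.Factor
set_option backward.isDefEq.respectTransparency false
set_option backward.isDefEq.respectTransparency.types false

set_option autoImplicit false
universe u
open CategoryTheory MonoidalCategory CartesianMonoidalCategory MonObj AlgebraicGeometry Opposite
open Magnet

namespace Groth.Agent.S18286

/-- Let Y be an S-scheme affine over S with an action of the diagonalizable monoid scheme A(M)_S of a
commutative monoid M, let f : Z → Y be an equivariant closed immersion (for an action of A(M)_S on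
Z), and let N ⊆ M be a submonoid (magnet). Then Z^N = Z ×_Y Y^N: the square of functors on S-schemes
formed by f^N : Z^N → Y^N, the canonical maps Z^N → Z and Y^N → Y (evaluation at the unit section)
and f is cartesian. -/
theorem result (S : Scheme.{u}) (M : Type) [AddCommMonoid M]
    (N : AddSubmonoid M) (Y Z : Over S) [IsAffineHom Y.hom] (aY : Magnet.MonAct (Magnet.AMonS S M) Y)
    (aZ : Magnet.MonAct (Magnet.AMonS S M) Z) (f : Z ⟶ Y) [IsClosedImmersion f.left]
    (hf : Magnet.MonAct.IsEquivariant aZ aY f) :
    IsPullback (Magnet.MonAct.eqvHom.postcomp (Magnet.subAct S M N) f hf) (Magnet.attrToX aZ N)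
      (Magnet.attrToX aY N) (yoneda.map f) := by
  have hmem : ∀ (T : Over S) (φ : (Magnet.attr aY N).obj (op T)) (z : T ⟶ Z),
      (Magnet.attrToX aY N).app (op T) φ = z ≫ f →
      ∃ ψ : (Magnet.attr aZ N).obj (op T), (Magnet.MonAct.eqvHom.postcomp (Magnet.subAct S M N) f hf).app (op T) ψ = φ ∧
        (Magnet.attrToX aZ N).app (op T) ψ = z := by
    intro T φ z hz
    have h := Groth.Agent.MagnetHom.whiskerRight_subtype_comp aY N φ
    rw [hz, MonoidalCategory.whiskerLeft_comp, Category.assoc] at h
    have hf' : aZ.act ≫ f = (_ ◁ f) ≫ aY.act := hf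
    rw [← hf', ← Category.assoc] at h
    obtain ⟨m, hm⟩ := Groth.Agent.MagnetHom.exists_factor_of_map N.subtype N.subtype_injective f φ.1 _ h.symm
    haveI : Mono f.left := inferInstance
    haveI : Mono f := Over.mono_of_mono_left f
    have hmm : Magnet.MonAct.IsEquivariant ((Magnet.subAct S M N).prod (Magnet.MonAct.trivial _ T)) aZ m := by
      have hφ : Magnet.MonAct.IsEquivariant ((Magnet.subAct S M N).prod (Magnet.MonAct.trivial _ T)) aY φ.1 := φ.2
      unfold Magnet.MonAct.IsEquivariant at hφ ⊢
      rw [← cancel_mono f, Category.assoc, hm, hφ, Category.assoc, hf', ← MonoidalCategory.whiskerLeft_comp_assoc, hm]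
    refine ⟨⟨m, hmm⟩, Subtype.ext hm, ?_⟩
    rw [← cancel_mono f, Magnet.MonAct.eqvHom.evalAt_app, Category.assoc]
    change _ ≫ m ≫ f = _
    rw [hm, ← hz, Magnet.MonAct.eqvHom.evalAt_app]
  have hw : Magnet.MonAct.eqvHom.postcomp (Magnet.subAct S M N) f hf ≫ Magnet.attrToX aY N =
      Magnet.attrToX aZ N ≫ yoneda.map f := by
    ext T φ
    exact (Category.assoc _ _ _).symm
  refine IsPullback.of_forall_isPullback_app fun T => ?_
  haveI : Mono f.left := inferInstance
  haveI : Mono f := Over.mono_of_mono_left f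
  haveI : IsSeparated Y.hom := inferInstance
  rw [CategoryTheory.Limits.Types.isPullback_iff]
  refine ⟨by rw [← NatTrans.comp_app, hw, NatTrans.comp_app], ?_, ?_⟩
  · intro ψ₁ ψ₂ h
    have h₁ := congrArg Subtype.val h.1
    exact Subtype.ext ((cancel_mono f).mp h₁)
  · intro φ z h
    obtain ⟨ψ, h₁, h₂⟩ := hmem (unop T) φ z h
    exact ⟨ψ, h₁, h₂⟩

end Groth.Agent.S18286
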