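import Groth.Statements.S18287
import Groth.Agent.MagnetHom.AttrGlobal
-- import your own Groth.Agent.* helpers here

set_option autoImplicit false
set_option backward.isDefEq.respectTransparency false
universe u
open CategoryTheory MonoidalCategory CartesianMonoidalCategory MonObj AlgebraicGeometry Opposite
open Magnet

namespace Groth.Agent.S18287

/-- Let f : M → Z be a homomorphism of commutative monoids, Y a submonoid of Z and N its preimage in M,
and let X be an S-scheme affine over S with an action of the diagonalizable monoid scheme A(M)_S.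
Regard X as an A(Z)_S-scheme through A(Z)_S → A(M)_S. Then the canonical map of attractors X^{N ⊂ M}
→ X^{Y ⊂ Z} (precomposition with A(Y)_S → A(N)_S) is an isomorphism. -/
theorem result (S : Scheme.{u}) (M Z : Type) [AddCommMonoid M] [AddCommMonoid Z]
    (f : M →+ Z) (Y : AddSubmonoid Z) (X : Over S) [IsAffineHom X.hom] (a : Magnet.MonAct (Magnet.AMonS S M) X) :
    IsIso (Magnet.attrComap a f Y) := by
  rw [NatTrans.isIso_iff_isIso_app]
  intro T
  obtain ⟨T⟩ := T
  rw [isIso_iff_bijective]
  constructor
  · intro φ φ' e
    refine Groth.Agent.MagnetHom.attrToX_injective a (Y.comap f) T ?_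
    have := congrArg ((Magnet.attrToX (a.restrict (Magnet.AMonS.map S f)) Y).app (op T)) e
    rwa [Groth.Agent.MagnetHom.attrToX_attrComap, Groth.Agent.MagnetHom.attrToX_attrComap] at this
  · intro ψ
    obtain ⟨φ, hφ⟩ := (Groth.Agent.MagnetHom.hasOrbit_comap a f Y
      (Groth.Agent.MagnetHom.hasOrbit_attrToX _ Y ψ)).exists_attr
    refine ⟨φ, Groth.Agent.MagnetHom.attrToX_injective (a.restrict (Magnet.AMonS.map S f)) Y T ?_⟩
    exact (Groth.Agent.MagnetHom.attrToX_attrComap a f Y T φ).trans hφ

end Groth.Agent.S18287
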