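import Groth.Statements.S18288
import Mathlib
import Groth.Agent.MagnetHom.Comap
set_option backward.isDefEq.respectTransparency false
set_option backward.isDefEq.respectTransparency.types false

set_option autoImplicit false
universe u
open CategoryTheory MonoidalCategory CartesianMonoidalCategory MonObj AlgebraicGeometry Opposite
open Magnet

namespace Groth.Agent.S18288

/-- Let M be a commutative monoid with an injective homomorphism f : M → Z into a commutative group Z
(so M is cancellative; the published statement takes Z to be the group completion of M, and the same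
argument applies to any such Z), let Y be a submonoid of Z contained in the image of M, and let X be
an S-scheme separated over S with an action of the diagonalizable monoid scheme A(M)_S. Regard X as
a D(Z)_S-scheme through D(Z)_S → A(M)_S. Then the canonical map of attractors X^{f⁻¹Y ⊂ M} → X^{Y ⊂
Z} is an isomorphism: a D(Z)_S-equivariant family out of A(Y)_S is automatically A(M)_S-equivariant.
(The published statement allows X to be an algebraic space; here X is a scheme.) -/
theorem result (S : Scheme.{u}) (M Z : Type) [AddCommMonoid M]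
    [AddCommGroup Z] (f : M →+ Z) (hf : Function.Injective f) (Y : AddSubmonoid Z)
    (hY : Y ≤ AddMonoidHom.mrange f) (X : Over S) [IsSeparated X.hom]
    (a : Magnet.MonAct (Magnet.AMonS S M) X) :
    IsIso (Magnet.attrComap a f Y) := by
  let k := (f.comp (Y.comap f).subtype).codRestrict Y (fun x => x.2)
  have hk : Function.Bijective k := by
    constructor
    · intro x y e
      exact Subtype.ext (hf (congrArg Subtype.val e))
    · intro y
      obtain ⟨m, hm⟩ := hY y.2
      exact ⟨⟨m, by rw [AddSubmonoid.mem_comap, hm]; exact y.2⟩, Subtype.ext hm⟩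
  have := Groth.Agent.MagnetHom.isIso_AMonS_map (S := S) k hk
  let K := Magnet.AMonS.map S k
  rw [NatTrans.isIso_iff_isIso_app]
  intro T
  rw [isIso_iff_bijective]
  constructor
  · intro φ φ' e
    refine Subtype.ext ((cancel_epi (K ▷ unop T)).mp ?_)
    exact congrArg Subtype.val e
  · intro ψ
    refine ⟨⟨(inv K ▷ unop T) ≫ ψ.1, ?_⟩, Subtype.ext ?_⟩
    · let B := Magnet.AMonS S ↥(Y.comap f)
      let ρ := Magnet.subAct S M (Y.comap f)
      change (ρ.prod (Magnet.MonAct.trivial _ (unop T))).act ≫ _ = (_ ◁ _) ≫ a.act
      refine Groth.Agent.MagnetHom.ext_of_map f hf ?_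
      have hψ : Magnet.MonAct.IsEquivariant _ _ ψ.1 := ψ.2
      rw [Magnet.MonAct.mem_eqvHom_iff] at hψ
      refine Magnet.hom_ext_lift₂ fun T' g x => ?_
      rw [lift_whiskerRight_assoc, lift_whiskerRight_assoc, lift_whiskerLeft_assoc]
      rw [← lift_comp_fst_snd x, Magnet.MonAct.lift_prod_act_assoc, Magnet.MonAct.lift_trivial_act,
        lift_whiskerRight_assoc, lift_whiskerRight_assoc]
      have h := hψ T' g ((x ≫ fst _ _) ≫ inv K) (x ≫ snd _ _)
      rw [Magnet.MonAct.lift_restrict_act] at h
      rw [← h]
      congr 1
      congr 1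
      change (lift (g ≫ Magnet.AMonS.map S f) (x ≫ fst _ _) ≫ ((Magnet.MonAct.regular _).restrict _).act) ≫ inv K =
        lift g ((x ≫ fst _ _) ≫ inv K) ≫ ((Magnet.MonAct.regular _).restrict _).act
      rw [Magnet.MonAct.lift_restrict_act, Magnet.MonAct.lift_regular_act, Magnet.MonAct.lift_restrict_act,
        Magnet.MonAct.lift_regular_act]
      rw [IsIso.comp_inv_eq, MonObj.mul_comp]
      simp only [Category.assoc, IsIso.inv_hom_id, Category.comp_id]
      congr 1
      rw [← Magnet.AMonS.map_comp, ← Magnet.AMonS.map_comp]
      rfl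
    · change (K ▷ unop T) ≫ (inv K ▷ unop T) ≫ ψ.1 = ψ.1
      rw [← comp_whiskerRight_assoc, IsIso.hom_inv_id, id_whiskerRight, Category.id_comp]

end Groth.Agent.S18288
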