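import Groth.Statements.S1829
import Groth.Agent.DualCxLib.GorFibres
-- Template for statement S1829 (row 1828; see the milestone table for weights).
-- Copy to Groth/Agent/S1829.lean and replace the sorry. The statement below is byte-identical to the frozen
-- statement Dual.GrothFrozen.S1829 (Groth/Statements/S1829.lean; the theorem Dual.isDualizing_iff_LBaseChange_faithfullyFlat_lci);
-- the grader kernel-checks Groth.Agent.S1829.result against that frozen type. Keep the theorem IN THIS FILE
-- (a `result` declared elsewhere and merely imported here is not credited); helpers may live anywhere
-- under Groth/Agent/.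
-- helpers: DualCxLib

set_option autoImplicit false
universe u
open CategoryTheory
attribute [local instance] HasDerivedCategory.standard
open Dual Groth.Agent.DualCxLib

namespace Groth.Agent.S1829

/-- Let A → B be a faithfully flat local complete intersection homomorphism of Noetherian rings and K an
object of D(A); assume the derived base change functor D(A) → D(B) exists. Then K is a dualizing
complex for A if and only if its base change is a dualizing complex for B. -/
theorem result (A B : Type u) [CommRing A] [CommRing B] [Algebra A B] [IsNoetherianRing A] [IsNoetherianRing B] [Module.FaithfullyFlat A B] (hl : LCI.IsLCI A B) [DRing.HasLBaseChange (algebraMap A B)] (K : Dual.D A) : Dual.IsDualizing A K ↔ Dual.IsDualizing B ((DRing.LBaseChange (algebraMap A B)).obj K) := by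
  haveI : Algebra.FiniteType A B := hl.1
  obtain ⟨N, hN⟩ := Groth.Agent.DualCxLib.exists_fibre_dim_bound A B
  exact ⟨fun hK => Groth.Agent.DualCxLib.isDualizing_bcD_of_fibres A B hK
      (fun p _ => Groth.Agent.DualCxLib.gorenstein_fibre_of_lci A B hl p) N hN,
    fun h => Groth.Agent.DualCxLib.isDualizing_of_bcD A B h⟩

end Groth.Agent.S1829
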