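import Groth.Statements.S1830
-- import your own Groth.Agent.* helpers here
import Groth.Agent.CIFlatLib.Gorenstein
import Groth.Agent.NLLib.LCI

set_option autoImplicit false
universe u
open CategoryTheory
open scoped TensorProduct
attribute [local instance] HasDerivedCategory.standard
open Goren
set_option backward.isDefEq.respectTransparency false

namespace Groth.Agent.S1830

/-- A flat local complete intersection ring map has Gorenstein fibres: let A → B be a flat ring
homomorphism which is a local complete intersection. Then for every prime p of A the fibre ring B
⊗_A κ(p) is a Gorenstein ring. (This is the affine form of the statement that a syntomic morphism is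
a Gorenstein morphism.) -/
theorem result (A B : Type u) [CommRing A] [CommRing B] [Algebra A B] [Module.Flat A B] (hl : LCI.IsLCI A B) (p : PrimeSpectrum A) : LocCoh.IsGorensteinRing (B ⊗[A] p.asIdeal.ResidueField) := by
  obtain ⟨-, n, φ, hφ, hK⟩ := id hl
  haveI := (NLLib.hasTorAmplitude_iff_flat (NLLib.gens φ hφ)).1 (NLLib.isPerfect_and_amp_of_isLCI hl).2
  haveI := GorLib.gorensteinRing_of_regular p.asIdeal.ResidueField
  exact GorLib.gorensteinRing_of_ringEquiv (Algebra.TensorProduct.comm A p.asIdeal.ResidueField B).toRingEquiv
    (CIFlatLib.gorensteinRing_of_isLCI p.asIdeal.ResidueField _ (NLLib.isLCI_fibre (NLLib.gens φ hφ) p.asIdeal.ResidueField))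

end Groth.Agent.S1830
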