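import Groth.Statements.S1831
import Groth.Agent.HerbrandLib

set_option autoImplicit false
universe u v
open CycAlg

namespace Groth.Agent.S1831

/-- If φ is an endomorphism of M with φ^n = 0 (n > 0) and ker φ / im φ^(n-1) has finite length, then for
each 0 ≤ i ≤ n the (2,1)-periodic complex (M, φ^i, φ^(n-i)) has finite-length cohomology modules and
its Herbrand quotient vanishes. -/
theorem result {R : Type u} [CommRing R] {M : Type v} [AddCommGroup M] [Module R M] (φ : M →ₗ[R] M) (n : ℕ) (hn : 0 < n) (hφ : φ ^ n = 0) (hfin : Module.length R (CycAlg.perH φ (φ ^ (n - 1))) < ⊤) (i : ℕ) (hi : i ≤ n) : CycAlg.FinCoh R (φ ^ i) (φ ^ (n - i)) ∧ CycAlg.herbrand R (φ ^ i) (φ ^ (n - i)) = 0 := by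
  classical
  have pw : ∀ (a b : ℕ) (x : M), (φ ^ a) ((φ ^ b) x) = (φ ^ (a + b)) x := fun a b x => by
    rw [pow_add]; rfl
  have pz : ∀ (a : ℕ) (x : M), n ≤ a → (φ ^ a) x = 0 := fun a x ha => by
    rw [← Nat.sub_add_cancel ha, ← pw, hφ]
    exact map_zero _
  let H : ℕ → Type v := fun j => CycAlg.perH (φ ^ j) (φ ^ (n - j))
  have hper : ∀ j, j ≤ n → CycAlg.IsPeriodic (φ ^ j) (φ ^ (n - j)) := fun j hj =>
    ⟨LinearMap.ext fun x => (pw _ _ x).trans (pz _ x (by omega)),
      LinearMap.ext fun x => (pw _ _ x).trans (pz _ x (by omega))⟩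
  -- maps between the cohomology modules induced by powers of `φ`
  let h : ∀ (j l c : ℕ), j ≤ l + c → n - l ≤ c + (n - j) →
      (CycAlg.perH (φ ^ j) (φ ^ (n - j)) →ₗ[R] CycAlg.perH (φ ^ l) (φ ^ (n - l))) :=
    fun j l c h1 h2 => HerbrandLib.hmap _ _ _ _ (φ ^ c)
      (fun x hx => by
        rw [pw, show l + c = (l + c - j) + j by omega, ← pw, hx, map_zero])
      (fun y _ => ⟨(φ ^ (c + (n - j) - (n - l))) y, by
        rw [pw, pw]; congr 2; omega⟩)
  have hexact : ∀ (j l m c c' : ℕ) (a1 : j ≤ l + c) (a2 : n - l ≤ c + (n - j))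
      (b1 : l ≤ m + c') (b2 : n - m ≤ c' + (n - l)), j ≤ n → l ≤ n → m ≤ n →
      (j ≤ c' + c ∨ n - m ≤ c' + c) →
      (∀ (y : M) (w : M), (φ ^ l) y = 0 → (φ ^ (n - m)) w = (φ ^ c') y →
        ∃ x v, (φ ^ j) x = 0 ∧ (φ ^ c) x - y = (φ ^ (n - l)) v) →
      Function.Exact (h j l c a1 a2) (h l m c' b1 b2) := by
    intro j l m c c' a1 a2 b1 b2 hj hl hm hc hlift y
    constructor
    · intro hy
      obtain ⟨⟨y, hy'⟩, rfl⟩ := Submodule.Quotient.mk_surjective _ y
      obtain ⟨w, hw⟩ := (HerbrandLib.mk_eq_zero_iff _ _ _ _).mp hy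
      obtain ⟨x, v, hx, hv⟩ := hlift y w hy' hw
      exact ⟨Submodule.Quotient.mk ⟨x, hx⟩, HerbrandLib.mk_congr _ _ _ _ _ _ v hv⟩
    · rintro ⟨x, rfl⟩
      obtain ⟨⟨x, hx⟩, rfl⟩ := Submodule.Quotient.mk_surjective _ x
      refine (HerbrandLib.mk_eq_zero_iff _ _ _ _).mpr ?_
      show ∃ w, (φ ^ (n - m)) w = (φ ^ c') ((φ ^ c) x)
      rw [pw]
      rcases hc with hc | hc
      · exact ⟨0, by
          rw [map_zero, show c' + c = c' + c - j + j by omega, ← pw, show (φ ^ j) x = 0 from hx, map_zero]⟩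
      · exact ⟨(φ ^ (c' + c - (n - m))) x, by rw [pw, show n - m + (c' + c - (n - m)) = c' + c by omega]⟩
  -- the three exact sequences at level `i`
  have ex1 : ∀ i, i + 1 ≤ n - 1 → Function.Exact (h 1 (i + 1) 0 (by omega) (by omega))
      (h (i + 1) i 1 (by omega) (by omega)) := fun i hi =>
    hexact 1 (i + 1) i 0 1 (by omega) (by omega) (by omega) (by omega) (by omega) (by omega) (by omega)
      (by omega) fun y w hy hw => by
        refine ⟨y - (φ ^ (n - (i + 1))) w, -w, ?_, ?_⟩
        · rw [map_sub, pw, show 1 + (n - (i + 1)) = n - i by omega, hw, sub_self]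
        · rw [pow_zero, map_neg, Module.End.one_apply]; abel
  have hfinH : ∀ j, j ≤ n → Module.length R (CycAlg.perH (φ ^ j) (φ ^ (n - j))) < ⊤ := by
    intro j
    induction j with
    | zero =>
      intro _
      have : Subsingleton (CycAlg.perH (φ ^ 0) (φ ^ (n - 0))) := by
        refine subsingleton_of_forall_eq 0 fun y => ?_
        obtain ⟨⟨y, hy⟩, rfl⟩ := Submodule.Quotient.mk_surjective _ y
        have hy0 : y = 0 := by simpa using hy
        exact (HerbrandLib.mk_eq_zero_iff _ _ _ _).mpr ⟨0, by rw [map_zero, hy0]⟩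
      rw [Module.length_eq_zero]
      exact ENat.coe_lt_top 0
    | succ j ih =>
      intro hj
      rcases Nat.lt_or_ge (j + 1) n with hlt | hge
      · refine HerbrandLib.length_lt_top_of_exact _ _ (ex1 j (by omega)) ?_ (ih (by omega))
        rwa [pow_one]
      · have he : j + 1 = n := by omega
        rw [he, hφ, Nat.sub_self, pow_zero]
        have : Subsingleton (CycAlg.perH (0 : M →ₗ[R] M) (1 : M →ₗ[R] M)) := by
          refine subsingleton_of_forall_eq 0 fun y => ?_
          obtain ⟨⟨y, hy⟩, rfl⟩ := Submodule.Quotient.mk_surjective _ y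
          exact (HerbrandLib.mk_eq_zero_iff _ _ _ _).mpr ⟨y, rfl⟩
        rw [Module.length_eq_zero]
        exact ENat.coe_lt_top 0
  let e : ℕ → ℤ := fun j => ((Module.length R (CycAlg.perH (φ ^ j) (φ ^ (n - j)))).toNat : ℤ)
  have hstep : ∀ i, i + 1 ≤ n - 1 →
      e (i + 1) - e (n - (i + 1)) = (e 1 - e (n - 1)) + (e i - e (n - i)) := by
    intro i hi
    exact HerbrandLib.hexagon (h 1 (i + 1) 0 (by omega) (by omega))
      (h (i + 1) i 1 (by omega) (by omega)) (h i (n - 1) 0 (by omega) (by omega))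
      (h (n - 1) (n - (i + 1)) i (by omega) (by omega)) (h (n - (i + 1)) (n - i) 0 (by omega) (by omega))
      (h (n - i) 1 (n - (i + 1)) (by omega) (by omega))
      (ex1 i hi)
      (hexact _ _ _ 1 0 (by omega) (by omega) (by omega) (by omega) (by omega) (by omega) (by omega) (by omega) fun y w hy hw => by
        rw [pow_zero, Module.End.one_apply, show n - (n - 1) = 1 by omega] at hw
        refine ⟨w, 0, ?_, ?_⟩
        · rw [← pw i 1, hw, hy]
        · rw [map_zero, hw, sub_self])
      (hexact _ _ _ 0 i (by omega) (by omega) (by omega) (by omega) (by omega) (by omega) (by omega) (by omega) fun y w hy hw => by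
        rw [show n - (n - (i + 1)) = i + 1 by omega] at hw
        refine ⟨y - (φ ^ 1) w, -w, ?_, ?_⟩
        · rw [map_sub, pw, hw, sub_self]
        · rw [pow_zero, map_neg, Module.End.one_apply, show n - (n - 1) = 1 by omega]; abel)
      (hexact _ _ _ i 0 (by omega) (by omega) (by omega) (by omega) (by omega) (by omega) (by omega) (by omega) fun y w hy hw => by
        rw [pow_zero, Module.End.one_apply, show n - (n - i) = i by omega] at hw
        refine ⟨w, 0, ?_, ?_⟩
        · rw [show n - 1 = (n - (i + 1)) + i by omega, ← pw, hw, hy]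
        · rw [map_zero, hw, sub_self])
      (hexact _ _ _ 0 (n - (i + 1)) (by omega) (by omega) (by omega) (by omega) (by omega) (by omega) (by omega) (by omega)
        fun y w hy hw => by
          refine ⟨y - (φ ^ i) w, -w, ?_, ?_⟩
          · rw [map_sub, pw, show n - (i + 1) + i = n - 1 by omega, hw, sub_self]
          · rw [pow_zero, map_neg, Module.End.one_apply, show n - (n - i) = i by omega]; abel)
      (hexact _ _ _ (n - (i + 1)) 0 (by omega) (by omega) (by omega) (by omega) (by omega) (by omega) (by omega) (by omega)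
        fun y w hy hw => by
          rw [pow_zero, Module.End.one_apply] at hw
          refine ⟨w, 0, ?_, ?_⟩
          · rw [show n - i = 1 + (n - (i + 1)) by omega, ← pw, hw, hy]
          · rw [map_zero, hw, sub_self])
      (hfinH _ (by omega)) (hfinH _ (by omega)) (hfinH _ (by omega)) (hfinH _ (by omega))
      (hfinH _ (by omega)) (hfinH _ (by omega))
  have he0 : e 0 = 0 ∧ e n = 0 := by
    constructor
    · have : Subsingleton (CycAlg.perH (φ ^ 0) (φ ^ (n - 0))) := by
        refine subsingleton_of_forall_eq 0 fun y => ?_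
        obtain ⟨⟨y, hy⟩, rfl⟩ := Submodule.Quotient.mk_surjective _ y
        have hy0 : y = 0 := by simpa using hy
        exact (HerbrandLib.mk_eq_zero_iff _ _ _ _).mpr ⟨0, by rw [map_zero, hy0]⟩
      simp [e, Module.length_eq_zero]
    · have : Subsingleton (CycAlg.perH (φ ^ n) (φ ^ (n - n))) := by
        refine subsingleton_of_forall_eq 0 fun y => ?_
        obtain ⟨⟨y, hy⟩, rfl⟩ := Submodule.Quotient.mk_surjective _ y
        exact (HerbrandLib.mk_eq_zero_iff _ _ _ _).mpr ⟨y, by rw [Nat.sub_self, pow_zero]; rfl⟩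
      simp [e, Module.length_eq_zero]
  have hlin : ∀ i, i ≤ n - 1 → e i - e (n - i) = i * (e 1 - e (n - 1)) := by
    intro i
    induction i with
    | zero => intro _; simp [he0.1, he0.2]
    | succ i ih =>
      intro hi
      rw [hstep i hi, ih (by omega)]
      push_cast
      ring
  have hone : e 1 - e (n - 1) = 0 := by
    have h1 := hlin (n - 1) le_rfl
    rw [show n - (n - 1) = 1 by omega] at h1
    have h2 : ((n - 1 : ℕ) : ℤ) + 1 ≠ 0 := by positivity
    refine (mul_eq_zero.mp ?_).resolve_left h2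
    linear_combination -h1
  refine ⟨⟨hfinH i hi, ?_⟩, ?_⟩
  · have h1 := hfinH (n - i) (by omega)
    rwa [show n - (n - i) = i by omega] at h1
  · have hv : e i - e (n - i) = 0 := by
      rcases Nat.lt_or_ge i n with hlt | hge
      · rw [hlin i (by omega), hone, mul_zero]
      · rw [show i = n by omega, Nat.sub_self, he0.1, he0.2, sub_zero]
    have key : ∀ a, a = i → ((Module.length R (CycAlg.perH (φ ^ i) (φ ^ (n - i)))).toNat : ℤ) -
        ((Module.length R (CycAlg.perH (φ ^ (n - i)) (φ ^ a))).toNat : ℤ) = 0 →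
        CycAlg.herbrand R (φ ^ i) (φ ^ (n - i)) = 0 := by
      rintro a rfl h
      exact h
    exact key _ (by omega) hv

end Groth.Agent.S1831
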