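import Groth.Statements.S18313
import Groth.Agent.ASp.HenselFamily


set_option autoImplicit false
set_option backward.isDefEq.respectTransparency false
set_option backward.isDefEq.respectTransparency.types false
universe u
open CategoryTheory CategoryTheory.Limits AlgebraicGeometry
open AlgSp

namespace Groth.Agent.S18313

/-- Let R be a Henselian local ring, S = Spec R, and X an algebraic space over S which is smooth over S,
in the sense that there are a scheme U over S with smooth structure morphism U → S and a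
representable étale, representable surjective morphism h_U → X. Then for every ideal a ≠ R, every
point h_{Spec (R/a)} → X over S is the composite of h_q with a point h_S → X over S, where q : Spec
(R/a) → S is the closed immersion. The source states this for smooth algebraic stacks over R whose
diagonal has a separated fibre over the closed point (essential surjectivity on R/a-points); the
algebraic-space case is stated here. -/
theorem result (R : Type u) [CommRing R] [HenselianLocalRing R]
    (X : AlgSp.Space (Spec (CommRingCat.of R)))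
    (hX : ∃ (U : Over (Spec (CommRingCat.of R))) (c : (AlgSp.yon (Spec (CommRingCat.of R))).obj U ⟶ X.obj),
      Smooth U.hom ∧ AlgSp.RepWith @Etale c ∧ AlgSp.RepWith @Surjective c)
    (a : Ideal R) (ha : a ≠ ⊤)
    (x₀ : (AlgSp.yon (Spec (CommRingCat.of R))).obj (Over.mk (Spec.map (CommRingCat.ofHom (Ideal.Quotient.mk a)))) ⟶ X.obj) :
    ∃ x : (AlgSp.yon (Spec (CommRingCat.of R))).obj (Over.mk (𝟙 (Spec (CommRingCat.of R)))) ⟶ X.obj,
      (AlgSp.yon (Spec (CommRingCat.of R))).map (Over.homMk (Spec.map (CommRingCat.ofHom (Ideal.Quotient.mk a)))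
        (Category.comp_id _) : Over.mk (Spec.map (CommRingCat.ofHom (Ideal.Quotient.mk a))) ⟶ Over.mk (𝟙 _)) ≫ x = x₀ := by
  obtain ⟨U, c, hU, hc, hcs⟩ := hX
  let T : Over (Spec (CommRingCat.of R)) := Over.mk (𝟙 (Spec (CommRingCat.of R)))
  have hT : Limits.IsTerminal T := Over.mkIdTerminal
  have hTy : Limits.IsTerminal ((AlgSp.yon (Spec (CommRingCat.of R))).obj T) := IsTerminal.isTerminalObj _ _ hT
  have hsm : AlgSp.LocP @Smooth (hTy.from X.obj) :=
    ASp.locP_of_chart (h := hT.from U) hc hcs (b := 𝟙 _) (AlgSp.repWith_id _ _) (hTy.hom_ext _ _)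
      (by
        rw [show (hT.from U).left = U.hom from by
          have := Over.w (hT.from U)
          simpa [T] using this]
        exact hU)
  -- an affine chart through the point
  let ι₀ : ASp.HenselLift.quo (𝟙 (Spec (CommRingCat.of R))) (IsLocalRing.maximalIdeal R) ⟶
      ASp.HenselLift.quo (𝟙 (Spec (CommRingCat.of R))) a := Over.homMk (Spec.map (CommRingCat.ofHom
      (Ideal.Quotient.factor (IsLocalRing.le_maximalIdeal ha)))) (by
        show _ ≫ _ ≫ _ = _ ≫ _
        rw [← Spec.map_comp_assoc]
        congr 2)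
  let e : ASp.HenselLift.quo (𝟙 (Spec (CommRingCat.of R))) a ≅ Over.mk (Spec.map (CommRingCat.ofHom (Ideal.Quotient.mk a))) :=
    Over.isoMk (Iso.refl _) (by simp)
  obtain ⟨Z, q, l₀, hZ, hq, hl⟩ := ASp.HenselLift.exists_chart_point (𝟙 (Spec (CommRingCat.of R))) X.property
    ((AlgSp.yon _).map ι₀ ≫ (AlgSp.yon _).map e.hom ≫ x₀)
  obtain ⟨g, hg⟩ := ASp.HenselLift.exists_chart_quo (𝟙 (Spec (CommRingCat.of R))) hq a ha
    ((AlgSp.yon _).map e.hom ≫ x₀) ι₀ rfl l₀ hl
  haveI : Smooth (hT.from Z).left :=
    hsm q (𝟙 _) (hT.from Z) hq (AlgSp.repWith_id _ _) (hTy.hom_ext _ _)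
  obtain ⟨z', -, hz'⟩ := ASp.HenselLift.exists_lift_scheme (𝟙 (Spec (CommRingCat.of R))) (hT.from Z) a ha (𝟙 T) g
    (hT.hom_ext _ _)
  refine ⟨(AlgSp.yon _).map z' ≫ q, ?_⟩
  rw [← cancel_epi ((AlgSp.yon (Spec (CommRingCat.of R))).map e.hom), ← hg, ← hz']
  simp only [← Functor.map_comp_assoc]
  congr 2

end Groth.Agent.S18313
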