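import Groth.Statements.S18317
import Mathlib
open CategoryTheory CategoryTheory.MonoidalCategory CategoryTheory.CartesianMonoidalCategory CategoryTheory.MonObj AlgebraicGeometry
open scoped CategoryTheory.MonoidalCategory CategoryTheory.MonObj
-- import your own Groth.Agent.* helpers here

set_option autoImplicit false
universe u
open CategoryTheory AlgebraicGeometry
open NonAbH1

namespace Groth.Agent.S18317

/-- Let K be a field and G a finite connected K-group scheme (G → Spec K finite, G connected as a
topological space). Then every G-torsor X over Spec K for the étale topology (a K-scheme with an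
action of G whose shear map G ×_K X → X ×_K X is an isomorphism and which acquires a section over
the members of some étale covering of Spec K) is trivial: X has a K-point. -/
theorem result (K : Type u) [Field K]
    (G X : Over (Spec (CommRingCat.of K))) [GrpObj G] [IsFinite G.hom] [ConnectedSpace G.left]
    (a : AlgGrp.Action G X) (h : NonAbH1.IsTorsorFor Scheme.etalePrecoverage a) :
    NonAbH1.HasSectionOver X (𝟙 (Spec (CommRingCat.of K))) := by
  obtain ⟨hshear, R, hR, hsec⟩ := h
    -- `G` has one point
  haveI : IsLocallyArtinian G.left := IsLocallyArtinian.of_locallyQuasiFinite G.hom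
  haveI : DiscreteTopology G.left := IsLocallyArtinian.discreteTopology
  haveI : Subsingleton G.left := PreconnectedSpace.trivial_of_discrete
  let e : Spec (CommRingCat.of K) ⟶ G.left := η[G].left
  have he : e ≫ G.hom = 𝟙 _ := Over.w η[G]
  have hG : ∀ (Ω : Type u) [Field Ω] (g : Spec (CommRingCat.of Ω) ⟶ G.left), g = (g ≫ G.hom) ≫ e := by
    intro Ω _ g
    obtain ⟨⟨x, ii⟩, rfl⟩ := (Scheme.SpecToEquivOfField Ω G.left).symm.surjective g
    obtain ⟨⟨x', j⟩, hj⟩ := (Scheme.SpecToEquivOfField K G.left).symm.surjective e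
    obtain rfl : x' = x := Subsingleton.elim _ _
    replace hj : Spec.map j ≫ G.left.fromSpecResidueField x' = e := hj
    let a₀ := Spec.preimage (G.left.fromSpecResidueField x' ≫ G.hom)
    have ha : Spec.map a₀ = G.left.fromSpecResidueField x' ≫ G.hom := Spec.map_preimage _
    have h1 : a₀ ≫ j = 𝟙 _ := Spec.map_injective (by rw [Spec.map_comp, ha, Spec.map_id, ← Category.assoc, hj, he])
    have h2 : j ≫ a₀ = 𝟙 _ := CommRingCat.hom_ext (RingHom.ext fun z => j.hom.injective
      (show j (a₀ (j z)) = j z from RingHom.congr_fun (congrArg CommRingCat.Hom.hom h1) (j z)))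
    show Spec.map ii ≫ _ = ((Spec.map ii ≫ _) ≫ G.hom) ≫ e
    rw [Category.assoc (Spec.map ii), ← ha, ← hj, Category.assoc, ← Category.assoc (Spec.map a₀), ← Spec.map_comp, h2, Spec.map_id, Category.id_comp]
  -- `X` has at most one point in each field
  have hX : ∀ (Ω : Type u) [Field Ω] (p q : Spec (CommRingCat.of Ω) ⟶ X.left), p ≫ X.hom = q ≫ X.hom → p = q := by
    intro Ω _ p q hpq
    let T : Over (Spec (CommRingCat.of K)) := Over.mk (p ≫ X.hom)
    let P : T ⟶ X := Over.homMk p rfl
    let Q : T ⟶ X := Over.homMk q hpq.symm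
    haveI : IsIso (lift a.act (snd G X)) := hshear
    let z : T ⟶ G ⊗ X := lift P Q ≫ inv (lift a.act (snd G X))
    have hz : z ≫ lift a.act (snd G X) = lift P Q := (Category.assoc _ _ _).trans ((congrArg _ (IsIso.inv_hom_id _)).trans (Category.comp_id _))
    have hz1 : z ≫ a.act = P := by
      have := hz =≫ fst X X
      simpa using this
    have hz2 : z ≫ snd G X = Q := by
      have := hz =≫ snd X X
      simpa using this
    have hg : z ≫ fst G X = toUnit T ≫ η[G] := Over.OverMorphism.ext
      ((hG Ω (z ≫ fst G X).left).trans (congrArg (· ≫ e) (Over.w (z ≫ fst G X))))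
    have hPQ : P = Q := by
      rw [← hz1, ← hz2]
      have hz' : z = lift (toUnit T) (z ≫ snd G X) ≫ (η[G] ▷ X) := by
        apply CartesianMonoidalCategory.hom_ext <;> simp [hg]
      conv_lhs => rw [hz', Category.assoc, a.one_act]
      simp
    exact congrArg CommaMorphism.left hPQ
  -- a member of the étale covering
  obtain ⟨S', f, hRf, pt⟩ : ∃ (S' : Scheme.{u}) (f : S' ⟶ Spec (CommRingCat.of K)) (_ : R f), Nonempty S' := by
    obtain ⟨S', f, hf, hx⟩ := ((Presieve.mem_comap_jointlySurjectivePrecoverage_iff _).1 hR.1) (IsLocalRing.closedPoint K)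
    exact ⟨S', f, hf, ⟨hx.choose⟩⟩
  haveI : Etale f := hR.2 hRf
  obtain ⟨y⟩ := pt
  obtain ⟨s, hs⟩ := hsec f hRf
  obtain ⟨⟨x₀, ii⟩, hii⟩ := (Scheme.SpecToEquivOfField (S'.residueField y) X.left).symm.surjective (S'.fromSpecResidueField y ≫ s)
  replace hii : Spec.map ii ≫ X.left.fromSpecResidueField x₀ = S'.fromSpecResidueField y ≫ s := hii
  let a₀ := Spec.preimage (X.left.fromSpecResidueField x₀ ≫ X.hom)
  have ha : Spec.map a₀ = X.left.fromSpecResidueField x₀ ≫ X.hom := Spec.map_preimage _
  let c := Spec.preimage ((Spec (CommRingCat.of K)).fromSpecResidueField (f y))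
  have hc : Spec.map c = (Spec (CommRingCat.of K)).fromSpecResidueField (f y) := Spec.map_preimage _
  have hci : Function.Bijective c := by
    obtain ⟨⟨q₀, j⟩, hj⟩ := (Scheme.SpecToEquivOfField K (Spec (CommRingCat.of K))).symm.surjective (𝟙 _)
    obtain rfl : q₀ = f y := Subsingleton.elim _ _
    replace hj : Spec.map j ≫ (Spec (CommRingCat.of K)).fromSpecResidueField (f y) = 𝟙 _ := hj
    have h1 : c ≫ j = 𝟙 _ := Spec.map_injective (by rw [Spec.map_comp, hc, hj, Spec.map_id])
    refine Function.bijective_iff_has_inverse.2 ⟨j, fun z => RingHom.congr_fun (congrArg CommRingCat.Hom.hom h1) z,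
      fun z => j.hom.injective (show j (c (j z)) = j z from RingHom.congr_fun (congrArg CommRingCat.Hom.hom h1) (j z))⟩
  have hbc : c ≫ f.residueFieldMap y = a₀ ≫ ii := Spec.map_injective (by
    rw [Spec.map_comp, Spec.map_comp, hc, ha, Scheme.Hom.SpecMap_residueFieldMap_fromSpecResidueField,
      ← Category.assoc, hii, Category.assoc, hs])
  let k₀ := X.left.residueField x₀
  let L := S'.residueField y
  letI : Algebra K k₀ := a₀.hom.toAlgebra
  letI : Algebra k₀ L := ii.hom.toAlgebra
  letI : Algebra K L := (a₀ ≫ ii).hom.toAlgebra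
  haveI : IsScalarTower K k₀ L := .of_algebraMap_eq fun _ => rfl
  letI : Algebra ((Spec (CommRingCat.of K)).residueField (f y)) L := (f.residueFieldMap y).hom.toAlgebra
  haveI : Algebra.IsSeparable ((Spec (CommRingCat.of K)).residueField (f y)) L := inferInstance
  haveI : Algebra.IsSeparable K L := Algebra.IsSeparable.of_equiv_equiv
    (RingEquiv.ofBijective c.hom hci).symm (RingEquiv.refl L) (RingHom.ext fun z => by
      obtain ⟨z, rfl⟩ := hci.2 z
      show (a₀ ≫ ii) ((RingEquiv.ofBijective c.hom hci).symm (c z)) = f.residueFieldMap y (c z)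
      rw [show (RingEquiv.ofBijective c.hom hci).symm (c z) = z from (RingEquiv.ofBijective c.hom hci).symm_apply_apply z]
      exact RingHom.congr_fun (congrArg CommRingCat.Hom.hom hbc.symm) z)
  haveI : Algebra.IsSeparable K k₀ := Algebra.isSeparable_tower_bot_of_isSeparable K k₀ L
  haveI : Subsingleton (Field.Emb K k₀) := ⟨fun φ ψ => by
    have h' : ∀ χ : Field.Emb K k₀, a₀ ≫ CommRingCat.ofHom χ.toRingHom = CommRingCat.ofHom (algebraMap K (AlgebraicClosure k₀)) :=
      fun χ => CommRingCat.hom_ext (RingHom.ext fun z => χ.commutes z)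
    have := hX (AlgebraicClosure k₀) (Spec.map (CommRingCat.ofHom φ.toRingHom) ≫ X.left.fromSpecResidueField x₀)
      (Spec.map (CommRingCat.ofHom ψ.toRingHom) ≫ X.left.fromSpecResidueField x₀)
      (by rw [Category.assoc, Category.assoc, ← ha, ← Spec.map_comp, ← Spec.map_comp]; exact congrArg Spec.map ((h' φ).trans (h' ψ).symm))
    rw [cancel_mono] at this
    exact AlgHom.coe_ringHom_injective (congrArg CommRingCat.Hom.hom (Spec.map_injective this))⟩
  haveI : Inhabited (Field.Emb K k₀) := ⟨IsScalarTower.toAlgHom K k₀ _⟩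
  haveI : IsPurelyInseparable K k₀ := isPurelyInseparable_of_finSepDegree_eq_one (Nat.card_unique)
  have hb : Function.Bijective a₀ :=
    ⟨a₀.hom.injective, IsPurelyInseparable.surjective_algebraMap_of_isSeparable K k₀⟩
  let ei := (RingEquiv.ofBijective a₀.hom hb).toCommRingCatIso
  refine ⟨Spec.map ei.inv ≫ X.left.fromSpecResidueField x₀, ?_⟩
  rw [Category.assoc, ← ha, ← Spec.map_comp, show a₀ ≫ ei.inv = 𝟙 _ from ei.hom_inv_id, Spec.map_id]

end Groth.Agent.S18317
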