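import Groth.Statements.S18319
import Groth.Agent.SchDesc.TorsorDesc
import Groth.Agent.FpqcDesc.Basic
import Groth.Agent.PrincBundLib.Descends
import Groth.Agent.TorsFlatLib.Flat
-- import your own Groth.Agent.* helpers here

set_option autoImplicit false
set_option backward.isDefEq.respectTransparency false
set_option maxHeartbeats 800000
set_option synthInstance.maxHeartbeats 200000
universe u
open CategoryTheory AlgebraicGeometry
open NonAbH1

namespace Groth.Agent.S18319

open IsLocalRing in
/-- A point over `K` of a scheme with residue field equal to `K`. -/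
lemma point_factor {K Ω : Type u} [Field K] [Field Ω] {Y : Scheme.{u}} (f : Y ⟶ Spec (CommRingCat.of K))
    (g : Spec (CommRingCat.of Ω) ⟶ Y) :
    ∃ (y : Y) (φ : Y.residueField y ⟶ CommRingCat.of Ω), y = g (closedPoint Ω) ∧ Spec.map φ ≫ Y.fromSpecResidueField y = g :=
  ⟨g (closedPoint Ω), Y.descResidueField (Scheme.stalkClosedPointTo g), rfl,
    Scheme.descResidueField_stalkClosedPointTo_fromSpecResidueField Ω Y g⟩

open IsLocalRing in
/-- A scheme over `K` with one point and a rational point has a single point in every field. -/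
lemma unique_point {K Ω : Type u} [Field K] [Field Ω] {Y : Scheme.{u}} [Subsingleton Y]
    (f : Y ⟶ Spec (CommRingCat.of K)) (o : Spec (CommRingCat.of K) ⟶ Y) (ho : o ≫ f = 𝟙 _)
    (g g' : Spec (CommRingCat.of Ω) ⟶ Y) (h : g ≫ f = g' ≫ f) : g = g' := by
  obtain ⟨y, φ₀, -, h₀⟩ := point_factor f o
  obtain ⟨ψ, hψ⟩ := Spec.map_surjective (Y.fromSpecResidueField y ≫ f)
  have h1 : ψ ≫ φ₀ = 𝟙 _ := Spec.map_injective (by
    rw [Spec.map_comp, hψ, ← Category.assoc, h₀, ho, Spec.map_id])
  have hb : Function.Bijective ψ.hom := by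
    refine ⟨ψ.hom.injective, fun l => ⟨φ₀.hom l, φ₀.hom.injective ?_⟩⟩
    exact ConcreteCategory.congr_hom h1 (φ₀.hom l)
  haveI : IsIso ψ := (ConcreteCategory.isIso_iff_bijective ψ).mpr hb
  haveI : IsIso (Y.fromSpecResidueField y ≫ f) := by rw [← hψ]; infer_instance
  obtain ⟨y', φ', -, h'⟩ := point_factor f g
  obtain ⟨y'', φ'', -, h''⟩ := point_factor f g'
  obtain rfl := Subsingleton.elim y' y
  obtain rfl := Subsingleton.elim y'' y'
  have e : Spec.map φ' = Spec.map φ'' := by
    rw [← cancel_mono (Y.fromSpecResidueField y'' ≫ f), ← Category.assoc, ← Category.assoc, h', h'', h]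
  rw [← h', ← h'', e]

/-- A finite scheme over a perfect field with at most one geometric point has a rational point. -/
lemma exists_section {K : Type u} [Field K] [PerfectField K] {Y : Scheme.{u}}
    (f : Y ⟶ Spec (CommRingCat.of K)) [IsFinite f] [Surjective f]
    (hone : ∀ g g' : Spec (CommRingCat.of (AlgebraicClosure K)) ⟶ Y, g ≫ f = g' ≫ f → g = g') :
    ∃ s : Spec (CommRingCat.of K) ⟶ Y, s ≫ f = 𝟙 _ := by
  obtain ⟨y, -⟩ := f.surjective default
  haveI : DiscreteTopology ↥Y := by
    have h := f.isDiscrete_preimage_singleton default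
    rw [show f ⁻¹' {default} = Set.univ from
      Set.eq_univ_of_forall fun z => Subsingleton.elim (α := ↥(Spec (CommRingCat.of K))) _ _] at h
    exact isDiscrete_univ_iff.1 h
  haveI : IsClosedImmersion (Y.fromSpecResidueField y) :=
    isClosed_singleton_iff_isClosedImmersion.mp (isClosed_discrete _)
  obtain ⟨ψ, hψ⟩ := Spec.map_surjective (Y.fromSpecResidueField y ≫ f)
  haveI hfin : IsFinite (Spec.map ψ) := by rw [hψ]; infer_instance
  letI : Algebra K (Y.residueField y) := ψ.hom.toAlgebra
  haveI : Module.Finite K (Y.residueField y) := (IsFinite.SpecMap_iff _).mp hfin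
  haveI : Algebra.IsSeparable K (Y.residueField y) := Algebra.IsAlgebraic.isSeparable_of_perfectField
  have hsub : Subsingleton (Y.residueField y →ₐ[K] AlgebraicClosure K) := ⟨fun σ τ => by
    have key : ∀ ρ : Y.residueField y →ₐ[K] AlgebraicClosure K,
        (Spec.map (CommRingCat.ofHom ρ.toRingHom) ≫ Y.fromSpecResidueField y) ≫ f =
          Spec.map (CommRingCat.ofHom (algebraMap K (AlgebraicClosure K))) := by
      intro ρ
      rw [Category.assoc, ← hψ, ← Spec.map_comp]
      congr 1
      ext r
      exact ρ.commutes r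
    have h := hone _ _ ((key σ).trans (key τ).symm)
    haveI : IsPreimmersion (Y.fromSpecResidueField y) := inferInstance
    have := Spec.map_injective ((cancel_mono (Y.fromSpecResidueField y)).mp h)
    exact AlgHom.ext fun a => ConcreteCategory.congr_hom this a⟩
  have hrank : Module.finrank K (Y.residueField y) = 1 := by
    refine le_antisymm ?_ Module.finrank_pos
    rw [← AlgHom.card K (E := Y.residueField y) (AlgebraicClosure K)]
    exact Fintype.card_le_one_iff_subsingleton.mpr hsub
  have hb : Function.Bijective ψ.hom := by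
    refine ⟨ψ.hom.injective, fun l => ?_⟩
    obtain ⟨c, hc⟩ := (finrank_eq_one_iff_of_nonzero' (1 : Y.residueField y) one_ne_zero).mp hrank l
    exact ⟨c, by rw [← hc, Algebra.smul_def, mul_one]; rfl⟩
  haveI : IsIso ψ := (ConcreteCategory.isIso_iff_bijective ψ).mpr hb
  exact ⟨inv (Spec.map ψ) ≫ Y.fromSpecResidueField y, by rw [Category.assoc, ← hψ, IsIso.inv_hom_id]⟩

/-- Let K be a perfect field and G a finite connected K-group scheme (G → Spec K finite, G connected).
Then every G-torsor X over Spec K for the fppf topology (simply transitive action, a section over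
the members of some fppf covering of Spec K) is trivial: X has a K-point. -/
theorem result (K : Type u) [Field K]
    [PerfectField K] (G X : Over (Spec (CommRingCat.of K))) [GrpObj G] [IsFinite G.hom] [ConnectedSpace G.left]
    (a : AlgGrp.Action G X) (h : NonAbH1.IsTorsorFor Scheme.fppfPrecoverage a) :
    NonAbH1.HasSectionOver X (𝟙 (Spec (CommRingCat.of K))) := by
  classical
  haveI : Flat G.hom := TorsFlatLib.flat_to_field _
  obtain ⟨h1, R, hR, hs⟩ := h
  have h' : NonAbH1.IsTorsorFor Scheme.fpqcPrecoverage a := ⟨h1, R, Scheme.fppfPrecoverage_le_fpqcPrecoverage _ hR, hs⟩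
  obtain ⟨T, σ, hT, hX⟩ := TorsorDesc.exists_trivializing a h'
  haveI : SchDesc.IsFpqc T.hom := hT
  haveI := FpqcDesc.isFinite_descends
  haveI : IsFinite X.hom := PrincBundLib.property_of_torsor @IsFinite a h' inferInstance
  haveI : Surjective X.hom := ⟨fun s => by
    obtain ⟨t, rfl⟩ := T.hom.surjective s
    exact ⟨σ.left t, by rw [← Scheme.Hom.comp_apply, Over.w σ]⟩⟩
  haveI : DiscreteTopology ↥G.left := by
    have h := G.hom.isDiscrete_preimage_singleton default
    rw [show G.hom ⁻¹' {default} = Set.univ from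
      Set.eq_univ_of_forall fun z => Subsingleton.elim (α := ↥(Spec (CommRingCat.of K))) _ _] at h
    exact isDiscrete_univ_iff.1 h
  haveI : Subsingleton ↥G.left := PreconnectedSpace.trivial_of_discrete
  refine exists_section X.hom fun g g' hg => ?_
  let U : Over (Spec (CommRingCat.of K)) := Over.mk (g ≫ X.hom)
  let x : U ⟶ X := Over.homMk g rfl
  let x' : U ⟶ X := Over.homMk g' hg.symm
  open CategoryTheory.MonoidalCategory CategoryTheory.CartesianMonoidalCategory CategoryTheory.MonObj in
    obtain ⟨c, hc, -⟩ := (PrincBundLib.isIso_lift_snd_iff a.act).mp h1 U x x'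
    have h0 : c = 1 := Over.OverMorphism.ext (unique_point G.hom η[G].left (Over.w η[G]) _ _ (by rw [Over.w c, Over.w (1 : U ⟶ G)]))
    change lift c x' ≫ a.act = x at hc
    rw [h0, AlgGrp.Action.lift_one_act] at hc
    exact (congrArg (fun m => m.left) hc).symm

end Groth.Agent.S18319
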