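import Groth.Statements.S18318
import Groth.Agent.S18319
import Groth.Agent.PrincBundLib.Invariant
-- import your own Groth.Agent.* helpers here

set_option autoImplicit false
set_option backward.isDefEq.respectTransparency false
set_option maxHeartbeats 800000
set_option synthInstance.maxHeartbeats 200000
universe u
open CategoryTheory AlgebraicGeometry
open NonAbH1
open MonoidalCategory CartesianMonoidalCategory MonObj
open scoped TensorProduct

namespace Groth.Agent.S18318

/-- Let K be a field of exponential characteristic p and G a finite connected K-group scheme. Then there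
is an integer n ≥ 0 such that every G-torsor X over Spec K for the fppf topology (simply transitive
action, a section over the members of some fppf covering) becomes trivial over the purely
inseparable extension K^{1/p^n} of K: equivalently, X admits a K-morphism from Spec K regarded as a
K-scheme through the n-th iterate x ↦ x^(p^n) of the Frobenius endomorphism of K. The source
moreover bounds n by p^n ≤ (#G)!; only the existence of a uniform n is stated here. In particular (p
= 1, characteristic zero) every such torsor is trivial. -/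
theorem result (K : Type u) [Field K]
    (p : ℕ) [ExpChar K p] (G : Over (Spec (CommRingCat.of K))) [GrpObj G] [IsFinite G.hom] [ConnectedSpace G.left] :
    ∃ n : ℕ, ∀ (X : Over (Spec (CommRingCat.of K))) (a : AlgGrp.Action G X), NonAbH1.IsTorsorFor Scheme.fppfPrecoverage a →
      NonAbH1.HasSectionOver X (Spec.map (CommRingCat.ofHom (iterateFrobenius K p n))) := by
    classical
    haveI : IsLocallyArtinian G.left := IsLocallyArtinian.of_locallyQuasiFinite G.hom
    haveI : DiscreteTopology G.left := IsLocallyArtinian.discreteTopology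
    haveI : Subsingleton G.left := PreconnectedSpace.trivial_of_discrete
    by_cases hp : p = 1
    · subst hp
      haveI : CharZero K := charZero_of_expChar_one' K
      refine ⟨0, fun X a ha => ?_⟩
      obtain ⟨s, hs⟩ := Groth.Agent.S18319.result K G X a ha
      refine ⟨s, hs.trans ?_⟩
      rw [show iterateFrobenius K 1 0 = RingHom.id K from RingHom.ext fun c => iterateFrobenius_zero_apply K 1 c]
      exact (Spec.map_id _).symm
    -- the augmentation ideal is nilpotent
    haveI : IsAffine G.left := isAffine_of_isAffineHom G.hom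
    let A : CommRingCat.{u} := Γ(G.left, ⊤)
    let st : CommRingCat.of K ⟶ A := Spec.preimage (G.left.isoSpec.inv ≫ G.hom)
    have hst : Spec.map st = G.left.isoSpec.inv ≫ G.hom := Spec.map_preimage _
    let ev : A ⟶ CommRingCat.of K := Spec.preimage ((η[G] : 𝟙_ _ ⟶ G).left ≫ G.left.isoSpec.hom)
    have hev : Spec.map ev = (η[G] : 𝟙_ _ ⟶ G).left ≫ G.left.isoSpec.hom := Spec.map_preimage _
    have hse : ∀ c, ev (st c) = c := by
      have h : st ≫ ev = 𝟙 _ := Spec.map_injective (by
        rw [Spec.map_comp, hst, hev, Category.assoc, Iso.hom_inv_id_assoc, Spec.map_id]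
        exact Over.w (η[G] : 𝟙_ _ ⟶ G))
      exact fun c => congrArg (fun f : CommRingCat.of K ⟶ CommRingCat.of K => f c) h
    haveI : IsNoetherianRing A := by
      letI : Algebra K A := st.hom.toAlgebra
      haveI : IsFinite (Spec.map st) := by rw [hst]; infer_instance
      haveI : Module.Finite K A := ((IsFinite.SpecMap_iff st).mp ‹IsFinite (Spec.map st)› :)
      exact isNoetherian_of_tower K (inferInstance : IsNoetherian K A)
    haveI : Subsingleton (PrimeSpectrum A) :=
      (Equiv.subsingleton_congr G.left.isoSpec.hom.homeomorph.toEquiv).1 ‹_›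
    have hnil : RingHom.ker ev.hom ≤ nilradical A := by
      intro z hz
      rw [nilradical_eq_sInf, Ideal.mem_sInf]
      intro P hP
      haveI : (RingHom.ker ev.hom).IsPrime := RingHom.ker_isPrime _
      rw [show P = RingHom.ker ev.hom from congrArg PrimeSpectrum.asIdeal
        (Subsingleton.elim (⟨P, hP⟩ : PrimeSpectrum A) ⟨RingHom.ker ev.hom, inferInstance⟩)]
      exact hz
    obtain ⟨N, hN⟩ := IsNoetherianRing.isNilpotent_nilradical A
    refine ⟨N, fun X a ha => ?_⟩
    obtain ⟨hpt, R, hR, hsec⟩ := ha
    obtain ⟨x₀⟩ : Nonempty X.left := by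
      obtain ⟨S', f, hf, ⟨w, -⟩⟩ :=
        ((Presieve.mem_comap_jointlySurjectivePrecoverage_iff _).1 hR.1) (IsLocalRing.closedPoint K)
      obtain ⟨s, -⟩ := hsec f hf
      exact ⟨s w⟩
    let a₀ : CommRingCat.of K ⟶ X.left.residueField x₀ := Spec.preimage (X.left.fromSpecResidueField x₀ ≫ X.hom)
    have ha₀ : Spec.map a₀ = X.left.fromSpecResidueField x₀ ≫ X.hom := Spec.map_preimage _
    let L : Type u := X.left.residueField x₀
    letI : Algebra K L := a₀.hom.toAlgebra
    let C : Type u := L ⊗[K] L
    let i1 : X.left.residueField x₀ ⟶ CommRingCat.of C :=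
      CommRingCat.ofHom (Algebra.TensorProduct.includeLeftRingHom (R := K) (A := L) (B := L))
    let i2 : X.left.residueField x₀ ⟶ CommRingCat.of C :=
      CommRingCat.ofHom (Algebra.TensorProduct.includeRight (R := K) (A := L) (B := L)).toRingHom
    let sC : CommRingCat.of K ⟶ CommRingCat.of C := CommRingCat.ofHom (algebraMap K C)
    have hi1 : a₀ ≫ i1 = sC := rfl
    have hi2 : a₀ ≫ i2 = sC := CommRingCat.hom_ext (RingHom.ext fun c =>
      (Algebra.TensorProduct.includeRight (R := K) (A := L) (B := L)).commutes c)
    let U : Over (Spec (CommRingCat.of K)) := Over.mk (Spec.map sC)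
    let P₁ : U ⟶ X := Over.homMk (Spec.map i1 ≫ X.left.fromSpecResidueField x₀) (by
      rw [Category.assoc, ← ha₀, ← Spec.map_comp, hi1]; rfl)
    let P₂ : U ⟶ X := Over.homMk (Spec.map i2 ≫ X.left.fromSpecResidueField x₀) (by
      rw [Category.assoc, ← ha₀, ← Spec.map_comp, hi2]; rfl)
    obtain ⟨c, hc, -⟩ := (Groth.Agent.PrincBundLib.isIso_lift_snd_iff a.act).mp hpt U P₁ P₂
    change lift c P₂ ≫ a.act = P₁ at hc
    let g : A ⟶ CommRingCat.of C := Spec.preimage (c.left ≫ G.left.isoSpec.hom)
    have hg : Spec.map g = c.left ≫ G.left.isoSpec.hom := Spec.map_preimage _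
    have hgs : ∀ r, g (st r) = sC r := by
      have h : st ≫ g = sC := Spec.map_injective (by
        rw [Spec.map_comp, hst, hg, Category.assoc, Iso.hom_inv_id_assoc]
        exact Over.w c)
      exact fun r => congrArg (fun f : CommRingCat.of K ⟶ CommRingCat.of C => f r) h
    let J : Ideal C := (RingHom.ker ev.hom).map g.hom
    have hJ : J ^ N = ⊥ := by
      rw [← Ideal.map_pow, eq_bot_iff]
      refine (Ideal.map_mono (le_of_le_of_eq (Ideal.pow_right_mono hnil N) hN)).trans ?_
      rw [Ideal.zero_eq_bot, Ideal.map_bot]
    -- modulo `J` the two points agree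
    let q : CommRingCat.of C ⟶ CommRingCat.of (C ⧸ J) := CommRingCat.ofHom (Ideal.Quotient.mk J)
    let V : Over (Spec (CommRingCat.of K)) := Over.mk (Spec.map (sC ≫ q))
    let i : V ⟶ U := Over.homMk (Spec.map q) (Spec.map_comp _ _).symm
    have hone : i ≫ c = 1 := by
      rw [Hom.one_def]
      refine Over.OverMorphism.ext ?_
      show Spec.map q ≫ c.left = (toUnit V).left ≫ (η[G] : 𝟙_ _ ⟶ G).left
      rw [← cancel_mono G.left.isoSpec.hom, Category.assoc, Category.assoc, ← hg, ← hev, Over.toUnit_left,
        show V.hom = Spec.map (sC ≫ q) from rfl, ← Spec.map_comp, ← Spec.map_comp]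
      refine congrArg Spec.map (CommRingCat.hom_ext (RingHom.ext fun z => ?_))
      show Ideal.Quotient.mk J (g z) = Ideal.Quotient.mk J (sC (ev z))
      rw [← hgs, Ideal.Quotient.eq, ← map_sub]
      exact Ideal.mem_map_of_mem _ (RingHom.mem_ker.2 (show ev (z - st (ev z)) = 0 by rw [map_sub, hse, sub_self]))
    have hP : i ≫ P₂ = i ≫ P₁ := by
      rw [← hc, ← Category.assoc, comp_lift, hone, AlgGrp.Action.lift_one_act]
    have hker : ∀ y : L, i1 y - i2 y ∈ J := by
      intro y
      have h := congrArg CommaMorphism.left hP
      change Spec.map q ≫ Spec.map i2 ≫ _ = Spec.map q ≫ Spec.map i1 ≫ _ at h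
      rw [← Category.assoc, ← Category.assoc, cancel_mono, ← Spec.map_comp, ← Spec.map_comp] at h
      exact Ideal.Quotient.eq.1 (congrArg (fun f : X.left.residueField x₀ ⟶ CommRingCat.of (C ⧸ J) => f y)
        (Spec.map_injective h)).symm
    -- the `p ^ N`-th powers lie in `K`
    haveI : ExpChar L p := expChar_of_injective_algebraMap (algebraMap K L).injective p
    haveI : Nontrivial C := Algebra.TensorProduct.nontrivial_of_algebraMap_injective_of_isDomain K L L
      (algebraMap K L).injective (algebraMap K L).injective
    haveI : ExpChar C p := expChar_of_injective_algebraMap (algebraMap K C).injective p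
    have hpow : ∀ y : L, y ^ p ^ N ∈ (algebraMap K L).range := by
      intro y
      have hle : N ≤ p ^ N := (Nat.lt_pow_self (lt_of_le_of_ne (expChar_pos K p) (Ne.symm hp))).le
      have h0 : (i1 y - i2 y) ^ p ^ N = 0 := by
        have h := Ideal.pow_le_pow_right hle (Ideal.pow_mem_pow (hker y) (p ^ N))
        rwa [hJ, Ideal.mem_bot] at h
      rw [sub_pow_expChar_pow, sub_eq_zero, ← map_pow, ← map_pow] at h0
      obtain ⟨l, hl⟩ := (Algebra.linearMap K L).exists_leftInverse_of_injective
        (LinearMap.ker_eq_bot.2 (algebraMap K L).injective)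
      have hl1 : l 1 = 1 := by
        have := LinearMap.congr_fun hl 1
        simpa using this
      refine ⟨l (y ^ p ^ N), ?_⟩
      have h1 := congrArg (fun z : L ⊗[K] L => TensorProduct.lid K L (LinearMap.rTensor L l z)) h0
      change TensorProduct.lid K L (LinearMap.rTensor L l ((y ^ p ^ N) ⊗ₜ[K] (1 : L))) =
        TensorProduct.lid K L (LinearMap.rTensor L l ((1 : L) ⊗ₜ[K] (y ^ p ^ N))) at h1
      simp only [LinearMap.rTensor_tmul, TensorProduct.lid_tmul, hl1, one_smul] at h1
      rwa [Algebra.smul_def, _root_.mul_one] at h1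
    let em : K ≃+* (algebraMap K L).range := RingEquiv.ofBijective (algebraMap K L).rangeRestrict
      ⟨fun u v h => (algebraMap K L).injective (congrArg Subtype.val h), (algebraMap K L).rangeRestrict_surjective⟩
    let ψ : L →+* K := em.symm.toRingHom.comp ((iterateFrobenius L p N).codRestrict (algebraMap K L).range
      fun y => by rw [iterateFrobenius_def]; exact hpow y)
    have hψ : ∀ r : K, ψ (algebraMap K L r) = iterateFrobenius K p N r := by
      intro r
      apply em.injective
      show em (em.symm _) = _
      rw [RingEquiv.apply_symm_apply]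
      refine Subtype.ext ?_
      show iterateFrobenius L p N (algebraMap K L r) = algebraMap K L (iterateFrobenius K p N r)
      rw [iterateFrobenius_def, iterateFrobenius_def, map_pow]
    refine ⟨Spec.map (CommRingCat.ofHom ψ) ≫ X.left.fromSpecResidueField x₀, ?_⟩
    rw [Category.assoc, ← ha₀, ← Spec.map_comp]
    exact congrArg Spec.map (CommRingCat.hom_ext (RingHom.ext hψ))

end Groth.Agent.S18318
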