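import Groth.Statements.S1832
import Groth.Agent.HerbrandLib
import Groth.Agent.S16234

set_option autoImplicit false
universe u v
open Pointwise
open CycAlg

namespace Groth.Agent.S1832

open Groth.Agent

theorem length_lt_top_of_killed {R : Type u} [CommRing R] [IsNoetherianRing R] [IsLocalRing R]
    {M N : Type v} [AddCommGroup M] [Module R M] [Module.Finite R M] [AddCommGroup N] [Module R N]
    [Module.Finite R N] (x : R) (hx : Module.supportDim R (M ⧸ x • (⊤ : Submodule R M)) ≤ 0)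
    (hkill : ∀ z : N, x • z = 0) (hsupp : Module.support R N ⊆ Module.support R M) :
    Module.length R N < ⊤ := by
  refine lt_top_iff_ne_top.mpr (Module.length_ne_top_iff.mpr
    ((Groth.Agent.S16234.result R N).1 fun q hq => ?_))
  by_contra hmax
  have hxq : x ∈ q.asIdeal := by
    by_contra hxq
    refine (Module.notMem_support_iff'.2 fun n => ⟨x, hxq, hkill n⟩) hq
  have hqm : q.asIdeal < IsLocalRing.maximalIdeal R :=
    lt_of_le_of_ne (IsLocalRing.le_maximalIdeal q.isPrime.ne_top)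
      fun e => hmax (e ▸ IsLocalRing.maximalIdeal.isMaximal R)
  have hq' : q ∈ Module.support R (M ⧸ x • (⊤ : Submodule R M)) := by
    rw [← Submodule.ideal_span_singleton_smul, Module.support_quotient]
    refine ⟨hsupp hq, ?_⟩
    rw [PrimeSpectrum.mem_zeroLocus]
    exact (Ideal.span_singleton_le_iff_mem _).mpr hxq
  have hm' : IsLocalRing.closedPoint R ∈ Module.support R (M ⧸ x • (⊤ : Submodule R M)) :=
    Module.mem_support_mono hqm.le hq'
  let l : LTSeries (Module.support R (M ⧸ x • (⊤ : Submodule R M))) :=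
    LTSeries.mk 1 ![⟨q, hq'⟩, ⟨IsLocalRing.closedPoint R, hm'⟩]
      (Fin.strictMono_iff_lt_succ.2 fun i => by
        fin_cases i
        exact Subtype.mk_lt_mk.2 hqm)
  have h2 := (Order.LTSeries.length_le_krullDim l).trans hx
  exact absurd h2 (by
    show ¬ ((1 : ℕ) : WithBot ℕ∞) ≤ 0
    norm_cast)

theorem smul_left_aux {R : Type u} [CommRing R] [IsNoetherianRing R] [IsLocalRing R] {M : Type v}
    [AddCommGroup M] [Module R M] [Module.Finite R M] (φ ψ : M →ₗ[R] M)
    (hper : CycAlg.IsPeriodic φ ψ) (hfin : CycAlg.FinCoh R φ ψ) (x : R)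
    (hx : Module.supportDim R (M ⧸ x • (⊤ : Submodule R M)) ≤ 0) :
    CycAlg.FinCoh R (x • φ) ψ ∧ CycAlg.herbrand R (x • φ) ψ = CycAlg.herbrand R φ ψ -
      CycAlg.herbrand R (0 : ↥(LinearMap.range φ) →ₗ[R] ↥(LinearMap.range φ)) (x • LinearMap.id) := by
  have hφψ : ∀ y, φ (ψ y) = 0 := LinearMap.congr_fun hper.1
  have hψφ : ∀ y, ψ (φ y) = 0 := LinearMap.congr_fun hper.2
  let I := LinearMap.range φ
  let z0 : ↥I →ₗ[R] ↥I := 0
  let xI : ↥I →ₗ[R] ↥I := x • LinearMap.id
  haveI : Module.Finite R I := inferInstance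
  have hsI : Module.support R I ⊆ Module.support R M :=
    Module.support_subset_of_injective I.subtype Subtype.val_injective
  have fA : Module.length R (CycAlg.perH z0 xI) < ⊤ := by
    refine length_lt_top_of_killed x hx (fun z => ?_)
      ((Module.support_subset_of_surjective (((LinearMap.range xI).submoduleOf (LinearMap.ker z0)).mkQ)
        (Submodule.mkQ_surjective _)).trans
        ((Module.support_subset_of_injective (LinearMap.ker z0).subtype Subtype.val_injective).trans hsI))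
    obtain ⟨⟨z, hz⟩, rfl⟩ := Submodule.Quotient.mk_surjective _ z
    rw [← Submodule.Quotient.mk_smul]
    exact (HerbrandLib.mk_eq_zero_iff _ _ _ _).mpr ⟨z, rfl⟩
  have fB : Module.length R (CycAlg.perH xI z0) < ⊤ := by
    refine length_lt_top_of_killed x hx (fun z => ?_)
      ((Module.support_subset_of_surjective (((LinearMap.range z0).submoduleOf (LinearMap.ker xI)).mkQ)
        (Submodule.mkQ_surjective _)).trans
        ((Module.support_subset_of_injective (LinearMap.ker xI).subtype Subtype.val_injective).trans hsI))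
    obtain ⟨⟨z, hz⟩, rfl⟩ := Submodule.Quotient.mk_surjective _ z
    rw [← Submodule.Quotient.mk_smul]
    refine (HerbrandLib.mk_eq_zero_iff _ _ _ _).mpr ⟨0, ?_⟩
    rw [map_zero]
    exact hz.symm
  -- kernel side
  let a := HerbrandLib.hmap φ ψ (x • φ) ψ LinearMap.id
    (fun z hz => by show x • φ z = 0; rw [hz, smul_zero]) (fun y _ => ⟨y, rfl⟩)
  let b := HerbrandLib.hmap (x • φ) ψ xI z0 φ.rangeRestrict
    (fun z hz => Subtype.ext hz) (fun y _ => ⟨0, Subtype.ext (by
      rw [map_zero]; exact hφψ y)⟩)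
  have e0 : Module.length R (CycAlg.perH (x • φ) ψ)
      = Module.length R (CycAlg.perH φ ψ) + Module.length R (CycAlg.perH xI z0) := by
    refine Module.length_eq_add_of_exact a b ?_ ?_ ?_
    · rw [injective_iff_map_eq_zero]
      intro y hy
      obtain ⟨⟨y, hy'⟩, rfl⟩ := Submodule.Quotient.mk_surjective _ y
      exact (HerbrandLib.mk_eq_zero_iff _ _ _ _).mpr ((HerbrandLib.mk_eq_zero_iff _ _ _ _).mp hy)
    · intro y
      obtain ⟨⟨⟨_, m, rfl⟩, hy⟩, rfl⟩ := Submodule.Quotient.mk_surjective _ y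
      exact ⟨Submodule.Quotient.mk ⟨m, congrArg Subtype.val hy⟩, rfl⟩
    · intro y
      constructor
      · intro hy
        obtain ⟨⟨y, hy'⟩, rfl⟩ := Submodule.Quotient.mk_surjective _ y
        obtain ⟨w, hw⟩ := (HerbrandLib.mk_eq_zero_iff _ _ _ _).mp hy
        exact ⟨Submodule.Quotient.mk ⟨y, (congrArg Subtype.val hw).symm.trans rfl⟩, rfl⟩
      · rintro ⟨z, rfl⟩
        obtain ⟨⟨z, hz⟩, rfl⟩ := Submodule.Quotient.mk_surjective _ z
        exact (HerbrandLib.mk_eq_zero_iff _ _ _ _).mpr ⟨0, Subtype.ext (by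
          rw [map_zero]; exact (show φ z = 0 from hz).symm)⟩
  -- cokernel side
  let c := HerbrandLib.hmap z0 xI ψ (x • φ) I.subtype
    (fun z _ => by obtain ⟨m, hm⟩ := z.2; show ψ z = 0; rw [← hm, hψφ])
    (fun y _ => by
      obtain ⟨m, hm⟩ := y.2
      exact ⟨m, by show x • (y : M) = x • φ m; rw [hm]⟩)
  let d := HerbrandLib.hmap ψ (x • φ) ψ φ LinearMap.id (fun z hz => hz)
    (fun y _ => ⟨x • y, (map_smul φ x y).symm⟩)
  have e1 : Module.length R (CycAlg.perH ψ (x • φ))
      = Module.length R (CycAlg.perH z0 xI) + Module.length R (CycAlg.perH ψ φ) := by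
    refine Module.length_eq_add_of_exact c d ?_ ?_ ?_
    · rw [injective_iff_map_eq_zero]
      intro y hy
      obtain ⟨⟨y, hy'⟩, rfl⟩ := Submodule.Quotient.mk_surjective _ y
      obtain ⟨w, hw⟩ := (HerbrandLib.mk_eq_zero_iff _ _ _ _).mp hy
      exact (HerbrandLib.mk_eq_zero_iff _ _ _ _).mpr ⟨⟨φ w, w, rfl⟩, Subtype.ext hw⟩
    · intro y
      obtain ⟨⟨y, hy⟩, rfl⟩ := Submodule.Quotient.mk_surjective _ y
      exact ⟨Submodule.Quotient.mk ⟨y, hy⟩, rfl⟩
    · intro y
      constructor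
      · intro hy
        obtain ⟨⟨y, hy'⟩, rfl⟩ := Submodule.Quotient.mk_surjective _ y
        obtain ⟨w, hw⟩ := (HerbrandLib.mk_eq_zero_iff _ _ _ _).mp hy
        exact ⟨Submodule.Quotient.mk ⟨⟨y, w, hw⟩, rfl⟩, rfl⟩
      · rintro ⟨z, rfl⟩
        obtain ⟨⟨⟨z, w, rfl⟩, hz⟩, rfl⟩ := Submodule.Quotient.mk_surjective _ z
        exact (HerbrandLib.mk_eq_zero_iff _ _ _ _).mpr ⟨w, rfl⟩
  refine ⟨⟨?_, ?_⟩, ?_⟩
  · rw [e0]; exact ENat.add_lt_top.mpr ⟨hfin.1, fB⟩
  · rw [e1]; exact ENat.add_lt_top.mpr ⟨fA, hfin.2⟩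
  · simp only [CycAlg.herbrand]
    rw [e0, e1, ENat.toNat_add hfin.1.ne fB.ne, ENat.toNat_add fA.ne hfin.2.ne]
    push_cast
    ring


/-- Over a Noetherian local ring, let (M, φ, ψ) be a (2,1)-periodic complex with M finite and cohomology
of finite length, and let x be a ring element with M/xM supported in dimension ≤ 0. Then (M, xφ, ψ)
and (M, φ, xψ) again have finite-length cohomology, and their Herbrand quotients differ from that of
(M, φ, ψ) by the Herbrand quotient of (im φ, 0, x), respectively (im ψ, 0, x). -/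
theorem result {R : Type u} [CommRing R] [IsNoetherianRing R] [IsLocalRing R] {M : Type v} [AddCommGroup M] [Module R M] [Module.Finite R M] (φ ψ : M →ₗ[R] M) (hper : CycAlg.IsPeriodic φ ψ) (hfin : CycAlg.FinCoh R φ ψ) (x : R) (hx : Module.supportDim R (M ⧸ x • (⊤ : Submodule R M)) ≤ 0) : (CycAlg.FinCoh R (x • φ) ψ ∧ CycAlg.herbrand R (x • φ) ψ = CycAlg.herbrand R φ ψ - CycAlg.herbrand R (0 : ↥(LinearMap.range φ) →ₗ[R] ↥(LinearMap.range φ)) (x • LinearMap.id)) ∧ (CycAlg.FinCoh R φ (x • ψ) ∧ CycAlg.herbrand R φ (x • ψ) = CycAlg.herbrand R φ ψ + CycAlg.herbrand R (0 : ↥(LinearMap.range ψ) →ₗ[R] ↥(LinearMap.range ψ)) (x • LinearMap.id)) := by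
  refine ⟨smul_left_aux φ ψ hper hfin x hx, ?_⟩
  obtain ⟨f, e⟩ := smul_left_aux ψ φ ⟨hper.2, hper.1⟩ ⟨hfin.2, hfin.1⟩ x hx
  refine ⟨⟨f.2, f.1⟩, ?_⟩
  simp only [CycAlg.herbrand] at e ⊢
  linear_combination -e

end Groth.Agent.S1832
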