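import Groth.Statements.S18324
import Groth.Agent.KPointChart.Main
import Groth.Agent.KPointChart.Lift
import Groth.Agent.KPointChart.SmoothBase

set_option autoImplicit false
set_option backward.isDefEq.respectTransparency false
set_option backward.isDefEq.respectTransparency.types false
universe u
open AlgSt

namespace Groth.Agent.S18324

open CategoryTheory AlgebraicGeometry in
/-- Let R be a Henselian local ring, S = Spec R, and 𝒵 an algebraic stack over (Sch/S) for the fppf
topology which is smooth over S (in the chart sense: a smooth surjective scheme chart U of 𝒵 and a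
smooth V → S with a smooth U → V compatible up to isomorphism) and whose diagonal 𝒵 → 𝒵 ×_{(Sch/S)}
𝒵 is separated (representable by algebraic spaces with closed-immersion relative diagonal). Then for
every ideal a ≠ R, with q : Spec (R/a) → S the closed immersion, the restriction functor 𝒵(R) →
𝒵(R/a) is essentially surjective: every functor z₀ : (Sch/Spec (R/a)) → 𝒵 over (Sch/S) is isomorphic
to the composite of (Sch/q) with some functor z : (Sch/S) → 𝒵 over (Sch/S). The source assumes only
that the fibre of the diagonal over the closed point is separated; the diagonal itself is taken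
separated here. -/
theorem result (R : Type u) [CommRing R]
    [HenselianLocalRing R] (𝒵 : AlgSt.Cat (Spec (CommRingCat.of R)))
    (h𝒵 : AlgSt.IsAlgStack Scheme.fppfPrecoverage 𝒵)
    (hsm : AlgSt.LocQ (AlgSp.LocP @Smooth) (FibCat.toSelf 𝒵))
    (hΔ : AlgSt.RepByAlgSpWith AlgSp.IsSeparatedMor (FibCat.diag (FibCat.toSelf 𝒵)))
    (a : Ideal R) (ha : a ≠ ⊤)
    (z₀ : FibCat.overCat (Over.mk (Spec.map (CommRingCat.ofHom (Ideal.Quotient.mk a)))) ⥤ᵇ 𝒵) :
    ∃ z : FibCat.overCat (Over.mk (𝟙 (Spec (CommRingCat.of R)))) ⥤ᵇ 𝒵,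
      Nonempty (BasedFunctor.comp (AlgSt.overMap (Over.homMk (Spec.map (CommRingCat.ofHom (Ideal.Quotient.mk a)))
        (Category.comp_id _) : Over.mk (Spec.map (CommRingCat.ofHom (Ideal.Quotient.mk a))) ⟶ Over.mk (𝟙 _))) z ≅ z₀) := by
  haveI : FibCat.IsFibGrpd 𝒵.p := h𝒵.isStack.1
  open Groth.Agent.KPointChart in open Groth.Agent.ASp.HenselLift in open CategoryTheory.Limits in
  haveI : Nontrivial (R ⧸ a) := Ideal.Quotient.nontrivial_iff.2 ha
  haveI : IsLocalRing (R ⧸ a) := IsLocalRing.of_surjective' _ Ideal.Quotient.mk_surjective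
  haveI : HenselianLocalRing (R ⧸ a) := Groth.Agent.ConnEt.henselianLocalRing_of_finite R _
  let str₀ : Spec (CommRingCat.of (R ⧸ a)) ⟶ Spec (CommRingCat.of R) := Spec.map (CommRingCat.ofHom (Ideal.Quotient.mk a))
  obtain ⟨U, hU, p, u, hp, hu⟩ := exists_kchart (isStack_etale h𝒵.isStack) h𝒵.diag hΔ h𝒵.atlas
    (IsLocalRing.ResidueField (R ⧸ a)) (Spec.map (CommRingCat.ofHom (IsLocalRing.residue (R ⧸ a))) ≫ str₀)
    (BasedFunctor.comp (AlgSt.overMap (quoMap str₀ (IsLocalRing.maximalIdeal (R ⧸ a)))) z₀)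
  obtain ⟨g, ⟨hg⟩⟩ := Groth.Agent.KPointChart.exists_lift_henselian p hp str₀ z₀ u hu
  haveI := smooth_hom_of_locQ hsm p hp
  let T : Over (Spec (CommRingCat.of R)) := Over.mk (𝟙 _)
  let h : U ⟶ T := Over.homMk U.hom (Category.comp_id _)
  haveI : Smooth h.left := by assumption
  let g' : quo (𝟙 (Spec (CommRingCat.of R))) a ⟶ U := Over.homMk g.left (by
    show g.left ≫ U.hom = _ ≫ 𝟙 _
    rw [Category.comp_id]
    exact Over.w g)
  obtain ⟨z, -, hz⟩ := exists_lift_scheme (𝟙 (Spec (CommRingCat.of R))) h a ha (𝟙 T) g' (Over.OverMorphism.ext (by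
    show g.left ≫ U.hom = _ ≫ 𝟙 _
    rw [Category.comp_id]
    exact Over.w g))
  let i : Over.mk str₀ ⟶ T := Over.homMk str₀ (Category.comp_id _)
  have hiz : i ≫ z = g := Over.OverMorphism.ext (congrArg (fun t => t.left) hz :)
  refine ⟨BasedFunctor.comp (AlgSt.overMap z) p, ⟨?_ ≪≫ hg⟩⟩
  exact eqToIso (Groth.Agent.ASt.basedFunctor_ext rfl) ≪≫
    Groth.Agent.ASt.wR (Groth.Agent.ASt.overMapComp i z ≪≫ eqToIso (by rw [hiz])) p

end Groth.Agent.S18324
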