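import Groth.Statements.S18325
import Groth.Agent.ASp.HenselLift
import Groth.Agent.ASt.Rep
import Groth.Agent.ASt.Props


set_option autoImplicit false
set_option backward.isDefEq.respectTransparency false
set_option backward.isDefEq.respectTransparency.types false
universe u
open AlgSt

namespace Groth.Agent.S18325

open CategoryTheory AlgebraicGeometry in
/-- Let S be a scheme, 𝒵 an algebraic stack over (Sch/S) for the fppf topology, Z an algebraic space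
over S and f : Z → 𝒵 a functor over (Sch/S) (from the category of points of Z) which is
representable by algebraic spaces and smooth. Let R be a Henselian local ring with residue field k =
R/m and structure morphism Spec R → S, let z : (Sch/Spec R) → 𝒵 be an object of 𝒵 over Spec R, and
let z₀' : h_{Spec k} → Z be a k-point of Z whose image under f is isomorphic, over (Sch/S), to the
restriction of z to Spec k. Then there is an R-point z' : h_{Spec R} → Z whose restriction to Spec k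
is z₀' and whose image under f is isomorphic to z over (Sch/S). -/
theorem result {S : Scheme.{u}} (𝒵 : AlgSt.Cat S)
    (h𝒵 : AlgSt.IsAlgStack Scheme.fppfPrecoverage 𝒵) (Z : AlgSp.Space S)
    (f : AlgSt.ofSp Z.obj ⥤ᵇ 𝒵) (hf : AlgSt.RepByAlgSpWith (AlgSp.LocP @Smooth) f)
    (R : Type u) [CommRing R] [HenselianLocalRing R] (str : Spec (CommRingCat.of R) ⟶ S)
    (z : FibCat.overCat (Over.mk str) ⥤ᵇ 𝒵)
    (z₀ : (AlgSp.yon S).obj (Over.mk ((Spec.map (CommRingCat.ofHom (IsLocalRing.residue R))) ≫ str)) ⟶ Z.obj)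
    (w : Nonempty (BasedFunctor.comp (BasedFunctor.comp (AlgSt.ofOverCat (Over.mk ((Spec.map (CommRingCat.ofHom (IsLocalRing.residue R))) ≫ str))) (AlgSt.ofSpMap z₀)) f ≅
      BasedFunctor.comp (AlgSt.overMap (Over.homMk (Spec.map (CommRingCat.ofHom (IsLocalRing.residue R))) rfl : Over.mk ((Spec.map (CommRingCat.ofHom (IsLocalRing.residue R))) ≫ str) ⟶ Over.mk str)) z)) :
    ∃ z' : (AlgSp.yon S).obj (Over.mk str) ⟶ Z.obj,
      (AlgSp.yon S).map (Over.homMk (Spec.map (CommRingCat.ofHom (IsLocalRing.residue R))) rfl : Over.mk ((Spec.map (CommRingCat.ofHom (IsLocalRing.residue R))) ≫ str) ⟶ Over.mk str) ≫ z' = z₀ ∧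
        Nonempty (BasedFunctor.comp (BasedFunctor.comp (AlgSt.ofOverCat (Over.mk str)) (AlgSt.ofSpMap z')) f ≅ z) := by
  haveI h𝒵grpd : FibCat.IsFibGrpd 𝒵.p := h𝒵.isStack.1
  obtain ⟨-, hfib⟩ := ASt.repByAlgSpWith_iff.1 hf
  haveI : FibCat.IsFibGrpd (AlgSt.ofSp Z.obj).p := Stk.isFibGrpd_ofPsh _
  haveI : FibCat.IsFibGrpd (FibCat.fp z f).p := ASt.isFibGrpd_fp
  let T : Over S := Over.mk str
  let T₀ : Over S := Over.mk ((Spec.map (CommRingCat.ofHom (IsLocalRing.residue R))) ≫ str)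
  let i : T₀ ⟶ T := Over.homMk (Spec.map (CommRingCat.ofHom (IsLocalRing.residue R))) rfl
  obtain ⟨hs, hA, hπ⟩ := hfib T z
  let F : AlgSp.Sp S := ⟨ASt.fib z f, hs⟩
  let π : F ⟶ (AlgSp.yon S).obj T := ObjectProperty.homMk (ASt.fibπ z f)
  obtain ⟨w⟩ := w
  -- the residual point of the fibre
  let s₀ := z₀.hom.app (Opposite.op T₀) ⟨𝟙 T₀⟩
  let x₀ : (AlgSt.ofSp Z.obj).obj := ⟨T₀, s₀⟩
  let φ₀ : z.obj (ASt.ov (𝟙 T₀ ≫ i)) ⟶ f.obj x₀ := w.inv.toNatTrans.app (ASt.ov (𝟙 T₀))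
  have hφ₀ : 𝒵.p.map φ₀ = eqToHom (((z.w_obj (ASt.ov (𝟙 T₀ ≫ i))).trans (ASt.ov_base _)).trans
      ((rfl : T₀ = x₀.base).trans (f.w_obj x₀).symm)) := by
    have := BasedNatTrans.isHomLift w.inv (ASt.ov_base (𝟙 T₀))
    exact ASt.map_of_isHomLift_id (R := T₀) φ₀
  let c₀ : ASt.ClType (FibCat.fp z f) T₀ := ASt.fpEl (𝟙 T₀ ≫ i) x₀ rfl φ₀ hφ₀
  let p₀ : (AlgSp.yon S).obj T₀ ⟶ F := (AlgSp.J S).uliftYonedaEquiv.{u+1}.symm c₀
  have hp₀ : p₀ ≫ π = (AlgSp.yon S).map i ≫ 𝟙 _ := by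
    rw [Category.comp_id, GrothendieckTopology.uliftYonedaEquiv_symm_naturality_right]
    apply (AlgSp.J S).uliftYonedaEquiv.{u+1}.injective
    rw [Equiv.apply_symm_apply]
    refine Eq.trans (congrArg ULift.up ((ASt.fpHom_fpEl _ _ _ _ _).trans (Category.id_comp i))) ?_
    exact congrArg ULift.up (Category.id_comp i).symm
  -- lift it
  obtain ⟨l, hl1, hl2⟩ := ASp.HenselLift.exists_lift_of_smooth str hA (AlgSp.IsAlgSpace.yon_obj _) π hπ (𝟙 _) p₀ hp₀
  let c : ASt.ClType (FibCat.fp z f) T := (AlgSp.J S).uliftYonedaEquiv.{u+1} l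
  have hc : (AlgSp.J S).uliftYonedaEquiv.{u+1}.symm c = l := Equiv.symm_apply_apply _ _
  have hck : ASt.fpHom c = 𝟙 T := by
    have := congrArg (AlgSp.J S).uliftYonedaEquiv.{u+1} hl1
    rw [GrothendieckTopology.uliftYonedaEquiv_comp] at this
    exact congrArg ULift.down this
  have hcm : ASt.clMap i c = c₀ := by
    have := congrArg (AlgSp.J S).uliftYonedaEquiv.{u+1} hl2
    rw [← GrothendieckTopology.uliftYonedaEquiv_naturality] at this
    exact this.trans (Equiv.apply_symm_apply _ _)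
  obtain ⟨k, x, hx, φ, hφ, hcx⟩ := ASt.fpEl_exists c
  rw [hcx, ASt.fpHom_fpEl] at hck
  subst hck
  obtain ⟨T', s⟩ := x
  obtain rfl : T' = T := hx
  let zl : (AlgSp.yon S).obj T ⟶ Z.obj := (AlgSp.J S).uliftYonedaEquiv.{u+1}.symm s
  let x' : (AlgSt.ofSp Z.obj).obj := ⟨T₀, Z.obj.obj.map i.op s⟩
  let a : x' ⟶ (⟨T, s⟩ : (AlgSt.ofSp Z.obj).obj) := ⟨i, rfl⟩
  have hi : i ≫ 𝟙 T = 𝟙 T₀ ≫ i := by simp
  let φ' : z.obj (ASt.ov (𝟙 T₀ ≫ i)) ⟶ f.obj x' := ASt.facMap (f.map a) (z.map (ASt.ovHom i hi) ≫ φ)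
    (eqToHom (((z.w_obj (ASt.ov (𝟙 T₀ ≫ i))).trans (ASt.ov_base _)).trans (f.w_obj x').symm))
    (by simp [ASt.map_w, hφ, a]; rfl)
  have hφ' := ASt.map_facMap (f.map a) (z.map (ASt.ovHom i hi) ≫ φ)
    (eqToHom (((z.w_obj (ASt.ov (𝟙 T₀ ≫ i))).trans (ASt.ov_base _)).trans (f.w_obj x').symm))
    (by simp [ASt.map_w, hφ, a]; rfl)
  rw [hcx, ASt.clMap_fpEl i hi (hx' := rfl) (φ' := φ') (hφ' := hφ') a (ASt.facMap_comp _ _ _ _).symm] at hcm
  obtain ⟨b, hb, -⟩ := ASt.fpEl_eq_iff.1 hcm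
  have hsec : Z.obj.obj.map i.op s = s₀ := by
    have hb' : b.hom = 𝟙 T₀ := hb
    have := b.map_sec
    rw [hb'] at this
    rw [op_id] at this
    exact this.symm.trans (by rw [CategoryTheory.Functor.map_id]; rfl)
  refine ⟨zl, ?_, ?_⟩
  · apply (AlgSp.J S).uliftYonedaEquiv.{u+1}.injective
    rw [← GrothendieckTopology.uliftYonedaEquiv_naturality, Equiv.apply_symm_apply]
    exact hsec
  · have hz : zl.hom.app (Opposite.op T) ⟨𝟙 T⟩ = s := by
      rw [← GrothendieckTopology.uliftYonedaEquiv_apply, Equiv.apply_symm_apply]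
    haveI := ASt.isIso_of_vert φ hφ
    have hobj : (BasedFunctor.comp (BasedFunctor.comp (AlgSt.ofOverCat T) (AlgSt.ofSpMap zl)) f).obj (ASt.ov (𝟙 T)) =
        f.obj ⟨T, s⟩ := congrArg (fun t => f.obj (⟨T, t⟩ : (AlgSt.ofSp Z.obj).obj)) hz
    exact ⟨ASt.funIso (eqToHom hobj ≫ inv φ) (by simp [hφ, eqToHom_map])⟩

end Groth.Agent.S18325
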