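import Groth.Statements.S18326
import Groth.Agent.KPointChart.Small
import Groth.Agent.KPointChart.Coprod
import Groth.Agent.KPointChart.Lift
import Groth.Agent.Boot.Helpers

set_option autoImplicit false
set_option backward.isDefEq.respectTransparency false
set_option backward.isDefEq.respectTransparency.types false
universe u
open AlgSt

namespace Groth.Agent.S18326

open CategoryTheory AlgebraicGeometry in
/-- Let S be a scheme, 𝒵 an algebraic stack over (Sch/S) for the fppf topology whose diagonal 𝒵 → 𝒵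
×_{(Sch/S)} 𝒵 is separated (representable by algebraic spaces with closed-immersion relative
diagonal), and R a Henselian local ring with a structure morphism Spec R → S. Then there are a
scheme Z separated over S and a functor p : (Sch/Z) → 𝒵 over (Sch/S) which is representable by
algebraic spaces and smooth, such that for every ideal a of R (Spec (R/a) mapping to S through Spec
R) every functor (Sch/Spec (R/a)) → 𝒵 over (Sch/S) is isomorphic to (Sch/g) followed by p for some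
S-morphism g : Spec (R/a) → Z. The source assumes only that the fibre of the diagonal over the image
of the closed point is separated; the diagonal itself is taken separated here. -/
theorem result {S : Scheme.{u}} (𝒵 : AlgSt.Cat S)
    (h𝒵 : AlgSt.IsAlgStack Scheme.fppfPrecoverage 𝒵)
    (hΔ : AlgSt.RepByAlgSpWith AlgSp.IsSeparatedMor (FibCat.diag (FibCat.toSelf 𝒵)))
    (R : Type u) [CommRing R] [HenselianLocalRing R] (str : Spec (CommRingCat.of R) ⟶ S) :
    ∃ (Z : Over S) (p : FibCat.overCat Z ⥤ᵇ 𝒵), IsSeparated Z.hom ∧ AlgSt.RepByAlgSpWith (AlgSp.LocP @Smooth) p ∧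
      ∀ (a : Ideal R) (x : FibCat.overCat (Over.mk (Spec.map (CommRingCat.ofHom (Ideal.Quotient.mk a)) ≫ str)) ⥤ᵇ 𝒵),
        ∃ g : Over.mk (Spec.map (CommRingCat.ofHom (Ideal.Quotient.mk a)) ≫ str) ⟶ Z,
          Nonempty (BasedFunctor.comp (AlgSt.overMap g) p ≅ x) := by
  haveI : FibCat.IsFibGrpd 𝒵.p := h𝒵.isStack.1
  open Groth.Agent.KPointChart in open Groth.Agent.ASp.HenselLift in open CategoryTheory.Limits in
  have hst := isStack_etale h𝒵.isStack
  let strA : ∀ a : Ideal R, Spec (CommRingCat.of (R ⧸ a)) ⟶ S := fun a =>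
    Spec.map (CommRingCat.ofHom (Ideal.Quotient.mk a)) ≫ str
  haveI hnt : ∀ a : {a : Ideal R // a ≠ ⊤}, Nontrivial (R ⧸ a.1) := fun a => Ideal.Quotient.nontrivial_iff.2 a.2
  haveI hloc : ∀ a : {a : Ideal R // a ≠ ⊤}, IsLocalRing (R ⧸ a.1) := fun a =>
    IsLocalRing.of_surjective' _ Ideal.Quotient.mk_surjective
  haveI hhens : ∀ a : {a : Ideal R // a ≠ ⊤}, HenselianLocalRing (R ⧸ a.1) := fun a =>
    Groth.Agent.ConnEt.henselianLocalRing_of_finite R _
  choose ι pts hpts using fun a : {a : Ideal R // a ≠ ⊤} =>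
    Groth.Agent.KPointChart.exists_small_kpoints hst hΔ h𝒵.atlas (IsLocalRing.ResidueField (R ⧸ a.1))
      (Spec.map (CommRingCat.ofHom (IsLocalRing.residue (R ⧸ a.1))) ≫ strA a.1)
  choose U hU p u hp hu using fun i : Σ a, ι a =>
    Groth.Agent.KPointChart.exists_kchart hst h𝒵.diag hΔ h𝒵.atlas (IsLocalRing.ResidueField (R ⧸ i.1.1))
      (Spec.map (CommRingCat.ofHom (IsLocalRing.residue (R ⧸ i.1.1))) ≫ strA i.1.1) (pts i.1 i.2)
  obtain ⟨P, hP⟩ := Groth.Agent.KPointChart.exists_coprod U p hst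
  refine ⟨Groth.Agent.KPointChart.coprod U, P, ?_, Groth.Agent.KPointChart.smooth_of_coprod U h𝒵.diag P (fun i =>
    Groth.Agent.ASt.repByAlgSpWith_congr (hP i).some.symm (hp i)), fun a x => ?_⟩
  · haveI : ∀ i, (U i).left.IsSeparated := fun i => haveI := hU i; inferInstance
    haveI : (Groth.Agent.KPointChart.coprod U).left.IsSeparated :=
      Groth.Agent.Boot.isSeparated_sigma (fun i => (U i).left)
    exact IsSeparated.of_comp _ (terminal.from S)
  by_cases ha : a = ⊤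
  · haveI : Subsingleton (R ⧸ a) := Ideal.Quotient.subsingleton_iff.2 ha
    haveI : IsEmpty (Spec (CommRingCat.of (R ⧸ a))) := inferInstanceAs (IsEmpty (PrimeSpectrum (R ⧸ a)))
    let T : Over S := Over.mk (strA a)
    haveI : IsEmpty T.left := inferInstanceAs (IsEmpty (Spec (CommRingCat.of (R ⧸ a))))
    let g : T ⟶ Groth.Agent.KPointChart.coprod U := Over.homMk (isInitialOfIsEmpty.to _) (isInitialOfIsEmpty.hom_ext _ _)
    obtain ⟨m, hm, -⟩ := Groth.Agent.KPointChart.existsUnique_vert_empty hst T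
      ((BasedFunctor.comp (AlgSt.overMap g) P).w_obj (Groth.Agent.ASt.ov (𝟙 T))) (x.w_obj (Groth.Agent.ASt.ov (𝟙 T)))
    exact ⟨g, ⟨Groth.Agent.ASt.funIso m hm⟩⟩
  haveI : HenselianLocalRing (R ⧸ a) := hhens ⟨a, ha⟩
  obtain ⟨i, ⟨hi⟩⟩ := hpts ⟨a, ha⟩ (BasedFunctor.comp (AlgSt.overMap
    (Groth.Agent.ASp.HenselLift.quoMap (strA a) (IsLocalRing.maximalIdeal (R ⧸ (⟨a, ha⟩ : {a : Ideal R // a ≠ ⊤}).1)))) x)
  obtain ⟨g, ⟨hg⟩⟩ := Groth.Agent.KPointChart.exists_lift_henselian (p ⟨⟨a, ha⟩, i⟩) (hp _) (strA a) x (u ⟨⟨a, ha⟩, i⟩)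
    ⟨(hu ⟨⟨a, ha⟩, i⟩).some ≪≫ hi⟩
  refine ⟨g ≫ Groth.Agent.KPointChart.coprodInc U ⟨⟨a, ha⟩, i⟩, ⟨?_ ≪≫ hg⟩⟩
  exact Groth.Agent.ASt.wR (Groth.Agent.ASt.overMapComp g _).symm P ≪≫
    eqToIso (Groth.Agent.ASt.basedFunctor_ext rfl) ≪≫ Groth.Agent.ASt.wL (AlgSt.overMap g) (hP ⟨⟨a, ha⟩, i⟩).some

end Groth.Agent.S18326
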