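import Groth.Statements.S18329
import Mathlib.LinearAlgebra.Lagrange
import Groth.Agent.UnipH7.Basic
import Groth.Agent.Comodule.Contract

set_option autoImplicit false
universe u
open TensorProduct
open SGA3

namespace Groth.Agent.S18329


open Groth.Agent.Comodule in
lemma separable_map {k A B : Type u} [Field k] [CommRing A] [Algebra k A] [CommRing B] [Algebra k B]
    (f : A →ₐ[k] B) {a : A} (ha : IsSeparable k a) : IsSeparable k (f a) :=
  Polynomial.Separable.of_dvd ha (minpoly.dvd k _ (by rw [Polynomial.aeval_algHom_apply, minpoly.aeval, map_zero]))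

open Groth.Agent.Comodule Polynomial in
lemma exists_poly_pow {k A : Type u} [Field k] [IsAlgClosed k] (p : ℕ) [Fact p.Prime] [CharP k p]
    [CommRing A] [Algebra k A] {z : A} (hz : IsSeparable k z) (N : ℕ) : ∃ g : k[X], aeval (z ^ p ^ N) g = z := by
  classical
  set f := minpoly k z with hf
  have hfm : f.Monic := minpoly.monic (IsSeparable.isIntegral hz)
  let S := f.roots.toFinset
  have hinj : Set.InjOn (fun r : k => r ^ p ^ N) (S : Set k) := fun a _ b _ h =>
    iterateFrobenius_inj k p N (by simpa [iterateFrobenius_def] using h)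
  refine ⟨Lagrange.interpolate S (fun r : k => r ^ p ^ N) id, ?_⟩
  set g := Lagrange.interpolate S (fun r : k => r ^ p ^ N) id
  have hdvd : f ∣ g.comp (X ^ p ^ N) - X := by
    rcases eq_or_ne (g.comp (X ^ p ^ N) - X) 0 with h | h
    · rw [h]; exact dvd_zero _
    · refine ((IsAlgClosed.splits f).dvd_iff_roots_le_roots hfm.ne_zero h).2 ?_
      refine (Multiset.le_iff_subset (nodup_roots hz)).2 fun r hr => (mem_roots h).2 ?_
      have h1 := Lagrange.eval_interpolate_at_node (r := id) hinj (Multiset.mem_toFinset.2 hr)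
      rw [IsRoot.def, eval_sub, eval_comp, eval_pow, eval_X, show g = _ from rfl, h1, id, sub_self]
  obtain ⟨w, hw⟩ := hdvd
  have h2 : aeval z (g.comp (X ^ p ^ N) - X) = 0 := by rw [hw, map_mul, hf, minpoly.aeval, zero_mul]
  rw [map_sub, aeval_comp, map_pow, aeval_X, sub_eq_zero] at h2
  exact h2

open Groth.Agent.Comodule TensorProduct in
lemma separable_mem {k R S : Type u} [Field k] [IsAlgClosed k] (p : ℕ) [Fact p.Prime] [CharP k p]
    [CommRing R] [Algebra k R] [CommRing S] [Algebra k S] [Algebra.FiniteType k S]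
    (B : Subalgebra k R) (hB : ∀ a : R, IsSeparable k a → a ∈ B) (z : R ⊗[k] S) (hz : IsSeparable k z) :
    z ∈ (Algebra.TensorProduct.map B.val (AlgHom.id k S)).range := by
  classical
  let I := nilradical S
  let mI : S →ₗ[k] S ⧸ I := (Ideal.Quotient.mkₐ k I).toLinearMap
  -- `z` is in `B ⊗ S` up to nilpotents
  have h1 : mI.lTensor R z ∈ LinearMap.range ((Subalgebra.toSubmodule B).subtype.rTensor (S ⧸ I)) := by
    refine ((rTensor_exact (S ⧸ I) (LinearMap.exact_subtype_mkQ _) (Submodule.mkQ_surjective _)) _).mp ?_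
    let b := Module.Free.chooseBasis k (R ⧸ Subalgebra.toSubmodule B)
    apply (TensorProduct.equivFinsuppOfBasisLeft b).injective
    rw [map_zero]
    refine Finsupp.ext fun i => ?_
    haveI : IsReduced (S ⧸ I) := (Ideal.isRadical_iff_quotient_reduced I).1 (Ideal.radical_isRadical _)
    refine Groth.Agent.UnipH7.eq_zero_of_forall_algHom (k := k) _ fun y => ?_
    let Φ : R ⊗[k] S →ₐ[k] R := Algebra.TensorProduct.lift (AlgHom.id k R)
      ((Algebra.ofId k R).comp (y.comp (Ideal.Quotient.mkₐ k I))) (fun _ _ => Commute.all _ _)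
    have key : ∀ w : R ⊗[k] S, y (TensorProduct.equivFinsuppOfBasisLeft b
        ((Subalgebra.toSubmodule B).mkQ.rTensor _ (mI.lTensor R w)) i) =
        b.repr ((Subalgebra.toSubmodule B).mkQ (Φ w)) i := by
      intro w
      induction w using TensorProduct.induction_on with
      | zero => simp
      | add p q hp hq => simp only [map_add, Finsupp.add_apply, hp, hq]
      | tmul r s =>
        have hh : Φ (r ⊗ₜ[k] s) = y (Ideal.Quotient.mkₐ k I s) • r := by
          simp [Φ, Algebra.smul_def, mul_comm]
        rw [hh, map_smul, map_smul, LinearMap.lTensor_tmul, LinearMap.rTensor_tmul]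
        simp [mI, mul_comm]
    rw [key, Submodule.mkQ_apply,
      (Submodule.Quotient.mk_eq_zero _).2 (hB _ (separable_map Φ hz)), map_zero, Finsupp.zero_apply]
  obtain ⟨y', hy'⟩ := h1
  obtain ⟨y₀, rfl⟩ := LinearMap.lTensor_surjective (g := mI) _ Ideal.Quotient.mk_surjective y'
  let y : B ⊗[k] S := y₀
  let ι := Algebra.TensorProduct.map B.val (AlgHom.id k S)
  have h2 : IsNilpotent (z - ι y) := by
    have h3 : mI.lTensor R (z - ι y) = 0 := by
      rw [map_sub, sub_eq_zero, ← hy']
      change ((Subalgebra.toSubmodule B).subtype.rTensor (S ⧸ I)) (mI.lTensor _ y) = mI.lTensor R (B.val.toLinearMap.rTensor S y)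
      rw [← LinearMap.comp_apply, ← LinearMap.comp_apply, LinearMap.rTensor_comp_lTensor,
        LinearMap.lTensor_comp_rTensor]
      rfl
    have h4 : z - ι y ∈ Ideal.map (Algebra.TensorProduct.includeRight : S →ₐ[k] R ⊗[k] S) I := by
      have h5 : z - ι y ∈ Submodule.restrictScalars k
          (Ideal.map (Algebra.TensorProduct.includeRight : S →ₐ[k] R ⊗[k] S) I) := by
        rw [Ideal.map_includeRight_eq]
        have hex : Function.Exact (I.restrictScalars k).subtype mI := fun x => by
          simp [mI, Ideal.Quotient.eq_zero_iff_mem]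
        exact ((lTensor_exact R hex Ideal.Quotient.mk_surjective) _).mp h3
      exact h5
    have h6 : Ideal.map (Algebra.TensorProduct.includeRight : S →ₐ[k] R ⊗[k] S) I ≤ nilradical _ := by
      rw [Ideal.map_le_iff_le_comap]
      intro s hs
      exact mem_nilradical.2 ((mem_nilradical.1 hs).map (Algebra.TensorProduct.includeRight : S →ₐ[k] R ⊗[k] S))
    exact mem_nilradical.1 (h6 h4)
  obtain ⟨n, hn⟩ := h2
  rcases subsingleton_or_nontrivial (R ⊗[k] S) with hs | hs
  · exact ⟨0, Subsingleton.elim _ _⟩
  haveI : CharP (R ⊗[k] S) p := charP_of_injective_algebraMap (algebraMap k _).injective p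
  have h7 : z ^ p ^ n = ι (y ^ p ^ n) := by
    have h8 : (z - ι y) ^ p ^ n = 0 :=
      pow_eq_zero_of_le (n.lt_pow_self (Fact.out : p.Prime).one_lt).le hn
    rw [sub_pow_char_pow, sub_eq_zero] at h8
    rw [h8, map_pow]
  obtain ⟨g, hg⟩ := exists_poly_pow p hz n
  exact ⟨Polynomial.aeval (y ^ p ^ n) g, by rw [← hg, h7]; exact (Polynomial.aeval_algHom_apply ι _ g).symm⟩

open Groth.Agent.Comodule TensorProduct in
lemma separable_mem_left {k A : Type u} [Field k] [IsAlgClosed k] (p : ℕ) [Fact p.Prime] [CharP k p]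
    [CommRing A] [Algebra k A] (B : Subalgebra k A) (hB : ∀ a : A, IsSeparable k a → a ∈ B)
    (z : A ⊗[k] A) (hz : IsSeparable k z) :
    z ∈ LinearMap.range ((Subalgebra.toSubmodule B).subtype.rTensor A) := by
  classical
  obtain ⟨T, hT⟩ := TensorProduct.exists_finset z
  let R0 : Subalgebra k A := Algebra.adjoin k ((T.image Prod.snd : Finset A) : Set A)
  haveI : Algebra.FiniteType k R0 := R0.fg_iff_finiteType.1 ⟨T.image Prod.snd, rfl⟩
  let ι0 : A ⊗[k] R0 →ₐ[k] A ⊗[k] A := Algebra.TensorProduct.map (AlgHom.id k A) R0.val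
  have hι : Function.Injective ι0 :=
    Module.Flat.lTensor_preserves_injective_linearMap (M := A) R0.val.toLinearMap Subtype.val_injective
  let z0 : A ⊗[k] R0 := ∑ q ∈ T.attach,
    q.1.1 ⊗ₜ[k] (⟨q.1.2, Algebra.subset_adjoin (Finset.mem_coe.2 (Finset.mem_image_of_mem Prod.snd q.2))⟩ : R0)
  have hz0 : ι0 z0 = z := by
    conv_rhs => rw [hT, ← Finset.sum_attach]
    simp [z0, ι0, map_sum]
  have hz0s : IsSeparable k z0 := by
    have := hz
    rw [← hz0, IsSeparable, minpoly.algHom_eq ι0 hι] at this
    exact this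
  obtain ⟨y, hy⟩ := separable_mem p B hB z0 hz0s
  refine mem_range_rTensor_iff.2 fun f => ?_
  rw [← hz0, ← hy]
  clear hy
  induction y using TensorProduct.induction_on with
  | zero => simp
  | add a b ha hb => simp only [map_add]; exact Submodule.add_mem _ ha hb
  | tmul a b =>
    simp only [ι0, AlgHom.toRingHom_eq_coe, RingHom.coe_coe, Algebra.TensorProduct.map_tmul, rcon_tmul]
    exact Submodule.smul_mem _ _ a.2

/-- Let k be an algebraically closed field of prime characteristic p and A a commutative Hopf algebra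
over k, the coordinate ring of an affine k-group G, quotient groups of G being read as
sub-Hopf-algebras of A (subalgebras stable under comultiplication and antipode). Let B₀ be the
subalgebra of elements of A that are separable over k (its spectrum is the group of connected
components π₀(G)) and let C be the largest cocommutative sub-Hopf-algebra of A (its spectrum is the
largest commutative quotient group G_ab). Then B₀ ⊓ C, whose spectrum is π₀(G_ab), is the largest
cocommutative sub-Hopf-algebra of A contained in B₀, whose spectrum is the largest commutative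
quotient of π₀(G): the canonical homomorphism from π₀(G_ab) to (π₀(G))_ab is an isomorphism. (The
abelianization is rendered through its universal property among affine quotient groups, as the
largest cocommutative sub-Hopf-algebra, rather than as the quotient by the derived subgroup.) -/
theorem result (k A : Type u) [Field k] [IsAlgClosed k]
    (p : ℕ) [Fact p.Prime] [CharP k p] [CommRing A] [HopfAlgebra k A]
    (B₀ : Subalgebra k A) (hB₀ : ∀ a : A, a ∈ B₀ ↔ IsSeparable k a)
    (C : Subalgebra k A) (hC : SGA3.IsHopfSubalgebra k A C)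
    (hCc : ∀ c ∈ C, TensorProduct.comm k A A (Coalgebra.comul c) = Coalgebra.comul c)
    (hCmax : ∀ D : Subalgebra k A, SGA3.IsHopfSubalgebra k A D →
      (∀ d ∈ D, TensorProduct.comm k A A (Coalgebra.comul d) = Coalgebra.comul d) → D ≤ C) :
    IsGreatest {D : Subalgebra k A | SGA3.IsHopfSubalgebra k A D ∧
      (∀ d ∈ D, TensorProduct.comm k A A (Coalgebra.comul d) = Coalgebra.comul d) ∧ D ≤ B₀}
      (B₀ ⊓ C) := by
  have hmemB : ∀ a : A, IsSeparable k a → a ∈ B₀ := fun a ha => (hB₀ a).2 ha
  refine ⟨⟨⟨fun b hb => ?_, fun b hb => ?_⟩, fun d hd => hCc d hd.2, inf_le_left⟩, fun D hD => le_inf hD.2.2 (hCmax D hD.1 hD.2.1)⟩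
  · obtain ⟨hbB, hbC⟩ := hb
    have hsep : IsSeparable k (Coalgebra.comul (R := k) b) :=
      separable_map (Bialgebra.comulAlgHom k A) ((hB₀ b).1 hbB)
    have h1 := separable_mem_left p B₀ hmemB _ hsep
    obtain ⟨h2, h3⟩ := (Groth.Agent.Comodule.mem_range_map_iff (N := Subalgebra.toSubmodule C)
      (N' := Subalgebra.toSubmodule C)).1 (hC.1 b hbC)
    refine (Groth.Agent.Comodule.mem_range_map_iff (N := Subalgebra.toSubmodule (B₀ ⊓ C))
      (N' := Subalgebra.toSubmodule (B₀ ⊓ C))).2 ⟨?_, ?_⟩
    · refine Groth.Agent.Comodule.mem_range_rTensor_iff.2 fun f => ⟨?_, ?_⟩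
      · exact Groth.Agent.Comodule.mem_range_rTensor_iff.1 h1 f
      · exact Groth.Agent.Comodule.mem_range_rTensor_iff.1 h2 f
    · refine Groth.Agent.Comodule.mem_range_lTensor_iff.2 fun φ => ⟨?_, ?_⟩
      · have h4 : ∀ w : A ⊗[k] A, Groth.Agent.Comodule.lcon φ w =
            Groth.Agent.Comodule.rcon φ (TensorProduct.comm k A A w) := by
          intro w
          induction w using TensorProduct.induction_on with
          | zero => simp
          | add u v hu hv => simp only [map_add, hu, hv]
          | tmul u v => simp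
        rw [h4, hCc b hbC]
        exact Groth.Agent.Comodule.mem_range_rTensor_iff.1 h1 φ
      · exact Groth.Agent.Comodule.mem_range_lTensor_iff.1 h3 φ
  · exact ⟨hmemB _ (separable_map (HopfAlgebra.antipodeAlgHom k A) ((hB₀ b).1 hb.1)), hC.2 b hb.2⟩

end Groth.Agent.S18329
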