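import Groth.Statements.S1834
import Groth.Agent.TameLib.Exist
import Mathlib

set_option autoImplicit false
universe u
open CycAlg

namespace Groth.Agent.S1834

/-- Let R be a Noetherian local ring of dimension 1 and a, b nonzerodivisors. There is a finite
extension ring R ⊆ R' with R'/R killed by a power of the maximal ideal, and nonzerodivisors t, a',
b' of R' with a = t a', b = t b' and (a', b') the unit ideal of R'. -/
theorem result (R : Type u) [CommRing R] [IsNoetherianRing R] [IsLocalRing R] (hR : ringKrullDim R = 1) (a b : R) (ha : a ∈ nonZeroDivisors R) (hb : b ∈ nonZeroDivisors R) : ∃ (R' : Type u) (_ : CommRing R') (_ : Algebra R R'), CycAlg.IsFinExt R R' (IsLocalRing.maximalIdeal R) ∧ ∃ t a' b' : R', t ∈ nonZeroDivisors R' ∧ a' ∈ nonZeroDivisors R' ∧ b' ∈ nonZeroDivisors R' ∧ algebraMap R R' a = t * a' ∧ algebraMap R R' b = t * b' ∧ Ideal.span {a', b'} = ⊤ := by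
  have hdim : Ring.KrullDimLE 1 R := Ring.krullDimLE_iff.2 hR.le
  by_cases hu : IsUnit a ∧ IsUnit b
  · refine ⟨R, inferInstance, inferInstance, ⟨fun x y hxy => hxy, inferInstance, 0, fun r _ x => ⟨r • x, rfl⟩⟩,
      1, a, b, one_mem _, ha, hb, ?_, ?_, ?_⟩
    · simp
    · simp
    · exact Ideal.eq_top_of_isUnit_mem _ (Ideal.subset_span (Set.mem_insert a {b})) hu.1
  · obtain ⟨c, hcm, hc⟩ : ∃ c ∈ IsLocalRing.maximalIdeal R, c ∈ nonZeroDivisors R := by
      rcases not_and_or.1 hu with h | h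
      · exact ⟨a, h, ha⟩
      · exact ⟨b, h, hb⟩
    obtain ⟨B, hB, t, a', b', h1, h2, h3, h4, h5, h6⟩ :=
      Groth.Agent.TameLib.exists_common_factor ⟨hdim, c, hcm, hc⟩ ha hb
    exact ⟨B, inferInstance, inferInstance, hB, t, a', b', h1, h2, h3, h4, h5, h6⟩

end Groth.Agent.S1834
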