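import Mathlib
import Groth.Agent.ArtinApproxLib.Functor
import Groth.Agent.GRingCompleteLib.Completion
import Groth.Agent.GRingCompleteLib.Descend
import Groth.Agent.GRingCompleteLib.Main
import Groth.Statements.S18340

set_option autoImplicit false
universe u
open ArtinApx

namespace Groth.Agent.S18340

open CategoryTheory in
/-- Let k be an algebraically closed field, A a finitely generated k-algebra with a maximal ideal m (a
k-point of Spec A), F a functor from commutative A-algebras to sets which preserves filtered
colimits, and ξ an element of F(Â), Â the m-adic completion of A. Then for every natural number N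
there are an étale A-algebra A′, a surjective A-algebra homomorphism ψ : A′ → A/m^(N+1) and an
element ξ′ of F(A′) whose image under F(ψ) is the image of ξ under F of the canonical map Â →
A/m^(N+1). (Affine form of the statement for limit-preserving functors on schemes over a finite-type
k-scheme S with a k-point s: Spec A′ is the étale neighbourhood of s, the kernel of ψ is the
(N+1)-st power of the maximal ideal of the point above s, and the equation says that ξ′ and ξ agree
to order N.) -/
theorem result (k : Type u) [Field k] [IsAlgClosed k]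
    (A : Type u) [CommRing A] [Algebra k A] [Algebra.FiniteType k A] (m : Ideal A) [m.IsMaximal]
    (F : CommAlgCat.{u} A ⥤ Type u) [Limits.PreservesFilteredColimits F]
    (ξ : F.obj (CommAlgCat.of A (AdicCompletion m A))) (N : ℕ) :
    ∃ (A' : Type u) (_ : CommRing A') (_ : Algebra A A') (_ : Algebra.Etale A A')
      (ψ : A' →ₐ[A] (A ⧸ m ^ (N + 1))) (_ : Function.Surjective ψ) (ξ' : F.obj (CommAlgCat.of A A')),
      F.map (CommAlgCat.ofHom ψ) ξ' =
        F.map (CommAlgCat.ofHom (AdicCompletion.evalₐ m (N + 1))) ξ := by
  have hk : CAlg.IsGRing k := by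
    haveI : IsAdicComplete (IsLocalRing.maximalIdeal k) k := by
      rw [IsLocalRing.maximalIdeal_eq_bot]; infer_instance
    exact GRingCompleteLib.isGRing_finiteType k k
  have hG : CAlg.IsGRing A := GRingCompleteLib.isGRing_of_finiteType k hk A
  haveI := hG.1
  let G : CategoryTheory.Under (CommRingCat.of A) ⥤ Type u := (commAlgCatEquivUnder (CommRingCat.of A)).inverse ⋙ F
  have hGF : ∀ (J : Type u) [SmallCategory J] [IsFiltered J], Limits.PreservesColimitsOfShape J G :=
    fun J _ _ => inferInstanceAs (Limits.PreservesColimitsOfShape J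
      ((commAlgCatEquivUnder (CommRingCat.of A)).inverse ⋙ F))
  let toG : ∀ (C : Type u) [CommRing C] [Algebra A C], CommAlgCat.of A C ⟶
      (commAlgCatEquivUnder (CommRingCat.of A)).inverse.obj (Under.mk (CommRingCat.ofHom (algebraMap A C))) :=
    fun C _ _ => (commAlgCatEquivUnder (CommRingCat.of A)).unitIso.hom.app (CommAlgCat.of A C)
  let ofG : ∀ (C : Type u) [CommRing C] [Algebra A C],
      (commAlgCatEquivUnder (CommRingCat.of A)).inverse.obj (Under.mk (CommRingCat.ofHom (algebraMap A C))) ⟶
      CommAlgCat.of A C :=
    fun C _ _ => (commAlgCatEquivUnder (CommRingCat.of A)).unitIso.inv.app (CommAlgCat.of A C)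
  obtain ⟨A', _, _, hA', φ, hφ, ξ', hξ'⟩ := ArtinApproxLib.exists_etale_element m
    (GRingCompleteLib.isRegularHom_adicCompletion A hG _) G hGF N (F.map (toG (AdicCompletion m A)) ξ)
  refine ⟨A', inferInstance, inferInstance, hA', φ, hφ, F.map (ofG A') ξ', ?_⟩
  have key : ∀ (C D : Type u) [CommRing C] [CommRing D] [Algebra A C] [Algebra A D] (f : C →ₐ[A] D),
      ofG C ≫ CommAlgCat.ofHom f =
        (commAlgCatEquivUnder (CommRingCat.of A)).inverse.map (ArtinApproxLib.underHom f) ≫ ofG D := by
    intros; rfl
  have key2 : ∀ (C : Type u) [CommRing C] [Algebra A C], toG C ≫ ofG C = 𝟙 _ :=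
    fun C _ _ => Iso.hom_inv_id_app _ _
  rw [← ConcreteCategory.comp_apply, ← Functor.map_comp, key, Functor.map_comp, ConcreteCategory.comp_apply]
  erw [hξ']
  show F.map (ofG _) (F.map ((commAlgCatEquivUnder (CommRingCat.of A)).inverse.map _) (F.map (toG _) ξ)) = _
  rw [← ConcreteCategory.comp_apply, ← Functor.map_comp, ← ConcreteCategory.comp_apply, ← Functor.map_comp,
    ← key, ← Category.assoc, key2, Category.id_comp]

end Groth.Agent.S18340
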