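import Groth.Statements.S18344
import Groth.Agent.ConormalLib.Chart
import Groth.Agent.FlatLocus.FreeNhd

set_option autoImplicit false
universe u
open CategoryTheory CategoryTheory.Limits AlgebraicGeometry
open MultCurve

namespace Groth.Agent.S18344

open CategoryTheory CategoryTheory.Limits AlgebraicGeometry

open Groth.Agent Groth.Agent.ConormalLib
open CategoryTheory.Limits TopologicalSpace
set_option backward.isDefEq.respectTransparency false
set_option backward.defeqAttrib.useBackward true
set_option linter.style.haveILetI false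
set_option maxHeartbeats 1000000


/-- Let C be a scheme and I ⊂ O_C a quasi-coherent ideal with I² = 0, and let D ⊂ C be the closed
subscheme it defines. Then the following are equivalent: (a) every point of C has an affine open
neighbourhood U on which I(U) is generated by one section z such that every a with a z = 0 lies in
I(U); (b) the conormal sheaf of D in C (the ideal I regarded as an O_D-module, which makes sense
because I² = 0) is an invertible O_D-module. This identifies the line-bundle clause in the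
definition of a ribbon with the section-level principal-of-order-two condition. -/
theorem result (C : Scheme.{u}) (I : C.IdealSheafData)
    (hI : I ^ 2 = ⊥) :
    MultCurve.IsPrincipalOfOrder I 2 ↔ PicF.IsInvertible (Omega.conormal I.subschemeι) := by
  let i := I.subschemeι
  haveI := OmegaAffLib.isQCoh_idealMod i.ker
  haveI : Coh.IsQCoh (Omega.conormal i) := PullbackMod.isQCoh_pullback i (ClSub.idealMod i.ker)
  have hker : ∀ (U : C.Opens) (hU : IsAffineOpen U), RingHom.ker (i.app U).hom = I.ideal ⟨U, hU⟩ :=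
    fun U hU => I.ker_subschemeι_app ⟨U, hU⟩
  have hsq : ∀ (U : C.Opens) (_ : IsAffineOpen U), RingHom.ker (i.app U).hom * RingHom.ker (i.app U).hom = ⊥ := fun U hU => by
    rw [hker U hU, ← pow_two]
    have := congr($(hI).ideal ⟨U, hU⟩)
    rwa [Scheme.IdealSheafData.ideal_pow, Scheme.IdealSheafData.ideal_bot, Pi.pow_apply, Pi.bot_apply] at this
  have hsurj : ∀ x : C, ∃ y : I.subscheme, i y = x := fun x => by
    have hx : x ∈ (I.support : Set C) := by
      rw [← Scheme.IdealSheafData.support_pow I 2 two_ne_zero, hI, Scheme.IdealSheafData.support_bot]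
      trivial
    rw [← Scheme.IdealSheafData.range_subschemeι] at hx
    exact hx
  constructor
  · intro h y
    obtain ⟨⟨U, hU⟩, hyU, z, hz, hann⟩ := h (i y)
    obtain ⟨hW, hs⟩ := chart_of_le i hU (fun x _ => (coborder_eq_univ_iff.mpr i.isClosedEmbedding.isClosed_range).ge (Set.mem_univ x))
    obtain ⟨hcls₁, hcls₂⟩ := cls_surjective_and_eq_zero_iff i hU hW hs
    obtain ⟨s, hsz⟩ := exists_idealSect_eq i U z (by
      rw [← RingHom.mem_ker, hker U hU, hz]
      exact Ideal.mem_span_singleton_self z)
    let g : Γ(Omega.conormal i, i ⁻¹ᵁ U) := PullbackMod.pullMap i (ClSub.idealMod i.ker) (W := U) (W' := i ⁻¹ᵁ U) le_rfl s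
    have hsm : ∀ a : Γ(C, U), i.app U a • g =
        PullbackMod.pullMap i (ClSub.idealMod i.ker) (W := U) (W' := i ⁻¹ᵁ U) le_rfl (a • s) := fun a => by
      refine Eq.trans ?_ (PullbackMod.pullMap_smul i (ClSub.idealMod i.ker) le_rfl a s).symm
      rw [← Scheme.Hom.app_eq_appLE]
    have hb : Function.Bijective (LinearMap.toSpanSingleton Γ(I.subscheme, i ⁻¹ᵁ U) Γ(Omega.conormal i, i ⁻¹ᵁ U) g) := by
      refine ⟨(injective_iff_map_eq_zero _).mpr fun c hc => ?_, fun w => ?_⟩
      · obtain ⟨a, rfl⟩ := hs c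
        have h0 := (hcls₂ (a • s)).mp ((hsm a).symm.trans hc)
        rw [hsq U hU, Ideal.mem_bot, OmegaAffLib.idealSect_smul, hsz] at h0
        have h1 := hann a (by rw [show (2 : ℕ) - 1 = 1 from rfl, pow_one]; exact h0)
        rw [← hker U hU] at h1
        exact h1
      · obtain ⟨t, rfl⟩ := hcls₁ w
        have ht : OmegaSh.idealSect i.ker U t ∈ Ideal.span {z} := by
          rw [← hz, ← hker U hU]
          exact app_idealSect i U t
        obtain ⟨a, ha⟩ := Ideal.mem_span_singleton'.mp ht
        refine ⟨i.app U a, (hsm a).trans (congrArg _ (OmegaAffLib.idealSect_injective i.ker U ?_))⟩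
        rw [OmegaAffLib.idealSect_smul, hsz, ha]
    obtain ⟨e⟩ := FlatLocus.nonempty_iso_freeMod (Omega.conormal i) hW 1
      ((LinearEquiv.ofBijective _ hb).symm.trans (LinearEquiv.funUnique (Fin 1) _ _).symm)
    exact ⟨i ⁻¹ᵁ U, hyU, ⟨e ≪≫ coproductUniqueIso fun _ : Fin 1 => Coh.structureModule _⟩⟩
  · intro h x
    obtain ⟨y, rfl⟩ := hsurj x
    obtain ⟨V, hyV, ⟨e⟩⟩ := h y
    obtain ⟨U, hU, hyU, -, hUV, hb⟩ := exists_chart i y (V := V) hyV (O := ⊤) trivial
    obtain ⟨hW, hs⟩ := chart_of_le i hU hb
    obtain ⟨hcls₁, hcls₂⟩ := cls_surjective_and_eq_zero_iff i hU hW hs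
    let M := Omega.conormal i
    let W' : V.toScheme.Opens := V.ι ⁻¹ᵁ (i ⁻¹ᵁ U)
    have hW' : V.ι ''ᵁ W' = i ⁻¹ᵁ U := by
      rw [Scheme.Hom.image_preimage_eq_opensRange_inf, Scheme.Opens.opensRange_ι]
      exact inf_eq_right.2 hUV
    have key : ∀ W₀ : I.subscheme.Opens, V.ι ''ᵁ W' = W₀ →
        ∃ g : Γ(M, W₀), Function.Bijective fun c : Γ(I.subscheme, W₀) => c • g := by
      rintro _ rfl
      let o : Γ(V.toScheme, W') := 1
      let v : Γ(M.restrict V.ι, W') := e.inv.app W' o
      refine ⟨(M.restrictAppIso V.ι W').hom v, ?_⟩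
      have h1 : Function.Bijective (e.inv.app W') := ConcreteCategory.bijective_of_isIso (e.inv.app W')
      have h2 : (fun c : Γ(I.subscheme, V.ι ''ᵁ W') => c • (M.restrictAppIso V.ι W').hom v) =
          (M.restrictAppIso V.ι W').hom ∘ e.inv.app W' ∘ (V.ι.appIso W').hom := by
        funext c
        show c • _ = (M.restrictAppIso V.ι W').hom (e.inv.app W' ((V.ι.appIso W').hom c))
        have h3 : ((V.ι.appIso W').hom c : Γ(V.toScheme, W')) =
            (HSMul.hSMul ((V.ι.appIso W').hom c) (show Γ(Coh.structureModule V.toScheme, W') from o) : Γ(Coh.structureModule V.toScheme, W')) := (mul_one _).symm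
        conv_rhs => rw [h3]
        refine Eq.trans ?_ (congrArg _ (Scheme.Modules.Hom.app_smul e.inv _ _)).symm
        erw [Scheme.Modules.smul_restrictAppIso_hom_apply]
        rw [← CommRingCat.comp_apply, Iso.hom_inv_id]
        rfl
      rw [h2]
      exact (ConcreteCategory.bijective_of_isIso (M.restrictAppIso V.ι W').hom).comp
        (h1.comp (ConcreteCategory.bijective_of_isIso (V.ι.appIso W').hom))
    obtain ⟨g, hg⟩ := key _ hW'
    obtain ⟨s, rfl⟩ := hcls₁ g
    refine ⟨⟨U, hU⟩, hyU, OmegaSh.idealSect i.ker U s, ?_, fun a ha => ?_⟩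
    · refine le_antisymm (fun w hw => ?_) ((Ideal.span_le).2 (Set.singleton_subset_iff.2 ?_))
      · rw [← hker U hU] at hw
        obtain ⟨t, rfl⟩ := exists_idealSect_eq i U w hw
        obtain ⟨c, hc⟩ := hg.2 (PullbackMod.pullMap i (ClSub.idealMod i.ker) (W := U) (W' := i ⁻¹ᵁ U) le_rfl t)
        obtain ⟨a, rfl⟩ := hs c
        have h0 : PullbackMod.pullMap i (ClSub.idealMod i.ker) (W := U) (W' := i ⁻¹ᵁ U) le_rfl (t - a • s) = 0 := by
          rw [map_sub, sub_eq_zero, PullbackMod.pullMap_smul, ← Scheme.Hom.app_eq_appLE]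
          exact hc.symm
        have h1 := (hcls₂ _).mp h0
        rw [hsq U hU, Ideal.mem_bot, map_sub, OmegaAffLib.idealSect_smul, sub_eq_zero] at h1
        exact Ideal.mem_span_singleton'.mpr ⟨a, h1.symm⟩
      · rw [← hker U hU]; exact app_idealSect i U s
    · rw [show (2 : ℕ) - 1 = 1 from rfl, pow_one] at ha
      rw [← hker U hU, RingHom.mem_ker]
      refine hg.1 ?_
      show i.app U a • _ = (0 : Γ(I.subscheme, i ⁻¹ᵁ U)) • _
      rw [zero_smul]
      refine Eq.trans ?_ ((hcls₂ (a • s)).mpr (by rw [OmegaAffLib.idealSect_smul, ha]; exact zero_mem _))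
      refine Eq.trans ?_ (PullbackMod.pullMap_smul i (ClSub.idealMod i.ker) le_rfl a s).symm
      rw [← Scheme.Hom.app_eq_appLE]


end Groth.Agent.S18344
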