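import Groth.Statements.S18345
import Groth.Agent.RibbonExt.Basic

set_option autoImplicit false
universe w u
open CategoryTheory CategoryTheory.Limits AlgebraicGeometry
open MultCurve

namespace Groth.Agent.S18345

/-- Let k be a field and C a ribbon, locally of finite type over k, on the reduced connected scheme D
along i : D ⟶ C, with its restricted cotangent sequence 0 → L → Ω_C|_D → Ω_D → 0 presented by a
universal k-derivation d₁ : O_C → Ω₁, a universal k-derivation d₂ : O_D → Ω₂, the map φ from the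
conormal bundle L of D in C to i^*Ω₁ induced by d₁ and the map c : i^*Ω₁ → Ω₂ compatible with d₁ and
d₂, assumed short exact, that is, with φ injective; let e_C ∈ Ext¹(Ω_D, L) be the class of that
sequence. Then the ribbon is split — i admits a retraction C ⟶ D that is a morphism over k — if and
only if e_C = 0. (The published text treats the restricted cotangent sequence as short exact for
every ribbon and puts the retractions in bijection with the splittings of e_C. Short exactness holds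
over a perfect field but not in general: for k of characteristic p and a ∈ k not a p-th power, the
ribbon Spec k[x]/((x^p − a)²) on D = Spec k(a^{1/p}) has φ = 0 and admits no retraction, although
Ext¹(Ω_D, L) = 0 there. So short exactness is assumed here, and this row states the existence part
of the bijection.) -/
theorem result (k : Type u) [Field k] (D C : Scheme.{u}) (i : D ⟶ C)
    (pC : C ⟶ Spec (CommRingCat.of k)) [LocallyOfFiniteType pC] [ConnectedSpace D] (hR : MultCurve.IsRibbon i)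
    (Ω₁ : C.Modules) (d₁ : OmegaSh.Der pC Ω₁) (hd₁ : OmegaSh.IsUniversal d₁)
    (Ω₂ : D.Modules) (d₂ : OmegaSh.Der (i ≫ pC) Ω₂) (hd₂ : OmegaSh.IsUniversal d₂)
    (φ : Omega.conormal i ⟶ (Scheme.Modules.pullback i).obj Ω₁) (hφ : OmegaSh.IsConormalDiff i d₁ φ)
    (c : (Scheme.Modules.pullback i).obj Ω₁ ⟶ Ω₂) (hc : OmegaSh.IsDiffCompat i d₁ d₂ c)
    (hw : φ ≫ c = 0) (hS : (ShortComplex.mk φ c hw).ShortExact) [HasExt.{w} D.Modules] :
    (∃ r : C ⟶ D, i ≫ r = 𝟙 D ∧ r ≫ i ≫ pC = pC) ↔ hS.extClass = 0 := by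
  haveI : IsClosedImmersion i := hR.1.1
  have T := Groth.Agent.RibbonExt.thick_of_ribbon hR hφ hc hw hS
  let e : (Scheme.Modules.pullback (𝟙 D)).obj Ω₂ ⟶ Ω₂ := (Scheme.Modules.pullbackId D).hom.app Ω₂
  have he : OmegaSh.IsDiffCompat (𝟙 D) d₂ d₂ e := fun U a => by
    show e.app U (OmegaSh.pullSect (𝟙 D) Ω₂ U (d₂.app U a)) = d₂.app U a
    rw [← Groth.Agent.ConormalLib.pullbackId_inv_app]
    exact congr($((Scheme.Modules.pullbackId D).inv_hom_id_app Ω₂).app U (d₂.app U a))
  constructor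
  · rintro ⟨r, hr, hrp⟩
    have key : ∀ (f' : D ⟶ D), i ≫ r = f' → ∀ df : (Scheme.Modules.pullback f').obj Ω₂ ⟶ Ω₂,
        OmegaSh.IsDiffCompat f' d₂ d₂ df → ∃ s, s ≫ c = df := by
      rintro _ rfl df hdf
      exact Groth.Agent.RibbonExt.exists_split hd₂ r hrp hc df hdf
    obtain ⟨s, hs⟩ := key _ hr e he
    obtain ⟨σ, hσ⟩ : ∃ σ : Ω₂ ⟶ (Scheme.Modules.pullback i).obj Ω₁, σ ≫ c = 𝟙 Ω₂ :=
      ⟨(Scheme.Modules.pullbackId D).inv.app Ω₂ ≫ s, by
        rw [Category.assoc, hs]; exact (Scheme.Modules.pullbackId D).inv_hom_id_app Ω₂⟩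
    have h0 := congr((Abelian.Ext.mk₀ σ).comp $(hS.comp_extClass) (zero_add 1))
    rw [Abelian.Ext.comp_zero, Abelian.Ext.mk₀_comp_mk₀_assoc, hσ, Abelian.Ext.mk₀_id_comp] at h0
    exact h0
  · intro h0
    obtain ⟨x₂, hx⟩ := Abelian.Ext.covariant_sequence_exact₃ _ hS (Abelian.Ext.mk₀ (𝟙 Ω₂))
      (n₁ := 1) rfl (by rw [Abelian.Ext.mk₀_id_comp]; exact h0)
    obtain ⟨σ, rfl⟩ := (Abelian.Ext.mk₀_bijective _ _).2 x₂
    rw [Abelian.Ext.mk₀_comp_mk₀] at hx
    have hσ : σ ≫ c = 𝟙 Ω₂ := (Abelian.Ext.mk₀_bijective _ _).1 hx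
    have hs : (e ≫ σ) ≫ c = e := by rw [Category.assoc, hσ, Category.comp_id]
    exact ⟨Groth.Agent.RibbonExt.extend T he hs, Groth.Agent.RibbonExt.comp_extend T he hs,
      Groth.Agent.RibbonExt.extend_comp T he hs (Category.id_comp _)⟩


end Groth.Agent.S18345
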