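import Groth.Statements.S18347
import Groth.Agent.RibbonExistLib.Ribbon
import Groth.Agent.ExtOneLib
-- import your own Groth.Agent.* helpers here

set_option autoImplicit false
universe w u
open CategoryTheory CategoryTheory.Limits AlgebraicGeometry
open MultCurve

set_option backward.isDefEq.respectTransparency false
set_option maxHeartbeats 1000000

namespace Groth.Agent.S18347

/-- Let k be a field, D a reduced connected scheme locally of finite type over k with structure morphism
pD and a universal k-derivation d₂ : O_D → Ω₂, let L be an invertible O_D-module and e ∈ Ext¹(Ω₂,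
L). Then there is a ribbon C on D over k with class e: a k-scheme C locally of finite type with a
closed immersion i : D ⟶ C over k making C a ribbon on D, a universal k-derivation d₁ : O_C → Ω₁
with the map φ from the conormal bundle of D in C to i^*Ω₁ induced by d₁ and the map c : i^*Ω₁ → Ω₂
compatible with d₁ and d₂, such that φ followed by c is zero and the resulting sequence is short
exact, and an isomorphism θ from the conormal bundle to L along which the class of that short exact
sequence becomes e. -/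
theorem result (k : Type u) [Field k] (D : Scheme.{u}) (pD : D ⟶ Spec (CommRingCat.of k))
    [LocallyOfFiniteType pD] [AlgebraicGeometry.IsReduced D] [ConnectedSpace D]
    (L : D.Modules) (hL : PicF.IsInvertible L)
    (Ω₂ : D.Modules) (d₂ : OmegaSh.Der pD Ω₂) (hd₂ : OmegaSh.IsUniversal d₂) [HasExt.{w} D.Modules]
    (e : Abelian.Ext Ω₂ L 1) :
    ∃ (C : Scheme.{u}) (i : D ⟶ C) (pC : C ⟶ Spec (CommRingCat.of k)), i ≫ pC = pD ∧ MultCurve.IsRibbon i ∧
      LocallyOfFiniteType pC ∧
      ∃ (Ω₁ : C.Modules) (d₁ : OmegaSh.Der pC Ω₁) (hd₁ : OmegaSh.IsUniversal d₁)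
        (φ : Omega.conormal i ⟶ (Scheme.Modules.pullback i).obj Ω₁) (hφ : OmegaSh.IsConormalDiff i d₁ φ)
        (c : (Scheme.Modules.pullback i).obj Ω₁ ⟶ Ω₂) (hc : OmegaSh.IsDiffCompat i d₁ d₂ c)
        (hw : φ ≫ c = 0) (hS : (ShortComplex.mk φ c hw).ShortExact) (θ : Omega.conormal i ≅ L),
        hS.extClass.comp (Abelian.Ext.mk₀ θ.hom) (add_zero 1) = e := by
  obtain ⟨E, f, g, w, hE, he⟩ := Groth.Agent.ExtOneLib.exists_extension e
  let G : Groth.Agent.RibbonExistLib.ExtData pD :=
    { L := L, E := E, Ω := Ω₂, d := d₂, φL := f, c := g, w := w, hS := hE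
      hL := Groth.Agent.InvExt.isQCoh_of_isInvertible hL
      hΩ := Groth.Agent.OmegaUnivLib.isQCoh_of_universal hd₂ }
  obtain ⟨Ω₁, d₁, hd₁, φ, hφ, c, hc, hw, hS, Ψ, hφΨ, hΨc⟩ := G.exists_seq hd₂
  refine ⟨G.C, G.i, G.pC, G.i_pC, G.isRibbon hL, G.locallyOfFiniteType_pC hL, Ω₁, d₁, hd₁, φ, hφ, c, hc, hw, hS,
    G.θ, ?_⟩
  let m : ShortComplex.mk φ c hw ⟶ ShortComplex.mk f g w :=
    { τ₁ := G.θ.hom, τ₂ := Ψ, τ₃ := 𝟙 Ω₂, comm₁₂ := hφΨ.symm
      comm₂₃ := by
        show Ψ ≫ g = c ≫ 𝟙 Ω₂
        rw [Category.comp_id]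
        exact hΨc }
  refine (hS.extClass_naturality hE m).trans ?_
  exact (Abelian.Ext.mk₀_id_comp _).trans he

end Groth.Agent.S18347
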