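import Groth.Statements.S18348
import Groth.Agent.RibbonClassLib.Basic
-- import your own Groth.Agent.* helpers here

set_option autoImplicit false
universe w u
open CategoryTheory CategoryTheory.Limits AlgebraicGeometry
open MultCurve

set_option backward.isDefEq.respectTransparency false
set_option maxHeartbeats 1000000

namespace Groth.Agent.S18348

/-- Let k be a field and D a reduced connected scheme locally of finite type over k, with structure
morphism pD and a universal k-derivation d₂ : O_D → Ω₂. Let C and C′ be ribbons on D over k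
(k-schemes locally of finite type with closed immersions i, i′ of D over k making them ribbons),
each with its restricted cotangent sequence 0 → L → Ω_C|_D → Ω_D → 0 presented by a universal
k-derivation d₁ : O_C → Ω₁, the fixed universal k-derivation d₂ of D, the map φ from the conormal
bundle L of D in C to i^*Ω₁ induced by d₁ and the map c : i^*Ω₁ → Ω₂ compatible with d₁ and d₂,
assumed short exact, that is, with φ and φ′ injective, with classes e ∈ Ext¹(Ω₂, L) and e′ ∈
Ext¹(Ω₂, L′). Then C and C′ are isomorphic over D (by an isomorphism under D that is a k-morphism)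
if and only if there is an isomorphism of O_D-modules α : L ≅ L′ carrying e to e′. In particular a
ribbon with short exact restricted cotangent sequence is determined up to isomorphism over D by its
conormal bundle together with its class. (The published statement asserts the uniqueness for all
ribbons, treating the restricted cotangent sequence as short exact for every ribbon; it is so over a
perfect field but not in general: for k of characteristic p and a ∈ k not a p-th power, D = Spec
k(a^{1/p}) has Ext¹(Ω_D, L) = 0 for every L, yet the split ribbon with conormal bundle O_D and Spec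
k[x]/((x^p − a)²) are ribbons on D with conormal bundle O_D that are not isomorphic over D, the
second having φ = 0; so short exactness is assumed here for both ribbons. The published statement
also, for D proper over k, phrases the criterion as e = a·e′ with a a nonzero scalar, identifying
the automorphisms of the line bundle L with the nonzero constants; that identification needs Γ(D,
O_D) = k and fails, for example, for the projective line over a quadratic extension of k regarded as
a k-scheme, so the criterion is stated here with an arbitrary automorphism of the conormal bundle,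
in which form it holds for every reduced connected D.) -/
theorem result (k : Type u) [Field k] (D : Scheme.{u})
    (pD : D ⟶ Spec (CommRingCat.of k)) [LocallyOfFiniteType pD] [ConnectedSpace D]
    (Ω₂ : D.Modules) (d₂ : OmegaSh.Der pD Ω₂) (hd₂ : OmegaSh.IsUniversal d₂) [HasExt.{w} D.Modules]
    (C : Scheme.{u}) (i : D ⟶ C) (pC : C ⟶ Spec (CommRingCat.of k)) [LocallyOfFiniteType pC]
    (hp : i ≫ pC = pD) (hR : MultCurve.IsRibbon i)
    (Ω₁ : C.Modules) (d₁ : OmegaSh.Der pC Ω₁) (hd₁ : OmegaSh.IsUniversal d₁)
    (φ : Omega.conormal i ⟶ (Scheme.Modules.pullback i).obj Ω₁) (hφ : OmegaSh.IsConormalDiff i d₁ φ)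
    (c : (Scheme.Modules.pullback i).obj Ω₁ ⟶ Ω₂) (hc : OmegaSh.IsDiffCompat i d₁ d₂ c)
    (hw : φ ≫ c = 0) (hS : (ShortComplex.mk φ c hw).ShortExact)
    (C' : Scheme.{u}) (i' : D ⟶ C') (pC' : C' ⟶ Spec (CommRingCat.of k)) [LocallyOfFiniteType pC']
    (hp' : i' ≫ pC' = pD) (hR' : MultCurve.IsRibbon i')
    (Ω₁' : C'.Modules) (d₁' : OmegaSh.Der pC' Ω₁') (hd₁' : OmegaSh.IsUniversal d₁')
    (φ' : Omega.conormal i' ⟶ (Scheme.Modules.pullback i').obj Ω₁') (hφ' : OmegaSh.IsConormalDiff i' d₁' φ')
    (c' : (Scheme.Modules.pullback i').obj Ω₁' ⟶ Ω₂) (hc' : OmegaSh.IsDiffCompat i' d₁' d₂ c')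
    (hw' : φ' ≫ c' = 0) (hS' : (ShortComplex.mk φ' c' hw').ShortExact) :
    (∃ ψ : C ≅ C', i ≫ ψ.hom = i' ∧ ψ.hom ≫ pC' = pC) ↔
      ∃ α : Omega.conormal i ≅ Omega.conormal i',
        hS.extClass.comp (Abelian.Ext.mk₀ α.hom) (add_zero 1) = hS'.extClass := by
  haveI : IsClosedImmersion i := hR.1.1
  haveI : IsClosedImmersion i' := hR'.1.1
  subst hp
  obtain ⟨d₂', hd⟩ := Groth.Agent.RibbonClassLib.exists_der hp' d₂
  have hdf' : OmegaSh.IsDiffCompat i d₁ d₂' c := fun U a => (hc U a).trans (hd _ _).symm
  have hc'' : OmegaSh.IsDiffCompat i' d₁' d₂' c' := fun U a => (hc' U a).trans (hd _ _).symm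
  have T := Groth.Agent.RibbonExt.thick_of_ribbon hR hφ hc hw hS
  have T' := Groth.Agent.RibbonExt.thick_of_ribbon hR' hφ' hc'' hw' hS'
  constructor
  · rintro ⟨ψ, hψ, hψp⟩
    have hψ' : i' ≫ ψ.inv = i := by rw [← hψ, Category.assoc, ψ.hom_inv_id, Category.comp_id]
    have hψp' : ψ.inv ≫ pC = pC' := by rw [← hψp, ψ.inv_hom_id_assoc]
    obtain ⟨s, hs, hsi⟩ := Groth.Agent.RibbonClassLib.exists_induced i d₁ hd₁' ψ.hom hψp hc i' hψ c' hc'
    obtain ⟨s', hs', hsi'⟩ := Groth.Agent.RibbonClassLib.exists_induced i' d₁' hd₁ ψ.inv hψp' hc' i hψ' c hc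
    let β : (Scheme.Modules.pullback i).obj Ω₁ ≅ (Scheme.Modules.pullback i').obj Ω₁' :=
      { hom := s'
        inv := s
        hom_inv_id := Groth.Agent.RibbonClassLib.induced_comp_eq_id hd₁ ψ.inv ψ.hom ψ.hom_inv_id hψ' hψ hsi' hsi
        inv_hom_id := Groth.Agent.RibbonClassLib.induced_comp_eq_id hd₁' ψ.hom ψ.inv ψ.inv_hom_id hψ hψ' hsi hsi' }
    exact Groth.Agent.RibbonClassLib.exists_conormal_iso hS hS' β hs'
  · rintro ⟨α, hα⟩
    obtain ⟨β, hβ⟩ := Groth.Agent.RibbonClassLib.exists_middle_iso hS hS' α hα
    have hs : β.inv ≫ c = c' := by rw [Iso.inv_comp_eq, hβ]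
    refine ⟨{ hom := Groth.Agent.RibbonExt.extend T hc' hs
              inv := Groth.Agent.RibbonExt.extend T' hdf' hβ
              hom_inv_id := Groth.Agent.RibbonClassLib.extend_comp_extend T T' hc' hdf' hs hβ β.hom_inv_id
              inv_hom_id := Groth.Agent.RibbonClassLib.extend_comp_extend T' T hdf' hc' hβ hs β.inv_hom_id },
      Groth.Agent.RibbonExt.comp_extend T hc' hs, Groth.Agent.RibbonExt.extend_comp T hc' hs hp'⟩

end Groth.Agent.S18348
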