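import Groth.Statements.S18349
import Groth.Agent.NilpLiftLib.Basic
import Groth.Agent.CurveLib.Euler
-- import your own Groth.Agent.* helpers here

set_option autoImplicit false
universe u
open CategoryTheory CategoryTheory.Limits AlgebraicGeometry
open MultCurve

set_option backward.isDefEq.respectTransparency false
set_option maxHeartbeats 1000000

namespace Groth.Agent.S18349

/-- Let k be a field and X a primitive multiple curve of multiplicity n over k — a separated
quasi-compact k-scheme with a closed immersion i : C ⟶ X of a smooth integral curve C whose ideal I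
satisfies Iⁿ = 0 and is locally generated by one section z with the annihilator of z^(n-1) inside
(z) — with canonical filtration C = C_1 ⊂ C_2 ⊂ ⋯ ⊂ C_n = X, C_j being cut out by I^j. Let A be a
finitely generated k-algebra that is an integral domain, P = Spec A ×_k X, and 1 ≤ j < n. Let Y ⊂ P
be a closed subscheme containing Spec A ×_k C_j, i.e. defined by a quasi-coherent ideal contained in
the pullback to P of I^j. Then every finite locally free O_Y-module is isomorphic to the restriction
to Y of a finite locally free O_P-module. (Stated over an arbitrary field; the published setting is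
the complex numbers, which the argument does not use.) -/
theorem result (k : Type u) [Field k] (C X : Scheme.{u}) (i : C ⟶ X)
    (f : X ⟶ Spec (CommRingCat.of k)) [IsSeparated f] [QuasiCompact f]
    (n : ℕ) (h : MultCurve.IsPrimitive k i f n)
    (A : Type u) [CommRing A] [IsDomain A] [Algebra k A] [Algebra.FiniteType k A]
    (j : ℕ) (hj : 1 ≤ j) (hjn : j < n)
    (IY : (pullback (Spec.map (CommRingCat.ofHom (algebraMap k A))) f).IdealSheafData)
    (hY : IY ≤ (i.ker ^ j).comap (pullback.snd (Spec.map (CommRingCat.ofHom (algebraMap k A))) f))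
    (E : IY.subscheme.Modules) (hE : FlatMod.IsFinLocFree E) :
    ∃ E' : (pullback (Spec.map (CommRingCat.ofHom (algebraMap k A))) f).Modules,
      FlatMod.IsFinLocFree E' ∧ Nonempty ((Scheme.Modules.pullback IY.subschemeι).obj E' ≅ E) := by
  obtain ⟨⟨hi, hn, hpr⟩, hint, hsm, hdim⟩ := h
  haveI := hi
  haveI := hint
  haveI : Smooth (i ≫ f) := hsm
  haveI : IsLocallyNoetherian C := LocallyOfFiniteType.isLocallyNoetherian (i ≫ f)
  haveI : IsLocallyNoetherian X := NilpLiftLib.isLocallyNoetherian_of_principal i hn fun x => by
    obtain ⟨U, hxU, z, hz, -⟩ := hpr x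
    exact ⟨U, hxU, z, hz⟩
  haveI : CompactSpace X := QuasiCompact.compactSpace_of_compactSpace f
  haveI : IsNoetherian X := {}
  have hdX : topologicalKrullDim X ≤ ((1 : ℕ) : WithBot ℕ∞) := by
    rw [NilpLiftLib.topologicalKrullDim_eq i hn, hdim]; simp
  let a := Spec.map (CommRingCat.ofHom (algebraMap k A))
  let q := pullback.snd a f
  haveI : LocallyOfFiniteType a :=
    (HasRingHomProperty.Spec_iff (P := @LocallyOfFiniteType)).mpr (RingHom.finiteType_algebraMap.2 inferInstance)
  haveI : IsLocallyNoetherian (pullback a f) := LocallyOfFiniteType.isLocallyNoetherian q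
  haveI : CompactSpace ↥(pullback a f) := QuasiCompact.compactSpace_of_compactSpace q
  haveI : IsNoetherian (pullback a f) := {}
  haveI : (pullback a f).IsSeparated := ⟨by rw [← terminal.comp_from (pullback.fst a f)]; infer_instance⟩
  have hpow : IY ^ n = ⊥ := by
    obtain ⟨m, rfl⟩ : ∃ m, n = m + 1 := ⟨n - 1, by omega⟩
    refine le_bot_iff.1 (le_trans (b := ((i.ker ^ j).comap q) ^ (m + 1)) (fun U => ?_) ?_)
    · rw [Scheme.IdealSheafData.ideal_pow, Scheme.IdealSheafData.ideal_pow]
      exact Ideal.pow_right_mono (hY U) _
    · rw [← EtAlgEasy.PrinPartSym.comap_pow, ← pow_mul]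
      refine le_trans (Scheme.IdealSheafData.comap_mono q
        (NilpLiftLib.idealPow_le (Nat.le_mul_of_pos_left _ hj) i.ker : i.ker ^ (j * (m + 1)) ≤ i.ker ^ (m + 1))) ?_
      show (i.ker ^ (m + 1)).comap q ≤ ⊥
      rw [hn, (Scheme.IdealSheafData.map_gc q).l_bot]
  obtain ⟨m, rfl⟩ : ∃ m, n = m + 1 := ⟨n - 1, by omega⟩
  refine NilpLiftLib.exists_lift (fun κ hκ M hM => ?_) IY m hpow E hE
  haveI := hκ
  haveI : IsAffineHom a := inferInstance
  haveI : IsAffineHom q := MorphismProperty.pullback_snd (P := @IsAffineHom) a f inferInstance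
  exact (AmpleVanLib.subsingleton_HH_push_iff (κ ≫ q) M 2).1 (CurveLib.subsingleton_HH_of_dim _ hdX one_lt_two)

end Groth.Agent.S18349
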