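import Groth.Statements.S1835
import Mathlib

set_option autoImplicit false
universe u
open CycAlg

namespace Groth.Agent.S1835

/-- Let R be a Noetherian local ring of dimension 1, a a nonzerodivisor in the maximal ideal and b a
nonzerodivisor. There is an integer n such that whenever b = a^m c in some finite extension ring R ⊆
R', one has m ≤ n. -/
theorem result (R : Type u) [CommRing R] [IsNoetherianRing R] [IsLocalRing R] (hR : ringKrullDim R = 1) (a b : R) (ha : a ∈ nonZeroDivisors R) (ham : a ∈ IsLocalRing.maximalIdeal R) (hb : b ∈ nonZeroDivisors R) : ∃ n : ℕ, ∀ (R' : Type u) [CommRing R'] [Algebra R R'], Function.Injective (algebraMap R R') → Module.Finite R R' → ∀ (m : ℕ) (c : R'), algebraMap R R' b = algebraMap R R' a ^ m * c → m ≤ n := by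
  classical
  have hdim : Ring.KrullDimLE 1 R := (Ring.krullDimLE_iff).2 (by rw [hR]; norm_num)
  -- some power of `a` is a multiple of `b`
  have hK : ∃ (K : ℕ) (r : R), a ^ K = b * r := by
    have hrad : a ∈ (Ideal.span {b}).radical := by
      rw [Ideal.radical_eq_sInf, Submodule.mem_sInf]
      rintro P ⟨hbP, hP⟩
      obtain ⟨Q, hQmin, hQle⟩ := Ideal.exists_minimalPrimes_le (J := P) (I := (⊥ : Ideal R)) bot_le
      have hbQ : b ∉ Q := fun h => Set.disjoint_left.1 (Ideal.disjoint_nonZeroDivisors_of_mem_minimalPrimes hQmin) h hb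
      have hne : P ≠ Q := fun h => hbQ (h ▸ hbP (Ideal.mem_span_singleton_self b))
      have hmax : Ideal.IsMaximal (P : Ideal R) := by
        refine Or.resolve_left ((Ring.krullDimLE_one_iff.1 hdim) P hP) fun h => hne ?_
        exact le_antisymm (h.2 ⟨hQmin.1.1, bot_le⟩ hQle) hQle
      rw [IsLocalRing.eq_maximalIdeal hmax]; exact ham
    obtain ⟨K, hK⟩ := hrad
    obtain ⟨r, hr⟩ := Ideal.mem_span_singleton'.1 hK
    exact ⟨K, r, by rw [← hr, mul_comm]⟩
  obtain ⟨K, r, hKr⟩ := hK
  refine ⟨K, fun R' _ _ hinj _ m c hbc => ?_⟩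
  by_contra hlt
  push Not at hlt
  obtain ⟨P, hPmin, -⟩ := Ideal.exists_minimalPrimes_le (J := IsLocalRing.maximalIdeal R) (I := (⊥ : Ideal R)) bot_le
  have hPp : P.IsPrime := hPmin.1.1
  have haP : a ∉ P := fun h => Set.disjoint_left.1 (Ideal.disjoint_nonZeroDivisors_of_mem_minimalPrimes hPmin) h ha
  have : Algebra.IsIntegral R R' := Algebra.IsIntegral.of_finite R R'
  have hker : (⊥ : Ideal R').comap (algebraMap R R') ≤ P := by
    rw [← RingHom.ker_eq_comap_bot, (RingHom.injective_iff_ker_eq_bot _).1 hinj]; exact bot_le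
  obtain ⟨Q, -, hQp, hQ⟩ := Ideal.exists_ideal_over_prime_of_isIntegral P (⊥ : Ideal R') hker
  have hQP : Q.comap (algebraMap R R') ≤ IsLocalRing.maximalIdeal R := IsLocalRing.le_maximalIdeal (hQ ▸ hPp.ne_top)
  obtain ⟨M, hQM, hMp, hM⟩ := Ideal.exists_ideal_over_prime_of_isIntegral (IsLocalRing.maximalIdeal R) Q hQP
  have haQ : algebraMap R R' a ∉ Q := fun h => haP (hQ ▸ h)
  have haM : algebraMap R R' a ∈ M := by rw [← Ideal.mem_comap, hM]; exact ham
  obtain ⟨d, rfl⟩ := Nat.exists_eq_add_of_lt hlt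
  have h1 : algebraMap R R' a ^ K * (1 - algebraMap R R' a ^ (d + 1) * c * algebraMap R R' r) = 0 := by
    rw [mul_sub, mul_one, sub_eq_zero]
    calc algebraMap R R' a ^ K = algebraMap R R' b * algebraMap R R' r := by rw [← map_pow, hKr, map_mul]
      _ = algebraMap R R' a ^ K * (algebraMap R R' a ^ (d + 1) * c * algebraMap R R' r) := by
        rw [hbc, show K + d + 1 = K + (d + 1) by ring, pow_add]; ring
  have h2 : 1 - algebraMap R R' a ^ (d + 1) * c * algebraMap R R' r ∈ Q :=
    ((hQp.mem_or_mem (by rw [h1]; exact Q.zero_mem)).resolve_left fun h => haQ (hQp.mem_of_pow_mem K h))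
  have h3 : algebraMap R R' a ^ (d + 1) * c * algebraMap R R' r ∈ M :=
    M.mul_mem_right _ (M.mul_mem_right _ (Ideal.pow_mem_of_mem M haM (d + 1) (Nat.succ_pos d)))
  refine hMp.ne_top ((Ideal.eq_top_iff_one M).2 ?_)
  have := M.add_mem (hQM h2) h3
  rwa [sub_add_cancel] at this

end Groth.Agent.S1835
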