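import Groth.Statements.S18351
import Groth.Agent.FactorSeqLib.Basic
import Groth.Agent.ConormalLib.Map
import Groth.Agent.S9370

set_option autoImplicit false
universe w u
open CategoryTheory CategoryTheory.Limits AlgebraicGeometry
open MultCurve

namespace Groth.Agent.S18351

open CategoryTheory CategoryTheory.Limits AlgebraicGeometry

set_option backward.isDefEq.respectTransparency false
set_option backward.defeqAttrib.useBackward true
set_option maxHeartbeats 1000000

/-- Let k be a field and D a reduced connected scheme locally of finite type over k with a universal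
k-derivation d₂ : O_D → Ω₂. Let C and C′ be ribbons on D over k (k-schemes locally of finite type
with closed immersions i, i′ of D over k making them ribbons), each with its restricted cotangent
sequence presented by a universal k-derivation (d₁, resp. d₁′), the map from the conormal bundle (𝓛,
resp. 𝓛′) induced by it and the map to Ω₂ compatible with d₂, assumed short exact, with classes e_C
∈ Ext¹(Ω₂, 𝓛) and e_{C′} ∈ Ext¹(Ω₂, 𝓛′). Let g : C ⟶ C′ be a morphism over D and over k, and let α :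
𝓛′ → 𝓛 be the map of conormal bundles induced by g (pulled back along the identity of D). Then
e_{C′} composed with α equals e_C: together with the restriction to D of the differential of g, α is
a morphism from the restricted cotangent sequence of C′ to that of C. (This is the form in which the
blow-up morphism X ⟶ C of a ribbon C along an effective Cartier divisor of D relates the two
classes; that such a blow-up X is again a ribbon on D, with conormal bundle 𝓛(δ), is a separate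
statement, and the identification of α with multiplication by the section of δ is not asserted here.
Valid for every morphism of ribbons over D.) -/
theorem result (k : Type u) [Field k] (D : Scheme.{u})
    (pD : D ⟶ Spec (CommRingCat.of k)) [LocallyOfFiniteType pD] [ConnectedSpace D]
    (Ω₂ : D.Modules) (d₂ : OmegaSh.Der pD Ω₂) (hd₂ : OmegaSh.IsUniversal d₂) [HasExt.{w} D.Modules]
    (C : Scheme.{u}) (i : D ⟶ C) (pC : C ⟶ Spec (CommRingCat.of k)) [LocallyOfFiniteType pC]
    (hp : i ≫ pC = pD) (hR : MultCurve.IsRibbon i)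
    (Ω₁ : C.Modules) (d₁ : OmegaSh.Der pC Ω₁) (hd₁ : OmegaSh.IsUniversal d₁)
    (φ : Omega.conormal i ⟶ (Scheme.Modules.pullback i).obj Ω₁) (hφ : OmegaSh.IsConormalDiff i d₁ φ)
    (c : (Scheme.Modules.pullback i).obj Ω₁ ⟶ Ω₂) (hc : OmegaSh.IsDiffCompat i d₁ d₂ c)
    (hw : φ ≫ c = 0) (hS : (ShortComplex.mk φ c hw).ShortExact)
    (C' : Scheme.{u}) (i' : D ⟶ C') (pC' : C' ⟶ Spec (CommRingCat.of k)) [LocallyOfFiniteType pC']
    (hp' : i' ≫ pC' = pD) (hR' : MultCurve.IsRibbon i')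
    (Ω₁' : C'.Modules) (d₁' : OmegaSh.Der pC' Ω₁') (hd₁' : OmegaSh.IsUniversal d₁')
    (φ' : Omega.conormal i' ⟶ (Scheme.Modules.pullback i').obj Ω₁') (hφ' : OmegaSh.IsConormalDiff i' d₁' φ')
    (c' : (Scheme.Modules.pullback i').obj Ω₁' ⟶ Ω₂) (hc' : OmegaSh.IsDiffCompat i' d₁' d₂ c')
    (hw' : φ' ≫ c' = 0) (hS' : (ShortComplex.mk φ' c' hw').ShortExact)
    (g : C ⟶ C') (hgi : i ≫ g = i') (hgk : g ≫ pC' = pC)
    (α : (Scheme.Modules.pullback (𝟙 D)).obj (Omega.conormal i') ⟶ Omega.conormal i)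
    (hα : OmegaSh.IsConormalMap i i' g (𝟙 D) α) :
    hS'.extClass.comp (Abelian.Ext.mk₀ ((Scheme.Modules.pullbackId D).inv.app (Omega.conormal i') ≫ α)) (add_zero 1) =
      hS.extClass := by
  subst hgi
  subst hp
  haveI : IsClosedImmersion i := hR.1.1
  obtain ⟨cg, hcg, -⟩ := Groth.Agent.S9370.result pC' pC g (𝟙 _) (by rw [Category.comp_id, hgk]) Ω₁' d₁' hd₁' Ω₁ d₁ hd₁
  let β : (Scheme.Modules.pullback (i ≫ g)).obj Ω₁' ⟶ (Scheme.Modules.pullback i).obj Ω₁ :=
    (Scheme.Modules.pullbackComp i g).inv.app Ω₁' ≫ (Scheme.Modules.pullback i).map cg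
  have hβ : ∀ (U : C'.Opens) (m : Γ(C', U)),
      β.app (i ⁻¹ᵁ (g ⁻¹ᵁ U)) (OmegaSh.pullSect (i ≫ g) Ω₁' U (d₁'.app U m)) =
        OmegaSh.pullSect i Ω₁ (g ⁻¹ᵁ U) (d₁.app (g ⁻¹ᵁ U) (g.app U m)) := fun U m => by
    show ((Scheme.Modules.pullback i).map cg).app _ (((Scheme.Modules.pullbackComp i g).inv.app Ω₁').app _ _) = _
    rw [← hcg U m, ← Groth.Agent.FactorSeqLib.pullSect_map i cg]
    congr 1
    rw [← Groth.Agent.FactorSeqLib.pullSect_comp i g]
    exact congr($((Scheme.Modules.pullbackComp i g).hom_inv_id_app Ω₁').app (i ⁻¹ᵁ (g ⁻¹ᵁ U))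
      (OmegaSh.pullSect i _ (g ⁻¹ᵁ U) (OmegaSh.pullSect g Ω₁' U (d₁'.app U m))))
  have h23 : β ≫ c = c' := by
    obtain ⟨c₀, -, huniq⟩ := Groth.Agent.S9370.result pC' (i ≫ pC) (i ≫ g) (𝟙 _)
      (by rw [Category.comp_id, Category.assoc, hgk]) Ω₁' d₁' hd₁' Ω₂ d₂ hd₂
    refine (huniq (β ≫ c) fun U m => ?_).trans (huniq c' hc').symm
    show c.app (i ⁻¹ᵁ (g ⁻¹ᵁ U)) (β.app (i ⁻¹ᵁ (g ⁻¹ᵁ U)) _) = _
    rw [hβ, hc]
    rfl
  obtain ⟨θ, hθ⟩ := Groth.Agent.ConormalLib.exists_idealMap i (i ≫ g) g (𝟙 D) hα.1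
  let τ₁ : Omega.conormal (i ≫ g) ⟶ Omega.conormal i :=
    (Scheme.Modules.pullbackId D).inv.app (Omega.conormal (i ≫ g)) ≫ α
  have h12 : τ₁ ≫ φ = φ' ≫ β := by
    refine Groth.Agent.FactorSeqLib.conormal_hom_ext _ fun U s => ?_
    have h1 : τ₁.app ((i ≫ g) ⁻¹ᵁ U) (OmegaSh.conormalSect (i ≫ g) U s) =
        OmegaSh.conormalSect i (g ⁻¹ᵁ U) (θ.app U s) := by
      show α.app _ (((Scheme.Modules.pullbackId D).inv.app _).app _ (OmegaSh.conormalSect (i ≫ g) U s)) = _
      rw [Groth.Agent.ConormalLib.pullbackId_inv_app]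
      have h := hα.2 U s (θ.app U s) (hθ U s) _ le_rfl le_rfl
      refine Eq.trans ?_ (h.trans ?_)
      · exact (congr($((Omega.conormal i).presheaf.map_id _) _)).symm
      · exact congr($((Omega.conormal i).presheaf.map_id _) _)
    show φ.app (i ⁻¹ᵁ (g ⁻¹ᵁ U)) (τ₁.app ((i ≫ g) ⁻¹ᵁ U) _) = β.app (i ⁻¹ᵁ (g ⁻¹ᵁ U)) (φ'.app ((i ≫ g) ⁻¹ᵁ U) _)
    rw [h1, hφ, hθ, hφ' U s]
    exact (hβ U _).symm
  have h := ShortComplex.ShortExact.extClass_naturality hS' hS
    (ShortComplex.homMk τ₁ β (𝟙 Ω₂) h12 (by simp only [Category.comp_id]; exact h23))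
  simp only [ShortComplex.homMk_τ₁, ShortComplex.homMk_τ₃, Abelian.Ext.mk₀_id_comp] at h
  exact h


end Groth.Agent.S18351
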