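import Groth.Statements.S18353
import Groth.Agent.CurvNormLib.Main
import Groth.Agent.SplitExt.Integral
import Groth.Agent.SteinConn.TrivialH0
-- import your own Groth.Agent.* helpers here

set_option autoImplicit false
universe u
open Curv2

set_option backward.isDefEq.respectTransparency false
set_option backward.isDefEq.respectTransparency.types false

namespace Groth.Agent.S18353

open CategoryTheory AlgebraicGeometry in
/-- Let S be an integral Noetherian scheme all of whose local rings are integrally closed domains, and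
let f₁ : C₁ → S and f₂ : C₂ → S be flat, proper, locally finitely presented morphisms of schemes
whose fibres are geometrically reduced and geometrically connected, all of Krull dimension one, and
whose fibres over the generic point of S are smooth. Let φ : C₁ → C₂ be a morphism over S which is
birational, in the sense that it restricts to an isomorphism over some dense open subset of C₂. Then
the canonical map O_{C₂} → φ_* O_{C₁} is an isomorphism: for every open V of C₂ the pull-back map
from sections over V to sections over φ⁻¹(V) is an isomorphism of rings. The total spaces are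
schemes here; the source also allows algebraic spaces. -/
theorem result (S C₁ C₂ : Scheme.{u}) [IsIntegral S]
    [IsNoetherian S] (hS : Pi1.IsNormalScheme S) (f₁ : C₁ ⟶ S) (f₂ : C₂ ⟶ S)
    [Flat f₁] [IsProper f₁] [LocallyOfFinitePresentation f₁] [GeometricallyReduced f₁] [GeometricallyConnected f₁]
    [Flat f₂] [IsProper f₂] [LocallyOfFinitePresentation f₂] [GeometricallyReduced f₂] [GeometricallyConnected f₂]
    (hdim₁ : ∀ s : ↥S, topologicalKrullDim ↥(f₁.fiber s) = 1) (hdim₂ : ∀ s : ↥S, topologicalKrullDim ↥(f₂.fiber s) = 1)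
    (hsm₁ : Smooth (f₁.fiberToSpecResidueField (genericPoint ↥S)))
    (hsm₂ : Smooth (f₂.fiberToSpecResidueField (genericPoint ↥S)))
    (φ : C₁ ⟶ C₂) (hφ : φ ≫ f₂ = f₁) (hbir : ∃ U : C₂.Opens, Dense (U : Set ↥C₂) ∧ IsIso (φ ∣_ U)) :
    ∀ V : C₂.Opens, IsIso (φ.app V) := by
  haveI : IsLocallyNoetherian C₁ := LocallyOfFiniteType.isLocallyNoetherian f₁
  haveI : IsLocallyNoetherian C₂ := LocallyOfFiniteType.isLocallyNoetherian f₂
  have hN₁ := CurvNormLib.isNormal hS f₁ hsm₁
  have hN₂ := CurvNormLib.isNormal hS f₂ hsm₂
  haveI : ConnectedSpace C₁ := GeometricallyConnected.connectedSpace (f := f₁) f₁.isOpenMap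
  haveI : ConnectedSpace C₂ := GeometricallyConnected.connectedSpace (f := f₂) f₂.isOpenMap
  haveI := SplitExt.isIntegral_of_connected_normal C₁ hN₁
  haveI := SplitExt.isIntegral_of_connected_normal C₂ hN₂
  haveI : IsProper (φ ≫ f₂) := by rw [hφ]; infer_instance
  haveI : IsProper φ := IsProper.of_comp φ f₂
  obtain ⟨U, hUd, hUiso⟩ := hbir
  have hη : genericPoint C₂ ∈ U := (genericPoint_spec C₂).mem_open_set_iff U.2 |>.2 (by
    simpa using hUd.nonempty)
  have hsurj : Function.Surjective (φ ∣_ U).base := (φ ∣_ U).homeomorph.surjective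
  have hgen : ∀ Z ∈ irreducibleComponents ↥C₁, ∀ x : C₁, IsGenericPoint x Z → φ x = genericPoint ↥C₂ := by
    intro Z hZ x hx
    rw [irreducibleComponents_eq_singleton, Set.mem_singleton_iff] at hZ
    subst hZ
    obtain ⟨z, hz⟩ := hsurj ⟨genericPoint C₂, hη⟩
    have hz' : φ ((φ ⁻¹ᵁ U).ι z) = genericPoint C₂ := by
      rw [← Scheme.Hom.comp_apply, ← morphismRestrict_ι, Scheme.Hom.comp_apply, hz]; rfl
    have hs : φ x ⤳ genericPoint C₂ :=
      hz' ▸ (hx.specializes (Set.mem_univ _)).map φ.continuous
    exact hs.antisymm (((genericPoint_spec C₂).specializes (Set.mem_univ _))) |>.eq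
  haveI : IsIso (φ.fiberToSpecResidueField (genericPoint C₂)) := by
    let t := C₂.fromSpecResidueField (genericPoint C₂)
    have ht : Set.range t.base ⊆ (U : Set C₂) := by
      rw [Scheme.range_fromSpecResidueField]; exact Set.singleton_subset_iff.2 hη
    let l : Spec (C₂.residueField (genericPoint C₂)) ⟶ U := IsOpenImmersion.lift U.ι t (by rw [Scheme.Opens.range_ι]; exact ht)
    have hl : l ≫ U.ι = t := IsOpenImmersion.lift_fac _ _ _
    let s := l ≫ inv (φ ∣_ U) ≫ (φ ⁻¹ᵁ U).ι
    have hs : s ≫ φ = t := by
      simp only [s, Category.assoc, ← morphismRestrict_ι, IsIso.inv_hom_id_assoc, hl]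
    have hsq : IsPullback s (𝟙 _) φ t := by
      have h1 : IsPullback (l ≫ inv (φ ∣_ U)) (𝟙 _) (φ ∣_ U) l :=
        IsPullback.of_vert_isIso ⟨by simp⟩
      have := h1.paste_horiz (isPullback_morphismRestrict φ U).flip
      simpa [s, hl] using this
    let e := hsq.isoPullback
    have he : e.hom ≫ φ.fiberToSpecResidueField (genericPoint C₂) = 𝟙 _ := hsq.isoPullback_hom_snd
    exact IsIso.of_isIso_fac_left (f := e.hom) he
  exact fun V => SteinConn.isIso_app_of_trivial_generic φ hN₂ hgen (ConcreteCategory.bijective_of_isIso _) V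

end Groth.Agent.S18353
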