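import Groth.Statements.S18354
import Groth.Agent.SubAdjLib.Sep
import Groth.Agent.SubAdjLib.Twist
import Groth.Agent.SubAdjLib.Semistable
import Groth.Agent.SubAdjLib.Graph
import Groth.Agent.SubAdjLib.Stable
import Groth.Agent.AmpleEmb.Inverse
import Groth.Agent.S15923

set_option autoImplicit false
universe u
open Curves

namespace Groth.Agent.S18354

open CategoryTheory CategoryTheory.Limits AlgebraicGeometry

set_option backward.isDefEq.respectTransparency false
set_option backward.isDefEq.respectTransparency.types false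
set_option linter.style.haveILetI false
set_option maxHeartbeats 1000000
open TopologicalSpace Groth.Agent.SubAdjLib Groth.Agent.CliffCurveLib
attribute [local instance] HasDerivedCategory.standard

/-- A smooth closed point in a nonempty open set. -/
theorem exists_smooth_closed {k : Type u} [Field k] [IsAlgClosed k] {X : Scheme.{u}} [X.Over (Spec (CommRingCat.of k))]
    [IsProper (X ↘ Spec (CommRingCat.of k))] [AlgebraicGeometry.IsReduced X] (W : X.Opens) (hW : (W : Set X).Nonempty) :
    ∃ x : X, IsClosed ({x} : Set X) ∧ x ∈ W ∧ ∃ U : X.Opens, x ∈ U ∧ Smooth (U.ι ≫ (X ↘ Spec (CommRingCat.of k))) := by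
  let pX := X ↘ Spec (CommRingCat.of k)
  haveI := EulerIneqLib.isNoetherian_proper (X := X) k
  haveI : JacobsonSpace X := LocallyOfFiniteType.jacobsonSpace pX
  let Sm := pX.smoothLocus
  obtain ⟨y, hy⟩ := (pX.dense_smoothLocus_of_perfectField).inter_open_nonempty _ W.2 hW
  obtain ⟨x, hxW, hxc⟩ := nonempty_inter_closedPoints (Z := ((W ⊓ Sm : X.Opens) : Set X)) ⟨y, hy.1, hy.2⟩
    (W ⊓ Sm).2.isLocallyClosed
  rw [mem_closedPoints_iff] at hxc
  refine ⟨x, hxc, hxW.1, Sm, hxW.2, ?_⟩
  rw [← Scheme.Hom.smoothLocus_eq_top_iff, ← Scheme.Hom.preimage_smoothLocus_eq]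
  exact Scheme.Opens.ι_preimage_self _

/-- An invertible module with degree `n` at each of finitely many smooth points. -/
theorem exists_twist {k : Type u} [Field k] [IsAlgClosed k] {X : Scheme.{u}} [X.Over (Spec (CommRingCat.of k))]
    [IsProper (X ↘ Spec (CommRingCat.of k))] [AlgebraicGeometry.IsReduced X] [ConnectedSpace X]
    (hdim : topologicalKrullDim X = 1) (n : ℕ) (P : Finset X)
    (hP : ∀ x ∈ P, IsClosed ({x} : Set X) ∧ ∃ U : X.Opens, x ∈ U ∧ Smooth (U.ι ≫ (X ↘ Spec (CommRingCat.of k)))) :
    ∃ L : X.Modules, PicF.IsInvertible L ∧ degS k L ⊤ = n * P.card ∧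
      ∀ S : Closeds X, IsSub S → 0 ≤ degS k L S ∧ ((∃ x ∈ P, x ∈ S) → (n : ℤ) ≤ degS k L S) := by
  classical
  haveI := EulerIneqLib.isNoetherian_proper (X := X) k
  induction P using Finset.induction with
  | empty =>
    refine ⟨Coh.structureModule X, ParaFLib.isInvertible_structureModule, ?_, fun S _ => ?_⟩
    · rw [degS_unit]; simp
    · rw [degS_unit]; exact ⟨le_rfl, fun ⟨x, hx, _⟩ => absurd hx (Finset.notMem_empty x)⟩
  | insert p P hp ih =>
    obtain ⟨L, hL, htop, hS⟩ := ih fun x hx => hP x (Finset.mem_insert_of_mem hx)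
    obtain ⟨hpc, hps⟩ := hP p (Finset.mem_insert_self p P)
    have hI := (S15923.result k X (fun Z hZ => TwistShriek.dim_irreducibleComponent k hdim hZ) p hpc).2 hps
    obtain ⟨N, hN, ⟨e⟩⟩ := AmpleEmb.exists_isInverseOf hI
    have hinv : ClSub.IsInverseOf N (ClSub.idealMod (vI (⟨{p}, hpc⟩ : Closeds X))) := ⟨AmpleLib.comm _ _ ≪≫ e⟩
    have hd : topologicalKrullDim ((⟨{p}, hpc⟩ : Closeds X) : Set X) ≤ 0 :=
      topologicalKrullDim_zero_of_discreteTopology ({p} : Set X)
    have hNn := AmpleLib.isInvertible_tensorPow hN n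
    have hNS : ∀ S : Closeds X, IsSub S → 0 ≤ degS k N S ∧ (p ∈ S → 1 ≤ degS k N S) := by
      refine fun S hS => sub_induction k hdim.le (P := fun S => 0 ≤ degS k N S ∧ (p ∈ S → 1 ≤ degS k N S))
        (fun S hS hi => ⟨degS_inverse_points_nonneg k hdim.le hd hN hinv hS, fun hpS => ?_⟩)
        (fun A B S _ _ _ hAB hdd hA hB => ?_) S hS
      · rw [degS_inverse_points k hdim.le hd hN hinv hS hi]
        have h1 := Sep.h0_quot_mono k (show vI S ⊔ vI (⟨{p}, hpc⟩ : Closeds X) ≤ vI (⟨{p}, hpc⟩ : Closeds X) from
          sup_le (vI_mono fun x hx => by rw [Set.mem_singleton_iff.1 hx]; exact hpS) le_rfl)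
          (CliffCurveLib.dim_mono (by
            rw [Scheme.IdealSheafData.support_sup, H1ZeroLib.support_vanishingIdeal', H1ZeroLib.support_vanishingIdeal']
            exact fun z hz => hz.2) hd)
        have h2 := h0_quotMod_pos (k := k) (S := (⟨{p}, hpc⟩ : Closeds X)) ⟨p, rfl⟩
        omega
      · rw [degS_union k hN hAB hdd]
        refine ⟨add_nonneg hA.1 hB.1, fun hpS => ?_⟩
        rcases hAB.ge hpS with h | h
        · have := hA.2 h; have := hB.1; omega
        · have := hB.2 h; have := hA.1; omega
    refine ⟨CohB1.tensorMod L (CohB1.tensorPow N n), AmpleLib.isInvertible_tensor hL hNn, ?_, fun S hS' => ?_⟩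
    · rw [degS_tensor k hL hNn hdim.le (isSub_top hdim), degS_tensorPow k hN hdim.le (isSub_top hdim), htop,
        degS_inverse_points_top k hdim hd hN hinv, Finset.card_insert_of_notMem hp,
        show ((⟨{p}, hpc⟩ : Closeds X) : Set X) = {p} from rfl, Nat.card_coe_set_eq, Set.ncard_singleton]
      push_cast
      ring
    · rw [degS_tensor k hL hNn hdim.le hS', degS_tensorPow k hN hdim.le hS']
      obtain ⟨h1, h2⟩ := hS S hS'
      obtain ⟨h3, h4⟩ := hNS S hS'
      have h5 : (0 : ℤ) ≤ n * degS k N S := mul_nonneg (Int.natCast_nonneg n) h3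
      refine ⟨add_nonneg h1 h5, fun ⟨x, hx, hxS⟩ => ?_⟩
      rcases Finset.mem_insert.1 hx with rfl | hx
      · have h6 := mul_le_mul_of_nonneg_left (h4 hxS) (Int.natCast_nonneg n)
        omega
      · have h6 := h2 ⟨x, hx, hxS⟩
        omega

open CategoryTheory CategoryTheory.Limits AlgebraicGeometry in
/-- For all natural numbers g and e there is a natural number D with the following property. For every
algebraically closed field k and every reduced, connected scheme X proper over k, of Krull dimension
one, with finitely many and at most e irreducible components and with dim_k H^1(X, O_X) = g, there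
is an invertible O_X-module L of degree at most D with H^1(X, L) = 0, together with a closed
immersion i of X into some projective space P^m_k over k with i^* O(1) ≅ L. The source phrases the
conclusion as the existence of an embedding of degree at most D and reduces it to this form at the
start of its proof; its genus is the arithmetic genus 1 − χ(O_X), which equals dim_k H^1(X, O_X) for
X reduced, connected and proper over an algebraically closed field. -/
theorem result (g e : ℕ) :
    ∃ D : ℕ, ∀ (k : Type u) [Field k] [IsAlgClosed k] (X : Scheme.{u}) [X.Over (Spec (CommRingCat.of k))]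
      [IsProper (X ↘ Spec (CommRingCat.of k))] [IsReduced X] [ConnectedSpace ↥X],
      topologicalKrullDim ↥X = 1 → (irreducibleComponents (↥X : Type u)).Finite →
      (irreducibleComponents (↥X : Type u)).ncard ≤ e → Curv2.genus k X = g →
      ∃ L : X.Modules, PicF.IsInvertible L ∧ Curv2.deg k X L 1 ≤ (D : ℤ) ∧ Subsingleton (Coh.HH X L 1) ∧
        ∃ (m : ℕ) (i : X ⟶ CohB1.ProjSpace m k), IsClosedImmersion i ∧
          i ≫ CohB1.ProjSpace.toSpec m k = X ↘ Spec (CommRingCat.of k) ∧
          Nonempty ((Scheme.Modules.pullback i).obj (Twist.twistProjSpace m k 1) ≅ L) := by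
  refine ⟨(2 * g + 1) * e, fun k _ _ X _ _ _ _ hdim hfin hcard hg => ?_⟩
  classical
  haveI := EulerIneqLib.isNoetherian_proper (X := X) k
  haveI : Fintype (irreducibleComponents (X : Type u)) := hfin.fintype
  have hex : ∀ C : irreducibleComponents (X : Type u), ∃ x : X, IsClosed ({x} : Set X) ∧ x ∈ C.1 ∧
      ∃ U : X.Opens, x ∈ U ∧ Smooth (U.ι ≫ (X ↘ Spec (CommRingCat.of k))) := by
    rintro ⟨C, hC⟩
    let T : Set X := ⋃ D ∈ irreducibleComponents (X : Type u) \ {C}, D
    have hT : IsClosed T := (hfin.subset Set.sdiff_subset).isClosed_biUnion fun D hD =>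
      isClosed_of_mem_irreducibleComponents D hD.1
    obtain ⟨ξ, hξ⟩ := QuasiSober.sober hC.1 (isClosed_of_mem_irreducibleComponents C hC)
    have hξT : ξ ∉ T := by
      intro h
      obtain ⟨D, hD, hξD⟩ := Set.mem_iUnion₂.1 h
      refine hD.2 (Set.mem_singleton_iff.2 ?_)
      have h1 : C ⊆ D := by
        rw [← hξ.def]
        exact closure_minimal (Set.singleton_subset_iff.2 hξD) (isClosed_of_mem_irreducibleComponents D hD.1)
      exact Set.Subset.antisymm (hC.2 hD.1.1 h1) h1
    obtain ⟨x, hxc, hxW, hs⟩ := exists_smooth_closed (k := k) (⟨Tᶜ, hT.isOpen_compl⟩ : X.Opens) ⟨ξ, hξT⟩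
    refine ⟨x, hxc, by_contra fun hxC => hxW ?_, hs⟩
    exact Set.mem_biUnion (show irreducibleComponent x ∈ irreducibleComponents (X : Type u) \ {C} from
      ⟨irreducibleComponent_mem_irreducibleComponents x, fun h => hxC (h ▸ mem_irreducibleComponent)⟩)
      mem_irreducibleComponent
  choose p hpc hpC hps using hex
  obtain ⟨L, hL, htop, hS⟩ := exists_twist (k := k) hdim (2 * g + 1) (Finset.univ.image p) fun x hx => by
    obtain ⟨C, -, rfl⟩ := Finset.mem_image.1 hx
    exact ⟨hpc C, hps C⟩
  have hdeg : ∀ S : Closeds X, IsSub S → 2 * (gS k S : ℤ) + 1 ≤ degS k L S := by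
    intro S hS'
    have h1 := gS_le_genus (k := k) hdim.le S
    rw [hg] at h1
    let F : Set (Closeds X) := {Z | (Z : Set X) ∈ irreducibleComponents (X : Type u)}
    obtain ⟨Z, hZ, -, hZS⟩ := exists_component_le hdim.le (F := F) (hfin.preimage SetLike.coe_injective.injOn)
      (fun Z hZ => hZ.1) (S := ⊤) (U := ⊥) (Y := S)
      (SetLike.coe_injective (Set.eq_univ_of_forall fun x =>
        (le_sSup (show (⟨irreducibleComponent x, isClosed_irreducibleComponent⟩ : Closeds X) ∈ F from
          irreducibleComponent_mem_irreducibleComponents x) : _) mem_irreducibleComponent).symm)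
      le_top hS'.2 (CliffCurveLib.dim_mono (fun z hz => hz.1)
        (topologicalKrullDim_zero_of_discreteTopology (∅ : Set X)))
    have h2 := (hS S hS').2 ⟨p ⟨Z, hZ⟩, Finset.mem_image_of_mem p (Finset.mem_univ _), hZS (hpC ⟨Z, hZ⟩)⟩
    push_cast at h2
    omega
  refine ⟨L, hL, ?_, subsingleton_H1_of_degS k hdim hL fun S hS' => by have := hdeg S hS'; omega,
    Sep.exists_closedImmersion k hL (Sep.crit_of_degS k hdim hL hdeg)⟩
  rw [← degS_top, htop]
  have h3 : (Finset.univ.image p).card ≤ e := by
    refine Finset.card_image_le.trans ?_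
    rw [Finset.card_univ, ← Nat.card_eq_fintype_card, Nat.card_coe_set_eq]
    exact hcard
  exact_mod_cast Nat.mul_le_mul_left (2 * g + 1) h3

end Groth.Agent.S18354
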