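import Groth.Statements.S18360
import Groth.Agent.FinDomLib.Main
import Groth.Agent.SymPolyLib.Split

set_option autoImplicit false
universe u
open CategoryTheory CategoryTheory.Limits AlgebraicGeometry
open Alter

namespace Groth.Agent.S18360

open Polynomial in
/-- A finite algebra over which all the values of a given finite algebra in fields are rational. -/
theorem exists_split (A B : Type u) [CommRing A] [CommRing B] [Algebra A B] [Module.Finite A B] :
    ∃ (S : Type u) (_ : CommRing S) (_ : Algebra A S), Module.Finite A S ∧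
      Function.Surjective (PrimeSpectrum.comap (algebraMap A S)) ∧
      ∀ (R L : Type u) [CommRing R] [Field L] (j : R →+* L) (t : S →+* R) (ψ : B →+* L),
        ψ.comp (algebraMap A B) = j.comp (t.comp (algebraMap A S)) → ∀ b, ψ b ∈ j.range := by
  classical
  rcases subsingleton_or_nontrivial A with hA | hA
  · refine ⟨A, inferInstance, inferInstance, inferInstance, fun x => ⟨x, by simp⟩, ?_⟩
    intro R L _ _ j t ψ h b
    exfalso
    have h1 := congrArg ψ (congrArg (algebraMap A B) (Subsingleton.elim (1 : A) 0))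
    simp at h1
  obtain ⟨s, hs⟩ := Module.Finite.fg_top (R := A) (M := B)
  choose P hPm hP using fun b : B => (Algebra.IsIntegral.isIntegral (R := A) b)
  let g := ∏ b ∈ s, P b
  have hg : g.Monic := monic_prod_of_monic _ _ fun b _ => hPm b
  have hd : SymPolyLib.Deg g.natDegree g := ⟨le_rfl, hg.coeff_natDegree⟩
  obtain ⟨bas⟩ := SymPolyLib.exists_basis_split g.natDegree A g hd
  haveI : Module.Free A (SymPolyLib.SplitAlg g.natDegree g) := Module.Free.of_basis bas
  haveI : Module.Finite A (SymPolyLib.SplitAlg g.natDegree g) := Module.Finite.of_basis bas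
  haveI : Nontrivial (SymPolyLib.SplitAlg g.natDegree g) :=
    haveI : Nonempty (Fin g.natDegree.factorial) := ⟨⟨0, Nat.factorial_pos _⟩⟩
    bas.repr.toEquiv.nontrivial
  refine ⟨SymPolyLib.SplitAlg g.natDegree g, inferInstance, inferInstance, inferInstance,
    PrimeSpectrum.comap_surjective_of_faithfullyFlat, ?_⟩
  intro R L _ _ j t ψ h b
  have hroot : ∀ x ∈ s, ψ x ∈ j.range := by
    intro x hx
    have h0 : (g.map (ψ.comp (algebraMap A B))).eval (ψ x) = 0 := by
      rw [Polynomial.eval_map, ← Polynomial.hom_eval₂, ← Polynomial.aeval_def]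
      rw [show Polynomial.aeval x g = 0 from ?_, map_zero]
      simp only [g, map_prod]
      exact Finset.prod_eq_zero hx (show Polynomial.aeval x (P x) = 0 from hP x)
    rw [h, ← RingHom.comp_assoc, ← Polynomial.map_map, ← SymPolyLib.prod_mk hd] at h0
    simp only [Polynomial.map_prod, Polynomial.map_sub, Polynomial.map_X, Polynomial.map_C, eval_prod, eval_sub,
      eval_X, eval_C, Finset.prod_eq_zero_iff, sub_eq_zero] at h0
    obtain ⟨i, -, hi⟩ := h0
    exact ⟨_, hi.symm⟩
  have hb : b ∈ Submodule.span A (s : Set B) := hs ▸ Submodule.mem_top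
  induction hb using Submodule.span_induction with
  | mem x hx => exact hroot x hx
  | zero => simp
  | add x y _ _ hx hy => rw [map_add]; exact add_mem hx hy
  | smul a x _ hx =>
    rw [Algebra.smul_def, map_mul]
    exact mul_mem ⟨_, (RingHom.congr_fun h a).symm⟩ hx

theorem isDominant_of_comp {T V G : Scheme.{u}} (e' : T ⟶ V) (w : V ⟶ G) [IsOpenImmersion w] (e : T ⟶ G)
    [IsDominant e] (h : e' ≫ w = e) : IsDominant e' := by
  refine ⟨fun v => ?_⟩
  have hd : Dense (w.base ⁻¹' Set.range e.base) := e.denseRange.preimage w.isOpenEmbedding.isOpenMap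
  refine closure_mono ?_ (hd v)
  rintro z ⟨t, ht⟩
  exact ⟨t, w.isOpenEmbedding.injective ((congr($(h).base t)).trans ht)⟩

theorem range_subset_open {G : Scheme.{u}} {L : Type u} [Field L] (e : Spec (CommRingCat.of L) ⟶ G) [IsDominant e]
    (V : G.Opens) (hV : (V : Set G).Nonempty) : Set.range e.base ⊆ V := by
  obtain ⟨z, hz, t, rfl⟩ := e.denseRange.inter_open_nonempty V V.isOpen hV
  rintro _ ⟨t', rfl⟩
  rwa [Subsingleton.elim t' t]

theorem exists_cover {Y F' : Scheme.{u}} [IsNoetherian Y] (f : F' ⟶ Y) [IsFinite f] :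
    ∃ (Y' : Scheme.{u}) (g : Y' ⟶ Y), IsFinite g ∧ Surjective g ∧
      ∀ (G : Scheme.{u}) [IsIntegral G] (l : G ⟶ Y') (L : Type u) [Field L] (e : Spec (CommRingCat.of L) ⟶ G)
        [IsDominant e] (ψ : Spec (CommRingCat.of L) ⟶ F'),
        ψ ≫ f = e ≫ l ≫ g → ∃ φ : G ⟶ F', φ ≫ f = l ≫ g := by
  classical
  choose U hU hmem using fun y : Y => (exists_isAffineOpen_mem_and_subset (U := (⊤ : Y.Opens)) (x := y) trivial).imp
    fun V h => (⟨h.1, h.2.1⟩ : IsAffineOpen V ∧ y ∈ V)
  obtain ⟨c, hc⟩ := isCompact_univ.elim_finite_subcover (fun y => (U y : Set Y)) (fun y => (U y).2)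
    (fun y _ => Set.mem_iUnion.2 ⟨y, hmem y⟩)
  let P : Y → Scheme.{u} := fun y => pullback f (hU y).fromSpec
  haveI : ∀ y, IsAffine (P y) := fun y => isAffine_of_isAffineHom (pullback.snd f (hU y).fromSpec)
  let q : ∀ y, Spec Γ(P y, ⊤) ⟶ Spec Γ(Y, U y) := fun y => (P y).isoSpec.inv ≫ pullback.snd f (hU y).fromSpec
  letI alg : ∀ y, Algebra Γ(Y, U y) Γ(P y, ⊤) := fun y => (Spec.preimage (q y)).hom.toAlgebra
  have hq : ∀ y, Spec.map (CommRingCat.ofHom (algebraMap Γ(Y, U y) Γ(P y, ⊤))) = q y := fun y => Spec.map_preimage _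
  haveI : ∀ y, Module.Finite Γ(Y, U y) Γ(P y, ⊤) := fun y => by
    haveI : IsFinite (q y) := inferInstanceAs (IsFinite ((P y).isoSpec.inv ≫ pullback.snd f (hU y).fromSpec))
    have h1 : IsFinite (Spec.map (Spec.preimage (q y))) := by rw [Spec.map_preimage]; infer_instance
    exact (IsFinite.SpecMap_iff _).1 h1
  choose S _ _ hSfin hSsurj hS using fun y => exists_split Γ(Y, U y) Γ(P y, ⊤)
  let p : ∀ y, Spec (CommRingCat.of (S y)) ⟶ (U y).toScheme := fun y =>
    Spec.map (CommRingCat.ofHom (algebraMap Γ(Y, U y) (S y))) ≫ (hU y).isoSpec.inv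
  have hp : ∀ y, IsFinite (p y) := fun y => by
    haveI : IsFinite (Spec.map (CommRingCat.ofHom (algebraMap Γ(Y, U y) (S y)))) :=
      (IsFinite.SpecMap_iff _).2 (RingHom.finite_algebraMap.2 (hSfin y))
    exact inferInstanceAs (IsFinite (_ ≫ _))
  have hps : ∀ y, Surjective (p y) := fun y => by
    haveI : Surjective (Spec.map (CommRingCat.ofHom (algebraMap Γ(Y, U y) (S y)))) := ⟨hSsurj y⟩
    exact inferInstanceAs (Surjective (_ ≫ _))
  obtain ⟨Y', g, hg, hgs, hr⟩ := FinDomLib.exists_extend_finset U hU (fun y => Spec (CommRingCat.of (S y))) p hp hps c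
  refine ⟨Y', g, hg, hgs, fun G _ l L _ e _ ψ hψ => ?_⟩
  have key : ∀ x : G, ∃ (V : G.Opens) (φ : V.toScheme ⟶ F') (e' : Spec (CommRingCat.of L) ⟶ V.toScheme),
      x ∈ V ∧ φ ≫ f = V.ι ≫ l ≫ g ∧ e' ≫ V.ι = e ∧ e' ≫ φ = ψ := by
    intro x
    obtain ⟨y, hy, hxy⟩ := Set.mem_iUnion₂.1 (hc (Set.mem_univ ((l ≫ g) x)))
    obtain ⟨V, hV, hxV, hVO⟩ := exists_isAffineOpen_mem_and_subset (U := (l ≫ g) ⁻¹ᵁ U y) (x := x) hxy
    have hne : (V : Set G).Nonempty := ⟨x, hxV⟩
    haveI : Nonempty V.toScheme := ⟨⟨x, hxV⟩⟩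
    haveI : IsDomain Γ(G, V) := IsIntegral.component_integral V
    let e' := IsOpenImmersion.lift hV.fromSpec e (by rw [hV.range_fromSpec]; exact range_subset_open e V hne)
    have he' : e' ≫ hV.fromSpec = e := IsOpenImmersion.lift_fac _ _ _
    haveI := isDominant_of_comp e' hV.fromSpec e he'
    obtain ⟨j, hj⟩ : ∃ j, Spec.map j = e' := ⟨Spec.preimage _, Spec.map_preimage _⟩
    have hjinj : Function.Injective j.hom := by
      have hd : DenseRange (PrimeSpectrum.comap j.hom) := by
        have := e'.denseRange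
        rwa [← hj] at this
      rw [PrimeSpectrum.denseRange_comap_iff_ker_le_nilRadical] at hd
      exact (RingHom.injective_iff_ker_eq_bot _).2 (le_bot_iff.1 (hd.trans (nilradical_eq_zero _).le))
    obtain ⟨r, hr⟩ := hr y hy
    let w := IsOpenImmersion.lift (g ⁻¹ᵁ U y).ι (hV.fromSpec ≫ l) (by
      rw [Scheme.Opens.range_ι]
      rintro _ ⟨z, rfl⟩
      exact hVO (hV.range_fromSpec.subset ⟨z, rfl⟩))
    have hw : w ≫ r ≫ p y ≫ (U y).ι = hV.fromSpec ≫ l ≫ g := by
      rw [reassoc_of% hr, morphismRestrict_ι, IsOpenImmersion.lift_fac_assoc, Category.assoc]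
    obtain ⟨t, ht⟩ : ∃ t, Spec.map t = w ≫ r := ⟨Spec.preimage _, Spec.map_preimage _⟩
    have hS' : Spec.map t ≫ Spec.map (CommRingCat.ofHom (algebraMap Γ(Y, U y) (S y))) ≫ (hU y).fromSpec =
        hV.fromSpec ≫ l ≫ g := by
      rw [ht, Category.assoc, ← hw]
      simp [p, IsAffineOpen.isoSpec_inv_ι]
    let ψP : Spec (CommRingCat.of L) ⟶ P y := pullback.lift ψ
      (Spec.map j ≫ Spec.map t ≫ Spec.map (CommRingCat.ofHom (algebraMap Γ(Y, U y) (S y)))) (by
        rw [Category.assoc, Category.assoc, hS', hψ, hj, ← he', Category.assoc])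
    obtain ⟨ψB, hψB⟩ : ∃ ψB, Spec.map ψB = ψP ≫ (P y).isoSpec.hom := ⟨Spec.preimage _, Spec.map_preimage _⟩
    have hcomp : ψB.hom.comp (algebraMap Γ(Y, U y) Γ(P y, ⊤)) =
        j.hom.comp (t.hom.comp (algebraMap Γ(Y, U y) (S y))) := by
      have h1 : CommRingCat.ofHom (algebraMap Γ(Y, U y) Γ(P y, ⊤)) ≫ ψB =
          CommRingCat.ofHom (algebraMap Γ(Y, U y) (S y)) ≫ t ≫ j := by
        apply Spec.map_injective
        rw [Spec.map_comp, Spec.map_comp, Spec.map_comp, hψB, hq]
        simp [q, ψP]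
        exact pullback.lift_snd _ _ _
      exact congrArg CommRingCat.Hom.hom h1
    have hrange := hS y Γ(G, V) L j.hom t.hom ψB.hom hcomp
    let θ : Γ(P y, ⊤) ⟶ Γ(G, V) := CommRingCat.ofHom ((RingEquiv.ofBijective j.hom.rangeRestrict
      ⟨fun a b h => hjinj (congrArg Subtype.val h), j.hom.rangeRestrict_surjective⟩).symm.toRingHom.comp
      (ψB.hom.codRestrict j.hom.range hrange))
    have hθ : θ ≫ j = ψB := by
      ext b
      exact congrArg Subtype.val (RingEquiv.apply_symm_apply (RingEquiv.ofBijective j.hom.rangeRestrict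
        ⟨fun a b h => hjinj (congrArg Subtype.val h), j.hom.rangeRestrict_surjective⟩) ⟨ψB.hom b, hrange b⟩)
    let Φ := Spec.map θ ≫ (P y).isoSpec.inv ≫ pullback.fst f (hU y).fromSpec
    have hΦ : Φ ≫ f = hV.fromSpec ≫ l ≫ g := by
      have h2 : CommRingCat.ofHom (algebraMap Γ(Y, U y) Γ(P y, ⊤)) ≫ θ =
          CommRingCat.ofHom (algebraMap Γ(Y, U y) (S y)) ≫ t := by
        ext a
        refine hjinj ?_
        show (θ ≫ j) (algebraMap Γ(Y, U y) Γ(P y, ⊤) a) = _
        rw [hθ]
        exact RingHom.congr_fun hcomp a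
      rw [← hS', ← Spec.map_comp_assoc, ← h2, Spec.map_comp, hq]
      simp [Φ, q, pullback.condition]
    refine ⟨V, hV.isoSpec.hom ≫ Φ, e' ≫ hV.isoSpec.inv, hxV, ?_, ?_, ?_⟩
    · rw [Category.assoc, hΦ, IsAffineOpen.isoSpec_hom_fromSpec_assoc]
    · rw [Category.assoc, IsAffineOpen.isoSpec_inv_ι, he']
    · rw [Category.assoc, Iso.inv_hom_id_assoc, ← hj, ← Spec.map_comp_assoc, hθ, hψB]
      simp [ψP]
      exact pullback.lift_fst _ _ _
  choose V φ e' hmemV hφ he he'ψ using key
  have hcov : ⨆ x, V x = ⊤ := eq_top_iff.2 fun x _ => TopologicalSpace.Opens.mem_iSup.2 ⟨x, hmemV x⟩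
  let C := Scheme.openCoverOfIsOpenCover G V hcov
  refine ⟨C.glueMorphisms φ fun (x y : G) => ?_, C.hom_ext _ _ fun x => ?_⟩
  · show pullback.fst (V x).ι (V y).ι ≫ φ x = pullback.snd (V x).ι (V y).ι ≫ φ y
    let eP : Spec (CommRingCat.of L) ⟶ pullback (V x).ι (V y).ι :=
      pullback.lift (e' x) (e' y) ((he x).trans (he y).symm)
    haveI : IsReduced (pullback (V x).ι (V y).ι) :=
      isReduced_of_isOpenImmersion (pullback.fst (V x).ι (V y).ι ≫ (V x).ι)
    haveI := isDominant_of_comp eP (pullback.fst (V x).ι (V y).ι ≫ (V x).ι) e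
      (by simp only [eP, pullback.lift_fst_assoc]; exact he x)
    refine ext_of_isDominant_of_isSeparated f ?_ eP ?_
    · rw [Category.assoc, Category.assoc, hφ, hφ]
      exact pullback.condition_assoc _
    · simp only [eP, pullback.lift_fst_assoc, pullback.lift_snd_assoc]
      exact (he'ψ x).trans (he'ψ y).symm
  · exact (Category.assoc _ _ _).symm.trans
      ((congrArg (· ≫ f) (Scheme.Cover.ι_glueMorphisms C φ _ x)).trans (hφ x))

/-- Let Y be a Noetherian scheme, i : F ⟶ Y a closed immersion and s : F' ⟶ F a finite surjective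
morphism. Then there are a scheme Y' and a finite surjective morphism g : Y' ⟶ Y such that every
irreducible component of F ×_Y Y', with its reduced closed-subscheme structure, is the source of an
F-morphism to F': for every reduced scheme G and every closed immersion ι : G ⟶ F ×_Y Y' whose image
is an irreducible component, there is φ : G ⟶ F' with φ ≫ s = ι ≫ pr₁. -/
theorem result {Y F F' : Scheme.{u}} [IsNoetherian Y]
    (i : F ⟶ Y) [IsClosedImmersion i] (s : F' ⟶ F) [IsFinite s] [Surjective s] :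
    ∃ (Y' : Scheme.{u}) (g : Y' ⟶ Y), IsFinite g ∧ Surjective g ∧
      ∀ (G : Scheme.{u}) (ι : G ⟶ pullback i g) [IsClosedImmersion ι] [AlgebraicGeometry.IsReduced G],
        Set.range ι.base ∈ irreducibleComponents ↥(pullback i g) →
          ∃ φ : G ⟶ F', φ ≫ s = ι ≫ pullback.fst i g := by
  obtain ⟨Y', g, hg, hgs, hkey⟩ := exists_cover (s ≫ i)
  refine ⟨Y', g, hg, hgs, fun G ι _ _ hG => ?_⟩
  haveI : IrreducibleSpace G := by
    haveI := isIrreducible_iff_irreducibleSpace.1 hG.1
    exact ι.isClosedEmbedding.isEmbedding.toHomeomorph.irreducibleSpace_iff.2 ‹_›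
  haveI : IsIntegral G := isIntegral_of_irreducibleSpace_of_isReduced G
  let e₀ := G.fromSpecResidueField (genericPoint G)
  haveI : IsDominant e₀ := by
    refine ⟨fun x => ?_⟩
    rw [Scheme.range_fromSpecResidueField, (genericPoint_spec G).def]
    trivial
  let T := pullback s (e₀ ≫ ι ≫ pullback.fst i g)
  obtain ⟨t⟩ : Nonempty T := by
    obtain ⟨t, -⟩ := (pullback.snd s (e₀ ≫ ι ≫ pullback.fst i g)).surjective (Classical.arbitrary _)
    exact ⟨t⟩
  let et := T.fromSpecResidueField t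
  let e := et ≫ pullback.snd s (e₀ ≫ ι ≫ pullback.fst i g) ≫ e₀
  haveI : IsDominant (et ≫ pullback.snd s (e₀ ≫ ι ≫ pullback.fst i g)) :=
    haveI : Surjective (et ≫ pullback.snd s (e₀ ≫ ι ≫ pullback.fst i g)) :=
      ⟨fun y => ⟨Classical.arbitrary _, Subsingleton.elim _ _⟩⟩
    inferInstance
  haveI : IsDominant e := by
    have h1 : IsDominant ((et ≫ pullback.snd s (e₀ ≫ ι ≫ pullback.fst i g)) ≫ e₀) := inferInstance
    rwa [Category.assoc] at h1
  obtain ⟨φ, hφ⟩ := hkey G (ι ≫ pullback.snd i g) (T.residueField t) e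
    (et ≫ pullback.fst s (e₀ ≫ ι ≫ pullback.fst i g)) (by
      simp only [e, Category.assoc, pullback.condition_assoc]
      rw [pullback.condition])
  exact ⟨φ, (cancel_mono i).1 (by rw [Category.assoc, hφ, Category.assoc, Category.assoc, pullback.condition])⟩

end Groth.Agent.S18360
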