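import Groth.Statements.S18361
import Groth.Agent.FLCLib.FlatDescent
import Groth.Agent.EtConsLib.Induct
import Groth.Agent.S0414
import Groth.Agent.DVRCrit.Local
-- import your own Groth.Agent.* helpers here

set_option autoImplicit false
set_option backward.isDefEq.respectTransparency false
set_option backward.isDefEq.respectTransparency.types false
universe u v
open CategoryTheory CategoryTheory.Limits AlgebraicGeometry
open EtPBC

namespace Groth.Agent.S18361

open Groth.Agent.FLCLib TopologicalSpace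

/-- Over an open piece of every irreducible closed set some stratum gives a flat surjective cover. -/
theorem exists_flat_piece {X : Scheme.{u}} [IsNoetherian X] {n : ℕ} {T : Fin n → Scheme.{u}}
    (h : ∀ i, T i ⟶ X) [∀ i, LocallyOfFiniteType (h i)] [∀ i, QuasiCompact (h i)]
    (hcov : ∀ x : X, ∃ i, x ∈ Set.range (h i)) (Z : Set X) (hZ : IsIrreducible Z) (hZc : IsClosed Z) :
    ∃ (T' : Scheme.{u}) (g : T' ⟶ X) (O : X.Opens), IsImmersion g ∧ Set.range g = (O : Set X) ∩ Z ∧
      ((O : Set X) ∩ Z).Nonempty ∧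
      ∀ G : EtCoh.Ab X, (∀ i, EtCoh.IsFiniteLocallyConstant ((EtCoh.pull (h i)).obj G)) →
        EtCoh.IsFiniteLocallyConstant ((EtCoh.pull g).obj G) := by
  obtain ⟨η, hη⟩ := QuasiSober.sober hZ hZc
  obtain ⟨j, hj⟩ := hcov η
  let I := Scheme.IdealSheafData.vanishingIdeal (⟨Z, hZc⟩ : Closeds X)
  haveI : AlgebraicGeometry.IsReduced I.subscheme := DVRCrit.isReduced_vanishingIdeal _
  let i := I.subschemeι
  have hi : Set.range i = Z := I.range_subschemeι.trans (by simp [I])
  obtain ⟨η', hη'⟩ : η ∈ Set.range i := hi.symm ▸ hη.mem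
  have hgen : ∀ y, η' ⤳ y := fun y => i.isEmbedding.isInducing.specializes_iff.1
    (hη' ▸ hη.specializes (hi ▸ Set.mem_range_self y))
  let r := pullback.snd (h j) i
  obtain ⟨U, hU, hflat, hlfp⟩ := Groth.Agent.S0414.result r
  haveI := hflat
  haveI := hlfp
  obtain ⟨z, -, hz⟩ := hU.inter_open_nonempty _ isOpen_univ ⟨η', trivial⟩
  have hη'U : η' ∈ U := (hgen z).mem_open U.2 hz
  obtain ⟨p, hp⟩ : η' ∈ Set.range r := by
    rw [Scheme.Pullback.range_snd]
    exact show i η' ∈ Set.range (h j) from hη'.symm ▸ hj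
  let rU := r ∣_ U
  let R : U.toScheme.Opens := ⟨Set.range rU, rU.isOpenMap.isOpen_range⟩
  let m := rU ∣_ R
  haveI : Surjective m := ⟨fun y => by
    obtain ⟨x, hx⟩ := y.2
    refine ⟨⟨x, show rU x ∈ R from ⟨x, rfl⟩⟩, Subtype.ext ?_⟩
    simpa [m] using hx⟩
  haveI : Flat m := inferInstance
  haveI : LocallyOfFinitePresentation m := inferInstance
  let g := R.ι ≫ U.ι ≫ i
  obtain ⟨O, hO, hpre⟩ := i.isEmbedding.isInducing.isOpen_iff.1 (U.ι.isOpenEmbedding.isOpenMap _ R.2)
  have hrange : Set.range g = O ∩ Z := by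
    rw [show ⇑g = ⇑i ∘ (⇑U.ι ∘ ⇑R.ι) from funext fun x => by simp [g], Set.range_comp, Set.range_comp,
      Scheme.Opens.range_ι, show (R : Set U.toScheme) = R.carrier from rfl, ← hpre, Set.image_preimage_eq_inter_range, hi]
  have hηR : (⟨η', hη'U⟩ : U.toScheme) ∈ R := ⟨⟨p, (show r p ∈ U from hp.symm ▸ hη'U)⟩, Subtype.ext (by
    simpa [rU] using hp)⟩
  refine ⟨_, g, ⟨O, hO⟩, inferInstance, hrange, ⟨g ⟨⟨η', hη'U⟩, hηR⟩, hrange ▸ Set.mem_range_self _⟩,
    fun G hG => flc_of_pull_flat m ?_⟩
  refine (flc_pull_pull_iff m g).1 ?_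
  have e : ((rU ⁻¹ᵁ R).ι ≫ (r ⁻¹ᵁ U).ι ≫ pullback.fst (h j) i) ≫ h j = m ≫ g := by
    simp only [g, m, rU, Category.assoc, morphismRestrict_ι_assoc]
    rw [pullback.condition]
  exact flc_pull_congr e (flc_pull_comp _ _ (hG j))

/-- Let q : X' ⟶ X be a surjective morphism locally of finite type between Noetherian schemes (hence of
finite type) and let (F k) be any family of abelian sheaves on the small étale site of X. Suppose X'
carries one finite stratification adapted to the whole pulled-back family: finitely many immersions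
g i : T i ⟶ X' with pairwise disjoint images covering X', such that each q⁻¹(F k) pulled back along
each g i is finite locally constant. Then X carries a finite stratification by immersions with
pairwise disjoint images covering X along each of which every F k becomes finite locally constant.
The published statement is an equivalence; this row states only the implication from X' to X. -/
theorem result {X' X : Scheme.{u}}
    [IsNoetherian X] [IsNoetherian X'] (q : X' ⟶ X) [Surjective q] [LocallyOfFiniteType q]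
    {ι : Type v} (F : ι → EtCoh.Ab X) {n : ℕ} (T : Fin n → Scheme.{u}) (g : ∀ i, T i ⟶ X')
    [∀ i, IsImmersion (g i)]
    (hdisj : Pairwise fun i j => Disjoint (Set.range (g i).base) (Set.range (g j).base))
    (hcov : (⋃ i, Set.range (g i).base) = Set.univ)
    (hF : ∀ k i, EtCoh.IsFiniteLocallyConstant ((EtCoh.pull (g i)).obj ((EtCoh.pull q).obj (F k)))) :
    ∃ (m : ℕ) (T₀ : Fin m → Scheme.{u}) (g₀ : ∀ j, T₀ j ⟶ X),
      (∀ j, IsImmersion (g₀ j)) ∧
      Pairwise (fun j j' => Disjoint (Set.range (g₀ j).base) (Set.range (g₀ j').base)) ∧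
      (⋃ j, Set.range (g₀ j).base) = Set.univ ∧
      ∀ k j, EtCoh.IsFiniteLocallyConstant ((EtCoh.pull (g₀ j)).obj (F k)) := by
  haveI hg : ∀ i, IsNoetherian (T i) := fun i => EtConsLib.isNoetherian_of_immersion (g i)
  haveI : ∀ i, LocallyOfFiniteType (g i ≫ q) := fun i => inferInstance
  haveI : ∀ i, QuasiCompact (g i ≫ q) := fun i => inferInstance
  have hc : ∀ x : X, ∃ i, x ∈ Set.range (g i ≫ q) := fun x => by
    obtain ⟨x', rfl⟩ := q.surjective x
    obtain ⟨i, t, rfl⟩ := Set.mem_iUnion.1 (hcov.symm ▸ Set.mem_univ x' : x' ∈ ⋃ i, Set.range (g i))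
    exact ⟨i, t, Scheme.Hom.comp_apply _ _ _⟩
  obtain ⟨m, T₀, g₀, h1, h2, h3, h4⟩ := EtConsLib.exists_partition_of
    (P := fun {S} (a : S ⟶ X) => ∀ k, EtCoh.IsFiniteLocallyConstant ((EtCoh.pull a).obj (F k)))
    (fun h a _ _ ha k => flc_pull_comp h a (ha k))
    (fun Z hZ hZc => by
      obtain ⟨T', a, O, ha, hr, hne, hP⟩ := exists_flat_piece (fun i => g i ≫ q) hc Z hZ hZc
      exact ⟨T', a, O, ha, hr, hne, fun k => hP (F k) fun i => (flc_pull_pull_iff (g i) q).2 (hF k i)⟩)
    (S := Set.univ) isClosed_univ.isLocallyClosed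
  exact ⟨m, T₀, g₀, h1, h2, h3, fun k j => h4 j k⟩

end Groth.Agent.S18361
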