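import Mathlib
import Mathlib
import Groth.Statements.S18363

set_option autoImplicit false
universe u
open CategoryTheory
open CAlg

namespace Groth.Agent.S18363

/-- Let R be a Noetherian local ring with maximal ideal m, and P, Q ideals of R such that P + Q contains
a power of m while R/P and R/Q are both reduced of Krull dimension one. Let I and J be nonzero
finitely generated R-modules with P·I = 0 and Q·J = 0, such that every element of R whose class in
R/P is a non-zero-divisor acts injectively on I, and every element whose class in R/Q is a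
non-zero-divisor acts injectively on J. Then the group Ext¹_R(I, J) is nonzero. (This is the stalk
statement behind the existence of a non-split extension of a torsion-free rank-one sheaf on a
subcurve Y by one on a subcurve Z of a reduced projective curve, at a point where Y and Z meet
without sharing a component; in that situation the modules moreover have rank one at the generic
points of their supports and P ∩ Q = 0, two assumptions the argument does not use.) -/
theorem result
    (R : Type u) [CommRing R] [IsNoetherianRing R] [IsLocalRing R]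
    (P Q : Ideal R) (hPQ : ∃ n : ℕ, IsLocalRing.maximalIdeal R ^ n ≤ P ⊔ Q)
    [IsReduced (R ⧸ P)] [IsReduced (R ⧸ Q)]
    (hPdim : ringKrullDim (R ⧸ P) = 1) (hQdim : ringKrullDim (R ⧸ Q) = 1)
    (I J : Type u) [AddCommGroup I] [Module R I] [Module.Finite R I] [Nontrivial I]
    [AddCommGroup J] [Module R J] [Module.Finite R J] [Nontrivial J]
    (hPI : ∀ p ∈ P, ∀ x : I, p • x = 0) (hQJ : ∀ q ∈ Q, ∀ y : J, q • y = 0)
    (hItf : ∀ r : R, Ideal.Quotient.mk P r ∈ nonZeroDivisors (R ⧸ P) → ∀ x : I, r • x = 0 → x = 0)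
    (hJtf : ∀ r : R, Ideal.Quotient.mk Q r ∈ nonZeroDivisors (R ⧸ Q) → ∀ y : J, r • y = 0 → y = 0) :
    Nontrivial (Abelian.Ext (ModuleCat.of R I) (ModuleCat.of R J) 1) := by
  classical
  have hradQ : Q.radical = Q := ((Ideal.isRadical_iff_quotient_reduced Q).mpr inferInstance).radical
  have hQ1 : Ring.KrullDimLE 1 (R ⧸ Q) := Ring.krullDimLE_iff.mpr hQdim.le
  have hQtop : Q ≠ ⊤ := by
    intro h
    have : Subsingleton (R ⧸ Q) := Ideal.Quotient.subsingleton_iff.mpr h
    rw [ringKrullDim_eq_bot_of_subsingleton] at hQdim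
    exact absurd hQdim (by simp)
  -- m is not minimal over Q
  have hmnot : IsLocalRing.maximalIdeal R ∉ Q.minimalPrimes := by
    intro hm
    have hall : ∀ q : Ideal (R ⧸ Q), q.IsPrime → q.IsMaximal := by
      intro q hq
      have hle : q.comap (Ideal.Quotient.mk Q) ≤ IsLocalRing.maximalIdeal R :=
        IsLocalRing.le_maximalIdeal (Ideal.IsPrime.ne_top inferInstance)
      have hQle : Q ≤ q.comap (Ideal.Quotient.mk Q) := by
        intro x hx
        simp [Ideal.Quotient.eq_zero_iff_mem.mpr hx]
      have heq : q.comap (Ideal.Quotient.mk Q) = IsLocalRing.maximalIdeal R :=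
        le_antisymm hle (hm.2 ⟨inferInstance, hQle⟩ hle)
      have hmax : (q.comap (Ideal.Quotient.mk Q)).IsMaximal := heq ▸ inferInstance
      rw [← Ideal.map_comap_of_surjective _ Ideal.Quotient.mk_surjective q]
      refine (Ideal.map_eq_top_or_isMaximal_of_surjective _ Ideal.Quotient.mk_surjective
        hmax).resolve_left ?_
      rw [Ideal.map_comap_of_surjective _ Ideal.Quotient.mk_surjective q]
      exact hq.ne_top
    have h0 : Ring.KrullDimLE 0 (R ⧸ Q) := Ring.krullDimLE_zero_iff.mpr hall
    have := Ring.krullDimLE_iff.mp h0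
    rw [hQdim] at this
    exact absurd this (by norm_num)
  -- find r ∈ P avoiding all minimal primes of Q
  have hfin : Q.minimalPrimes.Finite := Ideal.finite_minimalPrimes_of_isNoetherianRing R Q
  obtain ⟨n, hn⟩ := hPQ
  have hPnot : ¬ ((P : Set R) ⊆ ⋃ q ∈ (↑hfin.toFinset : Set (Ideal R)), (q : Set R)) := by
    rw [Ideal.subset_union_prime (f := fun q => q) ⊥ ⊥ (fun q hq _ _ =>
      (hfin.mem_toFinset.mp hq).1.1)]
    rintro ⟨q, hq, hPq⟩
    rw [hfin.mem_toFinset] at hq
    have hqp : q.IsPrime := hq.1.1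
    have h1 : IsLocalRing.maximalIdeal R ^ n ≤ q := hn.trans (sup_le hPq hq.1.2)
    have h2 : IsLocalRing.maximalIdeal R ≤ q := Ideal.IsPrime.le_of_pow_le h1
    have h3 : q = IsLocalRing.maximalIdeal R :=
      le_antisymm (IsLocalRing.le_maximalIdeal hqp.ne_top) h2
    exact hmnot (h3 ▸ hq)
  obtain ⟨r, hrP, hr⟩ := Set.not_subset.mp hPnot
  simp only [Set.mem_iUnion, Finset.mem_coe, Set.Finite.mem_toFinset, SetLike.mem_coe,
    not_exists] at hr
  have hnzd : Ideal.Quotient.mk Q r ∈ nonZeroDivisors (R ⧸ Q) := by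
    rw [mem_nonZeroDivisors_iff_right]
    intro y hy
    obtain ⟨y, rfl⟩ := Ideal.Quotient.mk_surjective y
    rw [← map_mul, Ideal.Quotient.eq_zero_iff_mem] at hy
    rw [Ideal.Quotient.eq_zero_iff_mem, ← hradQ, ← Ideal.sInf_minimalPrimes, Submodule.mem_sInf]
    intro q hq
    exact (hq.1.1.mem_or_mem (hq.1.2 hy)).resolve_right (hr q hq)
  have hrm : r ∈ IsLocalRing.maximalIdeal R := by
    have hPtop : P ≠ ⊤ := by
      intro h
      have : Subsingleton (R ⧸ P) := Ideal.Quotient.subsingleton_iff.mpr h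
      rw [ringKrullDim_eq_bot_of_subsingleton] at hPdim
      exact absurd hPdim (by simp)
    exact IsLocalRing.le_maximalIdeal hPtop hrP
  have hinj : ∀ y : J, r • y = 0 → y = 0 := hJtf r hnzd
  -- the quotient J / rJ
  let f : J →ₗ[R] J := r • LinearMap.id
  let N : Submodule R J := LinearMap.range f
  have hN : N ≠ ⊤ := by
    intro h
    have htop : (⊤ : Submodule R J) ≤ IsLocalRing.maximalIdeal R • ⊤ := by
      intro y _
      obtain ⟨z, rfl⟩ : y ∈ LinearMap.range f := (show LinearMap.range f = ⊤ from h) ▸ Submodule.mem_top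
      exact Submodule.smul_mem_smul hrm (trivial : z ∈ (⊤ : Submodule R J))
    have : (⊤ : Submodule R J) = ⊥ :=
      Submodule.eq_bot_of_le_smul_of_le_jacobson_bot _ _ Module.Finite.fg_top htop
        (IsLocalRing.maximalIdeal_le_jacobson ⊥)
    exact top_ne_bot this
  have : Nontrivial (J ⧸ N) := Submodule.Quotient.nontrivial_iff.mpr hN
  -- an associated prime of J / rJ is the maximal ideal
  obtain ⟨p, hp⟩ := associatedPrimes.nonempty R (J ⧸ N)
  rw [AssociatedPrimes.mem_iff, isAssociatedPrime_iff] at hp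
  obtain ⟨hpp, v, hv⟩ := hp
  have hmemp : ∀ a : R, a ∈ p ↔ a • v = 0 := fun a => by
    rw [hv, Submodule.mem_colon_singleton, Submodule.mem_bot]
  have hQp : Q ≤ p := by
    intro q hq
    rw [hmemp]
    obtain ⟨y, rfl⟩ := Submodule.Quotient.mk_surjective N v
    rw [← Submodule.Quotient.mk_smul, hQJ q hq, Submodule.Quotient.mk_zero]
  have hrp : r ∈ p := by
    rw [hmemp]
    obtain ⟨y, rfl⟩ := Submodule.Quotient.mk_surjective N v
    rw [← Submodule.Quotient.mk_smul, Submodule.Quotient.mk_eq_zero]
    exact ⟨y, rfl⟩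
  have hpm : p = IsLocalRing.maximalIdeal R := by
    have hker : RingHom.ker (Ideal.Quotient.mk Q) ≤ p := by rw [Ideal.mk_ker]; exact hQp
    have : (p.map (Ideal.Quotient.mk Q)).IsPrime :=
      Ideal.map_isPrime_of_surjective Ideal.Quotient.mk_surjective hker
    have hcomap : (p.map (Ideal.Quotient.mk Q)).comap (Ideal.Quotient.mk Q) = p := by
      rw [Ideal.comap_map_of_surjective' _ Ideal.Quotient.mk_surjective, sup_eq_left.mpr hker]
    rcases Ring.krullDimLE_one_iff.mp hQ1 _ this with h | h
    · exfalso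
      apply hr p ?_ hrp
      rw [Ideal.minimalPrimes_eq_comap]
      exact ⟨_, h, hcomap⟩
    · have : p.IsMaximal := hcomap ▸ Ideal.comap_isMaximal_of_surjective _
        Ideal.Quotient.mk_surjective
      exact IsLocalRing.eq_maximalIdeal this
  -- a nonzero map I → J / rJ
  obtain ⟨M', hM', -⟩ := (eq_top_or_exists_le_coatom (⊥ : Submodule R I)).resolve_left bot_ne_top
  have hsimple : IsSimpleModule R (I ⧸ M') := isSimpleModule_iff_isCoatom.mpr hM'
  obtain ⟨m', hm', ⟨e⟩⟩ := isSimpleModule_iff_quot_maximal.mp hsimple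
  have hm'p : m' = p := hpm ▸ IsLocalRing.eq_maximalIdeal hm'
  have hle : m' ≤ LinearMap.ker (LinearMap.toSpanSingleton R (J ⧸ N) v) := fun a ha => by
    simpa [LinearMap.toSpanSingleton_apply] using (hmemp a).mp (hm'p ▸ ha)
  let g : I →ₗ[R] J ⧸ N :=
    (Submodule.liftQ m' (LinearMap.toSpanSingleton R (J ⧸ N) v) hle) ∘ₗ e.toLinearMap ∘ₗ M'.mkQ
  have hg : g ≠ 0 := by
    intro h
    obtain ⟨x, hx⟩ := Submodule.Quotient.mk_surjective M' (e.symm (Submodule.Quotient.mk 1))
    have h1 := LinearMap.congr_fun h x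
    simp [g, hx] at h1
    exact hpp.ne_top ((Ideal.eq_top_iff_one p).mpr ((hmemp 1).mpr (by
      have h2 : (Submodule.liftQ m' (LinearMap.toSpanSingleton R (J ⧸ N) v) hle) (Submodule.Quotient.mk 1) = 0 := h1
      rw [Submodule.liftQ_apply, LinearMap.toSpanSingleton_apply] at h2
      exact h2)))
  -- the short exact sequence
  let S : ShortComplex (ModuleCat.{u} R) :=
    ShortComplex.mk (ModuleCat.ofHom f) (ModuleCat.ofHom N.mkQ) (by
      ext y
      simp [N])
  have hS : S.ShortExact := by
    refine ShortComplex.ShortExact.mk' ?_ ((ModuleCat.mono_iff_injective _).mpr ?_)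
      ((ModuleCat.epi_iff_surjective _).mpr ?_)
    · rw [ShortComplex.ShortExact.moduleCat_exact_iff_function_exact]
      exact LinearMap.exact_map_mkQ_range f
    · intro a b hab
      have hab' : r • a = r • b := hab
      rw [← sub_eq_zero] at hab' ⊢
      exact hinj _ (by rw [smul_sub]; exact hab')
    · exact Submodule.Quotient.mk_surjective N
  let x₃ : Abelian.Ext (ModuleCat.of R I) S.X₃ 0 := Abelian.Ext.mk₀ (ModuleCat.ofHom g)
  refine ⟨⟨x₃.comp hS.extClass (zero_add 1), 0, fun hzero => ?_⟩⟩
  obtain ⟨x₂, hx₂⟩ := Abelian.Ext.covariant_sequence_exact₃ _ hS x₃ (zero_add 1) hzero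
  obtain ⟨φ, rfl⟩ := Abelian.Ext.homEquiv₀.symm.surjective x₂
  have hφ : φ = 0 := by
    apply ModuleCat.hom_ext
    apply LinearMap.ext
    intro x
    have h1 : r • φ.hom x = 0 := by rw [← map_smul, hPI r hrP x, map_zero]
    exact hinj _ h1
  subst hφ
  apply hg
  have h2 : Abelian.Ext.mk₀ (ModuleCat.ofHom g) = 0 := by
    change x₃ = 0
    rw [← hx₂]
    simp
  rw [Abelian.Ext.mk₀_eq_zero_iff] at h2
  exact congrArg ModuleCat.Hom.hom h2

end Groth.Agent.S18363
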