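import Mathlib
import Groth.Agent.ModifLib.Basic
import Groth.Statements.S18364

set_option autoImplicit false
universe u
open CAlg

namespace Groth.Agent.S18364

/-- Let A be a Noetherian ring, π an element of A, and (𝔓_i)_{i ∈ ι} an injective finite family listing
exactly the minimal prime ideals over (π). Let M be a finitely generated A-module and M̄ = M/πM. For
a subset T of ι let K(T) ⊆ M̄ be the submodule of elements whose image in the localisation of M̄ at
𝔓_i is zero for every i ∈ T, and N(T) ⊆ M its preimage in M. Assume K(ι) = 0, i.e. no nonzero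
element of M̄ vanishes at all the minimal primes (every associated prime of M̄ is one of the 𝔓_i).
Then for every subset Y of ι with complement Z one has N(Y) ∩ N(Z) = πM, and the same construction
applied to the module N(Y) instead of M — the preimage in N(Y) of the elements of N(Y)/πN(Y)
vanishing at every 𝔓_i with i ∈ Z — is, as a submodule of M, equal to N(Y) ∩ N(Z). (Geometric
meaning: A is the local ring of a flat family of curves over a discrete valuation ring with
uniformizer π at a point of the reduced special fibre, M the stalk of a torsion-free rank-one sheaf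
I, Y a set of components of the special fibre through the point, and N(Y) the stalk of the kernel
I^Y of I → I(s)_Y; the statement is (I^Y)^Z = I^Y ∩ I^Z = πI. Reducedness of A/πA, flatness and rank
one are not used.) -/
theorem result
    (A : Type u) [CommRing A] [IsNoetherianRing A] (π : A)
    (ι : Type) [Finite ι] (𝔓 : ι → Ideal A) [∀ i, (𝔓 i).IsPrime]
    (h𝔓 : ∀ i, 𝔓 i ∈ (Ideal.span {π}).minimalPrimes) (h𝔓inj : Function.Injective 𝔓)
    (h𝔓surj : ∀ 𝔔 ∈ (Ideal.span {π}).minimalPrimes, ∃ i, 𝔓 i = 𝔔)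
    (M : Type u) [AddCommGroup M] [Module A M] [Module.Finite A M]
    (K : Set ι → Submodule A (M ⧸ Ideal.span {π} • (⊤ : Submodule A M)))
    (hK : ∀ T : Set ι, K T = ⨅ i ∈ T, LinearMap.ker
      (LocalizedModule.mkLinearMap (𝔓 i).primeCompl (M ⧸ Ideal.span {π} • (⊤ : Submodule A M))))
    (htf : K Set.univ = ⊥)
    (N : Set ι → Submodule A M)
    (hN : ∀ T : Set ι, N T = (K T).comap (Submodule.mkQ (Ideal.span {π} • (⊤ : Submodule A M))))
    (Y : Set ι) :
    N Y ⊓ N Yᶜ = Ideal.span {π} • (⊤ : Submodule A M) ∧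
    Submodule.map (N Y).subtype
      ((⨅ i ∈ Yᶜ, LinearMap.ker (LocalizedModule.mkLinearMap (𝔓 i).primeCompl
          (↥(N Y) ⧸ Ideal.span {π} • (⊤ : Submodule A ↥(N Y))))).comap
        (Submodule.mkQ (Ideal.span {π} • (⊤ : Submodule A ↥(N Y)))))
      = N Y ⊓ N Yᶜ := by
  classical
  have memK : ∀ (T : Set ι) (x : M ⧸ Ideal.span {π} • (⊤ : Submodule A M)), x ∈ K T ↔ ∀ i ∈ T, ∃ s : A, s ∉ 𝔓 i ∧ s • x = 0 := fun T x => by
    rw [hK T]
    simp only [Submodule.mem_iInf, Groth.Agent.ModifLib.mem_ker_iff, Ideal.mem_primeCompl_iff]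
  have memN : ∀ (T : Set ι) (x : M), x ∈ N T ↔ ∀ i ∈ T, ∃ s : A, s ∉ 𝔓 i ∧ ∃ y : M, π • y = s • x := fun T x => by
    rw [hN T, Submodule.mem_comap, memK]
    simp only [Submodule.mkQ_apply, ← Submodule.Quotient.mk_smul, Groth.Agent.ModifLib.mk_eq_zero_iff]
  have h1 : N Y ⊓ N Yᶜ = Ideal.span {π} • (⊤ : Submodule A M) := by
    ext x
    rw [Submodule.mem_inf, ← Submodule.Quotient.mk_eq_zero (Ideal.span {π} • (⊤ : Submodule A M))]
    constructor
    · rintro ⟨hY, hYc⟩
      rw [← Submodule.mem_bot A, ← htf, memK]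
      intro i _
      by_cases hi : i ∈ Y
      · obtain ⟨s, hs, y, hy⟩ := (memN Y x).mp hY i hi
        exact ⟨s, hs, (Submodule.Quotient.mk_smul _ s x).symm.trans ((Groth.Agent.ModifLib.mk_eq_zero_iff π _).mpr ⟨y, hy⟩)⟩
      · obtain ⟨s, hs, y, hy⟩ := (memN Yᶜ x).mp hYc i hi
        exact ⟨s, hs, (Submodule.Quotient.mk_smul _ s x).symm.trans ((Groth.Agent.ModifLib.mk_eq_zero_iff π _).mpr ⟨y, hy⟩)⟩
    · intro hx
      obtain ⟨y, rfl⟩ := (Groth.Agent.ModifLib.mk_eq_zero_iff π x).mp hx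
      exact ⟨(memN _ _).mpr fun i _ => ⟨1, Ideal.one_notMem _, y, (one_smul A _).symm⟩,
        (memN _ _).mpr fun i _ => ⟨1, Ideal.one_notMem _, y, (one_smul A _).symm⟩⟩
  refine ⟨h1, ?_⟩
  ext x
  simp only [Submodule.mem_map, Submodule.mem_comap, Submodule.mem_iInf, Groth.Agent.ModifLib.mem_ker_iff,
    Submodule.mkQ_apply, ← Submodule.Quotient.mk_smul, Groth.Agent.ModifLib.mk_eq_zero_iff, Ideal.mem_primeCompl_iff,
    Submodule.subtype_apply]
  constructor
  · rintro ⟨⟨x, hx⟩, hloc, rfl⟩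
    refine ⟨hx, (memN _ _).mpr fun i hi => ?_⟩
    obtain ⟨s, hs, y, hy⟩ := hloc i hi
    exact ⟨s, hs, (y : M), congrArg Subtype.val hy⟩
  · intro hx
    refine ⟨⟨x, hx.1⟩, fun i hi => ?_, rfl⟩
    rw [h1, ← Submodule.Quotient.mk_eq_zero] at hx
    obtain ⟨m, hm⟩ := (Groth.Agent.ModifLib.mk_eq_zero_iff π x).mp hx
    obtain ⟨s, hs, hkill⟩ := Groth.Agent.ModifLib.exists_killer π 𝔓 h𝔓 h𝔓inj i
    have hsm : s • m ∈ N Y := (memN _ _).mpr fun j hj => by
      obtain ⟨t, ht, hts⟩ := hkill j (fun he => hi (he ▸ hj))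
      obtain ⟨c, hc⟩ := Ideal.mem_span_singleton'.mp hts
      exact ⟨t, ht, c • m, by rw [← mul_smul, ← mul_smul, mul_comm π c, hc]⟩
    exact ⟨s, hs, ⟨s • m, hsm⟩, Subtype.ext (by show π • s • m = s • x; rw [← hm, smul_comm])⟩

end Groth.Agent.S18364
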