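import Mathlib
import Groth.Agent.ModifLib.Basic
import Groth.Statements.S18365

set_option autoImplicit false
universe u
open CAlg

namespace Groth.Agent.S18365

/-- Let A be a Noetherian ring, π an element of A, (𝔓_i)_{i ∈ ι} an injective finite family listing
exactly the minimal prime ideals over (π), and M a finitely generated A-module on which π acts
injectively; put M̄ = M/πM. For T ⊆ ι let K(T) ⊆ M̄ be the submodule of elements whose image in the
localisation of M̄ at 𝔓_i vanishes for every i ∈ T, and N(T) ⊆ M its preimage; assume K(ι) = 0.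
Suppose that M̄ decomposes at Y, i.e. K(Y) + K(Yᶜ) = M̄, and that for a subset Z the module
N(Y)/πN(Y) decomposes at Z, i.e. its submodule of elements vanishing at every 𝔓_i (i ∈ Z) and its
submodule of elements vanishing at every 𝔓_i (i ∉ Z) together span it. Then M̄ decomposes at Z: K(Z)
+ K(Zᶜ) = M̄. (Geometric meaning: for a flat family of curves over a discrete valuation ring with
uniformizer π, I a torsion-free rank-one sheaf flat over the base, Y a subcurve of the special fibre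
X(s) at which I(s) decomposes and I^Y = ker(I → I(s)_Y): if I^Y(s) decomposes at a subcurve Z then
so does I(s); decomposition of a sheaf at Z is the surjectivity of I(s) → I(s)_Z ⊕ I(s)_{Z^c},
checked on stalks. Reducedness of the special fibre and rank one are not used.) -/
theorem result
    (A : Type u) [CommRing A] [IsNoetherianRing A] (π : A)
    (ι : Type) [Finite ι] (𝔓 : ι → Ideal A) [∀ i, (𝔓 i).IsPrime]
    (h𝔓 : ∀ i, 𝔓 i ∈ (Ideal.span {π}).minimalPrimes) (h𝔓inj : Function.Injective 𝔓)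
    (h𝔓surj : ∀ 𝔔 ∈ (Ideal.span {π}).minimalPrimes, ∃ i, 𝔓 i = 𝔔)
    (M : Type u) [AddCommGroup M] [Module A M] [Module.Finite A M]
    (hπ : ∀ m : M, π • m = 0 → m = 0)
    (K : Set ι → Submodule A (M ⧸ Ideal.span {π} • (⊤ : Submodule A M)))
    (hK : ∀ T : Set ι, K T = ⨅ i ∈ T, LinearMap.ker
      (LocalizedModule.mkLinearMap (𝔓 i).primeCompl (M ⧸ Ideal.span {π} • (⊤ : Submodule A M))))
    (htf : K Set.univ = ⊥)
    (N : Set ι → Submodule A M)
    (hN : ∀ T : Set ι, N T = (K T).comap (Submodule.mkQ (Ideal.span {π} • (⊤ : Submodule A M))))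
    (Y Z : Set ι) (hY : K Y ⊔ K Yᶜ = ⊤)
    (K' : Set ι → Submodule A (↥(N Y) ⧸ Ideal.span {π} • (⊤ : Submodule A ↥(N Y))))
    (hK' : ∀ T : Set ι, K' T = ⨅ i ∈ T, LinearMap.ker
      (LocalizedModule.mkLinearMap (𝔓 i).primeCompl (↥(N Y) ⧸ Ideal.span {π} • (⊤ : Submodule A ↥(N Y)))))
    (hZ : K' Z ⊔ K' Zᶜ = ⊤) :
    K Z ⊔ K Zᶜ = ⊤ := by
  classical
  have memK : ∀ (T : Set ι) (x : M ⧸ Ideal.span {π} • (⊤ : Submodule A M)), x ∈ K T ↔ ∀ i ∈ T, ∃ s : A, s ∉ 𝔓 i ∧ s • x = 0 := fun T x => by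
    rw [hK T]
    simp only [Submodule.mem_iInf, Groth.Agent.ModifLib.mem_ker_iff, Ideal.mem_primeCompl_iff]
  have memK' : ∀ (T : Set ι) (x : ↥(N Y) ⧸ Ideal.span {π} • (⊤ : Submodule A ↥(N Y))), x ∈ K' T ↔ ∀ i ∈ T, ∃ s : A, s ∉ 𝔓 i ∧ s • x = 0 := fun T x => by
    rw [hK' T]
    simp only [Submodule.mem_iInf, Groth.Agent.ModifLib.mem_ker_iff, Ideal.mem_primeCompl_iff]
  have hmemNY : ∀ x : M, x ∈ N Y ↔ Submodule.Quotient.mk x ∈ K Y := fun x => by rw [hN Y]; rfl
  have hzero : ∀ x : M ⧸ Ideal.span {π} • (⊤ : Submodule A M), (∀ i, ∃ s : A, s ∉ 𝔓 i ∧ s • x = 0) → x = 0 := fun x hx => by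
    rw [← Submodule.mem_bot A, ← htf, memK]
    exact fun i _ => hx i
  have hinf : ∀ (T : Set ι) x, x ∈ K T → x ∈ K Tᶜ → x = 0 := fun T x h h' => hzero x fun i => by
    by_cases hi : i ∈ T
    exacts [(memK T x).mp h i hi, (memK Tᶜ x).mp h' i hi]
  have himg : ∀ (T : Set ι) (a : N Y), Submodule.Quotient.mk a ∈ K' T → Submodule.Quotient.mk (a : M) ∈ K T := by
    intro T a ha
    rw [memK]
    intro i hi
    obtain ⟨s, hs, h0⟩ := (memK' T _).mp ha i hi
    rw [← Submodule.Quotient.mk_smul, Groth.Agent.ModifLib.mk_eq_zero_iff] at h0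
    obtain ⟨y, hy⟩ := h0
    exact ⟨s, hs, (Submodule.Quotient.mk_smul _ s (a : M)).symm.trans
      ((Groth.Agent.ModifLib.mk_eq_zero_iff π _).mpr ⟨(y : M), congrArg Subtype.val hy⟩)⟩
  have hsplit : ∀ c : N Y, ∃ a b : N Y, a + b = c ∧ Submodule.Quotient.mk a ∈ K' Z ∧ Submodule.Quotient.mk b ∈ K' Zᶜ := by
    intro c
    obtain ⟨α, hα, β, hβ, hab⟩ := Submodule.mem_sup.mp (hZ.ge (Submodule.mem_top :
      (Submodule.Quotient.mk c : ↥(N Y) ⧸ Ideal.span {π} • (⊤ : Submodule A ↥(N Y))) ∈ ⊤))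
    obtain ⟨a, rfl⟩ := Submodule.Quotient.mk_surjective _ α
    obtain ⟨b, rfl⟩ := Submodule.Quotient.mk_surjective _ β
    refine ⟨a, c - a, add_sub_cancel a c, hα, ?_⟩
    rwa [Submodule.Quotient.mk_sub, ← hab, add_sub_cancel_left]
  rw [eq_top_iff, ← hY, sup_le_iff]
  constructor
  · intro x hx
    obtain ⟨x, rfl⟩ := Submodule.Quotient.mk_surjective _ x
    obtain ⟨a, b, hab, ha, hb⟩ := hsplit ⟨x, (hmemNY x).mpr hx⟩
    rw [show x = (a : M) + b from (congrArg Subtype.val hab).symm, Submodule.Quotient.mk_add]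
    exact Submodule.add_mem_sup (himg Z a ha) (himg Zᶜ b hb)
  · intro x hx
    obtain ⟨m, rfl⟩ := Submodule.Quotient.mk_surjective _ x
    have hπm : π • m ∈ N Y := (hmemNY _).mpr (by rw [(Groth.Agent.ModifLib.mk_eq_zero_iff π _).mpr ⟨m, rfl⟩]; exact zero_mem _)
    obtain ⟨a, b, hab, ha, hb⟩ := hsplit ⟨π • m, hπm⟩
    have hab' : (a : M) + b = π • m := congrArg Subtype.val hab
    have hsum : Submodule.Quotient.mk (p := Ideal.span {π} • (⊤ : Submodule A M)) (a : M) + Submodule.Quotient.mk (b : M) = 0 := by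
      rw [← Submodule.Quotient.mk_add, hab', Groth.Agent.ModifLib.mk_eq_zero_iff]; exact ⟨m, rfl⟩
    have ha0 : Submodule.Quotient.mk (p := Ideal.span {π} • (⊤ : Submodule A M)) (a : M) = 0 :=
      hinf Z _ (himg Z a ha) (by rw [eq_neg_of_add_eq_zero_left hsum]; exact neg_mem (himg Zᶜ b hb))
    have hb0 : Submodule.Quotient.mk (p := Ideal.span {π} • (⊤ : Submodule A M)) (b : M) = 0 := by
      rwa [ha0, zero_add] at hsum
    obtain ⟨a', ha'⟩ := (Groth.Agent.ModifLib.mk_eq_zero_iff π _).mp ha0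
    obtain ⟨b', hb'⟩ := (Groth.Agent.ModifLib.mk_eq_zero_iff π _).mp hb0
    have hm : m = a' + b' := by
      rw [← sub_eq_zero]
      exact hπ _ (by rw [smul_sub, smul_add, ha', hb', hab', sub_self])
    have key : ∀ (T : Set ι) (c : N Y) (c' : M), π • c' = c → Submodule.Quotient.mk c ∈ K' T →
        ∀ y z, y ∈ K Y → z ∈ K Yᶜ → y + z = Submodule.Quotient.mk (p := Ideal.span {π} • (⊤ : Submodule A M)) c' → z ∈ K T := by
      intro T c c' hc hcT y z hy hz hyz
      rw [memK]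
      intro i hi
      obtain ⟨s, hs, h0⟩ := (memK' T _).mp hcT i hi
      rw [← Submodule.Quotient.mk_smul, Groth.Agent.ModifLib.mk_eq_zero_iff] at h0
      obtain ⟨w, hw⟩ := h0
      have hw' : π • (w : M) = π • (s • c') := by
        rw [smul_comm π s c', hc]; exact congrArg Subtype.val hw
      have hwc : (w : M) = s • c' := sub_eq_zero.mp (hπ _ (by rw [smul_sub, hw', sub_self]))
      have hsc : s • (y + z) ∈ K Y := by
        rw [hyz, ← Submodule.Quotient.mk_smul, ← hwc]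
        exact (hmemNY _).mp w.2
      exact ⟨s, hs, hinf Y _ (by simpa [smul_add] using sub_mem hsc (Submodule.smul_mem _ s hy)) (Submodule.smul_mem _ s hz)⟩
    obtain ⟨y, hy, z, hz, hyz⟩ := Submodule.mem_sup.mp (hY.ge (Submodule.mem_top :
      (Submodule.Quotient.mk a' : M ⧸ Ideal.span {π} • (⊤ : Submodule A M)) ∈ ⊤))
    obtain ⟨y', hy', z', hz', hyz'⟩ := Submodule.mem_sup.mp (hY.ge (Submodule.mem_top :
      (Submodule.Quotient.mk b' : M ⧸ Ideal.span {π} • (⊤ : Submodule A M)) ∈ ⊤))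
    have h0 : y + y' = 0 := by
      refine hinf Y _ (add_mem hy hy') ?_
      have e : y + y' = Submodule.Quotient.mk m - (z + z') := by
        rw [hm, Submodule.Quotient.mk_add, ← hyz, ← hyz']; abel
      rw [e]; exact sub_mem hx (add_mem hz hz')
    have e : Submodule.Quotient.mk m = z + z' := by
      rw [hm, Submodule.Quotient.mk_add, ← hyz, ← hyz', add_add_add_comm, h0, zero_add]
    rw [e]
    exact Submodule.add_mem_sup (key Z a a' ha' ha y z hy hz hyz) (key Zᶜ b b' hb' hb y' z' hy' hz' hyz')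

end Groth.Agent.S18365
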