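import Mathlib
import Groth.Agent.AcyclicLemma.Basic
import Groth.Agent.CMGraded.RegSeq
import Groth.Agent.CMGraded.FlatCM
import Groth.Agent.S14424
import Groth.Statements.S18367

set_option autoImplicit false
universe u
open CategoryTheory CategoryTheory.Limits
open LocAlg

namespace Groth.Agent.S18367

/-- Let R be a Cohen–Macaulay local ring of Krull dimension g and K = (K^0 → K^1 → ⋯) a bounded cochain
complex of finitely generated free R-modules (K^i = 0 for i > N) such that every cohomology module
H^i(K) has finite length. Then H^i(K) = 0 for all i < g. -/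
theorem result (R : Type u) [CommRing R]
    [LocCoh.IsCohenMacaulayLocalRing R] (g : ℕ) (hg : ringKrullDim R = g) (K : CochainComplex (ModuleCat.{u} R) ℕ)
    (N : ℕ) (hbd : ∀ i, N < i → IsZero (K.X i)) (hfree : ∀ i, Module.Free R (K.X i) ∧ Module.Finite R (K.X i))
    (hfl : ∀ i, IsFiniteLength R (K.homology i)) (i : ℕ) (hi : i < g) :
    IsZero (K.homology i) := by
  have h1 := Groth.Agent.CMGraded.depth_eq_ringKrullDim (R := R)
  rw [hg] at h1
  obtain ⟨rs, hlen, hmem, hw⟩ := (Groth.Agent.Depth.le_idealDepth_iff (I := IsLocalRing.maximalIdeal R) (M := R)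
    (Groth.Agent.S14424.smul_top_ne (IsLocalRing.maximalIdeal R) Ideal.IsPrime.ne_top') g).1 (le_of_eq (by
      exact_mod_cast h1.symm))
  refine Groth.Agent.AcyclicLemma.isZero_homology rs hmem K (fun j => ?_) hfl i (by omega)
  haveI := (hfree j).1
  exact Groth.Agent.AcyclicLemma.isWeaklyRegular_of_flat _ hw

end Groth.Agent.S18367
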