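import Groth.Statements.S18368
import Groth.Agent.RigidLib.Proper
import Groth.Agent.AVLib.SeesawBase
-- import your own Groth.Agent.* helpers here

set_option autoImplicit false
universe u
open CategoryTheory CategoryTheory.Limits MonoidalCategory CartesianMonoidalCategory AlgebraicGeometry
open AbVar

namespace Groth.Agent.S18368

/-- Let k be a field, X and Y geometrically integral k-schemes of finite type with X proper, Z a
separated k-scheme and f : X ×_k Y → Z a k-morphism (products in the cartesian monoidal category of
k-schemes). If for some algebraically closed field K over k there are points y₀ : Spec K → Y and z₀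
: Spec K → Z over k such that f restricted to X ×_k Spec K along y₀ is the constant map z₀, then f
factors uniquely through the second projection: there is exactly one g : Y → Z over k with f = pr₂ ≫
g. (The target Z is not assumed to be of finite type over k.) -/
theorem result (k : Type u) [Field k]
    (X Y Z : Over (Spec (CommRingCat.of k)))
    [IsProper X.hom] [GeometricallyIntegral X.hom]
    [LocallyOfFiniteType Y.hom] [QuasiCompact Y.hom] [GeometricallyIntegral Y.hom]
    [IsSeparated Z.hom] (f : X ⊗ Y ⟶ Z)
    (K : Type u) [Field K] [Algebra k K] [IsAlgClosed K]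
    (y₀ : (Over.mk (Spec.map (CommRingCat.ofHom (algebraMap k K))) : Over (Spec (CommRingCat.of k))) ⟶ Y)
    (z₀ : (Over.mk (Spec.map (CommRingCat.ofHom (algebraMap k K))) : Over (Spec (CommRingCat.of k))) ⟶ Z)
    (h : (X ◁ y₀) ≫ f = snd X _ ≫ z₀) :
    ∃! g : Y ⟶ Z, f = snd X Y ≫ g := by
  let p : pullback X.hom Y.hom ⟶ Y.left := pullback.snd X.hom Y.hom
  haveI : IsProper p := MorphismProperty.pullback_snd _ _ inferInstance
  haveI : Flat p := MorphismProperty.pullback_snd _ _ inferInstance
  haveI : GeometricallyIntegral p := MorphismProperty.pullback_snd _ _ inferInstance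
  haveI : IsIntegral Y.left := GeometricallyIntegral.isIntegral_of_subsingleton Y.hom
  haveI : IsLocallyNoetherian Y.left := LocallyOfFiniteType.isLocallyNoetherian Y.hom
  haveI : IsSeparated (pullback.snd Z.hom Y.hom) := MorphismProperty.pullback_snd _ _ inferInstance
  have hb := Groth.Agent.RigidLib.bijApp_of_fibres (p := p) (Groth.Agent.AVLib.bijective_fiber p)
  let pt : ↥(Spec (CommRingCat.of K)) := IsLocalRing.closedPoint K
  let L : pullback X.hom Y.hom ⟶ pullback Z.hom Y.hom := pullback.lift f.left p (by
    rw [Over.w f]
    exact pullback.condition)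
  let q₀ : Spec (CommRingCat.of K) ⟶ pullback Z.hom Y.hom := pullback.lift z₀.left y₀.left (by
    rw [Over.w z₀, Over.w y₀])
  let l : pullback p y₀.left ⟶ pullback X.hom (Spec.map (CommRingCat.ofHom (algebraMap k K))) :=
    pullback.lift (pullback.fst p y₀.left ≫ pullback.fst X.hom Y.hom) (pullback.snd p y₀.left) (by
      rw [Category.assoc, pullback.condition]
      show pullback.fst p y₀.left ≫ p ≫ Y.hom = _
      rw [pullback.condition_assoc, Over.w y₀]
      rfl)
  have hl : l ≫ (X ◁ y₀).left = pullback.fst p y₀.left := by
    apply pullback.hom_ext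
    · have e1 := congrArg Over.Hom.left (whiskerLeft_fst X y₀)
      simp only [Over.comp_left] at e1
      rw [Category.assoc]
      erw [e1]
      exact pullback.lift_fst _ _ _
    · have e2 := congrArg Over.Hom.left (whiskerLeft_snd X y₀)
      simp only [Over.comp_left] at e2
      rw [Category.assoc]
      erw [e2]
      rw [← Category.assoc]
      erw [pullback.lift_snd]
      exact pullback.condition.symm
  have hL : pullback.fst p y₀.left ≫ L = pullback.snd p y₀.left ≫ q₀ := by
    apply pullback.hom_ext
    · simp only [L, q₀, Category.assoc, pullback.lift_fst]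
      rw [← hl, Category.assoc]
      have e3 := congrArg Over.Hom.left h
      simp only [Over.comp_left] at e3
      erw [e3]
      rw [← Category.assoc]
      erw [pullback.lift_snd]
    · simp only [L, q₀, Category.assoc, pullback.lift_snd]
      exact pullback.condition
  obtain ⟨t, ht, ht'⟩ := Groth.Agent.RigidLib.exists_section p.isClosedMap inferInstance hb L
    (pullback.lift_snd _ _ _) (s := y₀.left pt) ⟨q₀ pt, fun x hx => by
      obtain ⟨w, hw, hw'⟩ := Scheme.Pullback.exists_preimage_pullback x pt hx
      rw [← hw, ← hw', ← Scheme.Hom.comp_apply, hL, Scheme.Hom.comp_apply]⟩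
  let g : Y ⟶ Z := Over.homMk (t ≫ pullback.fst Z.hom Y.hom) (by
    rw [Category.assoc, pullback.condition, ← Category.assoc, ht, Category.id_comp])
  have hg : f = snd X Y ≫ g := by
    apply Over.OverMorphism.ext
    show f.left = p ≫ t ≫ pullback.fst Z.hom Y.hom
    rw [← Category.assoc, ← ht', pullback.lift_fst]
  exact ⟨g, hg, fun g' hg' => Over.OverMorphism.ext (Groth.Agent.RigidLib.cancel_left (p := p) inferInstance hb
    (congrArg Over.Hom.left (hg'.symm.trans hg)))⟩

end Groth.Agent.S18368
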