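import Groth.Statements.S18369
import Groth.Agent.AVLib.Isogeny
import Groth.Agent.AVLib.Isog
import Groth.Agent.AVLib.GeomInt
import Groth.Agent.AVLib.Square
import Groth.Agent.AVLib.Invariant
import Groth.Agent.AVLib.Defect
import Groth.Agent.AmpleEmb.SectionsGe
import Groth.Agent.NormAmpleLib.Descent
import Groth.Agent.FinLocFreeLib.Basic

set_option autoImplicit false
universe u
open CategoryTheory CategoryTheory.Limits MonoidalCategory CartesianMonoidalCategory MonObj GrpObj AlgebraicGeometry
open AbVar

namespace Groth.Agent.S18369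

open CategoryTheory CategoryTheory.Limits AlgebraicGeometry

open Groth.Agent
set_option backward.isDefEq.respectTransparency false
set_option synthInstance.maxHeartbeats 400000
set_option maxHeartbeats 1000000

/-- Let k be a field, A an abelian variety over k (a proper smooth k-group scheme with geometrically
connected fibres) with group law m : A × A → A and projections p₁, p₂, L an ample invertible
O_A-module, and N an invertible O_A-module whose class lies in the dual abelian variety, expressed
as m^*N ≅ p₁^*N ⊗ p₂^*N. Then L ⊗ N is again ample; so ampleness of an invertible module on A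
depends only on its class modulo Pic⁰. -/
theorem result (k : Type u) [Field k]
    (A : Over (Spec (CommRingCat.of k))) [GrpObj A] [IsProper A.hom] [Smooth A.hom] [GeometricallyConnected A.hom]
    (L N : A.left.Modules) (hL : CohB1.IsAmple L) (hN : PicF.IsInvertible N)
    (hN0 : Nonempty ((Scheme.Modules.pullback μ[A].left).obj N ≅
      CohB1.tensorMod ((Scheme.Modules.pullback (fst A A).left).obj N) ((Scheme.Modules.pullback (snd A A).left).obj N))) :
    CohB1.IsAmple (CohB1.tensorMod L N) := by
  haveI : GeometricallyIntegral A.hom := AVLib.geometricallyIntegral_of_smooth A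
  haveI := AVLib.isCommMonObj (A := A)
  haveI : IsIntegral A.left := GeometricallyIntegral.isIntegral_of_subsingleton A.hom
  haveI : CompactSpace A.left := QuasiCompact.compactSpace_of_compactSpace A.hom
  haveI : A.left.IsSeparated := ⟨by rw [← Limits.terminal.comp_from A.hom]; infer_instance⟩
  haveI : IsIso ((𝟙 A)⁻¹ : A ⟶ A) := ⟨(𝟙 A)⁻¹, by rw [GrpObj.inv_comp, Category.id_comp, _root_.inv_inv],
    by rw [GrpObj.inv_comp, Category.id_comp, _root_.inv_inv]⟩
  haveI : IsIso ((𝟙 A)⁻¹ : A ⟶ A).left := inferInstanceAs (IsIso ((Over.forget _).map ((𝟙 A)⁻¹ : A ⟶ A)))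
  set a := PicLib.cls hL.1 with ha
  set b := PicLib.cls hN with hb
  set ia := PicLib.pull ((𝟙 A)⁻¹).left a with hia
  have hS := AmpleLib.isAmple_tensor hL (AmpleLib.isAmple_pullback ((𝟙 A)⁻¹ : A ⟶ A).left hL)
  have hs : PicLib.cls hS.1 = a * ia := rfl
  have hinv : PicLib.pull ((𝟙 A)⁻¹).left ia = a := by
    rw [hia, AVLib.pull_left_comp, GrpObj.inv_comp, Category.id_comp, _root_.inv_inv, Over.id_left, PicLib.pull_id]
  have hssym : PicLib.pull ((𝟙 A)⁻¹).left (a * ia) = a * ia := by
    rw [map_mul, hinv, mul_comm]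
  have hb2 : ∀ (T : Over (Spec (CommRingCat.of k))) (f g : T ⟶ A), AVLib.defect b f g = 1 := fun T f g => by
    have h := (PicLib.cls_eq_cls (AmpleLib.isInvertible_pullback μ[A].left hN) (AmpleLib.isInvertible_tensor
      (AmpleLib.isInvertible_pullback (fst A A).left hN) (AmpleLib.isInvertible_pullback (snd A A).left hN))).2 hN0
    rw [PicLib.cls_tensor (AmpleLib.isInvertible_pullback (fst A A).left hN)
      (AmpleLib.isInvertible_pullback (snd A A).left hN), ← PicLib.pull_cls _ hN, ← PicLib.pull_cls _ hN,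
      ← PicLib.pull_cls _ hN] at h
    have h2 := congrArg (PicLib.pull (lift f g).left) h
    rw [map_mul, AVLib.pull_left_comp, AVLib.pull_left_comp, AVLib.pull_left_comp, lift_fst, lift_snd,
      show lift f g ≫ μ[A] = f * g from rfl] at h2
    rw [AVLib.defect_eq_one_iff]
    exact h2
  have he : ∀ (T : Over (Spec (CommRingCat.of k))) (f g : T ⟶ A), AVLib.defect ((a / ia) * b ^ 2) f g = 1 :=
    fun T f g => by
      have h1 : AVLib.defect ia f g = AVLib.defect a f g := by
        rw [← AVLib.defect_inv_inv a f g, AVLib.defect, AVLib.defect]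
        have e : ∀ h : T ⟶ A, PicLib.pull h.left ia = PicLib.pull h⁻¹.left a := fun h => by
          rw [hia, AVLib.pull_left_comp, GrpObj.comp_inv, Category.comp_id]
        rw [e, e, e, _root_.mul_inv]
      have h2 := hb2 T f g
      simp only [AVLib.defect, map_mul, map_div, map_pow] at h1 h2 ⊢
      rw [div_eq_one] at h2
      rw [div_eq_div_iff_mul_eq_mul] at h1
      rw [div_eq_one, h2, mul_pow, _root_.mul_mul_mul_comm]
      congr 1
      rw [div_mul_div_comm, div_eq_div_iff_mul_eq_mul]
      exact h1.symm.trans (mul_comm _ _)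
  obtain ⟨E, hE, hEe⟩ := PicLib.exists_cls ((a / ia) * b ^ 2)
  obtain ⟨N₀, hN₀⟩ := AmpleEmb.eventually_isAmple_tensor hS hE
  set n := N₀ + 1 with hn
  have hpow : ∀ m : ℕ, PicLib.pull (𝟙 A ^ m).left ((a / ia) * b ^ 2) = ((a / ia) * b ^ 2) ^ m := fun m => by
    induction m with
    | zero => rw [pow_zero, pow_zero, AVLib.pull_one]
    | succ m ih =>
      have h := he A (𝟙 A ^ m) (𝟙 A)
      rw [AVLib.defect_eq_one_iff] at h
      rw [pow_succ, h, ih, Over.id_left, PicLib.pull_id, pow_succ _ m]
  haveI := AVLib.isFinite_npow (A := A) n N₀.succ_pos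
  haveI : Surjective (𝟙 A ^ n).left := AVLib.surjective_npow (A := A) n N₀.succ_pos
  haveI : IsMonHom (𝟙 A ^ n) := by
    rw [show 𝟙 A ^ n = EndAV.End.toHom ((n : ℤ) : EndAV.End A) by rw [EndAV.End.toHom_intCast, zpow_natCast]]
    infer_instance
  haveI : IsReduced A.left := inferInstance
  haveI : Flat (𝟙 A ^ n).left := AVLib.flat_of_surjective (𝟙 A ^ n)
  haveI : IsLocallyNoetherian A.left := LocallyOfFiniteType.isLocallyNoetherian A.hom
  haveI : LocallyOfFinitePresentation (𝟙 A ^ n).left := inferInstance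
  have hflf := FinLocFreeLib.isFinLocFree_push (𝟙 A ^ n).left ⟨inferInstance, inferInstance, inferInstance⟩
  have hT := AmpleLib.isInvertible_tensor hL.1 hN
  refine (AmpleLib.isAmple_pow_iff hT (n := 2) two_pos).1 (NormAmpleLib.isAmple_of_pullback (𝟙 A ^ n).left hflf
    (AmpleLib.isInvertible_tensorPow hT 2) ?_)
  have h1 := (hN₀ n N₀.le_succ).1
  have h2 := (AmpleLib.isAmple_pow_iff h1.1 (n := n) N₀.succ_pos).2 h1
  have key : PicLib.cls h2.1 = PicLib.cls (AmpleLib.isInvertible_pullback (𝟙 A ^ n).left
      (AmpleLib.isInvertible_tensorPow hT 2)) := by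
    rw [PicLib.cls_tensorPow h1.1, PicLib.cls_tensor (AmpleLib.isInvertible_tensorPow hS.1 n) hE,
      PicLib.cls_tensorPow hS.1, hs, hEe, ← PicLib.pull_cls _ (AmpleLib.isInvertible_tensorPow hT 2),
      PicLib.cls_tensorPow hT, PicLib.cls_tensor hL.1 hN, ← ha, ← hb, mul_pow, ← pow_mul, ← hpow n,
      ← pow_two n, ← AVLib.pull_npow_symm hssym n, ← map_mul]
    congr 1
    rw [← _root_.mul_assoc, mul_pow a b 2, _root_.mul_assoc a ia, mul_div_cancel, ← pow_two]
  obtain ⟨iso⟩ := (PicLib.cls_eq_cls _ _).1 key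
  exact AmpleLib.isAmple_of_iso iso h2

end Groth.Agent.S18369
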