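import Groth.Statements.S1837
import Mathlib

set_option autoImplicit false
universe u
open TensorProduct
open CycAlg

namespace Groth.Agent.S1837

variable {A : Type u} [CommRing A] {r : ℕ} (m : Fin r → Ideal A) [∀ i, (m i).IsMaximal]
  (B : Fin r → Type u) [∀ i, CommRing (B i)] [∀ i, Algebra (Localization.AtPrime (m i)) (B i)]
  [∀ i, Algebra A (B i)] [∀ i, IsScalarTower A (Localization.AtPrime (m i)) (B i)]

/-- Maximal ideals other than the given ones. -/
abbrev Out : Type u := {p : MaximalSpectrum A // ∀ i, p.asIdeal ≠ m i}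

/-- All the prescribed local rings. -/
abbrev Loci : Type u := (∀ i, B i) × (∀ p : Out m, Localization.AtPrime p.1.asIdeal)

/-- Elements becoming global after multiplication by a power of the intersection. -/
def glue : Subalgebra A (Loci m B) where
  carrier := {z | ∃ N : ℕ, ∀ y ∈ (⨅ i, m i) ^ N, y • z ∈ (algebraMap A (Loci m B)).range}
  mul_mem' := by
    rintro z w ⟨N, hN⟩ ⟨M, hM⟩
    refine ⟨N + M, fun y hy => ?_⟩
    rw [pow_add] at hy
    induction hy using Submodule.mul_induction_on' with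
    | mem_mul_mem a ha b hb =>
      rw [← smul_mul_smul_comm]
      exact mul_mem (hN a ha) (hM b hb)
    | add a _ b _ ha hb => rw [add_smul]; exact add_mem ha hb
  add_mem' := by
    rintro z w ⟨N, hN⟩ ⟨M, hM⟩
    refine ⟨N + M, fun y hy => ?_⟩
    rw [smul_add]
    exact add_mem (hN y (Ideal.pow_le_pow_right (by omega) hy)) (hM y (Ideal.pow_le_pow_right (by omega) hy))
  algebraMap_mem' a := ⟨0, fun y _ => ⟨y * a, by rw [map_mul, Algebra.smul_def]⟩⟩

theorem exists_notMem_of_ne {i : Fin r} {P : Ideal A} (hP : P.IsMaximal) (h : P ≠ m i) :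
    ∃ e ∈ m i, e ∉ P :=
  SetLike.not_le_iff_exists.1 fun hle => h ((Ideal.IsMaximal.eq_of_le inferInstance hP.ne_top hle).symm)

theorem isUnit_algebraMap_B {i : Fin r} {e : A} (he : e ∉ m i) : IsUnit (algebraMap A (B i) e) := by
  rw [IsScalarTower.algebraMap_apply A (Localization.AtPrime (m i))]
  exact (IsLocalization.map_units (Localization.AtPrime (m i)) (⟨e, he⟩ : (m i).primeCompl)).map _

theorem exists_iInf_notMem (p : Out m) : ∃ e ∈ ⨅ i, m i, e ∉ p.1.asIdeal := by
  classical
  choose e he hep using fun i => exists_notMem_of_ne m p.1.isMaximal (p.2 i)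
  refine ⟨∏ i, e i, ?_, fun h => ?_⟩
  · simp only [Submodule.mem_iInf]
    exact fun i => Ideal.mem_of_dvd _ (Finset.dvd_prod_of_mem e (Finset.mem_univ i)) (he i)
  · obtain ⟨i, -, hi⟩ := Ideal.IsPrime.prod_mem_iff.1 h
    exact hep i hi

variable [IsNoetherianRing A]

theorem exists_notMem_ker {i : Fin r} {n : ℕ}
    (hn : ∀ x ∈ RingHom.ker (algebraMap (Localization.AtPrime (m i)) (B i)),
      ∀ y ∈ Ideal.map (algebraMap A (Localization.AtPrime (m i))) (m i) ^ n, y * x = 0)
    {a : A} (ha : algebraMap A (B i) a = 0) {y : A} (hy : y ∈ m i ^ n) :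
    ∃ u ∉ m i, u * (y * a) = 0 := by
  have h : algebraMap A (Localization.AtPrime (m i)) (y * a) = 0 := by
    rw [map_mul]
    exact hn _ (by rw [RingHom.mem_ker, ← IsScalarTower.algebraMap_apply, ha]) _
      (by rw [← Ideal.map_pow]; exact Ideal.mem_map_of_mem _ hy)
  obtain ⟨⟨u, hu⟩, h⟩ := (IsLocalization.map_eq_zero_iff (m i).primeCompl _ _).1 h
  exact ⟨u, hu, h⟩

theorem exists_kill {i : Fin r} (hinj : Function.Injective m) {n : ℕ}
    (hn : ∀ x ∈ RingHom.ker (algebraMap (Localization.AtPrime (m i)) (B i)),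
      ∀ y ∈ Ideal.map (algebraMap A (Localization.AtPrime (m i))) (m i) ^ n, y * x = 0)
    {z : Loci m B} (hz : z ∈ glue m B) (hzi : z.1 i = 0) : ∃ u ∉ m i, u • z = 0 := by
  classical
  obtain ⟨N, hN⟩ := hz
  obtain ⟨G, hG⟩ := IsNoetherian.noetherian ((⨅ k, m k) ^ (n + N))
  have h1 : ∀ y ∈ G, ∃ u ∉ m i, u • (y • z) = 0 := by
    intro y hy
    have hy' : y ∈ (⨅ k, m k) ^ (n + N) := hG ▸ Submodule.subset_span hy
    rw [pow_add] at hy'
    clear hy
    induction hy' using Submodule.mul_induction_on' with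
    | mem_mul_mem a ha b hb =>
      obtain ⟨c, hc⟩ := hN b hb
      have hci : algebraMap A (B i) c = 0 := by
        have := congrArg (fun w : Loci m B => w.1 i) hc
        simpa [hzi] using this
      obtain ⟨u, hu, hu0⟩ := exists_notMem_ker m B hn hci
        (Ideal.pow_right_mono (iInf_le m i) n ha)
      exact ⟨u, hu, by rw [mul_smul, ← hc, Algebra.smul_def, Algebra.smul_def, ← map_mul, ← map_mul, hu0, map_zero]⟩
    | add a _ b _ ha hb =>
      obtain ⟨u, hu, hu0⟩ := ha
      obtain ⟨v, hv, hv0⟩ := hb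
      exact ⟨u * v, fun h => (Ideal.IsPrime.mem_or_mem inferInstance h).elim hu hv, by
        rw [add_smul, smul_add, mul_smul, mul_smul, smul_comm u v (a • z), hu0, smul_zero, hv0, smul_zero,
          add_zero]⟩
  choose! u hu hu0 using h1
  let u0 := ∏ y ∈ G, u y
  have hu0' : ∀ y ∈ (⨅ k, m k) ^ (n + N), y • (u0 • z) = 0 := by
    intro y hy
    rw [← hG] at hy
    induction hy using Submodule.span_induction with
    | mem y hy =>
      rw [smul_comm, show u0 = (∏ x ∈ G.erase y, u x) * u y from (Finset.prod_erase_mul _ _ hy).symm,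
        mul_smul, hu0 y hy, smul_zero]
    | zero => rw [zero_smul]
    | add a b _ _ ha hb => rw [add_smul, ha, hb, add_zero]
    | smul a b _ hb => rw [smul_assoc, hb, smul_zero]
  have hv : ∀ j, ∃ v ∉ m i, v • (u0 • z).1 j = 0 := by
    intro j
    rcases eq_or_ne j i with rfl | hij
    · exact ⟨1, (Ideal.ne_top_iff_one _).1 (Ideal.IsMaximal.ne_top inferInstance),
        by simp [hzi]⟩
    · obtain ⟨v, hvj, hvi⟩ := exists_notMem_of_ne m (i := j) (inferInstance : (m i).IsMaximal)
        fun h => hij (hinj h.symm)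
      have he : ∃ e, e ∉ m j ∧ ∀ k, k ≠ j → e ∈ m k := by
        choose f hf hfj using fun k : {k // k ≠ j} =>
          exists_notMem_of_ne m (i := k.1) (inferInstance : (m j).IsMaximal) fun h => k.2 (hinj h.symm)
        refine ⟨∏ k, f k, fun h => ?_, fun k hk => Ideal.mem_of_dvd _ (Finset.dvd_prod_of_mem f (Finset.mem_univ (⟨k, hk⟩ : {k // k ≠ j}))) (hf ⟨k, hk⟩)⟩
        obtain ⟨k, -, hk⟩ := Ideal.IsPrime.prod_mem_iff.1 h
        exact hfj k hk
      obtain ⟨e, hej, hek⟩ := he
      have hJ : e * v ∈ ⨅ k, m k := by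
        simp only [Submodule.mem_iInf]
        intro k
        rcases eq_or_ne k j with rfl | hk
        · exact Ideal.mul_mem_left _ _ hvj
        · exact Ideal.mul_mem_right _ _ (hek k hk)
      refine ⟨v ^ (n + N), fun h => hvi (Ideal.IsPrime.mem_of_pow_mem inferInstance _ h), ?_⟩
      have h := congrArg (fun w : Loci m B => w.1 j) (hu0' _ (Ideal.pow_mem_pow hJ (n + N)))
      simp only [Prod.smul_fst, Pi.smul_apply, mul_pow, mul_smul, Prod.fst_zero, Pi.zero_apply] at h ⊢
      rw [Algebra.smul_def] at h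
      exact (isUnit_algebraMap_B m B fun h' => hej (Ideal.IsPrime.mem_of_pow_mem inferInstance _ h')).mul_right_eq_zero.1 h
  choose v hv hv0 using hv
  refine ⟨u0 * ∏ j, v j, fun h => ?_, ?_⟩
  · rcases Ideal.IsPrime.mem_or_mem inferInstance h with h | h
    · obtain ⟨y, hy, hi⟩ := Ideal.IsPrime.prod_mem_iff.1 h
      exact hu y hy hi
    · obtain ⟨j, -, hj⟩ := Ideal.IsPrime.prod_mem_iff.1 h
      exact hv j hj
  · rw [mul_comm, mul_smul]
    refine Prod.ext (funext fun j => ?_) (funext fun p => ?_)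
    · rw [Prod.smul_fst, Pi.smul_apply, ← Finset.prod_erase_mul _ _ (Finset.mem_univ j), mul_smul, hv0,
        smul_zero]
      rfl
    · obtain ⟨e, he, hep⟩ := exists_iInf_notMem m p
      have h := congrArg (fun w : Loci m B => w.2 p) (hu0' _ (Ideal.pow_mem_pow he (n + N)))
      simp only [Prod.smul_snd, Pi.smul_apply, Prod.snd_zero, Pi.zero_apply] at h ⊢
      rw [Algebra.smul_def (e ^ (n + N))] at h
      rw [((IsLocalization.map_units _ (⟨_, fun h' => hep (p.1.isMaximal.isPrime.mem_of_pow_mem _ h')⟩ :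
        p.1.asIdeal.primeCompl))).mul_right_eq_zero.1 h, smul_zero]

theorem exists_near {i : Fin r} {n : ℕ}
    (hk : ∀ x ∈ RingHom.ker (algebraMap (Localization.AtPrime (m i)) (B i)),
      ∀ y ∈ Ideal.map (algebraMap A (Localization.AtPrime (m i))) (m i) ^ n, y * x = 0)
    {n' : ℕ} (hc : ∀ y ∈ Ideal.map (algebraMap A (Localization.AtPrime (m i))) (m i) ^ n', ∀ b : B i,
      y • b ∈ (algebraMap (Localization.AtPrime (m i)) (B i)).range)
    (hinj : Function.Injective m) (b : B i) : ∃ z ∈ glue m B, ∃ s ∉ m i, z.1 i = s • b := by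
  classical
  obtain ⟨G, hG⟩ := IsNoetherian.noetherian (m i ^ (n + n'))
  have hGm : ∀ y ∈ G, y ∈ m i ^ (n + n') := fun y hy => hG ▸ Submodule.subset_span hy
  have h1 : ∀ y ∈ G, ∃ a : A, ∃ s ∉ m i, s • (y • b) = algebraMap A (B i) a := by
    intro y hy
    obtain ⟨c, hc'⟩ := hc (algebraMap A _ y)
      (by rw [← Ideal.map_pow]; exact Ideal.mem_map_of_mem _ (Ideal.pow_le_pow_right (by omega) (hGm y hy))) b
    obtain ⟨⟨a, s⟩, hs⟩ := IsLocalization.surj (m i).primeCompl c
    refine ⟨a, s, s.2, ?_⟩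
    rw [algebraMap_smul] at hc'
    rw [← hc', Algebra.smul_def, IsScalarTower.algebraMap_apply A (Localization.AtPrime (m i)),
      ← map_mul, mul_comm, hs, ← IsScalarTower.algebraMap_apply]
  choose! a s hs has using h1
  let s0 := ∏ y ∈ G, s y
  let a0 : A → A := fun y => (∏ x ∈ G.erase y, s x) * a y
  have ha0 : ∀ y ∈ G, algebraMap A (B i) (a0 y) = y • (s0 • b) := fun y hy => by
    rw [smul_comm, show s0 = (∏ x ∈ G.erase y, s x) * s y from (Finset.prod_erase_mul _ _ hy).symm,
      mul_smul, has y hy, Algebra.smul_def, map_mul]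
  have h2 : ∀ k ∈ G ×ˢ G ×ˢ G, ∃ u ∉ m i, u * (k.1 * (k.2.1 * a0 k.2.2 - k.2.2 * a0 k.2.1)) = 0 := by
    intro k hk'
    simp only [Finset.mem_product] at hk'
    refine exists_notMem_ker m B hk ?_ (Ideal.pow_le_pow_right (by omega) (hGm _ hk'.1))
    rw [map_sub, map_mul _ k.2.1, map_mul _ k.2.2, ha0 _ hk'.2.2, ha0 _ hk'.2.1, Algebra.smul_def k.2.2, Algebra.smul_def k.2.1]
    ring
  choose! u hu hu0 using h2
  let U := ∏ k ∈ G ×ˢ G ×ˢ G, u k
  have hU : ∀ y ∈ G, ∀ z ∈ G, ∀ w ∈ G, U * (y * (z * a0 w - w * a0 z)) = 0 := fun y hy z hz w hw => by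
    have hmem : (y, z, w) ∈ G ×ˢ G ×ˢ G := by simp [hy, hz, hw]
    rw [show U = (∏ x ∈ (G ×ˢ G ×ˢ G).erase (y, z, w), u x) * u (y, z, w) from
      (Finset.prod_erase_mul _ _ hmem).symm, mul_assoc]
    exact mul_eq_zero_of_right _ (hu0 _ hmem)
  have hp : ∀ P : MaximalSpectrum A, P.asIdeal ≠ m i → ∃ y ∈ G, y ∉ P.asIdeal := fun P hP => by
    by_contra hcon
    push Not at hcon
    obtain ⟨e, he, heP⟩ := exists_notMem_of_ne m P.isMaximal hP
    have hle : m i ^ (n + n') ≤ P.asIdeal := hG ▸ Submodule.span_le.2 hcon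
    exact heP (P.isMaximal.isPrime.mem_of_pow_mem _ (hle (Ideal.pow_mem_pow he (n + n'))))
  have hval : ∀ P : MaximalSpectrum A, P.asIdeal ≠ m i → ∃ x : Localization.AtPrime P.asIdeal,
      ∀ y ∈ G, ∀ z ∈ G, algebraMap A _ (y * z) * x = algebraMap A _ (U * (y * a0 z)) := fun P hP => by
    obtain ⟨w, hwG, hwP⟩ := hp P hP
    obtain ⟨w', hw'⟩ := (IsLocalization.map_units (Localization.AtPrime P.asIdeal) (⟨w, hwP⟩ : P.asIdeal.primeCompl)).exists_right_inv
    refine ⟨algebraMap A _ (U * a0 w) * w', fun y hy z hz => ?_⟩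
    have h := congrArg (algebraMap A (Localization.AtPrime P.asIdeal)) (hU y hy z hz w hwG)
    simp only [map_mul, map_sub, map_zero] at h hw' ⊢
    linear_combination w' * h + (algebraMap A _ U * algebraMap A _ y * algebraMap A _ (a0 z)) * hw'
  choose x hx using hval
  have hY : ∀ j, ∃ z : B j, j ≠ i → ∀ y ∈ G, ∀ w ∈ G,
      algebraMap A (B j) (y * w) * z = algebraMap A (B j) (U * (y * a0 w)) := fun j => by
    by_cases hij : j = i
    · exact ⟨0, fun h => absurd hij h⟩
    · have hne : m j ≠ m i := fun h => hij (hinj h)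
      let P : MaximalSpectrum A := ⟨m j, inferInstance⟩
      refine ⟨algebraMap (Localization.AtPrime (m j)) (B j) (x P hne), fun _ y hy w hw => ?_⟩
      have h := congrArg (algebraMap (Localization.AtPrime (m j)) (B j)) (hx P hne y hy w hw)
      rw [map_mul, ← IsScalarTower.algebraMap_apply, ← IsScalarTower.algebraMap_apply] at h
      exact h
  choose Y hY using hY
  let X : ∀ j, B j := Function.update Y i ((U * s0) • b)
  have hXi : X i = (U * s0) • b := Function.update_self ..
  have hX : ∀ j, ∀ y ∈ G, ∀ w ∈ G,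
      algebraMap A (B j) (y * w) * X j = algebraMap A (B j) (U * (y * a0 w)) := fun j y hy w hw => by
    by_cases hij : j = i
    · subst hij
      rw [hXi]
      simp only [map_mul, ha0 w hw, Algebra.smul_def]
      ring
    · rw [show X j = Y j from Function.update_of_ne hij ..]
      exact hY j hij y hy w hw
  let z : Loci m B := (X, fun p => x p.1 (p.2 i))
  refine ⟨z, ⟨(n + n') + (n + n'), fun y hy => ?_⟩, U * s0, fun h => ?_, hXi⟩
  · have hy' : y ∈ Submodule.span A (G : Set A) * Submodule.span A (G : Set A) := by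
      rw [show Submodule.span A (G : Set A) = m i ^ (n + n') from hG, ← pow_add]
      exact Ideal.pow_right_mono (iInf_le m i) _ hy
    rw [Submodule.span_mul_span] at hy'
    clear hy
    induction hy' using Submodule.span_induction with
    | mem y hy =>
      obtain ⟨p, hp, q, hq, rfl⟩ := Set.mem_mul.1 hy
      exact ⟨U * (p * a0 q), Prod.ext (funext fun j => ((Algebra.smul_def (p * q) (X j)).trans (hX j p hp q hq)).symm)
        (funext fun P => ((Algebra.smul_def (p * q) _).trans (hx P.1 (P.2 i) p hp q hq)).symm)⟩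
    | zero => rw [zero_smul]; exact zero_mem _
    | add a b _ _ ha hb => rw [add_smul]; exact add_mem ha hb
    | smul a b _ hb =>
      obtain ⟨q, hq⟩ := hb
      exact ⟨a * q, by rw [map_mul, hq, smul_eq_mul, mul_smul, Algebra.smul_def a]⟩
  · rcases Ideal.IsPrime.mem_or_mem inferInstance h with h | h
    · obtain ⟨k, hk, hi⟩ := Ideal.IsPrime.prod_mem_iff.1 h
      exact hu k hk hi
    · obtain ⟨k, hk, hi⟩ := Ideal.IsPrime.prod_mem_iff.1 h
      exact hs k hk hi

/-- A membership criterion. -/
theorem mem_of_local (S : Submodule A (Loci m B)) (hS : ∀ a, algebraMap A (Loci m B) a ∈ S)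
    {z : Loci m B} (hz : z ∈ glue m B) (h : ∀ i, ∃ s ∉ m i, s • z ∈ S) : z ∈ S := by
  obtain ⟨N, hN⟩ := hz
  let L : Ideal A := S.comap (LinearMap.toSpanSingleton A (Loci m B) z)
  suffices hL : L = ⊤ by
    have := (Ideal.eq_top_iff_one L).1 hL
    simpa [L] using this
  by_contra hL
  obtain ⟨P, hP, hle⟩ := Ideal.exists_le_maximal L hL
  by_cases hPi : ∃ i, P = m i
  · obtain ⟨i, rfl⟩ := hPi
    obtain ⟨s, hs, hsz⟩ := h i
    exact hs (hle hsz)
  · push Not at hPi
    obtain ⟨e, he, heP⟩ := exists_iInf_notMem m ⟨⟨P, hP⟩, hPi⟩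
    obtain ⟨a, ha⟩ := hN _ (Ideal.pow_mem_pow he N)
    exact heP (hP.isPrime.mem_of_pow_mem _ (hle (show e ^ N • z ∈ S from ha ▸ hS a)))

/-- Let A be Noetherian with pairwise distinct maximal ideals 𝔪₁, …, 𝔪_r, and for each i a ring map φ_i
from A_{𝔪_i} to B_i whose kernel and cokernel are killed by a power of 𝔪_i. Then there is an
A-algebra B whose base change to each A_{𝔪_i} is isomorphic to B_i and whose structure map has
kernel and cokernel killed by a power of 𝔪₁ ∩ … ∩ 𝔪_r; if every φ_i is finite (resp. injective,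
resp. surjective) B can be taken with the same property. -/
theorem result (A : Type u) [CommRing A] [IsNoetherianRing A] (r : ℕ) (m : Fin r → Ideal A) (hm : ∀ i, (m i).IsMaximal) (hinj : Function.Injective m) (B : Fin r → Type u) [∀ i, CommRing (B i)] [∀ i, Algebra (Localization.AtPrime (m i)) (B i)] (hker : ∀ i, ∃ n : ℕ, ∀ x ∈ RingHom.ker (algebraMap (Localization.AtPrime (m i)) (B i)), ∀ y ∈ Ideal.map (algebraMap A (Localization.AtPrime (m i))) (m i) ^ n, y * x = 0) (hcoker : ∀ i, ∃ n : ℕ, ∀ y ∈ Ideal.map (algebraMap A (Localization.AtPrime (m i))) (m i) ^ n, ∀ b : B i, y • b ∈ (algebraMap (Localization.AtPrime (m i)) (B i)).range) : ∃ (C : Type u) (_ : CommRing C) (_ : Algebra A C), (∀ i, Nonempty ((Localization.AtPrime (m i)) ⊗[A] C ≃ₐ[Localization.AtPrime (m i)] B i)) ∧ (∃ n : ℕ, (∀ x ∈ RingHom.ker (algebraMap A C), ∀ y ∈ (⨅ i, m i) ^ n, y * x = 0) ∧ (∀ y ∈ (⨅ i, m i) ^ n, ∀ c : C, y • c ∈ (algebraMap A C).range)) ∧ ((∀ i, (algebraMap (Localization.AtPrime (m i)) (B i)).Finite) → (algebraMap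 A C).Finite) ∧ ((∀ i, Function.Injective (algebraMap (Localization.AtPrime (m i)) (B i))) → Function.Injective (algebraMap A C)) ∧ ((∀ i, Function.Surjective (algebraMap (Localization.AtPrime (m i)) (B i))) → Function.Surjective (algebraMap A C)) := by
  haveI := hm
  letI : ∀ i, Algebra A (B i) := fun i => ((algebraMap (Localization.AtPrime (m i)) (B i)).comp (algebraMap A _)).toAlgebra
  haveI : ∀ i, IsScalarTower A (Localization.AtPrime (m i)) (B i) := fun i => IsScalarTower.of_algebraMap_eq fun _ => rfl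
  classical
  choose nk hnk using hker
  choose nc hnc using hcoker
  let C := glue m B
  let ψ : ∀ i, C →ₐ[A] B i := fun i => ((Pi.evalAlgHom A B i).comp (AlgHom.fst A _ _)).comp C.val
  have hloc : ∀ i, IsLocalizedModule (m i).primeCompl (ψ i).toLinearMap := fun i => by
    refine ⟨fun s => ?_, fun b => ?_, fun {z w} hzw => ?_⟩
    · rw [Module.End.isUnit_iff]
      rw [show ⇑(algebraMap A (Module.End A (B i)) (s : A)) =
          fun b => ((isUnit_algebraMap_B m B s.2).unit : B i) * b from
        funext fun b => Algebra.smul_def (s : A) b]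
      exact (isUnit_algebraMap_B m B s.2).unit.mulLeft.bijective
    · obtain ⟨z, hz, s, hs, hzs⟩ := exists_near m B (hnk i) (hnc i) hinj b
      exact ⟨⟨⟨z, hz⟩, ⟨s, hs⟩⟩, hzs.symm⟩
    · obtain ⟨u, hu, hu0⟩ := exists_kill m B hinj (hnk i) (z := (z : Loci m B) - w) (sub_mem z.2 w.2)
        (sub_eq_zero.2 hzw)
      refine ⟨⟨u, hu⟩, Subtype.ext ?_⟩
      rw [smul_sub, sub_eq_zero] at hu0
      exact hu0
  refine ⟨C, inferInstance, inferInstance, fun i => ?_, ⟨Finset.univ.sup fun i => max (nk i) (nc i), ?_, ?_⟩,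
    fun hfin => ?_, fun hi => ?_, fun hsurj => ?_⟩
  · let h : (Localization.AtPrime (m i)) ⊗[A] C →ₐ[Localization.AtPrime (m i)] B i :=
      Algebra.TensorProduct.lift (Algebra.ofId (Localization.AtPrime (m i)) (B i)) (ψ i) fun _ _ => Commute.all _ _
    have hb := (isLocalizedModule_iff_isBaseChange (m i).primeCompl (Localization.AtPrime (m i)) (ψ i).toLinearMap).1 (hloc i)
    refine ⟨AlgEquiv.ofBijective h ?_⟩
    have he : ∀ x, h x = hb.equiv x := fun x => by
      induction x using TensorProduct.induction_on with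
      | zero => rw [map_zero, map_zero]
      | add x y hx hy => rw [map_add, map_add, hx, hy]
      | tmul x c => rw [IsBaseChange.equiv_tmul, Algebra.smul_def]; rfl
    rw [show (h : _ → B i) = hb.equiv from funext he]
    exact hb.equiv.bijective
  · intro x hx y hy
    have hx' : algebraMap A (Loci m B) x = 0 := congrArg Subtype.val (RingHom.mem_ker.1 hx)
    refine eq_zero_of_localization _ fun P hP => ?_
    by_cases hPi : ∃ i, P = m i
    · obtain ⟨i, rfl⟩ := hPi
      rw [map_mul]
      refine hnk i _ (RingHom.mem_ker.2 ?_) _ ?_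
      · rw [← IsScalarTower.algebraMap_apply]
        exact congrArg (fun w : Loci m B => w.1 i) hx'
      · rw [← Ideal.map_pow]
        exact Ideal.mem_map_of_mem _ (Ideal.pow_le_pow_right
          ((le_max_left _ _).trans (Finset.le_sup (f := fun i => max (nk i) (nc i)) (Finset.mem_univ i)))
          (Ideal.pow_right_mono (iInf_le m i) _ hy))
    · push Not at hPi
      rw [map_mul, show algebraMap A (Localization.AtPrime P) x = 0 from
        congrArg (fun w : Loci m B => w.2 ⟨⟨P, hP⟩, hPi⟩) hx', mul_zero]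
  · intro y hy c
    obtain ⟨a, ha⟩ := mem_of_local m B (LinearMap.range (Algebra.linearMap A (Loci m B)))
      (fun a => ⟨a, rfl⟩) (z := ((y • c : C) : Loci m B)) (y • c).2 fun i => by
        obtain ⟨q, hq⟩ := hnc i (algebraMap A _ y) (by
          rw [← Ideal.map_pow]
          exact Ideal.mem_map_of_mem _ (Ideal.pow_le_pow_right
            ((le_max_right _ _).trans (Finset.le_sup (f := fun i => max (nk i) (nc i)) (Finset.mem_univ i)))
            (Ideal.pow_right_mono (iInf_le m i) _ hy))) ((c : Loci m B).1 i)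
        obtain ⟨⟨a, s⟩, has⟩ := IsLocalization.surj (m i).primeCompl q
        obtain ⟨u, hu, hu0⟩ := exists_kill m B hinj (hnk i)
          (z := ((s : A) • ((y • c : C) : Loci m B)) - algebraMap A _ a)
          (sub_mem (C.smul_mem (y • c).2 _) (C.algebraMap_mem a)) (by
            show (s : A) • y • (c : Loci m B).1 i - algebraMap A (B i) a = 0
            rw [algebraMap_smul] at hq
            rw [← hq, Algebra.smul_def, IsScalarTower.algebraMap_apply A (Localization.AtPrime (m i)), ← map_mul,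
              mul_comm, has, ← IsScalarTower.algebraMap_apply, sub_self])
        refine ⟨u * s, fun h => (Ideal.IsPrime.mem_or_mem inferInstance h).elim hu s.2, u * a, ?_⟩
        rw [smul_sub, sub_eq_zero] at hu0
        rw [mul_smul, hu0, Algebra.linearMap_apply, map_mul, Algebra.smul_def]
    exact ⟨a, Subtype.ext ha⟩
  · choose G hG using fun i => (RingHom.finite_algebraMap.1 (hfin i)).fg_top
    choose z hz s hs hzs using fun i (g : B i) => exists_near m B (hnk i) (hnc i) hinj g
    rw [RingHom.finite_algebraMap]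
    let S : Submodule A (Loci m B) := Submodule.span A (insert 1 (⋃ i, (z i) '' (G i : Set (B i))))
    have hSC : S ≤ C.toSubmodule := Submodule.span_le.2 (by
      rintro _ (rfl | hw)
      · exact C.one_mem
      · obtain ⟨i, g, -, rfl⟩ := Set.mem_iUnion.1 hw
        exact hz i g)
    have hS1 : ∀ a, algebraMap A (Loci m B) a ∈ S := fun a => by
      rw [Algebra.algebraMap_eq_smul_one]
      exact S.smul_mem a (Submodule.subset_span (Set.mem_insert _ _))
    have hCS : C.toSubmodule ≤ S := fun w hw => mem_of_local m B S hS1 hw fun i => by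
      have key : ∀ v : B i, ∃ t ∉ m i, ∃ u ∈ S, u.1 i = t • v := by
        intro v
        have hv : v ∈ Submodule.span (Localization.AtPrime (m i)) (G i : Set (B i)) :=
          (hG i).symm ▸ Submodule.mem_top
        induction hv using Submodule.span_induction with
        | mem g hg => exact ⟨s i g, hs i g, z i g,
            Submodule.subset_span (Or.inr (Set.mem_iUnion.2 ⟨i, g, hg, rfl⟩)), hzs i g⟩
        | zero => exact ⟨1, (Ideal.ne_top_iff_one _).1 (hm i).ne_top, 0, S.zero_mem, by simp⟩
        | add v v' _ _ hv hv' =>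
          obtain ⟨t, ht, u, hu, hut⟩ := hv
          obtain ⟨t', ht', u', hu', hut'⟩ := hv'
          refine ⟨t * t', fun h => (Ideal.IsPrime.mem_or_mem inferInstance h).elim ht ht',
            t' • u + t • u', add_mem (S.smul_mem _ hu) (S.smul_mem _ hu'), ?_⟩
          simp only [Prod.fst_add, Prod.smul_fst, Pi.add_apply, Pi.smul_apply, hut, hut', smul_add, ← mul_smul, mul_comm t']
        | smul c v _ hv =>
          obtain ⟨t, ht, u, hu, hut⟩ := hv
          obtain ⟨⟨a, t'⟩, hat⟩ := IsLocalization.surj (m i).primeCompl c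
          refine ⟨t * t', fun h => (Ideal.IsPrime.mem_or_mem inferInstance h).elim ht t'.2,
            a • u, S.smul_mem _ hu, ?_⟩
          have hat' : a • v = (t' : A) • (c • v) := by
            rw [← algebraMap_smul (Localization.AtPrime (m i)) a v,
              ← algebraMap_smul (Localization.AtPrime (m i)) (t' : A) (c • v), smul_smul, mul_comm, hat]
          rw [Prod.smul_fst, Pi.smul_apply, hut, smul_comm, hat', ← mul_smul]
      obtain ⟨t, ht, u, hu, hut⟩ := key (w.1 i)
      obtain ⟨v, hv, hv0⟩ := exists_kill m B hinj (hnk i) (z := t • w - u)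
        (sub_mem (C.smul_mem hw t) (hSC hu)) (by simp [hut])
      refine ⟨v * t, fun h => (Ideal.IsPrime.mem_or_mem inferInstance h).elim hv ht, ?_⟩
      rw [smul_sub, sub_eq_zero] at hv0
      rw [mul_smul, hv0]
      exact S.smul_mem _ hu
    have hfg : C.toSubmodule.FG := by
      rw [le_antisymm hCS hSC]
      exact Submodule.fg_span ((Set.finite_iUnion fun i => (G i).finite_toSet.image _).insert 1)
    exact Module.Finite.iff_fg.2 hfg
  · refine (injective_iff_map_eq_zero _).2 fun x hx => ?_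
    have hx' : algebraMap A (Loci m B) x = 0 := congrArg Subtype.val hx
    refine eq_zero_of_localization x fun P hP => ?_
    by_cases hPi : ∃ i, P = m i
    · obtain ⟨i, rfl⟩ := hPi
      refine hi i ?_
      rw [← IsScalarTower.algebraMap_apply, map_zero]
      exact congrArg (fun w : Loci m B => w.1 i) hx'
    · push Not at hPi
      exact congrArg (fun w : Loci m B => w.2 ⟨⟨P, hP⟩, hPi⟩) hx'
  · intro c
    obtain ⟨a, ha⟩ := mem_of_local m B (LinearMap.range (Algebra.linearMap A (Loci m B)))
      (fun a => ⟨a, rfl⟩) (z := (c : Loci m B)) c.2 fun i => by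
        obtain ⟨q, hq⟩ := hsurj i ((c : Loci m B).1 i)
        obtain ⟨⟨a, s⟩, has⟩ := IsLocalization.surj (m i).primeCompl q
        obtain ⟨u, hu, hu0⟩ := exists_kill m B hinj (hnk i) (z := (s : A) • (c : Loci m B) - algebraMap A _ a)
          (sub_mem (C.smul_mem c.2 _) (C.algebraMap_mem a)) (by
            show (s : A) • (c : Loci m B).1 i - algebraMap A (B i) a = 0
            rw [← hq, Algebra.smul_def, IsScalarTower.algebraMap_apply A (Localization.AtPrime (m i)), ← map_mul,
              mul_comm, has, ← IsScalarTower.algebraMap_apply, sub_self])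
        refine ⟨u * s, fun h => (Ideal.IsPrime.mem_or_mem inferInstance h).elim hu s.2, u * a, ?_⟩
        rw [smul_sub, sub_eq_zero] at hu0
        rw [mul_smul, hu0, Algebra.linearMap_apply, map_mul, Algebra.smul_def]
    exact ⟨a, Subtype.ext ha⟩

end Groth.Agent.S1837
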