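import Groth.Statements.S18370
import Groth.Agent.GrpSchLib.Basic
-- import your own Groth.Agent.* helpers here

set_option autoImplicit false
universe u
open CategoryTheory CategoryTheory.Limits MonoidalCategory CartesianMonoidalCategory MonObj GrpObj AlgebraicGeometry
open GrpSch

namespace Groth.Agent.S18370

/-- Let S be a scheme and G a commutative S-group scheme which is killed by a natural number n, i.e. the
n-th power map of G is the trivial homomorphism, and let n = a·b with a and b coprime. If i_a : G_a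
→ G and i_b : G_b → G are scheme-theoretic kernels of the a-th and b-th power maps of G, then the
morphism G_a ×_S G_b → G sending (x, y) to i_a(x)·i_b(y) is an isomorphism of S-schemes. (The
published statement assumes n ≠ 0; the case n = 0, where {a, b} = {0, 1} and one kernel is all of G
while the other is trivial, is included here.) -/
theorem result {S : Scheme.{u}} (G Ga Gb : Over S)
    [GrpObj G] [IsCommMonObj G] (n a b : ℕ) (hn : n = a * b) (hab : Nat.Coprime a b)
    (hG : (𝟙 G) ^ n = 1)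
    (ia : Ga ⟶ G) (hia : AlgGrp.IsKernel ia ((𝟙 G) ^ a))
    (ib : Gb ⟶ G) (hib : AlgGrp.IsKernel ib ((𝟙 G) ^ b)) :
    IsIso ((fst Ga Gb ≫ ia) * (snd Ga Gb ≫ ib)) := by
  have hk : ∀ (T : Over S) (x : T ⟶ Ga), (x ≫ ia) ^ a = 1 := by
    intro T x
    have h := congrArg (x ≫ ·) hia.w
    simp only [MonObj.comp_pow, Category.comp_id] at h
    rw [h, ← Category.assoc, Hom.one_def]
    exact congrArg (· ≫ η[G]) (toUnit_unique _ _)
  have hk' : ∀ (T : Over S) (x : T ⟶ Gb), (x ≫ ib) ^ b = 1 := by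
    intro T x
    have h := congrArg (x ≫ ·) hib.w
    simp only [MonObj.comp_pow, Category.comp_id] at h
    rw [h, ← Category.assoc, Hom.one_def]
    exact congrArg (· ≫ η[G]) (toUnit_unique _ _)
  obtain ⟨u, v, huv⟩ : ∃ u v : ℤ, u * a + v * b = 1 :=
    ⟨Nat.gcdA a b, Nat.gcdB a b, by
      have := Nat.gcd_eq_gcd_ab a b
      rw [hab.gcd_eq_one] at this
      rw [_root_.mul_comm _ (a : ℤ), _root_.mul_comm _ (b : ℤ)]
      exact_mod_cast this.symm⟩
  have hGn : ∀ (T : Over S) (g : T ⟶ G) (z : ℤ), g ^ ((n : ℤ) * z) = 1 := by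
    intro T g z
    have h := congrArg (g ≫ ·) hG
    simp only [MonObj.comp_pow, Category.comp_id, MonObj.comp_one] at h
    rw [zpow_mul, zpow_natCast, h, one_zpow]
  have hna : ((𝟙 G) ^ (v * b)) ^ a = 1 := by
    rw [← zpow_natCast, ← zpow_mul, show v * b * (a : ℤ) = (n : ℤ) * v by rw [hn]; push_cast; ring, hGn]
  have hnb : ((𝟙 G) ^ (u * a)) ^ b = 1 := by
    rw [← zpow_natCast, ← zpow_mul, show u * a * (b : ℤ) = (n : ℤ) * u by rw [hn]; push_cast; ring, hGn]
  let pa : G ⟶ Ga := hia.lift ((𝟙 G) ^ (v * b)) (toUnit G) (by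
    rw [MonObj.comp_pow, Category.comp_id, hna, Hom.one_def])
  let pb : G ⟶ Gb := hib.lift ((𝟙 G) ^ (u * a)) (toUnit G) (by
    rw [MonObj.comp_pow, Category.comp_id, hnb, Hom.one_def])
  have hpa : pa ≫ ia = (𝟙 G) ^ (v * b) := hia.lift_fst _ _ _
  have hpb : pb ≫ ib = (𝟙 G) ^ (u * a) := hib.lift_fst _ _ _
  refine ⟨CartesianMonoidalCategory.lift pa pb, ?_, ?_⟩
  · have hA : ∀ (T : Over S) (x : T ⟶ G), x ^ a = 1 → x ^ (v * b) = x ∧ x ^ (u * a) = 1 := by
      intro T x hx
      have h2 : x ^ (u * a) = 1 := by rw [_root_.mul_comm, zpow_mul, zpow_natCast, hx, one_zpow]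
      refine ⟨?_, h2⟩
      have h3 : x ^ (u * a + v * b) = x := by rw [huv, zpow_one]
      rwa [zpow_add, h2, _root_.one_mul] at h3
    have hB : ∀ (T : Over S) (x : T ⟶ G), x ^ b = 1 → x ^ (u * a) = x ∧ x ^ (v * b) = 1 := by
      intro T x hx
      have h2 : x ^ (v * b) = 1 := by rw [_root_.mul_comm, zpow_mul, zpow_natCast, hx, one_zpow]
      refine ⟨?_, h2⟩
      have h3 : x ^ (u * a + v * b) = x := by rw [huv, zpow_one]
      rwa [zpow_add, h2, _root_.mul_one] at h3
    obtain ⟨a1, a2⟩ := hA _ _ (hk _ (fst Ga Gb))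
    obtain ⟨b1, b2⟩ := hB _ _ (hk' _ (snd Ga Gb))
    refine CartesianMonoidalCategory.hom_ext _ _ ?_ ?_
    · rw [Category.assoc, lift_fst, Category.id_comp]
      refine hia.hom_ext ?_ (toUnit_unique _ _)
      rw [Category.assoc, hpa, GrpObj.comp_zpow, Category.comp_id, mul_zpow, a1, b2, _root_.mul_one]
    · rw [Category.assoc, lift_snd, Category.id_comp]
      refine hib.hom_ext ?_ (toUnit_unique _ _)
      rw [Category.assoc, hpb, GrpObj.comp_zpow, Category.comp_id, mul_zpow, a2, b1, _root_.one_mul]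
  · rw [MonObj.comp_mul, ← Category.assoc, ← Category.assoc, lift_fst, lift_snd, hpa, hpb, ← zpow_add,
      add_comm, huv, zpow_one]

end Groth.Agent.S18370
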