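import Groth.Statements.S18372
-- import your own Groth.Agent.* helpers here

set_option autoImplicit false
universe u
open CategoryTheory CategoryTheory.Limits MonoidalCategory CartesianMonoidalCategory MonObj GrpObj AlgebraicGeometry
open AbVar

namespace Groth.Agent.S18372

/-- Let k be an algebraically closed field, A an abelian variety over k (a proper smooth k-group scheme
with geometrically connected fibres), U an affine open subset of A containing the unit point and D =
A ∖ U. Then only finitely many k-rational points x of A have a translation t_x : z ↦ z + x (the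
product of the identity and the constant map x in the group Hom(A, A)) with t_x⁻¹(D) = D as sets. -/
theorem result (k : Type u) [Field k] [IsAlgClosed k]
    (A : Over (Spec (CommRingCat.of k))) [GrpObj A] [IsProper A.hom] [Smooth A.hom] [GeometricallyConnected A.hom]
    (U : A.left.Opens) (hU : IsAffineOpen U) (he : Set.range η[A].left.base ⊆ (U : Set A.left)) :
    Set.Finite {x : 𝟙_ (Over (Spec (CommRingCat.of k))) ⟶ A |
      (𝟙 A * (toUnit A ≫ x)).left.base ⁻¹' ((U : Set A.left)ᶜ) = (U : Set A.left)ᶜ} := by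
  let pt : ↥(Spec (CommRingCat.of k)) := IsLocalRing.closedPoint k
  let c : ∀ w : 𝟙_ (Over (Spec (CommRingCat.of k))) ⟶ A, A ⟶ A := fun w => toUnit A ≫ w
  have hpt : ∀ (P : 𝟙_ (Over (Spec (CommRingCat.of k))) ⟶ A) w, P ≫ c w = w := fun P w => by
    rw [← Category.assoc, toUnit_unique (P ≫ toUnit A) (𝟙 _), Category.id_comp]
  haveI : LocallyOfFiniteType A.hom := inferInstance
  haveI := LocallyOfFiniteType.jacobsonSpace A.hom
  let D : Set A.left := (U : Set A.left)ᶜ
  let C : Set A.left := ⋂ (p : 𝟙_ (Over (Spec (CommRingCat.of k))) ⟶ A) (_ : p.left pt ∈ D),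
    (c p * (𝟙 A)⁻¹).left ⁻¹' D
  have hC : IsClosed C := isClosed_iInter fun p => isClosed_iInter fun _ =>
    U.isOpen.isClosed_compl.preimage (c p * (𝟙 A)⁻¹).left.continuous
  have hev : ∀ (x p : 𝟙_ (Over (Spec (CommRingCat.of k))) ⟶ A),
      (c p * (𝟙 A)⁻¹).left (x.left pt) = (p * x⁻¹).left pt := fun x p => by
    have : x ≫ (c p * (𝟙 A)⁻¹) = p * x⁻¹ := by rw [MonObj.comp_mul, GrpObj.comp_inv, Category.comp_id, hpt]
    rw [← this]; rfl
  have hsub : ∀ x : 𝟙_ (Over (Spec (CommRingCat.of k))) ⟶ A,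
      (𝟙 A * (toUnit A ≫ x)).left.base ⁻¹' D = D → x.left pt ∈ C := fun x hx => by
    refine Set.mem_iInter₂.2 fun p hp => ?_
    show (c p * (𝟙 A)⁻¹).left (x.left pt) ∈ D
    rw [hev, ← hx]
    show (𝟙 A * (toUnit A ≫ x)).left ((p * x⁻¹).left pt) ∈ D
    have : (p * x⁻¹) ≫ (𝟙 A * c x) = p := by
      rw [MonObj.comp_mul, Category.comp_id, hpt, _root_.mul_assoc, inv_mul_cancel, _root_.mul_one]
    rw [show (𝟙 A * (toUnit A ≫ x)).left ((p * x⁻¹).left pt) = ((p * x⁻¹) ≫ (𝟙 A * c x)).left pt from rfl, this]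
    exact hp
  have hCU : C ⊆ U := by
    intro z hz
    by_contra hzU
    obtain ⟨a, ha, hac⟩ := nonempty_inter_closedPoints (Set.nonempty_of_mem (show z ∈ C ∩ D from ⟨hz, hzU⟩))
      ((hC.inter U.isOpen.isClosed_compl).isLocallyClosed)
    obtain ⟨⟨q, hq⟩, hqp⟩ := (pointEquivClosedPoint A.hom).surjective ⟨a, hac⟩
    let x : 𝟙_ (Over (Spec (CommRingCat.of k))) ⟶ A := Over.homMk q hq
    have hxa : x.left pt = a := congrArg Subtype.val hqp
    have h1 := Set.mem_iInter₂.1 ha.1 x (hxa ▸ ha.2)
    rw [Set.mem_preimage, ← hxa, hev, mul_inv_cancel, ← MonObj.one_eq_one] at h1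
    exact h1 (he ⟨pt, rfl⟩)
  let I := Scheme.IdealSheafData.vanishingIdeal (⟨C, hC⟩ : TopologicalSpace.Closeds A.left)
  have hr : Set.range I.subschemeι = C := by
    rw [Scheme.IdealSheafData.range_subschemeι, Scheme.IdealSheafData.coe_support_vanishingIdeal]; rfl
  let j := IsOpenImmersion.lift U.ι I.subschemeι (by rw [Scheme.Opens.range_ι, hr]; exact hCU)
  haveI : IsClosedImmersion (j ≫ U.ι) := by rw [IsOpenImmersion.lift_fac]; infer_instance
  haveI : IsClosedImmersion j := IsClosedImmersion.of_comp j U.ι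
  haveI : IsAffine (U : Scheme.{u}) := hU
  haveI : IsAffine I.subscheme := isAffine_of_isAffineHom j
  haveI : IsAffineHom (I.subschemeι ≫ A.hom) := inferInstance
  haveI : IsFinite (I.subschemeι ≫ A.hom) :=
    IsFinite.iff_isProper_and_isAffineHom.2 ⟨inferInstance, inferInstance⟩
  have hfin : Finite I.subscheme := by
    refine Set.finite_univ_iff.1 ?_
    have h1 := (I.subschemeι ≫ A.hom).finite_preimage_singleton pt
    haveI : Subsingleton ↥(Spec (CommRingCat.of k)) := inferInstanceAs (Subsingleton (PrimeSpectrum k))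
    convert h1
    ext w
    exact ⟨fun _ => Subsingleton.elim _ _, fun _ => trivial⟩
  have hCfin : C.Finite := hr ▸ Set.finite_range _
  refine Set.Finite.of_finite_image (f := fun x => x.left pt)
    (hCfin.subset (by rintro _ ⟨x, hx, rfl⟩; exact hsub x hx)) fun x _ y _ hxy => ?_
  ext1
  exact congrArg Subtype.val ((pointEquivClosedPoint A.hom).injective
    (a₁ := ⟨x.left, Over.w x⟩) (a₂ := ⟨y.left, Over.w y⟩) (Subtype.ext hxy))

end Groth.Agent.S18372
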