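import Groth.Statements.S18374
import Groth.Agent.GraphCutLib.Basic
import Mathlib
-- import your own Groth.Agent.* helpers here

set_option autoImplicit false
universe u
open PhiStab

namespace Groth.Agent.S18374

open PhiStab in
/-- Let (V, E, ends) be a connected finite multigraph, φ a real weighting of its vertices and (m, N) a
sheaf datum on it (an integer multidegree m and a set N of edges, the non-free nodes) whose total
degree Σ_v m v + #N equals Σ_v φ v. Then (m, N) is φ-semistable, i.e. Σ_{v ∈ S} φ v - cut S / 2 ≤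
deg_S(m, N) for every nonempty proper vertex set S, if and only if this inequality holds for every
elementary S (one for which S and its complement both induce connected subgraphs); and likewise for
φ-stability with strict inequalities. This is the statement for a rank-1 torsion-free sheaf of
degree g - 1 on a stable pointed curve with this dual graph, written for the sheaf's combinatorial
datum, on which alone the stability inequalities depend and which takes all values. -/
theorem result {V E : Type u} [Fintype V] [Fintype E] [DecidableEq V] [DecidableEq E]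
    (ends : E → V × V) (hconn : LabGraph.Connected ends)
    (φ : V → ℝ) (m : V → ℤ) (N : Finset E) (hdeg : (∑ v : V, φ v) = (totDeg m N : ℝ)) :
    (IsSemistable ends φ m N ↔
      ∀ S : Finset V, IsElementary ends S →
        (∑ v ∈ S, φ v) - (LabGraph.cut ends S : ℝ) / 2 ≤ (degOn ends m N S : ℝ)) ∧
    (IsStable ends φ m N ↔
      ∀ S : Finset V, IsElementary ends S →
        (∑ v ∈ S, φ v) - (LabGraph.cut ends S : ℝ) / 2 < (degOn ends m N S : ℝ)) := by
  classical
  let g : V → ℝ := fun v => (m v : ℝ) - φ v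
  let w : E → Finset V → ℝ := fun e S =>
    (if e ∈ N ∧ (ends e).1 ∈ S ∧ (ends e).2 ∈ S then 1 else 0) +
      (if ((ends e).1 ∈ S ∧ (ends e).2 ∉ S) ∨ ((ends e).1 ∉ S ∧ (ends e).2 ∈ S) then 1 else 0) / 2
  let q : Finset V → ℝ := fun S => (∑ v ∈ S, g v) + ∑ e : E, w e S
  have hq : ∀ S, (degOn ends m N S : ℝ) - ((∑ v ∈ S, φ v) - (LabGraph.cut ends S : ℝ) / 2) = q S := by
    intro S
    have h1 : ((N ∩ inner ends S).card : ℝ) =
        ∑ e : E, (if e ∈ N ∧ (ends e).1 ∈ S ∧ (ends e).2 ∈ S then 1 else 0 : ℝ) := by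
      rw [Finset.sum_boole]
      congr 2
      ext e
      simp [PhiStab.inner]
    have h2 : (LabGraph.cut ends S : ℝ) =
        ∑ e : E, (if ((ends e).1 ∈ S ∧ (ends e).2 ∉ S) ∨ ((ends e).1 ∉ S ∧ (ends e).2 ∈ S) then 1 else 0 : ℝ) := by
      rw [Finset.sum_boole]
      rfl
    simp only [q, w, g, degOn, Finset.sum_add_distrib, Finset.sum_sub_distrib, ← Finset.sum_div]
    push_cast
    rw [h1, h2]
    ring
  have hadd : ∀ A B, Disjoint A B → Groth.Agent.GraphCutLib.NoEdge ends A B → q (A ∪ B) = q A + q B := by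
    intro A B hd hno
    simp only [q, Finset.sum_union hd]
    rw [add_add_add_comm, ← Finset.sum_add_distrib (f := fun e => w e A)]
    congr 1
    refine Finset.sum_congr rfl fun e _ => ?_
    have h := hno e
    have da := fun h : (ends e).1 ∈ A => Finset.disjoint_left.1 hd h
    have db := fun h : (ends e).2 ∈ A => Finset.disjoint_left.1 hd h
    simp only [w, Finset.mem_union]
    by_cases a1 : (ends e).1 ∈ A <;> by_cases a2 : (ends e).2 ∈ A <;>
      by_cases b1 : (ends e).1 ∈ B <;> by_cases b2 : (ends e).2 ∈ B <;> simp_all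
  have htot : (∑ v : V, g v) = -(N.card : ℝ) := by
    simp only [g, Finset.sum_sub_distrib, hdeg, totDeg]
    push_cast
    ring
  have hcompl : ∀ A B, Disjoint A B → Groth.Agent.GraphCutLib.NoEdge ends A B →
      q (A ∪ B)ᶜ = q Aᶜ + q Bᶜ := by
    intro A B hd hno
    have e1 : ∀ S : Finset V, ∑ v ∈ Sᶜ, g v = (∑ v : V, g v) - ∑ v ∈ S, g v := fun S =>
      eq_sub_of_add_eq' (Finset.sum_add_sum_compl S g)
    have e2 : (N.card : ℝ) = ∑ e : E, (if e ∈ N then 1 else 0 : ℝ) := by simp
    have e3 : ∑ e : E, (w e Aᶜ + w e Bᶜ) = ∑ e : E, (w e (A ∪ B)ᶜ + if e ∈ N then 1 else 0) := by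
      refine Finset.sum_congr rfl fun e _ => ?_
      have h := hno e
      have da := fun h : (ends e).1 ∈ A => Finset.disjoint_left.1 hd h
      have db := fun h : (ends e).2 ∈ A => Finset.disjoint_left.1 hd h
      simp only [w, Finset.mem_compl, Finset.mem_union, not_or]
      by_cases a1 : (ends e).1 ∈ A <;> by_cases a2 : (ends e).2 ∈ A <;>
        by_cases b1 : (ends e).1 ∈ B <;> by_cases b2 : (ends e).2 ∈ B <;>
        by_cases hn : e ∈ N <;> simp [a1, a2, b1, b2, hn] at h da db ⊢ <;> norm_num
    simp only [Finset.sum_add_distrib, ← e2] at e3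
    simp only [q, e1, Finset.sum_union hd, htot]
    linarith
  refine ⟨⟨fun h S hS => ?_, fun h S hne hp => ?_⟩, ⟨fun h S hS => ?_, fun h S hne hp => ?_⟩⟩
  · refine h S ?_ ?_
    · obtain ⟨⟨x⟩, -⟩ := hS.1
      exact ⟨x.1, x.2⟩
    · obtain ⟨⟨⟨y, hy⟩⟩, -⟩ := hS.2
      intro hu
      rw [hu] at hy
      exact Finset.mem_compl.1 hy (Finset.mem_univ y)
  · rw [← sub_nonneg, hq]
    refine Groth.Agent.GraphCutLib.induction_elementary ends hconn (fun S => 0 ≤ q S)
      (fun A B hd hno a b => ?_) (fun A B hd hno a b => ?_) (fun S hS => ?_) hne hp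
    · rw [hadd A B hd hno]; exact add_nonneg a b
    · rw [hcompl A B hd hno]; exact add_nonneg a b
    · rw [← hq, sub_nonneg]; exact h S hS
  · refine h S ?_ ?_
    · obtain ⟨⟨x⟩, -⟩ := hS.1
      exact ⟨x.1, x.2⟩
    · obtain ⟨⟨⟨y, hy⟩⟩, -⟩ := hS.2
      intro hu
      rw [hu] at hy
      exact Finset.mem_compl.1 hy (Finset.mem_univ y)
  · rw [← sub_pos, hq]
    refine Groth.Agent.GraphCutLib.induction_elementary ends hconn (fun S => 0 < q S)
      (fun A B hd hno a b => ?_) (fun A B hd hno a b => ?_) (fun S hS => ?_) hne hp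
    · rw [hadd A B hd hno]; exact add_pos a b
    · rw [hcompl A B hd hno]; exact add_pos a b
    · rw [← hq, sub_pos]; exact h S hS

end Groth.Agent.S18374
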