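import Groth.Statements.S18375
import Groth.Agent.GraphCutLib.Flow
-- import your own Groth.Agent.* helpers here

set_option autoImplicit false
universe u
open PhiStab

namespace Groth.Agent.S18375

open PhiStab in
/-- Let (V, E, ends) be a finite multigraph and T a set of edges forming a spanning tree (the spanning
subgraph with edge set T is connected and contains no circuit), b an integer and φ a nondegenerate
real weighting of the vertices with Σ_v φ v = b. Then there is a unique integer multidegree m for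
which the sheaf datum (m, Tᶜ), not locally free exactly at the edges outside T, has total degree b
and is φ-stable. This is the statement that a stable pointed curve with this dual graph carries a
φ-stable rank-1 torsion-free sheaf of degree g - 1 = b failing to be locally free exactly at the
nodes outside T, of uniquely determined multidegree, written for the combinatorial datum. -/
theorem result {V E : Type u} [Fintype V] [Fintype E] [DecidableEq V] [DecidableEq E]
    (ends : E → V × V) (T : Finset E)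
    (hT : DualGr.IsTree (spanEnds ends T)) (b : ℤ) (φ : V → ℝ) (hφ : (∑ v : V, φ v) = (b : ℝ))
    (hnd : Nondegenerate ends φ) :
    ∃! m : V → ℤ, totDeg m Tᶜ = b ∧ IsStable ends φ m Tᶜ := by
  classical
  obtain ⟨m, hdeg, hss⟩ := Groth.Agent.GraphCutLib.exists_semistable ends T hT.1 b φ hφ
  refine ⟨m, ⟨hdeg, hnd m Tᶜ (by rw [hdeg, hφ]) hss⟩, ?_⟩
  rintro m' ⟨hdeg', hst'⟩
  have hst : IsStable ends φ m Tᶜ := hnd m Tᶜ (by rw [hdeg, hφ]) hss
  let d : V → ℝ := fun v => (m' v : ℝ) - m v
  have hsum : ∑ v, d v = 0 := by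
    have : ((totDeg m' Tᶜ : ℤ) : ℝ) = (totDeg m Tᶜ : ℤ) := by rw [hdeg, hdeg']
    simp only [totDeg] at this
    push_cast at this
    simp only [d, Finset.sum_sub_distrib]
    linarith
  obtain ⟨h, hh⟩ := Groth.Agent.GraphCutLib.exists_flow ends T hT.1 d hsum
  have hzero : ∀ e ∈ T, h e = 0 := by
    intro e he
    let S : Finset V := side (spanEnds ends T) ⟨e, he⟩
    have hf : (ends e).1 ∈ S := by
      simp only [S, side, Finset.mem_filter, Finset.mem_univ, true_and]
      exact Relation.ReflTransGen.refl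
    have hs : (ends e).2 ∉ S :=
      Groth.Agent.GraphCutLib.snd_notMem_side (spanEnds ends T) hT.2 ⟨e, he⟩
    have hclosed : ∀ e' ∈ T, e' ≠ e → ((ends e').1 ∈ S ↔ (ends e').2 ∈ S) := by
      intro e' he' hne
      simp only [S, side, Finset.mem_filter, Finset.mem_univ, true_and]
      exact ⟨fun p => p.tail ⟨⟨⟨e', he'⟩, Finset.mem_erase.2 ⟨fun q => hne (congrArg Subtype.val q),
          Finset.mem_univ _⟩⟩, Or.inl rfl⟩,
        fun p => p.tail ⟨⟨⟨e', he'⟩, Finset.mem_erase.2 ⟨fun q => hne (congrArg Subtype.val q),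
          Finset.mem_univ _⟩⟩, Or.inr rfl⟩⟩
    have hone : ∀ f : E → ℝ, ∑ e' ∈ T, f e' *
        (Groth.Agent.GraphCutLib.ind S (ends e').1 - Groth.Agent.GraphCutLib.ind S (ends e').2) = f e := by
      intro f
      rw [Finset.sum_eq_single_of_mem e he]
      · simp [Groth.Agent.GraphCutLib.ind, hf, hs]
      · intro e' he' hne
        simp [Groth.Agent.GraphCutLib.ind, hclosed e' he' hne]
    have hcut : ∀ R : Finset V, R = S ∨ R = Sᶜ → ∑ e' ∈ T,
        |Groth.Agent.GraphCutLib.ind R (ends e').1 - Groth.Agent.GraphCutLib.ind R (ends e').2| = 1 := by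
      intro R hR
      rw [Finset.sum_eq_single_of_mem e he]
      · rcases hR with rfl | rfl <;> simp [Groth.Agent.GraphCutLib.ind, hf, hs]
      · intro e' he' hne
        rcases hR with rfl | rfl <;> simp [Groth.Agent.GraphCutLib.ind, hclosed e' he' hne]
    have hne1 : S ≠ Finset.univ := fun q => hs (q ▸ Finset.mem_univ _)
    have hne2 : Sᶜ ≠ Finset.univ := fun q =>
      (Finset.mem_compl.1 (q ▸ Finset.mem_univ (ends e).1 : (ends e).1 ∈ Sᶜ)) hf
    have bound : ∀ x : V → ℤ, totDeg x Tᶜ = b → IsStable ends φ x Tᶜ →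
        |∑ v ∈ S, ((x v : ℝ) - Groth.Agent.GraphCutLib.tgt ends T φ v)| < 1 / 2 := by
      intro x hx hxs
      have a1 := sub_pos.2 (hxs S ⟨_, hf⟩ hne1)
      have a2 := sub_pos.2 (hxs Sᶜ ⟨_, Finset.mem_compl.2 hs⟩ hne2)
      rw [Groth.Agent.GraphCutLib.excess, hcut _ (Or.inl rfl)] at a1
      rw [Groth.Agent.GraphCutLib.excess, hcut _ (Or.inr rfl)] at a2
      have a3 : ∑ v, ((x v : ℝ) - Groth.Agent.GraphCutLib.tgt ends T φ v) = 0 := by
        rw [Finset.sum_sub_distrib, Groth.Agent.GraphCutLib.sum_tgt_univ, hφ, ← hx, totDeg]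
        push_cast
        ring
      rw [← Finset.sum_add_sum_compl S] at a3
      rw [abs_lt]
      constructor <;> linarith
    have b1 := abs_lt.1 (bound m hdeg hst)
    have b2 := abs_lt.1 (bound m' hdeg' hst')
    have b3 := Groth.Agent.GraphCutLib.sum_dv ends T h S
    rw [hh, hone] at b3
    simp only [Finset.sum_sub_distrib] at b1 b2
    simp only [d, Finset.sum_sub_distrib] at b3
    have c1 : ((∑ v ∈ S, m' v) : ℤ) = ∑ v ∈ S, m v := by
      have l1 : (∑ v ∈ S, (m' v : ℝ)) < (∑ v ∈ S, (m v : ℝ)) + 1 := by linarith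
      have l2 : (∑ v ∈ S, (m v : ℝ)) < (∑ v ∈ S, (m' v : ℝ)) + 1 := by linarith
      have l1' : (∑ v ∈ S, m' v) < (∑ v ∈ S, m v) + 1 := by exact_mod_cast l1
      have l2' : (∑ v ∈ S, m v) < (∑ v ∈ S, m' v) + 1 := by exact_mod_cast l2
      omega
    have c2 : (∑ v ∈ S, (m' v : ℝ)) = ∑ v ∈ S, (m v : ℝ) := by exact_mod_cast c1
    linarith
  funext v
  have hv := congrFun hh v
  simp only [Groth.Agent.GraphCutLib.dv, LinearMap.coe_mk, AddHom.coe_mk, d] at hv
  rw [Finset.sum_eq_zero fun e he => by rw [hzero e he, zero_mul]] at hv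
  exact_mod_cast (by linarith : (m' v : ℝ) = m v)

end Groth.Agent.S18375
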