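import Groth.Statements.S18376
import Groth.Agent.GraphCutLib.Flow
import Groth.Agent.S18374
-- import your own Groth.Agent.* helpers here

set_option autoImplicit false
universe u
open PhiStab

namespace Groth.Agent.S18376

open PhiStab in
/-- Let (V, E, ends) be a connected finite multigraph, b an integer, and φ₁, φ₂ real weightings of the
vertices with Σ_v φ₁ v = Σ_v φ₂ v = b, φ₁ nondegenerate. Then every φ₁-stable sheaf datum (m, N) of
total degree b is φ₂-semistable if and only if φ₂ lies in the closed stability polytope of φ₁, that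
is, for every elementary vertex set S and every integer d with d - Σ_{v ∈ S} φ₁ v + cut S / 2 > 0
one has d - Σ_{v ∈ S} φ₂ v + cut S / 2 ≥ 0. Membership in the closure of the polytope is expressed
by this half-space condition, the form in which the source's proof uses it; the sheaves of degree g
- 1 = b on stable pointed curves with this dual graph enter through their combinatorial data. -/
theorem result {V E : Type u} [Fintype V] [Fintype E] [DecidableEq V] [DecidableEq E]
    (ends : E → V × V)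
    (hconn : LabGraph.Connected ends) (b : ℤ) (φ₁ φ₂ : V → ℝ) (h₁ : (∑ v : V, φ₁ v) = (b : ℝ))
    (h₂ : (∑ v : V, φ₂ v) = (b : ℝ)) (hnd : Nondegenerate ends φ₁) :
    (∀ (m : V → ℤ) (N : Finset E), totDeg m N = b → IsStable ends φ₁ m N → IsSemistable ends φ₂ m N) ↔
      InClosedPolytope ends φ₁ φ₂ := by
  classical
  refine ⟨fun h S hS d hd => ?_, fun hP m N hdeg hst => ?_⟩
  · obtain ⟨⟨⟨s, hs⟩⟩, hS1⟩ := hS.1
    obtain ⟨⟨⟨s', hs'⟩⟩, hS2⟩ := hS.2
    obtain ⟨e₀, he₀⟩ : ∃ e₀, ((ends e₀).1 ∈ S ∧ (ends e₀).2 ∉ S) ∨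
        ((ends e₀).1 ∉ S ∧ (ends e₀).2 ∈ S) := by
      have hc := Groth.Agent.GraphCutLib.exists_crossing ends hconn (A := S) ⟨s, hs⟩ ⟨s', hs'⟩
      simp only [Groth.Agent.GraphCutLib.NoEdge, not_forall, not_not, Finset.mem_compl] at hc
      obtain ⟨e, he⟩ := hc
      exact ⟨e, he.imp id And.symm⟩
    let T : Finset E := inner ends S ∪ inner ends Sᶜ ∪ {e₀}
    have hT : LabGraph.Connected (spanEnds ends T) := by
      have hin : ∀ v w, v ∈ S → w ∈ S →
          Relation.ReflTransGen (LabGraph.Adj (spanEnds ends T)) v w := fun v w hv hw =>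
        Groth.Agent.GraphCutLib.lift_path ends
          (Finset.subset_union_left.trans Finset.subset_union_left) (hS1 ⟨v, hv⟩ ⟨w, hw⟩)
      have hout : ∀ v w, v ∈ Sᶜ → w ∈ Sᶜ →
          Relation.ReflTransGen (LabGraph.Adj (spanEnds ends T)) v w := fun v w hv hw =>
        Groth.Agent.GraphCutLib.lift_path ends
          (Finset.subset_union_right.trans Finset.subset_union_left) (hS2 ⟨v, hv⟩ ⟨w, hw⟩)
      obtain ⟨x, y, hx, hy, hxy⟩ : ∃ x y, x ∈ S ∧ y ∈ Sᶜ ∧ (ends e₀ = (x, y) ∨ ends e₀ = (y, x)) := by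
        rcases he₀ with ⟨a, c⟩ | ⟨a, c⟩
        · exact ⟨_, _, a, Finset.mem_compl.2 c, Or.inl rfl⟩
        · exact ⟨_, _, c, Finset.mem_compl.2 a, Or.inr rfl⟩
      have hstep : LabGraph.Adj (spanEnds ends T) x y := ⟨⟨e₀, by simp [T]⟩, hxy⟩
      have hstep' : LabGraph.Adj (spanEnds ends T) y x := ⟨⟨e₀, by simp [T]⟩, hxy.symm⟩
      refine ⟨⟨s⟩, fun v w => ?_⟩
      by_cases hv : v ∈ S <;> by_cases hw : w ∈ S
      · exact hin v w hv hw
      · exact ((hin v x hv hx).tail hstep).trans (hout y w hy (Finset.mem_compl.2 hw))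
      · exact ((hout v y (Finset.mem_compl.2 hv) hy).tail hstep').trans (hin x w hx hw)
      · exact hout v w (Finset.mem_compl.2 hv) (Finset.mem_compl.2 hw)
    obtain ⟨m, hdeg, hss⟩ := Groth.Agent.GraphCutLib.exists_semistable ends T hT b φ₁ h₁
    have hst : IsStable ends φ₁ m Tᶜ := hnd m Tᶜ (by rw [hdeg, h₁]) hss
    have hnS : S ≠ Finset.univ := fun e => by simp [e] at hs'
    have hnS' : Sᶜ ≠ Finset.univ := fun e => by
      have := Finset.mem_compl.1 (e ▸ Finset.mem_univ s : s ∈ Sᶜ)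
      exact this hs
    have g1 := hst S ⟨s, hs⟩ hnS
    have g2 := hst Sᶜ ⟨s', hs'⟩ hnS'
    have g3 := h m Tᶜ hdeg hst S ⟨s, hs⟩ hnS
    have e1 : Tᶜ ∩ inner ends S = ∅ := by
      ext e
      simp [T]
      tauto
    have e2 : Tᶜ ∩ inner ends Sᶜ = ∅ := by
      ext e
      simp [T]
    let C := Finset.univ.filter fun e : E =>
      ((ends e).1 ∈ S ∧ (ends e).2 ∉ S) ∨ ((ends e).1 ∉ S ∧ (ends e).2 ∈ S)
    have e3 : LabGraph.cut ends Sᶜ = LabGraph.cut ends S := by
      simp only [LabGraph.cut, Finset.mem_compl, not_not]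
      congr 1
      ext e
      simp only [Finset.mem_filter]
      tauto
    have e4 : Tᶜ.card + 1 = LabGraph.cut ends S := by
      have hC : Tᶜ = C.erase e₀ := by
        ext e
        simp only [T, C, PhiStab.inner, Finset.mem_compl, Finset.mem_union, Finset.mem_filter, Finset.mem_univ,
          true_and, Finset.mem_singleton, Finset.mem_erase]
        tauto
      have he : e₀ ∈ C := Finset.mem_filter.2 ⟨Finset.mem_univ _, he₀⟩
      rw [hC, Finset.card_erase_add_one he]
      rfl
    have e5 : (∑ v ∈ S, (m v : ℝ)) + ∑ v ∈ Sᶜ, (m v : ℝ) = (b : ℝ) - (Tᶜ.card : ℝ) := by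
      rw [Finset.sum_add_sum_compl]
      have : ((totDeg m Tᶜ : ℤ) : ℝ) = b := by rw [hdeg]
      rw [totDeg] at this
      push_cast at this
      linarith
    have e6 := Finset.sum_add_sum_compl S φ₁
    simp only [degOn, e1, e2, e3, Finset.card_empty] at g1 g2 g3
    push_cast at g1 g2 g3
    simp only [ell] at hd ⊢
    rw [← e4] at g1 g2 g3 hd ⊢
    push_cast at g1 g2 g3 hd ⊢
    have key : (∑ v ∈ S, (m v : ℝ)) < (d : ℝ) + 1 := by linarith
    have key' : (∑ v ∈ S, m v) ≤ d := Int.lt_add_one_iff.1 (by exact_mod_cast key)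
    have key'' : (∑ v ∈ S, (m v : ℝ)) ≤ (d : ℝ) := by exact_mod_cast key'
    linarith
  · refine ((Groth.Agent.S18374.result ends hconn φ₂ m N (by rw [h₂, hdeg])).1).2 fun S hS => ?_
    have hp := hP S hS (degOn ends m N S)
    simp only [ell] at hp
    have hs := ((Groth.Agent.S18374.result ends hconn φ₁ m N (by rw [h₁, hdeg])).2).1 hst S hS
    linarith [hp (by linarith)]

end Groth.Agent.S18376
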