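import Groth.Statements.S18377
import Mathlib
import Groth.Agent.Verlinde.Orth

set_option autoImplicit false
open Complex
open VerlindeComb

namespace Groth.Agent.S18377

/-- Let r, k ≥ 1 be integers and v_1 > v_2 > ⋯ > v_r ≥ 0 integers below r + k; put z_j = exp(2πi v_j /
(r + k)) and, for μ = (μ_1, …, μ_r), let S_μ(z) = det(z_j^{μ_i + r - i}) / det(z_j^{r - i}) be the
value of the Schur polynomial (the z_j are distinct, so the Vandermonde denominator is nonzero).
Then, summing over all μ with k > μ_1 ≥ ⋯ ≥ μ_r ≥ 0 and writing μ* = (k - μ_r, …, k - μ_1), one has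
Σ_μ S_μ(z) S_{μ*}(z) = exp(2πi k (v_1 + ⋯ + v_r) / (r + k)) · k (r + k)^{r-1} / ∏_{i<j} (2 sin(π
(v_i - v_j) / (r + k)))². Indices are 0-based below: μ i stands for μ_{i+1}. -/
theorem result (r k : ℕ) (hr : 1 ≤ r) (hk : 1 ≤ k)
    (v : Fin r → ℕ) (hv : StrictAnti v) (hvlt : ∀ i, v i < r + k)
    (z : Fin r → ℂ) (hz : ∀ j, z j = Complex.exp (2 * Real.pi * Complex.I * (v j : ℂ) / ((r : ℂ) + k)))
    (S : (Fin r → ℕ) → ℂ)
    (hS : ∀ μ : Fin r → ℕ, S μ =
      (Matrix.of fun i j : Fin r => z j ^ (μ i + (r - 1 - (i : ℕ)))).det /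
        (Matrix.of fun i j : Fin r => z j ^ (r - 1 - (i : ℕ))).det) :
    (∑ μ ∈ (Finset.univ : Finset (Fin r → Fin k)).filter (fun μ : Fin r → Fin k => Antitone μ),
        S (fun i => (μ i : ℕ)) * S (fun i => k - (μ (Fin.rev i) : ℕ))) =
      Complex.exp (2 * Real.pi * Complex.I * (k : ℂ) * ((∑ j, v j : ℕ) : ℂ) / ((r : ℂ) + k)) *
        ((k : ℂ) * ((r : ℂ) + k) ^ (r - 1)) /
        (∏ p ∈ (Finset.univ : Finset (Fin r × Fin r)).filter (fun p => p.1 < p.2),
          (((2 : ℝ) * Real.sin (Real.pi * ((v p.1 : ℝ) - (v p.2 : ℝ)) / ((r : ℝ) + k))) ^ 2 : ℝ) : ℂ) := by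
  classical
  obtain ⟨N, hN⟩ : ∃ N, N = r + k := ⟨_, rfl⟩
  have hNC : (N : ℂ) = (r : ℂ) + k := by rw [hN]; push_cast; ring
  let x : Fin r → ℤ := fun j => (v j : ℤ)
  let ex : (Fin r → Fin k) → Fin r → ℕ := fun μ i => (μ i : ℕ) + (r - 1 - (i : ℕ))
  have hbij : ∀ g : (Fin r → ℤ) → ℂ,
      ∑ μ ∈ (Finset.univ : Finset (Fin r → Fin k)).filter (fun μ : Fin r → Fin k => Antitone μ), g (fun i => ((ex μ i : ℕ) : ℤ)) =
      ∑ y ∈ (Finset.univ : Finset (Fin r → Fin (N - 1))).filter (fun y : Fin r → Fin (N - 1) => StrictAnti y), g (fun i => ((y i : ℕ) : ℤ)) := by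
    intro g
    refine Finset.sum_bij (fun μ _ i => (⟨ex μ i, by have := (μ i).2; have := i.2; simp only [ex]; omega⟩ : Fin (N - 1))) ?_ ?_ ?_ ?_
    · intro μ hμ
      refine Finset.mem_filter.mpr ⟨Finset.mem_univ _, fun a b hab => ?_⟩
      have h3 : (μ b : ℕ) ≤ (μ a : ℕ) := (Finset.mem_filter.mp hμ).2 hab.le
      have := b.2; have hab' : (a : ℕ) < b := hab
      simp only [Fin.lt_def, ex]; omega
    · intro μ _ ν _ h
      funext i
      have := congrArg Fin.val (congrFun h i)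
      simp only [ex] at this
      exact Fin.ext (by omega)
    · intro y hy
      have h1 := (Finset.mem_filter.mp hy).2
      have hdesc : ∀ (d : ℕ) (a b : Fin r), (b : ℕ) = (a : ℕ) + d → (y b : ℕ) + d ≤ (y a : ℕ) := by
        intro d
        induction d with
        | zero => intro a b hb; rw [show b = a from Fin.ext (by omega)]; simp
        | succ d ih =>
          intro a b hb
          have hbb := b.2
          have h3 := ih a ⟨(a : ℕ) + d, by omega⟩ rfl
          have h4 : (y b : ℕ) < (y (⟨(a : ℕ) + d, by omega⟩ : Fin r) : ℕ) := h1 (Fin.lt_def.mpr (by simp; omega))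
          omega
      have hge : ∀ i : Fin r, r - 1 - (i : ℕ) ≤ (y i : ℕ) := fun i => by
        have := hdesc (r - 1 - (i : ℕ)) i ⟨r - 1, by omega⟩ (by simp only; have := i.2; omega)
        omega
      have hle : ∀ i : Fin r, (y i : ℕ) + (i : ℕ) < N - 1 := fun i => by
        have := hdesc (i : ℕ) ⟨0, by omega⟩ i (by simp)
        have := (y ⟨0, by omega⟩).2
        omega
      refine ⟨fun i => ⟨(y i : ℕ) - (r - 1 - (i : ℕ)), by have := hge i; have := hle i; have := i.2; omega⟩,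
        Finset.mem_filter.mpr ⟨Finset.mem_univ _, fun a b hab => ?_⟩, ?_⟩
      · have hab' : (a : ℕ) ≤ b := hab
        have := hdesc ((b : ℕ) - a) a b (by omega)
        have := hge b; have := b.2
        exact Fin.le_def.mpr (by simp only; omega)
      · funext i
        have := hge i
        exact Fin.ext (by simp only [ex]; omega)
    · intros; rfl
  let D0 := (Matrix.of fun i j : Fin r => z j ^ (r - 1 - (i : ℕ))).det
  let g : (Fin r → ℤ) → ℂ := fun y => Verlinde.D N x y * Verlinde.D N (fun i => -x i) y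
  have hterm : ∀ μ : Fin r → Fin k, S (fun i => (μ i : ℕ)) * S (fun i => k - (μ (Fin.rev i) : ℕ)) =
      ((Equiv.Perm.sign (Fin.revPerm (n := r)) : ℤ) : ℂ) * Verlinde.E (((r : ℂ) + k - 1) * (∑ j, (x j : ℂ)) / N) / (D0 * D0) * g (fun i => ((ex μ i : ℕ) : ℤ)) := by
    intro μ
    have hD1 : (Matrix.of fun i j : Fin r => z j ^ ((μ i : ℕ) + (r - 1 - (i : ℕ)))).det = Verlinde.D N x (fun i => ((ex μ i : ℕ) : ℤ)) := by
      rw [Verlinde.D_comm, Verlinde.D]; congr 1; ext i j
      simp only [Matrix.of_apply, hz, Verlinde.E, ← Complex.exp_nat_mul, hNC, ex, x]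
      congr 1; push_cast; ring
    have hD2 : (Matrix.of fun i j : Fin r => z j ^ ((k - (μ (Fin.rev i) : ℕ)) + (r - 1 - (i : ℕ)))).det =
        ((Equiv.Perm.sign (Fin.revPerm (n := r)) : ℤ) : ℂ) * (Verlinde.E (((r : ℂ) + k - 1) * (∑ j, (x j : ℂ)) / N) * Verlinde.D N (fun i => -x i) (fun i => ((ex μ i : ℕ) : ℤ))) := by
      have h1 : (Matrix.of fun i j : Fin r => z j ^ ((k - (μ (Fin.rev i) : ℕ)) + (r - 1 - (i : ℕ)))).det =
          Verlinde.D N ((fun i => -((ex μ i : ℕ) : ℤ) + ((r : ℤ) + k - 1)) ∘ Fin.revPerm) x := by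
        rw [Verlinde.D]; congr 1; ext i j
        simp only [Matrix.of_apply, hz, Verlinde.E, ← Complex.exp_nat_mul, hNC, Function.comp_apply, Fin.revPerm_apply]
        congr 1
        have h2 : ((k - (μ (Fin.rev i) : ℕ) + (r - 1 - (i : ℕ)) : ℕ) : ℤ) = -((ex μ (Fin.rev i) : ℕ) : ℤ) + ((r : ℤ) + k - 1) := by
          have := (μ (Fin.rev i)).2; have := i.2
          simp only [ex, Fin.val_rev]; omega
        rw [← h2]; simp only [x]; push_cast; ring
      have h3 : Verlinde.D N (fun i => -((ex μ i : ℕ) : ℤ)) x = Verlinde.D N (fun i => -x i) (fun i => ((ex μ i : ℕ) : ℤ)) := by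
        rw [Verlinde.D_comm N (fun i => -x i), Verlinde.D, Verlinde.D]; congr 1; ext i j
        simp
      rw [h1, Verlinde.D_comp_left, Verlinde.D_add_const_left, h3]
      push_cast; rfl
    rw [hS, hS, hD1, hD2]
    simp only [g, D0]
    ring
  rw [Finset.sum_congr rfl (fun μ _ => hterm μ), ← Finset.mul_sum, hbij g]
  have hX : ∑ y ∈ (Finset.univ : Finset (Fin r → Fin (N - 1))).filter (fun y : Fin r → Fin (N - 1) => StrictAnti y), g (fun i => ((y i : ℕ) : ℤ)) = (k : ℂ) * ((r : ℂ) + k) ^ (r - 1) := by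
    have := Verlinde.cauchy_binet (fun i (t : Fin (N - 1)) => Verlinde.E ((x i : ℂ) * (((t : ℕ) : ℤ) : ℂ) / N))
      (fun i (t : Fin (N - 1)) => Verlinde.E (((-x i : ℤ) : ℂ) * (((t : ℕ) : ℤ) : ℂ) / N))
    rw [show ∑ y ∈ (Finset.univ : Finset (Fin r → Fin (N - 1))).filter (fun y : Fin r → Fin (N - 1) => StrictAnti y), g (fun i => ((y i : ℕ) : ℤ)) = _ from this]
    let u : Fin r → ℂ := fun i => -Verlinde.E (-((x i : ℂ) / N)) / N
    let w : Fin r → ℂ := fun l => Verlinde.E ((x l : ℂ) / N)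
    have hG : (Matrix.of fun i l => ∑ t : Fin (N - 1), Verlinde.E ((x i : ℂ) * (((t : ℕ) : ℤ) : ℂ) / N) * Verlinde.E (((-x l : ℤ) : ℂ) * (((t : ℕ) : ℤ) : ℂ) / N)) =
        (N : ℂ) • (1 + Matrix.replicateCol Unit u * Matrix.replicateRow Unit w) := by
      ext i l
      obtain ⟨M, hM⟩ : ∃ M, N = M + 1 := ⟨N - 1, by omega⟩
      have hN0 : (N : ℂ) ≠ 0 := Nat.cast_ne_zero.mpr (by omega)
      have hg := Verlinde.geom N (by omega) (x i - x l)
      rw [show (if (N : ℤ) ∣ x i - x l then (N : ℂ) else 0) = if i = l then (N : ℂ) else 0 from ?_] at hg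
      · simp only [Matrix.of_apply, Matrix.smul_apply, Matrix.add_apply, Matrix.one_apply, Matrix.mul_apply, Matrix.replicateCol_apply,
          Matrix.replicateRow_apply, Finset.univ_unique, Finset.sum_singleton, smul_eq_mul, mul_add, mul_ite, mul_one, mul_zero, u, w]
        rw [← hg]
        have hsplit : ∑ t : Fin N, Verlinde.E (((x i - x l : ℤ) : ℂ) * ((t : ℕ) : ℂ) / N) =
            (∑ t : Fin (N - 1), Verlinde.E ((x i : ℂ) * (((t : ℕ) : ℤ) : ℂ) / N) * Verlinde.E (((-x l : ℤ) : ℂ) * (((t : ℕ) : ℤ) : ℂ) / N)) +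
            Verlinde.E (((x i - x l : ℤ) : ℂ) * (((N - 1 : ℕ) : ℕ) : ℂ) / N) := by
          rw [Fin.sum_univ_eq_sum_range (fun t => Verlinde.E (((x i - x l : ℤ) : ℂ) * (t : ℂ) / N)),
            show Finset.range N = Finset.range ((N - 1) + 1) by rw [show N - 1 + 1 = N by omega], Finset.sum_range_succ,
            ← Fin.sum_univ_eq_sum_range (fun t => Verlinde.E (((x i - x l : ℤ) : ℂ) * (t : ℂ) / N))]
          congr 1
          refine Finset.sum_congr rfl fun t _ => ?_
          rw [← Verlinde.E_add]; congr 1; push_cast; ring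
        have hlast : Verlinde.E (((x i - x l : ℤ) : ℂ) * (((N - 1 : ℕ) : ℕ) : ℂ) / N) = Verlinde.E (-((x i : ℂ) / N)) * Verlinde.E ((x l : ℂ) / N) := by
          rw [← Verlinde.E_add, show ((x i - x l : ℤ) : ℂ) * (((N - 1 : ℕ) : ℕ) : ℂ) / N = (-((x i : ℂ) / N) + (x l : ℂ) / N) + ((x i - x l : ℤ) : ℂ) by
            rw [Nat.cast_sub (by omega)]; push_cast; field_simp; ring, Verlinde.E_add, Verlinde.E_int, mul_one]
        rw [hsplit, hlast]
        generalize (∑ t : Fin (N - 1), Verlinde.E ((x i : ℂ) * (((t : ℕ) : ℤ) : ℂ) / N) * Verlinde.E (((-x l : ℤ) : ℂ) * (((t : ℕ) : ℤ) : ℂ) / N)) = G0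
        field_simp
        ring
      · by_cases hil : i = l
        · subst hil; simp
        · rw [if_neg hil, if_neg]
          intro hd
          have := Int.eq_zero_of_abs_lt_dvd hd (by simp only [x]; rw [abs_lt]; have := hvlt i; have := hvlt l; omega)
          simp only [x] at this
          exact hil (hv.injective (by omega))
    rw [hG, Matrix.det_smul, Fintype.card_fin, Matrix.det_one_add_replicateCol_mul_replicateRow]
    have hdot : w ⬝ᵥ u = -(r : ℂ) / N := by
      rw [dotProduct, show -(r : ℂ) / N = ∑ _i : Fin r, -(1 : ℂ) / N by simp; ring]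
      refine Finset.sum_congr rfl fun i _ => ?_
      simp only [u, w]
      rw [← mul_div_assoc, mul_neg, ← Verlinde.E_add, add_neg_cancel, Verlinde.E_zero]
    rw [hdot, hNC]
    have h0 : (r : ℂ) + k ≠ 0 := by exact_mod_cast (show r + k ≠ 0 by omega)
    conv_lhs => rw [show r = r - 1 + 1 by omega, pow_succ]
    rw [show r - 1 + 1 = r by omega]
    field_simp
    ring
  rw [hX]
  have hP := Verlinde.P_eq N x
  have hden : (∏ p ∈ (Finset.univ : Finset (Fin r × Fin r)).filter (fun p => p.1 < p.2),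
          (((2 : ℝ) * Real.sin (Real.pi * ((v p.1 : ℝ) - (v p.2 : ℝ)) / ((r : ℝ) + k))) ^ 2 : ℝ) : ℂ) =
      Verlinde.D N (Verlinde.stair r) x * Verlinde.D N (fun i => -Verlinde.stair r i) x := by
    rw [← hP]; simp [x, hN]
  rw [hden, Verlinde.D_neg_stair]
  have hD0 : D0 = Verlinde.D N (Verlinde.stair r) x := by
    simp only [D0]
    rw [Verlinde.D]; congr 1; ext i j
    simp only [Matrix.of_apply, hz, Verlinde.E, ← Complex.exp_nat_mul, hNC, Verlinde.stair, x]
    congr 1; push_cast; ring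
  rw [hD0]
  have hexp : Complex.exp (2 * Real.pi * Complex.I * (k : ℂ) * ((∑ j, v j : ℕ) : ℂ) / ((r : ℂ) + k)) =
      Verlinde.E (((r : ℂ) + k - 1) * (∑ j, (x j : ℂ)) / N) * Verlinde.E (-(((r : ℂ) - 1) * (∑ i, (x i : ℂ))) / N) := by
    rw [← Verlinde.E_add, Verlinde.E, hNC]
    congr 1
    simp only [x]
    push_cast
    ring
  rw [hexp]
  have hs : ((Equiv.Perm.sign (Fin.revPerm (n := r)) : ℤ) : ℂ) * ((Equiv.Perm.sign (Fin.revPerm (n := r)) : ℤ) : ℂ) = 1 := by
    rw [← Int.cast_mul, ← Units.val_mul, Int.units_mul_self]; simp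
  have hs0 : ((Equiv.Perm.sign (Fin.revPerm (n := r)) : ℤ) : ℂ) ≠ 0 := Int.cast_ne_zero.mpr (Units.ne_zero _)
  have hE := Verlinde.E_ne_zero (-(((r : ℂ) - 1) * (∑ i, (x i : ℂ))) / N)
  have hD0' : Verlinde.D N (Verlinde.stair r) x ≠ 0 := Verlinde.D_stair_ne_zero N (by omega) x fun a b hab => hv.injective (by
    have := Int.eq_zero_of_abs_lt_dvd hab (by simp only [x]; rw [abs_lt]; have := hvlt a; have := hvlt b; omega)
    simp only [x] at this
    omega)
  generalize Verlinde.E (-(((r : ℂ) - 1) * (∑ i, (x i : ℂ))) / N) = E2 at hE ⊢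
  generalize Verlinde.E (((r : ℂ) + k - 1) * (∑ j, (x j : ℂ)) / N) = E1
  generalize ((r : ℂ) + k) ^ (r - 1) = PW
  field_simp
  linear_combination (E1 * (k : ℂ) * PW) * hs

end Groth.Agent.S18377
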