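import Groth.Statements.S18378
import Mathlib
import Groth.Agent.Verlinde.Orth

set_option autoImplicit false
open Complex
open VerlindeComb

namespace Groth.Agent.S18378

/-- Let r, k ≥ 1 be integers and v, v' two integer vectors with r + k > v_1 > ⋯ > v_r ≥ 0 and r + k >
v'_1 > ⋯ > v'_r ≥ 0 whose difference v - v' is not a constant vector (a, …, a). Put z_j = exp(2πi
v_j / (r + k)), z'_j = exp(2πi v'_j / (r + k)), let S_μ(w) = det(w_j^{μ_i + r - i}) / det(w_j^{r -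
i}) be the Schur value at w = z or z', and write |x| for the sum of the coordinates of a vector and
μ* = (k - μ_r, …, k - μ_1). Then the sum over all μ with k ≥ μ_1 ≥ ⋯ ≥ μ_{r-1} ≥ μ_r = 0 of exp(-2πi
|μ| |v| / (r (r + k))) · exp(-2πi |μ*| |v'| / (r (r + k))) · S_μ(z) · S_{μ*}(z') is zero. The
vanishing is the orthogonality of distinct characters and holds exactly for non-equivalent v, v';
for v - v' constant the sum is nonzero. Indices are 0-based below: μ i stands for μ_{i+1}. -/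
theorem result (r k : ℕ) (hr : 1 ≤ r)
    (hk : 1 ≤ k) (v v' : Fin r → ℕ) (hv : StrictAnti v) (hvlt : ∀ i, v i < r + k) (hv' : StrictAnti v')
    (hv'lt : ∀ i, v' i < r + k) (hne : ¬ ∃ a : ℤ, ∀ i, (v i : ℤ) - (v' i : ℤ) = a)
    (z z' : Fin r → ℂ) (hz : ∀ j, z j = Complex.exp (2 * Real.pi * Complex.I * (v j : ℂ) / ((r : ℂ) + k)))
    (hz' : ∀ j, z' j = Complex.exp (2 * Real.pi * Complex.I * (v' j : ℂ) / ((r : ℂ) + k)))
    (S S' : (Fin r → ℕ) → ℂ)
    (hS : ∀ μ : Fin r → ℕ, S μ =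
      (Matrix.of fun i j : Fin r => z j ^ (μ i + (r - 1 - (i : ℕ)))).det /
        (Matrix.of fun i j : Fin r => z j ^ (r - 1 - (i : ℕ))).det)
    (hS' : ∀ μ : Fin r → ℕ, S' μ =
      (Matrix.of fun i j : Fin r => z' j ^ (μ i + (r - 1 - (i : ℕ)))).det /
        (Matrix.of fun i j : Fin r => z' j ^ (r - 1 - (i : ℕ))).det) :
    (∑ μ ∈ (Finset.univ : Finset (Fin r → Fin (k + 1))).filter
        (fun μ : Fin r → Fin (k + 1) => Antitone μ ∧ ∀ i : Fin r, (i : ℕ) = r - 1 → (μ i : ℕ) = 0),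
      Complex.exp (-(2 * Real.pi * Complex.I * ((∑ i, (μ i : ℕ) : ℕ) : ℂ) * ((∑ j, v j : ℕ) : ℂ) /
          ((r : ℂ) * ((r : ℂ) + k)))) *
      Complex.exp (-(2 * Real.pi * Complex.I * ((∑ i, (k - (μ (Fin.rev i) : ℕ)) : ℕ) : ℂ) *
          ((∑ j, v' j : ℕ) : ℂ) / ((r : ℂ) * ((r : ℂ) + k)))) *
      S (fun i => (μ i : ℕ)) * S' (fun i => k - (μ (Fin.rev i) : ℕ))) = 0 := by
  classical
  obtain ⟨N, hN⟩ : ∃ N, N = r + k := ⟨_, rfl⟩
  have hNC : (N : ℂ) = (r : ℂ) + k := by rw [hN]; push_cast; ring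
  let e : Fin r → ℤ := fun i => (v i : ℤ)
  let e' : Fin r → ℤ := fun i => -(v' i : ℤ)
  have key := Verlinde.orth N (by omega) hr e e' (∑ i, e i + ∑ i, e' i) rfl (fun i l a b => by
      simp only [e, e']; have := hvlt i; have := hv'lt b; omega) (fun π c => by
      by_contra! hall
      have hmono : StrictMono ⇑π := fun a b hab => by
        by_contra hle
        rw [not_lt] at hle
        rcases hle.eq_or_lt with h | h
        · exact hab.ne (π.injective h).symm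
        · have h1 := hv hab; have h2 := hv' h
          have := hall a; have := hall b
          simp only [e, e'] at *
          omega
      have hpi : ⇑π = id := (StrictMono.range_inj hmono strictMono_id).mp (by simp [π.surjective.range_eq])
      refine hne ⟨c, fun i => ?_⟩
      have h1 := hall i
      rw [hpi] at h1
      simpa [e, e', sub_eq_add_neg] using h1)
  let ex : (Fin r → Fin (k + 1)) → Fin r → ℕ := fun μ i => (μ i : ℕ) + (r - 1 - (i : ℕ))
  have hexlt : ∀ μ i, ex μ i < N := fun μ i => by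
    have := (μ i).2; have := i.2; simp only [ex]; omega
  let Φ : (Fin r → Fin (k + 1)) → (Fin r → Fin N) := fun μ i => ⟨ex μ i, hexlt μ i⟩
  have hbij : ∀ g : (Fin r → ℤ) → ℂ,
      ∑ μ ∈ (Finset.univ : Finset (Fin r → Fin (k + 1))).filter (fun μ : Fin r → Fin (k + 1) => Antitone μ ∧ ∀ i : Fin r, (i : ℕ) = r - 1 → (μ i : ℕ) = 0), g (fun i => ((ex μ i : ℕ) : ℤ)) =
      ∑ x ∈ (Finset.univ : Finset (Fin r → Fin N)).filter (fun x : Fin r → Fin N => StrictAnti x ∧ ∀ i : Fin r, (i : ℕ) = r - 1 → (x i : ℕ) = 0), g (fun i => ((x i : ℕ) : ℤ)) := by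
    intro g
    refine Finset.sum_bij (fun μ _ => Φ μ) ?_ ?_ ?_ ?_
    · intro μ hμ
      obtain ⟨h1, h2⟩ := (Finset.mem_filter.mp hμ).2
      refine Finset.mem_filter.mpr ⟨Finset.mem_univ _, fun a b hab => ?_, fun i hi => ?_⟩
      · have h3 : (μ b : ℕ) ≤ (μ a : ℕ) := h1 hab.le
        have := b.2; have hab' : (a : ℕ) < b := hab
        simp only [Fin.lt_def, Φ, ex]; omega
      · have := h2 i hi
        simp only [Φ, ex]; omega
    · intro μ _ ν _ h
      funext i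
      have := congrArg Fin.val (congrFun h i)
      simp only [Φ, ex] at this
      exact Fin.ext (by omega)
    · intro x hx
      obtain ⟨h1, h2⟩ := (Finset.mem_filter.mp hx).2
      let l : Fin r := ⟨r - 1, by omega⟩
      have hdesc : ∀ (d : ℕ) (a b : Fin r), (b : ℕ) = (a : ℕ) + d → (x b : ℕ) + d ≤ (x a : ℕ) := by
        intro d
        induction d with
        | zero => intro a b hb; rw [show b = a from Fin.ext (by omega)]; simp
        | succ d ih =>
          intro a b hb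
          have hbb := b.2
          have h3 := ih a ⟨(a : ℕ) + d, by omega⟩ rfl
          have h4 : (x b : ℕ) < (x (⟨(a : ℕ) + d, by omega⟩ : Fin r) : ℕ) := h1 (Fin.lt_def.mpr (by simp; omega))
          omega
      have hge : ∀ i : Fin r, r - 1 - (i : ℕ) ≤ (x i : ℕ) := fun i => by
        have := hdesc (r - 1 - (i : ℕ)) i l (by simp only [l]; have := i.2; omega)
        omega
      have hle : ∀ i : Fin r, (x i : ℕ) + (i : ℕ) < N := fun i => by
        have := hdesc (i : ℕ) ⟨0, by omega⟩ i (by simp)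
        have := (x ⟨0, by omega⟩).2
        omega
      refine ⟨fun i => ⟨(x i : ℕ) - (r - 1 - (i : ℕ)), by have := hge i; have := hle i; have := i.2; omega⟩,
        Finset.mem_filter.mpr ⟨Finset.mem_univ _, fun a b hab => ?_, fun i hi => ?_⟩, ?_⟩
      · have hab' : (a : ℕ) ≤ b := hab
        have := hdesc ((b : ℕ) - a) a b (by omega)
        have := hge b; have := b.2
        exact Fin.le_def.mpr (by simp only; omega)
      · have := h2 i hi; simp only; omega
      · funext i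
        have := hge i
        exact Fin.ext (by simp only [Φ, ex]; omega)
    · intros; rfl
  let C : ℤ := ∑ i, Verlinde.stair r i
  let K : ℂ := (((Equiv.Perm.sign (Fin.revPerm (n := r)) : ℤ) : ℂ)) *
    Verlinde.E (((r : ℂ) + k - 1) * (∑ j, ((v' j : ℤ) : ℂ)) / N) *
    Verlinde.E ((C : ℂ) * ((∑ j, ((v j : ℤ) : ℂ)) - ∑ j, ((v' j : ℤ) : ℂ)) / ((r : ℂ) * N) - (r : ℂ) * k * (∑ j, ((v' j : ℤ) : ℂ)) / ((r : ℂ) * N)) /
    ((Matrix.of fun i j : Fin r => z j ^ (r - 1 - (i : ℕ))).det * (Matrix.of fun i j : Fin r => z' j ^ (r - 1 - (i : ℕ))).det)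
  have hterm : ∀ μ : Fin r → Fin (k + 1),
      Complex.exp (-(2 * Real.pi * Complex.I * ((∑ i, (μ i : ℕ) : ℕ) : ℂ) * ((∑ j, v j : ℕ) : ℂ) / ((r : ℂ) * ((r : ℂ) + k)))) *
        Complex.exp (-(2 * Real.pi * Complex.I * ((∑ i, (k - (μ (Fin.rev i) : ℕ)) : ℕ) : ℂ) * ((∑ j, v' j : ℕ) : ℂ) / ((r : ℂ) * ((r : ℂ) + k)))) *
        S (fun i => (μ i : ℕ)) * S' (fun i => k - (μ (Fin.rev i) : ℕ)) =
      K * (fun x : Fin r → ℤ => Verlinde.E (-((((∑ i, e i + ∑ i, e' i) : ℤ) : ℂ) * ∑ j, (x j : ℂ)) / ((r : ℂ) * N)) * Verlinde.D N e x * Verlinde.D N e' x) (fun i => ((ex μ i : ℕ) : ℤ)) := by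
    intro μ
    have hD1 : (Matrix.of fun i j : Fin r => z j ^ ((μ i : ℕ) + (r - 1 - (i : ℕ)))).det = Verlinde.D N e (fun i => ((ex μ i : ℕ) : ℤ)) := by
      rw [Verlinde.D_comm, Verlinde.D]; congr 1; ext i j
      simp only [Matrix.of_apply, hz, Verlinde.E, ← Complex.exp_nat_mul, hNC, ex, e]
      congr 1; push_cast; ring
    have hD2 : (Matrix.of fun i j : Fin r => z' j ^ ((k - (μ (Fin.rev i) : ℕ)) + (r - 1 - (i : ℕ)))).det =
        ((Equiv.Perm.sign (Fin.revPerm (n := r)) : ℤ) : ℂ) * (Verlinde.E (((r : ℂ) + k - 1) * (∑ j, ((v' j : ℤ) : ℂ)) / N) * Verlinde.D N e' (fun i => ((ex μ i : ℕ) : ℤ))) := by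
      have h1 : (Matrix.of fun i j : Fin r => z' j ^ ((k - (μ (Fin.rev i) : ℕ)) + (r - 1 - (i : ℕ)))).det =
          Verlinde.D N ((fun i => -((ex μ i : ℕ) : ℤ) + ((r : ℤ) + k - 1)) ∘ Fin.revPerm) (fun j => (v' j : ℤ)) := by
        rw [Verlinde.D]; congr 1; ext i j
        simp only [Matrix.of_apply, hz', Verlinde.E, ← Complex.exp_nat_mul, hNC, Function.comp_apply, Fin.revPerm_apply]
        congr 1
        have h2 : ((k - (μ (Fin.rev i) : ℕ) + (r - 1 - (i : ℕ)) : ℕ) : ℤ) = -((ex μ (Fin.rev i) : ℕ) : ℤ) + ((r : ℤ) + k - 1) := by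
          have := (μ (Fin.rev i)).2; have := i.2
          simp only [ex, Fin.val_rev]; omega
        rw [← h2]; push_cast; ring
      have h3 : Verlinde.D N (fun i => -((ex μ i : ℕ) : ℤ)) (fun j => (v' j : ℤ)) = Verlinde.D N e' (fun i => ((ex μ i : ℕ) : ℤ)) := by
        rw [Verlinde.D_comm N e', Verlinde.D, Verlinde.D]; congr 1; ext i j
        simp [e']
      rw [h1, Verlinde.D_comp_left, Verlinde.D_add_const_left, h3]
      push_cast; rfl
    have hexp : Complex.exp (-(2 * Real.pi * Complex.I * ((∑ i, (μ i : ℕ) : ℕ) : ℂ) * ((∑ j, v j : ℕ) : ℂ) / ((r : ℂ) * ((r : ℂ) + k)))) *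
        Complex.exp (-(2 * Real.pi * Complex.I * ((∑ i, (k - (μ (Fin.rev i) : ℕ)) : ℕ) : ℂ) * ((∑ j, v' j : ℕ) : ℂ) / ((r : ℂ) * ((r : ℂ) + k)))) =
        Verlinde.E ((C : ℂ) * ((∑ j, ((v j : ℤ) : ℂ)) - ∑ j, ((v' j : ℤ) : ℂ)) / ((r : ℂ) * N) - (r : ℂ) * k * (∑ j, ((v' j : ℤ) : ℂ)) / ((r : ℂ) * N)) *
          Verlinde.E (-((((∑ i, e i + ∑ i, e' i) : ℤ) : ℂ) * ∑ i, (((ex μ i : ℕ) : ℤ) : ℂ)) / ((r : ℂ) * N)) := by
      have hk' : ((∑ i, (k - (μ (Fin.rev i) : ℕ)) : ℕ) : ℂ) = (r : ℂ) * k - ((∑ i, (μ i : ℕ) : ℕ) : ℂ) := by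
        rw [← Equiv.sum_comp Fin.revPerm (fun i => k - (μ (Fin.rev i) : ℕ))]
        simp only [Fin.revPerm_apply, Fin.rev_rev, Nat.cast_sum]
        rw [Finset.sum_congr rfl (fun i _ => Nat.cast_sub (Nat.lt_succ_iff.mp (μ i).2)), Finset.sum_sub_distrib]
        simp
      have hex : (∑ i, (((ex μ i : ℕ) : ℤ) : ℂ)) = ((∑ i, (μ i : ℕ) : ℕ) : ℂ) + (C : ℂ) := by
        simp only [ex, C, Verlinde.stair]
        push_cast
        rw [Finset.sum_add_distrib]
      rw [hk', hex, Verlinde.E, Verlinde.E, ← Complex.exp_add, ← Complex.exp_add, hNC]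
      congr 1
      simp only [e, e']
      push_cast
      rw [Finset.sum_neg_distrib]
      have : (r : ℂ) ≠ 0 := Nat.cast_ne_zero.mpr (by omega)
      have : (r : ℂ) + k ≠ 0 := by exact_mod_cast (show r + k ≠ 0 by omega)
      field_simp
      ring
    rw [hS, hS', hD1, hD2, hexp]
    simp only [K, e, e']
    ring
  rw [Finset.sum_congr rfl (fun μ _ => hterm μ), ← Finset.mul_sum, hbij (fun x => Verlinde.E (-((((∑ i, e i + ∑ i, e' i) : ℤ) : ℂ) * ∑ j, (x j : ℂ)) / ((r : ℂ) * N)) * Verlinde.D N e x * Verlinde.D N e' x), key, mul_zero]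

end Groth.Agent.S18378
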