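import Groth.Statements.S18379
import Mathlib
import Groth.Agent.Verlinde.Orth

set_option autoImplicit false
open VerlindeComb

namespace Groth.Agent.S18379

/-- Let r, k ≥ 1 be integers. Summing over all integer vectors v with r + k > v_1 > v_2 > ⋯ > v_{r-1} >
v_r = 0, one has Σ_v ∏_{i<j} (2 sin(π (v_i - v_j) / (r + k)))² = r (r + k)^{r-1}; that is, the
genus-zero Verlinde number of rank r and level k with no parabolic points, defined as (r (r +
k)^{r-1})⁻¹ times this sum, equals 1. Indices are 0-based below: v i stands for v_{i+1}. -/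
theorem result (r k : ℕ) (hr : 1 ≤ r) (hk : 1 ≤ k) :
    (∑ v ∈ (Finset.univ : Finset (Fin r → Fin (r + k))).filter
        (fun v : Fin r → Fin (r + k) => StrictAnti v ∧ ∀ i : Fin r, (i : ℕ) = r - 1 → (v i : ℕ) = 0),
      ∏ p ∈ (Finset.univ : Finset (Fin r × Fin r)).filter (fun p => p.1 < p.2),
        ((2 : ℝ) * Real.sin (Real.pi * ((v p.1 : ℕ) - (v p.2 : ℕ) : ℝ) / ((r : ℝ) + k))) ^ 2) =
      (r : ℝ) * ((r : ℝ) + k) ^ (r - 1) := by
  classical
  open Verlinde in
  obtain ⟨N, hN⟩ : ∃ N, N = r + k := ⟨_, rfl⟩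
  have hN0 : N ≠ 0 := by omega
  haveI : NeZero (r + k) := ⟨by omega⟩
  apply Complex.ofReal_injective
  rw [Complex.ofReal_sum]
  let l : Fin r := ⟨r - 1, by omega⟩
  let fx : (Fin r → Fin (r + k)) → Fin r → ℤ := fun v j => ((v j : ℕ) : ℤ)
  have hP : ∀ v : Fin r → Fin (r + k), ((∏ p ∈ (Finset.univ : Finset (Fin r × Fin r)).filter (fun p => p.1 < p.2),
        ((2 : ℝ) * Real.sin (Real.pi * ((v p.1 : ℕ) - (v p.2 : ℕ) : ℝ) / ((r : ℝ) + k))) ^ 2 : ℝ) : ℂ) =
      Verlinde.D N (Verlinde.stair r) (fx v) * Verlinde.D N (fun i => -Verlinde.stair r i) (fx v) := fun v => by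
    rw [← Verlinde.P_eq N (fx v)]
    simp [fx, hN]
  rw [Finset.sum_congr rfl fun v _ => hP v]
  have hfil : ∀ v : Fin r → Fin (r + k), (∀ i : Fin r, (i : ℕ) = r - 1 → (v i : ℕ) = 0) ↔ v l = 0 := fun v =>
    ⟨fun hv => Fin.ext (by rw [hv l rfl]; simp), fun hv i hi => by rw [show i = l from Fin.ext hi, hv]; simp⟩
  simp only [hfil]
  have hinj : ∀ v : Fin r → Fin (r + k), Function.Injective (fx v) → Function.Injective v := fun v hv a b hab => hv (by simp [fx, hab])
  have hp := Verlinde.pinned_sum l (fun i => Fin.le_def.mpr (by have := i.2; simp [l]; omega)) (0 : Fin (r + k)) (fun a => Fin.le_def.mpr (Nat.zero_le _))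
    (fun v => Verlinde.D N (Verlinde.stair r) (fx v) * Verlinde.D N (fun i => -Verlinde.stair r i) (fx v))
    (fun v σ => by
      show Verlinde.D N (Verlinde.stair r) (fx v ∘ σ) * Verlinde.D N (fun i => -Verlinde.stair r i) (fx v ∘ σ) = _
      rw [Verlinde.D_comp_right, Verlinde.D_comp_right, mul_mul_mul_comm, ← Int.cast_mul, ← Units.val_mul, Int.units_mul_self]
      simp)
    (fun v hv => by
      show Verlinde.D N (Verlinde.stair r) (fx v) * _ = 0
      rw [Verlinde.D_eq_zero_of_not_injective _ _ _ (mt (hinj v) hv), zero_mul])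
  let T : Fin r → Finset (Fin (r + k)) := fun j => if j = l then {0} else Finset.univ
  have hT : Finset.univ.filter (fun v : Fin r → Fin (r + k) => v l = 0) = Fintype.piFinset T := by
    ext v
    simp only [Finset.mem_filter, Finset.mem_univ, true_and, Fintype.mem_piFinset, T]
    refine ⟨fun hv j => ?_, fun hv => by simpa using hv l⟩
    split_ifs with hj
    · simp [hj, hv]
    · simp
  have hbox := Verlinde.sum_box (fun i (t : Fin (r + k)) => Verlinde.E ((Verlinde.stair r i : ℂ) * (((t : ℕ) : ℤ) : ℂ) / N))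
      (fun i (t : Fin (r + k)) => Verlinde.E (((-Verlinde.stair r i : ℤ) : ℂ) * (((t : ℕ) : ℤ) : ℂ) / N)) (fun _ => (1 : ℂ)) T
  simp only [Finset.prod_const_one, one_mul] at hbox
  rw [hT] at hp
  rw [show ∑ v ∈ Fintype.piFinset T, Verlinde.D N (Verlinde.stair r) (fx v) * Verlinde.D N (fun i => -Verlinde.stair r i) (fx v) = _ from hbox] at hp
  have hgeo : ∀ a b : Fin r, ∑ t : Fin (r + k), Verlinde.E ((Verlinde.stair r a : ℂ) * (((t : ℕ) : ℤ) : ℂ) / N) * Verlinde.E (((-Verlinde.stair r b : ℤ) : ℂ) * (((t : ℕ) : ℤ) : ℂ) / N) = if a = b then (N : ℂ) else 0 := by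
    intro a b
    subst hN
    have := Verlinde.geom (r + k) hN0 (Verlinde.stair r a - Verlinde.stair r b)
    rw [show (if a = b then ((r + k : ℕ) : ℂ) else 0) = if ((r + k : ℕ) : ℤ) ∣ Verlinde.stair r a - Verlinde.stair r b then ((r + k : ℕ) : ℂ) else 0 from ?_, ← this]
    · refine Finset.sum_congr rfl fun t _ => ?_
      rw [← Verlinde.E_add]; congr 1; push_cast; ring
    · by_cases hab : a = b
      · subst hab; simp
      · rw [if_neg hab, if_neg]
        intro hd
        rw [Verlinde.stair_eq, Verlinde.stair_eq] at hd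
        have ha := a.2; have hb := b.2
        have := Int.eq_zero_of_abs_lt_dvd hd (by rw [abs_lt]; omega)
        exact hab (Fin.ext (by omega))
  have hval : ∀ σ τ : Equiv.Perm (Fin r), ((Equiv.Perm.sign σ : ℤ) : ℂ) * ((Equiv.Perm.sign τ : ℤ) : ℂ) *
      ∏ j, ∑ t ∈ T j, Verlinde.E ((Verlinde.stair r (σ j) : ℂ) * (((t : ℕ) : ℤ) : ℂ) / N) * Verlinde.E (((-Verlinde.stair r (τ j) : ℤ) : ℂ) * (((t : ℕ) : ℤ) : ℂ) / N) =
      if σ = τ then (N : ℂ) ^ (r - 1) else 0 := by
    intro σ τ
    have hfac : ∀ j, j ≠ l → (∑ t ∈ T j, Verlinde.E ((Verlinde.stair r (σ j) : ℂ) * (((t : ℕ) : ℤ) : ℂ) / N) * Verlinde.E (((-Verlinde.stair r (τ j) : ℤ) : ℂ) * (((t : ℕ) : ℤ) : ℂ) / N)) = if σ j = τ j then (N : ℂ) else 0 := fun j hj => by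
      simp only [T, if_neg hj]; exact hgeo _ _
    by_cases hst : σ = τ
    · subst hst
      rw [if_pos rfl, ← Int.cast_mul, ← Units.val_mul, Int.units_mul_self, Units.val_one, Int.cast_one, one_mul,
        ← Finset.mul_prod_erase _ _ (Finset.mem_univ l), Finset.prod_congr rfl (fun j hj => (hfac j (Finset.mem_erase.mp hj).1).trans (if_pos rfl)),
        Finset.prod_const, Finset.card_erase_of_mem (Finset.mem_univ l), Finset.card_univ, Fintype.card_fin]
      simp [T, Verlinde.E_zero]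
    · rw [if_neg hst]
      obtain ⟨j, hj, hne⟩ : ∃ j, j ≠ l ∧ σ j ≠ τ j := by
        by_contra! hall
        refine hst (Equiv.ext fun j => ?_)
        by_cases hj : j = l
        · obtain ⟨a, ha⟩ := τ.surjective (σ j)
          by_cases hal : a = l
          · rw [← ha, hj, hal]
          · have h2 : σ a = σ j := (hall a hal).trans ha
            exact absurd ((σ.injective h2).trans hj) hal
        · exact hall j hj
      rw [Finset.prod_eq_zero (Finset.mem_univ j) ((hfac j hj).trans (if_neg hne)), mul_zero]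
  rw [Finset.sum_congr rfl (fun σ _ => Finset.sum_congr rfl fun τ _ => hval σ τ)] at hp
  simp only [Finset.sum_ite_eq, Finset.mem_univ, if_true, Finset.sum_const, Finset.card_univ, Fintype.card_perm, Fintype.card_fin, nsmul_eq_mul] at hp
  refine mul_left_cancel₀ (show (r.factorial : ℂ) ≠ 0 by exact_mod_cast r.factorial_ne_zero) (hp.symm.trans ?_)
  rw [hN]; push_cast; ring

end Groth.Agent.S18379
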