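import Groth.Statements.S18380
import Groth.Agent.S8914
import Groth.Agent.ASBunKS.Abstract
import Groth.Agent.ZeroConnLib.Basic
import Groth.Agent.HilbObsLib.Ideal
import Groth.Agent.H1ZeroLib.Quot


set_option autoImplicit false
universe u
open Divisors

namespace Groth.Agent.S18380

open CategoryTheory CategoryTheory.Limits AlgebraicGeometry

open Groth.Agent Limits
open Groth.Agent.PullbackMod
open scoped TensorProduct
set_option backward.isDefEq.respectTransparency false

theorem stalk_rightEnd {Y : Scheme.{u}} {N L : Y.Modules} (hN : PicF.IsInvertible N) (ψ : L ⟶ L) (x : Y) :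
    (Function.Injective (stalkLin (ASBunKS.rightEnd N L ψ : CohB1.tensorMod N L ⟶ CohB1.tensorMod N L) x) ↔
        Function.Injective (stalkLin ψ x)) ∧
      (Function.Bijective (stalkLin (ASBunKS.rightEnd N L ψ : CohB1.tensorMod N L ⟶ CohB1.tensorMod N L) x) ↔
        Function.Bijective (stalkLin ψ x)) := by
  obtain ⟨e, he⟩ := ParaFLib.exists_stalk_gen hN x
  let θ : Y.presheaf.stalk x ≃ₗ[Y.presheaf.stalk x] N.presheaf.stalk x :=
    LinearEquiv.ofBijective (LinearMap.toSpanSingleton _ _ e) he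
  let A := ((TensorProduct.lid (Y.presheaf.stalk x) (L.presheaf.stalk x)).symm.trans
    (TensorProduct.congr θ (LinearEquiv.refl _ _))).trans (DCohLib.stalkTensor x N L)
  let T := stalkLin (ASBunKS.rightEnd N L ψ : CohB1.tensorMod N L ⟶ CohB1.tensorMod N L) x
  have hA : ∀ z, A z = DCohLib.stalkTensor x N L (e ⊗ₜ z) := fun z => by
    simp only [A, LinearEquiv.trans_apply, TensorProduct.lid_symm_apply, TensorProduct.congr_tmul,
      LinearEquiv.refl_apply, θ, LinearEquiv.ofBijective_apply, LinearMap.toSpanSingleton_apply, one_smul]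
  have h : ∀ z, T (A z) = A (stalkLin ψ x z) := fun z => by
    rw [hA, hA]
    exact DCohLib.stalkTensor_natural_right x ψ (e ⊗ₜ z)
  have hfun : (T : _ → _) ∘ A = A ∘ stalkLin ψ x := funext h
  refine ⟨⟨fun hT a b hab => A.injective (hT ?_), fun hψ => ?_⟩, ⟨fun hT => ?_, fun hψ => ?_⟩⟩
  · rw [h, h, hab]
  · exact (Function.Injective.of_comp_iff' T A.bijective).1 (hfun ▸ A.injective.comp hψ)
  · exact (Function.Bijective.of_comp_iff' A.bijective _).1 (hfun ▸ hT.comp A.bijective)
  · exact (Function.Bijective.of_comp_iff T A.bijective).1 (hfun ▸ A.bijective.comp hψ)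

/-- On a proper scheme an injective endomorphism of an invertible module is an isomorphism. -/
theorem isIso_of_mono {Y : Scheme.{u}} (k : Type u) [Field k] [Y.Over (Spec (CommRingCat.of k))]
    [IsProper (Y ↘ Spec (CommRingCat.of k))] {L : Y.Modules} (hL : PicF.IsInvertible L) (ψ : L ⟶ L)
    [Mono ψ] : IsIso ψ := by
  obtain ⟨N, hN, ⟨a⟩⟩ := AmpleEmb.exists_isInverseOf hL
  let b : CohB1.tensorMod N L ≅ Coh.structureModule Y := AmpleLib.comm N L ≪≫ a
  let T : CohB1.tensorMod N L ⟶ CohB1.tensorMod N L := ASBunKS.rightEnd N L ψ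
  haveI : Mono T := (mono_iff_stalk T).2 fun x => (stalk_rightEnd hN ψ x).1.2 ((mono_iff_stalk ψ).1 inferInstance x)
  obtain ⟨g, hg⟩ := ASBunKS.exists_eq_mulEnd_structure (b.inv ≫ T ≫ b.hom)
  haveI : Mono (FactorOne.mulEnd (Coh.structureModule Y) g) := hg ▸ inferInstance
  haveI := ZeroConnLib.isArtinianRing_global (X := Y) k
  have hu : IsUnit g := by
    refine IsArtinianRing.isUnit_of_mem_nonZeroDivisors (mem_nonZeroDivisors_iff_right.2 fun t ht => ?_)
    refine ASBunKS.mulEnd_injective_structure ((cancel_mono (FactorOne.mulEnd (Coh.structureModule Y) g)).1 ?_)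
    refine Scheme.Modules.hom_ext _ _ fun V => AddCommGrpCat.hom_ext (AddMonoidHom.ext fun m => ?_)
    show (FactorOne.mulEnd _ g).app V ((FactorOne.mulEnd _ t).app V m) =
      (FactorOne.mulEnd _ g).app V ((FactorOne.mulEnd _ 0).app V m)
    rw [ASBunKS.mulEnd_section, ASBunKS.mulEnd_section, ASBunKS.mulEnd_section, ASBunKS.mulEnd_section, smul_smul,
      smul_smul, ← map_mul, ← map_mul, mul_zero, mul_comm g t, ht]
  obtain ⟨v, rfl⟩ := hu
  haveI : IsIso (FactorOne.mulEnd (Coh.structureModule Y) (v : Γ(Y, ⊤))) := by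
    refine ⟨⟨FactorOne.mulEnd _ (↑v⁻¹ : Γ(Y, ⊤)), ?_, ?_⟩⟩ <;>
      refine Scheme.Modules.hom_ext _ _ fun V => AddCommGrpCat.hom_ext (AddMonoidHom.ext fun m => ?_)
    · show (FactorOne.mulEnd _ _).app V ((FactorOne.mulEnd _ _).app V m) = m
      rw [ASBunKS.mulEnd_section, ASBunKS.mulEnd_section, smul_smul, ← map_mul, Units.inv_mul, map_one, one_smul]
    · show (FactorOne.mulEnd _ _).app V ((FactorOne.mulEnd _ _).app V m) = m
      rw [ASBunKS.mulEnd_section, ASBunKS.mulEnd_section, smul_smul, ← map_mul, Units.mul_inv, map_one, one_smul]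
  haveI : IsIso (b.inv ≫ T ≫ b.hom) := hg ▸ inferInstance
  haveI : IsIso T := by
    have h : T = b.hom ≫ (b.inv ≫ T ≫ b.hom) ≫ b.inv := by simp
    rw [h]
    infer_instance
  exact (isIso_iff_stalk ψ).2 fun x => (stalk_rightEnd hN ψ x).2.1 ((isIso_iff_stalk T).1 inferInstance x)

open CategoryTheory AlgebraicGeometry in
/-- Let k be an algebraically closed field of characteristic 0 and M a scheme, smooth and projective
over k. Let D₁ and D₂ be effective Cartier divisors on M, given by invertible ideal sheaves with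
I_{D₂} ⊆ I_{D₁} (so D₁ is a closed subscheme of D₂). If I_{D₁} and I_{D₂} are isomorphic as
O_M-modules, that is D₁ and D₂ are linearly equivalent, then D₁ = D₂. The published statement is an
equivalence, for effective divisors on a smooth proper Deligne–Mumford stack with equal divisor
classes; its proof reduces to a smooth projective scheme, the case stated here, and the other
direction is immediate. -/
theorem result (k : Type u) [Field k] [IsAlgClosed k] [CharZero k]
    (M : Scheme.{u}) (f : M ⟶ Spec (CommRingCat.of k)) [Smooth f]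
    (hproj : Neron.IsProjectiveOver k (Over.mk f))
    (D₁ D₂ : M.IdealSheafData) (h₁ : BlowUp.IsEffCartierIdeal D₁) (h₂ : BlowUp.IsEffCartierIdeal D₂)
    (hle : D₂ ≤ D₁) (hiso : Nonempty (ClSub.idealMod D₁ ≅ ClSub.idealMod D₂)) :
    D₁ = D₂ := by
  letI : M.Over (Spec (CommRingCat.of k)) := ⟨f⟩
  haveI : IsProper f := by
    obtain ⟨m, i, hi, hif⟩ := hproj
    show IsProper (Over.mk f).hom
    rw [← hif]
    infer_instance
  haveI : IsProper (M ↘ Spec (CommRingCat.of k)) := ‹IsProper f›
  haveI : Mono (ClSub.idealModι D₁) := inferInstanceAs (Mono (kernel.ι _))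
  haveI : Mono (ClSub.idealModι D₂) := inferInstanceAs (Mono (kernel.ι _))
  have h0 : ClSub.idealModι D₂ ≫ ClSub.toSubscheme D₁ = 0 := (eq_zero_iff_stalk _).2 fun x => LinearMap.ext fun n => by
    obtain ⟨r, hr⟩ := (ParaFLib.bijective_oneG x).2 (stalkLin (ClSub.idealModι D₂) x n)
    have hmem := H1ZeroLib.stalkIdeal_mono hle x ((HilbObsLib.mem_range_idealModι D₂ x r).1 ⟨n, hr.symm⟩)
    obtain ⟨n', hn'⟩ := (HilbObsLib.mem_range_idealModι D₁ x r).2 hmem
    rw [stalkLin_comp, LinearMap.comp_apply, LinearMap.zero_apply, ← hr]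
    show stalkLin (ClSub.toSubscheme D₁) x (r • ParaFLib.oneG x) = 0
    rw [← hn']
    exact HilbObsLib.stalk_kernel_ι_comp (ClSub.toSubscheme D₁) x n'
  let j : ClSub.idealMod D₂ ⟶ ClSub.idealMod D₁ := kernel.lift _ (ClSub.idealModι D₂) h0
  have hj : j ≫ ClSub.idealModι D₁ = ClSub.idealModι D₂ := kernel.lift_ι _ _ _
  haveI : Mono j := mono_of_mono_fac hj
  obtain ⟨φ⟩ := hiso
  haveI := isIso_of_mono k ((S8914.result D₁).2 h₁) (φ.hom ≫ j)
  haveI : IsIso j := IsIso.of_isIso_comp_left φ.hom j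
  refine HilbObsLib.ideal_ext_of_stalk fun x => Ideal.ext fun r => ?_
  rw [← HilbObsLib.mem_range_idealModι, ← HilbObsLib.mem_range_idealModι, ← hj]
  simp only [stalkLin_comp, LinearMap.comp_apply]
  exact ⟨fun ⟨n, hn⟩ => by
      obtain ⟨n', rfl⟩ := ((isIso_iff_stalk j).1 inferInstance x).2 n
      exact ⟨n', hn⟩,
    fun ⟨n, hn⟩ => ⟨_, hn⟩⟩


end Groth.Agent.S18380
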