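import Groth.Statements.S18381
import Mathlib
import Groth.Agent.S18377

set_option autoImplicit false
open Complex
open VerlindeComb

namespace Groth.Agent.S18381

/-- Fix integers r, k ≥ 1. For g ≥ 0, d ∈ ℤ and parabolic data ω given by a finite family of partitions
λ_x with k ≥ λ_{x,1} ≥ ⋯ ≥ λ_{x,r} ≥ 0, write |ω| = Σ_x |λ_x|, z(v)_j = exp(2πi v_j / (r + k)),
S_λ(v) = det(z(v)_j^{λ_i + r - i}) / det(z(v)_j^{r - i}) (Schur value), P(v) = ∏_{i<j} (2 sin(π (v_i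
- v_j)/(r + k)))², and let V_g(r, d, ω) = (-1)^{d(r-1)} (k/r)^g (r (r+k)^{r-1})^{g-1} Σ_v exp(2πi
(d/r - |ω| / (r (r+k))) Σ_j v_j) · ∏_x S_{λ_x}(v) / P(v)^{g-1}, the sum over integer vectors r + k >
v_1 > ⋯ > v_{r-1} > v_r = 0 (the right-hand side of the Verlinde formula; it depends on ω only
through |ω| and the function v ↦ ∏_x S_{λ_x}(v), and is written that way below, with (r
(r+k)^{r-1})^{g-1} as the g-th power divided once and 1/P^{g-1} as P/P^g). Then V_{g+1}(r, d, ω) =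
Σ_μ V_g(r, d, ω^μ), the sum over all μ with k > μ_1 ≥ ⋯ ≥ μ_r ≥ 0, where ω^μ adjoins to ω the two
partitions μ and μ* = (k - μ_r, …, k - μ_1). Indices are 0-based below. -/
theorem result (r k : ℕ) (hr : 1 ≤ r) (hk : 1 ≤ k)
    (g : ℕ) (d : ℤ) (ι : Type) [Fintype ι] (lam : ι → Fin r → ℕ)
    (hlam : ∀ x, Antitone (lam x) ∧ ∀ i, lam x i ≤ k)
    (z : (Fin r → ℕ) → Fin r → ℂ)
    (hz : ∀ v j, z v j = Complex.exp (2 * Real.pi * Complex.I * (v j : ℂ) / ((r : ℂ) + k)))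
    (S : (Fin r → ℕ) → (Fin r → ℕ) → ℂ)
    (hS : ∀ μ v, S μ v = (Matrix.of fun i j : Fin r => z v j ^ (μ i + (r - 1 - (i : ℕ)))).det /
        (Matrix.of fun i j : Fin r => z v j ^ (r - 1 - (i : ℕ))).det)
    (P : (Fin r → ℕ) → ℝ)
    (hP : ∀ v, P v = ∏ p ∈ (Finset.univ : Finset (Fin r × Fin r)).filter (fun p => p.1 < p.2),
        ((2 : ℝ) * Real.sin (Real.pi * ((v p.1 : ℝ) - (v p.2 : ℝ)) / ((r : ℝ) + k))) ^ 2)
    (V : ℕ → ℤ → ℕ → ((Fin r → ℕ) → ℂ) → ℂ)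
    (hV : ∀ (g' : ℕ) (d' : ℤ) (w : ℕ) (Sω : (Fin r → ℕ) → ℂ), V g' d' w Sω =
        (-1 : ℂ) ^ (d' * ((r : ℤ) - 1)) * ((k : ℂ) / r) ^ g' *
          ((((r : ℂ) * ((r : ℂ) + k) ^ (r - 1)) ^ g') / ((r : ℂ) * ((r : ℂ) + k) ^ (r - 1))) *
          ∑ v ∈ (Finset.univ : Finset (Fin r → Fin (r + k))).filter
            (fun v : Fin r → Fin (r + k) => StrictAnti v ∧ ∀ i : Fin r, (i : ℕ) = r - 1 → (v i : ℕ) = 0),
            Complex.exp (2 * Real.pi * Complex.I * ((d' : ℂ) / r - (w : ℂ) / ((r : ℂ) * ((r : ℂ) + k))) *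
                ((∑ j, (v j : ℕ) : ℕ) : ℂ)) *
              Sω (fun j => (v j : ℕ)) *
              (((P (fun j => (v j : ℕ)) : ℂ)) / ((P (fun j => (v j : ℕ)) : ℂ)) ^ g')) :
    V (g + 1) d (∑ x, ∑ i, lam x i) (fun v => ∏ x, S (lam x) v) =
      ∑ μ ∈ (Finset.univ : Finset (Fin r → Fin k)).filter (fun μ : Fin r → Fin k => Antitone μ),
        V g d ((∑ x, ∑ i, lam x i) + (∑ i, (μ i : ℕ)) + (∑ i, (k - (μ (Fin.rev i) : ℕ))))
          (fun v => (∏ x, S (lam x) v) * S (fun i => (μ i : ℕ)) v *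
            S (fun i => k - (μ (Fin.rev i) : ℕ)) v) := by
  classical
  rw [hV, Finset.sum_congr rfl (fun μ _ => hV g d _ _)]
  set N : ℂ := (r : ℂ) + k with hN
  have hr0 : (r : ℂ) ≠ 0 := Nat.cast_ne_zero.mpr (by omega)
  have hN0 : N ≠ 0 := by rw [hN]; exact_mod_cast (show r + k ≠ 0 by omega)
  have hP0 : (r : ℂ) * N ^ (r - 1) ≠ 0 := mul_ne_zero hr0 (pow_ne_zero _ hN0)
  conv_lhs => rw [pow_succ ((k : ℂ) / r), pow_succ ((r : ℂ) * N ^ (r - 1))]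
  simp only [Finset.mul_sum]
  rw [eq_comm, Finset.sum_comm, eq_comm]
  refine Finset.sum_congr rfl fun v hv => ?_
  set s : ℕ := ∑ x, ∑ i, lam x i
  set vv : Fin r → ℕ := fun j => (v j : ℕ)
  set Sg : ℕ := ∑ j, (v j : ℕ)
  have h77 := S18377.result r k hr hk vv (fun a b h => (Finset.mem_filter.mp hv).2.1 h) (fun i => (v i).2) (z vv) (hz vv) (fun μ => S μ vv) (fun μ => hS μ vv)
  have hμ : ∀ μ : Fin r → Fin k, (∑ i, (μ i : ℕ)) + ∑ i, (k - (μ (Fin.rev i) : ℕ)) = r * k := by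
    intro μ
    rw [← Equiv.sum_comp Fin.revPerm (fun i => k - (μ (Fin.rev i) : ℕ)), ← Finset.sum_add_distrib]
    rw [Finset.sum_congr rfl (fun i _ => show (μ i : ℕ) + (k - (μ (Fin.rev (Fin.revPerm i)) : ℕ)) = k by
      simp only [Fin.revPerm_apply, Fin.rev_rev]; have := (μ i).2; omega)]
    simp
  have hfac : ∀ μ : Fin r → Fin k,
      Complex.exp (2 * Real.pi * Complex.I * ((d : ℂ) / r - (((s + ∑ i, (μ i : ℕ)) + ∑ i, (k - (μ (Fin.rev i) : ℕ)) : ℕ) : ℂ) / ((r : ℂ) * N)) * (Sg : ℂ)) *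
        ((∏ x, S (lam x) vv) * S (fun i => (μ i : ℕ)) vv * S (fun i => k - (μ (Fin.rev i) : ℕ)) vv) * ((P vv : ℂ) / (P vv : ℂ) ^ g) =
      Complex.exp (2 * Real.pi * Complex.I * ((d : ℂ) / r - (s : ℂ) / ((r : ℂ) * N)) * (Sg : ℂ)) * (∏ x, S (lam x) vv) * ((P vv : ℂ) / (P vv : ℂ) ^ g) *
        Complex.exp (-(2 * Real.pi * Complex.I * (k : ℂ) * (Sg : ℂ) / N)) *
        (S (fun i => (μ i : ℕ)) vv * S (fun i => k - (μ (Fin.rev i) : ℕ)) vv) := by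
    intro μ
    rw [add_assoc, hμ μ, show 2 * Real.pi * Complex.I * ((d : ℂ) / r - ((s + r * k : ℕ) : ℂ) / ((r : ℂ) * N)) * (Sg : ℂ) =
      2 * Real.pi * Complex.I * ((d : ℂ) / r - (s : ℂ) / ((r : ℂ) * N)) * (Sg : ℂ) + -(2 * Real.pi * Complex.I * (k : ℂ) * (Sg : ℂ) / N) by
        push_cast; field_simp; ring, Complex.exp_add]
    ring
  rw [← Finset.mul_sum, Finset.sum_congr rfl (fun μ _ => hfac μ), ← Finset.mul_sum, h77, ← hN,
    show (∏ p ∈ (Finset.univ : Finset (Fin r × Fin r)).filter (fun p => p.1 < p.2),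
      ((((2 : ℝ) * Real.sin (Real.pi * ((vv p.1 : ℝ) - (vv p.2 : ℝ)) / ((r : ℝ) + k))) ^ 2 : ℝ) : ℂ)) = (P vv : ℂ) by rw [hP]; push_cast; rfl]
  rw [show (∑ j, vv j) = Sg from rfl]
  generalize (P vv : ℂ) = Q
  generalize ((k : ℂ) / r) ^ g = KG
  generalize ((r : ℂ) * N ^ (r - 1)) ^ g = NG
  generalize (∏ x, S (lam x) vv) = PR
  generalize Complex.exp (2 * Real.pi * Complex.I * ((d : ℂ) / r - (s : ℂ) / ((r : ℂ) * N)) * (Sg : ℂ)) = E1
  have hE : Complex.exp (-(2 * Real.pi * Complex.I * (k : ℂ) * (Sg : ℂ) / N)) * Complex.exp (2 * Real.pi * Complex.I * (k : ℂ) * (Sg : ℂ) / N) = 1 := by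
    rw [← Complex.exp_add, neg_add_cancel, Complex.exp_zero]
  generalize Complex.exp (-(2 * Real.pi * Complex.I * (k : ℂ) * (Sg : ℂ) / N)) = E2 at hE ⊢
  generalize Complex.exp (2 * Real.pi * Complex.I * (k : ℂ) * (Sg : ℂ) / N) = E3 at hE ⊢
  generalize N ^ (r - 1) = W at hP0 ⊢
  have hW : W ≠ 0 := fun h => hP0 (by rw [h, mul_zero])
  by_cases hQ : Q = 0
  · simp [hQ]
  field_simp
  linear_combination (-(KG * NG * E1 * PR * Q * Q ^ g * (k : ℂ))) * hE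

end Groth.Agent.S18381
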