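import Groth.Statements.S18382
import Groth.Agent.GraphCutLib.Basic
import Mathlib
-- import your own Groth.Agent.* helpers here

set_option autoImplicit false
universe u
open PhiStab

namespace Groth.Agent.S18382

open PhiStab in
/-- Let (V, E, ends) be a finite tree, that is a connected multigraph without circuits. For every family
of real numbers c_e indexed by the edges and every real c₀ there is exactly one real weighting φ of
the vertices such that, for each edge e, the sum of φ over the side of e containing its first
endpoint (the vertices joined to that endpoint by a chain of edges other than e) equals c_e, and the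
sum of φ over all vertices equals c₀. The lemma itself — a system of stability parameters on all
treelike marked graphs compatible with contractions is determined by its components on the
two-vertex graphs — reduces to this square linear system being nondegenerate. -/
theorem result {V E : Type u} [Fintype V] [Fintype E] [DecidableEq V] [DecidableEq E]
    (ends : E → V × V) (hT : DualGr.IsTree ends)
    (c : E → ℝ) (c₀ : ℝ) :
    ∃! φ : V → ℝ, (∀ e : E, (∑ v ∈ side ends e, φ v) = c e) ∧ (∑ v : V, φ v) = c₀ := by
  classical
  obtain ⟨⟨⟨r⟩, hreach⟩, hforest⟩ := hT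
  let δ : E → V → ℝ := fun e => Pi.single (ends e).1 1 - Pi.single (ends e).2 1
  let L : E → (V → ℝ) → ℝ := fun e φ => ∑ v ∈ side ends e, φ v
  have hL : ∀ e e', L e (δ e') = if e' = e then 1 else 0 := by
    intro e e'
    simp only [L, δ, Pi.sub_apply, Finset.sum_sub_distrib, Finset.sum_pi_single]
    by_cases h : e' = e
    · subst h
      have h1 : (ends e').1 ∈ side ends e' := by simp [side, Relation.ReflTransGen.refl]
      simp [h1, Groth.Agent.GraphCutLib.snd_notMem_side ends hforest e']
    · have hiff : ((ends e').1 ∈ side ends e) ↔ ((ends e').2 ∈ side ends e) := by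
        simp only [side, Finset.mem_filter, Finset.mem_univ, true_and]
        exact ⟨fun hh => hh.tail ⟨⟨e', by simp [h]⟩, Or.inl rfl⟩,
          fun hh => hh.tail ⟨⟨e', by simp [h]⟩, Or.inr rfl⟩⟩
      by_cases h1 : (ends e').1 ∈ side ends e
      · simp [h, h1, hiff.1 h1]
      · simp [h, h1, hiff.not.1 h1]
  have hδ : ∀ e, ∑ v : V, δ e v = 0 := fun e => by simp [δ, Finset.sum_sub_distrib]
  let Φ : ℝ → (E → ℝ) → V → ℝ := fun a d => a • Pi.single r 1 + ∑ e : E, d e • δ e
  have hΦL : ∀ a d e, L e (Φ a d) = a * L e (Pi.single r 1) + d e := by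
    intro a d e
    simp only [L, Φ, Pi.add_apply, Pi.smul_apply, smul_eq_mul, Finset.sum_apply, Finset.sum_add_distrib,
      ← Finset.mul_sum]
    congr 1
    rw [Finset.sum_comm]
    simp only [← Finset.mul_sum]
    have : ∀ e', ∑ v ∈ side ends e, δ e' v = if e' = e then 1 else 0 := fun e' => hL e e'
    simp [this]
  have hΦT : ∀ a d, ∑ v : V, Φ a d v = a := by
    intro a d
    simp only [Φ, Pi.add_apply, Pi.smul_apply, smul_eq_mul, Finset.sum_apply, Finset.sum_add_distrib,
      ← Finset.mul_sum]
    rw [Finset.sum_comm]
    simp [← Finset.mul_sum, hδ]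
  refine ⟨Φ c₀ (fun e => c e - c₀ * L e (Pi.single r 1)), ⟨fun e => ?_, hΦT _ _⟩, ?_⟩
  · show L e _ = c e
    rw [hΦL]
    ring
  · rintro ψ ⟨hψ, hψ0⟩
    let Wsub : Submodule ℝ (V → ℝ) :=
      { carrier := {x | ∃ a d, x = Φ a d}
        add_mem' := by
          rintro _ _ ⟨a, d, rfl⟩ ⟨a', d', rfl⟩
          refine ⟨a + a', d + d', ?_⟩
          simp only [Φ, add_smul, Pi.add_apply, Finset.sum_add_distrib]
          abel
        zero_mem' := ⟨0, 0, by simp [Φ]⟩
        smul_mem' := by
          rintro t _ ⟨a, d, rfl⟩
          refine ⟨t * a, t • d, ?_⟩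
          simp only [Φ, smul_add, Finset.smul_sum, smul_smul, Pi.smul_apply, smul_eq_mul] }
    have hr : (Pi.single r 1 : V → ℝ) ∈ Wsub := ⟨1, 0, by simp [Φ]⟩
    have hδW : ∀ e, δ e ∈ Wsub := fun e => ⟨0, Pi.single e 1, by simp [Φ, Pi.single_apply, ite_smul]⟩
    have hall : ∀ v, (Pi.single v 1 : V → ℝ) ∈ Wsub := by
      intro v
      have hv := hreach r v
      induction hv with
      | refl => exact hr
      | @tail x y _ hxy ih =>
        obtain ⟨e, he | he⟩ := hxy
        · have h2 := Wsub.sub_mem ih (hδW e)
          have : (Pi.single x 1 : V → ℝ) - δ e = Pi.single y 1 := by simp [δ, he]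
          rwa [this] at h2
        · have h2 := Wsub.add_mem ih (hδW e)
          have : (Pi.single x 1 : V → ℝ) + δ e = Pi.single y 1 := by simp [δ, he]
          rwa [this] at h2
    obtain ⟨a, d, rfl⟩ : ψ ∈ Wsub := by
      rw [show ψ = ∑ v : V, ψ v • (Pi.single v 1 : V → ℝ) by
        ext v; simp [Finset.sum_apply, Pi.single_apply]]
      exact Wsub.sum_mem fun v _ => Wsub.smul_mem _ (hall v)
    rw [hΦT] at hψ0
    subst hψ0
    congr 1
    funext e
    have h1 : L e (Φ a d) = c e := hψ e
    rw [hΦL] at h1
    linarith

end Groth.Agent.S18382
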