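import Groth.Statements.S18383
import Groth.Agent.GrpSchLib.Basic
-- import your own Groth.Agent.* helpers here

set_option autoImplicit false
universe u
open CategoryTheory CategoryTheory.Limits MonoidalCategory CartesianMonoidalCategory MonObj GrpObj AlgebraicGeometry
open GrpSch

namespace Groth.Agent.S18383

/-- Let S be a scheme, H an S-group scheme and i : G → H a homomorphism of S-group schemes which is a
closed immersion (G a closed subgroup scheme of H). Then the left-translation action of G on H is
strictly free: the S-morphism G ×_S H → H ×_S H, (g, h) ↦ (i(g)·h, h), is a closed immersion. -/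
theorem result {S : Scheme.{u}} (G H : Over S)
    [GrpObj G] [GrpObj H] (i : G ⟶ H) [IsMonHom i] [IsClosedImmersion i.left] :
    IsClosedImmersion (CartesianMonoidalCategory.lift ((i ▷ H) ≫ μ[H]) (snd G H)).left := by
  let σ : H ⊗ H ≅ H ⊗ H :=
    { hom := CartesianMonoidalCategory.lift (fst H H * snd H H) (snd H H)
      inv := CartesianMonoidalCategory.lift (fst H H * (snd H H)⁻¹) (snd H H)
      hom_inv_id := by
        refine CartesianMonoidalCategory.hom_ext _ _ ?_ (by simp)
        rw [Category.assoc, lift_fst, MonObj.comp_mul, GrpObj.comp_inv, lift_fst, lift_snd, Category.id_comp]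
        exact mul_inv_cancel_right _ _
      inv_hom_id := by
        refine CartesianMonoidalCategory.hom_ext _ _ ?_ (by simp)
        rw [Category.assoc, lift_fst, MonObj.comp_mul, lift_fst, lift_snd, Category.id_comp]
        exact inv_mul_cancel_right _ _ }
  have e : CartesianMonoidalCategory.lift ((i ▷ H) ≫ μ[H]) (snd G H) = (i ▷ H) ≫ σ.hom := by
    refine CartesianMonoidalCategory.hom_ext _ _ ?_ (by simp [σ])
    rw [lift_fst, Category.assoc, lift_fst]
    congr 1
    rw [Hom.mul_def, lift_fst_snd, Category.id_comp]
  rw [e, Over.comp_left]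
  haveI : IsIso σ.hom := σ.isIso_hom
  haveI : IsIso σ.hom.left := inferInstanceAs (IsIso ((Over.forget S).map σ.hom))
  haveI : IsClosedImmersion (i ▷ H).left := by
    refine MorphismProperty.of_isPullback (P := @IsClosedImmersion)
      (IsPullback.of_right (h₁₁ := (i ▷ H).left) (v₁₁ := (fst G H).left) (v₁₂ := (fst H H).left) ?_ ?_
        (Groth.Agent.GrpSchLib.isPullback_fst_snd (T := H) (G := H)).flip).flip ‹IsClosedImmersion i.left›
    · rw [← Over.comp_left, whiskerRight_snd, Over.w i]
      exact (Groth.Agent.GrpSchLib.isPullback_fst_snd (T := G) (G := H)).flip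
    · rw [← Over.comp_left, ← Over.comp_left, whiskerRight_fst]
  infer_instance

end Groth.Agent.S18383
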