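import Groth.Statements.S18384
import Mathlib

set_option autoImplicit false
universe u
open CategoryTheory CategoryTheory.Limits AlgebraicGeometry
open Coherent

namespace Groth.Agent.S18384

open CategoryTheory CategoryTheory.Limits AlgebraicGeometry

theorem stalk_ideal_le {X S : Scheme.{u}} (p : X ⟶ S) (x : X) (I : X.IdealSheafData)
    (n : ℕ)
    (h : ∃ g : Limits.pullback p (Spec.map (CommRingCat.ofHom (Ideal.Quotient.mk
        (IsLocalRing.maximalIdeal ↑(S.presheaf.stalk (p x)) ^ (n + 1)))) ≫ S.fromSpecStalk (p x)) ⟶ I.subscheme,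
        g ≫ I.subschemeι = Limits.pullback.fst p _)
    (U : X.affineOpens) (hx : x ∈ U.1) :
    (I.ideal U).map (X.presheaf.germ U.1 x hx).hom ≤
      (IsLocalRing.maximalIdeal ↑(S.presheaf.stalk (p x))).map (p.stalkMap x).hom ^ (n + 1) := by
  obtain ⟨g, hg⟩ := h
  let J : Ideal (X.presheaf.stalk x) :=
    (IsLocalRing.maximalIdeal ↑(S.presheaf.stalk (p x))).map (p.stalkMap x).hom ^ (n + 1)
  have hJ : IsLocalRing.maximalIdeal ↑(S.presheaf.stalk (p x)) ^ (n + 1) ≤ J.comap (p.stalkMap x).hom := by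
    rw [← Ideal.map_le_iff_le_comap, Ideal.map_pow]
  let w : Spec (CommRingCat.of (X.presheaf.stalk x ⧸ J)) ⟶ X :=
    Spec.map (CommRingCat.ofHom (Ideal.Quotient.mk J)) ≫ X.fromSpecStalk x
  have hw : w ≫ p = Spec.map (CommRingCat.ofHom (Ideal.quotientMap J (p.stalkMap x).hom hJ)) ≫
      Spec.map (CommRingCat.ofHom (Ideal.Quotient.mk
        (IsLocalRing.maximalIdeal ↑(S.presheaf.stalk (p x)) ^ (n + 1)))) ≫ S.fromSpecStalk (p x) := by
    rw [Category.assoc, ← Scheme.SpecMap_stalkMap_fromSpecStalk, ← Spec.map_comp_assoc,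
      ← Spec.map_comp_assoc]
    congr 2
  have hker : I ≤ w.ker := by
    have e : (Limits.pullback.lift w _ hw ≫ g) ≫ I.subschemeι = w := by
      rw [Category.assoc, hg, Limits.pullback.lift_fst]
    rw [← e]
    exact le_of_eq_of_le I.ker_subschemeι.symm (Scheme.Hom.le_ker_comp _ _)
  refine Ideal.map_le_iff_le_comap.2 fun r hr => ?_
  have h1 : w.app U.1 r = 0 := Scheme.Hom.ideal_ker_le w U (hker U hr)
  let V := X.fromSpecStalk x ⁻¹ᵁ U.1
  have hV : V = ⊤ := by
    refine eq_top_iff.2 fun y _ => ?_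
    exact ((Scheme.range_fromSpecStalk (X := X) (x := x)).le ⟨y, rfl⟩).mem_open U.1.isOpen hx
  rw [Scheme.Hom.comp_app, Scheme.fromSpecStalk_app hx] at h1
  show X.presheaf.germ U.1 x hx r ∈ J
  rw [← Ideal.Quotient.eq_zero_iff_mem (I := J)]
  apply (Scheme.ΓSpecIso (CommRingCat.of (X.presheaf.stalk x ⧸ J))).commRingCatIsoToRingEquiv.symm.injective
  rw [map_zero]
  have hres : Spec.map (CommRingCat.ofHom (Ideal.Quotient.mk J)) ⁻¹ᵁ V = ⊤ := by rw [hV]; rfl
  have h2 := congrArg (fun s => (Spec (CommRingCat.of (X.presheaf.stalk x ⧸ J))).presheaf.map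
    (eqToHom hres.symm).op s) h1
  simp only [map_zero] at h2
  refine Eq.trans ?_ h2
  simp only [← CommRingCat.comp_apply, Category.assoc]
  show (X.presheaf.germ U.1 x hx ≫ CommRingCat.ofHom (Ideal.Quotient.mk J) ≫ (Scheme.ΓSpecIso _).inv) r =
    ((X.presheaf.germ U.1 x hx ≫ (Scheme.ΓSpecIso (X.presheaf.stalk x)).inv ≫
      (Spec (X.presheaf.stalk x)).presheaf.map (homOfLE le_top).op ≫
      (Spec.map (CommRingCat.ofHom (Ideal.Quotient.mk J))).app V) ≫
      (Spec (CommRingCat.of (X.presheaf.stalk x ⧸ J))).presheaf.map (eqToHom hres.symm).op) r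
  congr 2
  simp only [Category.assoc]
  rw [Scheme.ΓSpecIso_inv_naturality]
  congr 2

theorem exists_nhd_eq_bot {X : Scheme.{u}} [IsLocallyNoetherian X] (I : X.IdealSheafData) (x : X)
    (U : X.affineOpens) (hx : x ∈ U.1) (h0 : (I.ideal U).map (X.presheaf.germ U.1 x hx).hom = ⊥) :
    ∃ V : X.affineOpens, x ∈ V.1 ∧ I.ideal V = ⊥ := by
  classical
  haveI : IsNoetherianRing Γ(X, U.1) := IsLocallyNoetherian.component_noetherian U
  letI : Algebra Γ(X, U.1) (X.presheaf.stalk x) := TopCat.Presheaf.algebra_section_stalk X.presheaf ⟨x, hx⟩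
  haveI := U.2.isLocalization_stalk ⟨x, hx⟩
  obtain ⟨G, hG⟩ := (IsNoetherian.noetherian (I.ideal U) : (I.ideal U).FG)
  have h : ∀ a : Γ(X, U.1), a ∈ I.ideal U → ∃ s, x ∈ X.basicOpen s ∧ s * a = 0 := by
    intro a ha
    have ha0 : algebraMap Γ(X, U.1) (X.presheaf.stalk x) a = 0 := by
      have := Ideal.mem_map_of_mem (X.presheaf.germ U.1 x hx).hom ha
      rw [h0] at this
      exact this
    obtain ⟨⟨s, hs⟩, hsa⟩ := (IsLocalization.map_eq_zero_iff
      (U.2.primeIdealOf ⟨x, hx⟩).asIdeal.primeCompl (X.presheaf.stalk x) a).1 ha0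
    refine ⟨s, (X.mem_basicOpen s x hx).2 ?_, hsa⟩
    exact IsLocalization.map_units (M := (U.2.primeIdealOf ⟨x, hx⟩).asIdeal.primeCompl)
      (X.presheaf.stalk x) ⟨s, hs⟩
  choose s hs hsa using h
  let t : Γ(X, U.1) := ∏ a ∈ G.attach, s a.1 (hG ▸ Submodule.subset_span a.2)
  refine ⟨X.affineBasicOpen t, (X.mem_basicOpen t x hx).2 ?_, ?_⟩
  · rw [map_prod]
    exact IsUnit.prod_iff.2 fun a _ => (X.mem_basicOpen _ x hx).1 (hs _ _)
  · rw [← I.map_ideal_basicOpen U t]
    refine le_bot_iff.1 (Ideal.map_le_iff_le_comap.2 ?_)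
    rw [← hG, Submodule.span_le]
    intro a ha
    obtain ⟨c, hc⟩ := Finset.dvd_prod_of_mem
      (fun a : G => s a.1 (hG ▸ Submodule.subset_span a.2)) (Finset.mem_attach G ⟨a, ha⟩)
    have hta : t * a = 0 := by
      rw [show t = _ * c from hc, mul_right_comm, hsa, zero_mul]
    have hu : IsUnit ((X.presheaf.map (homOfLE (X.basicOpen_le t)).op).hom t) :=
      X.toRingedSpace.isUnit_res_basicOpen t
    have := congrArg (X.presheaf.map (homOfLE (X.basicOpen_le t)).op).hom hta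
    rw [map_mul, map_zero] at this
    exact (hu.mul_right_eq_zero).1 this


/-- Let p : X → S be a morphism of locally Noetherian schemes, t a point of S, m the maximal ideal of
the local ring O_{S,t}, and Z the closed subscheme of X defined by a quasi-coherent ideal I. Suppose
that for every n ≥ 1 the projection X ×_S Spec(O_{S,t}/m^n) → X factors through Z. Then there is an
open subscheme U of X containing every point of the fibre p⁻¹(t) such that the inclusion U → X
factors through Z. -/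
theorem result {X S : Scheme.{u}}
    [IsLocallyNoetherian X] [IsLocallyNoetherian S] (p : X ⟶ S) (t : S) (I : X.IdealSheafData)
    (h : ∀ n : ℕ, ∃ g : pullback p (Spec.map (CommRingCat.ofHom (Ideal.Quotient.mk
        (IsLocalRing.maximalIdeal ↑(S.presheaf.stalk t) ^ (n + 1)))) ≫ S.fromSpecStalk t) ⟶ I.subscheme,
        g ≫ I.subschemeι = pullback.fst p _) :
    ∃ U : X.Opens, (∀ x : X, p.base x = t → x ∈ U) ∧
      ∃ g : (U : Scheme.{u}) ⟶ I.subscheme, g ≫ I.subschemeι = U.ι := by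
  classical
  have hx0 : ∀ x : X, p.base x = t → ∃ V : X.affineOpens, x ∈ V.1 ∧ I.ideal V = ⊥ := by
    rintro x rfl
    obtain ⟨U, hU, hxU, -⟩ := exists_isAffineOpen_mem_and_subset (TopologicalSpace.Opens.mem_top x)
    refine exists_nhd_eq_bot I x ⟨U, hU⟩ hxU (le_bot_iff.1 ?_)
    let J := (IsLocalRing.maximalIdeal ↑(S.presheaf.stalk (p x))).map (p.stalkMap x).hom
    have hJ : J ≠ ⊤ := fun e => (IsLocalRing.maximalIdeal.isMaximal (X.presheaf.stalk x)).ne_top
      (top_le_iff.1 (e.symm.le.trans (Ideal.map_le_iff_le_comap.2 fun a ha hu => ha (hu.of_map (p.stalkMap x).hom))))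
    haveI : IsNoetherianRing Γ(X, U) := IsLocallyNoetherian.component_noetherian ⟨U, hU⟩
    letI : Algebra Γ(X, U) (X.presheaf.stalk x) := TopCat.Presheaf.algebra_section_stalk X.presheaf ⟨x, hxU⟩
    haveI := hU.isLocalization_stalk ⟨x, hxU⟩
    haveI : IsNoetherianRing (X.presheaf.stalk x) :=
      IsLocalization.isNoetherianRing (hU.primeIdealOf ⟨x, hxU⟩).asIdeal.primeCompl _ inferInstance
    rw [← Ideal.iInf_pow_eq_bot_of_isLocalRing J hJ]
    refine le_iInf fun n => ?_
    exact le_trans (stalk_ideal_le p x I n (h n) ⟨U, hU⟩ hxU) (Ideal.pow_le_pow_right (Nat.le_succ n))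
  choose V hxV hV using hx0
  let U : X.Opens := ⨆ (x : {x : X // p.base x = t}), (V x.1 x.2).1
  refine ⟨U, fun x hx => TopologicalSpace.Opens.mem_iSup.2 ⟨⟨x, hx⟩, hxV x hx⟩, ?_⟩
  have hle : I.subschemeι.ker ≤ U.ι.ker := by
    rw [Scheme.IdealSheafData.ker_subschemeι, ← Scheme.IdealSheafData.map_bot,
      Scheme.IdealSheafData.le_map_iff_comap_le]
    have hW : ∀ x : {x : X // p.base x = t}, IsAffineOpen (U.ι ⁻¹ᵁ (V x.1 x.2).1) := fun x =>
      (V x.1 x.2).2.preimage_of_isOpenImmersion U.ι (by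
        rw [Scheme.Opens.opensRange_ι]
        exact le_iSup (fun x : {x : X // p.base x = t} => (V x.1 x.2).1) x)
    refine Scheme.IdealSheafData.le_of_iSup_eq_top (fun x => ⟨_, hW x⟩) ?_ fun x => ?_
    · refine eq_top_iff.2 fun y _ => ?_
      obtain ⟨z, hz⟩ := TopologicalSpace.Opens.mem_iSup.1 y.2
      exact TopologicalSpace.Opens.mem_iSup.2 ⟨z, hz⟩
    · rw [Scheme.IdealSheafData.ideal_comap_of_isOpenImmersion]
      have e : U.ι ''ᵁ U.ι ⁻¹ᵁ (V x.1 x.2).1 = (V x.1 x.2).1 := by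
        rw [Scheme.Hom.image_preimage_eq_opensRange_inf, Scheme.Opens.opensRange_ι]
        exact inf_eq_right.2 (le_iSup (fun x : {x : X // p.base x = t} => (V x.1 x.2).1) x)
      have e' : I.ideal ⟨U.ι ''ᵁ U.ι ⁻¹ᵁ (V x.1 x.2).1, (hW x).image_of_isOpenImmersion U.ι⟩ = ⊥ := by
        have key : ∀ (W : X.affineOpens), W = V x.1 x.2 → I.ideal W = ⊥ := by
          rintro W rfl; exact hV _ _
        exact key _ (Subtype.ext e)
      rw [e', Scheme.IdealSheafData.ideal_bot]
      intro a ha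
      rw [Ideal.mem_comap, Ideal.mem_bot] at ha
      exact (map_eq_zero_iff _ (ConcreteCategory.bijective_of_isIso (U.ι.appIso _).inv).1).1 ha
  exact ⟨IsClosedImmersion.lift I.subschemeι U.ι hle, IsClosedImmersion.lift_fac _ _ _⟩

end Groth.Agent.S18384
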