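import Groth.Statements.S18386
import Mathlib

set_option autoImplicit false
universe u
open LVCorr

namespace Groth.Agent.S18386

open AlgebraicGeometry CategoryTheory

lemma mem_support_fromSpec {X : Scheme.{u}} (I : X.IdealSheafData) (U : X.affineOpens)
    (p : PrimeSpectrum Γ(X, U)) : U.2.fromSpec p ∈ I.support ↔ I.ideal U ≤ p.asIdeal := by
  have hx : U.2.fromSpec p ∈ (U : X.Opens) := by
    have : U.2.fromSpec p ∈ Set.range U.2.fromSpec := ⟨p, rfl⟩
    rwa [U.2.range_fromSpec] at this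
  rw [Scheme.IdealSheafData.mem_support_iff_of_mem hx]
  exact (Set.ext_iff.1 (U.2.fromSpec_preimage_zeroLocus _) p).trans Iff.rfl

open AlgebraicGeometry in
/-- Let X be a connected Noetherian scheme and I a quasi-coherent sheaf of ideals on X, different from
the structure sheaf, such that I^k = I^(k+1) for some natural number k. Then I^k = 0. -/
theorem result (X : Scheme.{u}) [AlgebraicGeometry.IsNoetherian X]
    [ConnectedSpace X] (I : X.IdealSheafData) (hI : I ≠ ⊤) (k : ℕ)
    (h : I ^ k = I ^ (k + 1)) : I ^ k = ⊥ := by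
  have hloc : ∀ U : X.affineOpens, ∃ r : Γ(X, U), r - 1 ∈ I.ideal U ∧ ∀ j ∈ (I.ideal U) ^ k, r * j = 0 := by
    intro U
    haveI : IsNoetherianRing Γ(X, U) := IsLocallyNoetherian.component_noetherian U
    have hU : (I.ideal U) ^ k = I.ideal U * (I.ideal U) ^ k := by
      have := congrArg (fun J : X.IdealSheafData => J.ideal U) h
      simpa [Scheme.IdealSheafData.ideal_pow, pow_succ'] using this
    obtain ⟨r, hr1, hr2⟩ := Submodule.exists_sub_one_mem_and_smul_eq_zero_of_fg_of_le_smul (I.ideal U)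
      ((I.ideal U) ^ k) (IsNoetherian.noetherian _) hU.le
    exact ⟨r, hr1, fun j hj => hr2 j hj⟩
  have hsupp : IsOpen (I.support : Set X) := by
    rw [isOpen_iff_forall_mem_open]
    intro x hx
    obtain ⟨_, ⟨W, hW, rfl⟩, hxW, -⟩ :=
      X.isBasis_affineOpens.exists_subset_of_mem_open (Set.mem_univ x) isOpen_univ
    obtain ⟨r, hr1, hr2⟩ := hloc ⟨W, hW⟩
    obtain ⟨p, rfl⟩ : x ∈ Set.range hW.fromSpec := by rw [hW.range_fromSpec]; exact hxW
    have hp := (mem_support_fromSpec I ⟨W, hW⟩ p).1 hx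
    refine ⟨hW.fromSpec '' (PrimeSpectrum.basicOpen r : Set (PrimeSpectrum Γ(X, W))), ?_,
      (hW.isOpenImmersion_fromSpec).base_open.isOpenMap _ (PrimeSpectrum.basicOpen r).isOpen, ⟨p, ?_, rfl⟩⟩
    · rintro _ ⟨q, hq, rfl⟩
      refine (mem_support_fromSpec I ⟨W, hW⟩ q).2 ?_
      rcases k.eq_zero_or_pos with rfl | hk
      · exact absurd (hr2 1 (by simp)) (fun h0 => hq (by rw [← mul_one r, h0]; exact q.asIdeal.zero_mem))
      intro i hi
      refine q.2.mem_of_pow_mem k ((q.2.mem_or_mem ?_).resolve_left hq)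
      rw [hr2 _ (Ideal.pow_mem_pow hi k)]; exact q.asIdeal.zero_mem
    · intro hr
      exact p.2.ne_top ((Ideal.eq_top_iff_one _).2 (by simpa using p.asIdeal.sub_mem hr (hp hr1)))
  have huniv : (I.support : Set X) = Set.univ := by
    rcases isClopen_iff.1 ⟨I.support.isClosed, hsupp⟩ with h0 | h0
    · exact absurd ((Scheme.IdealSheafData.support_eq_bot_iff I).1 (TopologicalSpace.Closeds.ext h0)) hI
    · exact h0
  refine Scheme.IdealSheafData.ext (funext fun U => ?_)
  rw [Scheme.IdealSheafData.ideal_pow, Scheme.IdealSheafData.ideal_bot, Pi.pow_apply, Pi.bot_apply, eq_bot_iff]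
  obtain ⟨r, hr1, hr2⟩ := hloc U
  have hu : IsUnit r := by
    by_contra hnu
    obtain ⟨m, hm, hrm⟩ := exists_max_ideal_of_mem_nonunits (mem_nonunits_iff.2 hnu)
    have := (mem_support_fromSpec I U ⟨m, hm.isPrime⟩).1 (by rw [← SetLike.mem_coe, huniv]; trivial)
    exact hm.ne_top ((Ideal.eq_top_iff_one _).2 (by simpa using m.sub_mem hrm (this hr1)))
  intro j hj
  exact Submodule.mem_bot _ |>.2 (hu.mul_right_eq_zero.1 (hr2 j hj))

end Groth.Agent.S18386
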