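import Groth.Statements.S18387
import Mathlib

set_option autoImplicit false
universe u
open LVCorr

namespace Groth.Agent.S18387

theorem result (F A : Type u) [Field F] [CommRing A] [Algebra F A]
    [FiniteDimensional F A] : nilradical A ^ Module.finrank F A = ⊥ := by
  set N := nilradical A with hNdef
  have : IsNoetherianRing A := IsNoetherianRing.of_finite F A
  obtain ⟨t, ht⟩ : IsNilpotent N := IsNoetherianRing.isNilpotent_nilradical A
  have stab : ∀ k, N ^ (k + 1) = N ^ k → N ^ k = ⊥ := by
    intro k hk
    have : ∀ m, N ^ (k + m) = N ^ k := by
      intro m; induction m with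
      | zero => rfl
      | succ m ih => rw [← add_assoc, pow_succ, ih, ← pow_succ, hk]
    rw [← this t, pow_add, ht]; simp
  have key : ∀ k, N ^ k = ⊥ ∨
      Module.finrank F ((N ^ k).restrictScalars F) + k ≤ Module.finrank F A := by
    intro k; induction k with
    | zero => exact Or.inr (by simpa using Submodule.finrank_le _)
    | succ k ih =>
      rcases ih with h | h
      · exact Or.inl (by rw [pow_succ, h]; simp)
      · rcases (Ideal.pow_le_pow_right (I := N) (show k ≤ k + 1 by omega)).lt_or_eq with hlt | heq
        · refine Or.inr ?_
          have hlt' : (N ^ (k+1)).restrictScalars F < (N ^ k).restrictScalars F := hlt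
          have := Submodule.finrank_lt_finrank_of_lt hlt'
          omega
        · exact Or.inl (by rw [heq, stab k heq])
  rcases key (Module.finrank F A) with h | h
  · exact h
  · have : Module.finrank F ((N ^ Module.finrank F A).restrictScalars F) = 0 := by omega
    rw [Submodule.finrank_eq_zero, Submodule.restrictScalars_eq_bot_iff] at this
    exact this

end Groth.Agent.S18387
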