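import Groth.Statements.S18389
import Mathlib

set_option autoImplicit false
universe u
open LVCorr

namespace Groth.Agent.S18389

open AlgebraicGeometry CategoryTheory
set_option backward.isDefEq.respectTransparency false

open AlgebraicGeometry CategoryTheory in
/-- Let j : C → C̄ be an open immersion with dense image and jX : X → X̄ an open immersion, and let c₁ :
C → X and c̄₁ : C̄ → X̄ satisfy j followed by c̄₁ equals c₁ followed by jX, with c̄₁ separated. Let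
U be an open subset of X such that c₁⁻¹(U) is dense in C and the restriction c₁⁻¹(U) → U of c₁ is
proper. Then c̄₁⁻¹(jX(U)) = j(c₁⁻¹(U)) as open subsets of C̄. (In the source all schemes are
separated of finite type over a field, C̄ and X̄ are compactifications of a correspondence and of X,
so that c̄₁ is automatically separated.) -/
theorem result {C Cb X Xb : Scheme.{u}}
    (j : C ⟶ Cb) [IsOpenImmersion j] (hj : DenseRange j.base)
    (jX : X ⟶ Xb) [IsOpenImmersion jX] (c₁ : C ⟶ X) (cb₁ : Cb ⟶ Xb) [IsSeparated cb₁]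
    (h : j ≫ cb₁ = c₁ ≫ jX) (U : X.Opens) (hU : Dense ((c₁ ⁻¹ᵁ U : C.Opens) : Set C))
    [IsProper (c₁ ∣_ U)] :
    cb₁ ⁻¹ᵁ (jX ''ᵁ U) = j ''ᵁ (c₁ ⁻¹ᵁ U) := by
  set V : Cb.Opens := cb₁ ⁻¹ᵁ (jX ''ᵁ U)
  set W : C.Opens := c₁ ⁻¹ᵁ U
  have hle : j ''ᵁ W ≤ V := by
    rintro _ ⟨x, hx, rfl⟩
    show cb₁ (j x) ∈ jX ''ᵁ U
    rw [← Scheme.Hom.comp_apply, h]
    exact ⟨c₁ x, hx, rfl⟩
  refine le_antisymm ?_ hle
  have hsub : Set.range (W.ι ≫ j) ⊆ Set.range V.ι := by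
    rintro _ ⟨x, rfl⟩
    rw [Scheme.Opens.range_ι]
    exact hle ⟨W.ι x, x.2, rfl⟩
  let g := IsOpenImmersion.lift V.ι (W.ι ≫ j) hsub
  have hg : g ≫ V.ι = W.ι ≫ j := IsOpenImmersion.lift_fac _ _ _
  have hcomp : g ≫ (cb₁ ∣_ (jX ''ᵁ U)) = (c₁ ∣_ U) ≫ (jX.isoImage U).hom := by
    rw [← cancel_mono (jX ''ᵁ U).ι, Category.assoc, morphismRestrict_ι, reassoc_of% hg, h,
      Category.assoc, Scheme.Hom.isoImage_hom_ι, morphismRestrict_ι_assoc]
  haveI : IsProper (g ≫ (cb₁ ∣_ (jX ''ᵁ U))) := by rw [hcomp]; infer_instance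
  haveI : IsSeparated (cb₁ ∣_ (jX ''ᵁ U)) := IsZariskiLocalAtTarget.restrict (P := @IsSeparated) inferInstance _
  haveI : IsProper g := IsProper.of_comp g (cb₁ ∣_ (jX ''ᵁ U))
  have hcl : IsClosed (Set.range g) := g.isClosedMap.isClosed_range
  intro y hy
  have hd : Dense ((j ''ᵁ W : Cb.Opens) : Set Cb) := hj.dense_image j.continuous hU
  have hpre : Dense (V.ι ⁻¹' ((j ''ᵁ W : Cb.Opens) : Set Cb)) := hd.preimage V.ι.isOpenEmbedding.isOpenMap
  have hrange : Set.range g = V.ι ⁻¹' ((j ''ᵁ W : Cb.Opens) : Set Cb) := by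
    ext z
    constructor
    · rintro ⟨x, rfl⟩
      refine ⟨W.ι x, x.2, ?_⟩
      have e : (g ≫ V.ι) x = (W.ι ≫ j) x := by rw [hg]
      exact e.symm
    · rintro ⟨x, hx, he⟩
      refine ⟨⟨x, hx⟩, V.ι.isOpenEmbedding.injective ?_⟩
      rw [← Scheme.Hom.comp_apply, hg]
      exact he
  have : (⟨y, hy⟩ : (V : Scheme.{u})) ∈ V.ι ⁻¹' ((j ''ᵁ W : Cb.Opens) : Set Cb) := by
    rw [← hrange, ← hcl.closure_eq, hrange, hpre.closure_eq]
    trivial
  exact this

end Groth.Agent.S18389
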