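import Groth.Statements.S18390
import Mathlib

set_option autoImplicit false
universe u
open LVCorr

namespace Groth.Agent.S18390

theorem span_pow_map_le {A' A : Type*} [CommRing A'] [CommRing A] (φ : A' →+* A) (I : Ideal A)
    (s : Finset A') : (∀ a ∈ s, φ a ∈ I ∧ ∃ k : ℕ, 1 ≤ k ∧ φ a ^ k ∈ I ^ (k + 1)) →
    ∃ K : ℕ, ((Ideal.span (s : Set A')).map φ) ^ K ≤ I ^ (K + 1) := by
  classical
  induction s using Finset.induction_on with
  | empty => intro _; exact ⟨1, by simp⟩
  | @insert a s ha ih =>
    intro h
    obtain ⟨K, hK⟩ := ih fun x hx => h x (Finset.mem_insert_of_mem hx)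
    obtain ⟨haI, k, hk1, hk⟩ := h a (Finset.mem_insert_self a s)
    set J := (Ideal.span (s : Set A')).map φ with hJ
    have hJI : J ≤ I := by
      rw [hJ, Ideal.map_span, Ideal.span_le]
      rintro _ ⟨x, hx, rfl⟩
      exact (h x (Finset.mem_insert_of_mem hx)).1
    refine ⟨k + K, ?_⟩
    have e : (Ideal.span ((insert a s : Finset A') : Set A')).map φ = Ideal.span {φ a} + J := by
      rw [Finset.coe_insert, Ideal.span_insert, Ideal.map_sup, Ideal.map_span, Set.image_singleton,
        Submodule.add_eq_sup]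
    rw [e, add_pow]
    simp only [Ideal.sum_eq_sup]
    refine Finset.sup_le fun i hi => ?_
    refine le_trans Ideal.mul_le_left ?_
    rw [Finset.mem_range] at hi
    rcases le_or_gt k i with hki | hki
    · calc Ideal.span {φ a} ^ i * J ^ (k + K - i)
          = Ideal.span {φ a} ^ k * Ideal.span {φ a} ^ (i - k) * J ^ (k + K - i) := by
            rw [← pow_add, Nat.add_sub_cancel' hki]
        _ ≤ I ^ (k + 1) * I ^ (i - k) * I ^ (k + K - i) := by
            refine Ideal.mul_mono (Ideal.mul_mono ?_ ?_) (pow_le_pow_left' hJI _)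
            · rw [Ideal.span_singleton_pow, Ideal.span_le, Set.singleton_subset_iff]; exact hk
            · exact pow_le_pow_left' ((Ideal.span_singleton_le_iff_mem _).2 haI) _
        _ = I ^ (k + K + 1) := by rw [← pow_add, ← pow_add]; congr 1; omega
    · calc Ideal.span {φ a} ^ i * J ^ (k + K - i)
          = Ideal.span {φ a} ^ i * (J ^ K * J ^ (k - i)) := by
            rw [← pow_add]; congr 2; omega
        _ ≤ I ^ i * (I ^ (K + 1) * I ^ (k - i)) :=
            Ideal.mul_mono (pow_le_pow_left' ((Ideal.span_singleton_le_iff_mem _).2 haI) _)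
              (Ideal.mul_mono hK (pow_le_pow_left' hJI _))
        _ = I ^ (k + K + 1) := by rw [← pow_add, ← pow_add]; congr 1; omega

/-- In the affine, ring-theoretic form which its proof establishes. Let φ : A' → A be a ring
homomorphism, I' a finitely generated ideal of A' and I an ideal of A containing the image of I'.
Then some power I'^k is mapped into I^(k+1) if and only if for every n ≥ 1 and every a ∈ I'^n there
is a k with φ(a)^k ∈ I^(nk+1). (Geometrically, for a morphism f : (X, Z) → (X', Z') of pairs with Z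
a closed subscheme of the preimage of Z', the normal cone of Z in X is the spectrum of the
associated graded algebra of I, and the second condition says that the induced map of normal cones
sends the normal cone of Z set-theoretically into the zero section Z'; the source states the
equivalence in that language.) -/
theorem result (A' A : Type u) [CommRing A'] [CommRing A]
    (φ : A' →+* A) (I' : Ideal A') (hI' : I'.FG) (I : Ideal A) (hle : I'.map φ ≤ I) :
    (∃ k : ℕ, (I' ^ k).map φ ≤ I ^ (k + 1)) ↔
      ∀ n : ℕ, 1 ≤ n → ∀ a ∈ I' ^ n, ∃ k : ℕ, 1 ≤ k ∧ φ a ^ k ∈ I ^ (n * k + 1) := by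
  constructor
  · rintro ⟨k, hk⟩ n hn a ha
    refine ⟨k + 1, by omega, ?_⟩
    have h1 : φ a ^ (k + 1) ∈ (I'.map φ) ^ (n * (k + 1)) := by
      rw [pow_mul, ← Ideal.map_pow]
      exact Ideal.pow_mem_pow (Ideal.mem_map_of_mem φ ha) _
    refine (?_ : (I'.map φ) ^ (n * (k + 1)) ≤ I ^ (n * (k + 1) + 1)) h1
    obtain ⟨d, hd⟩ : ∃ d, n * (k + 1) = k + d := Nat.exists_eq_add_of_le (by nlinarith)
    rw [hd, pow_add]
    calc (I'.map φ) ^ k * (I'.map φ) ^ d ≤ I ^ (k + 1) * I ^ d :=
          Ideal.mul_mono (by rwa [← Ideal.map_pow]) (pow_le_pow_left' hle _)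
      _ = I ^ (k + d + 1) := by rw [← pow_add]; congr 1; omega
  · intro h
    obtain ⟨s, hs⟩ := hI'
    obtain ⟨K, hK⟩ := span_pow_map_le φ I s fun a ha => by
      have haI' : a ∈ I' := hs ▸ Ideal.subset_span ha
      obtain ⟨k, hk1, hk⟩ := h 1 le_rfl a (by simpa using haI')
      exact ⟨hle (Ideal.mem_map_of_mem φ haI'), k, hk1, by simpa using hk⟩
    exact ⟨K, by rw [Ideal.map_pow, ← hs]; exact hK⟩

end Groth.Agent.S18390
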