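import Groth.Statements.S18391
import Mathlib

set_option autoImplicit false
universe u
open LVCorr

namespace Groth.Agent.S18391

/-- Let A be a normal (integrally closed) Noetherian domain and z an element of A such that the radical
of the principal ideal (z) is prime. Then there exist elements w, t of A and a natural number r,
with w not in the radical of (z), such that in the localization A[1/w] the ideal generated by z
equals the ideal generated by t^r and the ideal generated by t is prime. (The condition on w is the
one the printed proof produces and the later use of the lemma needs.) -/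
theorem result (A : Type u) [CommRing A] [IsDomain A]
    [IsNoetherianRing A] [IsIntegrallyClosed A] (z : A) (hz : (Ideal.span {z}).radical.IsPrime) :
    ∃ (w t : A) (r : ℕ), w ∉ (Ideal.span {z}).radical ∧
      Ideal.span {algebraMap A (Localization.Away w) z} =
        Ideal.span {algebraMap A (Localization.Away w) t ^ r} ∧
      (Ideal.span {algebraMap A (Localization.Away w) t}).IsPrime := by
  classical
  set P := (Ideal.span {z}).radical with hP
  haveI : P.IsPrime := hz
  rcases eq_or_ne z 0 with rfl | hz0
  · refine ⟨1, 0, 1, fun h => hz.ne_top ((Ideal.eq_top_iff_one _).2 h), by simp, ?_⟩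
    haveI : IsDomain (Localization.Away (1 : A)) :=
      IsLocalization.isDomain_localization (powers_le_nonZeroDivisors_of_noZeroDivisors one_ne_zero)
    rw [map_zero, Ideal.span_singleton_eq_bot.2 rfl]
    exact Ideal.isPrime_bot
  have hzP : z ∈ P := Ideal.le_radical (Ideal.mem_span_singleton_self z)
  have hmin : P ∈ (Ideal.span {z}).minimalPrimes :=
    ⟨⟨hz, Ideal.le_radical⟩, fun Q hQ _ => hQ.1.radical_le_iff.2 hQ.2⟩
  have hh : P.height ≤ 1 := by
    refine (Ideal.span {z}).height_le_one_of_isPrincipal_of_mem_minimalPrimes P hmin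
  let R := Localization.AtPrime P
  haveI : IsNoetherianRing R := IsLocalization.isNoetherianRing P.primeCompl R inferInstance
  haveI : IsIntegrallyClosed R := isIntegrallyClosed_of_isLocalization R P.primeCompl P.primeCompl_le_nonZeroDivisors
  haveI : Ring.DimensionLEOne R := ⟨fun {q} hq0 hq => by
    haveI := hq
    have hq' : q.comap (algebraMap A R) ≤ P := by
      intro x hx
      by_contra hxP
      exact hq.ne_top (Ideal.eq_top_of_isUnit_mem _ hx (IsLocalization.map_units R (⟨x, hxP⟩ : P.primeCompl)))
    have hne : q.comap (algebraMap A R) ≠ ⊥ := fun h => hq0 (by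
      rw [← IsLocalization.map_comap P.primeCompl R q]
      show (q.comap (algebraMap A R)).map _ = ⊥
      rw [h, Ideal.map_bot])
    rcases hq'.eq_or_lt with h | h
    · rw [← IsLocalization.map_comap P.primeCompl R q]
      show ((q.comap (algebraMap A R)).map (algebraMap A R)).IsMaximal
      rw [h, Localization.AtPrime.map_eq_maximalIdeal]
      exact IsLocalRing.maximalIdeal.isMaximal R
    · exfalso
      haveI : (q.comap (algebraMap A R)).IsPrime := Ideal.comap_isPrime _ _
      have h1 := (Ideal.height_strict_mono_of_isPrime h).trans_le hh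
      rw [ENat.lt_one_iff_eq_zero, Ideal.height_eq_zero_iff_eq_bot] at h1
      exact hne h1⟩
  haveI : IsDedekindDomain R := {}
  haveI : IsDiscreteValuationRing R :=
    { not_a_field' := fun h => by
        have h2 : algebraMap A R z ∈ IsLocalRing.maximalIdeal R :=
          (IsLocalization.AtPrime.to_map_mem_maximal_iff R P z).2 hzP
        rw [h, Ideal.mem_bot, IsLocalization.to_map_eq_zero_iff R P.primeCompl_le_nonZeroDivisors] at h2
        exact hz0 h2 }
  obtain ⟨π, hπ⟩ := IsDiscreteValuationRing.exists_irreducible R
  obtain ⟨t, s₀, rfl⟩ := IsLocalization.exists_mk'_eq P.primeCompl π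
  have hassoc : Associated (IsLocalization.mk' R t s₀) (algebraMap A R t) :=
    ⟨(IsLocalization.map_units R s₀).unit, by simp⟩
  have hirr : Irreducible (algebraMap A R t) := hassoc.irreducible hπ
  have htP : t ∈ P :=
    (IsLocalization.AtPrime.to_map_mem_maximal_iff R P t).1 ((IsLocalRing.mem_maximalIdeal _).2 hirr.not_isUnit)
  have hzne : algebraMap A R z ≠ 0 := fun h =>
    hz0 ((IsLocalization.to_map_eq_zero_iff R P.primeCompl_le_nonZeroDivisors).1 h)
  obtain ⟨r, u, hu⟩ := IsDiscreteValuationRing.eq_unit_mul_pow_irreducible hzne hirr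
  obtain ⟨a, s, hau⟩ := IsLocalization.exists_mk'_eq P.primeCompl (u : R)
  have haP : a ∉ P := fun h => by
    have h2 := (IsLocalization.AtPrime.to_map_mem_maximal_iff R P a).2 h
    rw [← IsLocalization.mk'_spec R a s, hau] at h2
    exact (IsLocalRing.mem_maximalIdeal _).1 h2 (u.isUnit.mul (IsLocalization.map_units R s))
  have heq : z * s = a * t ^ r := by
    apply IsLocalization.injective R P.primeCompl_le_nonZeroDivisors
    rw [map_mul, map_mul, map_pow, hu, ← IsLocalization.mk'_spec R a s, hau]
    ring
  obtain ⟨S, hS⟩ := (IsNoetherian.noetherian P)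
  have hgen : ∀ g : S, ∃ c b : A, c ∉ P ∧ (g : A) * c = t * b := by
    intro g
    have hg : algebraMap A R g ∈ IsLocalRing.maximalIdeal R :=
      (IsLocalization.AtPrime.to_map_mem_maximal_iff R P _).2 (hS ▸ Submodule.subset_span g.2)
    rw [hirr.maximalIdeal_eq, Ideal.mem_span_singleton] at hg
    obtain ⟨q, hq⟩ := hg
    obtain ⟨b, c, rfl⟩ := IsLocalization.exists_mk'_eq P.primeCompl q
    refine ⟨c, b, c.2, IsLocalization.injective R P.primeCompl_le_nonZeroDivisors ?_⟩
    rw [map_mul, map_mul, hq, mul_assoc, IsLocalization.mk'_spec]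
  choose c b hc hgc using hgen
  let w := (s : A) * a * ∏ g : S, c g
  have hw : w ∉ P := fun h => by
    rcases hz.mem_or_mem h with h | h
    · rcases hz.mem_or_mem h with h | h
      · exact s.2 h
      · exact haP h
    · obtain ⟨g, -, hg⟩ := hz.prod_mem_iff.1 h
      exact hc g hg
  refine ⟨w, t, r, hw, ?_, ?_⟩
  all_goals set L := Localization.Away w with hL
  all_goals have hwu : IsUnit (algebraMap A L w) := IsLocalization.Away.algebraMap_isUnit w
  all_goals
    simp only [w, map_mul] at hwu
  · have hsu : IsUnit (algebraMap A L s) := (isUnit_of_mul_isUnit_left (isUnit_of_mul_isUnit_left hwu))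
    have hau' : IsUnit (algebraMap A L a) := isUnit_of_mul_isUnit_right (isUnit_of_mul_isUnit_left hwu)
    calc Ideal.span {algebraMap A L z} = Ideal.span {algebraMap A L z * algebraMap A L s} :=
          (Ideal.span_singleton_mul_right_unit hsu _).symm
      _ = Ideal.span {algebraMap A L a * algebraMap A L t ^ r} := by rw [← map_mul, heq, map_mul, map_pow]
      _ = _ := Ideal.span_singleton_mul_left_unit hau' _
  · have hcu : IsUnit (algebraMap A L (∏ g : S, c g)) := isUnit_of_mul_isUnit_right hwu
    have : Ideal.span {algebraMap A L t} = P.map (algebraMap A L) := by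
      refine le_antisymm ((Ideal.span_singleton_le_iff_mem _).2 (Ideal.mem_map_of_mem _ htP)) ?_
      rw [← hS, Ideal.map_span, Ideal.span_le]
      rintro _ ⟨g, hg, rfl⟩
      have hcg : IsUnit (algebraMap A L (c ⟨g, hg⟩)) := by
        rw [map_prod] at hcu
        exact IsUnit.prod_iff.1 hcu _ (Finset.mem_univ _)
      refine (Ideal.mem_span_singleton.2 ?_)
      rw [← hcg.dvd_mul_right, ← map_mul, hgc ⟨g, hg⟩, map_mul]
      exact dvd_mul_right _ _
    rw [this]
    refine IsLocalization.isPrime_of_isPrime_disjoint (Submonoid.powers w) _ P hz ?_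
    rw [Set.disjoint_left]
    rintro _ ⟨m, rfl⟩ hm
    exact hw (hz.mem_of_pow_mem _ hm)

end Groth.Agent.S18391
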