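import Groth.Statements.S18392
import Mathlib

set_option autoImplicit false
universe u
open LVCorr

namespace Groth.Agent.S18392

/-- Let A be a normal (integrally closed) Noetherian domain and z an element of A such that the radical
of (z) is prime. Then for every non-empty open subset V of Spec A contained in the basic open set
D(z) (that is, every non-empty open subset of Spec A[1/z]) there is an element x of A, not in the
radical of (z), such that the basic open set D(xz) = Spec A[1/xz] is contained in V. -/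
theorem result (A : Type u) [CommRing A]
    [IsDomain A] [IsNoetherianRing A] [IsIntegrallyClosed A] (z : A)
    (hz : (Ideal.span {z}).radical.IsPrime) (V : Set (PrimeSpectrum A)) (hV : IsOpen V)
    (hVz : V ⊆ (PrimeSpectrum.basicOpen z : Set (PrimeSpectrum A))) (hne : V.Nonempty) :
    ∃ x : A, x ∉ (Ideal.span {z}).radical ∧
      ((PrimeSpectrum.basicOpen (x * z) : TopologicalSpace.Opens (PrimeSpectrum A)) :
        Set (PrimeSpectrum A)) ⊆ V := by
  classical
  set P := (Ideal.span {z}).radical with hP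
  have hz0 : z ≠ 0 := by
    rintro rfl
    obtain ⟨v, hv⟩ := hne
    have := hVz hv
    simp at this
  obtain ⟨I, hI⟩ := (PrimeSpectrum.isClosed_iff_zeroLocus_ideal _).1 hV.isClosed_compl
  haveI := hz
  have hPmin : P ∈ (Ideal.span {z}).minimalPrimes := by
    refine ⟨⟨hz, Ideal.le_radical⟩, fun Q hQ _ => ?_⟩
    rw [hP]
    exact hQ.1.radical_le_iff.2 hQ.2
  have hsmall : ∀ Q : Ideal A, Q.IsPrime → Q ≤ P → z ∉ Q → Q = ⊥ := by
    intro Q hQ hQP hzQ
    by_contra h
    haveI := hQ
    have h1 : P.height ≤ 1 := Ideal.height_le_one_of_isPrincipal_of_mem_minimalPrimes _ P hPmin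
    have hlt : Q < P := lt_of_le_of_ne hQP fun e => hzQ (e ▸ Ideal.le_radical (Ideal.mem_span_singleton_self z))
    have h2 : Q.height < P.height := Ideal.height_strict_mono_of_isPrime_of_isPrime hlt
    have hQb : (⊥ : Ideal A) < Q := bot_lt_iff_ne_bot.2 h
    have h3 : (⊥ : Ideal A).height < Q.height := Ideal.height_strict_mono_of_isPrime_of_isPrime hQb
    have h4 : Q.height < 1 := lt_of_lt_of_le h2 h1
    rw [ENat.lt_one_iff_eq_zero] at h4
    rw [h4] at h3
    exact not_lt_zero h3
  let s := (Ideal.finite_minimalPrimes_of_isNoetherianRing A I).toFinset.filter (fun Q => z ∉ Q)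
  have hnle : ∀ Q ∈ s, ¬ Q ≤ P := by
    intro Q hQ hQP
    simp only [s, Finset.mem_filter, Set.Finite.mem_toFinset] at hQ
    have hb := hsmall Q hQ.1.1.1 hQP hQ.2
    have hIb : I = ⊥ := le_bot_iff.1 (hb ▸ hQ.1.1.2)
    obtain ⟨v, hv⟩ := hne
    have : v ∈ Vᶜ := by rw [hI, hIb]; simp
    exact this hv
  choose w hw hwP using fun Q : s => SetLike.not_le_iff_exists.1 (hnle Q.1 Q.2)
  refine ⟨∏ Q : s, w Q, fun h => ?_, fun v hv => ?_⟩
  · obtain ⟨Q, _, hQ⟩ := (Ideal.IsPrime.prod_mem_iff (p := P)).1 h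
    exact hwP Q hQ
  · by_contra hvV
    have hv1 : v ∈ Vᶜ := hvV
    rw [hI, PrimeSpectrum.mem_zeroLocus] at hv1
    obtain ⟨Q, hQ, hQv⟩ := Ideal.exists_minimalPrimes_le (I := I) (J := v.asIdeal) hv1
    apply PrimeSpectrum.mem_basicOpen _ _ |>.1 hv
    by_cases hzQ : z ∈ Q
    · exact Ideal.mul_mem_left _ _ (hQv hzQ)
    · have hQs : Q ∈ s := by simp [s, hQ, hzQ]
      refine Ideal.mul_mem_right _ _ ?_
      rw [Ideal.IsPrime.prod_mem_iff]
      exact ⟨⟨Q, hQs⟩, Finset.mem_univ _, hQv (hw ⟨Q, hQs⟩)⟩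

end Groth.Agent.S18392
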