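import Groth.Statements.S18393
import Mathlib

set_option autoImplicit false
universe u v
open LVCorr

namespace Groth.Agent.S18393

/-- Stated for the underlying continuous maps. Let c₁, c₂ : C → X be continuous maps with C a Noetherian
topological space, let Z be a closed subset of X and B the closure in C of c₂⁻¹(Z) ∖ c₁⁻¹(Z). Call Z
locally invariant when every point x of Z has an open neighbourhood U such that every y in C with
c₂(y) ∈ Z ∩ U and c₁(y) ∈ U satisfies c₁(y) ∈ Z. Then Z is locally invariant if and only if for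
every irreducible subset T of B the closures of c₁(T) and of c₂(T) in X are disjoint. (The source
states this for a correspondence c = (c₁, c₂) : C → X × X of separated schemes of finite type over
an algebraically closed field and for the irreducible components of B; the condition for all
irreducible subsets of B is the same condition.) -/
theorem result {C : Type u} {X : Type v}
    [TopologicalSpace C] [TopologicalSpace X] [TopologicalSpace.NoetherianSpace C]
    (c₁ c₂ : C → X) (hc₁ : Continuous c₁) (hc₂ : Continuous c₂) (Z : Set X) (hZ : IsClosed Z) :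
    (∀ x ∈ Z, ∃ U : Set X, IsOpen U ∧ x ∈ U ∧
        ∀ y : C, c₂ y ∈ Z → c₂ y ∈ U → c₁ y ∈ U → c₁ y ∈ Z) ↔
      ∀ T : Set C, T ⊆ closure (c₂ ⁻¹' Z \ c₁ ⁻¹' Z) → IsIrreducible T →
        closure (c₁ '' T) ∩ closure (c₂ '' T) = ∅ := by
  set S : Set C := c₂ ⁻¹' Z \ c₁ ⁻¹' Z with hS
  have hBZ : closure S ⊆ c₂ ⁻¹' Z :=
    closure_minimal Set.diff_subset (hZ.preimage hc₂)
  constructor
  · intro h T hT hTi
    rw [Set.eq_empty_iff_forall_notMem]
    rintro x ⟨h1, h2⟩
    have hxZ : x ∈ Z := by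
      refine closure_minimal ?_ hZ h2
      rintro _ ⟨y, hy, rfl⟩
      exact hBZ (hT hy)
    obtain ⟨U, hUo, hxU, hU⟩ := h x hxZ
    obtain ⟨_, hz1, ⟨y1, hy1, rfl⟩⟩ := mem_closure_iff.1 h1 U hUo hxU
    obtain ⟨_, hz2, ⟨y2, hy2, rfl⟩⟩ := mem_closure_iff.1 h2 U hUo hxU
    obtain ⟨y, hyT, hy⟩ := hTi.2 _ _ (hUo.preimage hc₁) (hUo.preimage hc₂) ⟨y1, hy1, hz1⟩ ⟨y2, hy2, hz2⟩
    obtain ⟨w, hw, hwS⟩ := mem_closure_iff.1 (hT hyT) _ ((hUo.preimage hc₁).inter (hUo.preimage hc₂)) hy
    exact hwS.2 (hU w hwS.1 hw.2 hw.1)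
  · intro h x _
    obtain ⟨K, hKf, -, hKi, hK⟩ :=
      TopologicalSpace.NoetherianSpace.exists_finite_set_isClosed_irreducible (isClosed_closure (s := S))
    classical
    haveI := hKf.to_subtype
    let N : K → Set X := fun T =>
      if x ∈ closure (c₁ '' T.1) then (closure (c₂ '' T.1))ᶜ else (closure (c₁ '' T.1))ᶜ
    refine ⟨⋂ T : K, N T, isOpen_iInter_of_finite fun T => ?_, Set.mem_iInter.2 fun T => ?_, fun y hy hy2 hy1 => ?_⟩
    · simp only [N]
      split_ifs <;> exact isClosed_closure.isOpen_compl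
    · simp only [N]
      split_ifs with hx
      · intro hx2
        have := h T.1 (fun z hz => hK ▸ Set.mem_sUnion.2 ⟨T.1, T.2, hz⟩) (hKi T.1 T.2)
        exact (Set.eq_empty_iff_forall_notMem.1 this x) ⟨hx, hx2⟩
      · exact hx
    · by_contra hy1Z
      have hyB : y ∈ closure S := subset_closure ⟨hy, hy1Z⟩
      rw [hK] at hyB
      obtain ⟨T, hTK, hyT⟩ := hyB
      have a1 := Set.mem_iInter.1 hy1 ⟨T, hTK⟩
      have a2 := Set.mem_iInter.1 hy2 ⟨T, hTK⟩
      simp only [N] at a1 a2
      split_ifs at a1 a2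
      · exact a2 (subset_closure ⟨y, hyT, rfl⟩)
      · exact a1 (subset_closure ⟨y, hyT, rfl⟩)

end Groth.Agent.S18393
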