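import Groth.Statements.S18395
import Groth.Agent.RGBlowLib.CompactLemmas

set_option autoImplicit false
set_option linter.style.haveILetI false
set_option backward.isDefEq.respectTransparency false
set_option maxHeartbeats 800000
universe u
open LVCorr

namespace Groth.Agent.S18395

open AlgebraicGeometry CategoryTheory in
/-- Let X and C be schemes separated and of finite type over a field k, let c₁, c₂ : C → X be morphisms
over k (a correspondence C → X × X), and fix an open U ⊆ X whose preimage c₁⁻¹(U) forms a dense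
subset of C, such that the restriction c₁⁻¹(U) → U of c₁ is proper, and the closed subset Z = X ∖ U
is locally invariant: every point x of Z has an open neighbourhood U' such that every y in C with
c₂(y) ∈ Z ∩ U' and c₁(y) ∈ U' satisfies c₁(y) ∈ Z. Then the correspondence has a compactification
for which the complement of U is again locally invariant: there are schemes C̄ and X̄ proper over k,
open immersions j : C → C̄ and jX : X → X̄ over k with dense images, and morphisms c̄₁, c̄₂ : C̄ →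
X̄ over k with j followed by c̄ᵢ equal to cᵢ followed by jX, such that X̄ ∖ jX(U) is locally
invariant for (c̄₁, c̄₂) in the same sense. (The source has k algebraically closed.) -/
theorem result {C X : Scheme.{u}} (k : Type u) [Field k]
    (pC : C ⟶ Spec (CommRingCat.of k)) [IsSeparated pC] [QuasiCompact pC] [LocallyOfFiniteType pC]
    (pX : X ⟶ Spec (CommRingCat.of k)) [IsSeparated pX] [QuasiCompact pX] [LocallyOfFiniteType pX]
    (c₁ c₂ : C ⟶ X) (hc₁ : c₁ ≫ pX = pC) (hc₂ : c₂ ≫ pX = pC) (U : X.Opens)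
    (hU : Dense ((c₁ ⁻¹ᵁ U : C.Opens) : Set C)) [IsProper (c₁ ∣_ U)]
    (hZ : ∀ x ∈ ((U : Set X)ᶜ), ∃ U' : Set X, IsOpen U' ∧ x ∈ U' ∧
        ∀ y, c₂.base y ∈ ((U : Set X)ᶜ) → c₂.base y ∈ U' → c₁.base y ∈ U' → c₁.base y ∈ ((U : Set X)ᶜ)) :
    ∃ (Cb Xb : Scheme.{u}) (pCb : Cb ⟶ Spec (CommRingCat.of k)) (pXb : Xb ⟶ Spec (CommRingCat.of k))
      (j : C ⟶ Cb) (jX : X ⟶ Xb) (cb₁ cb₂ : Cb ⟶ Xb),
      IsProper pCb ∧ IsProper pXb ∧ IsOpenImmersion j ∧ IsOpenImmersion jX ∧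
      DenseRange j.base ∧ DenseRange jX.base ∧ j ≫ pCb = pC ∧ jX ≫ pXb = pX ∧
      cb₁ ≫ pXb = pCb ∧ cb₂ ≫ pXb = pCb ∧ j ≫ cb₁ = c₁ ≫ jX ∧ j ≫ cb₂ = c₂ ≫ jX ∧
      ∀ x ∈ ((jX.base '' (U : Set X))ᶜ), ∃ U' : Set Xb, IsOpen U' ∧ x ∈ U' ∧
        ∀ y, cb₂.base y ∈ ((jX.base '' (U : Set X))ᶜ) → cb₂.base y ∈ U' → cb₁.base y ∈ U' → cb₁.base y ∈ ((jX.base '' (U : Set X))ᶜ) := by
  classical
  haveI : IsNoetherian C := RGBlowLib.Union.isNoetherian_of_ft pC
  haveI : IsNoetherian X := RGBlowLib.Union.isNoetherian_of_ft pX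
  haveI : TopologicalSpace.NoetherianSpace C := inferInstance
  -- the bad locus of the correspondence
  let A : Set C := (c₁.base ⁻¹' (U : Set X)) ∩ c₂.base ⁻¹' (U : Set X)ᶜ
  haveI : TopologicalSpace.NoetherianSpace A := TopologicalSpace.NoetherianSpace.set A
  haveI : Finite (irreducibleComponents A) := TopologicalSpace.NoetherianSpace.finite_irreducibleComponents.to_subtype
  have hgen : ∀ K : irreducibleComponents A, ∃ a : C, a ∈ A ∧ Subtype.val '' (K : Set A) ⊆ closure {a} := fun K => by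
    have hKirr : IsIrreducible (Subtype.val '' (K : Set A) : Set C) :=
      K.2.1.image _ continuous_subtype_val.continuousOn
    obtain ⟨a, ha⟩ := QuasiSober.sober hKirr.closure isClosed_closure
    refine ⟨a, ?_, fun y hy => ha.symm ▸ subset_closure hy⟩
    have h1 : closure (Subtype.val '' (K : Set A) : Set C) ⊆ c₂.base ⁻¹' (U : Set X)ᶜ :=
      closure_minimal (by rintro _ ⟨y, -, rfl⟩; exact y.2.2) (U.2.isClosed_compl.preimage c₂.continuous)
    refine ⟨?_, h1 ha.mem⟩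
    obtain ⟨y, hy⟩ := hKirr.nonempty
    have hyA : y ∈ A := by obtain ⟨t, -, rfl⟩ := hy; exact t.2
    exact (ha.specializes (subset_closure hy)).mem_open (U.2.preimage c₁.continuous) hyA.1
  choose a haA hagen using hgen
  -- the two images of each generic point have disjoint closures
  have hdisj : ∀ K, closure {c₁.base (a K)} ∩ closure {c₂.base (a K)} = (∅ : Set X) := fun K => by
    refine Set.eq_empty_iff_forall_notMem.2 fun x hx => ?_
    have hxZ : x ∈ (U : Set X)ᶜ := closure_minimal (Set.singleton_subset_iff.2 (show c₂.base (a K) ∈ (U : Set X)ᶜ from (haA K).2)) U.2.isClosed_compl hx.2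
    obtain ⟨U', hU'o, hxU', h⟩ := hZ x hxZ
    exact h (a K) (haA K).2 ((specializes_iff_mem_closure.2 hx.2).mem_open hU'o hxU')
      ((specializes_iff_mem_closure.2 hx.1).mem_open hU'o hxU') (haA K).1
  obtain ⟨Xb, jX, pXb, hpXb, hjX, hdX, hjXp, hsep⟩ := RGBlowLib.exists_compactification_separating pX
    (fun K => closure {c₁.base (a K)}) (fun K => closure {c₂.base (a K)}) (fun _ => isClosed_closure)
    (fun _ => isClosed_closure) hdisj
  haveI := hpXb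
  haveI := hjX
  obtain ⟨Cb, pCb, j, cb₁, cb₂, hpCb, hj, hdC, hjp, hcb₁, hcb₂, hj₁, hj₂⟩ :=
    RGBlowLib.exists_compactification_over₂ pC pXb pXb (c₁ ≫ jX) (c₂ ≫ jX)
      (by rw [Category.assoc, hjXp, hc₁]) (by rw [Category.assoc, hjXp, hc₂])
  haveI := hpCb
  haveI := hj
  -- over `U` the first projection has no boundary
  have hover : cb₁.base ⁻¹' (jX.base '' (U : Set X)) ⊆ j.base '' ((c₁ ⁻¹ᵁ U : C.Opens) : Set C) := by
    let V : Xb.Opens := jX ''ᵁ U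
    have hmem : ∀ y : (c₁ ⁻¹ᵁ U : C.Opens), ((c₁ ⁻¹ᵁ U).ι ≫ j) y ∈ cb₁ ⁻¹ᵁ V := fun y => by
      show cb₁ (((c₁ ⁻¹ᵁ U).ι ≫ j) y) ∈ jX ''ᵁ U
      rw [← Scheme.Hom.comp_apply, Category.assoc, hj₁, ← Category.assoc, Scheme.Hom.comp_apply]
      exact ⟨_, y.2, rfl⟩
    let s : ((c₁ ⁻¹ᵁ U : C.Opens) : Scheme.{u}) ⟶ cb₁ ⁻¹ᵁ V :=
      IsOpenImmersion.lift (cb₁ ⁻¹ᵁ V).ι ((c₁ ⁻¹ᵁ U).ι ≫ j) (by
        rintro _ ⟨y, rfl⟩
        rw [Scheme.Opens.range_ι]
        exact hmem y)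
    have hsι : s ≫ (cb₁ ⁻¹ᵁ V).ι = (c₁ ⁻¹ᵁ U).ι ≫ j := IsOpenImmersion.lift_fac _ _ _
    haveI : IsProper (s ≫ (cb₁ ∣_ V)) := by
      have e : s ≫ (cb₁ ∣_ V) = (c₁ ∣_ U) ≫ (jX.isoImage U).hom := by
        rw [← cancel_mono V.ι, Category.assoc, morphismRestrict_ι, reassoc_of% hsι, hj₁, Category.assoc,
          Scheme.Hom.isoImage_hom_ι, morphismRestrict_ι_assoc]
      rw [e]; infer_instance
    haveI : IsProper (cb₁ ≫ pXb) := by rw [hcb₁]; infer_instance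
    haveI : IsProper cb₁ := IsProper.of_comp cb₁ pXb
    haveI : IsProper (cb₁ ∣_ V) :=
      MorphismProperty.of_isPullback (P := @IsProper) (isPullback_morphismRestrict cb₁ V).flip inferInstance
    haveI : IsProper s := IsProper.of_comp s (cb₁ ∣_ V)
    intro y hy
    by_contra hy'
    let O : Set Cb := (cb₁ ⁻¹ᵁ V).ι '' (Set.range s)ᶜ
    have hO : IsOpen O := (cb₁ ⁻¹ᵁ V).ι.isOpenEmbedding.isOpenMap _ s.isClosedMap.isClosed_range.isOpen_compl
    have hyO : y ∈ O := ⟨⟨y, hy⟩, fun ⟨w, hw⟩ => hy' ⟨w.1, w.2, by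
      have := congrArg (cb₁ ⁻¹ᵁ V).ι hw
      rw [← Scheme.Hom.comp_apply, hsι] at this
      exact this⟩, rfl⟩
    obtain ⟨w, hwO⟩ := hdC.exists_mem_open hO ⟨y, hyO⟩
    obtain ⟨v, hv, hvO⟩ := hU.exists_mem_open (hO.preimage j.continuous) ⟨w, hwO⟩
    obtain ⟨t, ht, htw⟩ := hvO
    refine ht ⟨⟨v, hv⟩, (cb₁ ⁻¹ᵁ V).ι.isOpenEmbedding.injective ?_⟩
    rw [htw, ← Scheme.Hom.comp_apply, hsι]
    rfl
  refine ⟨Cb, Xb, pCb, pXb, j, jX, cb₁, cb₂, hpCb, hpXb, hj, hjX, hdC, hdX, hjp, hjXp, hcb₁, hcb₂, hj₁, hj₂, ?_⟩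
  intro x _
  let D : irreducibleComponents A → Set Xb := fun K =>
    if x ∈ closure (jX '' closure {c₁.base (a K)}) then closure (jX '' closure {c₂.base (a K)})
    else closure (jX '' closure {c₁.base (a K)})
  have hDc : ∀ K, IsClosed (D K) := fun K => by simp only [D]; split_ifs <;> exact isClosed_closure
  refine ⟨(⋃ K, D K)ᶜ, (isClosed_iUnion_of_finite hDc).isOpen_compl, fun hx => ?_, ?_⟩
  · obtain ⟨K, hK⟩ := Set.mem_iUnion.1 hx
    by_cases h : x ∈ closure (jX '' closure {c₁.base (a K)})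
    · simp only [D, if_pos h] at hK
      exact Set.eq_empty_iff_forall_notMem.1 (hsep K) x ⟨h, hK⟩
    · simp only [D, if_neg h] at hK
      exact h hK
  intro y hy₂ hy₂' hy₁' hy₁
  obtain ⟨y₀, hy₀U, rfl⟩ := hover hy₁
  have e₁ : cb₁ (j y₀) = jX (c₁ y₀) := by rw [← Scheme.Hom.comp_apply, hj₁]; rfl
  have e₂ : cb₂ (j y₀) = jX (c₂ y₀) := by rw [← Scheme.Hom.comp_apply, hj₂]; rfl
  have hy₀A : y₀ ∈ A := ⟨hy₀U, fun h => hy₂ ⟨c₂ y₀, h, e₂.symm⟩⟩
  obtain ⟨K₀, hK₀, hyK⟩ := exists_mem_irreducibleComponents_subset_of_isIrreducible ({⟨y₀, hy₀A⟩} : Set A)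
    isIrreducible_singleton
  have hspec : a ⟨K₀, hK₀⟩ ⤳ y₀ := specializes_iff_mem_closure.2 (hagen ⟨K₀, hK₀⟩ ⟨_, hyK rfl, rfl⟩)
  by_cases h : x ∈ closure (jX '' closure {c₁.base (a ⟨K₀, hK₀⟩)})
  · refine hy₂' (Set.mem_iUnion.2 ⟨⟨K₀, hK₀⟩, ?_⟩)
    simp only [D, if_pos h]
    exact subset_closure ⟨c₂ y₀, (hspec.map c₂.continuous).mem_closure, e₂.symm⟩
  · refine hy₁' (Set.mem_iUnion.2 ⟨⟨K₀, hK₀⟩, ?_⟩)
    simp only [D, if_neg h]
    exact subset_closure ⟨c₁ y₀, (hspec.map c₁.continuous).mem_closure, e₁.symm⟩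

end Groth.Agent.S18395
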