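import Groth.Statements.S18396
import Mathlib
import Groth.Prelude.Def_Frob
import Groth.Agent.IdealStalkLib.Comap

set_option autoImplicit false
universe u
open LVCorr

namespace Groth.Agent.S18396

open CategoryTheory CategoryTheory.Limits AlgebraicGeometry TopologicalSpace Opposite

/-- A pushout of rings is generated by the two images. -/
theorem gen_of_isPushout {A B K R : CommRingCat.{u}} {f : A ⟶ B} {g : A ⟶ K} {i : B ⟶ R} {j : K ⟶ R}
    (h : IsPushout f g i j) (T : Subring R) (hi : ∀ b, i b ∈ T) (hj : ∀ c, j c ∈ T) : ∀ r, r ∈ T := by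
  let i' : B ⟶ CommRingCat.of T := CommRingCat.ofHom (i.hom.codRestrict T hi)
  let j' : K ⟶ CommRingCat.of T := CommRingCat.ofHom (j.hom.codRestrict T hj)
  let l : CommRingCat.of T ⟶ R := CommRingCat.ofHom T.subtype
  have w : f ≫ i' = g ≫ j' := by
    ext a
    exact congrArg (fun q : A ⟶ R => q.hom a) h.w
  have hd : h.desc i' j' w ≫ l = 𝟙 R := by
    apply h.hom_ext
    · rw [← Category.assoc, h.inl_desc, Category.comp_id]; rfl
    · rw [← Category.assoc, h.inr_desc, Category.comp_id]; rfl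
  intro r
  have h2 : ((h.desc i' j' w) r : R) = r := congrArg (fun q : R ⟶ R => q.hom r) hd
  exact h2 ▸ ((h.desc i' j' w).hom r).2

theorem frob_pow_succ (C₀ : Scheme.{u}) (p : ℕ) [Fact p.Prime] [FrobSch.IsCharP C₀ p] (M : ℕ) :
    End.asHom (End.of (FrobSch.frob C₀ p) ^ (M + 1)) =
      FrobSch.frob C₀ p ≫ End.asHom (End.of (FrobSch.frob C₀ p) ^ M) := by
  rw [pow_succ]; rfl

theorem frob_pow_preimage (C₀ : Scheme.{u}) (p : ℕ) [Fact p.Prime] [FrobSch.IsCharP C₀ p] (M : ℕ) (V₀ : C₀.Opens) :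
    (End.asHom (End.of (FrobSch.frob C₀ p) ^ M)) ⁻¹ᵁ V₀ = V₀ := by
  induction M with
  | zero => rfl
  | succ M ih =>
    rw [frob_pow_succ, Scheme.Hom.comp_preimage, ih]
    rfl

theorem isIso_ι_appLE {X : Scheme.{u}} (W : X.Opens) (e) : IsIso (W.ι.appLE W ⊤ e) := by
  rw [Scheme.Opens.ι_appLE]
  let i : W.ι ''ᵁ ⊤ ≅ W := eqToIso W.ι_image_top
  exact (X.presheaf.mapIso i.op).isIso_hom

theorem top_le_ι {X : Scheme.{u}} (W : X.Opens) : (⊤ : (W : Scheme.{u}).Opens) ≤ W.ι ⁻¹ᵁ W := by simp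

theorem top_le_top' {X Y : Scheme.{u}} (f : X ⟶ Y) : (⊤ : X.Opens) ≤ f ⁻¹ᵁ ⊤ := le_of_eq f.preimage_top.symm

theorem appTop_eq {X Y : Scheme.{u}} (f : X ⟶ Y) : f.appTop = f.appLE ⊤ ⊤ (top_le_top' f) :=
  (Scheme.Hom.app_eq_appLE (f := f) (U := ⊤)).trans rfl

theorem frob_pow_appLE (C₀ : Scheme.{u}) (p : ℕ) [Fact p.Prime] [FrobSch.IsCharP C₀ p] (N : ℕ) (U : C₀.Opens)
    (e : U ≤ (End.asHom (End.of (FrobSch.frob C₀ p) ^ N)) ⁻¹ᵁ U) (s : Γ(C₀, U)) :
    (End.asHom (End.of (FrobSch.frob C₀ p) ^ N)).appLE U U e s = s ^ p ^ N := by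
  induction N with
  | zero =>
    show ((Scheme.Hom.app (𝟙 C₀) U) ≫ C₀.presheaf.map (homOfLE e).op) s = s ^ p ^ 0
    rw [show (homOfLE e).op = 𝟙 (op U) from Subsingleton.elim _ _]
    erw [CategoryTheory.Functor.map_id]
    simp only [pow_zero, pow_one]
    rfl
  | succ N ih =>
    have hb := (frob_pow_preimage C₀ p N U).ge
    have h1 := Scheme.Hom.appLE_comp_appLE (FrobSch.frob C₀ p) (End.asHom (End.of (FrobSch.frob C₀ p) ^ N)) U U U hb le_rfl
    have h2 : (End.asHom (End.of (FrobSch.frob C₀ p) ^ (N + 1))).appLE U U e s =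
        (FrobSch.frob C₀ p).appLE U U le_rfl ((End.asHom (End.of (FrobSch.frob C₀ p) ^ N)).appLE U U hb s) := by
      rw [← CommRingCat.comp_apply, h1]
      simp only [frob_pow_succ]
    rw [h2, ih hb]
    have h3 : (FrobSch.frob C₀ p).appLE U U le_rfl = (FrobSch.frob C₀ p).app U := ((FrobSch.frob C₀ p).app_eq_appLE).symm
    rw [h3]
    show (s ^ p ^ N) ^ p = _
    rw [← pow_mul, ← pow_succ]

section
variable {C C₀ : Scheme.{u}} (p : ℕ) [Fact p.Prime] (k₀ : Type u) [Field k₀] [CharP k₀ p]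
  (K : Type u) [Field K] [Algebra k₀ K] [IsAlgClosed K]
  (f₀ : C₀ ⟶ Spec (CommRingCat.of k₀)) [FrobSch.IsCharP C₀ p]
  (πC₀ : C ⟶ C₀) (πK : C ⟶ Spec (CommRingCat.of K))
  (hC : IsPullback πC₀ πK f₀ (Spec.map (CommRingCat.ofHom (algebraMap k₀ K))))
  (N : ℕ) (Fr : C ⟶ C)
  (hFr₀ : Fr ≫ πC₀ = πC₀ ≫ End.asHom (End.of (FrobSch.frob C₀ p) ^ N)) (hFrK : Fr ≫ πK = πK)

include hC hFr₀ hFrK in
/-- Every pulled back section is a power. -/
theorem exists_pow_eq (V₀ : C₀.Opens) (hV₀ : IsAffineOpen V₀) :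
    IsAffineOpen (πC₀ ⁻¹ᵁ V₀) ∧ ∃ hle : πC₀ ⁻¹ᵁ V₀ ≤ Fr ⁻¹ᵁ (πC₀ ⁻¹ᵁ V₀),
      ∀ a : Γ(C, πC₀ ⁻¹ᵁ V₀), ∃ b : Γ(C, πC₀ ⁻¹ᵁ V₀), Fr.appLE _ _ hle a = b ^ p ^ N := by
  set F := End.asHom (End.of (FrobSch.frob C₀ p) ^ N)
  have : IsAffineHom πC₀ := MorphismProperty.of_isPullback hC.flip inferInstance
  have hV : IsAffineOpen (πC₀ ⁻¹ᵁ V₀) := hV₀.preimage πC₀
  have hFV : F ⁻¹ᵁ V₀ = V₀ := frob_pow_preimage C₀ p N V₀
  have hle : πC₀ ⁻¹ᵁ V₀ ≤ Fr ⁻¹ᵁ (πC₀ ⁻¹ᵁ V₀) := by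
    rw [← Scheme.Hom.comp_preimage, hFr₀, Scheme.Hom.comp_preimage, hFV]
  refine ⟨hV, hle, ?_⟩
  let V := πC₀ ⁻¹ᵁ V₀
  have : IsAffine (V : Scheme.{u}) := hV
  have : IsAffine (V₀ : Scheme.{u}) := hV₀
  let p0 : (V : Scheme.{u}) ⟶ (V₀ : Scheme.{u}) := πC₀ ∣_ V₀
  have hp : IsPullback p0 (V.ι ≫ πK) (V₀.ι ≫ f₀) (Spec.map (CommRingCat.ofHom (algebraMap k₀ K))) :=
    ((isPullback_morphismRestrict πC₀ V₀).flip.paste_horiz hC.flip).flip
  have hpush := isPushout_appTop_of_isPullback hp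
  let FrV : (V : Scheme.{u}) ⟶ (V : Scheme.{u}) := IsOpenImmersion.lift V.ι (V.ι ≫ Fr) (by
    rintro _ ⟨z, rfl⟩
    rw [Scheme.Opens.range_ι]
    exact hle z.2)
  have hFrV : FrV ≫ V.ι = V.ι ≫ Fr := IsOpenImmersion.lift_fac _ _ _
  have hchar : (p : Γ((V : Scheme.{u}), ⊤)) = 0 := by
    rw [← map_natCast p0.appTop.hom, ← map_natCast (V₀.ι.appTop).hom]
    rw [FrobSch.natCast_eq_zero_app C₀ p ⊤, map_zero, map_zero]
  let T : Subring Γ((V : Scheme.{u}), ⊤) :=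
    { carrier := {a | ∃ b, FrV.appTop a = b ^ p ^ N}
      one_mem' := ⟨1, by simp⟩
      zero_mem' := ⟨0, by simp [(Fact.out : p.Prime).ne_zero]⟩
      mul_mem' := by rintro a b ⟨a', ha⟩ ⟨b', hb⟩; exact ⟨a' * b', by rw [map_mul, ha, hb, mul_pow]⟩
      add_mem' := by
        rintro a b ⟨a', ha⟩ ⟨b', hb⟩
        rcases subsingleton_or_nontrivial Γ((V : Scheme.{u}), ⊤) with hs | hs
        · exact ⟨0, Subsingleton.elim _ _⟩
        haveI : CharP Γ((V : Scheme.{u}), ⊤) p := (CharP.charP_iff_prime_eq_zero (Fact.out : p.Prime)).mpr hchar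
        exact ⟨a' + b', by rw [map_add, ha, hb, add_pow_char_pow]⟩
      neg_mem' := by
        rintro a ⟨a', ha⟩
        rcases subsingleton_or_nontrivial Γ((V : Scheme.{u}), ⊤) with hs | hs
        · exact ⟨0, Subsingleton.elim _ _⟩
        haveI : CharP Γ((V : Scheme.{u}), ⊤) p := (CharP.charP_iff_prime_eq_zero (Fact.out : p.Prime)).mpr hchar
        refine ⟨-a', ?_⟩
        rw [map_neg, ha, ← iterateFrobenius_def, ← iterateFrobenius_def, map_neg] }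
  have hT : ∀ a, a ∈ T := by
    refine gen_of_isPushout hpush T (fun b => ?_) (fun c => ?_)
    · obtain ⟨b', rfl⟩ : ∃ b', V₀.ι.appLE V₀ ⊤ (top_le_ι V₀) b' = b := by
        have := isIso_ι_appLE V₀ (top_le_ι V₀)
        exact (ConcreteCategory.bijective_of_isIso (V₀.ι.appLE V₀ ⊤ (top_le_ι V₀))).2 b
      refine ⟨p0.appTop (V₀.ι.appLE V₀ ⊤ (top_le_ι V₀) b'), ?_⟩
      have e1 : (FrV ≫ p0) ≫ V₀.ι = (p0 ≫ V₀.ι) ≫ F := by
        simp only [p0, Category.assoc, morphismRestrict_ι]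
        rw [reassoc_of% hFrV, hFr₀]
      have hp0 : (⊤ : (V : Scheme.{u}).Opens) ≤ (p0 ≫ V₀.ι) ⁻¹ᵁ V₀ := fun z _ => (p0 z).2
      have h1 : V₀.ι.appLE V₀ ⊤ (top_le_ι V₀) ≫ (FrV ≫ p0).appLE ⊤ ⊤ (top_le_top' _) =
          F.appLE V₀ V₀ hFV.ge ≫ (p0 ≫ V₀.ι).appLE V₀ ⊤ hp0 := by
        refine (Scheme.Hom.appLE_comp_appLE (FrV ≫ p0) V₀.ι V₀ ⊤ ⊤ _ _).trans
          ((?_ : _ = _).trans (Scheme.Hom.appLE_comp_appLE (p0 ≫ V₀.ι) F V₀ V₀ ⊤ _ _).symm)
        congr 1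
      have h2 := congrArg (fun q : Γ(C₀, V₀) ⟶ Γ((V : Scheme.{u}), ⊤) => q b') h1
      simp only [CommRingCat.comp_apply] at h2
      have h3 : (p0 ≫ V₀.ι).appLE V₀ ⊤ hp0 b' = p0.appTop (V₀.ι.appLE V₀ ⊤ (top_le_ι V₀) b') := by
        rw [← CommRingCat.comp_apply, appTop_eq, Scheme.Hom.appLE_comp_appLE p0 V₀.ι V₀ ⊤ ⊤]
      have h4 : (FrV ≫ p0).appLE ⊤ ⊤ (top_le_top' _) (V₀.ι.appLE V₀ ⊤ (top_le_ι V₀) b') =
          FrV.appTop (p0.appTop (V₀.ι.appLE V₀ ⊤ (top_le_ι V₀) b')) := by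
        rw [← appTop_eq, Scheme.Hom.comp_appTop]
        rfl
      rw [← h4, h2, ← h3, ← map_pow]
      exact congrArg _ (frob_pow_appLE C₀ p N V₀ _ b')
    · obtain ⟨c', hc'⟩ := (ConcreteCategory.bijective_of_isIso (Scheme.ΓSpecIso (CommRingCat.of K)).inv).2 c
      obtain ⟨r, hr⟩ := IsAlgClosed.exists_pow_nat_eq c' (pow_pos (Fact.out : p.Prime).pos N)
      refine ⟨(V.ι ≫ πK).appTop ((Scheme.ΓSpecIso (CommRingCat.of K)).inv r), ?_⟩
      rw [← map_pow, ← map_pow, hr, hc', ← CommRingCat.comp_apply, ← Scheme.Hom.comp_appTop,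
        reassoc_of% hFrV, hFrK]
  intro a
  let ι' := V.ι.appLE V ⊤ (top_le_ι V)
  have : IsIso ι' := isIso_ι_appLE V _
  obtain ⟨b, hb⟩ := hT (ι' a)
  obtain ⟨b', rfl⟩ := (ConcreteCategory.bijective_of_isIso ι').2 b
  refine ⟨b', (ConcreteCategory.bijective_of_isIso ι').1 ?_⟩
  rw [map_pow, ← hb]
  have h1 : Fr.appLE V V hle ≫ ι' = ι' ≫ FrV.appLE ⊤ ⊤ (top_le_top' _) := by
    refine (Scheme.Hom.appLE_comp_appLE V.ι Fr V V ⊤ _ _).trans
      ((?_ : _ = _).trans (Scheme.Hom.appLE_comp_appLE FrV V.ι V ⊤ ⊤ _ _).symm)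
    simp only [hFrV]
  rw [appTop_eq, ← CommRingCat.comp_apply, ← CommRingCat.comp_apply, h1]

end

open AlgebraicGeometry CategoryTheory in
/-- A sufficiently Frobenius-twisted correspondence is contracting near an invariant closed subscheme.
Let k₀ be a finite field with p^e elements, K an algebraic closure of k₀, C₀ a scheme over k₀ and C
= C₀ ×_{k₀} Spec K with its two projections; let Fr : C → C be the n-th power of the geometric
Frobenius of C, i.e. the endomorphism over K whose composite with the projection to C₀ is that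
projection followed by the (e·n)-th power of the absolute p-Frobenius of C₀. Let c₁, c₂ : C → X be
morphisms to a scheme X, I a quasi-coherent sheaf of ideals on X with zero locus Z, J the inverse
image ideal sheaf of I under c₂, and d a natural number with (√J)^d ⊂ J and d < p^(e n). If c₁ ∘ Fr
maps c₂⁻¹(Z) into Z set-theoretically, then the inverse image ideal sheaf L of I under c₁ ∘ Fr
satisfies L ⊂ J and L^d ⊂ J^(d+1); that is, the twisted correspondence (c₁ ∘ Fr, c₂) stabilizes Z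
and is contracting near Z. (In the source the correspondence is defined over k₀, the twist is
written with the geometric Frobenius of X, which gives the same first component, and d is the
ramification of c₂ at Z, the least exponent with (√J)^d ⊂ J; only the k₀-structure of C and the
inequality (√J)^d ⊂ J are used.) -/
theorem result {C C₀ X : Scheme.{u}} (p : ℕ) [Fact p.Prime]
    (k₀ : Type u) [Field k₀] [Fintype k₀] [CharP k₀ p] (e : ℕ) (hq : Fintype.card k₀ = p ^ e)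
    (K : Type u) [Field K] [Algebra k₀ K] [IsAlgClosure k₀ K]
    (f₀ : C₀ ⟶ Spec (CommRingCat.of k₀)) [FrobSch.IsCharP C₀ p]
    (πC₀ : C ⟶ C₀) (πK : C ⟶ Spec (CommRingCat.of K))
    (hC : IsPullback πC₀ πK f₀ (Spec.map (CommRingCat.ofHom (algebraMap k₀ K))))
    (n : ℕ) (Fr : C ⟶ C)
    (hFr₀ : Fr ≫ πC₀ = πC₀ ≫ End.asHom (End.of (FrobSch.frob C₀ p) ^ (e * n)))
    (hFrK : Fr ≫ πK = πK)
    (c₁ c₂ : C ⟶ X) (I : X.IdealSheafData) (d : ℕ)
    (hd : (I.comap c₂).radical ^ d ≤ I.comap c₂) (hn : d < p ^ (e * n))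
    (hinv : (Fr ≫ c₁).base '' (c₂.base ⁻¹' (I.support : Set X)) ⊆ (I.support : Set X)) :
    I.comap (Fr ≫ c₁) ≤ I.comap c₂ ∧ I.comap (Fr ≫ c₁) ^ d ≤ I.comap c₂ ^ (d + 1) := by
  classical
  haveI : IsAlgClosed K := IsAlgClosure.isAlgClosed k₀
  set N := e * n
  set J := I.comap c₂
  set L := I.comap (Fr ≫ c₁)
  have hL : L ≤ J.radical ^ (p ^ N) := by
    have hrad : L ≤ J.radical := by
      refine L.le_radical.trans ?_
      rw [← Scheme.IdealSheafData.vanishingIdeal_support, ← Scheme.IdealSheafData.vanishingIdeal_support]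
      refine Scheme.IdealSheafData.gc.monotone_u ?_
      simp only [J, L, Scheme.IdealSheafData.support_comap]
      intro z hz
      exact hinv ⟨z, hz, rfl⟩
    have hex := fun W : C₀.affineOpens => exists_pow_eq p k₀ K f₀ πC₀ πK hC N Fr hFr₀ hFrK W.1 W.2
    refine Scheme.IdealSheafData.le_of_iSup_eq_top (fun W : C₀.affineOpens => ⟨πC₀ ⁻¹ᵁ W.1, (hex W).1⟩) ?_ fun W => ?_
    · rw [← Scheme.Hom.preimage_iSup, iSup_affineOpens_eq_top, Scheme.Hom.preimage_top]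
    obtain ⟨hV, hle, hpow⟩ := hex W
    have h1 := hrad ⟨πC₀ ⁻¹ᵁ W.1, hV⟩
    rw [Scheme.IdealSheafData.radical_ideal] at h1
    simp only [Scheme.IdealSheafData.ideal_pow, Pi.pow_apply, Scheme.IdealSheafData.radical_ideal]
    simp only [L, Scheme.IdealSheafData.comap_comp] at h1 ⊢
    rw [IdealStalkLib.comap_ideal _ Fr hV hV hle, Ideal.map_le_iff_le_comap] at h1 ⊢
    intro a ha
    obtain ⟨b, hb⟩ := hpow a
    have h2 := h1 ha
    rw [Ideal.mem_comap] at h2 ⊢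
    rw [hb] at h2 ⊢
    refine Ideal.pow_mem_pow ?_ _
    exact (Ideal.radical_isRadical _) ⟨p ^ N, h2⟩
  have hJ : J.radical ^ (p ^ N) ≤ J := le_trans (fun U => Ideal.pow_le_pow_right hn.le) hd
  refine ⟨hL.trans hJ, fun U => ?_⟩
  simp only [Scheme.IdealSheafData.ideal_pow, Pi.pow_apply]
  have h1 := hL U
  have h2 := hd U
  simp only [Scheme.IdealSheafData.ideal_pow, Pi.pow_apply] at h1 h2
  calc L.ideal U ^ d ≤ (J.radical.ideal U ^ p ^ N) ^ d := Ideal.pow_right_mono h1 d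
    _ = (J.radical.ideal U ^ d) ^ p ^ N := by rw [← pow_mul, ← pow_mul, mul_comm]
    _ ≤ J.ideal U ^ p ^ N := Ideal.pow_right_mono h2 _
    _ ≤ J.ideal U ^ (d + 1) := Ideal.pow_le_pow_right hn

end Groth.Agent.S18396
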