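import Groth.Statements.S18397
import Mathlib
import Groth.Agent.FrobCorrLib.Basic

set_option autoImplicit false
universe u
open LVCorr

namespace Groth.Agent.S18397

open AlgebraicGeometry CategoryTheory CategoryTheory.Limits in
/-- Let k₀ be a finite field with p^e elements, K an algebraic closure of k₀, C₀ a scheme locally of
finite type over k₀, C = C₀ ×_{k₀} Spec K with its projections, and Fr : C → C the n-th power of the
geometric Frobenius (over K, compatible with the (e·n)-th power of the absolute p-Frobenius of C₀).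
Let X be locally of finite type over K and c₁, c₂ : C → X morphisms over K with c₂ quasi-finite, and
let d < p^(e n) be such that for every closed point x of X, with J_x the inverse image under c₂ of
the ideal sheaf of the reduced point x, one has (√J_x)^d ⊂ J_x (d bounds the ramification of c₂).
Then the twisted correspondence (c₁ ∘ Fr, c₂) is contracting near every closed point in a
neighbourhood of its fixed points: for every closed point x of X there is an open subset W of C
containing every point of C whose image under (c₁ ∘ Fr, c₂) : C → X ×_K X lies in the diagonal, such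
that, writing L and J for the inverse image ideal sheaves on W of the ideal of x under c₁ ∘ Fr and
under c₂, one has L ⊂ J and L^k ⊂ J^(k+1) for some k. (In the source the correspondence is defined
over k₀ and the twist is written with the geometric Frobenius of X.) -/
theorem result {C C₀ X : Scheme.{u}}
    (p : ℕ) [Fact p.Prime] (k₀ : Type u) [Field k₀] [Fintype k₀] [CharP k₀ p] (e : ℕ)
    (hq : Fintype.card k₀ = p ^ e) (K : Type u) [Field K] [Algebra k₀ K] [IsAlgClosure k₀ K]
    (f₀ : C₀ ⟶ Spec (CommRingCat.of k₀)) [LocallyOfFiniteType f₀] [FrobSch.IsCharP C₀ p]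
    (πC₀ : C ⟶ C₀) (πK : C ⟶ Spec (CommRingCat.of K))
    (hC : IsPullback πC₀ πK f₀ (Spec.map (CommRingCat.ofHom (algebraMap k₀ K))))
    (n : ℕ) (Fr : C ⟶ C)
    (hFr₀ : Fr ≫ πC₀ = πC₀ ≫ End.asHom (End.of (FrobSch.frob C₀ p) ^ (e * n)))
    (hFrK : Fr ≫ πK = πK)
    (pX : X ⟶ Spec (CommRingCat.of K)) [LocallyOfFiniteType pX]
    (c₁ c₂ : C ⟶ X) (hc₁ : c₁ ≫ pX = πK) (hc₂ : c₂ ≫ pX = πK)
    [LocallyQuasiFinite c₂] [LocallyOfFiniteType c₂]
    (hcomm : (Fr ≫ c₁) ≫ pX = c₂ ≫ pX) (d : ℕ) (hn : d < p ^ (e * n))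
    (hd : ∀ (x : X) (hx : IsClosed ({x} : Set X)),
      ((Scheme.IdealSheafData.vanishingIdeal ⟨{x}, hx⟩).comap c₂).radical ^ d ≤
        (Scheme.IdealSheafData.vanishingIdeal ⟨{x}, hx⟩).comap c₂)
    (x : X) (hx : IsClosed ({x} : Set X)) :
    ∃ W : C.Opens,
      (pullback.lift (Fr ≫ c₁) c₂ hcomm).base ⁻¹' Set.range (pullback.diagonal pX).base ⊆ (W : Set C) ∧
      (Scheme.IdealSheafData.vanishingIdeal ⟨{x}, hx⟩).comap (W.ι ≫ Fr ≫ c₁) ≤
        (Scheme.IdealSheafData.vanishingIdeal ⟨{x}, hx⟩).comap (W.ι ≫ c₂) ∧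
      ∃ k : ℕ, (Scheme.IdealSheafData.vanishingIdeal ⟨{x}, hx⟩).comap (W.ι ≫ Fr ≫ c₁) ^ k ≤
        (Scheme.IdealSheafData.vanishingIdeal ⟨{x}, hx⟩).comap (W.ι ≫ c₂) ^ (k + 1) := by
  haveI : IsAlgClosed K := IsAlgClosure.isAlgClosed k₀
  have hclT : IsClosed (c₂.base ⁻¹' {x} \ (Fr ≫ c₁).base ⁻¹' {x}) := by
    have hF : IsClosed (c₂.base ⁻¹' {x}) := hx.preimage c₂.continuous
    have hdisc : DiscreteTopology (c₂.base ⁻¹' {x} : Set C) :=
      isDiscrete_iff_discreteTopology.mp (c₂.isDiscrete_preimage_singleton x)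
    have h1 := hF.isClosedEmbedding_subtypeVal.isClosedMap _
      (isClosed_discrete ((Subtype.val : (c₂.base ⁻¹' {x} : Set C) → C) ⁻¹' (c₂.base ⁻¹' {x} \ (Fr ≫ c₁).base ⁻¹' {x})))
    rwa [Subtype.image_preimage_coe, Set.inter_eq_right.mpr Set.sdiff_subset] at h1
  let W : C.Opens := ⟨(c₂.base ⁻¹' {x} \ (Fr ≫ c₁).base ⁻¹' {x})ᶜ, hclT.isOpen_compl⟩
  refine ⟨W, ?_, ?_⟩
  · rintro c ⟨y, hy⟩ ⟨h2, h1⟩
    have e1 := congrArg (pullback.fst pX pX).base hy
    have e2 := congrArg (pullback.snd pX pX).base hy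
    simp only [← Scheme.Hom.comp_apply, pullback.diagonal_fst, pullback.diagonal_snd, pullback.lift_fst,
      pullback.lift_snd] at e1 e2
    exact h1 (show (Fr ≫ c₁).base c = x from e1.symm.trans (e2.trans h2))
  · refine (Groth.Agent.FrobCorrLib.contracting p k₀ K f₀ πC₀ πK hC (e * n) Fr hFr₀ hFrK c₁ c₂ _ W d (hd x hx) hn
      fun z hz hz2 => ?_).imp_right fun h => ⟨d, h⟩
    have hsupp : (Scheme.IdealSheafData.vanishingIdeal ⟨{x}, hx⟩).support = (⟨{x}, hx⟩ : TopologicalSpace.Closeds X) := rfl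
    simp only [Scheme.IdealSheafData.support_comap, hsupp] at hz2 ⊢
    by_contra h1
    exact hz ⟨hz2, h1⟩

end Groth.Agent.S18397
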