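import Groth.Statements.S18399
import Mathlib

set_option autoImplicit false
universe u
open CAlg

namespace Groth.Agent.S18399

/-- Let k be a field and A a regular local k-algebra with residue field k (the structure map from k onto
the residue field of A is surjective), let σ be a k-algebra endomorphism of A of finite order n with
n invertible in k, and let I_σ be the ideal of A generated by the elements f - σ f. Then I_σ is
generated by finitely many elements of the maximal ideal whose classes in the cotangent space m/m^2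
are linearly independent over the residue field. (Such elements are part of a regular system of
parameters of A, hence part of a regular sequence, which is the printed conclusion; the generators
with independent classes are what the argument produces.) -/
theorem result {k : Type u} [Field k] {A : Type u} [CommRing A] [Algebra k A] [IsRegularLocalRing A] (hres : Function.Surjective ⇑(algebraMap k (IsLocalRing.ResidueField A))) (σ : A →ₐ[k] A) (n : ℕ) (hσ : ∀ a : A, (⇑σ)^[n] a = a) (hn : (n : k) ≠ 0) : ∃ (m : ℕ) (f : Fin m → ↥(IsLocalRing.maximalIdeal A)), Ideal.span (Set.range fun i : Fin m => (f i : A)) = Ideal.span (Set.range fun a : A => a - σ a) ∧ LinearIndependent (IsLocalRing.ResidueField A) (fun i : Fin m => (IsLocalRing.maximalIdeal A).toCotangent (f i)) := by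
  classical
  set I := Ideal.span (Set.range fun a : A => a - σ a)
  set m := IsLocalRing.maximalIdeal A
  have hd : ∀ a, a - σ a ∈ I := fun a => Ideal.subset_span ⟨a, rfl⟩
  have hdi : ∀ (i : ℕ) a, a - (⇑σ)^[i] a ∈ I := by
    intro i
    induction i with
    | zero => simp
    | succ i ih =>
      intro a
      rw [Function.iterate_succ_apply']
      have := add_mem (ih a) (hd ((⇑σ)^[i] a))
      simpa using this
  have hn0 : n ≠ 0 := fun h => hn (by rw [h, Nat.cast_zero])
  have hu : IsUnit (n : A) := by
    rw [← map_natCast (algebraMap k A)]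
    exact (isUnit_iff_ne_zero.2 hn).map _
  have hdec : ∀ a, ∃ c : k, a - algebraMap k A c ∈ m := fun a => by
    obtain ⟨c, hc⟩ := hres (IsLocalRing.residue A a)
    refine ⟨c, (IsLocalRing.residue_eq_zero_iff _).1 ?_⟩
    rw [map_sub, ← hc]
    exact sub_self _
  have hIm : I ≤ m := by
    refine Ideal.span_le.2 ?_
    rintro _ ⟨a, rfl⟩
    obtain ⟨c, hc⟩ := hdec a
    have hσ' : σ (a - algebraMap k A c) ∈ m := by
      by_contra hu'
      have hu' : IsUnit (σ (a - algebraMap k A c)) := IsLocalRing.notMem_maximalIdeal.1 hu'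
      have hiter : ∀ j, IsUnit ((⇑σ)^[j + 1] (a - algebraMap k A c)) := by
        intro j
        induction j with
        | zero => simpa using hu'
        | succ j ih => rw [Function.iterate_succ_apply']; exact ih.map σ
      have := hiter (n - 1)
      rw [Nat.sub_add_cancel (Nat.one_le_iff_ne_zero.2 hn0), hσ] at this
      exact (IsLocalRing.notMem_maximalIdeal.2 this) hc
    have := sub_mem hc hσ'
    simpa using this
  -- `m² ∩ range (1 - σ) ⊆ m I`
  have hkey : ∀ a, a - σ a ∈ m ^ 2 → a - σ a ∈ m * I := by
    intro a ha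
    have hsum : ∀ b ∈ m ^ 2, (∑ i ∈ Finset.range n, (b - (⇑σ)^[i] b)) ∈ m * I := by
      intro b hb
      refine sum_mem fun i _ => ?_
      rw [sq] at hb
      refine Submodule.mul_induction_on hb (fun x hx y hy => ?_) (fun x y hx hy => ?_)
      · rw [iterate_map_mul]
        have hxi : (⇑σ)^[i] x ∈ m := by
          have := sub_mem hx (hIm (hdi i x))
          simpa using this
        rw [show x * y - (⇑σ)^[i] x * (⇑σ)^[i] y =
          y * (x - (⇑σ)^[i] x) + (⇑σ)^[i] x * (y - (⇑σ)^[i] y) by ring]
        exact add_mem (Ideal.mul_mem_mul hy (hdi i x)) (Ideal.mul_mem_mul hxi (hdi i y))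
      · rw [iterate_map_add, add_sub_add_comm]; exact add_mem hx hy
    have h := hsum _ ha
    rw [Finset.sum_sub_distrib, Finset.sum_const, Finset.card_range, nsmul_eq_mul] at h
    have h0 : ∑ i ∈ Finset.range n, (⇑σ)^[i] (a - σ a) = 0 := by
      simp_rw [iterate_map_sub, ← Function.iterate_succ_apply]
      rw [Finset.sum_range_sub', Function.iterate_zero_apply, hσ, sub_self]
    rw [h0, sub_zero] at h
    exact (Ideal.unit_mul_mem_iff_mem _ hu).1 h
  let L : m →ₗ[A] IsLocalRing.CotangentSpace A := m.toCotangent
  let V : Submodule (IsLocalRing.ResidueField A) (IsLocalRing.CotangentSpace A) :=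
    Submodule.span _ (Set.range fun a : A => L ⟨a - σ a, hIm (hd a)⟩)
  obtain ⟨t, htsub, htspan, htli⟩ :=
    exists_linearIndependent (IsLocalRing.ResidueField A) (Set.range fun a : A => L ⟨a - σ a, hIm (hd a)⟩)
  haveI : Fintype t := htli.setFinite.fintype
  let e := (Fintype.equivFin t).symm
  choose g hg using fun i => htsub (e i).2
  refine ⟨_, fun i => ⟨g i - σ (g i), hIm (hd _)⟩, ?_, ?_⟩
  · refine le_antisymm (Ideal.span_le.2 ?_) ?_
    · rintro _ ⟨i, rfl⟩; exact hd _
    set Jf := Ideal.span (Set.range fun i => g i - σ (g i))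
    haveI : IsNoetherianRing A := inferInstance
    refine Submodule.le_of_le_smul_of_le_jacobson_bot (IsNoetherian.noetherian I)
      (IsLocalRing.maximalIdeal_le_jacobson ⊥) (Ideal.span_le.2 ?_)
    rintro _ ⟨a, rfl⟩
    have hmem : L ⟨a - σ a, hIm (hd a)⟩ ∈ Submodule.span (IsLocalRing.ResidueField A) (Set.range fun i => L ⟨g i - σ (g i), hIm (hd _)⟩) := by
      have h1 : L ⟨a - σ a, hIm (hd a)⟩ ∈ Submodule.span (IsLocalRing.ResidueField A) t := by
        rw [htspan]; exact Submodule.subset_span ⟨a, rfl⟩
      refine Submodule.span_mono ?_ h1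
      intro x hx
      refine ⟨e.symm ⟨x, hx⟩, ?_⟩
      show L ⟨g (e.symm ⟨x, hx⟩) - σ (g (e.symm ⟨x, hx⟩)), _⟩ = x
      rw [show L ⟨g (e.symm ⟨x, hx⟩) - σ (g (e.symm ⟨x, hx⟩)), hIm (hd _)⟩ = _ from hg (e.symm ⟨x, hx⟩),
        e.apply_symm_apply]
    obtain ⟨c, hc⟩ := (Submodule.mem_span_range_iff_exists_fun _).1 hmem
    choose k' hk' using fun i => hres (c i)
    let b := a - ∑ i, algebraMap k A (k' i) * g i
    have hb : b - σ b = (a - σ a) - ∑ i, algebraMap k A (k' i) * (g i - σ (g i)) := by
      simp only [b, map_sub, map_sum, map_mul, AlgHom.commutes, mul_sub, Finset.sum_sub_distrib]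
      ring
    have hbmem : b - σ b ∈ m ^ 2 := by
      have h2 : L ⟨b - σ b, hIm (hd b)⟩ = 0 := by
        have : (⟨b - σ b, hIm (hd b)⟩ : m) = ⟨a - σ a, hIm (hd a)⟩ -
            ∑ i, algebraMap k A (k' i) • (⟨g i - σ (g i), hIm (hd _)⟩ : m) := by
          apply Subtype.ext
          simp [hb, Submodule.coe_sum, Algebra.smul_def]
        rw [this, map_sub, map_sum, ← hc, sub_eq_zero]
        refine Finset.sum_congr rfl fun i _ => ?_
        rw [map_smul, ← hk' i, IsScalarTower.algebraMap_apply k A (IsLocalRing.ResidueField A), algebraMap_smul]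
      exact (Ideal.toCotangent_eq_zero m _).1 h2
    have h3 := hkey b hbmem
    show a - σ a ∈ Jf ⊔ m • I
    rw [show a - σ a = (∑ i, algebraMap k A (k' i) * (g i - σ (g i))) + (b - σ b) by rw [hb]; ring]
    exact add_mem (Submodule.mem_sup_left (sum_mem fun i _ => Ideal.mul_mem_left _ _ (Ideal.subset_span ⟨i, rfl⟩)))
      (Submodule.mem_sup_right h3)
  · have : (fun i => L ⟨g i - σ (g i), hIm (hd _)⟩) = (Subtype.val : t → _) ∘ e := funext hg
    show LinearIndependent (IsLocalRing.ResidueField A) fun i => L ⟨g i - σ (g i), hIm (hd _)⟩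
    rw [this]
    exact htli.comp e e.injective

end Groth.Agent.S18399
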