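import Groth.Statements.S1840
import Groth.Agent.S1838
import Mathlib
-- import your own Groth.Agent.* helpers here

set_option autoImplicit false
universe u v
open CycDet

namespace Groth.Agent.S1840

/-- Let M be a finite-dimensional vector space over the residue field κ of a local ring R, viewed as an
R-module. There is a κ-linear isomorphism from det_κ(M) to the top exterior power of M sending the
symbol of an admissible tuple (e₁, …, e_l) to e₁ ∧ … ∧ e_l. -/
theorem result (R : Type u) [CommRing R] [IsLocalRing R] (M : Type v) [AddCommGroup M] [Module R M] [Module (IsLocalRing.ResidueField R) M] [IsScalarTower R (IsLocalRing.ResidueField R) M] [Module.Finite (IsLocalRing.ResidueField R) M] : ∃ Φ : CycDet.Det R M ≃ₗ[IsLocalRing.ResidueField R] (⋀[IsLocalRing.ResidueField R]^((Module.length R M).toNat) M), ∀ e : CycDet.Adm R M (Module.length R M).toNat, Φ (CycDet.symbol R M e) = exteriorPower.ιMulti (IsLocalRing.ResidueField R) ((Module.length R M).toNat) e.1 := by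
  classical
  set κ := IsLocalRing.ResidueField R with hκ
  have hsurj : Function.Surjective (algebraMap R κ) := Ideal.Quotient.mk_surjective
  have hlen : Module.length R M = (Module.finrank κ M : ℕ∞) := by
    rw [Module.length_eq_of_surjective (R := κ) (S := R) hsurj, Module.length_eq_finrank]
  have hfl : IsFiniteLength R M := Module.length_ne_top_iff.mp (by rw [hlen]; exact ENat.natCast_ne_top _)
  set l := (Module.length R M).toNat with hl
  have hl' : l = Module.finrank κ M := by rw [hl, hlen]; rfl
  have hspan : ∀ (e : Fin l → M) (i : ℕ) (y : M), y ∈ spanBefore R M e i →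
      y ∈ Submodule.span κ (e '' {j : Fin l | (j : ℕ) < i}) := fun e i y hy =>
    Submodule.span_le_restrictScalars R κ _ hy
  -- an alternating map vanishes if an entry lies in the span of the earlier ones
  have hzero : ∀ (e : Fin l → M) (a : Fin l) (y : M), y ∈ spanBefore R M e a →
      exteriorPower.ιMulti κ l (Function.update e a y) = 0 := by
    intro e a y hy
    have h' := hspan e a y hy
    clear hy
    induction h' using Submodule.span_induction with
    | mem z hz =>
      obtain ⟨j, hj, rfl⟩ := hz
      have hne : j ≠ a := fun h => by subst h; exact lt_irrefl (j : ℕ) hj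
      exact (exteriorPower.ιMulti κ l).map_eq_zero_of_eq _
        (show Function.update e a (e j) j = Function.update e a (e j) a by
          rw [Function.update_self, Function.update_of_ne hne]) hne
    | zero => exact (exteriorPower.ιMulti κ l).map_update_zero e a
    | add z w _ _ hz hw => rw [(exteriorPower.ιMulti κ l).map_update_add, hz, hw, add_zero]
    | smul c z _ hz => rw [(exteriorPower.ιMulti κ l).map_update_smul, hz, smul_zero]
  let L : Free R M l →ₗ[κ] ⋀[κ]^l M := Finsupp.linearCombination κ fun e => exteriorPower.ιMulti κ l e.1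
  have hL : ∀ e, L (sym R M e) = exteriorPower.ιMulti κ l e.1 := fun e => by
    simp [L, sym]
  have hrel : Submodule.span κ (relSet R M l) ≤ LinearMap.ker L := by
    refine Submodule.span_le.mpr ?_
    rintro x ((⟨e, a, ha, rfl⟩ | ⟨e, e', a, c, hj, ha, rfl⟩) | ⟨e, e', a, b, hab, _, he', rfl⟩)
    · show L _ = 0
      rw [hL, ← Function.update_eq_self a e.1]
      exact hzero e.1 a _ ha
    · show L _ = 0
      rw [map_sub, map_smul, hL, hL]
      have h1 : e.1 = Function.update e.1 a ((e.1 a - (c : R) • e'.1 a) + IsLocalRing.residue R (c : R) • e'.1 a) := by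
        have : IsLocalRing.residue R (c : R) • e'.1 a = (c : R) • e'.1 a :=
          algebraMap_smul κ (c : R) (e'.1 a)
        rw [this, sub_add_cancel, Function.update_eq_self]
      have h2 : Function.update e.1 a (e'.1 a) = e'.1 := funext fun j => by
        by_cases h : j = a
        · subst h; rw [Function.update_self]
        · rw [Function.update_of_ne h, hj j h]
      rw [h1, (exteriorPower.ιMulti κ l).map_update_add, (exteriorPower.ιMulti κ l).map_update_smul,
        hzero e.1 a _ ha, zero_add, h2, sub_self]
    · show L _ = 0
      have hne : a ≠ b := fun h => by rw [h] at hab; omega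
      rw [map_add, hL, hL, he', (exteriorPower.ιMulti κ l).map_swap _ hne, add_neg_cancel]
  let Φ₀ : Det R M →ₗ[κ] ⋀[κ]^l M := Submodule.liftQ _ L hrel
  have hΦ : ∀ e : Adm R M l, Φ₀ (symbol R M e) = exteriorPower.ιMulti κ l e.1 := fun e => hL e
  have hsur : Function.Surjective Φ₀ := by
    rw [← LinearMap.range_eq_top, eq_top_iff, ← exteriorPower.ιMulti_span]
    refine Submodule.span_le.mpr ?_
    rintro _ ⟨v, rfl⟩
    refine ⟨symbol R M ⟨v, fun i r hr => ?_⟩, hΦ _⟩
    have : r • v i = 0 := by
      rw [← algebraMap_smul κ r (v i), show algebraMap R κ r = 0 from Ideal.Quotient.eq_zero_iff_mem.mpr hr,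
        zero_smul]
    rw [this]
    exact Submodule.zero_mem _
  have hr1 := Groth.Agent.S1838.result R M hfl
  haveI : Module.Finite κ (Det R M) :=
    Module.rank_lt_aleph0_iff.mp (lt_of_le_of_lt hr1 Cardinal.one_lt_aleph0)
  have hd : Module.finrank κ (⋀[κ]^l M) = 1 := by
    rw [exteriorPower.finrank_eq, hl', Nat.choose_self]
  have hd' : Module.finrank κ (Det R M) ≤ 1 := by
    have := Cardinal.toNat_le_toNat hr1 Cardinal.one_lt_aleph0
    simpa [Module.finrank] using this
  have heq : Module.finrank κ (Det R M) = Module.finrank κ (⋀[κ]^l M) :=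
    le_antisymm (hd'.trans hd.ge) (by
        obtain ⟨s, hs⟩ := Module.projective_lifting_property Φ₀ LinearMap.id hsur
        exact LinearMap.finrank_le_finrank_of_injective (f := s)
          (Function.LeftInverse.injective (g := Φ₀) fun x => LinearMap.congr_fun hs x))
  exact ⟨LinearEquiv.ofBijective Φ₀
    ⟨(LinearMap.injective_iff_surjective_of_finrank_eq_finrank heq).mpr hsur, hsur⟩, hΦ⟩

end Groth.Agent.S1840
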