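import Groth.Statements.S8268
import Groth.Agent.RelSpecLib.Basic

set_option autoImplicit false
set_option linter.style.haveILetI false
set_option backward.isDefEq.respectTransparency false
universe u
open CategoryTheory CategoryTheory.Limits AlgebraicGeometry Opposite TopologicalSpace
open EGA2

namespace Groth.Agent.S8268

/-- A surjective homomorphism E → F of quasi-coherent O_S-modules induces a closed immersion V(F) → V(E)
of the associated vector bundles (relative spectra of the symmetric algebras; the algebra map A → B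
is the one extending E → F). -/
theorem result {S : Scheme.{u}} (E F : S.Modules) (hE : Coh.IsQCoh E)
    (hF : Coh.IsQCoh F) (u : E ⟶ F) [Epi u]
    (A B : RelSpec.QCAlg S) (j : E ⟶ A.toModule) (k : F ⟶ B.toModule)
    (hA : RelSpec.IsSymAlg E A j) (hB : RelSpec.IsSymAlg F B k)
    (ψ : A ⟶ B) (hψ : j ≫ RelSpec.QCAlg.Hom.toModuleMap ψ = u ≫ k) :
    IsClosedImmersion (RelSpec.QCAlg.specMap ψ) := by
  set g := RelSpec.QCAlg.specMap ψ with hg
  let πZ : g.image ⟶ S := g.imageι ≫ A.π
  let ζ : A ⟶ RelSpec.QCAlg.directImage πZ :=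
    ⟨Groth.Agent.RelSpecLib.algMap A πZ g.imageι rfl, Groth.Agent.RelSpecLib.str_algMap _ _ _ _⟩
  have wt : g.toImage ≫ πZ = B.π := by
    rw [← RelSpec.QCAlg.specMap_π ψ]
    exact g.toImage_imageι_assoc _
  let η : RelSpec.QCAlg.directImage πZ ⟶ B :=
    (⟨AffAlg.algHom πZ B.π g.toImage wt, AffAlg.algHom_comm _ _ _ _⟩ :
      RelSpec.QCAlg.directImage πZ ⟶ RelSpec.QCAlg.directImage B.π) ≫ B.gammaHom
  have hζη : ζ ≫ η = ψ := by
    apply RelSpec.QCAlg.hom_ext
    show Groth.Agent.RelSpecLib.algMap A πZ g.imageι rfl ≫ AffAlg.algHom πZ B.π g.toImage wt ≫ B.gammaMap = ψ.hom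
    have h := Groth.Agent.RelSpecLib.algMap_comp A πZ B.π g.imageι rfl g.toImage wt
    simp only [g.toImage_imageι] at h
    rw [← reassoc_of% h]
    have h2 := Groth.Agent.RelSpecLib.algMap_specMap B.π ψ (𝟙 _) (Category.id_comp _)
    simp only [Category.id_comp] at h2
    rw [h2, Category.assoc, Groth.Agent.RelSpecLib.algMap_id, Category.comp_id]
  haveI : Mono (RelSpec.QCAlg.Hom.toModuleMap η) := by
    haveI := Groth.Agent.SpecQCAlg.isIso_gammaMap B
    have hinj : ∀ U : S.Opens, Function.Injective (η.hom.app (op U)) := by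
      intro U
      have h1 : Function.Injective (g.toImage.app (πZ ⁻¹ᵁ U)) :=
        TopCat.Presheaf.app_injective_of_stalkFunctor_map_injective (F := g.image.sheaf)
          g.toImage.c _ (fun x _ => g.stalkFunctor_toImage_injective x)
      have h2 : Function.Injective (B.gammaMap.app (op U)) :=
        (ConcreteCategory.bijective_of_isIso (C := CommRingCat) (B.gammaMap.app (op U))).1
      intro a b hab
      have h3 : Function.Injective ((AffAlg.algHom πZ B.π g.toImage wt).app (op U)) := by
        dsimp only [AffAlg.algHom]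
        rw [NatTrans.comp_app]
        intro x y hxy
        simp only [CommRingCat.comp_apply] at hxy
        exact h1 ((ConcreteCategory.bijective_of_isIso (C := CommRingCat) _).1 hxy)
      exact h3 (h2 hab)
    refine ⟨fun a b hab => ?_⟩
    apply Scheme.Modules.hom_ext
    intro U
    ext x
    exact hinj U (congrArg (fun t => (t.app U) x) hab)
  let φC : E ⟶ (RelSpec.QCAlg.directImage πZ).toModule := j ≫ RelSpec.QCAlg.Hom.toModuleMap ζ
  have hφC : φC ≫ RelSpec.QCAlg.Hom.toModuleMap η = u ≫ k := by
    rw [Category.assoc, ← Groth.Agent.RelSpecLib.toModuleMap_comp, hζη, hψ]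
  have hker : kernel.ι u ≫ φC = 0 := by
    rw [← cancel_mono (RelSpec.QCAlg.Hom.toModuleMap η), Category.assoc, hφC, kernel.condition_assoc,
      zero_comp, zero_comp]
  obtain ⟨ρ, hρ, -⟩ := hB (RelSpec.QCAlg.directImage πZ) (Abelian.epiDesc u φC hker)
  have hρη : ρ ≫ η = 𝟙 B := by
    obtain ⟨e, -, he⟩ := hB B k
    refine (he _ ?_).trans (he _ ?_).symm
    · dsimp only
      rw [Groth.Agent.RelSpecLib.toModuleMap_comp, reassoc_of% hρ, ← cancel_epi u,
        Abelian.comp_epiDesc_assoc, hφC]
    · dsimp only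
      rw [Groth.Agent.RelSpecLib.toModuleMap_id, Category.comp_id]
  let r := Groth.Agent.RelSpecLib.lift B πZ ρ.hom
  have hr : r ≫ B.π = πZ := Groth.Agent.RelSpecLib.lift_π B πZ ρ.hom ρ.comm
  have hsec : g.toImage ≫ r = 𝟙 B.spec := by
    refine Groth.Agent.RelSpecLib.ext_over B B.π (by rw [Category.assoc, hr, wt]) (Category.id_comp _) ?_
    haveI := Groth.Agent.SpecQCAlg.isIso_gammaMap B
    rw [Groth.Agent.RelSpecLib.algMap_comp B πZ B.π r hr g.toImage wt,
      Groth.Agent.RelSpecLib.algMap_lift B πZ ρ.hom ρ.comm, ← cancel_mono B.gammaMap,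
      Groth.Agent.RelSpecLib.algMap_id, Category.assoc]
    exact congrArg RelSpec.QCAlg.Hom.hom hρη
  haveI : IsAffineHom (r ≫ B.π) := by rw [hr]; infer_instance
  haveI : IsAffineHom r := IsAffineHom.of_comp r B.π
  haveI : IsClosedImmersion (g.toImage ≫ r) := by rw [hsec]; infer_instance
  haveI : IsClosedImmersion g.toImage := IsClosedImmersion.of_comp g.toImage r
  show IsClosedImmersion g
  have hc : IsClosedImmersion (g.toImage ≫ g.imageι) := by
    haveI : IsClosedImmersion g.imageι := inferInstanceAs (IsClosedImmersion g.ker.subschemeι)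
    exact IsClosedImmersion.comp g.toImage g.imageι
  simpa using hc

end Groth.Agent.S8268
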