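import Groth.Statements.S18401
import Groth.Agent.VBundLib.AffFinal
import Groth.Agent.S8268

set_option autoImplicit false
universe u
open CategoryTheory AlgebraicGeometry Limits
open Cyc

namespace Groth.Agent.S18401

open CategoryTheory CategoryTheory.Limits AlgebraicGeometry

open Groth.Agent Groth.Agent.VBundLib
set_option backward.isDefEq.respectTransparency false

/-- For an affine bundle φ : B → X of rank n, flat pullback φ^* : CH_k(X) → CH_{k+n}(B) is an
isomorphism; this row states its injectivity for a scheme X (the published statement has X an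
algebraic stack of finite type over a field; surjectivity of φ^* holds for any flat morphism
Zariski-locally isomorphic to an affine space over the base and is a separate result). The affine
bundle is presented through its structure group Aff(n) ⊂ GL(n+1), i.e. through a short exact
sequence 0 → O_X → ℰ → ℱ → 0 of quasi-coherent O_X-modules with ℰ finite locally free of rank n+1
and ℱ of rank n: E = Spec(Sym ℰ) is the associated vector bundle, t : E → A^1_X = Spec(Sym O_X) is
induced by O_X → ℰ, and B is the fibre of t over the section of A^1_X given by an invertible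
function (the algebra map Sym O_X → O_X extending an automorphism u of the module O_X), so that B is
a torsor under Spec(Sym ℱ); here the structure sheaf appears both as Mathlib's unit module and as
the unit quasi-coherent algebra regarded as a module, and u is any isomorphism between the two. The
symmetric algebras are given by their universal property among quasi-coherent algebras
(RelSpec.IsSymAlg) and the algebra maps by their restrictions to the generating modules; B is the
fibre product of the two morphisms of relative spectra and φ is its first projection followed by E →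
X. A pair (X, δ) with Cyc.IsSetup plays the role of a scheme locally of finite type over a base with
a dimension function (the published statement takes X of finite type over a field; this row takes
any such pair), Cyc.DeltaCompat records that the dimension function on B is the induced one, and φ^*
is Cyc.pullFun with relative dimension n. -/
theorem result (X : Scheme.{u}) (δ : X → ℤ) (hX : Cyc.IsSetup X δ) (S : ShortComplex X.Modules) (hS : S.ShortExact) (e : S.X₁ ≅ Coh.structureModule X) (n : ℕ) (hqE : Coh.IsQCoh S.X₂) (hE : FlatMod.IsFinLocFreeOfRank (n + 1) S.X₂) (hqF : Coh.IsQCoh S.X₃) (hF : FlatMod.IsFinLocFreeOfRank n S.X₃) (AE : RelSpec.QCAlg X) (jE : S.X₂ ⟶ AE.toModule) (hAE : RelSpec.IsSymAlg S.X₂ AE jE) (A1 : RelSpec.QCAlg X) (j1 : Coh.structureModule X ⟶ A1.toModule) (hA1 : RelSpec.IsSymAlg (Coh.structureModule X) A1 j1) (ψ : A1 ⟶ AE) (hψ : j1 ≫ RelSpec.QCAlg.Hom.toModuleMap ψ = e.inv ≫ S.f ≫ jE) (u : Coh.structureModule X ⟶ (RelSpec.QCAlg.unit X).toModule) [IsIso u] (ε : A1 ⟶ RelSpec.QCAlg.unit X) (hε : j1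 ≫ RelSpec.QCAlg.Hom.toModuleMap ε = u) (δB : ↥(pullback (RelSpec.QCAlg.specMap ψ) (RelSpec.QCAlg.specMap ε)) → ℤ) (hBs : Cyc.IsSetup (pullback (RelSpec.QCAlg.specMap ψ) (RelSpec.QCAlg.specMap ε)) δB) (hδB : Cyc.DeltaCompat (pullback.fst (RelSpec.QCAlg.specMap ψ) (RelSpec.QCAlg.specMap ε) ≫ AE.π) δB δ) (k : ℤ) (α : AlgebraicCycle X ℤ) (hα : α ∈ Cyc.Zk X δ k) (γ : AlgebraicCycle (pullback (RelSpec.QCAlg.specMap ψ) (RelSpec.QCAlg.specMap ε)) ℤ) (hγ : ⇑γ = Cyc.pullFun (pullback.fst (RelSpec.QCAlg.specMap ψ) (RelSpec.QCAlg.specMap ε) ≫ AE.π) δB δ n ⇑α) (h0 : Cyc.RatEquivZero δB (k + n) γ) : Cyc.RatEquivZero δ k α := by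
  haveI := hqE
  haveI := hqF
  haveI : Coh.IsQCoh (Coh.structureModule X) := InvExt.isQCoh_of_isInvertible ParaFLib.isInvertible_structureModule
  obtain ⟨ν, hν, hνu⟩ := exists_nu u
  haveI := isIso_unit_π (X := X)
  let tψ := RelSpec.QCAlg.specMap ψ
  let tε := RelSpec.QCAlg.specMap ε
  have hcomp : IsClosedImmersion (tε ≫ A1.π) := by rw [RelSpec.QCAlg.specMap_π]; infer_instance
  haveI : IsClosedImmersion tε := by
    haveI := hcomp
    exact IsClosedImmersion.of_comp tε A1.π
  let i := pullback.fst tψ tε
  haveI : IsClosedImmersion i := MorphismProperty.pullback_fst _ _ inferInstance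
  have hcE : IsVB AE.π (tautCoord AE jE) := isVB_spec hAE
  have hc1 : IsVB A1.π (tautCoord A1 j1) := isVB_spec hA1
  let b : Coh.structureModule X ⟶ S.X₂ := e.inv ≫ S.f
  let c := tautCoord AE jE
  have hθ : ∀ {T : Scheme.{u}} (k : T ⟶ AE.spec), theta c b k =
      unitVal (pullCoord (k ≫ tψ) (by rw [Category.assoc, RelSpec.QCAlg.specMap_π]) (tautCoord A1 j1) :
        Coord (k ≫ AE.π) (Coh.structureModule X)) := by
    intro T k
    have hψ' : j1 ≫ RelSpec.QCAlg.Hom.toModuleMap ψ = b ≫ jE := by rw [hψ, Category.assoc]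
    rw [← pullCoord_comp tψ (RelSpec.QCAlg.specMap_π ψ) k rfl, pullCoord_specMap hψ', pullCoord_precomp]
    rfl
  have hε' : j1 ≫ RelSpec.QCAlg.Hom.toModuleMap ε = 𝟙 _ ≫ u := by rw [hε, Category.id_comp]
  have hsec : ∀ {T : Scheme.{u}} (l : T ⟶ (RelSpec.QCAlg.unit X).spec) (g : T ⟶ X)
      (w : l ≫ (RelSpec.QCAlg.unit X).π = g),
      unitVal (pullCoord (l ≫ tε) (by rw [Category.assoc, RelSpec.QCAlg.specMap_π, w]) (tautCoord A1 j1) :
        Coord g (Coh.structureModule X)) = g.appTop ν := by
    intro T l g w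
    rw [← pullCoord_comp tε (RelSpec.QCAlg.specMap_π ε) l w, pullCoord_specMap hε', Category.id_comp,
      pullCoord_tautCoord]
    exact hνu g l w
  have hgen : ∀ {T : Scheme.{u}} {k k' : T ⟶ A1.spec} (g : T ⟶ X) (w : k ≫ A1.π = g) (w' : k' ≫ A1.π = g),
      unitVal (pullCoord k w (tautCoord A1 j1)) = unitVal (pullCoord k' w' (tautCoord A1 j1)) → k = k' := by
    intro T k k' g w w' h
    subst w'
    exact IsVB.ext hc1 w (unitVal_injective h)
  have hi : theta c b i = (i ≫ AE.π).appTop ν := by
    rw [hθ i]
    have w : pullback.snd tψ tε ≫ (RelSpec.QCAlg.unit X).π = i ≫ AE.π := by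
      rw [← RelSpec.QCAlg.specMap_π ε, ← RelSpec.QCAlg.specMap_π ψ, ← Category.assoc, ← Category.assoc]
      exact congrArg (· ≫ A1.π) pullback.condition.symm
    simp only [show i ≫ tψ = pullback.snd tψ tε ≫ tε from pullback.condition]
    exact hsec _ _ w
  have hB : ∀ {T : Scheme.{u}} (k : T ⟶ AE.spec), theta c b k = (k ≫ AE.π).appTop ν → ∃ h, h ≫ i = k := by
    intro T k hk
    let l := (k ≫ AE.π) ≫ inv (RelSpec.QCAlg.unit X).π
    have w : l ≫ (RelSpec.QCAlg.unit X).π = k ≫ AE.π := by
      rw [Category.assoc, IsIso.inv_hom_id, Category.comp_id]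
    refine ⟨pullback.lift k l ?_, pullback.lift_fst _ _ _⟩
    refine hgen (k ≫ AE.π) (by rw [Category.assoc, RelSpec.QCAlg.specMap_π])
      (by rw [Category.assoc, RelSpec.QCAlg.specMap_π, w]) ?_
    rw [← hθ k, hk, hsec l _ w]
  obtain ⟨_, hlft, _, _⟩ := isAffineHom_of_locTriv (IsVB.locTriv hcE hE)
  obtain ⟨hflat, hsB⟩ := affine_facts hX hcE hE b hν i hi hB hBs hδB
  haveI := hflat
  exact affine_injective hX hS e hE hF hcE hν i hi hB hBs hδB hsB hα hγ h0


end Groth.Agent.S18401
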