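import Groth.Statements.S18402
import Mathlib
-- import your own Groth.Agent.* helpers here

set_option autoImplicit false
universe u
open Pi1

namespace Groth.Agent.S18402

open AlgebraicGeometry CategoryTheory CategoryTheory.Limits in
/-- Let X be an irreducible scheme and π : W ⟶ X a flat morphism whose fibre over every field-valued
point of X is irreducible (so every fibre is geometrically irreducible and π is surjective). Then
for every finite étale cover Z of X with Z connected, the base change of Z along π is connected.
Ranging over all finite étale covers of X, this says that the monodromy group of each cover (the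
image of the fundamental group in the permutations of a geometric fibre) is unchanged by pullback
along π. The published statement asserts that equality of monodromy groups, for generically finite,
generically étale covers between irreducible algebraic stacks. -/
theorem result {X W : Scheme.{u}}
    [IrreducibleSpace X] (π : W ⟶ X) [Flat π] [GeometricallyIrreducible π]
    (Z : FEt.Cat X) [ConnectedSpace Z.left] :
    ConnectedSpace ↥(pullback Z.hom π) := by
  obtain ⟨hfin, het⟩ : IsFinite Z.hom ∧ Etale Z.hom := Z.prop
  let p := pullback.fst Z.hom π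
  haveI : GeometricallyIrreducible p := inferInstance
  haveI : Flat p := inferInstance
  haveI : Flat Z.hom := inferInstance
  let ξ := genericPoint X
  have hfinG : (Z.hom ⁻¹' {ξ}).Finite := Z.hom.finite_preimage_singleton ξ
  haveI : Nonempty ↥(pullback Z.hom π) := ⟨(p.surjective (Classical.arbitrary Z.left)).choose⟩
  haveI : PreconnectedSpace ↥(pullback Z.hom π) := by
    refine preconnectedSpace_iff_clopen.mpr fun A hA => ?_
    have hsat : ∀ a b, p a = p b → a ∈ A → b ∈ A := fun a b hab ha => by
      have hirr : IsIrreducible (p ⁻¹' {p a}) := by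
        rw [← p.range_fiberι, ← Set.image_univ]
        exact (IrreducibleSpace.isIrreducible_univ _).image _ (p.fiberι _).continuous.continuousOn
      exact hirr.isConnected.isPreconnected.subset_isClopen hA ⟨a, rfl, ha⟩ hab.symm
    let B : Set Z.left := p '' A
    have hgen : ∀ z' z, z' ⤳ z → (z' ∈ B ↔ z ∈ B) := by
      intro z' z h
      obtain ⟨a, rfl⟩ := p.surjective z
      obtain ⟨a', ha', rfl⟩ := Flat.generalizingMap p h
      constructor
      · rintro ⟨c, hc, hcz⟩
        exact ⟨a, ha'.mem_closed hA.1 (hsat c a' hcz hc), rfl⟩
      · rintro ⟨c, hc, hcz⟩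
        exact ⟨a', ha'.mem_open hA.2 (hsat c a hcz hc), rfl⟩
    have hcl : ∀ C : Set Z.left, (∀ z' z, z' ⤳ z → (z' ∈ C ↔ z ∈ C)) → IsClosed C := by
      intro C hC
      have h : C = ⋃ g ∈ (Z.hom ⁻¹' {ξ} ∩ C), closure {g} := by
        refine Set.Subset.antisymm (fun z hz => ?_) (Set.iUnion₂_subset fun g hg z hz =>
          (hC g z (specializes_iff_mem_closure.mpr hz)).mp hg.2)
        obtain ⟨g, hg, hgξ⟩ := Flat.generalizingMap Z.hom (show ξ ⤳ Z.hom z from (genericPoint_spec X).specializes (Set.mem_univ (Z.hom z : X)))
        exact Set.mem_iUnion₂.mpr ⟨g, ⟨hgξ, (hC g z hg).mpr hz⟩, hg.mem_closure⟩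
      rw [h]
      exact (hfinG.inter_of_left C).isClosed_biUnion fun _ _ => isClosed_closure
    have hB : IsClopen B := ⟨hcl B hgen, isClosed_compl_iff.mp (hcl Bᶜ fun z' z h => not_congr (hgen z' z h))⟩
    rcases preconnectedSpace_iff_clopen.mp inferInstance B hB with h | h
    · left; exact Set.image_eq_empty.mp h
    · right
      refine Set.eq_univ_of_forall fun a => ?_
      obtain ⟨c, hc, hca⟩ : p a ∈ B := h ▸ Set.mem_univ _
      exact hsat c a hca hc
  exact ⟨inferInstance⟩

end Groth.Agent.S18402
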