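import Mathlib
import Groth.Statements.S18416
-- import your own Groth.Agent.* helpers here

set_option autoImplicit false
universe u v w
open CAlg

namespace Groth.Agent.S18416

/-- Let R → C and C → B be smooth ring homomorphisms, J an ideal of B and K the preimage of J in C, and
suppose that C surjects onto A = B/J (so that C/K = B/J = A). Then for every prime x of A there
exist f ∈ B whose image in A does not lie in x and an ideal J₀ of B_f contained in J B_f such that
the composite C → B_f → B_f/J₀ is étale. -/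
theorem result (R : Type u) (C : Type v) (B : Type w)
    [CommRing R] [CommRing C] [CommRing B] [Algebra R C] [Algebra C B] [Algebra R B] [IsScalarTower R C B]
    [Algebra.Smooth R C] [Algebra.Smooth C B] (J : Ideal B)
    (hsurj : Function.Surjective ((Ideal.Quotient.mk J).comp (algebraMap C B)))
    (x : PrimeSpectrum (B ⧸ J)) :
    ∃ f : B, Ideal.Quotient.mk J f ∉ x.asIdeal ∧
      ∃ J₀ : Ideal (Localization.Away f), J₀ ≤ J.map (algebraMap B (Localization.Away f)) ∧
        ((Ideal.Quotient.mk J₀).comp ((algebraMap B (Localization.Away f)).comp (algebraMap C B))).Etale := by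
  classical
  set q : Ideal B := x.asIdeal.comap (Ideal.Quotient.mk J)
  have hJD : ∀ b : B, ∃ j : J, KaehlerDifferential.D C B b = KaehlerDifferential.D C B (j : B) := by
    intro b
    obtain ⟨c, hc⟩ := hsurj (Ideal.Quotient.mk J b)
    refine ⟨⟨b - algebraMap C B c, ?_⟩, ?_⟩
    · rw [← Ideal.Quotient.eq]; exact hc.symm
    · simp
  let L := Localization.AtPrime q
  haveI : IsLocalizedModule q.primeCompl (KaehlerDifferential.map C C B L) :=
    KaehlerDifferential.isLocalizedModule_map C B L q.primeCompl
  haveI : Algebra.Smooth C L → True := fun _ => trivial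
  haveI : Algebra.FormallySmooth B L := Algebra.FormallySmooth.of_isLocalization q.primeCompl
  haveI : Algebra.FormallySmooth C L := Algebra.FormallySmooth.comp C B L
  have hspan : Submodule.span L
      (Set.range fun j : J => KaehlerDifferential.map C C B L (KaehlerDifferential.D C B (j : B))) = ⊤ := by
    rw [eq_top_iff, ← KaehlerDifferential.span_range_map_derivation_of_isLocalization C B L q.primeCompl,
      Submodule.span_le]
    rintro _ ⟨b, rfl⟩
    obtain ⟨j, hj⟩ := hJD b
    exact Submodule.subset_span ⟨j, by simp [hj]⟩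
  haveI : Module.FinitePresentation L (Ω[L⁄C]) := by
    haveI : Module.Finite L (Ω[L⁄C]) :=
      Module.Finite.of_isLocalizedModule q.primeCompl (Rₚ := L) (KaehlerDifferential.map C C B L)
    exact Module.finitePresentation_of_projective L _
  obtain ⟨κ, a, b, hb⟩ := Module.exists_basis_of_span_of_flat _ hspan
  haveI : Finite κ := Module.Finite.finite_basis b
  let e : (κ →₀ B) →ₗ[B] Ω[B⁄C] :=
    Finsupp.linearCombination B fun i : κ => KaehlerDifferential.D C B (a i : B)
  let l₁ : (κ →₀ B) →ₗ[B] (κ →₀ L) := Finsupp.mapRange.linearMap (Algebra.linearMap B L)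
  let l₂ : Ω[B⁄C] →ₗ[B] Ω[L⁄C] := KaehlerDifferential.map C C B L
  let eₚ : (κ →₀ L) →ₗ[L] Ω[L⁄C] :=
    IsLocalizedModule.mapExtendScalars q.primeCompl l₁ l₂ L e
  have : eₚ = b.repr.symm := by
    ext i
    trans IsLocalizedModule.map q.primeCompl l₁ l₂ e <| l₁ <| Finsupp.single i 1
    · simp [eₚ, -IsLocalizedModule.map_apply, l₁]
    · simp [l₂, e, hb]
  have heₚ : Function.Bijective eₚ := this ▸ b.repr.symm.bijective
  obtain ⟨g, hg, h⟩ := Module.FinitePresentation.exists_notMem_bijective e q l₁ l₂ heₚ
  let P := Localization.Away g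
  let l₁ₜ : (κ →₀ B) →ₗ[B] (κ →₀ P) := Finsupp.mapRange.linearMap (Algebra.linearMap B _)
  let l₂ₜ : Ω[B⁄C] →ₗ[B] Ω[P⁄C] := KaehlerDifferential.map C C B P
  haveI : IsLocalizedModule (Submonoid.powers g) l₂ₜ :=
    KaehlerDifferential.isLocalizedModule_map C B P (Submonoid.powers g)
  rw [← IsLocalizedModule.map_bijective_iff_localizedModuleMap_bijective l₁ₜ l₂ₜ] at h
  let eₜ' : (κ →₀ P) →ₗ[P] Ω[P⁄C] :=
    IsLocalizedModule.mapExtendScalars (Submonoid.powers g) l₁ₜ l₂ₜ P e
  let bP : Module.Basis κ P (Ω[P⁄C]) := .ofRepr (LinearEquiv.ofBijective eₜ' h).symm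
  let F : κ → P := fun i => algebraMap B P (a i : B)
  have hbP : ∀ i, bP i = KaehlerDifferential.D C P (F i) := by
    intro i
    simp +zetaDelta [IsLocalizedModule.map_linearCombination]
  refine ⟨g, hg, Ideal.span (Set.range F), ?_, ?_⟩
  · rw [Ideal.span_le]
    rintro _ ⟨i, rfl⟩
    exact Ideal.mem_map_of_mem _ (a i).2
  set J₀ := Ideal.span (Set.range F) with hJ₀
  let A := P ⧸ J₀
  haveI : Algebra.Smooth B P := ⟨Algebra.FormallySmooth.of_isLocalization (Submonoid.powers g),
    IsLocalization.Away.finitePresentation g⟩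
  haveI : Algebra.Smooth C P := Algebra.Smooth.comp C B P
  haveI : Algebra.FinitePresentation C A :=
    Algebra.FinitePresentation.quotient (R := C) ⟨(Set.finite_range F).toFinset, by simp [hJ₀]⟩
  have hsurjA : Function.Surjective (algebraMap P A) := Ideal.Quotient.mk_surjective
  set I := RingHom.ker (algebraMap P A) with hIdef
  have hI : I = J₀ := Ideal.mk_ker
  have hFI : ∀ i, F i ∈ I := fun i => hI.ge (Ideal.subset_span ⟨i, rfl⟩)
  have hD0 : ∀ i, KaehlerDifferential.mapBaseChange C P A
      (1 ⊗ₜ KaehlerDifferential.D C P (F i)) = 0 := by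
    intro i
    rw [KaehlerDifferential.mapBaseChange_tmul, KaehlerDifferential.map_D,
      show algebraMap P A (F i) = 0 from hFI i, map_zero, smul_zero]
  haveI : Algebra.FormallyUnramified C A := by
    constructor
    refine subsingleton_of_forall_eq 0 fun w => ?_
    obtain ⟨t, rfl⟩ := KaehlerDifferential.mapBaseChange_surjective C P A hsurjA w
    induction t with
    | zero => simp
    | add s t hs ht => rw [map_add, hs, ht, add_zero]
    | tmul c w =>
      have hw : w ∈ Submodule.span P (Set.range bP) := by rw [bP.span_eq]; trivial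
      induction hw using Submodule.span_induction generalizing c with
      | mem w hw =>
        obtain ⟨i, rfl⟩ := hw
        rw [show c ⊗ₜ[P] bP i = c • ((1 : A) ⊗ₜ[P] bP i) by
            rw [TensorProduct.smul_tmul', smul_eq_mul, mul_one], map_smul, hbP, hD0, smul_zero]
      | zero => simp
      | add u v _ _ hu hv => rw [TensorProduct.tmul_add, map_add, hu, hv, add_zero]
      | smul r u _ hu => rw [TensorProduct.tmul_smul, TensorProduct.smul_tmul']; exact hu _
  let l' : Ω[P⁄C] →ₗ[P] I.Cotangent := bP.constr P fun i => I.toCotangent ⟨F i, hFI i⟩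
  have hl' : (J₀ • ⊤ : Submodule P (Ω[P⁄C])) ≤ LinearMap.ker l' := by
    rw [Submodule.smul_le]
    intro r hr w _
    rw [LinearMap.mem_ker, map_smul]
    obtain ⟨y, hy⟩ := I.toCotangent_surjective (l' w)
    rw [← hy, ← map_smul, I.toCotangent_eq_zero, sq]
    exact Ideal.mul_mem_mul (hI.ge hr) y.2
  let l : TensorProduct P A (Ω[P⁄C]) →ₗ[P] I.Cotangent :=
    (Submodule.liftQ _ l' hl').comp (TensorProduct.quotTensorEquivQuotSMul (Ω[P⁄C]) J₀).toLinearMap
  have hl1 : ∀ w, l (1 ⊗ₜ w) = l' w := by
    intro w
    show Submodule.liftQ _ l' hl' (TensorProduct.quotTensorEquivQuotSMul (Ω[P⁄C]) J₀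
      ((Ideal.Quotient.mk J₀ 1) ⊗ₜ w)) = _
    rw [TensorProduct.quotTensorEquivQuotSMul_mk_tmul, one_smul]
    rfl
  haveI : Algebra.FormallySmooth C A := by
    rw [Algebra.FormallySmooth.iff_split_injection (P := P) hsurjA]
    refine ⟨l, LinearMap.ext fun z => ?_⟩
    obtain ⟨⟨y, hy⟩, rfl⟩ := I.toCotangent_surjective z
    rw [LinearMap.comp_apply, LinearMap.id_apply]
    have hy' : y ∈ Ideal.span (Set.range F) := hI.le hy
    induction hy' using Submodule.span_induction with
    | mem y hy' =>
      obtain ⟨i, rfl⟩ := hy'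
      rw [KaehlerDifferential.kerCotangentToTensor_toCotangent, hl1, ← hbP, Module.Basis.constr_basis]
    | zero =>
      rw [show (⟨0, hy⟩ : I) = 0 from rfl, map_zero, map_zero, map_zero]
    | add u v hu hv hu' hv' =>
      rw [show (⟨u + v, hy⟩ : I) = ⟨u, hI.ge hu⟩ + ⟨v, hI.ge hv⟩ from rfl, map_add, map_add, map_add,
        hu' _, hv' _]
    | smul r u hu hu' =>
      rw [show (⟨r • u, hy⟩ : I) = r • ⟨u, hI.ge hu⟩ from rfl, map_smul, map_smul, map_smul, hu' _]
  haveI : Algebra.FormallyEtale C A := Algebra.FormallyEtale.of_formallyUnramified_and_formallySmooth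
  haveI : Algebra.Etale C A := ⟨inferInstance, inferInstance⟩
  have := (RingHom.etale_algebraMap (R := C) (S := A)).mpr inferInstance
  convert this using 1
  ext c
  simp only [RingHom.comp_apply, ← IsScalarTower.algebraMap_apply C B (Localization.Away g)]
  rfl

end Groth.Agent.S18416
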