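import Groth.Statements.S18423
import Groth.Agent.TraceEt.Basic

set_option autoImplicit false
universe u v
open Pi1

namespace Groth.Agent.S18423

open TensorProduct

attribute [local instance] Algebra.TensorProduct.rightAlgebra in
theorem etale_baseChange_of_smul_eq_zero (A B L : Type u) [CommRing A] [CommRing B] [Algebra A B]
    [Module.Finite A B] [Field L] [IsAlgClosed L] [Algebra A L] (f : A) (hf : algebraMap A L f ≠ 0)
    (hΩ : ∀ w : Ω[B⁄A], f • w = 0) : Algebra.Etale L (L ⊗[A] B) := by
  rw [Groth.Agent.TraceEt.etale_iff_isReduced]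
  have hsub : Subsingleton ((L ⊗[A] B) ⊗[B] Ω[B⁄A]) := by
    refine subsingleton_of_forall_eq 0 fun z => ?_
    induction z with
    | zero => rfl
    | add x y hx hy => rw [hx, hy, add_zero]
    | tmul x w =>
      have h1 : algebraMap A (L ⊗[A] B) f * ((algebraMap L (L ⊗[A] B) (algebraMap A L f)⁻¹) * x) = x := by
        rw [IsScalarTower.algebraMap_apply A L (L ⊗[A] B), ← mul_assoc, ← map_mul,
          mul_inv_cancel₀ hf, map_one, one_mul]
      rw [← h1, ← Algebra.smul_def, ← algebraMap_smul B f, TensorProduct.smul_tmul, algebraMap_smul, hΩ,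
        TensorProduct.tmul_zero]
  have : Subsingleton Ω[(L ⊗[A] B)⁄L] :=
    (KaehlerDifferential.tensorKaehlerEquiv A L B (L ⊗[A] B)).symm.injective.subsingleton
  have : Algebra.FormallyUnramified L (L ⊗[A] B) := ⟨this⟩
  exact Algebra.FormallyUnramified.isReduced_of_field L (L ⊗[A] B)

theorem etale_aux (A B : Type u) [CommRing A] [CommRing B] [Algebra A B] [IsNoetherianRing A]
    [IsLocalRing A] (hdim : (2 : WithBot ℕ∞) ≤ ringKrullDim A) [Module.Finite A B] [Module.Flat A B]
    (h : ∀ q : PrimeSpectrum B, q.asIdeal.comap (algebraMap A B) ≠ IsLocalRing.maximalIdeal A →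
      Algebra.IsEtaleAt A q.asIdeal) : Algebra.Etale A B := by
  classical
  have : Module.Free A B := Module.free_of_flat_of_isLocalRing
  let b := Module.Free.chooseBasis A B
  rw [Groth.Agent.TraceEt.etale_iff_bijective, Groth.Agent.TraceEt.bijective_traceForm_iff A B b]
  set d := (Matrix.of fun i j => Algebra.traceForm A B (b j) (b i)).det with hd
  by_contra hu
  obtain ⟨P, hP⟩ := Ideal.nonempty_minimalPrimes (I := Ideal.span {d})
    (by rwa [Ne, Ideal.span_singleton_eq_top])
  have := hP.1.1
  have hPm : P ≠ IsLocalRing.maximalIdeal A := by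
    intro e
    have h1 := Ideal.height_le_one_of_isPrincipal_of_mem_minimalPrimes (Ideal.span {d}) P hP
    rw [e] at h1
    rw [← IsLocalRing.maximalIdeal_height_eq_ringKrullDim] at hdim
    exact absurd ((WithBot.coe_le_coe.mp hdim).trans h1) (not_le.mpr (by norm_num))
  have : Algebra.FiniteType A B := inferInstance
  -- an element outside `P` killing the differentials
  obtain ⟨f, hfΩ, hfP⟩ : ∃ f : A, (∀ w : Ω[B⁄A], f • w = 0) ∧ f ∉ P := by
    by_contra hall
    push Not at hall
    let I : Ideal B := Module.annihilator B Ω[B⁄A]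
    have hle : I.comap (algebraMap A B) ≤ P := fun f hf => hall f fun w => by
      rw [← algebraMap_smul B]; exact Module.mem_annihilator.mp hf w
    obtain ⟨Q, hQI, hQp, hQ⟩ := Ideal.exists_ideal_over_prime_of_isIntegral P I hle
    have hmem : (⟨Q, hQp⟩ : PrimeSpectrum B) ∈ Algebra.etaleLocus A B :=
      h ⟨Q, hQp⟩ (by show Q.comap _ ≠ _; rw [hQ]; exact hPm)
    rw [Algebra.etaleLocus_eq_compl_support] at hmem
    exact hmem.1 (Module.mem_support_iff_of_finite.mpr hQI)
  let L := AlgebraicClosure P.ResidueField
  have hker : ∀ x : A, algebraMap A L x = 0 ↔ x ∈ P := by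
    intro x
    rw [IsScalarTower.algebraMap_apply A P.ResidueField L, map_eq_zero]
    exact Ideal.algebraMap_residueField_eq_zero
  have het := etale_baseChange_of_smul_eq_zero A B L f (fun e => hfP ((hker f).mp e)) hfΩ
  exact (Groth.Agent.TraceEt.etale_baseChange_iff A B b L).mp het ((hker d).mpr (hP.1.2 (Ideal.subset_span rfl)))

/-- Let A be a Noetherian local ring of Krull dimension at least 2 and B a finite flat commutative
A-algebra. If B is etale over A at every prime of B lying over a non-maximal prime of A (that is,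
Spec B is etale over the punctured spectrum of A), then B is etale over A. -/
theorem result (A : Type u) (B : Type v) [CommRing A] [CommRing B]
    [Algebra A B] [IsNoetherianRing A] [IsLocalRing A] (hdim : (2 : WithBot ℕ∞) ≤ ringKrullDim A)
    [Module.Finite A B] [Module.Flat A B]
    (h : ∀ q : PrimeSpectrum B, q.asIdeal.comap (algebraMap A B) ≠ IsLocalRing.maximalIdeal A →
      Algebra.IsEtaleAt A q.asIdeal) :
    Algebra.Etale A B := by
  obtain ⟨n, g, hg⟩ := Module.Finite.exists_fin' A B
  have : Small.{u} B := small_of_surjective hg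
  let e := Shrink.algEquiv A B
  have : Module.Finite A (Shrink.{u} B) := Module.Finite.equiv e.symm.toLinearEquiv
  have : Module.Flat A (Shrink.{u} B) := Module.Flat.of_linearEquiv e.toLinearEquiv
  have : Algebra.Etale A (Shrink.{u} B) := by
    refine etale_aux A (Shrink.{u} B) hdim fun q hq => ?_
    let q' : PrimeSpectrum B := q.comap e.symm.toRingHom
    have hq' := h q' (by
      intro e'
      apply hq
      rw [← e']
      ext x
      show algebraMap A _ x ∈ q.asIdeal ↔ e.symm (algebraMap A B x) ∈ q.asIdeal
      rw [AlgEquiv.commutes])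
    have h0 : Submonoid.map (RingEquiv.toMonoidHom e.symm.toRingEquiv) q'.asIdeal.primeCompl = q.asIdeal.primeCompl := by
      ext z
      refine ⟨fun ⟨w, hw, hwz⟩ => hwz ▸ hw, fun hz => ⟨e z, ?_, e.symm_apply_apply z⟩⟩
      show e.symm (e z) ∉ q.asIdeal
      rw [e.symm_apply_apply]; exact hz
    let k := IsLocalization.ringEquivOfRingEquiv (S := Localization.AtPrime q'.asIdeal)
      (Q := Localization.AtPrime q.asIdeal) e.symm.toRingEquiv h0
    let k' : Localization.AtPrime q'.asIdeal ≃ₐ[A] Localization.AtPrime q.asIdeal :=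
      AlgEquiv.ofRingEquiv (f := k) fun x => by
        rw [IsScalarTower.algebraMap_apply A B, IsScalarTower.algebraMap_apply A (Shrink.{u} B) (Localization.AtPrime q.asIdeal)]
        exact (IsLocalization.ringEquivOfRingEquiv_eq h0 _).trans (congrArg _ (e.symm.commutes x))
    exact Algebra.FormallyEtale.of_equiv k'
  exact Algebra.Etale.of_equiv e

end Groth.Agent.S18423
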