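import Groth.Statements.S18424
import Groth.Agent.S11555
import Groth.Agent.S0244
import Groth.Agent.PurityLib.OpenPurity
import Groth.Agent.PurePairDesc.Main
-- import your own Groth.Agent.* helpers here

set_option autoImplicit false
universe u
open Pi1

open Groth.Agent CategoryTheory.Limits
set_option backward.isDefEq.respectTransparency false
namespace Groth.Agent.S18424

open AlgebraicGeometry CategoryTheory CategoryTheory.Limits in
/-- Let k be a field, X and Y integral schemes separated and of finite type over k with X normal and Y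
nonsingular (every local ring of Y regular), and f : X → Y a proper k-morphism which is birational,
i.e. an isomorphism over some nonempty open subset V of Y. Then pulling back finite etale covers
along f is an equivalence between the categories of finite etale covers of Y and of X; in particular
f induces an isomorphism of etale fundamental groups. -/
theorem result (k : Type u) [Field k]
    {X Y : Scheme.{u}} (f : X ⟶ Y) (g : Y ⟶ Spec (CommRingCat.of k))
    [IsSeparated g] [LocallyOfFiniteType g] [QuasiCompact g]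
    [IsSeparated (f ≫ g)] [LocallyOfFiniteType (f ≫ g)] [QuasiCompact (f ≫ g)]
    [IsIntegral X] [IsIntegral Y] (hX : Pi1.IsNormalScheme X)
    (hY : ∀ y : Y, IsRegularLocalRing (Y.presheaf.stalk y)) [IsProper f]
    (V : Y.Opens) (hV : (V : Set Y).Nonempty) (hf : IsIso (f ∣_ V)) :
    (FEt.restrict f).IsEquivalence := by
  haveI : IsLocallyNoetherian Y := LocallyOfFiniteType.isLocallyNoetherian g
  haveI : CompactSpace Y := QuasiCompact.compactSpace_of_compactSpace g
  haveI : IsNoetherian Y := {}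
  have hnorm : Pi1.IsNormalScheme Y := fun y => by
    haveI := hY y
    exact PurityLib.isIntegrallyClosed_of_regular _
  obtain ⟨y₀, hy₀⟩ := hV
  haveI : Nonempty ((V : Scheme.{u})) := ⟨⟨y₀, hy₀⟩⟩
  haveI := hf
  haveI hne : Nonempty (((f ⁻¹ᵁ V : X.Opens)) : Scheme.{u}) :=
    ⟨(asIso (f ∣_ V)).inv ⟨y₀, hy₀⟩⟩
  have hgX : genericPoint X ∈ f ⁻¹ᵁ V :=
    (genericPoint_specializes _).mem_open (f ⁻¹ᵁ V).2 hne.some.2
  have hξ : f (genericPoint X) = genericPoint Y := by
    haveI : IsIntegral ((f ⁻¹ᵁ V : X.Opens) : Scheme.{u}) := isIntegral_of_isOpenImmersion (f ⁻¹ᵁ V).ι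
    haveI : IsIntegral (V : Scheme.{u}) := isIntegral_of_isOpenImmersion V.ι
    rw [← genericPoint_eq_of_isOpenImmersion (f ⁻¹ᵁ V).ι, ← Scheme.Hom.comp_apply, ← morphismRestrict_ι,
      Scheme.Hom.comp_apply, genericPoint_eq_of_isOpenImmersion (f ∣_ V), genericPoint_eq_of_isOpenImmersion V.ι]
  have hbir : Function.Bijective (f.stalkMap (genericPoint X)) := by
    have h1 : IsIso ((f ∣_ V).stalkMap ⟨genericPoint X, hgX⟩) := inferInstance
    rw [← ConcreteCategory.isIso_iff_bijective]
    exact ((MorphismProperty.isomorphisms CommRingCat).arrow_mk_iso_iff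
      (morphismRestrictStalkMap f V ⟨genericPoint X, hgX⟩)).mp h1
  obtain ⟨W, hW, -, hcodim⟩ := S11555.result f hnorm hξ hbir
  haveI := hW
  have hd : ∀ s : Y, s ∉ W → (2 : ℕ∞) ≤ LocCoh.depth (Y.presheaf.stalk s) (Y.presheaf.stalk s) := fun s hs =>
    haveI := hY s
    PurityLib.two_le_depth_of_regular _ (hcodim s hs)
  haveI hWeq : (FEt.restrict W.ι).IsEquivalence := by
    obtain ⟨h1, h2⟩ := PurePairDesc.restrict_fullyFaithful W hd
    haveI : (FEt.restrict W.ι).EssSurj := ⟨fun E => by
      haveI : IsFinite E.hom := E.prop.1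
      haveI : Etale E.hom := E.prop.2
      obtain ⟨Z, π, j, a, b, hpb⟩ := PurityLib.exists_extension W E.hom hY hcodim
      exact ⟨MorphismProperty.Over.mk ⊤ π ⟨a, b⟩,
        ⟨MorphismProperty.Over.isoMk hpb.isoPullback.symm (by
          simp only [Iso.symm_hom]
          exact hpb.isoPullback_inv_snd)⟩⟩⟩
    exact {}
  haveI := PurePairDesc.isEquivalence_restrict_of_isIso (f ∣_ W)
  have hne' : ((f ⁻¹ᵁ W : X.Opens) : Set X).Nonempty := by
    have hgW : genericPoint Y ∈ W := by
      by_contra h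
      have h2 := hcodim _ h
      rw [ringKrullDim_eq_zero_of_field (Y.functionField)] at h2
      exact absurd h2 (by norm_num)
    exact ⟨genericPoint X, show f (genericPoint X) ∈ W by rw [hξ]; exact hgW⟩
  obtain ⟨_, _⟩ := S0244.result hX (f ⁻¹ᵁ W) hne'
  have hi := PropPi1.restrictCompIso (f ∣_ W) W.ι
  rw [morphismRestrict_ι] at hi
  have hi2 := PropPi1.restrictCompIso (f ⁻¹ᵁ W).ι f
  haveI : (FEt.restrict W.ι ⋙ FEt.restrict (f ∣_ W)).IsEquivalence := inferInstance
  haveI : (FEt.restrict ((f ⁻¹ᵁ W).ι ≫ f)).IsEquivalence := Functor.isEquivalence_of_iso hi.symm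
  haveI : (FEt.restrict f ⋙ FEt.restrict (f ⁻¹ᵁ W).ι).IsEquivalence := Functor.isEquivalence_of_iso hi2
  haveI : (FEt.restrict (f ⁻¹ᵁ W).ι).EssSurj := ⟨fun E =>
    ⟨(FEt.restrict f).obj ((FEt.restrict f ⋙ FEt.restrict (f ⁻¹ᵁ W).ι).objPreimage E),
      ⟨(FEt.restrict f ⋙ FEt.restrict (f ⁻¹ᵁ W).ι).objObjPreimageIso E⟩⟩⟩
  haveI : (FEt.restrict (f ⁻¹ᵁ W).ι).IsEquivalence := {}
  exact Functor.isEquivalence_of_comp_right (FEt.restrict f) (FEt.restrict (f ⁻¹ᵁ W).ι)

end Groth.Agent.S18424
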