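import Groth.Statements.S18425
import Mathlib
-- import your own Groth.Agent.* helpers here

set_option autoImplicit false
set_option backward.isDefEq.respectTransparency false
universe u
open Pi1

namespace Groth.Agent.S18425

noncomputable section

open CategoryTheory CategoryTheory.PreGaloisCategory

variable {G : Type u} [Group G]

/-- The forgetful functor. -/
abbrev Fib (G : Type u) [Group G] : Action FintypeCat.{u} G ⥤ FintypeCat.{u} :=
  Action.forget FintypeCat.{u} G

theorem rho_mul (X : Action FintypeCat.{u} G) (g h : G) (x : X.V) :
    (X.ρ (g * h)).hom x = (X.ρ g).hom ((X.ρ h).hom x) := by rw [map_mul]; rfl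

theorem rho_one (X : Action FintypeCat.{u} G) (x : X.V) : (X.ρ 1).hom x = x := by rw [map_one]; rfl

theorem rho_inv_rho (X : Action FintypeCat.{u} G) (g : G) (x : X.V) :
    (X.ρ g⁻¹).hom ((X.ρ g).hom x) = x := by rw [← rho_mul, inv_mul_cancel, rho_one]

theorem rho_rho_inv (X : Action FintypeCat.{u} G) (g : G) (x : X.V) :
    (X.ρ g).hom ((X.ρ g⁻¹).hom x) = x := by rw [← rho_mul, mul_inv_cancel, rho_one]

/-- The action by permutations. -/
def perm (X : Action FintypeCat.{u} G) : G →* Equiv.Perm X.V where
  toFun g := ⟨fun x => (X.ρ g).hom x, fun x => (X.ρ g⁻¹).hom x, rho_inv_rho X g, rho_rho_inv X g⟩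
  map_one' := Equiv.ext (rho_one X)
  map_mul' g h := Equiv.ext (rho_mul X g h)

theorem natAt (σ : Aut (Fib G)) {X Y : Action FintypeCat.{u} G} (f : X ⟶ Y) (x : X.V) :
    σ.hom.app Y (f.hom x) = f.hom (σ.hom.app X x) :=
  ConcreteCategory.congr_hom (σ.hom.naturality f) x

/-- The action of `G` on itself through a finite group. -/
def obj {Q : Type u} [Group Q] [Finite Q] (π : G →* Q) : Action FintypeCat.{u} G where
  V := FintypeCat.of Q
  ρ :=
    { toFun := fun g => FintypeCat.homMk fun q : Q => π g * q
      map_one' := FintypeCat.hom_ext _ _ fun (q : Q) => show π 1 * q = q by rw [map_one, one_mul]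
      map_mul' := fun g h => FintypeCat.hom_ext _ _ fun (q : Q) => show π (g * h) * q = π g * (π h * q) by
        rw [map_mul, mul_assoc] }

section

variable {Q : Type u} [Group Q] [Finite Q] (π : G →* Q)

/-- Right translation. -/
def rmul (r : Q) : obj π ⟶ obj π :=
  ⟨FintypeCat.homMk fun q : Q => q * r, fun g => FintypeCat.hom_ext _ _ fun (q : Q) => show π g * q * r = π g * (q * r) from mul_assoc _ _ _⟩

/-- The permutation of the finite group. -/
def valAt (σ : Aut (Fib G)) (r : Q) : Q := σ.hom.app (obj π) r

/-- The value of an automorphism of the forgetful functor at the finite group. -/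
def val (σ : Aut (Fib G)) : Q := valAt π σ 1

theorem app_obj (σ : Aut (Fib G)) (r : Q) : valAt π σ r = val π σ * r := by
  have := natAt σ (rmul π r) (1 : Q)
  change valAt π σ ((1 : Q) * r) = val π σ * r at this
  rwa [one_mul] at this

theorem continuous_val [TopologicalSpace Q] [DiscreteTopology Q] : Continuous (val π) := by
  have h : Continuous fun σ : Aut (Fib G) => autEmbedding (Fib G) σ (obj π) :=
    (continuous_apply _).comp continuous_induced_dom
  let ev : Aut ((Fib G).obj (obj π)) → Q := fun e => e.hom (1 : Q)
  exact (continuous_of_discreteTopology (f := ev)).comp h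

/-- The value at the finite group, as a homomorphism. -/
def valHom : Aut (Fib G) →* Q where
  toFun := val π
  map_one' := rfl
  map_mul' σ τ := by
    change valAt π σ (val π τ) = _
    rw [app_obj]

theorem app_eq (hs : Function.Surjective π) (X : Action FintypeCat.{u} G) (hX : π.ker ≤ (perm X).ker)
    (σ : Aut (Fib G)) (g : G) (hg : π g = val π σ) (x : X.V) :
    σ.hom.app X x = (X.ρ g).hom x := by
  have key : ∀ a b : G, π a = π b → perm X a = perm X b := fun a b h => (MonoidHom.eq_iff _).mpr
    (hX ((MonoidHom.eq_iff _).mp h))
  let f : obj π ⟶ X :=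
    ⟨FintypeCat.homMk fun q : Q => perm X (Function.surjInv hs q) x, fun a => by
      refine FintypeCat.hom_ext _ _ fun (q : Q) => ?_
      change perm X (Function.surjInv hs (π a * q)) x = perm X a (perm X (Function.surjInv hs q) x)
      rw [key (Function.surjInv hs (π a * q)) (a * Function.surjInv hs q) (by
        rw [map_mul, Function.surjInv_eq hs, Function.surjInv_eq hs]), map_mul]
      rfl⟩
  have hf : ∀ a : G, f.hom (π a) = perm X a x := fun a => by
    change perm X (Function.surjInv hs (π a)) x = _
    rw [key _ a (Function.surjInv_eq hs _)]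
  have h1 := natAt σ f (π 1)
  have h2 : valAt π σ (π 1) = π g := by rw [app_obj, map_one, mul_one, hg]
  change σ.hom.app X (f.hom (π 1)) = f.hom (valAt (Q := Q) π σ (π 1)) at h1
  erw [hf, h2, hf, map_one] at h1
  exact h1

end

/-- The action of an element on the forgetful functor. -/
def iota : G →* Aut (Fib G) where
  toFun g := NatIso.ofComponents (fun X => FintypeCat.equivEquivIso (perm X g)) (fun {X Y} f => by
    ext x
    exact (ConcreteCategory.congr_hom (f.comm g) x).symm)
  map_one' := by ext X x; exact rho_one X x
  map_mul' g h := by ext X x; exact rho_mul X g h x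

theorem iota_app (g : G) (X : Action FintypeCat.{u} G) (x : X.V) :
    (iota g).hom.app X x = (X.ρ g).hom x := rfl

/-- The value at one finite quotient. -/
def comp' (U : FiniteIndexNormalSubgroup G) (σ : Aut (Fib G)) : G ⧸ U.toSubgroup :=
  val (QuotientGroup.mk' U.toSubgroup) σ

/-- The map to the profinite completion: evaluation at the finite quotients. -/
def psi : Aut (Fib G) →* ProfiniteGrp.ProfiniteCompletion.completion (GrpCat.of G) where
  toFun σ := ⟨fun U => comp' U σ, fun U V f => by
    let t : obj (QuotientGroup.mk' U.toSubgroup) ⟶ obj (QuotientGroup.mk' V.toSubgroup) :=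
      ⟨FintypeCat.homMk (QuotientGroup.map U.toSubgroup V.toSubgroup (MonoidHom.id G) f.le), fun g => by
        refine FintypeCat.hom_ext _ _ fun (q : G ⧸ U.toSubgroup) => ?_
        exact map_mul (QuotientGroup.map U.toSubgroup V.toSubgroup (MonoidHom.id G) f.le) _ _⟩
    exact (natAt σ t (1 : G ⧸ U.toSubgroup)).symm⟩
  map_one' := Subtype.ext (funext fun U => rfl)
  map_mul' σ τ := Subtype.ext (funext fun U => map_mul (valHom (QuotientGroup.mk' U.toSubgroup)) σ τ)

theorem continuous_psi : Continuous (psi (G := G)) := by
  refine Continuous.subtype_mk (continuous_pi fun U => ?_) _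
  letI : TopologicalSpace (G ⧸ U.toSubgroup) := ⊥
  haveI : DiscreteTopology (G ⧸ U.toSubgroup) := ⟨rfl⟩
  exact continuous_val (QuotientGroup.mk' U.toSubgroup)

theorem psi_iota (g : G) : psi (iota g) = ProfiniteGrp.ProfiniteCompletion.etaFn (GrpCat.of G) g :=
  Subtype.ext (funext fun U => mul_one (QuotientGroup.mk' U.toSubgroup g))

theorem psi_bijective : Function.Bijective (psi (G := G)) := by
  refine ⟨fun σ τ h => ?_, ?_⟩
  · ext X x
    haveI : Finite (G ⧸ (perm X).ker) := Finite.of_injective _ (QuotientGroup.kerLift_injective (perm X))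
    haveI : (perm X).ker.FiniteIndex := Subgroup.finiteIndex_of_finite_quotient
    let U : FiniteIndexNormalSubgroup G := FiniteIndexNormalSubgroup.ofSubgroup (perm X).ker
    obtain ⟨g, hg⟩ := QuotientGroup.mk'_surjective U.toSubgroup (val (QuotientGroup.mk' U.toSubgroup) σ)
    have hU : val (QuotientGroup.mk' U.toSubgroup) σ = val (QuotientGroup.mk' U.toSubgroup) τ :=
      congr_fun (congr_arg Subtype.val h) U
    have hk : (QuotientGroup.mk' U.toSubgroup).ker ≤ (perm X).ker := (QuotientGroup.ker_mk' U.toSubgroup).le
    exact (app_eq _ (QuotientGroup.mk'_surjective _) X hk σ g hg x).trans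
      (app_eq _ (QuotientGroup.mk'_surjective _) X hk τ g (hg.trans hU) x).symm
  · rw [← Set.range_eq_univ, ← (isCompact_range continuous_psi).isClosed.closure_eq, Set.eq_univ_iff_forall]
    intro y
    refine closure_mono ?_ (ProfiniteGrp.ProfiniteCompletion.denseRange (GrpCat.of G) y)
    rintro _ ⟨g, rfl⟩
    exact ⟨iota g, psi_iota g⟩

end

open CategoryTheory in
/-- In the case of a discrete group G, let F be the forgetful functor from the category of finite G-sets
to finite sets. Then the canonical homomorphism from G to Aut(F), letting g act on every finite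
G-set, extends to an isomorphism of topological groups from the profinite completion of G (the limit
of the finite quotients G/U over normal subgroups U of finite index) onto Aut(F) with its profinite
topology. (The published statement is for an arbitrary topological group G, with finite G-sets
carrying a continuous action and the completion taken over open normal subgroups of finite index;
this row is the case of a discrete group.) -/
theorem result (G : Type u) [Group G] :
    ∃ φ : (ProfiniteGrp.ProfiniteCompletion.completion (GrpCat.of G)) ≃ₜ* Aut (Action.forget FintypeCat.{u} G),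
      ∀ (g : G) (X : Action FintypeCat.{u} G) (x : X.V),
        (φ (ProfiniteGrp.ProfiniteCompletion.etaFn (GrpCat.of G) g)).hom.app X x = (X.ρ g).hom x := by
  let e := MulEquiv.ofBijective psi (psi_bijective (G := G))
  have hcont : Continuous e.symm :=
    Continuous.continuous_symm_of_equiv_compact_to_t2 (f := e.toEquiv) continuous_psi
  refine ⟨⟨e.symm, hcont, continuous_psi⟩, fun g X x => ?_⟩
  have : e.symm (ProfiniteGrp.ProfiniteCompletion.etaFn (GrpCat.of G) g) = iota g := by
    rw [← psi_iota]
    exact e.symm_apply_apply _
  change (e.symm _).hom.app X x = _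
  rw [this]
  rfl

end Groth.Agent.S18425
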