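import Groth.Statements.S18426
import Mathlib
import Groth.Agent.FinIntClosure.Normalization
import Groth.Agent.NormalSch.Basic
set_option backward.isDefEq.respectTransparency false
set_option backward.defeqAttrib.useBackward true
set_option maxHeartbeats 800000
open CategoryTheory Groth.Agent.FinIntClosure TopologicalSpace
-- import your own Groth.Agent.* helpers here

set_option autoImplicit false
universe u
open Pi1

namespace Groth.Agent.S18426

open AlgebraicGeometry CategoryTheory CategoryTheory.Limits in
/-- Suppose X is an integral scheme that is Noetherian and normal, write K for its function field, and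
take L to be a finite separable extension of K. Then the normalization of X in L, namely the
relative normalization of the morphism Spec L → Spec K → X, is finite over X. (That this
normalization is a normal integral scheme with function field L is not restated.) -/
theorem result {X : Scheme.{u}} [IsIntegral X] [IsNoetherian X]
    (hX : Pi1.IsNormalScheme X) (L : Type u) [Field L] [Algebra X.functionField L] [FiniteDimensional X.functionField L]
    [Algebra.IsSeparable X.functionField L]
    [QuasiCompact (Spec.map (CommRingCat.ofHom (algebraMap X.functionField L)) ≫ X.fromSpecStalk (genericPoint X))]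
    [QuasiSeparated (Spec.map (CommRingCat.ofHom (algebraMap X.functionField L)) ≫ X.fromSpecStalk (genericPoint X))] :
    IsFinite (Spec.map (CommRingCat.ofHom (algebraMap X.functionField L)) ≫ X.fromSpecStalk (genericPoint X)).fromNormalization := by
  let φ := algebraMap X.functionField L
  let g := Spec.map (CommRingCat.ofHom φ) ≫ X.fromSpecStalk (genericPoint X)
  have hg : g = Spec.map (CommRingCat.ofHom φ) ≫ X.fromSpecStalk (genericPoint X) := rfl
  refine { finite_app := fun U hU => ?_ }
  rw [g.fromNormalization_app hU]
  letI := (g.app U).hom.toAlgebra
  rw [CommRingCat.hom_comp]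
  refine RingHom.Finite.comp (RingHom.Finite.of_surjective _
    (g.normalizationObjIso hU).symm.commRingCatIsoToRingEquiv.surjective) ?_
  rw [CommRingCat.hom_ofHom, RingHom.finite_algebraMap]
  let A := Γ(X, U)
  let M := Γ(Spec (CommRingCat.of L), g ⁻¹ᵁ U)
  rcases isEmpty_or_nonempty U with hUe | hUne
  · haveI : Subsingleton M := by
      have h0 : g ⁻¹ᵁ U = ⊥ := by
        rw [show U = ⊥ from Opens.ext (Set.isEmpty_coe_sort.mp hUe)]; rfl
      show Subsingleton Γ(Spec (CommRingCat.of L), g ⁻¹ᵁ U)
      rw [h0]; infer_instance
    infer_instance
  · let ε : L ≃+* M := fieldEquiv φ g hg U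
    letI fM : Field M := (MulEquiv.isField (Field.toIsField L) ε.symm.toMulEquiv).toField
    haveI : IsFractionRing A X.functionField := functionField_isFractionRing_of_isAffineOpen X U hU
    letI algF : Algebra X.functionField M := (ε.toRingHom.comp φ).toAlgebra
    haveI : IsScalarTower A X.functionField M := IsScalarTower.of_algebraMap_eq fun a => by
      change (g.app U) a = ε (φ (X.germToFunctionField U a))
      rw [app_eq φ g hg U]
      rfl
    let e : L ≃ₐ[X.functionField] M := AlgEquiv.ofRingEquiv (f := ε) fun _ => rfl
    haveI : FiniteDimensional X.functionField M := Module.Finite.equiv e.toLinearEquiv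
    haveI : Algebra.IsSeparable X.functionField M := AlgEquiv.Algebra.isSeparable e
    haveI : IsNoetherianRing A := IsLocallyNoetherian.component_noetherian ⟨U, hU⟩
    haveI : IsIntegrallyClosed A := Groth.Agent.NormalSch.isIntegrallyClosed_section hX U
    exact IsIntegralClosure.finite A X.functionField M (integralClosure A M)

end Groth.Agent.S18426
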