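import Groth.Statements.S18428
import Mathlib
-- import your own Groth.Agent.* helpers here

set_option autoImplicit false
set_option backward.isDefEq.respectTransparency false
universe u
open scoped FintypeCatDiscrete
open Pi1

namespace Groth.Agent.S18428

noncomputable section

open scoped FintypeCatDiscrete

open CategoryTheory CategoryTheory.PreGaloisCategory

variable {G : Type u} [Group G] [TopologicalSpace G] [IsTopologicalGroup G]

/-- The forgetful functor. -/
abbrev Fib (G : Type u) [Group G] [TopologicalSpace G] : ContAction FintypeCat.{u} G ⥤ FintypeCat.{u} :=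
  forget₂ (ContAction FintypeCat.{u} G) FintypeCat.{u}

theorem rho_mul (X : Action FintypeCat.{u} G) (g h : G) (x : X.V) :
    (X.ρ (g * h)).hom x = (X.ρ g).hom ((X.ρ h).hom x) := by rw [map_mul]; rfl

theorem rho_one (X : Action FintypeCat.{u} G) (x : X.V) : (X.ρ 1).hom x = x := by rw [map_one]; rfl

theorem rho_inv_rho (X : Action FintypeCat.{u} G) (g : G) (x : X.V) :
    (X.ρ g⁻¹).hom ((X.ρ g).hom x) = x := by rw [← rho_mul, inv_mul_cancel, rho_one]

theorem rho_rho_inv (X : Action FintypeCat.{u} G) (g : G) (x : X.V) :
    (X.ρ g).hom ((X.ρ g⁻¹).hom x) = x := by rw [← rho_mul, mul_inv_cancel, rho_one]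

/-- The action by permutations. -/
def perm (X : Action FintypeCat.{u} G) : G →* Equiv.Perm X.V where
  toFun g := ⟨fun x => (X.ρ g).hom x, fun x => (X.ρ g⁻¹).hom x, rho_inv_rho X g, rho_rho_inv X g⟩
  map_one' := Equiv.ext (rho_one X)
  map_mul' g h := Equiv.ext (rho_mul X g h)

theorem natAt (σ : Aut (Fib G)) {X Y : ContAction FintypeCat.{u} G} (f : X ⟶ Y) (x : X.obj.V) :
    σ.hom.app Y (f.hom.hom x) = f.hom.hom (σ.hom.app X x) :=
  ConcreteCategory.congr_hom (σ.hom.naturality f) x

theorem cont_rho (X : ContAction FintypeCat.{u} G) (x : X.obj.V) : Continuous fun g : G => (X.obj.ρ g).hom x :=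
  ((Action.isContinuous_def X.obj).mp X.property).comp (Continuous.prodMk_left x)

theorem isOpen_ker (X : ContAction FintypeCat.{u} G) : IsOpen ((perm X.obj).ker : Set G) := by
  have : ((perm X.obj).ker : Set G) = ⋂ x : X.obj.V, (fun g : G => (X.obj.ρ g).hom x) ⁻¹' {x} := by
    ext g
    simp only [SetLike.mem_coe, MonoidHom.mem_ker, Set.mem_iInter, Set.mem_preimage, Set.mem_singleton_iff,
      Equiv.ext_iff]
    rfl
  rw [this]
  exact isOpen_iInter_of_finite fun x => (isOpen_discrete _).preimage (cont_rho X x)

/-- The action of `G` on itself through a finite group. -/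
def obj {Q : Type u} [Group Q] [Finite Q] [TopologicalSpace Q] [DiscreteTopology Q] (π : G →* Q)
    (hπ : Continuous π) : ContAction FintypeCat.{u} G :=
  ⟨{ V := FintypeCat.of Q
     ρ :=
      { toFun := fun g => FintypeCat.homMk fun q : Q => π g * q
        map_one' := FintypeCat.hom_ext _ _ fun (q : Q) => show π 1 * q = q by rw [map_one, one_mul]
        map_mul' := fun g h => FintypeCat.hom_ext _ _ fun (q : Q) => show π (g * h) * q = π g * (π h * q) by rw [map_mul, mul_assoc] } }, by
    refine (Action.isContinuous_def _).mpr ?_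
    change @Continuous (G × Q) Q (@instTopologicalSpaceProd G Q _ ⊥) ⊥ fun p => π p.1 * p.2
    rw [← DiscreteTopology.eq_bot (α := Q)]
    exact continuous_prod_of_discrete_right.mpr fun q => (continuous_of_discreteTopology (f := fun r : Q => r * q)).comp hπ⟩

section

variable {Q : Type u} [Group Q] [Finite Q] [TopologicalSpace Q] [DiscreteTopology Q] (π : G →* Q) (hπ : Continuous π)

/-- Right translation. -/
def rmul (r : Q) : obj π hπ ⟶ obj π hπ :=
  ⟨⟨FintypeCat.homMk fun q : Q => q * r, fun g => FintypeCat.hom_ext _ _ fun (q : Q) => show π g * q * r = π g * (q * r) from mul_assoc _ _ _⟩⟩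

/-- The permutation of the finite group. -/
def valAt (σ : Aut (Fib G)) (r : Q) : Q := σ.hom.app (obj π hπ) r

/-- The value of an automorphism of the forgetful functor at the finite group. -/
def val (σ : Aut (Fib G)) : Q := valAt π hπ σ 1

theorem app_obj (σ : Aut (Fib G)) (r : Q) : valAt π hπ σ r = val π hπ σ * r := by
  have := natAt σ (rmul π hπ r) (1 : Q)
  change valAt π hπ σ ((1 : Q) * r) = val π hπ σ * r at this
  rwa [one_mul] at this

theorem continuous_val : Continuous (val π hπ) := by
  have h : Continuous fun σ : Aut (Fib G) => autEmbedding (Fib G) σ (obj π hπ) :=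
    (continuous_apply _).comp continuous_induced_dom
  let ev : Aut ((Fib G).obj (obj π hπ)) → Q := fun e => e.hom (1 : Q)
  exact (continuous_of_discreteTopology (f := ev)).comp h

/-- The value at the finite group, as a homomorphism. -/
def valHom : Aut (Fib G) →* Q where
  toFun := val π hπ
  map_one' := rfl
  map_mul' σ τ := by
    change valAt π hπ σ (val π hπ τ) = _
    rw [app_obj]

theorem app_eq (hs : Function.Surjective π) (X : ContAction FintypeCat.{u} G) (hX : π.ker ≤ (perm X.obj).ker)
    (σ : Aut (Fib G)) (g : G) (hg : π g = val π hπ σ) (x : X.obj.V) :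
    σ.hom.app X x = (X.obj.ρ g).hom x := by
  have key : ∀ a b : G, π a = π b → perm X.obj a = perm X.obj b := fun a b h => (MonoidHom.eq_iff _).mpr
    (hX ((MonoidHom.eq_iff _).mp h))
  let f : obj π hπ ⟶ X :=
    ⟨⟨FintypeCat.homMk fun q : Q => perm X.obj (Function.surjInv hs q) x, fun a => by
      refine FintypeCat.hom_ext _ _ fun (q : Q) => ?_
      change perm X.obj (Function.surjInv hs (π a * q)) x = perm X.obj a (perm X.obj (Function.surjInv hs q) x)
      rw [key (Function.surjInv hs (π a * q)) (a * Function.surjInv hs q) (by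
        rw [map_mul, Function.surjInv_eq hs, Function.surjInv_eq hs]), map_mul]
      rfl⟩⟩
  have hf : ∀ a : G, f.hom.hom (π a) = perm X.obj a x := fun a => by
    change perm X.obj (Function.surjInv hs (π a)) x = _
    rw [key _ a (Function.surjInv_eq hs _)]
  have h1 := natAt σ f (π 1)
  have h2 : valAt π hπ σ (π 1) = π g := by rw [app_obj, map_one, mul_one, hg]
  change σ.hom.app X (f.hom.hom (π 1)) = f.hom.hom (valAt (Q := Q) π hπ σ (π 1)) at h1
  erw [hf, h2, hf, map_one] at h1
  exact h1

end

/-- The action of an element on the forgetful functor. -/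
def iota : G →* Aut (Fib G) where
  toFun g := NatIso.ofComponents (fun X => FintypeCat.equivEquivIso (perm X.obj g)) (fun {X Y} f => by
    ext x
    exact (ConcreteCategory.congr_hom (f.hom.comm g) x).symm)
  map_one' := by ext X x; exact rho_one X.obj x
  map_mul' g h := by ext X x; exact rho_mul X.obj g h x

theorem iota_app (g : G) (X : ContAction FintypeCat.{u} G) (x : X.obj.V) :
    (iota g).hom.app X x = (X.obj.ρ g).hom x := rfl

theorem continuous_iota : Continuous (iota (G := G)) := by
  rw [continuous_induced_rng, continuous_pi_iff]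
  intro X
  have h : Continuous fun (g : G) (x : X.obj.V) => (X.obj.ρ g).hom x := continuous_pi fun x => cont_rho X x
  rw [continuous_discrete_rng]
  intro e
  have : ((fun g => (autEmbedding (Fib G) ∘ iota) g X) ⁻¹' {e}) =
      (fun (g : G) (x : X.obj.V) => (X.obj.ρ g).hom x) ⁻¹' {fun x => e.hom x} := by
    ext g
    simp only [Set.mem_preimage, Set.mem_singleton_iff]
    constructor
    · rintro rfl; rfl
    · intro hg; apply Iso.ext; ext x; exact congr_fun hg x
  rw [this]
  exact (isOpen_discrete _).preimage h

theorem denseRange_iota : DenseRange (iota (G := G)) := by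
  refine dense_iff_inter_open.mpr ?_
  rintro W ⟨s, hs, rfl⟩ ⟨σ, hσ⟩
  obtain ⟨I, v, hv, hIv⟩ := isOpen_pi_iff.mp hs _ hσ
  let Φ : G →* ∀ i : I, Equiv.Perm i.1.obj.V := MonoidHom.pi fun i : I => perm i.1.obj
  have hopen : IsOpen (Φ.ker : Set G) := by
    have : (Φ.ker : Set G) = ⋂ i : I, ((perm i.1.obj).ker : Set G) := by
      ext g
      simp [Φ, MonoidHom.mem_ker, funext_iff, MonoidHom.pi]
    rw [this]
    exact isOpen_iInter_of_finite fun i => isOpen_ker _
  haveI : DiscreteTopology (G ⧸ Φ.ker) := QuotientGroup.discreteTopology hopen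
  haveI : Finite (G ⧸ Φ.ker) := Finite.of_injective _ (QuotientGroup.kerLift_injective Φ)
  let π := QuotientGroup.mk' Φ.ker
  obtain ⟨g, hg⟩ := QuotientGroup.mk'_surjective Φ.ker (val π continuous_quotient_mk' σ)
  refine ⟨iota g, hIv ?_, g, rfl⟩
  intro X hX
  have : autEmbedding (Fib G) (iota g) X = autEmbedding (Fib G) σ X := by
    apply Iso.ext
    ext x
    refine (app_eq π continuous_quotient_mk' (QuotientGroup.mk'_surjective _) X ?_ σ g hg x).symm
    rw [QuotientGroup.ker_mk']
    intro a ha
    exact congr_fun (MonoidHom.mem_ker.mp ha) ⟨X, hX⟩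
  rw [this]
  exact (hv X hX).2

end

open CategoryTheory in
/-- Let G be a topological group, consider the category of finite sets (with the discrete topology)
equipped with a continuous action of G, and let F be the forgetful functor to finite sets, so that
Aut(F) is a profinite group. Then the homomorphism ι : G → Aut(F) letting g act on every finite
continuous G-set exists and is continuous, has dense image, and every continuous homomorphism from G
to a finite discrete group factors uniquely through ι by a continuous homomorphism on Aut(F). As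
Aut(F) is profinite, these properties say that ι induces an isomorphism of topological groups from
the profinite completion of G (the limit of the quotients G/U by open normal subgroups of finite
index) onto Aut(F). -/
theorem result (G : Type u) [Group G]
    [TopologicalSpace G] [IsTopologicalGroup G] :
    ∃ ι : G →* Aut (forget₂ (ContAction FintypeCat.{u} G) FintypeCat.{u}),
      Continuous ι ∧
      (∀ (g : G) (X : ContAction FintypeCat.{u} G) (x : X.obj.V), (ι g).hom.app X x = (X.obj.ρ g).hom x) ∧
      DenseRange ι ∧
      ∀ (Q : Type u) [Group Q] [Finite Q] [TopologicalSpace Q] [DiscreteTopology Q] (π : G →* Q),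
        Continuous π → ∃! ψ : Aut (forget₂ (ContAction FintypeCat.{u} G) FintypeCat.{u}) →* Q,
          Continuous ψ ∧ ψ.comp ι = π := by
  refine ⟨iota, continuous_iota, iota_app, denseRange_iota, ?_⟩
  intro Q _ _ _ _ π hπ
  have hcomp : (valHom π hπ).comp iota = π := MonoidHom.ext fun g => mul_one (π g)
  refine ⟨valHom π hπ, ⟨continuous_val π hπ, hcomp⟩, ?_⟩
  rintro ψ ⟨hψ, hψ'⟩
  refine MonoidHom.ext fun σ => congr_fun (denseRange_iota.equalizer hψ (continuous_val π hπ) (funext fun g => ?_)) σ
  exact (DFunLike.congr_fun hψ' g).trans (DFunLike.congr_fun hcomp g).symm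

end Groth.Agent.S18428
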