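import Groth.Statements.S18429
import Mathlib.Algebra.Order.Ring.Int
import Mathlib.Tactic.Linarith
import Mathlib.Tactic.LinearCombination

set_option autoImplicit false
universe u
open SpinCurv

namespace Groth.Agent.S18429

/-- Let n ≥ 1 and r ≥ 2 be integers and let e_0, …, e_{nr} be integers with e_0 = e_{nr} = 0 (the
coefficients of a chain of nr - 1 exceptional curves joining two non-exceptional components with
coefficient zero) such that at every interior index 1 ≤ j ≤ nr - 1 the second difference e_{j-1} - 2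
e_j + e_{j+1} (the degree of the divisor Σ e_i E_i on the j-th curve of the chain) is divisible by
r. Then there are integers e'_0, …, e'_{nr}, with e'_j ≡ e_j modulo r for every interior j, with
e'_0 = e'_{nr} = 0 and every e'_j ≤ 0, whose second differences at the interior indices are each 0
or r, and are nonzero at no two distinct interior indices. -/
theorem result (n r : ℕ) (hn : 1 ≤ n) (hr : 2 ≤ r)
    (e : ℕ → ℤ) (he0 : e 0 = 0) (henr : e (n * r) = 0)
    (hdiv : ∀ j : ℕ, 1 ≤ j → j < n * r → (r : ℤ) ∣ e (j - 1) - 2 * e j + e (j + 1)) :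
    ∃ e' : ℕ → ℤ, e' 0 = 0 ∧ e' (n * r) = 0 ∧
      (∀ j : ℕ, 1 ≤ j → j < n * r → (r : ℤ) ∣ e' j - e j) ∧
      (∀ j : ℕ, j ≤ n * r → e' j ≤ 0) ∧
      (∀ j : ℕ, 1 ≤ j → j < n * r →
        (e' (j - 1) - 2 * e' j + e' (j + 1) = 0 ∨ e' (j - 1) - 2 * e' j + e' (j + 1) = r)) ∧
      (∀ j j' : ℕ, 1 ≤ j → j < n * r → 1 ≤ j' → j' < n * r →
        e' (j - 1) - 2 * e' j + e' (j + 1) ≠ 0 → e' (j' - 1) - 2 * e' j' + e' (j' + 1) ≠ 0 → j = j') := by
  set a : ℤ := (e 1) % r with ha
  have hr0 : (0 : ℤ) < r := by omega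
  have ha0 : 0 ≤ a := Int.emod_nonneg _ (by omega)
  have har : a < r := Int.emod_lt_of_pos _ hr0
  have hk : ∃ k : ℕ, (k : ℤ) = n * a := ⟨(n * a : ℤ).toNat, Int.toNat_of_nonneg (mul_nonneg (by omega) ha0)⟩
  obtain ⟨k, hk⟩ := hk
  have hkle : k ≤ n * r := by
    have : (k : ℤ) ≤ (n * r : ℕ) := by push_cast; rw [hk]; exact mul_le_mul_of_nonneg_left har.le (by omega)
    exact_mod_cast this
  have key : ∀ j : ℕ, j + 1 ≤ n * r → (r : ℤ) ∣ (j * a - e j) ∧ (r : ℤ) ∣ ((j + 1) * a - e (j + 1)) := by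
    intro j
    induction j with
    | zero =>
      intro _
      refine ⟨by simp [he0], ⟨-(e 1 / r), ?_⟩⟩
      have := Int.emod_add_mul_ediv (e 1) r
      push_cast
      rw [ha]
      linear_combination this
    | succ j ih =>
      intro hj
      obtain ⟨⟨u, hu⟩, ⟨w, hw⟩⟩ := ih (by omega)
      refine ⟨⟨w, by push_cast; exact hw⟩, ?_⟩
      have h3 := hdiv (j + 1) (by omega) (by omega)
      rw [Nat.add_sub_cancel] at h3
      obtain ⟨c, hc⟩ := h3
      exact ⟨2 * w - u - c, by push_cast; linear_combination 2 * hw - hu - hc⟩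
  refine ⟨fun j => j * a - r * ((min j k : ℕ) : ℤ), by simp, ?_, fun j h1 h2 => ?_, fun j hj => ?_, fun j h1 h2 => ?_, ?_⟩
  · show ((n * r : ℕ) : ℤ) * a - r * ((min (n * r) k : ℕ) : ℤ) = 0
    rw [min_eq_right hkle, hk]; push_cast; ring
  · obtain ⟨u, hu⟩ := (key j (by omega)).1
    exact ⟨u - ((min j k : ℕ) : ℤ), by linear_combination hu⟩
  · rcases le_or_gt j k with h | h
    · show (j : ℤ) * a - r * ((min j k : ℕ) : ℤ) ≤ 0
      rw [min_eq_left h]; nlinarith [Int.natCast_nonneg j]
    · show (j : ℤ) * a - r * ((min j k : ℕ) : ℤ) ≤ 0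
      rw [min_eq_right h.le, hk]
      have : (j : ℤ) ≤ (n : ℤ) * r := by exact_mod_cast hj
      nlinarith
  · obtain ⟨i, rfl⟩ : ∃ i, j = i + 1 := ⟨j - 1, by omega⟩
    rw [Nat.add_sub_cancel]
    rcases lt_trichotomy (i + 1) k with h | h | h
    · left
      simp only [min_eq_left (show i ≤ k by omega), min_eq_left (show i + 1 ≤ k by omega), min_eq_left (show i + 1 + 1 ≤ k by omega)]
      push_cast; ring
    · right
      simp only [min_eq_left (show i ≤ k by omega), min_eq_left (show i + 1 ≤ k by omega), min_eq_right (show k ≤ i + 1 + 1 by omega)]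
      rw [← h]; push_cast; ring
    · left
      simp only [min_eq_right (show k ≤ i by omega), min_eq_right (show k ≤ i + 1 by omega), min_eq_right (show k ≤ i + 1 + 1 by omega)]
      push_cast; ring
  · intro j j' h1 h2 h1' h2'
    have key2 : ∀ j : ℕ, 1 ≤ j → j ≠ k →
        ((j - 1 : ℕ) : ℤ) * a - r * ((min (j - 1) k : ℕ) : ℤ) - 2 * ((j : ℤ) * a - r * ((min j k : ℕ) : ℤ)) +
          (((j + 1 : ℕ) : ℤ) * a - r * ((min (j + 1) k : ℕ) : ℤ)) = 0 := fun j hj hjk => by
      obtain ⟨i, rfl⟩ : ∃ i, j = i + 1 := ⟨j - 1, by omega⟩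
      rw [Nat.add_sub_cancel]
      rcases lt_or_gt_of_ne hjk with h | h
      · simp only [min_eq_left (show i ≤ k by omega), min_eq_left (show i + 1 ≤ k by omega), min_eq_left (show i + 1 + 1 ≤ k by omega)]
        push_cast; ring
      · simp only [min_eq_right (show k ≤ i by omega), min_eq_right (show k ≤ i + 1 by omega), min_eq_right (show k ≤ i + 1 + 1 by omega)]
        push_cast; ring
    intro hj hj'
    by_contra hne
    rcases eq_or_ne j k with rfl | hjk
    · exact hj' (key2 j' h1' (Ne.symm hne))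
    · exact hj (key2 j h1 hjk)

end Groth.Agent.S18429
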