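import Groth.Statements.S18431
import Mathlib.RingTheory.LocalRing.ResidueField.Basic
import Mathlib.Algebra.Ring.GeomSum

set_option autoImplicit false
universe u
open SpinCurv

namespace Groth.Agent.S18431

/-- Let R be a Noetherian local ring in which the natural number r is invertible and let ξ, ζ ∈ R
satisfy ξ^r = 1 and ζ^r = 1. Then either ξ = ζ, or ξ - ζ is a unit of R. (Consequently an element of
R annihilated by ξ - ζ is zero unless ξ = ζ. In the published setting R is moreover complete; the
step does not use completeness.) -/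
theorem result (R : Type u) [CommRing R] [IsNoetherianRing R] [IsLocalRing R]
    (r : ℕ) (hr : IsUnit (r : R)) (ξ ζ : R) (hξ : ξ ^ r = 1) (hζ : ζ ^ r = 1) :
    ξ = ζ ∨ IsUnit (ξ - ζ) := by
  rw [or_iff_not_imp_right]
  intro h
  have hm : IsLocalRing.residue R (ξ - ζ) = 0 := (IsLocalRing.residue_eq_zero_iff _).2 h
  have heq : IsLocalRing.residue R ξ = IsLocalRing.residue R ζ := by rwa [map_sub, sub_eq_zero] at hm
  have hr0 : r ≠ 0 := by
    rintro rfl
    simp at hr
  have hζu : IsUnit ζ := IsUnit.of_pow_eq_one hζ hr0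
  have hu : IsUnit (∑ i ∈ Finset.range r, ξ ^ i * ζ ^ (r - 1 - i)) := by
    by_contra hn
    have h0 := (IsLocalRing.residue_eq_zero_iff _).2 hn
    rw [map_sum] at h0
    simp only [map_mul, map_pow, heq, geom_sum₂_self] at h0
    rw [← map_pow, ← map_natCast (IsLocalRing.residue R), ← map_mul, IsLocalRing.residue_eq_zero_iff] at h0
    exact h0 (hr.mul (hζu.pow _))
  have h2 := geom_sum₂_mul ξ ζ r
  rw [hξ, hζ, sub_self] at h2
  exact sub_eq_zero.1 (hu.mul_right_eq_zero.1 h2)

end Groth.Agent.S18431
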