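import Groth.Statements.S18432
import Mathlib

set_option autoImplicit false
universe u
open SpinCurv

namespace Groth.Agent.S18432

open MvPowerSeries

variable {R : Type u} [CommRing R]

lemma coeff_X_mul' (i : Fin 2) (f : MvPowerSeries (Fin 2) R) (m : Fin 2 →₀ ℕ) :
    coeff (Finsupp.single i 1 + m) (X i * f) = coeff m f := by
  rw [X_def, coeff_monomial_mul, if_pos le_self_add, one_mul, add_tsub_cancel_left]

lemma coeff_X_mul_zero (i : Fin 2) (f : MvPowerSeries (Fin 2) R) (m : Fin 2 →₀ ℕ) (hm : m i = 0) :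
    coeff m (X i * f) = 0 := by
  rw [X_def, coeff_monomial_mul, if_neg]
  intro h; have := h i; simp [hm] at this

lemma g_zero [IsNoetherianRing R] [IsLocalRing R] (π : R) (hπ : π ∈ IsLocalRing.maximalIdeal R)
    (b0 g : MvPowerSeries (Fin 2) R) (hb : ∀ m : Fin 2 →₀ ℕ, m 0 ≠ 0 → coeff m b0 = 0)
    (h : X 1 * b0 = (X 0 * X 1 - C π) * g) : b0 = 0 := by
  have hrec : ∀ m : Fin 2 →₀ ℕ, coeff m g = π * coeff (Finsupp.single 0 1 + (Finsupp.single 1 1 + m)) g := by
    intro m
    have e := congrArg (coeff (Finsupp.single 0 1 + (Finsupp.single 1 1 + m))) h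
    rw [sub_mul, mul_assoc, map_sub, coeff_X_mul', coeff_X_mul', coeff_C_mul, add_left_comm, coeff_X_mul', hb _ (by simp)] at e
    rw [add_left_comm] at e
    exact sub_eq_zero.1 e.symm
  have hg : ∀ m, coeff m g = 0 := by
    intro m
    have key : ∀ n : ℕ, ∀ m, coeff m g ∈ (IsLocalRing.maximalIdeal R) ^ n • (⊤ : Submodule R R) := by
      intro n
      induction n with
      | zero => intro m; simp
      | succ n ih =>
        intro m
        rw [hrec m, smul_eq_mul, Ideal.mul_top, pow_succ']
        have := ih (Finsupp.single 0 1 + (Finsupp.single 1 1 + m))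
        rw [smul_eq_mul, Ideal.mul_top] at this
        exact Ideal.mul_mem_mul hπ this
    have := Ideal.iInf_pow_smul_eq_bot_of_isLocalRing (R := R) (M := R) (IsLocalRing.maximalIdeal R) (IsLocalRing.maximalIdeal.isMaximal R).ne_top
    have hm : coeff m g ∈ ⨅ n : ℕ, (IsLocalRing.maximalIdeal R) ^ n • (⊤ : Submodule R R) := Submodule.mem_iInf _ |>.2 fun n => key n m
    rw [this] at hm
    exact (Submodule.mem_bot R).1 hm
  have hg0 : g = 0 := by ext m; simpa using hg m
  rw [hg0, mul_zero] at h
  ext m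
  have e := congrArg (coeff (Finsupp.single 1 1 + m)) h
  rw [coeff_X_mul'] at e
  simpa using e

lemma split (b : MvPowerSeries (Fin 2) R) :
    ∃ b0 b1 : MvPowerSeries (Fin 2) R, b = X 0 * b1 + b0 ∧ ∀ m : Fin 2 →₀ ℕ, m 0 ≠ 0 → coeff m b0 = 0 := by
  let b0 : MvPowerSeries (Fin 2) R := fun m => if m 0 = 0 then coeff m b else 0
  let b1 : MvPowerSeries (Fin 2) R := fun m => coeff (Finsupp.single 0 1 + m) b
  refine ⟨b0, b1, ?_, fun m hm => if_neg hm⟩
  ext m
  rw [map_add]
  by_cases hm : m 0 = 0
  · rw [coeff_X_mul_zero 0 _ m hm, zero_add]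
    exact (if_pos hm).symm
  · obtain ⟨m', rfl⟩ : ∃ m', m = Finsupp.single 0 1 + m' := ⟨m - Finsupp.single 0 1, by
      rw [add_tsub_cancel_of_le]; exact Finsupp.single_le_iff.2 (by omega)⟩
    rw [coeff_X_mul']
    exact ((add_zero _).symm.trans (congrArg _ (if_neg hm).symm))

/-- Let R be a complete Noetherian local ring, p, q elements of its maximal ideal, A = R[[x, y]]/(xy -
pq), and α(p, q) the A-linear endomorphism of A² with matrix (x p; q y), sending a column (a, b) to
(x a + p b, q a + y b). Then the kernel of α(p, q) is the submodule of A² generated by the columns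
(p, -x) and (y, -q); equivalently the image of α(p, q) (the standard rank-one torsion-free module
E(p, q)) is presented by two generators ξ, v with the relations p ξ = x v and y ξ = q v. -/
theorem result (R : Type u) [CommRing R] [IsNoetherianRing R] [IsLocalRing R]
    [IsAdicComplete (IsLocalRing.maximalIdeal R) R]
    (p q : R) (hp : p ∈ IsLocalRing.maximalIdeal R) (hq : q ∈ IsLocalRing.maximalIdeal R) :
    LinearMap.ker (Matrix.mulVecLin (SpinCurv.nodeAlpha R p q)) =
      Submodule.span (SpinCurv.NodeRing R (p * q))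
        {![algebraMap R (SpinCurv.NodeRing R (p * q)) p, -SpinCurv.NodeRing.x R (p * q)],
         ![SpinCurv.NodeRing.y R (p * q), -algebraMap R (SpinCurv.NodeRing R (p * q)) q]} := by
  open MvPowerSeries in
  have hC : ∀ r : R, algebraMap R (SpinCurv.NodeRing R (p * q)) r = Ideal.Quotient.mk _ (MvPowerSeries.C r) := fun r => rfl
  have hrel : SpinCurv.NodeRing.x R (p * q) * SpinCurv.NodeRing.y R (p * q) = algebraMap R (SpinCurv.NodeRing R (p * q)) p * algebraMap R (SpinCurv.NodeRing R (p * q)) q := by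
    rw [← map_mul (algebraMap R (SpinCurv.NodeRing R (p * q))), hC, ← map_mul, Ideal.Quotient.mk_eq_mk_iff_sub_mem]
    exact Ideal.subset_span rfl
  apply le_antisymm
  · intro v hv
    have e0 := congrFun (LinearMap.mem_ker.1 hv) 0
    have e1 := congrFun (LinearMap.mem_ker.1 hv) 1
    simp [SpinCurv.nodeAlpha, Matrix.mulVec, dotProduct, Fin.sum_univ_two] at e0 e1
    obtain ⟨a, ha⟩ := Ideal.Quotient.mk_surjective (v 0)
    obtain ⟨b, hb⟩ := Ideal.Quotient.mk_surjective (v 1)
    rw [hC, ← ha, ← hb] at e0 e1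
    rw [← map_mul, ← map_mul, ← map_add, Ideal.Quotient.eq_zero_iff_mem, Ideal.mem_span_singleton] at e0 e1
    obtain ⟨h, hh⟩ := e0
    obtain ⟨k, hk⟩ := e1
    obtain ⟨b0, b1, hb', hb0⟩ := split (b + MvPowerSeries.C q * h)
    rw [map_mul] at hh hk
    have e2 : MvPowerSeries.X 0 * (a - MvPowerSeries.X 1 * h + MvPowerSeries.C p * b1) + MvPowerSeries.C p * b0 = 0 := by
      linear_combination hh - MvPowerSeries.C p * hb'
    have hpb0 : MvPowerSeries.C p * b0 = 0 := by
      ext m
      by_cases hm : m 0 = 0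
      · have e := congrArg (MvPowerSeries.coeff m) e2
        rw [map_add, coeff_X_mul_zero 0 _ m hm, zero_add] at e
        simpa using e
      · rw [MvPowerSeries.coeff_C_mul, hb0 m hm]; simp
    have ha' : a = MvPowerSeries.X 1 * h - MvPowerSeries.C p * b1 := by
      rw [hpb0, add_zero] at e2
      ext m
      have e := congrArg (MvPowerSeries.coeff (Finsupp.single 0 1 + m)) e2
      rw [coeff_X_mul', map_add, map_sub, map_zero] at e
      rw [map_sub]
      linear_combination e
    have h3 : MvPowerSeries.X 1 * b0 = (MvPowerSeries.X 0 * MvPowerSeries.X 1 - MvPowerSeries.C (p * q)) * (k - b1) := by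
      rw [map_mul]
      linear_combination hk - MvPowerSeries.C q * ha' - MvPowerSeries.X 1 * hb'
    have hb00 : b0 = 0 := g_zero (p * q) (Ideal.mul_mem_right _ _ hp) b0 _ hb0 h3
    rw [Submodule.mem_span_pair]
    refine ⟨Ideal.Quotient.mk _ (-b1), Ideal.Quotient.mk _ h, ?_⟩
    funext i
    fin_cases i
    · simp [hC, SpinCurv.NodeRing.x, SpinCurv.NodeRing.y, ← ha, ha', map_sub, map_mul]; ring
    · simp [hC, SpinCurv.NodeRing.x, SpinCurv.NodeRing.y, ← hb]
      rw [show b = MvPowerSeries.X 0 * b1 - MvPowerSeries.C q * h by rw [hb00, add_zero] at hb'; linear_combination hb', map_sub]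
      simp only [map_mul (Ideal.Quotient.mk _)]
      ring
  · rw [Submodule.span_le]
    rintro _ (rfl | rfl) <;> rw [SetLike.mem_coe, LinearMap.mem_ker] <;> funext i <;> fin_cases i <;>
      simp [SpinCurv.nodeAlpha, Matrix.mulVec, dotProduct, Fin.sum_univ_two] <;> first | ring1 | linear_combination hrel | linear_combination -hrel

end Groth.Agent.S18432
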