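import Groth.Statements.S18433


set_option autoImplicit false
universe u
open SpinCurv

namespace Groth.Agent.S18433

open MvPowerSeries

variable {R : Type u} [CommRing R]

lemma fin2_ext {d e : Fin 2 →₀ ℕ} (h0 : d 0 = e 0) (h1 : d 1 = e 1) : d = e :=
  Finsupp.ext fun i => by fin_cases i <;> assumption

lemma coeff_X_mul' (i : Fin 2) (f : MvPowerSeries (Fin 2) R) (m : Fin 2 →₀ ℕ) :
    coeff (Finsupp.single i 1 + m) (X i * f) = coeff m f := by
  rw [X_def, coeff_monomial_mul, if_pos le_self_add, one_mul, add_tsub_cancel_left]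

lemma coeff_X_mul_zero (i : Fin 2) (f : MvPowerSeries (Fin 2) R) (m : Fin 2 →₀ ℕ) (hm : m i = 0) :
    coeff m (X i * f) = 0 := by
  rw [X_def, coeff_monomial_mul, if_neg]
  intro h; have := h i; simp [hm] at this

lemma coeff_toMv_single (i : Fin 2) (f : PowerSeries R) (n : ℕ) :
    coeff (Finsupp.single i n) (PowerSeries.toMvPowerSeries i f) = PowerSeries.coeff n f := by
  have h := MvPowerSeries.coeff_embDomain_rename (R := R) (σ := Unit) (Function.Embedding.punit i) f (Finsupp.single () n)
  rw [Finsupp.embDomain_single] at h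
  exact h

lemma coeff_toMv_zero (i j : Fin 2) (hij : j ≠ i) (f : PowerSeries R) (m : Fin 2 →₀ ℕ) (hm : m j ≠ 0) :
    coeff m (PowerSeries.toMvPowerSeries i f) = 0 := by
  rw [PowerSeries.toMvPowerSeries_apply]
  refine MvPowerSeries.coeff_rename_eq_zero (f := fun _ : Unit => i) _ ?_
  rintro ⟨x, rfl⟩
  exact hm (Finsupp.mapDomain_notin_range x j (by rintro ⟨a, rfl⟩; exact hij rfl))

/-- the part not involving the variable `i` is the series in the other variable -/
lemma exists_toMv (i j : Fin 2) (hij : j ≠ i) (e : MvPowerSeries (Fin 2) R) :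
    ∃ (f : PowerSeries R) (d : MvPowerSeries (Fin 2) R), e = PowerSeries.toMvPowerSeries i f + X j * d ∧
      ∀ m, coeff m d = coeff (Finsupp.single j 1 + m) e := by
  let d : MvPowerSeries (Fin 2) R := fun m => coeff (Finsupp.single j 1 + m) e
  have hd : ∀ m, coeff m d = coeff (Finsupp.single j 1 + m) e := fun m => rfl
  refine ⟨PowerSeries.mk fun n => coeff (Finsupp.single i n) e, d, ?_, hd⟩
  ext m
  rw [map_add]
  by_cases hm : m j = 0
  · have hmi : m = Finsupp.single i (m i) := by
      refine Finsupp.ext fun l => ?_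
      rcases eq_or_ne l i with rfl | hl
      · simp
      · have : l = j := by fin_cases l <;> fin_cases i <;> fin_cases j <;> simp_all
        subst this
        rw [hm, Finsupp.single_eq_of_ne hl]
    rw [coeff_X_mul_zero j _ m hm, add_zero, hmi, coeff_toMv_single, PowerSeries.coeff_mk]
  · obtain ⟨m', rfl⟩ : ∃ m', m = Finsupp.single j 1 + m' := ⟨m - Finsupp.single j 1, by
      rw [add_tsub_cancel_of_le]; exact Finsupp.single_le_iff.2 (by omega)⟩
    rw [coeff_toMv_zero i j hij _ _ hm, zero_add, coeff_X_mul', hd]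

variable [IsLocalRing R] [IsAdicComplete (IsLocalRing.maximalIdeal R) R]

lemma zero_of_rec {π : R} (hπ : π ∈ IsLocalRing.maximalIdeal R) {α : Type*} (s : α → R) (sh : α → α)
    (h : ∀ m, s m = π * s (sh m)) (m : α) : s m = 0 := by
  refine IsHausdorff.haus (I := IsLocalRing.maximalIdeal R) inferInstance _ fun n => SModEq.zero.2 ?_
  rw [smul_eq_mul, Ideal.mul_top]
  induction n generalizing m with
  | zero => simp
  | succ n ih => rw [h m, pow_succ']; exact Ideal.mul_mem_mul hπ (ih (sh m))

lemma exists_rec {π : R} (hπ : π ∈ IsLocalRing.maximalIdeal R) {α : Type*} (c : α → R) (sh : α → α) :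
    ∃ s : α → R, ∀ m, s m = c m + π * s (sh m) := by
  set I := IsLocalRing.maximalIdeal R
  let P : ℕ → α → R := fun N => N.rec (fun _ => 0) fun _ prev m => c m + π * prev (sh m)
  have hP : ∀ N m, P (N + 1) m = c m + π * P N (sh m) := fun _ _ => rfl
  have hstep : ∀ N m, P (N + 1) m - P N m ∈ I ^ N := by
    intro N
    induction N with
    | zero => intro m; simp
    | succ N ih =>
      intro m
      rw [hP (N + 1), hP N, add_sub_add_left_eq_sub, ← mul_sub, pow_succ']
      exact Ideal.mul_mem_mul hπ (ih (sh m))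
  have hcauchy : ∀ m M N, M ≤ N → P M m - P N m ∈ I ^ M := by
    intro m M N hMN
    induction hMN with
    | refl => simp
    | step hMN ih =>
      rename_i K
      rw [show P M m - P (K + 1) m = (P M m - P K m) - (P (K + 1) m - P K m) by ring]
      exact Ideal.sub_mem _ ih (Ideal.pow_le_pow_right hMN (hstep K m))
  have hlim : ∀ m, ∃ L, ∀ n, P n m - L ∈ I ^ n := fun m => by
    obtain ⟨L, hL⟩ := IsPrecomplete.prec' (I := I) (M := R) (fun n => P n m) (fun {M N} h => by
      rw [SModEq.sub_mem, smul_eq_mul, Ideal.mul_top]; exact hcauchy m M N h)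
    refine ⟨L, fun n => ?_⟩
    have := hL n
    rwa [SModEq.sub_mem, smul_eq_mul, Ideal.mul_top] at this
  choose s hs using hlim
  refine ⟨s, fun m => sub_eq_zero.1 (IsHausdorff.haus (I := I) inferInstance _ fun n => SModEq.zero.2 ?_)⟩
  rw [smul_eq_mul, Ideal.mul_top, show s m - (c m + π * s (sh m)) =
    π * (P n (sh m) - s (sh m)) - (P (n + 1) m - s m) by rw [hP]; ring]
  exact Ideal.sub_mem _ (Ideal.mul_mem_left _ _ (hs (sh m) n)) (Ideal.pow_le_pow_right (Nat.le_succ n) (hs m (n + 1)))

/-- Let R be a complete Noetherian local ring, p, q elements of its maximal ideal, A = R[[x, y]]/(xy -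
pq), and α(p, q) the endomorphism (a, b) ↦ (x a + p b, q a + y b) of A². Restrict α(p, q) to pairs
(f, g) with f a power series in x alone and g a power series in y alone: the resulting map R[[x]] ×
R[[y]] → A², (f, g) ↦ (x f + p g, q f + y g), is injective and has the same image as α(p, q). Thus
the image E(p, q) of α(p, q) is identified, R-linearly, with R[[x]] ⊕ R[[y]]. -/
theorem result (R : Type u) [CommRing R] [IsNoetherianRing R] [IsLocalRing R]
    [IsAdicComplete (IsLocalRing.maximalIdeal R) R]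
    (p q : R) (hp : p ∈ IsLocalRing.maximalIdeal R) (hq : q ∈ IsLocalRing.maximalIdeal R) :
    Function.Injective (fun fg : PowerSeries R × PowerSeries R =>
        Matrix.mulVec (SpinCurv.nodeAlpha R p q)
          ![SpinCurv.NodeRing.ofX R (p * q) fg.1, SpinCurv.NodeRing.ofY R (p * q) fg.2]) ∧
    Set.range (fun fg : PowerSeries R × PowerSeries R =>
        Matrix.mulVec (SpinCurv.nodeAlpha R p q)
          ![SpinCurv.NodeRing.ofX R (p * q) fg.1, SpinCurv.NodeRing.ofY R (p * q) fg.2]) =
      Set.range (Matrix.mulVec (SpinCurv.nodeAlpha R p q)) := by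
  have hπ : p * q ∈ IsLocalRing.maximalIdeal R := Ideal.mul_mem_right q _ hp
  let S := MvPowerSeries (Fin 2) R
  let rel : S := X 0 * X 1 - C (p * q)
  have hα : ∀ a b : S, Matrix.mulVec (SpinCurv.nodeAlpha R p q)
      ![(Ideal.Quotient.mk _ a : SpinCurv.NodeRing R (p * q)), Ideal.Quotient.mk _ b] =
      ![Ideal.Quotient.mk _ (X 0 * a + C p * b), Ideal.Quotient.mk _ (C q * a + X 1 * b)] := by
    intro a b
    funext i
    fin_cases i <;> simp [SpinCurv.nodeAlpha, Matrix.mulVec, dotProduct, Fin.sum_univ_two] <;> rfl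
  have hmk : ∀ u v : S, (Ideal.Quotient.mk (Ideal.span {rel}) u : SpinCurv.NodeRing R (p * q)) = Ideal.Quotient.mk _ v ↔ ∃ h, u - v = rel * h := by
    intro u v
    rw [Ideal.Quotient.mk_eq_mk_iff_sub_mem, Ideal.mem_span_singleton]
    exact Iff.rfl
  have hker : ∀ (f g : PowerSeries R) (h k : S),
      X 0 * PowerSeries.toMvPowerSeries 0 f + C p * PowerSeries.toMvPowerSeries 1 g = rel * h →
      C q * PowerSeries.toMvPowerSeries 0 f + X 1 * PowerSeries.toMvPowerSeries 1 g = rel * k → f = 0 ∧ g = 0 := by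
    intro f g h k e0 e1
    set δ : Fin 2 →₀ ℕ := Finsupp.single 0 1 + Finsupp.single 1 1 with hδ
    have hd0 : ∀ m : Fin 2 →₀ ℕ, (δ + m) 0 ≠ 0 := fun m => by simp [hδ]
    have hd1 : ∀ m : Fin 2 →₀ ℕ, (δ + m) 1 ≠ 0 := fun m => by simp [hδ]
    have hrel : ∀ (h : S) m, coeff (δ + m) (rel * h) = coeff m h - (p * q) * coeff (δ + m) h := fun h m => by
      rw [show rel * h = X 0 * (X 1 * h) - C (p * q) * h by ring, map_sub, coeff_C_mul]
      rw [hδ, add_assoc, coeff_X_mul', coeff_X_mul']
    have hz : h = 0 ∧ k = 0 := by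
      constructor <;> ext m <;> rw [map_zero] <;> refine zero_of_rec hπ _ (fun m => δ + m) (fun m => ?_) m
      · have := congrArg (coeff (δ + m)) e0
        rw [hrel, map_add, coeff_C_mul, coeff_toMv_zero 1 0 (by decide) g _ (hd0 m), mul_zero, add_zero] at this
        rw [hδ, add_assoc, coeff_X_mul', coeff_toMv_zero 0 1 (by decide) f _ (by simp)] at this
        rw [← hδ] at *
        exact sub_eq_zero.1 (by rw [hδ, add_assoc]; exact this.symm)
      · have := congrArg (coeff (δ + m)) e1
        rw [hrel, map_add, coeff_C_mul, coeff_toMv_zero 0 1 (by decide) f _ (hd1 m), mul_zero, zero_add] at this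
        rw [hδ, add_assoc, add_left_comm, coeff_X_mul', coeff_toMv_zero 1 0 (by decide) g _ (by simp)] at this
        exact sub_eq_zero.1 (by rw [hδ, add_assoc, add_left_comm]; exact this.symm)
    rw [hz.1, mul_zero] at e0
    rw [hz.2, mul_zero] at e1
    constructor <;> ext n
    · have := congrArg (coeff (Finsupp.single 0 1 + Finsupp.single (0 : Fin 2) n)) e0
      rw [map_add, coeff_C_mul, coeff_X_mul', coeff_toMv_single, coeff_toMv_zero 1 0 (by decide) g _ (by simp)] at this
      simpa using this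
    · have := congrArg (coeff (Finsupp.single 1 1 + Finsupp.single (1 : Fin 2) n)) e1
      rw [map_add, coeff_C_mul, coeff_X_mul', coeff_toMv_single, coeff_toMv_zero 0 1 (by decide) f _ (by simp)] at this
      simpa using this
  constructor
  · intro ⟨f, g⟩ ⟨f', g'⟩ hfg
    simp only [SpinCurv.NodeRing.ofX, SpinCurv.NodeRing.ofY, hα] at hfg
    obtain ⟨h, hh⟩ := (hmk (X 0 * PowerSeries.toMvPowerSeries 0 f + C p * PowerSeries.toMvPowerSeries 1 g) (X 0 * PowerSeries.toMvPowerSeries 0 f' + C p * PowerSeries.toMvPowerSeries 1 g')).1 (congrFun hfg 0)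
    obtain ⟨k, hk⟩ := (hmk (C q * PowerSeries.toMvPowerSeries 0 f + X 1 * PowerSeries.toMvPowerSeries 1 g) (C q * PowerSeries.toMvPowerSeries 0 f' + X 1 * PowerSeries.toMvPowerSeries 1 g')).1 (congrFun hfg 1)
    obtain ⟨h1, h2⟩ := hker (f - f') (g - g') h k (by rw [map_sub, map_sub, ← hh]; ring) (by rw [map_sub, map_sub, ← hk]; ring)
    exact Prod.ext (sub_eq_zero.1 h1) (sub_eq_zero.1 h2)
  · apply Set.Subset.antisymm
    · rintro _ ⟨⟨f, g⟩, rfl⟩
      exact ⟨_, rfl⟩
    rintro _ ⟨v, rfl⟩
    obtain ⟨a, ha⟩ := Ideal.Quotient.mk_surjective (v 0)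
    obtain ⟨b, hb⟩ := Ideal.Quotient.mk_surjective (v 1)
    obtain ⟨F0, Da, hA, hDa⟩ := exists_toMv 0 1 (by decide) a
    obtain ⟨G0, c, hC, hc⟩ := exists_toMv 1 0 (by decide) (b + C q * Da)
    obtain ⟨u, hu⟩ := exists_rec hπ (fun m => coeff m c) (fun m => Finsupp.single 0 1 + (Finsupp.single 1 1 + m))
    let U : S := u
    have hU : ∀ m, coeff m U = coeff m c + (p * q) * coeff (Finsupp.single 0 1 + (Finsupp.single 1 1 + m)) U := hu
    obtain ⟨F1, DU, hU1, hDU⟩ := exists_toMv 0 1 (by decide) U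
    obtain ⟨G, De, hE, hDe⟩ := exists_toMv 1 0 (by decide) (b + C q * Da + C (p * q) * DU)
    have hDeU : De = U := by
      ext m
      rw [hDe, map_add, coeff_C_mul, hDU, ← hc, hU m, add_left_comm (Finsupp.single 0 1) (Finsupp.single 1 1) m]
    rw [hDeU] at hE
    refine ⟨⟨F0 + PowerSeries.C p * F1, G⟩, ?_⟩
    have hv : v = ![Ideal.Quotient.mk _ a, Ideal.Quotient.mk _ b] := by
      funext i; fin_cases i <;> simp [ha, hb]
    simp only [SpinCurv.NodeRing.ofX, SpinCurv.NodeRing.ofY]
    rw [hv, hα, hα, map_add (PowerSeries.toMvPowerSeries (0 : Fin 2)), map_mul (PowerSeries.toMvPowerSeries (0 : Fin 2)), PowerSeries.toMvPowerSeries_C]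
    rw [map_mul] at hE
    have h0 : PowerSeries.toMvPowerSeries 0 F0 + C p * PowerSeries.toMvPowerSeries 0 F1 = a + C p * U - X 1 * (Da + C p * DU) := by
      rw [hU1, hA]; ring
    have h1 : PowerSeries.toMvPowerSeries 1 G = b + C q * (Da + C p * DU) - X 0 * U := by
      linear_combination -hE
    rw [h0, h1]
    funext i
    fin_cases i
    · exact (hmk _ _).2 ⟨-(Da + C p * DU), by simp only [rel, map_mul]; ring⟩
    · exact (hmk _ _).2 ⟨-U, by simp only [rel, map_mul]; ring⟩

end Groth.Agent.S18433
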