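import Groth.Statements.S18434
import Groth.Prelude.Def_W4c5spincurvestfNode
import Mathlib

set_option autoImplicit false
universe u
open SpinCurv

namespace Groth.Agent.S18434

open MvPowerSeries
set_option backward.isDefEq.respectTransparency false
set_option maxHeartbeats 800000

variable {k : Type u} [Field k]

/-- The exponent of the `i`-th basis monomial. -/
noncomputable def expo (u : ℕ) (i : ℕ) : Fin 2 →₀ ℕ :=
  if i < u then Finsupp.single 0 i else Finsupp.single 1 (i - u + 1)

noncomputable def Φ (k : Type u) [Field k] (u v : ℕ) : MvPowerSeries (Fin 2) k →ₗ[k] (Fin (u + v - 1) → k) :=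
  LinearMap.pi fun i => MvPowerSeries.coeff (expo u i)

noncomputable def J (k : Type u) [Field k] (u v : ℕ) : Ideal (MvPowerSeries (Fin 2) k) :=
  Ideal.span {X 0 * X 1, X 0 ^ u, X 1 ^ v}

lemma fin2_ext {d e : Fin 2 →₀ ℕ} (h0 : d 0 = e 0) (h1 : d 1 = e 1) : d = e :=
  Finsupp.ext fun i => by fin_cases i <;> assumption

lemma ker_Φ (u v : ℕ) (hu : 1 ≤ u) (hv : 1 ≤ v) (f : MvPowerSeries (Fin 2) k) :
    f ∈ J k u v ↔ Φ k u v f = 0 := by
  classical
  have hexp : ∀ i : Fin (u + v - 1), (expo u i 0 = 0 ∨ expo u i 1 = 0) ∧ expo u i 0 < u ∧ expo u i 1 < v := by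
    intro i
    have := i.isLt
    simp only [expo]
    split_ifs <;> simp <;> omega
  constructor
  · intro hf
    funext i
    obtain ⟨h01, h0u, h1v⟩ := hexp i
    rw [J, Ideal.mem_span_insert] at hf
    obtain ⟨a, z, hz, rfl⟩ := hf
    obtain ⟨b, c, rfl⟩ := Ideal.mem_span_pair.1 hz
    show MvPowerSeries.coeff (expo u i) (a * (X 0 * X 1) + (b * X 0 ^ u + c * X 1 ^ v) : MvPowerSeries (Fin 2) k) = (0 : k)
    rw [map_add, map_add]
    have e1 : MvPowerSeries.coeff (expo u i) (a * (X 0 * X 1)) = 0 := by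
      rcases h01 with h | h
      · exact X_dvd_iff.1 ⟨a * X 1, by ring⟩ _ h
      · exact X_dvd_iff.1 ⟨a * X 0, by ring⟩ _ h
    have e2 : MvPowerSeries.coeff (expo u i) (b * X 0 ^ u) = 0 := X_pow_dvd_iff.1 ⟨b, by ring⟩ _ h0u
    have e3 : MvPowerSeries.coeff (expo u i) (c * X 1 ^ v) = 0 := X_pow_dvd_iff.1 ⟨c, by ring⟩ _ h1v
    rw [e1, e2, e3, add_zero, add_zero]
  · intro hf
    have hzero : ∀ d : Fin 2 →₀ ℕ, d 0 < u → d 1 < v → (d 0 = 0 ∨ d 1 = 0) → MvPowerSeries.coeff d f = 0 := by
      intro d h0 h1 h01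
      obtain ⟨i, hi⟩ : ∃ i : Fin (u + v - 1), expo u i = d := by
        by_cases h : d 1 = 0
        · refine ⟨⟨d 0, by omega⟩, ?_⟩
          rw [expo, if_pos h0]
          exact fin2_ext (by simp) (by simp [h])
        · refine ⟨⟨u + (d 1 - 1), by omega⟩, ?_⟩
          rw [expo, if_neg (by simp)]
          exact fin2_ext (by simp [h01.resolve_right h]) (by simp; omega)
      rw [← hi]; exact congrFun hf i
    let part : ((Fin 2 →₀ ℕ) → Prop) → MvPowerSeries (Fin 2) k :=
      fun P => fun d => if P d then MvPowerSeries.coeff d f else 0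
    have hpart : ∀ P d, MvPowerSeries.coeff d (part P) = if P d then MvPowerSeries.coeff d f else 0 :=
      fun P d => rfl
    have hsplit : f = part (fun d => u ≤ d 0) + part (fun d => d 0 < u ∧ v ≤ d 1) +
        part (fun d => d 0 < u ∧ d 1 < v) := by
      ext d
      rw [map_add, map_add, hpart, hpart, hpart]
      by_cases h0 : u ≤ d 0 <;> by_cases h1 : v ≤ d 1 <;> simp [h0, h1, not_le.1, Nat.not_lt.2] <;>
        simp_all [not_le]
    rw [hsplit]
    refine Ideal.add_mem _ (Ideal.add_mem _ ?_ ?_) ?_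
    · exact Ideal.mem_of_dvd _ (X_pow_dvd_iff.2 fun d hd => by rw [hpart, if_neg (by omega)])
        (Ideal.subset_span (show (X 0 ^ u : MvPowerSeries (Fin 2) k) ∈ _ by simp))
    · exact Ideal.mem_of_dvd _ (X_pow_dvd_iff.2 fun d hd => by rw [hpart, if_neg (by omega)])
        (Ideal.subset_span (show (X 1 ^ v : MvPowerSeries (Fin 2) k) ∈ _ by simp))
    · have hvan : ∀ d : Fin 2 →₀ ℕ, (d 0 = 0 ∨ d 1 = 0) →
          MvPowerSeries.coeff d (part (fun d => d 0 < u ∧ d 1 < v)) = 0 := by
        intro d hd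
        rw [hpart]
        split_ifs with h
        · exact hzero d h.1 h.2 hd
        · rfl
      obtain ⟨q, hq⟩ := X_dvd_iff.2 (fun d hd => hvan d (Or.inl hd))
      have hq1 : (X 1 : MvPowerSeries (Fin 2) k) ∣ q := by
        refine X_dvd_iff.2 fun d hd => ?_
        have := hvan (Finsupp.single 0 1 + d) (Or.inr (by simp [hd]))
        rw [hq, X_def, coeff_add_monomial_mul, one_mul] at this
        exact this
      exact Ideal.mem_of_dvd _ (by rw [hq]; exact mul_dvd_mul_left _ hq1)
        (Ideal.subset_span (show (X 0 * X 1 : MvPowerSeries (Fin 2) k) ∈ _ by simp))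

lemma Φ_surjective (u v : ℕ) (hu : 1 ≤ u) : Function.Surjective (Φ k u v) := by
  classical
  intro c
  refine ⟨∑ i : Fin (u + v - 1), monomial (expo u i) (c i), ?_⟩
  have hinj : ∀ i j : Fin (u + v - 1), expo u i = expo u j → i = j := by
    intro i j h
    have h0 := DFunLike.congr_fun h 0
    have h1 := DFunLike.congr_fun h 1
    simp only [expo] at h0 h1
    split_ifs at h0 h1 <;> simp at h0 h1 <;> ext <;> omega
  funext j
  simp only [Φ, LinearMap.pi_apply, map_sum, coeff_monomial]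
  rw [Finset.sum_eq_single j]
  · simp
  · intro i _ hij
    rw [if_neg fun h => hij (hinj _ _ h.symm)]
  · simp

/-- Let k be a field, u, v ≥ 1 integers and w ∈ k nonzero. In the ring A = k[[x, y]]/(xy), the quotient
A/(x^u, w y^v) has dimension u + v - 1 over k (a basis is 1, x, …, x^{u-1}, y, …, y^{v-1}); this is
the length of the cokernel at the node of a map whose image is generated by x^u and w y^v. -/
theorem result (k : Type u) [Field k] (u v : ℕ) (hu : 1 ≤ u) (hv : 1 ≤ v)
    (w : k) (hw : w ≠ 0) :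
    Module.finrank k (SpinCurv.NodeRing k 0 ⧸
      Ideal.span {SpinCurv.NodeRing.x k 0 ^ u, algebraMap k (SpinCurv.NodeRing k 0) w * SpinCurv.NodeRing.y k 0 ^ v}) =
      u + v - 1 := by
  set I0 := Ideal.span {(X 0 * X 1 - C (0 : k) : MvPowerSeries (Fin 2) k)} with hI0
  set I := Ideal.span {SpinCurv.NodeRing.x k 0 ^ u, algebraMap k (SpinCurv.NodeRing k 0) w * SpinCurv.NodeRing.y k 0 ^ v} with hI
  let π : MvPowerSeries (Fin 2) k →ₗ[k] SpinCurv.NodeRing k 0 ⧸ I :=
    ((Ideal.Quotient.mkₐ k I).comp (Ideal.Quotient.mkₐ k I0)).toLinearMap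
  have hπ : Function.Surjective π :=
    (Ideal.Quotient.mk_surjective (I := I)).comp (Ideal.Quotient.mk_surjective (I := I0))
  have hker : LinearMap.ker π = LinearMap.ker (Φ k u v) := by
    ext f
    rw [LinearMap.mem_ker, LinearMap.mem_ker, ← ker_Φ u v hu hv]
    show Ideal.Quotient.mk I (Ideal.Quotient.mk I0 f) = 0 ↔ _
    have hI' : I = (Ideal.span {X 0 ^ u, C w * X 1 ^ v}).map (Ideal.Quotient.mk I0) := by
      rw [hI, Ideal.map_span, Set.image_pair]; rfl
    have hJ : Ideal.span {X 0 ^ u, C w * X 1 ^ v} ⊔ I0 = J k u v := by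
      have hu' : IsUnit (C w : MvPowerSeries (Fin 2) k) := (Ne.isUnit hw).map _
      rw [hI0, J, map_zero, sub_zero, Ideal.span_insert (X 0 * X 1), Ideal.span_insert (X 0 ^ u),
        Ideal.span_singleton_mul_left_unit hu', ← Ideal.span_insert (X 0 ^ u), sup_comm]
    rw [Ideal.Quotient.eq_zero_iff_mem, hI', ← Ideal.mem_comap,
      Ideal.comap_map_of_surjective _ Ideal.Quotient.mk_surjective, ← RingHom.ker_eq_comap_bot, Ideal.mk_ker, hJ]
  rw [← ((LinearMap.quotKerEquivOfSurjective π hπ).finrank_eq), hker,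
    (LinearMap.quotKerEquivOfSurjective _ (Φ_surjective u v hu)).finrank_eq, Module.finrank_fin_fun]

end Groth.Agent.S18434
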