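import Groth.Statements.S18435
import Groth.Agent.SpinLib.Poly

set_option autoImplicit false
universe u
open SpinCurv

namespace Groth.Agent.S18435

/-- Let k be a field and A = k[x, y]/(xy) the node, with the two affine charts U = Spec k[s, y]/(sy) and
V = Spec k[t, x]/(tx) of the curve obtained by the (p, q)-construction with p = q = 0, glued along
k[s, s⁻¹] by t = s⁻¹ (y ↦ 0 from U, x ↦ 0 from V), and with A → O(U) given by x ↦ 0, y ↦ y and A →
O(V) by x ↦ x, y ↦ 0. A global section of O(1) is a pair (g, f) with g = s f on U ∩ V. If such a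
pair is annihilated by both x and y (acting through the two restriction maps), then g = 0 and f = 0;
so the module of global sections of O(1) has no nonzero element killed by the maximal ideal (x, y),
i.e. its direct image on the node is torsion-free there. All three coordinate rings are written as
the quotient of the polynomial ring in two variables by the product of the variables, and the four
restriction homomorphisms are k-algebra maps pinned by their values on generators. (The published
proof reduces the torsion-freeness of the direct image of O(1), for general R, p, q, to exactly this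
case of a field with p = q = 0.) -/
theorem result (k : Type u) [Field k]
    (rU : SpinCurv.PolyNodeRing k 0 →ₐ[k] SpinCurv.PolyNodeRing k 0)
    (hrUx : rU (SpinCurv.PolyNodeRing.x k 0) = 0)
    (hrUy : rU (SpinCurv.PolyNodeRing.y k 0) = SpinCurv.PolyNodeRing.y k 0)
    (rV : SpinCurv.PolyNodeRing k 0 →ₐ[k] SpinCurv.PolyNodeRing k 0)
    (hrVx : rV (SpinCurv.PolyNodeRing.x k 0) = SpinCurv.PolyNodeRing.y k 0)
    (hrVy : rV (SpinCurv.PolyNodeRing.y k 0) = 0)
    (gU : SpinCurv.PolyNodeRing k 0 →ₐ[k] LaurentPolynomial k)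
    (hgUs : gU (SpinCurv.PolyNodeRing.x k 0) = LaurentPolynomial.T 1)
    (hgUy : gU (SpinCurv.PolyNodeRing.y k 0) = 0)
    (gV : SpinCurv.PolyNodeRing k 0 →ₐ[k] LaurentPolynomial k)
    (hgVt : gV (SpinCurv.PolyNodeRing.x k 0) = LaurentPolynomial.T (-1))
    (hgVx : gV (SpinCurv.PolyNodeRing.y k 0) = 0)
    (g f : SpinCurv.PolyNodeRing k 0) (hsec : gU g = LaurentPolynomial.T 1 * gV f)
    (hx : rU (SpinCurv.PolyNodeRing.x k 0) * g = 0 ∧ rV (SpinCurv.PolyNodeRing.x k 0) * f = 0)
    (hy : rU (SpinCurv.PolyNodeRing.y k 0) * g = 0 ∧ rV (SpinCurv.PolyNodeRing.y k 0) * f = 0) :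
    g = 0 ∧ f = 0 := by
  classical
  let b := SpinLib.basis (0 : k)
  have hUy : gU (SpinCurv.PolyNodeRing.y k 0) = LaurentPolynomial.C (0 : k) * LaurentPolynomial.T (-(1 : ℤ)) := by
    rw [hgUy]; simp
  have hVx : gV (SpinCurv.PolyNodeRing.y k 0) = LaurentPolynomial.C (0 : k) * LaurentPolynomial.T (-(-1 : ℤ)) := by
    rw [hgVx]; simp
  have hy' : ∀ z : SpinCurv.PolyNodeRing k 0, SpinCurv.PolyNodeRing.y k 0 * z = 0 → ∀ j : ℤ, j ≤ 0 → b.repr z j = 0 := by
    intro z hz j hj
    have key : b.repr (SpinCurv.PolyNodeRing.y k 0 * z) (j - 1) = b.repr z j := by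
      conv_lhs => rw [← b.linearCombination_repr z]
      induction b.repr z using Finsupp.induction_linear with
      | zero => simp
      | add a c ha hc => simp only [map_add, mul_add, Finsupp.coe_add, Pi.add_apply, ha, hc]
      | single i r =>
        rw [Finsupp.linearCombination_single, mul_smul_comm, map_smul, Finsupp.smul_apply, SpinLib.basis_apply, SpinLib.e]
        split_ifs with hi
        · rcases eq_or_lt_of_le hi with h0 | h0
          · subst h0
            rw [show SpinCurv.PolyNodeRing.y k 0 * SpinCurv.PolyNodeRing.x k 0 ^ (0 : ℤ).toNat = b (-1) by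
              rw [SpinLib.basis_apply, SpinLib.e, if_neg (by omega)]; simp]
            rw [b.repr_self, Finsupp.single_apply, Finsupp.single_apply]
            simp only [smul_eq_mul]
            split_ifs <;> first | ring1 | omega
          · obtain ⟨u, hu⟩ : ∃ u, i.toNat = u + 1 := ⟨i.toNat - 1, by omega⟩
            have hxy : SpinCurv.PolyNodeRing.y k 0 * SpinCurv.PolyNodeRing.x k 0 ^ i.toNat = 0 := by
              rw [hu, pow_succ', ← mul_assoc]
              simp [mul_comm (SpinCurv.PolyNodeRing.y k 0), SpinLib.xy_eq]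
            rw [Finsupp.single_eq_of_ne (show j ≠ i by omega)]
            simp [hxy]
        · rw [← pow_succ', show SpinCurv.PolyNodeRing.y k 0 ^ ((-i).toNat + 1) = b (i - 1) by
            rw [SpinLib.basis_apply, SpinLib.e, if_neg (by omega), show (-(i - 1)).toNat = (-i).toNat + 1 by omega]]
          rw [b.repr_self, Finsupp.single_apply, Finsupp.single_apply]
          simp only [smul_eq_mul]
          split_ifs <;> first | ring1 | omega
    rw [← key, hz, map_zero]
    rfl
  have hg := hy.1
  rw [hrUy] at hg
  have hf := hx.2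
  rw [hrVx] at hf
  have hg' := hy' g hg
  have hf' := hy' f hf
  have hc : ∀ m : ℤ, (gU g).coeff m = (gV f).coeff (m - 1) := fun m => by
    rw [hsec, LaurentPolynomial.T, AddMonoidAlgebra.coeff_single_mul_eq_mul_coeff (m - 1) (fun z _ => by omega), one_mul]
  have main : ∀ j : ℤ, 0 < j → b.repr g j = 0 ∧ b.repr f j = 0 := fun j hj => by
    have h1 := hc j
    rw [SpinLib.repr_map 0 (ε := 1) (Or.inl rfl) hgUs hUy, SpinLib.repr_map 0 (ε := -1) (Or.inr rfl) hgVt hVx,
      one_mul, hf' _ (by omega), mul_zero, SpinLib.scal, show (-j).toNat = 0 by omega, pow_zero, one_mul] at h1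
    have h2 := hc (1 - j)
    rw [SpinLib.repr_map 0 (ε := 1) (Or.inl rfl) hgUs hUy, SpinLib.repr_map 0 (ε := -1) (Or.inr rfl) hgVt hVx,
      one_mul, hg' _ (by omega), mul_zero, show (-1 : ℤ) * (1 - j - 1) = j by ring, SpinLib.scal,
      show (-j).toNat = 0 by omega, pow_zero, one_mul] at h2
    exact ⟨h1, h2.symm⟩
  refine ⟨b.ext_elem fun j => ?_, b.ext_elem fun j => ?_⟩
  · rcases le_or_gt j 0 with h | h
    · simpa using hg' j h
    · simpa using (main j h).1
  · rcases le_or_gt j 0 with h | h
    · simpa using hf' j h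
    · simpa using (main j h).2

end Groth.Agent.S18435
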