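import Groth.Statements.S18436
import Groth.Agent.SpinLib.Poly

set_option autoImplicit false
universe u
open SpinCurv

namespace Groth.Agent.S18436

theorem coeff_T_mul {R : Type u} [CommRing R] (n : ℤ) (a : LaurentPolynomial R) (m : ℤ) :
    (LaurentPolynomial.T n * a).coeff m = a.coeff (m - n) := by
  rw [LaurentPolynomial.T, AddMonoidAlgebra.coeff_single_mul_eq_mul_coeff (m - n) (fun z _ => by omega), one_mul]

/-- Let R be a commutative ring and p, q ∈ R, and consider the two affine charts U = Spec R[s, y]/(sy -
q) and V = Spec R[t, x]/(xt - p) of the curve obtained from the node xy = pq by the (p,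
q)-construction, glued along R[s, s⁻¹] by t = s⁻¹ (so y = q s⁻¹ on U and x = p s on V). For an
integer n ≥ -1 the global sections of the twisting sheaf O(n) (equal to vⁿ O on U and to ξⁿ O on V,
ξ = s v) are the pairs (g, f) of functions on U and V with g = sⁿ f on U ∩ V. This R-module, written
as the kernel of the R-linear map (g, f) ↦ g|_{U ∩ V} - sⁿ · f|_{U ∩ V} into R[s, s⁻¹], is free over
R (hence the direct image of O(n) on the node is flat over R). Both chart rings are written as the
quotient of the polynomial ring in two variables by (first variable)·(second variable) - constant,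
and the two restriction homomorphisms to R[s, s⁻¹] are R-algebra maps pinned by their values on
generators. (The published setting has R complete local and p, q in the maximal ideal; the printed
computation uses neither.) -/
theorem result (R : Type u) [CommRing R] (p q : R)
    (gU : SpinCurv.PolyNodeRing R q →ₐ[R] LaurentPolynomial R)
    (hgUs : gU (SpinCurv.PolyNodeRing.x R q) = LaurentPolynomial.T 1)
    (hgUy : gU (SpinCurv.PolyNodeRing.y R q) = LaurentPolynomial.C q * LaurentPolynomial.T (-1))
    (gV : SpinCurv.PolyNodeRing R p →ₐ[R] LaurentPolynomial R)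
    (hgVt : gV (SpinCurv.PolyNodeRing.x R p) = LaurentPolynomial.T (-1))
    (hgVx : gV (SpinCurv.PolyNodeRing.y R p) = LaurentPolynomial.C p * LaurentPolynomial.T 1)
    (n : ℤ) (hn : -1 ≤ n) :
    Module.Free R (LinearMap.ker
      (gU.toLinearMap.comp (LinearMap.fst R (SpinCurv.PolyNodeRing R q) (SpinCurv.PolyNodeRing R p)) -
        (LinearMap.mulLeft R (LaurentPolynomial.T n)).comp
          (gV.toLinearMap.comp (LinearMap.snd R (SpinCurv.PolyNodeRing R q) (SpinCurv.PolyNodeRing R p))))) := by
  classical
  let bU := SpinLib.basis q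
  let bV := SpinLib.basis p
  have hVx : gV (SpinCurv.PolyNodeRing.y R p) = LaurentPolynomial.C p * LaurentPolynomial.T (-(-1 : ℤ)) := by
    rw [neg_neg]; exact hgVx
  let L := gU.toLinearMap.comp (LinearMap.fst R (SpinCurv.PolyNodeRing R q) (SpinCurv.PolyNodeRing R p)) -
      (LinearMap.mulLeft R (LaurentPolynomial.T n)).comp
        (gV.toLinearMap.comp (LinearMap.snd R (SpinCurv.PolyNodeRing R q) (SpinCurv.PolyNodeRing R p)))
  have hmem : ∀ z, z ∈ LinearMap.ker L ↔ ∀ m : ℤ,
      SpinLib.scal q m * bU.repr z.1 m = SpinLib.scal p (n - m) * bV.repr z.2 (n - m) := by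
    intro z
    have hU := fun m => SpinLib.repr_map q (ε := 1) (Or.inl rfl) hgUs hgUy z.1 m
    have hV := fun m => SpinLib.repr_map p (ε := -1) (Or.inr rfl) hgVt hVx z.2 m
    rw [LinearMap.mem_ker, show L z = gU z.1 - LaurentPolynomial.T n * gV z.2 from rfl, sub_eq_zero]
    constructor
    · intro h m
      have := congrArg (fun a => a.coeff m) h
      simp only [coeff_T_mul, hU, hV, one_mul, show (-1 : ℤ) * (m - n) = n - m by ring] at this
      exact this
    · intro h
      refine LaurentPolynomial.ext fun m => ?_
      rw [coeff_T_mul, hU, hV, one_mul, show (-1 : ℤ) * (m - n) = n - m by ring]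
      exact h m
  let v : ℤ → SpinCurv.PolyNodeRing R q × SpinCurv.PolyNodeRing R p := fun m =>
    if 0 ≤ m then (SpinLib.scal p (n - m) • bU m, bV (n - m)) else (bU m, SpinLib.scal q m • bV (n - m))
  let Φ := Finsupp.linearCombination R v
  have hΦ : ∀ w m, bU.repr (Φ w).1 m = (if 0 ≤ m then SpinLib.scal p (n - m) else 1) * w m ∧
      bV.repr (Φ w).2 (n - m) = (if 0 ≤ m then 1 else SpinLib.scal q m) * w m := by
    intro w m
    induction w using Finsupp.induction_linear with
    | zero => simp
    | add a b ha hb =>
      simp only [map_add, Prod.fst_add, Prod.snd_add, Finsupp.coe_add, Pi.add_apply, ha.1, ha.2, hb.1, hb.2, mul_add, and_self]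
    | single j r =>
      simp only [Φ, Finsupp.linearCombination_single, v]
      rcases eq_or_ne j m with rfl | hjm
      · split_ifs with h <;> simp [mul_comm]
      · have : n - j ≠ n - m := by omega
        split_ifs with h <;> simp [Finsupp.single_eq_of_ne (Ne.symm hjm), Finsupp.single_eq_of_ne (Ne.symm this)]
  have hsc : ∀ (a : R) (j : ℤ), 0 ≤ j → SpinLib.scal a j = 1 := fun a j hj => by
    rw [SpinLib.scal, show (-j).toNat = 0 by omega, pow_zero]
  have hker : ∀ w, Φ w ∈ LinearMap.ker L := fun w => by
    rw [hmem]
    intro m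
    rw [(hΦ w m).1, (hΦ w m).2]
    split_ifs with h
    · rw [hsc q m h]; ring
    · rw [hsc p (n - m) (by omega)]; ring
  refine Module.Free.of_equiv (LinearEquiv.ofBijective (Φ.codRestrict (LinearMap.ker L) hker) ⟨fun a b h => ?_, fun z => ?_⟩)
  · have h' : Φ a = Φ b := congrArg Subtype.val h
    ext m
    by_cases hm : 0 ≤ m
    · have ha := (hΦ a m).2
      rw [h', (hΦ b m).2, if_pos hm, one_mul, one_mul] at ha
      exact ha.symm
    · have ha := (hΦ a m).1
      rw [h', (hΦ b m).1, if_neg hm, one_mul, one_mul] at ha
      exact ha.symm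
  · obtain ⟨z, hz⟩ := z
    let w : ℤ →₀ R := Finsupp.ofSupportFinite (fun m => if 0 ≤ m then bV.repr z.2 (n - m) else bU.repr z.1 m)
      (((bU.repr z.1).support ∪ (bV.repr z.2).support.image (fun j => n - j)).finite_toSet.subset fun m hm => by
        simp only [Function.mem_support] at hm
        simp only [Finset.mem_coe, Finset.mem_union, Finset.mem_image, Finsupp.mem_support_iff]
        by_cases h : 0 ≤ m
        · rw [if_pos h] at hm; exact Or.inr ⟨n - m, hm, by omega⟩
        · rw [if_neg h] at hm; exact Or.inl hm)
    have hw : ∀ m, w m = if 0 ≤ m then bV.repr z.2 (n - m) else bU.repr z.1 m := fun m => rfl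
    have hz' := (hmem z).1 hz
    refine ⟨w, Subtype.ext (Prod.ext (bU.ext_elem fun m => ?_) (bV.ext_elem fun j => ?_))⟩
    · show bU.repr (Φ w).1 m = _
      rw [(hΦ w m).1, hw]
      split_ifs with h
      · rw [← hz' m, hsc q m h, one_mul]
      · rw [one_mul]
    · obtain ⟨m, rfl⟩ : ∃ m, j = n - m := ⟨n - j, by omega⟩
      show bV.repr (Φ w).2 (n - m) = _
      rw [(hΦ w m).2, hw]
      split_ifs with h
      · rw [one_mul]
      · rw [hz' m, hsc p (n - m) (by omega), one_mul]

end Groth.Agent.S18436
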