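import Groth.Statements.S18437
import Groth.Agent.SpinLib.TwistGen

set_option backward.isDefEq.respectTransparency false
set_option backward.isDefEq.respectTransparency.types false

set_option autoImplicit false
set_option maxHeartbeats 1600000
universe u
open SpinCurv
open Groth.Agent

namespace Groth.Agent.S18437

theorem coeff_T_mul' {R : Type u} [CommRing R] (n : ℤ) (a : LaurentPolynomial R) (m : ℤ) :
    (LaurentPolynomial.T n * a).coeff m = a.coeff (m - n) := by
  rw [LaurentPolynomial.T, AddMonoidAlgebra.coeff_single_mul_eq_mul_coeff (m - n) (fun z _ => by omega), one_mul]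

/-- Let R be a commutative ring and p, q ∈ R; put A = R[x, y]/(xy - pq) and consider the two affine
charts U = Spec R[s, y]/(sy - q) and V = Spec R[t, x]/(xt - p) of the curve obtained from Spec A by
blowing up as in the (p, q)-construction, glued along R[s, s⁻¹] by t = s⁻¹ (so y = q s⁻¹ on U and x
= p s on V), with the projection to Spec A given by x ↦ p s, y ↦ y on U and x ↦ x, y ↦ q t on V. For
n ≥ 0 the twisting sheaf O(n) is vⁿ O on U and ξⁿ O on V with ξ = s v, so its global sections are
the pairs (g, f) of functions on U and V with g = sⁿ f on U ∩ V. Then the map A^{n+1} → O(U) × O(V)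
sending (F_0, …, F_n), i.e. the section Σ F_i ξ^{n-i} v^i, to (Σ F_i|_U s^{n-i}, Σ F_i|_V t^i) has
image exactly the set of such pairs, and F is sent to zero exactly when it lies in the A-submodule
of A^{n+1} generated by the vectors p e_i - x e_{i+1} and y e_i - q e_{i+1} for 0 ≤ i < n (e_0, …,
e_n the standard basis). So the global sections of O(n) form the degree-n piece of A[ξ, v]/(p ξ - x
v, q v - y ξ). For n = 0 this says that a ↦ (a|_U, a|_V) is injective on A with image the pairs of
functions that agree on U ∩ V, so that the functions on the blown-up curve are exactly the functions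
on Spec A (the direct image of its structure sheaf is the structure sheaf of Spec A); for n = 1 it
presents the global sections of O(1) as A ξ ⊕ A v modulo the relations p ξ = x v and y ξ = q v. Here
R[s, y]/(sy - q) and R[t, x]/(xt - p) are both written as the quotient of the polynomial ring in two
variables by (first variable)·(second variable) - constant, the homomorphisms rU, rV are the
restriction maps from A to the two charts and gU, gV the restriction maps from the charts to their
intersection R[s, s⁻¹] (Laurent polynomials), each pinned by its values on the two generators. (The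
published setting has R complete local and p, q in the maximal ideal, and reduces to this polynomial
computation, which uses neither.) -/
theorem result (R : Type u) [CommRing R] (p q : R)
    (rU : SpinCurv.PolyNodeRing R (p * q) →ₐ[R] SpinCurv.PolyNodeRing R q)
    (hrUx : rU (SpinCurv.PolyNodeRing.x R (p * q)) = algebraMap R _ p * SpinCurv.PolyNodeRing.x R q)
    (hrUy : rU (SpinCurv.PolyNodeRing.y R (p * q)) = SpinCurv.PolyNodeRing.y R q)
    (rV : SpinCurv.PolyNodeRing R (p * q) →ₐ[R] SpinCurv.PolyNodeRing R p)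
    (hrVx : rV (SpinCurv.PolyNodeRing.x R (p * q)) = SpinCurv.PolyNodeRing.y R p)
    (hrVy : rV (SpinCurv.PolyNodeRing.y R (p * q)) = algebraMap R _ q * SpinCurv.PolyNodeRing.x R p)
    (gU : SpinCurv.PolyNodeRing R q →ₐ[R] LaurentPolynomial R)
    (hgUs : gU (SpinCurv.PolyNodeRing.x R q) = LaurentPolynomial.T 1)
    (hgUy : gU (SpinCurv.PolyNodeRing.y R q) = LaurentPolynomial.C q * LaurentPolynomial.T (-1))
    (gV : SpinCurv.PolyNodeRing R p →ₐ[R] LaurentPolynomial R)
    (hgVt : gV (SpinCurv.PolyNodeRing.x R p) = LaurentPolynomial.T (-1))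
    (hgVx : gV (SpinCurv.PolyNodeRing.y R p) = LaurentPolynomial.C p * LaurentPolynomial.T 1) (n : ℕ) :
    Set.range (fun F : Fin (n + 1) → SpinCurv.PolyNodeRing R (p * q) =>
        (∑ i : Fin (n + 1), rU (F i) * SpinCurv.PolyNodeRing.x R q ^ (n - (i : ℕ)),
         ∑ i : Fin (n + 1), rV (F i) * SpinCurv.PolyNodeRing.x R p ^ (i : ℕ))) =
      {gf : SpinCurv.PolyNodeRing R q × SpinCurv.PolyNodeRing R p |
        gU gf.1 = LaurentPolynomial.T (n : ℤ) * gV gf.2} ∧
    {F : Fin (n + 1) → SpinCurv.PolyNodeRing R (p * q) |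
        (∑ i : Fin (n + 1), rU (F i) * SpinCurv.PolyNodeRing.x R q ^ (n - (i : ℕ)),
         ∑ i : Fin (n + 1), rV (F i) * SpinCurv.PolyNodeRing.x R p ^ (i : ℕ)) = 0} =
      (Submodule.span (SpinCurv.PolyNodeRing R (p * q))
        (Set.range (fun i : Fin n =>
            (Pi.single (Fin.castSucc i) (algebraMap R (SpinCurv.PolyNodeRing R (p * q)) p) -
              Pi.single (Fin.succ i) (SpinCurv.PolyNodeRing.x R (p * q)) : Fin (n + 1) → SpinCurv.PolyNodeRing R (p * q))) ∪
         Set.range (fun i : Fin n =>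
            (Pi.single (Fin.castSucc i) (SpinCurv.PolyNodeRing.y R (p * q)) -
              Pi.single (Fin.succ i) (algebraMap R (SpinCurv.PolyNodeRing R (p * q)) q) : Fin (n + 1) → SpinCurv.PolyNodeRing R (p * q)))) :
        Set (Fin (n + 1) → SpinCurv.PolyNodeRing R (p * q))) := by
  classical
  let bU := SpinLib.basis q
  let bV := SpinLib.basis p
  have hVx : gV (SpinCurv.PolyNodeRing.y R p) = LaurentPolynomial.C p * LaurentPolynomial.T (-(-1 : ℤ)) := by
    rw [neg_neg]; exact hgVx
  have hmem : ∀ (g : SpinCurv.PolyNodeRing R q) (f : SpinCurv.PolyNodeRing R p),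
      gU g = LaurentPolynomial.T (n : ℤ) * gV f ↔ ∀ m : ℤ,
      SpinLib.scal q m * bU.repr g m = SpinLib.scal p ((n : ℤ) - m) * bV.repr f ((n : ℤ) - m) := by
    intro g f
    have hU := fun m => SpinLib.repr_map q (ε := 1) (Or.inl rfl) hgUs hgUy g m
    have hV := fun m => SpinLib.repr_map p (ε := -1) (Or.inr rfl) hgVt hVx f m
    constructor
    · intro h m
      have := congrArg (fun a => a.coeff m) h
      simp only [coeff_T_mul', hU, hV, one_mul, show (-1 : ℤ) * (m - n) = n - m by ring] at this
      exact this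
    · intro h
      refine LaurentPolynomial.ext fun m => ?_
      rw [coeff_T_mul', hU, hV, one_mul, show (-1 : ℤ) * (m - n) = n - m by ring]
      exact h m
  let v : ℤ → SpinCurv.PolyNodeRing R q × SpinCurv.PolyNodeRing R p := fun m =>
    if 0 ≤ m then (SpinLib.scal p ((n : ℤ) - m) • bU m, bV ((n : ℤ) - m)) else (bU m, SpinLib.scal q m • bV ((n : ℤ) - m))
  let Φ := Finsupp.linearCombination R v
  have hΦ : ∀ w m, bU.repr (Φ w).1 m = (if 0 ≤ m then SpinLib.scal p ((n : ℤ) - m) else 1) * w m ∧
      bV.repr (Φ w).2 ((n : ℤ) - m) = (if 0 ≤ m then 1 else SpinLib.scal q m) * w m := by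
    intro w m
    induction w using Finsupp.induction_linear with
    | zero => simp
    | add a b ha hb =>
      simp only [map_add, Prod.fst_add, Prod.snd_add, Finsupp.coe_add, Pi.add_apply, ha.1, ha.2, hb.1, hb.2, mul_add, and_self]
    | single j r =>
      simp only [Φ, Finsupp.linearCombination_single, v]
      rcases eq_or_ne j m with rfl | hjm
      · split_ifs with h <;> simp [mul_comm]
      · have : (n : ℤ) - j ≠ n - m := by omega
        split_ifs with h <;> simp [Finsupp.single_eq_of_ne (Ne.symm hjm), Finsupp.single_eq_of_ne (Ne.symm this)]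
  have hsc : ∀ (a : R) (j : ℤ), 0 ≤ j → SpinLib.scal a j = 1 := fun a j hj => by
    rw [SpinLib.scal, show (-j).toNat = 0 by omega, pow_zero]
  -- the map
  let ψ : (Fin (n + 1) → (SpinCurv.PolyNodeRing R (p * q))) →ₗ[R] SpinCurv.PolyNodeRing R q × SpinCurv.PolyNodeRing R p :=
    LinearMap.prod
      (∑ i : Fin (n + 1), (LinearMap.mulRight R (SpinCurv.PolyNodeRing.x R q ^ (n - (i : ℕ)))).comp
        (rU.toLinearMap.comp (LinearMap.proj i)))
      (∑ i : Fin (n + 1), (LinearMap.mulRight R (SpinCurv.PolyNodeRing.x R p ^ (i : ℕ))).comp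
        (rV.toLinearMap.comp (LinearMap.proj i)))
  have hψ : ∀ F, ψ F = (∑ i : Fin (n + 1), rU (F i) * SpinCurv.PolyNodeRing.x R q ^ (n - (i : ℕ)),
      ∑ i : Fin (n + 1), rV (F i) * SpinCurv.PolyNodeRing.x R p ^ (i : ℕ)) := fun F => by
    simp [ψ]
  have hψs : ∀ (i : Fin (n + 1)) (a : (SpinCurv.PolyNodeRing R (p * q))), ψ (Pi.single i a) =
      (rU a * SpinCurv.PolyNodeRing.x R q ^ (n - (i : ℕ)), rV a * SpinCurv.PolyNodeRing.x R p ^ (i : ℕ)) := fun i a => by
    rw [hψ]
    refine Prod.ext ?_ ?_
    all_goals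
      simp only []
      refine (Finset.sum_eq_single i (fun b _ hb => ?_) ?_).trans ?_
      · rw [Pi.single_eq_of_ne hb, map_zero, zero_mul]
      · simp
      · rw [Pi.single_eq_same]
  have hψmul : ∀ (a : (SpinCurv.PolyNodeRing R (p * q))) F, ψ (a • F) = (rU a * (ψ F).1, rV a * (ψ F).2) := fun a F => by
    rw [hψ, hψ]
    simp only [Pi.smul_apply, smul_eq_mul, map_mul, Finset.mul_sum, mul_assoc]
  let N := Submodule.span (SpinCurv.PolyNodeRing R (p * q))
        (Set.range (fun i : Fin n =>
            (Pi.single (Fin.castSucc i) (algebraMap R (SpinCurv.PolyNodeRing R (p * q)) p) -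
              Pi.single (Fin.succ i) (SpinCurv.PolyNodeRing.x R (p * q)) : Fin (n + 1) → (SpinCurv.PolyNodeRing R (p * q)))) ∪
         Set.range (fun i : Fin n =>
            (Pi.single (Fin.castSucc i) (SpinCurv.PolyNodeRing.y R (p * q)) -
              Pi.single (Fin.succ i) (algebraMap R (SpinCurv.PolyNodeRing R (p * q)) q) : Fin (n + 1) → (SpinCurv.PolyNodeRing R (p * q)))))
  have hN : ∀ F ∈ N, ψ F = 0 := fun F hF => by
    induction hF using Submodule.span_induction with
    | mem F hF =>
      rcases hF with ⟨i, rfl⟩ | ⟨i, rfl⟩ <;> simp only [map_sub, hψs, AlgHom.commutes, hrUx, hrUy, hrVx, hrVy]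
      · refine Prod.ext ?_ ?_ <;> simp only [Prod.mk_sub_mk, Prod.fst_zero, Prod.snd_zero, Fin.val_castSucc, Fin.val_succ, sub_eq_zero]
        · rw [show n - (i : ℕ) = n - (i + 1) + 1 by have := i.2; omega, pow_succ]; ring
        · rw [pow_succ, ← SpinLib.xy_eq (R := R) p]; ring
      · refine Prod.ext ?_ ?_ <;> simp only [Prod.mk_sub_mk, Prod.fst_zero, Prod.snd_zero, Fin.val_castSucc, Fin.val_succ, sub_eq_zero]
        · rw [show n - (i : ℕ) = n - (i + 1) + 1 by have := i.2; omega, pow_succ, ← SpinLib.xy_eq (R := R) q]; ring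
        · rw [pow_succ]; ring
    | zero => exact map_zero _
    | add a b _ _ ha hb => rw [map_add, ha, hb, add_zero]
    | smul a F _ hF => rw [hψmul, hF]; simp
  let σ := SpinLib.sig (SpinCurv.PolyNodeRing.x R (p * q)) (SpinCurv.PolyNodeRing.y R (p * q)) n
  have hσv : ∀ m, ψ (σ m) = v m := fun m => by
    simp only [σ, SpinLib.sig, v, bU, bV, SpinLib.basis_apply, SpinLib.e, SpinLib.scal]
    by_cases h : (n : ℤ) < m
    · rw [if_pos h, hψs, map_pow, map_pow, hrUx, hrVx, if_pos (by omega : (0 : ℤ) ≤ m), if_pos (by omega : (0 : ℤ) ≤ m),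
        if_neg (by omega : ¬ (0 : ℤ) ≤ n - m), show (-((n : ℤ) - m)).toNat = (m - n).toNat by congr 1; omega]
      refine Prod.ext ?_ ?_
      · simp only [Fin.val_zero, Nat.sub_zero, Algebra.smul_def, map_pow, mul_pow, mul_assoc, ← pow_add]
        rw [show (m - n).toNat + n = m.toNat by omega, ← map_pow]
        exact (Algebra.smul_def _ _).symm
      · simp
    by_cases h0 : (0 : ℤ) ≤ m
    · rw [if_neg h, if_pos h0, hψs, map_one, map_one, one_mul, one_mul, if_pos h0, if_pos h0,
        if_pos (by omega : (0 : ℤ) ≤ n - m), show (-((n : ℤ) - m)).toNat = 0 by omega, pow_zero, one_smul]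
      refine Prod.ext ?_ ?_
      · show _ ^ (n - (n - m.toNat)) = _
        congr 1; omega
      · show _ ^ (n - m.toNat) = _
        congr 1; omega
    · rw [if_neg h, if_neg h0, hψs, map_pow, map_pow, hrUy, hrVy, if_neg h0, if_neg h0,
        if_pos (by omega : (0 : ℤ) ≤ n - m)]
      refine Prod.ext ?_ ?_
      · simp
      · simp only [Fin.val_last, Algebra.smul_def, map_pow, mul_pow, mul_assoc, ← pow_add]
        rw [show (-m).toNat + n = ((n : ℤ) - m).toNat by omega, ← map_pow]
        exact (Algebra.smul_def _ _).symm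
  have hdec : ∀ F, ∃ w : ℤ →₀ R, F - Finsupp.linearCombination R σ w ∈ N :=
    SpinLib.exists_comb_sig _ _ p q n (SpinLib.xy_eq _) (fun P hC hadd hX hY a => by
      obtain ⟨f, rfl⟩ := Ideal.Quotient.mk_surjective a
      induction f using MvPolynomial.induction_on with
      | C r => exact hC r
      | add a b ha hb => rw [map_add]; exact hadd _ _ ha hb
      | mul_X a i ha =>
        rw [map_mul]
        fin_cases i
        · exact hX _ ha
        · exact hY _ ha)
  have hψσ : ∀ w, ψ (Finsupp.linearCombination R σ w) = Φ w := fun w => by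
    rw [Finsupp.apply_linearCombination]
    exact congrArg (fun f => Finsupp.linearCombination R f w) (funext hσv)
  refine ⟨Set.ext fun gf => ⟨?_, fun hgf => ?_⟩, Set.ext fun F => ⟨fun hF => ?_, fun hF => ?_⟩⟩
  · rintro ⟨F, rfl⟩
    show gU _ = _
    obtain ⟨w, hw⟩ := hdec F
    have hF : ψ F = Φ w := by rw [← hψσ, ← sub_eq_zero, ← map_sub, hN _ hw]
    rw [hψ] at hF
    show gU (_, _).1 = LaurentPolynomial.T (n : ℤ) * gV (_, _).2
    rw [hF, hmem]
    intro m
    rw [(hΦ w m).1, (hΦ w m).2]
    split_ifs with h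
    · rw [hsc q m h]; ring
    · rw [hsc p ((n : ℤ) - m) (by omega)]; ring
  · have hz' := (hmem gf.1 gf.2).1 hgf
    let w : ℤ →₀ R := Finsupp.ofSupportFinite (fun m => if 0 ≤ m then bV.repr gf.2 (n - m) else bU.repr gf.1 m)
      (((bU.repr gf.1).support ∪ (bV.repr gf.2).support.image (fun j => (n : ℤ) - j)).finite_toSet.subset fun m hm => by
        simp only [Function.mem_support] at hm
        simp only [Finset.mem_coe, Finset.mem_union, Finset.mem_image, Finsupp.mem_support_iff]
        by_cases h : 0 ≤ m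
        · rw [if_pos h] at hm; exact Or.inr ⟨(n : ℤ) - m, hm, by omega⟩
        · rw [if_neg h] at hm; exact Or.inl hm)
    have hw : ∀ m, w m = if 0 ≤ m then bV.repr gf.2 (n - m) else bU.repr gf.1 m := fun m => rfl
    refine ⟨Finsupp.linearCombination R σ w, ?_⟩
    show (_, _) = gf
    rw [← hψ, hψσ]
    refine Prod.ext (bU.ext_elem fun m => ?_) (bV.ext_elem fun j => ?_)
    · rw [(hΦ w m).1, hw]
      split_ifs with h
      · rw [← hz' m, hsc q m h, one_mul]
      · rw [one_mul]
    · obtain ⟨m, rfl⟩ : ∃ m, j = (n : ℤ) - m := ⟨(n : ℤ) - j, by omega⟩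
      rw [(hΦ w m).2, hw]
      split_ifs with h
      · rw [one_mul]
      · rw [hz' m, hsc p ((n : ℤ) - m) (by omega), one_mul]
  · obtain ⟨w, hw⟩ := hdec F
    have h0 : Φ w = 0 := by
      have h1 : ψ F - Φ w = 0 := by rw [← hψσ, ← map_sub, hN _ hw]
      rwa [show ψ F = 0 from (hψ F).trans hF, zero_sub, neg_eq_zero] at h1
    have hw0 : w = 0 := by
      ext m
      have h1 := (hΦ w m).1
      have h2 := (hΦ w m).2
      rw [h0] at h1 h2
      simp only [Prod.fst_zero, Prod.snd_zero, map_zero, Finsupp.coe_zero, Pi.zero_apply] at h1 h2 ⊢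
      by_cases h : 0 ≤ m
      · rw [if_pos h, one_mul] at h2; exact h2.symm
      · rw [if_neg h, one_mul] at h1; exact h1.symm
    rw [hw0, map_zero, sub_zero] at hw
    exact hw
  · exact (hψ F).symm.trans (hN F hF)

end Groth.Agent.S18437
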