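import Groth.Statements.S18438
import Groth.Agent.TwistShriek.SurfH1
-- import your own Groth.Agent.* helpers here

set_option autoImplicit false
set_option backward.isDefEq.respectTransparency false
set_option maxHeartbeats 800000
set_option synthInstance.maxHeartbeats 200000
universe u
open CategoryTheory CategoryTheory.Limits AlgebraicGeometry TopologicalSpace
open Surf
open Groth.Agent Groth.Agent.TwistShriek

namespace Groth.Agent.S18438

private theorem num_delPezzo (a b d : ℤ) (h : ℕ) (hbd : b = -d) (hd : d < 0) (ha : a < 0)
    (hadj : a - b = -2 * (1 - (h : ℤ))) : a = -1 ∧ b = 1 ∧ h = 0 := by omega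

/-- Let k be an algebraically closed field and X a smooth projective surface over k whose anticanonical
module is ample: X is an integral scheme, proper and smooth over k of dimension 2, W is a canonical
module (a second exterior power of Ω_{X/k}) and D a tensor inverse of W which is ample. Intersection
numbers of invertible modules are (L·M) = χ(O_X) − χ(L) − χ(M) + χ(L ⊗ M), so that for a closed
subscheme C with ideal I_C one has C·C = (I_C·I_C) and K·C = −(I_C·W). If C ⊆ X is an integral
closed one-dimensional subscheme with C·C < 0, then C is an exceptional curve of the first kind: C·C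
= −1, K·C = −1 and H¹(C, O_C) = 0. (The published statement concerns del Pezzo surfaces of degree d
embedded in projective d-space; its argument uses only the ampleness of the anticanonical module,
which is the hypothesis taken here.) -/
theorem result (k : Type u) [Field k] [IsAlgClosed k] (X : Scheme.{u})
    [X.Over (Spec (CommRingCat.of k))] [IsIntegral X] [IsProper (X ↘ (Spec (CommRingCat.of k)))] [Smooth (X ↘ (Spec (CommRingCat.of k)))]
    (hdim : topologicalKrullDim X = 2)
    (W : X.Modules) (hW : ExtPow.IsExtPow 2 (Omega.sheaf (X ↘ (Spec (CommRingCat.of k)))) W)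
    (D : X.Modules) (hD : ClSub.IsInverseOf D W) (hample : CohB1.IsAmple D)
    (C : X.IdealSheafData) (hC : IsIntegral C.subscheme) (hC1 : topologicalKrullDim (C.support : Set X) = 1)
    (hneg : FGA.intNum k X 2 ![ClSub.idealMod C, ClSub.idealMod C] (Coh.structureModule X) < 0) :
    FGA.intNum k X 2 ![ClSub.idealMod C, ClSub.idealMod C] (Coh.structureModule X) = -1 ∧
      FGA.intNum k X 2 ![ClSub.idealMod C, W] (Coh.structureModule X) = 1 ∧
      Subsingleton (Coh.HH C.subscheme (Coh.structureModule C.subscheme) 1) := by
    haveI := EulerIneqLib.isNoetherian_proper (X := X) k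
    have hWi := (canonical_data_proper k hdim hW).1
    have hDi : PicF.IsInvertible D := hample.1
    have hCI := invertible_curve k hdim C hC hC1
    obtain ⟨eD⟩ := hD
    have hm : Nakai.cl hWi - IntLib.dif hDi ∈ Nakai.Aug X ^ 2 :=
      Nakai.cl_mul_inverse_mem hWi hDi (AmpleLib.comm _ _ ≪≫ eD)
    have hWD : Nakai.form k (Nakai.cl hWi) (Nakai.cl hCI) = -Nakai.form k (Nakai.cl hCI) (Nakai.cl hample.1) := by
      rw [Nakai.form_congr k hdim hm (Nakai.cl_mem hCI), Nakai.form_comm k (Nakai.cl hCI),
        show Nakai.cl hample.1 = -IntLib.dif hDi from Nakai.cl_eq_neg_dif hDi, Nakai.form, Nakai.form, neg_mul, map_neg, neg_neg]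
    have hpos := form_ideal_neg k hdim.le hample hCI hC1
    have hadj := form_adjunction k hdim hW hWi hCI
    obtain ⟨he, hiff⟩ := euler_curve_eq k hC hC1
    rw [intNum_eq_form k hdim.le hCI hCI] at hneg
    rw [intNum_eq_form k hdim.le hCI hCI, intNum_eq_form k hdim.le hCI hWi]
    rw [Nakai.form_comm k (Nakai.cl hWi)] at hWD
    rw [he] at hadj
    rw [hiff]
    exact num_delPezzo _ _ _ _ hWD hpos hneg hadj

end Groth.Agent.S18438
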