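import Groth.Statements.S18439
import Groth.Agent.CastLib.ContractPic
import Groth.Agent.CastLib.Twist
import Groth.Agent.PicInfLib.Bridge
import Groth.Agent.TwistShriek.PointCan
import Groth.Agent.TwistShriek.SurfCan
import Groth.Agent.TwistShriek.NumBase
import Groth.Agent.SurfPtBlow.Dominate
import Groth.Agent.SurfPtBlow.Factor
import Groth.Agent.SurfPtBlow.DvrMinimal
import Groth.Agent.BoundaryConn.Main
import Groth.Agent.FundLocIsoLib.ProjTopForms
import Groth.Agent.ASBunKS.TwistPull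
import Groth.Agent.CMRegLib.BoundFree
import Groth.Agent.S17638
import Groth.Agent.S11345

set_option backward.isDefEq.respectTransparency false
set_option maxHeartbeats 1000000
set_option synthInstance.maxHeartbeats 200000
set_option linter.style.haveILetI false

set_option autoImplicit false
universe u
open CategoryTheory CategoryTheory.Limits AlgebraicGeometry TopologicalSpace
open Surf

namespace Groth.Agent.S18439

noncomputable section
open TopologicalSpace
open Groth.Agent Groth.Agent.TwistShriek Groth.Agent.TwistShriek.PointBlow Groth.Agent.SurfPtBlow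
open Groth.Agent.IntLib (mk pullCls)

theorem cls_mul {Y : Scheme.{u}} [PicGrp.Law Y] {L M : Y.Modules} (hL : PicF.IsInvertible L) (hM : PicF.IsInvertible M) :
    PicGrp.cls L hL * PicGrp.cls M hM = PicGrp.cls _ (AmpleLib.isInvertible_tensor hL hM) :=
  Subtype.ext (PicGrp.cls_mul_cls_val hL hM)

theorem mk_rep {Y : Scheme.{u}} {L : Y.Modules} (hL : PicF.IsInvertible L) :
    mk ((PicGrp.exists_eq_cls (PicGrp.cls L hL)).choose) = mk L := by
  obtain ⟨hM, e⟩ := (PicGrp.exists_eq_cls (PicGrp.cls L hL)).choose_spec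
  exact IntLib.mk_eq_mk.2 ((PicGrp.cls_eq_cls_iff hM hL).1 e.symm)

/-- The Picard group of a blown up point. -/
theorem pic_step {X X' : Scheme.{u}} [IsNoetherian X] [IsIntegral X] [PicGrp.Law X] [PicGrp.Law X'] {x : X}
    (hx : IsClosed ({x} : Set X)) (hreg : IsRegularLocalRing (X.presheaf.stalk x))
    (hd : ringKrullDim (X.presheaf.stalk x) = 2) (π : X' ⟶ X) (hb : BlowUp.IsBlowUp π (pointIdeal hx)) :
    Nonempty ((Additive (PicLoc.PicSet X) × ℤ) ≃+ Additive (PicLoc.PicSet X')) := by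
  haveI := PointBlow.isProper hb
  haveI : IsLocallyNoetherian X' := LocallyOfFiniteType.isLocallyNoetherian π
  obtain ⟨P⟩ := exists_pointParams hx hreg hd
  haveI := isIntegral_E hb P
  obtain ⟨F, _, σ, _, hker, hτc, -, -⟩ := exists_point_exceptional hb P
  haveI := hτc
  have hle : (σ ≫ jE π hx ≫ π).ker ≤ (jE π hx ≫ π).ker := by
    rw [hker, Scheme.Hom.ker_comp, Scheme.IdealSheafData.le_map_iff_comap_le, Scheme.IdealSheafData.ker_subschemeι]
  let p : E π hx ⟶ Spec (CommRingCat.of F) := IsClosedImmersion.lift (σ ≫ jE π hx ≫ π) (jE π hx ≫ π) hle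
  have hp : p ≫ (σ ≫ jE π hx ≫ π) = jE π hx ≫ π := IsClosedImmersion.lift_fac _ _ _
  obtain ⟨κ, _, e, ⟨τ⟩⟩ := exists_P1 hb P
  haveI := isIntegral_P1 (k := κ)
  haveI := isProper_P1 (k := κ)
  let j : CohB1.ProjSpace 1 κ ⟶ X' := e.hom ≫ jE π hx
  have hjp : j ≫ π = (e.hom ≫ p) ≫ (σ ≫ jE π hx ≫ π) := by simp only [j, Category.assoc, hp]
  have hjx : ∀ z, π (j z) = x := fun z => by
    have h : j z ∈ Set.range (jE π hx) := ⟨e.hom z, rfl⟩
    rw [range_jE_eq] at h
    exact h
  have hOinv : degP κ (Coh.structureModule (CohB1.ProjSpace 1 κ)) = 0 := CurveLib.deg_structureModule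
  let f : Additive (PicLoc.PicSet X') → ℤ := fun c => degOn j (PicGrp.exists_eq_cls c.toMul).choose
  have hfcls : ∀ (L : X'.Modules) (hL : PicF.IsInvertible L), f (Additive.ofMul (PicGrp.cls L hL)) = degOn j L :=
    fun L hL => degP_congr (by
      rw [← IntLib.pullCls_mk, ← IntLib.pullCls_mk]
      exact congrArg _ (mk_rep hL))
  let deg : Additive (PicLoc.PicSet X') →+ ℤ := AddMonoidHom.mk' f fun a b => by
    obtain ⟨L, hL, hLa⟩ := PicGrp.exists_eq_cls a.toMul
    obtain ⟨M, hM, hMb⟩ := PicGrp.exists_eq_cls b.toMul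
    rw [show a = Additive.ofMul (PicGrp.cls L hL) from hLa, show b = Additive.ofMul (PicGrp.cls M hM) from hMb,
      ← ofMul_mul, cls_mul, hfcls, hfcls, hfcls]
    refine (degP_congr ?_).trans (degP_tensor (AmpleLib.isInvertible_pullback j hL) (AmpleLib.isInvertible_pullback j hM))
    exact IntLib.mk_congr (AmpleLib.pullTensor j L M)
  let ψ : Additive (PicLoc.PicSet X) →+ Additive (PicLoc.PicSet X') :=
    MonoidHom.toAdditive (PicGrp.pullHom π (PicInf.pullMul π))
  have hψcls : ∀ (L : X.Modules) (hL : PicF.IsInvertible L), ψ (Additive.ofMul (PicGrp.cls L hL)) =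
      Additive.ofMul (PicGrp.cls _ (AmpleLib.isInvertible_pullback π hL)) := fun L hL =>
    congrArg Additive.ofMul (Subtype.ext rfl)
  have hdψ : ∀ a, deg (ψ a) = 0 := fun a => by
    obtain ⟨L, hL, ha⟩ := PicGrp.exists_eq_cls a.toMul
    rw [show a = Additive.ofMul (PicGrp.cls L hL) from ha, hψcls]
    refine (hfcls _ _).trans ((degP_congr ?_).trans hOinv)
    rw [← IntLib.pullCls_mk, ← IntLib.pullCls_mk, CastLib.BlowPic.pullCls_comp, hjp,
      CastLib.BlowPic.pullCls_eq_one_of_point _ _ hL, IntLib.mk_structureModule]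
  have hI : PicF.IsInvertible (ClSub.idealMod (BlowUp.exceptional π (pointIdeal hx))) := (S8914.result _).2 hb.1
  let e0 : Additive (PicLoc.PicSet X') := Additive.ofMul (PicGrp.cls _ hI)
  have hde0 : deg e0 = 1 := (hfcls _ hI).trans ((degP_congr (IntLib.mk_congr τ)).trans (S6579.deg_twist_one κ))
  have hbij := bijective_app_blowUp hb hreg hd
  have hψinj : Function.Injective ψ := fun a b h => by
    obtain ⟨L, hL, ha⟩ := PicGrp.exists_eq_cls a.toMul
    obtain ⟨M, hM, hb'⟩ := PicGrp.exists_eq_cls b.toMul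
    obtain rfl : a = Additive.ofMul (PicGrp.cls L hL) := ha
    obtain rfl : b = Additive.ofMul (PicGrp.cls M hM) := hb'
    rw [hψcls, hψcls] at h
    exact congrArg Additive.ofMul ((PicGrp.cls_eq_cls_iff hL hM).2
      (CastLib.ContractPic.pullback_injective π hbij hL hM ((PicGrp.cls_eq_cls_iff _ _).1 (Additive.ofMul.injective h))))
  have hker : ∀ c, deg c = 0 → ∃ a, ψ a = c := fun c hc => by
    obtain ⟨L, hL, hLc⟩ := PicGrp.exists_eq_cls c.toMul
    obtain rfl : c = Additive.ofMul (PicGrp.cls L hL) := hLc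
    replace hc : degOn j L = 0 := (hfcls L hL).symm.trans hc
    obtain ⟨d, ⟨ed⟩⟩ := PicProjLib.exists_iso_twist (AmpleLib.isInvertible_pullback j hL)
    have hd0 : d = 0 := by
      have h1 : degP κ (Twist.twistProjSpace 1 κ d) = 0 := (degP_congr (IntLib.mk_congr ed)).symm.trans hc
      rcases lt_or_ge d 0 with hlt | hge
      · exact absurd h1 (CastLib.degP_twist_neg hlt).ne
      · lift d to ℕ using hge
        rw [CastLib.degP_twist_nat] at h1
        exact h1
    have htriv : pullCls j (mk L) = 1 := by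
      subst hd0
      rw [IntLib.pullCls_mk, IntLib.mk_congr ed, ← IntLib.mk_structureModule]
      exact IntLib.mk_eq_mk.2 (ProjTwistLib.nonempty_zero_iso (𝒜 := CohB1.polyGrading 1 κ))
    obtain ⟨L', hL', ⟨eL⟩⟩ := CastLib.ContractPic.exists_descend π hbij L fun y => by
      by_cases hy : y = x
      · subst hy
        exact CastLib.ContractPic.exists_gen_integral hreg hd π hb j hjx
          ((degP_congr (IntLib.mk_congr τ)).trans (S6579.deg_twist_one κ)) hL htriv
      · let U : X.Opens := ⟨{x}ᶜ, hx.isOpen_compl⟩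
        haveI : IsIso (π ∣_ U) := isIso_restrict_compl hb U fun hh => hh rfl
        exact CastLib.ContractPic.exists_gen_off π U hy hL
    exact ⟨Additive.ofMul (PicGrp.cls L' hL'), (hψcls L' hL').trans
      (congrArg Additive.ofMul ((PicGrp.cls_eq_cls_iff _ hL).2 ⟨eL⟩))⟩
  let Φ : Additive (PicLoc.PicSet X) × ℤ →+ Additive (PicLoc.PicSet X') :=
    AddMonoidHom.coprod ψ (zmultiplesHom _ e0)
  have hΦ : ∀ a n, Φ (a, n) = ψ a + n • e0 := fun a n => rfl
  refine ⟨AddEquiv.ofBijective Φ ⟨?_, fun c => ?_⟩⟩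
  · rw [injective_iff_map_eq_zero]
    rintro ⟨a, n⟩ h
    rw [hΦ] at h
    have hn := congrArg deg h
    rw [map_add, map_zsmul, hdψ, hde0, map_zero, zero_add, smul_eq_mul, mul_one] at hn
    subst hn
    rw [zero_smul, add_zero] at h
    rw [hψinj (h.trans (map_zero ψ).symm)]
    rfl
  · obtain ⟨a, ha⟩ := hker (c - deg c • e0) (by rw [map_sub, map_zsmul, hde0, smul_eq_mul, mul_one, sub_self])
    exact ⟨(a, deg c), by rw [hΦ, ha, sub_add_cancel]⟩

/-- The numerical invariant. -/
def Good (k : Type u) [Field k] {X : Scheme.{u}} (s : X ⟶ Spec (CommRingCat.of k)) : Prop :=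
  letI : X.Over (Spec (CommRingCat.of k)) := ⟨s⟩
  letI := PicInf.law X
  Module.Free ℤ (Additive (PicLoc.PicSet X)) ∧ Module.Finite ℤ (Additive (PicLoc.PicSet X)) ∧
    ∀ W : X.Modules, ExtPow.IsExtPow 2 (Omega.sheaf (X ↘ Spec (CommRingCat.of k))) W →
      (Module.finrank ℤ (Additive (PicLoc.PicSet X)) : ℤ) + FGA.intNum k X 2 ![W, W] (Coh.structureModule X) = 10

theorem dim_eq (k : Type u) [Field k] {X X' : Scheme.{u}} [IsIntegral X] [IsIntegral X'] (s : X ⟶ Spec (CommRingCat.of k))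
    (s' : X' ⟶ Spec (CommRingCat.of k)) [LocallyOfFiniteType s] [LocallyOfFiniteType s'] (g : X' ⟶ X)
    (h : ∃ V : X.Opens, (V : Set X).Nonempty ∧ IsIso (g ∣_ V)) : topologicalKrullDim X' = topologicalKrullDim X := by
  obtain ⟨V, hV, hiso⟩ := h
  haveI := hiso
  obtain ⟨v, hv⟩ := hV
  have hne : ((g ⁻¹ᵁ V : X'.Opens) : Set X').Nonempty := ⟨_, ((inv (g ∣_ V)) ⟨v, hv⟩).2⟩
  rw [← DimFormulaLib.topologicalKrullDim_opens s' (g ⁻¹ᵁ V) hne, ← DimFormulaLib.topologicalKrullDim_opens s V ⟨v, hv⟩]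
  exact IsHomeomorph.topologicalKrullDim_eq _ (g ∣_ V).homeomorph.isHomeomorph

/-- Invariance under blowing up a point. -/
theorem good_step (k : Type u) [Field k] [IsAlgClosed k] {X X' : Scheme.{u}} (s : X ⟶ Spec (CommRingCat.of k))
    [IsProper s] [IsIntegral X] (hdim : topologicalKrullDim X = 2) (hreg : ∀ x : X, IsRegularLocalRing (X.presheaf.stalk x))
    {x : X} (hx : IsClosed ({x} : Set X)) (π : X' ⟶ X) (hb : BlowUp.IsBlowUp π (pointIdeal hx)) :
    Good k s ↔ Good k (π ≫ s) := by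
  letI : X.Over (Spec (CommRingCat.of k)) := ⟨s⟩
  letI : X'.Over (Spec (CommRingCat.of k)) := ⟨π ≫ s⟩
  haveI : IsProper (X ↘ Spec (CommRingCat.of k)) := ‹IsProper s›
  haveI := EulerIneqLib.isNoetherian_proper (X := X) k
  letI := PicInf.law X
  letI := PicInf.law X'
  have hd : ringKrullDim (X.presheaf.stalk x) = 2 := by
    rw [BoundaryConn.ringKrullDim_stalk_closed (X ↘ Spec (CommRingCat.of k)) x hx, hdim]
  haveI := PointBlow.isProper hb
  obtain ⟨hint, hbir⟩ := integral_blowUp hb hd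
  haveI := hint
  haveI : IsProper (X' ↘ Spec (CommRingCat.of k)) := inferInstanceAs (IsProper (π ≫ s))
  haveI : Smooth (X ↘ Spec (CommRingCat.of k)) := FinBirLib.smooth_of_regular_algClosed _ fun y _ => hreg y
  haveI : Smooth (X' ↘ Spec (CommRingCat.of k)) :=
    FinBirLib.smooth_of_regular_algClosed _ fun y _ => regular_blowUp hb hreg hd y
  have hdim' : topologicalKrullDim X' = 2 := (dim_eq k s (π ≫ s) π hbir).trans hdim
  obtain ⟨P⟩ := exists_pointParams hx (hreg x) hd
  obtain ⟨Φ⟩ := pic_step hx (hreg x) hd π hb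
  let Λ : (Additive (PicLoc.PicSet X) × ℤ) ≃ₗ[ℤ] Additive (PicLoc.PicSet X') := Φ.toIntLinearEquiv
  have hnum : ∀ W W' : _, ExtPow.IsExtPow 2 (Omega.sheaf (X ↘ Spec (CommRingCat.of k))) W →
      ExtPow.IsExtPow 2 (Omega.sheaf (X' ↘ Spec (CommRingCat.of k))) W' →
      FGA.intNum k X' 2 ![W', W'] (Coh.structureModule X') =
        FGA.intNum k X 2 ![W, W] (Coh.structureModule X) - 1 := fun W W' hW hW' =>
    (PointBlow.nonempty_canonical_iso hb k (by exact_mod_cast hdim.le) hdim' P rfl hW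
      (canonical_data_proper k hdim hW).1 hW').2
  have hrk : ∀ [Module.Free ℤ (Additive (PicLoc.PicSet X))] [Module.Finite ℤ (Additive (PicLoc.PicSet X))],
      Module.finrank ℤ (Additive (PicLoc.PicSet X')) = Module.finrank ℤ (Additive (PicLoc.PicSet X)) + 1 := by
    intros
    rw [← Λ.finrank_eq, Module.finrank_prod, Module.finrank_self]
  constructor
  · rintro ⟨hf, hfin, hW⟩
    haveI := hf
    haveI := hfin
    refine ⟨Module.Free.of_equiv Λ, Module.Finite.equiv Λ, fun W' hW' => ?_⟩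
    haveI : Coh.IsQCoh (Omega.sheaf (X ↘ Spec (CommRingCat.of k))) := OmegaAffLib.isQCoh_omega _
    obtain ⟨W, -, hW₀⟩ := ExtPowLib.exists_isExtPow (Omega.sheaf (X ↘ Spec (CommRingCat.of k))) 2
    have h := hW W hW₀
    rw [hnum W W' hW₀ hW', hrk]
    push_cast
    linarith
  · rintro ⟨hf, hfin, hW'⟩
    haveI := hf
    haveI := hfin
    haveI : Module.Finite ℤ (Additive (PicLoc.PicSet X) × ℤ) := Module.Finite.equiv Λ.symm
    haveI : Module.Finite ℤ (Additive (PicLoc.PicSet X)) :=
      Module.Finite.of_surjective (LinearMap.fst ℤ (Additive (PicLoc.PicSet X)) ℤ) LinearMap.fst_surjective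
    haveI : Module.IsTorsionFree ℤ (Additive (PicLoc.PicSet X)) :=
      Function.Injective.moduleIsTorsionFree (Λ.toLinearMap ∘ₗ LinearMap.inl ℤ _ ℤ)
        (Λ.injective.comp LinearMap.inl_injective) (fun r a => map_zsmul _ _ _)
    haveI : Module.Free ℤ (Additive (PicLoc.PicSet X)) := Module.free_of_finite_type_torsion_free'
    refine ⟨inferInstance, inferInstance, fun W hW₀ => ?_⟩
    haveI : Coh.IsQCoh (Omega.sheaf (X' ↘ Spec (CommRingCat.of k))) := OmegaAffLib.isQCoh_omega _
    obtain ⟨W', -, hW'₀⟩ := ExtPowLib.exists_isExtPow (Omega.sheaf (X' ↘ Spec (CommRingCat.of k))) 2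
    have h := hW' W' hW'₀
    rw [hnum W W' hW₀ hW'₀, hrk] at h
    push_cast at h
    linarith

theorem good_ptSeq (k : Type u) [Field k] [IsAlgClosed k] {Y X : Scheme.{u}} {g : Y ⟶ X} (hg : PtSeq g) :
    ∀ (s : X ⟶ Spec (CommRingCat.of k)) [IsProper s] [IsIntegral X], topologicalKrullDim X = 2 →
      (∀ x : X, IsRegularLocalRing (X.presheaf.stalk x)) → (Good k s ↔ Good k (g ≫ s)) := by
  induction hg with
  | refl X => intro s _ _ _ _; rw [Category.id_comp]
  | @step Y Z X b r z hz hreg' hd hb hr ih =>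
    intro s _ _ hdim hreg
    letI : X.Over (Spec (CommRingCat.of k)) := ⟨s⟩
    haveI : IsProper (X ↘ Spec (CommRingCat.of k)) := ‹IsProper s›
    haveI := EulerIneqLib.isNoetherian_proper (X := X) k
    obtain ⟨hint, hregZ, hbir, -⟩ := hr.invariants hreg
    haveI := hint
    haveI := hr.isNoetherian.2
    rw [ih s hdim hreg, Category.assoc]
    exact good_step k (r ≫ s) ((dim_eq k s (r ≫ s) r hbir).trans hdim) hregZ hz b hb

/-- Invariance under isomorphisms. -/
theorem good_iso (k : Type u) [Field k] [IsAlgClosed k] {X Y : Scheme.{u}} (f : X ⟶ Y) [IsIso f]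
    (s : Y ⟶ Spec (CommRingCat.of k)) [IsProper s] [Smooth s] [IsIntegral Y] (hdim : topologicalKrullDim Y = 2)
    (h : Good k s) : Good k (f ≫ s) := by
  letI : Y.Over (Spec (CommRingCat.of k)) := ⟨s⟩
  letI : X.Over (Spec (CommRingCat.of k)) := ⟨f ≫ s⟩
  haveI : IsProper (Y ↘ Spec (CommRingCat.of k)) := ‹IsProper s›
  haveI : IsProper (X ↘ Spec (CommRingCat.of k)) := inferInstanceAs (IsProper (f ≫ s))
  haveI : Smooth (Y ↘ Spec (CommRingCat.of k)) := ‹Smooth s›
  haveI := EulerIneqLib.isNoetherian_proper (X := Y) k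
  haveI := EulerIneqLib.isNoetherian_proper (X := X) k
  letI := PicInf.law X
  letI := PicInf.law Y
  obtain ⟨hf, hfin, hW⟩ := h
  haveI := hf
  haveI := hfin
  have happ : ∀ V : Y.Opens, Function.Bijective (f.app V) := fun V => ConcreteCategory.bijective_of_isIso _
  let ψ : Additive (PicLoc.PicSet Y) →+ Additive (PicLoc.PicSet X) :=
    MonoidHom.toAdditive (PicGrp.pullHom f (PicInf.pullMul f))
  have hψ : Function.Bijective ψ := by
    refine ⟨fun a b h => ?_, fun c => ?_⟩
    · obtain ⟨L, hL, ha⟩ := PicGrp.exists_eq_cls a.toMul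
      obtain ⟨M, hM, hb⟩ := PicGrp.exists_eq_cls b.toMul
      obtain rfl : a = Additive.ofMul (PicGrp.cls L hL) := ha
      obtain rfl : b = Additive.ofMul (PicGrp.cls M hM) := hb
      exact congrArg Additive.ofMul ((PicGrp.cls_eq_cls_iff hL hM).2 (CastLib.ContractPic.pullback_injective f happ hL hM
        ((PicGrp.cl_eq_cl_iff _ _).1 (congrArg Subtype.val (Additive.ofMul.injective h)))))
    · obtain ⟨L, hL, hc⟩ := PicGrp.exists_eq_cls c.toMul
      refine ⟨Additive.ofMul (PicGrp.cls _ (AmpleLib.isInvertible_pullback (inv f) hL)), ?_⟩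
      rw [show c = Additive.ofMul (PicGrp.cls L hL) from hc]
      refine congrArg Additive.ofMul (Subtype.ext ((PicGrp.cl_eq_cl_iff _ _).2 ⟨?_⟩))
      exact (Scheme.Modules.pullbackComp f (inv f)).app L ≪≫ eqToIso (by rw [IsIso.hom_inv_id]) ≪≫
        (Scheme.Modules.pullbackId X).app L
  let Λ : Additive (PicLoc.PicSet Y) ≃ₗ[ℤ] Additive (PicLoc.PicSet X) := (AddEquiv.ofBijective ψ hψ).toIntLinearEquiv
  refine ⟨Module.Free.of_equiv Λ, Module.Finite.equiv Λ, fun W' hW' => ?_⟩
  haveI : Coh.IsQCoh (Omega.sheaf (Y ↘ Spec (CommRingCat.of k))) := OmegaAffLib.isQCoh_omega _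
  obtain ⟨W, -, hW₀⟩ := ExtPowLib.exists_isExtPow (Omega.sheaf (Y ↘ Spec (CommRingCat.of k))) 2
  have hWi := (canonical_data_proper k hdim hW₀).1
  have h2 := S15540.result Y (Spec (CommRingCat.of k)) X (Spec (CommRingCat.of k)) (Y ↘ _) (X ↘ _) f (𝟙 _)
    (by rw [Category.comp_id]; rfl) 2 W hW₀
  obtain ⟨e⟩ := ExtPowLib.nonempty_iso hW' h2
  have hi := AmpleLib.isInvertible_pullback f hWi
  have hW'i : PicF.IsInvertible W' := ParaFLib.isInvertible_of_iso e.symm hi
  have hd : topologicalKrullDim Y ≤ ((2 : ℕ) : WithBot ℕ∞) := by exact_mod_cast hdim.le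
  have hd' : topologicalKrullDim X ≤ ((2 : ℕ) : WithBot ℕ∞) :=
    (IsHomeomorph.topologicalKrullDim_eq _ f.homeomorph.isHomeomorph).le.trans hd
  have hnum : FGA.intNum k X 2 ![W', W'] (Coh.structureModule X) = FGA.intNum k Y 2 ![W, W] (Coh.structureModule Y) := by
    rw [intNum_eq_form k hd' hW'i hW'i, Nakai.cl_congr hW'i hi e, ← intNum_eq_form k hd' hi hi]
    have hLM : ∀ i, PicF.IsInvertible (![W, W] i) := Fin.forall_fin_two.2 ⟨hWi, hWi⟩
    have e' : (fun i => (Scheme.Modules.pullback f).obj (![W, W] i)) =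
        ![(Scheme.Modules.pullback f).obj W, (Scheme.Modules.pullback f).obj W] := by
      funext i; fin_cases i <;> rfl
    rw [← e', S11746.result k Y X f rfl 2 2 hd hd' ![W, W] hLM (Coh.structureModule X) (DevLib.isCoh_structureModule X)
        ((topologicalKrullDim_subspace_le X _).trans hd'),
      IntLib.intNum_eq k hd _ _ hLM, IntLib.intNum_eq k hd _ _ hLM]
    symm
    exact pairing_eq_of_bijective_off k (DevLib.isCoh_structureModule Y)
      (RpushLib.isCoh_push f (DevLib.isCoh_structureModule X)) (ClSub.unitToPush f) (Z := (∅ : Set Y))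
      (lt_of_le_of_lt (topologicalKrullDim_zero_of_discreteTopology (∅ : Set Y)) (by norm_num))
      (fun y _ => bijective_stalkLin_of_app (ClSub.unitToPush f) ⊤ (fun V _ => (show Function.Bijective (f.app V) from happ V)) (show y ∈ (⊤ : Y.Opens) from trivial)) _ hLM
  rw [hnum, ← Λ.finrank_eq]
  exact hW W hW₀

/-- The projective plane. -/
theorem good_plane (k : Type u) [Field k] [IsAlgClosed k] : Good k (CohB1.ProjSpace.toSpec 2 k) := by
  letI : (CohB1.ProjSpace 2 k).Over (Spec (CommRingCat.of k)) := ⟨CohB1.ProjSpace.toSpec 2 k⟩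
  letI := PicInf.law (CohB1.ProjSpace 2 k)
  haveI : IsProper (CohB1.ProjSpace 2 k ↘ Spec (CommRingCat.of k)) := CompleteCurve.isProper_toSpec 2 k
  haveI : IsIntegral (CohB1.ProjSpace 2 k) := REqLib.isIntegral_proj_domain 2 k
  have hdim : topologicalKrullDim (CohB1.ProjSpace 2 k) = 2 := by exact_mod_cast S10829.result k 2
  let c : ℤ → PicLoc.PicSet (CohB1.ProjSpace 2 k) := fun d => PicGrp.cls _ (PicProjLib.isInvertible_twist (n := 2) (R := k) d)
  have hc : ∀ a b, c a * c b = c (a + b) := fun a b => (cls_mul _ _).trans ((PicGrp.cls_eq_cls_iff _ _).2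
    ⟨ProjTwistLib.mulIso (𝒜 := CohB1.polyGrading 2 k) (m := a) (n := b) rfl (PicProjLib.hasUnit a)⟩)
  let Φ : ℤ →+ Additive (PicLoc.PicSet (CohB1.ProjSpace 2 k)) :=
    AddMonoidHom.mk' (fun d => Additive.ofMul (c d)) fun a b => congrArg Additive.ofMul (hc a b).symm
  have hΦ : Function.Bijective Φ := by
    refine ⟨fun a b h => ?_, fun x => ?_⟩
    · obtain ⟨e⟩ := (PicGrp.cls_eq_cls_iff _ _).1 (Additive.ofMul.injective h)
      exact ASBunKS.twist_injective two_ne_zero k e
    · obtain ⟨L, hL, hx⟩ := PicGrp.exists_eq_cls x.toMul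
      obtain ⟨d, e⟩ := PicProjLib.exists_iso_twist hL
      exact ⟨d, congrArg Additive.ofMul (((PicGrp.cls_eq_cls_iff _ _).2 ⟨e.some.symm⟩).trans hx.symm)⟩
  let Λ : ℤ ≃ₗ[ℤ] Additive (PicLoc.PicSet (CohB1.ProjSpace 2 k)) := (AddEquiv.ofBijective Φ hΦ).toIntLinearEquiv
  refine ⟨Module.Free.of_equiv Λ, Module.Finite.equiv Λ, fun W hW => ?_⟩
  rw [← Λ.finrank_eq, Module.finrank_self]
  obtain ⟨e⟩ := FundLocIsoLib.nonempty_topForms_iso_twist (n := 2) (k := k) hW
  have hi : PicF.IsInvertible (Twist.twistProjSpace 2 k (-(((2 : ℕ) : ℤ) + 1))) := PicProjLib.isInvertible_twist _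
  have hWi : PicF.IsInvertible W := ParaFLib.isInvertible_of_iso e.symm hi
  rw [intNum_eq_form k hdim.le hWi hWi, Nakai.cl_congr hWi hi e]
  have h1 := S17638.euler_pow k hdim hi 1
  have h2 := S17638.euler_pow k hdim hi 2
  have hχ : ∀ d : ℤ, Curv2.euler k (CohB1.ProjSpace 2 k) (Twist.twistProjSpace 2 k d) = Ring.choose (d + (2 : ℕ)) 2 :=
    fun d => CMRegLib.euler_twist (n := 2) two_pos d
  have hch : ∀ r : ℤ, 2 * Ring.choose r 2 = r * (r - 1) := fun r => by
    have h := Ring.descPochhammer_eq_factorial_smul_choose r 2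
    simp [descPochhammer_succ_right, Polynomial.smeval_mul, Polynomial.smeval_sub, Polynomial.smeval_X, Polynomial.smeval_one, Nat.factorial] at h
    linarith
  have hpow : ∀ m : ℕ, Curv2.euler k (CohB1.ProjSpace 2 k)
      (CohB1.tensorPow (Twist.twistProjSpace 2 k (-(((2 : ℕ) : ℤ) + 1))) m) = Ring.choose ((-3 * (m : ℤ)) + (2 : ℕ)) 2 := fun m => by
    rw [← hχ]
    have hm : IntLib.mk (CohB1.tensorPow (Twist.twistProjSpace 2 k (-(((2 : ℕ) : ℤ) + 1))) m) =
        IntLib.mk (Twist.twistProjSpace 2 k (-3 * (m : ℤ))) := by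
      rw [IntLib.mk_tensorPow]
      induction m with
      | zero =>
        rw [pow_zero, Nat.cast_zero, mul_zero]
        exact IntLib.mk_structureModule.symm.trans
          (IntLib.mk_eq_mk.2 ((ProjTwistLib.nonempty_zero_iso (𝒜 := CohB1.polyGrading 2 k)).map Iso.symm))
      | succ j ih =>
        rw [pow_succ, ih, ← IntLib.mk_tensor]
        exact IntLib.mk_eq_mk.2 ⟨ProjTwistLib.mulIso (𝒜 := CohB1.polyGrading 2 k) (by push_cast; ring) (PicProjLib.hasUnit _)⟩
    obtain ⟨e'⟩ := IntLib.mk_eq_mk.1 hm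
    exact CurveLib.euler_iso (K := k) e'
  have h0 : Curv2.euler k (CohB1.ProjSpace 2 k) (Coh.structureModule (CohB1.ProjSpace 2 k)) = 1 := by
    obtain ⟨e'⟩ := ProjTwistLib.nonempty_zero_iso (𝒜 := CohB1.polyGrading 2 k)
    let e'' : Twist.twistProjSpace 2 k 0 ≅ Coh.structureModule (CohB1.ProjSpace 2 k) := e'
    rw [← CurveLib.euler_iso (K := k) e'', hχ 0]
    have a := hch ((0 : ℤ) + (2 : ℕ))
    norm_num at a ⊢
    omega
  rw [hpow, h0] at h1 h2
  have a := hch (-3 * ((1 : ℕ) : ℤ) + (2 : ℕ))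
  have b := hch (-3 * ((2 : ℕ) : ℤ) + (2 : ℕ))
  norm_num at a b h1 h2 ⊢
  linarith

/-- The invariant of a rational surface. -/
theorem good_rational (k : Type u) [Field k] [IsAlgClosed k] {X : Scheme.{u}} (s : X ⟶ Spec (CommRingCat.of k))
    [IsProper s] [IsIntegral X] (hdim : topologicalKrullDim X = 2) (hreg : ∀ x : X, IsRegularLocalRing (X.presheaf.stalk x))
    (U : X.Opens) (j : (U : Scheme.{u}) ⟶ CohB1.ProjSpace 2 k) [IsOpenImmersion j] (hU : (U : Set X).Nonempty)
    (hj : j ≫ CohB1.ProjSpace.toSpec 2 k = U.ι ≫ s) : Good k s := by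
  letI : X.Over (Spec (CommRingCat.of k)) := ⟨s⟩
  letI : (CohB1.ProjSpace 2 k).Over (Spec (CommRingCat.of k)) := ⟨CohB1.ProjSpace.toSpec 2 k⟩
  haveI : IsProper (X ↘ Spec (CommRingCat.of k)) := ‹IsProper s›
  haveI := EulerIneqLib.isNoetherian_proper (X := X) k
  haveI hPp : IsProper (CohB1.ProjSpace.toSpec 2 k) := CompleteCurve.isProper_toSpec 2 k
  haveI : IsIntegral (CohB1.ProjSpace 2 k) := REqLib.isIntegral_proj_domain 2 k
  haveI : IsProper (CohB1.ProjSpace 2 k ↘ Spec (CommRingCat.of k)) := hPp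
  haveI := EulerIneqLib.isNoetherian_proper (X := CohB1.ProjSpace 2 k) k
  have hdimP : topologicalKrullDim (CohB1.ProjSpace 2 k) = 2 := by exact_mod_cast S10829.result k 2
  have hη : genericPoint X ∈ U := (genericPoint_specializes hU.some).mem_open U.2 hU.some_mem
  let u₀ : U.toScheme := ⟨genericPoint X, hη⟩
  have hju : j u₀ = genericPoint (CohB1.ProjSpace 2 k) := by
    obtain ⟨v, hv⟩ : genericPoint (CohB1.ProjSpace 2 k) ∈ Set.range j :=
      (genericPoint_specializes (j u₀)).mem_open j.isOpenEmbedding.isOpen_range ⟨_, rfl⟩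
    have h1 : u₀ ⤳ v := (U.ι.isOpenEmbedding.isInducing.specializes_iff).1 (genericPoint_specializes (U.ι v))
    have h2 := h1.map j.continuous
    rw [hv] at h2
    exact (h2.antisymm (genericPoint_specializes _)).eq
  let zK : Spec X.functionField ⟶ CohB1.ProjSpace 2 k := U.fromSpecStalkOfMem (genericPoint X) hη ≫ j
  obtain ⟨X', hint', g, hg, h, hseq, hh, hgen⟩ := exists_ptSeq_extend hreg hdim.le s (CohB1.ProjSpace.toSpec 2 k) zK (by
    rw [Category.assoc, hj, Scheme.Opens.fromSpecStalkOfMem_ι_assoc])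
  obtain ⟨-, hreg', hbir, -⟩ := hseq.invariants hreg
  haveI := hseq.isNoetherian.1
  haveI := hseq.isNoetherian.2
  obtain ⟨V, hV, hiso⟩ := hbir
  obtain ⟨hg', hst⟩ := BirQFLib.birational_of_isIso_restrict g V hV hiso
  haveI := hst
  haveI : IsIso (X.presheaf.stalkSpecializes (specializes_of_eq hg)) :=
    ⟨X.presheaf.stalkSpecializes (specializes_of_eq hg.symm), by simp, by simp⟩
  haveI : IsIso (funMap g hg) := IsIso.comp_isIso' inferInstance inferInstance
  let χ : (CohB1.ProjSpace 2 k).presheaf.stalk (j u₀) ⟶ X'.functionField :=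
    j.stalkMap u₀ ≫ inv (U.ι.stalkMap u₀) ≫ funMap g hg
  haveI : IsIso χ := inferInstanceAs (IsIso (j.stalkMap u₀ ≫ inv (U.ι.stalkMap u₀) ≫ funMap g hg))
  have hkey : X'.fromSpecStalk (genericPoint X') ≫ h = Spec.map χ ≫ (CohB1.ProjSpace 2 k).fromSpecStalk (j u₀) := by
    rw [hgen]
    simp only [χ, zK, Scheme.Opens.fromSpecStalkOfMem, Spec.map_comp, Category.assoc, Scheme.SpecMap_stalkMap_fromSpecStalk]
    rfl
  have hhη : h (genericPoint X') = j u₀ := by
    have h1 := congrArg (fun m => m (IsLocalRing.closedPoint X'.functionField)) hkey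
    simp only [Scheme.Hom.comp_apply, Scheme.fromSpecStalk_closedPoint] at h1
    rw [h1, show Spec.map χ (IsLocalRing.closedPoint X'.functionField) = IsLocalRing.closedPoint _ from
      IsLocalRing.comap_closedPoint χ.hom, Scheme.fromSpecStalk_closedPoint]
  have hgP : h (genericPoint X') = genericPoint (CohB1.ProjSpace 2 k) := hhη.trans hju
  haveI : IsIso ((CohB1.ProjSpace 2 k).presheaf.stalkSpecializes (specializes_of_eq hhη)) :=
    ⟨(CohB1.ProjSpace 2 k).presheaf.stalkSpecializes (specializes_of_eq hhη.symm), by simp, by simp⟩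
  have hmap : (CohB1.ProjSpace 2 k).presheaf.stalkSpecializes (specializes_of_eq hhη) ≫ h.stalkMap (genericPoint X') = χ := by
    apply Spec.map_injective
    rw [← cancel_mono ((CohB1.ProjSpace 2 k).fromSpecStalk (j u₀)), Spec.map_comp, Category.assoc,
      Scheme.SpecMap_stalkSpecializes_fromSpecStalk, Scheme.SpecMap_stalkMap_fromSpecStalk]
    exact hkey
  have hstk : IsIso (h.stalkMap (genericPoint X')) := by
    haveI : IsIso ((CohB1.ProjSpace 2 k).presheaf.stalkSpecializes (specializes_of_eq hhη) ≫ h.stalkMap (genericPoint X')) :=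
      hmap ▸ inferInstance
    exact IsIso.of_isIso_comp_left ((CohB1.ProjSpace 2 k).presheaf.stalkSpecializes (specializes_of_eq hhη)) _
  haveI : IsProper (h ≫ CohB1.ProjSpace.toSpec 2 k) := hh.symm ▸ inferInstance
  haveI : IsProper h := IsProper.of_comp h (CohB1.ProjSpace.toSpec 2 k)
  haveI : Smooth (CohB1.ProjSpace.toSpec 2 k) :=
    haveI := FundLocIsoLib.smoothOfRelativeDimension_toSpec 2 k
    SmoothOfRelativeDimension.smooth 2 _
  have hregP : ∀ y : CohB1.ProjSpace 2 k, IsRegularLocalRing ((CohB1.ProjSpace 2 k).presheaf.stalk y) :=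
    fun y => ASp.isRegularLocalRing_stalk_of_smooth_field (CohB1.ProjSpace.toSpec 2 k) y
  obtain ⟨V', hV', hiso'⟩ := BirQFLib.exists_nhd_isIso_of_dim_le_one ((fun y => ⟨(haveI := hregP y; Groth.Agent.RegLocal.isDomain _), SurfPtBlow.normal_of_regular hregP y⟩)) h hgP hstk
    (genericPoint (CohB1.ProjSpace 2 k)) (by
      rw [ringKrullDim_eq_zero_of_isField (Field.toIsField (CohB1.ProjSpace 2 k).functionField)]; exact zero_le_one)
  have hbir' : ∃ V : (CohB1.ProjSpace 2 k).Opens, (V : Set (CohB1.ProjSpace 2 k)).Nonempty ∧ IsIso (h ∣_ V) :=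
    ⟨V', ⟨_, hV'⟩, hiso'⟩
  have hdX' : topologicalKrullDim X' = 2 := (dim_eq k s (g ≫ s) g ⟨V, hV, hiso⟩).trans hdim
  rw [good_ptSeq k hseq s hdim hreg, ← hh]
  rcases isIso_or_ptSeq hreg' hdX'.le _ hregP hdimP.le h hbir' le_rfl with hi | hp
  · haveI := hi
    exact good_iso k h (CohB1.ProjSpace.toSpec 2 k) hdimP (good_plane k)
  · exact (good_ptSeq k hp _ hdimP hregP).1 (good_plane k)

end

/-- Let k be an algebraically closed field and X a smooth projective rational surface over k: an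
integral scheme, proper and smooth over k of dimension 2, carrying an ample invertible module, and
birational to the projective plane over k (some nonempty open subscheme of X admits an open
immersion into P²_k over k). Let W be a canonical module of X (a second exterior power of Ω_{X/k})
and write (L·M) = χ(O_X) − χ(L) − χ(M) + χ(L ⊗ M) for the intersection number of invertible modules,
so that (W·W) = K². Assume the Picard group law on X (the group of isomorphism classes of invertible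
modules under tensor product). Then Pic(X) is a free abelian group of finite rank ρ, and ρ + K² =
10. -/
theorem result (k : Type u) [Field k] [IsAlgClosed k] (X : Scheme.{u})
    [X.Over (Spec (CommRingCat.of k))] [IsIntegral X] [IsProper (X ↘ (Spec (CommRingCat.of k)))] [Smooth (X ↘ (Spec (CommRingCat.of k)))]
    (hdim : topologicalKrullDim X = 2)
    (W : X.Modules) (hW : ExtPow.IsExtPow 2 (Omega.sheaf (X ↘ (Spec (CommRingCat.of k)))) W)
    (hproj : ∃ H : X.Modules, CohB1.IsAmple H)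
    (hrat : ∃ (U : X.Opens) (j : (U : Scheme.{u}) ⟶ CohB1.ProjSpace 2 k), (U : Set X).Nonempty ∧
      IsOpenImmersion j ∧ j ≫ CohB1.ProjSpace.toSpec 2 k = U.ι ≫ (X ↘ (Spec (CommRingCat.of k))))
    [PicGrp.Law X] :
    Module.Free ℤ (Additive (PicLoc.PicSet X)) ∧ Module.Finite ℤ (Additive (PicLoc.PicSet X)) ∧
      (Module.finrank ℤ (Additive (PicLoc.PicSet X)) : ℤ) + FGA.intNum k X 2 ![W, W] (Coh.structureModule X) = 10 := by
  obtain ⟨U, j, hU, hjo, hj⟩ := hrat
  haveI := hjo
  obtain rfl : ‹PicGrp.Law X› = Groth.Agent.PicInf.law X := Subsingleton.elim _ _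
  obtain ⟨h1, h2, h3⟩ := good_rational k (X ↘ Spec (CommRingCat.of k)) hdim
    (fun y => Groth.Agent.ASp.isRegularLocalRing_stalk_of_smooth_field (X ↘ Spec (CommRingCat.of k)) y) U j hU hj
  exact ⟨h1, h2, h3 W hW⟩

end Groth.Agent.S18439
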