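import Groth.Statements.S1844
import Groth.Agent.AVLib.Cube
-- import your own Groth.Agent.* helpers here

set_option autoImplicit false
universe u v
open CategoryTheory MonoidalCategory CartesianMonoidalCategory MonObj GrpObj AlgebraicGeometry
open GrpSch

namespace Groth.Agent.S1844

/-- Let A be an abelian variety over a field, L an invertible O_A-module and n ≥ 1. Then [n]^*L is
isomorphic to L^{⊗ n(n+1)/2} ⊗ ([-1]^*L)^{⊗ n(n-1)/2}, where [n] is multiplication by n and [-1] the
inversion of A. -/
theorem result (K : Type u) [Field K] (A : Over (Spec (CommRingCat.of K))) [GrpObj A] [IsProper A.hom] [GeometricallyIntegral A.hom] (L : A.left.Modules) (hL : PicF.IsInvertible L) (n : ℕ) (hn : 1 ≤ n) : Nonempty ((Scheme.Modules.pullback (𝟙 A ^ n).left).obj L ≅ CohB1.tensorMod (CohB1.tensorPow L (n * (n + 1) / 2)) (CohB1.tensorPow ((Scheme.Modules.pullback ((𝟙 A)⁻¹).left).obj L) (n * (n - 1) / 2))) := by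
  have hn' : n * (n + 1) / 2 = (n + 1).choose 2 := by
    rw [Nat.choose_two_right, Nat.add_sub_cancel, Nat.mul_comm]
  have hi : PicF.IsInvertible ((Scheme.Modules.pullback ((𝟙 A)⁻¹).left).obj L) := AmpleLib.isInvertible_pullback _ hL
  refine (PicLib.cls_eq_cls (AmpleLib.isInvertible_pullback _ hL)
    (AmpleLib.isInvertible_tensor (AmpleLib.isInvertible_tensorPow hL _) (AmpleLib.isInvertible_tensorPow hi _))).1 ?_
  rw [PicLib.cls_tensor (AmpleLib.isInvertible_tensorPow hL _) (AmpleLib.isInvertible_tensorPow hi _),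
    PicLib.cls_tensorPow hL, PicLib.cls_tensorPow hi, ← PicLib.pull_cls _ hL, ← PicLib.pull_cls _ hL,
    hn', ← Nat.choose_two_right]
  exact AVLib.nat_pull (PicLib.cls hL) n

end Groth.Agent.S1844
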