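import Groth.Statements.S18440
import Groth.Agent.TwistShriek.SurfCurve
import Groth.Agent.TwistShriek.SurfSmooth
import Groth.Agent.S8914
-- import your own Groth.Agent.* helpers here

set_option autoImplicit false
set_option backward.isDefEq.respectTransparency false
set_option maxHeartbeats 4000000
set_option synthInstance.maxHeartbeats 200000
universe u
open CategoryTheory CategoryTheory.Limits AlgebraicGeometry TopologicalSpace
open Surf
open Groth.Agent Groth.Agent.TwistShriek

namespace Groth.Agent.S18440

/-- Let k be an algebraically closed field and X a smooth projective surface over k (an integral scheme,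
proper and smooth over k of dimension 2) with H¹(X, O_X) = 0, and W a canonical module of X (a
second exterior power of Ω_{X/k}). Let C ⊆ X be an integral closed one-dimensional subscheme, smooth
over k, of arithmetic genus one, written χ(O_C) = 0 with the Euler characteristic of O_C computed on
X through the closed immersion (k being algebraically closed and C integral, H⁰(C, O_C) = k, so this
says dim_k H¹(C, O_C) = 1), whose module O_X(C) — a tensor inverse N of the ideal I_C — is ample.
Then W ≅ I_C, that is ω_X ≅ O_X(−C) (existence of an isomorphism of invertible modules). (The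
published statement is that a smooth del Pezzo surface of degree d embedded in projective d-space
has canonical module O_X(−1); its argument takes C a general hyperplane section and uses about the
embedding only that C is a smooth curve of genus one and that H¹(X, O_X) vanishes, facts it draws
from results quoted without proof; those two properties are the hypotheses here.) -/
theorem result (k : Type u) [Field k] [IsAlgClosed k] (X : Scheme.{u})
    [X.Over (Spec (CommRingCat.of k))] [IsIntegral X] [IsProper (X ↘ (Spec (CommRingCat.of k)))] [Smooth (X ↘ (Spec (CommRingCat.of k)))]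
    (hdim : topologicalKrullDim X = 2)
    (W : X.Modules) (hW : ExtPow.IsExtPow 2 (Omega.sheaf (X ↘ (Spec (CommRingCat.of k)))) W)
    (hq : Subsingleton (Coh.HH X (Coh.structureModule X) 1))
    (C : X.IdealSheafData) (hC : IsIntegral C.subscheme) (hC1 : topologicalKrullDim (C.support : Set X) = 1)
    (hCs : Smooth (C.subschemeι ≫ (X ↘ (Spec (CommRingCat.of k)))))
    (hg : Curv2.euler k X (ClSub.quotMod C) = 0)
    (N : X.Modules) (hN : ClSub.IsInverseOf N (ClSub.idealMod C)) (hNample : CohB1.IsAmple N) :
    Nonempty (W ≅ ClSub.idealMod C) := by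
    haveI := EulerIneqLib.isNoetherian_proper (X := X) k
    haveI : CompactSpace X := QuasiCompact.compactSpace_of_compactSpace (X ↘ Spec (CommRingCat.of k))
    obtain ⟨n, ι, hι0, hι⟩ := exists_closedImmersion_of_ample (X ↘ Spec (CommRingCat.of k)) hNample
    haveI := hι0
    haveI : SmoothOfRelativeDimension 2 (X ↘ Spec (CommRingCat.of k)) :=
      smoothOfRelativeDimension_of_smooth (X ↘ Spec (CommRingCat.of k)) hdim
    obtain ⟨hWi, hd, hdj⟩ := canonical_data ι hι hW
    haveI := hC
    letI : C.subscheme.Over (Spec (CommRingCat.of k)) := ⟨C.subschemeι ≫ (X ↘ (Spec (CommRingCat.of k)))⟩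
    haveI : IsProper (C.subscheme ↘ Spec (CommRingCat.of k)) :=
      inferInstanceAs (IsProper (C.subschemeι ≫ (X ↘ Spec (CommRingCat.of k))))
    haveI := EulerIneqLib.isNoetherian_proper (X := C.subscheme) k
    have hCd : topologicalKrullDim C.subscheme = 1 := by
      rw [← hC1, ← Scheme.IdealSheafData.range_subschemeι]
      exact (C.subschemeι.isEmbedding.toHomeomorph).isHomeomorph.topologicalKrullDim_eq
    have hI : PicF.IsInvertible (ClSub.idealMod C) := (S8914.result _).2 (by
      have h := isEffCartierIdeal_curve (X ↘ Spec (CommRingCat.of k)) hdim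
        (fun x => ASp.isRegularLocalRing_stalk_of_smooth_field (X ↘ Spec (CommRingCat.of k)) x) C.subschemeι hCd
      rwa [Scheme.IdealSheafData.ker_subschemeι] at h)
    obtain ⟨eN⟩ := hN
    have hNi := hNample.1
    have hDi := AmpleLib.isInvertible_tensor hWi hNi
    have h2 : Nontrivial (Coh.HH X (ClSub.idealMod C) 2) := by
      haveI : Coh.IsQCoh (Coh.structureModule C.subscheme) := (DevLib.isCoh_structureModule C.subscheme).1
      have hh0 : Module.finrank k (Coh.HH C.subscheme (Coh.structureModule C.subscheme) 0) = 1 := CurveLib.finrank_H0_structure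
      have hχ : Curv2.euler k C.subscheme (Coh.structureModule C.subscheme) = 0 :=
        (IntLib.euler_push k C.subschemeι rfl (Coh.structureModule C.subscheme)).symm.trans hg
      rw [CurveLib.euler_eq_sum (K := k) (Coh.structureModule C.subscheme) 2 fun p hp =>
        CurveLib.subsingleton_HH_of_dim (Coh.structureModule C.subscheme) (d := 1) hCd.le (by omega)] at hχ
      simp only [Finset.sum_range_succ, Finset.sum_range_zero, zero_add, pow_zero, pow_one, hh0] at hχ
      have hQ1 : Module.finrank k (Coh.HH X (ClSub.quotMod C) 1) = 1 := by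
        refine (IntLib.finrank_push k C.subschemeι rfl (Coh.structureModule C.subscheme) 1).trans ?_
        push_cast at hχ; omega
      haveI := Groth.Agent.SerreAff.epi_unitToPush C.subschemeι
      haveI : Mono (ClSub.idealModι C) := inferInstanceAs (Mono (kernel.ι _))
      let S : ShortComplex X.Modules := ShortComplex.mk (ClSub.idealModι C) (ClSub.toSubscheme C) (kernel.condition _)
      have hS : S.ShortExact := ShortComplex.ShortExact.mk'
        (ShortComplex.exact_of_f_is_kernel _ (kernelIsKernel _)) (inferInstanceAs (Mono (ClSub.idealModι C)))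
        (inferInstanceAs (Epi (ClSub.toSubscheme C)))
      haveI : Nontrivial (Coh.HH X (ClSub.quotMod C) 1) := Module.nontrivial_of_finrank_pos (R := k) (by rw [hQ1]; omega)
      refine Function.Injective.nontrivial (f := CurveLib.hδ (k := k) hS 1) ?_
      rw [← LinearMap.ker_eq_bot, ← CurveLib.range_hMap_g hS 1]
      exact LinearMap.range_eq_bot.2 (LinearMap.ext fun x => by
        have hx : x = 0 := hq.elim _ _
        rw [hx, map_zero, LinearMap.zero_apply])
    haveI : Nontrivial (Coh.HH X (CohB1.tensorMod W N) 0) := by
      refine Module.nontrivial_of_finrank_pos (R := k) ?_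
      rw [hdj (ClSub.idealMod C) N hI ⟨AmpleLib.comm _ _ ≪≫ eN⟩ 0 (by omega)]
      haveI := h2
      haveI := EulerIneqLib.finite_HH (k := k) (CurveLib.isCoh_of_isInvertible hI) 2
      exact Module.finrank_pos
    obtain ⟨-, hiso⟩ := form_of_section k hdim hNample hDi this
    have hadj := intNum_adjunction k hdim.le hWi hd C.subschemeι (by rwa [Scheme.IdealSheafData.ker_subschemeι])
    rw [Scheme.IdealSheafData.ker_subschemeι] at hadj
    have hχ : Curv2.euler k C.subscheme (Coh.structureModule C.subscheme) = 0 :=
      (IntLib.euler_push k C.subschemeι rfl (Coh.structureModule C.subscheme)).symm.trans hg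
    rw [hχ, intNum_eq_form k hdim.le hI hI, intNum_eq_form k hdim.le hI hWi] at hadj
    have hm : Nakai.cl hI - IntLib.dif hNi ∈ Nakai.Aug X ^ 2 :=
      Nakai.cl_mul_inverse_mem hI hNi (AmpleLib.comm _ _ ≪≫ eN)
    have hmem : IntLib.dif hNi ∈ Nakai.Aug X := by
      rw [← neg_neg (IntLib.dif hNi), ← Nakai.cl_eq_neg_dif]; exact neg_mem (Nakai.cl_mem hNi)
    rw [Nakai.form_congr k hdim hm (Nakai.cl_mem hI), Nakai.form_congr k hdim hm (Nakai.cl_mem hWi),
      Nakai.form_comm k (IntLib.dif hNi) (Nakai.cl hI), Nakai.form_congr k hdim hm hmem] at hadj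
    have h0 : Nakai.form k (Nakai.cl hDi) (Nakai.cl hNample.1) = 0 := by
      rw [Nakai.form_congr k hdim (w := Nakai.cl hWi + Nakai.cl hNi) ?_ (Nakai.cl_mem _), Nakai.form_add_left]
      · have e : IntLib.dif hNi = (-1 : ℤ) • Nakai.cl hNi := by rw [Nakai.cl_eq_neg_dif hNi, neg_smul, one_smul, neg_neg]
        rw [e, Nakai.form_smul_left, Nakai.form_smul_right, Nakai.form_smul_left, Nakai.form_comm k (Nakai.cl hNi) (Nakai.cl hWi)] at hadj
        linarith
      · rw [show Nakai.cl hDi = Nakai.cl (AmpleLib.isInvertible_tensor hWi hNi) from rfl, Nakai.cl_tensor hWi hNi,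
          show Nakai.cl hWi + Nakai.cl hNi + Nakai.cl hWi * Nakai.cl hNi - (Nakai.cl hWi + Nakai.cl hNi) =
            Nakai.cl hWi * Nakai.cl hNi by ring, pow_two]
        exact Ideal.mul_mem_mul (Nakai.cl_mem _) (Nakai.cl_mem _)
    obtain ⟨e⟩ := hiso (two_le_depth_closed ι hι) h0
    exact ⟨(AmpleLib.unitR W).symm ≪≫ ((DCoh.tensorBi (X := X)).obj W).mapIso eN.symm ≪≫ (AmpleLib.assoc W N _).symm ≪≫
      ((DCoh.tensorBi (X := X)).mapIso e.symm).app _ ≪≫ AmpleLib.unitL _⟩

end Groth.Agent.S18440
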