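import Groth.Statements.S18442
import Groth.Agent.CIProjLib.Conormal
import Groth.Agent.FundLocIsoLib.Adjunction
import Groth.Agent.FundLocIsoLib.ProjTopForms
import Groth.Agent.DetLib.Ses
import Groth.Agent.BlowExcLib.PointCoh
import Groth.Agent.TwistShriek.SurfSmooth
-- import your own Groth.Agent.* helpers here

set_option autoImplicit false
set_option backward.isDefEq.respectTransparency false
set_option linter.style.haveILetI false
set_option maxHeartbeats 1000000
universe u
open CategoryTheory CategoryTheory.Limits AlgebraicGeometry TopologicalSpace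
open Surf

namespace Groth.Agent.S18442

/-- Let k be an algebraically closed field and X ⊆ P⁴_k a smooth surface which is the complete
intersection of two quadrics: X is an integral scheme, smooth over k of dimension 2, with a closed
immersion ι : X → P⁴_k over k whose kernel ideal sheaf is the ideal sheaf generated by two quadratic
forms G_0, G_1. Then a canonical module W of X (a second exterior power of Ω_{X/k}) is isomorphic to
ι^*O(−1) (existence of an isomorphism), so its tensor inverse ι^*O(1) is ample and X is a del Pezzo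
surface. -/
theorem result (k : Type u) [Field k] [IsAlgClosed k] (X : Scheme.{u})
    [X.Over (Spec (CommRingCat.of k))] [IsIntegral X] [Smooth (X ↘ (Spec (CommRingCat.of k)))] (hdim : topologicalKrullDim X = 2)
    (ι : X ⟶ CohB1.ProjSpace 4 k) [IsClosedImmersion ι] (hι : ι ≫ CohB1.ProjSpace.toSpec 4 k = X ↘ (Spec (CommRingCat.of k)))
    (G : Fin 2 → LefPen.Form 4 k 2) (hker : ι.ker = LefPen.ciIdeal G)
    (W : X.Modules) (hW : ExtPow.IsExtPow 2 (Omega.sheaf (X ↘ (Spec (CommRingCat.of k)))) W) :
    Nonempty (W ≅ (Scheme.Modules.pullback ι).obj (Twist.twistProjSpace 4 k (-1))) := by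
  classical
  haveI : IsProper (X ↘ Spec (CommRingCat.of k)) := Groth.Agent.ProjSerreLib.isProper_over ι hι
  haveI : SmoothOfRelativeDimension 2 (X ↘ Spec (CommRingCat.of k)) :=
    Groth.Agent.TwistShriek.smoothOfRelativeDimension_of_smooth _ hdim
  haveI hP4 : SmoothOfRelativeDimension 4 (CohB1.ProjSpace.toSpec 4 k) := inferInstance
  let J := LefPen.ciIdeal G
  have hker' : ι.ker = J.subschemeι.ker := by rw [Scheme.IdealSheafData.ker_subschemeι]; exact hker
  let φ := IsClosedImmersion.lift J.subschemeι ι hker'.ge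
  have hφ : φ ≫ J.subschemeι = ι := IsClosedImmersion.lift_fac _ _ _
  haveI : IsClosedImmersion (φ ≫ J.subschemeι) := by rw [hφ]; infer_instance
  haveI : IsClosedImmersion φ := IsClosedImmersion.of_comp φ J.subschemeι
  haveI : IsIso φ := IsClosedImmersion.isIso_lift J.subschemeι ι hker'.symm
  have hdimJ : topologicalKrullDim ↥J.subscheme = ((4 - 2 : ℕ) : WithBot ℕ∞) := by
    rw [← φ.homeomorph.isHomeomorph.topologicalKrullDim_eq, hdim]
    rfl
  -- the conormal sheaf
  haveI := Groth.Agent.CIProjLib.isIso_toConormal G (by norm_num) hdimJ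
  let F : Fin 2 → X.Modules := fun _ => (Scheme.Modules.pullback ι).obj (Twist.twistProjSpace 4 k (-((2 : ℕ) : ℤ)))
  haveI : (Scheme.Modules.pullback φ).IsLeftAdjoint :=
    (Scheme.Modules.pullbackPushforwardAdjunction φ).isLeftAdjoint
  let e : (∐ F) ≅ Omega.conormal ι :=
    Sigma.mapIso (fun _ => ((Scheme.Modules.pullbackComp φ J.subschemeι).app _ ≪≫
      (Scheme.Modules.pullbackCongr hφ).app _).symm) ≪≫
    (PreservesCoproduct.iso (Scheme.Modules.pullback φ) _).symm ≪≫
    (Scheme.Modules.pullback φ).mapIso (asIso (Groth.Agent.CIProjLib.toConormal G)) ≪≫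
    ((Scheme.Modules.pullbackComp φ J.subschemeι).app _ ≪≫ (Scheme.Modules.pullbackCongr hφ).app _) ≪≫
    eqToIso (congrArg (fun I => (Scheme.Modules.pullback ι).obj (ClSub.idealMod I)) hker'.symm)
  have hF : ∀ j, PicF.IsInvertible (F j) := fun j =>
    Groth.Agent.AmpleLib.isInvertible_pullback ι (Groth.Agent.BlowExcLib.isInvertible_twist _)
  let T : ShortComplex X.Modules := ShortComplex.mk (Sigma.ι F 0)
    (Sigma.desc (fun j : Fin 2 => if h : j = 1 then eqToHom (congrArg F h) else 0)) (by simp)
  have hT : T.ShortExact := ShortComplex.Splitting.shortExact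
    { r := Sigma.desc (fun j : Fin 2 => if h : j = 0 then eqToHom (congrArg F h) else 0)
      s := Sigma.ι F 1
      f_r := by simp [T]
      s_g := by simp [T]
      id := by
        refine Sigma.hom_ext _ _ fun j => ?_
        fin_cases j <;> simp [T] }
  have hdet := Groth.Agent.DetLib.isExtPow_two_of_shortExact hT (hF 0) (hF 1)
  have hL := Groth.Agent.KVb.isExtPow_iso e (Iso.refl _) hdet
  -- adjunction
  haveI : Smooth (CohB1.ProjSpace.toSpec 4 k) := SmoothOfRelativeDimension.smooth 4 _
  haveI := (Groth.Agent.PullbackMod.isQCoh_and_isFP_of_isFinLocFree _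
    (Groth.Agent.InfLiftLib.isFinLocFree_omega (CohB1.ProjSpace.toSpec 4 k))).1
  obtain ⟨ωP, -, hωP⟩ := Groth.Agent.ExtPowLib.exists_isExtPow (Omega.sheaf (CohB1.ProjSpace.toSpec 4 k)) 4
  obtain ⟨a⟩ := Groth.Agent.FundLocIsoLib.nonempty_topForms_iso (CohB1.ProjSpace.toSpec 4 k)
    (X ↘ Spec (CommRingCat.of k)) ι 4 2 hι hωP hW hL
  obtain ⟨b⟩ := Groth.Agent.FundLocIsoLib.nonempty_topForms_iso_twist hωP
  rw [← Groth.Agent.IntLib.mk_eq_mk]
  have h1 : Groth.Agent.BlowExcLib.pcls ι (-(((4 : ℕ) : ℤ) + 1)) =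
      Groth.Agent.IntLib.mk W * (Groth.Agent.BlowExcLib.pcls ι (-((2 : ℕ) : ℤ)) *
        Groth.Agent.BlowExcLib.pcls ι (-((2 : ℕ) : ℤ))) :=
    Groth.Agent.IntLib.mk_congr ((Scheme.Modules.pullback ι).mapIso b.symm ≪≫ a)
  show _ = Groth.Agent.BlowExcLib.pcls ι (-1)
  have h2 := congrArg (· * Groth.Agent.BlowExcLib.pcls ι 4) h1
  simp only [mul_assoc, ← Groth.Agent.BlowExcLib.pcls_add] at h2
  norm_num [Groth.Agent.BlowExcLib.pcls_zero] at h2
  exact h2.symm

end Groth.Agent.S18442
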