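import Groth.Statements.S18445
import Groth.Agent.PSSmoothLib.Basic
import Groth.Agent.ArtFunLib.Smooth
-- import your own Groth.Agent.* helpers here

set_option autoImplicit false
universe u
open CategoryTheory
open Deform

namespace Groth.Agent.S18445

open IsLocalRing TrivSqZeroExt MvPowerSeries PSSmoothLib in
theorem lifting_of_powerSeries {k : Type u} [Field k] {n : ℕ} (R : ArtFun.CRing k k)
    (e : R.carrier ≃ₐ[k] MvPowerSeries (Fin n) k)
    (A : ArtFun.Art k k) (M M' : Type u) [AddCommGroup M] [Module (↥A) M] [Module (↥A)ᵐᵒᵖ M]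
    [IsCentralScalar (↥A) M] [Module k M] [IsScalarTower k (↥A) M] [IsScalarTower k (↥A)ᵐᵒᵖ M]
    [AddCommGroup M'] [Module (↥A) M'] [Module (↥A)ᵐᵒᵖ M'] [IsCentralScalar (↥A) M'] [Module k M']
    [IsScalarTower k (↥A) M'] [IsScalarTower k (↥A)ᵐᵒᵖ M'] (f : M' →ₗ[↥A] M) (hf : Function.Surjective f)
    (φ : R.carrier →ₐ[k] TrivSqZeroExt (↥A) M) :
    ∃ ψ : R.carrier →ₐ[k] TrivSqZeroExt (↥A) M',
      ∀ r : R.carrier, (ψ r).fst = (φ r).fst ∧ f (ψ r).snd = (φ r).snd := by
  let χ : MvPowerSeries (Fin n) k →ₐ[k] TrivSqZeroExt A M := φ.comp e.symm.toAlgHom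
  choose m' hm' using fun i => hf (χ (X i)).snd
  have hnil := IsArtinianRing.isNilpotent_jacobson_bot (R := A)
  rw [jacobson_eq_maximalIdeal ⊥ bot_ne_top] at hnil
  haveI : IsAdicComplete ((maximalIdeal A).comap (fstHom k A M)) (TrivSqZeroExt A M) :=
    FiniteCompleteLib.isAdicComplete_of_isNilpotent _ (isNilpotent_comap_fst hnil)
  haveI : IsAdicComplete ((maximalIdeal A).comap (fstHom k A M')) (TrivSqZeroExt A M') :=
    FiniteCompleteLib.isAdicComplete_of_isNilpotent _ (isNilpotent_comap_fst hnil)
  have hfst : ∀ i, (χ (X i)).fst ∈ maximalIdeal A := fun i => by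
    rw [ArtFun.Art.mem_maximalIdeal_iff]
    exact apply_X_eq_zero (A.res.comp ((fstHom k A M).comp χ)) i
  obtain ⟨g, hg⟩ := ArtFunLib.ps_exists_lift (Λ := k) ((maximalIdeal A).comap (fstHom k A M'))
    (fun i => inl (χ (X i)).fst + inr (m' i)) fun i => by
      show (inl (χ (X i)).fst + inr (m' i) : TrivSqZeroExt A M').fst ∈ maximalIdeal A
      simpa using hfst i
  let F : TrivSqZeroExt A M' →ₐ[k] TrivSqZeroExt A M := (TrivSqZeroExt.map f).restrictScalars k
  have hF : F.comp g = χ := by
    refine ArtFunLib.ps_ext ((maximalIdeal A).comap (fstHom k A M)) (fun i => ?_) fun i => ?_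
    · show (TrivSqZeroExt.map f (g (X i))).fst ∈ maximalIdeal A
      rw [fst_map, hg]
      simpa using hfst i
    · show TrivSqZeroExt.map f (g (X i)) = χ (X i)
      rw [hg]
      ext
      · simp
      · simp [hm']
  refine ⟨g.comp e.toAlgHom, fun r => ?_⟩
  have h1 : TrivSqZeroExt.map f (g (e r)) = φ r :=
    (DFunLike.congr_fun hF (e r)).trans (congrArg φ (e.symm_apply_apply r))
  exact ⟨((fst_map f _).symm.trans (congrArg TrivSqZeroExt.fst h1) : _), (snd_map f _).symm.trans (congrArg TrivSqZeroExt.snd h1)⟩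

open IsLocalRing TrivSqZeroExt MvPowerSeries PSSmoothLib in
theorem powerSeries_of_lifting {k : Type u} [Field k] [CharZero k] (R : ArtFun.CRing k k)
    (h : ∀ (A : ArtFun.Art k k) (M M' : Type u) [AddCommGroup M] [Module (↥A) M] [Module (↥A)ᵐᵒᵖ M]
        [IsCentralScalar (↥A) M] [Module k M] [IsScalarTower k (↥A) M] [IsScalarTower k (↥A)ᵐᵒᵖ M]
        [AddCommGroup M'] [Module (↥A) M'] [Module (↥A)ᵐᵒᵖ M'] [IsCentralScalar (↥A) M'] [Module k M']
        [IsScalarTower k (↥A) M'] [IsScalarTower k (↥A)ᵐᵒᵖ M'] (f : M' →ₗ[↥A] M),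
        Function.Surjective f →
          ∀ φ : R.carrier →ₐ[k] TrivSqZeroExt (↥A) M,
            ∃ ψ : R.carrier →ₐ[k] TrivSqZeroExt (↥A) M',
              ∀ r : R.carrier, (ψ r).fst = (φ r).fst ∧ f (ψ r).snd = (φ r).snd) :
    Nonempty (R.carrier ≃ₐ[k] MvPowerSeries
        (Fin (Module.finrank (ResidueField R.carrier) (CotangentSpace R.carrier))) k) := by
  classical
  let m := maximalIdeal R.carrier
  let κ := ResidueField R.carrier
  let n := Module.finrank κ (CotangentSpace R.carrier)
  let b := Module.finBasis κ (CotangentSpace R.carrier)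
  choose x hx using fun i => Ideal.toCotangent_surjective m (b i)
  haveI := R.isAdicComplete
  let P := MvPowerSeries (Fin n) k
  obtain ⟨g, hg⟩ := ArtFunLib.ps_exists_lift (Λ := k) m (fun i => (x i : R.carrier)) fun i => (x i).2
  have hgX : ∀ i, g (X i) = x i := hg
  have hres : ∀ p : P, R.res (g p) = constantCoeff p := fun p => by
    haveI : IsAdicComplete (⊥ : Ideal k) k := {}
    refine DFunLike.congr_fun (show R.res.comp g =
      ({ (constantCoeff (σ := Fin n) (R := k)) with commutes' := fun r => constantCoeff_C r } : P →ₐ[k] k) from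
      ArtFunLib.ps_ext (⊥ : Ideal k) (fun i => ?_) fun i => ?_) p
    · rw [Ideal.mem_bot]
      exact apply_X_eq_zero _ i
    · exact (apply_X_eq_zero _ i).trans (constantCoeff_X i).symm
  have hmem : ∀ p : P, p ∈ maximalIdeal P ↔ constantCoeff p = 0 := fun p => by
    rw [mem_maximalIdeal, mem_nonunits_iff, MvPowerSeries.isUnit_iff_constantCoeff, isUnit_iff_ne_zero, not_not]
  have hgmax : ∀ p : P, g p ∈ m ↔ p ∈ maximalIdeal P := fun p => by
    rw [hmem, ArtFun.CRing.mem_maximalIdeal_iff, hres]
  have hspan : Ideal.span (Set.range fun i => (x i : R.carrier)) ⊔ m ^ 2 = m := by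
    refine le_antisymm (sup_le (Ideal.span_le.mpr (Set.range_subset_iff.mpr fun i => (x i).2))
      (Ideal.pow_le_self two_ne_zero)) fun y hy => ?_
    obtain ⟨c, hc⟩ : ∃ c : Fin n → R.carrier, ∑ i, c i • m.toCotangent (x i) = m.toCotangent ⟨y, hy⟩ := by
      choose c hc using fun i => residue_surjective (b.repr (m.toCotangent ⟨y, hy⟩) i)
      refine ⟨c, ?_⟩
      conv_rhs => rw [← b.sum_repr (m.toCotangent ⟨y, hy⟩)]
      refine Finset.sum_congr rfl fun i _ => ?_
      rw [hx, ← hc]
      rfl
    have h2 : m.toCotangent (∑ i, c i • x i) = m.toCotangent ⟨y, hy⟩ := by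
      rw [map_sum, ← hc]
      simp only [map_smul]
    rw [Ideal.toCotangent_eq] at h2
    simp only [Submodule.coe_sum, SetLike.val_smul, smul_eq_mul] at h2
    have hs : (∑ i, c i * x i : R.carrier) ∈ Ideal.span (Set.range fun i => (x i : R.carrier)) :=
      Ideal.sum_mem _ fun i _ => Ideal.mul_mem_left _ _ (Ideal.subset_span ⟨i, rfl⟩)
    have := sub_mem (Ideal.mem_sup_left hs) (Ideal.mem_sup_right (S := Ideal.span (Set.range fun i => (x i : R.carrier))) h2)
    rwa [sub_sub_cancel] at this
  have hsurj : Function.Surjective g := by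
    refine CompleteSurjLib.surjective_of_cotangent (fun y => ?_) g
      (Ideal.map_le_iff_le_comap.mpr fun p hp => (hgmax p).mpr hp) ?_
    · obtain ⟨z, rfl⟩ := residue_surjective y
      refine ⟨R.res z, ?_⟩
      show residue _ (algebraMap k R.carrier (R.res z)) = residue _ z
      refine (Ideal.Quotient.eq).mpr ((ArtFun.CRing.mem_maximalIdeal_iff R _).mpr ?_)
      rw [map_sub, AlgHom.commutes, Algebra.algebraMap_self_apply, sub_self]
    · refine hspan.ge.trans (sup_le_sup_right (Ideal.span_le.mpr (Set.range_subset_iff.mpr fun i => ?_)) _)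
      rw [← hgX]
      exact Ideal.mem_map_of_mem _ ((hmem _).mpr (constantCoeff_X i))
  have hmapm : (maximalIdeal P).map g = m := by
    refine le_antisymm (Ideal.map_le_iff_le_comap.mpr fun p hp => (hgmax p).mpr hp) fun y hy => ?_
    obtain ⟨p, rfl⟩ := hsurj y
    exact Ideal.mem_map_of_mem _ ((hgmax p).mp hy)
  -- the kernel has order at least two
  have hbase : ∀ p : P, g p = 0 → p ∈ orderIdeal 2 := fun p hp => by
    have hp0 : p ∈ maximalIdeal P := (hgmax p).mp (hp.symm ▸ m.zero_mem)
    obtain ⟨c, hc⟩ := (Submodule.mem_span_range_iff_exists_fun P).mp ((maximalIdeal_eq_span (k := k) (n := n)).le hp0)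
    simp only [smul_eq_mul] at hc
    have hz : ∑ i, residue R.carrier (g (c i)) • b i = 0 := by
      calc ∑ i, residue R.carrier (g (c i)) • b i
          = ∑ i, m.toCotangent (g (c i) • x i) := Finset.sum_congr rfl fun i _ => by
            rw [map_smul, hx]; rfl
        _ = m.toCotangent (∑ i, g (c i) • x i) := (map_sum _ _ _).symm
        _ = m.toCotangent 0 := by
            refine congrArg _ (Subtype.ext ?_)
            simp only [Submodule.coe_sum, SetLike.val_smul, smul_eq_mul, ← hgX, ← map_mul, ← map_sum, hc, hp]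
            rfl
        _ = 0 := map_zero _
    rw [← hc]
    refine Ideal.sum_mem _ fun i _ => orderIdeal_mul 1 1 (Ideal.mul_mem_mul ?_ ?_)
    · refine one_le_order ((hgmax (c i)).mp ?_)
      rw [← residue_eq_zero_iff]
      exact Fintype.linearIndependent_iff.mp b.linearIndependent _ hz i
    · exact one_le_order ((hmem _).mpr (constantCoeff_X i))
  -- induction on the order of the kernel
  have key : ∀ d : ℕ, ∀ p : P, g p = 0 → p ∈ orderIdeal (d + 2) := by
    intro d
    induction d with
    | zero => exact hbase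
    | succ d ih =>
      let A := R.trunc (d + 1)
      let q : R.carrier →ₐ[k] A := (R.truncHom (d + 1)).1
      let Q : P →ₐ[k] A := q.comp g
      have hQker : ∀ s : P, Q s = 0 → s ∈ orderIdeal (d + 2) := fun s hs => by
        have hs' : g s ∈ m ^ (d + 2) := Ideal.Quotient.eq_zero_iff_mem.mp hs
        rw [← hmapm, ← Ideal.map_pow] at hs'
        obtain ⟨s', hs'm, hs'e⟩ := (Ideal.mem_map_iff_of_surjective _ hsurj).mp hs'
        have h0 := ih (s - s') (by rw [map_sub, hs'e, sub_self])
        rw [← sub_add_cancel s s']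
        exact add_mem h0 (pow_le_orderIdeal _ hs'm)
      let N : Submodule A (Fin n → A) :=
        Submodule.span A {v | ∃ p : P, g p = 0 ∧ v = fun i => Q (pderiv k i p)}
      let D : Fin n → (Fin n → A) ⧸ N := fun i => N.mkQ (Pi.single i 1)
      have hker : ∀ p : P, g p = 0 → derHom Q D p = 0 := fun p hp => by
        have hpi : (∑ i, Q (pderiv k i p) • Pi.single i (1 : A) : Fin n → A) = fun i => Q (pderiv k i p) :=
          funext fun j => by simp [Finset.sum_apply, Pi.single_apply]
        ext
        · rw [fst_derHom, fst_zero]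
          show q (g p) = 0
          rw [hp, map_zero]
        · rw [snd_derHom, snd_zero]
          simp only [D, ← map_smul, ← map_sum, hpi]
          exact (Submodule.Quotient.mk_eq_zero N).mpr (Submodule.subset_span ⟨p, hp, rfl⟩)
      let φ : R.carrier →ₐ[k] TrivSqZeroExt A ((Fin n → A) ⧸ N) := AlgHom.liftOfSurjective g hsurj (derHom Q D) hker
      have hφ : ∀ p, φ (g p) = derHom Q D p := fun p => AlgHom.liftOfSurjective_apply _ _ _ _ p
      obtain ⟨ψ, hψ⟩ := h A ((Fin n → A) ⧸ N) (Fin n → A) N.mkQ N.mkQ_surjective φ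
      let E : Fin n → (Fin n → A) := fun i => (ψ (x i)).snd
      have hψg : ψ.comp g = derHom Q E := by
        have hnil := IsArtinianRing.isNilpotent_jacobson_bot (R := A)
        rw [jacobson_eq_maximalIdeal ⊥ bot_ne_top] at hnil
        haveI : IsAdicComplete ((maximalIdeal A).comap (fstHom k A (Fin n → A))) (TrivSqZeroExt A (Fin n → A)) :=
          FiniteCompleteLib.isAdicComplete_of_isNilpotent _ (isNilpotent_comap_fst hnil)
        have hX : ∀ i, (ψ (g (X i))).fst = Q (X i) := fun i => by rw [(hψ _).1, hφ, fst_derHom]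
        refine ArtFunLib.ps_ext ((maximalIdeal A).comap (fstHom k A (Fin n → A))) (fun i => ?_) fun i => ?_
        · show (ψ (g (X i))).fst ∈ maximalIdeal A
          rw [hX, ArtFun.Art.mem_maximalIdeal_iff]
          exact apply_X_eq_zero (A.res.comp Q) i
        · ext
          · rw [fst_derHom, AlgHom.comp_apply, hX]
          · rw [snd_derHom_X, AlgHom.comp_apply, hgX]
      have hE : ∀ i, E i - Pi.single i 1 ∈ N := fun i => by
        rw [← Submodule.Quotient.eq]
        show N.mkQ (E i) = D i
        rw [show N.mkQ (E i) = (φ (x i)).snd from (hψ _).2, ← hgX, hφ, snd_derHom_X]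
      have hNmax : ∀ v ∈ N, ∀ j, v j ∈ maximalIdeal A := fun v hv j => by
        induction hv using Submodule.span_induction with
        | mem v hv =>
          obtain ⟨p, hp, rfl⟩ := hv
          rw [ArtFun.Art.mem_maximalIdeal_iff]
          show A.res (q (g (pderiv k j p))) = 0
          rw [show A.res (q (g (pderiv k j p))) = R.res (g (pderiv k j p)) from rfl, hres]
          have h1 : pderiv k j p ∈ orderIdeal (0 + 1) := by
            refine pderiv_mem_orderIdeal ?_ j
            exact (show ((0 + 1 + 1 : ℕ) : ℕ∞) ≤ (2 : ℕ) by norm_num).trans (hbase p hp)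
          rw [← MvPowerSeries.coeff_zero_eq_constantCoeff_apply]
          exact coeff_of_lt_order ((Nat.cast_lt.mpr (by simp)).trans_le h1)
        | zero => exact zero_mem _
        | add v w _ _ h1 h2 => exact add_mem h1 h2
        | smul c v _ h1 => exact Ideal.mul_mem_left _ c h1
      intro p hp
      refine mem_orderIdeal_of_pderiv ((hmem p).mp ((hgmax p).mp (hp.symm ▸ m.zero_mem))) fun j => ?_
      choose ν hν using fun i => (show ∃ t : P, Q t = (E i - Pi.single i 1 : Fin n → A) j by
        obtain ⟨r, hr⟩ := Ideal.Quotient.mk_surjective ((E i - Pi.single i 1 : Fin n → A) j)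
        obtain ⟨t, rfl⟩ := hsurj r
        exact ⟨t, hr⟩)
      have hνmax : ∀ i, ν i ∈ orderIdeal (k := k) (n := n) 1 := fun i => by
        refine one_le_order ((hgmax _).mp ?_)
        have h1 := hNmax _ (hE i) j
        rw [← hν i, ArtFun.Art.mem_maximalIdeal_iff] at h1
        exact (ArtFun.CRing.mem_maximalIdeal_iff R _).mpr h1
      have h0 : (ψ (g p)).snd j = 0 := by rw [hp, map_zero, snd_zero]; rfl
      rw [← AlgHom.comp_apply, hψg, snd_derHom, Finset.sum_apply] at h0
      have hs : Q (pderiv k j p + ∑ i, pderiv k i p * ν i) = 0 := by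
        rw [map_add, map_sum, ← h0]
        simp only [Pi.smul_apply, smul_eq_mul, map_mul, hν, Pi.sub_apply, mul_sub, Finset.sum_sub_distrib,
          Pi.single_apply, mul_ite, mul_one, mul_zero, Finset.sum_ite_eq, Finset.mem_univ, if_true]
        abel
      have h3 := sub_mem (hQker _ hs) (Ideal.sum_mem _ fun i (_ : i ∈ Finset.univ) =>
        orderIdeal_mul (d + 1) 1 (Ideal.mul_mem_mul (pderiv_mem_orderIdeal (ih p hp) i) (hνmax i)))
      rwa [add_sub_cancel_right] at h3
  refine ⟨(AlgEquiv.ofBijective g ⟨(injective_iff_map_eq_zero g).mpr fun p hp => ?_, hsurj⟩).symm⟩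
  ext e
  exact (coeff_of_lt_order ((Nat.cast_lt.mpr (show e.degree < e.degree + 2 by omega)).trans_le (key e.degree p hp)) :)

/-- Let k be a field of characteristic zero and R a complete local Noetherian k-algebra with residue
field k, with n the dimension of its cotangent space m_R/m_R². Then R is isomorphic as a k-algebra
to the power series ring k[[x_1, …, x_n]] if and only if for every local Artinian k-algebra A with
residue field k, all A-modules M and M' and every surjective A-linear map f : M' → M, every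
k-algebra homomorphism R → A ⊕ M into the trivial square-zero extension is the composite of some
k-algebra homomorphism R → A ⊕ M' with the map A ⊕ M' → A ⊕ M induced by f. (The modules are taken
in the universe of k, with the A-action on both sides equal; in positive characteristic the
criterion fails, e.g. for k[x]/(x^p).) -/
theorem result
    {k : Type u} [Field k] [CharZero k] (R : ArtFun.CRing k k) :
    Nonempty (R.carrier ≃ₐ[k] MvPowerSeries
        (Fin (Module.finrank (IsLocalRing.ResidueField R.carrier) (IsLocalRing.CotangentSpace R.carrier))) k) ↔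
      ∀ (A : ArtFun.Art k k) (M M' : Type u) [AddCommGroup M] [Module (↥A) M] [Module (↥A)ᵐᵒᵖ M]
        [IsCentralScalar (↥A) M] [Module k M] [IsScalarTower k (↥A) M] [IsScalarTower k (↥A)ᵐᵒᵖ M]
        [AddCommGroup M'] [Module (↥A) M'] [Module (↥A)ᵐᵒᵖ M'] [IsCentralScalar (↥A) M'] [Module k M']
        [IsScalarTower k (↥A) M'] [IsScalarTower k (↥A)ᵐᵒᵖ M'] (f : M' →ₗ[↥A] M),
        Function.Surjective f →
          ∀ φ : R.carrier →ₐ[k] TrivSqZeroExt (↥A) M,
            ∃ ψ : R.carrier →ₐ[k] TrivSqZeroExt (↥A) M',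
              ∀ r : R.carrier, (ψ r).fst = (φ r).fst ∧ f (ψ r).snd = (φ r).snd := by
  refine ⟨fun ⟨e⟩ A M M' _ _ _ _ _ _ _ _ _ _ _ _ _ _ f hf φ => lifting_of_powerSeries R e A M M' f hf φ,
    powerSeries_of_lifting R⟩

end Groth.Agent.S18445
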