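import Groth.Statements.S18449
import Groth.Agent.TwistShriek.SurfH1
-- import your own Groth.Agent.* helpers here

set_option autoImplicit false
set_option backward.isDefEq.respectTransparency false
set_option maxHeartbeats 800000
set_option synthInstance.maxHeartbeats 200000
universe u
open CategoryTheory CategoryTheory.Limits AlgebraicGeometry TopologicalSpace
open Surf
open Groth.Agent Groth.Agent.TwistShriek

namespace Groth.Agent.S18449

/-- Let k be an algebraically closed field of characteristic zero and X a smooth projective surface over
k (an integral scheme, proper and smooth over k, of dimension 2). Let Z be a nonzero effective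
Cartier divisor on X, given by its ideal sheaf I_Z ≠ O_X, and consider the nonzero effective Cartier
divisors Z' ≤ Z, i.e. those with I_Z = I_{Z'} · J for some effective Cartier ideal J. Then H¹(Z',
O_{Z'}) = 0 for every such Z' if and only if χ(O_{Z'}) ≥ 1, i.e. the arithmetic genus 1 − χ(O_{Z'})
is at most 0, for every such Z'; here cohomology and Euler characteristics are computed on X through
the direct image of O_{Z'}. The published statement is about the cycles supported on the exceptional
curves of a resolution of a normal surface singularity over the complex numbers, where the first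
condition is rationality of the singularity; this row states the equivalence, which the printed
induction proves using only adjunction and the sub-divisors of the given cycle, for the sub-divisors
of one effective divisor. -/
theorem result (k : Type u) [Field k] [IsAlgClosed k] [CharZero k]
    (X : Scheme.{u}) [X.Over (Spec (CommRingCat.of k))] [IsProper (X ↘ (Spec (CommRingCat.of k)))]
    [Smooth (X ↘ (Spec (CommRingCat.of k)))] [IsIntegral X] (hdim : topologicalKrullDim X = 2)
    (Z : X.IdealSheafData) (hZ : FGA.IsEffCartier Z) (hZ0 : Z ≠ ⊤) :
    (∀ Z' J : X.IdealSheafData, FGA.IsEffCartier Z' → FGA.IsEffCartier J → Z' ≠ ⊤ → Z = Z' * J →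
        Subsingleton (Coh.HH X (ClSub.quotMod Z') 1)) ↔
      (∀ Z' J : X.IdealSheafData, FGA.IsEffCartier Z' → FGA.IsEffCartier J → Z' ≠ ⊤ → Z = Z' * J →
        1 ≤ Curv2.euler k X (ClSub.quotMod Z')) := by
    haveI := EulerIneqLib.isNoetherian_proper (X := X) k
    constructor
    · intro h Z' J hZ' hJ hne hZJ
      haveI := h Z' J hZ' hJ hne hZJ
      rw [euler_divisor k (dim_divisor k hdim hZ' hne).le,
        Module.finrank_zero_of_subsingleton (R := k) (M := Coh.HH X (ClSub.quotMod Z') 1)]
      have := h0_pos_divisor k hne
      omega
    · intro h Z' J hZ' hJ hne hZJ
      obtain ⟨W, hW⟩ := exists_canonical_proper (X := X) k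
      refine subsingleton_H1_of_euler k hdim hW (canonical_data_proper k hdim hW).1 hZ' fun A B hA hB hAne hAB => ?_
      refine h A (B * J) hA (BlowCompLib.isEffCartier_mul hB hJ) hAne ?_
      rw [hZJ, hAB]
      ext U : 2
      simp only [Scheme.IdealSheafData.ideal_mul, Pi.mul_apply]
      ring

end Groth.Agent.S18449
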