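import Groth.Statements.S18451
import Groth.Agent.TwistShriek.NumCurves
-- import your own Groth.Agent.* helpers here

set_option autoImplicit false
set_option backward.isDefEq.respectTransparency false
set_option maxHeartbeats 800000
set_option synthInstance.maxHeartbeats 200000
universe u
open CategoryTheory CategoryTheory.Limits AlgebraicGeometry TopologicalSpace
open Surf
open Groth.Agent Groth.Agent.TwistShriek

namespace Groth.Agent.S18451

/-- Let k be an algebraically closed field of characteristic zero and X a smooth projective surface over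
k (integral, proper and smooth over k, of dimension 2, carrying an ample invertible module). Let
C_1, …, C_r be pairwise distinct integral curves on X (integral closed one-dimensional subschemes
with ideal sheaves I_1, …, I_r) and write G_{ij} = (I_i·I_j) = χ(O_X) − χ(I_i) − χ(I_j) + χ(I_i ⊗
I_j) for their intersection matrix. Suppose the classes of the C_i span a negative definite
sublattice modulo numerical equivalence: for every integer vector a such that Σ_i a_i [C_i] is
numerically nontrivial, meaning that Σ_i a_i (I_i·M) ≠ 0 for some invertible O_X-module M, one has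
Σ_{i,j} a_i a_j G_{ij} < 0. Then the classes are linearly independent, i.e. G itself is negative
definite: Σ_{i,j} a_i a_j G_{ij} < 0 for every nonzero integer vector a. -/
theorem result (k : Type u) [Field k] [IsAlgClosed k] [CharZero k]
    (X : Scheme.{u}) [X.Over (Spec (CommRingCat.of k))] [IsProper (X ↘ (Spec (CommRingCat.of k)))]
    [Smooth (X ↘ (Spec (CommRingCat.of k)))] [IsIntegral X] (hdim : topologicalKrullDim X = 2)
    (hproj : ∃ H : X.Modules, CohB1.IsAmple H)
    (r : ℕ) (C : Fin r → X.IdealSheafData) (hC : Function.Injective C)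
    (hCi : ∀ i, IsIntegral (C i).subscheme) (hCd : ∀ i, topologicalKrullDim ((C i).support : Set X) = 1)
    (hneg : ∀ a : Fin r → ℤ,
      (∃ M : X.Modules, PicF.IsInvertible M ∧
        ∑ i, a i * FGA.intNum k X 2 ![(ClSub.idealMod (C i)), M] (Coh.structureModule X) ≠ 0) →
      ∑ i, ∑ j, a i * a j * FGA.intNum k X 2 ![(ClSub.idealMod (C i)), (ClSub.idealMod (C j))] (Coh.structureModule X) < 0) :
    ∀ a : Fin r → ℤ, a ≠ 0 →
      ∑ i, ∑ j, a i * a j * FGA.intNum k X 2 ![(ClSub.idealMod (C i)), (ClSub.idealMod (C j))] (Coh.structureModule X) < 0 := by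
    have hCI : ∀ i, PicF.IsInvertible (ClSub.idealMod (C i)) := fun i => invertible_curve k hdim (C i) (hCi i) (hCd i)
    obtain ⟨H, hH⟩ := hproj
    obtain ⟨G, hG⟩ : ∃ G : Fin r → Fin r → ℤ, G = fun i j =>
        FGA.intNum k X 2 ![(ClSub.idealMod (C i)), (ClSub.idealMod (C j))] (Coh.structureModule X) := ⟨_, rfl⟩
    have hoff : ∀ i j, i ≠ j → 0 ≤ G i j := fun i j hij => by
      rw [hG]
      dsimp only
      rw [intNum_eq_form k hdim.le (hCI i) (hCI j)]
      exact form_curves_nonneg k hdim (hCi i) (hCd i) (hCI i) (hCi j) (hCd j) (hCI j) (fun h => hij (hC h))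
    have hzero : ∀ p : Fin r → ℤ, (∀ i, 0 ≤ p i) →
        (0 ≤ ∑ i, ∑ j, p i * p j * G i j) → p = 0 := by
      intro p hp hnn
      have hM : ∑ i, p i * FGA.intNum k X 2 ![(ClSub.idealMod (C i)), H] (Coh.structureModule X) = 0 := by
        by_contra hne
        have h1 := hneg p ⟨H, hH.1, hne⟩
        rw [hG] at hnn
        exact absurd h1 (not_lt.2 hnn)
      have hterm := (Finset.sum_eq_zero_iff_of_nonpos fun i _ => mul_nonpos_of_nonneg_of_nonpos (hp i) (by
        rw [intNum_eq_form k hdim.le (hCI i) hH.1]
        exact (form_ideal_neg k hdim.le hH (hCI i) (hCd i)).le)).1 hM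
      funext i
      refine (mul_eq_zero.1 (hterm i (Finset.mem_univ i))).resolve_right ?_
      rw [intNum_eq_form k hdim.le (hCI i) hH.1]
      exact (form_ideal_neg k hdim.le hH (hCI i) (hCd i)).ne
    intro a ha
    by_cases hnum : ∃ M : X.Modules, PicF.IsInvertible M ∧
        ∑ i, a i * FGA.intNum k X 2 ![(ClSub.idealMod (C i)), M] (Coh.structureModule X) ≠ 0
    · exact hneg a hnum
    exfalso
    push Not at hnum
    have hpos : ∀ b : Fin r → ℤ, (∀ j, ∑ i, b i * G i j = 0) → (fun i => max (b i) 0) = 0 := fun b hb => by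
      obtain ⟨p, hp⟩ : ∃ p : Fin r → ℤ, p = fun i => max (b i) 0 := ⟨_, rfl⟩
      obtain ⟨m, hm⟩ : ∃ m : Fin r → ℤ, m = fun i => max (-b i) 0 := ⟨_, rfl⟩
      rw [← hp]
      refine hzero p (fun i => hp ▸ le_max_right _ _) ?_
      have h1 : 0 ≤ ∑ i, ∑ j, m i * p j * G i j :=
        TwistShriek.NumForm.cross_nonneg hoff (fun i => hm ▸ le_max_right _ _) (fun i => hp ▸ le_max_right _ _)
          (fun i => by rw [hp, hm, mul_comm]; exact TwistShriek.NumForm.pos_mul_neg _)
      have h2 : ∑ i, ∑ j, p i * p j * G i j = (∑ j, p j * ∑ i, b i * G i j) + ∑ i, ∑ j, m i * p j * G i j := by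
        simp_rw [Finset.mul_sum]
        rw [Finset.sum_comm (f := fun j i => p j * (b i * G i j)), ← Finset.sum_add_distrib]
        refine Finset.sum_congr rfl fun i _ => ?_
        rw [← Finset.sum_add_distrib]
        refine Finset.sum_congr rfl fun j _ => ?_
        have hb' : b i = p i - m i := by rw [hp, hm]; exact (TwistShriek.NumForm.pos_sub_neg _).symm
        rw [hb']; ring
      rw [h2, Finset.sum_eq_zero fun j _ => by rw [hb j, mul_zero], zero_add]
      exact h1
    have hk : ∀ j, ∑ i, a i * G i j = 0 := fun j => by rw [hG]; exact hnum _ (hCI j)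
    have h1 := hpos a hk
    have h2 := hpos (-a) fun j => by simp [hk j]
    refine ha (funext fun i => ?_)
    have e1 := congrFun h1 i
    have e2 := congrFun h2 i
    simp only [Pi.zero_apply, Pi.neg_apply] at e1 e2 ⊢
    omega

end Groth.Agent.S18451
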