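import Groth.Statements.S18453
import Groth.Agent.S18439
import Groth.Agent.S18460
import Groth.Agent.S14056
import Groth.Agent.S14407
import Groth.Agent.S7314
import Groth.Agent.SubmFTLib
import Groth.Agent.ClSubLib.ProperOver
import Groth.Agent.CastLib.Contraction
import Groth.Agent.CastLib.ExcCriterion
import Groth.Agent.SurfPtBlow.PointPush
import Groth.Agent.SurfPtBlow.Meet

set_option autoImplicit false
universe u
open CategoryTheory CategoryTheory.Limits AlgebraicGeometry TopologicalSpace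
open Surf

namespace Groth.Agent.S18453

open Groth.Agent.SurfPtBlow Groth.Agent.TwistShriek Groth.Agent.TwistShriek.PointBlow

/-- Properties of a smooth projective surface. -/
def IsSurf (k : Type u) [Field k] {X : Scheme.{u}} (s : X ⟶ Spec (CommRingCat.of k)) : Prop :=
  IsProper s ∧ IsIntegral X ∧ topologicalKrullDim X = 2 ∧ ∀ x : X, IsRegularLocalRing (X.presheaf.stalk x)

/-- Canonical degree nonnegative on curves that are not contracted. -/
def NefOff (k : Type u) [Field k] {Z X : Scheme.{u}} (s : Z ⟶ Spec (CommRingCat.of k)) (q : Z ⟶ X) : Prop :=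
  letI : Z.Over (Spec (CommRingCat.of k)) := ⟨s⟩
  ∀ (_ : IsProper (Z ↘ Spec (CommRingCat.of k))) (W : Z.Modules), ExtPow.IsExtPow 2 (Omega.sheaf (Z ↘ Spec (CommRingCat.of k))) W →
    ∀ (hW : PicF.IsInvertible W) (η : Z), topologicalKrullDim (closure {η} : Set Z) = ((1 : ℕ) : WithBot ℕ∞) →
      topologicalKrullDim (closure {q η} : Set X) = ((1 : ℕ) : WithBot ℕ∞) →
      0 ≤ IntLib.pairing k (IntLib.compMod η) (Nakai.cl hW)

theorem isIso_restrict_le {W S : Scheme.{u}} (ν : W ⟶ S) {U' U : S.Opens} (h : U' ≤ U) [IsIso (ν ∣_ U)] :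
    IsIso (ν ∣_ U') := by
  have hsq : IsPullback (W.homOfLE (ν.preimage_mono h)) (ν ∣_ U') (ν ∣_ U) (S.homOfLE h) := by
    refine IsPullback.of_right ?_ ?_ (isPullback_morphismRestrict ν U).flip
    · rw [Scheme.homOfLE_ι, Scheme.homOfLE_ι]
      exact (isPullback_morphismRestrict ν U').flip
    · rw [← cancel_mono U.ι, Category.assoc, Category.assoc, morphismRestrict_ι, Scheme.homOfLE_ι,
        morphismRestrict_ι, ← Category.assoc, Scheme.homOfLE_ι]
  exact MorphismProperty.of_isPullback (P := MorphismProperty.isomorphisms Scheme.{u}) hsq ‹IsIso (ν ∣_ U)›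

/-- Birationality. -/
def Bir {Z X : Scheme.{u}} (q : Z ⟶ X) : Prop := ∃ V : X.Opens, (V : Set X).Nonempty ∧ IsIso (q ∣_ V)

/-- Pullbacks are nonnegative where the module is. -/
theorem pull_nonneg (k : Type u) [Field k] {Z Y : Scheme.{u}} [Z.Over (Spec (CommRingCat.of k))]
    [Y.Over (Spec (CommRingCat.of k))] [IsProper (Z ↘ Spec (CommRingCat.of k))] [IsProper (Y ↘ Spec (CommRingCat.of k))]
    (g : Z ⟶ Y) (hg : g ≫ (Y ↘ Spec (CommRingCat.of k)) = Z ↘ Spec (CommRingCat.of k))
    {L : Y.Modules} (hL : PicF.IsInvertible L) {η : Z}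
    (hη : topologicalKrullDim (closure {η} : Set Z) = ((1 : ℕ) : WithBot ℕ∞))
    (h : topologicalKrullDim (closure {g η} : Set Y) = ((1 : ℕ) : WithBot ℕ∞) →
      0 ≤ IntLib.pairing k (IntLib.compMod (g η)) (Nakai.cl hL)) :
    0 ≤ IntLib.pairing k (IntLib.compMod η) (Nakai.cl (AmpleLib.isInvertible_pullback g hL)) := by
  obtain ⟨δZ, hδZ⟩ := CycLib.exists_delta k Z
  obtain ⟨δY, hδY⟩ := CycLib.exists_delta k Y
  obtain ⟨t, ht, htd⟩ := CycLib.delta_dim k δZ hδZ η
  have h1 : δZ η = (1 : ℤ) := by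
    rw [hη] at htd
    rw [ht, show t = 1 by exact_mod_cast htd.symm]; rfl
  have hp := CycLib.pairing_pullback k hg hδZ hδY 1 (fun _ => L) (fun _ => hL) η (by rw [h1]; rfl)
  rw [Fin.prod_univ_one, Fin.prod_univ_one] at hp
  rw [Nakai.cl_eq_neg_dif, map_neg, hp]
  by_cases hc : δZ η = δY (g η)
  · obtain ⟨s, hs, hsd⟩ := CycLib.delta_dim k δY hδY (g η)
    have h2 := h (by rw [hsd, show s = 1 by omega])
    rw [Nakai.cl_eq_neg_dif, map_neg] at h2
    rw [← mul_neg]
    exact mul_nonneg (Int.natCast_nonneg _) h2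
  · rw [AlgebraicCycle.mapCoeff, if_neg hc]
    simp

theorem smooth_surf (k : Type u) [Field k] [IsAlgClosed k] {X : Scheme.{u}} (s : X ⟶ Spec (CommRingCat.of k))
    (h : IsSurf k s) : Smooth s := by
  letI : X.Over (Spec (CommRingCat.of k)) := ⟨s⟩
  obtain ⟨hp, _, _, hr⟩ := h
  haveI : IsProper (X ↘ Spec (CommRingCat.of k)) := hp
  exact FinBirLib.smooth_of_regular_algClosed (X ↘ Spec (CommRingCat.of k)) fun y _ => hr y

/-- A point blow-up. -/
theorem up_blowUp (k : Type u) [Field k] [IsAlgClosed k] {Z Y X : Scheme.{u}} (b : Z ⟶ Y)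
    (s : Y ⟶ Spec (CommRingCat.of k)) (hs : IsSurf k s) {y : Y} (hy : IsClosed ({y} : Set Y))
    (hd : ringKrullDim (Y.presheaf.stalk y) = 2) (hb : BlowUp.IsBlowUp b (pointIdeal hy)) (p : Y ⟶ X)
    [IsProper p] [IsIntegral X] (hdX : topologicalKrullDim X = 2) :
    IsSurf k (b ≫ s) ∧ IsProper b ∧ (Bir p → Bir (b ≫ p)) ∧ (NefOff k s p → NefOff k (b ≫ s) (b ≫ p)) ∧
      (∀ (W : Z.Modules) (_ : ExtPow.IsExtPow 2 (Omega.sheaf (b ≫ s)) W) {T : Scheme.{u}} (q : Z ⟶ T),
        NefOff k (b ≫ s) q → IsProper q → ∃ x, ∀ z, b z = y → q z = x) := by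
  obtain ⟨hsp, hsi, hsd, hsr⟩ := hs
  letI : Y.Over (Spec (CommRingCat.of k)) := ⟨s⟩
  letI : Z.Over (Spec (CommRingCat.of k)) := ⟨b ≫ s⟩
  haveI : IsProper (Y ↘ Spec (CommRingCat.of k)) := hsp
  haveI := hsi
  haveI : Smooth (Y ↘ Spec (CommRingCat.of k)) := smooth_surf k s ⟨hsp, hsi, hsd, hsr⟩
  haveI := EulerIneqLib.isNoetherian_proper (X := Y) k
  haveI := PointBlow.isProper hb
  obtain ⟨hint, hbir⟩ := integral_blowUp hb hd
  haveI := hint
  haveI : IsProper (Z ↘ Spec (CommRingCat.of k)) := inferInstanceAs (IsProper (b ≫ s))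
  haveI := EulerIneqLib.isNoetherian_proper (X := Z) k
  have hregZ := regular_blowUp hb hsr hd
  have hdZ : topologicalKrullDim Z = 2 := (S18439.dim_eq k s (b ≫ s) b hbir).trans hsd
  have hSZ : IsSurf k (b ≫ s) := ⟨inferInstance, hint, hdZ, hregZ⟩
  haveI : Smooth (Z ↘ Spec (CommRingCat.of k)) := smooth_surf k _ hSZ
  obtain ⟨P⟩ := exists_pointParams hy (hsr y) hd
  let I := BlowUp.exceptional b (pointIdeal hy)
  have hI : PicF.IsInvertible (ClSub.idealMod I) := (S8914.result _).2 hb.1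
  have hEint : IsIntegral (E b hy) := isIntegral_E hb P
  haveI := hEint
  let η := jE b hy (genericPoint (E b hy))
  have hηr : closure {η} = b ⁻¹' {y} := by
    rw [← range_jE_eq (π := b) (hw := hy)]
    have h1 := (genericPoint_spec (E b hy)).image (jE b hy).continuous
    rw [Set.image_univ, (jE b hy).isClosedEmbedding.isClosed_range.closure_eq] at h1
    exact h1.def
  let J : Z → Z.IdealSheafData := fun c => Scheme.IdealSheafData.vanishingIdeal (⟨closure {c}, isClosed_closure⟩ : Closeds Z)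
  have hJint : ∀ c, IsIntegral (J c).subscheme := fun c =>
    CurveLib.isIntegral_vanishingIdeal isClosed_closure isIrreducible_singleton.closure
  have hJs : ∀ c, ((J c).support : Set Z) = closure {c} := fun c => by
    rw [Scheme.IdealSheafData.coe_support_vanishingIdeal]; rfl
  have hIJ : J η = I := by
    haveI := hJint η
    haveI : IsReduced (J η).subscheme := inferInstance
    rw [← Scheme.IdealSheafData.ker_subschemeι (I := J η), CastLib.ker_eq_of_range_eq (J η).subschemeι (jE b hy) (by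
      rw [Scheme.IdealSheafData.range_subschemeι, hJs, hηr, range_jE_eq (π := b) (hw := hy)])]
    exact Scheme.IdealSheafData.ker_subschemeι _
  refine ⟨hSZ, inferInstance, fun ⟨V, hV, hVi⟩ => ?_, fun hnef _ W hW hWi c hc hqc => ?_, fun W hW T q hq hqp => ?_⟩
  · have hpy : IsClosed ({p y} : Set X) := by
      rw [← Set.image_singleton]; exact p.isClosedMap _ hy
    let V' : X.Opens := V ⊓ ⟨{p y}ᶜ, hpy.isOpen_compl⟩
    have hne : genericPoint X ≠ p y := fun h => by
      have h1 := genericPoint_closure (α := X)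
      rw [h, hpy.closure_eq] at h1
      have h0 := topologicalKrullDim_zero_of_discreteTopology ({p y} : Set X)
      rw [h1, (Homeomorph.Set.univ X).isHomeomorph.topologicalKrullDim_eq, hdX] at h0
      norm_num at h0
    refine ⟨V', ⟨genericPoint X, ((genericPoint_spec X).mem_open_set_iff V.2).2 (by simpa using hV), hne⟩, ?_⟩
    haveI := hVi
    haveI : IsIso (p ∣_ V') := isIso_restrict_le p inf_le_left
    have hA : IsIso (b ∣_ (p ⁻¹ᵁ V')) := isIso_restrict_compl hb _ fun h => h.2 rfl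
    have hB : IsIso (p ∣_ V') := inferInstance
    rw [morphismRestrict_comp]
    exact IsIso.comp_isIso' hA hB
  · haveI : Coh.IsQCoh (Omega.sheaf (Y ↘ Spec (CommRingCat.of k))) := OmegaAffLib.isQCoh_omega _
    obtain ⟨W₁, -, hW₁⟩ := ExtPowLib.exists_isExtPow (Omega.sheaf (Y ↘ Spec (CommRingCat.of k))) 2
    have hW₁i := (canonical_data_proper k hsd hW₁).1
    obtain ⟨⟨e⟩, -⟩ := PointBlow.nonempty_canonical_iso hb k (by exact_mod_cast hsd.le) hdZ P rfl hW₁ hW₁i hW
    have hpos := pull_nonneg k b rfl hW₁i hc (fun h1 => hnef inferInstance W₁ hW₁ hW₁i (b c) h1 hqc)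
    have hcne : ¬ closure {c} ⊆ (I.support : Set Z) := fun hsub => by
      have h1 : c ∈ Set.range (jE b hy) := by
        rw [Scheme.IdealSheafData.range_subschemeι]; exact hsub (subset_closure rfl)
      rw [range_jE_eq (π := b) (hw := hy)] at h1
      have h2 : b c = y := h1
      have h3 : (b ≫ p) c = p y := by rw [Scheme.Hom.comp_apply, h2]
      rw [h3, show closure {p y} = ({p y} : Set X) from (by
        rw [← Set.image_singleton, (p.isClosedMap _ hy).closure_eq])] at hqc
      have h0 := topologicalKrullDim_zero_of_discreteTopology ({p y} : Set X)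
      rw [hqc] at h0
      norm_num at h0
    haveI := hJint c
    have hJd : topologicalKrullDim ((J c).support : Set Z) = 1 := by rw [hJs, hc, Nat.cast_one]
    have hJi : PicF.IsInvertible (ClSub.idealMod (J c)) := invertible_curve k hdZ (J c) (hJint c) hJd
    haveI : JacobsonSpace Z := LocallyOfFiniteType.jacobsonSpace (Z ↘ Spec (CommRingCat.of k))
    have hneg : IntLib.pairing k (IntLib.compMod c) (Nakai.cl hI) ≤ 0 := by
      show IntLib.pairing k (ClSub.quotMod (J c)) _ ≤ 0
      rw [pairing_quotMod_cl k hJi, neg_nonpos, ← intNum_eq_form k (by exact_mod_cast hdZ.le) hJi hI]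
      exact (S18460.inter_nonneg_pos k hdZ (J c) I ((S8914.result _).1 hJi) hb.1
        (S18460.finite_inter_curve (J c) hJd I.support.isClosed (by rwa [hJs]))).1
    have hd2 : topologicalKrullDim (CohB1.support (IntLib.compMod c)) < ((2 : ℕ) : WithBot ℕ∞) :=
      lt_of_le_of_lt (((Topology.IsEmbedding.inclusion ((IntLib.support_quotMod_subset _).trans (hJs c).le)).isInducing.topologicalKrullDim_le).trans hc.le)
        (by norm_num)
    rw [← Nakai.cl_congr (AmpleLib.isInvertible_tensor hWi hI) (AmpleLib.isInvertible_pullback b hW₁i) e,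
      Nakai.cl_tensor hWi hI, map_add, map_add,
      Nakai.pairing_mem_eq_zero k (n := 2) (z := Nakai.cl hWi * Nakai.cl hI)
        (by rw [pow_two]; exact Ideal.mul_mem_mul (Nakai.cl_mem _) (Nakai.cl_mem _))
        (IntLib.isPiece_compMod c).coh hd2, add_zero] at hpos
    linarith
  · haveI := hqp
    have hWi := (canonical_data_proper k hdZ hW).1
    have hηd : topologicalKrullDim (closure {η} : Set Z) = ((1 : ℕ) : WithBot ℕ∞) := by
      obtain ⟨κ, _, e, -⟩ := exists_P1 hb P
      rw [hηr, ← range_jE_eq (π := b) (hw := hy),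
        ← (jE b hy).isEmbedding.toHomeomorph.isHomeomorph.topologicalKrullDim_eq,
        ← IsHomeomorph.topologicalKrullDim_eq _ e.hom.homeomorph.isHomeomorph, SurfPtBlow.dim_P1, Nat.cast_one]
    have hneg : IntLib.pairing k (IntLib.compMod η) (Nakai.cl hWi) = -1 := by
      show IntLib.pairing k (ClSub.quotMod (J η)) _ = _
      rw [hIJ, pairing_quotMod_cl k hI, form_exceptional_canonical hb k hdZ P rfl hI hW hWi]
    refine ⟨q η, fun z hz => ?_⟩
    have hzc : η ⤳ z := specializes_iff_mem_closure.2 (hηr.ge hz)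
    by_contra hne
    obtain ⟨δ, hδ⟩ := CycLib.exists_delta k Z
    have hle : topologicalKrullDim (closure {q η} : Set T) ≤ ((1 : ℕ) : WithBot ℕ∞) := by
      let m : ↥(closure ({η} : Set Z)) → ↥(closure ({q η} : Set T)) :=
        Set.MapsTo.restrict q _ _ fun w hw =>
          specializes_iff_mem_closure.1 ((specializes_iff_mem_closure.2 hw).map q.continuous)
      have hmc : Continuous m := q.continuous.restrict _
      have hmcl : IsClosedMap m := fun C hC => by
        have h1 : IsClosed (q '' (Subtype.val '' C)) :=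
          q.isClosedMap _ (isClosed_closure.isClosedEmbedding_subtypeVal.isClosedMap _ hC)
        have h2 : m '' C = Subtype.val ⁻¹' (q '' (Subtype.val '' C)) := by
          ext w
          constructor
          · rintro ⟨v, hv, rfl⟩; exact ⟨v.1, ⟨v, hv, rfl⟩, rfl⟩
          · rintro ⟨_, ⟨v, hv, rfl⟩, hvw⟩; exact ⟨v, hv, Subtype.ext hvw⟩
        rw [h2]
        exact h1.preimage continuous_subtype_val
      have hms : Function.Surjective m := fun w => by
        have h1 : closure {q η} ⊆ q '' closure {η} := closure_minimal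
          (Set.singleton_subset_iff.2 ⟨η, subset_closure rfl, rfl⟩) (q.isClosedMap _ isClosed_closure)
        obtain ⟨v, hv, hvw⟩ := h1 w.2
        exact ⟨⟨v, hv⟩, Subtype.ext hvw⟩
      haveI : QuasiSober ↥(closure ({η} : Set Z)) := (isClosed_closure (s := ({η} : Set Z))).isClosedEmbedding_subtypeVal.quasiSober
      haveI : QuasiSober ↥(closure ({q η} : Set T)) := (isClosed_closure (s := ({q η} : Set T))).isClosedEmbedding_subtypeVal.quasiSober
      exact (topologicalKrullDim_le_of_isClosedMap hmc hmcl hms).trans hηd.le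
    have hsp : q η ⤳ q z := hzc.map q.continuous
    haveI : JacobsonSpace Z := LocallyOfFiniteType.jacobsonSpace (Z ↘ Spec (CommRingCat.of k))
    have h1 : topologicalKrullDim (closure {q η} : Set T) = ((1 : ℕ) : WithBot ℕ∞) := by
      refine le_antisymm hle ?_
      rw [DimFormulaLib.topologicalKrullDim_closure_singleton, Nat.cast_one]
      have h := Order.height_add_one_le (lt_of_le_not_ge (Scheme.le_iff_specializes.2 hsp) fun h' =>
        hne ((Scheme.le_iff_specializes.1 h').antisymm hsp).eq)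
      exact_mod_cast le_trans (le_add_self) h
    exact absurd (hq inferInstance W hW hWi η hηd h1) (by rw [hneg]; norm_num)

/-- Isomorphisms. -/
theorem up_iso (k : Type u) [Field k] [IsAlgClosed k] {Z Y X : Scheme.{u}} (e : Z ≅ Y)
    (s : Y ⟶ Spec (CommRingCat.of k)) (hs : IsSurf k s) (p : Y ⟶ X) :
    IsSurf k (e.hom ≫ s) ∧ (Bir p → Bir (e.hom ≫ p)) ∧ (NefOff k s p → NefOff k (e.hom ≫ s) (e.hom ≫ p)) := by
  obtain ⟨hsp, hsi, hsd, hsr⟩ := hs
  letI : Y.Over (Spec (CommRingCat.of k)) := ⟨s⟩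
  letI : Z.Over (Spec (CommRingCat.of k)) := ⟨e.hom ≫ s⟩
  haveI : IsProper (Y ↘ Spec (CommRingCat.of k)) := hsp
  haveI := hsi
  haveI : Smooth (Y ↘ Spec (CommRingCat.of k)) := smooth_surf k s ⟨hsp, hsi, hsd, hsr⟩
  haveI : IsProper (Z ↘ Spec (CommRingCat.of k)) := inferInstanceAs (IsProper (e.hom ≫ s))
  haveI : Nonempty Z := ⟨e.inv (genericPoint Y)⟩
  haveI : IsIntegral Z := isIntegral_of_isOpenImmersion e.hom
  refine ⟨⟨inferInstance, inferInstance, (IsHomeomorph.topologicalKrullDim_eq _ e.hom.homeomorph.isHomeomorph).trans hsd,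
    fun z => ?_⟩, fun ⟨V, hV, hVi⟩ => ⟨V, hV, ?_⟩, fun hnef _ W hW hWi c hc hqc => ?_⟩
  · haveI := hsr (e.hom z)
    exact IsRegularLocalRing.of_ringEquiv (asIso (e.hom.stalkMap z)).commRingCatIsoToRingEquiv
  · have hA : IsIso (e.hom ∣_ (p ⁻¹ᵁ V)) := inferInstance
    rw [morphismRestrict_comp]
    exact IsIso.comp_isIso' hA hVi
  · haveI : Coh.IsQCoh (Omega.sheaf (Y ↘ Spec (CommRingCat.of k))) := OmegaAffLib.isQCoh_omega _
    obtain ⟨W₁, -, hW₁⟩ := ExtPowLib.exists_isExtPow (Omega.sheaf (Y ↘ Spec (CommRingCat.of k))) 2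
    have hW₁i := (canonical_data_proper k hsd hW₁).1
    have h2 := S15540.result Y (Spec (CommRingCat.of k)) Z (Spec (CommRingCat.of k)) (Y ↘ _) (Z ↘ _) e.hom (𝟙 _)
      (by rw [Category.comp_id]; rfl) 2 W₁ hW₁
    obtain ⟨ε⟩ := ExtPowLib.nonempty_iso hW h2
    rw [Nakai.cl_congr hWi (AmpleLib.isInvertible_pullback e.hom hW₁i) ε]
    exact pull_nonneg k e.hom rfl hW₁i hc (fun h1 => hnef inferInstance W₁ hW₁ hW₁i _ h1 hqc)

/-- Contraction sequences. -/
theorem up_seq (k : Type u) [Field k] [IsAlgClosed k] {Z Y : Scheme.{u}} {g : Z ⟶ Y}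
    (hg : Models.IsContractionSeq g) {X : Scheme.{u}} [IsIntegral X] (hdX : topologicalKrullDim X = 2)
    (s : Y ⟶ Spec (CommRingCat.of k)) (hs : IsSurf k s) (p : Y ⟶ X) [IsProper p] :
    IsSurf k (g ≫ s) ∧ IsProper g ∧ (Bir p → Bir (g ≫ p)) ∧ (NefOff k s p → NefOff k (g ≫ s) (g ≫ p)) := by
  induction hg with
  | iso e =>
    obtain ⟨h1, h2, h3⟩ := up_iso k e s hs p
    exact ⟨h1, inferInstance, h2, h3⟩
  | @step Z Y₁ Y E ι b r hι hE hb hr ih =>
    obtain ⟨h1, h1p, h2, h3⟩ := ih s hs p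
    obtain ⟨-, hbp, y, hy, -, -, hyd, hbl⟩ := hb
    haveI := h1p
    obtain ⟨g1, g1p, g2, g3, -⟩ := up_blowUp k b (r ≫ s) h1 hy hyd hbl (r ≫ p) hdX
    rw [Category.assoc, Category.assoc]
    exact ⟨g1, inferInstance, fun h => g2 (h2 h), fun h => g3 (h3 h)⟩

/-- Targets of contraction sequences. -/
theorem down_seq (k : Type u) [Field k] [IsAlgClosed k] {Z Y : Scheme.{u}} {g : Z ⟶ Y}
    (hg : Models.IsContractionSeq g) : ∀ (s : Y ⟶ Spec (CommRingCat.of k)), IsSurf k (g ≫ s) → IsSurf k s := by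
  induction hg with
  | @iso Z Y e =>
    intro s hs
    have h := (up_iso k e.symm (e.hom ≫ s) hs (X := Z) (𝟙 Z)).1
    rwa [Iso.symm_hom, Iso.inv_hom_id_assoc] at h
  | @step Z Y₁ Y E ι b r hι hE hb hr ih =>
    intro s hs
    refine ih s ?_
    rw [Category.assoc] at hs
    obtain ⟨hsp, hsi, hsd, hsr⟩ := hs
    obtain ⟨hN, hbp, y, hy, hrange, hyr, hyd, hbl⟩ := hb
    haveI := hN
    haveI := hbp
    haveI := hsi
    haveI := hsp
    have hreg : ∀ x : Y₁, IsRegularLocalRing (Y₁.presheaf.stalk x) := CastLib.regular_of_iso_compl b hsr hy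
      (isIso_restrict_compl hbl _ fun h => h rfl) hyr
    haveI : Surjective b := ⟨surjective_blowUp hbl hyr hyd⟩
    haveI : IrreducibleSpace Y₁ := by
      haveI : PreirreducibleSpace Y₁ := ⟨by
        rw [← Set.image_univ_of_surjective b.surjective]
        exact (IrreducibleSpace.isIrreducible_univ Z).isPreirreducible.image _ b.continuous.continuousOn⟩
      exact ⟨⟨b (genericPoint Z)⟩⟩
    haveI : ∀ x : Y₁, _root_.IsReduced (Y₁.presheaf.stalk x) := fun x => by
      haveI := hreg x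
      haveI := RegLocal.isDomain (Y₁.presheaf.stalk x)
      infer_instance
    haveI : IsReduced Y₁ := isReduced_of_isReduced_stalk _
    haveI : IsIntegral Y₁ := isIntegral_of_irreducibleSpace_of_isReduced _
    haveI : LocallyOfFiniteType (r ≫ s) := SubmFTLib.locallyOfFiniteType_of_proper b (r ≫ s)
    haveI : IsProper (r ≫ s) := ClSubLib.isProper_of_surjective b (r ≫ s)
    exact ⟨inferInstance, inferInstance, (S18439.dim_eq k (r ≫ s) (b ≫ r ≫ s) b
      (integral_blowUp hbl hyd).2).symm.trans hsd, hreg⟩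

/-- Morphisms to a surface with nef canonical class descend along contractions. -/
theorem descend (k : Type u) [Field k] [IsAlgClosed k] {X : Scheme.{u}} (sX : X ⟶ Spec (CommRingCat.of k))
    (hX : IsSurf k sX) (hnef : NefOff k sX (𝟙 X)) {Z X' : Scheme.{u}} {g : Z ⟶ X'} (hg : Models.IsContractionSeq g) :
    ∀ (s' : X' ⟶ Spec (CommRingCat.of k)), IsSurf k (g ≫ s') → ∀ (q : Z ⟶ X), q ≫ sX = g ≫ s' → Bir q →
      ∃ h : X' ⟶ X, g ≫ h = q := by
  induction hg with
  | iso e => intro s' hs q hq hbir; exact ⟨e.inv ≫ q, Iso.hom_inv_id_assoc _ _⟩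
  | @step Z Z₁ X' E ι b r hι hE hb hr ih =>
    intro s' hs q hq hbir
    obtain ⟨hXp, hXi, hXd, hXr⟩ := hX
    haveI := hXp
    haveI := hXi
    have hs1 : IsSurf k (r ≫ s') := down_seq k
      (Models.IsContractionSeq.step ι b (Iso.refl Z₁).hom hι hE hb (.iso (Iso.refl _))) (r ≫ s') (by
        rwa [Iso.refl_hom, Category.comp_id, ← Category.assoc])
    rw [Category.assoc] at hs hq
    obtain ⟨hsp, hsi, hsd, hsr⟩ := hs
    obtain ⟨hN, hbp, y, hy, hrange, hyr, hyd, hbl⟩ := hb
    haveI := hsp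
    haveI := hsi
    haveI := hN
    haveI := hs1.2.1
    haveI : IsProper (q ≫ sX) := by rw [hq]; infer_instance
    haveI : IsProper q := IsProper.of_comp q sX
    letI : X.Over (Spec (CommRingCat.of k)) := ⟨sX⟩
    haveI : IsProper (X ↘ Spec (CommRingCat.of k)) := hXp
    haveI := EulerIneqLib.isNoetherian_proper (X := X) k
    letI : Z.Over (Spec (CommRingCat.of k)) := ⟨b ≫ r ≫ s'⟩
    haveI : IsProper (Z ↘ Spec (CommRingCat.of k)) := hsp
    haveI := EulerIneqLib.isNoetherian_proper (X := Z) k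
    have hqnef : NefOff k (b ≫ r ≫ s') q := by
      have hseq := Groth.Agent.S7314.result q hbir hsr hsd hXr hXd
      obtain ⟨-, -, -, h⟩ := up_seq k hseq hXd sX ⟨hXp, hXi, hXd, hXr⟩ (𝟙 X)
      exact (hq ▸ (Category.comp_id q ▸ (h hnef : NefOff k (q ≫ sX) (q ≫ 𝟙 X)) : NefOff k (q ≫ sX) q) :
        NefOff k (b ≫ r ≫ s') q)
    haveI : Coh.IsQCoh (Omega.sheaf (b ≫ r ≫ s')) := OmegaAffLib.isQCoh_omega _
    obtain ⟨W, -, hW⟩ := ExtPowLib.exists_isExtPow (Omega.sheaf (b ≫ r ≫ s')) 2
    obtain ⟨x, hx⟩ := (up_blowUp k b (r ≫ s') hs1 hy hyd hbl (X := Z₁) (𝟙 Z₁) hs1.2.2.1).2.2.2.2 W hW q hqnef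
      inferInstance
    obtain ⟨q₁, hq₁, -⟩ := existsUnique_desc hbl hyr hyd q x hx
    have hq₁s : q₁ ≫ sX = r ≫ s' := by
      obtain ⟨ψ, -, huniq⟩ := existsUnique_desc hbl hyr hyd (b ≫ r ≫ s') ((r ≫ s') y) fun z hz => by
        rw [Scheme.Hom.comp_apply, hz]
      refine (huniq (q₁ ≫ sX) ?_).trans (huniq (r ≫ s') rfl).symm
      show b ≫ q₁ ≫ sX = b ≫ r ≫ s'
      rw [reassoc_of% hq₁, hq]
    have hbir₁ : Bir q₁ := by
      obtain ⟨V, hV, hVi⟩ := hbir
      have hqy : IsClosed ({q₁ y} : Set X) := by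
        haveI : IsProper (q₁ ≫ sX) := hq₁s ▸ hs1.1
        haveI : IsProper q₁ := IsProper.of_comp q₁ sX
        rw [← Set.image_singleton]; exact q₁.isClosedMap _ hy
      let V' : X.Opens := V ⊓ ⟨{q₁ y}ᶜ, hqy.isOpen_compl⟩
      have hne : genericPoint X ≠ q₁ y := fun h => by
        have h1 := genericPoint_closure (α := X)
        rw [h, hqy.closure_eq] at h1
        have h0 := topologicalKrullDim_zero_of_discreteTopology ({q₁ y} : Set X)
        rw [h1, (Homeomorph.Set.univ X).isHomeomorph.topologicalKrullDim_eq, hXd] at h0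
        norm_num at h0
      refine ⟨V', ⟨genericPoint X, ((genericPoint_spec X).mem_open_set_iff V.2).2 (by simpa using hV), hne⟩, ?_⟩
      haveI := hVi
      haveI h1 : IsIso (q ∣_ V') := isIso_restrict_le q inf_le_left
      haveI : IsIso (b ∣_ (q₁ ⁻¹ᵁ V')) := isIso_restrict_compl hbl _ fun h => h.2 rfl
      subst hq₁
      rw [morphismRestrict_comp] at h1
      exact @IsIso.of_isIso_comp_left _ _ _ _ _ (b ∣_ (q₁ ⁻¹ᵁ V')) (q₁ ∣_ V') (by assumption) h1
    obtain ⟨h, hh⟩ := ih s' hs1 q₁ hq₁s hbir₁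
    exact ⟨h, by rw [Category.assoc, hh, hq₁]⟩


/-- Let k be an algebraically closed field of characteristic zero and Y a smooth projective surface over
k (integral, proper and smooth over k, of dimension 2) one of whose plurigenera is nonzero: H⁰(Y,
W^{⊗N}) ≠ 0 for some N ≥ 1, where W is a second exterior power of Ω_{Y/k}. Let f : Y → X be a
k-morphism onto a minimal surface X which is a finite composite of contractions of exceptional
curves of the first kind (a sequence of blow-downs), minimality meaning that no closed subscheme of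
X is an exceptional curve of the first kind. Then Y has X as a strong minimal model: whenever g' :
Y' → Y is a finite composite of such contractions (Y' a blow-up of Y) and g : Y' → X' is a finite
composite of such contractions onto a k-scheme X' (a birational morphism to a smooth surface,
factored into blow-downs), there is a morphism h : X' → X with g ≫ h = g' ≫ f. -/
theorem result (k : Type u) [Field k] [IsAlgClosed k] [CharZero k]
    (Y : Scheme.{u}) [Y.Over (Spec (CommRingCat.of k))] [IsProper (Y ↘ (Spec (CommRingCat.of k)))]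
    [Smooth (Y ↘ (Spec (CommRingCat.of k)))] [IsIntegral Y] (hdimY : topologicalKrullDim Y = 2)
    (W : Y.Modules) (hW : ExtPow.IsExtPow 2 (Omega.sheaf (Y ↘ (Spec (CommRingCat.of k)))) W)
    (N : ℕ) (hN : 0 < N) (hP : Nontrivial (Coh.HH Y (CohB1.tensorPow W N) 0))
    (X : Scheme.{u}) [X.Over (Spec (CommRingCat.of k))] (f : Y ⟶ X)
    (hfk : f ≫ (X ↘ (Spec (CommRingCat.of k))) = (Y ↘ (Spec (CommRingCat.of k)))) (hf : Models.IsContractionSeq f)
    (hmin : ∀ (E : Scheme.{u}) (ι : E ⟶ X), IsClosedImmersion ι → ¬ Models.IsExcCurve ι)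
    (Y' : Scheme.{u}) (g' : Y' ⟶ Y) (hg' : Models.IsContractionSeq g')
    (X' : Scheme.{u}) [X'.Over (Spec (CommRingCat.of k))] (g : Y' ⟶ X')
    (hgk : g ≫ (X' ↘ (Spec (CommRingCat.of k))) = g' ≫ (Y ↘ (Spec (CommRingCat.of k)))) (hg : Models.IsContractionSeq g) :
    ∃ h : X' ⟶ X, g ≫ h = g' ≫ f := by
  have hY : IsSurf k (Y ↘ Spec (CommRingCat.of k)) := ⟨inferInstance, inferInstance, hdimY,
    fun y => ASp.isRegularLocalRing_stalk_of_smooth_field (Y ↘ Spec (CommRingCat.of k)) y⟩
  have hX : IsSurf k (X ↘ Spec (CommRingCat.of k)) := down_seq k hf _ (by rw [hfk]; exact hY)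
  have hX' := hX
  obtain ⟨hXp, hXi, hXd, hXr⟩ := hX'
  haveI := hXp
  haveI := hXi
  haveI := EulerIneqLib.isNoetherian_proper (X := X) k
  haveI : Smooth (X ↘ Spec (CommRingCat.of k)) := smooth_surf k _ hX
  haveI : IsProper f := by
    haveI : IsProper (f ≫ (X ↘ Spec (CommRingCat.of k))) := by rw [hfk]; infer_instance
    exact IsProper.of_comp f (X ↘ Spec (CommRingCat.of k))
  have hbirX : Bir (𝟙 X) := ⟨⊤, ⟨genericPoint X, trivial⟩, inferInstance⟩
  obtain ⟨-, -, hfb, -⟩ := up_seq k hf hXd (X ↘ Spec (CommRingCat.of k)) hX (𝟙 X)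
  have hfbir : Bir f := by have h := hfb hbirX; rwa [Category.comp_id] at h
  obtain ⟨hY', -, hgb, -⟩ := up_seq k hg' hXd (Y ↘ Spec (CommRingCat.of k)) hY f
  -- the canonical class of the minimal surface is nef
  have hnef : NefOff k (X ↘ Spec (CommRingCat.of k)) (𝟙 X) := by
    suffices hmain : ∀ (V : X.Modules), ExtPow.IsExtPow 2 (Omega.sheaf (X ↘ Spec (CommRingCat.of k))) V →
        ∀ (hVi : PicF.IsInvertible V) (η : X), topologicalKrullDim (closure {η} : Set X) = ((1 : ℕ) : WithBot ℕ∞) →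
          0 ≤ IntLib.pairing k (IntLib.compMod η) (Nakai.cl hVi) from
      fun _ V hV hVi η hη _ => hmain V hV hVi η hη
    intro V hV hVi η hη
    haveI := EulerIneqLib.isNoetherian_proper (X := Y) k
    let J := Scheme.IdealSheafData.vanishingIdeal (⟨closure {η}, isClosed_closure⟩ : Closeds X)
    have hJi : IsIntegral J.subscheme := CurveLib.isIntegral_vanishingIdeal isClosed_closure isIrreducible_singleton.closure
    have hJd : topologicalKrullDim (J.support : Set X) = 1 := by
      rw [Scheme.IdealSheafData.coe_support_vanishingIdeal]; exact hη.trans Nat.cast_one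
    show 0 ≤ IntLib.pairing k (ClSub.quotMod J) (Nakai.cl hVi)
    rw [Nakai.pairing_cl]
    obtain ⟨U, hU, hUi⟩ := hfbir
    haveI := hUi
    have hfin := Groth.Agent.S14407.result k 2 Y X hY.2.2.2 hXr (by exact_mod_cast hdimY) (by exact_mod_cast hXd)
      (f ⁻¹ᵁ U) U (by
        obtain ⟨u, hu⟩ := hU
        exact ⟨_, ((inv (f ∣_ U)) ⟨u, hu⟩).2⟩)
      (asIso (f ∣_ U)) (by rw [asIso_hom, morphismRestrict_ι_assoc, hfk]) W hW V hV N hN
    haveI := hP
    haveI := EulerIneqLib.finite_HH (k := k) (CurveLib.isCoh_of_isInvertible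
      (AmpleLib.isInvertible_tensorPow (canonical_data_proper k hdimY hW).1 N)) 0
    have hsec : Nontrivial (Coh.HH X (CohB1.tensorPow V N) 0) :=
      Module.nontrivial_of_finrank_pos (R := k) (by rw [← hfin]; exact Module.finrank_pos)
    refine Groth.Agent.S14056.result k X hXd V hV N hN hsec (fun E M hEi hEd hM hh1 heq => ?_) J hJi hJd
    haveI := hEi
    have hd1 : topologicalKrullDim E.subscheme = 1 := by
      rw [E.subschemeι.isEmbedding.toHomeomorph.isHomeomorph.topologicalKrullDim_eq]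
      rw [← hEd, ← Scheme.IdealSheafData.range_subschemeι]
    have hEI : PicF.IsInvertible (ClSub.idealMod E) := invertible_curve k hXd E hEi hEd
    obtain ⟨eM⟩ := id hM
    have hMi : PicF.IsInvertible M := AmpleLib.isInvertible_of_tensor_iso eM
    refine hmin E.subscheme E.subschemeι inferInstance ?_
    letI : E.subscheme.Over (Spec (CommRingCat.of k)) := ⟨E.subschemeι ≫ (X ↘ Spec (CommRingCat.of k))⟩
    haveI : IsProper (E.subscheme ↘ Spec (CommRingCat.of k)) := inferInstanceAs (IsProper (E.subschemeι ≫ _))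
    refine (CastLib.isExcCurve_iff (k := k) hd1 E.subschemeι (by
      rw [Scheme.IdealSheafData.ker_subschemeι]; exact (S8914.result _).1 hEI) (L := M) (by
      rw [Scheme.IdealSheafData.ker_subschemeι]; exact hM)).2 ⟨?_, ?_⟩
    · haveI := hh1
      exact Module.finrank_zero_of_subsingleton
    · rw [CurveLib.finrank_H0_structure]
      obtain ⟨q⟩ := nonempty_quotMod_ker_iso (X := X) E.subschemeι
      have h1 : Pic13.curveDeg k (E.subschemeι ≫ (X ↘ Spec (CommRingCat.of k)))
          ((Scheme.Modules.pullback E.subschemeι).obj M) = -1 := by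
        rw [Nakai.curveDeg_eq k hMi E.subschemeι (hd1.trans Nat.cast_one.symm), ← IntLib.pairing_iso k q,
          Scheme.IdealSheafData.ker_subschemeι, Nakai.pairing_cl, heq]
      rw [Nat.cast_one, ← h1]
      rfl
  obtain ⟨hZp, hZi, hZd, hZr⟩ := hY'
  haveI := hZp
  refine descend k (X ↘ Spec (CommRingCat.of k)) hX hnef hg (X' ↘ Spec (CommRingCat.of k)) ?_ (g' ≫ f) ?_ (hgb hfbir)
  · rw [hgk]; exact ⟨hZp, hZi, hZd, hZr⟩
  · rw [Category.assoc, hfk, hgk]

end Groth.Agent.S18453
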