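import Groth.Statements.S18454
import Groth.Agent.TwistShriek.SurfFund
import Groth.Agent.TwistShriek.SurfUnion
import Groth.Agent.TwistShriek.SurfSec
-- import your own Groth.Agent.* helpers here

set_option autoImplicit false
set_option backward.isDefEq.respectTransparency false
set_option maxHeartbeats 800000
set_option synthInstance.maxHeartbeats 200000
universe u
open CategoryTheory CategoryTheory.Limits AlgebraicGeometry TopologicalSpace
open Surf
open Groth.Agent Groth.Agent.TwistShriek

namespace Groth.Agent.S18454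

theorem num_zero {a b c : ℤ} (h1 : 0 ≤ a) (h2 : 0 ≤ b) (h3 : c ≤ 0) (h4 : c = b + a) : b = 0 := by omega
theorem num_add {a b : ℤ} (h1 : 0 ≤ -a) (h2 : b ≤ 0) : 0 ≤ -(b + a) := by omega

/-- A subscheme supported in a closed subscheme is contained in a thickening of it. -/
theorem exists_pow_le {X : Scheme.{u}} [IsNoetherian X] (I J : X.IdealSheafData)
    (h : (J.support : Set X) ⊆ (I.support : Set X)) : ∃ n : ℕ, I ^ (n + 1) ≤ J := by
  classical
  have hIJ : I ≤ J.radical := by
    rw [← Scheme.IdealSheafData.vanishingIdeal_support]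
    exact (Scheme.IdealSheafData.le_radical I).trans (by
      rw [← Scheme.IdealSheafData.vanishingIdeal_support]
      exact Scheme.IdealSheafData.gc.monotone_u (show (J.support : TopologicalSpace.Closeds X) ≤ I.support from h))
  obtain ⟨t, ht⟩ := isCompact_univ.elim_finite_subcover (fun U : X.affineOpens => (U.1 : Set X)) (fun U => U.1.2)
    fun x _ => by
      obtain ⟨_, ⟨U : X.Opens, hU, rfl⟩, hxU, -⟩ :=
        X.isBasis_affineOpens.exists_subset_of_mem_open (Set.mem_univ x) isOpen_univ
      exact Set.mem_iUnion.2 ⟨⟨U, hU⟩, hxU⟩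
  have hex : ∀ U : X.affineOpens, ∃ n, (I.ideal U) ^ n ≤ J.ideal U := fun U => by
    haveI := IsLocallyNoetherian.component_noetherian (X := X) U
    refine Ideal.exists_pow_le_of_le_radical_of_fg (hIJ U) (IsNoetherian.noetherian _)
  choose e he using hex
  refine ⟨t.sup e, Scheme.IdealSheafData.le_of_iSup_eq_top (fun U : t => (U : X.affineOpens)) ?_ fun U => ?_⟩
  · refine top_le_iff.1 fun x _ => ?_
    obtain ⟨U, hU, hxU⟩ := Set.mem_iUnion₂.1 (ht (Set.mem_univ x))
    exact TopologicalSpace.Opens.mem_iSup.2 ⟨⟨U, hU⟩, hxU⟩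
  · rw [Scheme.IdealSheafData.ideal_pow, Pi.pow_apply]
    exact (Ideal.pow_le_pow_right (Nat.le_succ_of_le (Finset.le_sup U.2))).trans (he U)

/-- Let k be an algebraically closed field of characteristic zero and X a smooth projective surface over
k (integral, proper and smooth over k, of dimension 2). Let C_1, …, C_r (r ≥ 1) be pairwise distinct
integral curves on X, with ideal sheaves I_i, forming a connected configuration whose intersection
matrix is negative definite: writing (A·B) = χ(O_X) − χ(A) − χ(B) + χ(A ⊗ B), there is no partition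
of the indices into two nonempty sets with (I_i·I_j) = 0 for all i, j on opposite sides, and Σ_{i,j}
a_i a_j (I_i·I_j) < 0 for every nonzero integer vector a. Let Z₀ be a fundamental cycle of the
configuration: a nonzero effective Cartier divisor supported on ⋃ C_i such that Z₀·C_i ≤ 0 for every
i, stated as deg(I_{Z₀}|_{C_i}) = χ(O_{C_i} ⊗ I_{Z₀}) − χ(O_{C_i}) ≥ 0, and such that every nonzero
effective Cartier divisor Z supported on ⋃ C_i with the same property satisfies Z ≥ Z₀ (I_Z ⊆
I_{Z₀}). Then H¹(Z, O_Z) = 0 for every nonzero effective Cartier divisor Z supported on ⋃ C_i if and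
only if χ(O_{Z₀}) = 1, i.e. the arithmetic genus of Z₀ is 0; cohomology and Euler characteristics
are computed on X through direct images. The published statement characterises rationality of the
normal surface singularity obtained by contracting the configuration over the complex numbers; this
row uses the equivalent condition that H¹(O_Z) = 0 for every nonzero effective divisor Z supported
on the configuration, which is what the printed algebraic argument establishes. -/
theorem result (k : Type u) [Field k] [IsAlgClosed k] [CharZero k]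
    (X : Scheme.{u}) [X.Over (Spec (CommRingCat.of k))] [IsProper (X ↘ (Spec (CommRingCat.of k)))]
    [Smooth (X ↘ (Spec (CommRingCat.of k)))] [IsIntegral X] (hdim : topologicalKrullDim X = 2)
    (r : ℕ) (hr : 0 < r) (C : Fin r → X.IdealSheafData) (hC : Function.Injective C)
    (hCi : ∀ i, IsIntegral (C i).subscheme) (hCd : ∀ i, topologicalKrullDim ((C i).support : Set X) = 1)
    (hconn : ∀ S : Finset (Fin r), S.Nonempty → Sᶜ.Nonempty →
      ∃ i ∈ S, ∃ j ∈ Sᶜ, FGA.intNum k X 2 ![(ClSub.idealMod (C i)), (ClSub.idealMod (C j))] (Coh.structureModule X) ≠ 0)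
    (hneg : ∀ a : Fin r → ℤ, a ≠ 0 →
      ∑ i, ∑ j, a i * a j * FGA.intNum k X 2 ![(ClSub.idealMod (C i)), (ClSub.idealMod (C j))] (Coh.structureModule X) < 0)
    (Z₀ : X.IdealSheafData) (hZ₀ : FGA.IsEffCartier Z₀) (hZ₀0 : Z₀ ≠ ⊤)
    (hZ₀s : (Z₀.support : Set X) ⊆ ⋃ i, ((C i).support : Set X))
    (hZ₀C : ∀ i, 0 ≤ Curv2.euler k X (CohB1.tensorMod (ClSub.quotMod (C i)) (ClSub.idealMod Z₀)) -
      Curv2.euler k X (ClSub.quotMod (C i)))
    (hZ₀min : ∀ Z : X.IdealSheafData, FGA.IsEffCartier Z → Z ≠ ⊤ → (Z.support : Set X) ⊆ ⋃ i, ((C i).support : Set X) →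
      (∀ i, 0 ≤ Curv2.euler k X (CohB1.tensorMod (ClSub.quotMod (C i)) (ClSub.idealMod Z)) -
        Curv2.euler k X (ClSub.quotMod (C i))) → Z ≤ Z₀) :
    (∀ Z : X.IdealSheafData, FGA.IsEffCartier Z → Z ≠ ⊤ → (Z.support : Set X) ⊆ ⋃ i, ((C i).support : Set X) →
        Subsingleton (Coh.HH X (ClSub.quotMod Z) 1)) ↔
      Curv2.euler k X (ClSub.quotMod Z₀) = 1 := by
    haveI := EulerIneqLib.isNoetherian_proper (X := X) k
    have hI := fun i => invertible_curve k hdim (C i) (hCi i) (hCd i)
    have hI0 : PicF.IsInvertible (ClSub.idealMod Z₀) := (S8914.result _).2 hZ₀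
    constructor
    · intro hrat
      refine le_antisymm (euler_fundamental_le k hdim C hCi hCd hZ₀ hZ₀0 hZ₀s hZ₀C hZ₀min) ?_
      haveI := hrat Z₀ hZ₀ hZ₀0 hZ₀s
      rw [euler_divisor k (dim_divisor k hdim hZ₀ hZ₀0).le,
        Module.finrank_zero_of_subsingleton (R := k) (M := Coh.HH X (ClSub.quotMod Z₀) 1)]
      have := h0_pos_divisor k hZ₀0
      omega
    intro he1 Z hZ hZ0 hZs
    have hneg₀ : ∀ i, Nakai.form k (Nakai.cl (hI i)) (Nakai.cl hI0) ≤ 0 := fun i => by
      have h := hZ₀C i
      rw [← Nakai.pairing_cl k (ClSub.quotMod (C i)) hI0, pairing_quotMod_cl k (hI i)] at h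
      exact neg_nonneg.1 h
    -- every curve lies in the cycle
    have hall : ∀ i, ((C i).support : Set X) ⊆ (Z₀.support : Set X) := by
      classical
      let S : Finset (Fin r) := Finset.univ.filter fun i => ((C i).support : Set X) ⊆ (Z₀.support : Set X)
      by_contra hnot
      push Not at hnot
      obtain ⟨i₀, hi₀⟩ := hnot
      have hSc : Sᶜ.Nonempty := ⟨i₀, Finset.mem_compl.2 fun h => hi₀ (Finset.mem_filter.1 h).2⟩
      obtain ⟨D, hD, hDd, hDs⟩ := exists_curve_in k hdim hZ₀ hZ₀0
      obtain ⟨i₁, rfl⟩ := curve_eq_of_le k hdim C hCi hCd hD hDd (hDs.trans hZ₀s)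
      obtain ⟨i, hi, j, hj, hij⟩ := hconn S ⟨i₁, Finset.mem_filter.2 ⟨Finset.mem_univ _, hDs⟩⟩ hSc
      have hi' : ((C i).support : Set X) ⊆ (Z₀.support : Set X) := (Finset.mem_filter.1 hi).2
      have hj' : ¬ ((C j).support : Set X) ⊆ (Z₀.support : Set X) := fun h =>
        Finset.mem_compl.1 hj (Finset.mem_filter.2 ⟨Finset.mem_univ _, h⟩)
      rw [intNum_eq_form k hdim.le (hI i) (hI j)] at hij
      obtain ⟨R, hR, hZR⟩ := exists_eq_curve_mul k hdim (hCi i) (hCd i) hZ₀ hi'
      have hRI : PicF.IsInvertible (ClSub.idealMod R) := (S8914.result _).2 hR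
      have hRj : ¬ ((C j).support : Set X) ⊆ (R.support : Set X) := fun h => hj' (h.trans fun x hx => by
        rw [hZR, Scheme.IdealSheafData.support_mul]; exact Or.inr hx)
      have h1 := form_ideal_nonneg k hdim hR hRI (hCi j) (hCd j) (hI j) hRj
      have h2 := form_curves_nonneg k hdim (hCi i) (hCd i) (hI i) (hCi j) (hCd j) (hI j) (fun h => hj' (h ▸ hi'))
      have h3 := hneg₀ j
      subst hZR
      have h4 := form_ideal_mul k hdim (hI i) hRI hI0 (z := Nakai.cl (hI j)) (Nakai.cl_mem _)
      rw [Nakai.form_comm k (Nakai.cl hI0)] at h4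
      exact hij (num_zero h1 h2 h3 h4)
    have hsup : (Z.support : Set X) ⊆ (Z₀.support : Set X) := hZs.trans (Set.iUnion_subset hall)
    obtain ⟨n, hn⟩ := exists_pow_le Z₀ Z hsup
    -- vanishing on the powers
    have hpow : ∀ n : ℕ, FGA.IsEffCartier (Z₀ ^ (n + 1)) ∧ (∀ hM : PicF.IsInvertible (ClSub.idealMod (Z₀ ^ (n + 1))),
        ∀ i, 0 ≤ IntLib.pairing k (ClSub.quotMod (C i)) (Nakai.cl hM)) ∧
        Subsingleton (Coh.HH X (ClSub.quotMod (Z₀ ^ (n + 1))) 1) := by
      intro n
      have hO := ParaFLib.isInvertible_structureModule (X := X)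
      induction n with
      | zero =>
        rw [zero_add, pow_one]
        refine ⟨hZ₀, fun hM i => ?_, @ProjCoh.subsingleton_of_iso _ _ _ (AmpleLib.unitR (ClSub.quotMod Z₀)) 1
          (subsingleton_H1_fundamental k hdim C hCi hCd hZ₀ hZ₀0 hZ₀s hZ₀C hZ₀min he1 hO fun i => ?_)⟩
        · rw [Nakai.pairing_cl]; exact hZ₀C i
        · rw [CurveLib.euler_iso (K := k) (AmpleLib.unitR (ClSub.quotMod (C i))), sub_self]
      | succ n ih =>
        obtain ⟨hE, hdeg, h3⟩ := ih
        have hM := (S8914.result _).2 hE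
        rw [pow_succ' Z₀ (n + 1)]
        refine ⟨BlowCompLib.isEffCartier_mul hZ₀ hE, fun hM' i => ?_, ?_⟩
        · rw [pairing_quotMod_cl k (hI i), Nakai.form_comm, form_ideal_mul k hdim hI0 hM hM' (Nakai.cl_mem _)]
          have h1 := hdeg hM i
          rw [pairing_quotMod_cl k (hI i), Nakai.form_comm] at h1
          have h2 := hneg₀ i
          rw [Nakai.form_comm] at h2
          exact num_add h1 h2
        · have hMO := AmpleLib.isInvertible_tensor hM hO
          refine @ProjCoh.subsingleton_of_iso _ _ _ (AmpleLib.unitR (ClSub.quotMod (Z₀ * Z₀ ^ (n + 1)))) 1 (peel_twist hO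
            (subsingleton_H1_fundamental k hdim C hCi hCd hZ₀ hZ₀0 hZ₀s hZ₀C hZ₀min he1 hMO fun i => ?_)
            (@ProjCoh.subsingleton_of_iso _ _ _ (AmpleLib.unitR (ClSub.quotMod (Z₀ ^ (n + 1)))).symm 1 h3))
          rw [← Nakai.pairing_cl k _ hMO, Nakai.cl_congr hMO hM (AmpleLib.unitR _)]
          exact hdeg hM i
    obtain ⟨-, -, hv⟩ := hpow n
    haveI := hv
    have hle : Z₀ ^ (n + 1) ≤ Z := hn
    have hd : topologicalKrullDim ((Z₀ ^ (n + 1)).support : Set X) ≤ 1 := by
      rw [Scheme.IdealSheafData.support_pow_succ]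
      exact (dim_divisor k hdim hZ₀ hZ₀0).le
    exact (surjective_hMap_one (k := k) hle hd).subsingleton

end Groth.Agent.S18454
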