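import Groth.Statements.S18456
import Groth.Agent.TwistShriek.SurfH1
-- import your own Groth.Agent.* helpers here

set_option autoImplicit false
set_option backward.isDefEq.respectTransparency false
set_option maxHeartbeats 800000
set_option synthInstance.maxHeartbeats 200000
universe u
open CategoryTheory CategoryTheory.Limits AlgebraicGeometry TopologicalSpace
open Surf
open Groth.Agent Groth.Agent.TwistShriek

namespace Groth.Agent.S18456

/-- Let k be an algebraically closed field of characteristic zero and X a smooth projective surface over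
k (integral, proper and smooth over k, of dimension 2). Let C_1, …, C_r be pairwise distinct
integral curves on X with ideal sheaves I_i, each with H¹(C_i, O_{C_i}) = 0 (so C_i ≅ P¹) and
self-intersection (I_i·I_i) = −2, and with negative definite intersection matrix: Σ_{i,j} a_i a_j
(I_i·I_j) < 0 for every nonzero integer vector a, where (A·B) = χ(O_X) − χ(A) − χ(B) + χ(A ⊗ B).
Then H¹(Z, O_Z) = 0 for every nonzero effective Cartier divisor Z on X supported on ⋃ C_i,
cohomology computed on X through the direct image of O_Z. The published statement concludes that the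
singularity obtained by contracting the configuration over the complex numbers is rational; the
vanishing for all supported nonzero effective divisors is the form of rationality the printed
argument establishes, and this row states that form. -/
theorem result (k : Type u) [Field k] [IsAlgClosed k] [CharZero k]
    (X : Scheme.{u}) [X.Over (Spec (CommRingCat.of k))] [IsProper (X ↘ (Spec (CommRingCat.of k)))]
    [Smooth (X ↘ (Spec (CommRingCat.of k)))] [IsIntegral X] (hdim : topologicalKrullDim X = 2)
    (r : ℕ) (C : Fin r → X.IdealSheafData) (hC : Function.Injective C)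
    (hCi : ∀ i, IsIntegral (C i).subscheme) (hCd : ∀ i, topologicalKrullDim ((C i).support : Set X) = 1)
    (hCrat : ∀ i, Subsingleton (Coh.HH X (ClSub.quotMod (C i)) 1))
    (hC2 : ∀ i, FGA.intNum k X 2 ![(ClSub.idealMod (C i)), (ClSub.idealMod (C i))] (Coh.structureModule X) = -2)
    (hneg : ∀ a : Fin r → ℤ, a ≠ 0 →
      ∑ i, ∑ j, a i * a j * FGA.intNum k X 2 ![(ClSub.idealMod (C i)), (ClSub.idealMod (C j))] (Coh.structureModule X) < 0)
    (Z : X.IdealSheafData) (hZ : FGA.IsEffCartier Z) (hZ0 : Z ≠ ⊤)
    (hZs : (Z.support : Set X) ⊆ ⋃ i, ((C i).support : Set X)) :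
    Subsingleton (Coh.HH X (ClSub.quotMod Z) 1) := by
    haveI := EulerIneqLib.isNoetherian_proper (X := X) k
    obtain ⟨W, hW⟩ := exists_canonical_proper (X := X) k
    have hWi := (canonical_data_proper k hdim hW).1
    refine subsingleton_H1_of_euler k hdim hW hWi hZ fun A B hA hB hAne hAB => ?_
    have hAI : PicF.IsInvertible (ClSub.idealMod A) := (S8914.result _).2 hA
    have hAs : (A.support : Set X) ⊆ ⋃ i, ((C i).support : Set X) := fun x hx => hZs (by
      rw [hAB, Scheme.IdealSheafData.support_mul]; exact Or.inl hx)
    obtain ⟨a, -, ha0, he⟩ := exists_coeffs k hdim C hCi hCd hA hAI hAs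
    have hI := fun i => invertible_curve k hdim (C i) (hCi i) (hCd i)
    have hCW : ∀ i, Nakai.form k (Nakai.cl (hI i)) (Nakai.cl hWi) = 0 := fun i => by
      have h1 := form_adjunction k hdim hW hWi (hI i)
      have h2 := hC2 i
      rw [intNum_eq_form k hdim.le (hI i) (hI i)] at h2
      rw [h2, (euler_curve_eq k (hCi i) (hCd i)).1] at h1
      haveI := hCrat i
      rw [Module.finrank_zero_of_subsingleton (R := k) (M := Coh.HH X (ClSub.quotMod (C i)) 1)] at h1
      push_cast at h1
      linarith
    have hAW : Nakai.form k (Nakai.cl hAI) (Nakai.cl hWi) = 0 := by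
      rw [he _ (Nakai.cl_mem _)]
      exact Finset.sum_eq_zero fun i _ => by rw [hCW i, mul_zero]
    have hAA : Nakai.form k (Nakai.cl hAI) (Nakai.cl hAI) < 0 := by
      refine lt_of_eq_of_lt ?_ (hneg a (ha0 hAne))
      rw [he _ (Nakai.cl_mem _)]
      refine Finset.sum_congr rfl fun i _ => ?_
      rw [Nakai.form_comm k _ (Nakai.cl hAI), he _ (Nakai.cl_mem _), Finset.mul_sum]
      refine Finset.sum_congr rfl fun j _ => ?_
      rw [intNum_eq_form k hdim.le (hI i) (hI j), Nakai.form_comm k (Nakai.cl (hI i))]
      ring
    have h1 := form_adjunction k hdim hW hWi hAI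
    rw [hAW] at h1
    linarith

end Groth.Agent.S18456
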