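import Groth.Statements.S18457
import Mathlib

set_option autoImplicit false
open Finset
open Surf

namespace Groth.Agent.S18457

/-- In the Picard lattice of the plane blown up at n ≤ 8 points, with basis h, e_1, …, e_n, form h² = 1,
e_i² = −1, all other products 0, and anticanonical class D = 3h − Σ e_i, let d·h − Σ a_i e_i be a
class with all a_i ≥ 0 (the class of the strict transform of a degree-d plane curve having
multiplicity a_i at the i-th point) which is a (−2)-class orthogonal to D, that is d² − Σ a_i² = −2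
and 3d = Σ a_i. Then one of the following holds: d = 1 and every a_i is 0 or 1 with exactly three
equal to 1; d = 2 and every a_i is 0 or 1 with exactly six equal to 1; d = 3, n = 8, and one a_i
equals 2 while the remaining seven equal 1. The published statement is geometric: under the
general-position hypotheses on the points, no smooth rational curve on the blown-up plane is
orthogonal to D; this row is the lattice enumeration its proof carries out (a line through three of
the points, a conic through six, a cubic through all eight and singular at one). -/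
theorem result (n : ℕ) (hn : n ≤ 8)
    (d : ℤ) (a : Fin n → ℤ) (ha : ∀ i, 0 ≤ a i)
    (hsq : d ^ 2 - ∑ i, (a i) ^ 2 = -2) (hK : 3 * d = ∑ i, a i) :
    (d = 1 ∧ (∀ i, a i = 0 ∨ a i = 1) ∧ (Finset.univ.filter (fun i => a i = 1)).card = 3) ∨
      (d = 2 ∧ (∀ i, a i = 0 ∨ a i = 1) ∧ (Finset.univ.filter (fun i => a i = 1)).card = 6) ∨
      (d = 3 ∧ n = 8 ∧ ∃ j, a j = 2 ∧ ∀ i, i ≠ j → a i = 1) := by
  classical
  have hd0 : 0 ≤ d := by linarith [Finset.sum_nonneg (s := Finset.univ) fun i _ => ha i]
  have hn' : (n : ℤ) ≤ 8 := by exact_mod_cast hn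
  have hq : ∀ x y : ℤ, 0 ≤ ∑ i, (x * a i - y) ^ 2 := fun x y => Finset.sum_nonneg fun i _ => sq_nonneg _
  have hexp : ∀ x y : ℤ, ∑ i, (x * a i - y) ^ 2 = x ^ 2 * (d ^ 2 + 2) - 2 * x * y * (3 * d) + n * y ^ 2 := by
    intro x y
    simp only [sub_sq, mul_pow, Finset.sum_sub_distrib, Finset.sum_add_distrib, Finset.sum_const, Finset.card_univ, Fintype.card_fin, nsmul_eq_mul]
    rw [← Finset.mul_sum, show d ^ 2 + 2 = ∑ i, (a i) ^ 2 by linarith, hK, Finset.mul_sum, Finset.mul_sum]
    congr 2
    exact Finset.sum_congr rfl fun i _ => by ring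
  have hd4 : d ≤ 4 := by
    have h := hq 8 (3 * d); rw [hexp] at h
    nlinarith [sq_nonneg d]
  have hprod : ∀ i, 0 ≤ a i * (a i - 1) := fun i => by
    rcases (ha i).eq_or_lt with h | h
    · simp [← h]
    · nlinarith
  have hP : ∑ i, a i * (a i - 1) = d ^ 2 + 2 - 3 * d := by
    simp only [mul_sub, mul_one, ← sq, Finset.sum_sub_distrib]; linarith
  have hsmall : d = 1 ∨ d = 2 → (∀ i, a i = 0 ∨ a i = 1) ∧ ((Finset.univ.filter (fun i => a i = 1)).card : ℤ) = 3 * d := by
    intro hd
    have h0 : ∑ i, a i * (a i - 1) = 0 := by rw [hP]; rcases hd with rfl | rfl <;> norm_num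
    have h01 : ∀ i, a i = 0 ∨ a i = 1 := fun i => by
      rcases mul_eq_zero.mp ((Finset.sum_eq_zero_iff_of_nonneg fun i _ => hprod i).mp h0 i (Finset.mem_univ i)) with h | h <;> omega
    refine ⟨h01, ?_⟩
    rw [hK, Finset.natCast_card_filter]
    exact Finset.sum_congr rfl fun i _ => by rcases h01 i with h | h <;> simp [h]
  interval_cases d
  · have h0 : ∀ i, a i = 0 := fun i => (Finset.sum_eq_zero_iff_of_nonneg fun i _ => ha i).mp (by linarith) i (Finset.mem_univ i)
    simp [h0] at hsq
  · obtain ⟨h1, h2⟩ := hsmall (Or.inl rfl)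
    exact Or.inl ⟨rfl, h1, by omega⟩
  · obtain ⟨h1, h2⟩ := hsmall (Or.inr rfl)
    exact Or.inr (Or.inl ⟨rfl, h1, by omega⟩)
  · refine Or.inr (Or.inr ⟨rfl, ?_⟩)
    have h2 : ∑ i, a i * (a i - 1) = 2 := by rw [hP]; norm_num
    obtain ⟨j, hj⟩ : ∃ j, a j * (a j - 1) ≠ 0 := by
      by_contra! hcon; rw [Finset.sum_eq_zero fun i _ => hcon i] at h2; omega
    have hjge : 2 ≤ a j := by
      have := ha j
      have h0 : a j ≠ 0 := fun h => hj (by simp [h])
      have h1 : a j ≠ 1 := fun h => hj (by simp [h])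
      omega
    have hsplit := Finset.add_sum_erase Finset.univ (fun i => a i * (a i - 1)) (Finset.mem_univ j)
    have hnn := Finset.sum_nonneg (s := Finset.univ.erase j) fun i _ => hprod i
    have hj2 : a j = 2 := by nlinarith
    have hz : ∑ i ∈ Finset.univ.erase j, a i * (a i - 1) = 0 := by rw [hj2] at hsplit; linarith
    have hle : ∀ i ∈ Finset.univ.erase j, a i ≤ 1 := fun i hi => by
      rcases mul_eq_zero.mp ((Finset.sum_eq_zero_iff_of_nonneg fun i _ => hprod i).mp hz i hi) with h | h <;> omega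
    have hs7 : ∑ i ∈ Finset.univ.erase j, a i = 7 := by
      have := Finset.add_sum_erase Finset.univ a (Finset.mem_univ j); linarith
    have hc : (7 : ℤ) ≤ ((Finset.univ.erase j).card : ℤ) := by
      rw [← hs7]
      calc ∑ i ∈ Finset.univ.erase j, a i ≤ ∑ i ∈ Finset.univ.erase j, (1 : ℤ) := Finset.sum_le_sum hle
        _ = _ := by simp
    have hce : (Finset.univ.erase j).card = n - 1 := by simp
    have hn8 : n = 8 := by omega
    refine ⟨hn8, j, hj2, fun i hi => ?_⟩
    have hz' : ∑ k ∈ Finset.univ.erase j, (1 - a k) = 0 := by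
      rw [Finset.sum_sub_distrib, hs7, Finset.sum_const, hce, hn8]; norm_num
    have := (Finset.sum_eq_zero_iff_of_nonneg fun k hk => sub_nonneg.mpr (hle k hk)).mp hz' i (Finset.mem_erase.mpr ⟨hi, Finset.mem_univ i⟩)
    linarith
  · exfalso
    have h := hexp 2 3
    have h' : ∑ i, (2 * a i - 3) ^ 2 ≤ 0 := by rw [h]; linarith
    have hz := (Finset.sum_eq_zero_iff_of_nonneg fun i _ => sq_nonneg (2 * a i - 3)).mp (le_antisymm h' (hq 2 3))
    rcases Nat.eq_zero_or_pos n with rfl | hpos
    · simp at hK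
    · have := pow_eq_zero_iff (n := 2) (by norm_num) |>.mp (hz ⟨0, hpos⟩ (Finset.mem_univ _))
      omega

end Groth.Agent.S18457
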