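import Groth.Statements.S18458
import Groth.Agent.TwistShriek.NumCurves
-- import your own Groth.Agent.* helpers here

set_option autoImplicit false
set_option backward.isDefEq.respectTransparency false
set_option maxHeartbeats 800000
set_option synthInstance.maxHeartbeats 200000
universe u
open CategoryTheory CategoryTheory.Limits AlgebraicGeometry TopologicalSpace
open Surf
open Groth.Agent Groth.Agent.TwistShriek

namespace Groth.Agent.S18458

/-- Let k be an algebraically closed field of characteristic zero and X a smooth projective surface over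
k (integral, proper and smooth over k, of dimension 2, carrying an ample invertible module). Let
C_1, …, C_r be pairwise distinct integral curves on X with ideal sheaves I_i whose intersection
matrix is negative definite: Σ_{i,j} a_i a_j (I_i·I_j) < 0 for every nonzero integer vector a, where
(A·B) = χ(O_X) − χ(A) − χ(B) + χ(A ⊗ B). Then there is an invertible O_X-module L (the sheaf of a
divisor H) which is nef and big and is orthogonal to exactly the curves C_i: writing (L·C) = χ(O_C ⊗
L) − χ(O_C) for the degree of L on an integral curve C, one has (L·C) ≥ 0 for every integral curve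
C, (L·L) > 0, and (L·C) = 0 if and only if C is one of the C_i. -/
theorem result (k : Type u) [Field k] [IsAlgClosed k] [CharZero k]
    (X : Scheme.{u}) [X.Over (Spec (CommRingCat.of k))] [IsProper (X ↘ (Spec (CommRingCat.of k)))]
    [Smooth (X ↘ (Spec (CommRingCat.of k)))] [IsIntegral X] (hdim : topologicalKrullDim X = 2)
    (hproj : ∃ H : X.Modules, CohB1.IsAmple H)
    (r : ℕ) (C : Fin r → X.IdealSheafData) (hC : Function.Injective C)
    (hCi : ∀ i, IsIntegral (C i).subscheme) (hCd : ∀ i, topologicalKrullDim ((C i).support : Set X) = 1)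
    (hneg : ∀ a : Fin r → ℤ, a ≠ 0 →
      ∑ i, ∑ j, a i * a j * FGA.intNum k X 2 ![(ClSub.idealMod (C i)), (ClSub.idealMod (C j))] (Coh.structureModule X) < 0) :
    ∃ L : X.Modules, PicF.IsInvertible L ∧
      (∀ D : X.IdealSheafData, IsIntegral D.subscheme → topologicalKrullDim (D.support : Set X) = 1 →
        0 ≤ Curv2.euler k X (CohB1.tensorMod (ClSub.quotMod D) L) - Curv2.euler k X (ClSub.quotMod D)) ∧
      0 < FGA.intNum k X 2 ![L, L] (Coh.structureModule X) ∧
      (∀ D : X.IdealSheafData, IsIntegral D.subscheme → topologicalKrullDim (D.support : Set X) = 1 →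
        (Curv2.euler k X (CohB1.tensorMod (ClSub.quotMod D) L) - Curv2.euler k X (ClSub.quotMod D) = 0 ↔
          ∃ i, D = C i)) := by
    classical
    haveI := EulerIneqLib.isNoetherian_proper (X := X) k
    obtain ⟨H, hH⟩ := hproj
    have hCI : ∀ i, PicF.IsInvertible (ClSub.idealMod (C i)) := fun i => invertible_curve k hdim (C i) (hCi i) (hCd i)
    obtain ⟨G, hG⟩ : ∃ G : Matrix (Fin r) (Fin r) ℤ, G = Matrix.of fun i j =>
        Nakai.form k (Nakai.cl (hCI i)) (Nakai.cl (hCI j)) := ⟨_, rfl⟩
    have hneg' : ∀ a : Fin r → ℤ, a ≠ 0 → ∑ i, ∑ j, a i * a j * G i j < 0 := fun a ha => by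
      refine lt_of_eq_of_lt ?_ (hneg a ha)
      exact Finset.sum_congr rfl fun i _ => Finset.sum_congr rfl fun j _ => by
        rw [hG, intNum_eq_form k hdim.le (hCI i) (hCI j)]; rfl
    have hdet : G.det ≠ 0 := fun h0 => by
      obtain ⟨v, hv, hv0⟩ := Matrix.exists_vecMul_eq_zero_iff.2 h0
      refine (hneg' v hv).ne ?_
      rw [Finset.sum_comm]
      refine Finset.sum_eq_zero fun j _ => ?_
      rw [show ∑ i, v i * v j * G i j = v j * ∑ i, v i * G i j by
        rw [Finset.mul_sum]; exact Finset.sum_congr rfl fun i _ => by ring]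
      rw [show ∑ i, v i * G i j = 0 from congrFun hv0 j, mul_zero]
    obtain ⟨b, hb⟩ : ∃ b : Fin r → ℤ, b = fun j => Nakai.form k (Nakai.cl (hCI j)) (Nakai.cl hH.1) := ⟨_, rfl⟩
    obtain ⟨d, hd⟩ : ∃ d : ℤ, d = G.det * G.det := ⟨_, rfl⟩
    have hd0 : 0 < d := hd ▸ mul_self_pos.2 hdet
    obtain ⟨s, hs⟩ : ∃ s : Fin r → ℤ, s = G.det • Matrix.vecMul b G.adjugate := ⟨_, rfl⟩
    have hsG : ∀ j, ∑ i, s i * G i j = d * b j := fun j => by
      have h : Matrix.vecMul s G = d • b := by
        rw [hs, Matrix.smul_vecMul, Matrix.vecMul_vecMul, Matrix.adjugate_mul, Matrix.vecMul_smul, Matrix.vecMul_one,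
          smul_smul, hd]
      exact congrFun h j
    have hoff : ∀ i j, i ≠ j → 0 ≤ G i j := fun i j hij => by
      rw [hG]
      exact form_curves_nonneg k hdim (hCi i) (hCd i) (hCI i) (hCi j) (hCd j) (hCI j) (fun h => hij (hC h))
    have hs0 : ∀ i, 0 ≤ s i := TwistShriek.NumForm.nonneg_of_negDef hoff hneg' fun j => by
      rw [hsG j, hb]
      exact mul_nonpos_of_nonneg_of_nonpos hd0.le (form_ideal_neg k hdim.le hH (hCI j) (hCd j)).le
    obtain ⟨u, hu⟩ : ∃ u, u = d • Nakai.cl hH.1 - ∑ i, s i • Nakai.cl (hCI i) := ⟨_, rfl⟩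
    have hum : u ∈ Nakai.Aug X := hu ▸ sub_mem (zsmul_mem (Nakai.cl_mem _) _) (sum_mem fun i _ => zsmul_mem (Nakai.cl_mem _) _)
    obtain ⟨L, hL, hLu⟩ := Nakai.mem_clsSub hum
    have hform : ∀ z ∈ Nakai.Aug X, Nakai.form k (Nakai.cl hL) z =
        d * Nakai.form k (Nakai.cl hH.1) z - ∑ i, s i * Nakai.form k (Nakai.cl (hCI i)) z := fun z hz => by
      rw [Nakai.form_congr k hdim hLu hz, hu, Nakai.form, sub_mul, map_sub, smul_mul_assoc, map_zsmul, smul_eq_mul,
        Finset.sum_mul, map_sum]
      congr 1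
      exact Finset.sum_congr rfl fun i _ => by rw [smul_mul_assoc, map_zsmul, smul_eq_mul]
    have hdeg : ∀ (D : X.IdealSheafData) (hDI : PicF.IsInvertible (ClSub.idealMod D)),
        Curv2.euler k X (CohB1.tensorMod (ClSub.quotMod D) L) - Curv2.euler k X (ClSub.quotMod D) =
          d * (- Nakai.form k (Nakai.cl hH.1) (Nakai.cl hDI)) + ∑ i, s i * Nakai.form k (Nakai.cl (hCI i)) (Nakai.cl hDI) := by
      intro D hDI
      rw [← Nakai.pairing_cl k _ hL, pairing_quotMod_cl k hDI, Nakai.form_comm, hform _ (Nakai.cl_mem hDI)]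
      ring
    have hzero : ∀ i, Curv2.euler k X (CohB1.tensorMod (ClSub.quotMod (C i)) L) - Curv2.euler k X (ClSub.quotMod (C i)) = 0 :=
      fun i => by
        rw [hdeg _ (hCI i)]
        have h := hsG i
        rw [hG, hb] at h
        simp only [Matrix.of_apply] at h
        rw [h, Nakai.form_comm]
        ring
    have hpos : ∀ (D : X.IdealSheafData), IsIntegral D.subscheme → topologicalKrullDim (D.support : Set X) = 1 →
        (¬ ∃ i, D = C i) → 0 < Curv2.euler k X (CohB1.tensorMod (ClSub.quotMod D) L) - Curv2.euler k X (ClSub.quotMod D) := by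
      intro D hDi hDd hne
      have hDI := invertible_curve k hdim D hDi hDd
      rw [hdeg D hDI]
      refine add_pos_of_pos_of_nonneg (mul_pos hd0 ?_) (Finset.sum_nonneg fun i _ => mul_nonneg (hs0 i)
        (form_curves_nonneg k hdim (hCi i) (hCd i) (hCI i) hDi hDd hDI fun h => hne ⟨i, h.symm⟩))
      rw [Nakai.form_comm]
      exact neg_pos.2 (form_ideal_neg k hdim.le hH hDI hDd)
    refine ⟨L, hL, fun D hDi hDd => ?_, ?_, fun D hDi hDd => ⟨fun h0 => ?_, ?_⟩⟩
    · by_cases hne : ∃ i, D = C i
      · obtain ⟨i, rfl⟩ := hne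
        exact (hzero i).ge
      · exact (hpos D hDi hDd hne).le
    · rw [intNum_eq_form k hdim.le hL hL, hform _ (Nakai.cl_mem hL)]
      have hz : ∀ i, Nakai.form k (Nakai.cl (hCI i)) (Nakai.cl hL) = 0 := fun i => by
        have h := hzero i
        rw [← Nakai.pairing_cl k _ hL, pairing_quotMod_cl k (hCI i)] at h
        exact neg_eq_zero.1 h
      simp only [hz, mul_zero, Finset.sum_const_zero, sub_zero]
      rw [Nakai.form_comm, hform _ (Nakai.cl_mem hH.1)]
      refine mul_pos hd0 (sub_pos.2 (lt_of_le_of_lt ?_ (mul_pos hd0 (Nakai.form_ample_pos k hdim hH))))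
      exact Finset.sum_nonpos fun i _ => mul_nonpos_of_nonneg_of_nonpos (hs0 i) (form_ideal_neg k hdim.le hH (hCI i) (hCd i)).le
    · by_contra hne
      exact (hpos D hDi hDd hne).ne' h0
    · rintro ⟨i, rfl⟩
      exact hzero i

end Groth.Agent.S18458
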