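import Groth.Statements.S18461
import Groth.Agent.TwistShriek.SurfFund
-- import your own Groth.Agent.* helpers here

set_option autoImplicit false
set_option backward.isDefEq.respectTransparency false
set_option maxHeartbeats 800000
set_option synthInstance.maxHeartbeats 200000
universe u
open CategoryTheory CategoryTheory.Limits AlgebraicGeometry TopologicalSpace
open Surf
open Groth.Agent Groth.Agent.TwistShriek

namespace Groth.Agent.S18461

/-- Let k be an algebraically closed field of characteristic zero and X a smooth projective surface over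
k (integral, proper and smooth over k, of dimension 2). Let C_1, …, C_r (r ≥ 1) be pairwise distinct
integral curves on X, with ideal sheaves I_i, forming a connected configuration with negative
definite intersection matrix (no partition of the indices into two nonempty sets with (I_i·I_j) = 0
across; Σ a_i a_j (I_i·I_j) < 0 for every nonzero integer vector a; (A·B) = χ(O_X) − χ(A) − χ(B) +
χ(A ⊗ B)), and let Z₀ be a fundamental cycle: a nonzero effective Cartier divisor supported on ⋃ C_i
with deg(I_{Z₀}|_{C_i}) = χ(O_{C_i} ⊗ I_{Z₀}) − χ(O_{C_i}) ≥ 0 for all i, every other such divisor Z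
satisfying Z ≥ Z₀ (I_Z ⊆ I_{Z₀}). Suppose the configuration is rational in the sense that H¹(Z, O_Z)
= 0 for every nonzero effective Cartier divisor Z supported on ⋃ C_i. Then for every natural number
N, writing O_{Z₀}(−NZ₀) = O_{Z₀} ⊗ I_{Z₀}^{⊗N}: H¹(Z₀, O_{Z₀}(−NZ₀)) = 0 and dim_k H⁰(Z₀,
O_{Z₀}(−NZ₀)) = −N·(I_{Z₀}·I_{Z₀}) + 1, that is −N·Z₀² + 1; cohomology is computed on X through the
direct image of O_{Z₀}. The published statement assumes the singularity obtained by contracting the
configuration over the complex numbers rational, which is equivalent to the vanishing assumed here,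
and also asserts R¹π_*O_X(−NZ₀) = 0 for the contraction π and two facts on the maximal ideal of that
singularity; those are not restated. -/
theorem result (k : Type u) [Field k] [IsAlgClosed k] [CharZero k]
    (X : Scheme.{u}) [X.Over (Spec (CommRingCat.of k))] [IsProper (X ↘ (Spec (CommRingCat.of k)))]
    [Smooth (X ↘ (Spec (CommRingCat.of k)))] [IsIntegral X] (hdim : topologicalKrullDim X = 2)
    (r : ℕ) (hr : 0 < r) (C : Fin r → X.IdealSheafData) (hC : Function.Injective C)
    (hCi : ∀ i, IsIntegral (C i).subscheme) (hCd : ∀ i, topologicalKrullDim ((C i).support : Set X) = 1)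
    (hconn : ∀ S : Finset (Fin r), S.Nonempty → Sᶜ.Nonempty →
      ∃ i ∈ S, ∃ j ∈ Sᶜ, FGA.intNum k X 2 ![(ClSub.idealMod (C i)), (ClSub.idealMod (C j))] (Coh.structureModule X) ≠ 0)
    (hneg : ∀ a : Fin r → ℤ, a ≠ 0 →
      ∑ i, ∑ j, a i * a j * FGA.intNum k X 2 ![(ClSub.idealMod (C i)), (ClSub.idealMod (C j))] (Coh.structureModule X) < 0)
    (Z₀ : X.IdealSheafData) (hZ₀ : FGA.IsEffCartier Z₀) (hZ₀0 : Z₀ ≠ ⊤)
    (hZ₀s : (Z₀.support : Set X) ⊆ ⋃ i, ((C i).support : Set X))
    (hZ₀C : ∀ i, 0 ≤ Curv2.euler k X (CohB1.tensorMod (ClSub.quotMod (C i)) (ClSub.idealMod Z₀)) -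
      Curv2.euler k X (ClSub.quotMod (C i)))
    (hZ₀min : ∀ Z : X.IdealSheafData, FGA.IsEffCartier Z → Z ≠ ⊤ → (Z.support : Set X) ⊆ ⋃ i, ((C i).support : Set X) →
      (∀ i, 0 ≤ Curv2.euler k X (CohB1.tensorMod (ClSub.quotMod (C i)) (ClSub.idealMod Z)) -
        Curv2.euler k X (ClSub.quotMod (C i))) → Z ≤ Z₀)
    (hrat : ∀ Z : X.IdealSheafData, FGA.IsEffCartier Z → Z ≠ ⊤ → (Z.support : Set X) ⊆ ⋃ i, ((C i).support : Set X) →
      Subsingleton (Coh.HH X (ClSub.quotMod Z) 1))
    (N : ℕ) :
    Subsingleton (Coh.HH X (CohB1.tensorMod (ClSub.quotMod Z₀) (CohB1.tensorPow (ClSub.idealMod Z₀) N)) 1) ∧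
      (Module.finrank k (Coh.HH X (CohB1.tensorMod (ClSub.quotMod Z₀) (CohB1.tensorPow (ClSub.idealMod Z₀) N)) 0) : ℤ) =
        -(N : ℤ) * FGA.intNum k X 2 ![(ClSub.idealMod Z₀), (ClSub.idealMod Z₀)] (Coh.structureModule X) + 1 := by
    haveI := EulerIneqLib.isNoetherian_proper (X := X) k
    obtain ⟨W, hW⟩ := exists_canonical_proper (X := X) k
    have hWi := (canonical_data_proper k hdim hW).1
    have hI : PicF.IsInvertible (ClSub.idealMod Z₀) := (S8914.result _).2 hZ₀
    have hM := AmpleLib.isInvertible_tensorPow hI N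
    have hc1 : Curv2.euler k X (ClSub.quotMod Z₀) = 1 := by
      refine le_antisymm (euler_fundamental_le k hdim C hCi hCd hZ₀ hZ₀0 hZ₀s hZ₀C hZ₀min) ?_
      haveI := hrat Z₀ hZ₀ hZ₀0 hZ₀s
      rw [euler_divisor k (dim_divisor k hdim hZ₀ hZ₀0).le,
        Module.finrank_zero_of_subsingleton (R := k) (M := Coh.HH X (ClSub.quotMod Z₀) 1)]
      have := h0_pos_divisor k hZ₀0
      omega
    have hz : ∀ z ∈ Nakai.Aug X ^ 2, IntLib.pairing k (ClSub.quotMod Z₀) z = 0 := fun z hz =>
      Nakai.pairing_mem_eq_zero k (n := 2) hz (IntLib.isCoh_quotMod Z₀) (lt_of_le_of_lt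
        ((Topology.IsEmbedding.inclusion (IntLib.support_quotMod_subset Z₀)).isInducing.topologicalKrullDim_le.trans
          (dim_divisor k hdim hZ₀ hZ₀0).le) (by exact_mod_cast Nat.lt_succ_self 1))
    have hpow : Nakai.cl hM - N • Nakai.cl hI ∈ Nakai.Aug X ^ 2 := by
      rw [nsmul_eq_mul]; exact Nakai.cl_tensorPow_sub_mem hI N
    have hH1 : Subsingleton (Coh.HH X (CohB1.tensorMod (ClSub.quotMod Z₀) (CohB1.tensorPow (ClSub.idealMod Z₀) N)) 1) := by
      refine subsingleton_H1_of_euler_twist k hdim hW hWi hZ₀ (fun A B hA hB hAne hAB => ?_) hM fun D hD hDd hle => ?_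
      · have hAs : (A.support : Set X) ⊆ ⋃ i, ((C i).support : Set X) := fun x hx => hZ₀s (by
          rw [hAB, Scheme.IdealSheafData.support_mul]; exact Or.inl hx)
        haveI := hrat A hA hAne hAs
        rw [euler_divisor k (dim_divisor k hdim hA hAne).le,
          Module.finrank_zero_of_subsingleton (R := k) (M := Coh.HH X (ClSub.quotMod A) 1)]
        have := h0_pos_divisor k hAne
        omega
      · obtain ⟨i, rfl⟩ := curve_eq_of_le k hdim C hCi hCd hD hDd ((SetLike.coe_subset_coe.2 (Scheme.IdealSheafData.support_antitone hle)).trans hZ₀s)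
        have hCI := invertible_curve k hdim (C i) hD hDd
        have h := hZ₀C i
        rw [← Nakai.pairing_cl k (ClSub.quotMod (C i)) hI] at h
        rw [← Nakai.pairing_cl k (ClSub.quotMod (C i)) hM]
        rw [pairing_quotMod_cl k hCI] at h ⊢
        rw [Nakai.form_comm k _ (Nakai.cl hM), Nakai.form_congr k hdim hpow (Nakai.cl_mem hCI), ← natCast_zsmul,
          Nakai.form_smul_left, Nakai.form_comm k (Nakai.cl hI), ← mul_neg]
        exact mul_nonneg (Int.natCast_nonneg N) h
    refine ⟨hH1, ?_⟩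
    haveI := hH1
    have hs := CurveLib.euler_eq_sum (K := k) (CohB1.tensorMod (ClSub.quotMod Z₀) (CohB1.tensorPow (ClSub.idealMod Z₀) N)) 2
      fun p hp => CurveLib.subsingleton_HH_of_support _ Z₀.support.isClosed (support_LJ_subset Z₀) (d := 1)
        (by exact_mod_cast (dim_divisor k hdim hZ₀ hZ₀0).le) hp
    simp only [Finset.sum_range_succ, Finset.sum_range_zero, zero_add, pow_zero, pow_one, one_mul,
      Module.finrank_zero_of_subsingleton (R := k) (M := Coh.HH X (CohB1.tensorMod (ClSub.quotMod Z₀)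
        (CohB1.tensorPow (ClSub.idealMod Z₀) N)) 1), Nat.cast_zero, mul_zero, add_zero] at hs
    have h2 := Nakai.pairing_cl k (ClSub.quotMod Z₀) hM
    have h3 := hz _ hpow
    rw [map_sub, sub_eq_zero, map_nsmul, pairing_quotMod_cl k hI, pairing_quotMod_cl k hI, nsmul_eq_mul] at h3
    rw [pairing_quotMod_cl k hI] at h2
    rw [h3, hc1, hs] at h2
    rw [intNum_eq_form k hdim.le hI hI]
    linarith

end Groth.Agent.S18461
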