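import Groth.Statements.S18463
import Groth.Agent.TwistShriek.NumCurves
-- import your own Groth.Agent.* helpers here

set_option autoImplicit false
set_option backward.isDefEq.respectTransparency false
set_option maxHeartbeats 800000
set_option synthInstance.maxHeartbeats 200000
universe u
open CategoryTheory CategoryTheory.Limits AlgebraicGeometry TopologicalSpace
open Surf
open Groth.Agent Groth.Agent.TwistShriek

namespace Groth.Agent.S18463

/-- Let k be an algebraically closed field of characteristic zero and X a smooth projective surface over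
k (integral, proper and smooth over k, of dimension 2, carrying an ample invertible module). Let
C_1, …, C_r be pairwise distinct integral curves on X with ideal sheaves I_i and negative definite
intersection matrix (Σ_{i,j} a_i a_j (I_i·I_j) < 0 for every nonzero integer vector a, where (A·B) =
χ(O_X) − χ(A) − χ(B) + χ(A ⊗ B)), let F be an effective Cartier divisor on X, with ideal I_F, none
of whose components is a C_i, and let s_1, …, s_r be integers such that F is numerically equivalent
to Σ_i s_i C_i: (I_F·M) = Σ_i s_i (I_i·M) for every invertible O_X-module M (equivalently (F·D) = Σ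
s_i (C_i·D) for every divisor D). Then F = 0, i.e. I_F = O_X, and every s_i is 0. The published
statement writes the hypothesis as [F] + Σ s_i[C_i] = 0 with real s_i; this row writes F ≡ Σ s_i C_i
with integer s_i, which is the same after changing the signs of the s_i. -/
theorem result (k : Type u) [Field k] [IsAlgClosed k] [CharZero k]
    (X : Scheme.{u}) [X.Over (Spec (CommRingCat.of k))] [IsProper (X ↘ (Spec (CommRingCat.of k)))]
    [Smooth (X ↘ (Spec (CommRingCat.of k)))] [IsIntegral X] (hdim : topologicalKrullDim X = 2)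
    (hproj : ∃ H : X.Modules, CohB1.IsAmple H)
    (r : ℕ) (C : Fin r → X.IdealSheafData) (hC : Function.Injective C)
    (hCi : ∀ i, IsIntegral (C i).subscheme) (hCd : ∀ i, topologicalKrullDim ((C i).support : Set X) = 1)
    (hneg : ∀ a : Fin r → ℤ, a ≠ 0 →
      ∑ i, ∑ j, a i * a j * FGA.intNum k X 2 ![(ClSub.idealMod (C i)), (ClSub.idealMod (C j))] (Coh.structureModule X) < 0)
    (F : X.IdealSheafData) (hF : FGA.IsEffCartier F) (hFC : ∀ i, ¬ ((C i).support : Set X) ⊆ (F.support : Set X))
    (s : Fin r → ℤ)
    (hnum : ∀ M : X.Modules, PicF.IsInvertible M →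
      FGA.intNum k X 2 ![(ClSub.idealMod F), M] (Coh.structureModule X) =
        ∑ i, s i * FGA.intNum k X 2 ![(ClSub.idealMod (C i)), M] (Coh.structureModule X)) :
    F = ⊤ ∧ ∀ i, s i = 0 := by
    haveI := EulerIneqLib.isNoetherian_proper (X := X) k
    obtain ⟨H, hH⟩ := hproj
    have hCI : ∀ i, PicF.IsInvertible (ClSub.idealMod (C i)) := fun i => invertible_curve k hdim (C i) (hCi i) (hCd i)
    have hFI : PicF.IsInvertible (ClSub.idealMod F) := (S8914.result _).2 hF
    have hoff : ∀ i j, i ≠ j →
        0 ≤ FGA.intNum k X 2 ![(ClSub.idealMod (C i)), (ClSub.idealMod (C j))] (Coh.structureModule X) := fun i j hij => by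
      rw [intNum_eq_form k hdim.le (hCI i) (hCI j)]
      exact form_curves_nonneg k hdim (hCi i) (hCd i) (hCI i) (hCi j) (hCd j) (hCI j) (fun h => hij (hC h))
    have hs : ∀ i, 0 ≤ -s i := TwistShriek.NumForm.nonneg_of_negDef (s := fun i => -s i) hoff hneg fun j => by
      simp only [neg_mul, Finset.sum_neg_distrib]
      rw [← hnum _ (hCI j), intNum_eq_form k hdim.le hFI (hCI j)]
      exact neg_nonpos.2 (form_ideal_nonneg k hdim hF hFI (hCi j) (hCd j) (hCI j) (hFC j))
    have hterm : ∀ i, FGA.intNum k X 2 ![(ClSub.idealMod (C i)), H] (Coh.structureModule X) < 0 := fun i => by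
      rw [intNum_eq_form k hdim.le (hCI i) hH.1]
      exact form_ideal_neg k hdim.le hH (hCI i) (hCd i)
    have hsuppF : CohB1.support (ClSub.quotMod F) = (F.support : Set X) :=
      (IntLib.support_quotMod_subset F).antisymm fun x hx => Nakai.mem_support_quotMod F hx
    have hdF : topologicalKrullDim (CohB1.support (ClSub.quotMod F)) < ((1 + 1 : ℕ) : WithBot ℕ∞) :=
      lt_of_le_of_lt (hsuppF ▸ IntLib.dim_support_le hF (e := 1) (by exact_mod_cast hdim.le))
        (by exact_mod_cast Nat.lt_succ_self 1)
    have h1 := Nakai.isPos_cl_pow k hH 1 _ (IntLib.isCoh_quotMod F) hdF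
    rw [pow_one, pairing_quotMod_cl k hFI, ← intNum_eq_form k hdim.le hFI hH.1, hnum H hH.1] at h1
    have hsum := h1.1
    have hnn : 0 ≤ ∑ i, s i * FGA.intNum k X 2 ![(ClSub.idealMod (C i)), H] (Coh.structureModule X) :=
      Finset.sum_nonneg fun i _ => mul_nonneg_of_nonpos_of_nonpos (by linarith [hs i]) (hterm i).le
    have heq : ∑ i, s i * FGA.intNum k X 2 ![(ClSub.idealMod (C i)), H] (Coh.structureModule X) = 0 :=
      le_antisymm (by linarith) hnn
    have hs0 : ∀ i, s i = 0 := fun i => (mul_eq_zero.1 ((Finset.sum_eq_zero_iff_of_nonneg fun i _ =>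
      mul_nonneg_of_nonpos_of_nonpos (by linarith [hs i]) (hterm i).le).1 heq i (Finset.mem_univ i))).resolve_right
        (hterm i).ne
    refine ⟨?_, hs0⟩
    have hd0 : topologicalKrullDim (F.support : Set X) < ((1 : ℕ) : WithBot ℕ∞) := by
      by_contra hnot
      have h2 := h1.2 (hsuppF ▸ (HilbLib.not_dim_lt_iff F.support.isClosed 1).1 hnot)
      rw [heq] at h2
      simp at h2
    have hd0' : topologicalKrullDim (F.support : Set X) ≤ 0 := IntLib.dim_le_of_lt (q := 0) hd0
    have hfin : ((F ⊔ F).support : Set X).Finite := by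
      rw [sup_idem]
      exact CurveLib.finite_of_dim_le_zero F.support.isClosed hd0'
    have hreg := fun x => ASp.isRegularLocalRing_stalk_of_smooth_field (X ↘ Spec (CommRingCat.of k)) x
    have hFF := intNum_eq_finrank_inter k hdim.le (fun x => haveI := hreg x; S10881.cm_of_regular _)
      (fun x hx => dim_closed_point_integral (X ↘ Spec (CommRingCat.of k)) hdim x hx) F F hF hF hfin
    rw [hnum _ hFI, sup_idem] at hFF
    simp only [hs0, zero_mul, Finset.sum_const_zero] at hFF
    haveI : Module.Finite k (Coh.HH X (ClSub.quotMod F) 0) := EulerIneqLib.finite_HH (k := k) (IntLib.isCoh_quotMod F) 0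
    haveI : Subsingleton (Coh.HH X (ClSub.quotMod F) 0) :=
      Module.finrank_zero_iff.1 (show Module.finrank k (Coh.HH X (ClSub.quotMod F) 0) = 0 by exact_mod_cast hFF.symm)
    refine (Scheme.IdealSheafData.support_eq_bot_iff F).1 (SetLike.coe_injective (Set.eq_empty_iff_forall_notMem.2 fun x hx => ?_))
    exact Nakai.mem_support_quotMod F hx (CurveLib.subsingleton_stalk_of_H0 F.support.isClosed hd0'
      (ClSub.quotMod F) (IntLib.support_quotMod_subset F) x)

end Groth.Agent.S18463
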