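import Groth.Statements.S18465
import Mathlib

set_option autoImplicit false
universe u v w x
open WildLef

namespace Groth.Agent.S18465

/-- Let f : G₁ → G₂ be a homomorphism of groups, ρ : G₂ → Γ a homomorphism with finite image G, and A a
nontrivial commutative ring. Let G₂ act on the group algebra A[G] through ρ followed by the left
regular representation, and G₁ through f. If the elements of A[G] fixed by G₁ coincide with those
fixed by G₂, then ρ ∘ f and ρ have the same image. (The published statement has Γ a general linear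
group GL_r(A); over the zero ring that group is trivial, so requiring A nontrivial and allowing any
target group loses nothing.) -/
theorem result
    {G₁ : Type u} {G₂ : Type v} {Γ : Type w} [Group G₁] [Group G₂] [Group Γ]
    (f : G₁ →* G₂) (ρ : G₂ →* Γ) [Finite ρ.range] (A : Type x) [CommRing A] [Nontrivial A]
    (h : {x : MonoidAlgebra A ρ.range | ∀ g : G₁, MonoidAlgebra.of A ρ.range (ρ.rangeRestrict (f g)) * x = x} =
      {x : MonoidAlgebra A ρ.range | ∀ g : G₂, MonoidAlgebra.of A ρ.range (ρ.rangeRestrict g) * x = x}) :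
    (ρ.comp f).range = ρ.range := by
  classical
  have := Fintype.ofFinite ρ.range
  refine le_antisymm (by rintro _ ⟨g, rfl⟩; exact ⟨f g, rfl⟩) ?_
  let H : Subgroup ρ.range := (ρ.rangeRestrict.comp f).range
  let S : Finset ρ.range := Finset.univ.filter (· ∈ H)
  let X : MonoidAlgebra A ρ.range := ∑ k ∈ S, MonoidAlgebra.of A ρ.range k
  have hX : X ∈ {x : MonoidAlgebra A ρ.range | ∀ g : G₁, MonoidAlgebra.of A ρ.range (ρ.rangeRestrict (f g)) * x = x} := by
    intro g
    have hg : ρ.rangeRestrict (f g) ∈ H := ⟨g, rfl⟩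
    simp only [X, Finset.mul_sum, ← map_mul]
    refine Finset.sum_equiv (Equiv.mulLeft (ρ.rangeRestrict (f g))) (fun k => ?_) (fun k _ => rfl)
    simp only [S, Finset.mem_filter, Finset.mem_univ, true_and, Equiv.coe_mulLeft]
    exact (H.mul_mem_cancel_left hg).symm
  rw [h] at hX
  rintro _ ⟨g, rfl⟩
  have h2 : ((∑ k ∈ S, MonoidAlgebra.of A ρ.range (ρ.rangeRestrict g * k)) : MonoidAlgebra A ρ.range).coeff (ρ.rangeRestrict g) = X.coeff (ρ.rangeRestrict g) := by
    rw [← hX g]
    simp only [X, Finset.mul_sum, map_mul]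
  have h1 : ρ.rangeRestrict g ∈ H := by
    by_contra hg
    simp only [X, MonoidAlgebra.of_apply, MonoidAlgebra.coeff_sum, Finsupp.finsetSum_apply, MonoidAlgebra.coeff_single, Finsupp.single_apply] at h2
    rw [Finset.sum_eq_single_of_mem 1 (by simp [S]) (fun k _ hk => if_neg (by simpa using hk)),
      Finset.sum_eq_zero (fun k hk => if_neg (fun e => hg (by rw [← e]; exact (Finset.mem_filter.mp hk).2)))] at h2
    simp at h2
  obtain ⟨g₁, hg₁⟩ := h1
  exact ⟨g₁, congrArg Subtype.val hg₁⟩

end Groth.Agent.S18465
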