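import Groth.Statements.S18466
import Mathlib
-- import your own Groth.Agent.* helpers here

set_option autoImplicit false
universe u
open Hopf

namespace Groth.Agent.S18466

/-- Let k be a field and n ≥ 1. The constant group scheme ℤ/n over k is self-dual, that is, isomorphic
to its Cartier dual μ_n — equivalently the Hopf algebra of k-valued functions on the cyclic group of
order n and the group algebra of that group over k (group elements group-like) are isomorphic as
bialgebras — precisely when the field k has a primitive n-th root of unity, i.e. k contains n
distinct n-th roots of unity in k. (The published statement assumes that the characteristic of k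
does not divide n; both directions hold without that assumption by the same argument, since a
primitive n-th root of unity forces n to be nonzero in k, so it is omitted here.) -/
theorem result
    (k : Type u) [Field k] (n : ℕ) [NeZero n] :
    Nonempty (ConstGrp.F k (Multiplicative (ZMod n)) ≃ₐc[k] MonoidAlgebra k (Multiplicative (ZMod n))) ↔
      ∃ ζ : k, IsPrimitiveRoot ζ n := by
  classical
  let G := Multiplicative (ZMod n)
  constructor
  · rintro ⟨e⟩
    let x : G → k := fun g => e.symm (MonoidAlgebra.single g 1) (Multiplicative.ofAdd 1)
    have hgl : ∀ g : G, IsGroupLikeElem k (e.symm (MonoidAlgebra.single g (1 : k))) := fun g =>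
      (MonoidAlgebra.isGroupLikeElem_single_one (R := k) (A := k) g).map e.symm.toBialgHom
    have hmul : ∀ (g : G) (a b : G), e.symm (MonoidAlgebra.single g (1 : k)) (a * b) =
        e.symm (MonoidAlgebra.single g (1 : k)) a * e.symm (MonoidAlgebra.single g (1 : k)) b := fun g a b => by
      have h := ConstGrp.pair_comul k G (e.symm (MonoidAlgebra.single g (1 : k))) a b
      rw [(hgl g).comul_eq_tmul_self, ConstGrp.pair_tmul] at h
      exact h.symm
    have hone : ∀ g : G, e.symm (MonoidAlgebra.single g (1 : k)) 1 = 1 := fun g => by
      have h := (hgl g).counit_eq_one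
      rwa [ConstGrp.counit_apply] at h
    let χ : G → (G →* k) := fun g =>
      { toFun := fun a => e.symm (MonoidAlgebra.single g (1 : k)) a, map_one' := hone g, map_mul' := hmul g }
    have hgen : ∀ a : G, a = (Multiplicative.ofAdd (1 : ZMod n)) ^ (Multiplicative.toAdd a).val := fun a => by
      rw [← ofAdd_nsmul, nsmul_one, ZMod.natCast_zmod_val, ofAdd_toAdd]
    have hinj : Function.Injective x := by
      intro g h hgh
      have hχ : χ g = χ h := MonoidHom.ext fun a => by
        rw [hgen a, map_pow, map_pow]
        exact congrArg (· ^ _) hgh
      have h1 : e.symm (MonoidAlgebra.single g (1 : k)) = e.symm (MonoidAlgebra.single h (1 : k)) :=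
        ConstGrp.ext fun a => DFunLike.congr_fun hχ a
      exact (Finsupp.single_left_inj (one_ne_zero : (1 : k) ≠ 0)).mp
        (congrArg MonoidAlgebra.coeff (e.symm.injective h1))
    have hroot : ∀ g, x g ^ n = 1 := fun g => by
      change χ g (Multiplicative.ofAdd 1) ^ n = 1
      rw [← map_pow, ← ofAdd_nsmul, nsmul_one, ZMod.natCast_self, ofAdd_zero, map_one]
    letI : Fintype (rootsOfUnity n k) := Fintype.ofFinite _
    have hcard : Fintype.card (rootsOfUnity n k) = n := by
      refine le_antisymm (Nat.card_eq_fintype_card (α := rootsOfUnity n k) ▸ card_rootsOfUnity k n) ?_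
      have hf : Function.Injective fun g : G => (rootsOfUnity.mkOfPowEq (x g) (hroot g)) := fun g h hgh =>
        hinj (congrArg (fun u : rootsOfUnity n k => ((u : kˣ) : k)) hgh)
      have h := Fintype.card_le_of_injective _ hf
      simpa [G] using h
    obtain ⟨u, hu⟩ := IsCyclic.exists_ofOrder_eq_natCard (α := rootsOfUnity n k)
    rw [Nat.card_eq_fintype_card, hcard, ← Subgroup.orderOf_coe, ← orderOf_units] at hu
    exact ⟨((u : kˣ) : k), IsPrimitiveRoot.iff_orderOf.mpr hu⟩
  · rintro ⟨ζ, hζ⟩
    let ψ : AddChar (ZMod n) k := AddChar.zmodChar n hζ.pow_eq_one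
    let c : G →* ConstGrp.F k G :=
      { toFun := fun a => fun b => ψ (Multiplicative.toAdd a * Multiplicative.toAdd b)
        map_one' := ConstGrp.ext fun b => by simp
        map_mul' := fun a a' => ConstGrp.ext fun b => by
          show ψ ((Multiplicative.toAdd a + Multiplicative.toAdd a') * Multiplicative.toAdd b) = _
          rw [add_mul, AddChar.map_add_eq_mul]
          rfl }
    let φ : MonoidAlgebra k G →ₐ[k] ConstGrp.F k G := MonoidAlgebra.lift k (ConstGrp.F k G) G c
    have hφ : ∀ a, φ (MonoidAlgebra.single a 1) = c a := fun a => by simp [φ]
    let φb : MonoidAlgebra k G →ₐc[k] ConstGrp.F k G := BialgHom.ofAlgHom φ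
      (MonoidAlgebra.algHom_ext (single_one_left := Subsingleton.elim _ _) fun a => by
        show Coalgebra.counit (R := k) (φ (MonoidAlgebra.single a 1)) =
          Coalgebra.counit (R := k) (MonoidAlgebra.single a (1 : k))
        rw [hφ]
        simp [c])
      (MonoidAlgebra.algHom_ext (single_one_left := Subsingleton.elim _ _) fun a => by
        show Algebra.TensorProduct.map φ φ (Coalgebra.comul (R := k) (MonoidAlgebra.single a 1)) =
          Coalgebra.comul (R := k) (φ (MonoidAlgebra.single a 1))
        rw [(MonoidAlgebra.isGroupLikeElem_single_one (R := k) (A := k) a).comul_eq_tmul_self,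
          Algebra.TensorProduct.map_tmul, hφ, ConstGrp.comul_eq_sum]
        conv_lhs => rw [ConstGrp.eq_sum_smul_e (c a)]
        rw [TensorProduct.sum_tmul]
        refine Finset.sum_congr rfl fun p _ => ?_
        rw [TensorProduct.tmul_sum]
        refine Finset.sum_congr rfl fun q _ => ?_
        rw [TensorProduct.smul_tmul_smul]
        congr 1
        show ψ (Multiplicative.toAdd a * Multiplicative.toAdd p) * ψ (Multiplicative.toAdd a * Multiplicative.toAdd q) =
          ψ (Multiplicative.toAdd a * (Multiplicative.toAdd p + Multiplicative.toAdd q))
        rw [mul_add, AddChar.map_add_eq_mul])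
    have hli : LinearIndependent k fun a : G => (c a : G → k) := by
      let χ : G → (G →* k) := fun a =>
        { toFun := fun b => ψ (Multiplicative.toAdd a * Multiplicative.toAdd b)
          map_one' := by simp
          map_mul' := fun b b' => by
            show ψ (Multiplicative.toAdd a * (Multiplicative.toAdd b + Multiplicative.toAdd b')) = _
            rw [mul_add, AddChar.map_add_eq_mul] }
      have hχ : Function.Injective χ := by
        intro a a' h
        have h1 : ψ (Multiplicative.toAdd a) = ψ (Multiplicative.toAdd a') := by
          simpa [χ] using DFunLike.congr_fun h (Multiplicative.ofAdd 1)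
        rw [AddChar.zmodChar_apply, AddChar.zmodChar_apply] at h1
        exact Multiplicative.toAdd.injective (ZMod.val_injective n
          (hζ.pow_inj (ZMod.val_lt _) (ZMod.val_lt _) h1))
      exact (linearIndependent_monoidHom G k).comp χ hχ
    have hinj : Function.Injective φ := by
      refine (injective_iff_map_eq_zero φ).mpr fun z hz => ?_
      have hz' : Finsupp.linearCombination k (fun a : G => (c a : G → k)) z.coeff = 0 := by
        rw [← hz]
        simp only [φ, MonoidAlgebra.lift_apply, Finsupp.linearCombination_apply]
        first | rfl | done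
      have := linearIndependent_iff.mp hli z.coeff hz'
      exact MonoidAlgebra.coeff_injective this
    have hfr : Module.finrank k (MonoidAlgebra k G) = Module.finrank k (ConstGrp.F k G) := by
      rw [Module.finrank_eq_card_basis (ConstGrp.basis k G),
        Module.finrank_eq_card_basis (MonoidAlgebra.basis G k)]
    exact ⟨(BialgEquiv.ofBijective φb
      ⟨hinj, (LinearMap.injective_iff_surjective_of_finrank_eq_finrank hfr (f := φ.toLinearMap)).mp hinj⟩).symm⟩

end Groth.Agent.S18466
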