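import Groth.Statements.S18467
import Mathlib
-- import your own Groth.Agent.* helpers here

set_option autoImplicit false
universe u
open Hopf

namespace Groth.Agent.S18467

/-- Let p be a prime and R a commutative ring containing an element u with u(p − 1) = 1, and let χ be a
homomorphism from the group of units of ℤ/p to the group of units of R such that χ(m) − 1 is a unit
of R for every m ≠ 1. For 0 ≤ i < p − 1 put e_i = u · Σ_m χ(m)^{−i} [m] in the group algebra
R[(ℤ/p)ˣ]. Then the e_i are idempotents, e_i e_j = 0 for i ≠ j, and Σ_i e_i = 1. (The published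
statement is for algebras over the subring of the p-adic integers generated over ℤ by the values of
the Teichmüller character χ and by 1/(p(p − 1)); the hypotheses on R and χ here are the properties
of that situation which the computation uses, so the row is stated for every such pair.) -/
theorem result
    (p : ℕ) [Fact p.Prime] (R : Type u) [CommRing R] (u : R) (hu : u * ((p - 1 : ℕ) : R) = 1)
    (χ : (ZMod p)ˣ →* Rˣ) (hχ : ∀ m : (ZMod p)ˣ, m ≠ 1 → IsUnit ((χ m : R) - 1)) :
    CompleteOrthogonalIdempotents (fun i : Fin (p - 1) =>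
      u • ∑ m : (ZMod p)ˣ, ((χ m⁻¹ : Rˣ) : R) ^ (i : ℕ) • MonoidAlgebra.of R (ZMod p)ˣ m) := by
  classical
  have hcard : Fintype.card (ZMod p)ˣ = p - 1 := ZMod.card_units p
  obtain ⟨g, hg⟩ := IsCyclic.exists_ofOrder_eq_natCard (α := (ZMod p)ˣ)
  rw [Nat.card_eq_fintype_card, hcard] at hg
  let v : (ZMod p)ˣ → R := fun m => ((χ m : Rˣ) : R)
  have hv : ∀ m n, v (m * n) = v m * v n := fun m n => by simp [v]
  have hv1 : v 1 = 1 := by simp [v]
  -- orthogonality of characters
  have horth : ∀ i j : Fin (p - 1), ∑ m, v m ^ (j : ℕ) * v m⁻¹ ^ (i : ℕ) = if i = j then ((p - 1 : ℕ) : R) else 0 := by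
    intro i j
    have hvv : ∀ m, v m * v m⁻¹ = 1 := fun m => by rw [← hv, mul_inv_cancel, hv1]
    split_ifs with h
    · subst h
      simp [← mul_pow, hvv, hcard]
    · have hc : g ^ (j : ℕ) * g⁻¹ ^ (i : ℕ) ≠ 1 := by
        intro hcon
        rw [inv_pow, mul_inv_eq_one] at hcon
        exact h (Fin.ext (pow_injOn_Iio_orderOf (by simp [hg]) (by simp [hg]) hcon).symm)
      have hpow : ∀ m (n : ℕ), v (m ^ n) = v m ^ n := fun m n => by simp [v]
      refine ((hχ _ hc).mul_right_eq_zero).mp ?_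
      change (v (g ^ (j : ℕ) * g⁻¹ ^ (i : ℕ)) - 1) * _ = 0
      rw [sub_mul, one_mul, Finset.mul_sum, sub_eq_zero]
      refine Fintype.sum_equiv (Equiv.mulLeft g) _ _ fun m => ?_
      rw [Equiv.coe_mulLeft, mul_inv_rev, hv, hv, hv, hpow, hpow, mul_pow, mul_pow]
      ring
  let E : Fin (p - 1) → MonoidAlgebra R (ZMod p)ˣ := fun i =>
    u • ∑ m, v m⁻¹ ^ (i : ℕ) • MonoidAlgebra.of R (ZMod p)ˣ m
  change CompleteOrthogonalIdempotents E
  have hmul : ∀ i j, E i * E j = (u * if i = j then ((p - 1 : ℕ) : R) else 0) • E j := by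
    intro i j
    simp only [E, smul_mul_assoc, mul_smul_comm, smul_smul, Finset.sum_mul_sum, ← map_mul]
    have h1 : ∀ m, ∑ n, (v n⁻¹ ^ (j : ℕ) * v m⁻¹ ^ (i : ℕ)) • MonoidAlgebra.of R (ZMod p)ˣ (m * n) =
        ∑ l, (v m ^ (j : ℕ) * v m⁻¹ ^ (i : ℕ) * v l⁻¹ ^ (j : ℕ)) • MonoidAlgebra.of R (ZMod p)ˣ l := by
      intro m
      refine Fintype.sum_equiv (Equiv.mulLeft m) _ _ fun n => ?_
      rw [Equiv.coe_mulLeft]
      have hvn : v n⁻¹ = v m * v (m * n)⁻¹ := by rw [← hv, mul_inv_rev, mul_comm n⁻¹, mul_inv_cancel_left]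
      rw [hvn, mul_pow]
      congr 1
      ring
    rw [Finset.sum_congr rfl fun m _ => h1 m, Finset.sum_comm]
    simp only [← Finset.sum_smul, ← Finset.sum_mul, horth]
    simp only [← smul_smul, ← Finset.smul_sum]
    split_ifs <;> simp only [smul_smul] <;> ring_nf
  refine ⟨⟨fun i => ?_, fun i j h => ?_⟩, ?_⟩
  · rw [IsIdempotentElem, hmul, if_pos rfl, hu, one_smul]
  · show E i * E j = 0
    rw [hmul, if_neg h, mul_zero, zero_smul]
  · simp only [E, ← Finset.smul_sum]
    rw [Finset.sum_comm, Finset.sum_eq_single (1 : (ZMod p)ˣ)]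
    · simp only [inv_one, hv1, one_pow, one_smul, Finset.sum_const, Finset.card_univ, Fintype.card_fin, map_one]
      rw [← Nat.cast_smul_eq_nsmul R, smul_smul, hu, one_smul]
    · intro m _ hm
      rw [← Finset.sum_smul]
      have hgeo : ∑ i : Fin (p - 1), v m⁻¹ ^ (i : ℕ) = 0 := by
        rw [Fin.sum_univ_eq_sum_range (fun i => v m⁻¹ ^ i) (p - 1)]
        refine ((hχ m⁻¹ (by simpa using hm)).mul_right_eq_zero).mp ?_
        rw [mul_geom_sum]
        have : m⁻¹ ^ (p - 1) = 1 := by rw [← hcard]; exact pow_card_eq_one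
        change v m⁻¹ ^ (p - 1) - 1 = 0
        simp only [v, ← Units.val_pow_eq_pow_val, ← map_pow, this]
        simp
      rw [hgeo, zero_smul]
    · simp

end Groth.Agent.S18467
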