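import Groth.Statements.S18472
import Groth.Agent.Comodule.Tame
import Mathlib
-- import your own Groth.Agent.* helpers here

set_option autoImplicit false
universe u v
open Hopf

namespace Groth.Agent.S18472

/-- Let R be a commutative ring and A a commutative Hopf algebra over R which is finitely generated and
projective as an R-module (a finite locally free group scheme G = Spec A over Spec R), and let I =
ker ε be its augmentation ideal. Then A is étale over R if and only if I² = I. (The published text
calls G finite flat, meaning that A is finitely generated and projective.) -/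
theorem result
    (R : Type u) [CommRing R] (A : Type v) [CommRing A] [HopfAlgebra R A]
    [Module.Finite R A] [Module.Projective R A] :
    Algebra.Etale R A ↔
      RingHom.ker (Bialgebra.counitAlgHom R A) ^ 2 = RingHom.ker (Bialgebra.counitAlgHom R A) := by
  open TensorProduct WithConv in
  let iL : A →ₐ[R] TensorProduct R A A := Algebra.TensorProduct.includeLeft
  let iR : A →ₐ[R] TensorProduct R A A := Algebra.TensorProduct.includeRight
  let S := HopfAlgebra.antipodeAlgHom R A
  let m : A →ₐ[R] TensorProduct R A A := (WithConv.toConv (iL.comp S) * WithConv.toConv iR).ofConv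
  let θ : TensorProduct R A A →ₐ[R] TensorProduct R A A := Algebra.TensorProduct.lift iL m fun _ _ => Commute.all _ _
  let η : TensorProduct R A A →ₐ[R] TensorProduct R A A :=
    Algebra.TensorProduct.lift iL (WithConv.toConv iL * WithConv.toConv iR).ofConv fun _ _ => Commute.all _ _
  have hcomp : ∀ (F : TensorProduct R A A →ₐ[R] TensorProduct R A A) (g h : A →ₐ[R] TensorProduct R A A),
      F.comp (WithConv.toConv g * WithConv.toConv h).ofConv =
        (WithConv.toConv (F.comp g) * WithConv.toConv (F.comp h)).ofConv := by
    intro F g h
    refine AlgHom.ext fun a => ?_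
    rw [AlgHom.comp_apply, AlgHom.convMul_apply, AlgHom.convMul_apply]
    induction Coalgebra.comul (R := R) a with
    | zero => simp
    | add p q hp hq => simp only [map_add, hp, hq]
    | tmul x y => simp
  have hθL : θ.comp iL = iL := AlgHom.ext fun a => by simp [θ, iL]
  have hθR : θ.comp iR = m := AlgHom.ext fun a => by simp [θ, iL, iR]
  have hηL : η.comp iL = iL := AlgHom.ext fun a => by simp [η, iL]
  have hηR : η.comp iR = (WithConv.toConv iL * WithConv.toConv iR).ofConv := AlgHom.ext fun a => by simp [η, iL, iR]
  have hθη : θ.comp η = AlgHom.id R _ := by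
    refine Algebra.TensorProduct.ext' fun a b => ?_
    have e : (θ.comp η).comp iR = iR := by
      rw [AlgHom.comp_assoc, hηR, hcomp, hθL, hθR]
      refine congrArg WithConv.ofConv (a₂ := WithConv.toConv iR) ?_
      exact (mul_assoc (G := WithConv (A →ₐ[R] TensorProduct R A A)) (WithConv.toConv iL)
        (WithConv.toConv (iL.comp S)) (WithConv.toConv iR)).symm.trans
        ((congrArg (fun z => z * WithConv.toConv iR) (Groth.Agent.Comodule.mul_comp_antipode iL)).trans
          (one_mul (M := WithConv (A →ₐ[R] TensorProduct R A A)) (WithConv.toConv iR)))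
    have e2 : (θ.comp η).comp iL = iL := by rw [AlgHom.comp_assoc, hηL, hθL]
    have : a ⊗ₜ[R] b = iL a * iR b := by simp [iL, iR]
    rw [this, map_mul]
    exact congrArg₂ (· * ·) (DFunLike.congr_fun e2 a) (DFunLike.congr_fun e b)
  have hηθ : η.comp θ = AlgHom.id R _ := by
    refine Algebra.TensorProduct.ext' fun a b => ?_
    have e : (η.comp θ).comp iR = iR := by
      rw [AlgHom.comp_assoc, hθR, hcomp, ← AlgHom.comp_assoc, hηL, hηR]
      refine congrArg WithConv.ofConv (a₂ := WithConv.toConv iR) ?_
      exact (mul_assoc (G := WithConv (A →ₐ[R] TensorProduct R A A)) (WithConv.toConv (iL.comp S))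
        (WithConv.toConv iL) (WithConv.toConv iR)).symm.trans
        ((congrArg (fun z => z * WithConv.toConv iR) (Groth.Agent.Comodule.comp_antipode_mul iL)).trans
          (one_mul (M := WithConv (A →ₐ[R] TensorProduct R A A)) (WithConv.toConv iR)))
    have e2 : (η.comp θ).comp iL = iL := by rw [AlgHom.comp_assoc, hθL, hηL]
    have : a ⊗ₜ[R] b = iL a * iR b := by simp [iL, iR]
    rw [this, map_mul]
    exact congrArg₂ (· * ·) (DFunLike.congr_fun e2 a) (DFunLike.congr_fun e b)
  let θe : TensorProduct R A A ≃ₐ[R] TensorProduct R A A := AlgEquiv.ofAlgHom θ η hθη hηθ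
  set I := RingHom.ker (Bialgebra.counitAlgHom R A) with hI
  let ε' : TensorProduct R A A →ₐ[R] A := Algebra.TensorProduct.lift (AlgHom.id R A)
    ((Algebra.ofId R A).comp (Bialgebra.counitAlgHom R A)) fun _ _ => Commute.all _ _
  have hK : RingHom.ker ε' = I.map iR := by
    refine le_antisymm (fun z hz => ?_) (Ideal.map_le_iff_le_comap.mpr fun b hb => ?_)
    · have key : ∀ w, w - iL (ε' w) ∈ I.map iR := by
        intro w
        induction w with
        | zero => simp
        | add p q hp hq => simpa only [map_add, add_sub_add_comm] using add_mem hp hq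
        | tmul a b =>
          have : a ⊗ₜ[R] b - iL (ε' (a ⊗ₜ[R] b)) = iL a * iR (b - algebraMap R A (Coalgebra.counit (R := R) b)) := by
            simp only [ε', iL, iR, Algebra.TensorProduct.lift_tmul, AlgHom.id_apply, AlgHom.comp_apply,
              Bialgebra.counitAlgHom_apply, Algebra.ofId_apply, map_sub, mul_sub, Algebra.TensorProduct.includeLeft_apply,
              Algebra.TensorProduct.includeRight_apply, Algebra.TensorProduct.tmul_mul_tmul, mul_one, one_mul]
            rw [Algebra.algebraMap_eq_smul_one, mul_smul_comm, mul_one, TensorProduct.smul_tmul]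
          rw [this]
          exact Ideal.mul_mem_left _ _ (Ideal.mem_map_of_mem _ (by simp [hI, RingHom.mem_ker]))
      have h := key z
      rwa [RingHom.mem_ker.mp hz, map_zero, sub_zero] at h
    · rw [Ideal.mem_comap, RingHom.mem_ker]
      have hb' : Coalgebra.counit (R := R) b = 0 := hb
      simp [ε', iR, hb']
  have hJ : KaehlerDifferential.ideal R A = (I.map iR).map θe := by
    rw [← hK]
    ext z
    rw [Ideal.mem_map_of_equiv, KaehlerDifferential.ideal, RingHom.mem_ker]
    have e : (Algebra.TensorProduct.lmul' R).comp θ = ε' := by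
      refine Algebra.TensorProduct.ext' fun a b => ?_
      simp only [θ, m, ε', AlgHom.comp_apply, Algebra.TensorProduct.lift_tmul, map_mul, AlgHom.convMul_apply,
        AlgHom.id_apply, Algebra.ofId_apply, Bialgebra.counitAlgHom_apply]
      congr 1
      · simp [iL]
      · rw [← HopfAlgebra.mul_antipode_rTensor_comul_apply (R := R) b]
        induction Coalgebra.comul (R := R) b with
        | zero => simp
        | add p q hp hq => simp only [map_add, hp, hq]
        | tmul x y => simp [iL, iR, S]
    have h2 : ε' (θe.symm z) = Algebra.TensorProduct.lmul' R z := by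
      rw [← e, AlgHom.comp_apply]
      exact congrArg _ (θe.apply_symm_apply z)
    constructor
    · intro h
      exact ⟨θe.symm z, RingHom.mem_ker.mpr (h2.trans h), θe.apply_symm_apply z⟩
    · rintro ⟨x, hx, rfl⟩
      refine Eq.trans ?_ (RingHom.mem_ker.mp hx)
      rw [← e]
      rfl
  have hiff : IsIdempotentElem (KaehlerDifferential.ideal R A) ↔ I ^ 2 = I := by
    rw [IsIdempotentElem, hJ, ← Ideal.map_mul, ← Ideal.map_mul, sq]
    constructor
    · intro h
      let g : TensorProduct R A A →ₐ[R] A := Algebra.TensorProduct.lift
        ((Algebra.ofId R A).comp (Bialgebra.counitAlgHom R A)) (AlgHom.id R A) fun _ _ => Commute.all _ _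
      have hg : g.comp iR = AlgHom.id R A := AlgHom.ext fun a => by simp [g, iR]
      have h' : ((I * I).map iR).map θ = (I.map iR).map θ := h
      have h1 := congrArg (Ideal.map (g.comp η)) h'
      rwa [Ideal.map_mapₐ, Ideal.map_mapₐ, Ideal.map_mapₐ, Ideal.map_mapₐ, AlgHom.comp_assoc g η θ, hηθ,
        AlgHom.comp_id, hg, Ideal.map_idₐ, Ideal.map_idₐ] at h1
    · intro h
      rw [h]
  rw [← hiff]
  constructor
  · intro hE
    exact (Ideal.cotangent_subsingleton_iff _).mp
      (Algebra.FormallyUnramified.subsingleton_kaehlerDifferential (R := R) (A := A))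
  · intro hJ2
    haveI : Algebra.FormallyUnramified R A := ⟨(Ideal.cotangent_subsingleton_iff _).mpr hJ2⟩
    haveI : Module.FinitePresentation R A := Module.finitePresentation_of_projective R A
    haveI : Algebra.FinitePresentation R A := Algebra.FinitePresentation.of_finitePresentation R A
    exact Algebra.Etale.of_formallyUnramified_of_flat

end Groth.Agent.S18472
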