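import Groth.Statements.S18473
import Groth.Agent.FinHopf.EigenRank

set_option autoImplicit false
universe u
open OortTate

namespace Groth.Agent.S18473

open WithConv in

/-- With the preceding computation: let p be a prime, R a commutative ring containing u with u(p − 1) =
1, and χ a homomorphism from the units of ℤ/p to the units of R such that χ(m) − 1 is a unit for
every m ≠ 1 (the situation of an algebra over the subring Λ_p of the p-adic integers generated by
the Teichmüller values and 1/(p(p − 1)), with χ the Teichmüller character, which is the published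
setting); assume moreover χ(m) ≡ m modulo pR for every m. In the group algebra over R of the cyclic
group of order p, written R[T]/(T^p − 1) with T group-like (the Hopf algebra of μ_p, on which the
power map [m] sends T to T^m), put y_i = u Σ_m χ(m)^{−i}(T^m − 1), the average of T − 1 for the
character χ^i. Then the elements y_0, …, y_{p−2} are a basis of the augmentation ideal (they are
linearly independent and span the kernel of the counit), the R-algebra is generated by y_1 alone,
and y_1^p = w·y_1 for a unique w ∈ R (the constant w_p of the classification). -/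
theorem result
    (p : ℕ) [Fact p.Prime] (R : Type u) [CommRing R] (u : R) (hu : u * ((p - 1 : ℕ) : R) = 1)
    (χ : (ZMod p)ˣ →* Rˣ) (hχ : ∀ m : (ZMod p)ˣ, m ≠ 1 → IsUnit ((χ m : R) - 1))
    (hχp : ∀ m : (ZMod p)ˣ, ((χ m : Rˣ) : R) - (((m : ZMod p).val : ℕ) : R) ∈ Ideal.span ({(p : R)} : Set R)) :
    LinearIndependent R (fun i : Fin (p - 1) => OortTate.ygen R p u χ (i : ℕ)) ∧
      Submodule.span R (Set.range (fun i : Fin (p - 1) => OortTate.ygen R p u χ (i : ℕ))) =
        LinearMap.ker (Bialgebra.counitAlgHom R (MonoidAlgebra R (Multiplicative (ZMod p)))).toLinearMap ∧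
      Algebra.adjoin R ({OortTate.ygen R p u χ 1} : Set (MonoidAlgebra R (Multiplicative (ZMod p)))) = ⊤ ∧
      ∃! w : R, OortTate.ygen R p u χ 1 ^ p = w • OortTate.ygen R p u χ 1 := by
  have hp : p.Prime := Fact.out
  have hrk : ∀ q : PrimeSpectrum R,
      Module.rankAtStalk (MonoidAlgebra R (Multiplicative (ZMod p))) q = p := fun q => by
    haveI : Nontrivial R := q.nontrivial
    haveI : Module.Free R (MonoidAlgebra R (Multiplicative (ZMod p))) :=
      Module.Free.of_basis (MonoidAlgebra.basis (Multiplicative (ZMod p)) R)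
    rw [Module.rankAtStalk_eq_finrank_of_free]
    simp [Module.finrank_eq_card_basis (MonoidAlgebra.basis (Multiplicative (ZMod p)) R)]
  haveI : Module.Finite R (MonoidAlgebra R (Multiplicative (ZMod p))) :=
    Module.Finite.of_basis (MonoidAlgebra.basis (Multiplicative (ZMod p)) R)
  haveI : Module.Projective R (MonoidAlgebra R (Multiplicative (ZMod p))) :=
    Module.Projective.of_basis (MonoidAlgebra.basis (Multiplicative (ZMod p)) R)
  have hkill := Groth.Agent.FinHopf.convPow_eq_one_of_prime (A := MonoidAlgebra R (Multiplicative (ZMod p))) hrk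
  let T : MonoidAlgebra R (Multiplicative (ZMod p)) := OortTate.muT R p
  have hgl : IsGroupLikeElem R T := MonoidAlgebra.isGroupLikeElem_of _
  have hT : Bialgebra.counitAlgHom R (MonoidAlgebra R (Multiplicative (ZMod p))) (T - 1) = 0 := by
    rw [map_sub, map_one, sub_eq_zero]
    exact hgl.counit_eq_one
  have hpw : ∀ n : ℕ, SGA3b.powConv R _ n T = T ^ n := by
    intro n
    induction n with
    | zero =>
      rw [Groth.Agent.FinHopf.powConv_apply, pow_zero, AlgHom.convOne_apply, pow_zero, hgl.counit_eq_one, map_one]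
    | succ n ih =>
      rw [Groth.Agent.FinHopf.powConv_apply, pow_succ, AlgHom.convMul_apply, hgl.comul_eq_tmul_self,
        Algebra.TensorProduct.lift_tmul, ← Groth.Agent.FinHopf.powConv_apply, ih, pow_succ]
      rfl
  let y : ℕ → MonoidAlgebra R (Multiplicative (ZMod p)) := fun i => OortTate.ygen R p u χ i
  have hy : ∀ i, y i ∈ OortTate.eigenAug R _ p χ i := fun i => Groth.Agent.FinHopf.proj_mem hkill u i hT
  have hsumy : ∑ i ∈ Finset.range (p - 1), y i = T - 1 := Groth.Agent.FinHopf.sum_proj hχ hu (T - 1)
  let Y : Fin (p - 1) → MonoidAlgebra R (Multiplicative (ZMod p)) := fun i => y i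
  have hker : Submodule.span R (Set.range Y) =
      LinearMap.ker (Bialgebra.counitAlgHom R (MonoidAlgebra R (Multiplicative (ZMod p)))).toLinearMap := by
    refine le_antisymm (Submodule.span_le.2 ?_) fun z hz => ?_
    · rintro _ ⟨i, rfl⟩
      exact (Groth.Agent.FinHopf.mem_eigenAug.1 (hy i)).1
    · have h1 : ∀ n : ℕ, T ^ n - 1 ∈ Submodule.span R (Set.range Y) := by
        intro n
        by_cases hn : (n : ZMod p) = 0
        · obtain ⟨c, rfl⟩ := (ZMod.natCast_eq_zero_iff n p).1 hn
          have : T ^ p = 1 := by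
            simp [T, OortTate.muT, ← map_pow, ← ofAdd_nsmul, MonoidAlgebra.one_def]
          rw [pow_mul, this, one_pow, sub_self]; exact Submodule.zero_mem _
        · let m : (ZMod p)ˣ := Units.mk0 (n : ZMod p) hn
          have e : T ^ n - 1 = SGA3b.powConv R _ (m : ZMod p).val (T - 1) := by
            rw [map_sub, map_one, hpw]
            congr 1
            rw [show (m : ZMod p).val = n % p from ZMod.val_natCast p n]
            refine pow_eq_pow_mod n ?_
            simp [T, OortTate.muT, ← map_pow, ← ofAdd_nsmul, MonoidAlgebra.one_def]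
          rw [e, ← hsumy, map_sum]
          refine Submodule.sum_mem _ fun i hi => ?_
          rw [(Groth.Agent.FinHopf.mem_eigenAug.1 (hy i)).2 m]
          exact Submodule.smul_mem _ _ (Submodule.subset_span ⟨⟨i, Finset.mem_range.1 hi⟩, rfl⟩)
      let B := MonoidAlgebra.basis (Multiplicative (ZMod p)) R
      have hz' : Bialgebra.counitAlgHom R (MonoidAlgebra R (Multiplicative (ZMod p))) z = 0 := hz
      have hB : ∀ g, B g - 1 ∈ Submodule.span R (Set.range Y) := fun g => by
        have : B g = T ^ (Multiplicative.toAdd g).val := by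
          simp [B, T, OortTate.muT, ← map_pow, ← ofAdd_nsmul]
        rw [this]; exact h1 _
      have e : z = ∑ g, B.repr z g • (B g - 1) := by
        have hεB : ∀ g, Bialgebra.counitAlgHom R (MonoidAlgebra R (Multiplicative (ZMod p))) (B g) = 1 := fun g => by
          simp [B]
        have h0 : ∑ g, B.repr z g = 0 := by
          rw [← B.sum_repr z, map_sum] at hz'
          simpa [hεB, -Bialgebra.counitAlgHom_apply] using hz'
        rw [Finset.sum_congr rfl fun g _ => smul_sub _ _ _, Finset.sum_sub_distrib, B.sum_repr, ← Finset.sum_smul,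
          h0, zero_smul, sub_zero]
      rw [e]
      exact Submodule.sum_mem _ fun g _ => Submodule.smul_mem _ _ (hB g)
  have hI : ∀ i : ℕ, OortTate.eigenAug R (MonoidAlgebra R (Multiplicative (ZMod p))) p χ i ≤ R ∙ y i := by
    intro i z hz
    have hz1 : z ∈ Submodule.span R (Set.range Y) := hker ▸ (Groth.Agent.FinHopf.mem_eigenAug.1 hz).1
    obtain ⟨c, hc⟩ := (Submodule.mem_span_range_iff_exists_fun R).1 hz1
    have h := Groth.Agent.FinHopf.proj_of_mem hχ hu (i := i) hz
    rw [if_pos rfl, ← hc, map_sum] at h
    rw [← hc, ← h]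
    refine Submodule.sum_mem _ fun j _ => ?_
    rw [map_smul, Groth.Agent.FinHopf.proj_of_mem hχ hu (hy j)]
    split_ifs with hij
    · refine Submodule.smul_mem _ _ (Submodule.mem_span_singleton.2 ⟨1, ?_⟩)
      rw [one_smul]
      change y i = y j
      simp only [y, OortTate.ygen, OortTate.proj]
      have hm : ∀ m : (ZMod p)ˣ, ((χ m : Rˣ) : R) ^ i = ((χ m : Rˣ) : R) ^ (j : ℕ) := fun m => by
        rw [Groth.Agent.FinHopf.chi_pow_mod m i, hij, ← Groth.Agent.FinHopf.chi_pow_mod m (j : ℕ)]
      simp only [hm]
    · simp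
  have hann : ∀ (i : ℕ) (r : R), r • y i = 0 → r = 0 := by
    intro i r hr
    by_contra hne
    obtain ⟨q, hq, hle⟩ := Ideal.exists_le_maximal (Ideal.span {r}).annihilator (by
      intro h
      rw [Submodule.annihilator_eq_top_iff, Ideal.span_singleton_eq_bot] at h
      exact hne h)
    haveI := hq.isPrime
    obtain ⟨g, hg⟩ := Groth.Agent.FinHopf.exists_isLocalGen (A := MonoidAlgebra R (Multiplicative (ZMod p)))
      hu hχ hχp hrk q
    obtain ⟨t, ht1, ht, hte⟩ := Groth.Agent.FinHopf.exists_eigen_rep (χ := χ)
      (A := MonoidAlgebra R (Multiplicative (ZMod p))) i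
    have hmem : g ^ t ∈ OortTate.eigenAug R (MonoidAlgebra R (Multiplicative (ZMod p))) p χ i :=
      hte ▸ Groth.Agent.FinHopf.pow_mem_eigenAug hg.mem t ht1
    obtain ⟨c, hc⟩ := Submodule.mem_span_singleton.1 (hI i hmem)
    obtain ⟨s, hs, hs0⟩ := hg.indep_pow (show t < p by have := hp.two_le; omega)
      (show r • g ^ t = 0 by rw [← hc, smul_comm, hr, smul_zero])
    exact hs (hle ((Submodule.mem_annihilator_span_singleton _ _).2 hs0))
  refine ⟨?_, hker, ?_, ?_⟩
  · rw [Fintype.linearIndependent_iff]
    intro c hc i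
    apply hann i
    have h := congrArg (OortTate.proj R (MonoidAlgebra R (Multiplicative (ZMod p))) p u χ (i : ℕ)) hc
    rw [map_sum, map_zero, Finset.sum_eq_single i] at h
    · rwa [map_smul, Groth.Agent.FinHopf.proj_of_mem hχ hu (hy i), if_pos rfl] at h
    · intro j _ hji
      rw [map_smul, Groth.Agent.FinHopf.proj_of_mem hχ hu (hy j), if_neg, smul_zero]
      rw [Nat.mod_eq_of_lt i.2, Nat.mod_eq_of_lt j.2]
      exact fun h => hji (Fin.ext h.symm)
    · simp
  · have hy1 : ∀ i : ℕ, y i ∈ Algebra.adjoin R ({y 1} : Set (MonoidAlgebra R (Multiplicative (ZMod p)))) := by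
      intro i
      obtain ⟨t, ht1, ht, hte⟩ := Groth.Agent.FinHopf.exists_eigen_rep (χ := χ)
        (A := MonoidAlgebra R (Multiplicative (ZMod p))) i
      have h := hy i
      rw [hte, ← Groth.Agent.FinHopf.eigenAug_one_pow hu hχ hχp hrk t ht1 ht] at h
      have hle := pow_le_pow_left' (hI 1) t
      have h2 := hle h
      rw [Submodule.span_pow, Set.singleton_pow, Submodule.mem_span_singleton] at h2
      obtain ⟨c, hc⟩ := h2
      rw [← hc]
      exact Subalgebra.smul_mem _ (Subalgebra.pow_mem _ (Algebra.self_mem_adjoin_singleton R _) t) c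
    have hTm : T ∈ Algebra.adjoin R ({y 1} : Set (MonoidAlgebra R (Multiplicative (ZMod p)))) := by
      have h1 : T = (T - 1) + 1 := by abel
      rw [h1, ← hsumy]
      exact Subalgebra.add_mem _ (Subalgebra.sum_mem _ fun i _ => hy1 i) (Subalgebra.one_mem _)
    refine eq_top_iff.2 fun z _ => ?_
    let B := MonoidAlgebra.basis (Multiplicative (ZMod p)) R
    rw [← B.sum_repr z]
    refine Subalgebra.sum_mem _ fun g _ => Subalgebra.smul_mem _ ?_ _
    have : B g = T ^ (Multiplicative.toAdd g).val := by
      simp [B, T, OortTate.muT, ← map_pow, ← ofAdd_nsmul]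
    rw [this]
    exact Subalgebra.pow_mem _ hTm _
  · have h1 : y 1 ^ p ∈ R ∙ y 1 := by
      refine hI 1 ?_
      rw [Groth.Agent.FinHopf.eigenAug_mod 1,
        show 1 % (p - 1) = p % (p - 1) by
          conv_rhs => rw [show p = (p - 1) + 1 by have := hp.two_le; omega]
          simp,
        ← Groth.Agent.FinHopf.eigenAug_mod p]
      exact Groth.Agent.FinHopf.pow_mem_eigenAug (hy 1) p hp.one_le
    obtain ⟨w, hw⟩ := Submodule.mem_span_singleton.1 h1
    refine ⟨w, hw.symm, fun w' hw' => ?_⟩
    rw [← sub_eq_zero]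
    apply hann 1
    have hw'' : y 1 ^ p = w' • y 1 := hw'
    rw [sub_smul, ← hw'', hw, sub_self]

end Groth.Agent.S18473
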