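import Groth.Statements.S18475
import Groth.Agent.FinHopf.Recon
-- import your own Groth.Agent.* helpers here

set_option autoImplicit false
universe u
open OortTate

namespace Groth.Agent.S18475

/-- Let p be a prime, R a commutative ring containing u with u(p − 1) = 1, and χ a homomorphism from the
units of ℤ/p to the units of R such that χ(m) − 1 is a unit for every m ≠ 1 (the situation of an
algebra over the subring Λ_p of the p-adic integers generated by the Teichmüller values and 1/(p(p −
1)), with χ the Teichmüller character, which is the published setting); assume moreover χ(m) ≡ m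
modulo pR for every m. Let A and A' be commutative and cocommutative Hopf algebras over R, finitely
generated and projective as R-modules of rank p at every prime (group schemes G, G' of order p over
Spec R), with dual Hopf algebras A^D = Hom_R(A, R) and A'^D (the Cartier duals; for a unit m of ℤ/p
the power map [m] acts on all four algebras). Suppose the χ-eigenspaces of the augmentation ideals
are free of rank one with chosen generators: I_1(A) = R·x and I_1(A^D) = R·ξ with ξ(x) = 1, and
similarly I_1(A') = R·x', I_1(A'^D) = R·ξ' with ξ'(x') = 1 (this is the case of a local base R);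
write x^p = α x, ξ^p = β ξ, x'^p = α' x', ξ'^p = β' ξ' with α, β, α', β' ∈ R. If there is a unit v
of R with α' = v^{p−1} α and β' = v^{−(p−1)} β, then A and A' are isomorphic as bialgebras over R,
i.e. G ≅ G'. (This is the injectivity of the classification map G ↦ (I_1, a, b) in the case where
the invertible module I_1 is free, the case the copy spells out; the general statement compares
triples consisting of an invertible module with two maps.) The published argument obtains
commutativity and p-torsion of G over a locally Noetherian base; this row allows any commutative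
ring R, over which both still hold. -/
theorem result
    (p : ℕ) [Fact p.Prime] (R : Type u) [CommRing R] (u : R) (hu : u * ((p - 1 : ℕ) : R) = 1)
    (χ : (ZMod p)ˣ →* Rˣ) (hχ : ∀ m : (ZMod p)ˣ, m ≠ 1 → IsUnit ((χ m : R) - 1))
    (hχp : ∀ m : (ZMod p)ˣ, ((χ m : Rˣ) : R) - (((m : ZMod p).val : ℕ) : R) ∈ Ideal.span ({(p : R)} : Set R))
    (A : Type u) [CommRing A] [HopfAlgebra R A] [Coalgebra.IsCocomm R A] [Module.Finite R A]
    [Module.Projective R A] (hrk : ∀ q : PrimeSpectrum R, Module.rankAtStalk A q = p)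
    (A' : Type u) [CommRing A'] [HopfAlgebra R A'] [Coalgebra.IsCocomm R A'] [Module.Finite R A']
    [Module.Projective R A'] (hrk' : ∀ q : PrimeSpectrum R, Module.rankAtStalk A' q = p)
    (x : A) (hx : Submodule.span R {x} = OortTate.eigenAug R A p χ 1)
    (ξ : CartDual.D R A) (hξ : Submodule.span R {ξ} = OortTate.eigenAug R (CartDual.D R A) p χ 1)
    (hxξ : CartDual.toDual R A ξ x = 1)
    (x' : A') (hx' : Submodule.span R {x'} = OortTate.eigenAug R A' p χ 1)
    (ξ' : CartDual.D R A') (hξ' : Submodule.span R {ξ'} = OortTate.eigenAug R (CartDual.D R A') p χ 1)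
    (hxξ' : CartDual.toDual R A' ξ' x' = 1)
    (α β α' β' : R) (hα : x ^ p = α • x) (hβ : ξ ^ p = β • ξ) (hα' : x' ^ p = α' • x')
    (hβ' : ξ' ^ p = β' • ξ')
    (v : Rˣ) (hαv : α' = ((v ^ (p - 1) : Rˣ) : R) * α) (hβv : β' = ((v⁻¹ ^ (p - 1) : Rˣ) : R) * β) :
    Nonempty (A ≃ₐc[R] A') := by
  have key : ∀ {B : Type u} [AddCommGroup B] [Module R B] (S : Submodule R B) (b : B) (L : B →ₗ[R] R),
      Submodule.span R {b} = S → L b = 1 → ∀ z ∈ S, L z • b = z := by
    intro B _ _ S b L hS hL z hz
    rw [← hS, Submodule.mem_span_singleton] at hz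
    obtain ⟨c, rfl⟩ := hz
    rw [map_smul, hL, smul_eq_mul, mul_one]
  have hmem : ∀ {B : Type u} [AddCommGroup B] [Module R B] (S : Submodule R B) (b : B) (c : R),
      Submodule.span R {b} = S → c • b ∈ S := fun S b c hS =>
    hS ▸ Submodule.smul_mem _ _ (Submodule.mem_span_singleton_self b)
  have k1 := fun z hz => key _ x (CartDual.toDual R A ξ) hx hxξ z hz
  have k1' := fun z hz => key _ x' (CartDual.toDual R A' ξ') hx' hxξ' z hz
  have kD := fun z hz => key _ ξ ((LinearMap.applyₗ x).comp (CartDual.toDual R A).toLinearMap) hξ hxξ z hz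
  have kD' := fun z hz => key _ ξ' ((LinearMap.applyₗ x').comp (CartDual.toDual R A').toLinearMap) hξ' hxξ' z hz
  let e1 : OortTate.eigenAug R A p χ 1 →ₗ[R] OortTate.eigenAug R A' p χ 1 :=
    LinearMap.smulRight ((CartDual.toDual R A ξ).comp (OortTate.eigenAug R A p χ 1).subtype)
      ⟨((v⁻¹ : Rˣ) : R) • x', hmem _ x' _ hx'⟩
  let e2 : OortTate.eigenAug R A' p χ 1 →ₗ[R] OortTate.eigenAug R A p χ 1 :=
    LinearMap.smulRight ((CartDual.toDual R A' ξ').comp (OortTate.eigenAug R A' p χ 1).subtype)
      ⟨(v : R) • x, hmem _ x _ hx⟩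
  let θ : OortTate.eigenAug R A p χ 1 ≃ₗ[R] OortTate.eigenAug R A' p χ 1 :=
    LinearEquiv.ofLinearMap e1 e2
      (LinearMap.ext fun z => Subtype.ext (by
        change CartDual.toDual R A ξ (CartDual.toDual R A' ξ' (z : A') • (v : R) • x) • ((v⁻¹ : Rˣ) : R) • x' = (z : A')
        rw [map_smul, map_smul, hxξ, smul_eq_mul, smul_eq_mul, mul_one, smul_smul, mul_assoc, Units.mul_inv,
          mul_one]
        exact k1' _ z.2))
      (LinearMap.ext fun z => Subtype.ext (by
        change CartDual.toDual R A' ξ' (CartDual.toDual R A ξ (z : A) • ((v⁻¹ : Rˣ) : R) • x') • (v : R) • x = (z : A)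
        rw [map_smul, map_smul, hxξ', smul_eq_mul, smul_eq_mul, mul_one, smul_smul, mul_assoc, Units.inv_mul,
          mul_one]
        exact k1 _ z.2))
  have hθe : ∀ z : OortTate.eigenAug R A p χ 1,
      ((θ z : OortTate.eigenAug R A' p χ 1) : A') = CartDual.toDual R A ξ (z : A) • ((v⁻¹ : Rˣ) : R) • x' :=
    fun z => rfl
  have hp : p.Prime := Fact.out
  obtain ⟨q, hq⟩ : ∃ q, p = q + 1 := ⟨p - 1, by have := hp.two_le; omega⟩
  have hq' : p - 1 = q := by omega
  refine Groth.Agent.FinHopf.nonempty_bialgEquiv hu hχ hχp hrk hrk' θ (fun f g hg => ?_) ?_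
  · simp only [hθe]
    have hfx : (g : A) = (∏ i, CartDual.toDual R A ξ (f i : A)) • α • x := by
      rw [hg]
      conv_lhs => rw [Finset.prod_congr rfl fun i _ => (k1 _ (f i).2).symm]
      rw [Finset.prod_smul, Finset.prod_const, Finset.card_univ, Fintype.card_fin, hα]
    rw [hfx, map_smul, map_smul, hxξ, smul_eq_mul, smul_eq_mul, mul_one, Finset.prod_smul, Finset.prod_const,
      Finset.card_univ, Fintype.card_fin, smul_pow, hα', smul_smul, smul_smul, smul_smul, hαv, hq',
      show ((v⁻¹ : Rˣ) : R) ^ p = ((v⁻¹ : Rˣ) : R) ^ (q + 1) from congrArg _ hq]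
    congr 1
    have h1 : ((v⁻¹ : Rˣ) : R) ^ q * ((v ^ q : Rˣ) : R) = 1 := by
      rw [← Units.val_pow_eq_pow_val, ← Units.val_mul, inv_pow, inv_mul_cancel, Units.val_one]
    rw [pow_succ]
    calc _ = (∏ i, CartDual.toDual R A ξ (f i : A)) * α * ((v⁻¹ : Rˣ) : R) := rfl
      _ = (∏ i, CartDual.toDual R A ξ (f i : A)) * α * ((v⁻¹ : Rˣ) : R) *
          (((v⁻¹ : Rˣ) : R) ^ q * ((v ^ q : Rˣ) : R)) := by rw [h1, mul_one]
      _ = _ := by ring
  · intro φ φ' ψ ψ' hφ hψ hψ' z
    have hd : ∀ i, CartDual.toDual R A' (φ' i : CartDual.D R A') x' =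
        (v : R) * CartDual.toDual R A (φ i : CartDual.D R A) x := by
      intro i
      have e := hφ i ⟨x, by rw [← hx]; exact Submodule.mem_span_singleton_self x⟩
      rw [hθe] at e
      rw [e, map_smul, map_smul, hxξ, one_smul, smul_eq_mul, ← mul_assoc, Units.mul_inv, one_mul]
    have hψx : CartDual.toDual R A (ψ : CartDual.D R A) x =
        (∏ i, CartDual.toDual R A (φ i : CartDual.D R A) x) * β := by
      rw [hψ]
      conv_lhs => rw [Finset.prod_congr rfl fun i _ => (kD _ (φ i).2).symm]
      rw [Finset.prod_smul, Finset.prod_const, Finset.card_univ, Fintype.card_fin, hβ, map_smul, map_smul,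
        LinearMap.smul_apply, LinearMap.smul_apply, hxξ, smul_eq_mul, smul_eq_mul, mul_one]
      rfl
    have hψx' : CartDual.toDual R A' (ψ' : CartDual.D R A') x' =
        (∏ i, CartDual.toDual R A' (φ' i : CartDual.D R A') x') * β' := by
      rw [hψ']
      conv_lhs => rw [Finset.prod_congr rfl fun i _ => (kD' _ (φ' i).2).symm]
      rw [Finset.prod_smul, Finset.prod_const, Finset.card_univ, Fintype.card_fin, hβ', map_smul, map_smul,
        LinearMap.smul_apply, LinearMap.smul_apply, hxξ', smul_eq_mul, smul_eq_mul, mul_one]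
      rfl
    rw [hθe]
    conv_lhs => rw [← k1 _ z.2]
    simp only [map_smul, smul_eq_mul, hψx, hψx', hd, Finset.prod_mul_distrib, Finset.prod_const, Finset.card_univ,
      Fintype.card_fin, hβv, hq', show (v : R) ^ p = (v : R) ^ (q + 1) from congrArg _ hq]
    have h1 : ((v⁻¹ : Rˣ) : R) * (((v⁻¹ ^ q : Rˣ) : R) * (v : R) ^ (q + 1)) = 1 := by
      rw [← Units.val_pow_eq_pow_val, ← Units.val_mul, ← Units.val_mul, ← mul_assoc, ← pow_succ', inv_pow,
        inv_mul_cancel, Units.val_one]
    linear_combination (-(CartDual.toDual R A ξ (z : A)) *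
      (∏ i, CartDual.toDual R A (φ i : CartDual.D R A) x) * β) * h1

end Groth.Agent.S18475
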