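import Mathlib
import Groth.Statements.S18476

set_option autoImplicit false
universe u
open FmlGrp

namespace Groth.Agent.S18476

open PowerSeries

section

variable {O : Type u} [CommRing O] [IsLocalRing O] [IsAdicComplete (IsLocalRing.maximalIdeal O) O]

/-- `c ↦ ∑ c_i(f) X^i`. -/
noncomputable def G (f : PowerSeries O) (N : ℕ) (c : Fin N → PowerSeries O) : PowerSeries O :=
  ∑ i, PowerSeries.subst f (c i) * X ^ (i : ℕ)

/-- The candidate coordinates of `g`. -/
noncomputable def coord (f : PowerSeries O) (g : PowerSeries O) (i : ℕ) : PowerSeries O :=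
  mk fun k => (((fun h => h /ʷ f)^[k] g) %ʷ f).coeff i

theorem coord_eq (f g : PowerSeries O) (i : ℕ) :
    coord f g i = C ((g %ʷ f).coeff i) + X * coord f (g /ʷ f) i := by
  ext k
  cases k with
  | zero => simp [coord]
  | succ k => simp [coord, Function.iterate_succ_apply, coeff_C]

theorem G_split (f : PowerSeries O) (hf0 : constantCoeff f = 0) (N : ℕ) (a : Fin N → O)
    (c : Fin N → PowerSeries O) :
    G f N (fun i => C (a i) + X * c i) =
      ((∑ i, Polynomial.C (a i) * Polynomial.X ^ (i : ℕ) : Polynomial O) : PowerSeries O)
        + f * G f N c := by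
  have hs : HasSubst f := HasSubst.of_constantCoeff_zero' hf0
  rw [← Polynomial.coeToPowerSeries.ringHom_apply, map_sum, G, G, Finset.mul_sum,
    ← Finset.sum_add_distrib]
  refine Finset.sum_congr rfl fun i _ => ?_
  rw [subst_add hs, subst_mul hs, subst_X hs, subst_C, map_mul, map_pow,
    Polynomial.coeToPowerSeries.ringHom_apply, Polynomial.coeToPowerSeries.ringHom_apply,
    Polynomial.coe_C, Polynomial.coe_X, add_mul, mul_assoc]
  rfl

theorem eq_zero_of_forall_X_pow_dvd {g : PowerSeries O} (h : ∀ k : ℕ, (X : PowerSeries O) ^ k ∣ g) :
    g = 0 := by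
  ext n
  exact X_pow_dvd_iff.mp (h (n + 1)) n (Nat.lt_succ_self n)

theorem free (f : PowerSeries O) (hf0 : constantCoeff f = 0)
    (hf : f.map (IsLocalRing.residue O) ≠ 0) :
    ∀ g : PowerSeries O, ∃! c : Fin ((f.map (IsLocalRing.residue O)).order.toNat) → PowerSeries O,
      g = G f _ c := by
  set N := (f.map (IsLocalRing.residue O)).order.toNat with hN
  have hpoly : ∀ g : PowerSeries O,
      (∑ i : Fin N, Polynomial.C ((g %ʷ f).coeff i) * Polynomial.X ^ (i : ℕ)) = g %ʷ f := by
    intro g
    conv_rhs => rw [Polynomial.as_sum_range_C_mul_X_pow' (g %ʷ f) (n := N) (by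
      have h := degree_weierstrassMod_lt g f
      by_cases h0 : g %ʷ f = 0
      · have hpos : 0 < N := by
          rcases Nat.eq_zero_or_pos N with h | h
          · exfalso
            rw [hN, ENat.toNat_eq_zero] at h
            rcases h with h | h
            · have := (order_eq_nat (n := 0)).mp h
              simp [coeff_map, hf0] at this
            · exact hf (order_eq_top.mp h)
          · exact h
        simpa [h0] using hpos
      · exact (Polynomial.natDegree_lt_iff_degree_lt h0).mpr h)]
    rw [Finset.sum_range]
  have hex : ∀ (k : ℕ) (g : PowerSeries O),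
      f ^ k ∣ g - G f N (fun i => coord f g i) := by
    intro k
    induction k with
    | zero => simp
    | succ k ih =>
      intro g
      obtain ⟨d, hd⟩ := ih (g /ʷ f)
      refine ⟨d, ?_⟩
      have e : (fun i : Fin N => coord f g i) =
          fun i : Fin N => C ((g %ʷ f).coeff (i : ℕ)) + X * coord f (g /ʷ f) i := funext fun i =>
        coord_eq f g i
      rw [e, G_split f hf0, hpoly]
      conv_lhs => arg 1; rw [eq_mul_weierstrassDiv_add_weierstrassMod g hf]
      linear_combination f * hd
  have hzero : ∀ c : Fin N → PowerSeries O, G f N c = 0 → ∀ i, c i = 0 := by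
    suffices h : ∀ (k : ℕ) (c : Fin N → PowerSeries O), G f N c = 0 → ∀ i, coeff k (c i) = 0 from
      fun c hc i => PowerSeries.ext fun k => by rw [h k c hc i, map_zero]
    have step : ∀ c : Fin N → PowerSeries O, G f N c = 0 →
        (∀ i, constantCoeff (c i) = 0) ∧
        G f N (fun i => mk fun p => coeff (p + 1) (c i)) = 0 := by
      intro c hc
      have e : c = fun i => C (constantCoeff (c i)) + X * mk fun p => coeff (p + 1) (c i) :=
        funext fun i => (eq_X_mul_shift_add_const (c i)).trans (add_comm _ _)
      rw [e, G_split f hf0] at hc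
      set r : Polynomial O := ∑ i : Fin N, Polynomial.C (constantCoeff (c i)) * Polynomial.X ^ (i : ℕ) with hr
      have hdeg : r.degree < (N : WithBot ℕ) := Polynomial.degree_sum_fin_lt _
      have H : IsWeierstrassDivision 0 f (G f N fun i => mk fun p => coeff (p + 1) (c i)) r :=
        ⟨hdeg, hc.symm.trans (add_comm _ _)⟩
      obtain ⟨hq, hr0⟩ := H.eq_zero hf
      refine ⟨fun i => ?_, hq⟩
      have h1 : r.coeff (i : ℕ) = constantCoeff (c i) := by
        rw [hr, Polynomial.finset_sum_coeff, Finset.sum_eq_single i]
        · simp
        · intro j _ hj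
          rw [Polynomial.coeff_C_mul_X_pow, if_neg]
          exact fun h => hj (Fin.ext h).symm
        · simp
      rw [← h1, hr0, Polynomial.coeff_zero]
    intro k
    induction k with
    | zero => exact fun c hc i => by rw [coeff_zero_eq_constantCoeff_apply]; exact (step c hc).1 i
    | succ k ih => exact fun c hc i => by simpa using ih _ (step c hc).2 i
  intro g
  refine ⟨fun i => coord f g i, ?_, fun c hc => ?_⟩
  · refine sub_eq_zero.mp (eq_zero_of_forall_X_pow_dvd fun k => ?_)
    exact (pow_dvd_pow_of_dvd (X_dvd_iff.mpr hf0) k).trans (hex k g)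
  · have h1 : g = G f N (fun i => coord f g i) :=
      sub_eq_zero.mp (eq_zero_of_forall_X_pow_dvd fun k =>
        (pow_dvd_pow_of_dvd (X_dvd_iff.mpr hf0) k).trans (hex k g))
    have hs : HasSubst f := HasSubst.of_constantCoeff_zero' hf0
    have h2 : G f N (fun i => c i - coord f g i) = 0 := by
      simp only [G, subst_sub hs, sub_mul, Finset.sum_sub_distrib]
      exact sub_eq_zero.mpr (hc.symm.trans h1)
    exact funext fun i => sub_eq_zero.mp (hzero _ h2 i)

theorem main (f : PowerSeries O) (hf0 : constantCoeff f = 0) :
    (∃ n : ℕ, coeff n f ∉ IsLocalRing.maximalIdeal O) ↔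
      ∃ (n : ℕ) (b : Fin n → PowerSeries O), ∀ g : PowerSeries O, ∃! c : Fin n → PowerSeries O,
        g = ∑ i, PowerSeries.subst f (c i) * b i := by
  constructor
  · rintro ⟨n, hn⟩
    refine ⟨_, fun i => X ^ (i : ℕ), free f hf0 fun h => hn ?_⟩
    rw [← IsLocalRing.residue_eq_zero_iff, ← coeff_map, h, map_zero]
  · rintro ⟨n, b, hb⟩
    by_contra! hall
    have hs : HasSubst f := HasSubst.of_constantCoeff_zero' hf0
    have hf : f.map (IsLocalRing.residue O) = 0 := PowerSeries.ext fun k => by
      rw [coeff_map, map_zero]
      exact (IsLocalRing.residue_eq_zero_iff _).mpr (hall k)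
    let k := IsLocalRing.ResidueField O
    let L : (Fin n → k) →ₗ[k] (Fin (n + 1) → k) :=
      { toFun := fun c j => ∑ i, c i * coeff (j : ℕ) ((b i).map (IsLocalRing.residue O))
        map_add' := fun c d => by ext j; simp [add_mul, Finset.sum_add_distrib]
        map_smul' := fun a c => by
          ext j; simp only [Pi.smul_apply, smul_eq_mul, RingHom.id_apply, mul_assoc]; exact (Finset.mul_sum _ _ _).symm }
    have hL : Function.Surjective L := by
      intro v
      choose w hw using fun j => IsLocalRing.residue_surjective (R := O) (v j)
      obtain ⟨c, hc, -⟩ := hb (mk fun p => if h : p < n + 1 then w ⟨p, h⟩ else 0)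
      refine ⟨fun i => IsLocalRing.residue O (constantCoeff (c i)), funext fun j => ?_⟩
      have hsub : ∀ i, (PowerSeries.subst f (c i)).map (IsLocalRing.residue O)
          = C (IsLocalRing.residue O (constantCoeff (c i))) := fun i => by
        refine (PowerSeries.map_subst hs (c i)).trans ?_
        have : MvPowerSeries.map (IsLocalRing.residue O) f = 0 := hf
        rw [this, PowerSeries.subst_zero_eq_C_constantCoeff]
        rw [← coeff_zero_eq_constantCoeff_apply, coeff_map, coeff_zero_eq_constantCoeff_apply]
        rfl
      have := congrArg (fun x => coeff (j : ℕ) (x.map (IsLocalRing.residue O))) hc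
      rw [map_sum, Finset.sum_congr rfl (fun i _ => (map_mul (PowerSeries.map (IsLocalRing.residue O)) _ _).trans
        (congrArg (· * _) (hsub i))), map_sum, Finset.sum_congr rfl (fun i _ => coeff_C_mul _ _ _)] at this
      rw [coeff_map, coeff_mk, dif_pos j.2, show (⟨(j : ℕ), j.2⟩ : Fin (n + 1)) = j from rfl, hw] at this
      exact this.symm
    have := LinearMap.finrank_le_finrank_of_surjective hL
    simp at this

end


/-- Let O be a complete discrete valuation ring whose maximal ideal m contains the prime number p, and
let F be a one-dimensional formal group law over O, with multiplication-by-p series f = [p]_F(X) = X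
+_F ⋯ +_F X ∈ O[[X]]. Then f has a coefficient outside m (f is not ≡ 0 mod m) if and only if F is
p-divisible in the sense that O[[X]] is free of finite rank over itself through the substitution
endomorphism X ↦ f: there are finitely many power series b_1, …, b_n such that every power series g
can be written uniquely as Σ_i c_i(f(X))·b_i. (The published statement asserts instead that F is
p-divisible iff F does not reduce to X + Y modulo m; that is false — over the p-adic integers the
law φ⁻¹(φ(X) + φ(Y)) with φ = X + X^{p+1} is not congruent to X + Y modulo p, yet its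
multiplication-by-p series φ⁻¹(pφ(X)) vanishes modulo p — and the printed proof establishes exactly
the criterion on f stated here.) The published setting is the valuation ring of a finite extension
of ℚ_p; the argument uses only that O is a complete discrete valuation ring with p in its maximal
ideal. -/
theorem result
    (O : Type u) [CommRing O] [IsDomain O] [IsDiscreteValuationRing O]
    [IsAdicComplete (IsLocalRing.maximalIdeal O) O]
    (p : ℕ) [Fact p.Prime] (hp : (p : O) ∈ IsLocalRing.maximalIdeal O)
    (F : FormalGroup O) :
    (∃ n : ℕ, PowerSeries.coeff n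
        ((p • (show F.Point Unit from ⟨PowerSeries.X, PowerSeries.HasSubst.X'⟩)).val) ∉
          IsLocalRing.maximalIdeal O) ↔
      ∃ (n : ℕ) (b : Fin n → PowerSeries O), ∀ g : PowerSeries O, ∃! c : Fin n → PowerSeries O,
        g = ∑ i, PowerSeries.subst
          ((p • (show F.Point Unit from ⟨PowerSeries.X, PowerSeries.HasSubst.X'⟩)).val) (c i) * b i := by
  classical
  have h0 : ∀ n : ℕ, PowerSeries.constantCoeff
      ((n • (show F.Point Unit from ⟨PowerSeries.X, PowerSeries.HasSubst.X'⟩)).val : PowerSeries O) = 0 := by
    intro n
    induction n with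
    | zero => rw [zero_nsmul]; exact map_zero _
    | succ n ih =>
      rw [succ_nsmul, FormalGroup.add_apply]
      refine MvPowerSeries.constantCoeff_subst_eq_zero ?_ ?_ F.zero_constantCoeff
      · refine MvPowerSeries.hasSubst_of_constantCoeff_zero fun s => ?_
        fin_cases s
        · exact ih
        · exact PowerSeries.constantCoeff_X
      · intro s
        fin_cases s
        · exact ih
        · exact PowerSeries.constantCoeff_X
  exact main _ (h0 p)

end Groth.Agent.S18476
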