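import Groth.Statements.S18477
import Groth.Agent.FinHopf.Pairing
-- import your own Groth.Agent.* helpers here

set_option autoImplicit false
universe u
open scoped TensorProduct
open OortTate

namespace Groth.Agent.S18477

/-- Let p be a prime, R a commutative ring containing u with u(p − 1) = 1, and χ a homomorphism from the
units of ℤ/p to the units of R such that χ(m) − 1 is a unit for every m ≠ 1 (the situation of an
algebra over the subring Λ_p of the p-adic integers generated by the Teichmüller values and 1/(p(p −
1)), with χ the Teichmüller character, which is the published setting); assume moreover χ(m) ≡ m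
modulo pR for every m. Let A be a commutative and cocommutative Hopf algebra over R, finitely
generated and projective as an R-module of rank p at every prime (a group scheme G of order p), A^D
= Hom_R(A, R) its dual Hopf algebra (Cartier dual), δ ∈ A ⊗ A^D the canonical element — the one with
(id ⊗ ev_a)(δ) = a for every a ∈ A, corresponding to the identity of A — and ϕ the R-algebra map
from the group algebra of ℤ/p (the Hopf algebra R[T]/(T^p − 1) of μ_p, T group-like) to A ⊗ A^D with
ϕ(T) = δ; ϕ is the comorphism of the Cartier pairing G × G^D → μ_p. Let I_1(A) ⊆ A and I_1(A^D) ⊆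
A^D be the χ-eigenspaces of the augmentation ideals under the power maps [m], and y_1 = u Σ_m
χ(m)^{−1}(T^m − 1). Then ϕ(y_1) generates the image of I_1(A) ⊗ I_1(A^D) in A ⊗ A^D as an R-module,
and r·ϕ(y_1) = 0 only for r = 0 (so that image is free of rank one on ϕ(y_1)). The published
argument obtains commutativity and p-torsion of G over a locally Noetherian base; this row allows
any commutative ring R, over which both still hold. -/
theorem result
    (p : ℕ) [Fact p.Prime] (R : Type u) [CommRing R] (u : R) (hu : u * ((p - 1 : ℕ) : R) = 1)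
    (χ : (ZMod p)ˣ →* Rˣ) (hχ : ∀ m : (ZMod p)ˣ, m ≠ 1 → IsUnit ((χ m : R) - 1))
    (hχp : ∀ m : (ZMod p)ˣ, ((χ m : Rˣ) : R) - (((m : ZMod p).val : ℕ) : R) ∈ Ideal.span ({(p : R)} : Set R))
    (A : Type u) [CommRing A] [HopfAlgebra R A] [Coalgebra.IsCocomm R A] [Module.Finite R A]
    [Module.Projective R A] (hrk : ∀ q : PrimeSpectrum R, Module.rankAtStalk A q = p)
    (δ : A ⊗[R] CartDual.D R A)
    (hδ : ∀ a : A, TensorProduct.rid R A
      (LinearMap.lTensor A ((Module.Dual.eval R A a) ∘ₗ (CartDual.toDual R A).toLinearMap) δ) = a)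
    (ϕ : MonoidAlgebra R (Multiplicative (ZMod p)) →ₐ[R] A ⊗[R] CartDual.D R A)
    (hϕ : ϕ (OortTate.muT R p) = δ) :
    Submodule.span R {ϕ (OortTate.ygen R p u χ 1)} =
        LinearMap.range (TensorProduct.map (OortTate.eigenAug R A p χ 1).subtype
          (OortTate.eigenAug R (CartDual.D R A) p χ 1).subtype) ∧
      ∀ r : R, r • ϕ (OortTate.ygen R p u χ 1) = 0 → r = 0 := by
  have hp := Groth.Agent.FinHopf.convPow_eq_one_of_prime (A := A) hrk
  have hid : (Groth.Agent.FinHopf.tensHom R A) δ = WithConv.toConv LinearMap.id := by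
    refine WithConv.ext (LinearMap.ext fun a => ?_)
    refine Eq.trans ?_ (hδ a)
    generalize δ = z
    induction z using TensorProduct.induction_on with
    | zero => simp
    | add z z' hz hz' => simp only [map_add, WithConv.ofConv_add, LinearMap.add_apply, hz, hz']
    | tmul b f => simp [Groth.Agent.FinHopf.tensHom_tmul]
  let E := Groth.Agent.FinHopf.tensHom R A
  have hy : E (ϕ (OortTate.ygen R p u χ 1)) = Groth.Agent.FinHopf.projPi u χ A 1 :=
    Groth.Agent.FinHopf.map_ygen (E.comp ϕ) (by rw [AlgHom.comp_apply, hϕ]; exact hid) u 1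
  have hinj : Function.Injective E := Groth.Agent.FinHopf.tensHom_bijective.1
  refine ⟨le_antisymm ?_ ?_, fun r hr => ?_⟩
  · rw [Submodule.span_singleton_le_iff_mem]
    obtain ⟨z, hz, hzE⟩ := Groth.Agent.FinHopf.projPi_mem_range (A := A) hu hχ hχp hrk
    rwa [← hinj (hzE.trans hy.symm)]
  · rintro _ ⟨z, rfl⟩
    induction z using TensorProduct.induction_on with
    | zero => rw [map_zero]; exact Submodule.zero_mem _
    | add z z' hz hz' => rw [map_add]; exact Submodule.add_mem _ hz hz'
    | tmul a f =>
      rw [TensorProduct.map_tmul, Submodule.mem_span_singleton]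
      refine ⟨(f : CartDual.D R A).ofConv (a : A), hinj ?_⟩
      rw [map_smul, hy]
      exact (Groth.Agent.FinHopf.tensHom_eigen hu hχ hχp hrk a.2 f.2).symm
  · refine Groth.Agent.FinHopf.eq_zero_of_locally (R := R) fun q hq => ?_
    haveI := hq
    obtain ⟨y, hyg⟩ := Groth.Agent.FinHopf.exists_isLocalGen (A := A) hu hχ hχp hrk q
    have e := congrArg (fun z => (E z).ofConv y) hr
    simp only [map_smul, hy, map_zero, WithConv.ofConv_smul, LinearMap.smul_apply, WithConv.ofConv_zero,
      LinearMap.zero_apply, Groth.Agent.FinHopf.projPi_of_mem hu hχ hyg.mem] at e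
    obtain ⟨s, hs, h0⟩ := hyg.indep_pow (t := 1) (Fact.out : p.Prime).one_lt (by rwa [pow_one])
    exact ⟨s, hs, h0⟩

end Groth.Agent.S18477
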