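import Groth.Statements.S18479
import Mathlib

set_option autoImplicit false
universe u v
open scoped TensorProduct
open OortTate

namespace Groth.Agent.S18479

open TensorProduct

/-- Let R be a commutative ring and A a commutative Hopf algebra over R whose augmentation ideal ker ε
is a free R-module of rank one with generator x (this is the situation of a group scheme of order 2
over a local ring: A free of rank 2, so ker ε is free of rank 1). Then there are a, b ∈ R with x² =
a·x, Δ(x) = x ⊗ 1 + 1 ⊗ x + b·(x ⊗ x), and ab = −2; thus A is the Hopf algebra R[T]/(T² − aT) with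
comultiplication T ↦ T ⊗ 1 + 1 ⊗ T + b T ⊗ T. (The copy works over a Noetherian local ring to get
freeness; the computation uses only that ker ε is free on x.) -/
theorem result
    (R : Type u) [CommRing R] (A : Type v) [CommRing A] [HopfAlgebra R A]
    (x : A) (hx : Bialgebra.counitAlgHom R A x = 0)
    (hgen : ∀ f : A, Bialgebra.counitAlgHom R A f = 0 → ∃ r : R, f = r • x)
    (hfree : ∀ r : R, r • x = 0 → r = 0) :
    ∃ a b : R, x * x = a • x ∧
      Bialgebra.comulAlgHom R A x = x ⊗ₜ[R] 1 + 1 ⊗ₜ[R] x + b • (x ⊗ₜ[R] x) ∧ a * b = -2 := by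
  have hε : Coalgebra.counit (R := R) x = 0 := hx
  have hdec : ∀ f : A, ∃ r : R, f = Coalgebra.counit (R := R) f • (1:A) + r • x := fun f => by
    obtain ⟨r, hr⟩ := hgen (f - Coalgebra.counit (R := R) f • (1:A)) (by simp [Algebra.smul_def])
    exact ⟨r, by rw [← hr]; abel⟩
  choose φ hφ using hdec
  have huniq : ∀ (r s : R), r • x = s • x → r = s := fun r s h => sub_eq_zero.1 (hfree _ (by rw [sub_smul, h, sub_self]))
  let Φ : A →ₗ[R] R :=
    { toFun := φ
      map_add' := fun f g => huniq _ _ (by
        have h := hφ (f + g)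
        simp only [map_add, add_smul] at h ⊢
        linear_combination hφ f + hφ g - h)
      map_smul' := fun c f => huniq _ _ (by
        have h := hφ (c • f)
        rw [eq_comm, ← eq_sub_iff_add_eq'] at h
        have h' := hφ f
        rw [eq_comm, ← eq_sub_iff_add_eq'] at h'
        simp only [RingHom.id_apply, smul_eq_mul]
        rw [h, mul_smul, h', map_smul, smul_eq_mul, smul_sub, ← mul_smul]) }
  have hΦ1 : Φ 1 = 0 := huniq _ _ (by
    have := hφ 1
    simp only [Bialgebra.counit_one, one_smul] at this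
    simpa [Φ] using this.symm)
  have hΦx : Φ x = 1 := huniq _ _ (by
    have := hφ x; simp only [hε, zero_smul, zero_add] at this
    simpa [Φ] using this.symm)
  have hspan : ∀ t : A ⊗[R] A, ∃ c d e b : R, t = c • ((1:A) ⊗ₜ[R] (1:A)) + d • (x ⊗ₜ[R] (1:A)) + e • ((1:A) ⊗ₜ[R] x) + b • (x ⊗ₜ[R] x) := by
    intro t
    induction t with
    | zero => exact ⟨0, 0, 0, 0, by simp⟩
    | tmul f g =>
      refine ⟨Coalgebra.counit (R := R) f * Coalgebra.counit (R := R) g, φ f * Coalgebra.counit (R := R) g, Coalgebra.counit (R := R) f * φ g, φ f * φ g, ?_⟩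
      conv_lhs => rw [hφ f, hφ g]
      simp only [add_tmul, tmul_add, ← smul_tmul', tmul_smul, smul_smul]
      module
    | add a b ha hb =>
      obtain ⟨c, d, e, q, rfl⟩ := ha
      obtain ⟨c', d', e', q', rfl⟩ := hb
      exact ⟨c + c', d + d', e + e', q + q', by module⟩
  obtain ⟨c, d, e, b, hΔ⟩ := hspan (Coalgebra.comul (R := R) x)
  obtain ⟨a, ha⟩ := hgen (x * x) (by rw [map_mul, hx, zero_mul])
  have h1 := Coalgebra.rTensor_counit_comul (R := R) x
  have h2 := Coalgebra.lTensor_counit_comul (R := R) x
  rw [hΔ] at h1 h2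
  simp [hε] at h1 h2
  have h1' := congrArg (TensorProduct.lid R A) h1
  have h2' := congrArg (TensorProduct.rid R A) h2
  simp at h1' h2'
  have hc : c = 0 := by
    have := congrArg (Coalgebra.counit (R := R)) h1'
    simpa [hε] using this
  subst hc
  simp at h1' h2'
  obtain rfl : e = 1 := huniq _ _ (by simpa using h1')
  obtain rfl : d = 1 := huniq _ _ (by simpa using h2')
  simp only [zero_smul, zero_add, one_smul] at hΔ
  refine ⟨a, b, ha, hΔ, ?_⟩
  have hA := HopfAlgebra.mul_antipode_rTensor_comul_apply (R := R) x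
  rw [hΔ] at hA
  have hSx : ∃ s : R, HopfAlgebra.antipode R x = s • x :=
    hgen _ (by simp [hε])
  obtain ⟨s, hs⟩ := hSx
  simp [hε, hs, ha, smul_smul] at hA
  have hA' : (s + 1 + b * (s * a)) • x = 0 := by rw [← hA]; module
  have hunit := hfree _ hA'
  have hsq : Bialgebra.comulAlgHom R A (x * x) = Bialgebra.comulAlgHom R A x * Bialgebra.comulAlgHom R A x := map_mul _ _ _
  rw [ha, map_smul] at hsq
  simp only [Bialgebra.comulAlgHom_apply, hΔ] at hsq
  simp only [add_mul, mul_add, smul_mul_assoc, mul_smul_comm, Algebra.TensorProduct.tmul_mul_tmul, one_mul, mul_one, ha, ← smul_tmul', tmul_smul, smul_smul, smul_add] at hsq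
  have h3 := congrArg (fun t => TensorProduct.lid R R (TensorProduct.map Φ Φ t)) hsq
  simp [hΦ1, hΦx, mul_add, add_mul, smul_smul] at h3
  linear_combination (a*b + 2) * hunit + s * h3

end Groth.Agent.S18479
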