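import Groth.Statements.S18480
import Mathlib

set_option autoImplicit false
universe u v
open scoped TensorProduct
open OortTate

namespace Groth.Agent.S18480

open scoped TensorProduct in

/-- Let R be a commutative ring and let A and A' be commutative Hopf algebras over R whose augmentation
ideals are free of rank one with generators x and x', with constants a, b and a', b' ∈ R such that
x² = a x, Δ(x) = x ⊗ 1 + 1 ⊗ x + b x ⊗ x and x'² = a' x', Δ(x') = x' ⊗ 1 + 1 ⊗ x' + b' x' ⊗ x' (the
group schemes of order two G_{a,b} and G_{a',b'}). Then A and A' are isomorphic as bialgebras over R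
(G_{a,b} ≅ G_{a',b'} as group schemes) if and only if there is a unit s of R with a = a'·s and b' =
b·s. -/
theorem result
    (R : Type u) [CommRing R] (A : Type v) [CommRing A] [HopfAlgebra R A]
    (x : A) (hx : Bialgebra.counitAlgHom R A x = 0)
    (hgen : ∀ f : A, Bialgebra.counitAlgHom R A f = 0 → ∃ r : R, f = r • x)
    (hfree : ∀ r : R, r • x = 0 → r = 0)
    (a b : R) (hxa : x * x = a • x)
    (hxb : Bialgebra.comulAlgHom R A x = x ⊗ₜ[R] 1 + 1 ⊗ₜ[R] x + b • (x ⊗ₜ[R] x))
    (A' : Type v) [CommRing A'] [HopfAlgebra R A']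
    (x' : A') (hx' : Bialgebra.counitAlgHom R A' x' = 0)
    (hgen' : ∀ f : A', Bialgebra.counitAlgHom R A' f = 0 → ∃ r : R, f = r • x')
    (hfree' : ∀ r : R, r • x' = 0 → r = 0)
    (a' b' : R) (hxa' : x' * x' = a' • x')
    (hxb' : Bialgebra.comulAlgHom R A' x' = x' ⊗ₜ[R] 1 + 1 ⊗ₜ[R] x' + b' • (x' ⊗ₜ[R] x')) :
    Nonempty (A ≃ₐc[R] A') ↔ ∃ s : Rˣ, a = a' * (s : R) ∧ b' = b * (s : R) := by
  have hcoef : ∀ (B : Type v) [CommRing B] [HopfAlgebra R B] (z : B),
      (∀ f : B, Bialgebra.counitAlgHom R B f = 0 → ∃ r : R, f = r • z) → (∀ r : R, r • z = 0 → r = 0) →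
      Bialgebra.counitAlgHom R B z = 0 →
      ∃ φ : B →ₗ[R] R, φ z = 1 ∧ φ 1 = 0 ∧
        ∀ f, f = algebraMap R B (Bialgebra.counitAlgHom R B f) + φ f • z := by
    intro B _ _ z hg hf hz
    choose φ hφ using fun f : B => hg (f - algebraMap R B (Bialgebra.counitAlgHom R B f))
      (by rw [map_sub, AlgHom.commutes, Algebra.algebraMap_self_apply, sub_self])
    have huniq : ∀ f r, f - algebraMap R B (Bialgebra.counitAlgHom R B f) = r • z → φ f = r := fun f r h =>
      sub_eq_zero.1 (hf _ (by rw [sub_smul, ← hφ, h, sub_self]))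
    refine ⟨{ toFun := φ, map_add' := fun f g => huniq _ _ ?_, map_smul' := fun r f => huniq _ _ ?_ }, ?_, ?_, ?_⟩
    · rw [map_add, map_add, add_smul, ← hφ, ← hφ]; abel
    · rw [map_smul, RingHom.id_apply, smul_assoc, ← hφ, smul_eq_mul, map_mul, ← Algebra.smul_def, smul_sub]
    · exact huniq _ _ (by rw [hz, map_zero, sub_zero, one_smul])
    · exact huniq _ _ (by rw [map_one, map_one, sub_self, zero_smul])
    · intro f
      change f = _ + φ f • z
      rw [← hφ]; abel
  obtain ⟨φ, hφx, hφ1, hφ⟩ := hcoef A x hgen hfree hx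
  obtain ⟨φ', hφx', hφ1', hφ'⟩ := hcoef A' x' hgen' hfree' hx'
  constructor
  · rintro ⟨e⟩
    have hεe : ∀ z, Bialgebra.counitAlgHom R A' (e z) = Bialgebra.counitAlgHom R A z := fun z =>
      CoalgHomClass.counit_comp_apply e z
    obtain ⟨c, hc⟩ := hgen' (e x) (by rw [hεe, hx])
    obtain ⟨d, hd⟩ := hgen (e.symm x') (by
      have := hεe (e.symm x')
      rw [BialgEquiv.apply_symm_apply, hx'] at this
      exact this.symm)
    have hcd : c * d = 1 := by
      have h := congrArg e.symm hc
      rw [BialgEquiv.symm_apply_apply, map_smul, hd, smul_smul] at h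
      have := congrArg φ h
      rwa [map_smul, hφx, smul_eq_mul, mul_one, eq_comm] at this
    refine ⟨Units.mkOfMulEqOne c d hcd, ?_, ?_⟩
    · have h := congrArg (fun z => φ' (e z)) hxa
      simp only [map_mul, map_smul, hc, smul_mul_smul_comm, hxa', smul_smul, hφx', smul_eq_mul, mul_one] at h
      calc a = a * c * d := by rw [mul_assoc, hcd, mul_one]
        _ = c * c * a' * d := by rw [h]
        _ = a' * c := by linear_combination (a' * c) * hcd
    · have h := CoalgHomClass.map_comp_comul_apply e x
      have hxb0 : Coalgebra.comul (R := R) x = x ⊗ₜ[R] 1 + 1 ⊗ₜ[R] x + b • (x ⊗ₜ[R] x) := hxb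
      have hxb0' : Coalgebra.comul (R := R) x' = x' ⊗ₜ[R] 1 + 1 ⊗ₜ[R] x' + b' • (x' ⊗ₜ[R] x') := hxb'
      rw [hxb0, hc, map_smul, hxb0'] at h
      have h2 := congrArg (fun X => LinearMap.mul' R R (TensorProduct.map φ' φ' X)) h
      simp [hc, hφ1', hφx', TensorProduct.smul_tmul', TensorProduct.tmul_smul] at h2
      calc b' = b' * (c * d) := by rw [hcd, mul_one]
        _ = (c * b') * d := by ring
        _ = _ := by
          rw [← h2]
          change _ = b * c
          linear_combination (b * c) * hcd
  · rintro ⟨s, hsa, hsb⟩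
    let F : A →ₗ[R] A' := (Algebra.linearMap R A').comp (Bialgebra.counitAlgHom R A).toLinearMap +
      LinearMap.toSpanSingleton R A' ((s : R) • x') ∘ₗ φ
    have hF : ∀ f, F f = algebraMap R A' (Bialgebra.counitAlgHom R A f) + φ f • ((s : R) • x') := fun f => rfl
    have hFmul : ∀ f g, F (f * g) = F f * F g := by
      intro f g
      have hφm : φ (f * g) = Bialgebra.counitAlgHom R A f * φ g + Bialgebra.counitAlgHom R A g * φ f + φ f * φ g * a := by
        conv_lhs => rw [hφ f, hφ g]
        simp only [Algebra.algebraMap_eq_smul_one, add_mul, mul_add, smul_mul_smul_comm, mul_one, one_mul, hxa,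
          smul_smul, map_add, map_smul, hφx, hφ1, smul_eq_mul]
        ring
      rw [hF, hF, hF, map_mul, hφm]
      simp only [Algebra.algebraMap_eq_smul_one, add_mul, mul_add, smul_mul_smul_comm, mul_one, one_mul, hxa',
        smul_smul, hsa]
      module
    let Fa : A →ₐ[R] A' := AlgHom.ofLinearMap F (by rw [hF, map_one, map_one, hφ1, zero_smul, add_zero]) hFmul
    have hFx : F x = (s : R) • x' := by rw [hF, hx, map_zero, zero_add, hφx, one_smul]
    have hεF : ∀ f, Bialgebra.counitAlgHom R A' (F f) = Bialgebra.counitAlgHom R A f := fun f => by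
      rw [hF, map_add, AlgHom.commutes, map_smul, map_smul, hx', smul_zero, smul_zero, add_zero,
        Algebra.algebraMap_self_apply]
    have hbij : Function.Bijective Fa := by
      constructor
      · rw [injective_iff_map_eq_zero]
        intro f hf
        have h1 : Bialgebra.counitAlgHom R A f = 0 := by
          rw [← hεF f]
          change Bialgebra.counitAlgHom R A' (Fa f) = 0
          rw [hf, map_zero]
        have h2 : φ f • ((s : R) • x') = 0 := by
          have := hF f
          rw [h1, map_zero, zero_add] at this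
          rw [← this]
          exact hf
        rw [smul_smul] at h2
        have h3 : φ f = 0 := s.isUnit.mul_left_eq_zero.1 (hfree' _ h2)
        rw [hφ f, h1, h3, map_zero, zero_smul, add_zero]
      · intro g
        refine ⟨algebraMap R A (Bialgebra.counitAlgHom R A' g) + (φ' g * ((s⁻¹ : Rˣ) : R)) • x, ?_⟩
        change F _ = g
        rw [map_add, map_smul, hFx, smul_smul, mul_assoc, Units.inv_mul, mul_one, hF, AlgHom.commutes,
          Algebra.algebraMap_self_apply, Algebra.algebraMap_eq_smul_one (A := A), map_smul, hφ1, smul_zero,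
          zero_smul, add_zero]
        exact (hφ' g).symm
    refine ⟨BialgEquiv.ofAlgEquiv (AlgEquiv.ofBijective Fa hbij) (AlgHom.ext hεF) ?_⟩
    apply AlgHom.ext
    intro f
    change Algebra.TensorProduct.map Fa Fa (Bialgebra.comulAlgHom R A f) = Bialgebra.comulAlgHom R A' (Fa f)
    rw [hφ f, map_add, map_add, map_add, map_add, AlgHom.commutes, AlgHom.commutes, AlgHom.commutes,
      AlgHom.commutes, map_smul, map_smul, map_smul, map_smul, hxb, show Fa x = (s : R) • x' from hFx,
      map_smul, hxb', hsb]
    congr 2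
    simp only [map_add, map_smul, Algebra.TensorProduct.map_tmul, map_one, show Fa x = (s : R) • x' from hFx,
      TensorProduct.smul_tmul', TensorProduct.tmul_smul, smul_add, smul_smul]

end Groth.Agent.S18480
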