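import Groth.Statements.S18482
import Groth.Agent.TorsClosureLib.Main

set_option autoImplicit false
set_option backward.isDefEq.respectTransparency false
set_option backward.isDefEq.respectTransparency.types false
set_option linter.all false
universe u
open NonAbH1

namespace Groth.Agent.S18482

open CategoryTheory CategoryTheory.Limits MonoidalCategory CartesianMonoidalCategory MonObj AlgebraicGeometry in
/-- Let R be a discrete valuation ring with fraction field K, G a finite flat group scheme over Spec R
and H a closed subgroup scheme of G, flat over Spec R. Let X be a scheme faithfully flat over Spec R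
whose generic and special fibres are reduced and irreducible, and P an affine X-scheme with an
action of the base change of G making it a torsor for the fpqc topology over X. Let Z be a closed
subscheme of P which is flat over Spec R (equivalently: Z is the scheme-theoretic closure in P of
its generic fibre), and suppose that the generic fibre of Z is stable under H, through an action for
which its inclusion into the generic fibre of P is equivariant (H acting on P through G), and is an
fpqc torsor under H over the generic fibre of X. Then Z itself is stable under H: there is an action
of the base change of H on Z for which the inclusion of Z in P is equivariant, and with it Z is an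
fpqc torsor under H over X. (The published statement concerns the Zariski closure in P of a closed
sub-torsor of the generic fibre of P; over a discrete valuation ring a closed subscheme of P is such
a closure exactly when it is flat over R, so the two formulations are equivalent. Flatness of H over
R, which the published notion of torsor requires of the structure group, is assumed explicitly here;
H is also taken closed in G, which the conclusion forces (a torsor under H over X, finite over X,
makes H finite over R, hence closed in G) and which the proof uses. Torsors are written with left
actions and fpqc-local triviality, the published ones with right actions and an affine faithfully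
flat structure map, an equivalent notion for a finite flat group.) -/
theorem result
    (R : Type u) [CommRing R] [IsDomain R] [IsDiscreteValuationRing R]
    (G : Over (Spec (CommRingCat.of R))) [GrpObj G] [IsFinite G.hom] [Flat G.hom]
    (H : Over (Spec (CommRingCat.of R))) [GrpObj H] [Flat H.hom]
    (i : H ⟶ G) [IsMonHom i] [IsClosedImmersion i.left]
    (X : Scheme.{u}) (f : X ⟶ Spec (CommRingCat.of R)) [Flat f] [Surjective f]
    [AlgebraicGeometry.IsReduced (pullback f (Spec.map (CommRingCat.ofHom (algebraMap R (FractionRing R)))))]
    [IrreducibleSpace ↥(pullback f (Spec.map (CommRingCat.ofHom (algebraMap R (FractionRing R)))))]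
    [AlgebraicGeometry.IsReduced (pullback f (Spec.map (CommRingCat.ofHom (IsLocalRing.residue R))))]
    [IrreducibleSpace ↥(pullback f (Spec.map (CommRingCat.ofHom (IsLocalRing.residue R))))]
    (P : Over X) [IsAffineHom P.hom] (a : AlgGrp.Action (Red.bc f G) P)
    (hP : NonAbH1.IsTorsorFor Scheme.fpqcPrecoverage a)
    (Z : Over X) (j : Z ⟶ P) [IsClosedImmersion j.left] [Flat (Z.hom ≫ f)]
    (bη : AlgGrp.Action
      (Red.bc (pullback.fst f (Spec.map (CommRingCat.ofHom (algebraMap R (FractionRing R))))) (Red.bc f H))
      (Red.bc (pullback.fst f (Spec.map (CommRingCat.ofHom (algebraMap R (FractionRing R))))) Z))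
    (hj : AlgGrp.Action.IsEquivariant bη
      (((a.restrict ((Over.pullback f).map i)).bc
        (pullback.fst f (Spec.map (CommRingCat.ofHom (algebraMap R (FractionRing R)))))))
      ((Over.pullback (pullback.fst f (Spec.map (CommRingCat.ofHom (algebraMap R (FractionRing R)))))).map j))
    (hZ : NonAbH1.IsTorsorFor Scheme.fpqcPrecoverage bη) :
    ∃ b : AlgGrp.Action (Red.bc f H) Z,
      AlgGrp.Action.IsEquivariant b (a.restrict ((Over.pullback f).map i)) j ∧
      NonAbH1.IsTorsorFor Scheme.fpqcPrecoverage b := by
  haveI : IsFinite H.hom := by rw [← Over.w i]; infer_instance
  haveI : LocallyOfFinitePresentation H.hom := Groth.Agent.S14008.lfp_of_lft H.hom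
  haveI : IsFinite (Red.bc f G).hom := MorphismProperty.pullback_snd (P := @IsFinite) _ _ ‹IsFinite G.hom›
  haveI : IsFinite (Red.bc f H).hom := MorphismProperty.pullback_snd (P := @IsFinite) _ _ ‹IsFinite H.hom›
  haveI : Flat (Red.bc f H).hom := MorphismProperty.pullback_snd (P := @Flat) _ _ ‹Flat H.hom›
  haveI : LocallyOfFinitePresentation (Red.bc f H).hom :=
    MorphismProperty.pullback_snd (P := @LocallyOfFinitePresentation) _ _ ‹LocallyOfFinitePresentation H.hom›
  haveI : IsFinite P.hom := (Groth.Agent.S18860.result a hP).2.2.1 inferInstance
  haveI : Mono i.left := inferInstance
  haveI : Mono i := Over.mono_of_mono_left i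
  let i' : Red.bc f H ⟶ Red.bc f G := (Over.pullback f).map i
  haveI : Mono i' := inferInstanceAs (Mono ((Over.pullback f).map i))
  have hfree : ∀ (T : Over X) (g : T ⟶ Red.bc f H) (x : T ⟶ P),
      lift g x ≫ (a.restrict i').act = x → g = toUnit T ≫ MonObj.one := by
    intro T g x hg
    change lift g x ≫ (i' ▷ P) ≫ a.act = x at hg
    rw [lift_whiskerRight_assoc] at hg
    letI : GrpObj (Red.bc f G) := inferInstance
    have h1 : g ≫ i' = toUnit T ≫ MonObj.one :=
      ((Groth.Agent.PrincBundLib.isIso_lift_snd_iff a.act).mp hP.1 T x x).unique hg (by
        have := congrArg (lift (toUnit T) x ≫ ·) a.one_act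
        simp only [lift_whiskerRight_assoc, lift_leftUnitor_hom] at this
        exact this)
    rw [← cancel_mono i', h1, Category.assoc, IsMonHom.one_hom]
  exact Groth.Agent.TorsClosure.exists_action f (a.restrict i') hfree j bη hj hZ


end Groth.Agent.S18482
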