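import Groth.Statements.S18484
import Groth.Agent.NMPLib.Basic

set_option autoImplicit false
universe u
open CategoryTheory CategoryTheory.Limits AlgebraicGeometry MonObj
open Neron

namespace Groth.Agent.S18484
open CategoryTheory CategoryTheory.Limits AlgebraicGeometry MonObj

/-- Let R be a Dedekind domain with fraction field K, X a Spec R-scheme which is a Néron model of its
generic fibre X_K, and i : G → X a closed immersion with G smooth over Spec R. Then G is a Néron
model of its generic fibre G_K: smooth, separated, of finite type, and for every smooth Spec
R-scheme Y restriction to generic fibres is a bijection from R-morphisms Y → G onto K-morphisms Y_K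
→ G_K. (The source states this for a closed subgroup scheme of a Néron model; the group laws play no
part and are not assumed. The converse direction of the source, that a Néron model is a closed
subgroup of a Néron model, is immediate and not stated.) -/
theorem result (R : Type u) [CommRing R] [IsDedekindDomain R]
    (X G : Over (Spec (CommRingCat.of R))) (hX : Neron.IsNeronModelOf R X ((Neron.genericFibre R).obj X) (Iso.refl _))
    (i : G ⟶ X) [IsClosedImmersion i.left] [Smooth G.hom] :
    Neron.IsNeronModelOf R G ((Neron.genericFibre R).obj G) (Iso.refl _) := by
  obtain ⟨hsm, hsep, hlft, hqc, hbij⟩ := hX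
  haveI := hsep
  haveI := hlft
  haveI := hqc
  haveI : Mono i.left := inferInstance
  refine ⟨inferInstance, ?_, ?_, ?_, fun Y hY => ?_⟩
  · rw [← Over.w i]; infer_instance
  · rw [← Over.w i]; infer_instance
  · rw [← Over.w i]; infer_instance
  refine ⟨fun f f' h => ?_, fun m => ?_⟩
  · have h' : (Neron.genericFibre R).map f = (Neron.genericFibre R).map f' :=
      (Category.comp_id _).symm.trans (h.trans (Category.comp_id _))
    have : f ≫ i = f' ≫ i := (hbij Y hY).1 (by simp [h'])
    exact Over.OverMorphism.ext ((cancel_mono i.left).1 (congrArg (fun t => t.left) this))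
  · obtain ⟨F, hF⟩ := (hbij Y hY).2 (m ≫ (Neron.genericFibre R).map i)
    replace hF : (Neron.genericFibre R).map F = m ≫ (Neron.genericFibre R).map i :=
      (Category.comp_id _).symm.trans hF
    haveI := hY
    haveI := NMPLib.stDominant_genericFst R Y.hom
    let k : pullback Y.hom (Neron.genPt R) ⟶ pullback F.left i.left :=
      pullback.lift (pullback.fst _ _) (m.left ≫ pullback.fst G.hom (Neron.genPt R)) (by
        rw [← NMPLib.map_left_fst, show (Over.pullback (Neron.genPt R)).map F = m ≫ (Neron.genericFibre R).map i from hF,
          Over.comp_left, Category.assoc, Category.assoc, NMPLib.map_left_fst])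
    haveI : IsIso (pullback.fst F.left i.left) :=
      NMPLib.isIso_of_stDominant (pullback.fst Y.hom (Neron.genPt R)) _ k (pullback.lift_fst _ _ _)
    let f : Y ⟶ G := Over.homMk (inv (pullback.fst F.left i.left) ≫ pullback.snd _ _) (by
      rw [← Over.w i, Category.assoc, ← Category.assoc (pullback.snd _ _), ← pullback.condition, Category.assoc,
        Over.w F, IsIso.inv_hom_id_assoc])
    have hfi : f ≫ i = F := by
      ext1
      show (inv (pullback.fst F.left i.left) ≫ pullback.snd _ _) ≫ i.left = F.left
      rw [Category.assoc, ← pullback.condition, IsIso.inv_hom_id_assoc]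
    refine ⟨f, (Category.comp_id _).trans ?_⟩
    refine Over.OverMorphism.ext (pullback.hom_ext ?_ ((Over.w _).trans (Over.w m).symm))
    rw [← cancel_mono i.left, Category.assoc, Category.assoc, ← NMPLib.map_left_fst,
      ← Category.assoc, ← Category.assoc, ← Over.comp_left, ← Over.comp_left, ← Functor.map_comp, hfi, hF]

end Groth.Agent.S18484
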