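import Groth.Statements.S18498
import Mathlib
-- import your own Groth.Agent.* helpers here

set_option autoImplicit false
set_option backward.isDefEq.respectTransparency false
universe u
open CategoryTheory CategoryTheory.Limits AlgebraicGeometry MonObj
open Neron

namespace Groth.Agent.S18498

/-- Let R be a Dedekind domain with fraction field K, X a Spec R-scheme which is flat over Spec R, Y a
Spec R-scheme which is separated over Spec R, and f, g : X → Y two R-morphisms whose restrictions to
generic fibres X_K → Y_K are equal. Then f = g: an R-morphism from a flat R-scheme to a separated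
R-scheme is determined by its generic fibre. (The source states this for algebraic spaces over a
connected Dedekind scheme; the case of schemes over an affine base is stated.) -/
theorem result (R : Type u) [CommRing R] [IsDedekindDomain R]
    (X Y : Over (Spec (CommRingCat.of R))) [Flat X.hom] [IsSeparated Y.hom] (f g : X ⟶ Y)
    (h : (Neron.genericFibre R).map f = (Neron.genericFibre R).map g) : f = g := by
  haveI : IsDominant (Neron.genPt R) := by
    rw [AlgebraicGeometry.isDominant_iff]
    exact PrimeSpectrum.denseRange_comap_iff_ker_le_nilRadical _ |>.mpr (by
      simp only [CommRingCat.hom_ofHom, (RingHom.injective_iff_ker_eq_bot _).mp (IsFractionRing.injective R (FractionRing R))]; exact bot_le)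
  haveI : IsSchemeTheoreticallyDominant (Neron.genPt R) := .of_isDominant _
  set jP := pullback.fst X.hom (Neron.genPt R)
  have hf : jP ≫ f.left = jP ≫ g.left := by
    have := congrArg (fun φ => φ.left ≫ pullback.fst Y.hom (Neron.genPt R)) h
    simpa [jP] using this
  let jP' : Over.mk (jP ≫ X.hom) ⟶ X := Over.homMk jP rfl
  have hj : jP' ≫ f = jP' ≫ g := Over.OverMorphism.ext hf
  have hker : (equalizer.ι f g).left.ker = ⊥ := by
    refine eq_bot_iff.mpr ?_
    rw [← Scheme.Hom.ker_eq_bot jP, show jP = (equalizer.lift jP' hj).left ≫ (equalizer.ι f g).left by
      rw [← Over.comp_left, equalizer.lift_ι]; rfl]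
    exact Scheme.Hom.le_ker_comp _ _
  haveI : IsIso (equalizer.ι f g).left := IsClosedImmersion.isIso_iff_ker_eq_bot.mpr hker
  refine Over.OverMorphism.ext ?_
  rw [← cancel_epi (equalizer.ι f g).left]
  exact congr($(equalizer.condition f g).left)

end Groth.Agent.S18498
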