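import Groth.Statements.S18486
import Groth.Agent.S18498
import Groth.Agent.S14276
import Groth.Agent.FpqcDesc.Basic
import Groth.Agent.PrincBundLib.Descends
-- import your own Groth.Agent.* helpers here

set_option autoImplicit false
set_option backward.isDefEq.respectTransparency false
set_option maxHeartbeats 1000000
universe u
open CategoryTheory CategoryTheory.Limits AlgebraicGeometry MonObj
open Neron

open MonoidalCategory CartesianMonoidalCategory

namespace Groth.Agent.S18486

/-- Let R be a Dedekind domain with fraction field K, X a group scheme over Spec R which is a Néron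
model of its generic fibre, and P a Spec R-scheme with an action of X making it an X-torsor for the
fppf topology (a pseudo-torsor which acquires sections on the members of some fppf covering family
of Spec R). Then P is smooth, separated and of finite type over Spec R and has the Néron mapping
property: for every smooth Spec R-scheme Y restriction to generic fibres is a bijection from
R-morphisms Y → P onto K-morphisms Y_K → P_K; that is, P is a Néron model of P_K. (The source treats
Néron lft models, torsors that are algebraic spaces and the mapping property towards smooth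
algebraic spaces; the case of a Néron model of finite type and a torsor which is a scheme is
stated.) -/
theorem result (R : Type u) [CommRing R] [IsDedekindDomain R]
    (X : Over (Spec (CommRingCat.of R))) [GrpObj X] (hX : Neron.IsNeronModelOf R X ((Neron.genericFibre R).obj X) (Iso.refl _))
    (P : NonAbH1.TorsorSch X Scheme.fppfPrecoverage) :
    Neron.IsNeronModelOf R P.X ((Neron.genericFibre R).obj P.X) (Iso.refl _) := by
  haveI := Groth.Agent.FpqcDesc.isSeparated_descends.{u}
  haveI := Groth.Agent.FpqcDesc.quasiCompact_descends.{u}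
  obtain ⟨hXs, hXsep, hXft, hXqc, hX⟩ := hX
  have h' : NonAbH1.IsTorsorFor Scheme.fpqcPrecoverage P.act :=
    ⟨P.isTorsor.1, P.isTorsor.2.imp fun Q hQ => ⟨Scheme.fppfPrecoverage_le_fpqcPrecoverage _ hQ.1, hQ.2⟩⟩
  haveI hPs : Smooth P.X.hom := Groth.Agent.PrincBundLib.property_of_torsor @Smooth P.act h' hXs
  haveI hPsep : IsSeparated P.X.hom :=
    Groth.Agent.PrincBundLib.property_of_torsor @IsSeparated P.act h' hXsep
  haveI hPqc : QuasiCompact P.X.hom :=
    Groth.Agent.PrincBundLib.property_of_torsor @QuasiCompact P.act h' hXqc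
  haveI hPsurj : Surjective P.X.hom :=
    Groth.Agent.PrincBundLib.property_of_torsor @Surjective P.act h' (Groth.Agent.S14276.surj_of_grp X)
  haveI hiso : IsIso (lift P.act.act (snd X P.X)) := P.isTorsor.1
  refine ⟨hPs, hPsep, inferInstance, hPqc, fun Y hY => ⟨fun a b hab => ?_, fun v => ?_⟩⟩
  · exact Groth.Agent.S18498.result R Y P.X a b (by simpa using hab)
  let adj := Over.mapPullbackAdj (Neron.genPt R)
  let W : Over (Spec (CommRingCat.of R)) := P.X ⊗ Y
  haveI hW : Smooth W.hom := by
    show Smooth (pullback.fst P.X.hom Y.hom ≫ P.X.hom)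
    infer_instance
  let cu : ∀ Z : Over (Spec (CommRingCat.of R)),
      (Over.map (Neron.genPt R)).obj ((Neron.genericFibre R).obj Z) ⟶ Z := fun Z => adj.counit.app Z
  have hnat : ∀ {A B : Over (Spec (CommRingCat.of R))} (k : A ⟶ B),
      (Over.map (Neron.genPt R)).map ((Neron.genericFibre R).map k) ≫ cu B = cu A ≫ k := fun k =>
    adj.counit.naturality k
  let ut := (Over.map (Neron.genPt R)).map v ≫ cu P.X
  let y := (Over.map (Neron.genPt R)).map ((Neron.genericFibre R).map (snd P.X Y : W ⟶ Y))
  let p : (Over.map (Neron.genPt R)).obj ((Neron.genericFibre R).obj W) ⟶ P.X :=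
    cu W ≫ (fst P.X Y : W ⟶ P.X)
  let d₀ := lift (y ≫ ut) p ≫ inv (lift P.act.act (snd X P.X)) ≫ fst X P.X
  obtain ⟨d, hd⟩ := (hX W hW).2 (adj.homEquiv _ _ d₀)
  have hd' : cu W ≫ d = d₀ := by
    have h1 := congrArg (adj.homEquiv _ _).symm hd
    rw [Equiv.symm_apply_apply, Adjunction.homEquiv_counit] at h1
    simp only [Iso.refl_hom, Category.comp_id] at h1
    rw [hnat] at h1
    exact h1
  let f₁ : W ⟶ P.X := lift d (fst P.X Y) ≫ P.act.act
  have hf₁ : cu W ≫ f₁ = y ≫ ut := by
    have hinv : inv (lift P.act.act (snd X P.X)) ≫ snd X P.X = snd P.X P.X := by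
      rw [IsIso.inv_comp_eq, lift_snd]
    have h2 : lift d₀ p = lift (y ≫ ut) p ≫ inv (lift P.act.act (snd X P.X)) := by
      apply CartesianMonoidalCategory.hom_ext
      · simp [d₀]
      · rw [lift_snd, Category.assoc, hinv, lift_snd]
    have hinv1 : inv (lift P.act.act (snd X P.X)) ≫ P.act.act = fst P.X P.X := by
      rw [IsIso.inv_comp_eq, lift_fst]
    show cu W ≫ lift d (fst P.X Y) ≫ P.act.act = _
    rw [comp_lift_assoc, hd']
    show lift d₀ p ≫ P.act.act = _
    rw [h2, Category.assoc, hinv1, lift_fst]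
  let sY : W.left ⟶ Y.left := pullback.snd P.X.hom Y.hom
  haveI : Flat sY := inferInstanceAs (Flat (pullback.snd P.X.hom Y.hom))
  haveI : Surjective sY := inferInstanceAs (Surjective (pullback.snd P.X.hom Y.hom))
  haveI : QuasiCompact sY := inferInstanceAs (QuasiCompact (pullback.snd P.X.hom Y.hom))
  have hcond : ∀ {Z : Scheme.{u}} (g₁ g₂ : Z ⟶ W.left), g₁ ≫ sY = g₂ ≫ sY → g₁ ≫ f₁.left = g₂ ≫ f₁.left := by
    intro Z g₁ g₂ hg
    let W₂ : Over (Spec (CommRingCat.of R)) := Over.mk (pullback.fst sY sY ≫ W.hom)
    haveI : Flat (pullback.fst sY sY) := inferInstance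
    haveI : Flat W₂.hom := inferInstanceAs (Flat (pullback.fst sY sY ≫ W.hom))
    have hsw : sY ≫ Y.hom = W.hom := Over.w (snd P.X Y : W ⟶ Y)
    let k₁ : W₂ ⟶ W := Over.homMk (pullback.fst sY sY) rfl
    let k₂ : W₂ ⟶ W := Over.homMk (pullback.snd sY sY) (by
      show pullback.snd sY sY ≫ W.hom = pullback.fst sY sY ≫ W.hom
      rw [← hsw, ← pullback.condition_assoc])
    have hk : k₁ ≫ (snd P.X Y : W ⟶ Y) = k₂ ≫ snd P.X Y := by
      ext1
      exact pullback.condition
    have he : k₁ ≫ f₁ = k₂ ≫ f₁ := by
      apply Groth.Agent.S18498.result R W₂ P.X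
      apply (adj.homEquiv _ _).symm.injective
      rw [Adjunction.homEquiv_counit, Adjunction.homEquiv_counit]
      change (Over.map _).map _ ≫ cu P.X = (Over.map _).map _ ≫ cu P.X
      rw [hnat, hnat]
      have hk' : ∀ k : W₂ ⟶ W, cu W₂ ≫ k ≫ f₁ =
          (Over.map (Neron.genPt R)).map ((Neron.genericFibre R).map (k ≫ (snd P.X Y : W ⟶ Y))) ≫ ut := by
        intro k
        rw [← Category.assoc, ← hnat k, Category.assoc, hf₁]
        simp only [y, ← Category.assoc, ← Functor.map_comp]
      rw [hk', hk', hk]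
    rw [← pullback.lift_fst g₁ g₂ hg, Category.assoc]
    conv_rhs => rw [← pullback.lift_snd g₁ g₂ hg, Category.assoc]
    exact congrArg (fun t => pullback.lift g₁ g₂ hg ≫ t) (congrArg CommaMorphism.left he)
  let fl := EffectiveEpi.desc sY f₁.left hcond
  have hfl : sY ≫ fl = f₁.left := EffectiveEpi.fac sY f₁.left hcond
  let f : Y ⟶ P.X := Over.homMk fl (by
    rw [← cancel_epi sY, ← Category.assoc, hfl]
    exact (Over.w f₁).trans (Over.w (snd P.X Y : W ⟶ Y)).symm)
  refine ⟨f, ?_⟩
  show (Neron.genericFibre R).map f ≫ (Iso.refl _).hom = v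
  rw [Iso.refl_hom, Category.comp_id]
  apply (adj.homEquiv _ _).symm.injective
  rw [Adjunction.homEquiv_counit, Adjunction.homEquiv_counit]
  change (Over.map _).map _ ≫ cu P.X = ut
  rw [hnat]
  ext1
  have hsw : sY ≫ Y.hom = W.hom := Over.w (snd P.X Y : W ⟶ Y)
  let a := pullback.fst sY (cu Y).left
  let b := pullback.snd sY (cu Y).left
  haveI : Flat b := inferInstance
  haveI : Surjective b := inferInstance
  haveI : QuasiCompact b := inferInstance
  have hab : a ≫ sY = b ≫ pullback.fst Y.hom (Neron.genPt R) := pullback.condition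
  let z : pullback sY (cu Y).left ⟶ ((Neron.genericFibre R).obj W).left :=
    pullback.lift a (b ≫ pullback.snd Y.hom (Neron.genPt R)) (by
      rw [← hsw, reassoc_of% hab, Category.assoc, pullback.condition])
  have hz1 : z ≫ (cu W).left = a := pullback.lift_fst _ _ _
  have hz2 : z ≫ y.left = b := by
    apply pullback.hom_ext
    · simp [y, z, ← hab, sY]
      exact pullback.lift_fst_assoc _ _ _ _
    · simp [y, z]
      exact pullback.lift_snd _ _ _
  rw [← cancel_epi b]
  calc b ≫ (cu Y).left ≫ fl = a ≫ sY ≫ fl := ((Category.assoc _ _ fl).symm.trans ((congrArg (fun t => t ≫ fl) hab.symm).trans (Category.assoc _ _ fl)))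
    _ = z ≫ (cu W ≫ f₁).left := by rw [hfl, ← hz1, Category.assoc]; rfl
    _ = _ := by rw [hf₁, Over.comp_left, ← Category.assoc, hz2]

end Groth.Agent.S18486
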