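import Groth.Statements.S18487
import Mathlib
import Groth.Agent.FpqcDesc.Basic
import Groth.Agent.PrincBundLib.Descends
import Groth.Agent.NormalSch.DedekindExt

set_option autoImplicit false
universe u
open CategoryTheory CategoryTheory.Limits AlgebraicGeometry MonObj
open NonAbH1

namespace Groth.Agent.S18487

/-- Let R be a Dedekind domain with fraction field K, G a proper flat group scheme over Spec R, and P a
Spec R-scheme with an action of G making it a G-torsor for the fppf topology (a pseudo-torsor
acquiring sections on the members of an fppf covering family). If P acquires a section over the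
generic point Spec K → Spec R, then P has a section over Spec R: a generically trivial torsor is
trivial. (The source allows any connected Dedekind scheme as base and torsors that are fppf sheaves,
shown there to be schemes; the affine base and scheme torsors are stated.) -/
theorem result (R : Type u) [CommRing R] [IsDedekindDomain R]
    (G : Over (Spec (CommRingCat.of R))) [GrpObj G] [IsProper G.hom] [Flat G.hom]
    (P : NonAbH1.TorsorSch G Scheme.fppfPrecoverage) (h : NonAbH1.HasSectionOver P.X (Neron.genPt R)) :
    NonAbH1.HasSectionOver P.X (𝟙 (Spec (CommRingCat.of R))) := by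
  haveI := Groth.Agent.FpqcDesc.isProper_descends.{u}
  haveI : IsProper P.X.hom := Groth.Agent.PrincBundLib.property_of_torsor @IsProper P.act
    ⟨P.isTorsor.1, P.isTorsor.2.imp fun Q hQ => ⟨Scheme.fppfPrecoverage_le_fpqcPrecoverage _ hQ.1, hQ.2⟩⟩
    inferInstance
  haveI : IsDomain (CommRingCat.of R) := inferInstanceAs (IsDomain R)
  haveI : IsNoetherianRing (CommRingCat.of R) := inferInstanceAs (IsNoetherianRing R)
  haveI : AlgebraicGeometry.IsNoetherian (Spec (CommRingCat.of R)) := inferInstance
  obtain ⟨s, hs⟩ := h
  let F := (Spec (CommRingCat.of R)).functionField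
  letI : Algebra R F := AlgebraicGeometry.instAlgebraCarrierFunctionFieldSpec (CommRingCat.of R)
  haveI : IsFractionRing R F := AlgebraicGeometry.functionField_isFractionRing_of_affine (CommRingCat.of R)
  let e : FractionRing R ≃ₐ[R] F := FractionRing.algEquiv R F
  have hX : ∀ x : Spec (CommRingCat.of R), x ≠ genericPoint (Spec (CommRingCat.of R)) →
      ∃ _ : IsDomain ((Spec (CommRingCat.of R)).presheaf.stalk x), IsDiscreteValuationRing ((Spec (CommRingCat.of R)).presheaf.stalk x) := by
    intro x hx
    have hp : x.asIdeal ≠ ⊥ := fun hb => hx (by
      rw [genericPoint_eq_bot_of_affine]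
      exact PrimeSpectrum.ext hb)
    letI : Algebra R ((Spec (CommRingCat.of R)).presheaf.stalk x) := StructureSheaf.stalkAlgebra R x
    haveI : IsLocalization.AtPrime ((Spec (CommRingCat.of R)).presheaf.stalk x) x.asIdeal :=
      StructureSheaf.IsLocalization.to_stalk R x
    haveI : IsDomain ((Spec (CommRingCat.of R)).presheaf.stalk x) :=
      IsLocalization.isDomain_of_le_nonZeroDivisors (R := R)
        (S := (Spec (CommRingCat.of R)).presheaf.stalk x)
        (x.asIdeal.primeCompl_le_nonZeroDivisors)
    exact ⟨inferInstance, IsLocalization.AtPrime.isDiscreteValuationRing_of_dedekind_domain R hp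
      ((Spec (CommRingCat.of R)).presheaf.stalk x)⟩
  obtain ⟨g, hg, -⟩ := Groth.Agent.NormalSch.exists_extension_of_generic hX (𝟙 _) P.X.hom
    (Spec.map (CommRingCat.ofHom e.toAlgHom.toRingHom) ≫ s) (by
      rw [Category.assoc, Category.comp_id, Spec.fromSpecStalk_eq']
      erw [hs]
      rw [← Spec.map_comp]
      congr 1
      ext r
      exact e.commutes r)
  exact ⟨g, hg⟩

end Groth.Agent.S18487
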