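import Groth.Statements.S18488
import Mathlib
import Groth.Agent.FpqcDesc.Basic
import Groth.Agent.ASp.Fpqc
import Groth.Agent.PrincBundLib.Invariant
import Groth.Agent.PrincBundLib.QuasiSection

set_option autoImplicit false
universe u
open CategoryTheory CategoryTheory.Limits AlgebraicGeometry MonObj
open NonAbH1

namespace Groth.Agent.S18488
theorem equivIso_of_eqvGen {S : Scheme.{u}} {G : Over S} [GrpObj G] {K : Precoverage Scheme.{u}}
    {P Q : NonAbH1.TorsorSch G K}
    (h : Relation.EqvGen (fun P Q : NonAbH1.TorsorSch G K => Nonempty (NonAbH1.EquivIso P.act Q.act)) P Q) :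
    Nonempty (NonAbH1.EquivIso P.act Q.act) := by
  induction h with
  | rel _ _ h => exact h
  | refl X => exact ⟨⟨Iso.refl _, by simp⟩⟩
  | symm _ _ _ ih =>
    obtain ⟨e⟩ := ih
    refine ⟨⟨e.iso.symm, ?_⟩⟩
    rw [Iso.symm_hom, Iso.comp_inv_eq, Category.assoc, e.comm, ← Category.assoc,
      ← MonoidalCategory.whiskerLeft_comp, Iso.inv_hom_id, MonoidalCategory.whiskerLeft_id, Category.id_comp]
  | trans _ _ _ _ _ ih₁ ih₂ =>
    obtain ⟨e₁⟩ := ih₁
    obtain ⟨e₂⟩ := ih₂
    refine ⟨⟨e₁.iso ≪≫ e₂.iso, ?_⟩⟩
    rw [Iso.trans_hom, ← Category.assoc, e₁.comm, Category.assoc, e₂.comm, ← Category.assoc,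
      ← MonoidalCategory.whiskerLeft_comp]


/-- Let R be a Dedekind domain with fraction field K and G a proper flat group scheme over Spec R. Then
restriction to the generic fibre, from the set of classes of G-torsors for the fppf topology (Spec
R-schemes with a G-action, pseudo-torsors trivialised on an fppf covering family, up to equivariant
isomorphism) to the set of classes of G_K-torsors, is injective. (The source allows any connected
Dedekind scheme as base and all fppf torsors, which it shows to be schemes; the affine base and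
torsors representable by schemes are stated.) -/
theorem result (R : Type u) [CommRing R] [IsDedekindDomain R]
    (G : Over (Spec (CommRingCat.of R))) [GrpObj G] [IsProper G.hom] [Flat G.hom] :
    Function.Injective (NonAbH1.H1Sch.bcMap (Neron.genPt R) G Scheme.fppfPrecoverage) := by
  intro c c' h
  induction c using Quot.ind with | mk P => ?_
  induction c' using Quot.ind with | mk Q => ?_
  obtain ⟨φ⟩ := equivIso_of_eqvGen (Quot.eqvGen_exact h)
  haveI := Groth.Agent.FpqcDesc.isProper_descends.{u}
  haveI := Groth.Agent.ASp.flat_descends.{u}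
  have hfpqc : ∀ T : NonAbH1.TorsorSch G Scheme.fppfPrecoverage,
      NonAbH1.IsTorsorFor Scheme.fpqcPrecoverage T.act := fun T =>
    ⟨T.isTorsor.1, T.isTorsor.2.imp fun R' hR => ⟨Scheme.fppfPrecoverage_le_fpqcPrecoverage _ hR.1, hR.2⟩⟩
  have hsurj : Surjective G.hom := ⟨fun s => ⟨(MonObj.one (X := G)).left s, by
    rw [← Scheme.Hom.comp_apply, Over.w]
    rfl⟩⟩
  haveI := Groth.Agent.PrincBundLib.property_of_torsor @IsProper P.act (hfpqc P) inferInstance
  haveI := Groth.Agent.PrincBundLib.property_of_torsor @IsProper Q.act (hfpqc Q) inferInstance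
  haveI := Groth.Agent.PrincBundLib.property_of_torsor @Flat P.act (hfpqc P) inferInstance
  haveI := Groth.Agent.PrincBundLib.property_of_torsor @Surjective P.act (hfpqc P) hsurj
  obtain ⟨C, L, _, _, _, _, _, _, _, _, _, _, hloc, hfl, hsj, ⟨x⟩⟩ :=
    Groth.Agent.PrincBundLib.exists_quasiSection (R := R) (FractionRing R) P.X
  let q := Spec.map (CommRingCat.ofHom (algebraMap R C))
  let qL := Spec.map (CommRingCat.ofHom (algebraMap R L))
  let iL : Over.mk qL ⟶ Over.mk q := Over.homMk (Spec.map (CommRingCat.ofHom (algebraMap C L))) (by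
    show Spec.map _ ≫ q = qL
    rw [← Spec.map_comp, ← CommRingCat.ofHom_comp, ← IsScalarTower.algebraMap_eq])
  let t := Spec.map (CommRingCat.ofHom (algebraMap (FractionRing R) L))
  have ht : t ≫ Neron.genPt R = (Over.mk qL).hom := by
    show Spec.map _ ≫ Spec.map _ = qL
    rw [← Spec.map_comp, ← CommRingCat.ofHom_comp, ← IsScalarTower.algebraMap_eq]
  let yL := Groth.Agent.PrincBundLib.transp (Neron.genPt R) φ.iso.hom (Over.mk qL) t ht (iL ≫ x)
  obtain ⟨g, hg, hgL⟩ := Groth.Agent.PrincBundLib.exists_extend_dedekind C L q Q.X.hom yL.left (by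
    rw [Over.w yL]
    exact (Over.w iL).symm)
  let y : Over.mk q ⟶ Q.X := Over.homMk g hg
  have hy : iL ≫ y = yL := Over.OverMorphism.ext hgL
  let W := Groth.Agent.PrincBundLib.pullObj (Over.mk q) (Neron.genPt R)
  haveI : IsLocalization (Submonoid.map (algebraMap R C) (nonZeroDivisors R)) L := hloc
  have hpb : IsPullback iL.left t q (Neron.genPt R) :=
    isPullback_SpecMap_of_isPushout _ _ _ _ (CommRingCat.isPushout_of_isLocalization
      (algebraMap R C) (algebraMap (FractionRing R) L)
      ((IsScalarTower.algebraMap_eq R (FractionRing R) L).symm.trans (IsScalarTower.algebraMap_eq R C L))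
      (nonZeroDivisors R))
  let l : Over.mk qL ⟶ W := Over.homMk hpb.isoPullback.hom (by
    show hpb.isoPullback.hom ≫ Limits.pullback.fst _ _ ≫ q = qL
    rw [IsPullback.isoPullback_hom_fst_assoc]
    exact Over.w iL)
  haveI : IsIso l := by
    haveI : IsIso ((Over.forget _).map l) := inferInstanceAs (IsIso hpb.isoPullback.hom)
    exact isIso_of_reflects_iso l (Over.forget _)
  have hl : l ≫ Groth.Agent.PrincBundLib.pullTo (Over.mk q) (Neron.genPt R) = iL :=
    Over.OverMorphism.ext (IsPullback.isoPullback_hom_fst _)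
  haveI : Surjective q := hsj
  haveI : Flat q := hfl
  haveI : Mono (Neron.genPt R) := Groth.Agent.PrincBundLib.mono_genPt (FractionRing R)
  obtain ⟨f, hf⟩ := Groth.Agent.PrincBundLib.exists_equivariant_ext (FractionRing R) P.act
    P.isTorsor.1 Q.act φ.iso.hom φ.comm q x y (by
      rw [← cancel_epi l, ← Category.assoc, hl, hy,
        ← Groth.Agent.PrincBundLib.transp_comp (Neron.genPt R) φ.iso.hom l _ _ t ht, ← Category.assoc, hl])
  haveI := Groth.Agent.PrincBundLib.isIso_of_isEquivariant P.act Q.act (hfpqc P) (hfpqc Q) f hf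
  exact Quot.sound ⟨⟨asIso f, hf⟩⟩

end Groth.Agent.S18488
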