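import Groth.Statements.S18490
import Mathlib

set_option autoImplicit false
universe u
open CategoryTheory CategoryTheory.Limits AlgebraicGeometry
open FlatMor

namespace Groth.Agent.S18490

/-- Let f : X → S and g : Y → S be morphisms of schemes and suppose that g has a section y : S → Y. If
the structure morphism X ×_S Y → S (first projection followed by f) is quasi-compact, then so is f;
likewise for locally of finite type, for separated, and for flat. (Finite type, also listed in the
source, is the conjunction of the first two.) -/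
theorem result {X Y S : Scheme.{u}} (f : X ⟶ S) (g : Y ⟶ S)
    (y : S ⟶ Y) (hy : y ≫ g = 𝟙 S) :
    (QuasiCompact (pullback.fst f g ≫ f) → QuasiCompact f) ∧
    (LocallyOfFiniteType (pullback.fst f g ≫ f) → LocallyOfFiniteType f) ∧
    (IsSeparated (pullback.fst f g ≫ f) → IsSeparated f) ∧
    (Flat (pullback.fst f g ≫ f) → Flat f) := by
  let s : X ⟶ pullback f g := pullback.lift (𝟙 X) (f ≫ y) (by rw [Category.id_comp, Category.assoc, hy, Category.comp_id])
  have hs : s ≫ pullback.fst f g = 𝟙 X := pullback.lift_fst _ _ _
  haveI : IsSplitMono s := IsSplitMono.mk' ⟨pullback.fst f g, hs⟩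
  have hf : s ≫ pullback.fst f g ≫ f = f := by rw [← Category.assoc, hs, Category.id_comp]
  refine ⟨fun h => ?_, fun h => ?_, fun h => ?_, fun h => ?_⟩
  · rw [quasiCompact_iff]
    intro O hO hc
    have := QuasiCompact.isCompact_preimage (f := pullback.fst f g ≫ f) O hO hc
    have hsur : Function.Surjective (pullback.fst f g) := fun x => ⟨s x, by rw [← Scheme.Hom.comp_apply, hs]; rfl⟩
    have e : (pullback.fst f g ≫ f) ⁻¹' O = pullback.fst f g ⁻¹' (f ⁻¹' O) := rfl
    rw [e] at this
    rw [← Set.image_preimage_eq (f ⁻¹' O) hsur]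
    exact this.image (pullback.fst f g).continuous
  · haveI : LocallyOfFiniteType (s ≫ pullback.fst f g) := by rw [hs]; infer_instance
    haveI := locallyOfFiniteType_of_comp s (pullback.fst f g)
    rw [← hf]; infer_instance
  · rw [← hf]; infer_instance
  · rw [Flat.iff_flat_stalkMap]
    intro x
    have h1 := Flat.iff_flat_stalkMap (pullback.fst f g ≫ f) |>.mp h (s x)
    rw [Scheme.Hom.stalkMap_comp] at h1
    have hx : pullback.fst f g (s x) = x := by rw [← Scheme.Hom.comp_apply, hs]; rfl
    suffices H : (f.stalkMap (pullback.fst f g (s x))).hom.Flat by rwa [hx] at H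
    have h2 : (pullback.fst f g).stalkMap (s x) ≫ s.stalkMap x ≫ (X.presheaf.stalkCongr (Inseparable.of_eq hx)).inv = 𝟙 _ := by
      rw [← Category.assoc, ← Scheme.Hom.stalkMap_comp, Scheme.Hom.stalkMap_congr_hom _ _ hs x]
      simp
    letI : Algebra (S.presheaf.stalk (f (pullback.fst f g (s x)))) (X.presheaf.stalk (pullback.fst f g (s x))) := (f.stalkMap (pullback.fst f g (s x))).hom.toAlgebra
    letI : Algebra (S.presheaf.stalk (f (pullback.fst f g (s x)))) ((pullback f g).presheaf.stalk (s x)) := (f.stalkMap (pullback.fst f g (s x)) ≫ (pullback.fst f g).stalkMap (s x)).hom.toAlgebra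
    haveI : Module.Flat (S.presheaf.stalk (f (pullback.fst f g (s x)))) ((pullback f g).presheaf.stalk (s x)) := h1
    let i : X.presheaf.stalk (pullback.fst f g (s x)) →ₐ[S.presheaf.stalk (f (pullback.fst f g (s x)))] (pullback f g).presheaf.stalk (s x) :=
      ⟨((pullback.fst f g).stalkMap (s x)).hom, fun _ => rfl⟩
    let r : (pullback f g).presheaf.stalk (s x) →ₐ[S.presheaf.stalk (f (pullback.fst f g (s x)))] X.presheaf.stalk (pullback.fst f g (s x)) :=
      ⟨(s.stalkMap x ≫ (X.presheaf.stalkCongr (Inseparable.of_eq hx)).inv).hom, fun a =>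
        congr(($h2).hom ((f.stalkMap (pullback.fst f g (s x))).hom a))⟩
    exact Module.Flat.of_retract i.toLinearMap r.toLinearMap (LinearMap.ext fun a => congr(($h2).hom a))

end Groth.Agent.S18490
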