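import Groth.Statements.S5414
import Groth.Agent.DimOneAffHom.Basic
import Groth.Agent.ZMTFactorLib.Basic

set_option autoImplicit false
universe u
open CategoryTheory MonoidalCategory CartesianMonoidalCategory MonObj GrpObj AlgebraicGeometry CategoryTheory.Limits
open SGA3x

namespace Groth.Agent.S5414

open Groth.Agent.DimOneAffHom

set_option backward.isDefEq.respectTransparency false in
theorem snd_finite_of_map {S : Scheme.{u}} {X Y : Over S} (u : X ⟶ Y) {P₀ : Scheme.{u}} (m₀ : P₀ ⟶ S)
    [IsFinite ((Over.pullback m₀).map u).left] : IsFinite (pullback.snd u.left (pullback.fst Y.hom m₀)) := by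
  have h : IsPullback (pullback.fst X.hom m₀) ((Over.pullback m₀).map u).left u.left (pullback.fst Y.hom m₀) := by
    refine IsPullback.of_bot ?_ (by simp) (IsPullback.of_hasPullback Y.hom m₀)
    have e1 : ((Over.pullback m₀).map u).left ≫ pullback.snd Y.hom m₀ = pullback.snd X.hom m₀ := by simp
    rw [e1, show u.left ≫ Y.hom = X.hom from Over.w u]
    exact IsPullback.of_hasPullback X.hom m₀
  rw [← h.isoPullback_inv_snd]
  infer_instance

set_option backward.isDefEq.respectTransparency false in
theorem snd_finite_restrict {X Y P : Scheme.{u}} (u : X ⟶ Y) (m : P ⟶ Y) [IsFinite (pullback.snd u m)]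
    (V : Y.Opens) : IsFinite (pullback.snd (u ∣_ V) (pullback.fst V.ι m)) := by
  have hb := (IsPullback.of_hasPullback (u ∣_ V) (pullback.fst V.ι m)).paste_horiz (isPullback_morphismRestrict u V).flip
  rw [pullback.condition] at hb
  let a : pullback (u ∣_ V) (pullback.fst V.ι m) ⟶ pullback u m :=
    pullback.lift (pullback.fst (u ∣_ V) (pullback.fst V.ι m) ≫ (u ⁻¹ᵁ V).ι)
      (pullback.snd (u ∣_ V) (pullback.fst V.ι m) ≫ pullback.snd V.ι m) (by
        rw [Category.assoc, Category.assoc]; simpa using hb.w)
  have h' : IsPullback a (pullback.snd (u ∣_ V) (pullback.fst V.ι m)) (pullback.snd u m) (pullback.snd V.ι m) :=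
    IsPullback.of_right (by simpa [a] using hb) (by simp [a]) (IsPullback.of_hasPullback u m)
  exact MorphismProperty.of_isPullback h' inferInstance

/-- Let S be a locally Noetherian scheme of dimension at most 1, X and Y two S-schemes locally of finite
type over S and u : X → Y an S-morphism which is quasi-finite (quasi-compact, locally quasi-finite)
and separated. Suppose that for every point s of S the morphism u_s : X_s → Y_s induced on the
fibres over s is finite. Then u is affine. (The published statement takes S of dimension 1; this row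
allows dimension at most 1, which its proof covers.) -/
theorem result (S : Scheme.{u}) [IsLocallyNoetherian S] (hdim : topologicalKrullDim ↥S ≤ 1)
    (X Y : Over S) [LocallyOfFiniteType X.hom] [LocallyOfFiniteType Y.hom] (u : X ⟶ Y)
    [QuasiCompact u.left] [LocallyQuasiFinite u.left] [IsSeparated u.left]
    (hfin : ∀ s : S, IsFinite ((Over.pullback (S.fromSpecResidueField s)).map u).left) :
    IsAffineHom u.left := by
  refine isAffineHom_of_forall_exists_isAffineOpen _ fun y => ?_
  obtain ⟨V, hV, hyV, -⟩ := exists_isAffineOpen_mem_and_subset (show y ∈ (⊤ : Y.left.Opens) from trivial)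
  refine ⟨V, hyV, hV, ?_⟩
  haveI : IsAffine V := hV
  haveI : QuasiCompact (u.left ∣_ V) := MorphismProperty.of_isPullback (isPullback_morphismRestrict u.left V).flip inferInstance
  haveI : LocallyOfFiniteType (u.left ≫ Y.hom) := by rw [Over.w u]; infer_instance
  haveI : LocallyOfFiniteType u.left := locallyOfFiniteType_of_comp u.left Y.hom
  let u' := u.left ∣_ V
  haveI : IsSeparated u' := MorphismProperty.of_isPullback (isPullback_morphismRestrict u.left V).flip ‹IsSeparated u.left›
  haveI : LocallyQuasiFinite u' := MorphismProperty.of_isPullback (isPullback_morphismRestrict u.left V).flip ‹LocallyQuasiFinite u.left›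
  haveI : LocallyOfFiniteType u' := MorphismProperty.of_isPullback (isPullback_morphismRestrict u.left V).flip ‹LocallyOfFiniteType u.left›
  haveI : IsOpenImmersion u'.toNormalization := inferInstance
  haveI : QuasiCompact u'.toNormalization := inferInstance
  haveI : LocallyOfFiniteType (u'.toNormalization ≫ u'.fromNormalization) := by
    rw [Scheme.Hom.toNormalization_fromNormalization]; infer_instance
  obtain ⟨T, qT, g, hg, hqg, hj, hjqc⟩ :=
    ZMTFactorLib.exists_finite_factor u'.fromNormalization u'.toNormalization
  let j := u'.toNormalization ≫ qT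
  have hju : j ≫ g = u' := by rw [Category.assoc, hqg, Scheme.Hom.toNormalization_fromNormalization]
  haveI : IsAffine T := isAffine_of_isAffineHom g
  haveI : LocallyOfFiniteType (g ≫ V.ι ≫ Y.hom) := inferInstance
  haveI : IsLocallyNoetherian T := LocallyOfFiniteType.isLocallyNoetherian (g ≫ V.ι ≫ Y.hom)
  have haff : IsAffineOpen j.opensRange := by
    refine isAffineOpen_of_fibrewise_stable hdim (g ≫ V.ι ≫ Y.hom) _ ?_
    rintro _ z ⟨x, rfl⟩ hxz he
    let s := Y.hom (V.ι (g (j x)))
    haveI := hfin s
    haveI := snd_finite_of_map u (S.fromSpecResidueField s)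
    let m := pullback.fst Y.hom (S.fromSpecResidueField s)
    haveI : IsFinite (pullback.snd (u.left ∣_ V) (pullback.fst V.ι m)) := snd_finite_restrict u.left m V
    haveI : IsFinite (pullback.snd (j ≫ g) (pullback.fst V.ι m)) := by rw [hju]; infer_instance
    have hmem : ∀ v : V.toScheme, Y.hom (V.ι v) = s → v ∈ Set.range (pullback.fst V.ι m) := fun v hv => by
      rw [Scheme.Pullback.range_fst, Set.mem_preimage, Scheme.Pullback.range_fst, Set.mem_preimage,
        Scheme.range_fromSpecResidueField]
      exact hv
    refine mem_range_of_finite_baseChange j g (pullback.fst V.ι m) hxz (hmem _ rfl) (hmem _ ?_)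
    exact he.symm
  exact IsAffine.of_isIso j.isoOpensRange.hom (h := haff)

end Groth.Agent.S5414
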