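import Groth.Statements.S18493
import Groth.Agent.S18489
import Groth.Agent.S5414
-- import your own Groth.Agent.* helpers here

set_option autoImplicit false
set_option backward.isDefEq.respectTransparency false
set_option linter.style.haveILetI false
set_option maxHeartbeats 1600000
universe u
open CategoryTheory CategoryTheory.Limits AlgebraicGeometry MonObj
open Neron

namespace Groth.Agent.S18493

open Limits MonoidalCategory CartesianMonoidalCategory

/-- Let R be a Dedekind domain with fraction field K, let A and B be group schemes over Spec R which are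
Néron models of their generic fibres, both abelian varieties over K (proper and geometrically
integral), let φ : A → B be a homomorphism whose generic fibre is an isogeny (surjective with finite
kernel), and let i : N → A be a kernel of φ (cartesian square against the unit section of B). If φ
is flat, then N → Spec R is locally quasi-finite, of finite type, flat and affine; if moreover A is
proper over Spec R then N → Spec R is finite. -/
theorem result (R : Type u) [CommRing R]
    [IsDedekindDomain R] (A B : Over (Spec (CommRingCat.of R))) [GrpObj A] [GrpObj B]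
    (hA : Neron.IsNeronModelOf R A ((Neron.genericFibre R).obj A) (Iso.refl _))
    (hB : Neron.IsNeronModelOf R B ((Neron.genericFibre R).obj B) (Iso.refl _))
    [IsProper ((Neron.genericFibre R).obj A).hom] [GeometricallyIntegral ((Neron.genericFibre R).obj A).hom]
    [IsProper ((Neron.genericFibre R).obj B).hom] [GeometricallyIntegral ((Neron.genericFibre R).obj B).hom]
    (φ : A ⟶ B) [IsMonHom φ] (hφ : SGA7.IsIsogenyOver ((Neron.genericFibre R).map φ)) [Flat φ.left]
    (N : Over (Spec (CommRingCat.of R))) (i : N ⟶ A) (hN : AlgGrp.IsKernel i φ) :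
    (LocallyQuasiFinite N.hom ∧ QuasiCompact N.hom ∧ Flat N.hom ∧ IsAffineHom N.hom) ∧
    (IsProper A.hom → IsFinite N.hom) := by
  obtain ⟨hAs, hAsep, hAft, hAqc, -⟩ := id hA
  obtain ⟨hBs, hBsep, hBft, hBqc, -⟩ := id hB
  haveI := hBsep
  haveI hqf : LocallyQuasiFinite φ.left := (Groth.Agent.S18489.result R A B hA hB φ hφ).2 ‹_›
  haveI : QuasiCompact (φ.left ≫ B.hom) := by rw [Over.w φ]; exact hAqc
  haveI : QuasiCompact φ.left := QuasiCompact.of_comp φ.left B.hom
  haveI : LocallyOfFiniteType (φ.left ≫ B.hom) := by rw [Over.w φ]; exact hAft
  haveI : LocallyOfFiniteType φ.left := locallyOfFiniteType_of_comp φ.left B.hom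
  have P0 := SgaHomLib.isPullback_kernel φ i hN
  haveI : Flat N.hom := MorphismProperty.of_isPullback (P := @Flat) P0 ‹_›
  haveI : LocallyQuasiFinite N.hom := MorphismProperty.of_isPullback (P := @LocallyQuasiFinite) P0 hqf
  haveI : QuasiCompact N.hom := MorphismProperty.of_isPullback (P := @QuasiCompact) P0 ‹_›
  haveI : LocallyOfFiniteType N.hom := MorphismProperty.of_isPullback (P := @LocallyOfFiniteType) P0 ‹_›
  haveI : IsClosedImmersion η[B].left := by
    haveI : IsClosedImmersion (η[B].left ≫ B.hom) := by
      rw [SgaHomLib.unit_w]; exact (inferInstanceAs (IsClosedImmersion (𝟙 (Spec (CommRingCat.of R)))))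
    exact IsClosedImmersion.of_comp η[B].left B.hom
  haveI : IsClosedImmersion i.left := MorphismProperty.of_isPullback (P := @IsClosedImmersion) P0.flip ‹_›
  haveI := hAsep
  haveI : IsSeparated N.hom := by rw [← Over.w i]; infer_instance
  refine ⟨⟨‹_›, ‹_›, ‹_›, ?_⟩, fun hAp => ?_⟩
  · let T : Over (Spec (CommRingCat.of R)) := 𝟙_ _
    have ht : (toUnit N).left = N.hom := (Category.comp_id _).symm.trans (Over.w (toUnit N))
    haveI : LocallyOfFiniteType T.hom := inferInstanceAs (LocallyOfFiniteType (𝟙 (Spec (CommRingCat.of R))))
    haveI : QuasiCompact (toUnit N).left := by rw [ht]; infer_instance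
    haveI : LocallyQuasiFinite (toUnit N).left := by rw [ht]; infer_instance
    haveI : IsSeparated (toUnit N).left := by rw [ht]; infer_instance
    haveI : IsLocallyNoetherian (Spec (CommRingCat.of R)) := inferInstance
    have hdim : topologicalKrullDim ↥(Spec (CommRingCat.of R)) ≤ 1 := by
      show topologicalKrullDim (PrimeSpectrum R) ≤ 1
      rw [PrimeSpectrum.topologicalKrullDim_eq_ringKrullDim]
      exact_mod_cast (Ring.krullDimLE_iff (R := R) (n := 1)).1 inferInstance
    rw [← ht]
    refine Groth.Agent.S5414.result _ hdim N T (toUnit N) fun s => ?_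
    let j := (Spec (CommRingCat.of R)).fromSpecResidueField s
    haveI : QuasiCompact ((Over.pullback j).map (toUnit N)).left :=
      MorphismProperty.of_isPullback (P := @QuasiCompact) (OpenSubgrp.isPullback_fib s (toUnit N)) ‹_›
    haveI : LocallyQuasiFinite ((Over.pullback j).map (toUnit N)).left :=
      MorphismProperty.of_isPullback (P := @LocallyQuasiFinite) (OpenSubgrp.isPullback_fib s (toUnit N)) ‹_›
    haveI : IsLocallyArtinian ((Over.pullback j).obj T).left := by
      haveI : IsIso (pullback.snd T.hom j) :=
        pullback_snd_iso_of_left_iso (f := (𝟙 (Spec (CommRingCat.of R)))) (g := j)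
      exact IsLocallyArtinian.of_isImmersion (pullback.snd T.hom j)
    exact IsFinite.of_locallyQuasiFinite _
  · haveI := hAp
    haveI : IsProper N.hom := by rw [← Over.w i]; infer_instance
    exact IsFinite.of_isProper_of_locallyQuasiFinite N.hom

end Groth.Agent.S18493
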