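import Groth.Statements.S18494
import Groth.Agent.S18489
import Groth.Agent.S18484
import Groth.Agent.S7790
import Groth.Agent.S7785
import Groth.Agent.S4112
import Groth.Agent.S5319
import Groth.Agent.GeomIrred.Scheme
import Groth.Agent.FlatLocus.SmoothFibres
import Groth.Agent.MonoFibre.HomFlat
import Groth.Agent.Unibranch.Open
-- import your own Groth.Agent.* helpers here

set_option autoImplicit false
set_option backward.isDefEq.respectTransparency false
set_option linter.style.haveILetI false
set_option maxHeartbeats 1600000
universe u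
open CategoryTheory CategoryTheory.Limits AlgebraicGeometry MonObj
open Neron

namespace Groth.Agent.S18494

open Limits MonoidalCategory CartesianMonoidalCategory GrpObj

theorem kernel_bc {S S' : Scheme.{u}} (g : S' ⟶ S) {A B N : Over S} [GrpObj A] [GrpObj B] (φ : A ⟶ B) (i : N ⟶ A)
    (hN : AlgGrp.IsKernel i φ) :
    ∃ x : (Red.bc g N).left ⟶ (Red.bc g A).left,
      IsPullback x (pullback.snd N.hom g) ((Over.pullback g).map φ).left η[Red.bc g B].left := by
  have P0 := SgaHomLib.isPullback_kernel φ i hN
  have hη : η[Red.bc g B].left ≫ pullback.fst B.hom g = g ≫ η[B].left := by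
    simp [Red.bc, Functor.obj.η_def]
  have P1 := (IsPullback.of_hasPullback N.hom g).paste_horiz P0
  let x : (Red.bc g N).left ⟶ (Red.bc g A).left :=
    pullback.lift (pullback.fst N.hom g ≫ i.left) (pullback.snd N.hom g)
      (by rw [Category.assoc, Over.w, pullback.condition])
  have P2 : IsPullback (pullback.fst A.hom g) ((Over.pullback g).map φ).left φ.left (pullback.fst B.hom g) := by
    refine IsPullback.of_bot ?_ (pullback.lift_fst _ _ _).symm (IsPullback.of_hasPullback B.hom g)
    rw [show ((Over.pullback g).map φ).left ≫ pullback.snd B.hom g = pullback.snd A.hom g from Over.w _, Over.w φ]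
    exact IsPullback.of_hasPullback A.hom g
  refine ⟨x, IsPullback.of_right (h₁₂ := pullback.fst A.hom g) (v₁₃ := φ.left) (h₂₂ := pullback.fst B.hom g) ?_ ?_ P2⟩
  · rw [hη]
    simp only [x, pullback.lift_fst]
    exact P1
  · refine pullback.hom_ext ?_ ?_
    · rw [Category.assoc, Category.assoc, hη, ← P2.w]
      simp only [x, pullback.lift_fst_assoc]
      exact P1.w
    · rw [Category.assoc, Category.assoc]
      refine (congrArg (x ≫ ·) (Over.w ((Over.pullback g).map φ))).trans ((pullback.lift_snd _ _ _).trans ?_)
      exact ((congrArg (pullback.snd N.hom g ≫ ·) (SgaHomLib.unit_w (Red.bc g B))).trans (Category.comp_id _)).symm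

/-- Let R be a Dedekind domain with fraction field K, let A and B be group schemes over Spec R which are
Néron models of their generic fibres, both abelian varieties over K (proper and geometrically
integral), let φ : A → B be a homomorphism whose generic fibre φ_K is an isogeny (surjective with
finite kernel), and let i : N → A be a kernel of φ. If the degree of φ_K, that is the order of the
finite K-group scheme N_K (its rank over Spec K), is a unit in R, then N is a Néron model of its
generic fibre N_K (smooth, separated, of finite type, with the Néron mapping property for smooth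
Spec R-schemes) and N → Spec R is étale. -/
theorem result (R : Type u) [CommRing R]
    [IsDedekindDomain R] (A B : Over (Spec (CommRingCat.of R))) [GrpObj A] [GrpObj B]
    (hA : Neron.IsNeronModelOf R A ((Neron.genericFibre R).obj A) (Iso.refl _))
    (hB : Neron.IsNeronModelOf R B ((Neron.genericFibre R).obj B) (Iso.refl _))
    [IsProper ((Neron.genericFibre R).obj A).hom] [GeometricallyIntegral ((Neron.genericFibre R).obj A).hom]
    [IsProper ((Neron.genericFibre R).obj B).hom] [GeometricallyIntegral ((Neron.genericFibre R).obj B).hom]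
    (φ : A ⟶ B) [IsMonHom φ] (hφ : SGA7.IsIsogenyOver ((Neron.genericFibre R).map φ))
    (N : Over (Spec (CommRingCat.of R))) (i : N ⟶ A) (hN : AlgGrp.IsKernel i φ)
    (hdeg : ∀ x : ↥(Spec (CommRingCat.of (FractionRing R))),
      IsUnit ((((Neron.genericFibre R).obj N).hom.finrank x : ℕ) : R)) :
    Neron.IsNeronModelOf R N ((Neron.genericFibre R).obj N) (Iso.refl _) ∧ Etale N.hom := by
  obtain ⟨hAs, hAsep, hAft, hAqc, hAu⟩ := id hA
  obtain ⟨hBs, hBsep, hBft, hBqc, -⟩ := id hB
  obtain ⟨hsurj, hfin⟩ := id hφ
  haveI := hAs
  haveI := hBs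
  haveI := hBsep
  let g := Neron.genPt R
  let K := FractionRing R
  let AK : Over (Spec (CommRingCat.of K)) := Red.bc g A
  let BK : Over (Spec (CommRingCat.of K)) := Red.bc g B
  let f : AK ⟶ BK := (Over.pullback g).map φ
  haveI : IsMonHom f := inferInstanceAs (IsMonHom ((Over.pullback g).map φ))
  haveI : IsProper AK.hom := ‹IsProper ((Neron.genericFibre R).obj A).hom›
  haveI : IsProper BK.hom := ‹IsProper ((Neron.genericFibre R).obj B).hom›
  haveI : GeometricallyIntegral AK.hom := ‹GeometricallyIntegral ((Neron.genericFibre R).obj A).hom›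
  haveI : GeometricallyIntegral BK.hom := ‹GeometricallyIntegral ((Neron.genericFibre R).obj B).hom›
  haveI : GeometricallyConnected AK.hom := GeomIrred.geometricallyConnected_of_geometricallyIrreducible _
  haveI : GeometricallyConnected BK.hom := GeomIrred.geometricallyConnected_of_geometricallyIrreducible _
  haveI : IsProper (f.left ≫ BK.hom) := by rw [Over.w f]; infer_instance
  haveI : IsProper f.left := IsProper.of_comp f.left BK.hom
  haveI : Surjective f.left := hsurj
  haveI : LocallyQuasiFinite f.left := by
    have hK : AlgGrp.IsKernel (pullback.fst f η[BK]) f := by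
      rw [AlgGrp.IsKernel, toUnit_unique (toUnit _) (pullback.snd f η[BK])]
      exact IsPullback.of_hasPullback f η[BK]
    haveI := hfin _ _ hK
    exact (SgaHomLib.lqf_tfae f _ (fun s => MorphismProperty.pullback_snd _ _ (inferInstance : LocallyOfFiniteType AK.hom)) hK).2.1.2
      inferInstance
  haveI : IsFinite f.left := IsFinite.of_isProper_of_locallyQuasiFinite f.left
  haveI : Smooth BK.hom := MorphismProperty.pullback_snd _ _ hBs
  haveI : IsReduced BK.left := ASp.isReduced_of_smooth BK.hom
  haveI : Flat f.left := MonoFibre.flat_of_surjective f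
  haveI : Flat AK.hom := inferInstance
  haveI : Flat BK.hom := inferInstance
  haveI : LocallyOfFinitePresentation AK.hom := inferInstance
  haveI : LocallyOfFinitePresentation BK.hom := inferInstance
  let x₀ : ↥(Spec (CommRingCat.of K)) := (IsLocalRing.closedPoint K : PrimeSpectrum K)
  let d : ℕ := f.left.finrank (η[BK].left x₀)
  have hd1 : 1 ≤ d := (Scheme.Hom.one_le_finrank_iff_surjective f.left).2 hsurj _
  have hdR : IsUnit (d : R) := by
    obtain ⟨x, hx⟩ := kernel_bc g φ i hN
    have h1 : (pullback.snd N.hom g).finrank x₀ = d := Scheme.Hom.finrank_of_isPullback _ _ f.left η[BK].left hx x₀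
    rw [← h1]
    exact hdeg x₀
  obtain ⟨⟨gK, ⟨hgKm, hgK⟩, -⟩, -⟩ := Groth.Agent.S7790.result AK BK f d hd1 (fun s => by
    rw [show s = x₀ from Subsingleton.elim (α := PrimeSpectrum K) _ _])
  obtain ⟨ψ, hψ⟩ := (hAu B hBs).2 gK
  replace hψ : (Over.pullback g).map ψ = gK := (Category.comp_id _).symm.trans hψ
  have hinj : ∀ (Y : Over (Spec (CommRingCat.of R))), Smooth Y.hom → ∀ p q : Y ⟶ A,
      (Over.pullback g).map p = (Over.pullback g).map q → p = q := fun Y hY p q e =>
    (hAu Y hY).1 (by
      show (Neron.genericFibre R).map p ≫ _ = (Neron.genericFibre R).map q ≫ _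
      rw [e])
  have hcomp : φ ≫ ψ = (𝟙 A) ^ d := by
    refine hinj A hAs _ _ ?_
    rw [Functor.map_comp, hψ, show (Over.pullback g).map ((𝟙 A) ^ d) = ((Over.pullback g).map (𝟙 A)) ^ d from
      _root_.map_pow (Functor.homMonoidHom (F := Over.pullback g) (X := A) (M := A)) (𝟙 A) d, CategoryTheory.Functor.map_id]
    exact hgK
  haveI : IsCommMonObj AK := Groth.Agent.S7785.result AK
  haveI : IsCommMonObj A := by
    haveI : Smooth (A ⊗ A).hom := by
      show Smooth (pullback.fst A.hom A.hom ≫ A.hom)
      infer_instance
    refine ⟨hinj (A ⊗ A) inferInstance _ _ ?_⟩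
    have e : (β_ A A).hom ≫ μ[A] = snd A A * fst A A := by
      rw [Hom.mul_def]
      congr 1
    have e2 : μ[A] = fst A A * snd A A := by
      rw [Hom.mul_def, lift_fst_snd, Category.id_comp]
    rw [e]
    conv_rhs => rw [e2]
    rw [Functor.map_mul, Functor.map_mul]
    exact mul_comm _ _
  haveI : LocallyOfFiniteType (φ.left ≫ B.hom) := by rw [Over.w φ]; exact hAft
  haveI : LocallyOfFiniteType φ.left := locallyOfFiniteType_of_comp φ.left B.hom
  have hfib : ∀ s : Spec (CommRingCat.of R),
      FormallyUnramified ((Over.pullback ((Spec (CommRingCat.of R)).fromSpecResidueField s)).map φ).left ∧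
      LocallyQuasiFinite ((Over.pullback ((Spec (CommRingCat.of R)).fromSpecResidueField s)).map φ).left := fun s => by
    let j := (Spec (CommRingCat.of R)).fromSpecResidueField s
    let As := Red.bc j A
    haveI : LocallyOfFiniteType As.hom := MorphismProperty.pullback_snd (P := @LocallyOfFiniteType) _ _ hAft
    haveI : QuasiCompact As.hom := MorphismProperty.pullback_snd (P := @QuasiCompact) _ _ hAqc
    haveI : IsCommMonObj As := ((Over.pullback j).mapCommMon.obj (.mk A)).comm
    let ρ : R →+* (Spec (CommRingCat.of R)).residueField s :=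
      ((Scheme.ΓSpecIso (CommRingCat.of R)).inv ≫ (Spec (CommRingCat.of R)).evaluation ⊤ s trivial).hom
    have hu : IsUnit ((d : ℕ) : ((Spec (CommRingCat.of R)).residueField s)) := map_natCast ρ d ▸ hdR.map ρ
    haveI : Etale ((𝟙 As : As ⟶ As) ^ d).left := Groth.Agent.S4112.result _ As d hu.ne_zero
    haveI : LocallyQuasiFinite ((𝟙 As : As ⟶ As) ^ d).left := Unibranch.locallyQuasiFinite_of_etale _
    have e : (Over.pullback j).map φ ≫ (Over.pullback j).map ψ = (𝟙 As : As ⟶ As) ^ d := by
      rw [← Functor.map_comp, hcomp, show (Over.pullback j).map ((𝟙 A) ^ d) = ((Over.pullback j).map (𝟙 A)) ^ d from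
        _root_.map_pow (Functor.homMonoidHom (F := Over.pullback j) (X := A) (M := A)) (𝟙 A) d, CategoryTheory.Functor.map_id]
    have e' := congrArg (fun m => m.left) e
    simp only [Over.comp_left] at e'
    haveI : FormallyUnramified (((Over.pullback j).map φ).left ≫ ((Over.pullback j).map ψ).left) := by
      rw [e']; infer_instance
    haveI : LocallyQuasiFinite (((Over.pullback j).map φ).left ≫ ((Over.pullback j).map ψ).left) := by
      rw [e']; infer_instance
    exact ⟨FormallyUnramified.of_comp _ ((Over.pullback j).map ψ).left,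
      LocallyQuasiFinite.of_comp _ ((Over.pullback j).map ψ).left⟩
  have hG : ∀ s : Spec (CommRingCat.of R), LocallyOfFiniteType (A.hom.fiberToSpecResidueField s) := fun s =>
    MorphismProperty.pullback_snd _ _ hAft
  haveI : LocallyQuasiFinite φ.left := (SgaHomLib.lqf_tfae φ i hG hN).1.2 fun s => (hfib s).2
  haveI : Flat φ.left := (Groth.Agent.S18489.result R A B hA hB φ hφ).1 ‹_›
  have P0 := SgaHomLib.isPullback_kernel φ i hN
  haveI : LocallyOfFinitePresentation (φ.left ≫ B.hom) := by rw [Over.w φ]; infer_instance
  haveI : LocallyOfFinitePresentation φ.left := FlatLocus.locallyOfFinitePresentation_of_comp φ.left B.hom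
  haveI : Flat N.hom := MorphismProperty.of_isPullback (P := @Flat) P0 ‹_›
  haveI : LocallyOfFinitePresentation N.hom := MorphismProperty.of_isPullback (P := @LocallyOfFinitePresentation) P0 ‹_›
  haveI : FormallyUnramified N.hom := FlatLocus.formallyUnramified_of_fibres N.hom fun s => by
    obtain ⟨x, hx⟩ := kernel_bc ((Spec (CommRingCat.of R)).fromSpecResidueField s) φ i hN
    exact MorphismProperty.of_isPullback (P := @FormallyUnramified) hx (hfib s).1
  haveI : Etale N.hom := Etale.of_formallyUnramified_of_flat N.hom
  haveI : IsClosedImmersion η[B].left := by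
    haveI : IsClosedImmersion (η[B].left ≫ B.hom) := by
      rw [SgaHomLib.unit_w]; exact (inferInstanceAs (IsClosedImmersion (𝟙 (Spec (CommRingCat.of R)))))
    exact IsClosedImmersion.of_comp η[B].left B.hom
  haveI : IsClosedImmersion i.left := MorphismProperty.of_isPullback (P := @IsClosedImmersion) P0.flip ‹_›
  exact ⟨Groth.Agent.S18484.result R A N hA i, ‹_›⟩

end Groth.Agent.S18494
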