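import Groth.Statements.S18497
import Groth.Agent.NeronEtLib.Main
import Groth.Agent.NeronMapLib.Basic

set_option autoImplicit false
set_option backward.isDefEq.respectTransparency false
set_option backward.isDefEq.respectTransparency.types false
set_option linter.style.haveILetI false
universe u
open CategoryTheory CategoryTheory.Limits AlgebraicGeometry MonObj
open Neron

namespace Groth.Agent.S18497

/-- Let R be a Dedekind domain with fraction field K and G a finite étale group scheme over K. Then G
has a Néron model over Spec R which is separated, quasi-finite and étale: there are a Spec R-scheme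
N and an isomorphism e of its generic fibre N_K with G such that N is smooth, separated and of
finite type over Spec R with the Néron mapping property (for every smooth Spec R-scheme Y, g ↦ e ∘
g_K is a bijection from R-morphisms Y → N onto K-morphisms Y_K → G), and N → Spec R is étale and
locally quasi-finite. -/
theorem result (R : Type u) [CommRing R] [IsDedekindDomain R]
    (G : Over (Spec (CommRingCat.of (FractionRing R)))) [GrpObj G] [IsFinite G.hom] [Etale G.hom] :
    ∃ (N : Over (Spec (CommRingCat.of R))) (e : (Neron.genericFibre R).obj N ≅ G),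
      Neron.IsNeronModelOf R N G e ∧ Etale N.hom ∧ LocallyQuasiFinite N.hom := by
  haveI : IsAffine G.left := isAffine_of_isAffineHom G.hom
  let K := FractionRing R
  let A := Γ(G.left, ⊤)
  let ρ := Spec.preimage (G.left.isoSpec.inv ≫ G.hom)
  letI : Algebra K A := ρ.hom.toAlgebra
  letI : Algebra R A := (ρ.hom.comp (algebraMap R K)).toAlgebra
  haveI : IsScalarTower R K A := .of_algebraMap_eq' rfl
  let sA := Spec.map (CommRingCat.ofHom (algebraMap K A))
  have hsA : sA = G.left.isoSpec.inv ≫ G.hom := Spec.map_preimage _
  haveI : Etale sA := by rw [hsA]; infer_instance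
  haveI : Algebra.Etale K A := RingHom.etale_algebraMap.mp (HasRingHomProperty.Spec_iff.mp ‹Etale sA›)
  obtain ⟨N, pN, j, h1, h2, h3, h4, hpb, hmap⟩ := Groth.Agent.NeronEtLib.exists_model R K A
  let e : (Neron.genericFibre R).obj (Over.mk pN) ≅ G :=
    Over.isoMk (hpb.isoPullback.symm ≪≫ G.left.isoSpec.symm) (by
      show (hpb.isoPullback.inv ≫ G.left.isoSpec.inv) ≫ G.hom = pullback.snd _ _
      rw [Category.assoc, ← hsA, IsPullback.isoPullback_inv_snd])
  haveI : Etale (Over.mk pN).hom := h1
  refine ⟨Over.mk pN, e, ⟨inferInstance, h2, inferInstance, h3, fun Y hY => ?_⟩, h1, h4⟩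
  haveI := hY
  exact e.homToEquiv.bijective.comp
    ((Groth.Agent.NeronMapLib.bijective_iff (Neron.genPt R) Y (Over.mk pN) (IsPullback.of_hasPullback _ _)).2
      fun u hu => hmap Y.hom u hu)

end Groth.Agent.S18497
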