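import Groth.Statements.S18500
import Groth.Agent.ASp.SchImageGen
import Groth.Agent.ASp.MorCancel
import Groth.Agent.SchClosureLib.Basic

set_option autoImplicit false
universe u
open CategoryTheory CategoryTheory.Limits AlgebraicGeometry
open AlgSp

namespace Groth.Agent.S18500


theorem isSchImage_self {S : Scheme.{u}} {F X : Sp S} {k : F ⟶ X} (hk : RepWith @IsClosedImmersion k) :
    IsSchImage k k := ⟨hk, ⟨𝟙 F, Category.id_comp k⟩, fun _ _ _ _ h => h⟩

/-- The generic point is schematically dense in a Dedekind scheme, as sheaves. -/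
theorem isSchImage_genPt (R : Type u) [CommRing R] [IsDedekindDomain R] :
    IsSchImage ((yon (Spec (CommRingCat.of R))).map (Over.mkIdTerminal.from (Over.mk (Neron.genPt R))))
      (𝟙 ((yon (Spec (CommRingCat.of R))).obj (Over.mk (𝟙 (Spec (CommRingCat.of R)))))) := by
  refine ⟨?_, ⟨_, Category.comp_id _⟩, fun D i _ hi hl => ?_⟩
  · rw [← (yon (Spec (CommRingCat.of R))).map_id]
    exact ASp.repWith_yon_map (inferInstanceAs (IsClosedImmersion (𝟙 (Spec (CommRingCat.of R)))))
  · obtain ⟨I, hI⟩ := ASp.exists_isSubIdeal hi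
      (𝟙 ((yon (Spec (CommRingCat.of R))).obj (Over.mk (𝟙 (Spec (CommRingCat.of R))))))
    have h1 := (ASp.exists_lift_iff_le_ker hi hI
      ((yon (Spec (CommRingCat.of R))).map (Over.mkIdTerminal.from (Over.mk (Neron.genPt R)))) (𝟙 _)
      (w := Over.mkIdTerminal.from (Over.mk (Neron.genPt R))) (by simp)).1 hl
    refine (ASp.exists_lift_iff_le_ker hi hI (𝟙 _) (𝟙 _) (w := 𝟙 _) (by simp)).2 (h1.trans ?_)
    have h2 : (Over.mkIdTerminal.from (Over.mk (Neron.genPt R))).left = Neron.genPt R := by
      have := Over.w (Over.mkIdTerminal.from (Over.mk (Neron.genPt R)))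
      simpa using this
    rw [h2, (SchClosureLib.std_genPt R).ker_eq_bot]
    exact bot_le

/-- Let R be a Dedekind domain with fraction field K, S = Spec R, and Y an algebraic space over S (an
fppf sheaf on S-schemes with representable diagonal and an étale atlas), with structure map p : Y →
h_S; let Y_K → Y be its generic fibre, the pullback of p along h_{Spec K} → h_S; let k : H → Y_K be
a closed subspace (a representable closed immersion from an algebraic space) and i : Z → Y the
scheme theoretic image of the composite H → Y_K → Y. Then Z is flat over S (étale-locally on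
charts), the square H → Z, H → Y_K, Z → Y, Y_K → Y is cartesian for the induced H → Z (the generic
fibre of Z is H), and Z is the unique such subspace: every closed subspace i' : Z' → Y which is flat
over S and whose pullback along Y_K → Y is H (through some H → Z') is isomorphic to Z over Y. (The
source allows any connected Dedekind scheme as base; the affine base is stated.) -/
theorem result (R : Type u) [CommRing R] [IsDedekindDomain R]
    (Y YK H Z : AlgSp.Space (Spec (CommRingCat.of R)))
    (pY : Y.obj ⟶ (AlgSp.yon (Spec (CommRingCat.of R))).obj (Over.mk (𝟙 (Spec (CommRingCat.of R)))))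
    (pr : YK ⟶ Y) (qK : YK.obj ⟶ (AlgSp.yon (Spec (CommRingCat.of R))).obj (Over.mk (Neron.genPt R)))
    (hYK : IsPullback pr.hom qK pY ((AlgSp.yon (Spec (CommRingCat.of R))).map (Over.mkIdTerminal.from (Over.mk (Neron.genPt R)))))
    (k : H ⟶ YK) (hk : AlgSp.RepWith @IsClosedImmersion k.hom)
    (i : Z ⟶ Y) (hZ : AlgSp.IsSchImage (k.hom ≫ pr.hom) i.hom) :
    AlgSp.LocP @Flat (i.hom ≫ pY) ∧
    (∃ m : H ⟶ Z, m ≫ i = k ≫ pr ∧ IsPullback m.hom k.hom i.hom pr.hom) ∧
    (∀ (Z' : AlgSp.Space (Spec (CommRingCat.of R))) (i' : Z' ⟶ Y) (m' : H ⟶ Z'),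
      AlgSp.RepWith @IsClosedImmersion i'.hom → AlgSp.LocP @Flat (i'.hom ≫ pY) →
      IsPullback m'.hom k.hom i'.hom pr.hom → ∃ e : Z ≅ Z', e.hom ≫ i' = i) := by
  haveI : Mono (Neron.genPt R) := SchClosureLib.mono_genPt R
  let c := Over.mkIdTerminal.from (Over.mk (Neron.genPt R))
  have hcl : c.left = Neron.genPt R := by simpa using Over.w c
  have hcq : QuasiCompact c.left := by
    rw [hcl]
    haveI : IsAffineHom (Neron.genPt R) := isAffineHom_of_isAffine _
    infer_instance
  have hcf : Flat c.left := by rw [hcl]; exact SchClosureLib.flat_genPt R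
  haveI : Mono c.left := by rw [hcl]; infer_instance
  haveI : Mono c := ⟨fun a b h => Over.OverMorphism.ext ((cancel_mono c.left).1 (congrArg (fun t => t.left) h))⟩
  haveI : Mono ((yon (Spec (CommRingCat.of R))).map c) := inferInstance
  have hprq : RepWith @QuasiCompact pr.hom := ASp.repWith_of_isPullback hYK.flip (ASp.repWith_yon_map hcq)
  have hprf : RepWith @Flat pr.hom := ASp.repWith_of_isPullback hYK.flip (ASp.repWith_yon_map hcf)
  haveI : Mono pr.hom := ⟨fun {T} a b h => hYK.hom_ext h
    ((cancel_mono ((yon (Spec (CommRingCat.of R))).map c)).1 (by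
      rw [Category.assoc, Category.assoc, ← hYK.w, reassoc_of% h]))⟩
  haveI : Mono k.hom := ASp.mono_of_repWith (P := @IsClosedImmersion)
    (fun _ h => by haveI := h; infer_instance) hk
  have hgq : IsQuasiCompactMor (k.hom ≫ pr.hom) := ASp.isQuasiCompactMor_of_repWith
    (ASp.repWith_comp (ASp.repWith_mono (fun _ _ g (hg : IsClosedImmersion g) => (inferInstance : QuasiCompact g)) hk) hprq)
  refine ⟨?_, ?_, ?_⟩
  · obtain ⟨U, p, W, a, w, hp, hps, ha, has, hw, hwq, fst, hI⟩ :=
      ASp.exists_schImage_data H.property Y.property hgq Z.property hZ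
    obtain ⟨t, -⟩ := (yon (Spec (CommRingCat.of R))).map_surjective (a ≫ pullback.fst _ _ ≫ k.hom ≫ qK)
    haveI : IsSchemeTheoreticallyDominant w.left.toImage := SchClosureLib.std_toImage w.left
    haveI : QuasiCompact w.left.toImage := inferInstance
    have ht : t.left ≫ Neron.genPt R = W.hom := Over.w t
    have hfl : Flat (Over.mk (w.left.imageι ≫ U.hom)).hom :=
      SchClosureLib.flat_of_dense (H := Over.mk (w.left.imageι ≫ U.hom)) w.left.toImage t.left (by
        show w.left.toImage ≫ w.left.imageι ≫ U.hom = _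
        rw [Scheme.Hom.toImage_imageι_assoc, Over.w w, ht])
    refine ASp.locP_of_chart (a := fst) (b := 𝟙 _) (h := ASp.subInc w.left.ker ≫ Over.mkIdTerminal.from U)
      (ASp.repWith_of_isPullback hI.flip hp) (ASp.repWith_of_isPullback hI.flip hps) (by rw [← (yon (Spec (CommRingCat.of R))).map_id]; exact ASp.repWith_yon_map (inferInstanceAs (Etale (𝟙 (Spec (CommRingCat.of R)))))) ?_ ?_
    · obtain ⟨m, hm⟩ := (yon (Spec (CommRingCat.of R))).map_surjective (p ≫ pY)
      rw [reassoc_of% hI.w, ← hm, Category.comp_id, Functor.map_comp, Over.mkIdTerminal.hom_ext m (Over.mkIdTerminal.from U)]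
    · have e : (ASp.subInc w.left.ker ≫ Over.mkIdTerminal.from U).left = w.left.imageι ≫ U.hom := by
        rw [Over.comp_left]
        simpa using congrArg (w.left.imageι ≫ ·) (Over.w (Over.mkIdTerminal.from U))
      rw [e]
      exact hfl
  · obtain ⟨f', hf'⟩ := hZ.2.1
    have hQ := IsPullback.of_hasPullback i.hom pr.hom
    have hQalg : IsAlgSpace (pullback i.hom pr.hom) := ASp.isAlgSpace_pullback Y.property.diag Z.property YK.property _ _
    have hsqV : IsPullback (𝟙 H.obj) k.hom (k.hom ≫ pr.hom) pr.hom :=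
      IsPullback.of_isLimit' ⟨Category.id_comp _⟩ (PullbackCone.IsLimit.mk _ (fun s => s.fst)
        (fun s => Category.comp_id _) (fun s => (cancel_mono pr.hom).1 (by rw [Category.assoc]; exact s.condition))
        (fun s m h1 _ => by simpa using h1))
    have him := ASp.isSchImage_flat_baseChange YK.property Y.property H.property Z.property
      (ASp.locP_of_repWith hprf) hgq hZ hsqV hQ
    obtain ⟨l, hl⟩ := him.2.1
    obtain ⟨l', hl'⟩ := him.2.2 k.hom H.property hk ⟨𝟙 _, Category.id_comp _⟩
    haveI : Mono (pullback.snd i.hom pr.hom) := ASp.mono_of_repWith (P := @IsClosedImmersion)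
      (fun _ h => by haveI := h; infer_instance) him.1
    let e : H.obj ≅ pullback i.hom pr.hom :=
      ⟨l, l', (cancel_mono k.hom).1 (by rw [Category.assoc, hl', hl, Category.id_comp]),
        (cancel_mono (pullback.snd i.hom pr.hom)).1 (by rw [Category.assoc, hl, hl', Category.id_comp])⟩
    refine ⟨ObjectProperty.homMk (l ≫ pullback.fst i.hom pr.hom), ?_, ?_⟩
    · apply ObjectProperty.hom_ext
      show (l ≫ pullback.fst i.hom pr.hom) ≫ i.hom = k.hom ≫ pr.hom
      rw [Category.assoc, pullback.condition, reassoc_of% hl]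
    · exact hQ.of_iso e.symm (Iso.refl _) (Iso.refl _) (Iso.refl _)
        (by simp [e]; rw [← Category.assoc]; exact (by rw [show l' ≫ l = 𝟙 _ from e.inv_hom_id]; simp))
        (by simp [e, hl']) (by simp) (by simp)
  · intro Z' i' m' hi' hfl' sq
    have him : IsSchImage m'.hom (𝟙 Z'.obj) := by
      refine ASp.isSchImage_flat_baseChange Z'.property (IsAlgSpace.yon_obj _) (IsAlgSpace.yon_obj _)
        (IsAlgSpace.yon_obj _) hfl' (ASp.isQuasiCompactMor_of_repWith (ASp.repWith_yon_map hcq))
        (isSchImage_genPt R) ((sq.flip.paste_horiz hYK.flip).flip.flip) (i₁ := i'.hom ≫ pY) ?_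
      exact IsPullback.of_vert_isIso ⟨by simp⟩
    have hmono : Mono i'.hom := ASp.mono_of_repWith (P := @IsClosedImmersion)
      (fun _ h => by haveI := h; infer_instance) hi'
    obtain ⟨u, hu⟩ := hZ.2.2 i'.hom Z'.property hi' ⟨m'.hom, sq.w⟩
    obtain ⟨f', hf'⟩ := hZ.2.1
    haveI : Mono i.hom := ASp.mono_of_repWith (P := @IsClosedImmersion)
      (fun _ h => by haveI := h; infer_instance) hZ.1
    have hQ := IsPullback.of_hasPullback i.hom i'.hom
    obtain ⟨v₀, hv₀⟩ := him.2.2 (pullback.snd i.hom i'.hom)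
      (ASp.isAlgSpace_pullback Y.property.diag Z.property Z'.property _ _)
      (ASp.repWith_of_isPullback hQ hZ.1) ⟨hQ.lift f' m'.hom (hf'.trans sq.w.symm), hQ.lift_snd _ _ _⟩
    have hv : (v₀ ≫ pullback.fst i.hom i'.hom) ≫ i.hom = i'.hom := by
      rw [Category.assoc, pullback.condition, reassoc_of% hv₀]
    refine ⟨⟨ObjectProperty.homMk u, ObjectProperty.homMk (v₀ ≫ pullback.fst i.hom i'.hom), ?_, ?_⟩, ?_⟩
    · apply ObjectProperty.hom_ext
      show u ≫ v₀ ≫ pullback.fst i.hom i'.hom = 𝟙 _
      rw [← cancel_mono i.hom, Category.assoc, hv, hu, Category.id_comp]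
    · apply ObjectProperty.hom_ext
      show (v₀ ≫ pullback.fst i.hom i'.hom) ≫ u = 𝟙 _
      rw [← cancel_mono i'.hom, Category.assoc, hu, hv, Category.id_comp]
    · exact ObjectProperty.hom_ext _ hu

end Groth.Agent.S18500
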