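import Groth.Statements.S18501
import Groth.Agent.Neutral.HomFlat
import Groth.Agent.ASp.PropDescend
-- import your own Groth.Agent.* helpers here

set_option autoImplicit false
set_option backward.isDefEq.respectTransparency false
set_option linter.style.haveILetI false
set_option maxHeartbeats 1000000
universe u
open CategoryTheory CategoryTheory.Limits AlgebraicGeometry MonObj
open Neron

namespace Groth.Agent.S18501

open Limits

/-- Let R be a discrete valuation ring with fraction field K and residue field k, let A and B be group
schemes over Spec R which are Néron models of their generic fibres, both abelian varieties over K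
(proper and geometrically integral), and let φ : A → B be a homomorphism whose generic fibre is an
isogeny (surjective with finite kernel). Then φ is flat if and only if the special fibre φ_k : A_k →
B_k maps the connected component of the identity point of A_k onto the connected component of the
identity point of B_k, i.e. the image of the former subset is the latter (φ induces a surjection of
identity components; on the generic fibre this is automatic). (The published lemma is over a
connected Dedekind scheme, with this condition at every point, and includes a further equivalent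
condition, quasi-finiteness of φ; the case of a discrete valuation ring is stated here, where only
the closed point matters.) -/
theorem result (R : Type u) [CommRing R]
    [IsDomain R] [IsDiscreteValuationRing R] (A B : Over (Spec (CommRingCat.of R))) [GrpObj A] [GrpObj B]
    (hA : Neron.IsNeronModelOf R A ((Neron.genericFibre R).obj A) (Iso.refl _))
    (hB : Neron.IsNeronModelOf R B ((Neron.genericFibre R).obj B) (Iso.refl _))
    [IsProper ((Neron.genericFibre R).obj A).hom] [GeometricallyIntegral ((Neron.genericFibre R).obj A).hom]
    [IsProper ((Neron.genericFibre R).obj B).hom] [GeometricallyIntegral ((Neron.genericFibre R).obj B).hom]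
    (φ : A ⟶ B) [IsMonHom φ] (hφ : SGA7.IsIsogenyOver ((Neron.genericFibre R).map φ)) :
    Flat φ.left ↔
      ((Over.pullback (Spec.map (CommRingCat.ofHom (IsLocalRing.residue R)))).map φ).left.base ''
          connectedComponent ((η[Red.bc (Spec.map (CommRingCat.ofHom (IsLocalRing.residue R))) A]).left.base (IsLocalRing.closedPoint (IsLocalRing.ResidueField R))) =
        connectedComponent ((η[Red.bc (Spec.map (CommRingCat.ofHom (IsLocalRing.residue R))) B]).left.base (IsLocalRing.closedPoint (IsLocalRing.ResidueField R))) := by
  obtain ⟨hAs, -, hAft, hAqc, -⟩ := hA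
  obtain ⟨hBs, -, hBft, hBqc, -⟩ := hB
  haveI := hAs
  haveI := hBs
  obtain ⟨hsurj, -⟩ := hφ
  let j : Spec (CommRingCat.of (IsLocalRing.ResidueField R)) ⟶ Spec (CommRingCat.of R) :=
    Spec.map (CommRingCat.ofHom (IsLocalRing.residue R))
  let g : Spec (CommRingCat.of (FractionRing R)) ⟶ Spec (CommRingCat.of R) := Neron.genPt R
  let φk : Red.bc j A ⟶ Red.bc j B := (Over.pullback j).map φ
  haveI : IsMonHom φk := inferInstanceAs (IsMonHom ((Over.pullback j).map φ))
  haveI : LocallyOfFiniteType (Red.bc j A).hom := MorphismProperty.pullback_snd (P := @LocallyOfFiniteType) _ _ hAft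
  haveI : LocallyOfFiniteType (Red.bc j B).hom := MorphismProperty.pullback_snd (P := @LocallyOfFiniteType) _ _ hBft
  have comm : ∀ {S' : Scheme.{u}} (f : S' ⟶ Spec (CommRingCat.of R)),
      ((Over.pullback f).map φ).left ≫ pullback.fst B.hom f = pullback.fst A.hom f ≫ φ.left := fun f => by simp
  show _ ↔ φk.left '' connectedComponent (GrpSchLib.unitPt (Red.bc j A)) = connectedComponent (GrpSchLib.unitPt (Red.bc j B))
  rw [← Neutral.neutralSet_field, ← Neutral.neutralSet_field]
  constructor
  · intro hfl
    haveI : Flat φk.left := by
      refine MorphismProperty.of_isPullback (P := @Flat) (IsPullback.of_bot (v₁₁ := φk.left) (v₂₁ := pullback.snd B.hom j)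
        (v₂₂ := B.hom) ?_ (comm j).symm (IsPullback.of_hasPullback B.hom j)) hfl
      rw [show φk.left ≫ pullback.snd B.hom j = pullback.snd A.hom j from Over.w φk, Over.w φ]
      exact IsPullback.of_hasPullback _ _
    exact Neutral.image_neutralSet_field_of_flat φk
  · intro hk
    have hred : ∀ s : Spec (CommRingCat.of R), IsReduced (B.hom.fiber s) := fun s => by
      haveI : Smooth (B.hom.fiberToSpecResidueField s) := MorphismProperty.pullback_snd _ _ hBs
      exact ASp.isReduced_of_smooth (B.hom.fiberToSpecResidueField s)
    refine Neutral.flat_of_image_eq φ hred ?_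
    haveI : ConnectedSpace (Red.bc g A).left := by
      haveI : GeometricallyIntegral (Red.bc g A).hom := ‹_›
      haveI : IrreducibleSpace (Red.bc g A).left := GeometricallyIrreducible.irreducibleSpace (Red.bc g A).hom ((Red.bc g A).hom.isOpenMap)
      infer_instance
    haveI : ConnectedSpace (Red.bc g B).left := by
      haveI : GeometricallyIntegral (Red.bc g B).hom := ‹_›
      haveI : IrreducibleSpace (Red.bc g B).left := GeometricallyIrreducible.irreducibleSpace (Red.bc g B).hom ((Red.bc g B).hom.isOpenMap)
      infer_instance
    have hgA : ∀ x, pullback.fst A.hom g x ∈ SGA3x.neutralSet A := fun x => by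
      have : x ∈ SGA3x.neutralSet (Red.bc g A) := by
        rw [Neutral.neutralSet_field, PreconnectedSpace.connectedComponent_eq_univ]; trivial
      rwa [Neutral.neutralSet_bc] at this
    have hgB : ∀ x, pullback.fst B.hom g x ∈ SGA3x.neutralSet B := fun x => by
      have : x ∈ SGA3x.neutralSet (Red.bc g B) := by
        rw [Neutral.neutralSet_field, PreconnectedSpace.connectedComponent_eq_univ]; trivial
      rwa [Neutral.neutralSet_bc] at this
    have hpts : ∀ s : Spec (CommRingCat.of R), s ∈ Set.range g ∨ s ∈ Set.range j := fun s => by
      by_cases hs : s.asIdeal = ⊥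
      · refine Or.inl ⟨(⊥ : PrimeSpectrum (FractionRing R)), PrimeSpectrum.ext ?_⟩
        rw [hs]
        exact Ideal.comap_bot_of_injective _ (IsFractionRing.injective R (FractionRing R))
      · refine Or.inr ⟨IsLocalRing.closedPoint _, PrimeSpectrum.ext ?_⟩
        rw [IsLocalRing.eq_maximalIdeal (s.isPrime.isMaximal hs)]
        show Ideal.comap (IsLocalRing.residue R) (IsLocalRing.maximalIdeal _) = _
        rw [(IsLocalRing.isField_iff_maximalIdeal_eq).1 (Field.toIsField _)]
        exact IsLocalRing.ker_residue
    refine Set.Subset.antisymm ?_ fun y hy => ?_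
    · rintro _ ⟨x, hx, rfl⟩
      rcases hpts (A.hom x) with ⟨z, hz⟩ | ⟨z, hz⟩
      · obtain ⟨x', hx', -⟩ := Scheme.Pullback.exists_preimage_pullback x z hz.symm
        subst hx'
        rw [← Scheme.Hom.comp_apply, ← comm g, Scheme.Hom.comp_apply]
        exact hgB _
      · obtain ⟨x', hx', -⟩ := Scheme.Pullback.exists_preimage_pullback x z hz.symm
        subst hx'
        rw [← Scheme.Hom.comp_apply, ← comm j, Scheme.Hom.comp_apply]
        have h1 : x' ∈ SGA3x.neutralSet (Red.bc j A) := by rw [Neutral.neutralSet_bc]; exact hx
        have h2 := hk.le ⟨x', h1, rfl⟩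
        rwa [Neutral.neutralSet_bc] at h2
    · rcases hpts (B.hom y) with ⟨z, hz⟩ | ⟨z, hz⟩
      · obtain ⟨y', hy', -⟩ := Scheme.Pullback.exists_preimage_pullback y z hz.symm
        subst hy'
        obtain ⟨x', rfl⟩ := hsurj.surj y'
        exact ⟨_, hgA x', by rw [← Scheme.Hom.comp_apply, ← comm g, Scheme.Hom.comp_apply]; rfl⟩
      · obtain ⟨y', hy', -⟩ := Scheme.Pullback.exists_preimage_pullback y z hz.symm
        subst hy'
        have h1 : y' ∈ SGA3x.neutralSet (Red.bc j B) := by rw [Neutral.neutralSet_bc]; exact hy
        obtain ⟨x', hx', rfl⟩ := hk.ge h1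
        rw [Neutral.neutralSet_bc] at hx'
        exact ⟨_, hx', by rw [← Scheme.Hom.comp_apply, ← comm j, Scheme.Hom.comp_apply]; rfl⟩

end Groth.Agent.S18501
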