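import Groth.Statements.S18502
import Groth.Agent.GeomQuotLib.Descent

set_option autoImplicit false
universe u
open CategoryTheory MonoidalCategory CartesianMonoidalCategory MonObj GrpObj AlgebraicGeometry Topology
open EqInt

namespace Groth.Agent.S18502

open CategoryTheory CategoryTheory.Limits AlgebraicGeometry

open CategoryTheory CategoryTheory.Limits MonoidalCategory CartesianMonoidalCategory MonObj AlgebraicGeometry Groth.Agent

theorem bijective_appLE {X Y : Scheme.{u}} (g : X ⟶ Y) [IsOpenImmersion g] {U : Y.Opens} (hU : U ≤ g.opensRange)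
    {V : X.Opens} (hV : V = g ⁻¹ᵁ U) : Function.Bijective (g.appLE U V hV.le) := by
  subst hV
  haveI := g.isIso_app U hU
  rw [← Scheme.Hom.app_eq_appLE]
  exact ConcreteCategory.bijective_of_isIso (g.app U)

theorem appTop_eq {X Y : Scheme.{u}} (f : X ⟶ Y) : f.appTop = f.appLE ⊤ ⊤ le_rfl := Scheme.Hom.app_eq_appLE f

theorem appLE_congr' {X Y : Scheme.{u}} {f g : X ⟶ Y} (h : f = g) {U : Y.Opens} {V : X.Opens}
    (e : V ≤ f ⁻¹ᵁ U) (e' : V ≤ g ⁻¹ᵁ U) : f.appLE U V e = g.appLE U V e' := by
  subst h; rfl


/-- Over a field k, let an affine group scheme G of finite type act on X, let X and Y be separated and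
of finite type over k, and let φ : X → Y be G-invariant, flat and surjective with (σ, p₂) : G × X →
X ×_Y X an isomorphism (X is a principal G-bundle over Y). Conclusion: the pair (Y, φ) realizes Y as
a geometric quotient of X under G, and G acts freely, meaning (σ, p₂) : G × X → X × X is a closed
immersion. (The source takes X and Y integral; integrality plays no role. A geometric quotient is
taken here with φ universally submersive.) -/
theorem result (k : Type u) [Field k]
    (G X Y : Over (Spec (CommRingCat.of k))) [GrpObj G] [IsAffine G.left] [LocallyOfFiniteType G.hom]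
    [LocallyOfFiniteType X.hom] [QuasiCompact X.hom] [IsSeparated X.hom]
    [LocallyOfFiniteType Y.hom] [QuasiCompact Y.hom] [IsSeparated Y.hom]
    (a : AlgGrp.Action G X) (φ : X ⟶ Y) (hinv : GIT.IsInvariant a φ) [Flat φ.left] [Surjective φ.left]
    (hcart : IsIso (GIT.PsiY a φ hinv)) :
    GIT.IsGeomQuot a φ ∧ IsClosedImmersion (GIT.psi a (𝟙 X)).left := by
  haveI : QuasiCompact φ.left := by
    haveI : QuasiCompact (φ.left ≫ Y.hom) := by rw [Over.w φ]; infer_instance
    exact QuasiCompact.of_comp φ.left Y.hom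
  have hsubm : GIT.IsUnivSubmersive φ.left := fun X₁ Y₁ i₁ i₂ f hf => by
    haveI : Flat f := MorphismProperty.of_isPullback hf.flip ‹Flat φ.left›
    haveI : Surjective f := MorphismProperty.of_isPullback hf.flip ‹Surjective φ.left›
    haveI : QuasiCompact f := MorphismProperty.of_isPullback hf.flip ‹QuasiCompact φ.left›
    exact Flat.isQuotientMap_of_surjective f
  refine ⟨⟨hinv, φ.left.surjective, (GIT.PsiY a φ hinv).surjective, hsubm, fun U => ?_⟩, ?_⟩
  · let O := φ.left ⁻¹ᵁ U
    let φU := φ.left ∣_ U
    haveI : Surjective φU := IsZariskiLocalAtTarget.restrict ‹Surjective φ.left› U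
    haveI : QuasiCompact φU := IsZariskiLocalAtTarget.restrict ‹QuasiCompact φ.left› U
    haveI : EffectiveEpi φU := inferInstance
    obtain ⟨hinj, hdesc⟩ := GeomQuotLib.app_descent φU
    have hO : Function.Bijective (O.ι.appLE O ⊤ (Scheme.Opens.ι_preimage_self O).ge) :=
      bijective_appLE O.ι (by rw [Scheme.Opens.opensRange_ι]) (Scheme.Opens.ι_preimage_self O).symm
    have hU : Function.Bijective (U.ι.appLE U ⊤ (Scheme.Opens.ι_preimage_self U).ge) :=
      bijective_appLE U.ι (by rw [Scheme.Opens.opensRange_ι]) (Scheme.Opens.ι_preimage_self U).symm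
    have hcomm : ∀ s, φU.appTop (U.ι.appLE U ⊤ (Scheme.Opens.ι_preimage_self U).ge s) = O.ι.appLE O ⊤ (Scheme.Opens.ι_preimage_self O).ge (φ.left.app U s) := by
      intro s
      rw [appTop_eq, Scheme.Hom.app_eq_appLE, ← CommRingCat.comp_apply,
        ← CommRingCat.comp_apply, Scheme.Hom.appLE_comp_appLE, Scheme.Hom.appLE_comp_appLE]
      exact congr($(appLE_congr' (morphismRestrict_ι φ.left U) _ _) s)
    refine ⟨fun s₁ s₂ hs => hU.1 (hinj (by rw [hcomm, hcomm, hs])), ?_⟩
    ext f
    constructor
    · rintro ⟨s, rfl⟩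
      show a.act.left.appLE O _ _ (φ.left.app U s) = (snd G X).left.appLE O _ _ (φ.left.app U s)
      rw [Scheme.Hom.app_eq_appLE, ← CommRingCat.comp_apply, ← CommRingCat.comp_apply, Scheme.Hom.appLE_comp_appLE,
        Scheme.Hom.appLE_comp_appLE]
      exact congr($(appLE_congr' hinv.left _ _) s)
    · intro (hf : GIT.IsInvSection a φ U f)
      obtain ⟨s, hs⟩ := hdesc (O.ι.appLE O ⊤ (Scheme.Opens.ι_preimage_self O).ge f) (fun Z g₁ g₂ he => by
        let l : Z ⟶ pullback φ.left φ.left := pullback.lift (g₁ ≫ O.ι) (g₂ ≫ O.ι) (by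
          rw [Category.assoc, Category.assoc, ← morphismRestrict_ι, reassoc_of% he])
        let w : Z ⟶ (G ⊗ X).left := l ≫ inv (GIT.PsiY a φ hinv)
        have h1 : w ≫ a.act.left = g₁ ≫ O.ι := by
          rw [show a.act.left = GIT.PsiY a φ hinv ≫ pullback.fst _ _ from (pullback.lift_fst _ _ _).symm, Category.assoc,
            IsIso.inv_hom_id_assoc, pullback.lift_fst]
        have h2 : w ≫ (snd G X).left = g₂ ≫ O.ι := by
          rw [show (snd G X).left = GIT.PsiY a φ hinv ≫ pullback.snd _ _ from (pullback.lift_snd _ _ _).symm, Category.assoc,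
            IsIso.inv_hom_id_assoc, pullback.lift_snd]
        let P := a.act.left ⁻¹ᵁ O ⊓ (snd G X).left ⁻¹ᵁ O
        have hw : (⊤ : Z.Opens) ≤ w ⁻¹ᵁ P := by
          intro z _
          refine ⟨?_, ?_⟩
          · show a.act.left (w z) ∈ O
            rw [← Scheme.Hom.comp_apply, h1]; exact (g₁ z).2
          · show (snd G X).left (w z) ∈ O
            rw [← Scheme.Hom.comp_apply, h2]; exact (g₂ z).2
        have e1 : g₁.appTop (O.ι.appLE O ⊤ (Scheme.Opens.ι_preimage_self O).ge f) = w.appLE P ⊤ hw (a.act.left.appLE O P inf_le_left f) := by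
          rw [appTop_eq, ← CommRingCat.comp_apply, ← CommRingCat.comp_apply,
            Scheme.Hom.appLE_comp_appLE, Scheme.Hom.appLE_comp_appLE]
          exact congr($(appLE_congr' h1.symm _ _) f)
        have e2 : g₂.appTop (O.ι.appLE O ⊤ (Scheme.Opens.ι_preimage_self O).ge f) = w.appLE P ⊤ hw ((snd G X).left.appLE O P inf_le_right f) := by
          rw [appTop_eq, ← CommRingCat.comp_apply, ← CommRingCat.comp_apply,
            Scheme.Hom.appLE_comp_appLE, Scheme.Hom.appLE_comp_appLE]
          exact congr($(appLE_congr' h2.symm _ _) f)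
        rw [e1, e2]
        exact congrArg _ hf)
      obtain ⟨s, rfl⟩ := hU.2 s
      exact ⟨s, hO.1 (by rw [← hs, hcomm])⟩
  · let j : pullback φ.left φ.left ⟶ (X ⊗ X).left :=
      pullback.mapDesc φ.left φ.left Y.hom ≫ (pullback.congrHom (Over.w φ) (Over.w φ)).hom
    have e : (GIT.psi a (𝟙 X)).left = GIT.PsiY a φ hinv ≫ j := by
      show _ = pullback.lift a.act.left (snd G X).left hinv.left ≫ j
      apply pullback.hom_ext
      · rw [show pullback.fst X.hom X.hom = (fst X X).left from rfl, ← Over.comp_left]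
        simp [GIT.psi, j, pullback.map, pullback.mapDesc, pullback.lift_fst, pullback.lift_snd, pullback.lift_fst_assoc, pullback.lift_snd_assoc]
      · rw [show pullback.snd X.hom X.hom = (snd X X).left from rfl, ← Over.comp_left]
        simp [GIT.psi, j, pullback.map, pullback.mapDesc, pullback.lift_fst, pullback.lift_snd, pullback.lift_fst_assoc, pullback.lift_snd_assoc]
    rw [e]
    infer_instance


end Groth.Agent.S18502
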