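import Groth.Statements.S18505
import Groth.Agent.NormalSch.Basic

set_option autoImplicit false
universe u
open CategoryTheory MonoidalCategory CartesianMonoidalCategory MonObj GrpObj AlgebraicGeometry Topology
open EqInt

namespace Groth.Agent.S18505

open CategoryTheory CategoryTheory.Limits AlgebraicGeometry

open CategoryTheory CategoryTheory.Limits MonoidalCategory CartesianMonoidalCategory MonObj AlgebraicGeometry TopologicalSpace

/-- Nonzero functions on an integral scheme pull back to regular functions along flat morphisms. -/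
theorem eq_zero_of_mul_appLE_eq_zero {P X : Scheme.{u}} [IsIntegral X] (p : P ⟶ X) [Flat p] {O : X.Opens} {W : P.Opens}
    (e : W ≤ p ⁻¹ᵁ O) {b : Γ(X, O)} (hb : b ≠ 0) {y : Γ(P, W)} (hy : p.appLE O W e b * y = 0) : y = 0 := by
  refine TopCat.Sheaf.eq_of_locally_eq' P.sheaf
    (fun V : {V : P.affineOpens // V.1 ≤ W ∧ ∃ U : X.affineOpens, U.1 ≤ O ∧ V.1 ≤ p ⁻¹ᵁ U.1} => V.1.1) W
    (fun V => homOfLE V.2.1) ?_ _ _ fun V => ?_
  · intro z hz
    obtain ⟨U, hU, hzU, hUO⟩ := exists_isAffineOpen_mem_and_subset (U := O) (x := p z) (e hz)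
    obtain ⟨V, hV, hzV, hVle⟩ := exists_isAffineOpen_mem_and_subset (U := W ⊓ p ⁻¹ᵁ U) (x := z) ⟨hz, hzU⟩
    exact Opens.mem_iSup.2 ⟨⟨⟨V, hV⟩, hVle.trans inf_le_left, ⟨U, hU⟩, hUO, hVle.trans inf_le_right⟩, hzV⟩
  · obtain ⟨⟨V, hV⟩, hVW, ⟨U, hU⟩, hUO, hVU⟩ := V
    show P.presheaf.map (homOfLE hVW).op y = P.presheaf.map (homOfLE hVW).op 0
    rw [map_zero]
    rcases isEmpty_or_nonempty V with hVe | ⟨⟨z, hz⟩⟩
    · haveI : Subsingleton Γ(P, V) := by
        rw [show V = ⊥ from Opens.ext (Set.isEmpty_coe_sort.mp hVe)]; infer_instance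
      exact Subsingleton.elim _ _
    haveI : Nonempty U := ⟨⟨p z, hVU hz⟩⟩
    haveI : Nonempty O := ⟨⟨p z, hUO (hVU hz)⟩⟩
    letI : Algebra Γ(X, U) Γ(P, V) := (p.appLE U V hVU).hom.toAlgebra
    haveI : Module.Flat Γ(X, U) Γ(P, V) := HasRingHomProperty.appLE @Flat p inferInstance ⟨U, hU⟩ ⟨V, hV⟩ hVU
    have hb' : X.presheaf.map (homOfLE hUO).op b ≠ 0 := fun h0 => hb (by
      apply X.germToFunctionField_injective O
      rw [map_zero]
      have h1 : X.germToFunctionField U (X.presheaf.map (homOfLE hUO).op b) = X.germToFunctionField O b :=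
        TopCat.Presheaf.germ_res_apply X.presheaf (homOfLE hUO) _ (Groth.Agent.NormalSch.genericPoint_mem U) b
      rw [← h1, h0, map_zero])
    have hreg : IsSMulRegular Γ(P, V) (algebraMap Γ(X, U) Γ(P, V) (X.presheaf.map (homOfLE hUO).op b)) :=
      IsSMulRegular.of_flat (fun u v huv => mul_left_cancel₀ hb' huv)
    refine hreg ?_
    show algebraMap Γ(X, U) Γ(P, V) (X.presheaf.map (homOfLE hUO).op b) * P.presheaf.map (homOfLE hVW).op y =
      algebraMap Γ(X, U) Γ(P, V) (X.presheaf.map (homOfLE hUO).op b) * 0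
    have e1 : algebraMap Γ(X, U) Γ(P, V) (X.presheaf.map (homOfLE hUO).op b) =
        P.presheaf.map (homOfLE hVW).op (p.appLE O W e b) := by
      show (X.presheaf.map (homOfLE hUO).op ≫ p.appLE U V hVU) b = (p.appLE O W e ≫ P.presheaf.map (homOfLE hVW).op) b
      rw [Scheme.Hom.map_appLE, Scheme.Hom.appLE_map]
    rw [e1, mul_zero, ← map_mul, hy, map_zero]


/-- Over an algebraically closed field k of characteristic zero, let an affine group scheme G of finite
type act on a normal variety X (integral, separated, of finite type over k, with integrally closed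
local rings) and let (Y, φ) be a geometric quotient of X by G with Y separated of finite type over
k. Then Y is normal. (The other two conditions of the published criterion are immediate from the
definition of a geometric quotient, and its converse rests on a result quoted there without proof;
only this implication is stated. A geometric quotient is taken here with φ universally submersive.) -/
theorem result (k : Type u) [Field k] [IsAlgClosed k] [CharZero k]
    (G X Y : Over (Spec (CommRingCat.of k))) [GrpObj G] [IsAffine G.left] [LocallyOfFiniteType G.hom]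
    [LocallyOfFiniteType X.hom] [QuasiCompact X.hom] [IsSeparated X.hom] [IsIntegral X.left]
    (hX : Pi1.IsNormalScheme X.left)
    [LocallyOfFiniteType Y.hom] [QuasiCompact Y.hom] [IsSeparated Y.hom]
    (a : AlgGrp.Action G X) (φ : X ⟶ Y) (h : GIT.IsGeomQuot a φ) :
    Pi1.IsNormalScheme Y.left := by
  haveI : Subsingleton ↥(Spec (CommRingCat.of k)) := inferInstanceAs (Subsingleton (PrimeSpectrum k))
  haveI : Flat (snd G X).left := inferInstanceAs (Flat (pullback.snd G.hom X.hom))
  haveI : IrreducibleSpace Y.left := by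
    refine @IrreducibleSpace.mk _ _ ⟨?_⟩ ⟨φ.left (genericPoint X.left)⟩
    rw [← h.surj.range_eq, ← Set.image_univ]
    exact (IrreducibleSpace.isIrreducible_univ X.left).2.image _ φ.left.continuous.continuousOn
  haveI : IsReduced Y.left := ⟨fun U => isReduced_of_injective (φ.left.app U).hom (h.sections U).1⟩
  haveI : IsIntegral Y.left := isIntegral_of_irreducibleSpace_of_isReduced Y.left
  refine Groth.Agent.NormalSch.isNormalScheme_of_affine fun U _ hU => ?_
  let O := φ.left ⁻¹ᵁ U
  haveI : Nonempty O := by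
    obtain ⟨⟨y, hy⟩⟩ := ‹Nonempty U›
    obtain ⟨x, rfl⟩ := h.surj y
    exact ⟨⟨x, hy⟩⟩
  haveI := Groth.Agent.NormalSch.isIntegrallyClosed_section hX O
  obtain ⟨hinj, hrange⟩ := h.sections U
  refine (isIntegrallyClosed_iff (FractionRing Γ(Y.left, U))).mpr fun {f} hf => ?_
  obtain ⟨a₀, ⟨b₀, hb₀⟩, rfl⟩ := IsLocalization.exists_mk'_eq (nonZeroDivisors Γ(Y.left, U)) f
  let g : FractionRing Γ(Y.left, U) →+* FractionRing Γ(X.left, O) :=
    IsFractionRing.lift (g := (algebraMap Γ(X.left, O) _).comp (φ.left.app U).hom)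
      ((IsFractionRing.injective _ _).comp hinj)
  have hg : ∀ r, g (algebraMap _ _ r) = algebraMap _ _ (φ.left.app U r) := fun r => IsFractionRing.lift_algebraMap _ _
  have hint : IsIntegral Γ(X.left, O) (g (IsLocalization.mk' _ a₀ ⟨b₀, hb₀⟩)) := by
    obtain ⟨P, hPm, hP⟩ := hf
    refine ⟨P.map (φ.left.app U).hom, hPm.map _, ?_⟩
    rw [Polynomial.eval₂_map, ← map_zero g, ← hP, Polynomial.hom_eval₂]
    congr 1
    exact RingHom.ext fun r => (hg r).symm
  obtain ⟨c, hc⟩ := IsIntegrallyClosed.isIntegral_iff.mp hint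
  have hcb : c * φ.left.app U b₀ = φ.left.app U a₀ := by
    apply IsFractionRing.injective Γ(X.left, O) (FractionRing Γ(X.left, O))
    rw [map_mul, hc, ← hg, ← map_mul]
    erw [IsLocalization.mk'_spec]
    rw [hg]
  have hb' : φ.left.app U b₀ ≠ 0 := fun h0 => nonZeroDivisors.ne_zero hb₀ (hinj (by rw [h0, map_zero]))
  let P' := a.act.left ⁻¹ᵁ O ⊓ (snd G X).left ⁻¹ᵁ O
  have hcinv : GIT.IsInvSection a φ U c := by
    have hia : GIT.IsInvSection a φ U (φ.left.app U a₀) := hrange.le ⟨a₀, rfl⟩
    have hib : GIT.IsInvSection a φ U (φ.left.app U b₀) := hrange.le ⟨b₀, rfl⟩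
    rw [← hcb] at hia
    unfold GIT.IsInvSection at hia hib ⊢
    rw [map_mul, map_mul, hib] at hia
    refine sub_eq_zero.mp (eq_zero_of_mul_appLE_eq_zero (snd G X).left (O := O) (W := P') inf_le_right hb' ?_)
    rw [mul_sub, sub_eq_zero, mul_comm, hia, mul_comm]
  obtain ⟨s, hs⟩ := hrange.ge hcinv
  refine ⟨s, IsLocalization.eq_mk'_iff_mul_eq.mpr ?_⟩
  show algebraMap _ _ s * algebraMap _ _ b₀ = algebraMap _ _ a₀
  rw [← map_mul]
  congr 1
  apply hinj
  rw [map_mul, hs, hcb]


end Groth.Agent.S18505
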