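import Groth.Statements.S18506
import Groth.Agent.SubBundleLib.Sections
import Groth.Agent.AssocBundleLib.Square

set_option autoImplicit false
set_option backward.isDefEq.respectTransparency false
set_option backward.isDefEq.respectTransparency.types false
universe u
open CategoryTheory MonoidalCategory CartesianMonoidalCategory MonObj GrpObj AlgebraicGeometry Topology
open EqInt

namespace Groth.Agent.S18506

/-- Over a field k, let an affine group scheme G of finite type act on X and on U (quasi-separated
schemes of finite type over k), and let π : U → B be a principal bundle quotient (π is G-invariant,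
flat and surjective and (σ, p₂) : G × U → U ×_B U is an isomorphism) which is locally trivial in the
Zariski topology: every point of B has an open neighbourhood over which π has a section. Then the
diagonal action of G on X × U has a principal bundle quotient X × U → Q in the category of schemes.
(The published hypothesis is that G is special, i.e. every principal G-bundle is Zariski-locally
trivial; only the local triviality of U → B is used, and it is what is assumed here.) -/
theorem result (k : Type u) [Field k]
    (G X U B : Over (Spec (CommRingCat.of k))) [GrpObj G] [IsAffine G.left] [LocallyOfFiniteType G.hom]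
    [LocallyOfFiniteType X.hom] [QuasiCompact X.hom] [QuasiSeparated X.hom]
    [LocallyOfFiniteType U.hom] [QuasiCompact U.hom] [QuasiSeparated U.hom]
    [LocallyOfFiniteType B.hom] [QuasiCompact B.hom] [QuasiSeparated B.hom]
    (a : AlgGrp.Action G X) (b : AlgGrp.Action G U) (π : U ⟶ B) (hinv : GIT.IsInvariant b π)
    [Flat π.left] [Surjective π.left] (hcart : IsIso (GIT.PsiY b π hinv))
    (hzar : ∀ y : ↥B.left, ∃ (W : B.left.Opens) (s : (↑W : Scheme.{u}) ⟶ U.left), y ∈ W ∧ s ≫ π.left = W.ι) :
    ∃ (Q : Over (Spec (CommRingCat.of k))) (ρ : X ⊗ U ⟶ Q) (hρ : GIT.IsInvariant (a.prod b) ρ),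
      Flat ρ.left ∧ Surjective ρ.left ∧ IsIso (GIT.PsiY (a.prod b) ρ hρ) := by
  haveI := hcart
  have hcart' : IsPullback b.act (snd G U) π π := Groth.Agent.AssocBundle.isPullback_of_isIso_psiY b π hinv
  haveI : QuasiCompact (π.left ≫ B.hom) := by rw [Over.w π]; infer_instance
  haveI : QuasiCompact π.left := QuasiCompact.of_comp π.left B.hom
  haveI : Groth.Agent.SchDesc.IsFpqc π.left := Groth.Agent.SchDesc.IsFpqc.of_quasiCompact π.left
  obtain ⟨Qd⟩ := Groth.Agent.SubBundle.nonempty_quot_sections hcart' (fst U X) (b.prod a)
    (Groth.Agent.AssocBundle.prod_act_fst b a) (fun y => hzar y)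
  obtain ⟨Q, q, r, hqr, hQ, hq, hc⟩ := Groth.Agent.AssocBundle.exists_quotient_of_quot hcart' (fst U X) (b.prod a)
    (Groth.Agent.AssocBundle.prod_act_fst b a) Qd
  haveI := hq
  let σ : X ⊗ U ⟶ U ⊗ X := lift (snd X U) (fst X U)
  haveI : IsIso σ := ⟨lift (snd U X) (fst U X), by apply CartesianMonoidalCategory.hom_ext <;> simp [σ],
    by apply CartesianMonoidalCategory.hom_ext <;> simp [σ]⟩
  have hσ : (a.prod b).act ≫ σ = (G ◁ σ) ≫ (b.prod a).act := by
    simp [σ, AlgGrp.Action.prod, comp_lift, ← whiskerLeft_comp_assoc]
  have hρ : IsPullback (a.prod b).act (snd G (X ⊗ U)) (σ ≫ q) (σ ≫ q) := by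
    refine hc.of_iso (asIso (G ◁ σ)).symm (asIso σ).symm (asIso σ).symm (Iso.refl _) ?_ ?_ ?_ ?_
    · simp only [Iso.symm_hom, asIso_inv, IsIso.eq_inv_comp, ← Category.assoc]
      rw [IsIso.comp_inv_eq, hσ]
    · simp only [Iso.symm_hom, asIso_inv, IsIso.eq_inv_comp, ← Category.assoc]
      rw [IsIso.comp_inv_eq]
      simp
    · simp
    · simp
  refine ⟨Q, σ ≫ q, hρ.w, ?_, ?_, ?_⟩
  · rw [Over.comp_left]
    haveI : IsIso σ.left := inferInstanceAs (IsIso ((Over.forget _).map σ))
    haveI : Flat q.left := inferInstance
    infer_instance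
  · rw [Over.comp_left]
    haveI : IsIso σ.left := inferInstanceAs (IsIso ((Over.forget _).map σ))
    haveI : Surjective q.left := inferInstance
    infer_instance
  · have h := hρ.map (Over.forget (Spec (CommRingCat.of k)))
    have e : GIT.PsiY (a.prod b) (σ ≫ q) hρ.w = h.isoPullback.hom := by
      apply CategoryTheory.Limits.pullback.hom_ext
      · exact (CategoryTheory.Limits.pullback.lift_fst _ _ _).trans h.isoPullback_hom_fst.symm
      · exact (CategoryTheory.Limits.pullback.lift_snd _ _ _).trans h.isoPullback_hom_snd.symm
    rw [e]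
    infer_instance

end Groth.Agent.S18506
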