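import Groth.Statements.S18508
import Groth.Agent.GeomQuotLib.Free
import Groth.Agent.MonoFibre.Kernel
import Groth.Agent.GrpSchLib.Cartier
import Groth.Agent.ASp.PropDescend
import Groth.Agent.ASp.RedSub

set_option autoImplicit false
universe u
open CategoryTheory MonoidalCategory CartesianMonoidalCategory MonObj GrpObj AlgebraicGeometry Topology
open EqInt

namespace Groth.Agent.S18508

open CategoryTheory CategoryTheory.Limits AlgebraicGeometry

open Groth.Agent CategoryTheory.Limits
set_option backward.isDefEq.respectTransparency false

section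
variable {k : Type u} [Field k] {G X : Over (Spec (CommRingCat.of k))} [GrpObj G] (a : AlgGrp.Action G X) (x : X.left)

/-- Over the residue field of a point, as a scheme over `k`. -/
noncomputable abbrev toK : Over (Spec (X.left.residueField x)) ⥤ Over (Spec (CommRingCat.of k)) :=
  Over.map (X.left.fromSpecResidueField x ≫ X.hom)

/-- The tautological point. -/
noncomputable def xT (T : Over (Spec (X.left.residueField x))) : (toK x).obj T ⟶ X :=
  Over.homMk (T.hom ≫ X.left.fromSpecResidueField x) (Category.assoc _ _ _)

omit [GrpObj G] in
theorem map_xT {T T' : Over (Spec (X.left.residueField x))} (f : T' ⟶ T) :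
    (toK x).map f ≫ xT x T = xT x T' :=
  Over.OverMorphism.ext (by
    show f.left ≫ T.hom ≫ X.left.fromSpecResidueField x = T'.hom ≫ X.left.fromSpecResidueField x
    rw [Over.w_assoc])

/-- Points of the stabiliser of `x`. -/
noncomputable def stabPts (T : Over (Spec (X.left.residueField x))) : Subgroup ((toK x).obj T ⟶ G) where
  carrier := {g | lift g (xT x T) ≫ a.act = xT x T}
  one_mem' := GrpQuotLib.one_smul a _
  mul_mem' {g h} hg hh := by
    show lift (g * h) (xT x T) ≫ a.act = _
    rw [GrpQuotLib.mul_smul, hh, hg]
  inv_mem' {g} hg := by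
    show lift g⁻¹ (xT x T) ≫ a.act = _
    conv_lhs => rw [← hg]
    rw [← GrpQuotLib.mul_smul, inv_mul_cancel, GrpQuotLib.one_smul]

theorem map_mem {T T' : Over (Spec (X.left.residueField x))} (f : T' ⟶ T) {g : (toK x).obj T ⟶ G}
    (hg : g ∈ stabPts a x T) : (toK x).map f ≫ g ∈ stabPts a x T' := by
  show lift ((toK x).map f ≫ g) (xT x T') ≫ a.act = xT x T'
  rw [← map_xT x f, ← comp_lift, Category.assoc, show lift g (xT x T) ≫ a.act = xT x T from hg]

/-- The functor of points of the stabiliser. -/
noncomputable def stabFun : (Over (Spec (X.left.residueField x)))ᵒᵖ ⥤ GrpCat.{u} where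
  obj T := GrpCat.of (stabPts a x T.unop)
  map {T T'} f := GrpCat.ofHom
    { toFun := fun g => ⟨(toK x).map f.unop ≫ g.1, map_mem a x f.unop g.2⟩
      map_one' := Subtype.ext (MonObj.comp_one _)
      map_mul' := fun p q => Subtype.ext (MonObj.comp_mul _ _ _) }
  map_id T := GrpCat.hom_ext <| MonoidHom.ext fun g => Subtype.ext <| by
    show (toK x).map (𝟙 T.unop) ≫ g.1 = g.1
    rw [CategoryTheory.Functor.map_id, Category.id_comp]
  map_comp f f' := GrpCat.hom_ext <| MonoidHom.ext fun g => Subtype.ext <| by
    show (toK x).map (f'.unop ≫ f.unop) ≫ g.1 = (toK x).map f'.unop ≫ (toK x).map f.unop ≫ g.1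
    rw [CategoryTheory.Functor.map_comp, Category.assoc]

/-- The stabiliser group scheme. -/
noncomputable abbrev sS := pullback.snd (GIT.psi a (𝟙 X)).left (lift (𝟙 X) (𝟙 X)).left

/-- Its fibre over `x`. -/
noncomputable abbrev fib : Over (Spec (X.left.residueField x)) :=
  Over.mk (pullback.snd (sS a) (X.left.fromSpecResidueField x))

theorem point_w {T : Over (Spec (X.left.residueField x))} {g : (toK x).obj T ⟶ G} (hg : g ∈ stabPts a x T) :
    (lift g (xT x T)).left ≫ (GIT.psi a (𝟙 X)).left =
      (T.hom ≫ X.left.fromSpecResidueField x) ≫ (lift (𝟙 X) (𝟙 X)).left := by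
  show _ = (xT x T).left ≫ _
  rw [← Over.comp_left, ← Over.comp_left, GeomQuotLib.psi_id, comp_lift,
    show lift g (xT x T) ≫ a.act = xT x T from hg, lift_snd, comp_lift, Category.comp_id]

/-- The morphism to `G` given by a point of the fibre. -/
noncomputable def ptG {T : Over (Spec (X.left.residueField x))} (c : T ⟶ fib a x) : (toK x).obj T ⟶ G ⊗ X :=
  Over.homMk (c.left ≫ pullback.fst (sS a) _ ≫ pullback.fst _ _) (by
    show (c.left ≫ pullback.fst (sS a) _ ≫ pullback.fst _ _) ≫ (G ⊗ X).hom = T.hom ≫ _
    rw [← Over.w (GIT.psi a (𝟙 X))]
    simp only [Category.assoc]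
    rw [pullback.condition_assoc, Over.w, pullback.condition_assoc]
    exact Over.w_assoc c _)

theorem ptG_psi {T : Over (Spec (X.left.residueField x))} (c : T ⟶ fib a x) :
    ptG a x c ≫ lift a.act (snd G X) = xT x T ≫ lift (𝟙 X) (𝟙 X) :=
  Over.OverMorphism.ext (by
    rw [← GeomQuotLib.psi_id]
    show (c.left ≫ pullback.fst (sS a) _ ≫ pullback.fst _ _) ≫ (GIT.psi a (𝟙 X)).left =
      (T.hom ≫ X.left.fromSpecResidueField x) ≫ _
    simp only [Category.assoc]
    rw [pullback.condition, pullback.condition_assoc]
    exact Over.w_assoc c _)

theorem ptG_snd {T : Over (Spec (X.left.residueField x))} (c : T ⟶ fib a x) :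
    ptG a x c ≫ snd G X = xT x T := by
  have := congrArg (fun t => t ≫ snd X X) (ptG_psi a x c)
  simpa using this

theorem ptG_mem {T : Over (Spec (X.left.residueField x))} (c : T ⟶ fib a x) :
    ptG a x c ≫ fst G X ∈ stabPts a x T := by
  have h : ptG a x c ≫ a.act = xT x T := by
    simpa using congrArg (fun t => t ≫ fst X X) (ptG_psi a x c)
  show lift (ptG a x c ≫ fst G X) (xT x T) ≫ a.act = xT x T
  conv_lhs => rw [← ptG_snd a x c, ← comp_lift, lift_fst_snd, Category.comp_id, h]

/-- The fibre represents the stabiliser. -/
noncomputable def stabRep : (stabFun a x ⋙ forget _).RepresentableBy (fib a x) where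
  homEquiv {T} :=
    { toFun := fun c => ⟨ptG a x c ≫ fst G X, ptG_mem a x c⟩
      invFun := fun g => Over.homMk (pullback.lift (pullback.lift (lift g.1 (xT x T)).left
        (T.hom ≫ X.left.fromSpecResidueField x) (point_w a x g.2)) T.hom (pullback.lift_snd _ _ _))
        (pullback.lift_snd _ _ _)
      left_inv := fun c => Over.OverMorphism.ext (by
        apply pullback.hom_ext
        · erw [pullback.lift_fst]
          apply pullback.hom_ext
          · rw [pullback.lift_fst, Category.assoc]
            conv_lhs => rw [← ptG_snd a x c, ← comp_lift, lift_fst_snd, Category.comp_id]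
            rfl
          · rw [pullback.lift_snd, Category.assoc, pullback.condition]
            exact (Over.w_assoc c _).symm
        · erw [pullback.lift_snd]
          exact (Over.w c).symm)
      right_inv := fun g => Subtype.ext (by
        apply Over.OverMorphism.ext
        show (_ ≫ pullback.fst (sS a) _ ≫ pullback.fst _ _) ≫ (fst G X).left = _
        simp only [Category.assoc]
        erw [pullback.lift_fst_assoc, pullback.lift_fst_assoc]
        rw [← Over.comp_left, lift_fst]) }
  homEquiv_comp {T T'} f c := Subtype.ext (by
    show ptG a x (f ≫ c) ≫ fst G X = (toK x).map f ≫ ptG a x c ≫ fst G X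
    rw [← Category.assoc ((toK x).map f)]
    congr 1)

end

/-- Over a field k, let an affine group scheme G of finite type act on a separated scheme X of finite
type over k, with stabilizer group scheme S = (G × X) ×_{X × X} X → X (the pullback of (σ, p₂) along
the diagonal). Assume that k has characteristic zero or that G is finite étale over k. Then the
action is set-theoretically free (S → X is universally injective: the stabilizer of every geometric
point inside the group of geometric points is trivial) if and only if it is geometrically free (for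
every point x of X the fibre of S over x is Spec κ(x) through its structure map). (The source takes
X integral and tests geometric points with values in an algebraic closure of k; the statement here
is over all points, which is what the argument gives pointwise.) -/
theorem result (k : Type u) [Field k]
    (G X : Over (Spec (CommRingCat.of k))) [GrpObj G] [IsAffine G.left] [LocallyOfFiniteType G.hom]
    [LocallyOfFiniteType X.hom] [QuasiCompact X.hom] [IsSeparated X.hom]
    (hG : CharZero k ∨ (IsFinite G.hom ∧ Etale G.hom)) (a : AlgGrp.Action G X) :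
    UniversallyInjective (Limits.pullback.snd (GIT.psi a (𝟙 X)).left (CartesianMonoidalCategory.lift (𝟙 X) (𝟙 X)).left) ↔
      ∀ x : ↥X.left, IsIso ((Limits.pullback.snd (GIT.psi a (𝟙 X)).left (CartesianMonoidalCategory.lift (𝟙 X) (𝟙 X)).left).fiberToSpecResidueField x) := by
  let s := Limits.pullback.snd (GIT.psi a (𝟙 X)).left (lift (𝟙 X) (𝟙 X)).left
  haveI : LocallyOfFiniteType ((G ⊗ X).hom) :=
    inferInstanceAs (LocallyOfFiniteType (pullback.fst G.hom X.hom ≫ G.hom))
  haveI : LocallyOfFiniteType (GIT.psi a (𝟙 X)).left := by
    haveI : LocallyOfFiniteType ((GIT.psi a (𝟙 X)).left ≫ (X ⊗ X).hom) := by rw [Over.w]; infer_instance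
    exact locallyOfFiniteType_of_comp _ (X ⊗ X).hom
  haveI : LocallyOfFiniteType s := inferInstance
  constructor
  · intro hu x
    let K := X.left.residueField x
    let j : Spec K ⟶ X.left := X.left.fromSpecResidueField x
    let p := pullback.snd s j
    show IsIso p
    haveI : UniversallyInjective p := MorphismProperty.pullback_snd _ _ hu
    letI : GrpObj (Over.mk p) := GrpObj.ofRepresentableBy _ (stabFun a x) (stabRep a x)
    let e : Spec K ⟶ pullback s j := (MonObj.one (X := Over.mk p)).left
    have he : e ≫ p = 𝟙 _ := Over.w (MonObj.one (X := Over.mk p))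
    haveI : IsSeparated ((G ⊗ X).hom) :=
      inferInstanceAs (IsSeparated (pullback.fst G.hom X.hom ≫ G.hom))
    haveI : IsSeparated (GIT.psi a (𝟙 X)).left := by
      haveI : IsSeparated ((GIT.psi a (𝟙 X)).left ≫ (X ⊗ X).hom) := by rw [Over.w]; infer_instance
      exact IsSeparated.of_comp _ (X ⊗ X).hom
    haveI : IsSeparated p := inferInstance
    haveI : IsClosedImmersion e := by
      haveI : IsClosedImmersion (e ≫ p) := by rw [he]; infer_instance
      exact IsClosedImmersion.of_comp e p
    haveI : Surjective e := ⟨fun z => ⟨p z, by
      apply p.injective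
      rw [← Scheme.Hom.comp_apply, he]
      rfl⟩⟩
    haveI : LocallyOfFiniteType p := inferInstance
    haveI : IsReduced (pullback s j) := by
      rcases hG with h | ⟨-, h⟩
      · haveI := h
        let φ : k →+* (K : Type u) := (Spec.preimage (j ≫ X.hom)).hom
        haveI : CharZero (K : Type u) := charZero_of_injective_ringHom φ.injective
        haveI : LocallyOfFiniteType (Over.mk p).hom := ‹LocallyOfFiniteType p›
        haveI : Smooth p := GrpSchLib.smooth_of_charZero (K := (K : Type u)) (Over.mk p)
        exact ASp.isReduced_of_smooth p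
      · haveI := h
        haveI : IsClosedImmersion (lift (𝟙 X) (𝟙 X)).left := by
          haveI : IsClosedImmersion ((lift (𝟙 X) (𝟙 X)).left ≫ (fst X X).left) := by
            rw [← Over.comp_left, lift_fst]
            exact inferInstanceAs (IsClosedImmersion (𝟙 X.left))
          haveI : IsSeparated (fst X X).left := inferInstanceAs (IsSeparated (pullback.fst X.hom X.hom))
          exact IsClosedImmersion.of_comp _ (fst X X).left
        let i := pullback.fst (GIT.psi a (𝟙 X)).left (lift (𝟙 X) (𝟙 X)).left
        haveI : Etale (snd G X).left := inferInstanceAs (Etale (pullback.snd G.hom X.hom))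
        have hi : i ≫ (snd G X).left = s := by
          have h1 : GIT.psi a (𝟙 X) ≫ snd X X = snd G X := by rw [GeomQuotLib.psi_id, lift_snd]
          show i ≫ _ = _
          rw [← h1, Over.comp_left, pullback.condition_assoc, ← Over.comp_left, lift_snd]
          exact Category.comp_id _
        haveI : IsClosedImmersion i := MorphismProperty.pullback_fst _ _ ‹_›
        haveI : FormallyUnramified s := by
          rw [← hi]; exact MorphismProperty.comp_mem @FormallyUnramified i _ inferInstance inferInstance
        haveI : FormallyUnramified p := MorphismProperty.pullback_snd _ _ ‹_›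
        haveI : Etale p := Etale.of_formallyUnramified_of_flat p
        exact ASp.isReduced_of_etale p
    haveI : IsIso e := isIso_of_isClosedImmersion_of_surjective e
    rw [show p = inv e from IsIso.eq_inv_of_hom_inv_id he]
    infer_instance
  · intro h
    haveI : Mono s := MonoFibre.mono_of_mono_fibres s fun x => @IsIso.mono_of_iso _ _ _ _ _ (h x)
    exact inferInstanceAs (UniversallyInjective s)


end Groth.Agent.S18508
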