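import Groth.Statements.S18510
import Groth.Agent.TorsorCartLib.Basic

set_option autoImplicit false
universe u
open CategoryTheory MonoidalCategory CartesianMonoidalCategory MonObj GrpObj AlgebraicGeometry Topology
open EqInt

namespace Groth.Agent.S18510

open CategoryTheory CategoryTheory.Limits AlgebraicGeometry

set_option backward.isDefEq.respectTransparency false
set_option backward.defeqAttrib.useBackward true
set_option linter.style.haveILetI false

open Groth.Agent

/-- Over a field k, let an affine group scheme G of finite type act on X, on Y and on U (quasi-separated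
schemes of finite type over k), let f : X → Y be G-equivariant, and let q_X : X × U → X_G and q_Y :
Y × U → Y_G be principal bundle quotients for the diagonal actions (each is invariant, flat and
surjective, and (σ, p₂) into the fibre square over the quotient is an isomorphism), X_G and Y_G
being quasi-separated of finite type over k. Let f_G : X_G → Y_G satisfy f_G ∘ q_X = q_Y ∘ (f ×
id_U) as maps X × U → Y_G. If f is proper, resp. flat, resp. smooth, then so is f_G. (Stated for
schemes; the source allows algebraic spaces and also treats regular embeddings and local complete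
intersection morphisms, which are not stated here.) -/
theorem result (k : Type u) [Field k]
    (G X Y U XG YG : Over (Spec (CommRingCat.of k))) [GrpObj G] [IsAffine G.left] [LocallyOfFiniteType G.hom]
    [LocallyOfFiniteType X.hom] [QuasiCompact X.hom] [QuasiSeparated X.hom]
    [LocallyOfFiniteType Y.hom] [QuasiCompact Y.hom] [QuasiSeparated Y.hom]
    [LocallyOfFiniteType U.hom] [QuasiCompact U.hom] [QuasiSeparated U.hom]
    [LocallyOfFiniteType XG.hom] [QuasiCompact XG.hom] [QuasiSeparated XG.hom]
    [LocallyOfFiniteType YG.hom] [QuasiCompact YG.hom] [QuasiSeparated YG.hom]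
    (a : AlgGrp.Action G X) (aY : AlgGrp.Action G Y) (b : AlgGrp.Action G U)
    (f : X ⟶ Y) (hf : AlgGrp.Action.IsEquivariant a aY f)
    (qX : X ⊗ U ⟶ XG) (hqX : GIT.IsInvariant (a.prod b) qX) [Flat qX.left] [Surjective qX.left]
    (hcX : IsIso (GIT.PsiY (a.prod b) qX hqX))
    (qY : Y ⊗ U ⟶ YG) (hqY : GIT.IsInvariant (aY.prod b) qY) [Flat qY.left] [Surjective qY.left]
    (hcY : IsIso (GIT.PsiY (aY.prod b) qY hqY))
    (fG : XG ⟶ YG) (hfG : qX ≫ fG = (f ▷ U) ≫ qY) :
    (IsProper f.left → IsProper fG.left) ∧ (Flat f.left → Flat fG.left) ∧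
      (Smooth f.left → Smooth fG.left) := by
  haveI : QuasiCompact (X ⊗ U).hom := by
    change QuasiCompact (pullback.fst X.hom U.hom ≫ X.hom)
    infer_instance
  haveI : QuasiCompact (Y ⊗ U).hom := by
    change QuasiCompact (pullback.fst Y.hom U.hom ≫ Y.hom)
    infer_instance
  haveI : QuasiCompact (qX.left ≫ XG.hom) := by rw [Over.w]; infer_instance
  haveI : QuasiCompact (qY.left ≫ YG.hom) := by rw [Over.w]; infer_instance
  haveI : QuasiCompact qX.left := QuasiCompact.of_comp qX.left XG.hom
  haveI : QuasiCompact qY.left := QuasiCompact.of_comp qY.left YG.hom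
  have hg : AlgGrp.Action.IsEquivariant (a.prod b) (aY.prod b) (f ▷ U) := by
    have hf' : a.act ≫ f = (G ◁ f) ≫ aY.act := hf
    show (a.prod b).act ≫ (f ▷ U) = (G ◁ (f ▷ U)) ≫ (aY.prod b).act
    rw [AlgGrp.Action.prod_act, AlgGrp.Action.prod_act]
    apply CartesianMonoidalCategory.hom_ext
    · simp only [Category.assoc, whiskerRight_fst, lift_fst_assoc, lift_fst, hf', ← whiskerLeft_comp_assoc]
    · simp only [Category.assoc, whiskerRight_snd, lift_snd, ← whiskerLeft_comp_assoc]
  haveI := hcX
  haveI := hcY
  have hc := TorsorCart.isPullback_of_equivariant (a.prod b) (aY.prod b) (f ▷ U) hg qX hqX qY hqY fG hfG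
  have hQ : (@Surjective ⊓ @Flat ⊓ @QuasiCompact : MorphismProperty Scheme.{u}) qY.left :=
    ⟨⟨inferInstance, inferInstance⟩, inferInstance⟩
  have hbc : ∀ (P : MorphismProperty Scheme.{u}) [P.IsStableUnderBaseChange]
      [P.DescendsAlong (@Surjective ⊓ @Flat ⊓ @QuasiCompact)], P f.left → P fG.left := fun P _ _ h => by
    refine MorphismProperty.of_isPullback_of_descendsAlong (Q := (@Surjective ⊓ @Flat ⊓ @QuasiCompact : MorphismProperty Scheme.{u}))
      hc.flip hQ (MorphismProperty.of_isPullback ((TorsorCart.isPullback_whiskerRight U f).map (Over.forget _)).flip h)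
  haveI := FpqcDesc.isProper_descends.{u}
  exact ⟨hbc @IsProper, hbc @Flat, hbc @Smooth⟩

end Groth.Agent.S18510
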