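import Groth.Statements.S18511
import Groth.Agent.GeomQuotLib.Fpqc

set_option autoImplicit false
universe u
open CategoryTheory MonoidalCategory CartesianMonoidalCategory MonObj GrpObj AlgebraicGeometry Topology
open EqInt

namespace Groth.Agent.S18511

open CategoryTheory CategoryTheory.Limits AlgebraicGeometry

open CategoryTheory CategoryTheory.Limits MonoidalCategory CartesianMonoidalCategory MonObj AlgebraicGeometry

/-- An action pulls back along a morphism to the target of an invariant map. -/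
theorem exists_pullbackAction {S : Scheme.{u}} {G X Y Z : Over S} [GrpObj G] (a : AlgGrp.Action G X) (φ : X ⟶ Y)
    (hinv : GIT.IsInvariant a φ) (g : Z ⟶ Y) :
    ∃ a₂ : AlgGrp.Action G (pullback φ g),
      a₂.act ≫ pullback.fst φ g = (G ◁ pullback.fst φ g) ≫ a.act ∧ GIT.IsInvariant a₂ (pullback.snd φ g) := by
  have w : ((G ◁ pullback.fst φ g) ≫ a.act) ≫ φ = (snd G _ ≫ pullback.snd φ g) ≫ g := by
    rw [Category.assoc, hinv, whiskerLeft_snd_assoc, Category.assoc, ← pullback.condition]
  let act := pullback.lift ((G ◁ pullback.fst φ g) ≫ a.act) (snd G _ ≫ pullback.snd φ g) w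
  have h1 : act ≫ pullback.fst φ g = (G ◁ pullback.fst φ g) ≫ a.act := pullback.lift_fst _ _ _
  have h2 : act ≫ pullback.snd φ g = snd G _ ≫ pullback.snd φ g := pullback.lift_snd _ _ _
  refine ⟨{ act := act, one_act := ?_, mul_act := ?_ }, h1, h2⟩
  · apply pullback.hom_ext
    · rw [Category.assoc, h1, ← Category.assoc, ← whisker_exchange, Category.assoc, a.one_act, leftUnitor_naturality]
    · rw [Category.assoc, h2, whiskerRight_snd_assoc]
      rw [leftUnitor_hom]
  · apply pullback.hom_ext
    · rw [Category.assoc, h1, Category.assoc, Category.assoc, h1, ← Category.assoc, ← whisker_exchange, Category.assoc,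
        a.mul_act, ← MonoidalCategory.whiskerLeft_comp_assoc, h1, MonoidalCategory.whiskerLeft_comp, Category.assoc]
      simp
    · rw [Category.assoc, h2, whiskerRight_snd_assoc, Category.assoc, Category.assoc, h2, whiskerLeft_snd_assoc, h2]
      simp


/-- Over a field k, let an affine group scheme G of finite type act on X, with X and Y separated of
finite type over k, and let φ : X → Y be G-invariant. Let α : Y' → Y be faithfully flat and
quasi-compact and let X' → Y' be the base change of φ with its induced action of G (X' → X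
equivariant, X' → Y' invariant). If (Y', φ') is a universal geometric quotient of X' by G, then (Y,
φ) is a universal geometric quotient of X by G. (The source takes X and Y integral; integrality
plays no role. Geometric quotients are taken with universally submersive structure map.) -/
theorem result (k : Type u) [Field k]
    (G X Y X' Y' : Over (Spec (CommRingCat.of k))) [GrpObj G] [IsAffine G.left] [LocallyOfFiniteType G.hom]
    [LocallyOfFiniteType X.hom] [QuasiCompact X.hom] [IsSeparated X.hom]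
    [LocallyOfFiniteType Y.hom] [QuasiCompact Y.hom] [IsSeparated Y.hom]
    (a : AlgGrp.Action G X) (φ : X ⟶ Y) (hinv : GIT.IsInvariant a φ)
    (α : Y' ⟶ Y) [Flat α.left] [Surjective α.left] [QuasiCompact α.left]
    (pr : X' ⟶ X) (φ' : X' ⟶ Y') (hpb : IsPullback pr φ' φ α)
    (a' : AlgGrp.Action G X') (heq : a'.act ≫ pr = (G ◁ pr) ≫ a.act) (hinv' : GIT.IsInvariant a' φ')
    (h : GIT.IsUnivGeomQuot a' φ') :
    GIT.IsUnivGeomQuot a φ := by
  haveI hqc : QuasiCompact φ.left := by
    haveI : QuasiCompact (φ.left ≫ Y.hom) := by rw [Over.w φ]; infer_instance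
    exact QuasiCompact.of_comp φ.left Y.hom
  refine ⟨Groth.Agent.GeomQuotLib.isGeomQuot_of_fpqc a φ hinv α pr φ' hpb a' heq h.1,
    fun X₁ Y₁ pr₁ φ₁ g _ hpb₁ a₁ heq₁ hinv₁ => ?_⟩
  let Y₂ := pullback g α
  let α₂ : Y₂ ⟶ Y₁ := pullback.fst g α
  let g₂ : Y₂ ⟶ Y' := pullback.snd g α
  have hP₂ : IsPullback α₂.left g₂.left g.left α.left := (IsPullback.of_hasPullback g α).map (Over.forget _)
  haveI : Flat α₂.left := MorphismProperty.of_isPullback hP₂.flip ‹Flat α.left›
  haveI : Surjective α₂.left := MorphismProperty.of_isPullback hP₂.flip ‹Surjective α.left›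
  haveI : QuasiCompact α₂.left := MorphismProperty.of_isPullback hP₂.flip ‹QuasiCompact α.left›
  haveI : QuasiCompact φ₁.left :=
    MorphismProperty.of_isPullback ((hpb₁.map (Over.forget _)) : IsPullback pr₁.left φ₁.left φ.left g.left) hqc
  obtain ⟨a₂, ha₂, hinv₂⟩ := exists_pullbackAction a' φ' hinv' g₂
  let φ₂ := pullback.snd φ' g₂
  have hbig : IsPullback (pullback.fst φ' g₂ ≫ pr) φ₂ φ (α₂ ≫ g) := by
    rw [show α₂ ≫ g = g₂ ≫ α from pullback.condition]
    exact (IsPullback.of_hasPullback φ' g₂).paste_horiz hpb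
  let pr₂ : pullback φ' g₂ ⟶ X₁ := hpb₁.lift (pullback.fst φ' g₂ ≫ pr) (φ₂ ≫ α₂) (by
    rw [Category.assoc, Category.assoc]
    exact (Category.assoc _ _ _).symm.trans hbig.w)
  have hpb₂ : IsPullback pr₂ φ₂ φ₁ α₂ :=
    IsPullback.of_right (h₁₂ := pr₁) (h₂₂ := g) (v₁₃ := φ) (by rw [hpb₁.lift_fst]; exact hbig) (hpb₁.lift_snd _ _ _) hpb₁
  have heq₂ : a₂.act ≫ pr₂ = (G ◁ pr₂) ≫ a₁.act := by
    apply hpb₁.hom_ext
    · rw [Category.assoc, hpb₁.lift_fst, reassoc_of% ha₂, heq, Category.assoc, heq₁,
        ← MonoidalCategory.whiskerLeft_comp_assoc, ← MonoidalCategory.whiskerLeft_comp_assoc, hpb₁.lift_fst]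
    · rw [Category.assoc, hpb₁.lift_snd, ← Category.assoc, hinv₂, Category.assoc, Category.assoc, hinv₁,
        whiskerLeft_snd_assoc, hpb₁.lift_snd]
  exact Groth.Agent.GeomQuotLib.isGeomQuot_of_fpqc a₁ φ₁ hinv₁ α₂ pr₂ φ₂ hpb₂ a₂ heq₂
    (h.2 (pullback.fst φ' g₂) φ₂ g₂ trivial (IsPullback.of_hasPullback φ' g₂) a₂ ha₂ hinv₂)


end Groth.Agent.S18511
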