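import Groth.Statements.S18515
import Mathlib.AlgebraicGeometry.ValuativeCriterion
import Mathlib.RingTheory.DiscreteValuationRing.Basic

set_option autoImplicit false
set_option backward.isDefEq.respectTransparency false
set_option backward.isDefEq.respectTransparency.types false
open CategoryTheory CategoryTheory.Limits MonoidalCategory CartesianMonoidalCategory MonObj GrpObj AlgebraicGeometry
universe u
open NonAbH1

namespace Groth.Agent.S18515

/-- A class represented by a torsor over a complete variety is unramified at every discrete valuation
ring of the function field. The published lemma assumes G finite, k algebraically closed of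
characteristic zero and K finitely generated over k; this row allows any field k, any field K and
any affine k-group scheme of finite type: let k be a field, X a proper k-scheme, G an affine k-group
scheme of finite type and P a torsor over X, locally trivial for the etale topology, under the base
change of G. For every field K with a k-morphism e : Spec K ⟶ X (for instance the generic point of
an integral X) and every discrete valuation ring R with fraction field K containing k compatibly,
there is a torsor Q over Spec R under the base change of G whose restriction to Spec K is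
equivariantly isomorphic to the pullback of P along e, both regarded as actions of the base change
of G to Spec K through the canonical identifications of iterated base changes. -/
theorem result
    (k K R : Type u) [Field k] [Field K] [Algebra k K]
    [CommRing R] [IsDomain R] [IsDiscreteValuationRing R] [Algebra k R] [Algebra R K] [IsFractionRing R K]
    (hc : Spec.map (CommRingCat.ofHom (algebraMap R K)) ≫ Spec.map (CommRingCat.ofHom (algebraMap k R)) =
      Spec.map (CommRingCat.ofHom (algebraMap k K)))
    (X : Scheme.{u}) (x : X ⟶ Spec (CommRingCat.of k)) [IsProper x]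
    (G : Over (Spec (CommRingCat.of k))) [GrpObj G] [IsAffine G.left] [LocallyOfFiniteType G.hom]
    (P : NonAbH1.TorsorSch (Red.bc x G) Scheme.etalePrecoverage)
    (e : Spec (CommRingCat.of K) ⟶ X) (he : e ≫ x = Spec.map (CommRingCat.ofHom (algebraMap k K))) :
    ∃ Q : NonAbH1.TorsorSch (Red.bc (Spec.map (CommRingCat.ofHom (algebraMap k R))) G) Scheme.etalePrecoverage,
      Nonempty (NonAbH1.EquivIso
        ((Q.act.bc (Spec.map (CommRingCat.ofHom (algebraMap R K)))).restrict
          (ActBC.bcCompIso (Spec.map (CommRingCat.ofHom (algebraMap R K)))
            (Spec.map (CommRingCat.ofHom (algebraMap k R))) G hc).inv)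
        ((P.act.bc e).restrict (ActBC.bcCompIso e x G he).inv)) := by
  let gen : Spec (CommRingCat.of K) ⟶ Spec (CommRingCat.of R) := Spec.map (CommRingCat.ofHom (algebraMap R K))
  let sR : Spec (CommRingCat.of R) ⟶ Spec (CommRingCat.of k) := Spec.map (CommRingCat.ofHom (algebraMap k R))
  have hex : ValuativeCriterion x := by
    have h := (inferInstance : IsProper x)
    rw [IsProper.eq_valuativeCriterion] at h
    exact h.1.1.1
  obtain ⟨⟨⟨⟨e', h1, h2⟩⟩, -⟩⟩ := hex ⟨R, K, e, sR, ⟨he.trans hc.symm⟩⟩
  let i' := ActBC.bcCompIso e' x G h2
  let Q : NonAbH1.TorsorSch (Red.bc sR G) Scheme.etalePrecoverage :=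
    { X := Red.bc e' P.X
      act := (P.act.bc e').restrict i'.inv
      isTorsor := ⟨by
        haveI : IsIso (lift (P.act.bc e').act (snd (Red.bc e' (Red.bc x G)) (Red.bc e' P.X))) := (P.bc e').isTorsor.1
        show IsIso (lift ((P.act.bc e').restrict i'.inv).act (snd (Red.bc sR G) (Red.bc e' P.X)))
        have e : lift ((P.act.bc e').restrict i'.inv).act (snd (Red.bc sR G) (Red.bc e' P.X)) =
            (i'.inv ▷ _) ≫ lift (P.act.bc e').act (snd _ _) := by
          apply CartesianMonoidalCategory.hom_ext <;> simp [AlgGrp.Action.restrict_act]
        rw [e]; infer_instance, (P.bc e').isTorsor.2⟩ }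
  refine ⟨Q, ?_⟩
  let n := ActBC.bcCompIso gen e' P.X h1
  have key : (Over.pullback gen).map i'.hom ≫ (ActBC.bcCompIso gen sR G hc).hom =
      (ActBC.bcCompIso gen e' (Red.bc x G) h1).hom ≫ (ActBC.bcCompIso e x G he).hom := by
    apply Over.OverMorphism.ext
    apply pullback.hom_ext
    · simp only [Over.comp_left, Category.assoc, i', ActBC.bcCompIso_hom_left_fst,
        ActBC.pullback_map_left_fst_assoc, ActBC.bcCompIso_hom_left_fst_assoc]
    · exact (Over.w _).trans (Over.w _).symm
  have key' : (ActBC.bcCompIso gen sR G hc).inv ≫ (Over.pullback gen).map i'.inv ≫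
      (ActBC.bcCompIso gen e' (Red.bc x G) h1).hom = (ActBC.bcCompIso e x G he).inv := by
    rw [← cancel_mono (ActBC.bcCompIso e x G he).hom, Category.assoc, Category.assoc, ← key, Iso.inv_hom_id,
      ← Functor.map_comp_assoc, Iso.inv_hom_id, CategoryTheory.Functor.map_id, Category.id_comp, Iso.inv_hom_id]
  refine ⟨⟨n, ?_⟩⟩
  have hn : ((P.act.bc e').bc gen).act ≫ n.hom = _ := (ActBC.equivIsoBcComp gen e' h1 P.act).comm
  rw [AlgGrp.Action.restrict_act, AlgGrp.Action.restrict_act]
  show (_ ▷ _) ≫ (((P.act.bc e').restrict i'.inv).bc gen).act ≫ n.hom = _
  rw [AlgGrp.Action.bc_restrict, AlgGrp.Action.restrict_act, Category.assoc, hn, ← key']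
  simp only [AlgGrp.Action.restrict_act, MonoidalCategory.comp_whiskerRight, Category.assoc,
    ← whisker_exchange_assoc]
  rfl

end Groth.Agent.S18515
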