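import Groth.Statements.S18519
import Groth.Agent.CSALib.Splitting
import Groth.Agent.CSALib.Criterion
import Mathlib.FieldTheory.SeparableClosure

set_option autoImplicit false
universe u
open scoped TensorProduct
open Brauer

namespace Groth.Agent.S18519

section
variable (F' : Type u) [Field F'] {K : Type u} [Field K] [Algebra K F'] [Algebra.IsSeparable K F']
variable (D : Type u) [DivisionRing D] [Algebra F' D] [Algebra.IsCentral F' D] [FiniteDimensional F' D]

theorem exists_model : ∃ (E : IntermediateField K F') (_ : FiniteDimensional K E) (D₀ : Type u) (_ : DivisionRing D₀)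
    (_ : Algebra E D₀) (_ : Algebra.IsCentral E D₀) (_ : FiniteDimensional E D₀), Nonempty (F' ⊗[E] D₀ ≃ₐ[F'] D) := by
  classical
  let b := Module.Free.chooseBasis F' D
  let J := Module.Free.ChooseBasisIndex F' D
  let S : Set F' := (Set.range fun p : J × J × J => b.repr (b p.1 * b p.2.1) p.2.2) ∪ Set.range fun i => b.repr 1 i
  let E := IntermediateField.adjoin K S
  haveI : Finite S := Set.Finite.to_subtype ((Set.finite_range _).union (Set.finite_range _))
  haveI : FiniteDimensional K E :=
    IntermediateField.finiteDimensional_adjoin fun x _ => Algebra.IsIntegral.isIntegral x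
  let W : Submodule E D := Submodule.span E (Set.range b)
  have hmem : ∀ x : D, (∀ i, b.repr x i ∈ E) → x ∈ W := by
    intro x hx
    rw [← b.sum_repr x]
    refine sum_mem fun i _ => ?_
    rw [show b.repr x i • b i = (⟨b.repr x i, hx i⟩ : E) • b i from (IsScalarTower.algebraMap_smul F' (⟨b.repr x i, hx i⟩ : E) (b i))]
    exact W.smul_mem _ (Submodule.subset_span ⟨i, rfl⟩)
  have hrepr : ∀ x ∈ W, ∀ i, b.repr x i ∈ E := by
    intro x hx i
    induction hx using Submodule.span_induction with
    | mem y hy => obtain ⟨j, rfl⟩ := hy; rw [b.repr_self, Finsupp.single_apply]; split_ifs; exacts [E.one_mem, E.zero_mem]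
    | zero => simp
    | add y z _ _ hy hz => rw [map_add]; exact E.add_mem hy hz
    | smul c y _ hy =>
      rw [← IsScalarTower.algebraMap_smul F' c y, map_smul, Finsupp.smul_apply, smul_eq_mul]
      exact E.mul_mem c.2 hy
  have hone : (1 : D) ∈ W := hmem 1 fun i => IntermediateField.subset_adjoin K S (Or.inr ⟨i, rfl⟩)
  have hmul : ∀ x y : D, x ∈ W → y ∈ W → x * y ∈ W := by
    intro x y hx hy
    induction hx using Submodule.span_induction with
    | mem x' hx' =>
      obtain ⟨i, rfl⟩ := hx'
      induction hy using Submodule.span_induction with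
      | mem y' hy' =>
        obtain ⟨j, rfl⟩ := hy'
        exact hmem _ fun l => IntermediateField.subset_adjoin K S (Or.inl ⟨(i, j, l), rfl⟩)
      | zero => simp
      | add p q _ _ hp hq => rw [mul_add]; exact W.add_mem hp hq
      | smul c p _ hp => rw [mul_smul_comm]; exact W.smul_mem c hp
    | zero => simp
    | add p q _ _ hp hq => rw [add_mul]; exact W.add_mem hp hq
    | smul c p _ hp => rw [smul_mul_assoc]; exact W.smul_mem c hp
  let D₀ : Subalgebra E D := W.toSubalgebra hone hmul
  haveI : FiniteDimensional E D₀ := (FiniteDimensional.span_of_finite E (Set.finite_range b) :)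
  letI hdiv : DivisionRing D₀ := divisionRingOfFiniteDimensional E D₀
  let φ : F' ⊗[E] D₀ →ₐ[F'] D := Algebra.TensorProduct.lift (Algebra.ofId F' D) D₀.val fun a z => Algebra.commutes a (z : D)
  have hsurj : Function.Surjective φ := by
    intro x
    refine ⟨∑ i, b.repr x i ⊗ₜ[E] (⟨b i, Submodule.subset_span ⟨i, rfl⟩⟩ : D₀), ?_⟩
    conv_rhs => rw [← b.sum_repr x]
    rw [map_sum]
    refine Finset.sum_congr rfl fun i _ => ?_
    simp [φ, Algebra.smul_def]
  have hinj : Function.Injective φ := by
    have hle : Module.finrank E D₀ ≤ Module.finrank F' D := by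
      rw [Module.finrank_eq_card_basis b]
      exact finrank_range_le_card (R := E) (b : J → D)
    have h1 : Module.finrank F' (F' ⊗[E] D₀) = Module.finrank E D₀ := Module.finrank_baseChange
    have h2 := φ.toLinearMap.finrank_range_add_finrank_ker
    rw [show LinearMap.range φ.toLinearMap = ⊤ from LinearMap.range_eq_top.2 hsurj, finrank_top] at h2
    have h3 : Module.finrank F' (LinearMap.ker φ.toLinearMap) = 0 := by omega
    exact LinearMap.ker_eq_bot.1 (Submodule.finrank_eq_zero.1 h3)
  haveI : Algebra.IsCentral E D₀ := by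
    refine ⟨fun z hz => ?_⟩
    have hc : (z : D) ∈ Subalgebra.center F' D := Subalgebra.mem_center_iff.2 fun x => by
      rw [← b.sum_repr x, Finset.sum_mul, Finset.mul_sum]
      refine Finset.sum_congr rfl fun i _ => ?_
      rw [smul_mul_assoc, mul_smul_comm]
      congr 1
      exact congrArg Subtype.val (Subalgebra.mem_center_iff.1 hz ⟨b i, Submodule.subset_span ⟨i, rfl⟩⟩)
    obtain ⟨c, hc⟩ := (Algebra.IsCentral.mem_center_iff F').1 hc
    obtain ⟨i, hi⟩ : ∃ i, b.repr 1 i ≠ 0 := by
      by_contra h
      push_neg at h
      exact one_ne_zero (α := D) (b.repr.map_eq_zero_iff.1 (Finsupp.ext h))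
    have h1 := hrepr (z : D) z.2 i
    rw [hc, Algebra.algebraMap_eq_smul_one, map_smul, Finsupp.smul_apply, smul_eq_mul] at h1
    have h2 : b.repr 1 i ∈ E := IntermediateField.subset_adjoin K S (Or.inr ⟨i, rfl⟩)
    have hcE : c ∈ E := by
      have := E.div_mem h1 h2
      rwa [mul_div_cancel_right₀ _ hi] at this
    rw [Algebra.mem_bot]
    exact ⟨⟨c, hcE⟩, Subtype.ext hc.symm⟩
  exact ⟨E, inferInstance, D₀, hdiv, inferInstance, inferInstance, inferInstance, ⟨AlgEquiv.ofBijective φ ⟨hinj, hsurj⟩⟩⟩

end

theorem split_of_no_division (F' : Type u) [Field F'] (A : Type u) [Ring A] [Algebra F' A] [Algebra.IsCentral F' A]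
    [IsSimpleRing A] [FiniteDimensional F' A]
    (h : ∀ (D : Type u) [DivisionRing D] [Algebra F' D] [Algebra.IsCentral F' D] [FiniteDimensional F' D], Module.finrank F' D = 1) :
    ∃ n : ℕ, Nonempty (A ≃ₐ[F'] Matrix (Fin n) (Fin n) F') := by
  classical
  haveI : IsArtinianRing A := IsArtinianRing.of_finite F' A
  obtain ⟨n, hn, D, _, _, _, ⟨e⟩⟩ := IsSimpleRing.exists_algEquiv_matrix_divisionRing_finite F' A
  haveI := Algebra.IsCentral.of_algEquiv F' A (Matrix (Fin n) (Fin n) D) e
  haveI : Algebra.IsCentral F' D := ⟨fun z hz => by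
    have hc : Matrix.scalar (Fin n) z ∈ Subalgebra.center F' (Matrix (Fin n) (Fin n) D) := by
      refine Subalgebra.mem_center_iff.2 fun M => ?_
      exact ((Matrix.scalar_commute z (fun r => (Subalgebra.mem_center_iff.1 hz r).symm) M).eq).symm
    obtain ⟨c, hc⟩ := (Algebra.IsCentral.mem_center_iff F').1 hc
    refine Algebra.mem_bot.2 ⟨c, ?_⟩
    have := congrFun (congrFun hc ⟨0, NeZero.pos n⟩) ⟨0, NeZero.pos n⟩
    simpa [Matrix.algebraMap_matrix_apply] using this.symm⟩
  have hb : Function.Bijective (Algebra.ofId F' D) := by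
    refine ⟨(algebraMap F' D).injective, fun x => ?_⟩
    obtain ⟨c, hc⟩ := (finrank_eq_one_iff_of_nonzero' (1 : D) one_ne_zero).1 (h D) x
    exact ⟨c, by rw [← hc, ← Algebra.algebraMap_eq_smul_one]; rfl⟩
  exact ⟨n, ⟨e.trans (AlgEquiv.ofBijective (Algebra.ofId F' D) hb).symm.mapMatrix⟩⟩

/-- For a field K with maximal abelian extension K_ab, cd(K_ab) ≤ 1 if and only if for every etale
K-algebra E the restriction map Br(E) ⟶ Br(E ⊗_K K_ab) is trivial; the same holds with the maximal
solvable extension. Stated here for an arbitrary separable algebraic extension F of K in place of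
K_ab (the published lemma takes for F the maximal abelian or the maximal solvable extension of K;
this row allows any separable algebraic extension), with cd(F) ≤ 1 unfolded by the Brauer-group
criterion (every finite separable extension of F has trivial Brauer group) and with etale algebras
replaced by their field factors: (a) every finite-dimensional central division algebra over a finite
separable extension F′ of F is F′ itself; if and only if (b) for every finite separable extension E
of K, every finite-dimensional central division algebra D over E and every field M containing E and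
F compatibly over K, the base change M ⊗_E D is isomorphic over M to a matrix algebra over M. -/
theorem result
    (K F : Type u) [Field K] [Field F] [Algebra K F] [Algebra.IsSeparable K F] :
    (∀ (F' : Type u) [Field F'] [Algebra F F'] [FiniteDimensional F F'] [Algebra.IsSeparable F F']
        (D : Type u) [DivisionRing D] [Algebra F' D] [Algebra.IsCentral F' D] [FiniteDimensional F' D],
        Module.finrank F' D = 1) ↔
    (∀ (E : Type u) [Field E] [Algebra K E] [FiniteDimensional K E] [Algebra.IsSeparable K E]
        (D : Type u) [DivisionRing D] [Algebra E D] [Algebra.IsCentral E D] [FiniteDimensional E D]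
        (M : Type u) [Field M] [Algebra K M] [Algebra E M] [Algebra F M] [IsScalarTower K E M]
        [IsScalarTower K F M],
        ∃ n : ℕ, Nonempty ((M ⊗[E] D) ≃ₐ[M] Matrix (Fin n) (Fin n) M)) := by
  classical
  constructor
  · intro ha E _ _ _ _ D _ _ _ _ M _ _ _ _ _ _
    let b := Module.Free.chooseBasis K E
    let T : Set M := Set.range fun i => algebraMap E M (b i)
    haveI : Finite T := (Set.finite_range _).to_subtype
    have hsepK : ∀ x : E, IsSeparable K (algebraMap E M x) := fun x =>
      (Algebra.IsSeparable.isSeparable K x).map (f := IsScalarTower.toAlgHom K E M) (algebraMap E M).injective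
    let F' := IntermediateField.adjoin F T
    have hsepF : ∀ x ∈ T, IsSeparable F x := by
      rintro _ ⟨i, rfl⟩
      exact (hsepK (b i)).tower_top F
    haveI : FiniteDimensional F F' := IntermediateField.finiteDimensional_adjoin fun x hx => (hsepF x hx).isIntegral
    haveI : Algebra.IsSeparable F F' := (IntermediateField.isSeparable_adjoin_iff_isSeparable (F := F) (S := T)).2 hsepF
    have hE : ∀ x : E, algebraMap E M x ∈ F' := by
      intro x
      rw [← b.sum_repr x, map_sum]
      refine sum_mem fun i _ => ?_
      rw [Algebra.smul_def, map_mul, ← IsScalarTower.algebraMap_apply, IsScalarTower.algebraMap_apply K F M]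
      exact F'.mul_mem (F'.algebraMap_mem _) (IntermediateField.subset_adjoin F T ⟨i, rfl⟩)
    letI : Algebra E F' := ((algebraMap E M).codRestrict F' hE).toAlgebra
    haveI : IsScalarTower E F' M := IsScalarTower.of_algebraMap_eq fun x => rfl
    haveI := Groth.Agent.CSALib.isCentral_baseChange (k := E) (A := D) F'
    haveI : IsSimpleRing (F' ⊗[E] D) := Groth.Agent.CSALib.isSimpleRing_tensor' D F'
    obtain ⟨n, ⟨e⟩⟩ := split_of_no_division F' (F' ⊗[E] D) (fun D' _ _ _ _ => ha F' D')
    let φ1 : M ⊗[E] D →ₐ[M] M ⊗[F'] (F' ⊗[E] D) := Algebra.TensorProduct.lift (Algebra.ofId M _)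
      (((Algebra.TensorProduct.includeRight : F' ⊗[E] D →ₐ[F'] M ⊗[F'] (F' ⊗[E] D)).restrictScalars E).comp Algebra.TensorProduct.includeRight)
      (fun a d => Algebra.commutes a _)
    have hφ1 : (φ1 : M ⊗[E] D → M ⊗[F'] (F' ⊗[E] D)) = (TensorProduct.AlgebraTensorModule.cancelBaseChange E F' M M D).symm := by
      funext z
      induction z using TensorProduct.induction_on with
      | zero => simp
      | tmul a d => simp [φ1, Algebra.TensorProduct.algebraMap_apply]
      | add x y hx hy => rw [map_add, map_add, hx, hy]
    let e1 : M ⊗[E] D ≃ₐ[M] M ⊗[F'] (F' ⊗[E] D) := AlgEquiv.ofBijective φ1 (hφ1 ▸ LinearEquiv.bijective _)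
    let e2 : M ⊗[F'] Matrix (Fin n) (Fin n) F' ≃ₐ[M] Matrix (Fin n) (Fin n) M :=
      (Groth.Agent.CSALib.matrixBaseChange M F' n).trans (Algebra.TensorProduct.rid F' M M).mapMatrix
    exact ⟨n, ⟨e1.trans ((Algebra.TensorProduct.congr AlgEquiv.refl e).trans e2)⟩⟩
  · intro hb F' _ _ _ _ D _ _ _ _
    letI : Algebra K F' := ((algebraMap F F').comp (algebraMap K F)).toAlgebra
    haveI : IsScalarTower K F F' := IsScalarTower.of_algebraMap_eq fun x => rfl
    haveI : Algebra.IsSeparable K F' := Algebra.IsSeparable.trans K F F'
    obtain ⟨E, _, D₀, _, _, _, _, ⟨φ⟩⟩ := exists_model F' (K := K) D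
    haveI : Algebra.IsSeparable K E := Algebra.isSeparable_tower_bot_of_isSeparable K E F'
    obtain ⟨n, ⟨e⟩⟩ := hb E D₀ F'
    let f : D ≃ₐ[F'] Matrix (Fin n) (Fin n) F' := φ.symm.trans e
    have hn : n = 1 := by
      rcases n with _ | _ | m
      · exact absurd (f.injective (Subsingleton.elim (f 1) (f 0))) one_ne_zero
      · rfl
      · exfalso
        have h0 : f.symm (Matrix.single 0 0 1) * f.symm (Matrix.single 1 1 1) = 0 := by
          rw [← map_mul]; simp
        rcases mul_eq_zero.1 h0 with h | h
        · have h' := congrFun (congrFun ((map_eq_zero_iff _ f.symm.injective).1 h) 0) 0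
          simp at h'
        · have h' := congrFun (congrFun ((map_eq_zero_iff _ f.symm.injective).1 h) 1) 1
          simp at h'
    subst hn
    rw [f.toLinearEquiv.finrank_eq, Module.finrank_matrix]
    simp

end Groth.Agent.S18519
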