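import Groth.Statements.S1852
import Mathlib
import Groth.Agent.SopLenLib.Count

set_option autoImplicit false
universe u
open CycAlg

namespace Groth.Agent.S1852
open CycDet

theorem length_loc_ne_top {R : Type u} [CommRing R] [IsNoetherianRing R] {M : Type u} [AddCommGroup M]
    [Module R M] [Module.Finite R M] (q : PrimeSpectrum R)
    (hmin : ∀ p : PrimeSpectrum R, p ∈ Module.support R M → p ≤ q → p = q) :
    Module.length (Localization.AtPrime q.asIdeal) (LocalizedModule q.asIdeal.primeCompl M) ≠ ⊤ := by
  let L := Localization.AtPrime q.asIdeal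
  haveI : IsNoetherianRing L := IsLocalization.isNoetherianRing q.asIdeal.primeCompl _ inferInstance
  haveI : Module.Finite L (LocalizedModule q.asIdeal.primeCompl M) :=
    Module.Finite.of_isLocalizedModule q.asIdeal.primeCompl (LocalizedModule.mkLinearMap q.asIdeal.primeCompl M)
  refine SopLenLib.length_ne_top_of_annihilator ((Module.annihilator R M).map (algebraMap R L)) ?_ _ ?_
  · rw [Ideal.radical_eq_sInf]
    refine le_sInf fun P ⟨hP, hPp⟩ => ?_
    haveI := hPp
    have hle : P.comap (algebraMap R L) ≤ q.asIdeal := by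
      refine le_trans (Ideal.comap_mono (IsLocalRing.le_maximalIdeal hPp.ne_top)) ?_
      exact Localization.AtPrime.under_maximalIdeal.le
    haveI := Ideal.comap_isPrime (algebraMap R L) P
    have heq := hmin ⟨P.comap (algebraMap R L), Ideal.comap_isPrime _ _⟩
      (Module.mem_support_iff_of_finite.2 (Ideal.map_le_iff_le_comap.1 hP)) hle
    rw [← Localization.AtPrime.map_eq_maximalIdeal, Ideal.map_le_iff_le_comap]
    exact (congrArg PrimeSpectrum.asIdeal heq).ge
  · rw [Ideal.map_le_iff_le_comap]
    intro r hr
    refine Module.mem_annihilator.2 fun z => ?_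
    induction z using LocalizedModule.induction_on with
    | h m s =>
      rw [algebraMap_smul, LocalizedModule.smul'_mk, Module.mem_annihilator.1 hr m, LocalizedModule.zero_mk]

theorem length_residue_eq_one {R : Type u} [CommRing R] (q : PrimeSpectrum R) :
    Module.length (Localization.AtPrime q.asIdeal) (LocalizedModule q.asIdeal.primeCompl (R ⧸ q.asIdeal)) = 1 := by
  refine le_antisymm (SopLenLib.length_residue_le_one q) ?_
  haveI : Nontrivial (LocalizedModule q.asIdeal.primeCompl (R ⧸ q.asIdeal)) :=
    Module.mem_support_iff.1 (Module.mem_support_iff_of_finite.2 (Ideal.annihilator_quotient).le)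
  exact Order.one_le_iff_pos.2 Module.length_pos

theorem length_loc_eq {R : Type u} [CommRing R] (q : PrimeSpectrum R) {N N' : Type u} [AddCommGroup N]
    [Module R N] [AddCommGroup N'] [Module R N'] (e : N ≃ₗ[R] N') :
    Module.length (Localization.AtPrime q.asIdeal) (LocalizedModule q.asIdeal.primeCompl N) =
      Module.length (Localization.AtPrime q.asIdeal) (LocalizedModule q.asIdeal.primeCompl N') :=
  (IsLocalizedModule.mapEquiv q.asIdeal.primeCompl (LocalizedModule.mkLinearMap q.asIdeal.primeCompl N)
    (LocalizedModule.mkLinearMap q.asIdeal.primeCompl N') (Localization.AtPrime q.asIdeal) e).length_eq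

theorem length_loc_add {R : Type u} [CommRing R] (q : PrimeSpectrum R) {A B C : Type u} [AddCommGroup A]
    [Module R A] [AddCommGroup B] [Module R B] [AddCommGroup C] [Module R C] (f : A →ₗ[R] B) (g : B →ₗ[R] C)
    (hf : Function.Injective f) (hg : Function.Surjective g) (hfg : Function.Exact f g) :
    Module.length (Localization.AtPrime q.asIdeal) (LocalizedModule q.asIdeal.primeCompl B) =
      Module.length (Localization.AtPrime q.asIdeal) (LocalizedModule q.asIdeal.primeCompl A) +
      Module.length (Localization.AtPrime q.asIdeal) (LocalizedModule q.asIdeal.primeCompl C) :=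
  Module.length_eq_add_of_exact (LocalizedModule.map q.asIdeal.primeCompl f)
    (LocalizedModule.map q.asIdeal.primeCompl g) (LocalizedModule.map_injective _ f hf)
    (LocalizedModule.map_surjective _ g hg) (LocalizedModule.map_exact _ f g hfg)

theorem length_eq_of_filtration {R : Type u} [CommRing R] [IsLocalRing R] {M : Type u} [AddCommGroup M] [Module R M]
    (q : PrimeSpectrum R) {l : ℕ} (x : Fin l → M) (hx : q ∉ Module.support R (M ⧸ Submodule.span R (Set.range x)))
    (hgr : ∀ i : Fin l, Nonempty ((↥(spanBefore R M x (i + 1)) ⧸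
      (spanBefore R M x i).submoduleOf (spanBefore R M x (i + 1))) ≃ₗ[R] (R ⧸ q.asIdeal))) :
    Module.length (Localization.AtPrime q.asIdeal) (LocalizedModule q.asIdeal.primeCompl M) = (l : ℕ∞) := by
  have key : ∀ i, i ≤ l → Module.length (Localization.AtPrime q.asIdeal)
      (LocalizedModule q.asIdeal.primeCompl (spanBefore R M x i)) = (i : ℕ∞) := by
    intro i
    induction i with
    | zero =>
      intro _
      haveI : Subsingleton (spanBefore R M x 0) := ⟨fun a b => Subtype.ext (by
        have h : spanBefore R M x 0 = ⊥ := by simp [spanBefore]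
        exact ((Submodule.mem_bot R).1 (h.le a.2)).trans ((Submodule.mem_bot R).1 (h.le b.2)).symm)⟩
      haveI : Subsingleton (LocalizedModule q.asIdeal.primeCompl (spanBefore R M x 0)) :=
        LocalizedModule.subsingleton_iff.2 fun z => ⟨1, one_mem _, Subsingleton.elim _ _⟩
      rw [Module.length_eq_zero (M := LocalizedModule q.asIdeal.primeCompl (spanBefore R M x 0))]; rfl
    | succ i ih =>
      intro hi
      have hle : spanBefore R M x i ≤ spanBefore R M x (i + 1) :=
        Submodule.span_mono (Set.image_mono fun j (hj : (j : ℕ) < i) => Nat.lt_succ_of_lt hj)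
      obtain ⟨e⟩ := hgr ⟨i, hi⟩
      rw [length_loc_add q ((spanBefore R M x i).submoduleOf (spanBefore R M x (i + 1))).subtype
        ((spanBefore R M x i).submoduleOf (spanBefore R M x (i + 1))).mkQ (Submodule.subtype_injective _)
        (Submodule.mkQ_surjective _) (LinearMap.exact_subtype_mkQ _),
        length_loc_eq q (Submodule.submoduleOfEquivOfLe hle), ih (by omega), length_loc_eq q e,
        length_residue_eq_one]
      push_cast
      rfl
  have hall : spanBefore R M x l = Submodule.span R (Set.range x) := by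
    rw [spanBefore, ← Set.image_univ]
    congr 2
    ext j
    simp
  rw [length_loc_add q (Submodule.span R (Set.range x)).subtype (Submodule.span R (Set.range x)).mkQ
    (Submodule.subtype_injective _) (Submodule.mkQ_surjective _) (LinearMap.exact_subtype_mkQ _)]
  haveI : Subsingleton (LocalizedModule q.asIdeal.primeCompl (M ⧸ Submodule.span R (Set.range x))) :=
    Module.notMem_support_iff.1 hx
  rw [Module.length_eq_zero (M := LocalizedModule q.asIdeal.primeCompl (M ⧸ Submodule.span R (Set.range x))),
    add_zero, length_loc_eq q (LinearEquiv.ofEq _ _ hall.symm), key l le_rfl]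

theorem map_spanBefore {R : Type u} [CommRing R] {M M' : Type u} [AddCommGroup M] [Module R M]
    [IsLocalRing R] [AddCommGroup M'] [Module R M'] (π : M →ₗ[R] M') {n : ℕ} (x : Fin (n + 1) → M)
    (y : Fin n → M') (h0 : π (x 0) = 0) (hs : ∀ j : Fin n, π (x j.succ) = y j) (i : ℕ) :
    (spanBefore R M x (i + 1)).map π = spanBefore R M' y i := by
  rw [spanBefore, spanBefore, Submodule.map_span]
  refine le_antisymm (Submodule.span_le.2 ?_) (Submodule.span_mono ?_)
  · rintro _ ⟨_, ⟨j, hj, rfl⟩, rfl⟩
    refine Fin.cases ?_ (fun k => ?_) j hj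
    · intro _; rw [h0]; exact zero_mem _
    · intro hk
      rw [hs]
      exact Submodule.subset_span ⟨k, by simpa [Set.mem_setOf_eq] using hk, rfl⟩
  · rintro _ ⟨k, hk, rfl⟩
    exact ⟨x k.succ, ⟨k.succ, by simpa [Set.mem_setOf_eq] using hk, rfl⟩, hs k⟩

theorem exists_quot_equiv {R : Type u} [CommRing R] {M M' : Type u} [AddCommGroup M] [Module R M]
    [AddCommGroup M'] [Module R M'] (π : M →ₗ[R] M') (X Y : Submodule R M) (hk : LinearMap.ker π ≤ X)
    (X' Y' : Submodule R M') (hX : X.map π = X') (hY : Y.map π = Y') :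
    Nonempty ((Y ⧸ X.submoduleOf Y) ≃ₗ[R] Y' ⧸ X'.submoduleOf Y') := by
  let f : Y →ₗ[R] Y' ⧸ X'.submoduleOf Y' := (X'.submoduleOf Y').mkQ ∘ₗ
    π.restrict (fun z hz => hY ▸ Submodule.mem_map_of_mem hz)
  have hf : Function.Surjective f := fun w => by
    obtain ⟨⟨w, hw⟩, rfl⟩ := Submodule.Quotient.mk_surjective _ w
    obtain ⟨z, hz, hzw⟩ := (hY ▸ hw : w ∈ Y.map π)
    subst hzw
    exact ⟨⟨z, hz⟩, rfl⟩
  have hker : LinearMap.ker f = X.submoduleOf Y := by
    ext ⟨z, hz⟩
    simp only [f, LinearMap.mem_ker, LinearMap.comp_apply, Submodule.mkQ_apply, Submodule.Quotient.mk_eq_zero]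
    show π z ∈ X' ↔ z ∈ X
    rw [← hX, Submodule.mem_map]
    constructor
    · rintro ⟨w, hw, hwz⟩
      have : z - w ∈ X := hk (by rw [LinearMap.mem_ker, map_sub, hwz, sub_self])
      simpa using add_mem this hw
    · exact fun h => ⟨z, h, rfl⟩
  exact ⟨(Submodule.quotEquivOfEq _ _ hker.symm).trans (f.quotKerEquivOfSurjective hf)⟩

theorem exists_filtration {R : Type u} [CommRing R] [IsNoetherianRing R] [IsLocalRing R] (q : PrimeSpectrum R)
    (n : ℕ) : ∀ (M : Type u) [AddCommGroup M] [Module R M] [Module.Finite R M],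
      (∀ p : PrimeSpectrum R, p ∈ Module.support R M → p ≤ q → p = q) →
      Module.length (Localization.AtPrime q.asIdeal) (LocalizedModule q.asIdeal.primeCompl M) = (n : ℕ∞) →
      ∃ x : Fin n → M, q ∉ Module.support R (M ⧸ Submodule.span R (Set.range x)) ∧
        ∀ i : Fin n, Nonempty ((↥(spanBefore R M x (i + 1)) ⧸
          (spanBefore R M x i).submoduleOf (spanBefore R M x (i + 1))) ≃ₗ[R] (R ⧸ q.asIdeal)) := by
  induction n with
  | zero =>
    intro M _ _ _ _ hlen
    refine ⟨Fin.elim0, ?_, fun i => i.elim0⟩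
    have hsub : q ∉ Module.support R M := Module.notMem_support_iff.2 (Module.length_eq_zero_iff.1 hlen)
    exact fun h => hsub (Module.support_subset_of_surjective _ (Submodule.mkQ_surjective _) h)
  | succ n ih =>
    intro M _ _ _ hmin hlen
    have hqs : q ∈ Module.support R M := by
      by_contra h
      haveI := Module.notMem_support_iff.1 h
      rw [Module.length_eq_zero] at hlen
      exact absurd hlen.symm (by norm_cast)
    have hass : q.asIdeal ∈ associatedPrimes R M := by
      refine Module.associatedPrimes.minimalPrimes_annihilator_subset_associatedPrimes R M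
        ⟨⟨q.isPrime, Module.mem_support_iff_of_finite.1 hqs⟩, fun P hP hle => ?_⟩
      exact (congrArg PrimeSpectrum.asIdeal (hmin ⟨P, hP.1⟩ (Module.mem_support_iff_of_finite.2 hP.2) hle)).ge
    obtain ⟨-, f, hf⟩ := (isAssociatedPrime_iff_exists_injective_linearMap q.asIdeal M).1 hass
    let x₁ : M := f (Submodule.Quotient.mk (1 : R))
    let N : Submodule R M := Submodule.span R {x₁}
    have hN : LinearMap.range f = N := by
      refine le_antisymm ?_ ((Submodule.span_singleton_le_iff_mem _ _).2 ⟨_, rfl⟩)
      rintro _ ⟨z, rfl⟩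
      obtain ⟨c, rfl⟩ := Submodule.Quotient.mk_surjective _ z
      refine Submodule.mem_span_singleton.2 ⟨c, ?_⟩
      rw [← map_smul, ← Submodule.Quotient.mk_smul, smul_eq_mul, mul_one]
    let eN : (R ⧸ q.asIdeal) ≃ₗ[R] N := (LinearEquiv.ofInjective f hf).trans (LinearEquiv.ofEq _ _ hN)
    have hadd := length_loc_add q N.subtype N.mkQ (Submodule.subtype_injective _) (Submodule.mkQ_surjective _)
      (LinearMap.exact_subtype_mkQ N)
    rw [← length_loc_eq q eN, length_residue_eq_one, hlen, Nat.cast_add, Nat.cast_one, add_comm] at hadd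
    have hlen' : Module.length (Localization.AtPrime q.asIdeal) (LocalizedModule q.asIdeal.primeCompl (M ⧸ N)) =
        (n : ℕ∞) := by
      apply (WithTop.add_left_inj ENat.one_ne_top).1
      first
        | exact hadd.symm
        | exact (hadd.symm.trans (add_comm _ _))
        | exact ((add_comm _ _).trans hadd.symm)
    obtain ⟨y, hy, hygr⟩ := ih (M ⧸ N)
      (fun p hp => hmin p (Module.support_subset_of_surjective _ N.mkQ_surjective hp)) hlen'
    choose z hz using fun j => N.mkQ_surjective (y j)
    let x : Fin (n + 1) → M := Fin.cons x₁ z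
    have h0 : N.mkQ (x 0) = 0 := (Submodule.Quotient.mk_eq_zero N).2 (Submodule.mem_span_singleton_self x₁)
    have hs : ∀ j : Fin n, N.mkQ (x j.succ) = y j := fun j => by simp [x, hz]
    have hNle : ∀ i, N ≤ spanBefore R M x (i + 1) := fun i => (Submodule.span_singleton_le_iff_mem _ _).2
      (Submodule.subset_span ⟨0, Nat.succ_pos i, rfl⟩)
    refine ⟨x, ?_, fun i => ?_⟩
    · have hxall : (Submodule.span R (Set.range x)).map N.mkQ = Submodule.span R (Set.range y) := by
        rw [Submodule.map_span, Fin.range_cons, Set.image_insert_eq, ← Set.range_comp,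
          show (N.mkQ : M → M ⧸ N) x₁ = 0 from h0, Submodule.span_insert_zero]
        congr 2
        exact funext hz
      have hle : N ≤ Submodule.span R (Set.range x) :=
        (Submodule.span_singleton_le_iff_mem _ _).2 (Submodule.subset_span ⟨0, rfl⟩)
      exact fun h => hy (by
        rw [← hxall, Module.mem_support_iff] at *
        exact (IsLocalizedModule.mapEquiv q.asIdeal.primeCompl (LocalizedModule.mkLinearMap q.asIdeal.primeCompl _)
          (LocalizedModule.mkLinearMap q.asIdeal.primeCompl _) (Localization.AtPrime q.asIdeal)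
          (Submodule.quotientQuotientEquivQuotient N _ hle)).toEquiv.nontrivial)
    · refine Fin.cases ?_ (fun k => ?_) i
      · have h1 : spanBefore R M x ((0 : Fin (n + 1)) : ℕ) = ⊥ := by simp [spanBefore]
        have h2 : spanBefore R M x (((0 : Fin (n + 1)) : ℕ) + 1) = N := by
          refine le_antisymm (Submodule.span_le.2 ?_) (hNle 0)
          rintro _ ⟨j, hj, rfl⟩
          have : j = 0 := Fin.ext (by simpa using hj)
          subst this
          exact Submodule.mem_span_singleton_self x₁
        refine ⟨(Submodule.quotEquivOfEqBot _ ?_).trans ((LinearEquiv.ofEq _ _ h2).trans eN.symm)⟩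
        rw [h1]
        exact LinearMap.ker_eq_bot.2 (Submodule.subtype_injective _)
      · obtain ⟨e⟩ := hygr k
        obtain ⟨e'⟩ := exists_quot_equiv N.mkQ (spanBefore R M x ((k : ℕ) + 1)) (spanBefore R M x ((k : ℕ) + 1 + 1))
          (by rw [Submodule.ker_mkQ]; exact hNle k) _ _ (map_spanBefore N.mkQ x y h0 hs k)
          (map_spanBefore N.mkQ x y h0 hs (k + 1))
        exact ⟨e'.trans e⟩


/-- Let R be a Noetherian local ring, M a finite R-module and 𝔮 a minimal prime of the support of M.
There are x₁, …, x_l in M such that 𝔮 is not in the support of M/⟨x₁, …, x_l⟩ and each ⟨x₁, …,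
x_i⟩/⟨x₁, …, x_{i−1}⟩ is isomorphic to R/𝔮; and for any such sequence l equals the length of M_𝔮
over R_𝔮. -/
theorem result (R : Type u) [CommRing R] [IsNoetherianRing R] [IsLocalRing R] (M : Type u) [AddCommGroup M] [Module R M] [Module.Finite R M] (q : PrimeSpectrum R) (hq : Minimal (fun p : PrimeSpectrum R => p ∈ Module.support R M) q) : (∃ (l : ℕ) (x : Fin l → M), q ∉ Module.support R (M ⧸ Submodule.span R (Set.range x)) ∧ ∀ i : Fin l, Nonempty ((↥(CycDet.spanBefore R M x (i + 1)) ⧸ (CycDet.spanBefore R M x i).submoduleOf (CycDet.spanBefore R M x (i + 1))) ≃ₗ[R] (R ⧸ q.asIdeal))) ∧ ∀ (l : ℕ) (x : Fin l → M), q ∉ Module.support R (M ⧸ Submodule.span R (Set.range x)) → (∀ i : Fin l, Nonempty ((↥(CycDet.spanBefore R M x (i + 1)) ⧸ (CycDet.spanBefore R M x i).submoduleOf (CycDet.spanBefore R M x (i + 1))) ≃ₗ[R] (R ⧸ q.asIdeal))) → (l : ℕ∞) = Module.length (Localization.AtPrime q.asIdeal) (LocalizedModule q.asIdeal.primeCompl M) := by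
  obtain ⟨hqs, hqmin⟩ := hq
  have hmin : ∀ p : PrimeSpectrum R, p ∈ Module.support R M → p ≤ q → p = q := fun p hp hle =>
    le_antisymm hle (hqmin hp hle)
  refine ⟨?_, fun l x hx hgr => (length_eq_of_filtration q x hx hgr).symm⟩
  have hfin : Module.length (Localization.AtPrime q.asIdeal) (LocalizedModule q.asIdeal.primeCompl M) ≠ ⊤ :=
    length_loc_ne_top q hmin
  obtain ⟨n, hn⟩ := ENat.ne_top_iff_exists.1 hfin
  obtain ⟨x, hx, hgr⟩ := exists_filtration q n M hmin hn.symm
  exact ⟨n, x, hx, hgr⟩

end Groth.Agent.S1852
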