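import Groth.Statements.S18524
import Groth.Agent.ParHilbLib.Basic

set_option autoImplicit false
universe u
open CategoryTheory CategoryTheory.Limits AlgebraicGeometry
open ParSh

namespace Groth.Agent.S18524

open CategoryTheory CategoryTheory.Limits AlgebraicGeometry

set_option backward.isDefEq.respectTransparency false
set_option backward.defeqAttrib.useBackward true
set_option linter.style.haveILetI false

open Groth.Agent

theorem chi_piece (k : Type u) [Field k] {X : Scheme.{u}} [X.Over (Spec (CommRingCat.of k))]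
    [IsProper (X ↘ Spec (CommRingCat.of k))] {L : X.Modules} (hL : CohB1.IsAmple L) {F E G : X.Modules}
    (hF : Coh.IsCoh F) (hE : Coh.IsCoh E) (hG : Coh.IsCoh G) (i : F ⟶ E) (p : E ⟶ G) (w : i ≫ p = 0)
    (hs : (ShortComplex.mk i p w).ShortExact) (S : Subobject E) (hS : Coh.IsCoh (S : X.Modules)) (m : ℕ) :
    (Curv2.euler k X (ShStab.twist X L ((Subobject.pullback i).obj S : X.Modules) m) : ℝ) +
        (Curv2.euler k X (ShStab.twist X L (imageSubobject (S.arrow ≫ p) : X.Modules) m) : ℝ) =
      (Curv2.euler k X (ShStab.twist X L (S : X.Modules) m) : ℝ) := by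
  haveI := EulerIneqLib.isNoetherian_proper (X := X) k
  haveI : Mono i := hs.mono_f
  have sq := Subobject.isPullback i S
  haveI : Mono (Subobject.pullbackπ i S) :=
    MorphismProperty.of_isPullback (P := MorphismProperty.monomorphisms _) sq.flip ‹Mono i›
  have w' : Subobject.pullbackπ i S ≫ factorThruImageSubobject (S.arrow ≫ p) = 0 := by
    rw [← cancel_mono (imageSubobject (S.arrow ≫ p)).arrow, Category.assoc, imageSubobject_arrow_comp, zero_comp,
      ← Category.assoc, sq.w, Category.assoc, w, comp_zero]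
  let hk : IsLimit (KernelFork.ofι (Subobject.pullbackπ i S) w') :=
    KernelFork.IsLimit.ofι' _ _ fun {Z} z hz => by
      have h1 : (z ≫ S.arrow) ≫ p = 0 := by
        rw [Category.assoc, ← imageSubobject_arrow_comp (S.arrow ≫ p), ← Category.assoc, hz, zero_comp]
      exact ⟨sq.lift z (hs.exact.lift (z ≫ S.arrow) h1) (hs.exact.lift_f _ _).symm, sq.lift_fst _ _ _⟩
  have hT : (ShortComplex.mk (Subobject.pullbackπ i S) (factorThruImageSubobject (S.arrow ≫ p)) w').ShortExact :=
    ShortComplex.ShortExact.mk' (ShortComplex.exact_of_f_is_kernel _ hk) inferInstance inferInstance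
  have hI : Coh.IsCoh (imageSubobject (S.arrow ≫ p) : X.Modules) :=
    ShStabLib.isCoh_of_iso ((Abelian.imageIsoImage (S.arrow ≫ p)) ≪≫ (imageSubobjectIso (S.arrow ≫ p)).symm)
      (ShStabLib.isCoh_image' _ hS hG)
  have hK : Coh.IsCoh ((Subobject.pullback i).obj S : X.Modules) :=
    ShStabLib.isCoh_of_iso ((kernelIsKernel (factorThruImageSubobject (S.arrow ≫ p))).conePointUniqueUpToIso hk)
      (QCohLib.isCoh_kernel_cokernel _ hS hI).1
  have h := HilbLib.chi_shortExact k hL.1 hT hK hS hI m
  have h' : (Curv2.euler k X (ShStab.twist X L (S : X.Modules) m) : ℚ) =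
      Curv2.euler k X (ShStab.twist X L ((Subobject.pullback i).obj S : X.Modules) m) +
        Curv2.euler k X (ShStab.twist X L (imageSubobject (S.arrow ≫ p) : X.Modules) m) := h
  have h2 := congrArg (fun q : ℚ => (q : ℝ)) h'
  push_cast at h2
  exact h2.symm


/-- Let X be a scheme proper over a field k with an ample invertible sheaf L, and 0 → F → E → G → 0 a
short exact sequence of coherent O_X-modules. Let 𝓔 be a finite weighted filtration of E by coherent
sub-modules E = E₀ ⊇ E₁ ⊇ ⋯ ⊇ E_l ⊇ B with B coherent and weights 0 ≤ w₀ < ⋯ < w_l < 1, and give F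
the filtration pulled back along F → E and G the image filtration along E → G, so that the sequence
is a parabolic extension. Then for every natural number m the parabolic Hilbert functions are
additive: par-χ(F, m) + par-χ(G, m) = par-χ(E, m), where par-χ(E, m) = χ(B ⊗ L^m) + Σ_j w_j (χ(E_j ⊗
L^m) − χ(E_{j+1} ⊗ L^m)) with E_{l+1} = B. The published statement is for parabolic sheaves along
effective Cartier divisors D on a projective scheme over an algebraically closed field, with B =
E(−D) and the functions averaged over several divisors; the identity holds for each weighted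
filtration separately, over any field and for any coherent bottom piece. -/
theorem result (k : Type u) [Field k] (X : Scheme.{u})
    [X.Over (Spec (CommRingCat.of k))] [IsProper (X ↘ Spec (CommRingCat.of k))]
    (L : X.Modules) (hL : CohB1.IsAmple L) {F E G : X.Modules}
    (hF : Coh.IsCoh F) (hE : Coh.IsCoh E) (hG : Coh.IsCoh G)
    (i : F ⟶ E) (p : E ⟶ G) [Epi p] (𝓕 : ParSh.Str F) (𝓔 : ParSh.Str E) (𝓖 : ParSh.Str G)
    (hext : ParSh.IsParExt i p 𝓕 𝓔 𝓖)
    (hcoh : ∀ j, Coh.IsCoh ((𝓔.piece j : Subobject E) : X.Modules))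
    (hbot : Coh.IsCoh ((𝓔.bot : Subobject E) : X.Modules)) (m : ℕ) :
    𝓕.parHilb k X L m + 𝓖.parHilb k X L m = 𝓔.parHilb k X L m := by
  obtain ⟨w, hs, rfl, rfl⟩ := hext
  have hb := chi_piece k hL hF hE hG i p w hs 𝓔.bot hbot m
  have hp := fun j => chi_piece k hL hF hE hG i p w hs (𝓔.piece j) (hcoh j) m
  have hX : ∀ j : Fin (𝓔.l + 2), (Curv2.euler k X (ShStab.twist X L ((𝓔.induced i).pieceX j : X.Modules) m) : ℝ) +
      (Curv2.euler k X (ShStab.twist X L ((𝓔.coinduced p).pieceX j : X.Modules) m) : ℝ) =
      (Curv2.euler k X (ShStab.twist X L (𝓔.pieceX j : X.Modules) m) : ℝ) := by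
    intro j
    let χF := fun S : Subobject F => (Curv2.euler k X (ShStab.twist X L (S : X.Modules) m) : ℝ)
    let χE := fun S : Subobject E => (Curv2.euler k X (ShStab.twist X L (S : X.Modules) m) : ℝ)
    let χG := fun S : Subobject G => (Curv2.euler k X (ShStab.twist X L (S : X.Modules) m) : ℝ)
    induction j using Fin.lastCases with
    | last =>
      exact ((congrArg₂ (fun a b => χF a + χG b) (𝓔.induced i).pieceX_last (𝓔.coinduced p).pieceX_last).trans
        hb).trans (congrArg χE 𝓔.pieceX_last.symm)
    | cast j =>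
      exact ((congrArg₂ (fun a b => χF a + χG b) ((𝓔.induced i).pieceX_castSucc j) ((𝓔.coinduced p).pieceX_castSucc j)).trans
        (hp j)).trans (congrArg χE (𝓔.pieceX_castSucc j).symm)
  simp only [ParSh.Str.parHilb, ParSh.Str.parSum]
  rw [add_add_add_comm]
  refine congrArg₂ (· + ·) hb ?_
  show ∑ j : Fin (𝓔.l + 1), _ + ∑ j : Fin (𝓔.l + 1), _ = _
  rw [← Finset.sum_add_distrib]
  refine Finset.sum_congr rfl fun j _ => ?_
  show 𝓔.wt j * _ + 𝓔.wt j * _ = _
  rw [← mul_add, sub_add_sub_comm]
  exact congrArg _ (congrArg₂ (· - ·) (hp j) (hX j.succ))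


end Groth.Agent.S18524
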