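import Groth.Statements.S18526
import Groth.Agent.ShStabLib.Core

set_option autoImplicit false
universe u
open CategoryTheory CategoryTheory.Limits AlgebraicGeometry Polynomial
open ParSh

namespace Groth.Agent.S18526

open CategoryTheory CategoryTheory.Limits AlgebraicGeometry

open Groth.Agent
set_option backward.isDefEq.respectTransparency false

/-- Let X be a scheme proper over a field k with an ample invertible sheaf L, and E a coherent
O_X-module with a finite weighted filtration 𝓔 by coherent sub-modules E = E₀ ⊇ E₁ ⊇ ⋯ ⊇ E_l ⊇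
E_{l+1} = B, B coherent, with weights 0 ≤ w₀ < ⋯ < w_l < 1 and w_{l+1} := 1. Let P be the Hilbert
polynomial of E with respect to L and, for 1 ≤ j ≤ l+1, H_j the Hilbert polynomial of the quotient
E/E_j. Then for every natural number m the parabolic Hilbert function χ(B(m)) + Σ_{j ≤ l} w_j
(χ(E_j(m)) − χ(E_{j+1}(m))) equals P(m) − Σ_{j=1}^{l+1} (w_j − w_{j−1}) H_j(m). The published
statement is for a parabolic sheaf along effective Cartier divisors on a projective scheme over an
algebraically closed field (B = E(−D)), averaged over several divisors; the identity holds for each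
weighted filtration separately. -/
theorem result (k : Type u) [Field k] (X : Scheme.{u})
    [X.Over (Spec (CommRingCat.of k))] [IsProper (X ↘ Spec (CommRingCat.of k))]
    (L : X.Modules) (hL : CohB1.IsAmple L) (E : X.Modules) (hE : Coh.IsCoh E) (𝓔 : ParSh.Str E)
    (hcoh : ∀ j, Coh.IsCoh ((𝓔.pieceX j : Subobject E) : X.Modules))
    (P : ℚ[X]) (hP : ShStab.IsHilbPoly k X L E P) (H : Fin (𝓔.l + 2) → ℚ[X])
    (hH : ∀ j, ShStab.IsHilbPoly k X L (cokernel (𝓔.pieceX j).arrow) (H j)) (m : ℕ) :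
    𝓔.parHilb k X L m =
      ((P.eval (m : ℚ) : ℚ) : ℝ) -
        ∑ j : Fin (𝓔.l + 1), (𝓔.wtX j.succ - 𝓔.wtX j.castSucc) * (((H j.succ).eval (m : ℚ) : ℚ) : ℝ) := by
  haveI := EulerIneqLib.isNoetherian_proper (X := X) k
  let χ : X.Modules → ℝ := fun G => (Curv2.euler k X (ShStab.twist X L G m) : ℝ)
  let h : Fin (𝓔.l + 2) → ℝ := fun j => (((H j).eval (m : ℚ) : ℚ) : ℝ)
  let p : ℝ := ((P.eval (m : ℚ) : ℚ) : ℝ)
  have key : ∀ j, χ ((𝓔.pieceX j : Subobject E) : X.Modules) = p - h j := fun j => by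
    have hc := (HilbLib.chi_shortExact k hL.1 (DevLib.cokerSeq_shortExact (𝓔.pieceX j).arrow) (hcoh j) hE
      (QCohLib.isCoh_kernel_cokernel _ (hcoh j) hE).2 m)
    have h1 : (Curv2.euler k X (ShStab.twist X L E m) : ℚ) = P.eval (m : ℚ) := hP m
    have h2 : (Curv2.euler k X (ShStab.twist X L (cokernel (𝓔.pieceX j).arrow) m) : ℚ) = (H j).eval (m : ℚ) := hH j m
    have h3 : (Curv2.euler k X (ShStab.twist X L E m) : ℚ) =
        Curv2.euler k X (ShStab.twist X L (𝓔.pieceX j : X.Modules) m) +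
          Curv2.euler k X (ShStab.twist X L (cokernel (𝓔.pieceX j).arrow) m) := hc
    simp only [χ, p, h]
    rw [← h1, ← h2, h3]
    push_cast
    ring
  have h0 : h 0 = 0 := by
    have e : χ ((𝓔.pieceX 0 : Subobject E) : X.Modules) = p := by
      have : IsIso (𝓔.pieceX 0).arrow := by
        have : 𝓔.pieceX 0 = ⊤ := (𝓔.pieceX_castSucc 0).trans 𝓔.piece_zero
        exact (Subobject.isIso_arrow_iff_eq_top _).2 this
      have h1 := HilbLib.chi_iso k (L := L) (asIso (𝓔.pieceX 0).arrow) m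
      have h2 : (Curv2.euler k X (ShStab.twist X L (𝓔.pieceX 0 : X.Modules) m) : ℚ) = P.eval (m : ℚ) := h1.trans (hP m)
      simp only [χ, p]
      rw [← h2]
      push_cast
      rfl
    linarith [key 0]
  have tele : ∀ {n : ℕ} (F : Fin (n + 1) → ℝ), ∑ j : Fin n, (F j.succ - F j.castSucc) = F (Fin.last n) - F 0 :=
    fun {n} F => by
      rw [Finset.sum_sub_distrib]
      linarith [Fin.sum_univ_succ F, Fin.sum_univ_castSucc F]
  have hb := key (Fin.last _)
  rw [ParSh.Str.pieceX_last] at hb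
  show χ (𝓔.bot : X.Modules) + ∑ j : Fin (𝓔.l + 1), 𝓔.wt j * (χ (𝓔.piece j : X.Modules) - χ (𝓔.pieceX j.succ : X.Modules)) =
    p - ∑ j : Fin (𝓔.l + 1), (𝓔.wtX j.succ - 𝓔.wtX j.castSucc) * h j.succ
  have t := tele fun j => 𝓔.wtX j * h j
  simp only [h0, mul_zero, sub_zero, ParSh.Str.wtX_last, one_mul] at t
  rw [hb, ← t, sub_add_eq_add_sub, add_sub_assoc, sub_eq_add_neg p, add_right_inj, ← Finset.sum_sub_distrib,
    ← Finset.sum_neg_distrib]
  refine Finset.sum_congr rfl fun j _ => ?_
  rw [← ParSh.Str.pieceX_castSucc, key, key, ParSh.Str.wtX_castSucc]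
  ring


end Groth.Agent.S18526
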