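import Groth.Statements.S18527
import Groth.Agent.ParHilbLib.Basic

set_option autoImplicit false
universe u
open CategoryTheory CategoryTheory.Limits AlgebraicGeometry Polynomial
open ParSh

namespace Groth.Agent.S18527

open CategoryTheory CategoryTheory.Limits AlgebraicGeometry

set_option backward.isDefEq.respectTransparency false
set_option backward.defeqAttrib.useBackward true
set_option linter.style.haveILetI false

open Groth.Agent Polynomial Filter Topology

/-- An upper and a lower bound for the second coefficient of the parabolic Hilbert polynomial. Let X be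
a scheme proper over a field k with an ample invertible sheaf L, I the ideal of an effective Cartier
divisor D on X, and E a coherent O_X-module with a finite weighted filtration 𝓔 along I by coherent
pieces E = E₀ ⊇ ⋯ ⊇ E_l ⊇ E_{l+1} = I·E, weights 0 ≤ w₀ < ⋯ < w_l < 1. Let d ≥ 1 be a natural number
with Supp E ∩ Supp D of topological Krull dimension less than d, P the Hilbert polynomial of E with
respect to L and P_j that of E_j (0 ≤ j ≤ l+1). Then the coefficient of degree d − 1 of the
parabolic Hilbert polynomial P_{l+1} + Σ_{j ≤ l} w_j (P_j − P_{j+1}) is at least the coefficient of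
degree d − 1 of P_{l+1} and at most that of P. For E pure of dimension d this says that the
parabolic slope lies between the slope of E(−D) and the slope of E; the published statement also
gives a lower bound μ(E) − b with b depending only on a bound for the multiplicity of E, on d, D and
L, which is not part of this row. -/
theorem result (k : Type u) [Field k] (X : Scheme.{u})
    [X.Over (Spec (CommRingCat.of k))] [IsProper (X ↘ Spec (CommRingCat.of k))]
    (L : X.Modules) (hL : CohB1.IsAmple L) (I : X.IdealSheafData) (hD : FGA.IsEffCartier I)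
    (E : X.Modules) (hE : Coh.IsCoh E) (𝓔 : ParSh.Str E) (h𝓔 : 𝓔.Along I)
    (hcoh : ∀ j, Coh.IsCoh ((𝓔.pieceX j : Subobject E) : X.Modules)) (d : ℕ) (hd : 1 ≤ d)
    (hsupp : topologicalKrullDim ↥(CohB1.support E ∩ (I.support : Set X)) < (d : WithBot ℕ∞))
    (P : ℚ[X]) (hP : ShStab.IsHilbPoly k X L E P) (PX : Fin (𝓔.l + 2) → ℚ[X])
    (hPX : ∀ j, ShStab.IsHilbPoly k X L ((𝓔.pieceX j : Subobject E) : X.Modules) (PX j)) :
    (W4swparbununimod.rpoly (PX (Fin.last (𝓔.l + 1)))).coeff (d - 1) ≤ (W4swparbununimod.parPoly 𝓔 PX).coeff (d - 1) ∧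
      (W4swparbununimod.parPoly 𝓔 PX).coeff (d - 1) ≤ (W4swparbununimod.rpoly P).coeff (d - 1) := by
  haveI := EulerIneqLib.isNoetherian_proper (X := X) k
  have hsmall := ParHilbLib.small_of_along I 𝓔 h𝓔 hsupp
  obtain ⟨H, hH⟩ := ParHilbLib.exists_quots k hL hE 𝓔 hcoh d hsmall hP PX hPX
  set n := d - 1 with hn
  have t := ParHilbLib.sum_telescope fun j => ((H j).coeff n : ℝ)
  simp only [hH.zero, coeff_zero, Rat.cast_zero, sub_zero] at t
  have key : (W4swparbununimod.parPoly 𝓔 PX).coeff n =
      ((P - H (Fin.last _)).coeff n : ℝ) +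
        ∑ j : Fin (𝓔.l + 1), 𝓔.wt j * (((H j.succ).coeff n : ℝ) - (H j.castSucc).coeff n) := by
    simp only [W4swparbununimod.parPoly, W4swparbununimod.rpoly, coeff_add, finsetSum_coeff, coeff_C_mul, coeff_sub,
      coeff_map, hH.eq, map_sub, eq_ratCast]
    push_cast
    rw [add_right_inj]
    exact Finset.sum_congr rfl fun j _ => by ring
  have h0 : ∀ j : Fin (𝓔.l + 1), (0 : ℝ) ≤ ((H j.succ).coeff n : ℝ) - (H j.castSucc).coeff n := fun j =>
    sub_nonneg.2 (by exact_mod_cast hH.mono j)
  rw [key]
  simp only [W4swparbununimod.rpoly, coeff_map, eq_ratCast, hH.eq, coeff_sub, Rat.cast_sub]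
  constructor
  · refine le_add_of_nonneg_right (Finset.sum_nonneg fun j _ => mul_nonneg ?_ (h0 j))
    exact 𝓔.wt_nonneg.trans (𝓔.wt_strictMono.monotone (Fin.zero_le j))
  · have : ∑ j : Fin (𝓔.l + 1), 𝓔.wt j * (((H j.succ).coeff n : ℝ) - (H j.castSucc).coeff n) ≤
        ∑ j : Fin (𝓔.l + 1), (((H j.succ).coeff n : ℝ) - (H j.castSucc).coeff n) :=
      Finset.sum_le_sum fun j _ => mul_le_of_le_one_left (h0 j)
        ((𝓔.wt_strictMono.monotone (Fin.le_last j)).trans 𝓔.wt_lt_one.le)
    linarith


end Groth.Agent.S18527
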