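import Groth.Statements.S18528
import Groth.Agent.ParHilbLib.Basic

set_option autoImplicit false
universe u
open CategoryTheory CategoryTheory.Limits AlgebraicGeometry Polynomial
open ParSh

namespace Groth.Agent.S18528

open CategoryTheory CategoryTheory.Limits AlgebraicGeometry

set_option backward.isDefEq.respectTransparency false
set_option backward.defeqAttrib.useBackward true
set_option linter.style.haveILetI false

open Groth.Agent Polynomial Filter Topology

/-- Reduced parabolic Hilbert polynomials versus parabolic slopes, for one test subsheaf. Let X be a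
scheme proper over a field k with an ample invertible sheaf L, I the ideal of an effective Cartier
divisor D on X, and E a nonzero coherent O_X-module, pure of dimension d ≥ 1, with Supp E ∩ Supp D
of topological Krull dimension less than d, carrying a finite weighted filtration 𝓔 along I by
coherent pieces E = E₀ ⊇ ⋯ ⊇ E_{l+1} = I·E with weights 0 ≤ w₀ < ⋯ < w_l < 1. Let P be the Hilbert
polynomial of E and P_j that of E_j. Let ι : W → E be a monomorphism from a coherent module W, give
W the induced filtration (pieces the preimages of the E_j, same weights) with Hilbert polynomials Q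
of W and Q_j of its pieces, and write Par_E = P_{l+1} + Σ_j w_j (P_j − P_{j+1}), Par_W = Q_{l+1} +
Σ_j w_j (Q_j − Q_{j+1}), α_d for d! times the coefficient of degree d. Then: (i) if Par_W(m)·α_d(P)
≤ Par_E(m)·α_d(Q) for all large natural numbers m, the coefficients of degree d − 1 satisfy
coeff(Par_W)·α_d(P) ≤ coeff(Par_E)·α_d(Q); (ii) if this coefficient inequality is strict, then
Par_W(m)·α_d(P) < Par_E(m)·α_d(Q) for all large m. With W running over the saturated nonzero proper
subsheaves this is the published implication: parabolic semistability for the reduced parabolic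
Hilbert polynomial implies parabolic slope-semistability, and parabolic slope-stability implies
stability for the reduced parabolic Hilbert polynomial. -/
theorem result (k : Type u) [Field k] (X : Scheme.{u})
    [X.Over (Spec (CommRingCat.of k))] [IsProper (X ↘ Spec (CommRingCat.of k))]
    (L : X.Modules) (hL : CohB1.IsAmple L) (I : X.IdealSheafData) (hD : FGA.IsEffCartier I)
    (E : X.Modules) (hE : Coh.IsCoh E) (h0 : ¬ IsZero E) (d : ℕ) (hd : 1 ≤ d)
    (hpure : ShStab.IsPure X E d) (𝓔 : ParSh.Str E) (h𝓔 : 𝓔.Along I)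
    (hcoh : ∀ j, Coh.IsCoh ((𝓔.pieceX j : Subobject E) : X.Modules))
    (hsupp : topologicalKrullDim ↥(CohB1.support E ∩ (I.support : Set X)) < (d : WithBot ℕ∞))
    (P : ℚ[X]) (hP : ShStab.IsHilbPoly k X L E P) (PX : Fin (𝓔.l + 2) → ℚ[X])
    (hPX : ∀ j, ShStab.IsHilbPoly k X L ((𝓔.pieceX j : Subobject E) : X.Modules) (PX j))
    {W : X.Modules} (ι : W ⟶ E) [Mono ι] (hW : Coh.IsCoh W)
    (Q : ℚ[X]) (hQ : ShStab.IsHilbPoly k X L W Q) (QX : Fin (𝓔.l + 2) → ℚ[X])
    (hQX : ∀ j, ShStab.IsHilbPoly k X L (((𝓔.induced ι).pieceX j : Subobject W) : X.Modules) (QX j)) :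
    ((∃ M : ℕ, ∀ m : ℕ, M ≤ m →
        (W4swparbununimod.parPoly (𝓔.induced ι) QX).eval (m : ℝ) * (StabCat.alpha d P : ℝ) ≤
          (W4swparbununimod.parPoly 𝓔 PX).eval (m : ℝ) * (StabCat.alpha d Q : ℝ)) →
      (W4swparbununimod.parPoly (𝓔.induced ι) QX).coeff (d - 1) * (StabCat.alpha d P : ℝ) ≤
        (W4swparbununimod.parPoly 𝓔 PX).coeff (d - 1) * (StabCat.alpha d Q : ℝ)) ∧
    ((W4swparbununimod.parPoly (𝓔.induced ι) QX).coeff (d - 1) * (StabCat.alpha d P : ℝ) <
        (W4swparbununimod.parPoly 𝓔 PX).coeff (d - 1) * (StabCat.alpha d Q : ℝ) →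
      ∃ M : ℕ, ∀ m : ℕ, M ≤ m →
        (W4swparbununimod.parPoly (𝓔.induced ι) QX).eval (m : ℝ) * (StabCat.alpha d P : ℝ) <
          (W4swparbununimod.parPoly 𝓔 PX).eval (m : ℝ) * (StabCat.alpha d Q : ℝ)) := by
  haveI := EulerIneqLib.isNoetherian_proper (X := X) k
  have hsmall := ParHilbLib.small_of_along I 𝓔 h𝓔 hsupp
  haveI := hE
  obtain ⟨H, hH⟩ := ParHilbLib.exists_quots k hL hE 𝓔 hcoh d hsmall hP PX hPX
  obtain ⟨K, hK⟩ := ParHilbLib.exists_quots k hL hW (𝓔.induced ι) (ParHilbLib.isCoh_induced k ι 𝓔 hW hE hcoh) d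
    (ParHilbLib.small_induced ι 𝓔 hsmall) hQ QX hQX
  have hdE : ShStabLib.DimLE d E := ShStabLib.dimLE_of_isPure hE hpure
  have hdegP := ShStabLib.degree_lt k hL hE hdE hP
  have hdegQ := ShStabLib.degree_lt k hL hW (ShStabLib.dimLE_of_mono hdE ι) hQ
  set A := W4swparbununimod.parPoly (𝓔.induced ι) QX * Polynomial.C (StabCat.alpha d P : ℝ) -
    W4swparbununimod.parPoly 𝓔 PX * Polynomial.C (StabCat.alpha d Q : ℝ) with hA
  have hPX' : ∀ n, d ≤ n → (W4swparbununimod.parPoly 𝓔 PX).coeff n = (P.coeff n : ℝ) := fun n hn => by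
    rw [ParHilbLib.coeff_parPoly 𝓔 hH.eq hH.zero, Finset.sum_eq_zero, sub_zero]
    intro j _
    rw [ParHilbLib.coeff_eq_zero_of_deg (hH.deg j.succ) hn, Rat.cast_zero, mul_zero]
  have hQX' : ∀ n, d ≤ n → (W4swparbununimod.parPoly (𝓔.induced ι) QX).coeff n = (Q.coeff n : ℝ) := fun n hn => by
    rw [ParHilbLib.coeff_parPoly (𝓔.induced ι) hK.eq hK.zero, Finset.sum_eq_zero, sub_zero]
    intro j _
    rw [ParHilbLib.coeff_eq_zero_of_deg (hK.deg j.succ) hn, Rat.cast_zero, mul_zero]
  have hA0 : ∀ i, d - 1 < i → A.coeff i = 0 := fun i hi => by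
    rw [hA, coeff_sub, coeff_mul_C, coeff_mul_C, hPX' i (by omega), hQX' i (by omega)]
    rcases eq_or_lt_of_le (show d ≤ i by omega) with rfl | h
    · simp only [StabCat.alpha]; push_cast; ring
    · rw [ParHilbLib.coeff_eq_zero_of_deg hdegP h, ParHilbLib.coeff_eq_zero_of_deg hdegQ h]; simp
  have ev : ∀ m : ℕ, A.eval (m : ℝ) = (W4swparbununimod.parPoly (𝓔.induced ι) QX).eval (m : ℝ) * (StabCat.alpha d P : ℝ) -
      (W4swparbununimod.parPoly 𝓔 PX).eval (m : ℝ) * (StabCat.alpha d Q : ℝ) := fun m => by simp [hA]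
  have hc : A.coeff (d - 1) = (W4swparbununimod.parPoly (𝓔.induced ι) QX).coeff (d - 1) * (StabCat.alpha d P : ℝ) -
      (W4swparbununimod.parPoly 𝓔 PX).coeff (d - 1) * (StabCat.alpha d Q : ℝ) := by simp [hA, coeff_mul_C]
  refine ⟨fun ⟨M, hM⟩ => ?_, fun hlt => ?_⟩
  · rw [← sub_nonpos, ← hc]
    refine le_of_tendsto (ParHilbLib.tendsto_eval_div hA0) ?_
    filter_upwards [eventually_ge_atTop M] with m hm
    exact div_nonpos_of_nonpos_of_nonneg (by rw [ev]; linarith [hM m hm]) (by positivity)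
  · obtain ⟨M, hM⟩ := eventually_atTop.1 ((tendsto_order.1 (ParHilbLib.tendsto_eval_div hA0)).2 0
      (by rw [hc]; linarith))
    refine ⟨M, fun m hm => ?_⟩
    have h := hM m hm
    rw [ev] at h
    by_contra hge
    exact (not_le.2 h) (div_nonneg (by linarith [not_lt.1 hge]) (by positivity))


end Groth.Agent.S18528
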