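import Groth.Statements.S1853
import Groth.Agent.CycDetLib.Flag

set_option autoImplicit false
universe u
open CycDet

namespace Groth.Agent.S1853

open IsLocalRing CycDetIndex CycDetLib Groth.Agent.OrdDet

theorem surj_mk {R : Type u} [CommRing R] (q : Ideal R) [q.IsPrime] {N : Type u} [AddCommGroup N] [Module R N]
    (v : LocalizedModule q.primeCompl N) :
    ∃ s ∉ q, s • v ∈ LinearMap.range (LocalizedModule.mkLinearMap q.primeCompl N) := by
  obtain ⟨⟨n, s⟩, h⟩ := IsLocalizedModule.surj q.primeCompl (LocalizedModule.mkLinearMap q.primeCompl N) v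
  exact ⟨s, s.2, n, h.symm⟩

theorem mk_injective {R : Type u} [CommRing R] [IsLocalRing R] {q : Ideal R} [q.IsPrime] {N : Type u} [AddCommGroup N]
    [Module R N] {l : ℕ} {y : Fin l → N} (h : Filtered q y) :
    Function.Injective (LocalizedModule.mkLinearMap q.primeCompl N) := by
  rw [← LinearMap.ker_eq_bot, eq_bot_iff]
  intro n hn
  obtain ⟨s, hs⟩ := (IsLocalizedModule.eq_zero_iff q.primeCompl (LocalizedModule.mkLinearMap q.primeCompl N)).1 hn
  have := h.saturated (Nat.zero_le l) (s := (s : R)) s.2 (m := n) (by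
    rw [← Submonoid.smul_def, hs]; exact Submodule.zero_mem _)
  rwa [sb_zero] at this

/-- Let R be Noetherian local, 𝔮 a prime with dim R/𝔮 = 1, and φ : M → N a map of finite modules
generated by x₁, …, x_l and y₁, …, y_l respectively, with all successive quotients
⟨x₁..x_i⟩/⟨x₁..x_{i−1}⟩ and ⟨y₁..y_i⟩/⟨y₁..y_{i−1}⟩ isomorphic to R/𝔮. Then φ is injective iff φ_𝔮
is bijective; and in that case, if the symbols of (φ(x_i)) and (y_i) in det_{κ(𝔮)}(N_𝔮) differ by
the scalar f, the length of coker φ equals ord_{R/𝔮}(f). -/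
theorem result (R : Type u) [CommRing R] [IsNoetherianRing R] [IsLocalRing R] (q : PrimeSpectrum R) (hq : ringKrullDim (R ⧸ q.asIdeal) = 1) (M N : Type u) [AddCommGroup M] [Module R M] [AddCommGroup N] [Module R N] [Module.Finite R M] [Module.Finite R N] (φ : M →ₗ[R] N) (l : ℕ) (x : Fin l → M) (y : Fin l → N) (hx : Submodule.span R (Set.range x) = ⊤) (hy : Submodule.span R (Set.range y) = ⊤) (hxq : ∀ i : Fin l, Nonempty ((↥(CycDet.spanBefore R M x (i + 1)) ⧸ (CycDet.spanBefore R M x i).submoduleOf (CycDet.spanBefore R M x (i + 1))) ≃ₗ[R] (R ⧸ q.asIdeal))) (hyq : ∀ i : Fin l, Nonempty ((↥(CycDet.spanBefore R N y (i + 1)) ⧸ (CycDet.spanBefore R N y i).submoduleOf (CycDet.spanBefore R N y (i + 1))) ≃ₗ[R] (R ⧸ q.asIdeal))) : (Function.Injective φ ↔ Function.Bijective (LocalizedModule.map q.asIdeal.primeCompl φ)) ∧ (Function.Injective φ → ∀ (hl : (Module.length (Localization.AtPrime q.asIdeal) (LocalizedModule q.asIdeal.primeCompl N)).toNat = l) (ex ey : CycDet.Adm (Localization.AtPrime q.asIdeal)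 (LocalizedModule q.asIdeal.primeCompl N) (Module.length (Localization.AtPrime q.asIdeal) (LocalizedModule q.asIdeal.primeCompl N)).toNat) (f : q.asIdeal.ResidueField), (ex.1 = fun i => LocalizedModule.mkLinearMap q.asIdeal.primeCompl N (φ (x (Fin.cast hl i)))) → (ey.1 = fun i => LocalizedModule.mkLinearMap q.asIdeal.primeCompl N (y (Fin.cast hl i))) → CycDet.symbol (Localization.AtPrime q.asIdeal) (LocalizedModule q.asIdeal.primeCompl N) ex = f • CycDet.symbol (Localization.AtPrime q.asIdeal) (LocalizedModule q.asIdeal.primeCompl N) ey → ∃ n : ℕ, Module.length R (N ⧸ LinearMap.range φ) = n ∧ (n : ℤ) = CycAlg.ordFrac (R ⧸ q.asIdeal) q.asIdeal.ResidueField f) := by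
  haveI : q.asIdeal.IsPrime := q.2
  have hfx : Filtered q.asIdeal x := ⟨hx, hxq⟩
  have hfy : Filtered q.asIdeal y := ⟨hy, hyq⟩
  set gM := LocalizedModule.mkLinearMap q.asIdeal.primeCompl M
  set gN := LocalizedModule.mkLinearMap q.asIdeal.primeCompl N with hgN
  have hiM : Function.Injective gM := mk_injective hfx
  have hiN : Function.Injective gN := mk_injective hfy
  obtain ⟨eM, -, hsM, htM, -, -⟩ := hfx.main hq gM hiM (surj_mk q.asIdeal)
  obtain ⟨eN, heN, hsN, htN, hlatN, hdN⟩ := hfy.main hq gN hiN (surj_mk q.asIdeal)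
  have hlM := length_eq_of_strict_span eM hsM htM
  have hlN := length_eq_of_strict_span eN hsN htN
  set φq := LocalizedModule.map q.asIdeal.primeCompl φ with hφq
  have hcomp : ∀ m, φq (gM m) = gN (φ m) := fun m =>
    IsLocalizedModule.map_apply q.asIdeal.primeCompl gM gN φ m
  have hbij : Function.Injective φ → Function.Bijective φq := fun hφ => by
    have hinj : Function.Injective φq := LocalizedModule.map_injective _ φ hφ
    refine ⟨hinj, ?_⟩
    rw [← LinearMap.range_eq_top, ← Submodule.Quotient.subsingleton_iff,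
      ← Module.length_eq_zero_iff (R := Localization.AtPrime q.asIdeal)]
    have h1 := Module.length_eq_add_of_exact φq (LinearMap.range φq).mkQ hinj (Submodule.mkQ_surjective _)
      (LinearMap.exact_iff.2 (Submodule.ker_mkQ _))
    rw [hlM, hlN] at h1
    exact ((WithTop.add_left_cancel (ENat.natCast_ne_top l) ((add_zero _).trans h1)).symm :)
  have hinjOf : Function.Bijective φq → Function.Injective φ := fun h a b hab => hiM (h.1 (by rw [hcomp, hcomp, hab]))
  refine ⟨⟨hbij, hinjOf⟩, fun hφ hl ex ey f hex hey hsym => ?_⟩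
  subst hl
  have hsurjφ : ∀ v : LocalizedModule q.asIdeal.primeCompl N,
      ∃ s ∉ q.asIdeal, s • v ∈ LinearMap.range (gN.comp φ) := by
    intro v
    obtain ⟨w, rfl⟩ := (hbij hφ).2 v
    obtain ⟨s, hs, m, hm⟩ := surj_mk q.asIdeal w
    refine ⟨s, hs, m, ?_⟩
    rw [LinearMap.comp_apply, ← hcomp, ← LinearMap.map_smul_of_tower φq s w]
    exact congrArg φq hm
  obtain ⟨e, he, hse, hte, hlat, hde⟩ := hfx.main hq (gN.comp φ) (hiN.comp hφ) hsurjφ
  obtain rfl : e = ex := Subtype.ext (by rw [he, hex]; rfl)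
  obtain rfl : eN = ey := Subtype.ext (by rw [heN, hey]; rfl)
  obtain ⟨c, hc, hcl, hdel⟩ := comp_any hlN hq e eN hse hsN
  have hne : cl eN ≠ 0 := CycDetLib.mk_ne_zero _ hlN eN htN
  have hfc : f = c := by
    by_contra hfc
    have h0 : (f - c) • cl eN = 0 := by rw [sub_smul, ← hcl]; exact sub_eq_zero.2 hsym.symm
    exact (smul_eq_zero.1 h0).elim (sub_ne_zero.2 hfc) hne
  have hle : LinearMap.range (gN.comp φ) ≤ LinearMap.range gN := LinearMap.range_comp_le_range φ gN
  obtain ⟨hfin, hdiff⟩ := delta_sub hq hse hte hlatN hlat hle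
  have hlen : qlen (LinearMap.range gN) (LinearMap.range (gN.comp φ)) = Module.length R (N ⧸ LinearMap.range φ) := by
    rw [LinearMap.range_comp, ← Submodule.map_top gN, qlen_map gN hiN, qlen_top]
  refine ⟨(qlen (LinearMap.range gN) (LinearMap.range (gN.comp φ))).toNat,
    by rw [← hlen]; exact (ENat.natCast_toNat hfin).symm, ?_⟩
  have hd := hdel _ hlatN
  rw [hde, sub_zero] at hdiff
  rw [hdN] at hd
  rw [hfc]
  show _ = od q.asIdeal c
  omega

end Groth.Agent.S1853
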