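import Groth.Statements.S18530
import Groth.Agent.ParHilbLib.Basic

set_option autoImplicit false
universe u
open CategoryTheory CategoryTheory.Limits AlgebraicGeometry Polynomial
open ParSh

namespace Groth.Agent.S18530

open CategoryTheory CategoryTheory.Limits AlgebraicGeometry

set_option backward.isDefEq.respectTransparency false
set_option backward.defeqAttrib.useBackward true
set_option linter.style.haveILetI false

open Groth.Agent Polynomial Filter Topology

/-- The two leading coefficients of the first modified parabolic Hilbert polynomial. Let X be a scheme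
proper over a field k with an ample invertible sheaf L, I the ideal of an effective Cartier divisor
D on X, and E a coherent O_X-module with a finite weighted filtration 𝓔 along I by coherent pieces E
= E₀ ⊇ ⋯ ⊇ E_{l+1} = I·E, weights 0 ≤ w₀ < ⋯ < w_l < 1 and w_{l+1} := 1. Let d ≥ 1 with Supp E ∩
Supp D of topological Krull dimension less than d, and let H_j be the Hilbert polynomial of E/E_j,
with α_{d−1}(H_j) ≠ 0 for 1 ≤ j ≤ l+1 (α_i(H) = i!·coefficient of degree i), the numerical type of
𝓔. Let ι : W → E be a monomorphism from a coherent module W, with induced filtration W_j = W ∩ E_j,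
Q the Hilbert polynomial of W, Q_j that of W_j and K_j that of W/W_j. Then the first modified
parabolic polynomial par-P₁(W ⊂ E) := Q − Σ_{j=1}^{l+1} (w_j −
w_{j−1})·(α_{d−1}(K_j)/α_{d−1}(H_j))·H_j and the parabolic polynomial par-P₀(W) := Q_{l+1} + Σ_{j ≤
l} w_j (Q_j − Q_{j+1}) have the same coefficient in degree d and the same coefficient in degree d −
1. The published statement adds the consequences that p₁-semistability implies parabolic
slope-semistability and parabolic slope-stability implies p₁-stability, which are not part of this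
row. -/
theorem result (k : Type u) [Field k] (X : Scheme.{u})
    [X.Over (Spec (CommRingCat.of k))] [IsProper (X ↘ Spec (CommRingCat.of k))]
    (L : X.Modules) (hL : CohB1.IsAmple L) (I : X.IdealSheafData) (hD : FGA.IsEffCartier I)
    (E : X.Modules) (hE : Coh.IsCoh E) (𝓔 : ParSh.Str E) (h𝓔 : 𝓔.Along I)
    (hcoh : ∀ j, Coh.IsCoh ((𝓔.pieceX j : Subobject E) : X.Modules)) (d : ℕ) (hd : 1 ≤ d)
    (hsupp : topologicalKrullDim ↥(CohB1.support E ∩ (I.support : Set X)) < (d : WithBot ℕ∞))
    (H : Fin (𝓔.l + 2) → ℚ[X]) (hH : ∀ j, ShStab.IsHilbPoly k X L (cokernel (𝓔.pieceX j).arrow) (H j))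
    (hHa : ∀ j : Fin (𝓔.l + 1), StabCat.alpha (d - 1) (H j.succ) ≠ 0)
    {W : X.Modules} (ι : W ⟶ E) [Mono ι] (hW : Coh.IsCoh W)
    (Q : ℚ[X]) (hQ : ShStab.IsHilbPoly k X L W Q) (QX : Fin (𝓔.l + 2) → ℚ[X])
    (hQX : ∀ j, ShStab.IsHilbPoly k X L (((𝓔.induced ι).pieceX j : Subobject W) : X.Modules) (QX j))
    (QH : Fin (𝓔.l + 2) → ℚ[X])
    (hQH : ∀ j, ShStab.IsHilbPoly k X L (cokernel ((𝓔.induced ι).pieceX j).arrow) (QH j)) :
    (W4swparbununimod.parPolyOne 𝓔 d Q QH H).coeff d = (W4swparbununimod.parPoly (𝓔.induced ι) QX).coeff d ∧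
      (W4swparbununimod.parPolyOne 𝓔 d Q QH H).coeff (d - 1) =
        (W4swparbununimod.parPoly (𝓔.induced ι) QX).coeff (d - 1) := by
  haveI := EulerIneqLib.isNoetherian_proper (X := X) k
  have hsmall := ParHilbLib.small_of_along I 𝓔 h𝓔 hsupp
  obtain ⟨K, hK⟩ := ParHilbLib.exists_quots k hL hW (𝓔.induced ι) (ParHilbLib.isCoh_induced k ι 𝓔 hW hE hcoh) d
    (ParHilbLib.small_induced ι 𝓔 hsmall) hQ QX hQX
  have hKQ : ∀ j, QH j = K j := fun j => ShStabLib.hp_unique k (hQH j) (hK.hp j)
  have hHdeg : ∀ j, (H j).degree < (d : WithBot ℕ) := fun j => by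
    obtain ⟨R, hR, hR'⟩ := HilbLib.exists_poly k hL.1 d _ (QCohLib.isCoh_kernel_cokernel _ (hcoh j) hE).2 (hsmall j)
    rwa [ShStabLib.hp_unique k (hH j) hR']
  have e : ∀ n, (W4swparbununimod.parPolyOne 𝓔 d Q QH H).coeff n = (Q.coeff n : ℝ) -
      ∑ j : Fin (𝓔.l + 1), (𝓔.wtX j.succ - 𝓔.wtX j.castSucc) *
        ((StabCat.alpha (d - 1) (QH j.succ) / StabCat.alpha (d - 1) (H j.succ) : ℚ) : ℝ) * ((H j.succ).coeff n : ℝ) := by
    intro n
    simp only [W4swparbununimod.parPolyOne, W4swparbununimod.rpoly, coeff_sub, finsetSum_coeff, coeff_C_mul,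
      coeff_map, eq_ratCast]
  constructor
  · rw [e, ParHilbLib.coeff_parPoly (𝓔.induced ι) hK.eq hK.zero, Finset.sum_eq_zero, Finset.sum_eq_zero]
    · intro j _
      rw [ParHilbLib.coeff_eq_zero_of_deg (hK.deg j.succ) le_rfl, Rat.cast_zero, mul_zero]
    · intro j _
      rw [ParHilbLib.coeff_eq_zero_of_deg (hHdeg j.succ) le_rfl, Rat.cast_zero, mul_zero]
  · rw [e, ParHilbLib.coeff_parPoly (𝓔.induced ι) hK.eq hK.zero]
    refine congrArg _ (Finset.sum_congr rfl fun j _ => ?_)
    rw [mul_assoc, ← Rat.cast_mul]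
    refine congrArg₂ (· * ·) rfl (congrArg _ ?_)
    have hne := hHa j
    rw [StabCat.alpha, mul_ne_zero_iff] at hne
    rw [hKQ, StabCat.alpha, StabCat.alpha, mul_div_mul_left _ _ hne.1, div_mul_cancel₀ _ hne.2]


end Groth.Agent.S18530
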