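import Groth.Statements.S18532
import Groth.Agent.ParHilbLib.Basic

set_option autoImplicit false
universe u
open CategoryTheory CategoryTheory.Limits AlgebraicGeometry Polynomial
open ParSh

namespace Groth.Agent.S18532

open CategoryTheory CategoryTheory.Limits AlgebraicGeometry

set_option backward.isDefEq.respectTransparency false
set_option backward.defeqAttrib.useBackward true
set_option linter.style.haveILetI false

open Groth.Agent Polynomial Filter Topology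

/-- The comparison of the second and first modified parabolic Hilbert polynomials for one test subsheaf.
Let X be a scheme proper over a field k with an ample invertible sheaf L, I the ideal of an
effective Cartier divisor D on X, d ≥ 1, and E a nonzero coherent O_X-module, pure of dimension d,
with Supp E ∩ Supp D of topological Krull dimension less than d, carrying a finite weighted
filtration 𝓔 along I by coherent pieces E = E₀ ⊇ ⋯ ⊇ E_{l+1} = I·E, weights 0 ≤ w₀ < ⋯ < w_l < 1,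
w_{l+1} := 1. Let P be the Hilbert polynomial of E, P_j of E_j, H_j of E/E_j with α_{d−1}(H_j) ≠ 0
for 1 ≤ j ≤ l+1, and Par_E = P_{l+1} + Σ_j w_j (P_j − P_{j+1}). Let ι : W → E be a monomorphism from
a coherent module W with induced filtration W_j = W ∩ E_j, Q the Hilbert polynomial of W and K_j
that of W/W_j; put par-P₁(W ⊂ E) = Q − Σ_{j=1}^{l+1} (w_j − w_{j−1})·(α_{d−1}(K_j)/α_{d−1}(H_j))·H_j
and par-P₂(W ⊂ E)(x, y) = Q(x) − Σ_{j=1}^{l+1} (w_j − w_{j−1})·(K_j(y)/H_j(y))·H_j(x). Then: (i) if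
there is M such that for every m ≥ M there is N with par-P₂(W ⊂ E)(m, n)·P(n) ≤ Par_E(m)·Q(n) for
all n ≥ N, then par-P₁(W ⊂ E)(m)·α_d(P) ≤ Par_E(m)·α_d(Q) for all large m; (ii) if par-P₁(W ⊂
E)(m)·α_d(P) < Par_E(m)·α_d(Q) for all large m, then there is M such that for every m ≥ M there is N
with par-P₂(W ⊂ E)(m, n)·P(n) < Par_E(m)·Q(n) for all n ≥ N. With W running over the nonzero
saturated (proper) sub-modules this is the published implication p₂-semistable ⇒ p₁-semistable,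
p₁-stable ⇒ p₂-stable; the further implications to and from parabolic slope-(semi)stability in the
published statement are not part of this row. -/
theorem result (k : Type u) [Field k] (X : Scheme.{u})
    [X.Over (Spec (CommRingCat.of k))] [IsProper (X ↘ Spec (CommRingCat.of k))]
    (L : X.Modules) (hL : CohB1.IsAmple L) (I : X.IdealSheafData) (hD : FGA.IsEffCartier I)
    (E : X.Modules) (hE : Coh.IsCoh E) (𝓔 : ParSh.Str E) (h𝓔 : 𝓔.Along I)
    (hcoh : ∀ j, Coh.IsCoh ((𝓔.pieceX j : Subobject E) : X.Modules)) (d : ℕ) (hd : 1 ≤ d)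
    (hsupp : topologicalKrullDim ↥(CohB1.support E ∩ (I.support : Set X)) < (d : WithBot ℕ∞))
    (h0 : ¬ IsZero E) (hpure : ShStab.IsPure X E d)
    (P : ℚ[X]) (hP : ShStab.IsHilbPoly k X L E P) (PX : Fin (𝓔.l + 2) → ℚ[X])
    (hPX : ∀ j, ShStab.IsHilbPoly k X L ((𝓔.pieceX j : Subobject E) : X.Modules) (PX j))
    (H : Fin (𝓔.l + 2) → ℚ[X]) (hH : ∀ j, ShStab.IsHilbPoly k X L (cokernel (𝓔.pieceX j).arrow) (H j))
    (hHa : ∀ j : Fin (𝓔.l + 1), StabCat.alpha (d - 1) (H j.succ) ≠ 0)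
    {W : X.Modules} (ι : W ⟶ E) [Mono ι] (hW : Coh.IsCoh W)
    (Q : ℚ[X]) (hQ : ShStab.IsHilbPoly k X L W Q) (QH : Fin (𝓔.l + 2) → ℚ[X])
    (hQH : ∀ j, ShStab.IsHilbPoly k X L (cokernel ((𝓔.induced ι).pieceX j).arrow) (QH j)) :
    ((∃ M : ℕ, ∀ m : ℕ, M ≤ m → ∃ N : ℕ, ∀ n : ℕ, N ≤ n →
        (((Q.eval (m : ℚ) : ℚ) : ℝ) -
            ∑ j : Fin (𝓔.l + 1), (𝓔.wtX j.succ - 𝓔.wtX j.castSucc) *
              ((((QH j.succ).eval (n : ℚ) / (H j.succ).eval (n : ℚ) : ℚ) : ℝ) * (((H j.succ).eval (m : ℚ) : ℚ) : ℝ))) *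
          ((P.eval (n : ℚ) : ℚ) : ℝ) ≤
        (W4swparbununimod.parPoly 𝓔 PX).eval (m : ℝ) * ((Q.eval (n : ℚ) : ℚ) : ℝ)) →
      ∃ M : ℕ, ∀ m : ℕ, M ≤ m →
        (W4swparbununimod.parPolyOne 𝓔 d Q QH H).eval (m : ℝ) * (StabCat.alpha d P : ℝ) ≤
          (W4swparbununimod.parPoly 𝓔 PX).eval (m : ℝ) * (StabCat.alpha d Q : ℝ)) ∧
    ((∃ M : ℕ, ∀ m : ℕ, M ≤ m →
        (W4swparbununimod.parPolyOne 𝓔 d Q QH H).eval (m : ℝ) * (StabCat.alpha d P : ℝ) <
          (W4swparbununimod.parPoly 𝓔 PX).eval (m : ℝ) * (StabCat.alpha d Q : ℝ)) →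
      ∃ M : ℕ, ∀ m : ℕ, M ≤ m → ∃ N : ℕ, ∀ n : ℕ, N ≤ n →
        (((Q.eval (m : ℚ) : ℚ) : ℝ) -
            ∑ j : Fin (𝓔.l + 1), (𝓔.wtX j.succ - 𝓔.wtX j.castSucc) *
              ((((QH j.succ).eval (n : ℚ) / (H j.succ).eval (n : ℚ) : ℚ) : ℝ) * (((H j.succ).eval (m : ℚ) : ℚ) : ℝ))) *
          ((P.eval (n : ℚ) : ℚ) : ℝ) <
        (W4swparbununimod.parPoly 𝓔 PX).eval (m : ℝ) * ((Q.eval (n : ℚ) : ℚ) : ℝ)) := by
  haveI := EulerIneqLib.isNoetherian_proper (X := X) k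
  have hsmall := ParHilbLib.small_of_along I 𝓔 h𝓔 hsupp
  have hdE : ShStabLib.DimLE d E := ShStabLib.dimLE_of_isPure hE hpure
  have hP' := ParHilbLib.tendsto_ratPoly_div (ShStabLib.degree_lt k hL hE hdE hP)
  have hQ' := ParHilbLib.tendsto_ratPoly_div (ShStabLib.degree_lt k hL hW (ShStabLib.dimLE_of_mono hdE ι) hQ)
  have hd' : d - 1 + 1 = d := by omega
  have hHdeg : ∀ j, (H j).degree < ((d - 1 + 1 : ℕ) : WithBot ℕ) := fun j => by
    obtain ⟨R, hR, hR'⟩ := HilbLib.exists_poly k hL.1 d _ (QCohLib.isCoh_kernel_cokernel _ (hcoh j) hE).2 (hsmall j)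
    rwa [hd', ShStabLib.hp_unique k (hH j) hR']
  have hKdeg : ∀ j, (QH j).degree < ((d - 1 + 1 : ℕ) : WithBot ℕ) := fun j => by
    have hc := (QCohLib.isCoh_kernel_cokernel ((𝓔.induced ι).pieceX j).arrow (ParHilbLib.isCoh_induced k ι 𝓔 hW hE hcoh j) hW).2
    obtain ⟨R, hR, hR'⟩ := HilbLib.exists_poly k hL.1 d _ hc (ParHilbLib.small_induced ι 𝓔 hsmall j)
    rwa [hd', ShStabLib.hp_unique k (hQH j) hR']
  have hratio : ∀ j : Fin (𝓔.l + 1), Tendsto (fun n : ℕ => (((QH j.succ).eval (n : ℚ) / (H j.succ).eval (n : ℚ) : ℚ) : ℝ))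
      atTop (𝓝 ((StabCat.alpha (d - 1) (QH j.succ) / StabCat.alpha (d - 1) (H j.succ) : ℚ) : ℝ)) := fun j => by
    have hne := hHa j
    rw [StabCat.alpha, mul_ne_zero_iff] at hne
    rw [StabCat.alpha, StabCat.alpha, mul_div_mul_left _ _ hne.1, Rat.cast_div]
    refine ((ParHilbLib.tendsto_ratPoly_div (hKdeg j.succ)).div (ParHilbLib.tendsto_ratPoly_div (hHdeg j.succ))
      (by exact_mod_cast hne.2)).congr' ?_
    filter_upwards [eventually_gt_atTop 0] with n hn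
    rw [Pi.div_apply, Rat.cast_div]
    exact div_div_div_cancel_right₀ (pow_ne_zero _ (Nat.cast_ne_zero.2 hn.ne')) _ _
  let c2 : ℕ → ℕ → ℝ := fun m n => ((Q.eval (m : ℚ) : ℚ) : ℝ) -
    ∑ j : Fin (𝓔.l + 1), (𝓔.wtX j.succ - 𝓔.wtX j.castSucc) *
      ((((QH j.succ).eval (n : ℚ) / (H j.succ).eval (n : ℚ) : ℚ) : ℝ) * (((H j.succ).eval (m : ℚ) : ℚ) : ℝ))
  have hp1 : ∀ m : ℕ, Tendsto (fun n => c2 m n) atTop (𝓝 ((W4swparbununimod.parPolyOne 𝓔 d Q QH H).eval (m : ℝ))) := by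
    intro m
    rw [show (W4swparbununimod.parPolyOne 𝓔 d Q QH H).eval (m : ℝ) = ((Q.eval (m : ℚ) : ℚ) : ℝ) -
        ∑ j : Fin (𝓔.l + 1), (𝓔.wtX j.succ - 𝓔.wtX j.castSucc) *
          (((StabCat.alpha (d - 1) (QH j.succ) / StabCat.alpha (d - 1) (H j.succ) : ℚ) : ℝ) *
            (((H j.succ).eval (m : ℚ) : ℚ) : ℝ)) by
      simp only [W4swparbununimod.parPolyOne, eval_sub, eval_finsetSum, eval_mul, eval_C, ParHilbLib.eval_rpoly, mul_assoc]]
    exact tendsto_const_nhds.sub (tendsto_finsetSum _ fun j _ => ((hratio j).mul_const _).const_mul _)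
  have hlim : ∀ m : ℕ, Tendsto (fun n : ℕ => c2 m n * (((P.eval (n : ℚ) : ℚ) : ℝ) / (n : ℝ) ^ d) -
        (W4swparbununimod.parPoly 𝓔 PX).eval (m : ℝ) * (((Q.eval (n : ℚ) : ℚ) : ℝ) / (n : ℝ) ^ d)) atTop
      (𝓝 ((W4swparbununimod.parPolyOne 𝓔 d Q QH H).eval (m : ℝ) * (P.coeff d : ℝ) -
        (W4swparbununimod.parPoly 𝓔 PX).eval (m : ℝ) * (Q.coeff d : ℝ))) := fun m =>
    ((hp1 m).mul hP').sub (hQ'.const_mul _)
  have hfac : (0 : ℝ) < (d.factorial : ℝ) := by exact_mod_cast Nat.factorial_pos d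
  have hα : ∀ R : ℚ[X], (StabCat.alpha d R : ℝ) = (d.factorial : ℝ) * (R.coeff d : ℝ) := fun R => by simp [StabCat.alpha]
  refine ⟨fun ⟨M, hM⟩ => ⟨M, fun m hm => ?_⟩, fun ⟨M, hM⟩ => ⟨M, fun m hm => ?_⟩⟩
  · obtain ⟨N, hN⟩ := hM m hm
    have h0 := le_of_tendsto (hlim m) (b := 0) (eventually_atTop.2 ⟨N, fun n hn => by
      rw [← mul_div_assoc, ← mul_div_assoc, div_sub_div_same]
      exact div_nonpos_of_nonpos_of_nonneg (sub_nonpos.2 (hN n hn)) (by positivity)⟩)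
    rw [hα, hα]
    have := mul_le_mul_of_nonneg_left (sub_nonpos.1 h0) hfac.le
    linarith
  · have h0 := hM m hm
    rw [hα, hα] at h0
    obtain ⟨N, hN⟩ := eventually_atTop.1 ((tendsto_order.1 (hlim m)).2 0 (by
      by_contra h
      have := mul_le_mul_of_nonneg_left (sub_nonneg.1 (not_lt.1 h)) hfac.le
      linarith))
    refine ⟨N, fun n hn => ?_⟩
    have h := hN n hn
    rw [← mul_div_assoc, ← mul_div_assoc, div_sub_div_same] at h
    by_contra hge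
    exact (not_le.2 h) (div_nonneg (sub_nonneg.2 (not_lt.1 hge)) (by positivity))


end Groth.Agent.S18532
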