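import Groth.Statements.S18535
import Mathlib
import Groth.Agent.Hensel.Local

open scoped Pointwise
namespace Groth.Agent.S18535

open TensorProduct

variable (R S G : Type*) [CommRing R] [CommRing S] [Algebra R S] [Group G] [MulSemiringAction G S] [SMulCommClass G R S]

/-- `x ⊗ y ↦ (h ↦ x * h y)` -/
noncomputable def Phi : S ⊗[R] S →ₐ[R] (G → S) :=
  Algebra.TensorProduct.lift (Pi.algHom R (fun _ : G => S) fun _ => AlgHom.id R S)
    (Pi.algHom R (fun _ : G => S) fun h => MulSemiringAction.toAlgHom R S h) fun _ _ => Commute.all _ _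

theorem Phi_tmul (x y : S) (h : G) : Phi R S G (x ⊗ₜ y) h = x * h • y := by
  simp [Phi]

open Classical in
theorem exists_delta [Fintype G] (H : ∀ g : G, g ≠ 1 → ∃ s : S, IsUnit (g • s - s)) :
    ∃ z : S ⊗[R] S, Phi R S G z = fun h => if h = 1 then 1 else 0 := by
  classical
  choose s hs using H
  have key : ∀ g : G, ∃ f ∈ (Phi R S G).range, f 1 = 1 ∧ (g ≠ 1 → f g = 0) := by
    intro g
    by_cases hg : g = 1
    · exact ⟨1, one_mem _, rfl, fun h => absurd hg h⟩
    obtain ⟨v, hv⟩ := (hs g hg)
    refine ⟨Phi R S G (((-↑v⁻¹ : S)) ⊗ₜ (s g hg) + ((↑v⁻¹ : S) * g • s g hg) ⊗ₜ 1), ⟨_, rfl⟩, ?_, fun _ => ?_⟩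
    · simp only [map_add, Pi.add_apply, Phi_tmul, one_smul, mul_one]
      rw [show (-↑v⁻¹ : S) * s g hg + ↑v⁻¹ * g • s g hg = ↑v⁻¹ * (g • s g hg - s g hg) by ring, ← hv, Units.inv_mul]
    · simp only [map_add, Pi.add_apply, Phi_tmul, smul_one, mul_one]
      ring
  choose f hf h1 h0 using key
  obtain ⟨z, hz⟩ := (Subalgebra.prod_mem _ fun g (_ : g ∈ Finset.univ) => hf g :
    (∏ g, f g) ∈ (Phi R S G).range)
  refine ⟨z, hz.trans (funext fun h => ?_)⟩
  rw [Finset.prod_apply]
  split_ifs with hh
  · subst hh; exact Finset.prod_eq_one fun g _ => h1 g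
  · exact Finset.prod_eq_zero (Finset.mem_univ h) (h0 h hh)

theorem finite_of_galois [IsDomain R] [IsDomain S] [FaithfulSMul R S] [IsNoetherianRing R] [IsIntegrallyClosed R]
    [IsIntegrallyClosed S] [Finite G] [IsGaloisGroup G R S] [Algebra.IsIntegral R S] : Module.Finite R S := by
  let K := FractionRing R
  let L := FractionRing S
  letI : Algebra K L := FractionRing.liftAlgebra R L
  letI := IsFractionRing.mulSemiringAction G S L
  haveI : IsGaloisGroup G K L := IsGaloisGroup.toFractionRing G R S
  haveI : FiniteDimensional K L := IsGaloisGroup.finiteDimensional G K L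
  haveI : IsGalois K L := IsGaloisGroup.isGalois G K L
  haveI : IsIntegralClosure S R L := IsIntegralClosure.of_isIntegrallyClosed S R L
  exact IsIntegralClosure.finite R K L S

universe v in
theorem isLocalRing_of_finite (R : Type*) (S : Type v) [CommRing R] [CommRing S] [Algebra R S] [HenselianLocalRing R]
    [IsDomain S] [Module.Finite R S] : IsLocalRing S := by
  classical
  obtain ⟨ι, _, C, _, hC, ⟨e⟩⟩ := Groth.Agent.Hensel.exists_pi_local_of_henselian R S
  haveI := hC
  haveI : Subsingleton ι := ⟨fun i j => by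
    by_contra hij
    have h0 : e.symm (Pi.single i 1) * e.symm (Pi.single j 1) = 0 := by
      rw [← map_mul, ← map_zero e.symm]
      congr 1
      funext l
      by_cases hl : l = i
      · subst hl; simp [hij]
      · simp [hl]
    rcases mul_eq_zero.1 h0 with h | h
    · have := congrFun ((map_eq_zero_iff _ e.symm.injective).1 h) i; simp at this
    · have := congrFun ((map_eq_zero_iff _ e.symm.injective).1 h) j; simp at this⟩
  haveI : Nonempty ι := by
    by_contra h
    haveI := not_nonempty_iff.1 h
    haveI := e.toEquiv.subsingleton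
    exact false_of_nontrivial_of_subsingleton S
  obtain ⟨i⟩ := ‹Nonempty ι›
  letI : Unique ι := uniqueOfSubsingleton i
  exact (e.trans (RingEquiv.piUnique C)).symm.isLocalRing

end Groth.Agent.S18535


set_option autoImplicit false
universe u
open EtAlg

namespace Groth.Agent.S18535

/-- Let R be a complete Noetherian local normal domain with maximal ideal m, let S be a normal domain
containing R on which a finite group G acts by R-algebra automorphisms, faithfully and with ring of
invariants exactly R (so that S is the integral closure of R in some finite Galois extension, with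
group G, of Frac R), and let n be a maximal ideal of S over m. Then the inertia subgroup of n in G
(the elements g with g s - s ∈ n for all s ∈ S) is trivial if and only if mS = n and the residue
field S/n is finite and separable over R/m. -/
theorem result
    (R S G : Type u) [CommRing R] [CommRing S] [IsDomain R] [IsDomain S]
    [IsNoetherianRing R] [IsLocalRing R] [IsIntegrallyClosed R]
    [IsAdicComplete (IsLocalRing.maximalIdeal R) R]
    [Algebra R S] [FaithfulSMul R S] [IsIntegrallyClosed S]
    [Group G] [Finite G] [MulSemiringAction G S] [SMulCommClass G R S] [IsGaloisGroup G R S]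
    (n : Ideal S) [n.IsMaximal] [n.LiesOver (IsLocalRing.maximalIdeal R)] :
    n.toAddSubgroup.inertia G = ⊥ ↔
      ((IsLocalRing.maximalIdeal R).map (algebraMap R S) = n ∧
        Module.Finite (R ⧸ IsLocalRing.maximalIdeal R) (S ⧸ n) ∧
        Algebra.IsSeparable (R ⧸ IsLocalRing.maximalIdeal R) (S ⧸ n)) := by
  classical
  cases nonempty_fintype G
  haveI : FaithfulSMul G S := IsGaloisGroup.faithful R
  let m := IsLocalRing.maximalIdeal R
  haveI : HenselianLocalRing R :=
    { is_henselian := fun f hf a h1 h2 => (IsAdicComplete.henselianRing R m).is_henselian f hf a h1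
        (h2.map (Ideal.Quotient.mk m)) }
  haveI : Algebra.IsInvariant R S G := IsGaloisGroup.isInvariant
  haveI : Algebra.IsIntegral R S := Algebra.IsInvariant.isIntegral R S G
  haveI : Module.Finite R S := finite_of_galois R S G
  haveI : IsLocalRing S := isLocalRing_of_finite R S
  have hn : n = IsLocalRing.maximalIdeal S := IsLocalRing.eq_maximalIdeal ‹_›
  have hstab : ∀ (h : G) (s : S), s ∈ n → h • s ∈ n := fun h s hs => by
    rw [hn, IsLocalRing.mem_maximalIdeal, mem_nonunits_iff] at hs ⊢
    intro hu
    refine hs ?_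
    have := hu.map (MulSemiringAction.toRingEquiv G S h⁻¹)
    rwa [MulSemiringAction.toRingEquiv_apply, inv_smul_smul] at this
  have hmn : ∀ r ∈ m, algebraMap R S r ∈ n := fun r hr => (Ideal.mem_of_liesOver n m r).1 hr
  have hfix : ∀ (g : G) (r : R), g • algebraMap R S r = algebraMap R S r := smul_algebraMap
  have hmap : m.map (algebraMap R S) ≤ n := Ideal.map_le_iff_le_comap.2 hmn
  letI : Field (R ⧸ m) := Ideal.Quotient.field m
  letI : Field (S ⧸ n) := Ideal.Quotient.field n
  haveI hfinres : Module.Finite (R ⧸ m) (S ⧸ n) := by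
    have : Module.Finite R (S ⧸ n) := Module.Finite.of_surjective (Ideal.Quotient.mkₐ R n).toLinearMap Ideal.Quotient.mk_surjective
    exact Module.Finite.of_restrictScalars_finite R _ _
  constructor
  · intro hI
    obtain ⟨z, hz⟩ := exists_delta R S G fun g hg => by
      have hg' : g ∉ n.toAddSubgroup.inertia G := by rw [hI, Subgroup.mem_bot]; exact hg
      rw [AddSubgroup.mem_inertia] at hg'
      push Not at hg'
      obtain ⟨s, hs⟩ := hg'
      exact ⟨s, IsLocalRing.notMem_maximalIdeal.1 (hn ▸ hs)⟩
    have hmem : ∀ s : S, (∀ y, ∑ h : G, h • (s * y) ∈ n) → s ∈ m.map (algebraMap R S) := by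
      intro s hs
      have e : s = ∑ h : G, Phi R S G z h * h • s := by
        rw [hz]; simp
      rw [e]
      clear e hz
      induction z using TensorProduct.induction_on with
      | zero => simp
      | tmul x y =>
        obtain ⟨r, hr⟩ := Algebra.IsInvariant.isInvariant (A := R) (G := G) (∑ h : G, h • (s * y)) fun g => by
          rw [Finset.smul_sum]
          exact Fintype.sum_equiv (Equiv.mulLeft g) _ _ fun h => by simp [mul_smul]
        have hrm : r ∈ m := (Ideal.mem_of_liesOver n m r).2 (hr ▸ hs y)
        have e' : ∑ h : G, Phi R S G (x ⊗ₜ y) h * h • s = x * ∑ h : G, h • (s * y) := by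
          simp only [Finset.mul_sum, Phi_tmul, smul_mul']
          exact Finset.sum_congr rfl fun h _ => by ring
        rw [e', ← hr]
        exact Ideal.mul_mem_left _ _ (Ideal.mem_map_of_mem _ hrm)
      | add a b ha hb =>
        simp only [map_add, Pi.add_apply, add_mul, Finset.sum_add_distrib]
        exact add_mem ha hb
    have hmeq : m.map (algebraMap R S) = n := le_antisymm hmap fun s hs => hmem s fun y =>
      Ideal.sum_mem _ fun h _ => hstab h _ (n.mul_mem_right y hs)
    refine ⟨hmeq, hfinres, ?_⟩
    obtain ⟨c, hc⟩ : ∃ c : S, ∑ h : G, h • c = 1 := by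
      by_cases hall : ∀ y, ∑ h : G, h • ((1 : S) * y) ∈ n
      · exact absurd ((Ideal.eq_top_iff_one _).2 (hmap (hmem 1 hall))) (Ideal.IsMaximal.ne_top ‹n.IsMaximal›)
      push Not at hall
      obtain ⟨y, hy⟩ := hall
      rw [hn, IsLocalRing.notMem_maximalIdeal] at hy
      simp only [one_mul] at hy
      obtain ⟨v, hv⟩ := hy
      have hvfix : ∀ g : G, g • (v : S) = v := fun g => by
        rw [hv, Finset.smul_sum]
        exact Fintype.sum_equiv (Equiv.mulLeft g) _ _ fun h => by simp [mul_smul]
      refine ⟨(↑v⁻¹ : S) * y, ?_⟩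
      have hinv : ∀ g : G, g • (↑v⁻¹ : S) = ↑v⁻¹ := fun g => by
        refine v.isUnit.mul_left_cancel ?_
        conv_lhs => rw [← hvfix g, ← smul_mul', Units.mul_inv, smul_one]
        rw [Units.mul_inv]
      simp only [smul_mul', hinv, ← Finset.mul_sum, ← hv, Units.inv_mul]
    suffices IsGalois (R ⧸ m) (S ⧸ n) from this.to_isSeparable
    refine IsGalois.of_fixedField_eq_bot _ _ (eq_bot_iff.2 fun x hx => ?_)
    rw [IntermediateField.mem_fixedField_iff] at hx
    obtain ⟨s, rfl⟩ := Ideal.Quotient.mk_surjective x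
    obtain ⟨r, hr⟩ := Algebra.IsInvariant.isInvariant (A := R) (G := G) (∑ h : G, h • (s * c)) fun g => by
      rw [Finset.smul_sum]
      exact Fintype.sum_equiv (Equiv.mulLeft g) _ _ fun h => by simp [mul_smul]
    have hh : ∀ h : G, h ∈ MulAction.stabilizer G n := fun h => by
      rw [MulAction.mem_stabilizer_iff]
      refine (Ideal.IsMaximal.eq_of_le ‹_› ?_ ?_).symm
      · rw [Ideal.ne_top_iff_one, Ideal.mem_pointwise_smul_iff_inv_smul_mem, smul_one]
        exact (Ideal.ne_top_iff_one n).1 (Ideal.IsMaximal.ne_top ‹_›)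
      · intro a ha
        rw [Ideal.mem_pointwise_smul_iff_inv_smul_mem]
        exact hstab _ _ ha
    have key : ∀ h : G, Ideal.Quotient.mk n (h • s) = Ideal.Quotient.mk n s := fun h =>
      hx (Ideal.Quotient.stabilizerHom n m G ⟨h, hh h⟩) trivial
    refine IntermediateField.mem_bot.2 ⟨Ideal.Quotient.mk m r, ?_⟩
    rw [Ideal.Quotient.algebraMap_mk_of_liesOver, hr, map_sum]
    simp only [smul_mul', map_mul, key, ← Finset.mul_sum, ← map_sum, hc, map_one, mul_one]
  · rintro ⟨hmeq, -, hsep⟩
    haveI := hsep
    obtain ⟨α, hα⟩ := Field.exists_primitive_element (R ⧸ m) (S ⧸ n)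
    obtain ⟨θ, rfl⟩ := Ideal.Quotient.mk_surjective α
    have hfac : ∀ p : Polynomial R, Ideal.Quotient.mk n (Polynomial.aeval θ p) =
        Polynomial.aeval (Ideal.Quotient.mk n θ) (p.map (Ideal.Quotient.mk m)) := fun p => by
      change Ideal.Quotient.mk n (Polynomial.aeval θ p) = Polynomial.aeval (Ideal.Quotient.mk n θ) (p.map (algebraMap R (R ⧸ m)))
      rw [Polynomial.aeval_map_algebraMap]
      exact (Polynomial.aeval_algHom_apply (Ideal.Quotient.mkₐ R n) θ p).symm
    have hgen : (Algebra.adjoin R {θ}).toSubmodule = ⊤ := by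
      refine top_le_iff.1 (Submodule.le_of_le_smul_of_le_jacobson_bot (I := m) Module.Finite.fg_top
        (IsLocalRing.jacobson_eq_maximalIdeal ⊥ bot_ne_top).ge fun s _ => ?_)
      have h1 : Ideal.Quotient.mk n s ∈ (IntermediateField.adjoin (R ⧸ m) {Ideal.Quotient.mk n θ}).toSubalgebra := by
        rw [hα]; trivial
      rw [IntermediateField.adjoin_simple_toSubalgebra_of_isAlgebraic (Algebra.IsAlgebraic.isAlgebraic _),
        Algebra.adjoin_singleton_eq_range_aeval] at h1
      obtain ⟨p, hp⟩ := h1
      obtain ⟨q, rfl⟩ := Polynomial.map_surjective (Ideal.Quotient.mk m) Ideal.Quotient.mk_surjective p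
      have h2 : s - Polynomial.aeval θ q ∈ n := by
        rw [← Ideal.Quotient.eq, hfac]; exact hp.symm
      rw [Ideal.smul_top_eq_map, hmeq]
      refine Submodule.mem_sup.2 ⟨Polynomial.aeval θ q, ?_, s - Polynomial.aeval θ q, h2, by ring⟩
      rw [Subalgebra.mem_toSubmodule, Algebra.adjoin_singleton_eq_range_aeval]
      exact ⟨q, rfl⟩
    rw [eq_bot_iff]
    intro g hg
    rw [AddSubgroup.mem_inertia] at hg
    rw [Subgroup.mem_bot]
    have hgp : ∀ p : Polynomial R, g • Polynomial.aeval θ p = Polynomial.aeval (g • θ) p := fun p =>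
      (Polynomial.aeval_algHom_apply (MulSemiringAction.toAlgHom R S g) θ p).symm
    let d := g • θ - θ
    have hall : ∀ s : S, g • s - s ∈ Ideal.span {d} := fun s => by
      have hs : s ∈ (Algebra.adjoin R {θ}).toSubmodule := hgen ▸ trivial
      rw [Subalgebra.mem_toSubmodule, Algebra.adjoin_singleton_eq_range_aeval] at hs
      obtain ⟨p, rfl⟩ := hs
      change g • Polynomial.aeval θ p - Polynomial.aeval θ p ∈ Ideal.span {d}
      rw [hgp, Ideal.mem_span_singleton, Polynomial.aeval_def, Polynomial.aeval_def, ← Polynomial.eval_map, ← Polynomial.eval_map]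
      exact Polynomial.sub_dvd_eval_sub _ _ _
    obtain ⟨f, hf⟩ := Polynomial.map_surjective (Ideal.Quotient.mk m) Ideal.Quotient.mk_surjective
      (minpoly (R ⧸ m) (Ideal.Quotient.mk n θ))
    have hy : Polynomial.aeval θ f ∈ n := by
      rw [← Ideal.Quotient.eq_zero_iff_mem, hfac, hf, minpoly.aeval]
    have hmd : ∀ y ∈ m.map (algebraMap R S), g • y - y ∈ Ideal.span {d} * n := by
      intro y hy
      refine Submodule.span_induction ?_ (by simp) (fun a b _ _ ha hb => ?_) (fun t a ha' ha => ?_) hy
      · rintro _ ⟨r, _, rfl⟩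
        rw [hfix, sub_self]; exact zero_mem _
      · have e : g • (a + b) - (a + b) = (g • a - a) + (g • b - b) := by rw [smul_add]; ring
        rw [e]; exact add_mem ha hb
      · have e : g • (t • a) - t • a = (g • t) * (g • a - a) + (g • t - t) * a := by
          simp only [smul_eq_mul, smul_mul']; ring
        rw [e]
        exact add_mem (Ideal.mul_mem_left _ _ ha) (Ideal.mul_mem_mul (hall t) (hmap ha'))
    obtain ⟨w, hw, hw'⟩ := Ideal.mem_span_singleton_mul.1 (hmd _ (hmeq.symm ▸ hy))
    obtain ⟨k, hk⟩ := Polynomial.binomExpansion (f.map (algebraMap R S)) θ d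
    rw [show θ + d = g • θ by simp [d], Polynomial.eval_map_algebraMap, Polynomial.eval_map_algebraMap, ← hgp,
      Polynomial.derivative_map, Polynomial.eval_map_algebraMap] at hk
    have hdn : d ∈ n := hg θ
    have hd : d * (Polynomial.aeval θ f.derivative + k * d - w) = 0 := by
      rw [mul_sub, hw', hk]; ring
    have hu : IsUnit (Polynomial.aeval θ f.derivative + k * d - w) := by
      rw [← IsLocalRing.notMem_maximalIdeal, ← hn]
      intro h
      have h' : Polynomial.aeval θ f.derivative ∈ n := by
        have := sub_mem (add_mem h hw) (n.mul_mem_left k hdn)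
        simpa using this
      rw [← Ideal.Quotient.eq_zero_iff_mem, hfac, ← Polynomial.derivative_map, hf] at h'
      exact (Algebra.IsSeparable.isSeparable (R ⧸ m) (Ideal.Quotient.mk n θ)).aeval_derivative_ne_zero (minpoly.aeval _ _) h'
    have hd0 : d = 0 := (hu.mul_left_eq_zero).1 hd
    refine FaithfulSMul.eq_of_smul_eq_smul (α := S) fun s => ?_
    have := hall s
    rw [hd0, Ideal.span_singleton_eq_bot.2 rfl, Ideal.mem_bot, sub_eq_zero] at this
    rw [this, one_smul]


end Groth.Agent.S18535
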