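import Groth.Statements.S18537
import Groth.Agent.CompositumCplLib.Unram

set_option autoImplicit false
set_option synthInstance.maxHeartbeats 200000
set_option maxHeartbeats 1600000
universe u
open EtAlg

namespace Groth.Agent.S18537

/-- Let R be an excellent normal local domain with fraction field K, let L, M ⊇ K be two finite
separable field extensions, both contained in a field Ω that they generate, let A ⊆ Ω be the
localization of the integral closure of R in Ω at one of its maximal ideals, and put S = A ∩ L, T =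
A ∩ M; these are local rings, T ⊆ A, and the completions at the maximal ideals give maps Ŝ → Â ← T̂
(the algebra structures below are these inclusions and completed inclusions, pinned by the stated
compatibilities). If, inside the fraction field of Â, the ring Ŝ lies in the fraction field of T̂
(every element of Ŝ becomes a quotient of two elements of T̂), then A is unramified over T: m_T A =
m_A and A/m_A is a finite separable extension of T/m_T. -/
theorem result
    (R K L M Ω : Type u) [CommRing R] [IsDomain R] [IsLocalRing R] [IsIntegrallyClosed R]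
    (hR : EGA4.IsExcellent R)
    [Field K] [Field L] [Field M] [Field Ω]
    [Algebra R K] [IsFractionRing R K]
    [Algebra K L] [Algebra K M] [Algebra K Ω] [Algebra L Ω] [Algebra M Ω]
    [IsScalarTower K L Ω] [IsScalarTower K M Ω]
    [FiniteDimensional K L] [FiniteDimensional K M] [Algebra.IsSeparable K L] [Algebra.IsSeparable K M]
    (hΩ : IntermediateField.adjoin K (Set.range (algebraMap L Ω) ∪ Set.range (algebraMap M Ω)) = ⊤)
    [Algebra R L] [Algebra R M] [Algebra R Ω] [IsScalarTower R K L] [IsScalarTower R K M] [IsScalarTower R K Ω]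
    [IsScalarTower R L Ω] [IsScalarTower R M Ω]
    (𝔪 : Ideal ↥(integralClosure R Ω)) [𝔪.IsMaximal]
    (A : Subalgebra R Ω)
    (hA : ∀ z : Ω, z ∈ A ↔ ∃ a b : ↥(integralClosure R Ω), b ∉ 𝔪 ∧ z * (b : Ω) = (a : Ω))
    [IsLocalRing ↥A] [IsLocalRing ↥(Subalgebra.comap (IsScalarTower.toAlgHom R L Ω) A)] [IsLocalRing ↥(Subalgebra.comap (IsScalarTower.toAlgHom R M Ω) A)]
    [Algebra ↥(Subalgebra.comap (IsScalarTower.toAlgHom R L Ω) A) ↥A]
    (hSA : ∀ s : ↥(Subalgebra.comap (IsScalarTower.toAlgHom R L Ω) A), ((algebraMap ↥(Subalgebra.comap (IsScalarTower.toAlgHom R L Ω) A) ↥A s : ↥A) : Ω) = algebraMap L Ω (s : L))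
    [Algebra ↥(Subalgebra.comap (IsScalarTower.toAlgHom R M Ω) A) ↥A]
    (hTA : ∀ t : ↥(Subalgebra.comap (IsScalarTower.toAlgHom R M Ω) A), ((algebraMap ↥(Subalgebra.comap (IsScalarTower.toAlgHom R M Ω) A) ↥A t : ↥A) : Ω) = algebraMap M Ω (t : M))
    [Algebra (EGA4.Cpl ↥(Subalgebra.comap (IsScalarTower.toAlgHom R L Ω) A)) (EGA4.Cpl ↥A)]
    (hcS : ∀ s : ↥(Subalgebra.comap (IsScalarTower.toAlgHom R L Ω) A), algebraMap (EGA4.Cpl ↥(Subalgebra.comap (IsScalarTower.toAlgHom R L Ω) A)) (EGA4.Cpl ↥A) (algebraMap ↥(Subalgebra.comap (IsScalarTower.toAlgHom R L Ω) A) (EGA4.Cpl ↥(Subalgebra.comap (IsScalarTower.toAlgHom R L Ω) A)) s) =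
      algebraMap ↥A (EGA4.Cpl ↥A) (algebraMap ↥(Subalgebra.comap (IsScalarTower.toAlgHom R L Ω) A) ↥A s))
    [Algebra (EGA4.Cpl ↥(Subalgebra.comap (IsScalarTower.toAlgHom R M Ω) A)) (EGA4.Cpl ↥A)]
    (hcT : ∀ t : ↥(Subalgebra.comap (IsScalarTower.toAlgHom R M Ω) A), algebraMap (EGA4.Cpl ↥(Subalgebra.comap (IsScalarTower.toAlgHom R M Ω) A)) (EGA4.Cpl ↥A) (algebraMap ↥(Subalgebra.comap (IsScalarTower.toAlgHom R M Ω) A) (EGA4.Cpl ↥(Subalgebra.comap (IsScalarTower.toAlgHom R M Ω) A)) t) =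
      algebraMap ↥A (EGA4.Cpl ↥A) (algebraMap ↥(Subalgebra.comap (IsScalarTower.toAlgHom R M Ω) A) ↥A t))
    [(IsLocalRing.maximalIdeal ↥A).LiesOver (IsLocalRing.maximalIdeal ↥(Subalgebra.comap (IsScalarTower.toAlgHom R M Ω) A))]
    (hLM : ∀ x : (EGA4.Cpl ↥(Subalgebra.comap (IsScalarTower.toAlgHom R L Ω) A)), ∃ a b : (EGA4.Cpl ↥(Subalgebra.comap (IsScalarTower.toAlgHom R M Ω) A)), algebraMap (EGA4.Cpl ↥(Subalgebra.comap (IsScalarTower.toAlgHom R M Ω) A)) (EGA4.Cpl ↥A) b ≠ 0 ∧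
      algebraMap (EGA4.Cpl ↥(Subalgebra.comap (IsScalarTower.toAlgHom R L Ω) A)) (EGA4.Cpl ↥A) x * algebraMap (EGA4.Cpl ↥(Subalgebra.comap (IsScalarTower.toAlgHom R M Ω) A)) (EGA4.Cpl ↥A) b = algebraMap (EGA4.Cpl ↥(Subalgebra.comap (IsScalarTower.toAlgHom R M Ω) A)) (EGA4.Cpl ↥A) a) :
    (IsLocalRing.maximalIdeal ↥(Subalgebra.comap (IsScalarTower.toAlgHom R M Ω) A)).map (algebraMap ↥(Subalgebra.comap (IsScalarTower.toAlgHom R M Ω) A) ↥A) = IsLocalRing.maximalIdeal ↥A ∧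
      Module.Finite (↥(Subalgebra.comap (IsScalarTower.toAlgHom R M Ω) A) ⧸ IsLocalRing.maximalIdeal ↥(Subalgebra.comap (IsScalarTower.toAlgHom R M Ω) A)) (↥A ⧸ IsLocalRing.maximalIdeal ↥A) ∧
      Algebra.IsSeparable (↥(Subalgebra.comap (IsScalarTower.toAlgHom R M Ω) A) ⧸ IsLocalRing.maximalIdeal ↥(Subalgebra.comap (IsScalarTower.toAlgHom R M Ω) A)) (↥A ⧸ IsLocalRing.maximalIdeal ↥A) := by
  classical
  haveI : IsNoetherianRing R := hR.1
  have hA' : Groth.Agent.CompositumCplLib.IsLoc 𝔪 A := hA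
  obtain ⟨hf, hs⟩ := Groth.Agent.CompositumCplLib.finite_separable hΩ
  haveI := hf
  haveI := hs
  haveI := Groth.Agent.CompositumCplLib.integralClosure_finite (R := R) (K := K) (Ω := Ω)
  haveI := Groth.Agent.CompositumCplLib.integralClosure_finite (R := R) (K := K) (Ω := M)
  haveI : IsIntegrallyClosed ↥(integralClosure R Ω) := integralClosure.isIntegrallyClosedOfFiniteExtension K
  haveI : IsIntegrallyClosed ↥(integralClosure R M) := integralClosure.isIntegrallyClosedOfFiniteExtension K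
  let ψ : ↥(integralClosure R M) →ₐ[R] ↥(integralClosure R Ω) := Groth.Agent.CompositumCplLib.inclClosure
  letI : Algebra ↥(integralClosure R M) ↥(integralClosure R Ω) := ψ.toRingHom.toAlgebra
  haveI : IsScalarTower R ↥(integralClosure R M) ↥(integralClosure R Ω) := .of_algebraMap_eq fun r => (ψ.commutes r).symm
  haveI : Algebra.IsIntegral ↥(integralClosure R M) ↥(integralClosure R Ω) :=
    ⟨fun w => (Algebra.IsIntegral.isIntegral (R := R) w).tower_top⟩
  haveI : FaithfulSMul ↥(integralClosure R M) ↥(integralClosure R Ω) :=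
    (faithfulSMul_iff_algebraMap_injective _ _).2 fun c d h =>
      Subtype.ext ((algebraMap M Ω).injective (congrArg Subtype.val h :))
  let n := 𝔪.comap ψ
  haveI : n.IsPrime := Ideal.IsPrime.comap _
  haveI : 𝔪.LiesOver n := ⟨rfl⟩
  haveI : n.IsMaximal := Ideal.IsMaximal.under ↥(integralClosure R M) 𝔪
  have hT' := Groth.Agent.CompositumCplLib.isLoc_comap (K := K) (L := M) hA'
  obtain ⟨hAn, hAc, hAg⟩ := hA'.normal_gring hR.2.2.1
  obtain ⟨hTn, hTc, hTg⟩ := hT'.normal_gring hR.2.2.1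
  haveI := hAn
  haveI := hAc
  haveI := hTn
  haveI := hTc
  obtain ⟨hAd, -⟩ := Groth.Agent.CompositumCplLib.normal_cpl ↥A hAg
  obtain ⟨hTd, hTi⟩ := Groth.Agent.CompositumCplLib.normal_cpl ↥(Subalgebra.comap (IsScalarTower.toAlgHom R M Ω) A) hTg
  haveI := hAd
  haveI := hTd
  haveI := hTi
  haveI : IsLocalHom (algebraMap ↥(Subalgebra.comap (IsScalarTower.toAlgHom R M Ω) A) ↥A) :=
    ((IsLocalRing.local_hom_TFAE _).out 4 0).1
      (Ideal.LiesOver.over (P := IsLocalRing.maximalIdeal ↥A) (p := IsLocalRing.maximalIdeal ↥(Subalgebra.comap (IsScalarTower.toAlgHom R M Ω) A))).symm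
  haveI : IsNoetherianRing ↥(integralClosure R Ω) := IsNoetherianRing.of_finite R _
  haveI : IsNoetherianRing ↥(integralClosure R M) := IsNoetherianRing.of_finite R _
  have hdim : ringKrullDim ↥(Subalgebra.comap (IsScalarTower.toAlgHom R M Ω) A) ≤ ringKrullDim ↥A := by
    rw [hA'.ringKrullDim_eq, hT'.ringKrullDim_eq]
    exact WithBot.coe_le_coe.2 ((Ideal.height_eq_height_add_of_liesOver_of_hasGoingDown n 𝔪).ge.trans' le_self_add)
  have hj : (algebraMap ↥(Subalgebra.comap (IsScalarTower.toAlgHom R M Ω) A) ↥A).comp (algebraMap R ↥(Subalgebra.comap (IsScalarTower.toAlgHom R M Ω) A)) = algebraMap R ↥A :=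
    RingHom.ext fun r => Subtype.ext ((hTA _).trans (IsScalarTower.algebraMap_apply R M Ω r).symm)
  let φ : EGA4.Cpl ↥(Subalgebra.comap (IsScalarTower.toAlgHom R M Ω) A) →+* EGA4.Cpl ↥A := algebraMap (EGA4.Cpl ↥(Subalgebra.comap (IsScalarTower.toAlgHom R M Ω) A)) (EGA4.Cpl ↥A)
  have hfrac : ∀ x : EGA4.Cpl ↥A, ∃ a b, φ b ≠ 0 ∧ x * φ b = φ a := by
    intro x
    obtain ⟨r, hr0, ⟨a, b, hb, hab⟩, ⟨c, d, hd, hcd⟩⟩ := Groth.Agent.CompositumCplLib.exists_quotient (L := L) (M := M) hA' hΩ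
      (algebraMap R ↥(Subalgebra.comap (IsScalarTower.toAlgHom R M Ω) A)) (algebraMap ↥(Subalgebra.comap (IsScalarTower.toAlgHom R M Ω) A) ↥A) hj φ hcT (Groth.Agent.CompositumCplLib.fracRange φ)
      (Groth.Agent.CompositumCplLib.range_le_fracRange φ)
      (fun l h => by
        have e : (⟨_, h⟩ : ↥A) = algebraMap ↥(Subalgebra.comap (IsScalarTower.toAlgHom R L Ω) A) ↥A ⟨l, h⟩ := Subtype.ext (hSA ⟨l, h⟩).symm
        rw [e, ← hcS]
        exact hLM _)
      (fun m h => by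
        have e : (⟨_, h⟩ : ↥A) = algebraMap ↥(Subalgebra.comap (IsScalarTower.toAlgHom R M Ω) A) ↥A ⟨m, h⟩ := Subtype.ext (hTA ⟨m, h⟩).symm
        rw [e, ← hcT]
        exact Groth.Agent.CompositumCplLib.range_le_fracRange φ _) x
    refine ⟨b * c, a * d, ?_, ?_⟩
    · rw [map_mul, ← hab]
      exact mul_ne_zero (mul_ne_zero hr0 hb) hd
    · simp only [map_mul, ← hab, ← hcd]
      ring
  obtain ⟨h1, h2⟩ := hA'.main (algebraMap R ↥(Subalgebra.comap (IsScalarTower.toAlgHom R M Ω) A)) (algebraMap ↥(Subalgebra.comap (IsScalarTower.toAlgHom R M Ω) A) ↥A) hj hdim φ hcT hfrac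
  have hsurj : Function.Surjective (algebraMap (↥(Subalgebra.comap (IsScalarTower.toAlgHom R M Ω) A) ⧸ IsLocalRing.maximalIdeal ↥(Subalgebra.comap (IsScalarTower.toAlgHom R M Ω) A)) (↥A ⧸ IsLocalRing.maximalIdeal ↥A)) := by
    intro x
    obtain ⟨a, rfl⟩ := Ideal.Quotient.mk_surjective x
    obtain ⟨t, ht⟩ := h2 a
    exact ⟨Ideal.Quotient.mk _ t, (Ideal.Quotient.eq.2 ht).symm⟩
  letI : Field (↥(Subalgebra.comap (IsScalarTower.toAlgHom R M Ω) A) ⧸ IsLocalRing.maximalIdeal ↥(Subalgebra.comap (IsScalarTower.toAlgHom R M Ω) A)) := Ideal.Quotient.field _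
  letI : Field (↥A ⧸ IsLocalRing.maximalIdeal ↥A) := Ideal.Quotient.field _
  refine ⟨h1, Module.Finite.of_surjective (Algebra.linearMap (↥(Subalgebra.comap (IsScalarTower.toAlgHom R M Ω) A) ⧸ IsLocalRing.maximalIdeal ↥(Subalgebra.comap (IsScalarTower.toAlgHom R M Ω) A)) (↥A ⧸ IsLocalRing.maximalIdeal ↥A)) hsurj, ⟨fun x => ?_⟩⟩
  obtain ⟨y, rfl⟩ := hsurj x
  exact isSeparable_algebraMap y

end Groth.Agent.S18537
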