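import Groth.Statements.S18539
import Mathlib

set_option autoImplicit false
universe u v w
open CAlg

namespace Groth.Agent.S18539

/-- For a commutative ring R, R-modules M and N and elements r₁, r₂ of R such that r₁ is a
non-zero-divisor on N and r₂ is a non-zero-divisor on N/r₁N, the element r₁ is a non-zero-divisor on
the module Hom_R(M, N) and r₂ is a non-zero-divisor on Hom_R(M, N)/r₁Hom_R(M, N). (Weak regularity
on both sides: no condition that the quotient by (r₁, r₂) is nonzero, which would fail for M = 0.) -/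
theorem result
    (R : Type u) [CommRing R] (M : Type v) (N : Type w)
    [AddCommGroup M] [Module R M] [AddCommGroup N] [Module R N]
    (r₁ r₂ : R) (h : RingTheory.Sequence.IsWeaklyRegular N [r₁, r₂]) :
    RingTheory.Sequence.IsWeaklyRegular (M →ₗ[R] N) [r₁, r₂] := by
  simp only [RingTheory.Sequence.isWeaklyRegular_cons_iff] at h ⊢
  obtain ⟨h1, h2, -⟩ := h
  refine ⟨fun φ ψ e => LinearMap.ext fun m => h1 (LinearMap.congr_fun e m), ?_, RingTheory.Sequence.IsWeaklyRegular.nil _ _⟩
  rw [isSMulRegular_iff_right_eq_zero_of_smul]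
  intro φb hφ
  obtain ⟨φ, rfl⟩ := Submodule.Quotient.mk_surjective _ φb
  rw [← Submodule.Quotient.mk_smul, Submodule.Quotient.mk_eq_zero, Submodule.mem_smul_pointwise_iff_exists] at hφ
  obtain ⟨ψ, -, hψ⟩ := hφ
  have hp : ∀ m, ∃ n : N, r₁ • n = φ m := by
    intro m
    have h3 : (Submodule.Quotient.mk (φ m) : QuotSMulTop r₁ N) = 0 := by
      refine (isSMulRegular_iff_right_eq_zero_of_smul.mp h2) _ ?_
      rw [← Submodule.Quotient.mk_smul, Submodule.Quotient.mk_eq_zero, Submodule.mem_smul_pointwise_iff_exists]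
      exact ⟨ψ m, trivial, LinearMap.congr_fun hψ m⟩
    rw [Submodule.Quotient.mk_eq_zero, Submodule.mem_smul_pointwise_iff_exists] at h3
    obtain ⟨n, -, hn⟩ := h3
    exact ⟨n, hn⟩
  choose θ hθ using hp
  rw [Submodule.Quotient.mk_eq_zero, Submodule.mem_smul_pointwise_iff_exists]
  refine ⟨{ toFun := θ, map_add' := fun a b => h1 (by show r₁ • θ _ = r₁ • (θ a + θ b); rw [smul_add, hθ, hθ, hθ, map_add]),
            map_smul' := fun c a => h1 (by show r₁ • θ _ = r₁ • (c • θ a); rw [hθ, smul_comm, hθ, map_smul]) }, trivial, ?_⟩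
  exact LinearMap.ext hθ

end Groth.Agent.S18539
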