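import Groth.Statements.S1854
import Groth.Agent.CycDetLib.Glue
-- import your own Groth.Agent.* helpers here

set_option autoImplicit false
universe u
open TensorProduct
open CycDet TensorProduct

namespace Groth.Agent.S1854

theorem glue_of_length {R : Type u} [CommRing R] [IsLocalRing R] {K L M : Type u} [AddCommGroup K]
    [Module R K] [AddCommGroup L] [Module R L] [AddCommGroup M] [Module R M] (f : K →ₗ[R] L)
    (g : L →ₗ[R] M) {k m n : ℕ} (hn : k + m = n) (nK : Module.length R K = k) (nM : Module.length R M = m)
    (nL : Module.length R L = ((k + m : ℕ) : ℕ∞))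
    (hrK : Module.rank (IsLocalRing.ResidueField R) (CycDet.DetOfLen R K k) ≤ 1)
    (hrM : Module.rank (IsLocalRing.ResidueField R) (CycDet.DetOfLen R M m) ≤ 1)
    (hrL : Module.rank (IsLocalRing.ResidueField R) (CycDet.DetOfLen R L n) ≤ 1)
    (hg : Function.Surjective g) (hfg : LinearMap.range f = LinearMap.ker g) :
    ∃ γ : (CycDet.DetOfLen R K k ⊗[IsLocalRing.ResidueField R] CycDet.DetOfLen R M m) ≃ₗ[IsLocalRing.ResidueField R]
        CycDet.DetOfLen R L n,
      ∀ (eK : CycDet.Adm R K k) (eM : CycDet.Adm R M m) (eL : CycDet.Adm R L n),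
        CycDetLib.cls eK ≠ 0 →
        (∀ i : Fin k, eL.1 (Fin.cast hn (Fin.castAdd m i)) = f (eK.1 i)) →
        (∀ j : Fin m, g (eL.1 (Fin.cast hn (Fin.natAdd k j))) = eM.1 j) →
        γ (CycDetLib.cls eK ⊗ₜ CycDetLib.cls eM) = CycDetLib.cls eL := by
  subst hn
  obtain ⟨γ, hγ⟩ := CycDetLib.exists_gamma f g nK nM nL hrK hrM hrL hg hfg
  exact ⟨γ, fun eK eM eL hne h1 h2 => hγ eK eM eL hne h1 h2⟩

/-- Existence and the defining rule; the compatibilities (1)–(3) of the source are not restated: let 0 →
K → L → M → 0 be a short exact sequence of finite length modules over a local ring with residue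
field κ. There is a κ-linear isomorphism γ : det_κ(K) ⊗ det_κ(M) → det_κ(L) such that whenever (e_i)
is an admissible tuple of K with nonzero symbol, (f̄_j) an admissible tuple of M, and (g) the
admissible tuple of L consisting of the images of the e_i followed by lifts of the f̄_j, one has
γ([e] ⊗ [f̄]) = [g]. -/
theorem result (R : Type u) [CommRing R] [IsLocalRing R] (K L M : Type u) [AddCommGroup K] [Module R K] [AddCommGroup L] [Module R L] [AddCommGroup M] [Module R M] (hK : IsFiniteLength R K) (hM : IsFiniteLength R M) (f : K →ₗ[R] L) (g : L →ₗ[R] M) (hf : Function.Injective f) (hg : Function.Surjective g) (hfg : LinearMap.range f = LinearMap.ker g) (hlen : (Module.length R K).toNat + (Module.length R M).toNat = (Module.length R L).toNat) : ∃ γ : (CycDet.Det R K ⊗[IsLocalRing.ResidueField R] CycDet.Det R M) ≃ₗ[IsLocalRing.ResidueField R] CycDet.Det R L, ∀ (eK : CycDet.Adm R K (Module.length R K).toNat) (eM : CycDet.Adm R M (Module.length R M).toNat) (eL : CycDet.Adm R L (Module.length R L).toNat), CycDet.symbol R K eK ≠ 0 → (∀ i :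 Fin (Module.length R K).toNat, eL.1 (Fin.cast hlen (Fin.castAdd (Module.length R M).toNat i)) = f (eK.1 i)) → (∀ j : Fin (Module.length R M).toNat, g (eL.1 (Fin.cast hlen (Fin.natAdd (Module.length R K).toNat j))) = eM.1 j) → γ (CycDet.symbol R K eK ⊗ₜ CycDet.symbol R M eM) = CycDet.symbol R L eL := by
  classical
  have nK := (ENat.natCast_toNat (Module.length_ne_top_iff.2 hK)).symm
  have nM := (ENat.natCast_toNat (Module.length_ne_top_iff.2 hM)).symm
  have nL : Module.length R L = (((Module.length R K).toNat + (Module.length R M).toNat : ℕ) : ℕ∞) := by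
    rw [Module.length_eq_add_of_exact f g hf hg (LinearMap.exact_iff.2 hfg.symm), Nat.cast_add, ← nK, ← nM]
  have hfl : IsFiniteLength R L := Module.length_ne_top_iff.1 (by rw [nL]; exact ENat.natCast_ne_top _)
  have hrK := Groth.Agent.S1838.result R K hK
  have hrM := Groth.Agent.S1838.result R M hM
  have hrL := Groth.Agent.S1838.result R L hfl
  exact glue_of_length f g hlen nK nM nL hrK hrM hrL hg hfg

end Groth.Agent.S1854
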