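import Groth.Statements.S18541
import Groth.Agent.WeilAVLib.DualTr
import Groth.Agent.WeilAVLib.FrobPull

set_option autoImplicit false
universe u
open CategoryTheory MonoidalCategory CartesianMonoidalCategory MonObj GrpObj AlgebraicGeometry
open AbVar

namespace Groth.Agent.S18541

open CategoryTheory CategoryTheory.Limits AlgebraicGeometry

open Groth.Agent
set_option backward.isDefEq.respectTransparency false
set_option synthInstance.maxHeartbeats 400000
set_option maxHeartbeats 1000000

/-- Let k be a finite field with q elements and A an abelian variety over k (a commutative group scheme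
over k which is smooth and proper with geometrically connected fibres), given with a dual (A^t, φ)
for the fppf topology. Let π : A → A be the q-power Frobenius endomorphism of A (the identity on the
underlying space and the q-th power map on sections; a homomorphism) and π^t : A^t → A^t a transpose
of π. Let L be an invertible module on A and λ_L : A → A^t the homomorphism Λ(L) attached to L
through φ. Then π followed by λ_L followed by π^t is q·λ_L, the q-th power of λ_L in the group of
morphisms A → A^t. (The published statement fixes L ample and reads π^‡ ∘ π = [q] for the Rosati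
involution ‡ of L; its proof rewrites this as the displayed identity, which uses only that L is
invertible.) -/
theorem result (k : Type u) [Field k] [Finite k]
    (A At : Over (Spec (CommRingCat.of k)))
    [GrpObj A] [IsCommMonObj A] [Smooth A.hom] [IsProper A.hom] [GeometricallyConnected A.hom]
    [GrpObj At] [IsCommMonObj At]
    (φ : AgPol.DualMap A At) (hdual : AbDual.IsDualAV Scheme.fppfPrecoverage A At φ)
    (π : A ⟶ A) [IsMonHom π] (hπb : π.left.base = 𝟙 _) (hπle : ∀ U : A.left.Opens, U ≤ π.left ⁻¹ᵁ U)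
    (hπapp : ∀ (U : A.left.Opens) (s : Γ(A.left, U)), (π.left.appLE U U (hπle U)).hom s = s ^ Nat.card k)
    (πt : At ⟶ At) [IsMonHom πt] (hπt : AbDual.IsTranspose π φ φ πt)
    (L : A.left.Modules) (hL : PicF.IsInvertible L) (lam : A ⟶ At) (hlam : AgPol.IsLambda A At φ L lam) :
    π ≫ lam ≫ πt = lam ^ Nat.card k := by
  obtain ⟨N, hN, ⟨e⟩, rfl⟩ := hlam
  haveI : GeometricallyIntegral A.hom := AbDualLib.geometricallyIntegral_of_smooth A
  set q := Nat.card k with hq
  set d := PicLib.cls hL with hd
  set c := WeilAVLib.lamCl d with hc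
  have hNc : PicLib.cls hN = c := by
    have hp := AmpleLib.isInvertible_pullback (fst A A).left hL
    have hq := AmpleLib.isInvertible_pullback (snd A A).left hL
    have hm := AmpleLib.isInvertible_pullback μ[A].left hL
    have h := (PicLib.cls_eq_cls (AmpleLib.isInvertible_tensor (AmpleLib.isInvertible_tensor hN hp) hq) hm).2 ⟨e⟩
    rw [PicLib.cls_tensor (AmpleLib.isInvertible_tensor hN hp) hq, PicLib.cls_tensor hN hp, ← PicLib.pull_cls _ hL,
      ← PicLib.pull_cls _ hL, ← PicLib.pull_cls _ hL] at h
    rw [hc, WeilAVLib.lamCl, DegPolyLib.bil, DegPolyLib.phi, DegPolyLib.phi, DegPolyLib.phi,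
      show (fst A A * snd A A).left = μ[A].left from by rw [Hom.mul_def, lift_fst_snd, Category.id_comp],
      eq_div_iff_mul_eq', ← _root_.mul_assoc]
    exact h
  show π ≫ φ A (AbDualLib.toCl (PicLib.cls hN)) ≫ πt = φ A (AbDualLib.toCl (PicLib.cls hN)) ^ q
  rw [hNc]
  change π ≫ AbDualLib.ph φ A c ≫ πt = AbDualLib.ph φ A c ^ q
  have h1 : PicLib.pull (PicF.XTmap A.hom η[A]) c = 1 := by
    rw [WeilAVLib.XTmap_eq]
    show PicLib.pull (A ◁ η[A]).left (DegPolyLib.bil d (fst A A) (snd A A)) = 1
    rw [WeilAVLib.pull_bil, whiskerLeft_fst, whiskerLeft_snd,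
      show snd A (𝟙_ _) ≫ η[A] = (1 : A ⊗ 𝟙_ (Over (Spec (CommRingCat.of k))) ⟶ A) from by
        rw [Hom.one_def, toUnit_unique (snd A (𝟙_ _)) (toUnit _)],
      DegPolyLib.bil, DegPolyLib.phi, DegPolyLib.phi, DegPolyLib.phi, AVLib.pull_one, _root_.mul_one, _root_.mul_one,
      div_self']
  have hpz : ∀ n : ℕ, AbDualLib.IsPZ A A (c ^ n) := fun n => by
    refine AbDualLib.isPZ_of_family η[A] ?_
    rw [map_pow, h1, one_pow]
  have hph : ∀ n : ℕ, AbDualLib.ph φ A (c ^ n) = AbDualLib.ph φ A c ^ n := fun n => by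
    induction n with
    | zero =>
      have h := AbDualLib.ph_mul hdual (hpz 0) (hpz 0)
      rw [pow_zero, _root_.mul_one] at h
      rw [pow_zero, pow_zero]
      exact mul_eq_left.1 h.symm
    | succ n ih =>
      have h := AbDualLib.ph_mul hdual (hpz n) ((pow_one c) ▸ hpz 1)
      rw [pow_succ, h, ih, pow_succ]
  have hF : CogenLib.IsQFrob q π.left := ⟨hπb, hπle, hπapp⟩
  have hcpz : AbDualLib.IsPZ A A c := (pow_one c) ▸ hpz 1
  have hX : AbDualLib.IsPZ A A (PicLib.pull (PicF.XTmap A.hom π) c) := AbDualLib.isPZ_pull_XTmap π hcpz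
  rw [← Category.assoc, ← AbDualLib.ph_natural hdual π hcpz, ← hph q]
  refine (hπt A _ hX).symm.trans ?_
  show φ A (PicF.pullCl _ (AbDualLib.toCl _)) = _
  rw [← AbDualLib.toCl_pull]
  show AbDualLib.ph φ A _ = _
  congr 1
  rw [← PicLib.pull_comp]
  obtain ⟨π₂, h₂⟩ := CogenLib.exists_frobOver (A ⊗ A)
  have e2 : AbDual.bcMap π A ≫ PicF.XTmap A.hom π = π₂.left := by
    rw [show π₂ = π ⊗ₘ π from hom_ext _ _ (by rw [tensorHom_fst, CogenLib.comm_over h₂ hF])
      (by rw [tensorHom_snd, CogenLib.comm_over h₂ hF])]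
    apply pullback.hom_ext
    · rw [Category.assoc]
      show AbDual.bcMap π A ≫ PicF.XTmap A.hom π ≫ pullback.fst A.hom A.hom = (π ⊗ₘ π).left ≫ (fst A A).left
      rw [← Over.comp_left, tensorHom_fst, Over.comp_left]
      simp only [AbDual.bcMap, PicF.XTmap, pullback.lift_fst, Category.comp_id]
      rfl
    · rw [Category.assoc]
      show AbDual.bcMap π A ≫ PicF.XTmap A.hom π ≫ pullback.snd A.hom A.hom = (π ⊗ₘ π).left ≫ (snd A A).left
      rw [← Over.comp_left, tensorHom_snd, Over.comp_left]
      simp only [AbDual.bcMap, PicF.XTmap, pullback.lift_snd, pullback.lift_snd_assoc, Category.comp_id]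
      rfl
  rw [e2]
  exact WeilAVLib.pull_frob h₂ c

end Groth.Agent.S18541
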