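import Groth.Statements.S18542
import Groth.Agent.AVPtsLib.Dense
import Groth.Agent.RatDenseLib.Group
import Groth.Agent.AVLib.GeomInt

set_option autoImplicit false
universe u
open CategoryTheory MonoidalCategory CartesianMonoidalCategory MonObj GrpObj AlgebraicGeometry
open AbVar

namespace Groth.Agent.S18542

open CategoryTheory CategoryTheory.Limits AlgebraicGeometry

open Groth.Agent
set_option backward.isDefEq.respectTransparency false

/-- Let k be an algebraically closed field, ℓ a prime number invertible in k and A an abelian variety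
over k (a commutative group scheme over k which is smooth and proper with geometrically connected
fibres). Then the set A[ℓ^∞](k) of ℓ-power torsion k-points is Zariski dense in A: the union over
all n of the images, in the underlying topological space of A, of the k-valued points a of A with
a^(ℓ^n) = 1 in the group of k-points is dense. -/
theorem result (k : Type u) [Field k] [IsAlgClosed k]
    (A : Over (Spec (CommRingCat.of k)))
    [GrpObj A] [IsCommMonObj A] [Smooth A.hom] [IsProper A.hom] [GeometricallyConnected A.hom]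
    (l : ℕ) [Fact l.Prime] (hl : (l : k) ≠ 0) :
    Dense (⋃ (n : ℕ) (a : (Over.mk (𝟙 (Spec (CommRingCat.of k)))) ⟶ A)
      (_ : a ∈ AbDual.torsPts A (l ^ n) (Over.mk (𝟙 (Spec (CommRingCat.of k))))), Set.range a.left.base) := by
  haveI := AVLib.geometricallyIntegral_of_smooth A
  let S : Subgroup (𝟙_ (Over (Spec (CommRingCat.of k))) ⟶ A) :=
    { carrier := {y | ∃ n : ℕ, y ^ l ^ n = 1}
      one_mem' := ⟨0, one_pow _⟩
      mul_mem' := by
        rintro a b ⟨n, hn⟩ ⟨m, hm⟩
        refine ⟨n + m, ?_⟩
        rw [_root_.mul_pow, pow_add]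
        nth_rewrite 2 [_root_.mul_comm (l ^ n)]
        rw [pow_mul, pow_mul, hn, hm, one_pow, one_pow, _root_.mul_one]
      inv_mem' := by
        rintro a ⟨n, hn⟩
        exact ⟨n, by rw [inv_pow, hn, inv_one]⟩ }
  obtain ⟨H, hH, i, hi, hc, -, hr⟩ := RatDenseLib.exists_closure_subgroup A S
  letI := hH
  haveI := hi
  haveI := hc
  haveI := RatDenseLib.isReduced_unit (k := k)
  have hs := AVPtsLib.surjective_of_torsion l hl i fun n y hy => by
    refine RatDenseLib.exists_lift i y ?_
    rw [RatDenseLib.range_unit, Set.singleton_subset_iff, hr]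
    exact subset_closure ⟨y, ⟨n, hy⟩, rfl⟩
  have hu : closure (RatDenseLib.pt '' (S : Set (𝟙_ (Over (Spec (CommRingCat.of k))) ⟶ A))) = Set.univ := by rw [← hr, hs.surj.range_eq]
  refine (dense_iff_closure_eq.2 hu).mono ?_
  rintro _ ⟨y, ⟨n, hy⟩, rfl⟩
  exact Set.mem_iUnion.2 ⟨n, Set.mem_iUnion.2 ⟨y, Set.mem_iUnion.2 ⟨hy, ⟨_, rfl⟩⟩⟩⟩


end Groth.Agent.S18542
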