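import Groth.Statements.S18544
import Mathlib

set_option autoImplicit false
universe u
open CAlg

namespace Groth.Agent.S18544

/-- Let F be an algebraically closed field of characteristic zero, n a natural number, and N a nonzero
polynomial over F in the n² matrix entries whose evaluation on n × n matrices is multiplicative,
N(xy) = N(x)·N(y) for all x, y (a norm form on the matrix algebra M_n(F) over F). Then N is a
natural power of the determinant: for some m, N(x) = det(x)^m for every matrix x. The published
statement concerns norm forms of any central simple algebra over a subfield; this row is the case of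
the full matrix algebra over an algebraically closed field, which is the case its proof treats. -/
theorem result (F : Type u) [Field F] [IsAlgClosed F]
    [CharZero F] (n : ℕ) (N : MvPolynomial (Fin n × Fin n) F) (hN : N ≠ 0)
    (hmul : ∀ x y : Matrix (Fin n) (Fin n) F,
      MvPolynomial.eval (fun ij : Fin n × Fin n => (x * y) ij.1 ij.2) N =
        MvPolynomial.eval (fun ij : Fin n × Fin n => x ij.1 ij.2) N * MvPolynomial.eval (fun ij : Fin n × Fin n => y ij.1 ij.2) N) :
    ∃ m : ℕ, ∀ x : Matrix (Fin n) (Fin n) F,
      MvPolynomial.eval (fun ij : Fin n × Fin n => x ij.1 ij.2) N = x.det ^ m := by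
  classical
  let ν : Matrix (Fin n) (Fin n) F → F := fun x => MvPolynomial.eval (fun ij : Fin n × Fin n => x ij.1 ij.2) N
  have hν : ∀ x y, ν (x * y) = ν x * ν y := hmul
  have h1 : ν 1 = 1 := by
    obtain ⟨x, hx⟩ : ∃ x, ν x ≠ 0 := by
      by_contra! h
      exact hN (MvPolynomial.funext fun v => by simpa [ν] using h (Matrix.of fun i j => v (i, j)))
    have := hν x 1
    rw [mul_one] at this
    exact mul_left_cancel₀ hx (by rw [mul_one]; exact this.symm)
  have curve : ∀ M : Matrix (Fin n) (Fin n) (Polynomial F), ∃ g : Polynomial F, ∀ t, g.eval t = ν (M.map (fun q => q.eval t)) := fun M =>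
    ⟨MvPolynomial.aeval (fun ij : Fin n × Fin n => M ij.1 ij.2) N, fun t => by
      rw [← Polynomial.coe_evalRingHom, MvPolynomial.map_aeval, RingHom.ext (fun r => by simp : ∀ r, ((Polynomial.evalRingHom t).comp (algebraMap F (Polynomial F))) r = RingHom.id F r)]
      rfl⟩
  have htrans : ∀ t : Matrix.TransvectionStruct (Fin n) F, ν t.toMatrix = 1 := by
    rintro ⟨i, j, hij, c⟩
    obtain ⟨g, hg⟩ := curve (Matrix.transvection i j Polynomial.X)
    have hg' : ∀ t, g.eval t = ν (Matrix.transvection i j t) := fun t => by
      rw [hg]; congr 1; ext a b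
      simp only [Matrix.transvection, Matrix.map_apply, Matrix.add_apply, Matrix.one_apply, Matrix.single_apply]
      split_ifs <;> simp
    have hsq : ∀ t, g.eval (2 * t) = g.eval t * g.eval t := fun t => by
      rw [hg', hg', ← hν, Matrix.transvection_mul_transvection_same _ _ hij, two_mul]
    have hp : g.comp (Polynomial.C 2 * Polynomial.X) = g * g := Polynomial.funext fun t => by simp [hsq]
    have hd : g.natDegree = 0 := by
      by_cases h0 : g = 0
      · simp [h0]
      have := congrArg Polynomial.natDegree hp
      rw [Polynomial.natDegree_comp, Polynomial.natDegree_C_mul_X _ two_ne_zero, mul_one, Polynomial.natDegree_mul h0 h0] at this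
      omega
    obtain ⟨r, hr⟩ := Polynomial.natDegree_eq_zero.mp hd
    show ν (Matrix.transvection i j c) = 1
    rw [← hg', ← hr, Polynomial.eval_C]
    have := hg' 0
    rw [← hr, Polynomial.eval_C, Matrix.transvection_zero, h1] at this
    exact this
  let δ : Fin n → F → Matrix (Fin n) (Fin n) F := fun i t => Matrix.diagonal (fun a => if a = i then t else 1)
  have hdiag1 : ∀ i, ∃ k : ℕ, ∀ t, ν (δ i t) = t ^ k := by
    intro i
    obtain ⟨g, hg⟩ := curve (Matrix.diagonal (fun a => if a = i then Polynomial.X else 1))
    have hg' : ∀ t, g.eval t = ν (δ i t) := fun t => by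
      rw [hg, Matrix.diagonal_map (by simp)]
      congr 2; funext a; split_ifs <;> simp
    have hmulg : ∀ t s, g.eval (t * s) = g.eval t * g.eval s := fun t s => by
      rw [hg', hg', hg', ← hν]
      simp only [δ, Matrix.diagonal_mul_diagonal]
      congr 2; funext a; split_ifs <;> simp
    have hone : g.eval 1 = 1 := by
      rw [hg', show δ i 1 = 1 by simp [δ], h1]
    have hp : g.comp (Polynomial.C 2 * Polynomial.X) = Polynomial.C (g.eval 2) * g := Polynomial.funext fun t => by simp [hmulg]
    have hne : g ≠ 0 := fun h => by simp [h] at hone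
    have hmono : ∀ j, g.coeff j ≠ 0 → j = g.natDegree := by
      intro j hj
      have hc : ∀ l, g.coeff l ≠ 0 → (2 : F) ^ l = g.eval 2 := fun l hl => by
        have := congrArg (Polynomial.coeff · l) hp
        simp only [Polynomial.comp_C_mul_X_coeff, Polynomial.coeff_C_mul] at this
        exact mul_left_cancel₀ hl (by rw [this, mul_comm])
      have := (hc j hj).trans (hc g.natDegree (by rw [Polynomial.coeff_natDegree]; exact Polynomial.leadingCoeff_ne_zero.mpr hne)).symm
      exact Nat.pow_right_injective le_rfl (by exact_mod_cast this)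
    have hg2 : g = Polynomial.C g.leadingCoeff * Polynomial.X ^ g.natDegree := by
      ext j
      rw [Polynomial.coeff_C_mul_X_pow]
      split_ifs with h
      · rw [h]; rfl
      · by_contra h'; exact h (hmono j h')
    have hlc : g.leadingCoeff = 1 := by
      rw [hg2] at hone; simpa using hone
    exact ⟨g.natDegree, fun t => by rw [← hg']; conv_lhs => rw [hg2, hlc]; simp⟩
  choose k hk using hdiag1
  have hkeq : ∀ i j, k i = k j := by
    intro i j
    have hs : Matrix.swap F i j * Matrix.swap F i j = 1 := Matrix.swap_mul_self i j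
    have hconj : ∀ t, Matrix.swap F i j * δ i t * Matrix.swap F i j = δ j t := fun t => by
      ext a b
      rw [Matrix.swap, PEquiv.toMatrix_toPEquiv_mul, PEquiv.mul_toMatrix_toPEquiv]
      simp only [Matrix.submatrix_apply, id_eq, δ, Matrix.diagonal_apply, Equiv.symm_swap, EmbeddingLike.apply_eq_iff_eq]
      by_cases hab : a = b
      · subst hab; by_cases ha : a = j <;> simp [ha, Equiv.swap_apply_eq_iff]
      · rw [if_neg hab, if_neg hab]
    have h2 : ∀ t : F, t ^ k i = t ^ k j := fun t => by
      rw [← hk, ← hk, ← hconj t, hν, hν, mul_comm (ν (Matrix.swap F i j)), mul_assoc, ← hν, hs, h1, mul_one]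
    exact Nat.pow_right_injective le_rfl (by exact_mod_cast h2 2)
  obtain ⟨m, hm⟩ : ∃ m, ∀ i, k i = m := by
    rcases isEmpty_or_nonempty (Fin n) with h | ⟨⟨i₀⟩⟩
    · exact ⟨0, fun i => h.elim i⟩
    · exact ⟨k i₀, fun i => hkeq i i₀⟩
  have hD : ∀ D : Fin n → F, ν (Matrix.diagonal D) = (∏ a, D a) ^ m := by
    intro D
    suffices H : ∀ s : Finset (Fin n), ν (Matrix.diagonal fun a => if a ∈ s then D a else 1) = (∏ a ∈ s, D a) ^ m by
      simpa using H Finset.univ
    intro s
    induction s using Finset.induction_on with
    | empty => simp [h1]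
    | insert a s ha ih =>
      rw [Finset.prod_insert ha, mul_pow, ← ih, ← hm a, ← hk a (D a), ← hν]
      simp only [δ, Matrix.diagonal_mul_diagonal]
      congr 2; funext b
      by_cases hb : b = a
      · subst hb; simp [ha]
      · simp [hb]
  have hinv : ∀ M : Matrix (Fin n) (Fin n) F, M.det ≠ 0 → ν M = M.det ^ m := fun M hM =>
    Matrix.diagonal_transvection_induction_of_det_ne_zero (fun M => ν M = M.det ^ m) M hM
      (fun D _ => by rw [hD, Matrix.det_diagonal]) (fun t => by rw [htrans, Matrix.TransvectionStruct.det, one_pow])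
      (fun A B _ _ hA hB => by rw [hν, hA, hB, Matrix.det_mul, mul_pow])
  refine ⟨m, fun x => ?_⟩
  let Δ := (Matrix.mvPolynomialX (Fin n) (Fin n) F).det
  have hΔ : ∀ v : Fin n × Fin n → F, MvPolynomial.eval v Δ = (Matrix.of fun i j => v (i, j)).det := fun v => by
    rw [RingHom.map_det]; congr 1; ext i j; simp
  have hz : (N - Δ ^ m) * Δ = 0 := MvPolynomial.funext fun v => by
    rw [map_mul, map_sub, map_pow, hΔ, map_zero]
    by_cases hd : (Matrix.of fun i j => v (i, j)).det = 0
    · rw [hd, mul_zero]
    · rw [← hinv _ hd]; simp [ν]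
  rw [(mul_eq_zero.mp hz).resolve_right (Matrix.det_mvPolynomialX_ne_zero (Fin n) F) |> sub_eq_zero.mp, map_pow, hΔ]
  congr 2

end Groth.Agent.S18544
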