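import Groth.Statements.S18545
import Mathlib

set_option autoImplicit false
universe u
open AbVar

namespace Groth.Agent.S18545

/-- A step in the proof of Tate's isogeny result over finite fields, in linear-algebra form. Let K be a
field and V a K-vector space of finite dimension 2g carrying a nondegenerate alternating bilinear
form e. Let F be a K-subalgebra of End(V) which is isomorphic as a K-algebra to a finite product K ×
⋯ × K and which is spanned over K by a set S of similitudes of e (for each s in S there is a nonzero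
scalar c with e(s x, s y) = c·e(x, y) for all x, y). Let D be a set of endomorphisms of V such that
every F-stable isotropic subspace W of dimension g (a maximal isotropic subspace) is D-stable. Then
every F-stable isotropic subspace of V is D-stable. (In the application V is the rational ℓ-adic
Tate module of an abelian variety over a finite field with the Riemann form of a polarisation, F the
algebra generated by the Galois group, split for the chosen ℓ, and D the commutant of the image of
the endomorphism algebra; the hypothesis on maximal isotropic subspaces is the step obtained from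
the finiteness of isomorphism classes.) -/
theorem result (K : Type u) [Field K]
    (V : Type u) [AddCommGroup V] [Module K V] [FiniteDimensional K V] (g : ℕ) (hV : Module.finrank K V = 2 * g)
    (e : LinearMap.BilinForm K V) (he : e.IsAlt) (hnd : e.Nondegenerate)
    (F : Subalgebra K (Module.End K V)) (r : ℕ) (hF : Nonempty (F ≃ₐ[K] (Fin r → K)))
    (S : Set (Module.End K V)) (hS : Submodule.span K S = Subalgebra.toSubmodule F)
    (hsim : ∀ s ∈ S, ∃ c : K, c ≠ 0 ∧ ∀ x y : V, e (s x) (s y) = c * e x y)
    (D : Set (Module.End K V))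
    (hmax : ∀ W : Submodule K V, (∀ f ∈ F, ∀ w ∈ W, f w ∈ W) → (∀ x ∈ W, ∀ y ∈ W, e x y = 0) →
      Module.finrank K W = g → ∀ d ∈ D, ∀ w ∈ W, d w ∈ W)
    (W : Submodule K V) (hWF : ∀ f ∈ F, ∀ w ∈ W, f w ∈ W) (hWiso : ∀ x ∈ W, ∀ y ∈ W, e x y = 0) :
    ∀ d ∈ D, ∀ w ∈ W, d w ∈ W := by
  classical
  obtain ⟨φ⟩ := hF
  let π : Fin r → Module.End K V := fun i => (φ.symm (Pi.single i 1) : Module.End K V)
  have hπF : ∀ i, π i ∈ F := fun i => (φ.symm (Pi.single i 1)).2
  have hsum : ∀ x : V, ∑ i, π i x = x := by
    intro x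
    have h1 : ∑ i, φ.symm (Pi.single i 1) = 1 := by
      rw [← map_sum, Finset.univ_sum_single, show (fun _ : Fin r => (1 : K)) = 1 from rfl, map_one]
    have h2 := congrArg (fun z : F => (z : Module.End K V) x) h1
    simpa [π] using h2
  have heig : ∀ (f) (hf : f ∈ F), ∀ i x, f (π i x) = φ ⟨f, hf⟩ i • π i x := by
    intro f hf i x
    have h1 : (⟨f, hf⟩ : F) * φ.symm (Pi.single i 1) = φ ⟨f, hf⟩ i • φ.symm (Pi.single i 1) := by
      apply φ.injective
      rw [map_mul, map_smul, φ.apply_symm_apply]
      funext j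
      by_cases h : j = i
      · subst h; simp
      · simp [h]
    exact congrArg (fun z : F => (z : Module.End K V) x) h1
  -- stability under `F` is stability under `S`
  have hFS : ∀ U : Submodule K V, (∀ s ∈ S, ∀ u ∈ U, s u ∈ U) → ∀ f ∈ F, ∀ u ∈ U, f u ∈ U := by
    intro U h f hf
    have hf' : f ∈ Submodule.span K S := by rw [hS]; exact hf
    induction hf' using Submodule.span_induction with
    | mem s hs => exact h s hs
    | zero => intro u _; simp
    | add x y hx hy ihx ihy =>
      intro u hu
      rw [hS] at hx hy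
      exact U.add_mem (ihx hx u hu) (ihy hy u hu)
    | smul c x hx ihx =>
      intro u hu
      rw [hS] at hx
      exact U.smul_mem c (ihx hx u hu)
  have hsF : ∀ s ∈ S, s ∈ F := fun s hs => by
    have h1 : s ∈ Submodule.span K S := Submodule.subset_span hs
    rw [hS] at h1
    exact h1
  have hperp : ∀ U : Submodule K V, (∀ f ∈ F, ∀ u ∈ U, f u ∈ U) →
      ∀ f ∈ F, ∀ u ∈ e.orthogonal U, f u ∈ e.orthogonal U := by
    intro U hU
    refine hFS _ fun s hs u hu => ?_
    obtain ⟨c, hc, hsc⟩ := hsim s hs
    rw [LinearMap.BilinForm.mem_orthogonal_iff] at hu ⊢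
    intro w hw
    have hinj : Function.Injective s := by
      refine (injective_iff_map_eq_zero s).2 fun x hx => hnd.1 x fun y => ?_
      have := hsc x y
      rw [hx, LinearMap.map_zero₂] at this
      exact (mul_eq_zero.1 this.symm).resolve_left hc
    have hsU : Function.Surjective (s.restrict (fun x hx => hU s (hsF s hs) x hx) : U →ₗ[K] U) :=
      LinearMap.injective_iff_surjective.1 fun x y h => Subtype.ext (hinj (congrArg Subtype.val h))
    obtain ⟨w', hw'⟩ := hsU ⟨w, hw⟩
    have hw'' : s w'.1 = w := congrArg Subtype.val hw'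
    show e w (s u) = 0
    rw [← hw'', hsc, hu w'.1 w'.2, mul_zero]
  -- extend isotropic F-stable subspaces
  have hext : ∀ n, ∀ U : Submodule K V, (∀ f ∈ F, ∀ u ∈ U, f u ∈ U) → (∀ x ∈ U, ∀ y ∈ U, e x y = 0) →
      2 * g ≤ n + Module.finrank K U →
      ∃ W' : Submodule K V, U ≤ W' ∧ (∀ f ∈ F, ∀ u ∈ W', f u ∈ W') ∧ (∀ x ∈ W', ∀ y ∈ W', e x y = 0) ∧
        Module.finrank K W' = g := by
    intro n
    induction n with
    | zero =>
      intro U hU hiso hn
      have h1 : U ≤ e.orthogonal U := fun x hx => by
        rw [LinearMap.BilinForm.mem_orthogonal_iff]; exact fun y hy => hiso y hy x hx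
      have h2 := Submodule.finrank_mono h1
      rw [LinearMap.BilinForm.finrank_orthogonal hnd, hV] at h2
      exact ⟨U, le_rfl, hU, hiso, by omega⟩
    | succ n ih =>
      intro U hU hiso hn
      have h1 : U ≤ e.orthogonal U := fun x hx => by
        rw [LinearMap.BilinForm.mem_orthogonal_iff]; exact fun y hy => hiso y hy x hx
      by_cases heq : e.orthogonal U ≤ U
      · have h2 := congrArg (fun M : Submodule K V => Module.finrank K M) (le_antisymm h1 heq)
        simp only [LinearMap.BilinForm.finrank_orthogonal hnd, hV] at h2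
        exact ⟨U, le_rfl, hU, hiso, by omega⟩
      · obtain ⟨z, hz, hzU⟩ := SetLike.not_le_iff_exists.1 heq
        obtain ⟨i, hi⟩ : ∃ i, π i z ∉ U := by
          by_contra h
          push Not at h
          exact hzU (hsum z ▸ U.sum_mem fun i _ => h i)
        set v := π i z
        have hv : v ∈ e.orthogonal U := hperp U hU _ (hπF i) z hz
        have hvorth : ∀ y ∈ U, e y v = 0 := (LinearMap.BilinForm.mem_orthogonal_iff.1 hv)
        suffices hh : ∃ W' : Submodule K V, U ⊔ Submodule.span K {v} ≤ W' ∧ (∀ f ∈ F, ∀ u ∈ W', f u ∈ W') ∧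
            (∀ x ∈ W', ∀ y ∈ W', e x y = 0) ∧ Module.finrank K W' = g from
          (Exists.elim hh fun W' h => ⟨W', le_trans le_sup_left h.1, h.2⟩)
        refine ih (U ⊔ Submodule.span K {v}) ?_ ?_ ?_
        · intro f hf u hu
          obtain ⟨y, hy, w, hw, rfl⟩ := Submodule.mem_sup.1 hu
          obtain ⟨c, rfl⟩ := Submodule.mem_span_singleton.1 hw
          rw [map_add, map_smul, heig f hf i z]
          exact Submodule.add_mem_sup (hU f hf y hy)
            (Submodule.smul_mem _ c (Submodule.smul_mem _ _ (Submodule.mem_span_singleton_self v)))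
        · intro x hx y hy
          obtain ⟨x1, hx1, x2, hx2, rfl⟩ := Submodule.mem_sup.1 hx
          obtain ⟨a, rfl⟩ := Submodule.mem_span_singleton.1 hx2
          obtain ⟨y1, hy1, y2, hy2, rfl⟩ := Submodule.mem_sup.1 hy
          obtain ⟨b, rfl⟩ := Submodule.mem_span_singleton.1 hy2
          have h4 : e v v = 0 := he v
          have h5 : e v y1 = 0 := he.isRefl _ _ (hvorth y1 hy1)
          simp [hiso x1 hx1 y1 hy1, hvorth x1 hx1, h5, h4]
        · have hlt : U < U ⊔ Submodule.span K {v} :=
            lt_of_le_of_ne le_sup_left fun h => hi (h ▸ Submodule.mem_sup_right (Submodule.mem_span_singleton_self v))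
          have := Submodule.finrank_lt_finrank_of_lt hlt
          omega
  have hmain : ∀ U : Submodule K V, W ≤ U → (∀ f ∈ F, ∀ u ∈ U, f u ∈ U) → (∀ x ∈ U, ∀ y ∈ U, e x y = 0) →
      ∀ d ∈ D, ∀ w ∈ W, ∀ u ∈ U, e u (d w) = 0 := by
    intro U hWU hU hiso d hd w hw u hu
    obtain ⟨W', hle, hW', hiso', hdim⟩ := hext (2 * g) U hU hiso (by omega)
    exact hiso' u (hle hu) (d w) (hmax W' hW' hiso' hdim d hd w (hle (hWU hw)))
  intro d hd w hw
  have hy : d w ∈ e.orthogonal W := by
    rw [LinearMap.BilinForm.mem_orthogonal_iff]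
    exact fun u hu => hmain W le_rfl hWF hWiso d hd w hw u hu
  by_contra hyW
  have hnot : d w ∉ e.orthogonal (e.orthogonal W) := by
    rwa [LinearMap.BilinForm.orthogonal_orthogonal hnd he.isRefl]
  rw [LinearMap.BilinForm.mem_orthogonal_iff] at hnot
  push Not at hnot
  obtain ⟨z, hz, hne⟩ := hnot
  apply hne
  show e z (d w) = 0
  conv_lhs => rw [← hsum z]
  rw [map_sum, LinearMap.sum_apply]
  refine Finset.sum_eq_zero fun i _ => ?_
  set v := π i z
  have hv : v ∈ e.orthogonal W := hperp W hWF _ (hπF i) z hz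
  have hvorth : ∀ y ∈ W, e y v = 0 := (LinearMap.BilinForm.mem_orthogonal_iff.1 hv)
  refine hmain (W ⊔ Submodule.span K {v}) le_sup_left ?_ ?_ d hd w hw v
    (Submodule.mem_sup_right (Submodule.mem_span_singleton_self v))
  · intro f hf u hu
    obtain ⟨y, hy, t, ht, rfl⟩ := Submodule.mem_sup.1 hu
    obtain ⟨c, rfl⟩ := Submodule.mem_span_singleton.1 ht
    rw [map_add, map_smul, heig f hf i z]
    exact Submodule.add_mem_sup (hWF f hf y hy)
      (Submodule.smul_mem _ c (Submodule.smul_mem _ _ (Submodule.mem_span_singleton_self v)))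
  · intro x hx y hy
    obtain ⟨x1, hx1, x2, hx2, rfl⟩ := Submodule.mem_sup.1 hx
    obtain ⟨a, rfl⟩ := Submodule.mem_span_singleton.1 hx2
    obtain ⟨y1, hy1, y2, hy2, rfl⟩ := Submodule.mem_sup.1 hy
    obtain ⟨b, rfl⟩ := Submodule.mem_span_singleton.1 hy2
    have h4 : e v v = 0 := he v
    have h5 : e v y1 = 0 := he.isRefl _ _ (hvorth y1 hy1)
    simp [hWiso x1 hx1 y1 hy1, hvorth x1 hx1, h5, h4]

end Groth.Agent.S18545
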