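import Groth.Statements.S18546
import Mathlib
-- import your own Groth.Agent.* helpers here

set_option autoImplicit false
open scoped TensorProduct
universe u v
open GalCoh

namespace Groth.Agent.S18546

/-- Let G be a group acting linearly on a vector space V of dimension 2 over the field 𝔽₂ with two
elements. Then the short exact sequence of G-modules 0 → V → S²V → Λ²V → 0 (v ↦ v·v, x·y ↦ x ∧ y)
splits G-equivariantly. Here, for a vector space V over the field with two elements carrying a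
linear action ρ of a group G, write N_a ⊆ V ⊗ V for the span of the tensors v ⊗ v and N_s ⊆ N_a for
the span of the tensors x ⊗ y + y ⊗ x, so that S²V = (V ⊗ V)/N_s, Λ²V = (V ⊗ V)/N_a and the
surjection S²V → Λ²V, x·y ↦ x ∧ y, is G-equivariant for the diagonal action; a G-equivariant linear
section of this surjection is the same thing as a G-stable subspace W of V ⊗ V with W ∩ N_a = N_s
and W + N_a = V ⊗ V, which is how the splitting is stated. (The source has the absolute Galois group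
of a field acting continuously; any group is allowed here.) -/
theorem result (G : Type u) [Group G] (V : Type v)
    [AddCommGroup V] [Module (ZMod 2) V] (hV : Module.finrank (ZMod 2) V = 2)
    (ρ : Representation (ZMod 2) G V) :
    ∃ W : Submodule (ZMod 2) (V ⊗[ZMod 2] V),
      (∀ g : G, ∀ w ∈ W, ρ.tprod ρ g w ∈ W) ∧
      W ⊓ Submodule.span (ZMod 2) (Set.range fun v : V => v ⊗ₜ[ZMod 2] v) =
        Submodule.span (ZMod 2) (Set.range fun p : V × V => p.1 ⊗ₜ[ZMod 2] p.2 + p.2 ⊗ₜ[ZMod 2] p.1) ∧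
      W ⊔ Submodule.span (ZMod 2) (Set.range fun v : V => v ⊗ₜ[ZMod 2] v) = ⊤ := by
  classical
  haveI : Module.Finite (ZMod 2) V := Module.finite_of_finrank_pos (by omega)
  let b := Module.finBasisOfFinrankEq (ZMod 2) V hV
  let bb := b.tensorProduct b
  set e11 := b 0 ⊗ₜ[ZMod 2] b 0 with he11
  set e12 := b 0 ⊗ₜ[ZMod 2] b 1 with he12
  set e21 := b 1 ⊗ₜ[ZMod 2] b 0 with he21
  set e22 := b 1 ⊗ₜ[ZMod 2] b 1 with he22
  let t := e12 + e11 + e22
  let Sym := Submodule.span (ZMod 2) (Set.range fun p : V × V => p.1 ⊗ₜ[ZMod 2] p.2 + p.2 ⊗ₜ[ZMod 2] p.1)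
  let Sq := Submodule.span (ZMod 2) (Set.range fun v : V => v ⊗ₜ[ZMod 2] v)
  have hSymSq : Sym ≤ Sq := by
    refine Submodule.span_le.mpr ?_
    rintro _ ⟨⟨x, y⟩, rfl⟩
    have e : x ⊗ₜ[ZMod 2] y + y ⊗ₜ[ZMod 2] x =
        (x + y) ⊗ₜ[ZMod 2] (x + y) - x ⊗ₜ[ZMod 2] x - y ⊗ₜ[ZMod 2] y := by
      simp [TensorProduct.add_tmul, TensorProduct.tmul_add]; abel
    show x ⊗ₜ[ZMod 2] y + y ⊗ₜ[ZMod 2] x ∈ Sq
    rw [e]
    exact sub_mem (sub_mem (Submodule.subset_span ⟨_, rfl⟩) (Submodule.subset_span ⟨_, rfl⟩))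
      (Submodule.subset_span ⟨_, rfl⟩)
  have hsS : e12 + e21 ∈ Sym := Submodule.subset_span ⟨(b 0, b 1), rfl⟩
  let ε : V ⊗[ZMod 2] V →ₗ[ZMod 2] ZMod 2 := bb.coord (0, 1) - bb.coord (1, 0)
  have hεtm : ∀ x y : V, ε (x ⊗ₜ[ZMod 2] y) = b.repr y 1 * b.repr x 0 - b.repr y 0 * b.repr x 1 := fun x y => by
    simp [ε, bb, Module.Basis.tensorProduct_repr_tmul_apply]
  have hεSq : Sq ≤ LinearMap.ker ε := by
    refine Submodule.span_le.mpr ?_
    rintro _ ⟨v, rfl⟩
    show ε (v ⊗ₜ[ZMod 2] v) = 0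
    rw [hεtm]
    ring
  have hεt : ε t = 1 := by
    simp [t, he11, he12, he22, hεtm, Finsupp.single_apply]
  have key : ∀ A B : V, A ≠ 0 → B ≠ 0 → A ≠ B →
      (A ⊗ₜ[ZMod 2] B + A ⊗ₜ[ZMod 2] A + B ⊗ₜ[ZMod 2] B) - t = 0 ∨
      (A ⊗ₜ[ZMod 2] B + A ⊗ₜ[ZMod 2] A + B ⊗ₜ[ZMod 2] B) - t = e12 + e21 := by
    have main : ∀ a c : Fin 2 → ZMod 2, a ≠ 0 → c ≠ 0 → a ≠ c →
        (∀ i j : Fin 2, c j * a i + a j * a i + c j * c i
          - (if i = 1 ∧ j = 0 then 0 else 1) = 0) ∨
        (∀ i j : Fin 2, c j * a i + a j * a i + c j * c i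
          - (if i = 1 ∧ j = 0 then 0 else 1) = if i = j then 0 else 1) := by decide
    intro A B hA hB hAB
    have hrep : ∀ x y : V, ∀ i j, bb.repr (x ⊗ₜ[ZMod 2] y) (i, j) = b.repr y j * b.repr x i := fun x y i j => by
      simp [bb, Module.Basis.tensorProduct_repr_tmul_apply]
    rcases main (b.equivFun A) (b.equivFun B) (by simpa using hA) (by simpa using hB)
      (fun h => hAB (b.equivFun.injective h)) with h | h
    · refine Or.inl (bb.ext_elem fun ⟨i, j⟩ => ?_)
      have h' := h i j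
      simp only [Module.Basis.equivFun_apply] at h'
      simp only [map_sub, map_add, map_zero, Finsupp.sub_apply, Finsupp.add_apply, Finsupp.zero_apply, t,
        he11, he12, he22, hrep, Module.Basis.repr_self, Finsupp.single_apply]
      revert h'
      generalize b.repr A = a
      generalize b.repr B = c
      revert i j
      simp only [Fin.forall_fin_two]
      refine ⟨⟨?_, ?_⟩, ?_, ?_⟩ <;>
        simp
    · refine Or.inr (bb.ext_elem fun ⟨i, j⟩ => ?_)
      have h' := h i j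
      simp only [Module.Basis.equivFun_apply] at h'
      simp only [map_sub, map_add, Finsupp.sub_apply, Finsupp.add_apply, t,
        he11, he12, he21, he22, hrep, Module.Basis.repr_self, Finsupp.single_apply]
      revert h'
      generalize b.repr A = a
      generalize b.repr B = c
      revert i j
      simp only [Fin.forall_fin_two]
      refine ⟨⟨?_, ?_⟩, ?_, ?_⟩ <;>
        simp
  refine ⟨Sym ⊔ Submodule.span (ZMod 2) {t}, fun g w hw => ?_, le_antisymm ?_ ?_, ?_⟩
  · have hinj : Function.Injective (ρ g) := fun x y h => by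
      have := congrArg (ρ g⁻¹) h
      rwa [← Module.End.mul_apply, ← Module.End.mul_apply, ← map_mul, inv_mul_cancel, map_one] at this
    have hmap : Sym ⊔ Submodule.span (ZMod 2) {t} ≤
        (Sym ⊔ Submodule.span (ZMod 2) {t}).comap (ρ.tprod ρ g) := by
      refine sup_le (Submodule.span_le.mpr ?_) ((Submodule.span_singleton_le_iff_mem _ _).mpr ?_)
      · rintro _ ⟨⟨x, y⟩, rfl⟩
        refine Submodule.mem_sup_left (Submodule.subset_span ⟨(ρ g x, ρ g y), ?_⟩)
        simp
      · show ρ.tprod ρ g t ∈ Sym ⊔ Submodule.span (ZMod 2) {t}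
        have e : ρ.tprod ρ g t = ρ g (b 0) ⊗ₜ[ZMod 2] ρ g (b 1) + ρ g (b 0) ⊗ₜ[ZMod 2] ρ g (b 0)
            + ρ g (b 1) ⊗ₜ[ZMod 2] ρ g (b 1) := by simp [t, he11, he12, he22]
        have ht : t ∈ Sym ⊔ Submodule.span (ZMod 2) {t} := Submodule.mem_sup_right (Submodule.mem_span_singleton_self t)
        rw [e, ← sub_add_cancel (ρ g (b 0) ⊗ₜ[ZMod 2] ρ g (b 1) + ρ g (b 0) ⊗ₜ[ZMod 2] ρ g (b 0)
            + ρ g (b 1) ⊗ₜ[ZMod 2] ρ g (b 1)) t]
        refine add_mem ?_ ht
        rcases key _ _ ((map_ne_zero_iff _ hinj).mpr (b.ne_zero 0)) ((map_ne_zero_iff _ hinj).mpr (b.ne_zero 1))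
          (hinj.ne (b.injective.ne (by decide))) with h | h
        · rw [h]; exact zero_mem _
        · rw [h]; exact Submodule.mem_sup_left hsS
    exact hmap hw
  · rintro z ⟨hz, hz2⟩
    obtain ⟨s, hs, r, hr, rfl⟩ := Submodule.mem_sup.mp hz
    obtain ⟨c, rfl⟩ := Submodule.mem_span_singleton.mp hr
    have h : ε (s + c • t) = 0 := hεSq hz2
    rw [map_add, map_smul, hεt, show ε s = 0 from hεSq (hSymSq hs), zero_add, smul_eq_mul, mul_one] at h
    rwa [h, zero_smul, add_zero]
  · exact le_inf le_sup_left hSymSq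
  · rw [eq_top_iff, ← bb.span_eq, Submodule.span_le]
    have h12 : e12 ∈ Sym ⊔ Submodule.span (ZMod 2) {t} ⊔ Sq := by
      have e : e12 = t - e11 - e22 := by simp only [t]; abel
      rw [e]
      exact sub_mem (sub_mem (Submodule.mem_sup_left (Submodule.mem_sup_right (Submodule.mem_span_singleton_self t)))
        (Submodule.mem_sup_right (Submodule.subset_span ⟨b 0, rfl⟩)))
        (Submodule.mem_sup_right (Submodule.subset_span ⟨b 1, rfl⟩))
    rintro _ ⟨⟨i, j⟩, rfl⟩
    rw [Module.Basis.tensorProduct_apply]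
    fin_cases i <;> fin_cases j
    · exact Submodule.mem_sup_right (Submodule.subset_span ⟨b 0, rfl⟩)
    · exact h12
    · show e21 ∈ _
      rw [show e21 = (e12 + e21) - e12 by abel]
      exact sub_mem (Submodule.mem_sup_left (Submodule.mem_sup_left hsS)) h12
    · exact Submodule.mem_sup_right (Submodule.subset_span ⟨b 1, rfl⟩)

end Groth.Agent.S18546
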