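import Groth.Statements.S18547
import Mathlib
-- import your own Groth.Agent.* helpers here

set_option autoImplicit false
open scoped TensorProduct
universe u v
open GalCoh

namespace Groth.Agent.S18547

/-- Let G be a group acting linearly on a vector space V of dimension 3 over the field 𝔽₂ with two
elements. Then the connecting map (Λ²V)^G → H¹(G, V) of the short exact sequence of G-modules 0 → V
→ S²V → Λ²V → 0 (v ↦ v·v, x·y ↦ x ∧ y) is zero; equivalently, every G-invariant element of Λ²V is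
the image of a G-invariant element of S²V. Here N_a ⊆ V ⊗ V is the span of the tensors v ⊗ v and N_s
⊆ N_a the span of the tensors x ⊗ y + y ⊗ x, so that S²V = (V ⊗ V)/N_s and Λ²V = (V ⊗ V)/N_a with
the diagonal action of G, and the statement reads: a tensor t whose class modulo N_a is G-invariant
is congruent modulo N_a to a tensor whose class modulo N_s is G-invariant. (The source writes the
rank hypothesis on the lattice M with V = M/2M, which has the same rank, and has the absolute Galois
group of a field acting; any group is allowed here.) -/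
theorem result (G : Type u) [Group G] (V : Type v)
    [AddCommGroup V] [Module (ZMod 2) V] (hV : Module.finrank (ZMod 2) V = 3)
    (ρ : Representation (ZMod 2) G V) (t : V ⊗[ZMod 2] V)
    (ht : ∀ g : G, ρ.tprod ρ g t - t ∈ Submodule.span (ZMod 2) (Set.range fun v : V => v ⊗ₜ[ZMod 2] v)) :
    ∃ t' : V ⊗[ZMod 2] V, t' - t ∈ Submodule.span (ZMod 2) (Set.range fun v : V => v ⊗ₜ[ZMod 2] v) ∧
      ∀ g : G, ρ.tprod ρ g t' - t' ∈
        Submodule.span (ZMod 2) (Set.range fun p : V × V => p.1 ⊗ₜ[ZMod 2] p.2 + p.2 ⊗ₜ[ZMod 2] p.1) := by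
  classical
  haveI : Module.Finite (ZMod 2) V := Module.finite_of_finrank_pos (by omega)
  let b := Module.finBasisOfFinrankEq (ZMod 2) V hV
  let bb := b.tensorProduct b
  let Sym := Submodule.span (ZMod 2) (Set.range fun p : V × V => p.1 ⊗ₜ[ZMod 2] p.2 + p.2 ⊗ₜ[ZMod 2] p.1)
  let Sq := Submodule.span (ZMod 2) (Set.range fun v : V => v ⊗ₜ[ZMod 2] v)
  let B (i j : Fin 3) : V ⊗[ZMod 2] V := b i ⊗ₜ[ZMod 2] b j
  have hsym : ∀ i j, B i j + B j i ∈ Sq := fun i j => by
    have e : B i j + B j i = (b i + b j) ⊗ₜ[ZMod 2] (b i + b j) - B i i - B j j := by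
      simp [B, TensorProduct.add_tmul, TensorProduct.tmul_add]; abel
    rw [e]
    exact sub_mem (sub_mem (Submodule.subset_span ⟨_, rfl⟩) (Submodule.subset_span ⟨b i, rfl⟩))
      (Submodule.subset_span ⟨b j, rfl⟩)
  have z2 : ∀ u v : V ⊗[ZMod 2] V, (1 : ZMod 2) • u = v → u = v := fun u v h => by rwa [one_smul] at h
  have h01 : ∀ a : ZMod 2, a = 0 ∨ a = 1 := by decide
  -- modulo the squares `t` is a combination of three decomposable tensors
  obtain ⟨a01, a02, a12, ha⟩ : ∃ a01 a02 a12 : ZMod 2,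
      t - (a01 • B 0 1 + a02 • B 0 2 + a12 • B 1 2) ∈ Sq := by
    suffices hall : ∀ z ∈ Submodule.span (ZMod 2) (Set.range bb), ∃ a01 a02 a12 : ZMod 2,
        z - (a01 • B 0 1 + a02 • B 0 2 + a12 • B 1 2) ∈ Sq from hall t (bb.mem_span t)
    intro z hz
    induction hz using Submodule.span_induction with
    | mem z hz =>
      obtain ⟨⟨i, j⟩, rfl⟩ := hz
      rw [Module.Basis.tensorProduct_apply]
      fin_cases i <;> fin_cases j
      · exact ⟨0, 0, 0, by simpa [B] using Submodule.subset_span (s := Set.range fun v : V => v ⊗ₜ[ZMod 2] v) ⟨b 0, rfl⟩⟩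
      · exact ⟨1, 0, 0, by simp [B]⟩
      · exact ⟨0, 1, 0, by simp [B]⟩
      · refine ⟨1, 0, 0, ?_⟩
        convert hsym 1 0 using 1
        simp [B]
        refine z2 _ _ ?_
        match_scalars <;> decide
      · exact ⟨0, 0, 0, by simpa [B] using Submodule.subset_span (s := Set.range fun v : V => v ⊗ₜ[ZMod 2] v) ⟨b 1, rfl⟩⟩
      · exact ⟨0, 0, 1, by simp [B]⟩
      · refine ⟨0, 1, 0, ?_⟩
        convert hsym 2 0 using 1
        simp [B]
        refine z2 _ _ ?_
        match_scalars <;> decide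
      · refine ⟨0, 0, 1, ?_⟩
        convert hsym 2 1 using 1
        simp [B]
        refine z2 _ _ ?_
        match_scalars <;> decide
      · exact ⟨0, 0, 0, by simpa [B] using Submodule.subset_span (s := Set.range fun v : V => v ⊗ₜ[ZMod 2] v) ⟨b 2, rfl⟩⟩
    | zero => exact ⟨0, 0, 0, by simp⟩
    | add x y _ _ hx hy =>
      obtain ⟨p, q, r, hx⟩ := hx
      obtain ⟨p', q', r', hy⟩ := hy
      refine ⟨p + p', q + q', r + r', ?_⟩
      convert add_mem hx hy using 1
      simp [add_smul]; abel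
    | smul c x _ hx =>
      obtain ⟨p, q, r, hx⟩ := hx
      refine ⟨c * p, c * q, c * r, ?_⟩
      convert Sq.smul_mem c hx using 1
      simp [smul_sub, smul_add, smul_smul]
  -- hence `t` is congruent to a decomposable tensor
  obtain ⟨x, y, hxy⟩ : ∃ x y : V, t - x ⊗ₜ[ZMod 2] y ∈ Sq := by
    have hcases : a01 = 1 ∨ (a01 = 0 ∧ a02 = 1) ∨ (a01 = 0 ∧ a02 = 0) := by
      clear ha
      revert a01 a02; decide
    rcases hcases with h | ⟨h, h'⟩ | ⟨h, h'⟩
    · refine ⟨b 0 + a12 • b 2, b 1 + a02 • b 2, ?_⟩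
      have hS : a12 • (B 2 1 + B 1 2) + (a12 * a02) • B 2 2 ∈ Sq :=
        add_mem (Sq.smul_mem _ (hsym 2 1)) (Sq.smul_mem _ (Submodule.subset_span ⟨b 2, rfl⟩))
      convert sub_mem ha hS using 1
      subst h
      refine z2 _ _ ?_
      simp only [B, TensorProduct.add_tmul, TensorProduct.tmul_add, ← TensorProduct.smul_tmul',
        TensorProduct.tmul_smul]
      rcases h01 a12 with rfl | rfl <;> rcases h01 a02 with rfl | rfl <;> match_scalars <;> decide
    · refine ⟨b 0 + a12 • b 1, b 2, ?_⟩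
      convert ha using 1
      subst h; subst h'
      simp [B, TensorProduct.add_tmul, TensorProduct.smul_tmul']
    · refine ⟨a12 • b 1, b 2, ?_⟩
      convert ha using 1
      subst h; subst h'
      simp [B, TensorProduct.smul_tmul']
  by_cases hxyS : x ⊗ₜ[ZMod 2] y ∈ Sq
  · refine ⟨0, ?_, fun g => by simp⟩
    have : t ∈ Sq := by simpa using add_mem hxy hxyS
    simpa using neg_mem this
  have hnc : ∀ c : ZMod 2, y ≠ c • x := fun c h => hxyS (by
    rw [h, TensorProduct.tmul_smul]
    exact Sq.smul_mem c (Submodule.subset_span ⟨x, rfl⟩))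
  have hx0 : x ≠ 0 := fun h => hxyS (by simp [h])
  refine ⟨x ⊗ₜ[ZMod 2] y + x ⊗ₜ[ZMod 2] x + y ⊗ₜ[ZMod 2] y, ?_, fun g => ?_⟩
  · convert add_mem (neg_mem hxy) (add_mem (Submodule.subset_span (R := ZMod 2) ⟨x, rfl⟩ : x ⊗ₜ[ZMod 2] x ∈ Sq)
      (Submodule.subset_span (R := ZMod 2) ⟨y, rfl⟩ : y ⊗ₜ[ZMod 2] y ∈ Sq)) using 1
    abel
  have hinj : Function.Injective (ρ g) := fun u v h => by
    have := congrArg (ρ g⁻¹) h
    rwa [← Module.End.mul_apply, ← Module.End.mul_apply, ← map_mul, inv_mul_cancel, map_one] at this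
  set X := ρ g x with hX
  set Y := ρ g y with hY
  have hSqst : ∀ z ∈ Sq, ρ.tprod ρ g z ∈ Sq := by
    intro z hz
    have : Sq ≤ Sq.comap (ρ.tprod ρ g) := Submodule.span_le.mpr (by
      rintro _ ⟨v, rfl⟩
      exact Submodule.subset_span ⟨ρ g v, by simp⟩)
    exact this hz
  have hXY : X ⊗ₜ[ZMod 2] Y - x ⊗ₜ[ZMod 2] y ∈ Sq := by
    have h := add_mem (sub_mem (ht g) (hSqst _ hxy)) hxy
    convert h using 1
    rw [map_sub, Representation.tprod_apply, TensorProduct.map_tmul]
    abel
  -- so `g` stabilises the plane spanned by `x` and `y`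
  let P := Submodule.span (ZMod 2) ({x, y} : Set V)
  have hP : X ∈ P ∧ Y ∈ P := by
    have key : ∀ f h : V →ₗ[ZMod 2] ZMod 2, f x = 0 → f y = 0 → f X * h Y = f Y * h X := by
      intro f h fx fy
      let al : V ⊗[ZMod 2] V →ₗ[ZMod 2] ZMod 2 :=
        TensorProduct.lift ((LinearMap.mul (ZMod 2) (ZMod 2)).compl₁₂ f h - (LinearMap.mul (ZMod 2) (ZMod 2)).compl₁₂ h f)
      have hal : Sq ≤ LinearMap.ker al := Submodule.span_le.mpr (by
        rintro _ ⟨v, rfl⟩
        show al (v ⊗ₜ[ZMod 2] v) = 0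
        simp [al, mul_comm])
      have e := hal hXY
      rw [LinearMap.mem_ker] at e
      simp [al, fx, fy] at e
      linear_combination e
    have aux : ∀ f : V →ₗ[ZMod 2] ZMod 2, f x = 0 → f y = 0 → f X = 0 ∧ f Y = 0 := by
      intro f fx fy
      by_contra hne
      have h01 : ∀ a : ZMod 2, a = 0 ∨ a = 1 := by decide
      rcases h01 (f X) with h1 | h1
      · rcases h01 (f Y) with h2 | h2
        · exact hne ⟨h1, h2⟩
        · have hX0 : X = 0 := by
            refine (Module.forall_dual_apply_eq_zero_iff (ZMod 2) X).mp fun h => ?_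
            have := key f h fx fy
            rw [h1, h2, zero_mul, one_mul] at this
            exact this.symm
          exact hx0 (hinj (by rw [map_zero]; exact hX0))
      · have hYc : Y - f Y • X = 0 := by
          refine (Module.forall_dual_apply_eq_zero_iff (ZMod 2) _).mp fun h => ?_
          have := key f h fx fy
          rw [h1, one_mul] at this
          simp [this]
        exact hnc (f Y) (hinj (by rw [map_smul]; exact sub_eq_zero.mp hYc))
    constructor <;>
    · by_contra hmem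
      obtain ⟨f, hf1, hf2⟩ := Submodule.exists_dual_map_eq_bot_of_notMem hmem inferInstance
      have hz : ∀ z ∈ P, f z = 0 := fun z hz => by
        have := Submodule.mem_map_of_mem (f := f) hz
        rwa [hf2, Submodule.mem_bot] at this
      obtain ⟨h1, h2⟩ := aux f (hz x (Submodule.subset_span (by simp))) (hz y (Submodule.subset_span (by simp)))
      exact hf1 (by assumption)
  have h3 : ∀ Z ∈ P, Z ≠ 0 → Z = x ∨ Z = y ∨ Z = x + y := by
    intro Z hZ hZ0
    obtain ⟨c, d, rfl⟩ := Submodule.mem_span_pair.mp hZ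
    rcases h01 c with rfl | rfl <;> rcases h01 d with rfl | rfl <;> simp_all
  have hs : x ⊗ₜ[ZMod 2] y + y ⊗ₜ[ZMod 2] x ∈ Sym := Submodule.subset_span ⟨(x, y), rfl⟩
  have hne : X ≠ Y := fun h => hnc 1 (by rw [one_smul]; exact (hinj h).symm)
  show ρ.tprod ρ g (x ⊗ₜ[ZMod 2] y + x ⊗ₜ[ZMod 2] x + y ⊗ₜ[ZMod 2] y) - _ ∈ Sym
  simp only [map_add, Representation.tprod_apply, TensorProduct.map_tmul, ← hX, ← hY]
  rcases h3 X hP.1 ((map_ne_zero_iff _ hinj).mpr hx0) with e1 | e1 | e1 <;>
    rcases h3 Y hP.2 ((map_ne_zero_iff _ hinj).mpr fun h => hnc 0 (by simp [h])) with e2 | e2 | e2 <;>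
    rw [e1, e2] at hne ⊢ <;>
    first
      | exact absurd rfl hne
      | (rw [sub_self]; exact zero_mem Sym)
      | (convert zero_mem Sym using 1; (try simp only [TensorProduct.add_tmul, TensorProduct.tmul_add]); refine z2 _ _ ?_; match_scalars <;> decide)
      | (convert hs using 1; (try simp only [TensorProduct.add_tmul, TensorProduct.tmul_add]); refine z2 _ _ ?_; match_scalars <;> decide)

end Groth.Agent.S18547
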