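import Groth.Statements.S18548
import Mathlib
-- import your own Groth.Agent.* helpers here

set_option autoImplicit false
open scoped TensorProduct
universe u v w
open GalCoh

namespace Groth.Agent.S18548

/-- Let G be a group acting linearly on a vector space V over the field 𝔽₂ with two elements, and
suppose V is a permutation module: G permutes the vectors of some basis of V. Then the short exact
sequence of G-modules 0 → V → S²V → Λ²V → 0 (v ↦ v·v, x·y ↦ x ∧ y) splits G-equivariantly. Here, for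
a vector space V over the field with two elements carrying a linear action ρ of a group G, write N_a
⊆ V ⊗ V for the span of the tensors v ⊗ v and N_s ⊆ N_a for the span of the tensors x ⊗ y + y ⊗ x,
so that S²V = (V ⊗ V)/N_s, Λ²V = (V ⊗ V)/N_a and the surjection S²V → Λ²V, x·y ↦ x ∧ y, is
G-equivariant for the diagonal action; a G-equivariant linear section of this surjection is the same
thing as a G-stable subspace W of V ⊗ V with W ∩ N_a = N_s and W + N_a = V ⊗ V, which is how the
splitting is stated. (The source has the absolute Galois group of a field acting continuously; any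
group and any basis index set are allowed here.) -/
theorem result (G : Type u) [Group G] (V : Type v)
    [AddCommGroup V] [Module (ZMod 2) V] (ρ : Representation (ZMod 2) G V)
    (ι : Type w) (b : Module.Basis ι (ZMod 2) V) (hb : ∀ g : G, ∀ i : ι, ∃ j : ι, ρ g (b i) = b j) :
    ∃ W : Submodule (ZMod 2) (V ⊗[ZMod 2] V),
      (∀ g : G, ∀ w ∈ W, ρ.tprod ρ g w ∈ W) ∧
      W ⊓ Submodule.span (ZMod 2) (Set.range fun v : V => v ⊗ₜ[ZMod 2] v) =
        Submodule.span (ZMod 2) (Set.range fun p : V × V => p.1 ⊗ₜ[ZMod 2] p.2 + p.2 ⊗ₜ[ZMod 2] p.1) ∧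
      W ⊔ Submodule.span (ZMod 2) (Set.range fun v : V => v ⊗ₜ[ZMod 2] v) = ⊤ := by
  classical
  let bb := b.tensorProduct b
  let δ : V ⊗[ZMod 2] V →ₗ[ZMod 2] (ι →₀ ZMod 2) :=
    (Finsupp.lcomapDomain (fun i : ι => (i, i)) (fun a c h => (Prod.ext_iff.mp h).1)).comp bb.repr.toLinearMap
  let DP : V ⊗[ZMod 2] V →ₗ[ZMod 2] V ⊗[ZMod 2] V :=
    (Finsupp.linearCombination (ZMod 2) (fun i => b i ⊗ₜ[ZMod 2] b i)).comp δ
  let Sym := Submodule.span (ZMod 2) (Set.range fun p : V × V => p.1 ⊗ₜ[ZMod 2] p.2 + p.2 ⊗ₜ[ZMod 2] p.1)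
  have hδ : ∀ x y : V, ∀ i, δ (x ⊗ₜ[ZMod 2] y) i = b.repr y i * b.repr x i := fun x y i => by
    show bb.repr (x ⊗ₜ[ZMod 2] y) (i, i) = _
    rw [Module.Basis.tensorProduct_repr_tmul_apply, smul_eq_mul]
  have hδb : ∀ i j, δ (b i ⊗ₜ[ZMod 2] b j) = if i = j then Finsupp.single i 1 else 0 := fun i j => by
    ext l
    rw [hδ, b.repr_self, b.repr_self]
    split_ifs with h
    · subst h; simp [Finsupp.single_apply]
    · simp only [Finsupp.single_apply, Finsupp.coe_zero, Pi.zero_apply]
      split_ifs with h1 h2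
      · exact absurd (h2.trans h1.symm) h
      all_goals simp
  have hsym : ∀ x y : V, δ (x ⊗ₜ[ZMod 2] y + y ⊗ₜ[ZMod 2] x) = 0 := fun x y => by
    ext l
    rw [map_add, Finsupp.add_apply, hδ, hδ, mul_comm]
    exact CharTwo.add_self_eq_zero _
  refine ⟨LinearMap.ker δ, fun g w hw => ?_, le_antisymm ?_ ?_, ?_⟩
  · choose σ hσ using hb g
    have hinj : Function.Injective σ := fun i j h => by
      apply b.injective
      have := congrArg (ρ g⁻¹) ((hσ i).trans ((congrArg b h).trans (hσ j).symm))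
      rwa [← Module.End.mul_apply, ← Module.End.mul_apply, ← map_mul, inv_mul_cancel, map_one] at this
    have e : δ.comp (ρ.tprod ρ g) = (Finsupp.lmapDomain (ZMod 2) (ZMod 2) σ).comp δ := by
      refine bb.ext fun ij => ?_
      rw [Module.Basis.tensorProduct_apply']
      show δ (ρ.tprod ρ g (b ij.1 ⊗ₜ[ZMod 2] b ij.2)) =
        Finsupp.lmapDomain (ZMod 2) (ZMod 2) σ (δ (b ij.1 ⊗ₜ[ZMod 2] b ij.2))
      rw [Representation.tprod_apply, TensorProduct.map_tmul, hσ, hσ, hδb, hδb]
      simp only [hinj.eq_iff]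
      split_ifs <;> simp
    have h := LinearMap.congr_fun e w
    rw [LinearMap.mem_ker] at hw ⊢
    have h' : δ (ρ.tprod ρ g w) = Finsupp.lmapDomain (ZMod 2) (ZMod 2) σ (δ w) := h
    rw [h', hw, map_zero]
  · rintro z ⟨hz0, hz⟩
    have h : z - DP z ∈ Sym := by
      clear hz0
      induction hz using Submodule.span_induction with
      | mem z hz' =>
        obtain ⟨v, rfl⟩ := hz'
        dsimp only
        have hv : v ∈ Submodule.span (ZMod 2) (Set.range b) := b.mem_span v
        induction hv using Submodule.span_induction with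
        | mem v hv' =>
          obtain ⟨i, rfl⟩ := hv'
          simp [DP, hδb]
        | zero => simp
        | add x y _ _ hx hy =>
          have e : (x + y) ⊗ₜ[ZMod 2] (x + y) = x ⊗ₜ[ZMod 2] x + y ⊗ₜ[ZMod 2] y +
              (x ⊗ₜ[ZMod 2] y + y ⊗ₜ[ZMod 2] x) := by
            simp [TensorProduct.add_tmul, TensorProduct.tmul_add]; abel
          have e' : DP (x ⊗ₜ[ZMod 2] y + y ⊗ₜ[ZMod 2] x) = 0 := by simp only [DP, LinearMap.comp_apply, hsym, map_zero]
          have hs : x ⊗ₜ[ZMod 2] y + y ⊗ₜ[ZMod 2] x ∈ Sym := Submodule.subset_span ⟨(x, y), rfl⟩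
          rw [e, map_add, map_add DP (x ⊗ₜ[ZMod 2] x), e', add_zero, add_sub_right_comm, add_sub_add_comm]
          exact Sym.add_mem (Sym.add_mem hx hy) hs
        | smul c x _ hx =>
          have e : (c • x) ⊗ₜ[ZMod 2] (c • x) = (c * c) • (x ⊗ₜ[ZMod 2] x) := by
            rw [TensorProduct.smul_tmul_smul]
          rw [e, map_smul, ← smul_sub]
          exact Sym.smul_mem _ hx
      | zero => simp
      | add x y _ _ hx hy =>
        rw [map_add, add_sub_add_comm]
        exact Sym.add_mem hx hy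
      | smul c x _ hx =>
        rw [map_smul, ← smul_sub]
        exact Sym.smul_mem _ hx
    have hz00 : δ z = 0 := hz0
    simpa [DP, hz00] using h
  · refine Submodule.span_le.mpr ?_
    rintro _ ⟨⟨x, y⟩, rfl⟩
    refine ⟨hsym x y, ?_⟩
    have e : x ⊗ₜ[ZMod 2] y + y ⊗ₜ[ZMod 2] x =
        (x + y) ⊗ₜ[ZMod 2] (x + y) - x ⊗ₜ[ZMod 2] x - y ⊗ₜ[ZMod 2] y := by
      simp [TensorProduct.add_tmul, TensorProduct.tmul_add]; abel
    show x ⊗ₜ[ZMod 2] y + y ⊗ₜ[ZMod 2] x ∈ Submodule.span (ZMod 2) (Set.range fun v : V => v ⊗ₜ[ZMod 2] v)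
    rw [e]
    exact sub_mem (sub_mem (Submodule.subset_span ⟨_, rfl⟩) (Submodule.subset_span ⟨_, rfl⟩))
      (Submodule.subset_span ⟨_, rfl⟩)
  · rw [eq_top_iff, ← bb.span_eq, Submodule.span_le]
    rintro _ ⟨⟨i, j⟩, rfl⟩
    rw [Module.Basis.tensorProduct_apply]
    by_cases h : i = j
    · subst h
      exact Submodule.mem_sup_right (Submodule.subset_span ⟨b i, rfl⟩)
    · exact Submodule.mem_sup_left (LinearMap.mem_ker.mpr (by rw [hδb, if_neg h]))

end Groth.Agent.S18548
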