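import Groth.Statements.S18549
import Groth.Agent.S18548
import Mathlib
-- import your own Groth.Agent.* helpers here

set_option autoImplicit false
open scoped TensorProduct
universe u v
open GalCoh

namespace Groth.Agent.S18549

/-- Over the real numbers, that is for the group G = Gal(ℂ/ℝ) of order 2 acting linearly on a
finite-dimensional vector space V over the field 𝔽₂ with two elements, the short exact sequence of
G-modules 0 → V → S²V → Λ²V → 0 (v ↦ v·v, x·y ↦ x ∧ y) splits G-equivariantly. Here, for a vector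
space V over the field with two elements carrying a linear action ρ of a group G, write N_a ⊆ V ⊗ V
for the span of the tensors v ⊗ v and N_s ⊆ N_a for the span of the tensors x ⊗ y + y ⊗ x, so that
S²V = (V ⊗ V)/N_s, Λ²V = (V ⊗ V)/N_a and the surjection S²V → Λ²V, x·y ↦ x ∧ y, is G-equivariant for
the diagonal action; a G-equivariant linear section of this surjection is the same thing as a
G-stable subspace W of V ⊗ V with W ∩ N_a = N_s and W + N_a = V ⊗ V, which is how the splitting is
stated. (G is any group of order 2 here; V is taken finite-dimensional, the case covered by the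
structure theory of finitely generated modules over 𝔽₂[G] that the argument uses.) -/
theorem result (G : Type u) [Group G] (hG : Nat.card G = 2)
    (V : Type v) [AddCommGroup V] [Module (ZMod 2) V] [Module.Finite (ZMod 2) V]
    (ρ : Representation (ZMod 2) G V) :
    ∃ W : Submodule (ZMod 2) (V ⊗[ZMod 2] V),
      (∀ g : G, ∀ w ∈ W, ρ.tprod ρ g w ∈ W) ∧
      W ⊓ Submodule.span (ZMod 2) (Set.range fun v : V => v ⊗ₜ[ZMod 2] v) =
        Submodule.span (ZMod 2) (Set.range fun p : V × V => p.1 ⊗ₜ[ZMod 2] p.2 + p.2 ⊗ₜ[ZMod 2] p.1) ∧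
      W ⊔ Submodule.span (ZMod 2) (Set.range fun v : V => v ⊗ₜ[ZMod 2] v) = ⊤ := by
  classical
  obtain ⟨s, hs1, hsu⟩ := Nat.card_eq_two_iff' (1 : G) |>.mp hG
  have hall : ∀ g : G, g = 1 ∨ g = s := fun g => or_iff_not_imp_left.mpr (hsu g)
  have hss : s * s = 1 := by
    rcases hall (s * s) with h | h
    · exact h
    · exact absurd (mul_eq_left.mp h) hs1
  let σ : V →ₗ[ZMod 2] V := ρ s
  have hσσ : ∀ x, σ (σ x) = x := fun x => by
    show ρ s (ρ s x) = x
    rw [← Module.End.mul_apply, ← map_mul, hss, map_one, Module.End.one_apply]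
  let N : V →ₗ[ZMod 2] V := σ + LinearMap.id
  have h2 : ∀ x : V, x + x = 0 := fun x => by rw [← two_smul (ZMod 2) x, show (2 : ZMod 2) = 0 from rfl, zero_smul]
  have hNσ : ∀ x, N (σ x) = N x := fun x => by simp [N, hσσ, add_comm]
  have hNN : ∀ x, N (N x) = 0 := fun x => by
    show N (σ x + x) = 0
    rw [map_add, hNσ, h2]
  obtain ⟨W, hW⟩ := Submodule.exists_isCompl (LinearMap.ker N)
  obtain ⟨K, hK⟩ := Submodule.exists_isCompl ((LinearMap.range N).comap (LinearMap.ker N).subtype)
  let incK : K →ₗ[ZMod 2] V := (LinearMap.ker N).subtype.comp K.subtype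
  let L : (W × W) × K →ₗ[ZMod 2] V := (W.subtype.coprod (σ.comp W.subtype)).coprod incK
  have hL : Function.Bijective L := by
    constructor
    · rw [injective_iff_map_eq_zero]
      rintro ⟨⟨⟨w1, h1⟩, ⟨w2, h2'⟩⟩, ⟨⟨x, hx⟩, hxK⟩⟩ h0
      change w1 + σ w2 + x = 0 at h0
      have hN := congrArg N h0
      rw [map_add, map_add, hNσ, LinearMap.mem_ker.mp hx, add_zero, map_zero, ← map_add] at hN
      have hw : w1 + w2 = 0 := Submodule.disjoint_def.mp hW.symm.disjoint _ (W.add_mem h1 h2') hN
      have hw' : w1 = w2 := by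
        have := eq_neg_of_add_eq_zero_left hw
        rw [this]
        exact neg_eq_of_add_eq_zero_left (h2 w2)
      subst hw'
      have e : N w1 + x = 0 := by simpa [N, add_comm, add_left_comm] using h0
      have hx0 : (⟨x, hx⟩ : LinearMap.ker N) = 0 := by
        refine Submodule.disjoint_def.mp hK.disjoint _ ?_ hxK
        refine ⟨w1, ?_⟩
        show N w1 = x
        rw [eq_neg_of_add_eq_zero_left e]
        exact neg_eq_of_add_eq_zero_left (h2 x)
      have hx00 : x = 0 := congrArg Subtype.val hx0
      subst hx00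
      rw [add_zero] at e
      have hw1 : w1 = 0 := Submodule.disjoint_def.mp hW.symm.disjoint _ h1 e
      subst hw1
      rfl
    · intro v
      obtain ⟨x, hx, w, hw, rfl⟩ := Submodule.mem_sup.mp (hW.sup_eq_top.ge (Submodule.mem_top (x := v)))
      obtain ⟨a, ha, b, hb, hab⟩ := Submodule.mem_sup.mp (hK.sup_eq_top.ge (Submodule.mem_top (x := (⟨x, hx⟩ : LinearMap.ker N))))
      obtain ⟨u, hu⟩ := ha
      obtain ⟨k, hk, u', hu', rfl⟩ := Submodule.mem_sup.mp (hW.sup_eq_top.ge (Submodule.mem_top (x := u)))
      rw [map_add, LinearMap.mem_ker.mp hk, zero_add] at hu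
      refine ⟨((⟨w + u', W.add_mem hw hu'⟩, ⟨u', hu'⟩), ⟨b, hb⟩), ?_⟩
      show w + u' + σ u' + (b : V) = x + w
      have e : (a : V) + (b : V) = x := congrArg Subtype.val hab
      rw [← e, ← Submodule.subtype_apply (p := LinearMap.ker N) (x := a), ← hu]
      show w + u' + σ u' + (b : V) = (σ u' + u') + (b : V) + w
      abel
  let bW := Module.Free.chooseBasis (ZMod 2) W
  let bK := Module.Free.chooseBasis (ZMod 2) K
  let b := ((bW.prod bW).prod bK).map (LinearEquiv.ofBijective L hL)
  refine Groth.Agent.S18548.result G V ρ _ b fun g i => ?_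
  rcases hall g with rfl | rfl
  · exact ⟨i, by rw [map_one, Module.End.one_apply]⟩
  rcases i with (i | i) | i
  · exact ⟨Sum.inl (Sum.inr i), by simp [b, L, incK, σ]⟩
  · refine ⟨Sum.inl (Sum.inl i), ?_⟩
    simp [b, L, incK, σ, ← Module.End.mul_apply, ← map_mul, hss]
  · refine ⟨Sum.inr i, ?_⟩
    have h : N ((bK i : LinearMap.ker N) : V) = 0 := (bK i : LinearMap.ker N).2
    have h' : σ ((bK i : LinearMap.ker N) : V) = ((bK i : LinearMap.ker N) : V) := by
      have := eq_neg_of_add_eq_zero_left (show σ ((bK i : LinearMap.ker N) : V) + ((bK i : LinearMap.ker N) : V) = 0 from h)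
      rw [this]
      exact neg_eq_of_add_eq_zero_left (h2 _)
    simpa [b, L, incK, σ] using h'

end Groth.Agent.S18549
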