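import Groth.Statements.S18550
import Mathlib
import Groth.Agent.TriDecomp.Basic

open CategoryTheory CategoryTheory.Limits CategoryTheory.Pretriangulated
open scoped ZeroObject

set_option autoImplicit false
open CategoryTheory Limits
universe w v u
open CohDer

namespace Groth.Agent.S18550

/-- Let A be an abelian category, X an object of its derived category whose cohomology objects H^i(X)
are zero for all integers i outside the interval [a, a + n], and f : X → X an endomorphism in the
derived category such that H^i(f) = 0 for every i. Then f^(n+1) = 0. (The source works in the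
bounded derived category; the statement in D(A) for an object with cohomology bounded in this way is
the same assertion, the bounded derived category being a full subcategory.) -/
theorem result (A : Type u) [Category.{v} A] [Abelian A]
    [HasDerivedCategory.{w} A] (X : DerivedCategory A) (a : ℤ) (n : ℕ)
    (hX : ∀ i : ℤ, i < a ∨ a + n < i → IsZero ((DerivedCategory.homologyFunctor A i).obj X))
    (f : CategoryTheory.End X) (hf : ∀ i : ℤ, (DerivedCategory.homologyFunctor A i).map f = 0) :
    f ^ (n + 1) = 0 := by
  induction n generalizing X with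
  | zero =>
    have hGE : X.IsGE a := (DerivedCategory.isGE_iff X a).mpr fun i hi => hX i (Or.inl hi)
    have hLE : X.IsLE a := (DerivedCategory.isLE_iff X a).mpr fun i hi => hX i (Or.inr (by simpa using hi))
    obtain ⟨M, ⟨e⟩⟩ := X.exists_iso_singleFunctor_obj_of_isGE_of_isLE a
    obtain ⟨g, hg⟩ := (DerivedCategory.singleFunctor A a).map_surjective (e.inv ≫ f ≫ e.hom)
    have h1 : (DerivedCategory.homologyFunctor A a).map ((DerivedCategory.singleFunctor A a).map g) = 0 := by
      simp [hg, hf a]
    have h2 := (DerivedCategory.singleFunctorCompHomologyFunctorIso A a).hom.naturality g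
    simp only [Functor.comp_map, h1, zero_comp, Functor.id_map] at h2
    have hg0 : g = 0 := by
      rw [← cancel_epi ((DerivedCategory.singleFunctorCompHomologyFunctorIso A a).hom.app M), ← h2, comp_zero]
    rw [pow_one]
    calc f = e.hom ≫ (e.inv ≫ f ≫ e.hom) ≫ e.inv := by simp
    _ = 0 := by rw [← hg, hg0, Functor.map_zero, zero_comp, comp_zero]
  | succ n ih =>
    let t := DerivedCategory.TStructure.t (C := A)
    let b : ℤ := a + n + 1
    let T := (t.triangleLTGE b).obj X
    have hT : T ∈ Pretriangulated.distinguishedTriangles := t.triangleLTGE_distinguished b X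
    let ι : (t.truncLT b).obj X ⟶ X := (t.truncLTι b).app X
    let π : X ⟶ (t.truncGE b).obj X := (t.truncGEπ b).app X
    have hupper : ∀ i, i < b → IsZero ((DerivedCategory.homologyFunctor A i).obj T.obj₃) := fun i hi =>
      (DerivedCategory.isGE_iff _ b).mp (inferInstanceAs (t.IsGE ((t.truncGE b).obj X) b)) i hi
    have hlow : ∀ i, b ≤ i → IsZero ((DerivedCategory.homologyFunctor A i).obj T.obj₁) := fun i hi =>
      (DerivedCategory.isLE_iff _ (b - 1)).mp (inferInstanceAs (t.IsLE ((t.truncLT b).obj X) (b - 1))) i (by omega)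
    have hmono : ∀ i, i ≤ b → Mono ((DerivedCategory.homologyFunctor A i).map T.mor₁) := fun i hi =>
      (DerivedCategory.HomologySequence.mono_homologyMap_mor₁_iff T hT (i - 1) i (by omega)).mpr ((hupper (i - 1) (by omega)).eq_of_src _ _)
    have hepi : ∀ i, b ≤ i → Epi ((DerivedCategory.homologyFunctor A i).map T.mor₂) := fun i hi =>
      (DerivedCategory.HomologySequence.epi_homologyMap_mor₂_iff T hT i (i + 1) rfl).mpr ((hlow (i + 1) (by omega)).eq_of_tgt _ _)
    let f₁ : CategoryTheory.End ((t.truncLT b).obj X) := (t.truncLT b).map f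
    let f₃ : (t.truncGE b).obj X ⟶ (t.truncGE b).obj X := (t.truncGE b).map f
    have n₁ : f₁ ≫ ι = ι ≫ f := (t.truncLTι b).naturality f
    have n₃ : f ≫ π = π ≫ f₃ := (t.truncGEπ b).naturality f
    have hf₁ : ∀ i, (DerivedCategory.homologyFunctor A i).map f₁ = 0 := fun i => by
      by_cases hi : b ≤ i
      · exact (hlow i hi).eq_of_src _ _
      · have := hmono i (by omega)
        refine (cancel_mono ((DerivedCategory.homologyFunctor A i).map T.mor₁)).mp ?_
        change _ ≫ (DerivedCategory.homologyFunctor A i).map ι = 0 ≫ _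
        rw [← Functor.map_comp, n₁, Functor.map_comp, hf i, comp_zero, zero_comp]
    have hf₃ : ∀ i, (DerivedCategory.homologyFunctor A i).map f₃ = 0 := fun i => by
      by_cases hi : i < b
      · exact (hupper i hi).eq_of_src _ _
      · have := hepi i (by omega)
        refine (cancel_epi ((DerivedCategory.homologyFunctor A i).map T.mor₂)).mp ?_
        change (DerivedCategory.homologyFunctor A i).map π ≫ _ = _ ≫ 0
        rw [← Functor.map_comp, ← n₃, Functor.map_comp, hf i, zero_comp, comp_zero]
    have hXlow : ∀ i : ℤ, i < a ∨ a + n < i → IsZero ((DerivedCategory.homologyFunctor A i).obj T.obj₁) := fun i hi => by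
      by_cases hib : b ≤ i
      · exact hlow i hib
      · have := hmono i (by omega)
        have hia : i < a := by omega
        exact IsZero.of_mono_eq_zero ((DerivedCategory.homologyFunctor A i).map T.mor₁) ((hX i (Or.inl hia)).eq_of_tgt _ _)
    have hpow := ih _ hXlow f₁ hf₁
    have h3 : f₃ = 0 := by
      have hGE : ((t.truncGE b).obj X).IsGE b := inferInstanceAs (t.IsGE ((t.truncGE b).obj X) b)
      have hLE : ((t.truncGE b).obj X).IsLE b := (DerivedCategory.isLE_iff _ b).mpr fun i hi => by
        have := hepi i (by omega)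
        exact @IsZero.of_epi_eq_zero _ _ _ _ _ ((DerivedCategory.homologyFunctor A i).map T.mor₂) this ((hX i (Or.inr (by push_cast; omega))).eq_of_src _ _)
      obtain ⟨M, ⟨e⟩⟩ := DerivedCategory.exists_iso_singleFunctor_obj_of_isGE_of_isLE ((t.truncGE b).obj X) b
      obtain ⟨g, hg⟩ := (DerivedCategory.singleFunctor A b).map_surjective (e.inv ≫ f₃ ≫ e.hom)
      have h1 : (DerivedCategory.homologyFunctor A b).map ((DerivedCategory.singleFunctor A b).map g) = 0 := by
        simp [hg, hf₃ b]
      have h2 := (DerivedCategory.singleFunctorCompHomologyFunctorIso A b).hom.naturality g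
      simp only [Functor.comp_map, h1, zero_comp, Functor.id_map] at h2
      have hg0 : g = 0 := by
        rw [← cancel_epi ((DerivedCategory.singleFunctorCompHomologyFunctorIso A b).hom.app M), ← h2, comp_zero]
      calc f₃ = e.hom ≫ (e.inv ≫ f₃ ≫ e.hom) ≫ e.inv := by simp
      _ = 0 := by rw [← hg, hg0, Functor.map_zero, zero_comp, comp_zero]
    have hzero : f ≫ π = 0 := by rw [n₃, h3, comp_zero]
    obtain ⟨g', hg'⟩ := Pretriangulated.Triangle.coyoneda_exact₂ T hT f hzero
    obtain ⟨g, hg⟩ : ∃ g : X ⟶ (t.truncLT b).obj X, f = g ≫ ι := ⟨g', hg'⟩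
    have hcomm : ∀ m : ℕ, (f₁ ^ m) ≫ ι = ι ≫ (f ^ m) := by
      intro m
      induction m with
      | zero => simp [CategoryTheory.End.one_def]
      | succ m ihm =>
        simp only [pow_succ, CategoryTheory.End.mul_def]
        rw [Category.assoc, ihm, reassoc_of% n₁]
    calc f ^ (n + 1 + 1) = f ≫ (f ^ (n + 1)) := by rw [pow_succ]; rfl
    _ = (g ≫ ι) ≫ (f ^ (n + 1)) := congrArg (· ≫ f ^ (n + 1)) hg
    _ = g ≫ (f₁ ^ (n + 1)) ≫ ι := by rw [Category.assoc, hcomm]
    _ = 0 := (congrArg (fun x : (t.truncLT b).obj X ⟶ (t.truncLT b).obj X => g ≫ x ≫ ι) hpow).trans ((congrArg (g ≫ ·) zero_comp).trans comp_zero)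

end Groth.Agent.S18550
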