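import Groth.Statements.S18555
import Groth.Agent.CdpLib.ZarAS
import Groth.Agent.EtH1Lib.Torsor
import Groth.Agent.S16853

set_option autoImplicit false
universe u
open FrobSch

namespace Groth.Agent.S18555

open CategoryTheory CategoryTheory.Limits AlgebraicGeometry

set_option backward.isDefEq.respectTransparency false
set_option backward.defeqAttrib.useBackward true
set_option linter.style.haveILetI false

set_option maxHeartbeats 2000000
set_option synthInstance.maxHeartbeats 400000
set_option backward.isDefEq.respectTransparency.types false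

open Opposite GrothendieckTopology CategoryTheory.Abelian CategoryTheory.Limits

variable (p : ℕ) [hp : Fact p.Prime]

/-- A `p`-linear endomorphism without nonzero fixed vectors is nilpotent. -/
theorem exists_iterate_eq_zero (k : Type u) [Field k] [IsAlgClosed k] [CharP k p] {V : Type u} [AddCommGroup V]
    [Module k V] [Module.Finite k V] (φ : V →+ V) (hφ : ∀ (a : k) (v : V), φ (a • v) = a ^ p • φ v)
    (hfix : ∀ v, φ v = v → v = 0) : ∃ N : ℕ, ∀ v, (⇑φ)^[N] v = 0 := by
  classical
  have hroot : ∀ (m : ℕ) (a : k), ∃ b : k, b ^ p ^ m = a := fun m a =>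
    IsAlgClosed.exists_pow_nat_eq a (pow_pos hp.out.pos m)
  have hit : ∀ (m : ℕ) (a : k) (v : V), (⇑φ)^[m] (a • v) = a ^ p ^ m • (⇑φ)^[m] v := fun m => by
    induction m with
    | zero => intro a v; simp
    | succ m ih =>
      intro a v
      rw [Function.iterate_succ_apply', ih, hφ, Function.iterate_succ_apply', ← pow_mul, pow_succ]
  let R : ℕ → Submodule k V := fun m =>
    { carrier := Set.range (⇑φ)^[m]
      zero_mem' := ⟨0, iterate_map_zero φ m⟩
      add_mem' := by
        rintro _ _ ⟨a, rfl⟩ ⟨b, rfl⟩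
        exact ⟨a + b, iterate_map_add φ m a b⟩
      smul_mem' := by
        rintro c _ ⟨a, rfl⟩
        obtain ⟨b, rfl⟩ := hroot m c
        exact ⟨b • a, hit m b a⟩ }
  have hmono : ∀ m, R (m + 1) ≤ R m := by
    rintro m _ ⟨a, rfl⟩
    exact ⟨φ a, (Function.iterate_succ_apply φ m a).symm⟩
  obtain ⟨N, hN⟩ : ∃ N, R (N + 1) = R N := by
    by_contra h
    push Not at h
    have h' : ∀ m, Module.finrank k (R m) + m ≤ Module.finrank k V := fun m => by
      induction m with
      | zero => simpa using Submodule.finrank_le _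
      | succ m ih =>
        have := Submodule.finrank_lt_finrank_of_lt (lt_of_le_of_ne (hmono m) (h m))
        omega
    have := h' (Module.finrank k V + 1)
    omega
  refine ⟨N, fun v => ?_⟩
  let ψ : R N →+ R N := AddMonoidHom.mk' (fun x => ⟨φ x, by
    obtain ⟨a, ha⟩ := x.2
    exact hN.le ⟨a, by rw [Function.iterate_succ_apply', ha]⟩⟩) (fun a b => Subtype.ext (map_add φ _ _))
  have hψ : ∀ (a : k) (x : R N), ψ (a • x) = a ^ (p ^ 1) • ψ x := fun a x =>
    Subtype.ext (by rw [pow_one]; exact hφ a x)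
  have hsurj : Function.Surjective ψ := by
    rintro ⟨x, hx⟩
    rw [← hN] at hx
    obtain ⟨a, rfl⟩ := hx
    exact ⟨⟨(⇑φ)^[N] a, ⟨a, rfl⟩⟩, Subtype.ext (Function.iterate_succ_apply' φ N a).symm⟩
  have hinj : Function.Injective ψ := by
    let b := Module.finBasis k (R N)
    have hexp : ∀ x : R N, ψ x = ∑ i, (b.repr x i) ^ p • ψ (b i) := fun x => by
      conv_lhs => rw [← b.sum_repr x]
      rw [map_sum]
      exact Finset.sum_congr rfl fun i _ => by rw [hψ, pow_one]
    have hspan : ⊤ ≤ Submodule.span k (Set.range fun i => ψ (b i)) := fun y _ => by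
      obtain ⟨x, rfl⟩ := hsurj y
      rw [hexp x]
      exact Submodule.sum_mem _ fun i _ => Submodule.smul_mem _ _ (Submodule.subset_span ⟨i, rfl⟩)
    have hli := linearIndependent_of_top_le_span_of_card_eq_finrank hspan (Fintype.card_fin _)
    refine (injective_iff_map_eq_zero ψ).2 fun x hx => ?_
    rw [hexp x] at hx
    have h0 := Fintype.linearIndependent_iff.1 hli _ hx
    rw [← b.sum_repr x]
    exact Finset.sum_eq_zero fun i _ => by rw [(pow_eq_zero_iff hp.out.ne_zero).1 (h0 i), zero_smul]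
  obtain ⟨ι, b, hb⟩ := S16853.result k p 1 le_rfl (R N) ψ hψ ⟨hinj, hsurj⟩
  haveI : IsEmpty ι := ⟨fun i => b.ne_zero i (Subtype.ext (hfix _ (congrArg Subtype.val (hb i))))⟩
  haveI : Subsingleton (R N) := b.repr.toEquiv.subsingleton
  exact congrArg Subtype.val (Subsingleton.elim (⟨(⇑φ)^[N] v, ⟨v, rfl⟩⟩ : R N) 0)

open CdpLib EtVanish EtTraceLib.GaCmp in
/-- The Frobenius of Zariski and of étale cohomology correspond. -/
theorem exists_cmp {X : Scheme.{u}} [EtZar.ZarCont X] [FrobSch.IsCharP X p] (h0 : (p : Γ(X, ⊤)) = 0) (q : ℕ) :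
    ∃ Ψ : Coh.HH X (Coh.structureModule X) q → EtCoh.H X (EtCoh.Ga X) q, Function.Injective Ψ ∧ Ψ 0 = 0 ∧
      ∀ y, Ψ (W4c5isocrystsimpconn.frobH X p q y) =
        (Ψ y).comp (Ext.mk₀ (W4c5etcohweilstudent.artinSchreierEndo X p hp.out h0)) (add_zero q) + Ψ y := by
  haveI := S17614.representablyFlat_zarToEt (S := X)
  haveI : PreservesFiniteLimits ((EtZar.zarToEt X).op.lan : _ ⥤ (X.Etale)ᵒᵖ ⥤ AddCommGrpCat.{u + 1}) :=
    AdeqShLib.preservesFiniteLimits_lan_ab _
  haveI : PreservesFiniteLimits (zarPull X) := inferInstance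
  obtain ⟨hl, hr⟩ := preservesFinite_liftSh (T := X)
  let O := Coh.toAb (Coh.structureModule X)
  let T : EtZar.H ((EtZar.resZar X).obj (EtCoh.Ga X)) q → EtCoh.H X (EtCoh.Ga X) q := fun z =>
    (Ext.mk₀ (zarConst X).inv).comp (ExtAdj.transpose (zarAdj X) (cZ' X) (EtCoh.Ga X) q z) (zero_add q)
  have hT : Function.Bijective T :=
    (bij_pre (Y := EtCoh.Ga X) (zarConst X).symm q).comp
      (ExtAdj.transpose_bijective (zarAdj X) (cZ' X) (EtCoh.Ga X) (isAcyclicFor_Ga X) q)
  let Ψ : Coh.HH X (Coh.structureModule X) q → EtCoh.H X (EtCoh.Ga X) q := fun y =>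
    T ((liftMap O q y).comp (Ext.mk₀ (resGaIso X).inv) (add_zero q))
  have hΨ : Function.Bijective Ψ :=
    hT.comp ((bij_post (X := cZ' X) (resGaIso X).symm q).comp (liftMap_bijective q O))
  have hnat : ∀ y, Ψ (Sheaf.H.map (asO p hp.out h0) q y) =
      (Ψ y).comp (Ext.mk₀ (W4c5etcohweilstudent.artinSchreierEndo X p hp.out h0)) (add_zero q) := by
    intro y
    rw [Sheaf.H.map_apply]
    simp only [Ψ, T, liftMap_comp, Ext.comp_assoc_of_second_deg_zero, Ext.mk₀_comp_mk₀]
    rw [← resGaIso_AS p hp.out h0, ← Ext.mk₀_comp_mk₀ (resGaIso X).inv, ← Ext.comp_assoc_of_second_deg_zero,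
      ExtAdj.transpose_mk₀, Ext.comp_assoc_of_third_deg_zero]
  have hadd : ∀ a b, Ψ (a + b) = Ψ a + Ψ b := fun a b => by
    simp only [Ψ, T, map_add, Ext.add_comp]
    simp only [ExtAdj.transpose, ← Functor.mapExtAddHom_apply, map_add, Ext.add_comp, Ext.comp_add]
  have hfr : W4c5isocrystsimpconn.frobAb X p = asO p hp.out h0 + 𝟙 _ := by
    refine ObjectProperty.hom_ext _ (NatTrans.ext (funext fun W => ConcreteCategory.hom_ext _ _ fun s => ?_))
    let y : (Γ(X, W.unop) : Type u) := s
    show y ^ p = y ^ p - y + y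
    rw [sub_add_cancel]
  refine ⟨Ψ, hΨ.1, ?_, fun y => ?_⟩
  · have := hadd 0 0
    rwa [add_zero, left_eq_add] at this
  · rw [← hnat, ← hadd]
    congr 1
    show Sheaf.H.map (W4c5isocrystsimpconn.frobAb X p) q y = _
    rw [hfr, Sheaf.H.map_apply, Sheaf.H.map_apply, Ext.mk₀_add, Ext.comp_add, Ext.comp_mk₀_id]

open AlgebraicGeometry CategoryTheory in
/-- Let k be an algebraically closed field of characteristic p > 0 and X a connected proper k-scheme
with trivial étale fundamental group, in the sense that every finite étale cover of X is a finite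
disjoint union of copies of X. Then the pull-back by the absolute Frobenius, i.e. the additive
endomorphism of H^1(X, O_X) induced by the p-th power map of the structure sheaf, is nilpotent: some
positive power of it vanishes. (The published setting has X smooth and projective over k; the
argument given uses only that X is proper and connected.) -/
theorem result
    (p : ℕ) [Fact p.Prime] (k : Type u) [Field k] [IsAlgClosed k] [CharP k p]
    (X : Scheme.{u}) [X.Over (Spec (CommRingCat.of k))] [IsProper (X ↘ Spec (CommRingCat.of k))]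
    [ConnectedSpace X] [FrobSch.IsCharP X p]
    (hπ : ∀ Y : FEt.Cat X, Pi1.IsSplit Y) :
    ∃ b : ℕ, 0 < b ∧ ∀ x : Coh.HH X (Coh.structureModule X) 1,
      (W4c5isocrystsimpconn.frobH X p 1)^[b] x = 0 := by
  classical
  let f := X ↘ Spec (CommRingCat.of k)
  have h0 : (p : Γ(X, ⊤)) = 0 := EtTraceLib.ASProper.natCast_eq_zero p k f
  haveI : Nonempty X := ConnectedSpace.toNonempty
  haveI := EtTraceLib.ASProper.charP_global p (Fact.out) h0
  haveI : EtZar.ZarCont X := EtTraceLib.zarCont X
  have hsec : ∀ {W : Scheme.{u}} (q : W ⟶ X) [AlgebraicGeometry.Etale q] [IsFinite q] [Surjective q],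
      ∃ s : X ⟶ W, s ≫ q = 𝟙 X := fun {W} q _ _ _ => by
    let Y : FEt.Cat X := MorphismProperty.Over.mk ⊤ q ⟨inferInstance, inferInstance⟩
    obtain ⟨ι, hι, e, he⟩ := hπ Y
    obtain ⟨w, -⟩ := q.surjective (Classical.arbitrary X)
    obtain ⟨i, x, -⟩ := (sigmaOpenCover (fun _ : ι => X)).exists_eq (e.hom w)
    exact ⟨Sigma.ι (fun _ : ι => X) i ≫ e.inv, by rw [Category.assoc]; exact he i⟩
  haveI : Subsingleton (EtCoh.H X (EtCoh.const X (ZMod p)) 1) :=
    EtH1Lib.subsingleton_H1 hsec _ (EtH1Lib.isFiniteLocallyConstant_const (ZMod p))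
  obtain ⟨V, _, _, _, φ, e, hφ, he⟩ := EtTraceLib.ASProper.exists_semilinear p (Fact.out) h0 k f 1
  have hS := EtVanish.shortExact_AS (X := X) p (Fact.out) h0
  obtain ⟨N, hN⟩ := exists_iterate_eq_zero p k φ hφ (fun v hv => by
    have h1 : (e v).comp (Ext.mk₀ (W4c5etcohweilstudent.artinSchreierEndo X p (Fact.out) h0)) (add_zero 1) = 0 := by
      rw [he, hv, sub_self, map_zero]
    obtain ⟨y, hy⟩ := Ext.covariant_sequence_exact₂ _ hS (e v) h1
    refine e.injective ?_
    rw [map_zero, ← hy, Subsingleton.elim (α := EtCoh.H X (EtCoh.const X (ZMod p)) 1) y 0, Ext.zero_comp])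
  obtain ⟨Ψ, hΨ, hΨ0, hnat⟩ := exists_cmp p h0 1
  refine ⟨N + 1, N.succ_pos, fun x => hΨ ?_⟩
  have key : ∀ m : ℕ, Ψ ((W4c5isocrystsimpconn.frobH X p 1)^[m] x) = e ((⇑φ)^[m] (e.symm (Ψ x))) := fun m => by
    induction m with
    | zero => exact (e.apply_symm_apply _).symm
    | succ m ih => rw [Function.iterate_succ_apply', hnat, ih, he, map_sub, sub_add_cancel, Function.iterate_succ_apply']
  rw [key, Function.iterate_succ_apply', hN, map_zero, map_zero, hΨ0]

end Groth.Agent.S18555
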