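import Groth.Statements.S18556
import Groth.Agent.FrobExtLib.Main
import Groth.Agent.S18555

set_option autoImplicit false
universe u
open FrobSch

namespace Groth.Agent.S18556

open CategoryTheory CategoryTheory.Limits AlgebraicGeometry

set_option backward.isDefEq.respectTransparency false
set_option backward.defeqAttrib.useBackward true
set_option linter.style.haveILetI false

set_option maxHeartbeats 1000000
set_option backward.isDefEq.respectTransparency.types false

variable {X : Scheme.{u}} (p : ℕ) [Fact p.Prime] [FrobSch.IsCharP X p]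

local notation "G" => Functor.obj (Scheme.Modules.pullback (FrobSch.frob X p))

theorem iterate_iso (m : ℕ) {A B : X.Modules} (e : A ≅ B) : Nonempty (G^[m] A ≅ G^[m] B) := by
  induction m with
  | zero => exact ⟨e⟩
  | succ m ih =>
    obtain ⟨e'⟩ := ih
    rw [Function.iterate_succ_apply', Function.iterate_succ_apply']
    exact ⟨(Scheme.Modules.pullback (FrobSch.frob X p)).mapIso e'⟩

theorem iterate_shortExact (m : ℕ) {A B : X.Modules}
    (h : ∃ (i : A ⟶ B) (q : B ⟶ Coh.structureModule X) (w : i ≫ q = 0), (ShortComplex.mk i q w).ShortExact) :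
    ∃ (i : G^[m] A ⟶ G^[m] B) (q : G^[m] B ⟶ Coh.structureModule X) (w : i ≫ q = 0),
      (ShortComplex.mk i q w).ShortExact := by
  induction m with
  | zero => exact h
  | succ m ih =>
    obtain ⟨i, q, w, hS⟩ := ih
    rw [Function.iterate_succ_apply', Function.iterate_succ_apply']
    let F := Scheme.Modules.pullback (FrobSch.frob X p)
    let P := AmpleLib.pullO (FrobSch.frob X p)
    have w' : F.map i ≫ (F.map q ≫ P.hom) = 0 := by rw [← F.map_comp_assoc, w, F.map_zero, zero_comp]
    refine ⟨F.map i, F.map q ≫ P.hom, w', ?_⟩
    exact ShortComplex.shortExact_of_iso (ShortComplex.isoMk (S₁ := (ShortComplex.mk i q w).map F)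
      (S₂ := ShortComplex.mk _ _ w') (Iso.refl _) (Iso.refl _) P (by simp) (by simp))
      (DCohLib.shortExact_pullback_of_isFlat _ _ hS
        ((DCohLib.isFlat_iff _).2 (SiteBase.ExtZeroPre.isFlat_unit X.sheaf)))

theorem isExt_iterate (m : ℕ) {n : ℕ} {E : X.Modules} {c : Fin n → Coh.HH X (Coh.structureModule X) 1}
    (h : FrobExtLib.IsExt n E c) :
    FrobExtLib.IsExt n (G^[m] E) fun j => (W4c5isocrystsimpconn.frobH X p 1)^[m] (c j) := by
  induction m with
  | zero => exact h
  | succ m ih =>
    have hp : FrobExtLib.powAb (X := X) p = W4c5isocrystsimpconn.frobAb X p :=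
      ObjectProperty.hom_ext _ (NatTrans.ext (funext fun U => ConcreteCategory.hom_ext _ _ fun s =>
        (FrobExtLib.powAb_app p U.unop s).trans rfl))
    have h' := FrobExtLib.IsExt.pull p ih
    simp only [hp] at h'
    simp only [Function.iterate_succ_apply']
    exact h'

open AlgebraicGeometry CategoryTheory CategoryTheory.Limits in
/-- Let k be an algebraically closed field of characteristic p > 0 and X a connected proper k-scheme
with trivial étale fundamental group, in the sense that every finite étale cover of X is a finite
disjoint union of copies of X. Then there is a positive integer b, which depends only on X, with the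
following property: for every natural number r and every locally free O_X-module E of rank r which
is an r-fold iterated extension of copies of the structure sheaf (a filtration 0 = E_0 ≤ E_1 ≤ ⋯ ≤
E_r = E with every successive quotient isomorphic to O_X), the b(r-1)-fold iterated pull-back of E
by the absolute Frobenius of X is isomorphic to the free module O_X^r. (The published statement is
phrased for a sequence E_0, …, E_{b(r-1)} of locally free sheaves with each E_{i+1} the Frobenius
pull-back of E_i, and has X smooth and projective over k; the argument given uses only that X is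
proper and connected.) -/
theorem result
    (p : ℕ) [Fact p.Prime] (k : Type u) [Field k] [IsAlgClosed k] [CharP k p]
    (X : Scheme.{u}) [X.Over (Spec (CommRingCat.of k))] [IsProper (X ↘ Spec (CommRingCat.of k))]
    [ConnectedSpace X] [FrobSch.IsCharP X p]
    (hπ : ∀ Y : FEt.Cat X, Pi1.IsSplit Y) :
    ∃ b : ℕ, 0 < b ∧ ∀ (r : ℕ) (E : X.Modules), FlatMod.IsFinLocFreeOfRank r E →
      W4c5isocrystsimpconn.IsIterExt X r E →
        Nonempty (((Scheme.Modules.pullback (FrobSch.frob X p)).obj)^[b * (r - 1)] E ≅ FlatMod.freeMod X r) := by
  classical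
  obtain ⟨b, hb, hnil⟩ := S18555.result p k X hπ
  refine ⟨b, hb, fun r E _ hE => ?_⟩
  clear * - hb hnil hE
  induction r generalizing E with
  | zero =>
    have hz : IsZero E := hE
    simpa using (⟨hz.iso (by
      rw [IsZero.iff_id_eq_zero]
      exact Limits.Sigma.hom_ext _ _ fun i => i.elim0)⟩ : Nonempty (E ≅ FlatMod.freeMod X 0))
  | succ n ih =>
    obtain ⟨E', i, q, w, hE', hS⟩ := hE
    rcases Nat.eq_zero_or_pos n with rfl | hn
    · haveI : IsIso q := by
        have hz : IsZero E' := hE'
        haveI := hS.epi_g
        haveI : Mono q := hS.exact.mono_g (hz.eq_of_src _ _)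
        exact isIso_of_mono_of_epi q
      simp only [Nat.zero_add, Nat.sub_self, Nat.mul_zero, Function.iterate_zero_apply]
      exact ⟨asIso q ≪≫ ⟨Limits.Sigma.ι (fun _ : Fin 1 => Coh.structureModule X) 0, Limits.Sigma.desc fun _ => 𝟙 _,
        Limits.Sigma.ι_desc _ _, Limits.Sigma.hom_ext _ _ fun j => by
          rw [Limits.Sigma.ι_desc_assoc, Category.id_comp, Category.comp_id, Subsingleton.elim j 0]⟩⟩
    · obtain ⟨e⟩ := ih E' hE'
      obtain ⟨i', q', w', hS'⟩ := iterate_shortExact p (b * (n - 1)) ⟨i, q, w, hS⟩
      obtain ⟨c, hc⟩ := FrobExtLib.exists_isExt _ hS' e (Iso.refl _) (Iso.refl _)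
      have h := isExt_iterate p b hc
      simp only [hnil] at h
      have h2 : b * (n + 1 - 1) = b + b * (n - 1) := by
        obtain ⟨m, rfl⟩ := Nat.exists_eq_add_of_le hn
        simp [Nat.mul_add, Nat.add_comm, Nat.add_left_comm]
      rw [h2, Function.iterate_add_apply]
      exact FrobExtLib.IsExt.free h

end Groth.Agent.S18556
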