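import Mathlib
import Groth.Statements.S18560

set_option autoImplicit false
universe u v
open PtQuiv

namespace Groth.Agent.S18560

/-- Let K be a field and s i ∈ K² (i in a finite index type) nonzero vectors, regarded as a
representation of the quiver with a central vertex carrying the plane and one vertex per i carrying
a line that maps to the plane by 1 ↦ s i. For a weight θ in the hypersimplex (0 ≤ θ i ≤ 1, Σ θ i =
2, central weight -1) the representation is θ-semistable if and only if, for every vector v, the
indices i with s i on the line K ∙ v have total weight at most 1. (The published statement is over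
an algebraically closed field, assumes semistability for some interior weight instead of s i ≠ 0,
and phrases the bound through the classes of pairwise proportional s i; any field is allowed here.
Its further assertion that the bounding walls, where the total weight of one proportionality class
equals 1, do not meet in the interior of the hypersimplex is not part of this row.) -/
theorem result (K : Type u) [Field K] (ι : Type v) [Fintype ι]
    (s : ι → (Fin 2 → K)) (hs : ∀ i, s i ≠ 0) (θ : ι → ℚ) (h0 : ∀ i, 0 ≤ θ i)
    (h1 : ∀ i, θ i ≤ 1) (h2 : ∑ i, θ i = 2) :
    PtQuiv.QSemistable (-1) θ s ↔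
      ∀ (J : Finset ι) (v : Fin 2 → K), (∀ i ∈ J, s i ∈ K ∙ v) → ∑ i ∈ J, θ i ≤ 1 := by
  classical
  constructor
  · intro h J v hJ
    have hw := h.2 (K ∙ v) J hJ
    have hle : ((Module.finrank K ↥(K ∙ v) : ℕ) : ℚ) ≤ 1 := by
      rcases eq_or_ne v 0 with rfl | hv
      · rw [show (K ∙ (0 : Fin 2 → K)) = ⊥ from Submodule.span_singleton_eq_bot.mpr rfl, finrank_bot]
        norm_num
      · rw [finrank_span_singleton hv]; norm_num
    rw [PtQuiv.QWt] at hw
    linarith
  · intro h
    refine ⟨by linarith, fun L I hL => ?_⟩
    have hsum : ∑ i ∈ I, θ i ≤ 2 :=
      (Finset.sum_le_sum_of_subset_of_nonneg (Finset.subset_univ I) fun i _ _ => h0 i).trans_eq h2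
    rw [PtQuiv.QWt]
    rcases Nat.lt_or_ge (Module.finrank K L) 2 with hd | hd
    · rcases Nat.eq_zero_or_pos (Module.finrank K L) with hd0 | hd1
      · have hbot : L = ⊥ := Submodule.finrank_eq_zero.mp hd0
        subst hbot
        have : I = ∅ := Finset.eq_empty_of_forall_notMem fun i hi =>
          hs i ((Submodule.mem_bot K).mp (hL i hi))
        simp [this]
      · have hd' : Module.finrank K L = 1 := by omega
        obtain ⟨v, hv0, hv⟩ := finrank_eq_one_iff'.mp hd'
        have := h I v.1 fun i hi => by
          obtain ⟨c, hc⟩ := hv ⟨s i, hL i hi⟩
          exact Submodule.mem_span_singleton.mpr ⟨c, congrArg Subtype.val hc⟩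
        rw [hd']
        push_cast
        linarith
    · have : (2 : ℚ) ≤ Module.finrank K L := by exact_mod_cast hd
      linarith

end Groth.Agent.S18560
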