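import Mathlib
import Groth.Statements.S18561

set_option autoImplicit false
universe u v
open PtQuiv

namespace Groth.Agent.S18561

/-- Let K be a field and s i ∈ K² (i in a finite index type) nonzero vectors, regarded as a
representation of the quiver with a central vertex carrying the plane and one vertex per i carrying
a line mapping to the plane by 1 ↦ s i. Then the representation is stable for some weight of the
hypersimplex (0 ≤ θ i ≤ 1, Σ θ i = 2, central weight -1) if and only if the s i fall into at least
three proportionality classes, i.e. three of them are pairwise non-proportional. (The published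
statement is over an algebraically closed field and assumes semistability for some interior weight
instead of s i ≠ 0; any field is allowed here. Its further assertions, that the set of semistability
weights is full-dimensional exactly in this case and is a wall otherwise, are not part of this row.) -/
theorem result (K : Type u) [Field K] (ι : Type v)
    [Fintype ι] (s : ι → (Fin 2 → K)) (hs : ∀ i, s i ≠ 0) :
    (∃ θ : ι → ℚ, (∀ i, 0 ≤ θ i) ∧ (∀ i, θ i ≤ 1) ∧ ∑ i, θ i = 2 ∧ PtQuiv.QStable (-1) θ s) ↔
      ∃ i j k : ι, s i ∉ K ∙ s j ∧ s j ∉ K ∙ s k ∧ s i ∉ K ∙ s k := by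
  classical
  have hsymm : ∀ i j, s j ∉ K ∙ s i → s i ∉ K ∙ s j := fun i j h h' => by
    obtain ⟨c, hc⟩ := Submodule.mem_span_singleton.mp h'
    rcases eq_or_ne c 0 with rfl | hc0
    · exact hs i (by rw [← hc, zero_smul])
    · exact h (Submodule.mem_span_singleton.mpr ⟨c⁻¹, by rw [← hc, smul_smul, inv_mul_cancel₀ hc0, one_smul]⟩)
  constructor
  · rintro ⟨θ, h0, h1, h2, hst⟩
    have hline : ∀ i, ∑ x ∈ Finset.univ.filter (fun x => s x ∈ K ∙ s i), θ x < 1 := by
      intro i
      set J := Finset.univ.filter (fun x => s x ∈ K ∙ s i)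
      have hsub : PtQuiv.QSubrep s (K ∙ s i) J := fun x hx => (Finset.mem_filter.mp hx).2
      have hw : PtQuiv.QWt K (-1) θ (K ∙ s i) J = -1 + ∑ x ∈ J, θ x := by
        simp [PtQuiv.QWt, finrank_span_singleton (hs i)]
      have hle := hst.1.2 _ J hsub
      rw [hw] at hle
      refine lt_of_le_of_ne (by linarith) fun he => ?_
      rcases hst.2 _ J hsub (by rw [hw, he]; ring) with ⟨h, -⟩ | ⟨h, -⟩
      · exact hs i (Submodule.span_singleton_eq_bot.mp h)
      · have := congrArg (fun S : Submodule K (Fin 2 → K) => Module.finrank K S) h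
        simp [finrank_span_singleton (hs i)] at this
    obtain ⟨i⟩ : Nonempty ι := by
      by_contra hne
      rw [not_nonempty_iff] at hne
      simp at h2
    obtain ⟨j, hj⟩ : ∃ j, s j ∉ K ∙ s i := by
      by_contra! hall
      have := hline i
      rw [Finset.filter_true_of_mem (fun x _ => hall x), h2] at this
      linarith
    obtain ⟨k, hki, hkj⟩ : ∃ k, s k ∉ K ∙ s i ∧ s k ∉ K ∙ s j := by
      by_contra! hall
      set F := Finset.univ.filter (fun x => s x ∈ K ∙ s i)
      have e1 := hline i
      have e2 := hline j
      have e3 : ∑ x ∈ Finset.univ \ F, θ x ≤ ∑ x ∈ Finset.univ.filter (fun x => s x ∈ K ∙ s j), θ x :=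
        Finset.sum_le_sum_of_subset_of_nonneg (fun x hx => by
          simp only [F, Finset.mem_sdiff, Finset.mem_filter, Finset.mem_univ, true_and] at hx ⊢
          exact hall x hx) fun x _ _ => h0 x
      have e4 := Finset.sum_sdiff (Finset.subset_univ F) (f := θ)
      linarith
    exact ⟨i, j, k, hsymm i j hj, hsymm j k hkj, hsymm i k hki⟩
  · rintro ⟨i, j, k, hij, hjk, hik⟩
    set T : Finset ι := {i, j, k}
    have hij' : i ≠ j := fun h => hij (h ▸ Submodule.mem_span_singleton_self _)
    have hjk' : j ≠ k := fun h => hjk (h ▸ Submodule.mem_span_singleton_self _)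
    have hik' : i ≠ k := fun h => hik (h ▸ Submodule.mem_span_singleton_self _)
    have hT : T.card = 3 := Finset.card_eq_three.mpr ⟨i, j, k, hij', hik', hjk', rfl⟩
    set N : ℕ := (Finset.univ \ T).card
    set ε : ℚ := 1 / (3 * (N + 1))
    have hε : 0 < ε := by positivity
    have hNε : (N : ℚ) * ε < 1 / 3 := by
      simp only [ε]
      rw [mul_one_div, div_lt_div_iff₀ (by positivity) (by norm_num)]
      linarith [(Nat.cast_nonneg N : (0 : ℚ) ≤ N)]
    set α : ℚ := (2 - N * ε) / 3 with hα
    have hNε0 : 0 ≤ (N : ℚ) * ε := by positivity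
    let θ : ι → ℚ := fun x => if x ∈ T then α else ε
    have hε1 : ε ≤ 1 := by
      simp only [ε]
      rw [div_le_one (by positivity)]
      linarith [(Nat.cast_nonneg N : (0 : ℚ) ≤ N)]
    have hpos : ∀ x, 0 < θ x := fun x => by
      simp only [θ]; split
      · rw [hα]; linarith
      · exact hε
    have hsplit : ∀ J : Finset ι, ∑ x ∈ J, θ x = (J.filter (· ∈ T)).card * α + (J.filter (· ∉ T)).card * ε := by
      intro J
      simp only [θ, Finset.sum_ite, Finset.sum_const, nsmul_eq_mul]
    have h2 : ∑ x, θ x = 2 := by
      rw [hsplit, show Finset.univ.filter (· ∈ T) = T by ext; simp,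
        show Finset.univ.filter (· ∉ T) = Finset.univ \ T by ext; simp, hT, hα]
      push_cast
      ring
    have hline : ∀ (v : Fin 2 → K) (J : Finset ι), (∀ x ∈ J, s x ∈ K ∙ v) → ∑ x ∈ J, θ x < 1 := by
      intro v J hJ
      have hpair : ∀ x y, x ∈ J → y ∈ J → s x ∈ K ∙ s y := by
        intro x y hx hy
        obtain ⟨c, hc⟩ := Submodule.mem_span_singleton.mp (hJ x hx)
        obtain ⟨d, hd⟩ := Submodule.mem_span_singleton.mp (hJ y hy)
        have hd0 : d ≠ 0 := fun h => hs y (by rw [← hd, h, zero_smul])
        exact Submodule.mem_span_singleton.mpr ⟨c * d⁻¹, by rw [← hd, smul_smul, mul_assoc, inv_mul_cancel₀ hd0, mul_one, hc]⟩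
      have hc1 : (J.filter (· ∈ T)).card ≤ 1 := by
        refine Finset.card_le_one.mpr fun x hx y hy => ?_
        simp only [Finset.mem_filter, T, Finset.mem_insert, Finset.mem_singleton] at hx hy
        have hxy := hpair x y hx.1 hy.1
        have hyx := hpair y x hy.1 hx.1
        rcases hx.2 with rfl | rfl | rfl <;> rcases hy.2 with rfl | rfl | rfl <;>
          first | rfl | exact absurd hxy (by assumption) | exact absurd hyx (by assumption)
      have hcN : (J.filter (· ∉ T)).card ≤ N := Finset.card_le_card fun x hx => by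
        simp only [Finset.mem_filter] at hx
        simp [hx.2]
      rw [hsplit]
      have hA : ((J.filter (· ∈ T)).card : ℚ) * α ≤ α := by
        calc _ ≤ (1 : ℚ) * α := mul_le_mul_of_nonneg_right (by exact_mod_cast hc1) (by rw [hα]; linarith)
          _ = α := one_mul α
      have hB : ((J.filter (· ∉ T)).card : ℚ) * ε ≤ N * ε :=
        mul_le_mul_of_nonneg_right (by exact_mod_cast hcN) hε.le
      linarith [hα]
    have key : ∀ (L : Submodule K (Fin 2 → K)) (I : Finset ι), PtQuiv.QSubrep s L I →
        PtQuiv.QWt K (-1) θ L I ≤ 0 ∧ (PtQuiv.QWt K (-1) θ L I = 0 →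
          (L = ⊥ ∧ I = ∅) ∨ (L = ⊤ ∧ I = Finset.univ)) := by
      intro L I hL
      rw [PtQuiv.QWt]
      rcases Nat.lt_or_ge (Module.finrank K L) 2 with hd | hd
      · rcases Nat.eq_zero_or_pos (Module.finrank K L) with hd0 | hd1
        · have hbot : L = ⊥ := Submodule.finrank_eq_zero.mp hd0
          subst hbot
          have : I = ∅ := Finset.eq_empty_of_forall_notMem fun x hx =>
            hs x ((Submodule.mem_bot K).mp (hL x hx))
          exact ⟨by simp [this], fun _ => Or.inl ⟨rfl, this⟩⟩
        · have hd' : Module.finrank K L = 1 := by omega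
          obtain ⟨v, hv0, hv⟩ := finrank_eq_one_iff'.mp hd'
          have := hline v.1 I fun x hx => by
            obtain ⟨c, hc⟩ := hv ⟨s x, hL x hx⟩
            exact Submodule.mem_span_singleton.mpr ⟨c, congrArg Subtype.val hc⟩
          rw [hd']
          push_cast
          exact ⟨by linarith, fun h => by exfalso; linarith⟩
      · have htop : L = ⊤ := Submodule.eq_top_of_finrank_eq (le_antisymm (Submodule.finrank_le L)
          (by rw [Module.finrank_fin_fun]; exact hd))
        subst htop
        rw [finrank_top, Module.finrank_fin_fun]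
        have e4 := Finset.sum_sdiff (Finset.subset_univ I) (f := θ)
        have e5 : 0 ≤ ∑ x ∈ Finset.univ \ I, θ x := Finset.sum_nonneg fun x _ => (hpos x).le
        push_cast
        refine ⟨by linarith, fun h => Or.inr ⟨rfl, Finset.eq_univ_of_forall fun x => ?_⟩⟩
        by_contra hx
        have := Finset.sum_pos (fun x (_ : x ∈ Finset.univ \ I) => hpos x) ⟨x, by simpa using hx⟩
        linarith
    refine ⟨θ, fun x => (hpos x).le, fun x => ?_, h2, ⟨by rw [h2]; norm_num,
      fun L I hL => (key L I hL).1⟩, fun L I hL => (key L I hL).2⟩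
    simp only [θ]; split
    · rw [hα]; linarith
    · exact hε1

end Groth.Agent.S18561
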