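import Groth.Statements.S18570
import Groth.Agent.GPLib.Stab
-- import your own Groth.Agent.* helpers here

set_option autoImplicit false
set_option backward.isDefEq.respectTransparency false
set_option maxHeartbeats 1600000
set_option backward.isDefEq.respectTransparency.types false
set_option linter.style.haveILetI false
set_option synthInstance.maxHeartbeats 200000
universe u
open CategoryTheory CategoryTheory.Limits AlgebraicGeometry
open ParSh

namespace Groth.Agent.S18570

open Groth.Agent CategoryTheory

/-- Let Y be a smooth proper integral curve (integral, smooth and proper over k, of dimension one) over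
an algebraically closed field k and D an effective Cartier divisor on Y with ideal I, of degree d ≥
1 in the sense that H⁰(Y, G ⊗ O_D) has k-dimension r·d for every finite locally free G of rank r. A
generalised parabolic structure on a finite locally free E is a k-subspace F₁ of H⁰(E ⊗ O_D); with
weight α its parabolic degree in rank n is deg E + α·dim_k F₁ (deg E = χ(E) − n·χ(O_Y)); a submodule
G → E carries the preimage structure under H⁰(G ⊗ O_D) → H⁰(E ⊗ O_D), and (E, F₁) is α-semistable
(α-stable) when deg_α(G)·n ≤ (<) deg_α(E)·r for every finite locally free submodule G of rank r ≥ 1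
(with r < n for stability); weight α = 1 gives 1-semistability and 1-stability. Let E have rank n ≥
2 with structure F₁ and let 0 ≤ α < 1 satisfy 1 − 1/(d·n·(n−1)) < α. Suppose moreover that n and deg
E are coprime and that dim_k F₁ = a·n is a multiple of n. Then α-semistability, α-stability,
1-semistability and 1-stability of (E, F₁) are all equivalent. The published statement is set on the
normalisation of a singular curve, with structures over several disjoint divisors D_i lying over its
singular points, d their total degree and each dim F₁^i a multiple of n; here Y is any smooth proper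
integral curve with one structure over one divisor and only dim F₁ = a·n is assumed, which contains
the several-divisor case (D the sum of the D_i, F₁ the direct sum of the F₁^i). -/
theorem result (k : Type u) [Field k] [IsAlgClosed k] (X : Scheme.{u}) [X.Over (Spec (CommRingCat.of k))]
    [AlgebraicGeometry.IsIntegral X] [IsProper (X ↘ Spec (CommRingCat.of k))] [Smooth (X ↘ Spec (CommRingCat.of k))]
    (hdim : topologicalKrullDim X = 1)
    (I : X.IdealSheafData) (hD : FGA.IsEffCartier I) (d : ℕ) (hd : 0 < d)
    (hdegD : ∀ (G : X.Modules) (r : ℕ), FlatMod.IsFinLocFreeOfRank r G → Module.finrank k (ParSh.fibD X I G) = r * d)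
    {E : X.Modules} (n : ℕ) (hn : 2 ≤ n) (hE : FlatMod.IsFinLocFreeOfRank n E)
    (F₁ : Submodule k (ParSh.fibD X I E))
    (α : ℝ) (hα0 : 0 ≤ α) (hα1 : α < 1) (hα : 1 - 1 / ((d : ℝ) * (n : ℝ) * ((n : ℝ) - 1)) < α)
    (hcop : IsCoprime (n : ℤ) (Curv2.deg k X E n)) (a : ℕ) (ha : Module.finrank k F₁ = a * n) :
    (ParSh.IsGPSemistable k X I α F₁ n ↔ ParSh.IsGPSemistable k X I 1 F₁ n) ∧
      (ParSh.IsGPStable k X I α F₁ n ↔ ParSh.IsGPSemistable k X I 1 F₁ n) ∧
      (ParSh.IsGPStable k X I 1 F₁ n ↔ ParSh.IsGPSemistable k X I 1 F₁ n) := by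
    haveI := EulerIneqLib.isNoetherian_proper (X := X) k
    haveI := VBLib.isRegCurve_of_smooth k (X := X) hdim.le
    have hn0 : 0 < n := by omega
    have e1 : ParSh.IsGPSemistable k X I α F₁ n → ParSh.IsGPSemistable k X I 1 F₁ n :=
      GPLib.ss_one_of_ss k hdegD hd hn hE hα1 hα
    have e2 : ParSh.IsGPSemistable k X I 1 F₁ n → ParSh.IsGPStable k X I 1 F₁ n :=
      GPLib.st_one_of_ss_one k hn0 hcop ha
    have e3 : ParSh.IsGPStable k X I 1 F₁ n → ParSh.IsGPStable k X I α F₁ n :=
      GPLib.st_of_st_one k hdegD hd hn hE hα1 hα
    have e4 : ParSh.IsGPSemistable k X I 1 F₁ n → ParSh.IsGPSemistable k X I α F₁ n := fun h =>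
      GPLib.ss_of_ss_one k hdim.le hα0 hα1.le hE (e3 (e2 h)) h
    have e5 : ParSh.IsGPStable k X I 1 F₁ n → ParSh.IsGPSemistable k X I 1 F₁ n := fun h G r i hi hr hG => by
      haveI := hi
      rcases (GPLib.rank_le_mono k i hE hG).lt_or_eq with hlt | rfl
      · exact (h G r i hi hr hlt hG).le
      · have hI := GPLib.dim_support hdim.le hD
        exact mul_le_mul_of_nonneg_right (GPLib.gpDeg_le_mono k hdim.le hI hG hE _ _ i
          (GPLib.map_induced_le k i F₁) zero_le_one le_rfl).1 (Nat.cast_nonneg r)
    refine ⟨⟨e1, e4⟩, ⟨fun h => ?_, fun h => e3 (e2 h)⟩, ⟨e5, e2⟩⟩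
    refine e1 fun G r i hi hr hG => ?_
    haveI := hi
    rcases (GPLib.rank_le_mono k i hE hG).lt_or_eq with hlt | rfl
    · exact (h G r i hi hr hlt hG).le
    · have hI := GPLib.dim_support hdim.le hD
      exact mul_le_mul_of_nonneg_right (GPLib.gpDeg_le_mono k hdim.le hI hG hE _ _ i
        (GPLib.map_induced_le k i F₁) hα0 hα1.le).1 (Nat.cast_nonneg r)

end Groth.Agent.S18570
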