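import Mathlib
import Groth.Agent.REqLib.LineLink
import Groth.Statements.S18572

set_option autoImplicit false
universe u
open CategoryTheory AlgebraicGeometry
open REq

namespace Groth.Agent.S18572

/-- Let k be an infinite field and X an integral separated scheme of finite type over k which is retract
rational over k. Then X is almost R-trivial over k: there is a dense open subscheme U of X such
that, for every field K containing k (in the universe of k), U has a K-point and any two K-points of
X lying in U are R-equivalent on X. -/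
theorem result (k : Type u) [Field k] [Infinite k] (X : Scheme.{u})
    (f : X ⟶ Spec (CommRingCat.of k)) [IsIntegral X] [LocallyOfFiniteType f] [QuasiCompact f]
    [IsSeparated f] (hX : REq.IsRetractRational f) :
    REq.IsAlmostRTrivial f := by
  obtain ⟨U, n, V, a, b, hU, hab, ha, hb⟩ := hX
  refine ⟨U, U.2.dense hU, fun K _ _ => ⟨?_, fun A B hA hB => ?_⟩⟩
  · have hV : (V : Set (Spec (CommRingCat.of (MvPolynomial (Fin n) k)))).Nonempty := by
      obtain ⟨x, hx⟩ := hU
      exact ⟨_, (a.base ⟨x, hx⟩).2⟩
    obtain ⟨v, hv⟩ := hV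
    obtain ⟨_, ⟨p, rfl⟩, hvp, hpV⟩ :=
      PrimeSpectrum.isTopologicalBasis_basic_opens.exists_subset_of_mem_open hv V.2
    have hp : p ≠ 0 := fun h => hvp (by simp [h])
    obtain ⟨x, hx⟩ : ∃ x : Fin n → k, MvPolynomial.eval x p ≠ 0 := by
      by_contra h
      push Not at h
      exact hp (MvPolynomial.funext fun x => by simp [h x])
    let pt : Spec (CommRingCat.of K) ⟶ Spec (CommRingCat.of (MvPolynomial (Fin n) k)) :=
      Spec.map (CommRingCat.ofHom ((algebraMap k K).comp (MvPolynomial.eval x)))
    have hr : Set.range pt.base ⊆ (V : Set (Spec (CommRingCat.of (MvPolynomial (Fin n) k)))) := by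
      rintro _ ⟨q, rfl⟩
      refine hpV ?_
      show ((algebraMap k K).comp (MvPolynomial.eval x)) p ∉ q.asIdeal
      rw [(Ideal.eq_bot_or_top q.asIdeal).resolve_right q.2.ne_top]
      simpa using hx
    obtain ⟨pt', hpt'⟩ := Groth.Agent.REqLib.exists_lift_opens pt V hr
    refine ⟨⟨pt' ≫ b ≫ U.ι, ?_⟩, ?_⟩
    · rw [Category.assoc, Category.assoc, hb, reassoc_of% hpt', REq.specMap, ← Spec.map_comp]
      congr 1
      ext r
      simp
    · rintro _ ⟨q, rfl⟩
      exact (b.base (pt'.base q)).2
  · obtain ⟨A', hA'⟩ := Groth.Agent.REqLib.exists_lift_opens A.1 U hA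
    obtain ⟨B', hB'⟩ := Groth.Agent.REqLib.exists_lift_opens B.1 U hB
    obtain ⟨W, h, p, q, h1, h2, h3, h4, h5⟩ := Groth.Agent.REqLib.elemLink_of_retraction f n U V a b
      hab ha hb (K := K) ⟨A', by rw [reassoc_of% hA']; exact A.2⟩ ⟨B', by rw [reassoc_of% hB']; exact B.2⟩
    refine Relation.EqvGen.rel _ _ ⟨W, h ≫ U.ι, p, q, by rw [Category.assoc]; exact h1, h2, h3, ?_, ?_⟩
    · rw [reassoc_of% h4]; exact hA'
    · rw [reassoc_of% h5]; exact hB'

end Groth.Agent.S18572
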