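import Mathlib
import Groth.Agent.REqLib.P1Irred
import Groth.Statements.S18573

set_option autoImplicit false
universe u
open CategoryTheory AlgebraicGeometry
open REq

namespace Groth.Agent.S18573

/-- Let Y be a scheme over a field k and K a field containing k. Let V and W be closed subsets of Y with
V ∪ W = Y such that no K-point of Y has its image in V ∩ W. If p is a K-point of Y lying in V and q
a K-point of Y lying in W, then p and q are not R-equivalent on Y. (The published step concerns
k-points of the special fibre of a proper flat scheme over a discrete valuation ring, that is K = k;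
this row is stated for any scheme Y over k and K-points for any field K containing k.) -/
theorem result (k : Type u) [Field k] (Y : Scheme.{u})
    (g : Y ⟶ Spec (CommRingCat.of k)) (K : Type u) [Field K] [Algebra k K]
    (V W : Set Y) (hV : IsClosed V) (hW : IsClosed W) (hVW : V ∪ W = Set.univ)
    (hT : ∀ z : REq.Pts g K, ¬ (Set.range z.1.base ⊆ V ∩ W))
    (p q : REq.Pts g K) (hp : Set.range p.1.base ⊆ V) (hq : Set.range q.1.base ⊆ W) :
    ¬ REq.REquiv g K p q := by
  haveI := Groth.Agent.REqLib.isIntegral_projSpaceOver 1 K
  have hnot : ∀ (r : REq.Pts g K), Set.range r.1.base ⊆ V → Set.range r.1.base ⊆ W → False :=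
    fun r h1 h2 => hT r (Set.subset_inter h1 h2)
  have step : ∀ A B : REq.Pts g K, REq.ElemLink g K A B →
      (Set.range A.1.base ⊆ V ↔ Set.range B.1.base ⊆ V) := by
    rintro A B ⟨U, h, a, b, -, -, -, ha, hb⟩
    have hU : IsPreirreducible (Set.univ : Set (U : Scheme.{u})) := by
      have := (PreirreducibleSpace.isPreirreducible_univ (X := REq.P1K K)).preimage
        U.ι.isOpenEmbedding
      rwa [Set.preimage_univ] at this
    have hcov : Set.univ ⊆ h.base ⁻¹' V ∪ h.base ⁻¹' W := by
      rw [← Set.preimage_union, hVW, Set.preimage_univ]
    have hin : ∀ (S : Set Y), Set.univ ⊆ h.base ⁻¹' S →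
        Set.range A.1.base ⊆ S ∧ Set.range B.1.base ⊆ S := by
      intro S hS
      constructor
      · rintro _ ⟨x, rfl⟩
        rw [← ha, Scheme.Hom.comp_base, TopCat.coe_comp]
        exact hS (Set.mem_univ (a.base x))
      · rintro _ ⟨x, rfl⟩
        rw [← hb, Scheme.Hom.comp_base, TopCat.coe_comp]
        exact hS (Set.mem_univ (b.base x))
    rcases isPreirreducible_iff_isClosed_union_isClosed.1 hU _ _
      (hV.preimage h.continuous) (hW.preimage h.continuous) hcov with hc | hc
    · exact iff_of_true (hin V hc).1 (hin V hc).2
    · exact iff_of_false (fun hA => hnot A hA (hin W hc).1) (fun hB => hnot B hB (hin W hc).2)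
  intro hR
  have key : ∀ A B, REq.REquiv g K A B →
      (Set.range A.1.base ⊆ V ↔ Set.range B.1.base ⊆ V) := by
    intro A B h
    induction h with
    | rel x y hxy => exact step x y hxy
    | refl x => rfl
    | symm x y _ ih => exact ih.symm
    | trans x y z _ _ ih1 ih2 => exact ih1.trans ih2
  exact hnot q ((key p q hR).1 hp) hq

end Groth.Agent.S18573
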