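import Groth.Statements.S9701
import Mathlib
import Groth.Agent.RatNormal.Glue
import Groth.Agent.DVRCrit.Local
import Groth.Agent.S7415

set_option autoImplicit false
set_option linter.style.haveILetI false
universe u
open CategoryTheory CategoryTheory.Limits AlgebraicGeometry
open Mor

namespace Groth.Agent.S9701

theorem exists_lift_aux {Y S : Scheme.{u}} (q : Y ⟶ S) [IsProper q]
    (R : CommRingCat.{u}) [IsDomain R] [ValuationRing R]
    (i₁ : Spec (CommRingCat.of (FractionRing R)) ⟶ Y) (i₂ : Spec R ⟶ S)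
    (w : i₁ ≫ q = Spec.map (CommRingCat.ofHom (algebraMap R (FractionRing R))) ≫ i₂) :
    ∃ l : Spec R ⟶ Y, l ≫ q = i₂ ∧
      Spec.map (CommRingCat.ofHom (algebraMap R (FractionRing R))) ≫ l = i₁ := by
  have hE : ValuativeCriterion.Existence q :=
    ((UniversallyClosed.eq_valuativeCriterion.le _ _ q) inferInstance).1
  obtain ⟨l, h1, h2⟩ := (hE (DVRCrit.mkSq q R (FractionRing R) i₁ i₂ w)).exists_lift
  exact ⟨l, h2, h1⟩

/-- Let p : X ⟶ S and q : Y ⟶ S with q proper, let x be a point of X whose local ring is a valuation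
ring, U ⊆ X an open with x in the closure of U, and f : U ⟶ Y a morphism over S. Assume that X is
Noetherian, or else that X is reduced and has only finitely many irreducible components. Then there
are an open U' of X containing U and x and a morphism f' : U' ⟶ Y over S extending f. -/
theorem result {X Y S : Scheme.{u}} (p : X ⟶ S) (q : Y ⟶ S)
    [IsProper q] (x : X) (U : X.Opens) (f : (U : Scheme.{u}) ⟶ Y) (hf : f ≫ q = U.ι ≫ p)
    (hx : x ∈ closure (U : Set ↥X))
    (hX : (IsReduced X ∧ (irreducibleComponents ↥X).Finite) ∨ IsNoetherian X)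
    (hdom : IsDomain (X.presheaf.stalk x)) (hval : @ValuationRing (X.presheaf.stalk x) _ hdom) :
    ∃ (U' : X.Opens) (hUU' : U ≤ U'), x ∈ U' ∧
      ∃ f' : (U' : Scheme.{u}) ⟶ Y, f' ≫ q = U'.ι ≫ p ∧ X.homOfLE hUU' ≫ f' = f := by
  classical
  haveI := hdom
  haveI := hval
  have hfin : (irreducibleComponents (X : Type u)).Finite := hX.elim (fun h => h.2)
    fun h => TopologicalSpace.NoetherianSpace.finite_irreducibleComponents
  haveI : X.IsGermInjectiveAt x := hX.elim (fun h => haveI := h.1; S7415.result X h.2 x)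
    fun h => inferInstance
  obtain ⟨η, hηU, hηx⟩ : ∃ η ∈ U, η ⤳ x := by
    let T := {Z ∈ irreducibleComponents (X : Type u) | (Z ∩ (U : Set X)).Nonempty}
    have hTc : IsClosed (⋃ Z ∈ T, Z) :=
      (hfin.subset fun Z hZ => hZ.1).isClosed_biUnion fun Z hZ => isClosed_of_mem_irreducibleComponents Z hZ.1
    have hsub : (U : Set X) ⊆ ⋃ Z ∈ T, Z := fun u hu => Set.mem_biUnion
      (show irreducibleComponent u ∈ T from ⟨irreducibleComponent_mem_irreducibleComponents u,
        u, mem_irreducibleComponent, hu⟩) mem_irreducibleComponent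
    obtain ⟨Z, ⟨hZ, u, huZ, huU⟩, hxZ⟩ := Set.mem_iUnion₂.mp (closure_minimal hsub hTc hx)
    obtain ⟨η, hη⟩ := QuasiSober.sober hZ.1 (isClosed_of_mem_irreducibleComponents Z hZ)
    exact ⟨η, (hη.specializes huZ).mem_open U.2 huU, hη.specializes hxZ⟩
  let K := FractionRing (X.presheaf.stalk x)
  let k : Spec (CommRingCat.of K) ⟶ X :=
    Spec.map (CommRingCat.ofHom (algebraMap (X.presheaf.stalk x) K)) ≫ X.fromSpecStalk x
  let ξ := k (IsLocalRing.closedPoint K)
  have hξ : ∀ (V : X.Opens) (y : X), y ∈ V → y ⤳ x → ξ ∈ V := by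
    intro V y hy hyx
    obtain ⟨q, rfl⟩ : y ∈ Set.range (X.fromSpecStalk x) := by rw [X.range_fromSpecStalk]; exact hyx
    refine Specializes.mem_open ?_ V.2 hy
    show k (IsLocalRing.closedPoint K) ⤳ _
    rw [Scheme.Hom.comp_apply]
    refine Specializes.map ?_ (X.fromSpecStalk x).continuous
    refine (PrimeSpectrum.le_iff_specializes _ q).mp ?_
    show (IsLocalRing.maximalIdeal K).comap (algebraMap (X.presheaf.stalk x) K) ≤ q.asIdeal
    rw [IsLocalRing.maximalIdeal_eq_bot, ← RingHom.ker_eq_comap_bot,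
      (RingHom.injective_iff_ker_eq_bot _).mp (IsFractionRing.injective (X.presheaf.stalk x) K)]
    exact bot_le
  have hkU : Set.range k ⊆ U := by
    rintro _ ⟨s, rfl⟩
    rw [Subsingleton.elim s (IsLocalRing.closedPoint K)]
    exact hξ U η hηU hηx
  let kU := IsOpenImmersion.lift U.ι k (by rw [Scheme.Opens.range_ι]; exact hkU)
  have hkUι : kU ≫ U.ι = k := IsOpenImmersion.lift_fac _ _ _
  obtain ⟨φ, hφ1, hφ2⟩ := exists_lift_aux q (X.presheaf.stalk x) (kU ≫ f) (X.fromSpecStalk x ≫ p) (by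
    rw [Category.assoc, hf, reassoc_of% hkUι]
    exact Category.assoc _ _ _)
  obtain ⟨U₁, hxU₁, g₁, hg₁, hg₁'⟩ := spread_out_of_isGermInjective' p q φ hφ1
  obtain ⟨W, hxW, hW, hWU₁, hinj⟩ := X.exists_le_and_germ_injective x U₁ hxU₁
  let g : (W : Scheme.{u}) ⟶ Y := X.homOfLE hWU₁ ≫ g₁
  have hg : g ≫ q = W.ι ≫ p := by
    rw [Category.assoc, hg₁', Scheme.homOfLE_ι_assoc]
  haveI : IsDomain Γ(X, W) := Function.Injective.isDomain (X.presheaf.germ W x hxW).hom hinj
  haveI : Nonempty W := ⟨⟨x, hxW⟩⟩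
  haveI : IsAffine (W : Scheme.{u}) := hW
  haveI : IsDomain Γ(W.toScheme, ⊤) := W.topIso.commRingCatIsoToRingEquiv.isDomain_iff.mpr ‹_›
  haveI : IsIntegral (W : Scheme.{u}) := isIntegral_of_isAffine_of_isDomain _
  have hξW : ξ ∈ W := hξ W x hxW specializes_rfl
  have hgen : ∀ y : W, ξ ⤳ y.1 := by
    intro y
    have h1 : hW.fromSpec (hW.primeIdealOf ⟨x, hxW⟩) = x := hW.fromSpec_primeIdealOf _
    have hkW : k = Spec.map (CommRingCat.ofHom ((algebraMap (X.presheaf.stalk x) K).comp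
        (X.presheaf.germ W x hxW).hom)) ≫ hW.fromSpec := by
      show _ = Spec.map (X.presheaf.germ W x hxW ≫ CommRingCat.ofHom (algebraMap (X.presheaf.stalk x) K)) ≫ _
      rw [Spec.map_comp, Category.assoc]
      show k = _ ≫ hW.fromSpecStalk hxW
      rw [hW.fromSpecStalk_eq_fromSpecStalk hxW]
      rfl
    show k (IsLocalRing.closedPoint K) ⤳ _
    rw [hkW, Scheme.Hom.comp_apply, ← hW.fromSpec_primeIdealOf y]
    refine Specializes.map ?_ hW.fromSpec.continuous
    refine (PrimeSpectrum.le_iff_specializes _ _).mp ?_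
    show (IsLocalRing.maximalIdeal K).comap ((algebraMap (X.presheaf.stalk x) K).comp
      (X.presheaf.germ W x hxW).hom) ≤ _
    rw [IsLocalRing.maximalIdeal_eq_bot, ← RingHom.ker_eq_comap_bot,
      (RingHom.injective_iff_ker_eq_bot ((algebraMap (X.presheaf.stalk x) K).comp (X.presheaf.germ W x hxW).hom)).mp
        ((IsFractionRing.injective (X.presheaf.stalk x) K).comp hinj)]
    exact bot_le
  have hagree : X.homOfLE (inf_le_right : U ⊓ W ≤ W) ≫ g = X.homOfLE (inf_le_left : U ⊓ W ≤ U) ≫ f := by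
    have hξ' : ξ ∈ U ⊓ W := ⟨hξ U η hηU hηx, hξW⟩
    let k₀ := IsOpenImmersion.lift (U ⊓ W).ι k (by
      rw [Scheme.Opens.range_ι]; rintro _ ⟨s, rfl⟩; rw [Subsingleton.elim s (IsLocalRing.closedPoint K)]; exact hξ')
    have hk₀ : k₀ ≫ (U ⊓ W).ι = k := IsOpenImmersion.lift_fac _ _ _
    haveI : Nonempty (U ⊓ W : X.Opens) := ⟨⟨ξ, hξ'⟩⟩
    haveI : AlgebraicGeometry.IsReduced ((U ⊓ W : X.Opens) : Scheme.{u}) :=
      isReduced_of_isOpenImmersion (X.homOfLE (inf_le_right : U ⊓ W ≤ W))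
    haveI : IsDominant k₀ := by
      refine (isDominant_iff _).mpr fun y => ?_
      rw [(U ⊓ W).ι.isOpenEmbedding.isInducing.closure_eq_preimage_closure_image, ← Set.range_comp]
      refine specializes_iff_mem_closure.mp (hgen ⟨y.1, y.2.2⟩) |> closure_mono ?_
      refine Set.singleton_subset_iff.mpr ⟨IsLocalRing.closedPoint K, ?_⟩
      exact (Scheme.Hom.comp_apply _ _ _).symm.trans
        (congrArg (fun g : Spec (CommRingCat.of K) ⟶ X => g (IsLocalRing.closedPoint K)) hk₀)
    refine ext_of_isDominant_of_isSeparated q ?_ k₀ ?_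
    · rw [Category.assoc, hg, Category.assoc, hf, Scheme.homOfLE_ι_assoc, Scheme.homOfLE_ι_assoc]
    · have e1 : k₀ ≫ X.homOfLE inf_le_left = kU := by
        rw [← cancel_mono U.ι, Category.assoc, Scheme.homOfLE_ι, hk₀, hkUι]
      have e2 : k₀ ≫ X.homOfLE (inf_le_right : U ⊓ W ≤ W) ≫ X.homOfLE hWU₁ =
          Spec.map (CommRingCat.ofHom (algebraMap (X.presheaf.stalk x) K)) ≫ U₁.fromSpecStalkOfMem x hxU₁ := by
        rw [← cancel_mono U₁.ι, Category.assoc, Category.assoc, Scheme.homOfLE_ι, Scheme.homOfLE_ι, hk₀,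
          Category.assoc, U₁.fromSpecStalkOfMem_ι]
      rw [reassoc_of% e1, ← hφ2, hg₁]
      have e3 := congrArg (· ≫ g₁) e2
      simp only [Category.assoc] at e3
      exact e3
  obtain ⟨U', hU, hV, c, hU'eq, hcU, hcW, huniq⟩ := RatNormal.exists_glue U W f g hagree
  refine ⟨U', hU, hV hxW, c, huniq _ _ ?_ ?_, hcU⟩
  · rw [reassoc_of% hcU, hf, Scheme.homOfLE_ι_assoc]
  · rw [reassoc_of% hcW, hg, Scheme.homOfLE_ι_assoc]

end Groth.Agent.S9701
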