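import Mathlib
import Mathlib
import Groth.Agent.REqLib.P1Line
import Groth.Agent.ProjMap.BaseChange
import Groth.Agent.SpreadOut.Basic
import Groth.Agent.S9701
import Groth.Agent.CompleteCurve.ProjSpace
import Groth.Statements.S18574

set_option autoImplicit false
universe u v
open CategoryTheory AlgebraicGeometry
open REq

namespace Groth.Agent.S18574
open Opposite CategoryTheory.Limits

section Link

variable {k : Type u} [Field k] (Φ : (Over (Spec (CommRingCat.of k)))ᵒᵖ ⥤ Type v)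
  {X : Scheme.{u}} (f : X ⟶ Spec (CommRingCat.of k))
  {S : Scheme.{u}} (gS : S ⟶ Spec (CommRingCat.of k)) (x : S)

lemma fromSpecStalkOfMem_homOfLE {V W : S.Opens} (hVW : V ≤ W) (hxV : x ∈ V) (hxW : x ∈ W) :
    V.fromSpecStalkOfMem x hxV ≫ S.homOfLE hVW = W.fromSpecStalkOfMem x hxW := by
  rw [← cancel_mono W.ι]
  simp

/-- Two extensions of a point at a dense point agree. -/
lemma ext_at_dense [IsSeparated f] {P : Scheme.{u}} [IsReduced P] {y : P} (hy : closure {y} = Set.univ)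
    {V : P.Opens} (hyV : y ∈ V) {g g' : (V : Scheme.{u}) ⟶ X} (hg : g ≫ f = g' ≫ f)
    (h : V.fromSpecStalkOfMem y hyV ≫ g = V.fromSpecStalkOfMem y hyV ≫ g') : g = g' := by
  have : IsDominant (V.fromSpecStalkOfMem y hyV) := by
    refine ⟨fun z => ?_⟩
    have h1 : (⟨y, hyV⟩ : V) ∈ Set.range (V.fromSpecStalkOfMem y hyV) := by
      refine ⟨IsLocalRing.closedPoint _, V.ι.isOpenEmbedding.injective ?_⟩
      rw [← Scheme.Hom.comp_apply, Scheme.Opens.fromSpecStalkOfMem_ι,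
        Scheme.fromSpecStalk_closedPoint]
      rfl
    refine closure_mono (Set.singleton_subset_iff.mpr h1) (closure_subtype.mpr ?_)
    rw [Set.image_singleton, hy]
    trivial
  exact ext_of_isDominant_of_isSeparated f hg _ h

/-- Two points with values in the local ring extend near `x` to morphisms with the same image
under the functor. -/
def Linked (A B : Spec (S.presheaf.stalk x) ⟶ X) : Prop :=
  ∃ (V : S.Opens) (hx : x ∈ V) (gA gB : (V : Scheme.{u}) ⟶ X) (hA : gA ≫ f = V.ι ≫ gS)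
    (hB : gB ≫ f = V.ι ≫ gS), V.fromSpecStalkOfMem x hx ≫ gA = A ∧
      V.fromSpecStalkOfMem x hx ≫ gB = B ∧
      Φ.map (Over.homMk gA hA : Over.mk (V.ι ≫ gS) ⟶ Over.mk f).op =
        Φ.map (Over.homMk gB hB : Over.mk (V.ι ≫ gS) ⟶ Over.mk f).op

variable {Φ f gS x}

lemma map_restrict {W V : Scheme.{u}} {gV : V ⟶ Spec (CommRingCat.of k)} (r : W ⟶ V)
    {gW : W ⟶ Spec (CommRingCat.of k)} (hr : r ≫ gV = gW) {g : V ⟶ X} (hg : g ≫ f = gV)
    {g' : W ⟶ X} (hg' : g' ≫ f = gW) (e : r ≫ g = g') :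
    Φ.map (Over.homMk g' hg' : Over.mk gW ⟶ Over.mk f).op =
      Φ.map (Over.homMk g hg : Over.mk gV ⟶ Over.mk f).op ≫
        Φ.map (Over.homMk r hr : Over.mk gW ⟶ Over.mk gV).op := by
  rw [← Functor.map_comp, ← op_comp]
  congr 2
  ext
  exact e.symm

lemma linked_refl [LocallyOfFinitePresentation f] (A : Spec (S.presheaf.stalk x) ⟶ X)
    (hA : A ≫ f = S.fromSpecStalk x ≫ gS) : Linked Φ f gS x A A := by
  obtain ⟨V, hx, g, h1, h2⟩ := SpreadOut.spread_out' gS f A hA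
  exact ⟨V, hx, g, g, h2, h2, h1.symm, h1.symm, rfl⟩

lemma linked_symm {A B : Spec (S.presheaf.stalk x) ⟶ X} (h : Linked Φ f gS x A B) :
    Linked Φ f gS x B A := by
  obtain ⟨V, hx, gA, gB, hA, hB, h1, h2, h3⟩ := h
  exact ⟨V, hx, gB, gA, hB, hA, h2, h1, h3.symm⟩

lemma linked_trans [IsSeparated f] [IsReduced S] (hx : closure {x} = Set.univ)
    {A B C : Spec (S.presheaf.stalk x) ⟶ X} (h : Linked Φ f gS x A B)
    (h' : Linked Φ f gS x B C) : Linked Φ f gS x A C := by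
  obtain ⟨V, hxV, gA, gB, hA, hB, eA, eB, hΦ⟩ := h
  obtain ⟨V', hxV', gB', gC, hB', hC, eB', eC, hΦ'⟩ := h'
  let W := V ⊓ V'
  have hxW : x ∈ W := ⟨hxV, hxV'⟩
  let r := S.homOfLE (inf_le_left : W ≤ V)
  let r' := S.homOfLE (inf_le_right : W ≤ V')
  have hr : r ≫ V.ι ≫ gS = W.ι ≫ gS := by simp [r, W]
  have hr' : r' ≫ V'.ι ≫ gS = W.ι ≫ gS := by simp [r', W]
  have hov : ∀ {g : (V : Scheme.{u}) ⟶ X}, g ≫ f = V.ι ≫ gS → (r ≫ g) ≫ f = W.ι ≫ gS :=
    fun hg => by rw [Category.assoc, hg, hr]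
  have hov' : ∀ {g : (V' : Scheme.{u}) ⟶ X}, g ≫ f = V'.ι ≫ gS → (r' ≫ g) ≫ f = W.ι ≫ gS :=
    fun hg => by rw [Category.assoc, hg, hr']
  have heq : r ≫ gB = r' ≫ gB' := by
    refine ext_at_dense f hx hxW ((hov hB).trans (hov' hB').symm) ?_
    rw [← Category.assoc, ← Category.assoc, fromSpecStalkOfMem_homOfLE x _ hxW hxV,
      fromSpecStalkOfMem_homOfLE x _ hxW hxV', eB, eB']
  refine ⟨W, hxW, r ≫ gA, r' ≫ gC, hov hA, hov' hC, ?_, ?_, ?_⟩
  · rw [← Category.assoc, fromSpecStalkOfMem_homOfLE x _ hxW hxV, eA]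
  · rw [← Category.assoc, fromSpecStalkOfMem_homOfLE x _ hxW hxV', eC]
  · rw [map_restrict r hr hA (hov hA) rfl, hΦ, ← map_restrict r hr hB (hov hB) rfl]
    rw [map_restrict r' hr' hC (hov' hC) rfl, ← hΦ', ← map_restrict r' hr' hB' (hov' hB') rfl]
    congr 2
    exact Over.OverMorphism.ext heq

/-- A direct R-link over the function field of `S` links the two points in `Linked`. -/
lemma linked_of_link [IsProper f] [IsNoetherian S] [IsAffine S] [IsIntegral S] [Smooth gS]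
    [IsIntegral (CohB1.ProjSpaceOver 1 S)]
    (hΦ : ∀ (Y : Scheme.{u}) (g : Y ⟶ Spec (CommRingCat.of k)) [IsIntegral Y] [Smooth g]
      [IsSeparated g] [QuasiCompact g],
      Function.Bijective (Φ.map (Over.homMk (CohB1.ProjSpaceOver.toBase 1 Y) rfl :
        Over.mk (CohB1.ProjSpaceOver.toBase 1 Y ≫ g) ⟶ Over.mk g).op))
    (U : (CohB1.ProjSpaceOver 1 (Spec (CommRingCat.of S.functionField))).Opens)
    (h : (U : Scheme.{u}) ⟶ X)
    (hh : h ≫ f = U.ι ≫ CohB1.ProjSpaceOver.toBase 1 (Spec (CommRingCat.of S.functionField)) ≫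
      S.fromSpecStalk (genericPoint S) ≫ gS)
    (a b : Spec (CommRingCat.of S.functionField) ⟶ (U : Scheme.{u}))
    (ha : a ≫ U.ι ≫ CohB1.ProjSpaceOver.toBase 1 (Spec (CommRingCat.of S.functionField)) = 𝟙 _)
    (hb : b ≫ U.ι ≫ CohB1.ProjSpaceOver.toBase 1 (Spec (CommRingCat.of S.functionField)) = 𝟙 _) :
    Linked Φ f gS (genericPoint S) (a ≫ h) (b ≫ h) := by
  let x := genericPoint S
  let e : Spec (CommRingCat.of S.functionField) ⟶ S := S.fromSpecStalk x
  let T := Spec (CommRingCat.of S.functionField)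
  let P := CohB1.ProjSpaceOver 1 S
  let p : P ⟶ S := CohB1.ProjSpaceOver.toBase 1 S
  let Q := CohB1.ProjSpaceOver 1 T
  let q : Q ⟶ T := CohB1.ProjSpaceOver.toBase 1 T
  let j : Q ⟶ P := ProjMap.liftOver (ProjMap.toInt T 1) (q ≫ e)
  have hjp : j ≫ p = q ≫ e := ProjMap.liftOver_toBase _ _
  have hpb : IsPullback j q p e := by
    refine IsPullback.of_right ?_ hjp
      (IsPullback.of_hasPullback (CohB1.ProjSpace.toSpec 1 (ULift.{u} ℤ))
        (specULiftZIsTerminal.from S))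
    rw [show e ≫ specULiftZIsTerminal.from S = specULiftZIsTerminal.from T from
      specULiftZIsTerminal.hom_ext _ _]
    show IsPullback (j ≫ ProjMap.toInt S 1) q _ _
    rw [ProjMap.liftOver_toInt]
    exact IsPullback.of_hasPullback _ _
  have : IsPreimmersion e := inferInstanceAs (IsPreimmersion (S.fromSpecStalk x))
  have : Flat e := REqLib.flat_fromSpecStalk x
  have : IsPreimmersion j := MorphismProperty.of_isPullback hpb.flip ‹_›
  have : Flat j := MorphismProperty.of_isPullback hpb.flip ‹_›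
  have hst : ∀ z : Q, IsIso (j.stalkMap z) := fun z => by
    rw [ConcreteCategory.isIso_iff_bijective]
    refine ⟨?_, j.stalkMap_surjective z⟩
    letI := (j.stalkMap z).hom.toAlgebra
    haveI : Module.Flat (P.presheaf.stalk (j z)) (Q.presheaf.stalk z) := Flat.stalkMap j z
    haveI : IsLocalHom (algebraMap (P.presheaf.stalk (j z)) (Q.presheaf.stalk z)) :=
      inferInstanceAs (IsLocalHom (j.stalkMap z).hom)
    haveI := Module.FaithfullyFlat.of_flat_of_isLocalHom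
      (A := P.presheaf.stalk (j z)) (B := Q.presheaf.stalk z)
    exact FaithfulSMul.algebraMap_injective (P.presheaf.stalk (j z)) (Q.presheaf.stalk z)
  haveI : IsProper p := MorphismProperty.pullback_snd _ _ inferInstance
  haveI : IsLocallyNoetherian P := LocallyOfFiniteType.isLocallyNoetherian p
  haveI : CompactSpace P := (quasiCompact_iff_compactSpace p).mp inferInstance
  haveI : IsNoetherian P := {}
  haveI : LocallyOfFinitePresentation p :=
    LocallyOfFinitePresentation.iff_locallyOfFiniteType.mpr inferInstance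
  haveI : LocallyOfFinitePresentation f :=
    LocallyOfFinitePresentation.iff_locallyOfFiniteType.mpr inferInstance
  haveI : IsIntegral Q := REqLib.isIntegral_projSpaceOver 1 _
  -- the generic point of the fibre
  let ξ : Q := genericPoint Q
  have hU : ξ ∈ U := ((genericPoint_spec Q).mem_open_set_iff U.isOpen).mpr
    ⟨U.ι (a (IsLocalRing.closedPoint S.functionField)), trivial,
      (a (IsLocalRing.closedPoint S.functionField)).2⟩
  have := hst ξ
  let φ : Spec (P.presheaf.stalk (j ξ)) ⟶ X :=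
    inv (Spec.map (j.stalkMap ξ)) ≫ U.fromSpecStalkOfMem ξ hU ≫ h
  have hφ : φ ≫ f = P.fromSpecStalk (j ξ) ≫ p ≫ gS := by
    rw [← cancel_epi (Spec.map (j.stalkMap ξ))]
    simp only [φ, Category.assoc, IsIso.hom_inv_id_assoc, Scheme.SpecMap_stalkMap_fromSpecStalk_assoc]
    rw [hh, Scheme.Opens.fromSpecStalkOfMem_ι_assoc, reassoc_of% hjp]
  obtain ⟨W₀, hξ₀, f₀, hf₀, hf₀'⟩ := SpreadOut.spread_out' (p ≫ gS) f φ hφ
  obtain ⟨W, hmax⟩ := exists_maximal_of_wellFoundedGT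
    (fun W : P.Opens => ∃ (hW : W₀ ≤ W) (f₁ : (W : Scheme.{u}) ⟶ X),
      f₁ ≫ f = W.ι ≫ p ≫ gS ∧ P.homOfLE hW ≫ f₁ = f₀)
    ⟨W₀, le_rfl, f₀, hf₀', by simp⟩
  obtain ⟨hW₀, f₁, hf₁, hf₁₀⟩ := hmax.prop
  -- the whole fibre lies in the domain
  have hfib : ∀ z : Q, j z ∈ W := fun z => by
    by_contra hz
    have := hst z
    obtain ⟨hdom, hval⟩ := REqLib.valuationRing_stalk S.functionField z
    let ε : Q.presheaf.stalk z ≃+* P.presheaf.stalk (j z) :=
      (asIso (j.stalkMap z)).commRingCatIsoToRingEquiv.symm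
    have hdom' : IsDomain (P.presheaf.stalk (j z)) := ε.symm.toMulEquiv.isDomain _
    have hval' : @ValuationRing (P.presheaf.stalk (j z)) _ hdom' :=
      Function.Surjective.valuationRing ε.toRingHom ε.surjective
    have hcl : j z ∈ closure (W : Set P) := by
      rw [(W.isOpen.dense ⟨_, hW₀ hξ₀⟩).closure_eq]; trivial
    obtain ⟨W', hWW', hzW', f₂, hf₂, hf₂₁⟩ := Groth.Agent.S9701.result (p ≫ gS) f (j z) W f₁ hf₁
      hcl (Or.inr inferInstance) hdom' hval'
    exact hz (hmax.le_of_ge ⟨hW₀.trans hWW', f₂, hf₂, by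
      rw [← Scheme.homOfLE_homOfLE P hW₀ hWW', Category.assoc, hf₂₁, hf₁₀]⟩ hWW' hzW')
  have hUW : Set.range (U.ι ≫ j) ⊆ Set.range W.ι := by
    rw [Scheme.Opens.range_ι]; rintro _ ⟨z, rfl⟩; exact hfib _
  let jU : (U : Scheme.{u}) ⟶ W := IsOpenImmersion.lift W.ι (U.ι ≫ j) hUW
  have hjU : jU ≫ W.ι = U.ι ≫ j := IsOpenImmersion.lift_fac _ _ _
  have hagree : jU ≫ f₁ = h := by
    refine ext_at_dense f (genericPoint_spec Q).def hU ?_ ?_
    · rw [Category.assoc, hf₁, reassoc_of% hjU, reassoc_of% hjp, hh]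
    · have h1 : U.fromSpecStalkOfMem ξ hU ≫ jU =
          Spec.map (j.stalkMap ξ) ≫ W.fromSpecStalkOfMem (j ξ) (hW₀ hξ₀) := by
        rw [← cancel_mono W.ι]
        simp [hjU, Scheme.SpecMap_stalkMap_fromSpecStalk]
        rfl
      rw [reassoc_of% h1, ← fromSpecStalkOfMem_homOfLE (j ξ) hW₀ hξ₀ (hW₀ hξ₀), Category.assoc,
        hf₁₀, ← hf₀]
      simp [φ, ξ]
  -- shrink the base
  let V₀ : S.Opens :=
    ⟨(p '' (W : Set P)ᶜ)ᶜ, (p.isClosedMap _ W.isOpen.isClosed_compl).isOpen_compl⟩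
  have hxV₀ : x ∈ V₀ := by
    rintro ⟨w, hw, hwx⟩
    obtain ⟨z, hz, -⟩ := Scheme.exists_preimage_of_isPullback hpb w
      (IsLocalRing.closedPoint S.functionField) (hwx.trans (Scheme.fromSpecStalk_closedPoint).symm)
    exact hw (hz ▸ hfib z)
  have hV₀ : ∀ w : P, p w ∈ V₀ → w ∈ W := fun w hw => by
    by_contra h'
    exact hw ⟨w, h', rfl⟩
  -- the two sections
  have hsec : ∀ (c : T ⟶ (U : Scheme.{u})), c ≫ U.ι ≫ q = 𝟙 _ →
      ∃ (V : S.Opens) (hxV : x ∈ V) (σ : (V : Scheme.{u}) ⟶ P),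
        V.fromSpecStalkOfMem x hxV ≫ σ = c ≫ U.ι ≫ j ∧ σ ≫ p = V.ι := by
    intro c hc
    obtain ⟨V, hxV, σ, hσ, hσ'⟩ := SpreadOut.spread_out' (𝟙 S) p (x := x) (c ≫ U.ι ≫ j)
      (by rw [Category.comp_id, Category.assoc, Category.assoc, hjp, reassoc_of% hc])
    exact ⟨V, hxV, σ, hσ.symm, by simpa using hσ'⟩
  obtain ⟨Va, hxa, σa, hσa, hσa'⟩ := hsec a ha
  obtain ⟨Vb, hxb, σb, hσb, hσb'⟩ := hsec b hb
  let V : S.Opens := V₀ ⊓ (Va ⊓ Vb)
  have hxV : x ∈ V := ⟨hxV₀, hxa, hxb⟩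
  let PV := CohB1.ProjSpaceOver 1 (V : Scheme.{u})
  let pV : PV ⟶ (V : Scheme.{u}) := CohB1.ProjSpaceOver.toBase 1 V
  let m : PV ⟶ P := ProjMap.liftOver (ProjMap.toInt _ 1) (pV ≫ V.ι)
  have hmp : m ≫ p = pV ≫ V.ι := ProjMap.liftOver_toBase _ _
  have hmW : Set.range m ⊆ Set.range W.ι := by
    rw [Scheme.Opens.range_ι]
    rintro _ ⟨w, rfl⟩
    refine hV₀ _ ?_
    rw [← Scheme.Hom.comp_apply, hmp, Scheme.Hom.comp_apply]
    exact (pV w).2.1
  let mW : PV ⟶ W := IsOpenImmersion.lift W.ι m hmW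
  have hmW' : mW ≫ W.ι = m := IsOpenImmersion.lift_fac _ _ _
  have hH : (mW ≫ f₁) ≫ f = pV ≫ V.ι ≫ gS := by
    rw [Category.assoc, hf₁, reassoc_of% hmW', reassoc_of% hmp]
  haveI : Nonempty (V : Scheme.{u}) := ⟨⟨x, hxV⟩⟩
  haveI : IsSeparated (V.ι ≫ gS) := inferInstance
  haveI : CompactSpace (V : Scheme.{u}) :=
    isCompact_iff_compactSpace.mp (TopologicalSpace.NoetherianSpace.isCompact (V : Set S))
  haveI : QuasiCompact (V.ι ≫ gS) := (quasiCompact_iff_compactSpace _).mpr inferInstance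
  have hbij := hΦ (V : Scheme.{u}) (V.ι ≫ gS)
  have hmk : ∀ (c : T ⟶ (U : Scheme.{u})) (V' : S.Opens) (hV' : V ≤ V') (hx' : x ∈ V')
      (σ : (V' : Scheme.{u}) ⟶ P), V'.fromSpecStalkOfMem x hx' ≫ σ = c ≫ U.ι ≫ j → σ ≫ p = V'.ι →
      ∃ g : (V : Scheme.{u}) ⟶ PV, g ≫ pV = 𝟙 _ ∧
        V.fromSpecStalkOfMem x hxV ≫ g ≫ mW ≫ f₁ = c ≫ h := by
    intro c V' hV' hx' σ hσ hσ'
    let g : (V : Scheme.{u}) ⟶ PV :=
      ProjMap.liftOver (S.homOfLE hV' ≫ σ ≫ ProjMap.toInt S 1) (𝟙 _)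
    have hgm : g ≫ m = S.homOfLE hV' ≫ σ := by
      apply ProjMap.over_hom_ext
      · simp [g, m]
      · simp only [g, m, pV, Category.assoc, ProjMap.liftOver_toBase, ProjMap.liftOver_toBase_assoc]
        rw [hσ', Scheme.homOfLE_ι, Category.id_comp]
    refine ⟨g, ProjMap.liftOver_toBase _ _, ?_⟩
    have h1 : V.fromSpecStalkOfMem x hxV ≫ g ≫ mW = c ≫ jU := by
      rw [← cancel_mono W.ι]
      simp only [Category.assoc, hmW', hjU, hgm]
      rw [← Category.assoc, fromSpecStalkOfMem_homOfLE x _ hxV hx', hσ]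
    rw [reassoc_of% h1, hagree]
  obtain ⟨ga, hga, hga'⟩ := hmk a Va (inf_le_right.trans inf_le_left) hxa σa hσa hσa'
  obtain ⟨gb, hgb, hgb'⟩ := hmk b Vb (inf_le_right.trans inf_le_right) hxb σb hσb hσb'
  have hov : ∀ g : (V : Scheme.{u}) ⟶ PV, g ≫ pV = 𝟙 _ → (g ≫ mW ≫ f₁) ≫ f = V.ι ≫ gS := by
    intro g hg
    rw [Category.assoc, hH, reassoc_of% hg]
  refine ⟨V, hxV, ga ≫ mW ≫ f₁, gb ≫ mW ≫ f₁, hov ga hga, hov gb hgb, hga', hgb', ?_⟩
  have hs : ∀ (g : (V : Scheme.{u}) ⟶ PV) (hg : g ≫ pV = 𝟙 _),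
      Φ.map (Over.homMk pV rfl : Over.mk (pV ≫ V.ι ≫ gS) ⟶ Over.mk (V.ι ≫ gS)).op ≫
        Φ.map (Over.homMk g (by simp [reassoc_of% hg]) :
          Over.mk (V.ι ≫ gS) ⟶ Over.mk (pV ≫ V.ι ≫ gS)).op = 𝟙 _ := by
    intro g hg
    rw [← Functor.map_comp, ← op_comp, ← Φ.map_id, ← op_id]
    congr 2
    exact Over.OverMorphism.ext hg
  rw [map_restrict (f := f) ga (by simp [reassoc_of% hga]) hH (hov ga hga) rfl,
    map_restrict (f := f) gb (by simp [reassoc_of% hgb]) hH (hov gb hgb) rfl]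
  ext y
  obtain ⟨t, ht⟩ := hbij.2 (Φ.map (Over.homMk (mW ≫ f₁) hH :
    Over.mk (pV ≫ V.ι ≫ gS) ⟶ Over.mk f).op y)
  have h1 := ConcreteCategory.congr_hom (hs ga hga) t
  have h2 := ConcreteCategory.congr_hom (hs gb hgb) t
  show Φ.map _ (Φ.map _ y) = Φ.map _ (Φ.map _ y)
  rw [← ht]
  exact h1.trans h2.symm

end Link


/-- Let k be a field and Φ a contravariant functor from the category of schemes over Spec k to sets.
Assume that for every integral scheme Y smooth, separated and quasi-compact over k, the map Φ(Y) →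
Φ(P^1_Y) induced by the projection P^1_Y → Y is bijective. Let X be a proper integral scheme over k
having a non-empty open subscheme smooth over k, and assume X is almost R-trivial over k. Then there
is a non-empty open subscheme U of X, smooth over k, such that the image of Φ(X) → Φ(U) (restriction
along the inclusion) equals the image of Φ(Spec k) → Φ(U) (along the structure morphism of U). The
functor takes values in an arbitrary universe. -/
theorem result (k : Type u) [Field k]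
    (Φ : (Over (Spec (CommRingCat.of k)))ᵒᵖ ⥤ Type v)
    (hΦ : ∀ (Y : Scheme.{u}) (g : Y ⟶ Spec (CommRingCat.of k)) [IsIntegral Y] [Smooth g]
      [IsSeparated g] [QuasiCompact g],
      Function.Bijective (Φ.map (Over.homMk (CohB1.ProjSpaceOver.toBase 1 Y) rfl :
        Over.mk (CohB1.ProjSpaceOver.toBase 1 Y ≫ g) ⟶ Over.mk g).op))
    (X : Scheme.{u}) (f : X ⟶ Spec (CommRingCat.of k)) [IsIntegral X] [IsProper f]
    (hsm : ∃ V : X.Opens, (V : Set X).Nonempty ∧ Smooth (V.ι ≫ f))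
    (hR : REq.IsAlmostRTrivial f) :
    ∃ U : X.Opens, (U : Set X).Nonempty ∧ Smooth (U.ι ≫ f) ∧
      Set.range (Φ.map (Over.homMk U.ι rfl : Over.mk (U.ι ≫ f) ⟶ Over.mk f).op) =
        Set.range (Φ.map (Over.homMk (U.ι ≫ f) (Category.comp_id _) :
          Over.mk (U.ι ≫ f) ⟶ Over.mk (𝟙 (Spec (CommRingCat.of k)))).op) := by
  obtain ⟨U₀, hU₀, hlink⟩ := hR
  obtain ⟨Vs, hVs, hsmooth⟩ := hsm
  obtain ⟨y, hy⟩ := hVs
  obtain ⟨_, ⟨V0, hV0, rfl⟩, hyV0, hV0le⟩ :=
    X.isBasis_affineOpens.exists_subset_of_mem_open hy Vs.isOpen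
  haveI : Nonempty V0 := ⟨⟨y, hyV0⟩⟩
  haveI : LocallyOfFiniteType f := inferInstance
  haveI : IsLocallyNoetherian X := LocallyOfFiniteType.isLocallyNoetherian f
  let S : Scheme.{u} := Spec (CommRingCat.of Γ(X, V0))
  let g0 : S ⟶ X := hV0.fromSpec
  haveI : IsOpenImmersion g0 := inferInstanceAs (IsOpenImmersion hV0.fromSpec)
  let gS := g0 ≫ f
  haveI : Smooth gS := by
    haveI := hsmooth
    have : gS = hV0.isoSpec.inv ≫ X.homOfLE hV0le ≫ Vs.ι ≫ f := by
      rw [Scheme.homOfLE_ι_assoc, IsAffineOpen.isoSpec_inv_ι_assoc]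
    rw [this]; infer_instance
  haveI : IsIntegral (CohB1.ProjSpaceOver 1 S) := REqLib.isIntegral_projSpaceOver_domain 1 _
  haveI : IsLocallyNoetherian S := LocallyOfFiniteType.isLocallyNoetherian gS
  haveI : IsNoetherian S := {}
  haveI : LocallyOfFinitePresentation f :=
    LocallyOfFinitePresentation.iff_locallyOfFiniteType.mpr inferInstance
  let x : S := genericPoint S
  let K : Type u := S.functionField
  letI : Algebra k K := (Spec.preimage (S.fromSpecStalk x ≫ gS)).hom.toAlgebra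
  have hspec : REq.specMap k K = S.fromSpecStalk x ≫ gS :=
    Spec.map_preimage (S.fromSpecStalk x ≫ gS)
  obtain ⟨⟨a₀, ha₀⟩, -⟩ := hlink k
  have ha₀' : a₀.1 ≫ f = 𝟙 _ := by
    refine a₀.2.trans ?_
    show Spec.map (CommRingCat.ofHom (RingHom.id k)) = 𝟙 _
    rw [CommRingCat.ofHom_id, Spec.map_id]
  let A₀ : REq.Pts f K := ⟨S.fromSpecStalk x ≫ g0, by rw [Category.assoc, hspec]⟩
  let B₀ : REq.Pts f K := ⟨S.fromSpecStalk x ≫ gS ≫ a₀.1, by
    rw [Category.assoc, Category.assoc, ha₀', Category.comp_id, hspec]⟩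
  have hA₀ : REq.InOpen f U₀ A₀ := by
    rintro _ ⟨z, rfl⟩
    have hz : z = IsLocalRing.closedPoint (S.functionField) :=
      Subsingleton.elim (α := PrimeSpectrum S.functionField) _ _
    show g0 (S.fromSpecStalk x z) ∈ U₀
    rw [hz, Scheme.fromSpecStalk_closedPoint, genericPoint_eq_of_isOpenImmersion g0]
    exact ((genericPoint_spec X).mem_open_set_iff U₀.isOpen).mpr
      (by simpa using hU₀.nonempty)
  have hB₀ : REq.InOpen f U₀ B₀ := by
    rintro _ ⟨z, rfl⟩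
    exact ha₀ ⟨gS (S.fromSpecStalk x z), rfl⟩
  have hdense : closure {x} = Set.univ := (genericPoint_spec S).def
  have hpts : ∀ A : REq.Pts f K, A.1 ≫ f = S.fromSpecStalk x ≫ gS := fun A => A.2.trans hspec
  have key : ∀ A B : REq.Pts f K, REq.REquiv f K A B → Linked Φ f gS x A.1 B.1 := by
    intro A B h
    induction h with
    | rel A B h =>
      obtain ⟨U, g, a, b, hg, ha, hb, hA, hB⟩ := h
      rw [← hA, ← hB]
      refine linked_of_link hΦ U g ?_ a b ha hb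
      rw [hg, hspec]
    | refl A => exact linked_refl A.1 (hpts A)
    | symm A B _ ih => exact linked_symm ih
    | trans A B C _ _ ih ih' => exact linked_trans hdense ih ih'
  obtain ⟨V, hxV, gA, gB, hA, hB, eA, eB, hΦeq⟩ := key A₀ B₀ ((hlink K).2 A₀ B₀ hA₀ hB₀)
  have hgA : gA = V.ι ≫ g0 := by
    refine ext_at_dense f hdense hxV (by rw [hA, Category.assoc]) ?_
    rw [eA, Scheme.Opens.fromSpecStalkOfMem_ι_assoc]
  have hgB : gB = V.ι ≫ gS ≫ a₀.1 := by
    refine ext_at_dense f hdense hxV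
      (by rw [hB, Category.assoc, Category.assoc, ha₀', Category.comp_id]) ?_
    rw [eB, Scheme.Opens.fromSpecStalkOfMem_ι_assoc]
  refine ⟨g0 ''ᵁ V, ⟨g0 x, x, hxV, rfl⟩, ?_, ?_⟩
  · haveI := hsmooth
    have hle : g0 ''ᵁ V ≤ Vs := by
      rintro _ ⟨v, -, rfl⟩
      exact hV0le (hV0.range_fromSpec ▸ ⟨v, rfl⟩ : g0 v ∈ (V0 : Set X))
    rw [← X.homOfLE_ι hle, Category.assoc]
    infer_instance
  apply subset_antisymm
  · rintro _ ⟨y, rfl⟩
    refine ⟨Φ.map (Over.homMk a₀.1 ha₀' : Over.mk (𝟙 (Spec (CommRingCat.of k))) ⟶ Over.mk f).op y, ?_⟩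
    let ι' := g0.isoImage V
    have hι : ι'.inv ≫ V.ι ≫ g0 = (g0 ''ᵁ V).ι := g0.isoImage_inv_ι V
    have hr : ι'.inv ≫ V.ι ≫ gS = (g0 ''ᵁ V).ι ≫ f := by
      simp only [gS, reassoc_of% hι]
    have h1 := map_restrict (Φ := Φ) (f := f) ι'.inv hr hA
      (rfl : (g0 ''ᵁ V).ι ≫ f = _) (by rw [hgA]; exact hι)
    rw [hΦeq, ← map_restrict (Φ := Φ) (f := f) ι'.inv hr hB (g' := ((g0 ''ᵁ V).ι ≫ f) ≫ a₀.1)
      (by rw [Category.assoc, ha₀', Category.comp_id]) (by rw [hgB, reassoc_of% hr, Category.assoc])] at h1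
    rw [h1, ← types_comp_apply (Φ.map _) (Φ.map _), ← Functor.map_comp, ← op_comp]
    congr 3
  · rintro _ ⟨t, rfl⟩
    refine ⟨Φ.map (Over.homMk f (Category.comp_id _) :
      Over.mk f ⟶ Over.mk (𝟙 (Spec (CommRingCat.of k)))).op t, ?_⟩
    rw [← types_comp_apply (Φ.map _) (Φ.map _), ← Functor.map_comp, ← op_comp]
    congr 3

end Groth.Agent.S18574
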