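import Groth.Statements.S18575
import Groth.Agent.S18574
import Groth.Agent.FormEvalLib.Invariance
import Groth.Agent.FormEvalLib.Vanish

set_option autoImplicit false
universe u
open CategoryTheory AlgebraicGeometry Opposite
open REq

namespace Groth.Agent.S18575

open Groth.Agent.FormEvalLib Groth.Agent.DegDevLib TopologicalSpace

/-- A test supported in an open set comes from the open set. -/
theorem exists_lift_tst {k : Type u} [Field k] {X : Scheme.{u}} {f : X ⟶ Spec (CommRingCat.of k)} {m i : ℕ}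
    {R : Type u} [CommRing R] [Algebra k R] (U : X.Opens) (w : Tst m i (Over.mk f) R) (h : ⊤ ≤ w.pt ⁻¹ᵁ U) :
    ∃ wU : Tst m i (Over.mk (U.ι ≫ f)) R, wU.push (Over.homMk U.ι rfl : Over.mk (U.ι ≫ f) ⟶ Over.mk f) = w := by
  have ha : Set.range w.pt ⊆ Set.range U.ι := by
    rintro _ ⟨p, rfl⟩
    rw [Scheme.Opens.range_ι]
    exact h (show p ∈ (⊤ : Opens _) from trivial)
  have hv : ∀ j l, Set.range (w.vec j l) ⊆ Set.range U.ι := fun j l => by
    rintro _ ⟨p, rfl⟩
    rw [Scheme.Opens.range_ι]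
    exact w.top_vec h j l (show p ∈ (⊤ : Opens _) from trivial)
  exact ⟨{ a := IsOpenImmersion.lift U.ι w.pt ha
           v := fun j l => IsOpenImmersion.lift U.ι (w.vec j l) (hv j l)
           a_over := (IsOpenImmersion.lift_fac_assoc U.ι w.pt ha f).trans w.a_over
           v_over := fun j l => (IsOpenImmersion.lift_fac_assoc U.ι (w.vec j l) (hv j l) f).trans (w.v_over j l)
           v_fst := fun j l => by
            rw [← cancel_mono U.ι, Category.assoc, IsOpenImmersion.lift_fac, IsOpenImmersion.lift_fac]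
            exact w.v_fst j l },
    Tst.ext' (IsOpenImmersion.lift_fac _ _ _) fun j l => IsOpenImmersion.lift_fac _ _ _⟩


/-- Let k be an infinite field and X an integral scheme, proper and smooth over k, which is almost
R-trivial over k. Then for all integers i > 0 and m > 0 the space of global sections of
(Ω^i_{X/k})^{⊗m} is zero. Here Ω^i is expressed through an O_X-module L that is an i-th exterior
power of the sheaf of differentials Ω_{X/k}, and the conclusion is that Γ(X, L^{⊗m}) has at most one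
element. (The source assumes X geometrically connected rather than integral; for X smooth over k
with a k-rational point, which almost R-triviality provides, the two agree.) -/
theorem result (k : Type u) [Field k]
    [Infinite k] (X : Scheme.{u}) (f : X ⟶ Spec (CommRingCat.of k)) [IsIntegral X] [IsProper f]
    [Smooth f] (hR : REq.IsAlmostRTrivial f) (i m : ℕ) (hi : 0 < i) (hm : 0 < m)
    (L : X.Modules) (hL : ExtPow.IsExtPow i (Omega.sheaf f) L) :
    Subsingleton ((CohB1.tensorPow L m).val.obj (op ⊤)) := by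
  classical
  obtain ⟨φ, hφ⟩ := id hL
  let Φ := famFunctor k m i
  obtain ⟨U, hUne, -, hrange⟩ := S18574.result k Φ
    (fun Y g _ _ _ _ => bijective_pull_plineπ (Over.mk g)) X f
    ⟨⊤, ⟨genericPoint X, trivial⟩, inferInstance⟩ hR
  obtain ⟨x₀, hx₀⟩ := hUne
  obtain ⟨V₀, r, e, -, hxV₀, he⟩ := JetVanLib.exists_affine_frame (InfLiftLib.isFinLocFree_omega f) x₀
  obtain ⟨_, ⟨V, hV, rfl⟩, hxV, hVsub⟩ := X.isBasis_affineOpens.exists_subset_of_mem_open
    (show x₀ ∈ V₀ ⊓ U from ⟨hxV₀, hx₀⟩) (V₀ ⊓ U).2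
  have hVV₀ : V ≤ V₀ := fun _ hy => (hVsub hy).1
  have hVU : V ≤ U := fun _ hy => (hVsub hy).2
  haveI : Nonempty V := ⟨⟨x₀, hxV⟩⟩
  suffices key : ∀ σ : Γ(CohB1.tensorPow L m, ⊤), σ = 0 from ⟨fun a b => (key a).trans (key b).symm⟩
  intro σ
  have hσV : (CohB1.tensorPow L m).presheaf.map (homOfLE (le_top : V ≤ ⊤)).op σ = 0 := by
    refine res_eq_zero φ hφ hL hi hm σ ⟨V, hV⟩ (he.res hVV₀) fun R _ _ _ w w' hw haa => ?_
    have hw' : ⊤ ≤ w'.pt ⁻¹ᵁ V := by
      show ⊤ ≤ (show Spec (CommRingCat.of R) ⟶ X from w'.a) ⁻¹ᵁ V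
      rw [← haa]
      exact hw
    obtain ⟨η', hη'⟩ := hrange.le (Set.mem_range_self (sectionFam φ hφ hL σ))
    have hη : (sectionFam φ hφ hL σ).pull (Over.homMk U.ι rfl : Over.mk (U.ι ≫ f) ⟶ Over.mk f) =
        η'.pull (Over.homMk (U.ι ≫ f) (Category.comp_id _) :
          Over.mk (U.ι ≫ f) ⟶ Over.mk (𝟙 (Spec (CommRingCat.of k)))) := hη'.symm
    obtain ⟨wU, hwU⟩ := exists_lift_tst U w (hw.trans fun _ hy => hVU hy)
    obtain ⟨wU', hwU'⟩ := exists_lift_tst U w' (hw'.trans fun _ hy => hVU hy)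
    have e1 := congrArg (fun η => Fam.val η R wU) hη
    have e2 := congrArg (fun η => Fam.val η R wU') hη
    simp only [Fam.pull, hwU, hwU'] at e1 e2
    rw [e1, e2]
    refine congrArg (η'.val R) (Tst.ext' ?_ fun j l => ?_)
    · exact ((wU.push (Over.homMk (U.ι ≫ f) (Category.comp_id _) :
        Over.mk (U.ι ≫ f) ⟶ Over.mk (𝟙 _))).a_over.trans (wU'.push (Over.homMk (U.ι ≫ f) (Category.comp_id _) :
        Over.mk (U.ι ≫ f) ⟶ Over.mk (𝟙 _))).a_over.symm)
    · exact ((wU.push (Over.homMk (U.ι ≫ f) (Category.comp_id _) :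
        Over.mk (U.ι ≫ f) ⟶ Over.mk (𝟙 _))).v_over j l).trans ((wU'.push (Over.homMk (U.ι ≫ f) (Category.comp_id _) :
        Over.mk (U.ι ≫ f) ⟶ Over.mk (𝟙 _))).v_over j l).symm
  -- a form vanishing on a non-empty open set vanishes
  choose W n c hW hxW hc using fun x => JetVanLib.exists_affine_frame (InfLiftLib.isFinLocFree_omega f) x
  have hloc : ∀ x, (CohB1.tensorPow L m).presheaf.map (homOfLE (le_top : W x ≤ ⊤)).op σ = 0 := fun x => by
    obtain ⟨N, B, -, hF⟩ := exists_formFrame φ hL ⟨W x, hW x⟩ (hc x) m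
    obtain ⟨d, hd⟩ := hF.bijective.2 ((CohB1.tensorPow L m).presheaf.map (homOfLE le_top).op σ)
    rw [← hd]
    suffices h : d = 0 by rw [h, map_zero]
    have hne : Nonempty (W x ⊓ V : X.Opens) := by
      obtain ⟨z, hz⟩ := nonempty_preirreducible_inter (W x).2 V.2 ⟨x, hxW x⟩ ⟨x₀, hxV⟩
      exact ⟨⟨z, hz⟩⟩
    have h0 : (CohB1.tensorPow L m).presheaf.map (homOfLE (inf_le_left : W x ⊓ V ≤ W x)).op
        ((CohB1.tensorPow L m).presheaf.map (homOfLE (le_top : W x ≤ ⊤)).op σ) = 0 := by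
      have e : (CohB1.tensorPow L m).presheaf.map (homOfLE (le_top : W x ≤ ⊤)).op ≫
          (CohB1.tensorPow L m).presheaf.map (homOfLE (inf_le_left : W x ⊓ V ≤ W x)).op =
          (CohB1.tensorPow L m).presheaf.map (homOfLE (le_top : V ≤ ⊤)).op ≫
          (CohB1.tensorPow L m).presheaf.map (homOfLE (inf_le_right : W x ⊓ V ≤ V)).op := by
        rw [← Functor.map_comp, ← Functor.map_comp]
        rfl
      refine (ConcreteCategory.congr_hom e σ).trans ?_
      rw [ConcreteCategory.comp_apply, hσV, map_zero]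
    rw [← hd, Fintype.linearCombination_apply, map_sum] at h0
    simp only [Scheme.Modules.map_smul] at h0
    have h1 := (hF.res (inf_le_left : W x ⊓ V ≤ W x)).bijective.1
      (a₁ := fun a => X.presheaf.map (homOfLE (inf_le_left : W x ⊓ V ≤ W x)).op (d a)) (a₂ := 0)
      (by rw [map_zero, Fintype.linearCombination_apply]; exact h0)
    funext a
    exact map_injective_of_isIntegral X (homOfLE (inf_le_left : W x ⊓ V ≤ W x))
      ((congrFun h1 a).trans (map_zero _).symm)
  let G : TopCat.Sheaf Ab.{u} X.carrier := ⟨(CohB1.tensorPow L m).presheaf, (CohB1.tensorPow L m).isSheaf⟩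
  refine TopCat.Sheaf.eq_of_locally_eq' G W ⊤ (fun _ => homOfLE le_top) (fun x _ => Opens.mem_iSup.2 ⟨x, hxW x⟩) _ _
    fun x => ?_
  exact (hloc x).trans (map_zero _).symm

end Groth.Agent.S18575
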