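import Groth.Statements.S18576
import Groth.Agent.S18572
import Groth.Agent.REqLib.LineLink
import Groth.Agent.RGermLib.Germ
import Groth.Agent.RGermLib.Approx
import Groth.Agent.BCLib.DVR

set_option autoImplicit false
universe u
open CategoryTheory AlgebraicGeometry
open REq

namespace Groth.Agent.S18576

open CategoryTheory CategoryTheory.Limits AlgebraicGeometry

open Groth.Agent
set_option backward.isDefEq.respectTransparency false
set_option linter.style.haveILetI false
set_option maxHeartbeats 2000000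
set_option maxRecDepth 4000

/-- Every rational point is linked to one in a given dense open. -/
theorem exists_elemLink {k : Type u} [Field k] [CharZero k] {X : Scheme.{u}} (f : X ⟶ Spec (CommRingCat.of k))
    [IsIntegral X] [Smooth f] (hX : REq.IsRetractRational f) (U₀ : X.Opens) (hU₀ : (U₀ : Set X).Nonempty)
    (K : Type u) [Field K] [Algebra k K] (P : REq.Pts f K) :
    ∃ Q : REq.Pts f K, REq.InOpen f U₀ Q ∧ REq.ElemLink f K P Q := by
  classical
  haveI : CharZero K := charZero_of_injective_algebraMap (algebraMap k K).injective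
  obtain ⟨U, n, V, a, b, hU, hab, ha, hb⟩ := hX
  let x : X := P.1 (IsLocalRing.closedPoint K)
  obtain ⟨W, hW, hxW, -⟩ := exists_isAffineOpen_mem_and_subset (X := X) (x := x) (U := ⊤) trivial
  let A : CommRingCat.{u} := Γ(X, W)
  let ω : Spec A ⟶ X := hW.fromSpec
  let α : CommRingCat.of k ⟶ A := Spec.preimage (ω ≫ f)
  letI algA : Algebra k A := α.hom.toAlgebra
  have hωf : ω ≫ f = Spec.map α := (Spec.map_preimage _).symm
  haveI : Algebra.Smooth k A := by
    have h : Smooth (Spec.map α) := hωf ▸ inferInstance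
    exact (HasRingHomProperty.Spec_iff (P := @Smooth)).1 h
  haveI : Nonempty W := ⟨⟨x, hxW⟩⟩
  haveI : IsDomain A := inferInstanceAs (IsDomain Γ(X, W))
  have hP : Set.range P.1.base ⊆ Set.range ω.base := by
    rintro _ ⟨p, rfl⟩
    rw [Subsingleton.elim p (IsLocalRing.closedPoint K), hW.range_fromSpec]
    exact hxW
  let φh : A ⟶ CommRingCat.of K := Spec.preimage (IsOpenImmersion.lift ω P.1 hP)
  have hφω : Spec.map φh ≫ ω = P.1 := by rw [Spec.map_preimage, IsOpenImmersion.lift_fac]
  have hφc : α ≫ φh = CommRingCat.ofHom (algebraMap k K) := Spec.map_injective (by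
    rw [Spec.map_comp, ← hωf, ← Category.assoc, hφω]
    exact P.2)
  let φ : A →ₐ[k] K := { φh.hom with commutes' := fun r => congrArg (fun ψ => ψ.hom r) hφc }
  -- a basic open of the chart inside both opens
  have hne : ((ω ⁻¹ᵁ (U ⊓ U₀) : (Spec A).Opens) : Set (Spec A)).Nonempty := by
    have hW' : genericPoint X ∈ W := ((genericPoint_spec X).mem_open_set_iff W.2).2 ⟨x, trivial, hxW⟩
    rw [← SetLike.mem_coe, ← hW.range_fromSpec] at hW'
    obtain ⟨p, hp⟩ := hW'
    refine ⟨p, ?_, ?_⟩
    · show ω p ∈ U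
      rw [hp]; exact ((genericPoint_spec X).mem_open_set_iff U.2).2 (by simpa using hU)
    · show ω p ∈ U₀
      rw [hp]; exact ((genericPoint_spec X).mem_open_set_iff U₀.2).2 (by simpa using hU₀)
  obtain ⟨p₀, hp₀⟩ := hne
  obtain ⟨_, ⟨f₀, rfl⟩, hpf, hfU⟩ :=
    PrimeSpectrum.isTopologicalBasis_basic_opens.exists_subset_of_mem_open hp₀ (ω ⁻¹ᵁ (U ⊓ U₀)).2
  have hf₀ : f₀ ≠ 0 := fun h => hpf (by simp [h])
  -- a formal arc through the point
  obtain ⟨χ, hχ, hχ₀⟩ := RGermLib.exists_smooth_arc φ f₀ hf₀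
  let L : CommRingCat.{u} := CommRingCat.of (LaurentSeries K)
  let θA : A →ₐ[k] LaurentSeries K :=
    { (RGermLib.emb : PowerSeries K →+* LaurentSeries K).comp χ.toRingHom with
      commutes' := fun r => by
        show RGermLib.emb (χ (algebraMap k A r)) = _
        rw [χ.commutes, RGermLib.algebraMap_laurent, PowerSeries.algebraMap_apply] }
  let η : Spec L ⟶ X := Spec.map (CommRingCat.ofHom θA.toRingHom) ≫ ω
  let W₀ : X.Opens := ω ''ᵁ PrimeSpectrum.basicOpen f₀
  have hWU : W₀ ≤ U ⊓ U₀ := by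
    rintro _ ⟨p, hp, rfl⟩
    exact hfU hp
  have hη : ∀ p, η p ∈ W₀ := fun p => ⟨Spec.map (CommRingCat.ofHom θA.toRingHom) p, by
    change θA f₀ ∉ p.asIdeal
    rw [(Ideal.eq_bot_or_top p.asIdeal).resolve_right p.2.ne_top]
    exact (map_ne_zero_iff _ RGermLib.emb_injective).2 hχ, rfl⟩
  let η' : Spec L ⟶ (U : Scheme.{u}) := IsOpenImmersion.lift U.ι η (by
    rw [Scheme.Opens.range_ι]
    rintro _ ⟨p, rfl⟩
    exact (hWU (hη p)).1)
  have hη' : η' ≫ U.ι = η := IsOpenImmersion.lift_fac _ _ _
  have hηf : η ≫ f = Spec.map (CommRingCat.ofHom (algebraMap k (LaurentSeries K))) := by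
    rw [Category.assoc, hωf, ← Spec.map_comp]
    congr 1
    ext : 1
    exact RingHom.ext fun r => θA.commutes r
  obtain ⟨ψv, hψv⟩ := Spec.map_surjective (η' ≫ a ≫ V.ι)
  let v : Fin n → LaurentSeries K := fun i => ψv.hom (MvPolynomial.X i)
  have hv : ψv.hom = (MvPolynomial.aeval v : MvPolynomial (Fin n) k →ₐ[k] LaurentSeries K).toRingHom := by
    refine MvPolynomial.ringHom_ext (fun r => ?_) (fun i => (MvPolynomial.aeval_X v i).symm)
    have h : CommRingCat.ofHom (algebraMap k (MvPolynomial (Fin n) k)) ≫ ψv =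
        CommRingCat.ofHom (algebraMap k (LaurentSeries K)) := Spec.map_injective (by
      rw [Spec.map_comp, hψv, Category.assoc, Category.assoc, ha, reassoc_of% hη', hηf])
    exact (congrArg (fun ψ => ψ.hom r) h).trans (AlgHom.commutes (MvPolynomial.aeval v) r).symm
  -- a basic open of affine space around the arc
  let O : (Spec (CommRingCat.of (MvPolynomial (Fin n) k))).Opens := V.ι ''ᵁ ((b ≫ U.ι) ⁻¹ᵁ W₀)
  let z : Spec L := IsLocalRing.closedPoint (LaurentSeries K)
  have hzO : Spec.map ψv z ∈ O := ⟨a (η' z), by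
    show (b ≫ U.ι) (a (η' z)) ∈ W₀
    have : (η' ≫ a ≫ b ≫ U.ι) z = η z := by rw [← Category.assoc a b U.ι, hab, Category.id_comp, hη']
    rw [← Scheme.Hom.comp_apply, ← Scheme.Hom.comp_apply, this]
    exact hη z, by rw [hψv]; rfl⟩
  obtain ⟨_, ⟨h, rfl⟩, hzh, hhO⟩ := PrimeSpectrum.isTopologicalBasis_basic_opens.exists_subset_of_mem_open hzO O.2
  have hvh : MvPolynomial.aeval v h ≠ 0 := fun h0 => hzh (by
    show ψv.hom h ∈ z.asIdeal
    rw [hv]
    exact (congrArg (· ∈ z.asIdeal) h0).mpr z.asIdeal.zero_mem)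
  let σ : Spec (CommRingCat.of (Localization.Away h)) ⟶ Spec (CommRingCat.of (MvPolynomial (Fin n) k)) :=
    Spec.map (CommRingCat.ofHom (algebraMap _ _))
  have hσ : Set.range σ.base = (PrimeSpectrum.basicOpen h : Set (PrimeSpectrum (MvPolynomial (Fin n) k))) :=
    PrimeSpectrum.localization_away_comap_range (Localization.Away h) h
  let σV : Spec (CommRingCat.of (Localization.Away h)) ⟶ (V : Scheme.{u}) := IsOpenImmersion.lift V.ι σ (by
    rw [Scheme.Opens.range_ι, hσ]
    intro p hp
    obtain ⟨q, -, rfl⟩ := hhO hp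
    exact q.2)
  have hσV : σV ≫ V.ι = σ := IsOpenImmersion.lift_fac _ _ _
  let mX : Spec (CommRingCat.of (Localization.Away h)) ⟶ X := σV ≫ b ≫ U.ι
  let mA := IsOpenImmersion.lift ω mX (by
    rintro _ ⟨p, rfl⟩
    have : σ p ∈ O := hhO (hσ.le (Set.mem_range_self p))
    obtain ⟨q, hq, hqe⟩ := this
    have : q = σV p := V.ι.isOpenEmbedding.injective (hqe.trans (by rw [← hσV]; rfl))
    subst this
    obtain ⟨p', -, hp'⟩ := hq
    exact ⟨p', hp'⟩)
  have hmA : mA ≫ ω = σV ≫ b ≫ U.ι := IsOpenImmersion.lift_fac _ _ _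
  let βh : A ⟶ CommRingCat.of (Localization.Away h) := Spec.preimage mA
  have hβc : α ≫ βh = CommRingCat.ofHom (algebraMap k (Localization.Away h)) := Spec.map_injective (by
    rw [Spec.map_comp, ← hωf, Spec.map_preimage, reassoc_of% hmA, hb, reassoc_of% hσV, ← Spec.map_comp,
      ← CommRingCat.ofHom_comp, ← IsScalarTower.algebraMap_eq])
  let β : A →ₐ[k] Localization.Away h :=
    { βh.hom with commutes' := fun r => congrArg (fun ψ => ψ.hom r) hβc }
  let θ : Localization.Away h →ₐ[k] LaurentSeries K := IsLocalization.liftAlgHom (M := Submonoid.powers h)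
    (f := MvPolynomial.aeval v) (by
      rintro ⟨_, j, rfl⟩
      rw [map_pow]
      exact isUnit_iff_ne_zero.2 (pow_ne_zero _ hvh))
  have hθ : ∀ p : MvPolynomial (Fin n) k, θ (algebraMap _ _ p) = MvPolynomial.aeval v p :=
    fun p => IsLocalization.lift_eq _ _
  have hθσ : Spec.map (CommRingCat.ofHom θ.toRingHom) ≫ σV = η' ≫ a := by
    rw [← cancel_mono V.ι, Category.assoc, Category.assoc, hσV, ← hψv, ← Spec.map_comp]
    congr 1
    ext : 1
    rw [hv]
    exact RingHom.ext fun p => hθ p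
  have hθβ : βh ≫ CommRingCat.ofHom θ.toRingHom = CommRingCat.ofHom θA.toRingHom := Spec.map_injective (by
    rw [← cancel_mono ω, Spec.map_comp, Spec.map_preimage, Category.assoc, hmA, reassoc_of% hθσ,
      ← Category.assoc a b U.ι, hab, Category.id_comp, hη'])
  -- the algebraic arc
  obtain ⟨q, ψ, c, hq0, hqc, h0, h1⟩ := RGermLib.exists_algebraic_arc χ f₀ hχ h v hvh β θ hθ
    (fun r => congrArg (fun ψ => ψ.hom r) hθβ)
  let e₀ : Localization.Away q →+* K :=
    IsLocalization.Away.lift q (g := Polynomial.evalRingHom (0 : K)) (isUnit_iff_ne_zero.2 hq0)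
  let e₁ : Localization.Away q →+* K :=
    IsLocalization.Away.lift q (g := Polynomial.evalRingHom c) (isUnit_iff_ne_zero.2 hqc)
  have he₀ : e₀.comp (algebraMap _ _) = Polynomial.evalRingHom 0 := IsLocalization.Away.lift_comp _ _
  have he₁ : e₁.comp (algebraMap _ _) = Polynomial.evalRingHom c := IsLocalization.Away.lift_comp _ _
  let j : Spec (CommRingCat.of (Localization.Away q)) ⟶ Spec (CommRingCat.of (Polynomial K)) :=
    Spec.map (CommRingCat.ofHom (algebraMap _ _))
  haveI : IsOpenImmersion j := IsOpenImmersion.of_isLocalization q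
  let m : Spec (CommRingCat.of (Localization.Away q)) ⟶ X := Spec.map (CommRingCat.ofHom ψ.toRingHom) ≫ ω
  have hm : m ≫ f = j ≫ Spec.map (CommRingCat.ofHom Polynomial.C) ≫ REq.specMap k K := by
    rw [Category.assoc, hωf, REq.specMap, ← Spec.map_comp, ← Spec.map_comp, ← Spec.map_comp]
    congr 1
    ext r
    show ψ (algebraMap k A r) = _
    rw [ψ.commutes]
    exact IsScalarTower.algebraMap_apply k (Polynomial K) (Localization.Away q) r
  have hbase : ∀ c' : K, ∀ e : Localization.Away q →+* K, e.comp (algebraMap _ _) = Polynomial.evalRingHom c' →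
      (Spec.map (CommRingCat.ofHom e) ≫ m) ≫ f = REq.specMap k K := by
    intro c' e he
    rw [Category.assoc, hm, ← Category.assoc, ← Spec.map_comp, ← CommRingCat.ofHom_comp, he, ← Category.assoc,
      ← Spec.map_comp, show CommRingCat.ofHom Polynomial.C ≫ CommRingCat.ofHom (Polynomial.evalRingHom c') =
        𝟙 (CommRingCat.of K) by ext r; simp, Spec.map_id, Category.id_comp]
  let Q : REq.Pts f K := ⟨Spec.map (CommRingCat.ofHom e₁) ≫ m, hbase c e₁ he₁⟩
  have hQ : REq.InOpen f U₀ Q := by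
    rintro _ ⟨p, rfl⟩
    refine (hWU ?_).2
    refine ⟨Spec.map (CommRingCat.ofHom (e₁.comp ψ.toRingHom)) p, ?_, ?_⟩
    · change e₁ (ψ f₀) ∉ p.asIdeal
      rw [(Ideal.eq_bot_or_top p.asIdeal).resolve_right p.2.ne_top]
      exact h1 e₁ he₁
    · show _ = (Spec.map (CommRingCat.ofHom e₁) ≫ Spec.map (CommRingCat.ofHom ψ.toRingHom) ≫ ω) p
      rw [← Category.assoc, ← Spec.map_comp, ← CommRingCat.ofHom_comp]
      rfl
  refine ⟨Q, hQ, ?_⟩
  let lam : Polynomial K →+* Polynomial K := Polynomial.compRingHom (Polynomial.C c * Polynomial.X)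
  have hlam : ∀ (d : K), (Polynomial.evalRingHom d).comp lam = Polynomial.evalRingHom (c * d) := fun d => by
    ext <;> simp [lam]
  refine REqLib.elemLink_of_line f (Spec.map (CommRingCat.ofHom Polynomial.C) ≫ REq.specMap k K)
    (Spec.map (CommRingCat.ofHom lam)) ?_ j.opensRange (j.isoOpensRange.inv ≫ m) ?_
    (Spec.map (CommRingCat.ofHom e₀) ≫ j.isoOpensRange.hom) (Spec.map (CommRingCat.ofHom e₁) ≫ j.isoOpensRange.hom)
    ?_ ?_ P Q ?_ ?_
  · rw [← Category.assoc, ← Spec.map_comp]
    congr 2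
    ext r : 2
    simp [lam]
  · rw [Category.assoc, hm, ← Category.assoc, Scheme.Hom.isoOpensRange_inv_comp]
  · rw [Category.assoc, Scheme.Hom.isoOpensRange_hom_ι, ← Spec.map_comp, ← Spec.map_comp, ← CommRingCat.ofHom_comp,
      ← CommRingCat.ofHom_comp, he₀, hlam, mul_zero]
  · rw [Category.assoc, Scheme.Hom.isoOpensRange_hom_ι, ← Spec.map_comp, ← Spec.map_comp, ← CommRingCat.ofHom_comp,
      ← CommRingCat.ofHom_comp, he₁, hlam, mul_one]
  · rw [Category.assoc, Iso.hom_inv_id_assoc, ← Category.assoc, ← Spec.map_comp, ← CommRingCat.ofHom_comp, ← hφω]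
    congr 2
    ext r
    exact (h0 e₀ he₀ r).trans (hχ₀ r)
  · rw [Category.assoc, Iso.hom_inv_id_assoc]

/-- Let k be a field of characteristic zero and X a scheme that is smooth, projective and geometrically
integral over k. If X is retract rational over k, in particular if X is stably rational over k, then
X is R-trivial over k: for every field K containing k (in the universe of k), X(K) is non-empty and
any two K-points are R-equivalent. -/
theorem result (k : Type u) [Field k] [CharZero k]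
    (X : Scheme.{u}) (f : X ⟶ Spec (CommRingCat.of k)) [GeometricallyIntegral f] [Smooth f]
    (hproj : Neron.IsProjectiveOver k (Over.mk f)) (hX : REq.IsRetractRational f) :
    REq.IsRTrivial f := by
  haveI : IsIntegral X := GeometricallyIntegral.isIntegral_of_subsingleton f
  obtain ⟨N, i, hi, hcomm⟩ := hproj
  haveI := hi
  haveI : IsProper f := by
    have h : IsProper (i ≫ CohB1.ProjSpaceOver.toBase N (Spec (CommRingCat.of k))) := by
      haveI : IsProper (CohB1.ProjSpaceOver.toBase N (Spec (CommRingCat.of k))) := BCLib.isProper_toBase _ _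
      infer_instance
    rwa [hcomm] at h
  haveI : CharZero k := inferInstance
  obtain ⟨U₀, hd, hU₀⟩ := S18572.result k X f hX
  intro K _ _
  obtain ⟨⟨A₀, hA₀⟩, heq⟩ := hU₀ K
  refine ⟨⟨A₀⟩, fun A B => ?_⟩
  obtain ⟨A', hA', hlA⟩ := exists_elemLink f hX U₀ hd.nonempty K A
  obtain ⟨B', hB', hlB⟩ := exists_elemLink f hX U₀ hd.nonempty K B
  exact .trans _ A' _ (.rel _ _ hlA) (.trans _ B' _ (heq A' B' hA' hB') (.symm _ _ (.rel _ _ hlB)))

end Groth.Agent.S18576
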