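import Groth.Statements.S18578
import Mathlib
import Groth.Agent.RegLocal.UFD
import Groth.Agent.Comodule.ChevalleyLocal

set_option autoImplicit false
universe u
open LogDiff

namespace Groth.Agent.S18578

noncomputable section
open IsLocalRing KaehlerDifferential

theorem ufd_of_smooth {k B R : Type u} [Field k] [CommRing B] [Algebra k B] [Algebra.Smooth k B]
    (p : Ideal B) [p.IsPrime] [CommRing R] [IsDomain R] [Algebra B R] [IsLocalization.AtPrime R p] :
    UniqueFactorizationMonoid R ∧ IsNoetherianRing R := by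
  haveI : Algebra.FiniteType k B := inferInstance
  haveI : IsNoetherianRing B := Algebra.FiniteType.isNoetherianRing k B
  haveI := Groth.Agent.Comodule.ChevalleyLocal.isRegularLocalRing_of_smooth k p
  let e : Localization.AtPrime p ≃ₐ[B] R := IsLocalization.algEquiv p.primeCompl _ _
  haveI : IsDomain (Localization.AtPrime p) := e.toRingEquiv.toMulEquiv.isDomain
  haveI := Groth.Agent.RegLocal.ufd (Localization.AtPrime p)
  exact ⟨MulEquiv.uniqueFactorizationMonoid e.toRingEquiv.toMulEquiv ‹_›,
    isNoetherianRing_of_ringEquiv (Localization.AtPrime p) e.toRingEquiv⟩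

theorem dvd_coeff_of_rel {k R : Type u} [Field k] [CharZero k] [CommRing R] [IsDomain R] [Algebra k R]
    [Algebra.FormallySmooth k R] [Algebra.EssFiniteType k R] {q : R} (hq : Prime q) {a : R} (ω : Ω[R⁄k])
    (h : a • D k R q + q • ω = 0) : q ∣ a := by
  classical
  haveI hP : (Ideal.span {q}).IsPrime := (Ideal.span_singleton_prime hq.ne_zero).mpr hq
  let P := Localization.AtPrime (Ideal.span {q})
  haveI : Algebra.FormallySmooth k P := by
    haveI : Algebra.FormallySmooth R P := Algebra.FormallySmooth.of_isLocalization (Ideal.span {q}).primeCompl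
    exact Algebra.FormallySmooth.comp k R P
  let κ := ResidueField P
  haveI : Algebra.EssFiniteType R P := Algebra.EssFiniteType.of_isLocalization P (Ideal.span {q}).primeCompl
  haveI : Algebra.EssFiniteType k P := Algebra.EssFiniteType.comp k R P
  haveI : Algebra.FiniteType P κ := Algebra.FiniteType.of_surjective (Algebra.ofId P κ) IsLocalRing.residue_surjective
  haveI : Algebra.EssFiniteType k κ := Algebra.EssFiniteType.comp k P κ
  haveI : Algebra.FormallySmooth k κ := Algebra.FormallySmooth.of_perfectField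
  obtain ⟨l, hl⟩ := (Algebra.FormallySmooth.iff_split_injection (R := k) (P := P) (A := κ) IsLocalRing.residue_surjective).mp ‹_›
  set π := algebraMap R P with hπ
  have hmax : IsLocalRing.maximalIdeal P = Ideal.span {π q} := by
    rw [← Localization.AtPrime.map_eq_maximalIdeal, Ideal.map_span, Set.image_singleton]
  have hker : π q ∈ RingHom.ker (algebraMap P κ) := by
    rw [RingHom.mem_ker]; exact (IsLocalRing.residue_eq_zero_iff _).mpr (hmax ▸ Ideal.mem_span_singleton_self _)
  have hP2 : π a • D k P (π q) + π q • KaehlerDifferential.map k k R P ω = 0 := by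
    have := congrArg (KaehlerDifferential.map k k R P) h
    rwa [map_add, map_smul, map_smul, map_zero, KaehlerDifferential.map_D, ← algebraMap_smul P a, ← algebraMap_smul P q] at this
  let ψ : Ω[P⁄k] →ₗ[P] (RingHom.ker (algebraMap P κ)).Cotangent := l ∘ₗ (TensorProduct.mk P κ Ω[P⁄k] 1)
  have hψ : ψ (D k P (π q)) = Ideal.toCotangent _ ⟨π q, hker⟩ := by
    have := LinearMap.congr_fun hl (Ideal.toCotangent _ ⟨π q, hker⟩)
    rwa [LinearMap.comp_apply, KaehlerDifferential.kerCotangentToTensor_toCotangent] at this
  have h0 := congrArg ψ hP2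
  have hkill : ∀ c : (RingHom.ker (algebraMap P κ)).Cotangent, π q • c = 0 := fun c => by
    obtain ⟨c, rfl⟩ := Ideal.toCotangent_surjective _ c
    rw [← map_smul, Ideal.toCotangent_eq_zero, pow_two]
    exact Ideal.mul_mem_mul hker c.2
  rw [map_add, map_smul, map_smul, map_zero, hψ, hkill, add_zero, ← map_smul, Ideal.toCotangent_eq_zero, pow_two] at h0
  have h1 : π a * π q ∈ Ideal.span {π q} * Ideal.span {π q} := by
    have hle : RingHom.ker (algebraMap P κ) ≤ Ideal.span {π q} := fun x hx => hmax ▸ (IsLocalRing.residue_eq_zero_iff x).mp hx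
    exact Ideal.mul_mono hle hle h0
  rw [Ideal.span_singleton_mul_span_singleton, Ideal.mem_span_singleton] at h1
  have hq0 : π q ≠ 0 := fun h => hq.ne_zero (IsLocalization.injective P (Ideal.primeCompl_le_nonZeroDivisors (Ideal.span {q})) (h.trans (map_zero π).symm))
  have h2 : π a ∈ IsLocalRing.maximalIdeal P := by
    rw [hmax, Ideal.mem_span_singleton]
    exact (mul_dvd_mul_iff_right hq0).mp h1
  exact Ideal.mem_span_singleton.mp ((IsLocalization.AtPrime.to_map_mem_maximal_iff (I := Ideal.span {q}) P a).mp h2)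

theorem prime_dvd_F {k R : Type u} [Field k] [CharZero k] [CommRing R] [IsDomain R] [UniqueFactorizationMonoid R] [Algebra k R]
    [Algebra.FormallySmooth k R] [Algebra.EssFiniteType k R] {a b F : R} (ha : a ≠ 0) {q : R} (hq : Prime q) (hqa : q ∣ a) (hqb : ¬ q ∣ b)
    (ω : Ω[R⁄k]) (h : F • (b • D k R a - a • D k R b) = (a * b) • ω) : q ∣ F := by
  haveI : Module.Flat R Ω[R⁄k] := inferInstance
  obtain ⟨m, a', ha', rfl⟩ := WfDvdMonoid.max_power_factor ha hq.irreducible
  rcases m with _ | m
  · simp at hqa; exact absurd hqa ha'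
  rw [Derivation.leibniz, Derivation.leibniz_pow, Nat.add_sub_cancel] at h
  have h1 : q ^ m • ((((m + 1 : ℕ) : R) * (F * b * a')) • D k R q +
      q • ((F * b) • D k R a' - (F * a') • D k R b - (a' * b) • ω)) = 0 := by
    have h2 := sub_eq_zero.mpr h
    rw [← h2, ← Nat.cast_smul_eq_nsmul R (m + 1)]
    match_scalars <;> push_cast <;> ring
  have h3 := (smul_eq_zero.mp h1).resolve_left (pow_ne_zero m hq.ne_zero)
  have h4 := dvd_coeff_of_rel hq _ h3
  have hu : IsUnit ((m + 1 : ℕ) : R) := by
    rw [← map_natCast (algebraMap k R)]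
    exact (IsUnit.mk0 _ (Nat.cast_ne_zero.mpr m.succ_ne_zero)).map _
  rcases hq.dvd_mul.mp ((hu.dvd_mul_left).mp h4) with h5 | h5
  · exact (hq.dvd_mul.mp h5).resolve_right hqb
  · exact absurd h5 ha'

variable {k K : Type u} [Field k] [Field K] [Algebra k K]

/-- logarithmic differential -/
def dl (x : K) : Ω[K⁄k] := x⁻¹ • D k K x

theorem dl_mul {x y : K} (hx : x ≠ 0) (hy : y ≠ 0) : dl (k := k) (x * y) = dl x + dl y := by
  simp only [dl, Derivation.leibniz, smul_add, smul_smul]
  rw [add_comm]
  congr 2 <;> field_simp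

theorem dl_div {x y : K} (hx : x ≠ 0) (hy : y ≠ 0) : dl (k := k) (x / y) = dl x - dl y := by
  rw [eq_sub_iff_add_eq, ← dl_mul (div_ne_zero hx hy) hy, div_mul_cancel₀ _ hy]

theorem exists_factor {R : Type u} [CommRing R] [IsDomain R] [UniqueFactorizationMonoid R] [Algebra R K] [FaithfulSMul R K]
    [Algebra k R] {r : ℕ} (f : Fin r → R) (hf : ∀ i, Prime (f i)) (a : R) (ha : a ≠ 0)
    (hdvd : ∀ q, Prime q → q ∣ a → q ∣ ∏ i, f i) :
    ∃ (v : Rˣ) (n : Fin r → ℕ), dl (k := k) (algebraMap R K a) =
      dl (algebraMap R K v) + ∑ i, (n i : K) • dl (algebraMap R K (f i)) := by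
  classical
  induction a using UniqueFactorizationMonoid.induction_on_prime with
  | h₁ => exact absurd rfl ha
  | h₂ x hx => exact ⟨hx.unit, 0, by simp⟩
  | h₃ a q ha0 hq ih =>
    obtain ⟨v, n, hn⟩ := ih ha0 fun q' hq' h => hdvd q' hq' (h.mul_left q)
    obtain ⟨j, -, hj⟩ := hq.exists_mem_finset_dvd (hdvd q hq (dvd_mul_right q a))
    obtain ⟨w, hw⟩ := (hq.irreducible.associated_of_dvd (hf j).irreducible hj).symm
    have hne : ∀ x : R, x ≠ 0 → algebraMap R K x ≠ 0 := fun x hx h => hx (FaithfulSMul.algebraMap_injective R K (h.trans (map_zero _).symm))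
    refine ⟨v * w, n + Pi.single j 1, ?_⟩
    rw [← hw, map_mul, map_mul, dl_mul (mul_ne_zero (hne _ (hf j).ne_zero) (hne _ w.ne_zero)) (hne _ ha0),
      dl_mul (hne _ (hf j).ne_zero) (hne _ w.ne_zero), hn, Units.val_mul, map_mul,
      dl_mul (hne _ v.ne_zero) (hne _ w.ne_zero)]
    simp only [Pi.add_apply, Nat.cast_add, add_smul, Finset.sum_add_distrib]
    rw [Finset.sum_eq_single j (f := fun i => ((Pi.single j 1 : Fin r → ℕ) i : K) • dl (k := k) (algebraMap R K (f i)))
      (fun i _ hi => by simp [Pi.single_eq_of_ne hi]) (by simp)]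
    simp only [Pi.single_eq_same, Nat.cast_one, one_smul]
    abel

end

/-- The degree-one case, stated at the local ring of a point. Let k be a field of characteristic zero, B
a smooth k-algebra, R the localization of B at a prime ideal, K the fraction field of R and f_1, …,
f_r prime elements of R. If g is a unit of K whose logarithmic differential g⁻¹dg in Ω_{K/k} is the
image of a form η ∈ Ω_{R/k} plus an R-linear combination Σ c_i f_i⁻¹df_i, then g⁻¹dg = v⁻¹dv + Σ b_i
f_i⁻¹df_i for a unit v of R and integers b_i. (When the f_i are part of a regular system of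
parameters the hypothesis says that g⁻¹dg has at worst logarithmic poles along the divisor f_1⋯f_r =
0 at this point, and the statement is the stalkwise injectivity of 1-forms with logarithmic poles
modulo logarithmic differentials of functions invertible off the divisor into Ω¹_K modulo
logarithmic differentials; it is stated here for arbitrary prime elements f_i.) -/
theorem result
    {k B R K : Type u} [Field k] [CharZero k] [CommRing B] [Algebra k B] [Algebra.Smooth k B]
    (p : Ideal B) [p.IsPrime] [CommRing R] [Algebra B R] [IsLocalization.AtPrime R p]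
    [Algebra k R] [IsScalarTower k B R]
    [Field K] [Algebra R K] [IsFractionRing R K] [Algebra k K] [IsScalarTower k R K]
    {r : ℕ} (f : Fin r → R) (hf : ∀ i, Prime (f i))
    (g : Kˣ) (η : Ω[R⁄k]) (c : Fin r → R)
    (h : (g : K)⁻¹ • KaehlerDifferential.D k K (g : K) =
      KaehlerDifferential.map k k R K η +
        ∑ i, (algebraMap R K (c i) * (algebraMap R K (f i))⁻¹) •
          KaehlerDifferential.D k K (algebraMap R K (f i))) :
    ∃ (v : Rˣ) (b : Fin r → ℤ),
      (g : K)⁻¹ • KaehlerDifferential.D k K (g : K) =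
        (algebraMap R K (v : R))⁻¹ • KaehlerDifferential.D k K (algebraMap R K (v : R)) +
          ∑ i, ((b i : K) * (algebraMap R K (f i))⁻¹) •
            KaehlerDifferential.D k K (algebraMap R K (f i)) := by
  classical
  haveI : IsDomain R := (IsFractionRing.injective R K).isDomain
  obtain ⟨hufd, -⟩ := ufd_of_smooth (k := k) (R := R) p
  haveI : Algebra.FormallySmooth k R := by
    haveI : Algebra.FormallySmooth B R := Algebra.FormallySmooth.of_isLocalization p.primeCompl
    exact Algebra.FormallySmooth.comp k B R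
  haveI : Algebra.EssFiniteType k R := by
    haveI : Algebra.EssFiniteType B R := Algebra.EssFiniteType.of_isLocalization R p.primeCompl
    exact Algebra.EssFiniteType.comp k B R
  set a := IsFractionRing.num R (g : K)
  set b : R := (IsFractionRing.den R (g : K) : R)
  have hb : b ≠ 0 := nonZeroDivisors.ne_zero (IsFractionRing.den R (g : K)).2
  have hab : (g : K) = algebraMap R K a / algebraMap R K b := by
    conv_lhs => rw [← IsFractionRing.mk'_num_den R (g : K), IsFractionRing.mk'_eq_div]
  have hred : IsRelPrime a b := fun d hd hd' => IsFractionRing.num_den_reduced R (g : K) hd hd'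
  have ha : a ≠ 0 := fun h0 => g.ne_zero (by rw [hab, h0, map_zero, zero_div])
  have hne : ∀ x : R, x ≠ 0 → algebraMap R K x ≠ 0 := fun x hx h' => hx (IsFractionRing.injective R K (h'.trans (map_zero _).symm))
  set F := ∏ i, f i
  let ω : Ω[R⁄k] := F • η + ∑ i, (c i * ∏ j ∈ Finset.univ.erase i, f j) • KaehlerDifferential.D k R (f i)
  have hkey : F • (b • KaehlerDifferential.D k R a - a • KaehlerDifferential.D k R b) = (a * b) • ω := by
    haveI : IsLocalizedModule (nonZeroDivisors R) (KaehlerDifferential.map k k R K) := inferInstance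
    have hinj : Function.Injective (KaehlerDifferential.map k k R K) := fun x y hxy => by
      obtain ⟨s, hs⟩ := IsLocalizedModule.exists_of_eq (S := nonZeroDivisors R) hxy
      exact smul_right_injective Ω[R⁄k] (nonZeroDivisors.ne_zero s.2) hs
    have hsm : ∀ (x : R) (m : Ω[K⁄k]), x • m = algebraMap R K x • m := fun x m => (algebraMap_smul K x m).symm
    apply hinj
    have h1 : dl (k := k) (algebraMap R K a) - dl (algebraMap R K b) = KaehlerDifferential.map k k R K η +
        ∑ i, (algebraMap R K (c i) * (algebraMap R K (f i))⁻¹) •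
          KaehlerDifferential.D k K (algebraMap R K (f i)) := by
      rw [← dl_div (hne _ ha) (hne _ hb), ← hab]; exact h
    have h2 := congrArg (algebraMap R K (a * b * F) • ·) h1
    simp only [smul_sub, smul_add, Finset.smul_sum, dl, smul_smul] at h2
    simp only [ω, map_sub, map_smul, KaehlerDifferential.map_D, map_add, map_sum, smul_sub, smul_add, Finset.smul_sum,
      hsm, smul_smul, ← map_mul]
    refine Eq.trans ?_ (h2.trans ?_)
    · congr 2 <;> · simp only [map_mul]; have := hne _ ha; have := hne _ hb; field_simp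
    · congr 1
      refine Finset.sum_congr rfl fun i _ => ?_
      congr 1
      have hF : F = f i * ∏ j ∈ Finset.univ.erase i, f j := (Finset.mul_prod_erase _ _ (Finset.mem_univ i)).symm
      rw [hF]
      simp only [map_mul]
      have := hne _ (hf i).ne_zero
      field_simp
  have hA : ∀ q, Prime q → q ∣ a → q ∣ F := fun q hq hqa =>
    prime_dvd_F ha hq hqa (fun hqb => hq.not_unit (hred hqa hqb)) ω hkey
  have hB : ∀ q, Prime q → q ∣ b → q ∣ F := fun q hq hqb =>
    prime_dvd_F hb hq hqb (fun hqa => hq.not_unit (hred hqa hqb)) (-ω) (by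
      rw [smul_neg, mul_comm b a, ← hkey, ← smul_neg, neg_sub])
  obtain ⟨v₁, n₁, h₁⟩ := exists_factor (k := k) (K := K) f hf a ha hA
  obtain ⟨v₂, n₂, h₂⟩ := exists_factor (k := k) (K := K) f hf b hb hB
  refine ⟨v₁ * v₂⁻¹, fun i => (n₁ i : ℤ) - n₂ i, ?_⟩
  show dl (g : K) = dl (algebraMap R K ((v₁ * v₂⁻¹ : Rˣ) : R)) + _
  have hv : dl (k := k) (algebraMap R K ((v₁ * v₂⁻¹ : Rˣ) : R)) = dl (algebraMap R K v₁) - dl (algebraMap R K v₂) := by
    rw [eq_sub_iff_add_eq, ← dl_mul (hne _ (Units.ne_zero _)) (hne _ v₂.ne_zero), ← map_mul, ← Units.val_mul, inv_mul_cancel_right]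
  rw [hab, dl_div (hne _ ha) (hne _ hb), h₁, h₂, hv]
  simp only [Int.cast_sub, Int.cast_natCast, sub_mul, sub_smul, Finset.sum_sub_distrib, dl, smul_smul]
  abel

end Groth.Agent.S18578
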