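import Groth.Statements.S18579
-- import your own Groth.Agent.* helpers here

set_option autoImplicit false
universe u
open LogDiff

namespace Groth.Agent.S18579

/-- The exact sequence for units (first Milnor K-groups) when every component of the divisor is removed.
Let k be a field, B a smooth k-algebra, R the localization of B at a prime ideal, K the fraction
field of R and f_1, …, f_r pairwise non-associate prime elements of R. If w is a unit of K such that
w and w⁻¹ both lie in R[1/(f_1⋯f_r)], i.e. each becomes an element of R after multiplication by a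
power of f_1⋯f_r, then there is exactly one pair (v, b) consisting of a unit v of R and integers
b_1, …, b_r with w = v · ∏ f_i^{b_i} in K. (This is the exactness of 0 → Γ(Spec R, O^×) → Γ(Spec R ∖
V(f_1⋯f_r), O^×) → ℤ^r → 0, the last map being the orders along the f_i. The published statement
takes the f_i to be local equations of the components of a normal crossings divisor, over a field of
characteristic zero; this row allows arbitrary pairwise non-associate prime elements and any field.) -/
theorem result
    {k B R K : Type u} [Field k] [CommRing B] [Algebra k B] [Algebra.Smooth k B]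
    (p : Ideal B) [p.IsPrime] [CommRing R] [Algebra B R] [IsLocalization.AtPrime R p]
    [Field K] [Algebra R K] [IsFractionRing R K]
    {r : ℕ} (f : Fin r → R) (hf : ∀ i, Prime (f i)) (hfa : ∀ i j, Associated (f i) (f j) → i = j)
    (w : Kˣ)
    (hw : ∃ (a : R) (n : ℕ), (w : K) * algebraMap R K ((∏ i, f i) ^ n) = algebraMap R K a)
    (hw' : ∃ (a : R) (n : ℕ), (w⁻¹ : Kˣ) * algebraMap R K ((∏ i, f i) ^ n) = algebraMap R K a) :
    ∃! vb : Rˣ × (Fin r → ℤ),
      (w : K) = algebraMap R K (vb.1 : R) * ∏ i, (algebraMap R K (f i)) ^ (vb.2 i) := by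
  classical
  haveI : IsDomain R := Function.Injective.isDomain (algebraMap R K) (IsFractionRing.injective R K)
  have hinj := IsFractionRing.injective R K
  have hfK : ∀ i, algebraMap R K (f i) ≠ 0 := fun i =>
    (map_ne_zero_iff _ hinj).mpr (hf i).ne_zero
  -- divisors of products of the primes
  have key : ∀ (e : Fin r → ℕ) (a b : R), a * b = ∏ i, f i ^ e i →
      ∃ (u : Rˣ) (d : Fin r → ℕ), a = u * ∏ i, f i ^ d i := by
    intro e
    induction hN : ∑ i, e i using Nat.strong_induction_on generalizing e with
    | _ N ih =>
      intro a b hab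
      by_cases h0 : ∀ i, e i = 0
      · refine ⟨(IsUnit.of_mul_eq_one b (by rw [hab]; simp [h0]) : IsUnit a).unit, 0, by simp⟩
      · push Not at h0
        obtain ⟨i, hi⟩ := h0
        let e' := Function.update e i (e i - 1)
        have hsplit : ∏ j, f j ^ e j = f i * ∏ j, f j ^ e' j := by
          rw [← Finset.mul_prod_erase Finset.univ _ (Finset.mem_univ i),
            ← Finset.mul_prod_erase Finset.univ (fun j => f j ^ e' j) (Finset.mem_univ i),
            ← mul_assoc]
          congr 1
          · simp only [e', Function.update_self]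
            rw [← pow_succ', Nat.sub_add_cancel (Nat.one_le_iff_ne_zero.mpr hi)]
          · refine Finset.prod_congr rfl fun j hj => ?_
            simp [e', Function.update_of_ne (Finset.ne_of_mem_erase hj)]
        have hlt : ∑ j, e' j < N := by
          rw [← hN]
          refine Finset.sum_lt_sum (fun j _ => ?_) ⟨i, Finset.mem_univ i, ?_⟩
          · by_cases hj : j = i
            · subst hj; simp [e']
            · simp [e', Function.update_of_ne hj]
          · simp only [e', Function.update_self]; omega
        have hdvd : f i ∣ a * b := ⟨_, by rw [hab, hsplit]⟩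
        rcases (hf i).dvd_or_dvd hdvd with ⟨a', ha'⟩ | ⟨b', hb'⟩
        · have := mul_left_cancel₀ (hf i).ne_zero (a := f i) (b := a' * b) (c := ∏ j, f j ^ e' j)
            (by rw [← hsplit, ← hab, ha', mul_assoc])
          obtain ⟨u, d, hd⟩ := ih _ hlt e' rfl a' b this
          refine ⟨u, Function.update d i (d i + 1), ?_⟩
          rw [ha', hd, ← mul_assoc, mul_comm (f i), mul_assoc]
          congr 1
          rw [← Finset.mul_prod_erase Finset.univ _ (Finset.mem_univ i),
            ← Finset.mul_prod_erase Finset.univ (fun j => f j ^ Function.update d i (d i + 1) j)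
              (Finset.mem_univ i), ← mul_assoc, Function.update_self, ← pow_succ']
          congr 1
          exact Finset.prod_congr rfl fun j hj => by
            rw [Function.update_of_ne (Finset.ne_of_mem_erase hj)]
        · have := mul_left_cancel₀ (hf i).ne_zero (a := f i) (b := a * b') (c := ∏ j, f j ^ e' j)
            (by rw [← hsplit, ← hab, hb']; ring)
          exact ih _ hlt e' rfl a b' this
  obtain ⟨a, n, ha⟩ := hw
  obtain ⟨a', n', ha'⟩ := hw'
  have haa : a * a' = ∏ i, f i ^ (n + n') := by
    apply hinj
    rw [map_mul, ← ha, ← ha', Finset.prod_pow, pow_add, map_mul]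
    rw [Units.val_inv_eq_inv_val]
    field_simp
  obtain ⟨u, d, hd⟩ := key _ a a' haa
  refine ⟨(u, fun i => (d i : ℤ) - n), ?_, ?_⟩
  · have hn : algebraMap R K ((∏ i, f i) ^ n) ≠ 0 := by
      rw [map_pow, map_prod]; exact pow_ne_zero _ (Finset.prod_ne_zero_iff.mpr fun i _ => hfK i)
    rw [eq_div_iff hn |>.mpr ha, hd, map_mul, map_prod, map_pow, map_prod, mul_div_assoc,
      ← Finset.prod_pow, ← Finset.prod_div_distrib]
    congr 1
    refine Finset.prod_congr rfl fun i _ => ?_
    rw [map_pow, zpow_sub₀ (hfK i), zpow_natCast, zpow_natCast]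
  · rintro ⟨u', b⟩ hb
    have hb' : (w : K) = algebraMap R K (u : R) * ∏ i, (algebraMap R K (f i)) ^ ((d i : ℤ) - n) := by
      have hn : algebraMap R K ((∏ i, f i) ^ n) ≠ 0 := by
        rw [map_pow, map_prod]; exact pow_ne_zero _ (Finset.prod_ne_zero_iff.mpr fun i _ => hfK i)
      rw [eq_div_iff hn |>.mpr ha, hd, map_mul, map_prod, map_pow, map_prod, mul_div_assoc,
        ← Finset.prod_pow, ← Finset.prod_div_distrib]
      congr 1
      refine Finset.prod_congr rfl fun i _ => ?_
      rw [map_pow, zpow_sub₀ (hfK i), zpow_natCast, zpow_natCast]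
    have e0 := hb.symm.trans hb'
    dsimp only at e0
    -- clear denominators by a large power
    let N : ℕ := n + ∑ i, (b i).natAbs
    let B : Fin r → ℕ := fun i => (b i + N).toNat
    let D : Fin r → ℕ := fun i => ((d i : ℤ) - n + N).toNat
    have hB : ∀ i, (B i : ℤ) = b i + N := fun i => by
      have h1 : (b i).natAbs ≤ ∑ j, (b j).natAbs :=
        Finset.single_le_sum (f := fun j => (b j).natAbs) (fun j _ => Nat.zero_le _) (Finset.mem_univ i)
      simp only [B, N]; omega
    have hD : ∀ i, (D i : ℤ) = (d i : ℤ) - n + N := fun i => by simp only [D, N]; omega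
    have e1 : (u' : R) * ∏ i, f i ^ B i = (u : R) * ∏ i, f i ^ D i := by
      apply hinj
      have e2 := congrArg (fun z => z * ∏ i, (algebraMap R K (f i)) ^ (N : ℤ)) e0
      rw [mul_assoc, mul_assoc, ← Finset.prod_mul_distrib, ← Finset.prod_mul_distrib,
        Finset.prod_congr rfl (fun i _ => show algebraMap R K (f i) ^ b i * algebraMap R K (f i) ^ (N : ℤ) =
          algebraMap R K (f i) ^ B i by rw [← zpow_add₀ (hfK i), ← hB, zpow_natCast]),
        Finset.prod_congr rfl (fun i _ => show algebraMap R K (f i) ^ ((d i : ℤ) - n) * algebraMap R K (f i) ^ (N : ℤ) =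
          algebraMap R K (f i) ^ D i by rw [← zpow_add₀ (hfK i), ← hD, zpow_natCast])] at e2
      simpa only [map_mul, map_prod, map_pow] using e2
    have hdisj : ∀ (v v' : Rˣ) (B D : Fin r → ℕ), (v : R) * ∏ i, f i ^ B i = (v' : R) * ∏ i, f i ^ D i →
        ∀ i, D i ≤ B i := by
      intro v v' B D h i
      by_contra hlt
      push Not at hlt
      have hdv : f i ^ D i ∣ (v : R) * ∏ j, f j ^ B j := h ▸ dvd_mul_of_dvd_right (Finset.dvd_prod_of_mem _ (Finset.mem_univ i)) _
      rw [Units.dvd_mul_left, ← Finset.mul_prod_erase Finset.univ _ (Finset.mem_univ i)] at hdv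
      rw [show D i = B i + (D i - B i) from by omega, pow_add,
        mul_dvd_mul_iff_left (pow_ne_zero _ (hf i).ne_zero)] at hdv
      have h1 : f i ∣ ∏ j ∈ Finset.univ.erase i, f j ^ B j :=
        (dvd_pow_self _ (by omega)).trans hdv
      obtain ⟨j, hj, hdj⟩ := (hf i).exists_mem_finset_dvd h1
      exact Finset.ne_of_mem_erase hj
        (hfa _ _ ((hf i).associated_of_dvd (hf j) ((hf i).dvd_of_dvd_pow hdj))).symm
    have heq : B = D := funext fun i => le_antisymm (hdisj u u' D B e1.symm i) (hdisj u' u B D e1 i)
    have hb2 : b = fun i => (d i : ℤ) - n := funext fun i => by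
      have := hB i; have := hD i; rw [heq] at *; omega
    subst hb2
    refine Prod.ext ?_ rfl
    apply Units.ext; apply hinj
    exact mul_right_cancel₀ (Finset.prod_ne_zero_iff.mpr fun i _ => zpow_ne_zero _ (hfK i)) e0

end Groth.Agent.S18579
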