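import Groth.Statements.S1858
import Groth.Agent.CycLib.PushPull
import Groth.Agent.LocDimBC.Comp

set_option autoImplicit false
universe u
open CategoryTheory AlgebraicGeometry
open CategoryTheory.Limits
open Cyc

namespace Groth.Agent.S1858

open CategoryTheory CategoryTheory.Limits AlgebraicGeometry

open Groth.Agent
set_option backward.isDefEq.respectTransparency false

/-- Let f : X → Y be proper and g : Y' → Y flat, locally of finite type, of relative dimension r, and
form X' = X ×_Y Y' with projections g' to X and f' to Y'. For a k-cycle α on X one has g^*(f_*α) =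
f'_*(g'^*α) as (k + r)-cycles on Y' (stated on coefficient functions, for any cycle on X' with the
coefficients of g'^*α). Here a pair (X, δ) with Cyc.IsSetup plays the role of a scheme locally of
finite type over a fixed base with a dimension function (X locally Noetherian with universally
catenary local rings, δ a dimension function), and Cyc.DeltaCompat records that the dimension
function upstairs is the induced one. -/
theorem result (X Y Y' : Scheme.{u}) (f : X ⟶ Y) (g : Y' ⟶ Y) [IsProper f] [Flat g] [LocallyOfFiniteType g] (δX : X → ℤ) (δY : Y → ℤ) (δY' : Y' → ℤ) (δX' : ↥(pullback f g) → ℤ) (r : ℕ) (hr : Cyc.HasRelDim g r) (hY : Cyc.IsSetup Y δY) (hX : Cyc.IsSetup X δX) (hY' : Cyc.IsSetup Y' δY') (hf : Cyc.DeltaCompat f δX δY) (hg : Cyc.DeltaCompat g δY' δY) (hX' : Cyc.DeltaCompat (pullback.snd f g) δX' δY') (k : ℤ) (α : AlgebraicCycle X ℤ) (hα : α ∈ Cyc.Zk X δX k) (α' : AlgebraicCycle (pullback f g) ℤ) (hα' : ⇑α' = Cyc.pullFun (pullback.fst f g) δX' δX r ⇑α) : ⇑(AlgebraicCycle.map (pullback.snd f g) δX' δY' α') = Cyc.pullFun g δY' δY r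 ⇑(AlgebraicCycle.map f δX δY α) := by
  haveI := hY'.1
  have hX'' := CycLib.isSetup_of_lft (pullback.snd f g) hY' hX'
  haveI := hX''.1
  have hrel : Cyc.HasRelDim (pullback.fst f g) r := fun x => by
    haveI : LocallyOfFiniteType (Y := Spec (CommRingCat.of (Y.residueField (f x)))) (g.fiberToSpecResidueField (f x)) :=
      MorphismProperty.pullback_snd (P := @LocallyOfFiniteType) _ _ inferInstance
    exact LocDimBC.dim_component_fieldExtension (k := Y.residueField (f x)) (K := X.residueField x)
      (isPullback_fiberToSpecResidueField_of_isPullback (IsPullback.of_hasPullback f g).flip x) r (hr (f x))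
  have hfst : Cyc.DeltaCompat (pullback.fst f g) δX' δX := by
    intro x'
    obtain ⟨n', hn', e1⟩ := hX' x'
    obtain ⟨m, hm, e2⟩ := hg (pullback.snd f g x')
    obtain ⟨n, hn, e3⟩ := hf (pullback.fst f g x')
    have h1 : DimFormulaLib.resTrdegAt (pullback.snd f g ≫ g) x' = ((m + n' : ℕ) : Cardinal) := by
      rw [FlatDim.resTrdegAt_comp, show DimFormulaLib.resTrdegAt g (pullback.snd f g x') = m from hm,
        show DimFormulaLib.resTrdegAt (pullback.snd f g) x' = n' from hn', Nat.cast_add]
    rw [← FlatDim.resTrdegAt_congr pullback.condition, FlatDim.resTrdegAt_comp,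
      show DimFormulaLib.resTrdegAt f (pullback.fst f g x') = n from hn] at h1
    have hlt : DimFormulaLib.resTrdegAt (pullback.fst f g) x' < Cardinal.aleph0 :=
      lt_of_le_of_lt (le_add_left le_rfl) (h1 ▸ Cardinal.natCast_lt_aleph0)
    obtain ⟨q, hq⟩ := Cardinal.lt_aleph0.1 hlt
    refine ⟨q, hq, ?_⟩
    rw [hq] at h1
    have h2 : n + q = m + n' := by exact_mod_cast h1
    have hsq : f (pullback.fst f g x') = g (pullback.snd f g x') := by
      rw [← Scheme.Hom.comp_apply, pullback.condition, Scheme.Hom.comp_apply]
    rw [hsq] at e3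
    omega
  exact (CycLib.map_pullFun (IsPullback.of_hasPullback f g) hY'.2.2 hX''.2.2 hf hX'
    (CycLib.IsShift.of_relDim hY' hY r hr hg) (CycLib.IsShift.of_relDim hX'' hX r hrel hfst) α α' hα')


end Groth.Agent.S1858
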