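import Groth.Statements.S18580
import Mathlib

set_option backward.isDefEq.respectTransparency false
set_option autoImplicit false
universe u
open EtBase

namespace Groth.Agent.S18580

open AlgebraicGeometry CategoryTheory in
/-- Let Y be a connected scheme and f : X ⟶ Y a separated morphism that is unramified (locally of finite
type and formally unramified). Then the sections of f correspond bijectively to the connected
components of X mapping isomorphically onto Y: there is a bijection from the set of sections s of f
to the set of open subschemes U of X whose underlying set is a connected component of X and for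
which U ⟶ X ⟶ Y is an isomorphism, sending s to its image. In particular every section is an
isomorphism onto a connected component of X and is determined by its image. (A connected component
mapping isomorphically onto Y is the image of a section, hence open, so restricting to open
components loses nothing. The published statement also assumes Y Noetherian; that hypothesis plays
no role and is omitted.) -/
theorem result {X Y : Scheme.{u}} (f : X ⟶ Y)
    [FormallyUnramified f] [LocallyOfFiniteType f] [IsSeparated f] [ConnectedSpace Y] :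
    ∃ e : {s : Y ⟶ X // s ≫ f = 𝟙 Y} ≃
        {U : X.Opens // (∃ x : X, (U : Set X) = connectedComponent x) ∧ IsIso (U.ι ≫ f)},
      ∀ s : {s : Y ⟶ X // s ≫ f = 𝟙 Y}, ((e s).1 : Set X) = Set.range s.1 := by
  haveI hop : MorphismProperty.HasOfPostcompProperty (@IsOpenImmersion : MorphismProperty Scheme.{u})
      (@LocallyOfFiniteType ⊓ @FormallyUnramified) :=
    MorphismProperty.hasOfPostcompProperty_iff_le_diagonal.2 fun _ _ g ⟨_, _⟩ => by
      show IsOpenImmersion (Limits.pullback.diagonal g)
      infer_instance
  have hs : ∀ s : {s : Y ⟶ X // s ≫ f = 𝟙 Y}, IsOpenImmersion s.1 := fun s =>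
    MorphismProperty.of_postcomp (W := @IsOpenImmersion) (W' := @LocallyOfFiniteType ⊓ @FormallyUnramified)
      s.1 f ⟨‹_›, ‹_›⟩ (by rw [s.2]; infer_instance)
  have hc : ∀ s : {s : Y ⟶ X // s ≫ f = 𝟙 Y}, IsClosedImmersion s.1 := fun s => by
    haveI : IsClosedImmersion (s.1 ≫ f) := by rw [s.2]; infer_instance
    exact IsClosedImmersion.of_comp s.1 f
  let R : {s : Y ⟶ X // s ≫ f = 𝟙 Y} → X.Opens := fun s => haveI := hs s; s.1.opensRange
  have hR : ∀ s, (∃ x : X, (R s : Set X) = connectedComponent x) ∧ IsIso ((R s).ι ≫ f) := fun s => by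
    haveI := hs s
    haveI := hc s
    refine ⟨?_, ?_⟩
    · obtain ⟨y⟩ : Nonempty Y := inferInstance
      refine ⟨s.1 y, Set.Subset.antisymm ((isPreconnected_range s.1.continuous).subset_connectedComponent ⟨y, rfl⟩) ?_⟩
      exact IsClopen.connectedComponent_subset ⟨s.1.isClosedEmbedding.isClosed_range, s.1.isOpenEmbedding.isOpen_range⟩ ⟨y, rfl⟩
    · have e : s.1.isoOpensRange.hom ≫ (R s).ι ≫ f = 𝟙 Y := by
        rw [Scheme.Hom.isoOpensRange_hom_ι_assoc, s.2]
      have : (R s).ι ≫ f = s.1.isoOpensRange.inv := by
        rw [← cancel_epi s.1.isoOpensRange.hom, e, Iso.hom_inv_id]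
      rw [this]
      infer_instance
  refine ⟨Equiv.ofBijective (fun s => ⟨R s, hR s⟩) ⟨fun s t h => ?_, fun ⟨U, hU, hi⟩ => ?_⟩, fun s => ?_⟩
  · haveI := hs s
    haveI := hs t
    have h' : R s = R t := congrArg Subtype.val h
    haveI := (hR t).2
    let k : Y ⟶ (R t).toScheme := IsOpenImmersion.lift (R t).ι s.1 (by
      rw [Scheme.Opens.range_ι, ← h']
      exact le_rfl)
    have hk : k ≫ (R t).ι = s.1 := IsOpenImmersion.lift_fac _ _ _
    have : k = t.1.isoOpensRange.hom := by
      rw [← cancel_mono ((R t).ι ≫ f), ← Category.assoc, hk, s.2, Scheme.Hom.isoOpensRange_hom_ι_assoc, t.2]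
    exact Subtype.ext (by rw [← hk, this, Scheme.Hom.isoOpensRange_hom_ι])
  · refine ⟨⟨inv (U.ι ≫ f) ≫ U.ι, by rw [Category.assoc, IsIso.inv_hom_id]⟩, Subtype.ext ?_⟩
    haveI : IsIso (U.ι ≫ f) := hi
    apply TopologicalSpace.Opens.ext
    show Set.range (inv (U.ι ≫ f) ≫ U.ι) = (U : Set X)
    rw [Scheme.Hom.comp_base, TopCat.coe_comp, Set.range_comp,
      Set.range_eq_univ.2 (inv (U.ι ≫ f)).surjective, Set.image_univ, Scheme.Opens.range_ι]
  · haveI := hs s
    rfl

end Groth.Agent.S18580
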