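import Groth.Statements.S18585
import Groth.Agent.DiscDegLib.Main
import Groth.Agent.EulerIneqLib.Basic

set_option backward.isDefEq.respectTransparency false
set_option backward.isDefEq.respectTransparency.types false

set_option autoImplicit false
set_option backward.isDefEq.respectTransparency false
universe u
open BranchVar

namespace Groth.Agent.S18585

open CategoryTheory CategoryTheory.Limits AlgebraicGeometry in
/-- Let k be a characteristic-zero algebraically closed field, C a smooth proper integral curve over k,
and g : Y ⟶ C a finite flat morphism with g_*O_Y locally free of rank d whose generic fibre (the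
fibre over the generic point of C) is reduced. Then the degree of the rank-d locally free module
g_*O_Y on C, computed as χ(C, g_*O_Y) − d·χ(C, O_C), is at most 0. (The published inequality is
stated for the degree of the determinant line bundle, deg det(g_*O_Y)^{-1} ≥ 0; the degree of a
locally free module on such a curve equals the degree of its determinant.) -/
theorem result (k : Type u) [Field k] [IsAlgClosed k] [CharZero k]
    (C : Scheme.{u}) [C.Over (Spec (CommRingCat.of k))] [IsIntegral C]
    (hC : Curve.IsSmoothProperCurve k C (C ↘ Spec (CommRingCat.of k)))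
    (Y : Scheme.{u}) (g : Y ⟶ C) [IsFinite g] [Flat g] (d : ℕ)
    (hd : FlatMod.IsFinLocFreeOfRank d ((Coh.push g).obj (Coh.structureModule Y)))
    (hred : AlgebraicGeometry.IsReduced (g.fiber (genericPoint C))) :
    Curv2.deg k C ((Coh.push g).obj (Coh.structureModule Y)) d ≤ 0 := by
  obtain ⟨hp, hs, -, hdim⟩ := hC
  haveI := hp; haveI := hs
  haveI : IsNoetherian C := EulerIneqLib.isNoetherian_proper (X := C) k
  haveI := VBLib.isRegCurve_of_smooth k (X := C) hdim.le
  haveI := hred
  have hA : FlatMod.IsFinLocFreeOfRank d (RelSpec.QCAlg.directImage g).toModule := hd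
  have hA' := FinCovLib.isFinLocFree_of_rank hA
  obtain ⟨τ, hτ⟩ := FinCovLib.exists_isTrace hA'
  haveI := DiscDegLib.mono_toDual g hA' τ (fun U hU => by
    haveI := hU
    let φ : k →+* Γ(C, U) := ((C.presheaf.map (homOfLE le_top).op).hom).comp (Coh.toGlobal (C ↘ Spec (CommRingCat.of k)))
    exact charZero_of_injective_ringHom φ.injective) hτ
  obtain ⟨e⟩ := VBLib.DualOps.nonempty_dd_iso_dual hA'
  let φ := DualInvLib.toDual (DiscDegLib.pairing g τ).lift ≫ e.inv
  haveI : Mono φ := mono_comp _ _
  have hD := VBLib.DualDeg.rank_dd hA
  have h := (VBLib.dg_le_of_mono k hdim.le φ (VBLib.isCoh_of_rank hA) (VBLib.isCoh_of_rank hD)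
    (by rw [VBLib.grk_of_rank hA, VBLib.grk_of_rank hD])).1
  rw [VBLib.dg_eq k hA, VBLib.dg_eq k hD, VBLib.DualDeg.deg_dd k hdim hA] at h
  show Curv2.deg k C (RelSpec.QCAlg.directImage g).toModule d ≤ 0
  omega

end Groth.Agent.S18585
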