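import Groth.Statements.S18589
import Mathlib

set_option autoImplicit false
open CAlg

namespace Groth.Agent.S18589

/-- For a prime p and every natural number n, the n-th Witt addition polynomial over the integers (the
polynomial S_n with (x + y)_n = S_n(x_0, y_0, …, x_n, y_n) for p-typical Witt vectors x, y) is
weighted homogeneous of weighted degree p ^ n for the grading in which the variables x_i and y_i
have weight p ^ i. -/
theorem result (p : ℕ) [Fact p.Prime] (n : ℕ) :
    MvPolynomial.IsWeightedHomogeneous (fun i : Fin 2 × ℕ => p ^ i.2) (WittVector.wittAdd p n) (p ^ n) := by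
  classical
  induction n using Nat.strong_induction_on with
  | _ n ih =>
    open MvPolynomial in
    have hprop := wittStructureInt_prop p (X (0 : Fin 2) + X 1 : MvPolynomial (Fin 2) ℤ) n
    rw [show wittStructureInt p (MvPolynomial.X (0 : Fin 2) + MvPolynomial.X 1 : MvPolynomial (Fin 2) ℤ) = WittVector.wittAdd p from rfl,
      map_add, MvPolynomial.bind₁_X_right, MvPolynomial.bind₁_X_right, wittPolynomial_eq_sum_C_mul_X_pow, map_sum, map_sum, map_sum,
      Finset.sum_range_succ] at hprop
    simp only [map_mul, map_pow, MvPolynomial.bind₁_C_right, MvPolynomial.bind₁_X_right, MvPolynomial.rename_C, MvPolynomial.rename_X,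
      Nat.sub_self, pow_zero, pow_one] at hprop
    have hpow : ∀ i, i ≤ n → (p ^ (n - i)) • (p ^ i) = p ^ n := fun i hi => by
      rw [smul_eq_mul, ← pow_add, Nat.sub_add_cancel hi]
    have hside : ∀ b : Fin 2, MvPolynomial.IsWeightedHomogeneous (fun i : Fin 2 × ℕ => p ^ i.2)
        (∑ i ∈ Finset.range (n + 1), (MvPolynomial.C (p : ℤ)) ^ i * (MvPolynomial.X (b, i)) ^ p ^ (n - i)) (p ^ n) := fun b =>
      MvPolynomial.IsWeightedHomogeneous.sum _ _ _ fun i hi => by
        have h1 := (MvPolynomial.isWeightedHomogeneous_C (fun i : Fin 2 × ℕ => p ^ i.2) ((p : ℤ) ^ i)).mul ((MvPolynomial.isWeightedHomogeneous_X ℤ (fun i : Fin 2 × ℕ => p ^ i.2) (b, i)).pow (p ^ (n - i)))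
        rw [zero_add, hpow i (Nat.lt_succ_iff.mp (Finset.mem_range.mp hi)), map_pow] at h1
        exact h1
    have hlow : MvPolynomial.IsWeightedHomogeneous (fun i : Fin 2 × ℕ => p ^ i.2)
        (∑ i ∈ Finset.range n, (MvPolynomial.C (p : ℤ)) ^ i * WittVector.wittAdd p i ^ p ^ (n - i)) (p ^ n) :=
      MvPolynomial.IsWeightedHomogeneous.sum _ _ _ fun i hi => by
        have h1 := (MvPolynomial.isWeightedHomogeneous_C (fun i : Fin 2 × ℕ => p ^ i.2) ((p : ℤ) ^ i)).mul ((ih i (Finset.mem_range.mp hi)).pow (p ^ (n - i)))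
        rw [zero_add, hpow i (Finset.mem_range.mp hi).le, map_pow] at h1
        exact h1
    intro d hd
    have hall : MvPolynomial.IsWeightedHomogeneous (fun i : Fin 2 × ℕ => p ^ i.2) ((MvPolynomial.C (p : ℤ)) ^ n * WittVector.wittAdd p n) (p ^ n) := by
      rw [show (MvPolynomial.C (p : ℤ)) ^ n * WittVector.wittAdd p n = (∑ i ∈ Finset.range (n + 1), (MvPolynomial.C (p : ℤ)) ^ i * (MvPolynomial.X ((0 : Fin 2), i)) ^ p ^ (n - i)) +
          (∑ i ∈ Finset.range (n + 1), (MvPolynomial.C (p : ℤ)) ^ i * (MvPolynomial.X ((1 : Fin 2), i)) ^ p ^ (n - i)) -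
          (∑ i ∈ Finset.range n, (MvPolynomial.C (p : ℤ)) ^ i * WittVector.wittAdd p i ^ p ^ (n - i)) by linear_combination hprop]
      exact Submodule.sub_mem (MvPolynomial.weightedHomogeneousSubmodule ℤ _ (p ^ n)) (add_mem (hside 0) (hside 1)) hlow
    refine hall ?_
    rw [← map_pow, MvPolynomial.coeff_C_mul]
    exact mul_ne_zero (pow_ne_zero _ (by exact_mod_cast (Fact.out : p.Prime).ne_zero)) hd

end Groth.Agent.S18589
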