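import Groth.Statements.S18590
import Mathlib
import Groth.Agent.S18589

set_option autoImplicit false
universe u
open CAlg

namespace Groth.Agent.S18590

/-- Let p be a prime, A a commutative ring, K a commutative A-algebra of characteristic p and M_0, M_1,
M_2, … A-submodules of K with M_i · M_j ⊆ M_(i+j) for all i, j. Then the subset of the ring W(K) of
p-typical Witt vectors consisting of the vectors whose n-th coordinate lies in M_(p^n) for every n
is closed under addition and under multiplication by the image of W(A) under W of the structure map;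
in other words it is a W(A)-submodule of W(K). (The published statement is the case of an integral
normal noetherian scheme X of characteristic p with function field K, an affine open subset U with
coordinate ring A, and M_k the module of sections over U of the divisorial sheaf of k·D for a real
Weil divisor D on X; these form such a multiplicative family, and the subset is then the module of
sections over U of the Witt divisorial sheaf of D inside W(K). Only the two stated properties of
that family enter.) -/
theorem result
    (p : ℕ) [Fact p.Prime] (A K : Type u) [CommRing A] [CommRing K] [Algebra A K] [CharP K p]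
    (M : ℕ → Submodule A K)
    (hmul : ∀ (i j : ℕ) (a b : K), a ∈ M i → b ∈ M j → a * b ∈ M (i + j)) :
    (∀ φ ψ : WittVector p K, (∀ n : ℕ, φ.coeff n ∈ M (p ^ n)) → (∀ n : ℕ, ψ.coeff n ∈ M (p ^ n)) →
        ∀ n : ℕ, (φ + ψ).coeff n ∈ M (p ^ n)) ∧
      (∀ (x : WittVector p A) (φ : WittVector p K), (∀ n : ℕ, φ.coeff n ∈ M (p ^ n)) →
        ∀ n : ℕ, (WittVector.map (algebraMap A K) x * φ).coeff n ∈ M (p ^ n)) := by
  classical
  let Pr : ℕ → K → Prop := fun d z => if d = 0 then z ∈ (algebraMap A K).range else z ∈ M d
  have Pmul : ∀ d e a b, Pr d a → Pr e b → Pr (d + e) (a * b) := by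
    intro d e a b ha hb
    simp only [Pr] at ha hb ⊢
    by_cases hd : d = 0
    · rw [if_pos hd] at ha
      obtain ⟨r, rfl⟩ := ha
      rw [hd, zero_add]
      by_cases he : e = 0
      · rw [if_pos he] at hb ⊢; exact mul_mem ⟨r, rfl⟩ hb
      · rw [if_neg he] at hb ⊢; rw [← Algebra.smul_def]; exact Submodule.smul_mem _ _ hb
    · rw [if_neg hd] at ha
      rw [if_neg (by omega)]
      by_cases he : e = 0
      · rw [if_pos he] at hb
        obtain ⟨r, rfl⟩ := hb
        rw [he, add_zero, mul_comm, ← Algebra.smul_def]
        exact Submodule.smul_mem _ _ ha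
      · rw [if_neg he] at hb
        exact hmul _ _ _ _ ha hb
  have Ppow : ∀ d a k, Pr d a → Pr (k * d) (a ^ k) := by
    intro d a k ha
    induction k with
    | zero => rw [Nat.zero_mul, pow_zero]; simp only [Pr, if_true]; exact one_mem _
    | succ k ih => rw [pow_succ, add_mul, one_mul]; exact Pmul _ _ _ _ ih ha
  have main : ∀ (w : Fin 2 × ℕ → ℕ) (v : Fin 2 → ℕ → K), (∀ i, Pr (w i) (Function.uncurry v i)) →
      ∀ (f : MvPolynomial (Fin 2 × ℕ) ℤ) (D : ℕ), 0 < D → MvPolynomial.IsWeightedHomogeneous w f D → WittVector.peval f v ∈ M D := by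
    intro w v hv f D hD hf
    rw [WittVector.peval, MvPolynomial.as_sum f, map_sum]
    refine sum_mem fun d hd => ?_
    rw [MvPolynomial.aeval_monomial, ← Algebra.smul_def]
    have hd' : Finsupp.weight w d = D := hf (MvPolynomial.mem_support_iff.mp hd)
    have hall : ∀ e : (Fin 2 × ℕ) →₀ ℕ, Pr (Finsupp.weight w e) (e.prod fun i k => Function.uncurry v i ^ k) := by
      intro e
      induction e using Finsupp.induction with
      | zero => simp only [map_zero, Finsupp.prod_zero_index, Pr, if_true]; exact one_mem _
      | single_add i k e hi hk ih =>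
        rw [map_add, Finsupp.prod_add_index' (fun _ => pow_zero _) (fun _ _ _ => pow_add _ _ _), Finsupp.prod_single_index (h := fun i k => Function.uncurry v i ^ k) (pow_zero _),
          Finsupp.weight_single, smul_eq_mul]
        exact Pmul _ _ _ _ (Ppow _ _ _ (hv i)) ih
    have := hall d
    rw [hd'] at this
    simp only [Pr, if_neg hD.ne'] at this
    exact zsmul_mem this _
  have hp : ∀ n, 0 < p ^ n := fun n => pow_pos (Fact.out : p.Prime).pos n
  refine ⟨fun φ ψ hφ hψ n => ?_, fun x φ hφ n => ?_⟩
  · rw [WittVector.add_coeff]
    refine main _ _ (fun i => ?_) _ _ (hp n) (S18589.result p n)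
    obtain ⟨b, j⟩ := i
    simp only [Pr, if_neg (hp j).ne']
    fin_cases b
    · exact hφ j
    · exact hψ j
  · rw [WittVector.mul_coeff]
    let w : Fin 2 × ℕ → ℕ := fun i => if i.1 = 0 then 0 else p ^ i.2
    have hw : ∀ n, MvPolynomial.IsWeightedHomogeneous w (WittVector.wittMul p n) (p ^ n) := by
      intro n
      induction n using Nat.strong_induction_on with
      | _ n ih =>
        open MvPolynomial in
        have hprop := wittStructureInt_prop p (X (0 : Fin 2) * X 1 : MvPolynomial (Fin 2) ℤ) n
        rw [show wittStructureInt p (MvPolynomial.X (0 : Fin 2) * MvPolynomial.X 1 : MvPolynomial (Fin 2) ℤ) = WittVector.wittMul p from rfl,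
          map_mul, MvPolynomial.bind₁_X_right, MvPolynomial.bind₁_X_right, wittPolynomial_eq_sum_C_mul_X_pow, map_sum, map_sum, map_sum,
          Finset.sum_range_succ] at hprop
        simp only [map_mul, map_pow, MvPolynomial.bind₁_C_right, MvPolynomial.bind₁_X_right, MvPolynomial.rename_C, MvPolynomial.rename_X,
          Nat.sub_self, pow_zero, pow_one] at hprop
        have hside : ∀ (b : Fin 2), MvPolynomial.IsWeightedHomogeneous w
            (∑ i ∈ Finset.range (n + 1), (MvPolynomial.C (p : ℤ)) ^ i * (MvPolynomial.X (b, i)) ^ p ^ (n - i)) (if b = 0 then 0 else p ^ n) := fun b =>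
          MvPolynomial.IsWeightedHomogeneous.sum _ _ _ fun i hi => by
            have h1 := (MvPolynomial.isWeightedHomogeneous_C w ((p : ℤ) ^ i)).mul ((MvPolynomial.isWeightedHomogeneous_X ℤ w (b, i)).pow (p ^ (n - i)))
            rw [zero_add, smul_eq_mul, map_pow] at h1
            convert h1 using 1
            simp only [w]
            split_ifs
            · simp
            · rw [← pow_add, Nat.sub_add_cancel (Nat.lt_succ_iff.mp (Finset.mem_range.mp hi))]
        have hlow : MvPolynomial.IsWeightedHomogeneous w
            (∑ i ∈ Finset.range n, (MvPolynomial.C (p : ℤ)) ^ i * WittVector.wittMul p i ^ p ^ (n - i)) (p ^ n) :=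
          MvPolynomial.IsWeightedHomogeneous.sum _ _ _ fun i hi => by
            have h1 := (MvPolynomial.isWeightedHomogeneous_C w ((p : ℤ) ^ i)).mul ((ih i (Finset.mem_range.mp hi)).pow (p ^ (n - i)))
            rw [zero_add, smul_eq_mul, ← pow_add, Nat.sub_add_cancel (Finset.mem_range.mp hi).le, map_pow] at h1
            exact h1
        have h01 := (hside 0).mul (hside 1)
        rw [if_pos rfl, if_neg (by decide), zero_add] at h01
        have hmain : MvPolynomial.IsWeightedHomogeneous w ((MvPolynomial.C (p : ℤ)) ^ n * WittVector.wittMul p n) (p ^ n) := by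
          have := Submodule.sub_mem (MvPolynomial.weightedHomogeneousSubmodule ℤ w (p ^ n)) h01 hlow
          rw [← eq_sub_iff_add_eq'.mpr hprop] at this
          exact this
        intro d hd
        refine hmain ?_
        rw [← map_pow, MvPolynomial.coeff_C_mul]
        exact mul_ne_zero (pow_ne_zero _ (by exact_mod_cast (Fact.out : p.Prime).ne_zero)) hd
    refine main w _ (fun i => ?_) _ _ (hp n) (hw n)
    obtain ⟨b, j⟩ := i
    fin_cases b
    · simp [Pr, w, WittVector.map_coeff]
    · show Pr (p ^ j) (φ.coeff j)
      simp only [Pr, if_neg (hp j).ne']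
      exact hφ j

end Groth.Agent.S18590
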