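import Groth.Statements.S18596
import Groth.Agent.WeakUnram.EtalePlace


set_option autoImplicit false
universe u
open EtRam

namespace Groth.Agent.S18596



open AlgebraicGeometry CategoryTheory in
/-- Let k be a perfect field, X a k-scheme proper over k and f : Y ⟶ X finite étale. Curve-tameness of f
asks that the pullback of f to any regular k-curve mapping to X be tamely ramified at every place of
the curve's function field at infinity; proper targets make every finite étale cover curve-tame.
Stated here unfolded at a single place, in the form the argument yields: for every point y of Y with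
image x, and every discrete valuation ring A of the residue field κ(x) through which Spec κ(x) ⟶
Spec k factors, the finite separable extension κ(y) of κ(x) is tamely ramified with respect to A. -/
theorem result
    (k : Type u) [Field k] [PerfectField k] {X Y : Scheme.{u}} (s : X ⟶ Spec (CommRingCat.of k))
    [IsProper s] (f : Y ⟶ X) [IsFinite f] [Etale f] (y : Y)
    (A : ValuationSubring (X.residueField (f.base y))) [IsDiscreteValuationRing A]
    (a : Spec (CommRingCat.of A) ⟶ Spec (CommRingCat.of k))
    (ha : Spec.map (CommRingCat.ofHom A.subtype) ≫ a = X.fromSpecResidueField (f.base y) ≫ s) :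
    EtRam.IsTamelyRamified A ((f.residueFieldMap y).hom.comp A.subtype) := by
  have hval : ValuativeCriterion s := by
    have h : IsProper s := inferInstance
    rw [IsProper.eq_valuativeCriterion] at h
    exact h.1.1.1
  let sq : ValuativeCommSq s :=
    { R := A, K := X.residueField (f.base y), i₁ := X.fromSpecResidueField (f.base y), i₂ := a,
      commSq := ⟨ha.symm⟩ }
  haveI : sq.commSq.HasLift := hval.existence sq
  let l : Spec (CommRingCat.of A) ⟶ X := sq.commSq.lift
  have hl : Spec.map (CommRingCat.ofHom A.subtype) ≫ l = X.fromSpecResidueField (f.base y) := sq.commSq.fac_left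
  obtain ⟨W, hW, hlW, -⟩ := exists_isAffineOpen_mem_and_subset (X := X)
    (x := l (IsLocalRing.closedPoint A)) (U := ⊤) trivial
  have htop : l ⁻¹ᵁ W = ⊤ := Scheme.preimage_eq_top_of_closedPoint_mem l hlW
  have hrange : Set.range l ⊆ Set.range hW.fromSpec := by
    rintro _ ⟨p, rfl⟩
    rw [hW.range_fromSpec]
    exact (htop.ge trivial : p ∈ l ⁻¹ᵁ W)
  let ρ : Γ(X, W) ⟶ CommRingCat.of A := Spec.preimage (IsOpenImmersion.lift hW.fromSpec l hrange)
  have hρ : Spec.map ρ ≫ hW.fromSpec = l := by
    rw [Spec.map_preimage, IsOpenImmersion.lift_fac]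
  have hx : f.base y ∈ W := by
    obtain ⟨p⟩ := (inferInstance : Nonempty ↥(Spec (X.residueField (f.base y))))
    have hp : X.fromSpecResidueField (f.base y) p = f.base y := Scheme.fromSpecResidueField_apply _ p
    rw [← hp, ← hl, Scheme.Hom.comp_apply]
    exact (htop.ge trivial : (Spec.map (CommRingCat.ofHom A.subtype)) p ∈ l ⁻¹ᵁ W)
  have hev : ρ ≫ CommRingCat.ofHom A.subtype = X.evaluation W (f.base y) hx := by
    refine Spec.map_injective ((cancel_mono hW.fromSpec).1 ?_)
    rw [Spec.map_comp, Category.assoc, hρ]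
    refine hl.trans ?_
    rw [Scheme.fromSpecResidueField, ← hW.fromSpecStalk_eq_fromSpecStalk hx, IsAffineOpen.fromSpecStalk]
    simp only [← Scheme.germ_residue, Spec.map_comp, Category.assoc]
  have hV : IsAffineOpen (f ⁻¹ᵁ W) := hW.preimage f
  have hfin : (f.app W).hom.Finite := IsFinite.finite_app f W hW
  have het : (f.app W).hom.Etale := by
    rw [Scheme.Hom.app_eq_appLE]; exact f.etale_appLE hW hV le_rfl
  algebraize [(f.app W).hom, ρ.hom]
  let S := TensorProduct Γ(X, W) A Γ(Y, f ⁻¹ᵁ W)
  let g : A →+* Y.residueField y := (f.residueFieldMap y).hom.comp A.subtype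
  let evY : Γ(Y, f ⁻¹ᵁ W) →+* Y.residueField y := (Y.evaluation (f ⁻¹ᵁ W) y hx).hom
  letI : Algebra Γ(X, W) (Y.residueField y) := (evY.comp (f.app W).hom).toAlgebra
  let gA : A →ₐ[Γ(X, W)] Y.residueField y :=
    { g with
      commutes' := fun r => by
        show (f.residueFieldMap y).hom ((ρ ≫ CommRingCat.ofHom A.subtype).hom r) = evY ((f.app W).hom r)
        rw [hev]
        exact Scheme.evaluation_naturality_apply f y hx r }
  let gB : Γ(Y, f ⁻¹ᵁ W) →ₐ[Γ(X, W)] Y.residueField y := { evY with commutes' := fun r => rfl }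
  let φ : S →ₐ[Γ(X, W)] Y.residueField y := Algebra.TensorProduct.lift gA gB (fun _ _ => Commute.all _ _)
  have hginj : Function.Injective g := (f.residueFieldMap y).hom.injective.comp Subtype.val_injective
  refine WeakUnram.tame_of_unramifiedExt hginj (WeakUnram.unramifiedExt_of_generated g hginj
    φ.toRingHom ?_ ?_)
  · refine RingHom.ext fun r => ?_
    show φ (r ⊗ₜ[Γ(X, W)] (1 : Γ(Y, f ⁻¹ᵁ W))) = g r
    rw [Algebra.TensorProduct.lift_tmul, map_one, mul_one]
    rfl
  · intro z
    obtain ⟨z, rfl⟩ := Y.residue_surjective y z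
    letI : Algebra Γ(Y, f ⁻¹ᵁ W) (Y.presheaf.stalk y) := (Y.presheaf.germ (f ⁻¹ᵁ W) y hx).hom.toAlgebra
    haveI : IsLocalization.AtPrime (Y.presheaf.stalk y) (hV.primeIdealOf ⟨y, hx⟩).asIdeal :=
      hV.isLocalization_stalk ⟨y, hx⟩
    obtain ⟨⟨b, t⟩, hbt⟩ := IsLocalization.surj (hV.primeIdealOf ⟨y, hx⟩).asIdeal.primeCompl z
    refine ⟨(1 : A) ⊗ₜ b, (1 : A) ⊗ₜ (t : Γ(Y, f ⁻¹ᵁ W)), ?_, ?_⟩
    · show φ _ ≠ 0
      rw [Algebra.TensorProduct.lift_tmul, map_one, one_mul]
      exact ((IsLocalization.map_units (Y.presheaf.stalk y) t).map (Y.residue y).hom).ne_zero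
    · show _ * φ _ = φ _
      rw [Algebra.TensorProduct.lift_tmul, Algebra.TensorProduct.lift_tmul, map_one, one_mul, one_mul]
      exact ((congrArg (Y.residue y).hom hbt).symm.trans (map_mul _ _ _)).symm


end Groth.Agent.S18596
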