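import Groth.Statements.S18597
import Groth.Agent.WeakUnram.TameGalois
import Groth.Agent.EtLocalLib.SchemeLocal

set_option autoImplicit false
universe u
open EtRam

namespace Groth.Agent.S18597



open AlgebraicGeometry CategoryTheory in
/-- Let k be a perfect field and X a k-scheme. A finite étale cover of X by a torsor under a finite
group of order prime to the characteristic of k is curve-tame, i.e. tamely ramified at every place
at infinity of every regular k-curve mapping to X. Stated here unfolded at a single place and for a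
connected Galois cover Z ⟶ X (the X-automorphisms of Z act transitively on geometric fibres) whose
automorphism group has order invertible in k: for every point z of Z with image x and every discrete
valuation ring A of the residue field κ(x) through which Spec κ(x) ⟶ Spec k factors (so A contains k
and has the residue characteristic of k), the finite separable extension κ(z) of κ(x) is tamely
ramified with respect to A. Without the factorisation through Spec A the claim fails already for X =
Spec ℚ, Z = Spec ℚ(√2) and A = ℤ localised at 2. (The published statement is for torsors under a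
finite abelian group of order prime to the characteristic; a connected component of such a torsor is
a Galois cover of this kind.) -/
theorem result
    (k : Type u) [Field k] [PerfectField k] {X : Scheme.{u}} (s : X ⟶ Spec (CommRingCat.of k))
    (Z : FEt.Cat X) (hZ : PiSp.IsGaloisCover Z) (hn : (Nat.card (Aut Z) : k) ≠ 0) (z : Z.left)
    (A : ValuationSubring (X.residueField (Z.hom.base z))) [IsDiscreteValuationRing A]
    (a : Spec (CommRingCat.of A) ⟶ Spec (CommRingCat.of k))
    (ha : Spec.map (CommRingCat.ofHom A.subtype) ≫ a = X.fromSpecResidueField (Z.hom.base z) ≫ s) :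
    EtRam.IsTamelyRamified A ((Z.hom.residueFieldMap z).hom.comp A.subtype) := by
  classical
  let f := Z.hom
  haveI : IsFinite f := Z.prop.1
  haveI : Etale f := Z.prop.2
  let κx := X.residueField (f.base z)
  let κz := Z.left.residueField z
  letI : Algebra κx κz := (f.residueFieldMap z).hom.toAlgebra
  obtain ⟨-, hfd, hsp⟩ := (EtLocalLib.stalkMap_unramified_iff f z).1 (FormallyUnramified.stalkMap f z)
  haveI : Algebra.IsSeparable κx κz := hsp
  haveI : FiniteDimensional κx κz := hfd
  let Ω : Type u := AlgebraicClosure κz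
  let ξ : Spec (CommRingCat.of Ω) ⟶ X :=
    Spec.map (CommRingCat.ofHom (algebraMap κx Ω)) ≫ X.fromSpecResidueField (f.base z)
  let pt : (κz →ₐ[κx] Ω) → FEt.fiberObj ξ Z := fun τ =>
    ⟨Spec.map (CommRingCat.ofHom τ.toRingHom) ≫ Z.left.fromSpecResidueField z, by
      rw [Category.assoc, ← Scheme.Hom.SpecMap_residueFieldMap_fromSpecResidueField, ← Spec.map_comp_assoc]
      congr 2
      exact CommRingCat.hom_ext τ.comp_algebraMap⟩
  let ι : κz →ₐ[κx] Ω := IsScalarTower.toAlgHom κx κz Ω
  letI : MulAction (Aut Z) (FEt.fiberObj ξ Z) :=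
    { smul := fun σ s => (FEt.fiber ξ).map σ.hom s
      one_smul := fun s => by
        show (FEt.fiber ξ).map (𝟙 Z) s = s
        rw [CategoryTheory.Functor.map_id]; rfl
      mul_smul := fun σ τ s => by
        show (FEt.fiber ξ).map (τ.hom ≫ σ.hom) s = _
        rw [CategoryTheory.Functor.map_comp]; rfl }
  have hsmul : ∀ (σ : Aut Z) (s : FEt.fiberObj ξ Z), (σ • s).1 = s.1 ≫ σ.hom.left := fun σ s => rfl
  have hpt : ∀ τ (p : Spec (CommRingCat.of Ω)), (pt τ).1 p = z := fun τ p => by
    show (Spec.map _ ≫ Z.left.fromSpecResidueField z) p = z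
    rw [Scheme.Hom.comp_apply]; exact Scheme.fromSpecResidueField_apply _ _
  let H : Subgroup (Aut Z) :=
    { carrier := {σ | σ.hom.left z = z}
      one_mem' := show (𝟙 Z : Z ⟶ Z).left z = z from rfl
      mul_mem' := fun {σ τ} hσ hτ => by
        show (τ.hom ≫ σ.hom).left z = z
        rw [MorphismProperty.Comma.comp_left, Scheme.Hom.comp_apply, show τ.hom.left z = z from hτ]
        exact hσ
      inv_mem' := fun {σ} hσ => by
        show σ.inv.left z = z
        have h1 : (σ.hom ≫ σ.inv).left z = z := by rw [σ.hom_inv_id]; rfl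
        rw [MorphismProperty.Comma.comp_left, Scheme.Hom.comp_apply, show σ.hom.left z = z from hσ] at h1
        exact h1 }
  have hpt_inj : Function.Injective pt := fun τ τ' h => by
    have h1 := Spec.map_injective ((cancel_mono (Z.left.fromSpecResidueField z)).1 (congrArg Subtype.val h))
    exact AlgHom.ext fun x => RingHom.congr_fun (congrArg CommRingCat.Hom.hom h1) x
  obtain ⟨p⟩ := (inferInstance : Nonempty ↥(Spec (CommRingCat.of Ω)))
  -- transitivity inside the fibre at `z`
  have htrans : ∀ τ, ∃ σ : Aut Z, σ.hom.left z = z ∧ σ • pt ι = pt τ := fun τ => by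
    obtain ⟨σ, hσ⟩ := hZ.2 Ω ξ (pt ι) (pt τ)
    refine ⟨σ, ?_, hσ⟩
    have h1 : ((σ • pt ι).1) p = z := by rw [show σ • pt ι = pt τ from hσ]; exact hpt τ p
    rw [hsmul, Scheme.Hom.comp_apply, hpt] at h1
    exact h1
  have hrange : ∀ τ : κz →ₐ[κx] Ω, Set.range τ ⊆ Set.range ι := fun τ => by
    obtain ⟨σ, hσz, hσ⟩ := htrans τ
    let θ : κz ⟶ κz := (Z.left.residueFieldCongr hσz).inv ≫ σ.hom.left.residueFieldMap z
    have h1 : Spec.map (CommRingCat.ofHom τ.toRingHom) ≫ Z.left.fromSpecResidueField z =
        Spec.map (θ ≫ CommRingCat.ofHom ι.toRingHom) ≫ Z.left.fromSpecResidueField z := by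
      refine (congrArg Subtype.val hσ).symm.trans ?_
      rw [hsmul]
      show (Spec.map (CommRingCat.ofHom ι.toRingHom) ≫ Z.left.fromSpecResidueField z) ≫ σ.hom.left = _
      rw [Category.assoc, ← Scheme.Hom.SpecMap_residueFieldMap_fromSpecResidueField, Spec.map_comp, Spec.map_comp,
        Category.assoc, Category.assoc]
      congr 2
      rw [← Scheme.residueFieldCongr_fromSpecResidueField hσz, ← Spec.map_comp_assoc, Iso.hom_inv_id]
      simp
    have h2 := Spec.map_injective ((cancel_mono (Z.left.fromSpecResidueField z)).1 h1)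
    rintro _ ⟨x, rfl⟩
    exact ⟨θ.hom x, (RingHom.congr_fun (congrArg CommRingCat.Hom.hom h2) x).symm⟩
  haveI : Normal κx κz := by
    refine normal_iff.2 fun x => ⟨Algebra.IsIntegral.isIntegral x, ?_⟩
    have hΩ : ((minpoly κx x).map (algebraMap κx Ω)).Splits := IsAlgClosed.splits _
    rw [IsScalarTower.algebraMap_eq κx κz Ω, ← Polynomial.map_map] at hΩ
    refine hΩ.of_splits_map _ fun r hr => ?_
    have hroot : Polynomial.aeval r (minpoly κx x) = 0 := by
      rw [Polynomial.map_map, ← IsScalarTower.algebraMap_eq, ← Polynomial.aroots_def] at hr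
      exact (Polynomial.mem_aroots.1 hr).2
    obtain ⟨τ, hτ⟩ := IntermediateField.exists_algHom_of_splits_of_aeval
      (fun s => ⟨Algebra.IsIntegral.isIntegral s, IsAlgClosed.splits _⟩) hroot
    obtain ⟨y, hy⟩ := hrange τ ⟨x, hτ⟩
    exact ⟨y, hy⟩
  haveI : IsGalois κx κz := ⟨⟩
  have hcount : Module.finrank κx κz ∣ Nat.card (Aut Z) := by
    have horb : MulAction.orbit H (pt ι) = Set.range pt := by
      ext s
      constructor
      · rintro ⟨⟨σ, hσ⟩, rfl⟩
        have hz : ((σ • pt ι).1) (IsLocalRing.closedPoint Ω) = z := by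
          rw [hsmul, Scheme.Hom.comp_apply, hpt]; exact hσ
        obtain ⟨θ, hθ⟩ : ∃ θ : Spec (CommRingCat.of Ω) ⟶ Spec κz,
            θ ≫ Z.left.fromSpecResidueField z = (σ • pt ι).1 := by
          refine ⟨Spec.map ((Z.left.residueFieldCongr hz).inv ≫
            Z.left.descResidueField (Scheme.stalkClosedPointTo (σ • pt ι).1)), ?_⟩
          rw [Spec.map_comp, Category.assoc, ← Scheme.residueFieldCongr_fromSpecResidueField hz,
            ← Spec.map_comp_assoc, ← Spec.map_comp_assoc, Iso.hom_inv_id_assoc]
          exact Scheme.descResidueField_stalkClosedPointTo_fromSpecResidueField Ω Z.left _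
        have hc : (Spec.preimage θ).hom.comp (algebraMap κx κz) = algebraMap κx Ω := by
          have h2 := (σ • pt ι).2
          rw [← hθ, Category.assoc, ← Scheme.Hom.SpecMap_residueFieldMap_fromSpecResidueField,
            ← Spec.map_preimage θ, ← Spec.map_comp_assoc] at h2
          exact congrArg CommRingCat.Hom.hom (Spec.map_injective ((cancel_mono (X.fromSpecResidueField (f.base z))).1 h2))
        refine ⟨{ (Spec.preimage θ).hom with commutes' := fun r => RingHom.congr_fun hc r }, Subtype.ext ?_⟩
        show Spec.map (Spec.preimage θ) ≫ _ = _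
        rw [Spec.map_preimage]; exact hθ
      · rintro ⟨τ, rfl⟩
        obtain ⟨σ, hσz, hσ⟩ := htrans τ
        exact ⟨⟨σ, hσz⟩, hσ⟩
    have h1 : Nat.card (MulAction.orbit H (pt ι)) = Module.finrank κx κz := by
      rw [horb, Nat.card_range_of_injective hpt_inj, Nat.card_eq_fintype_card, AlgHom.card]
    rw [← h1]
    refine dvd_trans ?_ (Subgroup.card_subgroup_dvd_card H)
    rw [Nat.card_congr (MulAction.orbitEquivQuotientStabilizer H (pt ι))]
    exact Subgroup.card_quotient_dvd_card _
  let gk : CommRingCat.of k ⟶ CommRingCat.of A := Spec.preimage a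
  have hkA : ((Nat.card (Aut Z) : ℕ) : IsLocalRing.ResidueField A) ≠ 0 := by
    rw [← map_natCast ((IsLocalRing.residue A).comp gk.hom)]
    exact fun h0 => hn ((map_eq_zero _).1 h0)
  exact WeakUnram.tame_of_galois (K := κx) (F := κz) fun h0 => hkA (by
    obtain ⟨m, hm⟩ := hcount
    rw [hm, Nat.cast_mul, h0, zero_mul])


end Groth.Agent.S18597
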