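import Groth.Statements.S18598
import Mathlib.RingTheory.Polynomial.Cyclotomic.Eval
import Mathlib.RingTheory.RootsOfUnity.CyclotomicUnits
import Mathlib.Tactic
-- import your own Groth.Agent.* helpers here

set_option autoImplicit false
universe u
open SSRed

namespace Groth.Agent.S18598

/-- Let O be a commutative integral domain of characteristic zero, n a positive integer such that no
prime number dividing n is a unit in O, and α an element of O of finite multiplicative order such
that (α − 1)² is divisible by n in O. Then α = 1 if n ≥ 5, α² = 1 if n = 4, α³ = 1 if n = 3, and α⁴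
= 1 if n = 2. -/
theorem result (O : Type u) [CommRing O] [IsDomain O] [CharZero O]
    (n : ℕ) (hn : 0 < n) (hO : ∀ p : ℕ, p.Prime → p ∣ n → ¬ IsUnit (p : O))
    (α : O) (hα : IsOfFinOrder α) (h : (n : O) ∣ (α - 1) ^ 2) :
    (5 ≤ n → α = 1) ∧ (n = 4 → α ^ 2 = 1) ∧ (n = 3 → α ^ 3 = 1) ∧ (n = 2 → α ^ 4 = 1) := by
  classical
  by_cases h1 : α = 1
  · subst h1; simp
  rcases (Nat.lt_or_eq_of_le (Nat.one_le_iff_ne_zero.mpr hn.ne')) with hn2 | hn1
  swap
  · exact ⟨by omega, by omega, by omega, by omega⟩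
  have hm0 : 0 < orderOf α := hα.orderOf_pos
  have hm1 : orderOf α ≠ 1 := fun h => h1 (orderOf_eq_one_iff.mp h)
  have hζ : IsPrimitiveRoot α (orderOf α) := IsPrimitiveRoot.orderOf α
  generalize hm : orderOf α = m at hm0 hm1 hζ
  have hev : (((Polynomial.cyclotomic m ℤ).eval 1 : ℤ) : O) = ∏ μ ∈ primitiveRoots m O, (1 - μ) := by
    have : (Polynomial.cyclotomic m O).eval 1 = (((Polynomial.cyclotomic m ℤ).eval 1 : ℤ) : O) := by
      rw [← Polynomial.map_cyclotomic m (Int.castRingHom O), Polynomial.eval_map, Polynomial.eval₂_at_one]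
      rfl
    rw [← this, Polynomial.cyclotomic_eq_prod_X_sub_primitiveRoots hζ, Polynomial.eval_prod]
    simp
  have hass : Associated (∏ μ ∈ primitiveRoots m O, (1 - μ)) ((α - 1) ^ m.totient) := by
    rw [← hζ.card_primitiveRoots, ← Finset.prod_const]
    refine Associated.prod _ _ _ fun μ hμ => ?_
    rw [mem_primitiveRoots hm0] at hμ
    haveI : NeZero m := ⟨hm0.ne'⟩
    obtain ⟨i, -, hi, rfl⟩ := hζ.isPrimitiveRoot_iff.mp hμ
    rw [← neg_sub]
    exact ((hζ.associated_sub_one_pow_sub_one_of_coprime hi).symm.neg_left)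
  rw [← hev] at hass
  by_cases hpp : ∀ {p : ℕ}, p.Prime → ∀ k : ℕ, p ^ k ≠ m
  · rw [Polynomial.eval_one_cyclotomic_not_prime_pow hpp, Int.cast_one] at hass
    have hu : IsUnit (α - 1) := (isUnit_pow_iff (Nat.totient_pos.mpr hm0).ne').mp (hass.isUnit isUnit_one)
    obtain ⟨p, hp, hpn⟩ := Nat.exists_prime_and_dvd (show n ≠ 1 by omega)
    exact absurd (isUnit_of_dvd_unit ((Nat.cast_dvd_cast hpn).trans h) (hu.pow 2)) (hO p hp hpn)
  push Not at hpp
  obtain ⟨q, hq, k, rfl⟩ := hpp
  obtain ⟨j, rfl⟩ : ∃ j, k = j + 1 := Nat.exists_eq_succ_of_ne_zero fun h0 => hm1 (by rw [h0, pow_zero])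
  haveI := Fact.mk hq
  rw [Polynomial.eval_one_cyclotomic_prime_pow, Int.cast_natCast] at hass
  set φ := (q ^ (j + 1)).totient with hφ
  have hdvd : ∀ e : ℕ, q ^ e ∣ n → (q : O) ^ (e * φ) ∣ (q : O) ^ 2 := by
    intro e he
    have h2 : ((q : O) ^ e) ^ φ ∣ ((α - 1) ^ 2) ^ φ := by
      refine pow_dvd_pow_of_dvd ?_ φ
      exact (by exact_mod_cast Nat.cast_dvd_cast (α := O) he : (q : O) ^ e ∣ (n : O)).trans h
    rw [← pow_mul, ← pow_mul, mul_comm 2 φ, pow_mul (α - 1)] at h2
    exact h2.trans (hass.pow_pow.symm.dvd)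
  have hall : ∀ p : ℕ, p.Prime → p ∣ n → p = q := by
    intro p hp hpn
    by_contra hne
    have h2 : (p : O) ∣ (q : O) ^ 2 := by
      have h3 : (p : O) ^ φ ∣ ((α - 1) ^ φ) ^ 2 := by
        rw [← pow_mul, mul_comm, pow_mul]
        exact pow_dvd_pow_of_dvd ((Nat.cast_dvd_cast hpn).trans h) φ
      exact ((dvd_pow_self _ (Nat.totient_pos.mpr (pow_pos hq.pos _)).ne').trans h3).trans hass.pow_pow.symm.dvd
    have hcop : IsCoprime (p : O) ((q : O) ^ 2) :=
      (((Nat.coprime_primes hp hq).mpr hne).cast (R := O)).pow_right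
    exact hO p hp hpn (hcop.isUnit_of_dvd' dvd_rfl h2)
  have hqn : q ∣ n := by
    obtain ⟨p, hp, hpn⟩ := Nat.exists_prime_and_dvd (show n ≠ 1 by omega)
    exact hall p hp hpn ▸ hpn
  have hne : (q : O) ≠ 0 := Nat.cast_ne_zero.mpr hq.ne_zero
  have hnu : ¬ IsUnit (q : O) := hO q hq hqn
  have hneq : n = q ^ n.factorization q := by
    have hp := Nat.eq_prime_pow_of_unique_prime_dvd hn.ne' fun {d} hd hdn => hall d hd hdn
    conv_lhs => rw [hp]
    congr 1
    conv_rhs => rw [hp, Nat.Prime.factorization_pow hq, Finsupp.single_eq_same]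
  set e := n.factorization q with he
  have he1 : 1 ≤ e := by
    by_contra h0
    rw [show e = 0 by omega, pow_zero] at hneq
    omega
  have hle : e * φ ≤ 2 := by
    have := hdvd e (hneq ▸ dvd_rfl)
    exact (pow_dvd_pow_iff hne hnu).mp this
  rw [Nat.totient_prime_pow hq (Nat.succ_pos j), Nat.succ_sub_one] at hφ
  have hα' : α ^ q ^ (j + 1) = 1 := hζ.pow_eq_one
  have hq2 := hq.two_le
  have hqj : 1 ≤ q ^ j := Nat.one_le_pow _ _ hq.pos
  have hφpos : 1 ≤ φ := by rw [hφ]; exact Nat.mul_pos hqj (by omega)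
  have he2 : e ≤ 2 := le_trans (Nat.le_mul_of_pos_right e hφpos) hle
  have hφ2 : φ ≤ 2 := le_trans (Nat.le_mul_of_pos_left φ he1) hle
  have hq3 : q ≤ 3 := by
    have : q - 1 ≤ φ := by rw [hφ]; exact Nat.le_mul_of_pos_left _ hqj
    omega
  have hqcases : q = 2 ∨ q = 3 := by omega
  clear_value φ e
  clear hass hdvd hall hqn hne hnu
  rcases hqcases with rfl | rfl
  · have hj : j ≤ 1 := by
      by_contra hj
      have : 2 ^ 2 ≤ 2 ^ j := Nat.pow_le_pow_right (by norm_num) (by omega)
      omega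
    obtain rfl | rfl : j = 0 ∨ j = 1 := by omega
    · obtain rfl | rfl : e = 1 ∨ e = 2 := by omega
      · norm_num at hneq hα'
        refine ⟨by omega, by omega, by omega, fun _ => ?_⟩
        rcases hα' with rfl | rfl <;> norm_num
      · norm_num at hneq hα'
        refine ⟨by omega, fun _ => ?_, by omega, by omega⟩
        rcases hα' with rfl | rfl <;> norm_num
    · norm_num at hφ hneq hα'
      subst hφ
      obtain rfl : e = 1 := by omega
      norm_num at hneq
      exact ⟨by omega, by omega, by omega, fun _ => hα'⟩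
  · have hj : j = 0 := by
      by_contra hj
      have : 3 ^ 1 ≤ 3 ^ j := Nat.pow_le_pow_right (by norm_num) (by omega)
      omega
    subst hj
    norm_num at hφ hα'
    subst hφ
    obtain rfl : e = 1 := by omega
    norm_num at hneq
    exact ⟨by omega, by omega, fun _ => hα', by omega⟩

end Groth.Agent.S18598
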