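import Groth.Statements.S18600
import Groth.Agent.SSRedLib.CharpolySq
import Mathlib.RingTheory.IntegralClosure.IsIntegralClosure.Basic
-- import your own Groth.Agent.* helpers here

set_option autoImplicit false
universe v
open SSRed

namespace Groth.Agent.S18600

/-- Let n be a positive integer, g a natural number and f ∈ ℤ[x] a monic polynomial such that for every
prime ℓ dividing n there is a g × g matrix A_ℓ over ℤ_ℓ whose characteristic polynomial is f and
such that (A_ℓ − 1)² lies in n·M_g(ℤ_ℓ). Then for every root α of f in a field of characteristic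
zero and every square root s of n in that field, (α − 1)/s is integral over ℤ. (The published
statement is for matrices of size 2d and speaks of the eigenvalues of the A_ℓ, which are the roots
of their common characteristic polynomial f; the parity of the size plays no role.) -/
theorem result (n : ℕ) (hn : 0 < n) (g : ℕ) (f : Polynomial ℤ)
    (hf : f.Monic)
    (hA : ∀ (ℓ : ℕ) [Fact ℓ.Prime], ℓ ∣ n → ∃ A : Matrix (Fin g) (Fin g) ℤ_[ℓ],
      A.charpoly = f.map (Int.castRingHom ℤ_[ℓ]) ∧
        ∃ B : Matrix (Fin g) (Fin g) ℤ_[ℓ], (A - 1) ^ 2 = (n : ℤ_[ℓ]) • B)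
    (K : Type v) [Field K] [CharZero K] (α s : K) (hα : Polynomial.aeval α f = 0) (hs : s ^ 2 = (n : K)) :
    IsIntegral ℤ ((α - 1) / s) := by
  classical
  let G := Groth.Agent.SSRedLib.sqShift f
  let D := f.natDegree
  have hdvd : ∀ i ∈ Finset.range (D + 1), ∃ c : ℤ, G.coeff i = (n : ℤ) ^ (D - i) * c := fun i hi =>
    Groth.Agent.SSRedLib.pow_dvd_coeff_sqShift hn hA hf (by simp at hi; omega)
  choose! q hq using hdvd
  obtain ⟨hGD, hGdeg⟩ := Groth.Agent.SSRedLib.coeff_sqShift_natDegree hf
  have hqD : q D = 1 := by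
    have := hq D (Finset.self_mem_range_succ D)
    rw [hGD, Nat.sub_self, pow_zero, one_mul] at this
    exact this.symm
  refine IsIntegral.of_pow two_pos ?_
  refine ⟨Polynomial.X ^ D + ∑ i ∈ Finset.range D, Polynomial.C (q i) * Polynomial.X ^ i, ?_, ?_⟩
  · refine Polynomial.monic_X_pow_add ?_
    exact (Polynomial.degree_sum_fin_lt (n := D) (fun i : Fin D => q i)).trans_eq' (by
      rw [Finset.sum_range fun i => Polynomial.C (q i) * Polynomial.X ^ i])
  · have hn0 : (n : K) ≠ 0 := Nat.cast_ne_zero.mpr hn.ne'
    have hroot : Polynomial.aeval ((α - 1) ^ 2) G = 0 := by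
      rw [← Polynomial.expand_aeval, Groth.Agent.SSRedLib.expand_sqShift]
      simp [Polynomial.aeval_comp, hα]
    have hy : ((α - 1) / s) ^ 2 = (α - 1) ^ 2 / n := by rw [div_pow, hs]
    rw [hy]
    refine mul_left_cancel₀ (pow_ne_zero D hn0) ?_
    rw [mul_zero, ← hroot, Polynomial.aeval_eq_sum_range' (Nat.lt_succ_of_le hGdeg), ← Polynomial.aeval_def, map_add,
      map_sum, mul_add, Finset.mul_sum, Finset.sum_range_succ, add_comm]
    congr 1
    · refine Finset.sum_congr rfl fun i hi => ?_
      rw [Finset.mem_range] at hi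
      rw [hq i (by simp; omega), zsmul_eq_mul]
      simp only [map_mul, Polynomial.aeval_C, Polynomial.aeval_X_pow, eq_intCast, Int.cast_mul, Int.cast_pow,
        Int.cast_natCast, div_pow]
      have hsp : (n : K) ^ D = (n : K) ^ (D - i) * (n : K) ^ i := by rw [← pow_add, Nat.sub_add_cancel hi.le]
      rw [hsp, map_intCast]
      field_simp
    · rw [hq D (Finset.self_mem_range_succ D), hqD]
      simp only [Polynomial.aeval_X_pow, Nat.sub_self, pow_zero, mul_one, one_smul, div_pow]
      field_simp
      rfl

end Groth.Agent.S18600
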