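import Groth.Statements.S18614
import Mathlib
import Groth.Agent.LinTopLib.Taut
-- import your own Groth.Agent.* helpers here

set_option autoImplicit false
universe u v
open LinTop

namespace Groth.Agent.S18614

theorem exists_linearFunctional_ne_zero {k M : Type*} [Field k] [AddCommGroup M] [Module k M] (N : Submodule k M)
    {x : M} (hx : x ∉ N) : ∃ f : M →ₗ[k] k, f x ≠ 0 ∧ ∀ m ∈ N, f m = 0 := by
  obtain ⟨g, hg⟩ : ∃ g : (M ⧸ N) →ₗ[k] k, g (N.mkQ x) ≠ 0 := by
    by_contra h
    push Not at h
    exact hx ((Submodule.Quotient.mk_eq_zero N).mp ((Module.forall_dual_apply_eq_zero_iff k _).mp h))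
  exact ⟨g.comp N.mkQ, hg, fun m hm => by
    rw [LinearMap.comp_apply, show N.mkQ m = 0 from (Submodule.Quotient.mk_eq_zero N).mpr hm, map_zero]⟩

/-- Let k be a field carrying the discrete topology and M a separated topological k-module with a
k-linear topology (the open k-submodules form a basis of neighbourhoods of zero and M is a
topological additive group). For a closed submodule M₁, the perpendicular of the perpendicular of
M₁, both taken with respect to the pairing of M with its continuous dual (the continuous k-linear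
maps M → k), is M₁ itself: an element killed by every continuous functional vanishing on M₁ belongs
to M₁. -/
theorem result (k : Type u) (M : Type v) [Field k]
    [TopologicalSpace k] [DiscreteTopology k] [AddCommGroup M] [Module k M] [TopologicalSpace M]
    [IsTopologicalAddGroup M] [IsLinearTopology k M] [T2Space M]
    (M₁ : Submodule k M) (hM₁ : IsClosed (M₁ : Set M)) (x : M)
    (hx : ∀ φ : M →L[k] k, (∀ m ∈ M₁, φ m = 0) → φ x = 0) : x ∈ M₁ := by
  by_contra hx1
  obtain ⟨V, hV, hdis⟩ : ∃ V ∈ nhds (0 : M), ∀ v ∈ V, x - v ∉ M₁ := by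
    refine ⟨(fun v => x - v) ⁻¹' (M₁ : Set M)ᶜ, ?_, fun v hv => hv⟩
    exact (hM₁.isOpen_compl.preimage (continuous_const.sub continuous_id)).mem_nhds (by simpa using hx1)
  obtain ⟨W, hWo, hWV⟩ := (IsLinearTopology.hasBasis_open_submodule (R := k)).mem_iff.mp hV
  let N : Submodule k M := M₁ ⊔ W
  have hxN : x ∉ N := fun h => by
    obtain ⟨a, ha, b, hb, hab⟩ := Submodule.mem_sup.mp h
    exact hdis b (hWV hb) (by rw [← hab, add_sub_cancel_right]; exact ha)
  obtain ⟨f, hfx, hf⟩ := exists_linearFunctional_ne_zero N hxN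
  have hNo : IsOpen (N : Set M) :=
    AddSubgroup.isOpen_mono (H₁ := W.toAddSubgroup) (H₂ := N.toAddSubgroup) (le_sup_right (a := M₁)) hWo
  have hc : Continuous f := continuous_of_continuousAt_zero f.toAddMonoidHom (by
    show Filter.Tendsto f (nhds 0) (nhds (f 0))
    rw [map_zero, nhds_discrete k, Filter.tendsto_pure]
    exact Filter.mem_of_superset (hNo.mem_nhds N.zero_mem) hf)
  exact hfx (hx ⟨f, hc⟩ fun m hm => hf m (Submodule.mem_sup_left hm))

end Groth.Agent.S18614
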