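import Groth.Statements.S18615
import Mathlib
import Groth.Agent.LinTopLib.Taut
-- import your own Groth.Agent.* helpers here

set_option autoImplicit false
universe u v
open LinTop

namespace Groth.Agent.S18615

/-- Let k be a field carrying the discrete topology and M a separated topological k-module with a
k-linear topology (open k-submodules form a basis of neighbourhoods of zero, M a topological
additive group). For closed submodules M₁ ⊆ M₂ there is a short exact sequence 0 → M₂^⊥ → M₁^⊥ →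
(M₂/M₁)^* → 0 of plain k-modules, where ⊥ denotes the annihilator in the continuous dual of M and *
the continuous dual. Stated here as its one non-formal part, surjectivity on the right: every
continuous functional on M₂ (subspace topology) that vanishes on M₁ is the restriction of a
continuous functional on M vanishing on M₁ (continuous functionals on M₂/M₁ being the continuous
functionals on M₂ that kill M₁). -/
theorem result (k : Type u) (M : Type v) [Field k]
    [TopologicalSpace k] [DiscreteTopology k] [AddCommGroup M] [Module k M] [TopologicalSpace M]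
    [IsTopologicalAddGroup M] [IsLinearTopology k M] [T2Space M]
    (M₁ M₂ : Submodule k M) (h₁₂ : M₁ ≤ M₂) (hM₁ : IsClosed (M₁ : Set M))
    (hM₂ : IsClosed (M₂ : Set M)) (ψ : M₂ →L[k] k)
    (hψ : ∀ m : M₂, (m : M) ∈ M₁ → ψ m = 0) :
    ∃ φ : M →L[k] k, (∀ m ∈ M₁, φ m = 0) ∧ ∀ m : M₂, φ (m : M) = ψ m := by
  have hker : IsOpen ((LinearMap.ker (ψ : M₂ →ₗ[k] k) : Submodule k M₂) : Set M₂) :=
    (isOpen_discrete ({0} : Set k)).preimage ψ.continuous
  obtain ⟨V, hV, hVker⟩ : ∃ V ∈ nhds (0 : M), (Subtype.val : M₂ → M) ⁻¹' V ⊆ {m | ψ m = 0} := by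
    have := hker.mem_nhds (Submodule.zero_mem _)
    rw [nhds_subtype_eq_comap, Filter.mem_comap] at this
    obtain ⟨V, hV, h⟩ := this
    exact ⟨V, hV, h⟩
  obtain ⟨W, hWo, hWV⟩ := (IsLinearTopology.hasBasis_open_submodule (R := k)).mem_iff.mp hV
  let N : Submodule k M := M₁ ⊔ W
  have hN : ∀ m : M₂, (m : M) ∈ N → ψ m = 0 := by
    intro m hm
    obtain ⟨a, ha, b, hb, hab⟩ := Submodule.mem_sup.mp hm
    have hb2 : b ∈ M₂ := by
      rw [show b = (m : M) - a from (sub_eq_of_eq_add (by rw [add_comm]; exact hab.symm)).symm]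
      exact M₂.sub_mem m.2 (h₁₂ ha)
    rw [show m = ⟨a, h₁₂ ha⟩ + ⟨b, hb2⟩ from Subtype.ext hab.symm, map_add, hψ ⟨a, h₁₂ ha⟩ ha,
      show ψ ⟨b, hb2⟩ = 0 from hVker (show b ∈ V from hWV hb), add_zero]
  let q : M₂ →ₗ[k] M ⧸ N := N.mkQ.comp M₂.subtype
  have hq : LinearMap.ker q ≤ LinearMap.ker (ψ : M₂ →ₗ[k] k) := fun m hm =>
    hN m ((Submodule.Quotient.mk_eq_zero N).mp hm)
  obtain ⟨g, hg⟩ := LinearMap.exists_extend
    (((LinearMap.ker q).liftQ (ψ : M₂ →ₗ[k] k) hq).comp (LinearMap.quotKerEquivRange q).symm.toLinearMap)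
  let φ : M →ₗ[k] k := g.comp N.mkQ
  have hNk : (N : Set M) ⊆ {m | φ m = 0} := fun m hm => by
    show g (N.mkQ m) = 0
    rw [show N.mkQ m = 0 from (Submodule.Quotient.mk_eq_zero N).mpr hm, map_zero]
  have hNo : IsOpen (N : Set M) :=
    AddSubgroup.isOpen_mono (H₁ := W.toAddSubgroup) (H₂ := N.toAddSubgroup) (le_sup_right (a := M₁)) hWo
  have hc : Continuous φ := continuous_of_continuousAt_zero φ.toAddMonoidHom (by
    show Filter.Tendsto φ (nhds 0) (nhds (φ 0))
    rw [map_zero, nhds_discrete k, Filter.tendsto_pure]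
    exact Filter.mem_of_superset (hNo.mem_nhds N.zero_mem) hNk)
  refine ⟨⟨φ, hc⟩, fun m hm => hNk (Submodule.mem_sup_left hm), fun m => ?_⟩
  show g (q m) = ψ m
  have h := LinearMap.congr_fun hg ⟨q m, LinearMap.mem_range_self q m⟩
  refine h.trans ?_
  show (LinearMap.ker q).liftQ (ψ : M₂ →ₗ[k] k) hq
    ((LinearMap.quotKerEquivRange q).symm ⟨q m, LinearMap.mem_range_self q m⟩) = ψ m
  rw [show (LinearMap.quotKerEquivRange q).symm ⟨q m, LinearMap.mem_range_self q m⟩ = Submodule.Quotient.mk m from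
    (LinearEquiv.symm_apply_eq _).mpr (Subtype.ext rfl)]
  rfl

end Groth.Agent.S18615
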