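import Groth.Statements.S18624
import Groth.Agent.BlowExcLib.KernelVan
-- import your own Groth.Agent.* helpers here

set_option autoImplicit false
set_option backward.isDefEq.respectTransparency false
set_option maxHeartbeats 800000
set_option synthInstance.maxHeartbeats 200000
universe u
open VBPn

namespace Groth.Agent.S18624

open Groth.Agent Groth.Agent.BlowExcLib CategoryTheory
set_option backward.isDefEq.respectTransparency false

open CategoryTheory CategoryTheory.Limits AlgebraicGeometry TopologicalSpace in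
/-- The bundles are arithmetically Cohen–Macaulay: let k be an algebraically closed field of
characteristic zero, n ≥ 3, Z a set of s ≤ 1 closed points of P^n_k and π : X → P^n_k a blow-up of
P^n_k in the ideal of the reduced set Z (universal property; for s = 0 this is P^n_k itself). Write
O_X(e₀) = π^*O(1), let I_E be the exceptional ideal (inverse image ideal of Z), and let H be the
anticanonical module, H ≅ π^*O(n+1) ⊗ I_E^{⊗(n−1)}, with a tensor inverse H′. Let g : Q → P be an
epimorphism of O_X-modules with Q ≅ O_X(e₀)^b and P ≅ O_X(2e₀)^a (a matrix of linear forms) whose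
induced map on global sections H^0(X, Q) → H^0(X, P) is surjective, and let G = ker g. Then G has no
intermediate cohomology with respect to H: for 1 ≤ i ≤ n − 1 and every t ≥ 0, H^i(X, G ⊗ H^{⊗t}) = 0
and H^i(X, G ⊗ H′^{⊗t}) = 0. (The published statement asserts this for the dual bundle E = G^∨ and
for a, b of a particular shape; since X is smooth and proper with canonical module H′ and G is
locally free, Serre duality exchanges the two families of vanishings, and the argument uses nothing
about a, b beyond the displayed presentation and the surjectivity on global sections.) -/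
theorem result (k : Type u) [Field k] [IsAlgClosed k] [CharZero k]
    (n : ℕ) (hn : 3 ≤ n) (s : ℕ) (P : Fin s → ↥(CohB1.ProjSpace n k)) (hP : Function.Injective P)
    (hPc : ∀ i, IsClosed ({P i} : Set ↥(CohB1.ProjSpace n k))) (hZ : IsClosed (Set.range P))
    (X : Scheme.{u}) (π : X ⟶ CohB1.ProjSpace n k)
    (hπ : BlowUp.IsBlowUp π (Scheme.IdealSheafData.vanishingIdeal ⟨Set.range P, hZ⟩)) (hs : s ≤ 1)
    (a b : ℕ) (Q₂ P₂ : X.Modules)
    (hQ₂ : Nonempty (Q₂ ≅ ∐ fun _ : Fin b => (Scheme.Modules.pullback π).obj (Twist.twistProjSpace n k 1)))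
    (hP₂ : Nonempty (P₂ ≅ ∐ fun _ : Fin a => (Scheme.Modules.pullback π).obj (Twist.twistProjSpace n k 2)))
    (g : Q₂ ⟶ P₂) [Epi g]
    (hg0 : Function.Surjective (Sheaf.H.map ((SheafOfModules.toSheaf X.ringCatSheaf).map g) 0))
    (Hm Hi : X.Modules)
    (hHm : Nonempty (Hm ≅ CohB1.tensorMod ((Scheme.Modules.pullback π).obj (Twist.twistProjSpace n k ((n : ℤ) + 1)))
      (CohB1.tensorPow (ClSub.idealMod (BlowUp.exceptional π (Scheme.IdealSheafData.vanishingIdeal ⟨Set.range P, hZ⟩))) (n - 1))))
    (hHi : ClSub.IsInverseOf Hi Hm) (i t : ℕ) (hi : 1 ≤ i) (hin : i + 1 ≤ n) :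
    Subsingleton (Coh.HH X (CohB1.tensorMod (kernel g) (CohB1.tensorPow Hm t)) i) ∧
      Subsingleton (Coh.HH X (CohB1.tensorMod (kernel g) (CohB1.tensorPow Hi t)) i) := by
  obtain ⟨e, he, V⟩ := exists_twistVan hn P hPc hZ π hπ hs
  have hH : IntLib.mk Hm = pcls π ((n : ℤ) + 1) * (e : IntLib.MCls X) ^ (n - 1) := by
    rw [IntLib.mk_congr hHm.some, IntLib.mk_tensor, IntLib.mk_tensorPow, ← he]
    rfl
  have hI : IntLib.mk Hi * (pcls π ((n : ℤ) + 1) * (e : IntLib.MCls X) ^ (n - 1)) = 1 := by
    rw [← hH, ← IntLib.mk_tensor, IntLib.mk_congr hHi.some, IntLib.mk_structureModule]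
  have hJ := (Groth.Agent.S8914.result _).2 hπ.1
  have hL : PicF.IsInvertible Hm :=
    ParaFLib.isInvertible_of_iso hHm.some.symm (AmpleLib.isInvertible_tensor (AmpleLib.isInvertible_pullback π (isInvertible_twist _))
      (AmpleLib.isInvertible_tensorPow hJ _))
  have hLi : PicF.IsInvertible Hi := AmpleLib.isInvertible_of_tensor_iso hHi.some
  obtain ⟨j, rfl⟩ : ∃ j, i = j + 1 := ⟨i - 1, by omega⟩
  have hz : Van (IntLib.mk (kernel g)) 1 := by
    have h := van_kernel_anti π g hQ₂ hP₂ hn P hPc hZ hπ hs V he hg0 0 0 (by norm_num)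
    rwa [Nat.cast_zero, pcls_zero, zpow_zero, Units.val_one, mul_one, mul_one] at h
  constructor
  · rcases Nat.eq_zero_or_pos j with rfl | hj
    · have h := van_kernel_anti π g hQ₂ hP₂ hn P hPc hZ hπ hs V he hg0 ((t : ℤ) * ((n : ℤ) + 1)) ((n - 1) * t) (by
        obtain ⟨a, rfl⟩ : ∃ a, n = a + 1 := ⟨n - 1, by omega⟩
        simp only [Nat.add_sub_cancel]
        push_cast
        have : (t : ℤ) * (((a : ℤ) + 1) + 1) = (a : ℤ) * t + 2 * t := by ring
        omega)
      refine h _ ?_
      rw [IntLib.mk_tensor, IntLib.mk_tensorPow, hH, mul_pow, zpow_natCast, Units.val_pow_eq_pow_val, pow_mul]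
      congr 2
      rw [pcls_eq_zpow π ((n : ℤ) + 1), pcls_eq_zpow, ← Units.val_pow_eq_pow_val, ← zpow_natCast, ← zpow_mul, mul_comm]
    · refine van_kernel g hQ₂ hP₂ (AmpleLib.isInvertible_tensorPow hL t) j ?_ ?_ _ (IntLib.mk_tensor _ _)
      all_goals rw [IntLib.mk_tensorPow, hH]
      · exact V.anti hn 1 (j + 1) t (by omega) (Or.inl (by norm_num)) (by omega)
      · exact V.anti hn 2 j t hj (Or.inl (by norm_num)) (by omega)
  · rcases Nat.eq_zero_or_pos t with rfl | ht
    · rcases Nat.eq_zero_or_pos j with rfl | hj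
      · refine hz _ ?_
        rw [IntLib.mk_tensor, IntLib.mk_tensorPow, pow_zero, mul_one]
      · refine van_kernel g hQ₂ hP₂ (AmpleLib.isInvertible_tensorPow hLi 0) j ?_ ?_ _ (IntLib.mk_tensor _ _)
        all_goals rw [IntLib.mk_tensorPow]
        · exact V.canon hn 1 (j + 1) 0 hin (Or.inl (by omega)) (Or.inr (Or.inl rfl)) hI
        · exact V.canon hn 2 j 0 (by omega) (Or.inl hj) (Or.inr (Or.inl rfl)) hI
    · refine van_kernel g hQ₂ hP₂ (AmpleLib.isInvertible_tensorPow hLi t) j ?_ ?_ _ (IntLib.mk_tensor _ _)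
      all_goals rw [IntLib.mk_tensorPow]
      · exact V.canon hn 1 (j + 1) t hin (Or.inl (by omega)) (Or.inl (by omega)) hI
      · refine V.canon hn 2 j t (by omega) (Or.inr ?_) (Or.inr (Or.inr (by omega))) hI
        have : (1 : ℤ) * ((n : ℤ) + 1) ≤ (t : ℤ) * ((n : ℤ) + 1) := mul_le_mul_of_nonneg_right (by omega) (by omega)
        omega

end Groth.Agent.S18624
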