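import Groth.Statements.S18632
import Groth.Agent.BlowExcLib.KernelVan
-- import your own Groth.Agent.* helpers here

set_option autoImplicit false
set_option backward.isDefEq.respectTransparency false
set_option maxHeartbeats 800000
set_option synthInstance.maxHeartbeats 200000
universe u
open VBPn

namespace Groth.Agent.S18632

open Groth.Agent Groth.Agent.BlowExcLib CategoryTheory
set_option backward.isDefEq.respectTransparency false

open CategoryTheory CategoryTheory.Limits AlgebraicGeometry TopologicalSpace in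
/-- Let k be an algebraically closed field of characteristic zero, n ≥ 3, Z a set of s ≤ 1 closed points
of P^n_k and π : X → P^n_k a blow-up of P^n_k in the ideal of the reduced set Z (universal
property), with exceptional ideal I_E (inverse image ideal of Z) and anticanonical module H ≅
π^*O(n+1) ⊗ I_E^{⊗(n−1)}, with a tensor inverse H′. Then H^i(X, H^{⊗t}) = 0 and H^i(X, H′^{⊗t}) = 0
for every 1 ≤ i ≤ n − 1 and every t ≥ 0: O_X has no intermediate cohomology in any anticanonical
twist. (The published statement is that X, embedded by the very ample H, is arithmetically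
Cohen–Macaulay; the part asserting that the ideal of the embedded X has no H¹ in any twist is not
restated.) -/
theorem result (k : Type u) [Field k] [IsAlgClosed k] [CharZero k]
    (n : ℕ) (hn : 3 ≤ n) (s : ℕ) (P : Fin s → ↥(CohB1.ProjSpace n k)) (hP : Function.Injective P)
    (hPc : ∀ i, IsClosed ({P i} : Set ↥(CohB1.ProjSpace n k))) (hZ : IsClosed (Set.range P))
    (X : Scheme.{u}) (π : X ⟶ CohB1.ProjSpace n k)
    (hπ : BlowUp.IsBlowUp π (Scheme.IdealSheafData.vanishingIdeal ⟨Set.range P, hZ⟩)) (hs : s ≤ 1)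
    (Hm Hi : X.Modules)
    (hHm : Nonempty (Hm ≅ CohB1.tensorMod ((Scheme.Modules.pullback π).obj (Twist.twistProjSpace n k ((n : ℤ) + 1)))
      (CohB1.tensorPow (ClSub.idealMod (BlowUp.exceptional π (Scheme.IdealSheafData.vanishingIdeal ⟨Set.range P, hZ⟩))) (n - 1))))
    (hHi : ClSub.IsInverseOf Hi Hm) (i t : ℕ) (hi : 1 ≤ i) (hin : i + 1 ≤ n) :
    Subsingleton (Coh.HH X (CohB1.tensorPow Hm t) i) ∧ Subsingleton (Coh.HH X (CohB1.tensorPow Hi t) i) := by
  obtain ⟨e, he, V⟩ := exists_twistVan hn P hPc hZ π hπ hs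
  have hH : IntLib.mk Hm = pcls π ((n : ℤ) + 1) * (e : IntLib.MCls X) ^ (n - 1) := by
    rw [IntLib.mk_congr hHm.some, IntLib.mk_tensor, IntLib.mk_tensorPow, ← he]
    rfl
  have hI : IntLib.mk Hi * (pcls π ((n : ℤ) + 1) * (e : IntLib.MCls X) ^ (n - 1)) = 1 := by
    rw [← hH, ← IntLib.mk_tensor, IntLib.mk_congr hHi.some, IntLib.mk_structureModule]
  constructor
  · refine V.anti hn 0 i t hi (Or.inl (by norm_num)) (by omega) _ ?_
    rw [IntLib.mk_tensorPow, hH, pcls_zero, one_mul]
  · refine V.canon hn 0 i t hin (Or.inl hi) (by omega) hI _ ?_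
    rw [IntLib.mk_tensorPow, pcls_zero, one_mul]

end Groth.Agent.S18632
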