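import Groth.Statements.S18633
import Groth.Agent.TwistShriek.SurfAmpleDiv
import Groth.Agent.AmpleEmb.TwistOne
-- import your own Groth.Agent.* helpers here

set_option autoImplicit false
set_option backward.isDefEq.respectTransparency false
set_option maxHeartbeats 800000
set_option synthInstance.maxHeartbeats 200000
universe u
open CategoryTheory CategoryTheory.Limits AlgebraicGeometry TopologicalSpace
open Surf
open Groth.Agent Groth.Agent.TwistShriek

namespace Groth.Agent.S18633

/-- Let k be an algebraically closed field of characteristic zero and X a strong del Pezzo surface over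
k: an integral scheme, proper and smooth over k of dimension 2, with canonical module W (a second
exterior power of Ω_{X/k}) and a tensor inverse D of W which is very ample relative to k — there is
a closed immersion ι : X → P^N_k over k with ι^*O(1) ≅ D. Assume H¹(X, O_X) = 0. Then H¹(X, D^{⊗m})
= 0 and H¹(X, W^{⊗m}) = 0 for every m ≥ 0; that is, H¹(X, O_X(m)) = 0 for all m ∈ ℤ in the
anticanonical embedding X ⊆ P^d. (The published statement is that the anticanonically embedded X is
arithmetically Cohen–Macaulay; its argument obtains H¹(X, O_X) = 0 from the rationality of del Pezzo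
surfaces, quoted, and that vanishing is the hypothesis here; the part about H¹ of the twisted ideal
sheaves of X is not restated.) -/
theorem result (k : Type u) [Field k] [IsAlgClosed k] [CharZero k] (X : Scheme.{u})
    [X.Over (Spec (CommRingCat.of k))] [IsIntegral X] [IsProper (X ↘ (Spec (CommRingCat.of k)))] [Smooth (X ↘ (Spec (CommRingCat.of k)))]
    (hdim : topologicalKrullDim X = 2)
    (W : X.Modules) (hW : ExtPow.IsExtPow 2 (Omega.sheaf (X ↘ (Spec (CommRingCat.of k)))) W)
    (D : X.Modules) (hD : ClSub.IsInverseOf D W)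
    (hva : ∃ (N : ℕ) (ι : X ⟶ CohB1.ProjSpace N k), IsClosedImmersion ι ∧
      ι ≫ CohB1.ProjSpace.toSpec N k = X ↘ (Spec (CommRingCat.of k)) ∧
      Nonempty ((Scheme.Modules.pullback ι).obj (Twist.twistProjSpace N k 1) ≅ D))
    (hq : Subsingleton (Coh.HH X (Coh.structureModule X) 1)) (m : ℕ) :
    Subsingleton (Coh.HH X (CohB1.tensorPow D m) 1) ∧ Subsingleton (Coh.HH X (CohB1.tensorPow W m) 1) := by
    haveI := EulerIneqLib.isNoetherian_proper (X := X) k
    obtain ⟨hWi, -, hdual⟩ := canonical_data_proper k hdim hW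
    obtain ⟨N, ι, hι0, hι, ⟨eι⟩⟩ := hva
    obtain ⟨eD⟩ := hD
    haveI := hι0
    have hampD : CohB1.IsAmple D := AmpleLib.isAmple_of_iso eι
      (AmpleLib.isAmple_pullback ι (AmpleEmb.isAmple_twistOne N k))
    have hpow : ∀ n, Nonempty (CohB1.tensorMod (CohB1.tensorPow D n) (CohB1.tensorPow W n) ≅ Coh.structureModule X) :=
      fun n => ⟨(AmpleLib.powTensor D W n).symm ≪≫ AmpleLib.powCongr eD n ≪≫ AmpleLib.powUnit n⟩
    obtain ⟨a, ha⟩ : ∃ a, (ι (genericPoint X)) ∈ AmpleEmb.stdOpen N k a :=
      Opens.mem_iSup.1 ((AmpleEmb.iSup_stdOpen N k).ge (Opens.mem_top _))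
    let s : Coh.structureModule X ⟶ D := AmpleLib.pullS ι (AmpleEmb.coordSec N k a) ≫ eι.hom
    have hs : genericPoint X ∈ CohB1.genLocus D s := by
      rw [AmpleLib.genLocus_comp_iso, AmpleLib.genLocus_pullS ι (AmpleEmb.isInvertible_twistOne N k),
        AmpleEmb.genLocus_coordSec]
      exact ha
    have hW1 : ∀ n, Subsingleton (Coh.HH X (CohB1.tensorPow W n) 1) := fun n => by
      rcases Nat.eq_zero_or_pos n with rfl | hn
      · exact hq
      obtain ⟨e⟩ := hpow n
      obtain ⟨j, rfl⟩ := Nat.exists_eq_succ_of_ne_zero hn.ne'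
      refine subsingleton_H1_antiAmple k hdim ((AmpleLib.isAmple_pow_iff hampD.1 hn).2 hampD) e hq
        (AmpleLib.powS s (j + 1)) ⟨genericPoint X, ?_⟩
      rw [AmpleLib.genLocus_powS hampD.1]
      exact hs
    refine ⟨?_, hW1 m⟩
    obtain ⟨e⟩ := hpow m
    have h := hdual (CohB1.tensorPow D m) (CohB1.tensorPow W m) (AmpleLib.isInvertible_tensorPow hampD.1 m) ⟨e⟩ 1 one_le_two
    rw [ShBCLib.finrank_HH_iso (K := k) (AmpleLib.comm W (CohB1.tensorPow W m)) 1] at h
    haveI := EulerIneqLib.finite_HH (k := k) (CurveLib.isCoh_of_isInvertible (AmpleLib.isInvertible_tensorPow hampD.1 m)) 1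
    haveI := hW1 (m + 1)
    exact Module.finrank_zero_iff.1 (h.symm.trans
      (Module.finrank_zero_of_subsingleton (R := k) (M := Coh.HH X (CohB1.tensorPow W (m + 1)) 1)))

end Groth.Agent.S18633
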