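import Groth.Statements.S18635
import Groth.Agent.GrCoreLib.StarInjDim

set_option autoImplicit false
universe u
open GrLC

namespace Groth.Agent.S18635
open Groth.Agent.GrCoreLib


/-- Let R be a commutative Noetherian ℤ-graded ring and M a *injective graded R-module (an injective
object of the category of graded R-modules). Then M fails to be injective as an ordinary R-module —
equivalently, since a *injective graded module has ordinary injective dimension at most 1, its
ordinary injective dimension is exactly 1 — if and only if there is a prime ideal p of R which is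
not graded and whose graded core p* (the largest graded ideal contained in p, itself a prime) is an
associated prime of M. -/
theorem result (R : Type u) [CommRing R] [IsNoetherianRing R] (𝒜 : ℤ → AddSubgroup R) [GradedRing 𝒜] (M : Type u) [AddCommGroup M] [Module R M] (ℳ : ℤ → AddSubgroup M) [DirectSum.Decomposition ℳ] [SetLike.GradedSMul 𝒜 ℳ] (hM : GrLC.IsStarInj 𝒜 ℳ) : ¬ Module.Injective R M ↔ ∃ p : Ideal R, p.IsPrime ∧ ¬ Ideal.IsHomogeneous 𝒜 p ∧ (Ideal.homogeneousCore 𝒜 p).toIdeal ∈ associatedPrimes R M := by
  let X := GrLC.GMod.of 𝒜 M ℳ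
  have key : ∀ q : Ideal R, q.IsPrime → (q ∈ associatedPrimes R M ↔
      ∃ x : M, q = LinearMap.ker (LinearMap.toSpanSingleton R M x)) := fun q hq => by
    have hc : ∀ x : M, Submodule.colon ⊥ {x} = LinearMap.ker (LinearMap.toSpanSingleton R M x) := fun x => by
      ext r; simp [Submodule.mem_colon_singleton]
    rw [AssociatedPrimes.mem_iff, isAssociatedPrime_iff]
    exact ⟨fun ⟨_, x, hx⟩ => ⟨x, hx.trans (hc x)⟩, fun ⟨x, hx⟩ => ⟨hq, x, hx.trans (hc x).symm⟩⟩
  constructor
  · intro hninj
    by_contra! h
    refine hninj ?_
    haveI : CategoryTheory.HasInjectiveDimensionLT (ModuleCat.of R M) 1 :=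
      hasInjectiveDimensionLT_of_bass M 0 fun P _ => by
        by_cases hP : P.IsHomogeneous 𝒜
        · exact (bassNum_starInj (M := X) hM P).2.1 hP
        · haveI := Ideal.IsPrime.homogeneousCore (𝒜 := 𝒜) (I := P) inferInstance
          rw [show GrLC.bassNum P M (0 + 1) = GrLC.bassNum (Ideal.homogeneousCore 𝒜 P).toIdeal M 0 from
            (bassNum_starInj (M := X) hM P).2.2 hP]
          by_contra hne
          exact h P inferInstance hP ((key _ inferInstance).2 ((bassNum_zero_ne_zero_iff M _).1 hne))
    haveI : CategoryTheory.Injective (ModuleCat.of R M) :=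
      CategoryTheory.injective_iff_hasInjectiveDimensionLT_one.mpr inferInstance
    exact Module.injective_module_of_injective_object R M
  · rintro ⟨P, hPp, hP, hass⟩ hinj
    haveI := hPp
    haveI := Ideal.IsPrime.homogeneousCore (𝒜 := 𝒜) (I := P) inferInstance
    refine (bassNum_zero_ne_zero_iff M _).2 ((key _ inferInstance).1 hass) ?_
    have h2 : GrLC.bassNum P M 1 = GrLC.bassNum (Ideal.homogeneousCore 𝒜 P).toIdeal M 0 :=
      (bassNum_starInj (M := X) hM P).2.2 hP
    exact h2.symm.trans (bassNum_succ_eq_zero_of_injective M P 0)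

end Groth.Agent.S18635
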