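import Groth.Statements.S18636
import Groth.Agent.GrCoreLib.Core

set_option autoImplicit false
universe u
open GrLC

namespace Groth.Agent.S18636

/-- Let R be a commutative Noetherian ℤ-graded ring, M a graded R-module (not necessarily finitely
generated) and p a prime ideal of R which is not graded; write p* for the largest graded ideal
contained in p (a graded prime). Then μ_0(p, M) = 0 and μ_{i+1}(p, M) = μ_i(p*, M) for every i ≥ 0.
(Bass numbers μ_i(q, M) are taken as the k(q)-dimension of Ext^i over R_q of k(q) into M_q, as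
extended natural numbers; the published text also recalls their description as multiplicities in a
minimal injective resolution, and the two agree over a Noetherian ring.) -/
theorem result (R : Type u) [CommRing R] [IsNoetherianRing R] (𝒜 : ℤ → AddSubgroup R) [GradedRing 𝒜] (M : Type u) [AddCommGroup M] [Module R M] (ℳ : ℤ → AddSubgroup M) [DirectSum.Decomposition ℳ] [SetLike.GradedSMul 𝒜 ℳ] (p : Ideal R) [p.IsPrime] (hp : ¬ Ideal.IsHomogeneous 𝒜 p) [(Ideal.homogeneousCore 𝒜 p).toIdeal.IsPrime] : GrLC.bassNum p M 0 = 0 ∧ ∀ i : ℕ, GrLC.bassNum p M (i + 1) = GrLC.bassNum (Ideal.homogeneousCore 𝒜 p).toIdeal M i := by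
  have hle := Groth.Agent.GrCoreLib.core_le 𝒜 p
  have hq := Groth.Agent.GrCoreLib.core_homogeneous 𝒜 p
  obtain ⟨-, h2, h3⟩ := Groth.Agent.GrCoreLib.isRegular_quot_core 𝒜 _ p hq hle
    (fun a x hx hxp => Groth.Agent.GrCoreLib.mem_core 𝒜 p hx hxp)
  rw [h2, Module.finrank_self] at h3
  have hne : (Ideal.homogeneousCore 𝒜 p).toIdeal ≠ p := fun h => hp (h ▸ hq)
  have hd : (p.map (Ideal.Quotient.mk (Ideal.homogeneousCore 𝒜 p).toIdeal)).height = (1 : ℕ) := by
    refine le_antisymm (by exact_mod_cast h3) ?_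
    haveI : (p.map (Ideal.Quotient.mk (Ideal.homogeneousCore 𝒜 p).toIdeal)).IsPrime :=
      Ideal.map_isPrime_of_surjective Ideal.Quotient.mk_surjective (by rwa [Ideal.mk_ker])
    rw [Nat.cast_one, ENat.one_le_iff_ne_zero, ne_eq, Ideal.height_eq_zero_iff,
      IsDomain.minimalPrimes_eq_singleton_bot, Set.mem_singleton_iff, Ideal.map_eq_bot_iff_le_ker,
      Ideal.mk_ker]
    exact fun h => hne (le_antisymm hle h)
  obtain ⟨k1, k2⟩ := Groth.Agent.GrCoreLib.bassNum_shift (Ideal.homogeneousCore 𝒜 p).toIdeal p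
    hq hle (fun a x hx hxp => Groth.Agent.GrCoreLib.mem_core 𝒜 p hx hxp) (GrLC.GMod.of 𝒜 M ℳ) hd
  exact ⟨k1 0 Nat.one_pos, k2⟩

end Groth.Agent.S18636
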