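import Groth.Statements.S18638
import Groth.Agent.GrCoreLib.Canon
import Groth.Agent.GrCoreLib.TypeLocal
import Groth.Agent.GorLib.TopHull
import Groth.Agent.GorLib.LocInjDim

set_option autoImplicit false
universe u
open GrLC

namespace Groth.Agent.S18638
open Groth.Agent.GrCoreLib CategoryTheory TensorProduct


/-- Let R be a graded ring defined over a field which is Cohen–Macaulay, and K_R its canonical module.
Then R is Gorenstein exactly when K_R is isomorphic to a degree shift R(a) of R for some integer a,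
that is, there is a bijective R-linear map R → K_R homogeneous of some fixed degree. Here 'graded
ring defined over a field' means R = ⊕_{n ≥ 0} R_n is Noetherian with R_0 a field (so R is finitely
generated over R_0), m = R_+ is its unique graded maximal ideal and n = dim R; the canonical module
K_R (the graded dual of H^n_m(R)) is represented by a finitely generated graded module C together
with a homogeneous isomorphism from Hom_R(C, E) onto H^n_m(R), where E is a *injective envelope of
R/m and H^n_m(R) is computed from a *injective resolution of R in the graded category; by graded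
Matlis duality this says exactly that C ≅ K_R as graded modules. -/
theorem result (R : Type u) [CommRing R] [LocCoh.IsCohenMacaulayRing R] (𝒜 : ℤ → AddSubgroup R) [GradedRing 𝒜] (hpos : ∀ n : ℤ, n < 0 → 𝒜 n = ⊥) (h0 : IsField (GrLC.deg0 𝒜)) (m : HomogeneousIdeal 𝒜) (hm : GrLC.IsStarLocal 𝒜 m) (hmsp : m.toIdeal = Ideal.span (⋃ n ∈ Set.Ioi (0 : ℤ), (𝒜 n : Set R))) (n : ℕ) (hn : ringKrullDim R = n) (I : GrLC.StarInjRes 𝒜 𝒜) (E' : Type u) [AddCommGroup E'] [Module R E'] (𝓔 : ℤ → AddSubgroup E') [DirectSum.Decomposition 𝓔] [SetLike.GradedSMul 𝒜 𝓔] (e : (R ⧸ m.toIdeal) →ₗ[R] E') (he : GrLC.IsStarInjHull 𝒜 (GrLC.quotGr 𝒜 m) 𝓔 e) (C : Type u) [AddCommGroup C] [Module R C] (𝒞 : ℤ → AddSubgroup C) [DirectSum.Decomposition 𝒞] [SetLike.GradedSMul 𝒜 𝒞] (hC : GrLC.IsStarCanonical 𝒜 𝒞 𝓔 m n I) : LocCoh.IsGorensteinRing R ↔ ∃ (a : ℤ) (f : R →ₗ[R] C), Function.Bijective f ∧ GrLC.IsGrHomDeg 𝒜 𝒞 f a := by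
  classical
  haveI : Module.Finite R C := hC.1
  haveI : m.toIdeal.IsMaximal := by
    rw [hmsp]; exact Groth.Agent.GrFieldLib.irr_isMaximal 𝒜 hpos h0
  haveI := (LocCoh.IsCohenMacaulayRing.isCohenMacaulayLocalRing_localization (R := R) m.toIdeal)
  obtain ⟨hd, f, hf, ⟨eK⟩⟩ := exists_local_data hpos h0 hm hmsp hn he hC
  let B := Localization.AtPrime m.toIdeal
  let S := m.toIdeal.primeCompl
  let CB := LocalizedModule S C
  constructor
  · intro hG
    have h1 : GrLC.bassNumLocal B B n = 1 :=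
      Groth.Agent.GorLib.length_ext_residueField (hG.isGorensteinLocalRing_localization m.toIdeal) hd
    rw [bassNumLocal_ring hd hf eK] at h1
    -- a homogeneous element outside `m C`
    haveI := Groth.Agent.CanonLib.nontrivial_canonical hd eK
    let L := LocalizedModule.mkLinearMap S C
    let P : Submodule B CB := IsLocalRing.maximalIdeal B • ⊤
    obtain ⟨g, c, hc, hcP⟩ : ∃ g, ∃ c ∈ 𝒞 g, L c ∉ P := by
      by_contra! h
      refine Groth.Agent.CAlgBasics.maximalIdeal_smul_top_ne_top (R := B) (M := CB) (eq_top_iff.2 fun z _ => ?_)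
      obtain ⟨⟨x, s⟩, hz⟩ := IsLocalizedModule.surj S L z
      have hx : L x ∈ P := by
        rw [← DirectSum.sum_support_decompose 𝒞 x, map_sum]
        exact sum_mem fun g _ => h g _ (DirectSum.decompose 𝒞 x g).2
      obtain ⟨w, hw⟩ := IsLocalization.map_units B s
      have hz' : z = (↑w⁻¹ : B) • L x := by
        rw [← show (s : R) • z = L x from hz, ← algebraMap_smul B (s : R), ← hw, smul_smul, Units.inv_mul, one_smul]
      rw [hz']
      exact P.smul_mem _ hx
    -- the quotient by `m C` is simple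
    let π : IsLocalRing.ResidueField B ⊗[B] CB ≃ₗ[B] CB ⧸ P :=
      TensorProduct.quotTensorEquivQuotSMul CB (IsLocalRing.maximalIdeal B)
    rw [π.length_eq, Module.length_eq_one_iff] at h1
    have hspan : Submodule.span B {L c} = ⊤ := by
      refine eq_top_iff.2 (Submodule.le_of_le_smul_of_le_jacobson_bot Module.Finite.fg_top
        (IsLocalRing.maximalIdeal_le_jacobson ⊥) ?_)
      intro z _
      have hne : (Submodule.span B {L c}).map P.mkQ ≠ ⊥ := fun h => hcP ((Submodule.Quotient.mk_eq_zero P).1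
        ((Submodule.eq_bot_iff _).1 h _ ⟨L c, Submodule.mem_span_singleton_self _, rfl⟩))
      obtain ⟨y, hy, hyz⟩ := ((IsSimpleOrder.eq_bot_or_eq_top _).resolve_left hne).ge (Submodule.mem_top (x := P.mkQ z))
      rw [Submodule.mem_sup]
      exact ⟨y, hy, z - y, (Submodule.Quotient.eq P).1 hyz.symm, add_sub_cancel y z⟩
    let t : R →ₗ[R] C := LinearMap.toSpanSingleton R C c
    have htg : GrLC.IsGrHomDeg 𝒜 𝒞 t g := fun a r hr => GrInjLib.smul_mem 𝒜 𝒞 hr hc
    have hRng := GrInjLib.range_homogeneous 𝒜 𝒞 htg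
    have hKer := GrInjLib.ker_homogeneous 𝒜 𝒞 htg
    refine ⟨g, t, ⟨?_, ?_⟩, htg⟩
    · have h0' : Subsingleton (GrInjLib.subG 𝒜 𝒜 hKer).carrier := subsingleton_of_localized hm _ (by
        refine LocalizedModule.subsingleton_iff.2 fun r => ?_
        have hr : GrInjLib.subIncl 𝒜 𝒜 hKer r • c = 0 := GrInjLib.subIncl_mem 𝒜 𝒜 hKer r
        have hall : algebraMap R B (GrInjLib.subIncl 𝒜 𝒜 hKer r) = 0 := by
          refine Groth.Agent.CanonLib.faithful hd eK _ fun z => ?_
          obtain ⟨b, rfl⟩ := Submodule.mem_span_singleton.1 (hspan.ge (Submodule.mem_top (x := z)))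
          rw [smul_comm, algebraMap_smul, ← map_smul, hr, map_zero, smul_zero]
        obtain ⟨u, hu⟩ := (IsLocalization.map_eq_zero_iff S B _).1 hall
        refine ⟨u, u.2, GrInjLib.subIncl_injective 𝒜 𝒜 hKer ?_⟩
        rw [map_smul, map_zero]
        exact hu)
      rw [← LinearMap.ker_eq_bot, Submodule.eq_bot_iff]
      intro r hr
      exact congrArg Subtype.val (Subsingleton.elim (α := (GrInjLib.subG 𝒜 𝒜 hKer).carrier) ⟨r, hr⟩ 0)
    · have h0' : Subsingleton (GrInjLib.quotG 𝒜 𝒞 hRng).carrier := subsingleton_of_localized hm _ (by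
        refine LocalizedModule.subsingleton_iff.2 fun y => ?_
        obtain ⟨x, rfl⟩ := GrInjLib.quotMk_surjective 𝒜 𝒞 hRng y
        obtain ⟨b, hb⟩ := Submodule.mem_span_singleton.1 (hspan.ge (Submodule.mem_top (x := L x)))
        obtain ⟨⟨r, s⟩, hbs⟩ := IsLocalization.surj S b
        have h2 : L ((s : R) • x) = L (r • c) := by
          rw [map_smul, map_smul, ← hb, ← algebraMap_smul B r, ← hbs, ← algebraMap_smul B (s : R), smul_smul,
            mul_comm]
        obtain ⟨u, hu⟩ := IsLocalizedModule.exists_of_eq (S := S) h2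
        refine ⟨(u : R) * s, S.mul_mem u.2 s.2, ?_⟩
        rw [← map_smul, mul_smul]
        exact LinearMap.mem_ker.1 ((GrInjLib.ker_quotMk 𝒜 𝒞 hRng).ge
          (by rw [show (u : R) • (s : R) • x = (u : R) • r • c from hu, ← mul_smul]; exact ⟨_, rfl⟩)))
      intro x
      exact (GrInjLib.ker_quotMk 𝒜 𝒞 hRng).le (LinearMap.mem_ker.2 (Subsingleton.elim _ _))
  · rintro ⟨a, t, ht, -⟩
    haveI : Module.Finite R (GrLC.GMod.of 𝒜 C 𝒞).carrier := hC.1
    haveI := hasInjectiveDimensionLT_of_max hm (GrLC.GMod.of 𝒜 C 𝒞)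
      (Groth.Agent.CanonLib.hasInjectiveDimensionLT hd hf eK) fun p hp => hp.homogeneousCore
    exact ((Groth.Agent.GorLib.hasInjectiveDimensionLT_self_iff R).1
      ⟨_, hasInjectiveDimensionLT_of_iso (show ModuleCat.of R (GrLC.GMod.of 𝒜 C 𝒞).carrier ≅ ModuleCat.of R R from
        (LinearEquiv.ofBijective t ht).symm.toModuleIso) (n + Module.finrank ℤ ℤ + 1)⟩).1

end Groth.Agent.S18638
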