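import Groth.Statements.S18639
import Groth.Agent.GrCoreLib.Canon

set_option autoImplicit false
universe u
open GrLC

namespace Groth.Agent.S18639
open Groth.Agent.GrCoreLib


/-- Let R be a graded ring defined over a field which is Cohen–Macaulay, with graded maximal ideal m and
canonical module K_R. Then (i) K_R is a Cohen–Macaulay R-module — stated here at m: the localisation
of K_R at m is a Cohen–Macaulay module over R_m, which is what the published proof computes (the Ext
groups of the residue field into K_R vanish outside degree n = dim R) — and (ii) K_R has finite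
injective dimension as an R-module. Here 'graded ring defined over a field' means R = ⊕_{n ≥ 0} R_n
is Noetherian with R_0 a field (so R is finitely generated over R_0), m = R_+ is its unique graded
maximal ideal and n = dim R; the canonical module K_R (the graded dual of H^n_m(R)) is represented
by a finitely generated graded module C together with a homogeneous isomorphism from Hom_R(C, E)
onto H^n_m(R), where E is a *injective envelope of R/m and H^n_m(R) is computed from a *injective
resolution of R in the graded category; by graded Matlis duality this says exactly that C ≅ K_R as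
graded modules. -/
theorem result (R : Type u) [CommRing R] [LocCoh.IsCohenMacaulayRing R] (𝒜 : ℤ → AddSubgroup R) [GradedRing 𝒜] (hpos : ∀ n : ℤ, n < 0 → 𝒜 n = ⊥) (h0 : IsField (GrLC.deg0 𝒜)) (m : HomogeneousIdeal 𝒜) (hm : GrLC.IsStarLocal 𝒜 m) (hmsp : m.toIdeal = Ideal.span (⋃ n ∈ Set.Ioi (0 : ℤ), (𝒜 n : Set R))) [m.toIdeal.IsMaximal] (n : ℕ) (hn : ringKrullDim R = n) (I : GrLC.StarInjRes 𝒜 𝒜) (E' : Type u) [AddCommGroup E'] [Module R E'] (𝓔 : ℤ → AddSubgroup E') [DirectSum.Decomposition 𝓔] [SetLike.GradedSMul 𝒜 𝓔] (e : (R ⧸ m.toIdeal) →ₗ[R] E') (he : GrLC.IsStarInjHull 𝒜 (GrLC.quotGr 𝒜 m) 𝓔 e) (C : Type u) [AddCommGroup C] [Module R C] (𝒞 : ℤ → AddSubgroup C) [DirectSum.Decomposition 𝒞] [SetLike.GradedSMul 𝒜 𝒞] (hC : GrLC.IsStarCanonical 𝒜 𝒞 𝓔 m n I) : LocCoh.IsCohenMacaulayModule (Localization.AtPrime m.toIdeal) (LocalizedModule m.toIdeal.primeCompl C) ∧ ∃ N : ℕ, CategoryTheory.HasInjectiveDimensionLT (ModuleCat.of R C) N := by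
  haveI : Module.Finite R C := hC.1
  haveI := (LocCoh.IsCohenMacaulayRing.isCohenMacaulayLocalRing_localization (R := R) m.toIdeal)
  obtain ⟨hd, f, hf, ⟨eK⟩⟩ := exists_local_data hpos h0 hm hmsp hn he hC
  have hinj := Groth.Agent.CanonLib.hasInjectiveDimensionLT hd hf eK
  haveI : Module.Finite R (GrLC.GMod.of 𝒜 C 𝒞).carrier := hC.1
  refine ⟨?_, _, hasInjectiveDimensionLT_of_max hm (GrLC.GMod.of 𝒜 C 𝒞) hinj fun p hp => hp.homogeneousCore⟩
  show Module.supportDim _ _ = _
  have hann : Module.annihilator (Localization.AtPrime m.toIdeal) (LocalizedModule m.toIdeal.primeCompl C) = ⊥ :=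
    (Submodule.eq_bot_iff _).2 fun r hr =>
      Groth.Agent.CanonLib.faithful hd eK r (Module.mem_annihilator.1 hr)
  rw [Module.supportDim_eq_ringKrullDim_quotient_annihilator, hann,
    ringKrullDim_eq_of_ringEquiv (RingEquiv.quotientBot _), hd, Groth.Agent.CanonLib.depth_eq hd hf eK]
  rfl

end Groth.Agent.S18639
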