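import Groth.Statements.S18642
import Mathlib
import Groth.Agent.GrCoreLib.VeroneseConv
import Groth.Agent.GrCoreLib.GorPairing

set_option autoImplicit false
universe u
open GrLC

namespace Groth.Agent.S18642
open Groth.Agent.GrCoreLib


/-- Let R be a graded ring defined over a field which is Cohen–Macaulay and generated over R_0 by R_1,
with dim R ≥ 2, and let q ≥ 1. If the Veronese subring R^(q) is a Gorenstein ring, then R is a
Gorenstein ring and q divides the a-invariant a(R). Here 'graded ring defined over a field' means R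
= ⊕_{n ≥ 0} R_n is Noetherian with R_0 a field, and m = R_+ is its unique graded maximal ideal. The
a-invariant a(R) is the largest degree in which the graded local cohomology H^n_m(R) (n = dim R, m =
R_+), computed from a *injective resolution of R in the graded category, is nonzero. The Veronese
subring R^(q) = ⊕_j R_{jq}, regraded by (R^(q))_j = R_{jq}, is presented abstractly as a ℤ-graded
ring R' with an injective ring homomorphism φ : R' → R carrying R'_j onto R_{jq} for every j. -/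
theorem result (R : Type u) [CommRing R] [LocCoh.IsCohenMacaulayRing R] (𝒜 : ℤ → AddSubgroup R) [GradedRing 𝒜] (hpos : ∀ n : ℤ, n < 0 → 𝒜 n = ⊥) (h0 : IsField (GrLC.deg0 𝒜)) (m : HomogeneousIdeal 𝒜) (hm : GrLC.IsStarLocal 𝒜 m) (hmsp : m.toIdeal = Ideal.span (⋃ n ∈ Set.Ioi (0 : ℤ), (𝒜 n : Set R))) (hstd : Ideal.span (⋃ n ∈ Set.Ioi (0 : ℤ), (𝒜 n : Set R)) = Ideal.span ((𝒜 1 : AddSubgroup R) : Set R)) (n : ℕ) (hn : ringKrullDim R = n) (h2 : 2 ≤ n) (I : GrLC.StarInjRes 𝒜 𝒜) (q : ℕ) (hq : 0 < q) (R' : Type u) [CommRing R'] (𝒜' : ℤ → AddSubgroup R') [GradedRing 𝒜'] (φ : R' →+* R) (hφ : Function.Injective φ) (hdeg : ∀ j : ℤ, (𝒜' j).map (φ : R' →+ R) = 𝒜 (j * q)) [LocCoh.IsGorensteinRing R'] : LocCoh.IsGorensteinRing R ∧ ∃ a : ℤ, GrLC.endDeg (I.Hgr m n) = ((a : WithTop ℤ) : WithBot (WithTop ℤ)) ∧ (q : ℤ) ∣ a := by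
  classical
  have hV : IsVeronese 𝒜 𝒜' φ q := ⟨hq, hφ, hdeg⟩
  haveI := isNoetherianRing_of_veronese hV
  have hpos' := veronese_pos hV hpos
  have h0' := veronese_isField hV h0
  have hm' := isStarLocal_irrH hpos' h0'
  haveI : (irrH 𝒜').toIdeal.IsPrime := isPrime_of_starLocal hm'
  have hn' : ringKrullDim R' = n := (veronese_ringKrullDim hV).trans hn
  have hht' : (irrH 𝒜').toIdeal.height = n := by
    have h := (Groth.Agent.GrFieldLib.height_irr 𝒜' hpos' h0').trans hn'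
    exact_mod_cast (show ((irrH 𝒜').toIdeal.height : WithBot ℕ∞) = n from h)
  obtain ⟨F⟩ := GrInjLib.exists_starInjRes 𝒜' 𝒜'
  obtain ⟨hle, hrad⟩ := irrelevant_radical hV hmsp (m' := (irrH 𝒜').toIdeal) rfl
  obtain ⟨Θ, hΘi, hΘ⟩ := exists_veronese_H hV I φ.toSemilinearMap hV.inj hV.hdeg (m := m) (m' := irrH 𝒜') hle hrad F n
  obtain ⟨-, d, y₀, hy1, hy2, hy3, hd2⟩ := exists_socle_degree hpos' hm' rfl hht' F
  letI : Field (GrLC.deg0 𝒜) := h0.toField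
  letI : Field (GrLC.deg0 𝒜') := h0'.toField
  have hF : F.Hgr (irrH 𝒜') n d ≠ ⊥ := fun h => hy2 (AddSubgroup.mem_bot.1 (h ▸ hy1))
  have hend : GrLC.endDeg (F.Hgr (irrH 𝒜') n) = ((d : WithTop ℤ) : WithBot (WithTop ℤ)) := by
    refine le_antisymm (iSup₂_le fun k hk => ?_) (le_iSup₂ (f := fun (k : ℤ)
      (_ : F.Hgr (irrH 𝒜') n k ≠ ⊥) => ((k : WithTop ℤ) : WithBot (WithTop ℤ))) d hF)
    obtain ⟨y, hy, hy0⟩ : ∃ y ∈ F.Hgr (irrH 𝒜') n k, y ≠ 0 := by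
      by_contra h
      push Not at h
      exact hk ((AddSubgroup.eq_bot_iff_forall _).2 h)
    exact WithBot.coe_le_coe.2 (WithTop.coe_le_coe.2 (hd2 k y hy hy0).1)
  obtain ⟨hone, -, hdual⟩ := gorenstein_pairing hpos' h0' hm' rfl hn' F hend
  -- the socle of the top local cohomology
  set a : ℤ := d * q with hadef
  have hσ : Θ y₀ ∈ I.Hgr m n a := (hΘ d).1 _ hy1
  have hσ0 : Θ y₀ ≠ 0 := fun h => hy2 (hΘi (h.trans (map_zero Θ).symm))
  let i₀ : GrLC.deg0 𝒜' →+* GrLC.deg0 𝒜 := (φ.comp (GrLC.deg0 𝒜').subtype).codRestrict _ fun r => by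
    show φ r.1 ∈ 𝒜 0
    have := hV.map_mem r.2
    rwa [zero_mul] at this
  have hline' : ∀ y ∈ F.Hgr (irrH 𝒜') n d, ∃ c : R', c ∈ 𝒜' 0 ∧ c • y₀ = y := by
    intro y hy
    haveI : Module.Finite (GrLC.deg0 𝒜') (F.Hcomp (irrH 𝒜') n d) := Module.finite_of_finrank_eq_succ hone
    obtain ⟨c, hc⟩ := exists_smul_eq_of_finrank_eq_one hone (x := (⟨y₀, hy1⟩ : F.Hcomp (irrH 𝒜') n d))
      (fun h => hy2 (congrArg Subtype.val h)) ⟨y, hy⟩
    exact ⟨c.1, c.2, congrArg Subtype.val hc⟩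
  have hline : ∀ y ∈ I.Hgr m n a, ∃ c : R, c ∈ 𝒜 0 ∧ c • Θ y₀ = y := by
    intro y hy
    obtain ⟨x, hx, rfl⟩ := (hΘ d).2 y hy
    obtain ⟨c, hc, rfl⟩ := hline' x hx
    exact ⟨φ c, by have := hV.map_mem hc; rwa [zero_mul] at this, (LinearMap.map_smulₛₗ Θ c y₀).symm⟩
  have hP : ∀ k : ℤ, (q : ℤ) ∣ a - k → ∀ x ∈ I.Hgr m n k, x ≠ 0 → ∃ r ∈ 𝒜 (a - k), r • x ≠ 0 := by
    intro k hk x hx hx0
    obtain ⟨e, he⟩ := hk
    have hke : k = (d - e) * q := by rw [sub_mul, mul_comm e, ← he]; ring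
    subst hke
    obtain ⟨x', hx', rfl⟩ := (hΘ (d - e)).2 x hx
    obtain ⟨-, r, hr, hrx⟩ := hd2 (d - e) x' hx' fun h => hx0 (by rw [h, map_zero])
    refine ⟨φ r, ?_, fun h => hrx (hΘi ?_)⟩
    · have := hV.map_mem hr
      rwa [sub_mul] at this
    · rw [map_zero]
      exact (LinearMap.map_smulₛₗ Θ r x').trans h
  have hS : ∀ i : ℤ, (q : ℤ) ∣ i → ∀ ψ : GrLC.comp 𝒜 𝒜 i →ₗ[GrLC.deg0 𝒜] I.Hcomp m n a,
      ∃ y ∈ I.Hgr m n (a - i), ∀ r : GrLC.comp 𝒜 𝒜 i, (r : R) • y = (ψ r).1 := by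
    rintro i ⟨j, rfl⟩ ψ
    have hv : ∀ r : GrLC.comp 𝒜' 𝒜' j, φ r.1 ∈ GrLC.comp 𝒜 𝒜 ((q : ℤ) * j) := fun r => by
      show φ r.1 ∈ 𝒜 _
      rw [mul_comm]
      exact hV.map_mem r.2
    choose w hw hwe using fun r : GrLC.comp 𝒜' 𝒜' j => (hΘ d).2 _ (ψ ⟨φ r.1, hv r⟩).2
    let ψ' : GrLC.comp 𝒜' 𝒜' j →ₗ[GrLC.deg0 𝒜'] F.Hcomp (irrH 𝒜') n d :=
      { toFun := fun r => ⟨w r, hw r⟩
        map_add' := fun r r' => Subtype.ext (hΘi (by
          show Θ (w (r + r')) = Θ (w r + w r')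
          rw [map_add, hwe, hwe, hwe]
          exact (congrArg (fun t => (ψ t).1) (show (⟨_, hv (r + r')⟩ : GrLC.comp 𝒜 𝒜 ((q : ℤ) * j)) =
            ⟨_, hv r⟩ + ⟨_, hv r'⟩ from Subtype.ext (map_add φ r.1 r'.1))).trans (congrArg Subtype.val (map_add ψ _ _))))
        map_smul' := fun c r => Subtype.ext (hΘi (by
          show Θ (w (c • r)) = Θ ((c : R') • w r)
          rw [LinearMap.map_smulₛₗ, hwe, hwe]
          exact (congrArg (fun t => (ψ t).1) (show (⟨_, hv (c • r)⟩ : GrLC.comp 𝒜 𝒜 ((q : ℤ) * j)) =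
            i₀ c • ⟨_, hv r⟩ from Subtype.ext (map_mul φ (c : R') r.1))).trans (congrArg Subtype.val (map_smul ψ _ _)))) }
    obtain ⟨hfin, hdim⟩ := hdual j
    haveI := hfin
    haveI : IsNoetherian (GrLC.deg0 𝒜') (GrLC.comp 𝒜' 𝒜' j) := GrInjLib.isNoetherian_comp 𝒜' 𝒜' j
    haveI : Module.Finite (GrLC.deg0 𝒜') (F.Hcomp (irrH 𝒜') n d) := Module.finite_of_finrank_eq_succ hone
    let H' := HMod F (irrH 𝒜') n
    let P : F.Hcomp (irrH 𝒜') n (d - j) →ₗ[GrLC.deg0 𝒜'] GrLC.comp 𝒜' 𝒜' j →ₗ[GrLC.deg0 𝒜'] F.Hcomp (irrH 𝒜') n d :=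
      LinearMap.mk₂ _ (fun x r => ⟨(r : R') • x.1, by
          have h : (r : R') • (x.1 : H'.carrier) ∈ H'.gr (j + (d - j)) := GrInjLib.smul_mem 𝒜' H'.gr r.2 x.2
          rwa [add_sub_cancel] at h⟩)
        (fun x x' r => Subtype.ext (smul_add _ _ _))
        (fun c x r => Subtype.ext (show (r : R') • ((c : R') • x.1) = (c : R') • ((r : R') • x.1) from smul_comm _ _ _))
        (fun x r r' => Subtype.ext (add_smul _ _ _))
        (fun c x r => Subtype.ext (show ((c : R') • (r : R')) • x.1 = (c : R') • ((r : R') • x.1) from smul_assoc _ _ _))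
    have hPinj : Function.Injective P := by
      refine (injective_iff_map_eq_zero P).2 fun x hx => Subtype.ext ?_
      by_contra hne
      obtain ⟨-, r, hr, hrx⟩ := hd2 _ x.1 x.2 hne
      rw [sub_sub_cancel] at hr
      exact hrx (congrArg Subtype.val (LinearMap.congr_fun hx ⟨r, hr⟩))
    obtain ⟨y, hy⟩ := (LinearMap.injective_iff_surjective_of_finrank_eq_finrank (by
      rw [Module.finrank_linearMap, hone, mul_one, hdim])).1 hPinj ψ'
    refine ⟨Θ y.1, ?_, fun r => ?_⟩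
    · have := (hΘ (d - j)).1 _ y.2
      rwa [sub_mul, mul_comm j] at this
    · obtain ⟨r', hr', hrr⟩ := hV.exists_preimage (j := j) (x := r.1) (by rw [mul_comm]; exact r.2)
      rw [show r = ⟨φ r', hv ⟨r', hr'⟩⟩ from Subtype.ext hrr.symm]
      refine (LinearMap.map_smulₛₗ Θ r' y.1).symm.trans ?_
      exact (congrArg Θ (congrArg Subtype.val (LinearMap.congr_fun hy ⟨r', hr'⟩))).trans (hwe ⟨r', hr'⟩)
  obtain ⟨hall, hS'⟩ := selfdual_of_veronese hpos h0 hmsp hstd hn h2 I hq hP hS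
  refine ⟨isGorensteinRing_of_selfdual hpos h0 hm hmsp hn I hσ hσ0 hline hall hS', a, ?_, ⟨d, mul_comm d _⟩⟩
  refine le_antisymm (iSup₂_le fun k hk => ?_) (le_iSup₂ (f := fun (k : ℤ)
    (_ : I.Hgr m n k ≠ ⊥) => ((k : WithTop ℤ) : WithBot (WithTop ℤ))) a fun h => hσ0 (AddSubgroup.mem_bot.1 (h ▸ hσ)))
  obtain ⟨y, hy, hy0⟩ : ∃ y ∈ I.Hgr m n k, y ≠ 0 := by
    by_contra h
    push Not at h
    exact hk ((AddSubgroup.eq_bot_iff_forall _).2 h)
  exact WithBot.coe_le_coe.2 (WithTop.coe_le_coe.2 (hall k y hy hy0).1)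

end Groth.Agent.S18642
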