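import Groth.Statements.S18654
import Groth.Agent.GrFieldLib.Top
import Groth.Agent.GrFieldLib.StdPoly

set_option autoImplicit false
universe u
open GrLC

namespace Groth.Agent.S18654
open GrInjLib Groth.Agent.GrFieldLib


/-- Let R be a graded ring defined over a field k = R_0 which is Cohen–Macaulay and generated over k by
R_1, with dim R ≥ 1, and write H(n, R) = dim_k R_n. Then H(n + 1, R) ≥ H(n, R) for every integer n.
Here 'graded ring defined over a field' means R = ⊕_{n ≥ 0} R_n is Noetherian with R_0 a field, and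
m = R_+ is its unique graded maximal ideal. -/
theorem result (R : Type u) [CommRing R] [LocCoh.IsCohenMacaulayRing R] (𝒜 : ℤ → AddSubgroup R) [GradedRing 𝒜] (hpos : ∀ n : ℤ, n < 0 → 𝒜 n = ⊥) (h0 : IsField (GrLC.deg0 𝒜)) (hstd : Ideal.span (⋃ n ∈ Set.Ioi (0 : ℤ), (𝒜 n : Set R)) = Ideal.span ((𝒜 1 : AddSubgroup R) : Set R)) (h1 : 1 ≤ ringKrullDim R) (n : ℤ) : Module.finrank (GrLC.deg0 𝒜) (GrLC.comp 𝒜 𝒜 n) ≤ Module.finrank (GrLC.deg0 𝒜) (GrLC.comp 𝒜 𝒜 (n + 1)) := by
  classical
  letI : Field (GrLC.deg0 𝒜) := h0.toField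
  have hpos' := eq_zero_of_neg hpos
  rcases lt_or_ge n 0 with hn | hn
  · haveI : Subsingleton (GrLC.comp 𝒜 𝒜 n) :=
      ⟨fun p q => Subtype.ext ((hpos' n hn p p.2).trans (hpos' n hn q q.2).symm)⟩
    rw [Module.finrank_zero_of_subsingleton]
    exact Nat.zero_le _
  haveI := irr_isMaximal 𝒜 hpos h0
  obtain ⟨D, hD⟩ := ENat.ne_top_iff_exists.1 (Ideal.height_ne_top (I := irr 𝒜) Ideal.IsPrime.ne_top')
  have hdim : ringKrullDim R = D := by rw [← height_irr 𝒜 hpos h0, ← hD]; rfl
  have hD1 : 1 ≤ D := by rw [hdim] at h1; exact_mod_cast h1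
  let m : HomogeneousIdeal 𝒜 := ⟨irr 𝒜, Ideal.homogeneous_span 𝒜 _ fun y hy => by
    obtain ⟨b, -, hb⟩ := Set.mem_iUnion₂.1 hy
    exact ⟨b, hb⟩⟩
  have hgam : ∀ y : R, y ∈ GrLC.gam (irr 𝒜) R → y = 0 := fun y hy => by
    rw [← DirectSum.sum_support_decompose (ringPieces 𝒜) y]
    exact Finset.sum_eq_zero fun g _ => eq_zero_of_van_zero (X := ringG (𝒜 := 𝒜))
      (van_below_dim (m := m) hpos h0 rfl hdim 0 (by omega) g)
      (DirectSum.decompose (ringPieces 𝒜) y g).2 (gam_homogeneous (ringPieces 𝒜) m g hy)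
  obtain ⟨h, b, hb, -, hgen, -⟩ := Std.exists_linear_basis (K := GrLC.deg0 𝒜) hpos'
    (fun c => c.2) (fun x hx => ⟨⟨x, hx⟩, rfl⟩) hstd
  let F : Polynomial R := ∑ j : Fin h, Polynomial.C (b j) * Polynomial.X ^ (j : ℕ)
  have hF : F ∈ nonZeroDivisors (Polynomial R) := by
    by_contra hF
    obtain ⟨a, ha0, haF⟩ := Polynomial.notMem_nonZeroDivisors_iff.1 hF
    refine ha0 (hgam a ⟨1, fun t ht => ?_⟩)
    rw [pow_one, hgen] at ht
    induction ht using Submodule.span_induction with
    | mem z hz =>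
      obtain ⟨j, rfl⟩ := hz
      have := congrArg (fun P => Polynomial.coeff P (j : ℕ)) haF
      simp only [Polynomial.coeff_smul, Polynomial.coeff_zero, F, Polynomial.finsetSum_coeff,
        Polynomial.coeff_C_mul, Polynomial.coeff_X_pow, smul_eq_mul] at this
      rw [Finset.sum_eq_single j (fun i _ hij => by
        rw [if_neg (fun e => hij (Fin.ext e.symm)), mul_zero]) (by simp), if_pos rfl, mul_one] at this
      rwa [smul_eq_mul, mul_comm]
    | zero => simp
    | add p q _ _ hp hq => rw [add_smul, hp, hq, add_zero]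
    | smul c p _ hp => rw [smul_assoc, hp, smul_zero]
  haveI : Module.Finite R (ringG (𝒜 := 𝒜)).carrier := inferInstanceAs (Module.Finite R R)
  haveI hVn : ∀ g, IsNoetherian (GrLC.deg0 𝒜) (GrLC.comp 𝒜 𝒜 g) := fun g =>
    isNoetherian_comp 𝒜 (ringPieces 𝒜) g
  let v := Module.finBasis (GrLC.deg0 𝒜) (GrLC.comp 𝒜 𝒜 n)
  let w := Module.finBasis (GrLC.deg0 𝒜) (GrLC.comp 𝒜 𝒜 (n + 1))
  have hprod : ∀ (i) (j : Fin h), b j * (v i : R) ∈ GrLC.comp 𝒜 𝒜 (n + 1) := fun i j => by
    show b j * (v i : R) ∈ 𝒜 (n + 1)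
    rw [add_comm n 1]
    exact SetLike.GradedMul.mul_mem (hb j) (v i).2
  let A : Fin (Module.finrank (GrLC.deg0 𝒜) (GrLC.comp 𝒜 𝒜 n)) →
      Fin (Module.finrank (GrLC.deg0 𝒜) (GrLC.comp 𝒜 𝒜 (n + 1))) → Polynomial (GrLC.deg0 𝒜) :=
    fun i l => ∑ j : Fin h, Polynomial.C (w.repr ⟨_, hprod i j⟩ l) * Polynomial.X ^ (j : ℕ)
  let ι : Polynomial (GrLC.deg0 𝒜) →+* Polynomial R := Polynomial.mapRingHom (GrLC.deg0 𝒜).subtype
  have hA : ∀ i, ∑ l, ι (A i l) * Polynomial.C (w l : R) = F * Polynomial.C (v i : R) := fun i => by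
    have hc : ∀ j : Fin h, ∑ l, ((w.repr ⟨_, hprod i j⟩ l : GrLC.deg0 𝒜) : R) * (w l : R) = b j * (v i : R) := by
      intro j
      have := congrArg Subtype.val (w.sum_repr ⟨_, hprod i j⟩)
      rw [Submodule.coe_sum] at this
      exact this
    simp only [A, ι, map_sum, map_mul, map_pow, Polynomial.coe_mapRingHom, Polynomial.map_C,
      Polynomial.map_X, Finset.sum_mul, Subring.subtype_apply, F]
    rw [Finset.sum_comm]
    refine Finset.sum_congr rfl fun j _ => ?_
    rw [mul_right_comm, ← map_mul,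
      show Polynomial.C (b j * (v i : R)) = ∑ l, Polynomial.C
        (((w.repr ⟨_, hprod i j⟩ l : GrLC.deg0 𝒜) : R) * (w l : R)) from by rw [← map_sum, hc j],
      Finset.sum_mul]
    exact Finset.sum_congr rfl fun l _ => by rw [mul_right_comm, ← map_mul]
  have hli : LinearIndependent (Polynomial (GrLC.deg0 𝒜)) A := by
    refine Fintype.linearIndependent_iff.2 fun g hg => ?_
    let G : Polynomial R := ∑ i, ι (g i) * Polynomial.C (v i : R)
    have hFG : G * F = 0 := by
      have h1 : ∀ l, ∑ i, g i * A i l = 0 := fun l => by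
        have := congrFun hg l
        simpa [Finset.sum_apply] using this
      calc G * F = ∑ i, ι (g i) * (F * Polynomial.C (v i : R)) := by
            rw [Finset.sum_mul]; exact Finset.sum_congr rfl fun i _ => by ring
        _ = ∑ l, ι (∑ i, g i * A i l) * Polynomial.C (w l : R) := by
            simp only [← hA, Finset.mul_sum, map_sum, map_mul, Finset.sum_mul]
            rw [Finset.sum_comm]
            simp only [mul_assoc]
        _ = 0 := by simp [h1]
    have hG : G = 0 := (mem_nonZeroDivisors_iff_right.1 hF) G hFG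
    intro i
    ext t : 1
    have h2 := congrArg (fun P => Polynomial.coeff P t) hG
    simp only [G, Polynomial.finsetSum_coeff, Polynomial.coeff_mul_C, ι, Polynomial.coe_mapRingHom,
      Polynomial.coeff_map, Polynomial.coeff_zero] at h2
    have h3 : ∑ i, (Polynomial.coeff (g i) t) • v i = 0 := Subtype.ext (by
      rw [Submodule.coe_sum]; exact h2)
    simpa using Fintype.linearIndependent_iff.1 v.linearIndependent _ h3 i
  have := hli.fintype_card_le_finrank
  simpa using this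

end Groth.Agent.S18654
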