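import Groth.Statements.S18643
import Groth.Agent.GrCoreLib.VeroneseType
import Groth.Agent.GorLib.CM
import Groth.Agent.S18654

set_option autoImplicit false
universe u
open GrLC

namespace Groth.Agent.S18643

/-- Let R be a graded ring defined over a field k = R_0 which is Gorenstein and generated over k by R_1,
with dim R ≥ 1 and dim_k R_1 ≥ 2, and let q ≥ 1. Then the Veronese subring R^(q) is a Gorenstein
ring if and only if q divides the a-invariant a(R). Here 'graded ring defined over a field' means R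
= ⊕_{n ≥ 0} R_n is Noetherian with R_0 a field, and m = R_+ is its unique graded maximal ideal. The
a-invariant a(R) is the largest degree in which the graded local cohomology H^n_m(R) (n = dim R, m =
R_+), computed from a *injective resolution of R in the graded category, is nonzero. The Veronese
subring R^(q) = ⊕_j R_{jq}, regraded by (R^(q))_j = R_{jq}, is presented abstractly as a ℤ-graded
ring R' with an injective ring homomorphism φ : R' → R carrying R'_j onto R_{jq} for every j. -/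
theorem result (R : Type u) [CommRing R] [LocCoh.IsGorensteinRing R] (𝒜 : ℤ → AddSubgroup R) [GradedRing 𝒜] (hpos : ∀ n : ℤ, n < 0 → 𝒜 n = ⊥) (h0 : IsField (GrLC.deg0 𝒜)) (m : HomogeneousIdeal 𝒜) (hm : GrLC.IsStarLocal 𝒜 m) (hmsp : m.toIdeal = Ideal.span (⋃ n ∈ Set.Ioi (0 : ℤ), (𝒜 n : Set R))) (hstd : Ideal.span (⋃ n ∈ Set.Ioi (0 : ℤ), (𝒜 n : Set R)) = Ideal.span ((𝒜 1 : AddSubgroup R) : Set R)) (hR1 : 2 ≤ Module.finrank (GrLC.deg0 𝒜) (GrLC.comp 𝒜 𝒜 1)) (n : ℕ) (hn : ringKrullDim R = n) (h1 : 1 ≤ n) (I : GrLC.StarInjRes 𝒜 𝒜) (a : ℤ) (ha : GrLC.endDeg (I.Hgr m n) = ((a : WithTop ℤ) : WithBot (WithTop ℤ))) (q : ℕ) (hq : 0 < q) (R' : Type u) [CommRing R'] (𝒜' : ℤ → AddSubgroup R') [GradedRing 𝒜'] (φ : R' →+* R) (hφ : Function.Injective φ) (hdeg : ∀ j : ℤ, (𝒜' j).map (φ : R' →+ R) = 𝒜 (j * q)) : LocCoh.IsGorensteinRing R' ↔ (q : ℤ) ∣ a := by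
  haveI : LocCoh.IsCohenMacaulayRing R := ⟨fun p hp => Groth.Agent.GorLib.isCohenMacaulay (Localization.AtPrime p)
    (LocCoh.IsGorensteinRing.isGorensteinLocalRing_localization p)⟩
  have hV : Groth.Agent.GrCoreLib.IsVeronese 𝒜 𝒜' φ q := ⟨hq, hφ, hdeg⟩
  refine ⟨fun hG => ?_, fun hd => Groth.Agent.GrCoreLib.isGorensteinRing_veronese hV hpos h0 hm hmsp hn I ha hd⟩
  haveI := hG
  have hq' : (0 : ℤ) < q := by exact_mod_cast hq
  let ρ : ℤ := a % q
  have hρ0 : 0 ≤ ρ := Int.emod_nonneg a hq'.ne'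
  have hρq : ρ < q := Int.emod_lt_of_pos a hq'
  have hρa : (q : ℤ) ∣ a - ρ := Int.dvd_self_sub_emod
  obtain ⟨F, hlow, j, hrank, hsoc⟩ := Groth.Agent.GrCoreLib.exists_socle_veronese hV hpos h0 hm hmsp hstd hn I ha hρ0 hρq hρa
  have hpos' := Groth.Agent.GrCoreLib.veronese_pos hV hpos
  have h0' := Groth.Agent.GrCoreLib.veronese_isField hV h0
  have hm' := Groth.Agent.GrCoreLib.isStarLocal_irrH hpos' h0'
  haveI : (Groth.Agent.GrCoreLib.irrH 𝒜').toIdeal.IsPrime := Groth.Agent.GrCoreLib.isPrime_of_starLocal hm'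
  have hht' : (Groth.Agent.GrCoreLib.irrH 𝒜').toIdeal.height = n := by
    have h := (Groth.Agent.GrFieldLib.height_irr 𝒜' hpos' h0').trans
      ((Groth.Agent.GrCoreLib.veronese_ringKrullDim hV).trans hn)
    exact_mod_cast (show ((Groth.Agent.GrCoreLib.irrH 𝒜').toIdeal.height : WithBot ℕ∞) = n from h)
  obtain ⟨-, d, y₀, hy1, hy2, hy3, hd2⟩ := Groth.Agent.GrCoreLib.exists_socle_degree hpos' hm' rfl hht' F
  letI : Field (GrLC.deg0 𝒜') := h0'.toField
  have hle : Module.finrank (GrLC.deg0 𝒜) (GrLC.comp 𝒜 𝒜 ρ) ≤ 1 := by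
    refine le_of_eq_of_le ((congrArg Cardinal.toNat hrank).trans (Cardinal.toNat_natCast _)).symm ?_
    show Module.finrank (GrLC.deg0 𝒜') (F.Hcomp (Groth.Agent.GrCoreLib.irrH 𝒜') n j) ≤ 1
    by_cases h : ∀ x : F.Hcomp (Groth.Agent.GrCoreLib.irrH 𝒜') n j, x = 0
    · haveI : Subsingleton (F.Hcomp (Groth.Agent.GrCoreLib.irrH 𝒜') n j) := subsingleton_of_forall_eq 0 h
      rw [Module.finrank_zero_of_subsingleton]; exact Nat.zero_le 1
    obtain ⟨x, hx⟩ := not_forall.1 h
    have hkill := fun r hr => (Groth.Agent.GrCoreLib.mem_killed _).1 ((hsoc x.1).2 x.2) r hr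
    obtain ⟨hjd, r, hr, hrx⟩ := hd2 j x.1 x.2 fun h => hx (Subtype.ext h)
    have hje : j = d := by
      by_contra hne
      exact hrx (hkill r (Ideal.subset_span (Set.mem_iUnion₂.2 ⟨d - j, show (0 : ℤ) < d - j by omega, hr⟩)))
    subst hje
    refine finrank_le_one ⟨y₀, hy1⟩ fun w => ?_
    obtain ⟨c, hc⟩ := hy3 w.1 w.2
    refine ⟨⟨_, (DirectSum.decompose 𝒜' c 0).2⟩, Subtype.ext ?_⟩
    show (DirectSum.decompose 𝒜' c 0 : R') • y₀ = w.1
    rw [← hc]
    have hk0 := fun r hr => (Groth.Agent.GrCoreLib.mem_killed _).1 ((hsoc y₀).2 hy1) r hr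
    have hsub : c - (DirectSum.decompose 𝒜' c 0 : R') ∈ (Groth.Agent.GrCoreLib.irrH 𝒜').toIdeal := by
      clear hc
      induction c using GrInjLib.smul_induction 𝒜' with
      | h0 => simp
      | hadd r s hr hs =>
        rw [DirectSum.decompose_add, DirectSum.add_apply, AddSubgroup.coe_add, add_sub_add_comm]
        exact add_mem hr hs
      | hhom b r hr =>
        rcases lt_trichotomy b 0 with hb | hb | hb
        · rw [hpos' b hb, AddSubgroup.mem_bot] at hr
          rw [hr]; simp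
        · subst hb; rw [DirectSum.decompose_of_mem_same 𝒜' hr, sub_self]; exact zero_mem _
        · rw [DirectSum.decompose_of_mem_ne 𝒜' hr hb.ne', sub_zero]
          exact Ideal.subset_span (Set.mem_iUnion₂.2 ⟨b, hb, hr⟩)
    have h := hk0 _ hsub
    rw [sub_smul, sub_eq_zero] at h
    exact h.symm
  by_contra hnd
  have hρ1 : 1 ≤ ρ := by
    by_contra h
    exact hnd (Int.dvd_of_emod_eq_zero (show a % q = 0 by omega))
  have hdim : (1 : WithBot ℕ∞) ≤ ringKrullDim R := by rw [hn]; exact_mod_cast h1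
  have hmono : ∀ e : ℕ, 2 ≤ Module.finrank (GrLC.deg0 𝒜) (GrLC.comp 𝒜 𝒜 (1 + e)) := by
    intro e
    induction e with
    | zero => simpa using hR1
    | succ e ih =>
      have h := Groth.Agent.S18654.result R 𝒜 hpos h0 hstd hdim (1 + e)
      rw [show (1 : ℤ) + ((e + 1 : ℕ) : ℤ) = 1 + e + 1 by push_cast; ring]
      exact ih.trans h
  obtain ⟨e, he⟩ := Int.le.dest hρ1
  have := hmono e
  rw [he] at this
  omega

end Groth.Agent.S18643
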