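import Groth.Statements.S18644
import Groth.Agent.GrFieldLib.AInvPoly

set_option autoImplicit false
universe u
open GrLC

namespace Groth.Agent.S18644
open GrInjLib Groth.Agent.GrFieldLib


/-- Let R be a graded ring defined over a field k = R_0 which is Cohen–Macaulay and generated over k by
R_1, of dimension r. Then a(R) = −r holds exactly when R is isomorphic to the polynomial ring over k
in r variables. Here 'graded ring defined over a field' means R = ⊕_{n ≥ 0} R_n is Noetherian with
R_0 a field, and m = R_+ is its unique graded maximal ideal. The a-invariant a(R) is the largest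
degree in which the graded local cohomology H^n_m(R) (n = dim R, m = R_+), computed from a
*injective resolution of R in the graded category, is nonzero. (The inequality a(R) ≥ −r of the same
lemma is stated separately.) -/
theorem result (R : Type u) [CommRing R] [LocCoh.IsCohenMacaulayRing R] (𝒜 : ℤ → AddSubgroup R) [GradedRing 𝒜] (hpos : ∀ n : ℤ, n < 0 → 𝒜 n = ⊥) (h0 : IsField (GrLC.deg0 𝒜)) (m : HomogeneousIdeal 𝒜) (hm : GrLC.IsStarLocal 𝒜 m) (hmsp : m.toIdeal = Ideal.span (⋃ n ∈ Set.Ioi (0 : ℤ), (𝒜 n : Set R))) (hstd : Ideal.span (⋃ n ∈ Set.Ioi (0 : ℤ), (𝒜 n : Set R)) = Ideal.span ((𝒜 1 : AddSubgroup R) : Set R)) (r : ℕ) (hr : ringKrullDim R = r) (I : GrLC.StarInjRes 𝒜 𝒜) : GrLC.endDeg (I.Hgr m r) = (((-(r : ℤ) : ℤ) : WithTop ℤ) : WithBot (WithTop ℤ)) ↔ Nonempty (R ≃+* MvPolynomial (Fin r) (GrLC.deg0 𝒜)) := by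
  classical
  letI : Field (GrLC.deg0 𝒜) := h0.toField
  haveI hnt : Nontrivial R := nontrivial_of_isField 𝒜 h0
  have hpos' := eq_zero_of_neg hpos
  have hK : ∀ c : GrLC.deg0 𝒜, algebraMap (GrLC.deg0 𝒜) R c ∈ 𝒜 0 := fun c => c.2
  have hK' : ∀ x ∈ 𝒜 0, ∃ c : GrLC.deg0 𝒜, algebraMap (GrLC.deg0 𝒜) R c = x := fun x hx => ⟨⟨x, hx⟩, rfl⟩
  have hvan : ∀ i, i < r → ∀ g, Van m (ringG (𝒜 := 𝒜)) i g := fun i hi g =>
    van_below_dim hpos h0 hmsp hr i hi g
  obtain ⟨h, b, hb, hli, hgen, hbound⟩ := Std.exists_linear_basis hpos' hK hK' hstd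
  have hsurj := Std.aeval_surjective hpos' hK' b hb hgen
  have hdimle : r ≤ h := by
    have h1 := ringKrullDim_le_of_surjective
      (MvPolynomial.aeval b : MvPolynomial (Fin h) (GrLC.deg0 𝒜) →ₐ[GrLC.deg0 𝒜] R).toRingHom hsurj
    rw [hr, MvPolynomial.ringKrullDim_of_isNoetherianRing, ringKrullDim_eq_zero_of_field, zero_add] at h1
    rw [Nat.card_eq_fintype_card, Fintype.card_fin] at h1
    exact_mod_cast h1
  have hend : ∀ d : ℤ, (∀ g, d < g → Van m (ringG (𝒜 := 𝒜)) r g) ↔
      GrLC.endDeg (I.Hgr m r) ≤ ((d : WithTop ℤ) : WithBot (WithTop ℤ)) := fun d =>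
    (van_endDeg (M := ringG (𝒜 := 𝒜)) (a := m) (addRes 𝒜 I) r d).symm
  constructor
  · intro ha
    have htop := (hend (-(r : ℤ))).2 ha.le
    have hinj : Function.Injective
        (MvPolynomial.aeval b : MvPolynomial (Fin h) (GrLC.deg0 𝒜) →ₐ[GrLC.deg0 𝒜] R) := by
      cases h with
      | zero => exact Std.aeval_injective_of_dim b hsurj (by rw [hr, Nat.le_zero.1 hdimle])
      | succ h =>
        obtain ⟨L, hL, hlen, hwr, hrad⟩ := exists_regular_seq hpos h0 hmsp hr
        exact Std.aeval_injective hpos' hK hK' hmsp hr hvan b hb hli hgen L hL hlen hwr hrad htop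
    let e := RingEquiv.ofBijective
      (MvPolynomial.aeval b : MvPolynomial (Fin h) (GrLC.deg0 𝒜) →ₐ[GrLC.deg0 𝒜] R).toRingHom ⟨hinj, hsurj⟩
    have h1 := ringKrullDim_eq_of_ringEquiv e
    rw [hr, MvPolynomial.ringKrullDim_of_isNoetherianRing, ringKrullDim_eq_zero_of_field, zero_add] at h1
    rw [Nat.card_eq_fintype_card, Fintype.card_fin] at h1
    have h2 : h = r := by norm_cast at h1
    subst h2
    exact ⟨e.symm⟩
  · rintro ⟨e⟩
    haveI : IsRegularRing R := IsRegularRing.of_ringEquiv e.symm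
    haveI := irr_isMaximal 𝒜 hpos h0
    haveI : IsRegularLocalRing (Localization.AtPrime (irr 𝒜)) :=
      IsRegularRing.isRegularLocalRing_localization (irr 𝒜)
    let P := Localization.AtPrime (irr 𝒜)
    have hspan : (IsLocalRing.maximalIdeal P).spanFinrank = r := by
      have h1 : ((IsLocalRing.maximalIdeal P).spanFinrank : WithBot ℕ∞) = r := by
        rw [IsRegularLocalRing.spanFinrank_maximalIdeal,
          IsLocalization.AtPrime.ringKrullDim_eq_height (irr 𝒜) P, height_irr 𝒜 hpos h0, hr]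
      exact_mod_cast h1
    obtain ⟨T, hTcard, hT⟩ := Submodule.FG.exists_span_finset_card_eq_spanFinrank
      (IsNoetherian.noetherian (IsLocalRing.maximalIdeal P))
    have hnum : ∀ i : Fin T.card, ∃ a ∈ irr 𝒜, ∃ s : (irr 𝒜).primeCompl,
        ((T.equivFin.symm i : P)) * algebraMap R P s = algebraMap R P a := by
      intro i
      obtain ⟨⟨a, s⟩, has⟩ := IsLocalization.surj (irr 𝒜).primeCompl ((T.equivFin.symm i : P))
      refine ⟨a, ?_, s, has⟩
      have hmem : algebraMap R P a ∈ IsLocalRing.maximalIdeal P := by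
        rw [← has]
        exact Ideal.mul_mem_right _ _ (hT.le (Submodule.subset_span (T.equivFin.symm i).2))
      exact (IsLocalization.AtPrime.to_map_mem_maximal_iff P (irr 𝒜) a).1 hmem
    choose a ha s has using hnum
    have hh : h ≤ r := by
      rw [← hspan, ← hTcard]
      refine hbound T.card a ha fun x hx => ?_
      have hx' : algebraMap R P x ∈ (Ideal.span (Set.range a)).map (algebraMap R P) := by
        have h1 : algebraMap R P x ∈ IsLocalRing.maximalIdeal P := by
          rw [IsLocalization.AtPrime.to_map_mem_maximal_iff P (irr 𝒜) x]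
          exact Ideal.subset_span (Set.mem_biUnion (x := (1 : ℤ)) (show (0 : ℤ) < 1 from one_pos) hx)
        refine (Submodule.span_le.2 ?_) (hT.ge h1)
        intro t ht
        have h2 := has (T.equivFin ⟨t, ht⟩)
        rw [Equiv.symm_apply_apply] at h2
        obtain ⟨u, hu⟩ := IsLocalization.map_units P (s (T.equivFin ⟨t, ht⟩))
        rw [← hu] at h2
        rw [SetLike.mem_coe, show t = algebraMap R P (a (T.equivFin ⟨t, ht⟩)) * (↑u⁻¹ : P) by
          rw [← h2, mul_assoc, Units.mul_inv, mul_one]]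
        exact Ideal.mul_mem_right _ _ (Ideal.mem_map_of_mem _ (Ideal.subset_span ⟨_, rfl⟩))
      obtain ⟨c, hc, hcx⟩ := (IsLocalization.algebraMap_mem_map_algebraMap_iff
        (irr 𝒜).primeCompl P _ x).1 hx'
      exact ⟨c, hc, hcx⟩
    obtain rfl : h = r := le_antisymm hh hdimle
    have hinj := Std.aeval_injective_of_dim b hsurj hr
    have key := Std.van_top_iff_of_bijective hpos' hK hmsp b hb hgen ⟨hinj, hsurj⟩ hvan
    refine le_antisymm ((hend _).1 ((key _).2 le_rfl)) ?_
    by_contra hlt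
    have h1 : GrLC.endDeg (I.Hgr m h) ≤ (((-(h : ℤ) - 1 : ℤ) : WithTop ℤ) : WithBot (WithTop ℤ)) := by
      generalize GrLC.endDeg (I.Hgr m h) = y at hlt
      induction y using WithBot.recBotCoe with
      | bot => exact bot_le
      | coe z =>
        induction z using WithTop.recTopCoe with
        | top => exact absurd (WithBot.coe_le_coe.2 le_top) hlt
        | coe z =>
          rw [WithBot.coe_le_coe, WithTop.coe_le_coe] at hlt ⊢
          omega
    have h2 := (key _).1 ((hend _).2 h1)
    omega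

end Groth.Agent.S18644
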