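import Groth.Statements.S18645
import Groth.Agent.GrFieldLib.Top
import Groth.Agent.GrRegLib.Poly

set_option autoImplicit false
universe u
open GrLC

namespace Groth.Agent.S18645
open GrInjLib Groth.Agent.GrFieldLib

theorem fne {R : Type u} [CommRing R] {t : ℕ} {f : Fin t → R} {I J : Ideal R} (i : Fin t) (hz : f i = 0)
    (hreg : RingTheory.Sequence.IsRegular R (List.ofFn f)) (hfm : ∀ j, f j ∈ I) (hIJ : I = J)
    (hJ : J.IsMaximal) : False := by
  have h1 := hreg.toIsWeaklyRegular.regular_mod_prev i.1 (by simp)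
  rw [List.getElem_ofFn, Fin.eta, hz] at h1
  have h2 := (isSMulRegular_iff_right_eq_zero_of_smul).1 h1 (Submodule.Quotient.mk (1 : R)) (zero_smul _ _)
  rw [Submodule.Quotient.mk_eq_zero, smul_eq_mul, Ideal.mul_top] at h2
  refine hJ.ne_top ((Ideal.eq_top_iff_one _).2 (hIJ ▸ Ideal.span_le.2 ?_ h2))
  intro y hy
  obtain ⟨j, rfl⟩ := List.mem_ofFn.1 (List.mem_of_mem_take hy)
  exact hfm j


/-- Let R be a graded ring defined over a field which is Cohen–Macaulay, of dimension n, and let f_1, …,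
f_t be an R-regular sequence of homogeneous elements of positive degrees d_1, …, d_t, with S =
R/(f_1, …, f_t). The canonical module of S is (K_R/(f_1, …, f_t)K_R)(d_1 + ⋯ + d_t); consequently —
this is the form stated here — the a-invariants satisfy a(S) = a(R) + d_1 + ⋯ + d_t, where a(S) is
the largest nonzero degree of H^{n−t}_m(S) and a(R) that of H^n_m(R), both graded local cohomologies
over R with support in m = R_+ computed from *injective resolutions in the graded category, and S is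
presented as a graded R-module N with a degree-preserving surjection π : R → N whose kernel is (f_1,
…, f_t). Here 'graded ring defined over a field' means R = ⊕_{n ≥ 0} R_n is Noetherian with R_0 a
field, and m = R_+ is its unique graded maximal ideal. -/
theorem result (R : Type u) [CommRing R] [LocCoh.IsCohenMacaulayRing R] (𝒜 : ℤ → AddSubgroup R) [GradedRing 𝒜] (hpos : ∀ n : ℤ, n < 0 → 𝒜 n = ⊥) (h0 : IsField (GrLC.deg0 𝒜)) (m : HomogeneousIdeal 𝒜) (hm : GrLC.IsStarLocal 𝒜 m) (hmsp : m.toIdeal = Ideal.span (⋃ n ∈ Set.Ioi (0 : ℤ), (𝒜 n : Set R))) (n : ℕ) (hn : ringKrullDim R = n) (I : GrLC.StarInjRes 𝒜 𝒜) (t : ℕ) (htn : t ≤ n) (f : Fin t → R) (deg : Fin t → ℤ) (hfdeg : ∀ i, f i ∈ 𝒜 (deg i)) (hfm : ∀ i, f i ∈ m.toIdeal) (hreg : RingTheory.Sequence.IsRegular R (List.ofFn f)) (N : Type u) [AddCommGroup N] [Module R N] (𝒩 : ℤ → AddSubgroup N) [DirectSum.Decomposition 𝒩] [SetLike.GradedSMul 𝒜 𝒩] (π : R →ₗ[R] N) (hπ : GrLC.IsGrHom 𝒜 𝒩 π) (hπs : Function.Surjective π) (hπk : LinearMap.ker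 π = Ideal.span (Set.range f)) (F : GrLC.StarInjRes 𝒜 𝒩) : GrLC.endDeg (F.Hgr m (n - t)) = GrLC.endDeg (I.Hgr m n) + ((((Finset.univ : Finset (Fin t)).sum deg : ℤ) : WithTop ℤ) : WithBot (WithTop ℤ)) := by
  have hadd : ∀ (x : WithBot (WithTop ℤ)) (s d : ℤ),
      x + ((s : WithTop ℤ) : WithBot (WithTop ℤ)) ≤ ((d : WithTop ℤ) : WithBot (WithTop ℤ)) ↔
        x ≤ (((d - s : ℤ) : WithTop ℤ) : WithBot (WithTop ℤ)) := by
    intro x s d
    induction x using WithBot.recBotCoe with
    | bot => simp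
    | coe y =>
      induction y using WithTop.recTopCoe with
      | top => rw [← WithBot.coe_add, WithTop.top_add]; simp
      | coe z =>
        rw [← WithBot.coe_add, WithBot.coe_le_coe, WithBot.coe_le_coe, ← WithTop.coe_add,
          WithTop.coe_le_coe, WithTop.coe_le_coe]
        omega
  have hmmax := irr_isMaximal 𝒜 hpos h0
  have hdeg : ∀ i, 0 < deg i := fun i => by
    rcases lt_trichotomy (deg i) 0 with h | h | h
    case inr.inr => exact h
    all_goals exfalso
    · have hz : f i ∈ (⊥ : AddSubgroup R) := hpos _ h ▸ hfdeg i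
      rw [AddSubgroup.mem_bot] at hz
      exact fne i hz hreg hfm hmsp hmmax
    · have hz : f i = 0 := by
        by_contra hne
        obtain ⟨b, hb⟩ := h0.mul_inv_cancel (a := (⟨f i, (congrArg (fun b => f i ∈ 𝒜 b) h).mp (hfdeg i)⟩ : GrLC.deg0 𝒜))
          fun hh => hne (congrArg Subtype.val hh)
        refine hmmax.ne_top ((Ideal.eq_top_iff_one _).2 ?_)
        rw [show (1 : R) = f i * (b : R) from (congrArg Subtype.val hb).symm]
        show f i * (b : R) ∈ Ideal.span _
        rw [← hmsp]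
        exact Ideal.mul_mem_right _ _ (hfm i)
      exact fne i hz hreg hfm hmsp hmmax
  let L : List (R × ℤ) := List.ofFn fun i => (f i, deg i)
  have hL1 : L.map Prod.fst = List.ofFn f := by simp [L, Function.comp_def]
  have hL2 : (L.map Prod.snd).sum = Finset.univ.sum deg := by simp [L, List.sum_ofFn, Function.comp_def]
  have hLlen : L.length = t := by simp [L]
  have hL : ∀ p ∈ L, p.1 ∈ 𝒜 p.2 ∧ 0 < p.2 := fun p hp => by
    obtain ⟨i, rfl⟩ := List.mem_ofFn.1 hp
    exact ⟨hfdeg i, hdeg i⟩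
  haveI : Module.Finite R (ringG (𝒜 := 𝒜)).carrier := inferInstanceAs (Module.Finite R R)
  refine GrInjLib.Poly.eq_of_forall_le_iff fun d => ?_
  rw [hadd]
  refine (van_endDeg (addRes 𝒩 F) (n - t) d).trans (Iff.trans ?_
    (van_endDeg (M := ringG (𝒜 := 𝒜)) (a := m) (addRes 𝒜 I) n (d - Finset.univ.sum deg)).symm)
  have hcount : n - t + L.length = n := by omega
  have hker : LinearMap.ker π = Ideal.ofList (L.map Prod.fst) • (⊤ : Submodule R R) := by
    rw [hπk, hL1, smul_eq_mul, Ideal.mul_top, Ideal.ofList]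
    congr 1
    ext y
    simp [List.mem_ofFn]
  have hwr : RingTheory.Sequence.IsWeaklyRegular R (L.map Prod.fst) := by
    rw [hL1]; exact hreg.toIsWeaklyRegular
  have key := van_quot_seq (m := m) (eq_zero_of_neg hpos) hmsp L hL (ringG (𝒜 := 𝒜)) (addG 𝒜 𝒩) π hwr hπs
    (fun g z hz => hπ g z hz) hker (n - t)
    (fun i hi g => van_below_dim hpos h0 hmsp hn i (by omega) g) d
  rw [hcount, hL2] at key
  exact key

end Groth.Agent.S18645
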