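import Mathlib
import Groth.Agent.GrSegreLib.Main
import Groth.Statements.S18647

set_option autoImplicit false
universe u
open scoped TensorProduct
open GrSegre

namespace Groth.Agent.S18647

/-- Let R and S be graded rings defined over a field k with dim R = r ≥ 1 and dim S = s ≥ 1. Then the
Segre product T = R # S has Krull dimension r + s − 1. Here a graded ring defined over k is a
commutative k-algebra of finite type, graded in nonnegative degrees by k-subspaces with degree-zero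
part k·1; the Segre product T = R # S = ⊕_n R_n ⊗_k S_n (graded by T_n = R_n ⊗_k S_n) is presented
abstractly as a graded k-algebra T with an injective k-algebra homomorphism ψ : T → R ⊗_k S carrying
T_n onto the k-span of the elementary tensors a ⊗ b with a ∈ R_n, b ∈ S_n, for every n. -/
theorem result (k : Type u) [Field k] (R : Type u) [CommRing R] [Algebra k R] (𝒜 : ℤ → Submodule k R) [GradedAlgebra 𝒜] (hposR : ∀ n : ℤ, n < 0 → 𝒜 n = ⊥) (h0R : 𝒜 0 = Submodule.span k {(1 : R)}) [Algebra.FiniteType k R] (S : Type u) [CommRing S] [Algebra k S] (ℬ : ℤ → Submodule k S) [GradedAlgebra ℬ] (hposS : ∀ n : ℤ, n < 0 → ℬ n = ⊥) (h0S : ℬ 0 = Submodule.span k {(1 : S)}) [Algebra.FiniteType k S] (T : Type u) [CommRing T] [Algebra k T] (𝒯 : ℤ → Submodule k T) [GradedAlgebra 𝒯] (ψ : T →ₐ[k] TensorProduct k R S) (hψ : Function.Injective ψ) (hdegT : ∀ n : ℤ, (𝒯 n).map ψ.toLinearMap = Submodule.span k {x : TensorProduct k R S | ∃ a ∈ 𝒜 n, ∃ b ∈ ℬ n, x = a ⊗ₜ[k]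 b}) (r s : ℕ) (hr : ringKrullDim R = r) (hs : ringKrullDim S = s) (h1r : 1 ≤ r) (h1s : 1 ≤ s) : ringKrullDim T = ((r + s - 1 : ℕ) : WithBot ℕ∞) := by
  open MvPolynomial Groth.Agent.GrSegreLib in
  haveI := finiteType_segre 𝒜 ℬ 𝒯 ψ hposR h0R hposS h0S hψ hdegT
  obtain ⟨r', rfl⟩ := Nat.exists_eq_succ_of_ne_zero (Nat.one_le_iff_ne_zero.mp h1r)
  obtain ⟨s', rfl⟩ := Nat.exists_eq_succ_of_ne_zero (Nat.one_le_iff_ne_zero.mp h1s)
  have hrI : ringKrullDim (R ⧸ (⊥ : Ideal R)) = ((r' + 1 : ℕ) : WithBot ℕ∞) :=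
    (ringKrullDim_eq_of_ringEquiv (RingEquiv.quotientBot R)).trans hr
  have hsJ : ringKrullDim (S ⧸ (⊥ : Ideal S)) = ((s' + 1 : ℕ) : WithBot ℕ∞) :=
    (ringKrullDim_eq_of_ringEquiv (RingEquiv.quotientBot S)).trans hs
  open MvPolynomial Groth.Agent.GrSegreLib in
  obtain ⟨DR, hDR, hR'⟩ := exists_homogeneous_algIndep 𝒜 hposR h0R ⊥ hrI
  open MvPolynomial Groth.Agent.GrSegreLib in
  obtain ⟨DS, hDS, hS'⟩ := exists_homogeneous_algIndep ℬ hposS h0S ⊥ hsJ
  obtain ⟨u, hu, huI⟩ := hR' DS hDS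
  obtain ⟨v, hv, hvJ⟩ := hS' DR hDR
  rw [Nat.mul_comm DR DS] at hv
  have hu0 : AlgebraicIndependent k u := AlgebraicIndependent.of_comp _ huI
  have hv0 : AlgebraicIndependent k v := AlgebraicIndependent.of_comp _ hvJ
  obtain ⟨w, hw⟩ := Groth.Agent.GrSegreLib.lower_bound 𝒜 ℬ 𝒯 ψ hdegT u hu v hv (1 : R)
    (fun F hF => (injective_iff_map_eq_zero _).mp (algebraicIndependent_iff_injective_aeval.mp hu0) F
      (by rwa [smul_eq_mul, mul_one] at hF))
    (1 : S)
    (fun F hF => (injective_iff_map_eq_zero _).mp (algebraicIndependent_iff_injective_aeval.mp hv0) F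
      (by rwa [smul_eq_mul, mul_one] at hF))
  have hwI : AlgebraicIndependent k w := by
    rw [algebraicIndependent_iff_injective_aeval, injective_iff_map_eq_zero]
    intro F hF
    refine hw F ?_
    rw [hF, map_zero, map_zero, LinearMap.zero_apply]
  haveI : Nontrivial T := (algebraicIndependent_iff_injective_aeval.mp hwI).nontrivial
  obtain ⟨n, hn⟩ := Groth.Agent.GrSegreLib.exists_nat_ringKrullDim (k := k) (A := T)
  have hlow := Groth.Agent.GrSegreLib.le_ringKrullDim_of_algIndep hwI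
  rw [hn] at hlow ⊢
  have hlow' : r' + 1 + s' ≤ n := by exact_mod_cast hlow
  obtain ⟨z, hz⟩ := Groth.Agent.GrSegreLib.exists_algIndep (k := k) hn
  have hinj : Function.Injective ((Groth.Agent.GrSegreLib.proj (k := k) (⊥ : Ideal R) (⊥ : Ideal S))) := by
    refine TensorProduct.map_injective_of_flat_flat (R := k)
      (Ideal.Quotient.mkₐ k (⊥ : Ideal R)).toLinearMap (Ideal.Quotient.mkₐ k (⊥ : Ideal S)).toLinearMap
      ?_ ?_ <;>
    · intro a b hab
      have h : Ideal.Quotient.mk _ a = Ideal.Quotient.mk _ b := hab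
      rwa [Ideal.Quotient.eq, Ideal.mem_bot, sub_eq_zero] at h
  have hup := Groth.Agent.GrSegreLib.upper_bound 𝒜 ℬ 𝒯 ψ hposR h0R h0S
    (⊥ : Ideal R) (fun a ha i => by rw [Ideal.mem_bot] at ha ⊢; subst ha; simp)
    (⊥ : Ideal S) (fun a ha i => by rw [Ideal.mem_bot] at ha ⊢; subst ha; simp)
    hdegT hrI hsJ (z := z) (by
      exact (hz.map' (f := ψ) hψ).map'
        (f := Groth.Agent.GrSegreLib.proj (k := k) (⊥ : Ideal R) (⊥ : Ideal S)) hinj)
  congr 2
  omega

end Groth.Agent.S18647
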