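import Groth.Statements.S18650
import Groth.Agent.GrCoreLib.TopInj

set_option autoImplicit false
universe u
open GrLC

namespace Groth.Agent.S18650
open Groth.Agent.GrCoreLib


/-- The case M = R of the published statement. Let R be a commutative Noetherian ℤ-graded ring which is
H-local, i.e. has a unique maximal graded ideal m, and which is Cohen–Macaulay, with ht m = n. Then
R is a Gorenstein ring if and only if the graded local cohomology module H^n_m(R) is an injective
object of the category of graded R-modules. Here H^n_m(R) is computed from a *injective resolution I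
of R in the graded category, and its *injectivity is expressed as the existence of a *injective
graded R-module X and an R-linear isomorphism H^n_m(R) ≅ X preserving degrees. (The published item
is stated for a Cohen–Macaulay graded module M and the notion of Gorenstein module; this row is its
case M = R.) -/
theorem result (R : Type u) [CommRing R] [LocCoh.IsCohenMacaulayRing R] (𝒜 : ℤ → AddSubgroup R) [GradedRing 𝒜] (m : HomogeneousIdeal 𝒜) (hm : GrLC.IsStarLocal 𝒜 m) (n : ℕ) (hn : m.toIdeal.height = n) (I : GrLC.StarInjRes 𝒜 𝒜) : LocCoh.IsGorensteinRing R ↔ ∃ (X : GrLC.GMod.{u} 𝒜) (φ : I.H m n ≃ₗ[R] X.carrier), GrLC.IsStarInj 𝒜 X.gr ∧ GrLC.IsGrHom (I.Hgr m n) X.gr φ.toLinearMap := by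
  haveI := isPrime_of_starLocal hm
  constructor
  · intro hG
    haveI := hG
    obtain ⟨f, hf⟩ := exists_hull_topH hn I
    let Q := GrInjLib.quotG 𝒜 (GrInjLib.ringPieces 𝒜) (GrInjLib.ideal_homogeneous 𝒜 m.isHomogeneous)
    obtain ⟨E', e, he⟩ := GrInjLib.exists_starInjHull 𝒜 Q.gr
    obtain ⟨g, φ, hφ⟩ := exists_shift_equiv_hull hm (HMod I m n) (hmod_torsion I m n) hf
      (E' := E'.carrier) (𝓔 := E'.gr) (e := (e : (R ⧸ m.toIdeal) →ₗ[R] E'.carrier)) he
    exact ⟨HMod I m n, LinearEquiv.refl R _, starInj_of_equiv φ hφ he.starInj, fun _ _ h => h⟩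
  · rintro ⟨X, φ, hX, hφ⟩
    have hI : GrLC.IsStarInj 𝒜 (HMod I m n).gr :=
      starInj_of_equiv (M := HMod I m n) (N := X) φ (g := 0) ((GrInjLib.isGrHom_iff _ _).1 hφ) hX
    have h1 := hasInjectiveDimensionLT_of_starInj hn I hI
    haveI : Module.Finite R (GrLC.GMod.of 𝒜 R 𝒜).carrier := Module.Finite.self R
    haveI : CategoryTheory.HasInjectiveDimensionLT (ModuleCat.of (Localization.AtPrime m.toIdeal)
        (LocalizedModule m.toIdeal.primeCompl (GrLC.GMod.of 𝒜 R 𝒜).carrier)) (n + 1) :=
      @CategoryTheory.hasInjectiveDimensionLT_of_iso _ _ _ _ _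
        ((Groth.Agent.Depth.localizedSelfEquiv m.toIdeal).toModuleIso).symm _ h1
    have h2 := hasInjectiveDimensionLT_of_max hm (GrLC.GMod.of 𝒜 R 𝒜) (d := n) inferInstance fun p hp => hp.homogeneousCore
    exact ((Groth.Agent.GorLib.hasInjectiveDimensionLT_self_iff R).1 ⟨_, h2⟩).1

end Groth.Agent.S18650
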