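import Groth.Statements.S18651
import Mathlib
import Groth.Agent.GrCoreLib.WeightedPoly
import Groth.Agent.GrCoreLib.VeroneseCanon
import Groth.Agent.S18638
import Groth.Agent.GorLib.Ring
import Groth.Agent.GorLib.CM

set_option autoImplicit false
universe u
attribute [local instance] MvPolynomial.weightedGradedAlgebra
open GrLC

namespace Groth.Agent.S18651
open Groth.Agent.GrCoreLib


/-- Let k be a field and R = k[X_1, …, X_N] the polynomial ring with deg X_i = w_i > 0. Then the
canonical module of R is K_R = X_1 X_2 ⋯ X_N · R ≅ R(−d) with d = w_1 + ⋯ + w_N; stated here as: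
there is a bijective R-linear map R → K_R homogeneous of degree d. The canonical module is
represented by a finitely generated graded module C together with a homogeneous isomorphism from
Hom_R(C, E) onto H^N_m(R), where m = R_+, E is a *injective envelope of R/m and H^N_m(R) is computed
from a *injective resolution of R in the graded category; by graded Matlis duality this says exactly
that C ≅ K_R as graded modules. -/
theorem result (k : Type u) [Field k] (N : ℕ) (w : Fin N → ℤ) (hw : ∀ i, 0 < w i) (m : HomogeneousIdeal (MvPolynomial.weightedHomogeneousSubmodule k w)) (hm : GrLC.IsStarLocal (MvPolynomial.weightedHomogeneousSubmodule k w) m) (hmsp : m.toIdeal = Ideal.span (⋃ n ∈ Set.Ioi (0 : ℤ), (MvPolynomial.weightedHomogeneousSubmodule k w n : Set (MvPolynomial (Fin N) k)))) (I : GrLC.StarInjRes (MvPolynomial.weightedHomogeneousSubmodule k w) (MvPolynomial.weightedHomogeneousSubmodule k w)) (E' : Type u) [AddCommGroup E'] [Module (MvPolynomial (Fin N) k) E'] (𝓔 : ℤ → AddSubgroup E') [DirectSum.Decomposition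 𝓔] [SetLike.GradedSMul (MvPolynomial.weightedHomogeneousSubmodule k w) 𝓔] (e : (MvPolynomial (Fin N) k ⧸ m.toIdeal) →ₗ[MvPolynomial (Fin N) k] E') (he : GrLC.IsStarInjHull (MvPolynomial.weightedHomogeneousSubmodule k w) (GrLC.quotGr (MvPolynomial.weightedHomogeneousSubmodule k w) m) 𝓔 e) (C : Type u) [AddCommGroup C] [Module (MvPolynomial (Fin N) k) C] (𝒞 : ℤ → AddSubgroup C) [DirectSum.Decomposition 𝒞] [SetLike.GradedSMul (MvPolynomial.weightedHomogeneousSubmodule k w) 𝒞] (hC : GrLC.IsStarCanonical (MvPolynomial.weightedHomogeneousSubmodule k w) 𝒞 𝓔 m N I) : ∃ f : MvPolynomial (Fin N) k →ₗ[MvPolynomial (Fin N) k] C, Function.Bijective f ∧ GrLC.IsGrHomDeg (MvPolynomial.weightedHomogeneousSubmodule k w) 𝒞 f ((Finset.univ : Finset (Fin N)).sum w) := by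
  classical
  set 𝒜 := GrInjLib.ringPieces (MvPolynomial.weightedHomogeneousSubmodule k w) with h𝒜
  haveI hreg : IsRegularRing (MvPolynomial (Fin N) k) := inferInstance
  haveI hG : LocCoh.IsGorensteinRing (MvPolynomial (Fin N) k) := Groth.Agent.GorLib.gorensteinRing_of_regular _
  haveI : LocCoh.IsCohenMacaulayRing (MvPolynomial (Fin N) k) :=
    { isCohenMacaulayLocalRing_localization := fun p _ =>
        Groth.Agent.GorLib.isCohenMacaulay _ (hG.isGorensteinLocalRing_localization p) }
  have hpos : ∀ n : ℤ, n < 0 → 𝒜 n = ⊥ := weighted_pos w hw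
  have h0 := weighted_isField (k := k) w hw
  have hmsp' : (Regrade.toA m).toIdeal = Groth.Agent.GrFieldLib.irr 𝒜 := hmsp
  have hn : ringKrullDim (MvPolynomial (Fin N) k) = N := by
    rw [MvPolynomial.ringKrullDim_of_isNoetherianRing, ringKrullDim_eq_zero_of_field]
    simp
  have hC' := Regrade.starCanonical hC
  have he' := Regrade.starInjHull he
  obtain ⟨a, f, hf, hfa⟩ := (Groth.Agent.S18638.result (MvPolynomial (Fin N) k) 𝒜 hpos h0 (Regrade.toA m)
    (Regrade.isStarLocal m hm) hmsp' N hn (Regrade.ringRes I) E' 𝓔 e he' C 𝒞 hC').1 hG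
  suffices ha : a = (Finset.univ : Finset (Fin N)).sum w by
    subst ha
    exact ⟨f, hf, fun i x hx => hfa i x hx⟩
  haveI : Module.Finite (MvPolynomial (Fin N) k) C := hC.1
  obtain ⟨-, Φ, hΦ⟩ := hC'
  have hH := GrInjLib.H_isInternal (Regrade.ringRes I) (Regrade.toA m) N
  have hend := weighted_endDeg (k := k) w hw hmsp' (Regrade.ringRes I)
  -- the canonical module starts in degree `a`
  have hlow : ∀ j, j < a → ∀ y ∈ 𝒞 j, y = 0 := by
    intro j hj y hy
    obtain ⟨r, rfl⟩ := hf.2 y
    rw [← GrInjLib.proj_of_mem 𝒞 hy, ← DirectSum.sum_support_decompose 𝒜 r, map_sum, map_sum]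
    refine Finset.sum_eq_zero fun i _ => ?_
    by_cases hi : i < 0
    · rw [show (DirectSum.decompose 𝒜 r i : MvPolynomial (Fin N) k) = 0 from
        Groth.Agent.GrFieldLib.eq_zero_of_neg hpos i hi _ (DirectSum.decompose 𝒜 r i).2, map_zero, map_zero]
    · exact GrInjLib.proj_of_mem_ne 𝒞 (hfa i _ (DirectSum.decompose 𝒜 r i).2) (by omega)
  -- so the top local cohomology vanishes above degree `-a`
  have hhigh : ∀ d, -a < d → (Regrade.ringRes I).Hgr (Regrade.toA m) N d = ⊥ := by
    intro d hd
    refine (AddSubgroup.eq_bot_iff_forall _).2 fun x hx => ?_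
    have h1 := exists_homDeg_of_mem hH Φ hΦ hx
    have h2 : Φ.symm x = 0 :=
      Groth.Agent.GrFieldLib.Dual.eq_zero_of_piece hpos hmsp' he' h1 fun y hy => by
        rw [hlow (-d) (by omega) y hy, map_zero]
    exact Φ.symm.map_eq_zero_iff.1 h2
  -- and does not vanish in degree `-a`
  have hne : (Regrade.ringRes I).Hgr (Regrade.toA m) N (-a) ≠ ⊥ := by
    intro hbot
    let c : GrLC.comp 𝒜 𝒞 a := ⟨f 1, by
      have h1 := hfa 0 1 (SetLike.GradedOne.one_mem (A := 𝒜))
      rwa [zero_add] at h1⟩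
    have hc : c ≠ 0 := fun h => one_ne_zero (hf.1 ((congrArg Subtype.val h).trans (map_zero f).symm))
    refine hc ((piecePairing_bijective (C := C) 𝒞 hpos h0 hmsp' he' a).1 ?_)
    rw [map_zero]
    refine LinearMap.ext fun h => ?_
    have h1 : Φ h.1 = 0 := (AddSubgroup.eq_bot_iff_forall _).1 hbot _ (hΦ _ _ h.2)
    rw [show h = 0 from Subtype.ext (Φ.map_eq_zero_iff.1 h1), map_zero, map_zero]
  refine neg_injective (le_antisymm ?_ ?_)
  · have h1 : (((-a : ℤ) : WithTop ℤ) : WithBot (WithTop ℤ)) ≤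
        GrLC.endDeg ((Regrade.ringRes I).Hgr (Regrade.toA m) N) :=
      le_iSup₂ (f := fun (g : ℤ) (_ : (Regrade.ringRes I).Hgr (Regrade.toA m) N g ≠ ⊥) =>
        ((g : WithTop ℤ) : WithBot (WithTop ℤ))) (-a) hne
    rw [hend, WithBot.coe_le_coe, WithTop.coe_le_coe] at h1
    exact h1
  · have h1 : GrLC.endDeg ((Regrade.ringRes I).Hgr (Regrade.toA m) N) ≤
        (((-a : ℤ) : WithTop ℤ) : WithBot (WithTop ℤ)) := by
      refine iSup₂_le fun d hd => ?_
      rw [WithBot.coe_le_coe, WithTop.coe_le_coe]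
      by_contra h
      exact hd (hhigh d (by omega))
    rw [hend, WithBot.coe_le_coe, WithTop.coe_le_coe] at h1
    exact h1

end Groth.Agent.S18651
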