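import Groth.Statements.S18653
import Mathlib


set_option autoImplicit false
universe u
open GrLC

namespace Groth.Agent.S18653

/-- Let R be a graded ring defined over an algebraically closed field k which is an integral domain of
dimension one. Then R is isomorphic to a semigroup ring (the subring of k[T] spanned by the
monomials T^h, h in an additive submonoid H of ℕ); moreover, if R is generated over k by R_1, then R
is a polynomial ring k[T]. Here a graded ring defined over k is a commutative k-algebra of finite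
type graded in nonnegative degrees by k-subspaces with degree-zero part k·1; the isomorphisms
asserted are ring isomorphisms. -/
theorem result (k : Type u) [Field k] [IsAlgClosed k] (R : Type u) [CommRing R] [IsDomain R] [Algebra k R] (𝒜 : ℤ → Submodule k R) [GradedAlgebra 𝒜] (hpos : ∀ n : ℤ, n < 0 → 𝒜 n = ⊥) (h0 : 𝒜 0 = Submodule.span k {(1 : R)}) [Algebra.FiniteType k R] (h1 : ringKrullDim R = 1) : (∃ H : AddSubmonoid ℕ, Nonempty (R ≃+* AddMonoidAlgebra k H)) ∧ (Ideal.span (⋃ n ∈ Set.Ioi (0 : ℤ), (𝒜 n : Set R)) = Ideal.span ((𝒜 1 : Submodule k R) : Set R) → Nonempty (R ≃+* Polynomial k)) := by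
  classical
  haveI : IsNoetherianRing R := Algebra.FiniteType.isNoetherianRing k R
  haveI : IsJacobsonRing R := isJacobsonRing_of_finiteType (A := k) (B := R)
  set irr : Ideal R := Ideal.span (⋃ n ∈ Set.Ioi (0 : ℤ), (𝒜 n : Set R)) with hirr
  have hneg : ∀ n : ℤ, n < 0 → ∀ x ∈ 𝒜 n, x = 0 := fun n hn x hx => by
    rw [hpos n hn] at hx; exact (Submodule.mem_bot k).1 hx
  have hscal : ∀ x ∈ 𝒜 0, ∃ c : k, algebraMap k R c = x := fun x hx => by
    rw [h0] at hx
    obtain ⟨c, hc⟩ := Submodule.mem_span_singleton.1 hx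
    exact ⟨c, by rw [← hc, Algebra.smul_def, mul_one]⟩
  -- every element is a scalar modulo the irrelevant ideal
  have hsplit : ∀ x : R, x - (DirectSum.decompose 𝒜 x 0 : R) ∈ irr := by
    intro x
    induction x using DirectSum.Decomposition.inductionOn 𝒜 with
    | zero => simp
    | add a b ha hb =>
      rw [DirectSum.decompose_add, DirectSum.add_apply, Submodule.coe_add, add_sub_add_comm]
      exact add_mem ha hb
    | @homogeneous i y =>
      rcases lt_trichotomy i 0 with h | h | h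
      · rw [hneg i h _ y.2]; simp
      · subst h; rw [DirectSum.decompose_of_mem_same 𝒜 y.2, sub_self]; exact zero_mem _
      · rw [DirectSum.decompose_of_mem_ne 𝒜 y.2 h.ne', sub_zero]
        exact Ideal.subset_span (Set.mem_iUnion₂.2 ⟨i, h, y.2⟩)
  have hirr0 : ∀ x ∈ irr, (DirectSum.decompose 𝒜 x 0 : R) = 0 := by
    suffices h : ∀ x ∈ irr, ∀ r : R, (DirectSum.decompose 𝒜 (r * x) 0 : R) = 0 from
      fun x hx => by simpa using h x hx 1
    intro x hx
    induction hx using Submodule.span_induction with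
    | mem y hy =>
      obtain ⟨n, hn, hyn⟩ := Set.mem_iUnion₂.1 hy
      intro r
      have h := DirectSum.coe_decompose_mul_add_of_right_mem 𝒜 (a := r) (i := -n) hyn
      rw [neg_add_cancel] at h
      rw [h, hneg (-n) (by have : (0 : ℤ) < n := hn; omega) _ (DirectSum.decompose 𝒜 r (-n)).2, zero_mul]
    | zero => intro r; simp
    | add a b _ _ ha hb => intro r; rw [mul_add, DirectSum.decompose_add, DirectSum.add_apply, Submodule.coe_add, ha r, hb r, add_zero]
    | smul c y _ hy => intro r; rw [smul_eq_mul, ← mul_assoc]; exact hy _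
  have hirrne : irr ≠ ⊤ := fun h => one_ne_zero (α := R) (by
    have := hirr0 1 (h.ge Submodule.mem_top)
    rwa [DirectSum.decompose_of_mem_same 𝒜 (SetLike.GradedOne.one_mem (A := 𝒜))] at this)
  -- a nonzero homogeneous element of positive degree
  obtain ⟨ν, y, hν, hy, hy0⟩ : ∃ (ν : ℤ) (y : R), 0 < ν ∧ y ∈ 𝒜 ν ∧ y ≠ 0 := by
    by_contra! h
    have hb : irr = ⊥ := Ideal.span_eq_bot.2 fun x hx => by
      obtain ⟨n, hn, hxn⟩ := Set.mem_iUnion₂.1 hx
      exact h n x hn hxn
    have hf : IsField R := by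
      refine ⟨exists_pair_ne R, mul_comm, fun {a} ha => ?_⟩
      have h1 := hsplit a
      rw [hb, Submodule.mem_bot, sub_eq_zero] at h1
      obtain ⟨c, hc⟩ := hscal _ (DirectSum.decompose 𝒜 a 0).2
      have hc0 : c ≠ 0 := fun e => ha (by rw [h1, ← hc, e, map_zero])
      exact ⟨algebraMap k R c⁻¹, by rw [h1, ← hc, ← map_mul, mul_inv_cancel₀ hc0, map_one]⟩
    letI := hf.toField
    rw [ringKrullDim_eq_zero_of_field] at h1
    exact zero_ne_one h1
  haveI : Ring.KrullDimLE 1 R := Ring.krullDimLE_iff.2 h1.le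
  have hprimemax : ∀ p : Ideal R, p.IsPrime → p ≠ ⊥ → p.IsMaximal := fun p hp h => by
    haveI := hp
    haveI : (⊥ : Ideal R).IsPrime := Ideal.isPrime_bot
    exact Ring.krullDimLE_one_iff_of_isPrime_bot.1 ‹_› p h hp
  have hhom : irr.IsHomogeneous 𝒜 := Ideal.homogeneous_span 𝒜 _ fun x hx => by
    obtain ⟨n, -, hn⟩ := Set.mem_iUnion₂.1 hx
    exact ⟨n, hn⟩
  -- a prime containing a nonzero homogeneous element of positive degree is the irrelevant ideal
  have honly : ∀ (e : ℤ) (x : R), 0 < e → x ∈ 𝒜 e → x ≠ 0 → ∀ P : Ideal R, P.IsPrime → x ∈ P → P = irr := by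
    intro e x he hx hx0 P hP hxP
    let Q := P.homogeneousCore 𝒜
    have hQ : Q.toIdeal.IsPrime := hP.homogeneousCore
    have hxQ : x ∈ Q.toIdeal := Ideal.mem_homogeneousCore_of_homogeneous_of_mem ⟨e, hx⟩ hxP
    have hQmax := hprimemax _ hQ fun h => hx0 ((Submodule.mem_bot R).1 (h.le hxQ))
    have hQirr : Q.toIdeal ≤ irr := by
      intro z hz
      have h0z := Q.isHomogeneous 0 hz
      obtain ⟨c, hc⟩ := hscal _ (DirectSum.decompose 𝒜 z 0).2
      by_cases hc0 : c = 0
      · have := hsplit z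
        rwa [← hc, hc0, map_zero, sub_zero] at this
      · exfalso
        refine hQ.ne_top (Q.toIdeal.eq_top_of_isUnit_mem h0z ?_)
        show IsUnit ((DirectSum.decompose 𝒜 z 0 : R))
        rw [← hc]
        exact (isUnit_iff_ne_zero.2 hc0).map _
    exact ((hQmax.eq_of_le hP.ne_top (Ideal.toIdeal_homogeneousCore_le 𝒜 P)).symm.trans
      (hQmax.eq_of_le hirrne hQirr))
  -- a point off the vertex
  obtain ⟨P, hPmax, hyP⟩ : ∃ P : Ideal R, P.IsMaximal ∧ y ∉ P := by
    by_contra! h
    have : y ∈ Ideal.jacobson (⊥ : Ideal R) := Ideal.mem_sInf.2 fun J hJ => h J hJ.2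
    rw [IsJacobsonRing.out inferInstance (Ideal.isRadical_bot_iff.2 inferInstance)] at this
    exact hy0 ((Submodule.mem_bot R).1 this)
  haveI := hPmax
  letI := Ideal.Quotient.field P
  haveI : Algebra.FiniteType k (R ⧸ P) := inferInstance
  haveI : Module.Finite k (R ⧸ P) := finite_of_finite_type_of_isJacobsonRing k (R ⧸ P)
  let ev : R →ₐ[k] k :=
    (AlgEquiv.ofBijective (Algebra.ofId k (R ⧸ P))
      ⟨(algebraMap k (R ⧸ P)).injective, IsAlgClosed.algebraMap_bijective_of_isIntegral.2⟩).symm.toAlgHom.comp (Ideal.Quotient.mkₐ k P)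
  have hev0 : ∀ (e : ℤ) (x : R), x ∈ 𝒜 e → x ≠ 0 → ev x ≠ 0 := by
    intro e x hx hx0 hev
    have hxP : x ∈ P := Ideal.Quotient.eq_zero_iff_mem.1 (by
      simpa [ev] using hev)
    rcases lt_trichotomy e 0 with he | he | he
    · exact hx0 (hneg e he x hx)
    · subst he
      obtain ⟨c, rfl⟩ := hscal x hx
      exact hPmax.ne_top (P.eq_top_of_isUnit_mem hxP
        ((isUnit_iff_ne_zero.2 fun h => hx0 (by rw [h, map_zero])).map _))
    · have h1 := honly e x he hx hx0 P hPmax.isPrime hxP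
      exact hyP (h1 ▸ Ideal.subset_span (Set.mem_iUnion₂.2 ⟨ν, hν, hy⟩))
  -- the pieces are lines
  have hinjev : ∀ (e : ℤ) (x x' : R), x ∈ 𝒜 e → x' ∈ 𝒜 e → ev x = ev x' → x = x' := by
    intro e x x' hx hx' h
    by_contra hne
    exact hev0 e (x - x') (sub_mem hx hx') (sub_ne_zero.2 hne) (by rw [map_sub, h, sub_self])
  let H : AddSubmonoid ℕ :=
    { carrier := {n | ∃ x ∈ 𝒜 (n : ℤ), x ≠ 0}
      zero_mem' := ⟨1, by simpa using SetLike.GradedOne.one_mem (A := 𝒜), one_ne_zero⟩
      add_mem' := fun {a b} ⟨x, hx, hx0⟩ ⟨z, hz, hz0⟩ =>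
        ⟨x * z, by push_cast; exact SetLike.GradedMul.mul_mem hx hz, mul_ne_zero hx0 hz0⟩ }
  let f : ∀ n : ℤ, 𝒜 n →+ AddMonoidAlgebra k H := fun n =>
    if h : 0 ≤ n ∧ n.toNat ∈ H then
      AddMonoidHom.mk' (fun x => AddMonoidAlgebra.single ⟨n.toNat, h.2⟩ (ev (x : R)))
        (fun x z => by rw [Submodule.coe_add, map_add, AddMonoidAlgebra.single_add])
    else 0
  let ψ : R →+ AddMonoidAlgebra k H :=
    (DirectSum.toAddMonoid f).comp (DirectSum.decomposeAddEquiv 𝒜).toAddMonoidHom
  have hψ : ∀ (n : ℕ) (x : R) (hn : n ∈ H), x ∈ 𝒜 (n : ℤ) → ψ x = AddMonoidAlgebra.single ⟨n, hn⟩ (ev x) := by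
    intro n x hn hx
    show DirectSum.toAddMonoid f (DirectSum.decompose 𝒜 x) = _
    rw [DirectSum.decompose_of_mem 𝒜 hx, DirectSum.toAddMonoid_of]
    have hc : 0 ≤ (n : ℤ) ∧ (n : ℤ).toNat ∈ H := ⟨Int.natCast_nonneg n, by simpa using hn⟩
    simp only [f, dif_pos hc]
    rfl
  have hhom' : ∀ (e : ℤ) (x : R), x ∈ 𝒜 e → x ≠ 0 → ∃ n : ℕ, (n : ℤ) = e ∧ n ∈ H := by
    intro e x hx hx0
    refine ⟨e.toNat, Int.toNat_of_nonneg (le_of_not_gt fun h => hx0 (hneg e h x hx)), x, ?_, hx0⟩
    rwa [Int.toNat_of_nonneg (le_of_not_gt fun h => hx0 (hneg e h x hx))]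
  have hψ1 : ψ 1 = 1 := by
    rw [hψ 0 1 H.zero_mem (by simpa using SetLike.GradedOne.one_mem (A := 𝒜)), map_one]
    rfl
  have hψm : ∀ x z, ψ (x * z) = ψ x * ψ z := by
    intro x z
    induction x using DirectSum.Decomposition.inductionOn 𝒜 with
    | zero => simp
    | add a b ha hb => rw [add_mul, map_add, ha, hb, map_add, add_mul]
    | @homogeneous i a =>
      induction z using DirectSum.Decomposition.inductionOn 𝒜 with
      | zero => simp
      | add p q hp hq => rw [mul_add, map_add, hp, hq, map_add, mul_add]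
      | @homogeneous j b =>
        by_cases ha : (a : R) = 0
        · simp [ha]
        by_cases hb : (b : R) = 0
        · simp [hb]
        obtain ⟨n, rfl, hn⟩ := hhom' i _ a.2 ha
        obtain ⟨l, rfl, hl⟩ := hhom' j _ b.2 hb
        rw [hψ n _ hn a.2, hψ l _ hl b.2, AddMonoidAlgebra.single_mul_single,
          hψ (n + l) _ (H.add_mem hn hl) (by push_cast; exact SetLike.GradedMul.mul_mem a.2 b.2), map_mul]
        rfl
  let Ψ : R →+* AddMonoidAlgebra k H :=
    { toFun := ψ, map_one' := hψ1, map_mul' := hψm, map_zero' := map_zero ψ, map_add' := map_add ψ }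
  have hbij : Function.Bijective Ψ := by
    constructor
    · rw [injective_iff_map_eq_zero]
      intro x hx
      rw [← DirectSum.sum_support_decompose 𝒜 x]
      refine Finset.sum_eq_zero fun e _ => ?_
      by_contra hne
      obtain ⟨n, rfl, hn⟩ := hhom' e _ (DirectSum.decompose 𝒜 x e).2 hne
      refine hev0 _ _ (DirectSum.decompose 𝒜 x (n : ℤ)).2 hne ?_
      have h2 : ∀ z : R, (ψ z).coeff ⟨n, hn⟩ = ev (DirectSum.decompose 𝒜 z (n : ℤ) : R) := by
        intro z
        induction z using DirectSum.Decomposition.inductionOn 𝒜 with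
        | zero => simp
        | add p q hp hq => rw [map_add, DirectSum.decompose_add, DirectSum.add_apply, Submodule.coe_add, map_add, AddMonoidAlgebra.coeff_add, Finsupp.add_apply, hp, hq]
        | @homogeneous j b =>
          by_cases hb : (b : R) = 0
          · simp [hb]
          obtain ⟨l, rfl, hl⟩ := hhom' j _ b.2 hb
          rw [hψ l _ hl b.2, AddMonoidAlgebra.coeff_single]
          by_cases hln : l = n
          · subst hln; rw [Finsupp.single_eq_same, DirectSum.decompose_of_mem_same 𝒜 b.2]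
          · rw [Finsupp.single_eq_of_ne (fun e => hln (congrArg Subtype.val e).symm),
              DirectSum.decompose_of_mem_ne 𝒜 b.2 (by exact_mod_cast hln), map_zero]
      rw [← h2, show ψ x = 0 from hx]
      rfl
    · intro F
      induction F using AddMonoidAlgebra.induction_linear with
      | zero => exact ⟨0, map_zero Ψ⟩
      | add p q hp hq =>
        obtain ⟨a, ha⟩ := hp
        obtain ⟨b, hb⟩ := hq
        exact ⟨a + b, by rw [map_add, ha, hb]⟩
      | single h c =>
        obtain ⟨n, hn⟩ := h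
        obtain ⟨x, hx, hx0⟩ := hn
        refine ⟨(c / ev x) • x, ?_⟩
        show ψ _ = _
        rw [hψ n _ ⟨x, hx, hx0⟩ (Submodule.smul_mem _ _ hx), map_smul, smul_eq_mul,
          div_mul_cancel₀ _ (hev0 _ _ hx hx0)]
  refine ⟨⟨H, ⟨RingEquiv.ofBijective Ψ hbij⟩⟩, fun hstd => ?_⟩
  have h11 : (1 : ℕ) ∈ H := by
    by_contra h
    have hb : ((𝒜 1 : Submodule k R) : Set R) ⊆ {0} := fun x hx => by
      by_contra hx0
      exact h ⟨x, by simpa using hx, hx0⟩
    refine hy0 ((Submodule.mem_bot R).1 ((hstd.trans (Ideal.span_eq_bot.2 fun x hx => hb hx)).le ?_))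
    exact Ideal.subset_span (Set.mem_iUnion₂.2 ⟨ν, hν, hy⟩)
  have hH : H = ⊤ := eq_top_iff.2 fun n _ => by
    induction n with
    | zero => exact H.zero_mem
    | succ n ih => exact H.add_mem (ih trivial) h11
  let e : H ≃+ ℕ := (AddEquiv.addSubmonoidCongr hH).trans AddSubmonoid.topEquiv
  exact ⟨((RingEquiv.ofBijective Ψ hbij).trans (AddMonoidAlgebra.domCongr k k e).toRingEquiv).trans
    (Polynomial.toFinsuppIso k).symm⟩

end Groth.Agent.S18653
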