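import Groth.Statements.S18656
import Groth.Agent.GrFieldLib.Top

set_option autoImplicit false
universe u
open GrLC

namespace Groth.Agent.S18656
open GrInjLib Groth.Agent.GrFieldLib


/-- Let R be a graded ring defined over a field k = R_0, generated over k by R_1, of dimension r ≥ 1,
and let a(R) be its a-invariant. Then the homogeneous piece H^r_m(R)_n is nonzero for every n ≤
a(R). Here 'graded ring defined over a field' means R = ⊕_{n ≥ 0} R_n is Noetherian with R_0 a
field, and m = R_+ is its unique graded maximal ideal. The a-invariant a(R) is the largest degree in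
which the graded local cohomology H^n_m(R) (n = dim R, m = R_+), computed from a *injective
resolution of R in the graded category, is nonzero. -/
theorem result (R : Type u) [CommRing R] [IsNoetherianRing R] (𝒜 : ℤ → AddSubgroup R) [GradedRing 𝒜] (hpos : ∀ n : ℤ, n < 0 → 𝒜 n = ⊥) (h0 : IsField (GrLC.deg0 𝒜)) (m : HomogeneousIdeal 𝒜) (hm : GrLC.IsStarLocal 𝒜 m) (hmsp : m.toIdeal = Ideal.span (⋃ n ∈ Set.Ioi (0 : ℤ), (𝒜 n : Set R))) (hstd : Ideal.span (⋃ n ∈ Set.Ioi (0 : ℤ), (𝒜 n : Set R)) = Ideal.span ((𝒜 1 : AddSubgroup R) : Set R)) (r : ℕ) (hr : ringKrullDim R = r) (h1 : 1 ≤ r) (I : GrLC.StarInjRes 𝒜 𝒜) (a : ℤ) (ha : GrLC.endDeg (I.Hgr m r) = ((a : WithTop ℤ) : WithBot (WithTop ℤ))) (n : ℤ) (hn : n ≤ a) : I.Hcomp m r n ≠ ⊥ := by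
  intro hbot
  let I' : GrLC.StarInjRes 𝒜 (ringG (𝒜 := 𝒜)).gr := addRes 𝒜 I
  have h0' : Van m (ringG (𝒜 := 𝒜)) r n := Van.of_res I' hbot
  have key : ∀ k : ℕ, Van m (ringG (𝒜 := 𝒜)) r (n + k) := by
    intro k
    induction k with
    | zero => simpa using h0'
    | succ k ih =>
      have := van_top_succ (m := m) (hmsp.trans hstd) hr h1 ih
      rwa [show n + ((k + 1 : ℕ) : ℤ) = n + (k : ℤ) + 1 by push_cast; ring]
  have hle := (van_endDeg (M := ringG (𝒜 := 𝒜)) (a := m) I' r (n - 1)).2 fun g hg => by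
    obtain ⟨k, rfl⟩ := Int.le.dest (show n ≤ g by omega)
    exact key k
  have h2 : GrLC.endDeg (I.Hgr m r) ≤ (((n - 1 : ℤ) : WithTop ℤ) : WithBot (WithTop ℤ)) := hle
  rw [ha, WithBot.coe_le_coe, WithTop.coe_le_coe] at h2
  omega

end Groth.Agent.S18656
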