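import Groth.Statements.S18657
import Groth.Agent.GrFieldLib.DualTop

set_option autoImplicit false
universe u
open GrLC

namespace Groth.Agent.S18657
open GrInjLib Groth.Agent.GrFieldLib


/-- Let R be a graded ring defined over a field k = R_0 which is Cohen–Macaulay and generated over k by
R_1, of dimension r ≥ 2, with canonical module K_R and a-invariant a(R). Then dim_k (K_R)_n ≥ 2 for
every n > −a(R). Here 'graded ring defined over a field' means R = ⊕_{n ≥ 0} R_n is Noetherian with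
R_0 a field (so R is finitely generated over R_0), m = R_+ is its unique graded maximal ideal and n
= dim R; the canonical module K_R (the graded dual of H^n_m(R)) is represented by a finitely
generated graded module C together with a homogeneous isomorphism from Hom_R(C, E) onto H^n_m(R),
where E is a *injective envelope of R/m and H^n_m(R) is computed from a *injective resolution of R
in the graded category; by graded Matlis duality this says exactly that C ≅ K_R as graded modules.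
The a-invariant a(R) is the largest degree in which the graded local cohomology H^n_m(R) (n = dim R,
m = R_+), computed from a *injective resolution of R in the graded category, is nonzero. -/
theorem result (R : Type u) [CommRing R] [LocCoh.IsCohenMacaulayRing R] (𝒜 : ℤ → AddSubgroup R) [GradedRing 𝒜] (hpos : ∀ n : ℤ, n < 0 → 𝒜 n = ⊥) (h0 : IsField (GrLC.deg0 𝒜)) (m : HomogeneousIdeal 𝒜) (hm : GrLC.IsStarLocal 𝒜 m) (hmsp : m.toIdeal = Ideal.span (⋃ n ∈ Set.Ioi (0 : ℤ), (𝒜 n : Set R))) (hstd : Ideal.span (⋃ n ∈ Set.Ioi (0 : ℤ), (𝒜 n : Set R)) = Ideal.span ((𝒜 1 : AddSubgroup R) : Set R)) (n : ℕ) (hn : ringKrullDim R = n) (h2 : 2 ≤ n) (I : GrLC.StarInjRes 𝒜 𝒜) (a : ℤ) (ha : GrLC.endDeg (I.Hgr m n) = ((a : WithTop ℤ) : WithBot (WithTop ℤ))) (E' : Type u) [AddCommGroup E'] [Module R E'] (𝓔 : ℤ → AddSubgroup E') [DirectSum.Decomposition 𝓔] [SetLike.GradedSMul 𝒜 𝓔] (e : (R ⧸ m.toIdeal) →ₗ[R] E') (he : GrLC.IsStarInjHull 𝒜 (GrLC.quotGr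 𝒜 m) 𝓔 e) (C : Type u) [AddCommGroup C] [Module R C] (𝒞 : ℤ → AddSubgroup C) [DirectSum.Decomposition 𝒞] [SetLike.GradedSMul 𝒜 𝒞] (hC : GrLC.IsStarCanonical 𝒜 𝒞 𝓔 m n I) (j : ℤ) (hj : -a < j) : 2 ≤ Module.finrank (GrLC.deg0 𝒜) (GrLC.comp 𝒜 𝒞 j) := by
  classical
  letI : Field (GrLC.deg0 𝒜) := h0.toField
  obtain ⟨n0, rfl⟩ := Nat.exists_eq_add_of_le' h2
  obtain ⟨hfin, φ, hφ⟩ := hC
  haveI := hfin
  have hpos' := eq_zero_of_neg hpos
  let M : GMod.{u} 𝒜 := ringG (𝒜 := 𝒜)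
  haveI : Module.Finite R M.carrier := inferInstanceAs (Module.Finite R R)
  have hvan : ∀ i, i < n0 + 2 → ∀ g, Van m M i g := fun i hi g => van_below_dim hpos h0 hmsp hn i hi g
  have hgam : ∀ (X : GMod.{u} 𝒜), (∀ g, Van m X 0 g) → gam m.toIdeal X.carrier = ⊥ := fun X hX => by
    refine (Submodule.eq_bot_iff _).2 fun y hy => ?_
    rw [← DirectSum.sum_support_decompose X.gr y]
    exact Finset.sum_eq_zero fun g _ => eq_zero_of_van_zero (hX g)
      (DirectSum.decompose X.gr y g).2 (gam_homogeneous X.gr m g hy)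
  -- the first element
  obtain ⟨x, p, hp, hx, hxreg⟩ := exists_regular 𝒜 m (M := M.carrier) (hgam M (hvan 0 (by omega))) hmsp
  let J1 : Ideal R := Ideal.span {x}
  have hJ1 : J1.IsHomogeneous 𝒜 := Ideal.homogeneous_span 𝒜 _ fun w hw =>
    ⟨(p : ℤ), by rw [Set.mem_singleton_iff.1 hw]; exact hx⟩
  let N := quotG 𝒜 (ringPieces 𝒜) (ideal_homogeneous 𝒜 hJ1)
  let π : M.carrier →ₗ[R] N.carrier := quotMk 𝒜 (ringPieces 𝒜) (ideal_homogeneous 𝒜 hJ1)
  have hk0 : LinearMap.ker (quotMk 𝒜 (ringPieces 𝒜) (ideal_homogeneous 𝒜 hJ1)) =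
      LinearMap.range (x • (LinearMap.id : R →ₗ[R] R)) := by
    rw [ker_quotMk]
    ext w
    show w ∈ Ideal.span {x} ↔ _
    rw [Ideal.mem_span_singleton', LinearMap.mem_range]
    exact ⟨fun ⟨c, hc⟩ => ⟨c, (mul_comm x c).trans hc⟩, fun ⟨c, hc⟩ => ⟨c, (mul_comm c x).trans hc⟩⟩
  have hkπ : LinearMap.ker π = LinearMap.range (x • (LinearMap.id : M.carrier →ₗ[R] M.carrier)) := hk0
  have hπg : GrLC.IsGrHom M.gr N.gr π := quotMk_grHom 𝒜 (ringPieces 𝒜) (ideal_homogeneous 𝒜 hJ1)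
  have hπs : Function.Surjective π := quotMk_surjective 𝒜 (ringPieces 𝒜) (ideal_homogeneous 𝒜 hJ1)
  haveI : Module.Finite R N.carrier := Module.Finite.of_surjective π hπs
  have hxR : ∀ z : R, x * z ∈ (⊥ : Ideal R) → z ∈ (⊥ : Ideal R) := fun z hz =>
    (Submodule.mem_bot R).2 ((isSMulRegular_iff_right_eq_zero_of_smul).1
      (show IsSMulRegular R x from hxreg) z ((Submodule.mem_bot R).1 hz))
  have hd1 : ringKrullDim (R ⧸ J1) ≤ (n0 + 1 : ℕ) := by
    have := Dual.dim_quot_sup_le (J := (⊥ : Ideal R)) (x := x) (n := n0 + 1)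
      (((ringKrullDim_eq_of_ringEquiv (RingEquiv.quotientBot R)).trans hn).le) hxR
    rwa [bot_sup_eq] at this
  have hNbelow : ∀ i, i < n0 + 1 → ∀ g, Van m N i g :=
    van_quot_below (m := m) hx hxreg hπs hπg hkπ hvan
  -- the second element
  obtain ⟨y, q, hq, hy, hyreg⟩ := exists_regular 𝒜 m (M := N.carrier) (hgam N (hNbelow 0 (by omega))) hmsp
  have hyJ : ∀ z : R, y * z ∈ J1 → z ∈ J1 := fun z hz => by
    have h1 := (isSMulRegular_iff_right_eq_zero_of_smul).1 hyreg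
      (quotMk 𝒜 (ringPieces 𝒜) (ideal_homogeneous 𝒜 hJ1) z) (by
        rw [← map_smul, smul_eq_mul, ← LinearMap.mem_ker, ker_quotMk]
        exact hz)
    rwa [← LinearMap.mem_ker, ker_quotMk] at h1
  have hJ2 : (J1 ⊔ Ideal.span {y}).IsHomogeneous 𝒜 := hJ1.sup (Ideal.homogeneous_span 𝒜 _
    fun w hw => ⟨(q : ℤ), by rw [Set.mem_singleton_iff.1 hw]; exact hy⟩)
  have hd2 := Dual.dim_quot_sup_le (J := J1) (x := y) (n := n0) hd1 hyJ
  let N' := quotG 𝒜 (ringPieces 𝒜) (ideal_homogeneous 𝒜 hJ2)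
  let π2 : N.carrier →ₗ[R] N'.carrier := Submodule.liftQ J1
    (quotMk 𝒜 (ringPieces 𝒜) (ideal_homogeneous 𝒜 hJ2))
    (le_sup_left.trans (ker_quotMk 𝒜 (ringPieces 𝒜) (ideal_homogeneous 𝒜 hJ2)).ge)
  have hπ2s : Function.Surjective π2 := fun w => by
    obtain ⟨z, rfl⟩ := quotMk_surjective 𝒜 (ringPieces 𝒜) (ideal_homogeneous 𝒜 hJ2) w
    exact ⟨quotMk 𝒜 (ringPieces 𝒜) (ideal_homogeneous 𝒜 hJ1) z, rfl⟩
  have hπ2g : GrLC.IsGrHom N.gr N'.gr π2 := by
    rintro g _ ⟨z, hz, rfl⟩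
    exact ⟨z, hz, rfl⟩
  have hkπ2 : LinearMap.ker π2 = LinearMap.range (y • (LinearMap.id : N.carrier →ₗ[R] N.carrier)) := by
    ext w
    obtain ⟨z, rfl⟩ := quotMk_surjective 𝒜 (ringPieces 𝒜) (ideal_homogeneous 𝒜 hJ1) w
    rw [LinearMap.mem_ker, LinearMap.mem_range,
      show π2 (quotMk 𝒜 (ringPieces 𝒜) (ideal_homogeneous 𝒜 hJ1) z) =
        quotMk 𝒜 (ringPieces 𝒜) (ideal_homogeneous 𝒜 hJ2) z from rfl,
      ← LinearMap.mem_ker, ker_quotMk]
    constructor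
    · intro hz
      obtain ⟨c1, h1, c2, h2', rfl⟩ := Submodule.mem_sup.1 hz
      obtain ⟨c, rfl⟩ := Ideal.mem_span_singleton'.1 h2'
      refine ⟨quotMk 𝒜 (ringPieces 𝒜) (ideal_homogeneous 𝒜 hJ1) c, ?_⟩
      rw [map_add, LinearMap.mem_ker.1 ((ker_quotMk 𝒜 (ringPieces 𝒜)
        (ideal_homogeneous 𝒜 hJ1)).ge h1), zero_add, mul_comm]
      exact (map_smul (quotMk 𝒜 (ringPieces 𝒜) (ideal_homogeneous 𝒜 hJ1)) y c).symm
    · rintro ⟨w, hw⟩
      obtain ⟨c, rfl⟩ := quotMk_surjective 𝒜 (ringPieces 𝒜) (ideal_homogeneous 𝒜 hJ1) w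
      have h1 : z - y * c ∈ J1 := by
        rw [← ker_quotMk 𝒜 (ringPieces 𝒜) (ideal_homogeneous 𝒜 hJ1), LinearMap.mem_ker, map_sub,
          ← hw, ← smul_eq_mul, map_smul]
        exact sub_self _
      have := Submodule.add_mem_sup h1
        (Ideal.mem_span_singleton'.2 ⟨c, mul_comm c y⟩ : y * c ∈ Ideal.span {y})
      rwa [sub_add_cancel] at this
  -- multiplication on the top cohomology
  obtain ⟨EN⟩ := exists_starInjRes 𝒜 N.gr
  obtain ⟨EN'⟩ := exists_starInjRes 𝒜 N'.gr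
  obtain ⟨δ, hsurx, hkerx⟩ := Dual.exists_delta_smul (m := m) hx hxreg hπs hπg hkπ (addRes 𝒜 I) EN
  obtain ⟨-, hsury, -⟩ := Dual.exists_delta_smul (m := m) hy hyreg hπ2s hπ2g hkπ2 EN EN'
  have hxC : IsSMulRegular C x := Dual.smul_injective 𝒞 hpos h0 hmsp he φ
    (hsurx (n0 + 2) (Dual.van_quot_above hJ1 hd1 (n0 + 2) (by omega)))
  have hyC : ∀ {j : ℤ} {z : C}, z ∈ 𝒞 j → (∃ v, y • z = x • v) → ∃ v ∈ 𝒞 (j - (p : ℤ)), x • v = z := by
    intro j z hz hyz
    refine Dual.mem_smul_of_smul_mem hpos h0 hmsp he φ hx (fun w hw => ?_) hz hyz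
    obtain ⟨u, rfl⟩ := (hkerx (n0 + 1) w).1 hw
    obtain ⟨u', rfl⟩ := hsury (n0 + 1) (Dual.van_quot_above hJ2 hd2 (n0 + 1) (by omega)) u
    exact ⟨δ (n0 + 1) u', (hkerx (n0 + 1) _).2 ⟨u', rfl⟩, (map_smul (δ (n0 + 1)) y u').symm⟩
  have hpow : ∀ (l i : ℕ) {j : ℤ} {z : C}, z ∈ 𝒞 j → (∃ v, y ^ i • z = x ^ l • v) →
      ∃ v ∈ 𝒞 (j - l * (p : ℤ)), x ^ l • v = z := by
    intro l
    induction l with
    | zero => exact fun i j z hz _ => ⟨z, by simpa using hz, by rw [pow_zero, one_smul]⟩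
    | succ l ih =>
      intro i
      induction i with
      | zero =>
        intro j z hz hv
        obtain ⟨v, hv⟩ := hv
        rw [pow_zero, one_smul] at hv
        have hyz : ∃ w, y • z = x • w := ⟨y • x ^ l • v, by
          rw [hv, pow_succ', mul_smul, smul_comm]⟩
        obtain ⟨z1, hz1, rfl⟩ := hyC hz hyz
        obtain ⟨w, hw, hw'⟩ := ih 0 hz1 ⟨v, by
          rw [pow_zero, one_smul]
          exact hxC (hv.trans (by rw [pow_succ', mul_smul]))⟩
        refine ⟨w, ?_, by rw [pow_succ', mul_smul, hw']⟩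
        rwa [show j - (p : ℤ) - l * (p : ℤ) = j - ((l + 1 : ℕ) : ℤ) * p by push_cast; ring] at hw
      | succ i ihi =>
        intro j z hz hv
        obtain ⟨v, hv⟩ := hv
        have hyiz : y ^ i • z ∈ 𝒞 (i • (q : ℤ) + j) :=
          smul_mem 𝒜 𝒞 (SetLike.pow_mem_graded i hy) hz
        obtain ⟨z1, hz1, hz1'⟩ := hyC hyiz ⟨x ^ l • v, by
          rw [← mul_smul y, ← pow_succ', hv, pow_succ', mul_smul]⟩
        obtain ⟨w, -, hw⟩ := ih 1 hz1 ⟨v, by
          rw [pow_one]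
          refine hxC ?_
          show x • y • z1 = x • x ^ l • v
          rw [smul_comm, hz1', ← mul_smul y, ← pow_succ', hv, pow_succ', mul_smul]⟩
        exact ihi hz ⟨w, by rw [← hz1', ← hw, pow_succ', mul_smul]⟩
  -- degrees
  have hvanTop := (van_endDeg (M := M) (a := m) (addRes 𝒜 I) (n0 + 2) a).1 ha.le
  have hlow : ∀ i, i < -a → ∀ z ∈ 𝒞 i, z = 0 := by
    intro i hi z hz
    by_contra hne
    obtain ⟨h, hh, hhne, -⟩ := Dual.exists_functional hpos h0 hmsp he (C := C) (𝒞 := 𝒞) ⊥ ⟨z, hz⟩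
      (fun hm => hne (congrArg Subtype.val ((Submodule.mem_bot _).1 hm)))
    have h1 : φ h ∈ I.Hcomp m (n0 + 2) (-i) := hφ (-i) h hh
    have h3 := hvanTop (-i) (by omega) (addRes 𝒜 I)
    have h4 : φ h = 0 := (Submodule.mem_bot R).1 ((h3 : I.Hcomp m (n0 + 2) (-i) = ⊥).le h1 : _)
    exact hhne (by rw [φ.map_eq_zero_iff.1 h4]; rfl)
  have hmz : ∀ z : C, (∀ b ∈ 𝒜 1, b • z = 0) → z = 0 := fun z hz => by
    refine (isSMulRegular_iff_right_eq_zero_of_smul).1 hxC z ?_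
    have hxm : x ∈ Ideal.span ((𝒜 1 : AddSubgroup R) : Set R) :=
      hstd.le (Ideal.subset_span (Set.mem_biUnion (x := (p : ℤ)) (show (0 : ℤ) < p by omega) hx))
    suffices hall : ∀ w ∈ Ideal.span ((𝒜 1 : AddSubgroup R) : Set R), w • z = 0 from hall x hxm
    intro w hw
    induction hw using Submodule.span_induction with
    | mem w hw => exact hz w hw
    | zero => exact zero_smul R z
    | add u v _ _ hu hv => rw [add_smul, hu, hv, add_zero]
    | smul c u _ hu => rw [smul_assoc, hu, smul_zero]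
  have hne : ∀ k : ℕ, ∃ c ∈ 𝒞 (-a + k), c ≠ 0 := by
    intro k
    induction k with
    | zero =>
      by_contra! hall
      obtain ⟨w, hw, hw0⟩ : ∃ w ∈ I.Hgr m (n0 + 2) a, w ≠ 0 := by
        by_contra! hzero
        have hv : ∀ g, a - 1 < g → Van m M (n0 + 2) g := fun g hg => by
          rcases eq_or_lt_of_le (show a ≤ g by omega) with rfl | hlt
          · exact Van.of_res (addRes 𝒜 I) ((Submodule.eq_bot_iff _).2 hzero)
          · exact hvanTop g hlt
        have h4 : GrLC.endDeg (I.Hgr m (n0 + 2)) ≤ (((a - 1 : ℤ) : WithTop ℤ) : WithBot (WithTop ℤ)) :=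
          (van_endDeg (M := M) (a := m) (addRes 𝒜 I) (n0 + 2) (a - 1)).2 hv
        rw [ha, WithBot.coe_le_coe, WithTop.coe_le_coe] at h4
        omega
      obtain ⟨S, hS⟩ := exists_sum_parts 𝒜 𝒞 𝓔 (φ.symm w)
      letI := (H_isInternal I m (n0 + 2)).chooseDecomposition
      refine hw0 ?_
      have h5 : w = ∑ d ∈ S, φ (degPart 𝒜 𝒞 𝓔 (φ.symm w) d) := by
        conv_lhs => rw [← φ.apply_symm_apply w, hS]
        rw [map_sum]
      have h6 := congrArg (GrInjLib.proj (I.Hgr m (n0 + 2)) a) h5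
      rw [proj_of_mem _ hw, map_sum] at h6
      refine h6.trans (Finset.sum_eq_zero fun d _ => ?_)
      have hmem : φ (degPart 𝒜 𝒞 𝓔 (φ.symm w) d) ∈ I.Hgr m (n0 + 2) d :=
        hφ d _ (degPart_deg 𝒜 𝒞 𝓔 (φ.symm w) d)
      by_cases hd : d = a
      · subst hd
        rw [Dual.eq_zero_of_piece hpos hmsp he (degPart_deg 𝒜 𝒞 𝓔 (φ.symm w) d)
          (fun z hz => by rw [hall z (by simpa using hz), map_zero]), map_zero, map_zero]
      · exact proj_of_mem_ne _ hmem hd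
    | succ k ih =>
      obtain ⟨c, hc, hc0⟩ := ih
      by_contra! hall
      refine hc0 (hmz c fun b hb => hall _ ?_)
      have := smul_mem 𝒜 𝒞 hb hc
      rwa [show (1 : ℤ) + (-a + k) = -a + ((k + 1 : ℕ) : ℤ) by push_cast; ring] at this
  haveI : IsNoetherian (GrLC.deg0 𝒜) (GrLC.comp 𝒜 𝒞 j) := isNoetherian_comp 𝒜 𝒞 j
  by_contra hlt
  push Not at hlt
  obtain ⟨k, hk⟩ := Int.le.dest (show -a ≤ j - 1 by omega)
  obtain ⟨c0, hc0, hc0ne⟩ := hne k
  rw [hk] at hc0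
  suffices key : ∀ (N : ℕ) (i : ℤ) (c : C), i < -a + N → c ∈ 𝒞 i →
      (∀ r ∈ 𝒜 1, ∀ s ∈ 𝒜 1, s • c ≠ 0 → ∃ t : GrLC.deg0 𝒜, r • c = (t : R) • s • c) → c = 0 by
    refine hc0ne (key (k + 1) (j - 1) c0 (by push_cast; omega) hc0 fun r hr s hs hsc => ?_)
    have hmem : ∀ {w : R}, w ∈ 𝒜 1 → w • c0 ∈ GrLC.comp 𝒜 𝒞 j := fun {w} hw => by
      have := smul_mem 𝒜 𝒞 hw hc0
      rwa [add_sub_cancel] at this
    have hne' : (⟨s • c0, hmem hs⟩ : GrLC.comp 𝒜 𝒞 j) ≠ 0 := fun h => hsc (congrArg Subtype.val h)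
    haveI : Nontrivial (GrLC.comp 𝒜 𝒞 j) := ⟨_, _, hne'⟩
    have h1 : Module.finrank (GrLC.deg0 𝒜) (GrLC.comp 𝒜 𝒞 j) = 1 := by
      have h2 := Module.finrank_pos (R := GrLC.deg0 𝒜) (M := GrLC.comp 𝒜 𝒞 j)
      omega
    obtain ⟨t, ht⟩ := exists_smul_eq_of_finrank_eq_one h1 hne' ⟨r • c0, hmem hr⟩
    exact ⟨t, (congrArg Subtype.val ht).symm⟩
  intro N
  induction N with
  | zero => exact fun i c hi hc _ => hlow i (by simpa using hi) c hc
  | succ N ih =>
    intro i c hi hc hP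
    by_contra hcne
    obtain ⟨b, hb, hbc⟩ : ∃ b ∈ 𝒜 1, b • c ≠ 0 := by
      by_contra! h
      exact hcne (hmz c h)
    have hline : ∀ (t : ℕ), ∀ r ∈ 𝒜 (t : ℤ), ∃ l : GrLC.deg0 𝒜, r • c = (l : R) • b ^ t • c := by
      intro t
      induction t with
      | zero => exact fun r hr => ⟨⟨r, (congrArg (fun b : ℤ => r ∈ 𝒜 b) Nat.cast_zero).mp hr⟩, by rw [pow_zero, one_smul]⟩
      | succ t iht =>
        intro r hr
        have hrI : r ∈ Ideal.span ((𝒜 1 : AddSubgroup R) : Set R) :=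
          hstd.le (Ideal.subset_span (Set.mem_biUnion (x := ((t + 1 : ℕ) : ℤ))
            (show (0 : ℤ) < ((t + 1 : ℕ) : ℤ) by omega) hr))
        suffices h' : ∀ w ∈ Ideal.span ((𝒜 1 : AddSubgroup R) : Set R), ∀ d : R,
            ∃ l : GrLC.deg0 𝒜, (DirectSum.decompose 𝒜 (d * w) ((t : ℤ) + 1) : R) • c =
              (l : R) • b ^ (t + 1) • c by
          have := h' r hrI 1
          rwa [one_mul, DirectSum.decompose_of_mem_same 𝒜 (by push_cast at hr; exact hr)] at this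
        intro w hw
        induction hw using Submodule.span_induction with
        | mem w hw =>
          intro d
          rw [DirectSum.coe_decompose_mul_add_of_right_mem 𝒜 hw]
          obtain ⟨l, hl⟩ := iht _ (DirectSum.decompose 𝒜 d (t : ℤ)).2
          obtain ⟨l', hl'⟩ := hP w hw b hb hbc
          refine ⟨l * l', ?_⟩
          rw [mul_comm, mul_smul, hl, smul_comm w, smul_comm w, hl', Subring.coe_mul, mul_smul,
            smul_comm (b ^ t) (l' : R), pow_succ, mul_smul]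
        | zero => intro d; exact ⟨0, by simp⟩
        | add u v _ _ hu hv =>
          intro d
          obtain ⟨l, hl⟩ := hu d
          obtain ⟨l', hl'⟩ := hv d
          exact ⟨l + l', by
            rw [mul_add, DirectSum.decompose_add, DirectSum.add_apply, AddSubgroup.coe_add, add_smul,
              hl, hl', Subring.coe_add, ← add_smul]⟩
        | smul u v _ hv => intro d; rw [smul_eq_mul, ← mul_assoc]; exact hv _
    have hxq : x ^ q ∈ 𝒜 ((q * p : ℕ) : ℤ) := by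
      have := SetLike.pow_mem_graded q hx
      rwa [nsmul_eq_mul, ← Nat.cast_mul] at this
    have hyp : y ^ p ∈ 𝒜 ((q * p : ℕ) : ℤ) := by
      have := SetLike.pow_mem_graded p hy
      rwa [nsmul_eq_mul, ← Nat.cast_mul, mul_comm] at this
    obtain ⟨l1, hl1⟩ := hline (q * p) _ hxq
    obtain ⟨l2, hl2⟩ := hline (q * p) _ hyp
    have hl1ne : l1 ≠ 0 := fun h => hcne ((isSMulRegular_iff_right_eq_zero_of_smul).1 (hxC.pow q) c
      (by rw [hl1, h]; exact zero_smul R _))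
    obtain ⟨v, hv, hvc⟩ := hpow q p hc ⟨((l2 * l1⁻¹ : GrLC.deg0 𝒜) : R) • c, by
      rw [smul_comm, hl1, hl2, smul_smul ((l2 * l1⁻¹ : GrLC.deg0 𝒜) : R), ← Subring.coe_mul,
        mul_assoc, inv_mul_cancel₀ hl1ne, mul_one]⟩
    have hv0 : v = 0 := by
      refine ih (i - q * (p : ℤ)) v ?_ hv fun r hr s hs hsv => ?_
      · have h9 : (1 : ℤ) ≤ (q : ℤ) * p := by
          have : 1 ≤ q * p := Nat.mul_pos hq hp
          exact_mod_cast this
        push_cast at hi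
        omega
      · have hsc : s • c ≠ 0 := fun h => hsv ((isSMulRegular_iff_right_eq_zero_of_smul).1 (hxC.pow q)
          (s • v) (by rw [smul_comm, hvc, h]))
        obtain ⟨t, ht⟩ := hP r hr s hs hsc
        exact ⟨t, hxC.pow q (by
          show x ^ q • r • v = x ^ q • (t : R) • s • v
          rw [smul_comm (x ^ q) r v, hvc, smul_comm (x ^ q) (t : R), smul_comm (x ^ q) s v, hvc]
          exact ht)⟩
    exact hcne (by rw [← hvc, hv0, smul_zero])

end Groth.Agent.S18657
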