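import Mathlib
import Groth.Agent.GrKunnethLib.Socle
import Groth.Agent.GorLib.CM
import Groth.Statements.S18659

set_option autoImplicit false
universe u
open scoped TensorProduct
open GrSegre

namespace Groth.Agent.S18659

/-- Let R and S be graded rings defined over a field k which are Gorenstein, of dimensions r ≥ 2 and s ≥
2, with a(R) = a(S). If the Segre product T = R # S is a Cohen–Macaulay ring, then T is a Gorenstein
ring. (No generation in degree one is assumed here.) Here a graded ring defined over k is a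
commutative k-algebra of finite type, graded in nonnegative degrees by k-subspaces with degree-zero
part k·1; the a-invariant a(R) is the largest degree in which the graded local cohomology H^{dim
R}_{R_+}(R), computed from a *injective resolution of R in the graded category, is nonzero; the
Segre product T = ⊕_n R_n ⊗_k S_n is presented abstractly as a graded k-algebra T with an injective
k-algebra homomorphism ψ : T → R ⊗_k S carrying T_n onto the k-span of the elementary tensors a ⊗ b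
with a ∈ R_n, b ∈ S_n. -/
theorem result (k : Type u) [Field k] (R : Type u) [CommRing R] [Algebra k R] (𝒜 : ℤ → Submodule k R) [GradedAlgebra 𝒜] (hposR : ∀ n : ℤ, n < 0 → 𝒜 n = ⊥) (h0R : 𝒜 0 = Submodule.span k {(1 : R)}) [Algebra.FiniteType k R] (S : Type u) [CommRing S] [Algebra k S] (ℬ : ℤ → Submodule k S) [GradedAlgebra ℬ] (hposS : ∀ n : ℤ, n < 0 → ℬ n = ⊥) (h0S : ℬ 0 = Submodule.span k {(1 : S)}) [Algebra.FiniteType k S] (T : Type u) [CommRing T] [Algebra k T] (𝒯 : ℤ → Submodule k T) [GradedAlgebra 𝒯] (ψ : T →ₐ[k] TensorProduct k R S) (hψ : Function.Injective ψ) (hdegT : ∀ n : ℤ, (𝒯 n).map ψ.toLinearMap = Submodule.span k {x : TensorProduct k R S | ∃ a ∈ 𝒜 n, ∃ b ∈ ℬ n, x = a ⊗ₜ[k] b}) [LocCoh.IsGorensteinRing R] [LocCoh.IsGorensteinRing S] (mR : HomogeneousIdeal 𝒜) (hmR : mR.toIdeal = Ideal.span (⋃ n ∈ Set.Ioi (0 : ℤ), (𝒜 n : Set R))) (I : GrLC.StarInjRes 𝒜 𝒜) (mS : HomogeneousIdeal ℬ) (hmS : mS.toIdeal = Ideal.span (⋃ n ∈ Set.Ioi (0 : ℤ), (ℬ n : Set S))) (J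 : GrLC.StarInjRes ℬ ℬ) (r s : ℕ) (hr : ringKrullDim R = r) (hs : ringKrullDim S = s) (h2r : 2 ≤ r) (h2s : 2 ≤ s) (haeq : GrLC.endDeg (I.Hgr mR r) = GrLC.endDeg (J.Hgr mS s)) [LocCoh.IsCohenMacaulayRing T] : LocCoh.IsGorensteinRing T := by
  haveI : LocCoh.IsCohenMacaulayRing R := ⟨fun p hp => Groth.Agent.GorLib.isCohenMacaulay (Localization.AtPrime p)
    (LocCoh.IsGorensteinRing.isGorensteinLocalRing_localization p)⟩
  haveI : LocCoh.IsCohenMacaulayRing S := ⟨fun p hp => Groth.Agent.GorLib.isCohenMacaulay (Localization.AtPrime p)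
    (LocCoh.IsGorensteinRing.isGorensteinLocalRing_localization p)⟩
  haveI := Groth.Agent.GrSegreLib.finiteType_segre 𝒜 ℬ 𝒯 ψ hposR h0R hposS h0S hψ hdegT
  haveI : Nontrivial R := by
    by_contra h
    rw [not_nontrivial_iff_subsingleton] at h
    rw [ringKrullDim_eq_bot_of_subsingleton] at hr
    simp at hr
  haveI : Nontrivial S := by
    by_contra h
    rw [not_nontrivial_iff_subsingleton] at h
    rw [ringKrullDim_eq_bot_of_subsingleton] at hs
    simp at hs
  let mT : HomogeneousIdeal 𝒯 := ⟨Groth.Agent.GrSegreLib.irr 𝒯, Groth.Agent.GrSegreLib.irr_homogeneous 𝒯⟩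
  have H : Groth.Agent.GrKunnethLib.Setting k R S T 𝒜 ℬ 𝒯 ψ mR mS mT :=
    Groth.Agent.GrKunnethLib.setting_of hposR h0R hposS h0S hψ hdegT hmR hmS rfl
  obtain ⟨hT', h0T⟩ := Groth.Agent.GrKunnethLib.deg0_segre H h0R h0S
  haveI := hT'
  have hposT := Groth.Agent.GrKunnethLib.pos_segre hposR hposS hψ hdegT
  have hT := Groth.Agent.GrKunnethLib.ringKrullDim_segre hposR h0R hposS h0S hψ hdegT hr hs
    (by omega) (by omega)
  obtain ⟨F⟩ := Groth.Agent.GrKunnethLib.exists_selfRes 𝒯
  obtain ⟨a, ha, -, hA, -⟩ := Groth.Agent.GrKunnethLib.gorenstein_data hposR h0R hmR hr I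
  obtain ⟨h1, -, h2⟩ := Groth.Agent.GrKunnethLib.top_segre_gorenstein H hposR h0R hposS h0S I J F hr hs
    h2r h2s ha (haeq ▸ ha) le_rfl (fun d _ u hu h => by
      by_contra hne
      obtain ⟨-, c, hc, hcu⟩ := hA d u hu hne
      exact hcu (h c hc))
  obtain ⟨hP, hdim⟩ := h2 rfl
  refine Groth.Agent.GrKunnethLib.isGorensteinRing_of_duality hposT h0T (m := mT) rfl hT F ?_ hP hdim
  rw [h1, sub_self, h0R]
  exact finrank_span_singleton one_ne_zero

end Groth.Agent.S18659
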