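import Groth.Statements.S18662
import Groth.Agent.GrInjLib.Resolution

set_option autoImplicit false
universe u
open GrLC

namespace Groth.Agent.S18662

/-- Let R be a graded ring defined over a field, m = R_+, and M a graded R-module satisfying condition
(**): there is a homogeneous f ∈ R_d with d > 0 such that multiplication by f on M is bijective.
Then H^q_m(M) = 0 for every integer q (graded local cohomology, computed from any *injective
resolution of M in the graded category). Here 'graded ring defined over a field' means R = ⊕_{n ≥ 0}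
R_n is Noetherian with R_0 a field, and m = R_+ is its unique graded maximal ideal. -/
theorem result (R : Type u) [CommRing R] [IsNoetherianRing R] (𝒜 : ℤ → AddSubgroup R) [GradedRing 𝒜] (hpos : ∀ n : ℤ, n < 0 → 𝒜 n = ⊥) (h0 : IsField (GrLC.deg0 𝒜)) (m : HomogeneousIdeal 𝒜) (hm : GrLC.IsStarLocal 𝒜 m) (hmsp : m.toIdeal = Ideal.span (⋃ n ∈ Set.Ioi (0 : ℤ), (𝒜 n : Set R))) (M : Type u) [AddCommGroup M] [Module R M] (ℳ : ℤ → AddSubgroup M) [DirectSum.Decomposition ℳ] [SetLike.GradedSMul 𝒜 ℳ] (d : ℤ) (hd : 0 < d) (f : R) (hf : f ∈ 𝒜 d) (hbij : Function.Bijective (fun x : M => f • x)) (E : GrLC.StarInjRes 𝒜 ℳ) (q : ℕ) : Subsingleton (E.H m q) := by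
  classical
  let φ : M ≃ₗ[R] M := LinearEquiv.ofBijective (f • (LinearMap.id : M →ₗ[R] M)) hbij
  have hdeg : GrLC.IsGrHomDeg ℳ ℳ (φ : M →ₗ[R] M) d := fun j x hx => by
    show f • x ∈ ℳ (j + d)
    rw [add_comm]
    exact GrInjLib.smul_mem 𝒜 ℳ hf hx
  have hsymm : GrLC.IsGrHomDeg ℳ ℳ (φ.symm : M →ₗ[R] M) (-d) := fun j x hx => by
    have h1 : φ.symm x = GrInjLib.proj ℳ (j + -d) (φ.symm x) := by
      apply φ.injective
      rw [φ.apply_symm_apply]
      show x = (φ : M →ₗ[R] M) (GrInjLib.proj ℳ (j + -d) (φ.symm x))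
      rw [← GrInjLib.proj_map ℳ ℳ hdeg, neg_add_cancel_right]
      show x = GrInjLib.proj ℳ j (φ (φ.symm x))
      rw [φ.apply_symm_apply, GrInjLib.proj_of_mem ℳ hx]
    show φ.symm x ∈ ℳ (j + -d)
    rw [h1]
    exact GrInjLib.proj_mem _ _ _
  let L : GrInjLib.Lift E E (φ : M →ₗ[R] M) d :=
    { ψ := fun n => f • LinearMap.id
      deg := fun n j x hx => by
        show f • x ∈ (E.X n).gr (j + d)
        rw [add_comm]
        exact GrInjLib.smul_mem 𝒜 (E.X n).gr hf hx
      comm0 := LinearMap.ext fun x => (map_smul E.ε f x).symm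
      comm := fun n => LinearMap.ext fun x => (map_smul (E.d n) f x).symm }
  obtain ⟨L'⟩ := GrInjLib.exists_lift E E hsymm
  have hL : ∀ x, L.mapH m q x = f • x := fun x => by
    obtain ⟨z, rfl⟩ := Submodule.mkQ_surjective _ x
    rfl
  have hinv : ∀ x, L'.mapH m q (f • x) = x := fun x => by
    have h1 := GrInjLib.Lift.mapH_eq (φ := (LinearMap.id : M →ₗ[R] M)) m
      (L := { ψ := (L'.comp L (add_neg_cancel d)).ψ
              deg := (L'.comp L (add_neg_cancel d)).deg
              comm0 := by
                rw [(L'.comp L (add_neg_cancel d)).comm0]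
                congr 1
                exact LinearMap.ext fun x => φ.symm_apply_apply x
              comm := (L'.comp L (add_neg_cancel d)).comm })
      (GrInjLib.Lift.refl E) q
    rw [← hL, ← GrInjLib.Lift.mapH_comp m L' L (add_neg_cancel d)]
    exact (LinearMap.congr_fun h1 x).trans (GrInjLib.Lift.mapH_refl m q x)
  refine ⟨fun x y => ?_⟩
  suffices h : ∀ x : E.H m q, x = 0 by rw [h x, h y]
  intro x
  have hfm : f ∈ m.toIdeal := by
    rw [hmsp]
    exact Ideal.subset_span (Set.mem_biUnion (Set.mem_Ioi.2 hd) hf)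
  obtain ⟨z, rfl⟩ := Submodule.mkQ_surjective _ x
  obtain ⟨k, hk⟩ := z.2.1
  have hz : f ^ k • z = 0 := Subtype.ext (hk _ (Ideal.pow_mem_pow hfm k))
  have key : ∀ (k : ℕ) (y : E.H m q), f ^ k • y = 0 → y = 0 := by
    intro k
    induction k with
    | zero => intro y hy; simpa using hy
    | succ k ih =>
      intro y hy
      rw [pow_succ, mul_smul] at hy
      have h2 := ih _ hy
      rw [← hinv y, h2, map_zero]
  apply key k
  rw [← map_smul, hz, map_zero]

end Groth.Agent.S18662
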