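import Mathlib
import Groth.Agent.GrKunnethLib.DimOne
import Groth.Statements.S18664

set_option autoImplicit false
universe u
open scoped TensorProduct
open GrSegre

namespace Groth.Agent.S18664

/-- Let R and S be standard graded rings defined over a field k which are Cohen–Macaulay, with dim R = 1
and dim S ≥ 2. Then the Segre product T = R # S is a Cohen–Macaulay ring if and only if R is a
polynomial ring over k (in one variable). Here a graded ring defined over k is a commutative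
k-algebra of finite type, graded in nonnegative degrees by k-subspaces with degree-zero part k·1,
standard graded when its irrelevant ideal is generated by the degree-one piece; the Segre product T
= ⊕_n R_n ⊗_k S_n is presented abstractly as a graded k-algebra T with an injective k-algebra
homomorphism ψ : T → R ⊗_k S carrying T_n onto the k-span of the elementary tensors a ⊗ b with a ∈
R_n, b ∈ S_n. -/
theorem result (k : Type u) [Field k] (R : Type u) [CommRing R] [Algebra k R] (𝒜 : ℤ → Submodule k R) [GradedAlgebra 𝒜] (hposR : ∀ n : ℤ, n < 0 → 𝒜 n = ⊥) (h0R : 𝒜 0 = Submodule.span k {(1 : R)}) [Algebra.FiniteType k R] (S : Type u) [CommRing S] [Algebra k S] (ℬ : ℤ → Submodule k S) [GradedAlgebra ℬ] (hposS : ∀ n : ℤ, n < 0 → ℬ n = ⊥) (h0S : ℬ 0 = Submodule.span k {(1 : S)}) [Algebra.FiniteType k S] (T : Type u) [CommRing T] [Algebra k T] (𝒯 : ℤ → Submodule k T) [GradedAlgebra 𝒯] (ψ : T →ₐ[k] TensorProduct k R S) (hψ : Function.Injective ψ) (hdegT : ∀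 n : ℤ, (𝒯 n).map ψ.toLinearMap = Submodule.span k {x : TensorProduct k R S | ∃ a ∈ 𝒜 n, ∃ b ∈ ℬ n, x = a ⊗ₜ[k] b}) [LocCoh.IsCohenMacaulayRing R] [LocCoh.IsCohenMacaulayRing S] (hstdR : Ideal.span (⋃ n ∈ Set.Ioi (0 : ℤ), (𝒜 n : Set R)) = Ideal.span ((𝒜 1 : Submodule k R) : Set R)) (hstdS : Ideal.span (⋃ n ∈ Set.Ioi (0 : ℤ), (ℬ n : Set S)) = Ideal.span ((ℬ 1 : Submodule k S) : Set S)) (hr : ringKrullDim R = 1) (hs : 2 ≤ ringKrullDim S) : LocCoh.IsCohenMacaulayRing T ↔ Nonempty (R ≃ₐ[k] Polynomial k) := by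
  obtain ⟨s, hs'⟩ : ∃ s : ℕ, ringKrullDim S = s := Groth.Agent.GrKunnethLib.exists_dim ℬ hposS h0S
    (le_trans (by decide) hs)
  have h2s : 2 ≤ s := by rw [hs'] at hs; exact_mod_cast hs
  let mR : HomogeneousIdeal 𝒜 :=
    ⟨Groth.Agent.GrSegreLib.irr 𝒜, Groth.Agent.GrSegreLib.irr_homogeneous 𝒜⟩
  let mS : HomogeneousIdeal ℬ :=
    ⟨Groth.Agent.GrSegreLib.irr ℬ, Groth.Agent.GrSegreLib.irr_homogeneous ℬ⟩
  obtain ⟨I⟩ := Groth.Agent.GrKunnethLib.exists_selfRes 𝒜
  obtain ⟨J⟩ := Groth.Agent.GrKunnethLib.exists_selfRes ℬ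
  have hS : ∀ n, 0 ≤ n → ℬ n ≠ ⊥ := Groth.Agent.GrKunnethLib.piece_ne_bot hposS h0S hstdS
    (le_trans (by decide) hs)
  rw [Groth.Agent.GrKunnethLib.cm_segre_ring_iff hposR h0R hposS h0S hψ hdegT (mR := mR) rfl (mS := mS) rfl I J
    (r := 1) (by simpa using hr) hs' le_rfl (by omega),
    ← Groth.Agent.GrKunnethLib.H1_vanish_iff_polynomial hposR h0R hr hstdR (mR := mR) rfl I]
  constructor
  · exact fun h g hg => (h.2 h2s g).resolve_right (hS g hg)
  · refine fun h => ⟨fun h1 => absurd h1 (by omega), fun _ n => ?_⟩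
    rcases lt_or_ge n 0 with hn | hn
    · exact Or.inr (hposS n hn)
    · exact Or.inl (h n hn)

end Groth.Agent.S18664
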