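import Groth.Statements.S18666
import Groth.Agent.ProjStalkLib.Flat
import Groth.Agent.GorLib.Flat
import Groth.Agent.GorLib.Transport

set_option autoImplicit false
universe u
open GrProj

namespace Groth.Agent.S18666

open CategoryTheory CategoryTheory.Limits AlgebraicGeometry

open Pointwise in
theorem exists_consecutive {A : Type u} [CommRing A] (𝒜 : ℕ → AddSubgroup A) [GradedRing 𝒜]
    {p : Ideal A} [p.IsPrime] {h : A} {e : ℕ} (he : 0 < e) (hh : h ∈ 𝒜 e) (hhp : h ∉ p) {d : ℕ}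
    (hgen : ∀ n : ℕ, 1 ≤ n → 𝒜 ((n + 1) * d) = AddSubgroup.closure ((𝒜 d : Set A) * (𝒜 (n * d) : Set A))) :
    ∃ f ∈ 𝒜 d, f ∈ p.primeCompl := by
  by_contra! hall
  obtain ⟨m, rfl⟩ : ∃ m, e = m + 1 := ⟨e - 1, by omega⟩
  have hmem : h ^ d ∈ 𝒜 ((m + 1) * d) := by
    rw [mul_comm]
    exact SetLike.pow_mem_graded d hh
  refine hhp ((inferInstance : p.IsPrime).mem_of_pow_mem d ?_)
  rcases Nat.eq_zero_or_pos m with hm | hm
  · subst hm
    rw [zero_add, one_mul] at hmem
    exact not_not.1 (hall _ hmem)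
  · rw [hgen m hm] at hmem
    refine (AddSubgroup.closure_le (K := p.toAddSubgroup)).2 ?_ hmem
    rintro _ ⟨y, hy, z, hz, rfl⟩
    exact p.mul_mem_right z (not_not.1 (hall y hy))


open AlgebraicGeometry Pointwise in
/-- Let A = ⊕_{n ≥ 0} A_n be a commutative Noetherian graded ring satisfying condition (#) — there is an
integer d_0 such that for every d ≥ d_0 the Veronese subring A^(d) is generated by A_d over A_0,
equivalently A_{(n+1)d} is additively generated by the products A_d A_{nd} for every n ≥ 1 — and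
assume A is a Gorenstein ring. Then X = Proj A is a Gorenstein scheme: all of its local rings are
Gorenstein local rings. (The Cohen–Macaulay case of the same lemma is stated separately.) -/
theorem result (A : Type u) [CommRing A] (𝒜 : ℕ → AddSubgroup A) [GradedRing 𝒜] [LocCoh.IsGorensteinRing A] (hsharp : ∃ d₀ : ℕ, ∀ d : ℕ, d₀ ≤ d → ∀ n : ℕ, 1 ≤ n → 𝒜 ((n + 1) * d) = AddSubgroup.closure ((𝒜 d : Set A) * (𝒜 (n * d) : Set A))) (x : Proj 𝒜) : LocCoh.IsGorensteinLocalRing ((Proj 𝒜).presheaf.stalk x) := by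
  classical
  let P : Ideal A := x.asHomogeneousIdeal.toIdeal
  haveI : P.IsPrime := x.isPrime
  obtain ⟨d₀, hd₀⟩ := hsharp
  obtain ⟨h, e, he, hh, hhp⟩ := Groth.Agent.ProjStalkLib.exists_pos_degree_not_mem 𝒜 x.not_irrelevant_le
  obtain ⟨f, hf, hfp⟩ := exists_consecutive 𝒜 (p := P) he hh hhp (hd₀ d₀ le_rfl)
  obtain ⟨g, hg, hgp⟩ := exists_consecutive 𝒜 (p := P) he hh hhp (hd₀ (d₀ + 1) d₀.le_succ)
  haveI := Groth.Agent.ProjStalkLib.isNoetherianRing 𝒜 P.primeCompl
  haveI : Module.Flat (HomogeneousLocalization.AtPrime 𝒜 P) (Localization.AtPrime P) :=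
    Groth.Agent.ProjStalkLib.flat_atPrime 𝒜 P hf hg hfp hgp
  haveI : IsLocalHom (algebraMap (HomogeneousLocalization.AtPrime 𝒜 P) (Localization.AtPrime P)) :=
    Groth.Agent.ProjStalkLib.isLocalHom_valHom 𝒜 P
  haveI := LocCoh.IsGorensteinRing.isGorensteinLocalRing_localization (A := A) P
  have hG := ((Groth.Agent.GorLib.gorenstein_flat_iff (HomogeneousLocalization.AtPrime 𝒜 P) (Localization.AtPrime P)).1
    inferInstance).1
  haveI := hG
  exact Groth.Agent.GorLib.gorenstein_of_ringEquiv (Proj.stalkIso' 𝒜 x).symm hG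

end Groth.Agent.S18666
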