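import Mathlib
import Groth.Statements.S18670
import Groth.Agent.GrSectP.Basic

set_option autoImplicit false
universe u
open GrSect

namespace Groth.Agent.S18670
open FunFld W4c6gradedringsgw Groth.Agent.GrSectP Polynomial

/-- Let X be a complete smooth curve of genus g ≥ 1 over an algebraically closed field k, P a closed
point, R = R_{X,P} and H = H_{X,P}. Then emb(R) = emb(H) + 1, where emb(R) = ν(R_+) is the minimal
number of generators of the irrelevant ideal R_+ (the embedding dimension of the local ring of R at
R_+) and emb(H) is the number of minimal generators of the numerical semigroup H. (The published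
item also gives the multiplicity m(R) = m(H); only the embedding-dimension assertion is stated
here.) Here the complete smooth curve X over the algebraically closed field k is given by its
function field K/k (a function field of one variable in which k is algebraically closed), the closed
point P by a place of K/k, g ≥ 1 is the genus, H^0(X, O_X(nP)) = L(nP), and R_{X,P} = ⊕_{n ≥ 0}
L(nP)·T^n is realised as the k-subalgebra of K[T] of polynomials whose coefficient of T^n lies in
L(nP); the Weierstrass semigroup H_{X,P} is the set of n ≥ 0 with ℓ(nP) = ℓ((n−1)P) + 1. The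
irrelevant ideal is the kernel of the constant-coefficient map R → K. -/
theorem result (k : Type u) [Field k] [IsAlgClosed k] (K : Type u) [Field K] [Algebra k K] (hK : FunFld.IsFunctionField k K) (hg : 1 ≤ FunFld.genus k K) (P : FunFld.Place k K) : (RingHom.ker (Polynomial.constantCoeff.comp (W4c6gradedringsgw.sectRing (Finsupp.single P 1 : FunFld.Divisor k K)).val.toRingHom)).spanFinrank = Set.ncard (W4c6gradedringsgw.minGens (W4c6gradedringsgw.poleOrders P)) + 1 := by
  classical
  set m := RingHom.ker (Polynomial.constantCoeff.comp (sectRing (Finsupp.single P 1 : Divisor k K)).val.toRingHom) with hm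
  have mem_m : ∀ f : Rng P, f ∈ m ↔ (f : K[X]).coeff 0 = 0 := fun f => by
    rw [hm, RingHom.mem_ker]; rfl
  have φ0 : ∀ f : Rng P, f ∈ m → (φ hK P f).coeff 0 = 0 := fun f hf => by
    rw [coeff_φ, (mem_m f).mp hf, lead_zero]
  have hfin := minGens_finite hK P hg
  set x : ℕ → Rng P := fun n => if h : n ∈ poleOrders P then (exists_lift hK P h).choose else 0 with hx
  have x_form : ∀ n ∈ poleOrders P, ∃ f : K, (x n : K[X]) = Polynomial.C f * Polynomial.X ^ n := fun n hn => by
    simp only [hx, dif_pos hn]; exact (exists_lift hK P hn).choose_spec.1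
  have x_φ : ∀ n ∈ poleOrders P, φ hK P (x n) = Polynomial.X ^ n := fun n hn => by
    simp only [hx, dif_pos hn]; exact (exists_lift hK P hn).choose_spec.2
  have φT : φ hK P (T P) = 0 := by
    rw [← RingHom.mem_ker, ker_φ]; exact Ideal.mem_span_singleton_self _
  set G : Set (Rng P) := insert (T P) (x '' minGens (poleOrders P)) with hG
  have hGm : G ⊆ m := by
    rw [hG, Set.insert_subset_iff]
    refine ⟨(mem_m _).mpr Polynomial.coeff_X_zero, ?_⟩
    rintro _ ⟨n, hn, rfl⟩
    obtain ⟨f, hf⟩ := x_form n hn.1
    rw [SetLike.mem_coe, mem_m, hf, Polynomial.coeff_C_mul_X_pow, if_neg (Ne.symm hn.2.1)]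
  have hpow : ∀ n ∈ poleOrders P, n ≠ 0 → ∃ y ∈ Ideal.span G, φ hK P y = Polynomial.X ^ n := by
    intro n
    induction n using Nat.strong_induction_on with
    | h n ih =>
      intro hn hn0
      by_cases hmin : n ∈ minGens (poleOrders P)
      · exact ⟨x n, Ideal.subset_span (Set.mem_insert_of_mem _ ⟨n, hmin, rfl⟩), x_φ n hn⟩
      · obtain ⟨a, ha, b, hb, ha0, hb0, hab⟩ : ∃ a ∈ poleOrders P, ∃ b ∈ poleOrders P, a ≠ 0 ∧ b ≠ 0 ∧ a + b = n := by
          by_contra hcon
          exact hmin ⟨hn, hn0, fun a ha b hb ha0 hb0 e => hcon ⟨a, ha, b, hb, ha0, hb0, e⟩⟩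
        obtain ⟨y, hy, hya⟩ := ih a (by omega) ha ha0
        obtain ⟨z, hz, hzb⟩ := ih b (by omega) hb hb0
        exact ⟨y * z, Ideal.mul_mem_right _ _ hy, by rw [map_mul, hya, hzb, ← pow_add, hab]⟩
  have hspan : Ideal.span G = m := by
    refine le_antisymm (Ideal.span_le.mpr hGm) fun f hf => ?_
    have hy : ∀ n ∈ (φ hK P f).support, ∃ y ∈ Ideal.span G, φ hK P y = Polynomial.X ^ n := fun n hn => by
      refine hpow n ?_ fun h => Polynomial.mem_support_iff.mp hn (h ▸ φ0 f hf)
      by_contra h
      exact Polynomial.mem_support_iff.mp hn (coeff_φ_eq_zero hK P f h)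
    choose y hyG hyφ using hy
    set w : Rng P := ∑ n ∈ (φ hK P f).support.attach, algebraMap k (Rng P) ((φ hK P f).coeff n.1) * y n.1 n.2 with hw
    have hwG : w ∈ Ideal.span G := sum_mem fun n _ => Ideal.mul_mem_left _ _ (hyG _ _)
    have hwf : φ hK P (f - w) = 0 := by
      rw [map_sub, sub_eq_zero, hw, map_sum]
      conv_lhs => rw [(φ hK P f).as_sum_support_C_mul_X_pow, ← Finset.sum_attach]
      exact Finset.sum_congr rfl fun n _ => by rw [map_mul, AlgHom.commutes, hyφ, Polynomial.C_eq_algebraMap]
    have hT : f - w ∈ Ideal.span G := by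
      rw [← RingHom.mem_ker, ker_φ] at hwf
      exact Ideal.span_mono (Set.singleton_subset_iff.mpr (Set.mem_insert _ _)) hwf
    simpa using add_mem hT hwG
  have hGfin : G.Finite := (hfin.image x).insert _
  refine le_antisymm ?_ ?_
  · rw [← hspan]
    refine (Submodule.spanFinrank_span_le_ncard_of_finite hGfin).trans ((Set.ncard_insert_le _ _).trans ?_)
    gcongr
    exact Set.ncard_image_le hfin
  -- lower bound
  have hFG : m.FG := ⟨hGfin.toFinset, by rw [Set.Finite.coe_toFinset]; exact hspan⟩
  rw [← Submodule.FG.generators_ncard hFG]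
  have hgfin := Submodule.FG.finite_generators hFG
  let S := hfin.toFinset
  let ε : Rng P → k := fun r => (φ hK P r).coeff 0
  have hε : ∀ r : Rng P, algebraMap k K (ε r) = (r : K[X]).coeff 0 := fun r => by
    obtain ⟨c, hc⟩ := L_zero_smul_mem hK P (r.2 0)
    simp only [ε]; rw [coeff_φ, ← hc, lead_const]
  let ψ : Rng P → (Option S → k) := fun f i => i.elim (lead P 0 ((f : K[X]).coeff 1)) (fun h => (φ hK P f).coeff h.1)
  have hψ0 : ψ 0 = 0 := by
    funext i; rcases i with _ | h <;> simp [ψ, lead_zero]
  have hψadd : ∀ f g, ψ (f + g) = ψ f + ψ g := by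
    intro f g; funext i; rcases i with _ | h
    · obtain ⟨c, hc⟩ := L_one_mem hK P hg (f.2 1)
      obtain ⟨d, hd⟩ := L_one_mem hK P hg (g.2 1)
      simp only [ψ, Option.elim, Pi.add_apply, AddMemClass.coe_add, Polynomial.coeff_add]
      rw [← hc, ← hd, ← map_add, lead_const, lead_const, lead_const]
    · simp [ψ]
  have hψmul : ∀ r f, f ∈ m → ψ (r * f) = ε r • ψ f := by
    intro r f hf; funext i; rcases i with _ | h
    · obtain ⟨c, hc⟩ := L_one_mem hK P hg (f.2 1)
      have h1 : ((r * f : Rng P) : K[X]).coeff 1 = (r : K[X]).coeff 0 * (f : K[X]).coeff 1 := by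
        rw [MulMemClass.coe_mul, Polynomial.coeff_mul,
          show Finset.HasAntidiagonal.antidiagonal (1 : ℕ) = {((0 : ℕ), (1 : ℕ)), (1, 0)} from rfl,
          Finset.sum_pair (by decide), (mem_m f).mp hf, mul_zero, add_zero]
      simp only [ψ, Option.elim, Pi.smul_apply, smul_eq_mul, h1]
      rw [← hε, ← hc, ← map_mul, lead_const, lead_const]
    · simp only [ψ, Option.elim, Pi.smul_apply, smul_eq_mul, map_mul, ε]
      have hh := hfin.mem_toFinset.mp h.2
      rw [Polynomial.coeff_mul, Finset.sum_eq_single ((0 : ℕ), h.1)]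
      · rintro ⟨a, b⟩ hab hne
        rw [Finset.HasAntidiagonal.mem_antidiagonal] at hab
        by_contra hne0
        have ha : a ∈ poleOrders P := by
          by_contra h'; exact hne0 (by rw [coeff_φ_eq_zero hK P r h', zero_mul])
        have hb : b ∈ poleOrders P := by
          by_contra h'; exact hne0 (by rw [coeff_φ_eq_zero hK P f h', mul_zero])
        have hb0 : b ≠ 0 := fun e => hne0 (by simp only [e, φ0 f hf, mul_zero])
        by_cases ha0 : a = 0
        · exact hne (by simp only at hab ⊢; rw [ha0, zero_add] at hab; simp [ha0, hab])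
        · exact hh.2.2 a ha b hb ha0 hb0 hab
      · simp [Finset.HasAntidiagonal.mem_antidiagonal]
  have hall : ∀ f ∈ m, ψ f ∈ Submodule.span k (ψ '' m.generators) := by
    intro f hf
    rw [← Submodule.span_generators m] at hf
    induction hf using Submodule.span_induction with
    | mem g hg => exact Submodule.subset_span ⟨g, hg, rfl⟩
    | zero => rw [hψ0]; exact zero_mem _
    | add a b _ _ iha ihb => rw [hψadd]; exact add_mem iha ihb
    | smul r g hg ih =>
      rw [smul_eq_mul, hψmul r g (by rw [← Submodule.span_generators m]; exact hg)]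
      exact Submodule.smul_mem _ _ ih
  have htop : Submodule.span k (ψ '' m.generators) = ⊤ := by
    rw [eq_top_iff, ← (Pi.basisFun k (Option S)).span_eq, Submodule.span_le]
    rintro _ ⟨i, rfl⟩
    rcases i with _ | h
    · rw [SetLike.mem_coe]
      convert hall (T P) (hGm (Set.mem_insert _ _)) using 1
      funext j; rcases j with _ | h
      · simp [ψ, T, lead_const (K := K) P (1 : k) |> fun e => (by simpa using e : lead P 0 (1 : K) = (1 : k))]
      · simp [ψ, φT]
    · have hh := hfin.mem_toFinset.mp h.2
      rw [SetLike.mem_coe]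
      convert hall (x h.1) (hGm (Set.mem_insert_of_mem _ ⟨_, hh, rfl⟩)) using 1
      funext j; rcases j with _ | h'
      · obtain ⟨f, hf⟩ := x_form h.1 hh.1
        have h1 : (1 : ℕ) ≠ h.1 := fun e => one_not_mem_poleOrders hK P hg (e ▸ hh.1)
        simp [ψ, hf, Polynomial.coeff_C_mul_X_pow, if_neg h1, lead_zero]
      · show _ = (φ hK P (x h.1)).coeff h'.1
        rw [x_φ h.1 hh.1, Polynomial.coeff_X_pow, Pi.basisFun_apply, Pi.single_apply]
        by_cases e : h' = h
        · subst e; rw [if_pos rfl, if_pos rfl]
        · rw [if_neg (fun e' => e (Option.some_injective _ e')), if_neg (fun e' => e (Subtype.ext e'))]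
  have hcard : Module.finrank k (Option S → k) ≤ (ψ '' m.generators).ncard := by
    rw [← finrank_top k (Option S → k), ← htop, Set.ncard_eq_toFinset_card _ (hgfin.image ψ)]
    conv_lhs => rw [← (hgfin.image ψ).coe_toFinset]
    exact finrank_span_finset_le_card _
  rw [Module.finrank_pi, Fintype.card_option, Fintype.card_coe, ← Set.ncard_eq_toFinset_card _ hfin] at hcard
  exact hcard.trans (Set.ncard_image_le hgfin)

end Groth.Agent.S18670
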