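import Groth.Statements.S18672
import Groth.Prelude.Def_GrLC

set_option autoImplicit false
universe u
open GrLC

namespace Groth.Agent.S18672

/-- Let R be a graded ring defined over a field k = R_0 which is Cohen–Macaulay and generated over k by
R_1 (the standing hypotheses of this section; only generation in degree one is used), q ≥ 1, R' =
R^(q), and a an integer. Then the Veronese submodule [R(a)]^(q) = ⊕_j R_{a+jq} is generated over R'
by its piece R(a)_n = R_{a+n}, where n is the smallest multiple of q with n + a ≥ 0. Here 'graded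
ring defined over a field' means R = ⊕_{n ≥ 0} R_n is Noetherian with R_0 a field, and m = R_+ is
its unique graded maximal ideal. The Veronese subring R^(q) = ⊕_j R_{jq}, regraded by (R^(q))_j =
R_{jq}, is presented abstractly as a ℤ-graded ring R' with an injective ring homomorphism φ : R' → R
carrying R'_j onto R_{jq} for every j. The module [R(a)]^(q) is presented as a graded R'-module M'
with an injective additive map g : M' → R, semilinear over φ, carrying M'_j onto R_{a+jq} for every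
j; with n = j₀q, the conclusion is that the R'-span of M'_{j₀} is all of M'. -/
theorem result (R : Type u) [CommRing R] [LocCoh.IsCohenMacaulayRing R] (𝒜 : ℤ → AddSubgroup R) [GradedRing 𝒜] (hpos : ∀ n : ℤ, n < 0 → 𝒜 n = ⊥) (h0 : IsField (GrLC.deg0 𝒜)) (hstd : Ideal.span (⋃ n ∈ Set.Ioi (0 : ℤ), (𝒜 n : Set R)) = Ideal.span ((𝒜 1 : AddSubgroup R) : Set R)) (q : ℕ) (hq : 0 < q) (R' : Type u) [CommRing R'] (𝒜' : ℤ → AddSubgroup R') [GradedRing 𝒜'] (φ : R' →+* R) (hφ : Function.Injective φ) (hdeg : ∀ j : ℤ, (𝒜' j).map (φ : R' →+ R) = 𝒜 (j * q)) (a : ℤ) (M' : Type u) [AddCommGroup M'] [Module R' M'] (ℳ' : ℤ → AddSubgroup M') [DirectSum.Decomposition ℳ'] [SetLike.GradedSMul 𝒜' ℳ'] (g : M' →ₛₗ[φ] R) (hg : Function.Injective g) (hgdeg : ∀ j : ℤ, (ℳ' j).map (g : M' →+ R) = 𝒜 (a + j * q)) (j₀ : ℤ) (hj₀ : 0 ≤ a + j₀ * q) (hj₀' : a + (j₀ - 1) * q < 0) : Submodule.span R' ((ℳ' j₀ : AddSubgroup M') : Set M') = ⊤ := by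
  classical
  have hmul : ∀ n : ℕ, ∀ x ∈ 𝒜 ((n + 1 : ℕ) : ℤ),
      x ∈ AddSubgroup.closure {z | ∃ y ∈ 𝒜 (n : ℤ), ∃ w ∈ 𝒜 1, z = y * w} := by
    intro n x hx
    have hxI : x ∈ Ideal.span ((𝒜 1 : AddSubgroup R) : Set R) :=
      hstd.le (Ideal.subset_span (Set.mem_biUnion
        (x := ((n + 1 : ℕ) : ℤ)) (show (0 : ℤ) < ((n + 1 : ℕ) : ℤ) by omega) hx))
    suffices h : ∀ y ∈ Ideal.span ((𝒜 1 : AddSubgroup R) : Set R), ∀ c : R,
        (DirectSum.decompose 𝒜 (c * y) ((n : ℤ) + 1) : R) ∈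
          AddSubgroup.closure {z | ∃ y ∈ 𝒜 (n : ℤ), ∃ w ∈ 𝒜 1, z = y * w} by
      have := h x hxI 1
      rwa [one_mul, DirectSum.decompose_of_mem_same 𝒜 (by push_cast at hx; exact hx)] at this
    intro y hy
    induction hy using Submodule.span_induction with
    | mem w hw =>
      intro c
      rw [DirectSum.coe_decompose_mul_add_of_right_mem 𝒜 hw]
      exact AddSubgroup.subset_closure ⟨_, (DirectSum.decompose 𝒜 c (n : ℤ)).2, w, hw, rfl⟩
    | zero => intro c; simp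
    | add p p' _ _ hp hp' =>
      intro c
      rw [mul_add, DirectSum.decompose_add, DirectSum.add_apply, AddSubgroup.coe_add]
      exact add_mem (hp c) (hp' c)
    | smul r p _ hp => intro c; rw [smul_eq_mul, ← mul_assoc]; exact hp _
  let Q : ℕ → ℕ → AddSubgroup R := fun A B =>
    AddSubgroup.closure {z | ∃ u ∈ 𝒜 (A : ℤ), ∃ v ∈ 𝒜 (B : ℤ), z = u * v}
  have hsplit : ∀ B A : ℕ, ∀ x ∈ 𝒜 ((A + B : ℕ) : ℤ), x ∈ Q A B := by
    intro B
    induction B with
    | zero =>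
      exact fun A x hx => AddSubgroup.subset_closure
        ⟨x, by simpa using hx, 1, SetLike.one_mem_graded 𝒜, (mul_one x).symm⟩
    | succ B ih =>
      intro A x hx
      refine (AddSubgroup.closure_le _).2 ?_ (hmul (A + B) x hx)
      rintro _ ⟨y, hy, w, hw, rfl⟩
      have h1 : (Q A B).map (AddMonoidHom.mulRight w) ≤ Q A (B + 1) := by
        rw [AddMonoidHom.map_closure]
        refine (AddSubgroup.closure_le _).2 ?_
        rintro _ ⟨_, ⟨p, hp, v, hv, rfl⟩, rfl⟩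
        refine AddSubgroup.subset_closure ⟨p, hp, v * w, ?_, mul_assoc _ _ _⟩
        have := SetLike.GradedMul.mul_mem (A := 𝒜) hv hw
        push_cast
        exact this
      exact h1 ⟨y, ih A y hy, rfl⟩
  rw [eq_top_iff]
  intro z _
  rw [← DirectSum.sum_support_decompose ℳ' z]
  refine Submodule.sum_mem _ fun j _ => ?_
  generalize hw : (DirectSum.decompose ℳ' z j : M') = w
  have hwj : w ∈ ℳ' j := hw ▸ (DirectSum.decompose ℳ' z j).2
  have hgw : g w ∈ 𝒜 (a + j * q) := (hgdeg j).le ⟨w, hwj, rfl⟩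
  rcases lt_or_ge j j₀ with hj | hj
  · have hneg : a + j * q < 0 := by
      have : j * (q : ℤ) ≤ (j₀ - 1) * q := mul_le_mul_of_nonneg_right (by omega) (by positivity)
      omega
    have h0 : g w ∈ (⊥ : AddSubgroup R) := hpos _ hneg ▸ hgw
    rw [AddSubgroup.mem_bot] at h0
    rw [hg (h0.trans (map_zero g).symm)]
    exact zero_mem _
  · obtain ⟨e, he⟩ := Int.le.dest hj
    obtain ⟨A, hA⟩ : ∃ A : ℕ, (A : ℤ) = a + j₀ * q := ⟨_, Int.toNat_of_nonneg hj₀⟩
    have hgw' : g w ∈ 𝒜 ((e * q + A : ℕ) : ℤ) := by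
      have : ((e * q + A : ℕ) : ℤ) = a + j * q := by rw [← he]; push_cast; rw [hA]; ring
      rwa [this]
    suffices h : ∀ x ∈ Q (e * q) A, x ∈ ((Submodule.span R' ((ℳ' j₀ : AddSubgroup M') : Set M')).toAddSubgroup.map (g : M' →+ R)) by
      obtain ⟨w', hw', hgw''⟩ := h _ (hsplit A (e * q) _ hgw')
      rw [← hg hgw'']
      exact hw'
    refine fun x hx => (AddSubgroup.closure_le _).2 ?_ hx
    rintro _ ⟨u, hu, v, hv, rfl⟩
    obtain ⟨r', hr', rfl⟩ : ∃ r' ∈ 𝒜' (e : ℤ), φ r' = u := by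
      have : u ∈ 𝒜 ((e : ℤ) * q) := by push_cast at hu; exact hu
      obtain ⟨r', hr', h⟩ := (hdeg e).ge this
      exact ⟨r', hr', h⟩
    obtain ⟨x₀, hx₀, rfl⟩ : ∃ x₀ ∈ ℳ' j₀, g x₀ = v := by
      obtain ⟨x₀, hx₀, h⟩ := (hgdeg j₀).ge (hA ▸ hv)
      exact ⟨x₀, hx₀, h⟩
    exact ⟨r' • x₀, Submodule.smul_mem _ _ (Submodule.subset_span hx₀), map_smulₛₗ g r' x₀⟩

end Groth.Agent.S18672
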