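import Groth.Statements.S18675
import Groth.Agent.GLatLib

set_option autoImplicit false
open GLat

namespace Groth.Agent.S18675

/-- For a finite group G and a finitely generated G-module A there is an exact sequence 0 → Q → P → A →
0 of finitely generated G-modules with P a permutation lattice and Q a coflasque lattice; here
rendered by equivariant ℤ-linear maps i : Q → P injective, π : P → A surjective, with range i = ker
π. -/
theorem result (G : Type) [Group G] [Finite G]
    (A : Type) [AddCommGroup A] [Module.Finite ℤ A] (ρ : Representation ℤ G A) :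
    ∃ (Q : Type) (_ : AddCommGroup Q) (P : Type) (_ : AddCommGroup P)
      (_ : Module.Finite ℤ Q) (_ : Module.Free ℤ Q) (_ : Module.Finite ℤ P) (_ : Module.Free ℤ P)
      (σ : Representation ℤ G Q) (τ : Representation ℤ G P) (i : Q →ₗ[ℤ] P) (π : P →ₗ[ℤ] A),
      GLat.IsEquivariant σ τ i ∧ GLat.IsEquivariant τ ρ π ∧ Function.Injective i ∧ Function.Surjective π ∧
      LinearMap.range i = LinearMap.ker π ∧ GLat.IsPermutation τ ∧ GLat.IsCoflasque σ := by
  classical
  obtain ⟨ι, act, hfin, π, hπ, hsurj, hlift⟩ := GLatLib.exists_coflasque_cover A ρ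
  let Q : Submodule ℤ (ι → ℤ) := LinearMap.ker π
  let σ : Representation ℤ G Q :=
    { toFun := fun g => (GLatLib.permRep G ι g).restrict (p := Q) (q := Q) (fun x hx => by
        rw [LinearMap.mem_ker] at hx ⊢
        rw [hπ, hx, map_zero])
      map_one' := by
        refine LinearMap.ext fun x => Subtype.ext ?_
        show GLatLib.permRep G ι 1 (x : ι → ℤ) = _
        rw [map_one]; rfl
      map_mul' := fun a b => by
        refine LinearMap.ext fun x => Subtype.ext ?_
        show GLatLib.permRep G ι (a * b) (x : ι → ℤ) = _
        rw [map_mul]; rfl }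
  haveI : Module.Finite ℤ Q := Module.Finite.of_injective Q.subtype Subtype.val_injective
  haveI : Module.Free ℤ Q := Module.free_of_finite_type_torsion_free'
  refine ⟨Q, inferInstance, ι → ℤ, inferInstance, inferInstance, inferInstance, inferInstance,
    inferInstance, σ, GLatLib.permRep G ι, Q.subtype, π, fun g m => rfl, hπ,
    Subtype.val_injective, hsurj, Q.range_subtype, GLatLib.isPermutation_permRep ι, ?_⟩
  exact GLatLib.coflasque_ker hπ hlift (σ := σ) (j := Q.subtype) (fun g m => rfl)
    Subtype.val_injective Q.range_subtype

end Groth.Agent.S18675
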