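import Groth.Statements.S18686
import Groth.Agent.GLatLib

set_option autoImplicit false
open GLat

namespace Groth.Agent.S18686

/-- For a finite group G and a G-lattice A (finitely generated and free over ℤ) there is an exact
sequence 0 → A → P → F → 0 of G-lattices with P a permutation lattice and F flasque (a flasque
resolution of A); rendered by equivariant ℤ-linear maps i : A → P injective, π : P → F surjective,
with range i = ker π. -/
theorem result (G : Type) [Group G] [Finite G]
    (A : Type) [AddCommGroup A] [Module.Finite ℤ A] [Module.Free ℤ A] (ρ : Representation ℤ G A) :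
    ∃ (P : Type) (_ : AddCommGroup P) (F : Type) (_ : AddCommGroup F)
      (_ : Module.Finite ℤ P) (_ : Module.Free ℤ P) (_ : Module.Finite ℤ F) (_ : Module.Free ℤ F)
      (σ : Representation ℤ G P) (τ : Representation ℤ G F) (i : A →ₗ[ℤ] P) (π : P →ₗ[ℤ] F),
      GLat.IsEquivariant ρ σ i ∧ GLat.IsEquivariant σ τ π ∧ Function.Injective i ∧ Function.Surjective π ∧
      LinearMap.range i = LinearMap.ker π ∧ GLat.IsPermutation σ ∧ GLat.IsFlasque τ := by
  classical
  obtain ⟨ι, act, hfin, i, hi, ⟨r, hr⟩, hnorm⟩ := GLatLib.exists_flasque_embedding A ρ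
  let R : Submodule ℤ (ι → ℤ) := LinearMap.range i
  let τ : Representation ℤ G ((ι → ℤ) ⧸ R) :=
    { toFun := fun g => R.mapQ R (GLatLib.permRep G ι g) (by
        rintro _ ⟨a, rfl⟩
        exact ⟨ρ g a, hi g a⟩)
      map_one' := by
        refine Submodule.linearMap_qext _ (LinearMap.ext fun x => ?_)
        show Submodule.Quotient.mk (GLatLib.permRep G ι 1 x) = Submodule.Quotient.mk x
        rw [map_one]; rfl
      map_mul' := fun a b => by
        refine Submodule.linearMap_qext _ (LinearMap.ext fun x => ?_)
        show Submodule.Quotient.mk (GLatLib.permRep G ι (a * b) x) = _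
        rw [map_mul]; rfl }
  have hinj : Function.Injective i := Function.LeftInverse.injective (g := r)
    (fun x => LinearMap.congr_fun hr x)
  have hcompl : IsCompl R (LinearMap.ker r) := by
    refine IsCompl.of_eq ?_ ?_
    · rw [eq_bot_iff]
      rintro _ ⟨⟨a, rfl⟩, hx⟩
      have : a = 0 := by
        have h := LinearMap.congr_fun hr a
        simp only [LinearMap.comp_apply, LinearMap.id_apply] at h
        rw [← h]; exact hx
      rw [this, map_zero]; exact zero_mem _
    · rw [eq_top_iff]
      intro x _
      refine Submodule.mem_sup.mpr ⟨i (r x), ⟨_, rfl⟩, x - i (r x), ?_, add_sub_cancel _ _⟩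
      have h := LinearMap.congr_fun hr (r x)
      simp only [LinearMap.comp_apply, LinearMap.id_apply] at h
      rw [LinearMap.mem_ker, map_sub, h, sub_self]
  haveI : Module.Free ℤ (LinearMap.ker r) := Module.free_of_finite_type_torsion_free'
  haveI : Module.Free ℤ ((ι → ℤ) ⧸ R) :=
    Module.Free.of_equiv (Submodule.quotientEquivOfIsCompl R _ hcompl).symm
  refine ⟨ι → ℤ, inferInstance, (ι → ℤ) ⧸ R, inferInstance, inferInstance, inferInstance,
    inferInstance, inferInstance, GLatLib.permRep G ι, τ, i, R.mkQ, hi, fun g m => rfl, hinj,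
    Submodule.mkQ_surjective _, R.ker_mkQ.symm, GLatLib.isPermutation_permRep ι, ?_⟩
  exact GLatLib.flasque_coker hi hnorm (τ := τ) (π := R.mkQ) (fun g m => rfl)
    (Submodule.mkQ_surjective _) R.ker_mkQ.symm

end Groth.Agent.S18686
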