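import Groth.Statements.S18685
import Groth.Agent.GLatLib
import Groth.Agent.S18675
import Groth.Agent.S18686

set_option autoImplicit false
open GLat

namespace Groth.Agent.S18685

/-- For a finite group G and a finitely generated G-module A there is an exact sequence 0 → P → F → A →
0 of finitely generated G-modules with P a permutation lattice and F a flasque lattice; rendered by
equivariant ℤ-linear maps i : P → F injective, π : F → A surjective, with range i = ker π. -/
theorem result (G : Type) [Group G] [Finite G]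
    (A : Type) [AddCommGroup A] [Module.Finite ℤ A] (ρ : Representation ℤ G A) :
    ∃ (P : Type) (_ : AddCommGroup P) (F : Type) (_ : AddCommGroup F)
      (_ : Module.Finite ℤ P) (_ : Module.Free ℤ P) (_ : Module.Finite ℤ F) (_ : Module.Free ℤ F)
      (σ : Representation ℤ G P) (τ : Representation ℤ G F) (i : P →ₗ[ℤ] F) (π : F →ₗ[ℤ] A),
      GLat.IsEquivariant σ τ i ∧ GLat.IsEquivariant τ ρ π ∧ Function.Injective i ∧ Function.Surjective π ∧
      LinearMap.range i = LinearMap.ker π ∧ GLat.IsPermutation σ ∧ GLat.IsFlasque τ := by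
  classical
  obtain ⟨Q, _, L, _, _, _, _, _, σQ, σL, j, π₁, hj, hπ₁, hjinj, hπ₁s, hex₁, hLperm, -⟩ :=
    Groth.Agent.S18675.result G A ρ
  obtain ⟨P, _, F', _, _, _, _, _, σ, τ', i', π', hi', hπ', hi'inj, hπ's, hex', hPperm, hfl⟩ :=
    Groth.Agent.S18686.result G Q σQ
  let R : Submodule ℤ (L × P) := LinearMap.range (j.prod (-i'))
  have hRρ : ∀ g, R ≤ R.comap ((σL g).prodMap (σ g)) := by
    rintro g _ ⟨q, rfl⟩
    refine ⟨σQ g q, ?_⟩
    simp [hj g q, hi' g q]
  let τ : Representation ℤ G ((L × P) ⧸ R) :=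
    { toFun := fun g => R.mapQ R ((σL g).prodMap (σ g)) (hRρ g)
      map_one' := by
        refine Submodule.linearMap_qext _ (LinearMap.ext fun x => ?_)
        show Submodule.Quotient.mk (σL 1 x.1, σ 1 x.2) = Submodule.Quotient.mk x
        rw [map_one, map_one]; rfl
      map_mul' := fun a b => by
        refine Submodule.linearMap_qext _ (LinearMap.ext fun x => ?_)
        show Submodule.Quotient.mk (σL (a * b) x.1, σ (a * b) x.2) = _
        rw [map_mul, map_mul]; rfl }
  have hi'0 : ∀ q, π' (i' q) = 0 := fun q => LinearMap.mem_ker.mp (hex' ▸ ⟨q, rfl⟩)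
  have hj0 : ∀ q, π₁ (j q) = 0 := fun q => LinearMap.mem_ker.mp (hex₁ ▸ ⟨q, rfl⟩)
  let toF' : ((L × P) ⧸ R) →ₗ[ℤ] F' := R.liftQ (π'.comp (LinearMap.snd ℤ L P)) (by
    rintro _ ⟨q, rfl⟩; simp [hi'0 q])
  let toA : ((L × P) ⧸ R) →ₗ[ℤ] A := R.liftQ (π₁.comp (LinearMap.fst ℤ L P)) (by
    rintro _ ⟨q, rfl⟩; simp [hj0 q])
  let inl : L →ₗ[ℤ] (L × P) ⧸ R := R.mkQ.comp (LinearMap.inl ℤ L P)
  let inr : P →ₗ[ℤ] (L × P) ⧸ R := R.mkQ.comp (LinearMap.inr ℤ L P)
  have hinl : Function.Injective inl := by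
    rw [injective_iff_map_eq_zero]
    intro l hl
    obtain ⟨q, hq⟩ := (Submodule.Quotient.mk_eq_zero R).mp hl
    have h1 : j q = l := congrArg Prod.fst hq
    have h2 : -(i' q) = 0 := congrArg Prod.snd hq
    rw [neg_eq_zero] at h2
    rw [← h1, hi'inj (h2.trans (map_zero i').symm), map_zero]
  have hinr : Function.Injective inr := by
    rw [injective_iff_map_eq_zero]
    intro p hp
    obtain ⟨q, hq⟩ := (Submodule.Quotient.mk_eq_zero R).mp hp
    have h1 : j q = 0 := congrArg Prod.fst hq
    have h2 : -(i' q) = p := congrArg Prod.snd hq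
    rw [← h2, hjinj (h1.trans (map_zero j).symm), map_zero, neg_zero]
  have hkerF' : ∀ x, toF' x = 0 → ∃ l, inl l = x := by
    intro x hx
    obtain ⟨⟨l, p⟩, rfl⟩ := Submodule.Quotient.mk_surjective R x
    obtain ⟨q, rfl⟩ : p ∈ LinearMap.range i' := by rw [hex']; exact hx
    refine ⟨l + j q, ?_⟩
    refine (Submodule.Quotient.eq R).mpr ⟨q, ?_⟩
    simp
  haveI : Module.IsTorsionFree ℤ ((L × P) ⧸ R) := by
    rw [Module.isTorsionFree_iff_smul_eq_zero]
    intro c x hcx
    rcases eq_or_ne c 0 with hc | hc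
    · exact Or.inl hc
    refine Or.inr ?_
    have h1 : toF' x = 0 := smul_right_injective F' hc (by
      show c • toF' x = c • (0 : F')
      rw [← map_smul, hcx, map_zero, smul_zero])
    obtain ⟨l, rfl⟩ := hkerF' x h1
    rw [← map_smul] at hcx
    have h2 : c • l = 0 := hinl (hcx.trans (map_zero inl).symm)
    rw [smul_eq_zero_iff_right hc] at h2
    rw [h2, map_zero]
  haveI : Module.Free ℤ ((L × P) ⧸ R) := Module.free_of_finite_type_torsion_free'
  refine ⟨P, inferInstance, (L × P) ⧸ R, inferInstance, inferInstance, inferInstance,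
    inferInstance, inferInstance, σ, τ, inr, toA, ?_, ?_, hinr, ?_, ?_, hPperm, ?_⟩
  · intro g p
    show Submodule.Quotient.mk ((0 : L), σ g p) = Submodule.Quotient.mk (σL g 0, σ g p)
    rw [map_zero]
  · intro g x
    obtain ⟨⟨l, p⟩, rfl⟩ := Submodule.Quotient.mk_surjective R x
    exact hπ₁ g l
  · intro a
    obtain ⟨l, rfl⟩ := hπ₁s a
    exact ⟨inl l, rfl⟩
  · apply le_antisymm
    · rintro _ ⟨p, rfl⟩
      show π₁ 0 = 0
      rw [map_zero]
    · intro x hx
      obtain ⟨⟨l, p⟩, rfl⟩ := Submodule.Quotient.mk_surjective R x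
      obtain ⟨q, rfl⟩ : l ∈ LinearMap.range j := by rw [hex₁]; exact hx
      refine ⟨p + i' q, ?_⟩
      refine (Submodule.Quotient.eq R).mpr ⟨-q, ?_⟩
      simp
  · intro H m hm
    haveI := Fintype.ofFinite H
    rw [finsum_eq_sum_of_fintype] at hm
    have hteq : ∀ g x, toF' (τ g x) = τ' g (toF' x) := by
      intro g x
      obtain ⟨⟨l, p⟩, rfl⟩ := Submodule.Quotient.mk_surjective R x
      exact hπ' g p
    have hm' : ∑ᶠ h : H, τ' (h : G) (toF' m) = 0 := by
      rw [finsum_eq_sum_of_fintype]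
      simp only [← hteq, ← map_sum, hm, map_zero]
    let W : Submodule ℤ ((L × P) ⧸ R) :=
      Submodule.span ℤ {x | ∃ (h : H) (y : (L × P) ⧸ R), x = τ (h : G) y - y}
    have hWsum : ∀ w ∈ W, ∑ h : H, τ (h : G) w = 0 := by
      intro w hw
      induction hw using Submodule.span_induction with
      | mem x hx =>
        obtain ⟨k, y, rfl⟩ := hx
        simp only [map_sub, Finset.sum_sub_distrib]
        rw [sub_eq_zero, ← Equiv.sum_comp (Equiv.mulRight k) (fun h : H => τ (h : G) y)]
        simp [map_mul]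
      | zero => simp
      | add a b _ _ ha hb => simp [Finset.sum_add_distrib, ha, hb]
      | smul c a _ ha => simp [map_smul, ← Finset.smul_sum, ha]
    obtain ⟨w, hw, hwm⟩ : ∃ w ∈ W, toF' w = toF' m := by
      have h1 := hfl H _ hm'
      refine Submodule.mem_map.mp ((show Submodule.span ℤ _ ≤ W.map toF' from ?_) h1)
      rw [Submodule.span_le]
      rintro _ ⟨h, y, rfl⟩
      obtain ⟨p, rfl⟩ := hπ's y
      exact ⟨τ (h : G) (inr p) - inr p, Submodule.subset_span ⟨h, inr p, rfl⟩, by
        rw [map_sub, hteq]; rfl⟩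
    obtain ⟨l, hl⟩ := hkerF' (m - w) (by rw [map_sub, hwm, sub_self])
    have hl0 : ∑ᶠ h : H, σL (h : G) l = 0 := by
      rw [finsum_eq_sum_of_fintype]
      refine hinl ?_
      rw [map_zero, map_sum]
      have : ∀ h : H, inl (σL (h : G) l) = τ (h : G) (inl l) := fun h => by
        show Submodule.Quotient.mk (σL (h : G) l, (0 : P))
          = Submodule.Quotient.mk (σL (h : G) l, σ (h : G) 0)
        rw [map_zero]
      simp only [this, hl, map_sub, Finset.sum_sub_distrib, hm, hWsum w hw, sub_self]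
    have h2 := GLatLib.flasque_of_isPermutation hLperm H l hl0
    have h3 : m - w ∈ W := by
      rw [← hl]
      refine (show (Submodule.span ℤ _).map inl ≤ W from ?_) (Submodule.mem_map_of_mem h2)
      rw [Submodule.map_span, Submodule.span_le]
      rintro _ ⟨_, ⟨h, y, rfl⟩, rfl⟩
      refine Submodule.subset_span ⟨h, inl y, ?_⟩
      rw [map_sub]
      congr 1
      show Submodule.Quotient.mk (σL (h : G) y, (0 : P))
          = Submodule.Quotient.mk (σL (h : G) y, σ (h : G) 0)
      rw [map_zero]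
    have h4 := add_mem h3 hw
    rw [sub_add_cancel] at h4
    exact h4

end Groth.Agent.S18685
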