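import Groth.Statements.S18687
import Groth.Agent.GLatLib
import Groth.Agent.S18675
import Groth.Agent.S18686

set_option autoImplicit false
open GLat

namespace Groth.Agent.S18687

/-- For a finite group G and a G-lattice A (finitely generated and free over ℤ) there is an exact
sequence 0 → A → Q → P → 0 of G-lattices with Q coflasque and P a permutation lattice (a coflasque
resolution of A); rendered by equivariant ℤ-linear maps i : A → Q injective, π : Q → P surjective,
with range i = ker π. -/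
theorem result (G : Type) [Group G] [Finite G]
    (A : Type) [AddCommGroup A] [Module.Finite ℤ A] [Module.Free ℤ A] (ρ : Representation ℤ G A) :
    ∃ (Q : Type) (_ : AddCommGroup Q) (P : Type) (_ : AddCommGroup P)
      (_ : Module.Finite ℤ Q) (_ : Module.Free ℤ Q) (_ : Module.Finite ℤ P) (_ : Module.Free ℤ P)
      (σ : Representation ℤ G Q) (τ : Representation ℤ G P) (i : A →ₗ[ℤ] Q) (π : Q →ₗ[ℤ] P),
      GLat.IsEquivariant ρ σ i ∧ GLat.IsEquivariant σ τ π ∧ Function.Injective i ∧ Function.Surjective π ∧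
      LinearMap.range i = LinearMap.ker π ∧ GLat.IsCoflasque σ ∧ GLat.IsPermutation τ := by
  classical
  obtain ⟨P, _, F, _, _, _, _, _, σ, τ, i, π, hi, hπ, hiinj, hπs, hex, hPperm, -⟩ :=
    Groth.Agent.S18686.result G A ρ
  obtain ⟨Q', _, P', _, _, _, _, _, σ', τ', j, π₂, hj, hπ₂, hjinj, hπ₂s, hex₂, hP'perm, hcofl⟩ :=
    Groth.Agent.S18675.result G F τ
  let Q : Submodule ℤ (P × P') :=
    LinearMap.ker (π.comp (LinearMap.fst ℤ P P') - π₂.comp (LinearMap.snd ℤ P P'))
  have hmemQ : ∀ x : P × P', x ∈ Q ↔ π x.1 = π₂ x.2 := fun x => by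
    simp [Q, sub_eq_zero]
  let σQ : Representation ℤ G Q :=
    { toFun := fun g => ((σ g).prodMap (τ' g)).restrict (p := Q) (q := Q) (fun x hx => by
        rw [hmemQ] at hx ⊢
        show π (σ g x.1) = π₂ (τ' g x.2)
        rw [hπ, hπ₂, hx])
      map_one' := by
        refine LinearMap.ext fun x => Subtype.ext ?_
        show (σ 1 (x : P × P').1, τ' 1 (x : P × P').2) = _
        rw [map_one, map_one]; rfl
      map_mul' := fun a b => by
        refine LinearMap.ext fun x => Subtype.ext ?_
        show (σ (a * b) (x : P × P').1, τ' (a * b) (x : P × P').2) = _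
        rw [map_mul, map_mul]; rfl }
  haveI : Module.Finite ℤ Q := Module.Finite.of_injective Q.subtype Subtype.val_injective
  haveI : Module.Free ℤ Q := Module.free_of_finite_type_torsion_free'
  let ι' : A →ₗ[ℤ] Q := ((LinearMap.inl ℤ P P').comp i).codRestrict Q (fun a => by
    rw [hmemQ]
    show π (i a) = π₂ 0
    rw [map_zero]
    exact LinearMap.mem_ker.mp (hex ▸ ⟨a, rfl⟩))
  let pr : Q →ₗ[ℤ] P' := (LinearMap.snd ℤ P P').comp Q.subtype
  refine ⟨Q, inferInstance, P', inferInstance, inferInstance, inferInstance, inferInstance,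
    inferInstance, σQ, τ', ι', pr, ?_, fun g x => rfl, ?_, ?_, ?_, ?_, hP'perm⟩
  · intro g a
    refine Subtype.ext (Prod.ext (hi g a) ?_)
    show (0 : P') = τ' g 0
    rw [map_zero]
  · intro a b hab
    exact hiinj (congrArg (fun x : Q => (x : P × P').1) hab)
  · intro p'
    obtain ⟨p, hp⟩ := hπs (π₂ p')
    exact ⟨⟨(p, p'), (hmemQ _).mpr hp⟩, rfl⟩
  · apply le_antisymm
    · rintro _ ⟨a, rfl⟩; rfl
    · rintro ⟨⟨p, p'⟩, hx⟩ hx0
      change p' = 0 at hx0
      subst hx0
      rw [hmemQ] at hx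
      obtain ⟨a, rfl⟩ : p ∈ LinearMap.range i := by
        rw [hex, LinearMap.mem_ker]; simpa using hx
      exact ⟨a, Subtype.ext rfl⟩
  · intro H f hf
    obtain ⟨p, hp⟩ := GLatLib.coflasque_of_isPermutation hPperm H (fun a => (f a : P × P').1)
      (fun a b => by rw [hf]; rfl)
    obtain ⟨p', hp'⟩ := hπ₂s (π p)
    let q : Q := ⟨(p, p'), (hmemQ _).mpr hp'.symm⟩
    let z : H → P' := fun a => (f a : P × P').2 - (τ' (a : G) p' - p')
    have hz : ∀ a, z a ∈ LinearMap.range j := by
      intro a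
      rw [hex₂, LinearMap.mem_ker]
      have h1 : π (f a : P × P').1 = π₂ (f a : P × P').2 := (hmemQ _).mp (f a).2
      simp only [z, map_sub, ← h1, hp a]
      rw [hπ (a : G) p, hπ₂ (a : G) p', hp', sub_self]
    choose g hg using hz
    obtain ⟨m, hm⟩ := hcofl H g (fun a b => hjinj (by
      rw [map_add, hj, hg, hg, hg]
      have hf2 : (f (a * b) : P × P').2 = (f a : P × P').2 + τ' (a : G) (f b : P × P').2 := by
        rw [hf]; rfl
      simp only [z, hf2, map_sub, Subgroup.coe_mul, map_mul, Module.End.mul_apply]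
      abel))
    have hjm : ((0 : P), j m) ∈ Q := by
      rw [hmemQ]
      show π 0 = π₂ (j m)
      rw [map_zero, LinearMap.mem_ker.mp (hex₂ ▸ ⟨m, rfl⟩ : j m ∈ LinearMap.ker π₂)]
    refine ⟨q + ⟨(0, j m), hjm⟩, fun a => Subtype.ext (Prod.ext ?_ ?_)⟩
    · show (f a : P × P').1 = σ (a : G) (p + 0) - (p + 0)
      rw [add_zero]; exact hp a
    · show (f a : P × P').2 = τ' (a : G) (p' + j m) - (p' + j m)
      have h1 := hg a
      rw [hm a, map_sub, hj] at h1
      simp only [z] at h1
      rw [map_add, eq_add_of_sub_eq h1.symm]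
      abel

end Groth.Agent.S18687
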