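import Groth.Statements.S18694
import Groth.Agent.GmTorsor.Points
import Groth.Agent.WeilPtsLib.Unit

set_option autoImplicit false
open CategoryTheory MonoidalCategory CartesianMonoidalCategory MonObj GrpObj AlgebraicGeometry
universe u
open MultTori

namespace Groth.Agent.S18694

open CategoryTheory.Limits TensorProduct WeilPtsLib

set_option backward.isDefEq.respectTransparency false in
/-- The unit attached to a point. -/
noncomputable def val {A B : Type u} [CommRing A] [CommRing B] [Algebra A B] {P : Over (Spec (CommRingCat.of A))}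
    (q : Red.bc (Spec.map (CommRingCat.ofHom (algebraMap A B))) P ⟶ Red.Gm (Spec (CommRingCat.of B)))
    (C : Type u) [CommRing C] [Algebra A C] (g : specOver A C ⟶ P) : B ⊗[A] C :=
  GmTorsor.gmVal (f := Spec.map (CommRingCat.ofHom (algebraMap B (B ⊗[A] C))))
    ((bcOverIso C).inv ≫ (bc A B).map g ≫ q)

set_option backward.isDefEq.respectTransparency false in
theorem val_comp {A B : Type u} [CommRing A] [CommRing B] [Algebra A B] {P : Over (Spec (CommRingCat.of A))}
    (q : Red.bc (Spec.map (CommRingCat.ofHom (algebraMap A B))) P ⟶ Red.Gm (Spec (CommRingCat.of B)))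
    {C C' : Type u} [CommRing C] [Algebra A C] [CommRing C'] [Algebra A C'] (π : C →ₐ[A] C')
    (g : specOver A C ⟶ P) :
    val q C' (specHom A π ≫ g) = Algebra.TensorProduct.map (AlgHom.id B B) π (val q C g) := by
  have h : (bcOverIso C').inv ≫ (bc A B).map (specHom A π) =
      GmTorsor.mor (Algebra.TensorProduct.map (AlgHom.id B B) π).toRingHom
        (by
          rw [← Spec.map_comp]
          exact congrArg Spec.map (CommRingCat.hom_ext (Algebra.TensorProduct.map (AlgHom.id B B) π).comp_algebraMap)) ≫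
        (bcOverIso C).inv := Over.OverMorphism.ext (bc_map_specHom A B π)
  show GmTorsor.gmVal ((bcOverIso C').inv ≫ (bc A B).map (specHom A π ≫ g) ≫ q) = _
  rw [Functor.map_comp, Category.assoc, ← Category.assoc (bcOverIso C').inv, h, Category.assoc]
  exact GmTorsor.gmVal_mor _ _ _

/-- Units lift from the residue rings. -/
theorem exists_unit_lift (A B : Type u) [CommRing A] [Finite (MaximalSpectrum A)] [CommRing B] [Algebra A B]
    [Module.Finite A B] (x : ∀ m : MaximalSpectrum A, B ⊗[A] (A ⧸ m.asIdeal)) (hx : ∀ m, IsUnit (x m)) :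
    ∃ z : B ⊗[A] A, IsUnit z ∧
      ∀ m, Algebra.TensorProduct.map (AlgHom.id B B) (Ideal.Quotient.mkₐ A m.asIdeal) z = x m := by
  classical
  haveI : Fintype (MaximalSpectrum A) := Fintype.ofFinite _
  have hcop : Pairwise fun m n : MaximalSpectrum A => IsCoprime m.asIdeal n.asIdeal := fun m n hmn =>
    Ideal.isCoprime_iff_sup_eq.2 (m.isMaximal.coprime_of_ne n.isMaximal fun h => hmn (MaximalSpectrum.ext h))
  let π : A →ₐ[A] ∀ m : MaximalSpectrum A, A ⧸ m.asIdeal := AlgHom.pi fun m => Ideal.Quotient.mkₐ A m.asIdeal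
  have hπ : Function.Surjective π := fun y => by
    obtain ⟨a, ha⟩ := Ideal.Quotient.mk_surjective ((Ideal.quotientInfRingEquivPiQuotient _ hcop).symm y)
    refine ⟨a, ?_⟩
    have := congrArg (Ideal.quotientInfRingEquivPiQuotient _ hcop) ha
    rw [RingEquiv.apply_symm_apply] at this
    rw [← this]
    rfl
  let ρ := Algebra.TensorProduct.piRight A B B fun m : MaximalSpectrum A => A ⧸ m.asIdeal
  obtain ⟨z, hz⟩ := LinearMap.lTensor_surjective B (g := π.toLinearMap) hπ (ρ.symm x)
  have hproj : ∀ (m : MaximalSpectrum A) (z : B ⊗[A] A), ρ (π.toLinearMap.lTensor B z) m =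
      Algebra.TensorProduct.map (AlgHom.id B B) (Ideal.Quotient.mkₐ A m.asIdeal) z := fun m z => by
    induction z using TensorProduct.induction_on with
    | zero => simp
    | tmul b a =>
      show ρ (b ⊗ₜ π a) m = _
      simp [ρ, π]
    | add y w hy hw => simp only [map_add, Pi.add_apply, hy, hw]
  have hzm : ∀ m, Algebra.TensorProduct.map (AlgHom.id B B) (Ideal.Quotient.mkₐ A m.asIdeal) z = x m := fun m => by
    rw [← hproj, hz, AlgEquiv.apply_symm_apply]
  refine ⟨z, ?_, hzm⟩
  by_contra hzu
  obtain ⟨M, hM, hzM⟩ := exists_max_ideal_of_mem_nonunits (mem_nonunits_iff.2 hzu)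
  letI : Algebra A (B ⊗[A] A) := Algebra.TensorProduct.leftAlgebra
  haveI : Module.Finite A (B ⊗[A] A) := Module.Finite.equiv (TensorProduct.rid A B).symm
  haveI := hM
  let m : MaximalSpectrum A := ⟨M.comap (algebraMap A (B ⊗[A] A)),
    Ideal.isMaximal_comap_of_isIntegral_of_isMaximal M⟩
  let φ := Algebra.TensorProduct.map (AlgHom.id B B) (Ideal.Quotient.mkₐ A m.asIdeal)
  have hker : RingHom.ker φ ≤ M := by
    have h : RingHom.ker (Algebra.TensorProduct.map (AlgHom.id A B) (Ideal.Quotient.mkₐ A m.asIdeal)) =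
        (RingHom.ker (Ideal.Quotient.mkₐ A m.asIdeal)).map
          (Algebra.TensorProduct.includeRight : A →ₐ[A] B ⊗[A] A) :=
      Algebra.TensorProduct.lTensor_ker _ Ideal.Quotient.mk_surjective
    have h' : RingHom.ker φ = RingHom.ker (Algebra.TensorProduct.map (AlgHom.id A B) (Ideal.Quotient.mkₐ A m.asIdeal)) := rfl
    rw [h', h]
    refine Ideal.map_le_iff_le_comap.2 fun a ha => ?_
    have ha' : a ∈ m.asIdeal := Ideal.Quotient.eq_zero_iff_mem.1 ha
    show (1 : B) ⊗ₜ[A] a ∈ M
    have e : (1 : B) ⊗ₜ[A] a = algebraMap A (B ⊗[A] A) a := by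
      rw [Algebra.TensorProduct.algebraMap_apply, Algebra.algebraMap_eq_smul_one, TensorProduct.smul_tmul,
        smul_eq_mul]
      exact congrArg (TensorProduct.tmul A (1 : B)) (mul_one a).symm
    rw [e]
    exact ha'
  obtain ⟨w, hw⟩ := hx m
  obtain ⟨y, hy⟩ : ∃ y, φ y = (↑w⁻¹ : B ⊗[A] (A ⧸ m.asIdeal)) :=
    Algebra.TensorProduct.map_surjective _ _ Function.surjective_id Ideal.Quotient.mk_surjective _
  refine hM.ne_top ((Ideal.eq_top_iff_one M).2 ?_)
  have h1 : z * y - 1 ∈ RingHom.ker φ := by
    rw [RingHom.mem_ker, map_sub, map_mul, map_one, hy]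
    show φ z * _ - 1 = 0
    rw [show φ z = (w : B ⊗[A] (A ⧸ m.asIdeal)) from (hzm m).trans hw.symm, Units.mul_inv, sub_self]
  simpa using sub_mem (M.mul_mem_right y hzM) (hker h1)

end Groth.Agent.S18694

namespace Groth.Agent.S18694

/-- In the case of the quasitrivial torus R_{B/A}(G_m), let A be a semilocal ring (finitely many maximal
ideals m, residue fields κ_m = A/m), B a finite étale A-algebra, and (P, q) a Weil restriction along
Spec B → Spec A of the multiplicative group over B (P an A-scheme with q : P ×_A B → G_{m,B}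
universal). Then the reduction map P(A) → ∏_m P(κ_m) is surjective: every family (u_m) of κ_m-points
of P over the closed points of Spec A is the family of restrictions of one section of P over A. (The
source states this for every invertible A-torus and reduces it to this case; the
invertible/quasitrivial notions are not available here, so only this case is stated.) -/
theorem result
    (A : Type u) [CommRing A] [Finite (MaximalSpectrum A)]
    (B : Type u) [CommRing B] [Algebra A B] [Module.Finite A B] [Algebra.Etale A B]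
    (P : Over (Spec (CommRingCat.of A))) (q : Red.bc (Spec.map (CommRingCat.ofHom (algebraMap A B))) P ⟶ Red.Gm (Spec (CommRingCat.of B)))
    (hP : WeilRes.IsWeilRes (Spec.map (CommRingCat.ofHom (algebraMap A B))) (Red.Gm (Spec (CommRingCat.of B))) P q)
    (u : ∀ m : MaximalSpectrum A, Spec (CommRingCat.of (A ⧸ m.asIdeal)) ⟶ P.left)
    (hu : ∀ m : MaximalSpectrum A, u m ≫ P.hom = (Spec.map (CommRingCat.ofHom (Ideal.Quotient.mk m.asIdeal)))) :
    ∃ s : Spec (CommRingCat.of A) ⟶ P.left, s ≫ P.hom = 𝟙 (Spec (CommRingCat.of A)) ∧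
      ∀ m : MaximalSpectrum A, (Spec.map (CommRingCat.ofHom (Ideal.Quotient.mk m.asIdeal))) ≫ s = u m := by
  let g : ∀ m : MaximalSpectrum A, WeilPtsLib.specOver A (A ⧸ m.asIdeal) ⟶ P := fun m =>
    Over.homMk (u m) (hu m)
  obtain ⟨z, hzu, hz⟩ := exists_unit_lift A B (fun m => val q _ (g m)) (fun m => GmTorsor.isUnit_gmVal _)
  obtain ⟨g', hg'⟩ := GmTorsor.exists_gmVal (f := Spec.map (CommRingCat.ofHom (algebraMap B (TensorProduct A B A)))) z hzu
  obtain ⟨s, hs⟩ := (hP (WeilPtsLib.specOver A A)).2 ((WeilPtsLib.bcOverIso A).hom ≫ g')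
  have hval : val q A s = z := by
    rw [← hg']
    show GmTorsor.gmVal ((WeilPtsLib.bcOverIso A).inv ≫ WeilRes.restr _ q _ s) = _
    rw [hs, Iso.inv_hom_id_assoc]
  have hm : ∀ m : MaximalSpectrum A, WeilPtsLib.specHom A (Ideal.Quotient.mkₐ A m.asIdeal) ≫ s = g m := fun m => by
    refine (hP _).1 ((cancel_epi (WeilPtsLib.bcOverIso (A ⧸ m.asIdeal)).inv).1 (GmTorsor.gmVal_injective ?_))
    show val q _ _ = val q _ (g m)
    rw [val_comp, hval, hz]
  refine ⟨s.left, ?_, fun m => congrArg CommaMorphism.left (hm m)⟩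
  rw [Over.w s]
  exact (congrArg Spec.map (by rfl : CommRingCat.ofHom (algebraMap A A) = 𝟙 _)).trans (Spec.map_id _)

end Groth.Agent.S18694
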