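import Groth.Statements.S1870
import Groth.Agent.HerbrandLib

set_option autoImplicit false
universe u v
open CycAlg

namespace Groth.Agent.S1870

/-- A morphism of (2,1)-periodic complexes, both with finite-length cohomology, whose kernel and
cokernel have finite length does not change the additive Herbrand quotient: e_R(M, φ, ψ) = e_R(M',
φ', ψ'). -/
theorem result {R : Type u} [CommRing R] {M M' : Type v} [AddCommGroup M] [Module R M] [AddCommGroup M'] [Module R M'] (φ ψ : M →ₗ[R] M) (φ' ψ' : M' →ₗ[R] M') (h : CycAlg.IsPeriodic φ ψ) (h' : CycAlg.IsPeriodic φ' ψ') (f : M →ₗ[R] M') (cφ : φ' ∘ₗ f = f ∘ₗ φ) (cψ : ψ' ∘ₗ f = f ∘ₗ ψ) (hfin : CycAlg.FinCoh R φ ψ) (hfin' : CycAlg.FinCoh R φ' ψ') (hker : Module.length R (LinearMap.ker f) < ⊤) (hcoker : Module.length R (M' ⧸ LinearMap.range f) < ⊤) : CycAlg.herbrand R φ ψ = CycAlg.herbrand R φ' ψ' := by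
  let K := LinearMap.ker f
  let I := LinearMap.range f
  have hK : ∀ (α : M →ₗ[R] M) (α' : M' →ₗ[R] M'), α' ∘ₗ f = f ∘ₗ α → ∀ x ∈ K, α x ∈ K :=
    fun α α' c x hx => by
      rw [LinearMap.mem_ker, ← LinearMap.comp_apply, ← c, LinearMap.comp_apply,
        LinearMap.mem_ker.mp hx, map_zero]
  have hI : ∀ (α : M →ₗ[R] M) (α' : M' →ₗ[R] M'), α' ∘ₗ f = f ∘ₗ α → ∀ x ∈ I, α' x ∈ I := by
    rintro α α' c _ ⟨x, rfl⟩
    exact ⟨α x, (LinearMap.congr_fun c x).symm⟩
  let φK := φ.restrict (p := K) (q := K) (hK φ φ' cφ)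
  let ψK := ψ.restrict (p := K) (q := K) (hK ψ ψ' cψ)
  let φI := φ'.restrict (p := I) (q := I) (hI φ φ' cφ)
  let ψI := ψ'.restrict (p := I) (q := I) (hI ψ ψ' cψ)
  let φC := I.mapQ I φ' (fun x hx => hI φ φ' cφ x hx)
  let ψC := I.mapQ I ψ' (fun x hx => hI ψ ψ' cψ x hx)
  have hKp : CycAlg.IsPeriodic φK ψK :=
    ⟨LinearMap.ext fun x => Subtype.ext (LinearMap.congr_fun h.1 x),
      LinearMap.ext fun x => Subtype.ext (LinearMap.congr_fun h.2 x)⟩
  have hIp : CycAlg.IsPeriodic φI ψI :=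
    ⟨LinearMap.ext fun x => Subtype.ext (LinearMap.congr_fun h'.1 x),
      LinearMap.ext fun x => Subtype.ext (LinearMap.congr_fun h'.2 x)⟩
  have hCp : CycAlg.IsPeriodic φC ψC :=
    ⟨Submodule.linearMap_qext _ (LinearMap.ext fun x =>
        congrArg Submodule.Quotient.mk (LinearMap.congr_fun h'.1 x)),
      Submodule.linearMap_qext _ (LinearMap.ext fun x =>
        congrArg Submodule.Quotient.mk (LinearMap.congr_fun h'.2 x))⟩
  obtain ⟨fK, eK⟩ := HerbrandLib.finCoh_and_herbrand_of_finite φK ψK hKp hker hker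
  obtain ⟨fC, eC⟩ := HerbrandLib.finCoh_and_herbrand_of_finite φC ψC hCp hcoker hcoker
  obtain ⟨-, -, fI, e1⟩ := HerbrandLib.herbrand_shortExact φK ψK φ ψ φI ψI hKp h K.subtype K.subtype
    f.rangeRestrict f.rangeRestrict (fun x => rfl) (fun x => rfl)
    (fun x => Subtype.ext (LinearMap.congr_fun cφ x)) (fun x => Subtype.ext (LinearMap.congr_fun cψ x))
    Subtype.val_injective Subtype.val_injective f.surjective_rangeRestrict f.surjective_rangeRestrict
    (by rw [Submodule.range_subtype, LinearMap.ker_rangeRestrict])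
    (by rw [Submodule.range_subtype, LinearMap.ker_rangeRestrict]) (Or.inl ⟨fK, hfin⟩)
  obtain ⟨-, -, -, e2⟩ := HerbrandLib.herbrand_shortExact φI ψI φ' ψ' φC ψC hIp h' I.subtype I.subtype
    I.mkQ I.mkQ (fun x => rfl) (fun x => rfl) (fun x => rfl) (fun x => rfl)
    Subtype.val_injective Subtype.val_injective I.mkQ_surjective I.mkQ_surjective
    (by rw [Submodule.range_subtype, Submodule.ker_mkQ])
    (by rw [Submodule.range_subtype, Submodule.ker_mkQ]) (Or.inl ⟨fI, hfin'⟩)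
  rw [e1, e2, eK, eC, sub_self, sub_self, zero_add, add_zero]

end Groth.Agent.S1870
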