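import Groth.Statements.S18701
import Mathlib
import Groth.Agent.QGorLib.Depth

set_option autoImplicit false
universe u
open QGor

namespace Groth.Agent.S18701
open Groth.Agent Groth.Agent.QGorLib
open scoped TensorProduct

/-- Affine form. Let A be a Noetherian ring and G the kernel of a linear map u : E⁰ → E¹ of finite
A-modules. If E⁰ has (S_1) then G has (S_1). If Supp G ⊆ Supp E¹, E¹ has (S_1) and E⁰ has (S_2),
then G has (S_2). -/
theorem result (A : Type u) [CommRing A] [IsNoetherianRing A]
    (E0 E1 : Type u) [AddCommGroup E0] [Module A E0] [Module.Finite A E0] [AddCommGroup E1] [Module A E1]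
    [Module.Finite A E1] (u : E0 →ₗ[A] E1) :
    (LocCoh.HasSk 1 A E0 → LocCoh.HasSk 1 A (LinearMap.ker u)) ∧
    (Module.support A (LinearMap.ker u) ⊆ Module.support A E1 → LocCoh.HasSk 1 A E1 → LocCoh.HasSk 2 A E0 →
      LocCoh.HasSk 2 A (LinearMap.ker u)) := by
  haveI : Module.Finite A (LinearMap.ker u) := Module.Finite.of_fg (IsNoetherian.noetherian _)
  have hinj : ∀ (p : Ideal A) [p.IsPrime],
      Function.Injective (LocalizedModule.map p.primeCompl (LinearMap.ker u).subtype) :=
    fun p _ => LocalizedModule.map_injective _ _ Subtype.val_injective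
  have hex : ∀ (p : Ideal A) [p.IsPrime], Function.Exact
      (LocalizedModule.map p.primeCompl (LinearMap.ker u).subtype) (LocalizedModule.map p.primeCompl u) :=
    fun p _ => IsLocalizedModule.map_exact p.primeCompl (LocalizedModule.mkLinearMap _ _)
      (LocalizedModule.mkLinearMap _ _) (LocalizedModule.mkLinearMap _ _) _ _ (LinearMap.exact_subtype_ker_map u)
  refine ⟨fun h p _ => ?_, fun hsupp h1 h2 p _ => ?_⟩
  · have hd := Module.supportDim_le_of_injective _ (hinj p)
    have := h p
    set d := LocCoh.depth (Localization.AtPrime p) (LocalizedModule p.primeCompl E0)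
    set d' := LocCoh.depth (Localization.AtPrime p) (LocalizedModule p.primeCompl (LinearMap.ker u)) with hd'
    have key : 1 ≤ d → 1 ≤ d' := fun hh => one_le_depth_of_injective _ (hinj p) hh
    rcases (eq_or_ne d 0).imp id (fun h => Order.one_le_iff_pos.mpr (pos_iff_ne_zero.mpr h)) with h0 | h0
    · refine le_trans (le_trans (min_le_min_left _ hd) this) ?_
      rw [h0]
      exact WithBot.coe_le_coe.mpr bot_le
    · exact le_trans (min_le_left _ _) (by exact_mod_cast key h0)
  · have hd := Module.supportDim_le_of_injective _ (hinj p)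
    have hd1 := supportDim_localized_le hsupp p
    have hE0 := h2 p
    have hE1 := h1 p
    generalize hx : Module.supportDim (Localization.AtPrime p) (LocalizedModule p.primeCompl (LinearMap.ker u)) = x at hd hd1 ⊢
    generalize hz : min (2 : WithBot ℕ∞) x = y
    induction y using WithBot.recBotCoe with
    | bot => exact bot_le
    | coe m =>
      have hy2 : (m : WithBot ℕ∞) ≤ 2 := hz.symm.le.trans (min_le_left _ _)
      have hm0 : (m : WithBot ℕ∞) ≤ LocCoh.depth (Localization.AtPrime p) (LocalizedModule p.primeCompl E0) :=
        hz.symm.le.trans ((min_le_min_left _ hd).trans hE0)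
      rw [WithBot.coe_le_coe] at hm0 ⊢
      rcases le_or_gt m 0 with h0 | h0
      · exact h0.trans bot_le
      rcases le_or_gt m 1 with hm | hm
      · exact hm.trans (one_le_depth_of_injective _ (hinj p) ((Order.one_le_iff_pos.mpr h0).trans hm0))
      · have hm2 : (2 : ℕ∞) ≤ m := by
          have := ENat.add_one_le_iff (ENat.one_ne_top) |>.mpr hm
          rwa [one_add_one_eq_two] at this
        refine (WithBot.coe_le_coe.mp hy2).trans (two_le_depth_of_exact _ _ (hinj p) (hex p) (hm2.trans hm0) ?_)
        have hx1 : (1 : WithBot ℕ∞) ≤ x := by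
          refine le_trans ?_ (hz.symm.le.trans (min_le_right _ _))
          exact_mod_cast hm.le
        exact_mod_cast (le_min le_rfl (hx1.trans hd1)).trans hE1
end Groth.Agent.S18701
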