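import Groth.Statements.S18704
import Groth.Agent.QGorLib.Depth
import Groth.Agent.S18699
import Groth.Agent.S18703
import Groth.Agent.S18702
import Groth.Agent.S18724

set_option autoImplicit false
universe u
open QGor

namespace Groth.Agent.S18704
open Groth.Agent Groth.Agent.QGorLib
open scoped TensorProduct

/-- Affine form. Let A be a Noetherian ring with Serre's condition (S_2), I an ideal with ht I ≥ 2
(every prime containing I has height ≥ 2), and G a finite A-module with G_p reflexive for every
prime p not containing I. Then the following are equivalent: (i) G has (S_2) and dim Supp(G_p) ≥ 2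
for every prime p ⊇ I in Supp G; (ii) depth_I G ≥ 2; (iii) G is reflexive. -/
theorem result (A : Type u) [CommRing A] [IsNoetherianRing A]
    (hA : LocCoh.HasSk 2 A A) (I : Ideal A) (hI : 2 ≤ I.height)
    (G : Type u) [AddCommGroup G] [Module A G] [Module.Finite A G]
    (hU : ∀ p : PrimeSpectrum A, ¬ I ≤ p.asIdeal →
      Module.IsReflexive (Localization.AtPrime p.asIdeal) (LocalizedModule p.asIdeal.primeCompl G)) :
    ((LocCoh.HasSk 2 A G ∧ ∀ p : PrimeSpectrum A, I ≤ p.asIdeal → p ∈ Module.support A G →
        (2 : WithBot ℕ∞) ≤ Module.supportDim (Localization.AtPrime p.asIdeal) (LocalizedModule p.asIdeal.primeCompl G)) ↔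
      2 ≤ LocCoh.idealDepth I G) ∧
    (2 ≤ LocCoh.idealDepth I G ↔ Module.IsReflexive A G) := by
  have hA2 : 2 ≤ LocCoh.idealDepth I A := by
    refine S18699.result 2 A A I hA fun p hp _ => ?_
    rw [Module.supportDim_eq_of_equiv (CAlgBasics.selfLocEquiv p.asIdeal.primeCompl),
      Module.supportDim_self_eq_ringKrullDim, IsLocalization.AtPrime.ringKrullDim_eq_height p.asIdeal]
    exact WithBot.coe_le_coe.mpr (hI.trans (Ideal.height_mono hp))
  have r23 : 2 ≤ LocCoh.idealDepth I G → Module.IsReflexive A G := fun h =>
    S18703.result A I (le_trans (by norm_num) hA2) G hU h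
  refine ⟨⟨fun h => S18699.result 2 A G I h.1 h.2, fun h => ⟨?_, fun p hp hs => ?_⟩⟩,
    r23, fun h => ?_⟩
  · haveI := r23 h
    exact hasSk_of_reflexive G le_rfl hA
  · refine le_trans ?_ (S18724.result A G I p hp hs)
    exact WithBot.coe_le_coe.mpr h
  · haveI := h
    exact (S18702.result A I G).2.1 hA2
end Groth.Agent.S18704
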