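import Groth.Statements.S18710
import Groth.Agent.QGorLib.Depth

set_option autoImplicit false
universe u
open QGor

namespace Groth.Agent.S18710
open Groth.Agent Groth.Agent.QGorLib
open scoped TensorProduct

open TensorProduct in
/-- Affine form. Let A → B be a flat homomorphism of Noetherian rings and I an ideal of A with V(I)
contained in the image of Spec B → Spec A (every prime containing I is a contraction of a prime of
B). Then ht(IB) = ht(I) (codimension of the preimage equals codimension), and for every finite
A-module G one has depth_{IB} (B ⊗_A G) = depth_I G. -/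
theorem result (A B : Type u) [CommRing A] [CommRing B]
    [IsNoetherianRing A] [IsNoetherianRing B] [Algebra A B] [Module.Flat A B] (I : Ideal A)
    (hI : ∀ p : PrimeSpectrum A, I ≤ p.asIdeal → ∃ q : PrimeSpectrum B, q.asIdeal.comap (algebraMap A B) = p.asIdeal)
    (G : Type u) [AddCommGroup G] [Module A G] [Module.Finite A G] :
    (I.map (algebraMap A B)).height = I.height ∧
    LocCoh.idealDepth (I.map (algebraMap A B)) (B ⊗[A] G) = LocCoh.idealDepth I G := by
  refine ⟨le_antisymm ?_ ?_, ?_⟩
  · rw [Ideal.height_eq_inf_minimalPrimes (I := I)]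
    refine le_iInf₂ fun p hp => ?_
    haveI : p.IsPrime := hp.1.1
    obtain ⟨q0, hq0⟩ := hI ⟨p, hp.1.1⟩ hp.1.2
    have hle : p.map (algebraMap A B) ≤ q0.asIdeal := Ideal.map_le_iff_le_comap.mpr (le_of_eq hq0.symm)
    obtain ⟨P, hP, hPle⟩ := Ideal.exists_minimalPrimes_le hle
    haveI : P.IsPrime := hP.1.1
    haveI : P.LiesOver p := ⟨le_antisymm (Ideal.map_le_iff_le_comap.mp hP.1.2)
      ((Ideal.comap_mono hPle).trans hq0.le)⟩
    have h0 := Ideal.height_eq_height_add_of_liesOver_of_hasGoingDown p (P := P)
    have h1 : (P.map (Ideal.Quotient.mk (p.map (algebraMap A B)))).height = 0 := by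
      have hmem : P.map (Ideal.Quotient.mk (p.map (algebraMap A B))) ∈ minimalPrimes (B ⧸ p.map (algebraMap A B)) := by
        haveI hPm : (P.map (Ideal.Quotient.mk (p.map (algebraMap A B)))).IsPrime :=
          Ideal.map_isPrime_of_surjective Ideal.Quotient.mk_surjective (by rw [Ideal.mk_ker]; exact hP.1.2)
        refine ⟨⟨hPm, bot_le⟩, fun Q hQ hQP => ?_⟩
        haveI := hQ.1
        have h2 : P ≤ Q.comap (Ideal.Quotient.mk (p.map (algebraMap A B))) :=
          hP.2 ⟨inferInstance, (Ideal.mk_ker (I := p.map (algebraMap A B))).symm.le.trans (Ideal.comap_mono bot_le)⟩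
            ((Ideal.comap_mono hQP).trans (by
              rw [Ideal.comap_map_of_surjective _ Ideal.Quotient.mk_surjective, ← RingHom.ker_eq_comap_bot, Ideal.mk_ker]
              exact sup_le le_rfl hP.1.2))
        exact Ideal.map_le_iff_le_comap.mpr h2
      haveI := hmem.1.1
      exact Ideal.height_eq_zero_iff.mpr hmem
    rw [h1, add_zero] at h0
    rw [← h0]
    exact Ideal.height_mono ((Ideal.map_mono hp.1.2).trans hP.1.2)
  · rw [Ideal.height_eq_inf_minimalPrimes (I := I.map (algebraMap A B))]
    refine le_iInf₂ fun Q hQ => ?_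
    haveI : Q.IsPrime := hQ.1.1
    rw [Ideal.height_eq_height_add_of_liesOver_of_hasGoingDown (Q.under A) (P := Q)]
    exact (Ideal.height_mono (Ideal.map_le_iff_le_comap.mp hQ.1.2)).trans le_self_add
  · have hbc : IsBaseChange B (TensorProduct.mk A B G 1) := TensorProduct.isBaseChange A G B
    by_cases hIG : I • (⊤ : Submodule A G) = ⊤
    · have : I.map (algebraMap A B) • (⊤ : Submodule B (B ⊗[A] G)) = ⊤ := by
        rw [eq_top_iff]
        intro z _
        induction z using TensorProduct.induction_on with
        | zero => exact zero_mem _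
        | add a b ha hb => exact add_mem (ha trivial) (hb trivial)
        | tmul b g =>
          have hg : g ∈ I • (⊤ : Submodule A G) := hIG.symm.le Submodule.mem_top
          refine Submodule.smul_induction_on hg (fun a ha x _ => ?_) fun x y hx hy => ?_
          · rw [TensorProduct.tmul_smul, ← algebraMap_smul B a]
            exact Submodule.smul_mem_smul (Ideal.mem_map_of_mem _ ha) Submodule.mem_top
          · rw [TensorProduct.tmul_add]
            exact add_mem hx hy
      simp only [LocCoh.idealDepth, if_pos hIG, if_pos this]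
    obtain ⟨rs, hrs⟩ := Depth.exists_isMaxSeq (M := G) hIG
    obtain ⟨hw, hm, x, hx, hx'⟩ := hrs
    let P : Submodule A G := Ideal.ofList rs • ⊤
    let K : Ideal A := LinearMap.ker (LinearMap.toSpanSingleton A (G ⧸ P) (Submodule.Quotient.mk x))
    have hIK : I ≤ K := fun a ha => by
      show a • (Submodule.Quotient.mk x : G ⧸ P) = 0
      rw [← Submodule.Quotient.mk_smul, Submodule.Quotient.mk_eq_zero]
      exact hx' a ha
    have hKt : K ≠ ⊤ := fun h => hx (by
      have h1 : (1 : A) ∈ K := h.symm.le Submodule.mem_top
      have h2 : (1 : A) • (Submodule.Quotient.mk x : G ⧸ P) = 0 := h1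
      rw [one_smul] at h2
      exact (Submodule.Quotient.mk_eq_zero _).mp h2)
    let ι : A ⧸ K →ₗ[A] G ⧸ P := K.liftQ (LinearMap.toSpanSingleton A (G ⧸ P) (Submodule.Quotient.mk x)) le_rfl
    have hι : Function.Injective ι := LinearMap.ker_eq_bot.mp (Submodule.ker_liftQ_eq_bot' _ _ rfl)
    have hnz : (1 : B) ⊗ₜ[A] (Submodule.Quotient.mk x : G ⧸ P) ≠ 0 := by
      intro h0
      have h1 : (1 : B) ⊗ₜ[A] (Submodule.Quotient.mk 1 : A ⧸ K) = 0 := by
        apply Module.Flat.lTensor_preserves_injective_linearMap (M := B) ι hι
        rw [map_zero, LinearMap.lTensor_tmul, show ι (Submodule.Quotient.mk 1) = Submodule.Quotient.mk x from (Submodule.liftQ_apply _ _ 1).trans (LinearMap.toSpanSingleton_apply_one A (G ⧸ P) _)]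
        exact h0
      obtain ⟨m, hm, hKm⟩ := Ideal.exists_le_maximal K hKt
      obtain ⟨q, hq⟩ := hI ⟨m, hm.isPrime⟩ (hIK.trans hKm)
      have h2 := congrArg (Algebra.TensorProduct.quotIdealMapEquivTensorQuot B K).symm h1
      rw [map_zero] at h2
      refine q.isPrime.ne_top (eq_top_iff.mpr fun b _ => ?_)
      have h3 : (1 : B) ∈ K.map (algebraMap A B) := by
        rw [← Ideal.Quotient.eq_zero_iff_mem, ← h2]
        exact ((Algebra.TensorProduct.quotIdealMapEquivTensorQuot_symm_tmul (A := A) B K 1 1).trans (by simp)).symm
      have h4 : (1 : B) ∈ q.asIdeal := Ideal.map_le_iff_le_comap.mpr (hKm.trans hq.symm.le) h3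
      simpa using q.asIdeal.mul_mem_left b h4
    have hne : I.map (algebraMap A B) • (⊤ : Submodule B (B ⊗[A] G)) ≠ ⊤ := by
      intro htop
      let g : B ⊗[A] G →ₗ[B] B ⊗[A] (G ⧸ (I • ⊤ : Submodule A G)) := (Submodule.mkQ _).baseChange B
      have hz : ∀ z : B ⊗[A] G, g z = 0 := fun z => by
        refine Submodule.smul_induction_on (htop.symm.le (Submodule.mem_top (x := z))) (fun c hc w _ => ?_)
          fun u v hu hv => by rw [map_add, hu, hv, add_zero]
        rw [map_smul]
        generalize g w = w'
        induction hc using Submodule.span_induction with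
        | mem c hc =>
          obtain ⟨a, ha, rfl⟩ := hc
          induction w' using TensorProduct.induction_on with
          | zero => rw [smul_zero]
          | add u v hu hv => rw [smul_add, hu, hv, add_zero]
          | tmul b m =>
            obtain ⟨m, rfl⟩ := Submodule.Quotient.mk_surjective _ m
            rw [algebraMap_smul, TensorProduct.smul_tmul', TensorProduct.smul_tmul, ← Submodule.Quotient.mk_smul,
              (Submodule.Quotient.mk_eq_zero _).mpr (Submodule.smul_mem_smul ha Submodule.mem_top), TensorProduct.tmul_zero]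
        | zero => rw [zero_smul]
        | add u v _ _ hu hv => rw [add_smul, hu, hv, add_zero]
        | smul c u _ hu => rw [smul_eq_mul, mul_smul, hu, smul_zero]
      obtain ⟨p, hp, hps⟩ : ∃ p : PrimeSpectrum A, I ≤ p.asIdeal ∧ p ∈ Module.support A G := by
        by_contra hno
        push Not at hno
        have h' : ∀ q : PrimeSpectrum A, q ∉ Module.support A (G ⧸ (I • ⊤ : Submodule A G)) := fun q hq => by
          have h5 := Module.support_quotient (M := G) (I := I) ▸ hq
          exact hno q (by simpa using h5.2) h5.1
        haveI : Subsingleton (G ⧸ (I • ⊤ : Submodule A G)) :=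
          Module.support_eq_empty_iff.mp (Set.eq_empty_of_forall_notMem h')
        exact hIG (Submodule.Quotient.subsingleton_iff.mp inferInstance)
      obtain ⟨q, hq⟩ := hI p hp
      haveI : Module.FaithfullyFlat A A := inferInstance
      obtain ⟨m, hm⟩ : ∃ m : G ⧸ (I • ⊤ : Submodule A G), ∀ r ∉ p.asIdeal, r • m ≠ 0 := by
        refine Module.mem_support_iff'.mp ?_
        rw [Module.support_quotient]
        exact ⟨hps, by simpa using hp⟩
      let Km : Ideal A := LinearMap.ker (LinearMap.toSpanSingleton A _ m)
      have hKp : Km ≤ p.asIdeal := fun r hr => by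
        by_contra h
        exact hm r h (by simpa [Km] using hr)
      let j : A ⧸ Km →ₗ[A] G ⧸ (I • ⊤ : Submodule A G) := Km.liftQ (LinearMap.toSpanSingleton A _ m) le_rfl
      have hj : Function.Injective j := LinearMap.ker_eq_bot.mp (Submodule.ker_liftQ_eq_bot' _ _ rfl)
      obtain ⟨m0, rfl⟩ := Submodule.Quotient.mk_surjective _ m
      have h6 := hz (1 ⊗ₜ[A] m0)
      have h1 : (1 : B) ⊗ₜ[A] (Submodule.Quotient.mk 1 : A ⧸ Km) = 0 := by
        apply Module.Flat.lTensor_preserves_injective_linearMap (M := B) j hj
        rw [map_zero, LinearMap.lTensor_tmul, show j (Submodule.Quotient.mk 1) = Submodule.Quotient.mk m0 from (Submodule.liftQ_apply _ _ 1).trans (LinearMap.toSpanSingleton_apply_one A _ _)]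
        exact h6
      have h2 := congrArg (Algebra.TensorProduct.quotIdealMapEquivTensorQuot B Km).symm h1
      rw [map_zero] at h2
      have h3 : (1 : B) ∈ Km.map (algebraMap A B) := by
        rw [← Ideal.Quotient.eq_zero_iff_mem, ← h2]
        exact ((Algebra.TensorProduct.quotIdealMapEquivTensorQuot_symm_tmul (A := A) B Km 1 1).trans (by simp)).symm
      exact q.isPrime.ne_top ((Ideal.eq_top_iff_one _).mpr
        (Ideal.map_le_iff_le_comap.mpr (hKp.trans hq.symm.le) h3))
    have hmax : Depth.IsMaxSeq (I.map (algebraMap A B)) (B ⊗[A] G) (rs.map (algebraMap A B)) := by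
      refine ⟨hw.of_flat_of_isBaseChange hbc, fun r hr => ?_, 1 ⊗ₜ x, fun h => hnz ?_, fun r hr => ?_⟩
      · obtain ⟨a, ha, rfl⟩ := List.mem_map.mp hr
        exact Ideal.mem_map_of_mem _ (hm a ha)
      · rw [← Ideal.map_ofList] at h
        let g : B ⊗[A] G →ₗ[B] B ⊗[A] (G ⧸ P) := (Submodule.mkQ P).baseChange B
        have hgz : g ((1 : B) ⊗ₜ x) = 0 := by
          refine Submodule.smul_induction_on h (fun c hc w _ => ?_) fun u v hu hv => by rw [map_add, hu, hv, add_zero]
          rw [map_smul]
          generalize g w = w'
          induction hc using Submodule.span_induction with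
          | mem c hc =>
            obtain ⟨a, ha, rfl⟩ := hc
            induction w' using TensorProduct.induction_on with
            | zero => rw [smul_zero]
            | add u v hu hv => rw [smul_add, hu, hv, add_zero]
            | tmul b m =>
              obtain ⟨m, rfl⟩ := Submodule.Quotient.mk_surjective _ m
              rw [algebraMap_smul, TensorProduct.smul_tmul', TensorProduct.smul_tmul, ← Submodule.Quotient.mk_smul,
                (Submodule.Quotient.mk_eq_zero P).mpr (Submodule.smul_mem_smul ha Submodule.mem_top), TensorProduct.tmul_zero]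
          | zero => rw [zero_smul]
          | add u v _ _ hu hv => rw [add_smul, hu, hv, add_zero]
          | smul c u _ hu => rw [smul_eq_mul, mul_smul, hu, smul_zero]
        simpa [g] using hgz
      · rw [← Ideal.map_ofList]
        induction hr using Submodule.span_induction with
        | mem w hw' =>
          obtain ⟨a, ha, rfl⟩ := hw'
          rw [algebraMap_smul, ← TensorProduct.tmul_smul]
          refine Submodule.smul_induction_on (hx' a ha) (fun c hc m _ => ?_) fun u v hu hv => ?_
          · rw [TensorProduct.tmul_smul, ← algebraMap_smul B c]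
            exact Submodule.smul_mem_smul (Ideal.mem_map_of_mem _ hc) Submodule.mem_top
          · rw [TensorProduct.tmul_add]
            exact add_mem hu hv
        | zero => rw [zero_smul]; exact zero_mem _
        | add u v _ _ hu hv => rw [add_smul]; exact add_mem hu hv
        | smul c u _ hu => rw [smul_eq_mul, mul_smul]; exact Submodule.smul_mem _ c hu
    rw [Depth.idealDepth_eq_length hne hmax, Depth.idealDepth_eq_length hIG ⟨hw, hm, x, hx, hx'⟩, List.length_map]
end Groth.Agent.S18710
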