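import Groth.Statements.S18712
import Groth.Agent.FibreDualLib.ArtinPrime
import Groth.Agent.CubeLib.Cube
import Groth.Agent.EGA4Dim.SnFormal
import Groth.Agent.EGA4Dim.TensorSk
-- import your own Groth.Agent.* helpers here

set_option autoImplicit false
set_option backward.isDefEq.respectTransparency false
set_option maxHeartbeats 1600000
set_option backward.isDefEq.respectTransparency.types false
set_option linter.style.haveILetI false
set_option synthInstance.maxHeartbeats 200000
universe u
open QGor Groth.Agent

namespace Groth.Agent.S18712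

open TensorProduct in
/-- Infinitesimal criterion, affine-local form. Let R be a Noetherian local ring with maximal ideal m, C
a finitely generated flat R-algebra, y = n a prime of C over m at which the fibre C_n/mC_n satisfies
S₂ (the structure morphism satisfies relative S₂ at y), and F a finite reflexive C-module which is
free at every prime not containing an ideal J such that every fibre local ring C_q/pC_q at primes q
⊇ J has dimension ≥ 2 (F is locally free in codimension one on each fibre). Suppose that for every
surjective homomorphism R → A′ onto an Artinian local ring and the Noetherian pushout C′ = A′ ⊗_R C,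
at every prime q′ of C′ lying over n the double dual (C′ ⊗_C F)^∨∨ is flat over A′ at q′ and its
fibre stalk satisfies S₂. Then F is flat over R at n and the fibre stalk F_n/mF_n satisfies S₂ (F
satisfies relative S₂ at y). Test rings A′ range over the universe of R. -/
theorem result (R C : Type u) [CommRing R] [CommRing C] [IsNoetherianRing R] [IsLocalRing R] [IsNoetherianRing C]
    [Algebra R C] [Module.Flat R C] (hft : Algebra.FiniteType R C)
    (n : PrimeSpectrum C) (hn : (IsLocalRing.maximalIdeal R).map (algebraMap R C) ≤ n.asIdeal)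
    (hS2 : LocCoh.HasSk 2 (EGA4.FibLocRing R C n.asIdeal) (EGA4.FibLocRing R C n.asIdeal))
    (F : Type u) [AddCommGroup F] [Module C F] [Module R F] [IsScalarTower R C F] [Module.Finite C F]
    [Module.IsReflexive C F] (J : Ideal C)
    (hFU : ∀ q : PrimeSpectrum C, ¬ J ≤ q.asIdeal → Module.Free (Localization.AtPrime q.asIdeal) (LocalizedModule q.asIdeal.primeCompl F))
    (hcodim : ∀ q : PrimeSpectrum C, J ≤ q.asIdeal → (2 : WithBot ℕ∞) ≤ ringKrullDim (EGA4.FibLocRing R C q.asIdeal))
    (hI : ∀ (A' : Type u) [CommRing A'] [IsArtinianRing A'] [IsLocalRing A'] [Algebra R A'],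
      Function.Surjective (algebraMap R A') →
      ∀ (C' : Type u) [CommRing C'] [IsNoetherianRing C'] [Algebra C C'] [Algebra A' C'] [Algebra R C']
        [IsScalarTower R C C'] [IsScalarTower R A' C'], Algebra.IsPushout R C A' C' →
        ∀ q' : PrimeSpectrum C', q'.asIdeal.comap (algebraMap C C') = n.asIdeal →
          FlatCA.FlatAt A' q'.asIdeal (Module.Dual C' (Module.Dual C' (C' ⊗[C] F))) ∧
          LocCoh.HasSk 2 (EGA4.FibLocRing A' C' q'.asIdeal)
            (EGA4.FibLocMod A' C' q'.asIdeal (Module.Dual C' (Module.Dual C' (C' ⊗[C] F))))) :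
    FlatCA.FlatAt R n.asIdeal F ∧ LocCoh.HasSk 2 (EGA4.FibLocRing R C n.asIdeal) (EGA4.FibLocMod R C n.asIdeal F) := by
    classical
    let B := Localization.AtPrime n.asIdeal
    let Fn := LocalizedModule n.asIdeal.primeCompl F
    let m := IsLocalRing.maximalIdeal R
    haveI := FibreDualLib.isReflexive_localizedModule (M := F) n.asIdeal
    haveI : Module.Finite B Fn :=
      Module.Finite.of_isLocalizedModule n.asIdeal.primeCompl (LocalizedModule.mkLinearMap n.asIdeal.primeCompl F)
    haveI : Module.Flat C B := IsLocalization.flat B n.asIdeal.primeCompl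
    haveI : Module.Flat R B := Module.Flat.trans R C B
    have hnm : n.asIdeal.comap (algebraMap R C) = m :=
      ((IsLocalRing.maximalIdeal.isMaximal R).eq_of_le (Ideal.IsPrime.comap _).ne_top (Ideal.map_le_iff_le_comap.1 hn)).symm
    haveI : IsLocalHom (algebraMap R B) := ⟨fun a ha => by
      by_contra h
      have h' : algebraMap R C a ∈ n.asIdeal := hnm.ge h
      rw [IsScalarTower.algebraMap_apply R C B] at ha
      exact ((IsLocalization.AtPrime.isUnit_to_map_iff B n.asIdeal _).1 ha) h'⟩
    have hmB : (n.asIdeal.comap (algebraMap R C)).map (algebraMap R B) = EGA4.mB R B := by rw [hnm]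
    by_cases hJn : J ≤ n.asIdeal
    swap
    · have hfree := hFU n hJn
      refine ⟨FibDepthLib.flatAt_of_flatAt_self n (FibDepthLib.flatAt_self_of_free n hfree), ?_⟩
      haveI := hfree
      let I := (n.asIdeal.comap (algebraMap R C)).map (algebraMap R B)
      haveI : Module.Free (B ⧸ I) (Fn ⧸ (I • ⊤ : Submodule B Fn)) :=
        Module.Free.of_equiv (LinearEquiv.extendScalarsOfSurjective Ideal.Quotient.mk_surjective
          (TensorProduct.quotTensorEquivQuotSMul Fn I))
      haveI : Module.Finite (B ⧸ I) (Fn ⧸ (I • ⊤ : Submodule B Fn)) := Module.Finite.of_restrictScalars_finite B _ _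
      exact QGorLib.hasSk_of_reflexive (A := B ⧸ I) (Fn ⧸ (I • ⊤ : Submodule B Fn)) le_rfl hS2
    let JB := J.map (algebraMap C B)
    let Fi := EGA4.FibLocRing R C n.asIdeal
    have hB0 : 2 ≤ LocCoh.idealDepth JB (EGA4.FibMod R B B) := by
      have hFi : 2 ≤ LocCoh.idealDepth (JB.map (algebraMap B Fi)) Fi := by
        rw [← Nat.cast_ofNat, QGorLib.le_idealDepth_iff_forall]
        intro P hP
        let q : Ideal C := P.asIdeal.comap (algebraMap C Fi)
        have hJq : J ≤ q := fun x hx => by
          rw [Ideal.mem_comap, IsScalarTower.algebraMap_apply C B Fi]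
          exact hP (Ideal.mem_map_of_mem _ (Ideal.mem_map_of_mem _ hx))
        have hqn : q ≤ n.asIdeal := fun x hx => by
          by_contra hxn
          refine P.2.ne_top (Ideal.eq_top_of_isUnit_mem _ hx ?_)
          rw [IsScalarTower.algebraMap_apply C B Fi]
          exact (IsLocalization.map_units B (⟨x, hxn⟩ : n.asIdeal.primeCompl)).map _
        have hc : q.comap (algebraMap R C) = n.asIdeal.comap (algebraMap R C) := by
          refine le_antisymm (Ideal.comap_mono hqn) fun r hr => ?_
          rw [Ideal.mem_comap, Ideal.mem_comap, ← IsScalarTower.algebraMap_apply, IsScalarTower.algebraMap_apply R B Fi,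
            Ideal.Quotient.algebraMap_eq, Ideal.Quotient.eq_zero_iff_mem.2 (Ideal.mem_map_of_mem _ hr)]
          exact P.asIdeal.zero_mem
        have hd : ((2 : ℕ) : WithBot ℕ∞) ≤ Module.supportDim (Localization.AtPrime P.asIdeal)
            (LocalizedModule P.asIdeal.primeCompl Fi) := by
          rw [Module.supportDim_eq_of_equiv (CAlgBasics.selfLocEquiv P.asIdeal.primeCompl),
            Module.supportDim_self_eq_ringKrullDim]
          haveI : q.IsPrime := Ideal.IsPrime.comap _
          exact (hcodim ⟨q, inferInstance⟩ hJq).trans (FibreDualLib.fibLocRing_dim_le n.asIdeal q hqn hc P.asIdeal rfl)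
        have h2 := hS2 P.asIdeal
        rw [min_eq_left hd] at h2
        exact WithBot.coe_le_coe.1 h2
      rw [FibreDualLib.idealDepth_map_of_surjective (R := Fi) Ideal.Quotient.mk_surjective] at hFi
      exact hFi.trans_eq (CAlgBasics.idealDepth_congr (Submodule.quotEquivOfEq _ _ (by
        rw [smul_eq_mul, Ideal.mul_top]; exact hmB)))
    have hbcB := IsLocalizedModule.isBaseChange n.asIdeal.primeCompl B (LocalizedModule.mkLinearMap n.asIdeal.primeCompl F)
    have hFnU : ∀ q : PrimeSpectrum B, ¬ JB ≤ q.asIdeal →
        Module.Free (Localization.AtPrime q.asIdeal) (LocalizedModule q.asIdeal.primeCompl Fn) := by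
      intro q hq
      have hq' : ¬ J ≤ (PrimeSpectrum.comap (algebraMap C B) q).asIdeal := fun h => hq (Ideal.map_le_iff_le_comap.mpr h)
      have h : q ∈ Module.freeLocus B (B ⊗[C] F) := Module.comap_freeLocus_le (R := C) (M := F) (A := B)
        (show q ∈ PrimeSpectrum.comap (algebraMap C B) ⁻¹' Module.freeLocus C F from hFU _ hq')
      rw [Module.freeLocus_congr hbcB.equiv] at h
      exact h
    have hk : ∀ (k : ℕ) (C2 : Type u) [CommRing C2] [Algebra B C2], Function.Surjective (algebraMap B C2) →
        RingHom.ker (algebraMap B C2) = (m ^ (k + 1)).map (algebraMap R B) →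
        2 ≤ LocCoh.idealDepth (JB.map (algebraMap B C2))
          (Module.Dual C2 (Module.Dual C2 (C2 ⊗[B] Fn)) ⧸
            ((EGA4.mB R B).map (algebraMap B C2) • ⊤ : Submodule C2 (Module.Dual C2 (Module.Dual C2 (C2 ⊗[B] Fn))))) := by
      intro k C2 _ _ hsurj hker
      haveI : IsNoetherianRing C2 := isNoetherianRing_of_surjective B C2 (algebraMap B C2) hsurj
      have hkB : (m ^ (k + 1)).map (algebraMap R B) ≤ IsLocalRing.maximalIdeal B :=
        (Ideal.map_mono (Ideal.pow_le_self (Nat.succ_ne_zero k))).trans (IsLocalRing.map_maximalIdeal_le _)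
      let A' := R ⧸ m ^ (k + 1)
      haveI : m.IsMaximal := IsLocalRing.maximalIdeal.isMaximal R
      haveI : IsArtinianRing A' := (CubeLib.isArtinianRing_quot_pow m k).1
      haveI : IsLocalRing A' := (CubeLib.isArtinianRing_quot_pow m k).2
      let I : Ideal C := (m ^ (k + 1)).map (algebraMap R C)
      let C' := C ⧸ I
      letI : Algebra A' C' := Ideal.Quotient.algebraQuotientOfLEComap Ideal.le_comap_map
      haveI : IsScalarTower R A' C' := .of_algebraMap_eq fun r => rfl
      haveI : Algebra.IsPushout R A' C C' := EtAlgEasy.FibFlat.isPushout_quot (m ^ (k + 1))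
      haveI : Algebra.IsPushout R C A' C' := Algebra.IsPushout.symm inferInstance
      letI : Algebra C C2 := ((algebraMap B C2).comp (algebraMap C B)).toAlgebra
      haveI : IsScalarTower C B C2 := .of_algebraMap_eq fun c => rfl
      have hI0 : I ≤ RingHom.ker (algebraMap C C2) := fun x hx => by
        have : algebraMap C B x ∈ RingHom.ker (algebraMap B C2) := by
          rw [hker, IsScalarTower.algebraMap_eq R C B, ← Ideal.map_map]
          exact Ideal.mem_map_of_mem _ hx
        exact this
      letI : Algebra C' C2 := (Ideal.Quotient.lift I (algebraMap C C2) fun x hx => hI0 hx).toAlgebra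
      haveI : IsScalarTower C C' C2 := .of_algebraMap_eq fun c => rfl
      have hIn : I ≤ n.asIdeal := (Ideal.map_mono (Ideal.pow_le_self (Nat.succ_ne_zero k))).trans hn
      let q' : Ideal C' := n.asIdeal.map (Ideal.Quotient.mk I)
      haveI hq' : q'.IsPrime := Ideal.map_isPrime_of_surjective Ideal.Quotient.mk_surjective (by rw [Ideal.mk_ker]; exact hIn)
      have hq'c : q'.comap (algebraMap C C') = n.asIdeal := by
        rw [Ideal.Quotient.algebraMap_eq, Ideal.comap_map_of_surjective' _ Ideal.Quotient.mk_surjective, Ideal.mk_ker]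
        exact sup_eq_left.2 hIn
      -- the infinitesimal neighbourhood is the local ring of the pushout
      haveI : IsLocalization.AtPrime C2 q' := by
        have hmem : ∀ c : C, Ideal.Quotient.mk I c ∈ q' ↔ c ∈ n.asIdeal := fun c => by
          conv_rhs => rw [← hq'c]
          rfl
        refine ⟨⟨fun s => ?_, fun z => ?_, fun {x y} hxy => ?_⟩⟩
        · obtain ⟨c, hc⟩ := Ideal.Quotient.mk_surjective (s : C')
          have hcn : c ∉ n.asIdeal := fun h => s.2 (hc ▸ (hmem c).2 h)
          rw [← hc]
          exact (IsLocalization.map_units B (⟨c, hcn⟩ : n.asIdeal.primeCompl)).map (algebraMap B C2)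
        · obtain ⟨b, rfl⟩ := hsurj z
          obtain ⟨c, s, rfl⟩ := IsLocalization.exists_mk'_eq n.asIdeal.primeCompl b
          refine ⟨⟨Ideal.Quotient.mk I c, ⟨Ideal.Quotient.mk I s, fun h => s.2 ((hmem _).1 h)⟩⟩, ?_⟩
          show algebraMap B C2 (IsLocalization.mk' B c s) * algebraMap B C2 (algebraMap C B s) =
            algebraMap B C2 (algebraMap C B c)
          rw [← map_mul, IsLocalization.mk'_spec]
        · obtain ⟨x, rfl⟩ := Ideal.Quotient.mk_surjective x
          obtain ⟨y, rfl⟩ := Ideal.Quotient.mk_surjective y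
          have h : algebraMap C B (x - y) ∈ I.map (algebraMap C B) := by
            rw [Ideal.map_map, ← IsScalarTower.algebraMap_eq, ← hker, RingHom.mem_ker, map_sub, map_sub, sub_eq_zero]
            exact hxy
          rw [IsLocalization.algebraMap_mem_map_algebraMap_iff n.asIdeal.primeCompl] at h
          obtain ⟨s, hs, hsx⟩ := h
          refine ⟨⟨Ideal.Quotient.mk I s, fun h => hs ((hmem _).1 h)⟩, ?_⟩
          show Ideal.Quotient.mk I s * Ideal.Quotient.mk I x = Ideal.Quotient.mk I s * Ideal.Quotient.mk I y
          rw [← map_mul, ← map_mul, Ideal.Quotient.eq, ← mul_sub]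
          exact hsx
      letI : Module C' (C2 ⊗[B] Fn) := Module.compHom _ (algebraMap C' C2)
      haveI : IsScalarTower C' C2 (C2 ⊗[B] Fn) := .of_algebraMap_smul fun _ _ => rfl
      haveI : IsScalarTower C C' (C2 ⊗[B] Fn) := .of_algebraMap_smul fun c x => by
        show algebraMap C' C2 (algebraMap C C' c) • x = c • x
        rw [← IsScalarTower.algebraMap_apply, algebraMap_smul]
      have h12 : IsBaseChange C2 (((TensorProduct.mk B C2 Fn 1).restrictScalars C).comp
          (LocalizedModule.mkLinearMap n.asIdeal.primeCompl F)) :=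
        hbcB.comp (TensorProduct.isBaseChange B Fn C2)
      have h1 := TensorProduct.isBaseChange C F C'
      let f : C' ⊗[C] F →ₗ[C'] C2 ⊗[B] Fn := h1.lift (((TensorProduct.mk B C2 Fn 1).restrictScalars C).comp
        (LocalizedModule.mkLinearMap n.asIdeal.primeCompl F))
      have hf : IsBaseChange C2 f := IsBaseChange.of_comp h1 (by rw [h1.lift_comp]; exact h12)
      haveI : IsLocalizedModule q'.primeCompl f := (isLocalizedModule_iff_isBaseChange q'.primeCompl C2 f).2 hf
      obtain ⟨g, hg⟩ := FibreDualLib.exists_isLocalizedModule_dualDual q'.primeCompl C2 (C' ⊗[C] F) (C2 ⊗[B] Fn) f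
      let DD' := Module.Dual C' (Module.Dual C' (C' ⊗[C] F))
      let DD := Module.Dual C2 (Module.Dual C2 (C2 ⊗[B] Fn))
      obtain ⟨-, hsk⟩ := hI A' Ideal.Quotient.mk_surjective C' inferInstance ⟨q', hq'⟩ hq'c
      haveI : Nontrivial C2 := ⟨⟨0, 1, fun h => (IsLocalRing.maximalIdeal.isMaximal B).ne_top ((Ideal.eq_top_iff_one _).2
        (hkB (hker ▸ (RingHom.mem_ker.2 (by rw [map_one, ← h]) : (1 : B) ∈ RingHom.ker (algebraMap B C2)))))⟩⟩
      let I2 : Ideal C2 := (EGA4.mB R B).map (algebraMap B C2)
      have hI2 : I2 ≤ nilradical C2 := by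
        show (m.map (algebraMap R B)).map (algebraMap B C2) ≤ _
        rw [Ideal.map_map, Ideal.map_le_iff_le_comap]
        intro r hr
        refine mem_nilradical.2 ⟨k + 1, ?_⟩
        rw [← map_pow]
        exact (hker.ge (Ideal.mem_map_of_mem _ (Ideal.pow_mem_pow hr _)) :)
      haveI : Module.Finite C2 (C2 ⊗[B] Fn) := inferInstance
      haveI : Module.FinitePresentation C2 (C2 ⊗[B] Fn) := Module.finitePresentation_of_finite C2 _
      haveI : Module.Finite C2 (Module.Dual C2 (C2 ⊗[B] Fn)) := inferInstance
      haveI : Module.FinitePresentation C2 (Module.Dual C2 (C2 ⊗[B] Fn)) := Module.finitePresentation_of_finite C2 _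
      haveI : Module.Finite C2 DD := inferInstance
      have hC2 : 2 ≤ LocCoh.idealDepth (JB.map (algebraMap B C2)) C2 := by
        rw [FibreDualLib.idealDepth_map_of_surjective hsurj]
        exact (S18706.result R B JB B (fun q _ => FibDepthLib.flatAt_of_flatAt_self q
          (FibDepthLib.flatAt_self_of_free q (Module.Free.of_equiv (CAlgBasics.selfLocEquiv q.asIdeal.primeCompl).symm)))
          hB0 k).trans_eq (CAlgBasics.idealDepth_congr ((Submodule.quotEquivOfEq _ _ (show
            ((EGA4.mB R B) ^ (k + 1) • ⊤ : Submodule B B) = LinearMap.ker (Algebra.linearMap B C2) by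
              rw [smul_eq_mul, Ideal.mul_top,
                show LinearMap.ker (Algebra.linearMap B C2) = RingHom.ker (algebraMap B C2) from rfl, hker]
              exact (Ideal.map_pow (algebraMap R B) m (k + 1)).symm)).trans
            ((Algebra.linearMap B C2).quotKerEquivOfSurjective hsurj)))
      refine FibreDualLib.two_le_idealDepth_of_hasSk _ I2 hI2 DD (FibDepthLib.two_le_idealDepth_dual hC2 _) ?_
      have hqA : q'.comap (algebraMap A' C') = IsLocalRing.maximalIdeal A' :=
        IsLocalRing.eq_maximalIdeal (IsArtinianRing.isMaximal_of_isPrime _)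
      refine FibreDualLib.hasSk_reduction_of_fibLoc (A' := A') q' g I2 ?_ 2 hsk
      show (m.map (algebraMap R B)).map (algebraMap B C2) = _
      rw [hqA, ← IsLocalRing.map_maximalIdeal_of_surjective (algebraMap R A') Ideal.Quotient.mk_surjective,
        Ideal.map_map, Ideal.map_map, Ideal.map_map, RingHom.comp_assoc, ← IsScalarTower.algebraMap_eq R A' C',
        IsScalarTower.algebraMap_eq R C C', ← RingHom.comp_assoc, ← IsScalarTower.algebraMap_eq C C' C2,
        IsScalarTower.algebraMap_eq C B C2, RingHom.comp_assoc, ← IsScalarTower.algebraMap_eq R C B]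
    obtain ⟨hfl, hdep⟩ := FibreDualLib.flat_and_depth_of_artinian (R := R) (B := B) JB hB0 Fn hFnU hk
    refine ⟨hfl, fun P _ => ?_⟩
    let N := EGA4.FibLocMod R C n.asIdeal F
    by_cases hP : JB.map (algebraMap B Fi) ≤ P
    · have hN : 2 ≤ LocCoh.idealDepth (JB.map (algebraMap B Fi)) N := by
        rw [FibreDualLib.idealDepth_map_of_surjective (R := Fi) Ideal.Quotient.mk_surjective]
        exact hdep.trans_eq (CAlgBasics.idealDepth_congr (Submodule.quotEquivOfEq _ _ (by
          show (EGA4.mB R B • ⊤ : Submodule B Fn) = _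
          rw [← hmB])))
      haveI : Module.Finite Fi N := Module.Finite.of_restrictScalars_finite B _ _
      rw [← Nat.cast_ofNat, QGorLib.le_idealDepth_iff_forall] at hN
      exact min_le_left _ _ |>.trans (WithBot.coe_le_coe.2 (hN ⟨P, inferInstance⟩ hP))
    · -- free off the closed set
      haveI : Module.Finite Fi N := Module.Finite.of_restrictScalars_finite B _ _
      let Q : PrimeSpectrum B := PrimeSpectrum.comap (algebraMap B Fi) ⟨P, inferInstance⟩
      have hQ : ¬ JB ≤ Q.asIdeal := fun h => hP (Ideal.map_le_iff_le_comap.mpr h)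
      have hfree : (⟨P, inferInstance⟩ : PrimeSpectrum Fi) ∈ Module.freeLocus Fi N := by
        have h : (⟨P, inferInstance⟩ : PrimeSpectrum Fi) ∈ Module.freeLocus Fi (Fi ⊗[B] Fn) :=
          Module.comap_freeLocus_le (R := B) (M := Fn) (A := Fi)
            (show (⟨P, inferInstance⟩ : PrimeSpectrum Fi) ∈ PrimeSpectrum.comap (algebraMap B Fi) ⁻¹' Module.freeLocus B Fn
              from hFnU Q hQ)
        rwa [Module.freeLocus_congr (LinearEquiv.extendScalarsOfSurjective Ideal.Quotient.mk_surjective
          (TensorProduct.quotTensorEquivQuotSMul Fn ((n.asIdeal.comap (algebraMap R C)).map (algebraMap R B))) :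
            (Fi ⊗[B] Fn) ≃ₗ[Fi] N)] at h
      haveI : Module.Free (Localization.AtPrime P) (LocalizedModule P.primeCompl N) := hfree
      haveI : Module.Finite (Localization.AtPrime P) (LocalizedModule P.primeCompl N) :=
        Module.Finite.of_isLocalizedModule P.primeCompl (LocalizedModule.mkLinearMap P.primeCompl N)
      have hs : LocCoh.HasSk 2 (Localization.AtPrime P) (Localization.AtPrime P) :=
        EGA4Dim.hasSk_of_isLocalization P.primeCompl 2 hS2
      exact EGA4Dim.skIneq_of_hasSk (QGorLib.hasSk_of_reflexive (LocalizedModule P.primeCompl N) le_rfl hs)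

end Groth.Agent.S18712
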