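import Groth.Statements.S18713
import Groth.Agent.FibreDualLib.DVRStep
import Groth.Agent.FlatValLib.Main
import Groth.Agent.QGorNhdLib.Basic
-- import your own Groth.Agent.* helpers here

set_option autoImplicit false
set_option backward.isDefEq.respectTransparency false
set_option maxHeartbeats 1600000
set_option backward.isDefEq.respectTransparency.types false
set_option linter.style.haveILetI false
set_option synthInstance.maxHeartbeats 200000
universe u
open QGor Groth.Agent

namespace Groth.Agent.S18713

open TensorProduct in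
/-- The base change along a valuation ring: the cokernel of a copresentation has no torsion at `Q`. -/
theorem torsion_zero {R C V C' : Type u} [CommRing R] [CommRing C] [CommRing V] [CommRing C'] [IsNoetherianRing R]
    [IsNoetherianRing C] [IsNoetherianRing C'] [IsDomain V] [IsDiscreteValuationRing V] [Algebra R C] [Algebra R V]
    [Algebra C C'] [Algebra V C'] [Algebra R C'] [IsScalarTower R C C'] [IsScalarTower R V C']
    [Algebra.IsPushout R C V C'] [Module.Flat V C'] (n : PrimeSpectrum C)
    (F : Type u) [AddCommGroup F] [Module C F] [Module.Finite C F] (J : Ideal C)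
    (hFU : ∀ q : PrimeSpectrum C, ¬ J ≤ q.asIdeal →
      Module.Free (Localization.AtPrime q.asIdeal) (LocalizedModule q.asIdeal.primeCompl F))
    {nn mm : ℕ} (g : F →ₗ[C] (Fin nn → C)) (h : (Fin nn → C) →ₗ[C] (Fin mm → C))
    (hg : Function.Injective g) (hgh : Function.Exact g h) (hreg : FibreDualLib.RegOff J h)
    (hGU : ∀ q : PrimeSpectrum C, ¬ J ≤ q.asIdeal →
      Module.Free (Localization.AtPrime q.asIdeal) (LocalizedModule q.asIdeal.primeCompl ((Fin mm → C) ⧸ LinearMap.range h)))
    (hFi' : 2 ≤ LocCoh.idealDepth (J.map (algebraMap C (EGA4.FibLocRing R C n.asIdeal))) (EGA4.FibLocRing R C n.asIdeal))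
    (Q : Ideal C') [Q.IsPrime] (hQ1 : Q.comap (algebraMap C C') = n.asIdeal)
    (hQ2 : Q.comap (algebraMap V C') = IsLocalRing.maximalIdeal V)
    (hDflat : FlatCA.FlatAt V Q (Module.Dual C' (Module.Dual C' (C' ⊗[C] F))))
    (hsk : LocCoh.HasSk 2 (EGA4.FibLocRing V C' Q)
      (EGA4.FibLocMod V C' Q (Module.Dual C' (Module.Dual C' (C' ⊗[C] F)))))
    (π : V) (hπ : Irreducible π) (z : C' ⊗[C] ((Fin mm → C) ⧸ LinearMap.range h)) (hz : algebraMap V C' π • z = 0) :
    ∃ t ∉ Q, t • z = 0 := by
    let G := (Fin mm → C) ⧸ LinearMap.range h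
    let C2 := Localization.AtPrime Q
    haveI : Module.Flat C' C2 := IsLocalization.flat C2 Q.primeCompl
    haveI : Module.Flat V C2 := Module.Flat.trans V C' C2
    haveI : IsLocalHom (algebraMap V C2) := ⟨fun a ha => by
      by_contra hna
      rw [IsScalarTower.algebraMap_apply V C' C2] at ha
      exact ((IsLocalization.AtPrime.isUnit_to_map_iff C2 Q _).1 ha) (hQ2.ge hna)⟩
    let J2 := J.map (algebraMap C C2)
    let T := EGA4.FibLocRing V C' Q
    have hVmap : (Q.comap (algebraMap V C')).map (algebraMap V C2) = EGA4.mB V C2 := by rw [hQ2]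
    have hT : 2 ≤ LocCoh.idealDepth (J2.map (algebraMap C2 T)) T := by
      have h2 := FibreDualLib.le_idealDepth_fibLocRing_point (A := R) (A' := V) (B' := C') J n ⟨Q, inferInstance⟩ hQ1 2
        (by exact_mod_cast hFi')
      rw [Ideal.map_map, ← IsScalarTower.algebraMap_eq] at h2 ⊢
      exact_mod_cast h2
    have hC0 : 2 ≤ LocCoh.idealDepth J2 (EGA4.FibMod V C2 C2) := by
      rw [FibreDualLib.idealDepth_map_of_surjective (R := T) Ideal.Quotient.mk_surjective] at hT
      exact hT.trans_eq (CAlgBasics.idealDepth_congr (Submodule.quotEquivOfEq _ _ (by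
        rw [smul_eq_mul, Ideal.mul_top]; exact hVmap)))
    have hC2 : 2 ≤ LocCoh.idealDepth J2 C2 := FibreDualLib.two_le_idealDepth_of_fibre_ideal (R := V) J2 hC0
    let F' := C' ⊗[C] F
    let F2 := C2 ⊗[C] F
    let f : F' →ₗ[C'] F2 := (TensorProduct.isBaseChange C F C').lift (TensorProduct.mk C C2 F 1)
    haveI : IsLocalizedModule Q.primeCompl f := (isLocalizedModule_iff_isBaseChange Q.primeCompl C2 f).2
      (IsBaseChange.of_comp (TensorProduct.isBaseChange C F C') (by
        rw [(TensorProduct.isBaseChange C F C').lift_comp]; exact TensorProduct.isBaseChange C F C2))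
    obtain ⟨gD, hgD⟩ := FibreDualLib.exists_isLocalizedModule_dualDual Q.primeCompl C2 F' F2 f
    let DD' := Module.Dual C' (Module.Dual C' F')
    let DD := Module.Dual C2 (Module.Dual C2 F2)
    have hfinD : ∀ (X : Type u) [AddCommGroup X] [Module C2 X] [Module.Finite C2 X],
        Module.Finite C2 (Module.Dual C2 X) := fun X _ _ _ => by
      haveI : Module.FinitePresentation C2 X := Module.finitePresentation_of_finite C2 X
      infer_instance
    haveI : Module.Finite C2 (Module.Dual C2 F2) := hfinD F2
    haveI : Module.Finite C2 DD := hfinD (Module.Dual C2 F2)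
    let e0 : DD ≃ₗ[C'] LocalizedModule Q.primeCompl DD' :=
      IsLocalizedModule.linearEquiv Q.primeCompl gD (LocalizedModule.mkLinearMap Q.primeCompl DD')
    let e1 : DD ≃ₗ[C2] LocalizedModule Q.primeCompl DD' := LinearEquiv.extendScalarsOfIsLocalization Q.primeCompl C2 e0
    let IV : Ideal C2 := (Q.comap (algebraMap V C')).map (algebraMap V C2)
    let X := Module.Dual C2 (Module.Dual C2 F2) ⧸ (IV • ⊤ : Submodule C2 (Module.Dual C2 (Module.Dual C2 F2)))
    haveI : Module.Finite T X := Module.Finite.of_restrictScalars_finite C2 _ _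
    let eX : X ≃ₗ[C2] EGA4.FibLocMod V C' Q DD' := Submodule.Quotient.equiv _ _ e1 (by
      rw [Submodule.map_smul'', Submodule.map_top, LinearEquiv.range])
    have hskX : LocCoh.HasSk 2 T X :=
      (QGorNhdLib.hasSk_congr_module (eX.extendScalarsOfSurjective Ideal.Quotient.mk_surjective) 2).2 hsk
    let π' : C2 := algebraMap V C2 π
    haveI : Module.Flat V (LocalizedModule Q.primeCompl DD') := hDflat
    have hπinj : ∀ x : LocalizedModule Q.primeCompl DD', π • x = 0 → x = 0 := fun x hx =>
      (Module.Flat.isTorsionFree (R := V) (M := LocalizedModule Q.primeCompl DD')).isSMulRegular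
        (isRegular_of_ne_zero hπ.ne_zero) (hx.trans (smul_zero π).symm)
    have hX1 : 1 ≤ LocCoh.idealDepth (J2.map (algebraMap C2 T)) X := by
      rw [FibreDualLib.idealDepth_map_of_surjective (R := T) Ideal.Quotient.mk_surjective]
      refine FibDepthLib.one_le_idealDepth_coker (π' • LinearMap.id : DD →ₗ[C2] DD) (IV • ⊤ : Submodule C2 DD).mkQ
        (fun x => ?_) ((injective_iff_map_eq_zero _).2 fun x hx => ?_) (Submodule.mkQ_surjective _)
        (FibDepthLib.two_le_idealDepth_dual hC2 _) (le_trans one_le_two (FibDepthLib.two_le_idealDepth_dual hC2 _))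
      · have hIV : IV = Ideal.span {π'} := by
          simp only [IV]
          rw [hQ2, hπ.maximalIdeal_eq, Ideal.map_span, Set.image_singleton]
        rw [Submodule.mkQ_apply, Submodule.Quotient.mk_eq_zero, hIV, Submodule.ideal_span_singleton_smul,
          Submodule.mem_smul_pointwise_iff_exists]
        exact ⟨fun ⟨z, _, hz⟩ => ⟨z, hz⟩, fun ⟨z, hz⟩ => ⟨z, trivial, hz⟩⟩
      · have h1 : π • e1 x = 0 := by
          rw [← algebraMap_smul C2 π (e1 x), ← map_smul, show π' • x = 0 from hx, map_zero]
        exact e1.map_eq_zero_iff.1 (hπinj _ h1)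
    have hF2U : ∀ q : PrimeSpectrum C2, ¬ J2 ≤ q.asIdeal →
        Module.Free (Localization.AtPrime q.asIdeal) (LocalizedModule q.asIdeal.primeCompl DD) := by
      intro q hq
      have hq' : ¬ J ≤ (PrimeSpectrum.comap (algebraMap C C2) q).asIdeal := fun h => hq (Ideal.map_le_iff_le_comap.mpr h)
      have hfree : Module.Free (Localization.AtPrime q.asIdeal) (LocalizedModule q.asIdeal.primeCompl F2) :=
        Module.comap_freeLocus_le (R := C) (M := F) (A := C2)
          (show q ∈ PrimeSpectrum.comap (algebraMap C C2) ⁻¹' Module.freeLocus C F from hFU _ hq')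
      haveI := hfree
      haveI : Module.Finite (Localization.AtPrime q.asIdeal) (LocalizedModule q.asIdeal.primeCompl F2) :=
        Module.Finite.of_isLocalizedModule q.asIdeal.primeCompl (LocalizedModule.mkLinearMap q.asIdeal.primeCompl F2)
      obtain ⟨g2, hg2⟩ := FibreDualLib.exists_isLocalizedModule_dualDual q.asIdeal.primeCompl
        (Localization.AtPrime q.asIdeal) F2 (LocalizedModule q.asIdeal.primeCompl F2)
        (LocalizedModule.mkLinearMap q.asIdeal.primeCompl F2)
      exact Module.Free.of_equiv (LinearEquiv.extendScalarsOfIsLocalization q.asIdeal.primeCompl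
        (Localization.AtPrime q.asIdeal)
        (IsLocalizedModule.linearEquiv q.asIdeal.primeCompl g2 (LocalizedModule.mkLinearMap q.asIdeal.primeCompl DD)))
    have hX2 : 2 ≤ LocCoh.idealDepth (J2.map (algebraMap C2 T)) X :=
      FibreDualLib.two_le_idealDepth_of_hasSk_free _ hT X hX1 hskX
        (fun P hP => FibreDualLib.free_reduction_off J2 IV DD hF2U P hP)
    have hDD : 2 ≤ LocCoh.idealDepth J2 (EGA4.FibMod V C2 DD) := by
      rw [FibreDualLib.idealDepth_map_of_surjective (R := T) Ideal.Quotient.mk_surjective] at hX2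
      exact hX2.trans_eq (CAlgBasics.idealDepth_congr (Submodule.quotEquivOfEq _ _ (by simp only [IV]; rw [hVmap])))
    haveI hGflat : Module.Flat V (C2 ⊗[C] G) :=
      FibreDualLib.flat_coker_of_dualDual J hC0 F g h hg hgh hreg hGU hDD
    let fG : C' ⊗[C] G →ₗ[C'] C2 ⊗[C] G := (TensorProduct.isBaseChange C G C').lift (TensorProduct.mk C C2 G 1)
    haveI : IsLocalizedModule Q.primeCompl fG := (isLocalizedModule_iff_isBaseChange Q.primeCompl C2 fG).2
      (IsBaseChange.of_comp (TensorProduct.isBaseChange C G C') (by
        rw [(TensorProduct.isBaseChange C G C').lift_comp]; exact TensorProduct.isBaseChange C G C2))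
    have hz' : π • fG z = 0 := by
      rw [← algebraMap_smul C' π (fG z), ← map_smul, hz, map_zero]
    have hz0 : fG z = 0 :=
      (Module.Flat.isTorsionFree (R := V) (M := C2 ⊗[C] G)).isSMulRegular (isRegular_of_ne_zero hπ.ne_zero)
        (hz'.trans (smul_zero π).symm)
    obtain ⟨⟨t, ht⟩, hty⟩ := (IsLocalizedModule.eq_zero_iff Q.primeCompl fG).1 hz0
    exact ⟨t, ht, hty⟩


open TensorProduct in
/-- Valuative criterion, affine-local form. Let R be a Noetherian local ring with maximal ideal m, C a
finitely generated flat R-algebra, y = n a prime of C over m at which the fibre C_n/mC_n satisfies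
S₂ (the structure morphism satisfies relative S₂ at y), and F a finite reflexive C-module which is
free at every prime not containing an ideal J such that every fibre local ring C_q/pC_q at primes q
⊇ J has dimension ≥ 2 (F is locally free in codimension one on each fibre). Assume R is reduced, and
that for every local homomorphism R → D to a discrete valuation ring and the Noetherian pushout C′ =
D ⊗_R C, at every prime q′ of C′ lying over n and over the closed point of D the double dual (C′ ⊗_C
F)^∨∨ is flat over D at q′ and its fibre stalk satisfies S₂. Then F is flat over R at n and F_n/mF_n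
satisfies S₂ (F satisfies relative S₂ at y). Test rings D range over the universe of R. -/
theorem result (R C : Type u) [CommRing R] [CommRing C] [IsNoetherianRing R] [IsLocalRing R] [IsNoetherianRing C]
    [Algebra R C] [Module.Flat R C] (hft : Algebra.FiniteType R C)
    (n : PrimeSpectrum C) (hn : (IsLocalRing.maximalIdeal R).map (algebraMap R C) ≤ n.asIdeal)
    (hS2 : LocCoh.HasSk 2 (EGA4.FibLocRing R C n.asIdeal) (EGA4.FibLocRing R C n.asIdeal))
    (F : Type u) [AddCommGroup F] [Module C F] [Module R F] [IsScalarTower R C F] [Module.Finite C F]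
    [Module.IsReflexive C F] (J : Ideal C)
    (hFU : ∀ q : PrimeSpectrum C, ¬ J ≤ q.asIdeal → Module.Free (Localization.AtPrime q.asIdeal) (LocalizedModule q.asIdeal.primeCompl F))
    (hcodim : ∀ q : PrimeSpectrum C, J ≤ q.asIdeal → (2 : WithBot ℕ∞) ≤ ringKrullDim (EGA4.FibLocRing R C q.asIdeal)) [IsReduced R]
    (hII : ∀ (D : Type u) [CommRing D] [IsDomain D] [IsDiscreteValuationRing D] [Algebra R D],
      IsLocalHom (algebraMap R D) →
      ∀ (C' : Type u) [CommRing C'] [IsNoetherianRing C'] [Algebra C C'] [Algebra D C'] [Algebra R C']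
        [IsScalarTower R C C'] [IsScalarTower R D C'], Algebra.IsPushout R C D C' →
        ∀ q' : PrimeSpectrum C', q'.asIdeal.comap (algebraMap C C') = n.asIdeal →
          (IsLocalRing.maximalIdeal D).map (algebraMap D C') ≤ q'.asIdeal →
          FlatCA.FlatAt D q'.asIdeal (Module.Dual C' (Module.Dual C' (C' ⊗[C] F))) ∧
          LocCoh.HasSk 2 (EGA4.FibLocRing D C' q'.asIdeal)
            (EGA4.FibLocMod D C' q'.asIdeal (Module.Dual C' (Module.Dual C' (C' ⊗[C] F))))) :
    FlatCA.FlatAt R n.asIdeal F ∧ LocCoh.HasSk 2 (EGA4.FibLocRing R C n.asIdeal) (EGA4.FibLocMod R C n.asIdeal F) := by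
    classical
    let B := Localization.AtPrime n.asIdeal
    let Fn := LocalizedModule n.asIdeal.primeCompl F
    let m := IsLocalRing.maximalIdeal R
    haveI := FibreDualLib.isReflexive_localizedModule (M := F) n.asIdeal
    haveI : Module.Finite B Fn :=
      Module.Finite.of_isLocalizedModule n.asIdeal.primeCompl (LocalizedModule.mkLinearMap n.asIdeal.primeCompl F)
    haveI : Module.Flat C B := IsLocalization.flat B n.asIdeal.primeCompl
    haveI : Module.Flat R B := Module.Flat.trans R C B
    have hnm : n.asIdeal.comap (algebraMap R C) = m :=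
      ((IsLocalRing.maximalIdeal.isMaximal R).eq_of_le (Ideal.IsPrime.comap _).ne_top (Ideal.map_le_iff_le_comap.1 hn)).symm
    haveI : IsLocalHom (algebraMap R B) := ⟨fun a ha => by
      by_contra h
      have h' : algebraMap R C a ∈ n.asIdeal := hnm.ge h
      rw [IsScalarTower.algebraMap_apply R C B] at ha
      exact ((IsLocalization.AtPrime.isUnit_to_map_iff B n.asIdeal _).1 ha) h'⟩
    have hmB : (n.asIdeal.comap (algebraMap R C)).map (algebraMap R B) = EGA4.mB R B := by rw [hnm]
    by_cases hJn : J ≤ n.asIdeal
    swap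
    · have hfree := hFU n hJn
      refine ⟨FibDepthLib.flatAt_of_flatAt_self n (FibDepthLib.flatAt_self_of_free n hfree), ?_⟩
      haveI := hfree
      let I := (n.asIdeal.comap (algebraMap R C)).map (algebraMap R B)
      haveI : Module.Free (B ⧸ I) (Fn ⧸ (I • ⊤ : Submodule B Fn)) :=
        Module.Free.of_equiv (LinearEquiv.extendScalarsOfSurjective Ideal.Quotient.mk_surjective
          (TensorProduct.quotTensorEquivQuotSMul Fn I))
      haveI : Module.Finite (B ⧸ I) (Fn ⧸ (I • ⊤ : Submodule B Fn)) := Module.Finite.of_restrictScalars_finite B _ _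
      exact QGorLib.hasSk_of_reflexive (A := B ⧸ I) (Fn ⧸ (I • ⊤ : Submodule B Fn)) le_rfl hS2
    let JB := J.map (algebraMap C B)
    let Fi := EGA4.FibLocRing R C n.asIdeal
    have hFi : 2 ≤ LocCoh.idealDepth (JB.map (algebraMap B Fi)) Fi := by
      rw [← Nat.cast_ofNat, QGorLib.le_idealDepth_iff_forall]
      intro P hP
      let q : Ideal C := P.asIdeal.comap (algebraMap C Fi)
      have hJq : J ≤ q := fun x hx => by
        rw [Ideal.mem_comap, IsScalarTower.algebraMap_apply C B Fi]
        exact hP (Ideal.mem_map_of_mem _ (Ideal.mem_map_of_mem _ hx))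
      have hqn : q ≤ n.asIdeal := fun x hx => by
        by_contra hxn
        refine P.2.ne_top (Ideal.eq_top_of_isUnit_mem _ hx ?_)
        rw [IsScalarTower.algebraMap_apply C B Fi]
        exact (IsLocalization.map_units B (⟨x, hxn⟩ : n.asIdeal.primeCompl)).map _
      have hc : q.comap (algebraMap R C) = n.asIdeal.comap (algebraMap R C) := by
        refine le_antisymm (Ideal.comap_mono hqn) fun r hr => ?_
        rw [Ideal.mem_comap, Ideal.mem_comap, ← IsScalarTower.algebraMap_apply, IsScalarTower.algebraMap_apply R B Fi,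
          Ideal.Quotient.algebraMap_eq, Ideal.Quotient.eq_zero_iff_mem.2 (Ideal.mem_map_of_mem _ hr)]
        exact P.asIdeal.zero_mem
      have hd : ((2 : ℕ) : WithBot ℕ∞) ≤ Module.supportDim (Localization.AtPrime P.asIdeal)
          (LocalizedModule P.asIdeal.primeCompl Fi) := by
        rw [Module.supportDim_eq_of_equiv (CAlgBasics.selfLocEquiv P.asIdeal.primeCompl),
          Module.supportDim_self_eq_ringKrullDim]
        haveI : q.IsPrime := Ideal.IsPrime.comap _
        exact (hcodim ⟨q, inferInstance⟩ hJq).trans (FibreDualLib.fibLocRing_dim_le n.asIdeal q hqn hc P.asIdeal rfl)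
      have h2 := hS2 P.asIdeal
      rw [min_eq_left hd] at h2
      exact WithBot.coe_le_coe.1 h2
    have hFi' : 2 ≤ LocCoh.idealDepth (J.map (algebraMap C Fi)) Fi := by
      rwa [IsScalarTower.algebraMap_eq C B Fi, ← Ideal.map_map]
    haveI := hft
    obtain ⟨nn, mm, g, h, hg, hgh, hGU⟩ := S18709.result C J F hFU
    let G := (Fin mm → C) ⧸ LinearMap.range h
    let v : (Fin mm → C) →ₗ[C] G := (LinearMap.range h).mkQ
    have hhv : Function.Exact h v := fun z => Submodule.Quotient.mk_eq_zero _
    have hv : Function.Surjective v := Submodule.mkQ_surjective _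
    have hreg := FibreDualLib.regOff_of_free (J := J) h hGU
    have hval : FlatValLib.ValFlatAt R C G n.asIdeal := by
      intro V _ _ _ _ Q _ hQc hQV π hπ y hy
      letI : Algebra V (C ⊗[R] V) := Algebra.TensorProduct.rightAlgebra
      let C' := C ⊗[R] V
      haveI : IsNoetherianRing C' := by
        haveI : IsNoetherianRing (V ⊗[R] C) := Algebra.FiniteType.isNoetherianRing V _
        exact isNoetherianRing_of_ringEquiv _ (Algebra.TensorProduct.comm R V C).toRingEquiv
      haveI : IsScalarTower R V C' := .of_algebraMap_eq fun r => by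
        show algebraMap R C r ⊗ₜ[R] (1 : V) = (1 : C) ⊗ₜ[R] algebraMap R V r
        rw [Algebra.algebraMap_eq_smul_one, TensorProduct.smul_tmul, ← Algebra.algebraMap_eq_smul_one]
      haveI : Algebra.IsPushout R C V C' := TensorProduct.isPushout
      haveI : Algebra.IsPushout R V C C' := Algebra.IsPushout.symm inferInstance
      haveI : Module.Flat V C' := Module.Flat.isBaseChange R V C C' (Algebra.IsPushout.out (R := R) (S := V) (R' := C) (S' := C'))
      have hQ1 : Q.comap (algebraMap C C') = n.asIdeal := hQc
      have hQ2 : Q.comap (algebraMap V C') = IsLocalRing.maximalIdeal V := hQV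
      haveI : IsLocalHom (algebraMap R V) := ⟨fun a ha => by
        by_contra hna
        have h1 : algebraMap R C a ∈ Q.comap (algebraMap C C') := by
          rw [hQ1]
          exact hnm.ge hna
        rw [Ideal.mem_comap, ← IsScalarTower.algebraMap_apply, IsScalarTower.algebraMap_apply R V C'] at h1
        exact (Ideal.IsPrime.ne_top ‹Q.IsPrime›) (Ideal.eq_top_of_isUnit_mem _ h1 (ha.map _))⟩
      obtain ⟨hDflat, hsk⟩ := hII V inferInstance C' inferInstance ⟨Q, inferInstance⟩ hQ1
        (Ideal.map_le_iff_le_comap.2 hQ2.ge)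
      -- back to the tensor product with the valuation ring
      let ec : FlatValLib.MV R C V G ≃+ C' ⊗[C] G :=
        ((TensorProduct.AlgebraTensorModule.cancelBaseChange R C C G V).symm.toAddEquiv).trans
          (TensorProduct.comm C G C').toAddEquiv
      have hec : ∀ (g₀ : G) (a : V), ec (FlatValLib.MV.mk R C g₀ a) = ((1 : C) ⊗ₜ[R] a : C') ⊗ₜ[C] g₀ := fun g₀ a => by
        simp [ec, FlatValLib.MV.mk]
      have hlin : ∀ (c : C') (w : FlatValLib.MV R C V G), ec (c • w) = c • ec w := by
        intro c w
        induction w using FlatValLib.MV.induction with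
        | zero => rw [smul_zero, map_zero, smul_zero]
        | add x y hx hy => rw [smul_add, map_add, map_add, smul_add, hx, hy]
        | mk g₀ a =>
          induction c using TensorProduct.induction_on with
          | zero => rw [zero_smul, map_zero, zero_smul]
          | add x y hx hy => rw [add_smul, map_add, add_smul, hx, hy]
          | tmul c b =>
            rw [FlatValLib.smul_mk, hec, hec, TensorProduct.smul_tmul', TensorProduct.tmul_smul, TensorProduct.smul_tmul']
            congr 1
            show c • ((1 : C) ⊗ₜ[R] (b * a)) = (c ⊗ₜ[R] b : C') * ((1 : C) ⊗ₜ[R] a)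
            rw [TensorProduct.smul_tmul', Algebra.TensorProduct.tmul_mul_tmul, smul_eq_mul]
      obtain ⟨t, ht, hty⟩ := torsion_zero n F J hFU g h hg hgh hreg hGU hFi' Q hQ1 hQ2 hDflat hsk π hπ (ec y) (by
        rw [← hlin]
        show ec (((1 : C) ⊗ₜ[R] π) • y) = 0
        rw [hy, map_zero])
      exact ⟨t, ht, ec.injective ((hlin t y).trans (hty.trans (map_zero ec).symm))⟩
    have hGflat : FlatCA.FlatAt R n.asIdeal G := FlatValLib.flatAt_of_valFlatAt G n.asIdeal hval
    haveI : Module.Flat R (Fin nn → C) := Module.Flat.trans R C _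
    haveI : Module.Flat R (Fin mm → C) := Module.Flat.trans R C _
    refine ⟨FibDepthLib.flatAt_F_of_flatAt_G g h v hg hgh hhv hv n.asIdeal hGflat, ?_⟩
    let K := J.map (algebraMap C Fi)
    haveI : Algebra.IsPushout R C R C := inferInstance
    have hproj : ∀ l : ℕ, 2 ≤ LocCoh.idealDepth K (EGA4.FibLocMod R C n.asIdeal (Fin l → C)) := fun l => by
      exact_mod_cast FibDepthLib.le_idealDepth_fibLocMod_of_projective (A' := R) n K (Fin l → C) 2 (by exact_mod_cast hFi')
    have hdep : 2 ≤ LocCoh.idealDepth K (EGA4.FibLocMod R C n.asIdeal F) :=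
      (FibDepthLib.atPrimeGen g h v hg hgh hhv hv n K).1 (hproj nn) (le_trans one_le_two (hproj mm)) hGflat
    haveI : Module.Finite Fi (EGA4.FibLocMod R C n.asIdeal F) := Module.Finite.of_restrictScalars_finite B _ _
    refine FibreDualLib.hasSk_of_depth_free hS2 K _ hdep ?_
    intro P hP
    have hbcB := IsLocalizedModule.isBaseChange n.asIdeal.primeCompl B (LocalizedModule.mkLinearMap n.asIdeal.primeCompl F)
    refine FibreDualLib.free_reduction_off JB _ Fn (fun q hq => ?_) P fun hle => hP ?_
    · have hq' : ¬ J ≤ (PrimeSpectrum.comap (algebraMap C B) q).asIdeal := fun h => hq (Ideal.map_le_iff_le_comap.mpr h)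
      have h : q ∈ Module.freeLocus B (B ⊗[C] F) := Module.comap_freeLocus_le (R := C) (M := F) (A := B)
        (show q ∈ PrimeSpectrum.comap (algebraMap C B) ⁻¹' Module.freeLocus C F from hFU _ hq')
      rw [Module.freeLocus_congr hbcB.equiv] at h
      exact h
    · simp only [K]
      rw [IsScalarTower.algebraMap_eq C B Fi, ← Ideal.map_map]
      exact hle

end Groth.Agent.S18713
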