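import Groth.Statements.S18718
import Groth.Agent.FibDepthLib.DoubleDual
-- import your own Groth.Agent.* helpers here

set_option autoImplicit false
set_option backward.isDefEq.respectTransparency false
set_option linter.style.haveILetI false
universe u
open QGor

namespace Groth.Agent.S18718

open TensorProduct in
/-- Affine form. Let A → B be a flat homomorphism of Noetherian rings, J an ideal of B such that the
fibre local ring B_q/pB_q has depth ≥ 2 at every prime q ⊇ J (p its contraction), A → A′ a
homomorphism of Noetherian rings with Noetherian pushout B′ = A′ ⊗_A B, and F a finite B-module with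
F_q free for every prime q not containing J. Then depth_J (F^∨∨) ≥ 2 (the double dual is the module
of sections of F off V(J)); the natural map (B′ ⊗_B F)^∨∨ → (B′ ⊗_B F^∨∨)^∨∨ obtained by dualising
twice the base change of F → F^∨∨ is bijective; and if moreover F is flat over A and the fibre
stalks F_q/pF_q have depth ≥ 2 at all primes q ⊇ J, then F and B′ ⊗_B F are reflexive. -/
theorem result (A B : Type u) [CommRing A] [CommRing B] [IsNoetherianRing A] [IsNoetherianRing B] [Algebra A B]
    (A' B' : Type u) [CommRing A'] [CommRing B'] [IsNoetherianRing A'] [IsNoetherianRing B']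
    [Algebra A A'] [Algebra B B'] [Algebra A' B'] [Algebra A B'] [IsScalarTower A B B'] [IsScalarTower A A' B']
    [Algebra.IsPushout A B A' B'] [Module.Flat A B] (J : Ideal B)
    (hZ : ∀ q : PrimeSpectrum B, J ≤ q.asIdeal →
      2 ≤ LocCoh.idealDepth (q.asIdeal.map (algebraMap B (EGA4.FibLocRing A B q.asIdeal))) (EGA4.FibLocRing A B q.asIdeal))
    (F : Type u) [AddCommGroup F] [Module B F] [Module A F] [IsScalarTower A B F] [Module.Finite B F]
    (hFU : ∀ q : PrimeSpectrum B, ¬ J ≤ q.asIdeal → Module.Free (Localization.AtPrime q.asIdeal) (LocalizedModule q.asIdeal.primeCompl F)) :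
    2 ≤ LocCoh.idealDepth J (Module.Dual B (Module.Dual B F)) ∧
    Function.Bijective (((Module.Dual.eval B F).baseChange B').dualMap.dualMap) ∧
    (Module.Flat A F →
      (∀ q : PrimeSpectrum B, J ≤ q.asIdeal →
        2 ≤ LocCoh.idealDepth (q.asIdeal.map (algebraMap B (EGA4.FibLocRing A B q.asIdeal))) (EGA4.FibLocMod A B q.asIdeal F)) →
      Module.IsReflexive B F ∧ Module.IsReflexive B' (B' ⊗[B] F)) := by
  haveI : Algebra.IsPushout A A' B B' := Algebra.IsPushout.symm inferInstance
  haveI : Module.Flat A' B' := Module.Flat.isBaseChange A A' B B' (Algebra.IsPushout.out (R := A) (S := A') (R' := B) (S' := B'))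
  have hself : Algebra.IsPushout A B A B := inferInstance
  have hZ1 : ∀ q : PrimeSpectrum B, (2 : ℕ∞) ≤ LocCoh.idealDepth (J.map (algebraMap B (EGA4.FibLocRing A B q.asIdeal)))
      (EGA4.FibLocRing A B q.asIdeal) := fun q => by
    have := Groth.Agent.FibDepthLib.le_idealDepth_fibLocRing A J A (B' := B) 2 hZ q
    rwa [Algebra.algebraMap_self, Ideal.map_id] at this
  have hZ' := fun q' : PrimeSpectrum B' => Groth.Agent.FibDepthLib.le_idealDepth_fibLocRing A J A' 2 hZ q'
  have hB : 2 ≤ LocCoh.idealDepth J B :=
    (Groth.Agent.S18722.result A B J (fun q hq => le_trans one_le_two (hZ q hq)) B).2 inferInstance hZ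
  have hmono : ∀ q' : PrimeSpectrum B', J.map (algebraMap B B') ≤ q'.asIdeal →
      2 ≤ LocCoh.idealDepth (q'.asIdeal.map (algebraMap B' (EGA4.FibLocRing A' B' q'.asIdeal))) (EGA4.FibLocRing A' B' q'.asIdeal) :=
    fun q' hq' => Groth.Agent.FibDepthLib.le_idealDepth_mono (Ideal.map_mono hq') 2 (hZ' q')
  have hB' : 2 ≤ LocCoh.idealDepth (J.map (algebraMap B B')) B' :=
    (Groth.Agent.S18722.result A' B' (J.map (algebraMap B B')) (fun q hq => le_trans one_le_two (hmono q hq)) B').2
      inferInstance hmono
  refine ⟨Groth.Agent.FibDepthLib.two_le_idealDepth_dual hB _, ?_, fun hflat hdF => ?_⟩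
  · have h1 := ((Groth.Agent.FibDepthLib.isoOff_eval F hFU).baseChange (B' := B')).dualMap
    have h2 : Function.Bijective ((Module.Dual.eval B F).baseChange B').dualMap :=
      Groth.Agent.FibDepthLib.bijective_of_isoOff h1 (Groth.Agent.FibDepthLib.two_le_idealDepth_dual hB' _)
        (le_trans one_le_two (Groth.Agent.FibDepthLib.two_le_idealDepth_dual hB' _))
    exact (LinearEquiv.ofBijective _ h2).dualMap.bijective
  haveI := hflat
  have hfin : ∀ (q : PrimeSpectrum B) (X : Type u) [AddCommGroup X] [Module B X] [Module.Finite B X],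
      Module.Finite (EGA4.FibLocRing A B q.asIdeal) (EGA4.FibLocMod A B q.asIdeal X) := fun q X _ _ _ => by
    haveI : Module.Finite (Localization.AtPrime q.asIdeal) (LocalizedModule q.asIdeal.primeCompl X) :=
      Module.Finite.of_isLocalizedModule q.asIdeal.primeCompl (LocalizedModule.mkLinearMap q.asIdeal.primeCompl X)
    exact Module.Finite.of_restrictScalars_finite (Localization.AtPrime q.asIdeal) _ _
  have hF2 : 2 ≤ LocCoh.idealDepth J F := by
    rw [← Nat.cast_ofNat, Groth.Agent.QGorLib.le_idealDepth_iff_forall]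
    exact fun q hq => Groth.Agent.QGorLib.depth_of_fibre (A := A) F q.asIdeal (k := 2) (Or.inr rfl) (hdF q hq)
  haveI hR : Module.IsReflexive B F := Groth.Agent.QGorLib.isReflexive_of_off (le_trans one_le_two hB)
    (fun q hq => by
      haveI := hFU q hq
      haveI : Module.Finite (Localization.AtPrime q.asIdeal) (LocalizedModule q.asIdeal.primeCompl F) :=
        Module.Finite.of_isLocalizedModule q.asIdeal.primeCompl (LocalizedModule.mkLinearMap q.asIdeal.primeCompl F)
      infer_instance) hF2
  refine ⟨hR, ?_⟩
  obtain ⟨n, m, g, h, hg, hgh, hGU⟩ := Groth.Agent.S18709.result B J F hFU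
  haveI : Module.Flat A (Fin n → B) := Module.Flat.trans A B _
  haveI : Module.Flat A (Fin m → B) := Module.Flat.trans A B _
  let v := (LinearMap.range h).mkQ
  have hv : Function.Surjective v := Submodule.mkQ_surjective _
  have hhv : Function.Exact h v := fun z => Submodule.Quotient.mk_eq_zero _
  have hE : ∀ (q : PrimeSpectrum B) (k : ℕ), J ≤ q.asIdeal →
      2 ≤ LocCoh.idealDepth (q.asIdeal.map (algebraMap B (EGA4.FibLocRing A B q.asIdeal))) (EGA4.FibLocMod A B q.asIdeal (Fin k → B)) :=
    fun q k hq => by
      haveI := hfin q (Fin k → B)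
      exact Groth.Agent.FibDepthLib.le_idealDepth_mono (Ideal.map_mono hq) 2
        (Groth.Agent.FibDepthLib.le_idealDepth_fibLocMod_of_projective q _ (Fin k → B) 2 (hZ1 q))
  haveI hG : Module.Flat A ((Fin m → B) ⧸ LinearMap.range h) := by
    have key : ∀ (k : ℕ∞) (q : PrimeSpectrum B), q.asIdeal.height = k → FlatCA.FlatAt A q.asIdeal ((Fin m → B) ⧸ LinearMap.range h) := by
      intro k
      induction k using WellFoundedLT.induction with
      | _ k ih =>
        intro q hk
        by_cases hJ : J ≤ q.asIdeal
        · exact (Groth.Agent.FibDepthLib.atPrimeGen g h v hg hgh hhv hv q ⊤).2 (hE q n hJ) (le_trans one_le_two (hE q m hJ)) (hdF q hJ)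
            fun q' hq' => ih _ (hk ▸ Ideal.height_strict_mono_of_isPrime hq') q' rfl
        · exact Groth.Agent.FibDepthLib.flatAt_of_flatAt_self q (Groth.Agent.FibDepthLib.flatAt_self_of_free q (hGU q hJ))
    exact Module.flat_of_isLocalized_maximal B _ (fun P _ => LocalizedModule P.primeCompl _)
      (fun P _ => LocalizedModule.mkLinearMap P.primeCompl _) fun P hP => key _ ⟨P, hP.isPrime⟩ rfl
  have hp : Function.Exact g h.rangeRestrict := fun y => by
    rw [← Subtype.coe_inj]; exact hgh y
  have hι : Function.Exact (LinearMap.range h).subtype v := fun y => by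
    rw [Submodule.coe_subtype, Subtype.range_coe]; exact hhv y
  haveI : Module.Flat A (LinearMap.range h) := Groth.Agent.CAlgBasics.flat_ker_of_exact
    (f := (LinearMap.range h).subtype.restrictScalars A) (g := v.restrictScalars A) Subtype.val_injective hι hv
  have hi1 : Function.Injective (g.lTensor B') :=
    Groth.Agent.FibDepthLib.lTensor_pushout_injective (A := A) (A' := A') g h.rangeRestrict hg hp h.surjective_rangeRestrict
  have hi2 : Function.Injective ((LinearMap.range h).subtype.lTensor B') :=
    Groth.Agent.FibDepthLib.lTensor_pushout_injective (A := A) (A' := A') (LinearMap.range h).subtype v Subtype.val_injective hι hv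
  have hex : Function.Exact (g.lTensor B') (h.lTensor B') := by
    have e : h.lTensor B' = (LinearMap.range h).subtype.lTensor B' ∘ₗ h.rangeRestrict.lTensor B' := by
      rw [← LinearMap.lTensor_comp]; rfl
    rw [e]
    exact hi2.comp_exact_iff_exact.mpr (lTensor_exact B' hp h.surjective_rangeRestrict)
  exact (Groth.Agent.FibDepthLib.reflexive_and_flat_iff (A := A') (J.map (algebraMap B B')) (F := B' ⊗[B] F)
    (E0 := B' ⊗[B] (Fin n → B)) (E1 := B' ⊗[B] (Fin m → B)) (G := B' ⊗[B] ((Fin m → B) ⧸ LinearMap.range h))
    (g.baseChange B') (h.baseChange B') (v.baseChange B') hi1 hex (lTensor_exact B' hhv hv)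
    (LinearMap.lTensor_surjective B' hv) hZ' fun q' hq' => by
      have hq : ¬ J ≤ (PrimeSpectrum.comap (algebraMap B B') q').asIdeal := fun h => hq' (Ideal.map_le_iff_le_comap.mpr h)
      exact Module.comap_freeLocus_le (R := B) (M := (Fin m → B) ⧸ LinearMap.range h) (A := B')
        (show q' ∈ PrimeSpectrum.comap (algebraMap B B') ⁻¹' Module.freeLocus B _ from hGU _ hq)).1

end Groth.Agent.S18718
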