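import Groth.Statements.S18723
import Groth.Agent.FibreDualLib.PowOff
import Groth.Agent.DualCxLib.OrdinaryOff
import Groth.Agent.QGorLib.Reflexive
import Groth.Agent.FibDepthLib.DoubleDual
import Groth.Agent.SerreLib.R0S1
-- import your own Groth.Agent.* helpers here

set_option autoImplicit false
set_option backward.isDefEq.respectTransparency false
set_option maxHeartbeats 1600000
set_option synthInstance.maxHeartbeats 200000
set_option linter.style.haveILetI false
set_option synthInstance.maxHeartbeats 200000
universe u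
open CategoryTheory
attribute [local instance] HasDerivedCategory.standard
open QGor

namespace Groth.Agent.S18723

/-- Affine-local form, with (2) for tensor powers m ≥ 0. Let A be a Noetherian local ring of Krull
dimension n with a dualizing complex ω, L = H⁰(ω), and J an ideal with ht J ≥ 2 (the closed set V(J)
has codimension ≥ 2) such that off V(J) the complex ω is the invertible module L in degree 0: for
every prime p not containing J, H^i(ω)_p = 0 for i ≠ 0 and L_p is free of rank 1. (1) If A satisfies
(S₁), then ω is ordinary (A is equidimensional and ω[n] is normalized) and L is reflexive and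
satisfies (S₂). (2) If A satisfies (S₂), then for every m ≥ 0 the double dual L^[m] of the m-th
tensor power of L satisfies (S₂) and depth_J L^[m] ≥ 2 (it is the module of sections of L^⊗m off
V(J)). -/
theorem result (A : Type u) [CommRing A] [IsNoetherianRing A]
    [IsLocalRing A] (ω : Dual.D A) (hω : Dual.IsDualizing A ω) (n : ℕ) (hd : ringKrullDim A = n)
    (J : Ideal A) (hJ : 2 ≤ J.height)
    (hoff : ∀ p : PrimeSpectrum A, ¬ J ≤ p.asIdeal →
      (∀ i : ℤ, i ≠ 0 → p ∉ Module.support A (Dual.HD A ω i)) ∧
      Module.Free (Localization.AtPrime p.asIdeal) (LocalizedModule p.asIdeal.primeCompl (Dual.HD A ω 0)) ∧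
      Module.finrank (Localization.AtPrime p.asIdeal) (LocalizedModule p.asIdeal.primeCompl (Dual.HD A ω 0)) = 1) :
    (LocCoh.HasSk 1 A A →
      (EGA4.IsEquidim A ∧ Dual.IsNormalized A (ω⟦(n : ℤ)⟧)) ∧
      Module.IsReflexive A (Dual.HD A ω 0) ∧ LocCoh.HasSk 2 A (Dual.HD A ω 0)) ∧
    (LocCoh.HasSk 2 A A → ∀ m : ℕ,
      LocCoh.HasSk 2 A (Module.Dual A (Module.Dual A (TensorPower A m (Dual.HD A ω 0)))) ∧
      2 ≤ LocCoh.idealDepth J (Module.Dual A (Module.Dual A (TensorPower A m (Dual.HD A ω 0))))) := by
    open Groth.Agent in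
    have hJ1 : 1 ≤ J.height := le_trans one_le_two hJ
    have hoff' : ∀ p : PrimeSpectrum A, ¬ J ≤ p.asIdeal → ∀ i : ℤ, i ≠ 0 → p ∉ Module.support A (Dual.HD A ω i) :=
      fun p hp => (hoff p hp).1
    obtain ⟨⟨heq, hnorm, hS2⟩, hdep⟩ := DualCxLib.ordinary_off hω n hd J hJ1 hoff'
    haveI : Module.Finite A (Dual.HD A ω 0) := hω.finite_cohomology 0
    have hht : ∀ p : PrimeSpectrum A, J ≤ p.asIdeal → (2 : WithBot ℕ∞) ≤ ringKrullDim (Localization.AtPrime p.asIdeal) := by
      intro p hp
      rw [IsLocalization.AtPrime.ringKrullDim_eq_height p.asIdeal (Localization.AtPrime p.asIdeal)]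
      exact WithBot.coe_le_coe.2 (hJ.trans (Ideal.height_mono hp))
    have hA : ∀ k : ℕ, k ≤ 2 → LocCoh.HasSk k A A → (k : ℕ∞) ≤ LocCoh.idealDepth J A := by
      intro k hk h
      rw [QGorLib.le_idealDepth_iff_forall]
      intro p hp
      rw [QGorLib.depth_localizedSelf_eq]
      have h1 := (SerreLib.hasSk_localRing_iff k).1 h p.asIdeal
      rw [min_eq_left ((Nat.cast_le.2 hk).trans (by exact_mod_cast hht p hp))] at h1
      exact WithBot.coe_le_coe.1 h1
    refine ⟨fun h => ⟨⟨heq, hnorm⟩, ?_, hS2⟩, fun h m => ?_⟩
    · refine QGorLib.isReflexive_of_off (I := J) (by exact_mod_cast hA 1 one_le_two h) (fun p hp => ?_) (hdep hJ)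
      haveI := (hoff p hp).2.1
      haveI : Module.Finite (Localization.AtPrime p.asIdeal) (LocalizedModule p.asIdeal.primeCompl (Dual.HD A ω 0)) :=
        Module.Finite.of_isLocalizedModule p.asIdeal.primeCompl (LocalizedModule.mkLinearMap p.asIdeal.primeCompl _)
      exact @Module.IsReflexive.of_finite_of_free (Localization.AtPrime p.asIdeal) (LocalizedModule p.asIdeal.primeCompl (Dual.HD A ω 0)) _ _ _ inferInstance inferInstance
    · haveI := FibreDualLib.finite_tensorPower (A := A) (L := Dual.HD A ω 0) m
      have hB2 : 2 ≤ LocCoh.idealDepth J A := by exact_mod_cast hA 2 le_rfl h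
      have hF := FibDepthLib.two_le_idealDepth_dual (J := J) hB2 (Module.Dual A (TensorPower A m (Dual.HD A ω 0)))
      refine ⟨fun p _ => ?_, hF⟩
      by_cases hp : J ≤ p
      · have h1 := (QGorLib.le_idealDepth_iff_forall 2).1 (by exact_mod_cast hF) ⟨p, inferInstance⟩ hp
        exact (min_le_left _ _).trans (WithBot.coe_le_coe.2 h1)
      · haveI := FibreDualLib.free_localized_ddual p
          (FibreDualLib.free_localized_tensorPower p (hoff ⟨p, inferInstance⟩ hp).2.1 m)
        haveI : Module.Finite (Localization.AtPrime p) (LocalizedModule p.primeCompl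
            (Module.Dual A (Module.Dual A (TensorPower A m (Dual.HD A ω 0))))) :=
          Module.Finite.of_isLocalizedModule p.primeCompl (LocalizedModule.mkLinearMap p.primeCompl _)
        have h1 := (SerreLib.hasSk_localRing_iff 2).1 h p
        refine (min_le_min le_rfl (Module.supportDim_le_ringKrullDim _ _)).trans ?_
        generalize hD : LocCoh.depth (Localization.AtPrime p) (Localization.AtPrime p) = D at h1
        rcases le_or_gt 2 D with h2 | h2
        · exact (min_le_left _ _).trans (WithBot.coe_le_coe.2 (FibreDualLib.natCast_le_depth_of_free 2 (hD ▸ h2)))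
        · obtain ⟨k, rfl⟩ : ∃ k : ℕ, D = k := ENat.ne_top_iff_exists.1 (ne_top_of_lt h2) |>.imp fun _ e => e.symm
          exact h1.trans (WithBot.coe_le_coe.2 (FibreDualLib.natCast_le_depth_of_free k hD.ge))

end Groth.Agent.S18723
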