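import Groth.Statements.S18737
import Groth.Agent.ModPairLib.Pair

set_option autoImplicit false
universe u
open CategoryTheory CategoryTheory.Limits AlgebraicGeometry TopologicalSpace
open ModPair

namespace Groth.Agent.S18737

theorem quasiCompact_part {X : Scheme.{u}} (I : X.IdealSheafData) (hI : BlowUp.IsEffCartierIdeal I) (U₀ U₁ : X.Opens)
    (hU : U₀ ⊔ U₁ = ModPair.interior I) (hd : Disjoint U₀ U₁) : QuasiCompact U₀.ι := by
  haveI := Groth.Agent.ModPairLib.isAffineHom_interior (Groth.Agent.ModPairLib.isLP_of_cart hI)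
  refine quasiCompact_iff_forall_isAffineOpen.2 fun V hV => ?_
  have h1 := (ModPair.interior I).ι.isCompact_preimage hV.isCompact
  rw [(ModPair.interior I).ι.isOpenEmbedding.isCompact_iff] at h1
  rw [U₀.ι.isOpenEmbedding.isCompact_iff]
  have h0 : U₀.ι '' (U₀.ι ⁻¹ᵁ V : Set U₀.toScheme) =
      (ModPair.interior I).ι '' ((ModPair.interior I).ι ⁻¹ᵁ V : Set (ModPair.interior I).toScheme) ∩ (U₁ : Set X)ᶜ := by
    ext x
    constructor
    · rintro ⟨y, hy, rfl⟩
      exact ⟨⟨⟨y.1, hU.le (show y.1 ∈ U₀ ⊔ U₁ from Or.inl y.2)⟩, hy, rfl⟩,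
        fun h => (show y.1 ∈ (⊥ : X.Opens) from hd.le_bot ⟨y.2, h⟩).elim⟩
    · rintro ⟨⟨y, hy, rfl⟩, hn⟩
      rcases (show y.1 ∈ U₀ ⊔ U₁ from hU.ge y.2) with h | h
      · exact ⟨⟨y.1, h⟩, hy, rfl⟩
      · exact absurd h hn
  rw [h0]
  exact h1.inter_right U₁.2.isClosed_compl

theorem image_avoid {X : Scheme.{u}} (U₀ U₁ : X.Opens) [QuasiCompact U₀.ι] (hd : Disjoint U₀ U₁)
    (z : U₀.ι.image) : U₀.ι.imageι z ∉ U₁ := by
  intro h
  have hz : U₀.ι.imageι z ∈ closure (U₀ : Set X) := by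
    have h2 : U₀.ι.imageι z ∈ (U₀.ι.ker.support : Set X) := by
      rw [← U₀.ι.ker.range_subschemeι]
      exact ⟨z, rfl⟩
    rw [Scheme.Hom.support_ker, Scheme.Opens.range_ι] at h2
    exact h2
  obtain ⟨y, hy1, hy0⟩ := mem_closure_iff.1 hz U₁ U₁.2 h
  exact (show y ∈ (⊥ : X.Opens) from hd.le_bot ⟨hy0, hy1⟩).elim

/-- Let X be a scheme and I the quasi-coherent ideal sheaf of an effective Cartier divisor on X, with
open complement U, and suppose U is the disjoint union of two opens U₀, U₁ of X. Let X₀, X₁ ⊆ X be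
the scheme-theoretic images of U₀ and U₁ in X and p : X₀ ⨿ X₁ ⟶ X the morphism induced by the two
closed immersions. Then the pulled-back ideal I.comap p is the ideal sheaf of an effective Cartier
divisor, and p is an abstract admissible blow-up from (X₀ ⨿ X₁, I.comap p) to (X, I): proper, with
the pulled-back modulus, and an isomorphism over U. -/
theorem result {X : Scheme.{u}}
    (I : X.IdealSheafData) (hI : BlowUp.IsEffCartierIdeal I) (U₀ U₁ : X.Opens)
    (hU : U₀ ⊔ U₁ = ModPair.interior I) (hd : Disjoint U₀ U₁) :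
    BlowUp.IsEffCartierIdeal (I.comap (coprod.desc U₀.ι.imageι U₁.ι.imageι)) ∧
      ModPair.IsAdmBlowup (I.comap (coprod.desc U₀.ι.imageι U₁.ι.imageι)) I
        (coprod.desc U₀.ι.imageι U₁.ι.imageι) := by
  haveI hq₀ := quasiCompact_part I hI U₀ U₁ hU hd
  haveI hq₁ := quasiCompact_part I hI U₁ U₀ (by rw [sup_comm]; exact hU) hd.symm
  haveI := Groth.Agent.ModPairLib.isOpenImmersion_toImage U₀
  haveI := Groth.Agent.ModPairLib.isOpenImmersion_toImage U₁
  set p := coprod.desc U₀.ι.imageι U₁.ι.imageι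
  have hIl := Groth.Agent.ModPairLib.isLP_of_cart hI
  have hsurj : ∀ z, (∃ a, (coprod.inl : U₀.ι.image ⟶ _ ⨿ U₁.ι.image) a = z) ∨
      ∃ b, (coprod.inr : U₁.ι.image ⟶ U₀.ι.image ⨿ _) b = z := fun z => by
    obtain ⟨(a | b), rfl⟩ := (coprodMk U₀.ι.image U₁.ι.image).surjective z
    · exact Or.inl ⟨a, (coprodMk_inl U₀.ι.image U₁.ι.image a).symm⟩
    · exact Or.inr ⟨b, (coprodMk_inr U₀.ι.image U₁.ι.image b).symm⟩
  have cartImage : ∀ (U : X.Opens), U ≤ ModPair.interior I → QuasiCompact U.ι →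
      BlowUp.IsEffCartierIdeal (I.comap U.ι.imageι) := fun U hle hq => by
    haveI := hq
    refine Groth.Agent.ModPairLib.cart_of_dominant (hIl.comap _) U.ι.toImage fun x => ?_
    rw [Groth.Agent.ModPairLib.interior_comap]
    show U.ι.imageι (U.ι.toImage x) ∈ ModPair.interior I
    rw [← Scheme.Hom.comp_apply, Scheme.Hom.toImage_imageι]
    exact hle x.2
  refine ⟨Groth.Agent.BlowProdLib.isEffCartier_of_local _ fun z => ?_, rfl, ?_, ?_⟩
  · rcases hsurj z with ⟨a, rfl⟩ | ⟨b, rfl⟩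
    · refine ⟨_, coprod.inl, inferInstance, a, rfl, ?_⟩
      rw [← Scheme.IdealSheafData.comap_comp, coprod.inl_desc]
      exact cartImage U₀ (le_sup_left.trans hU.le) hq₀
    · refine ⟨_, coprod.inr, inferInstance, b, rfl, ?_⟩
      rw [← Scheme.IdealSheafData.comap_comp, coprod.inr_desc]
      exact cartImage U₁ (le_sup_right.trans hU.le) hq₁
  · infer_instance
  · have h₀ : IsIso (p ∣_ U₀) := Groth.Agent.ModPairLib.isIso_restrict_of_section U₀ (U₀.ι.toImage ≫ coprod.inl)
      (by simp only [p, Category.assoc]; (first | rw [coprod.inl_desc] | rw [coprod.inr_desc]); exact Scheme.Hom.toImage_imageι _) fun z hz => by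
        rcases hsurj z with ⟨a, rfl⟩ | ⟨b, rfl⟩
        · rw [← Scheme.Hom.comp_apply, coprod.inl_desc] at hz
          obtain ⟨v, rfl⟩ := (Groth.Agent.ModPairLib.range_toImage U₀).ge (show a ∈ _ from hz)
          exact ⟨v, by rw [Scheme.Hom.comp_apply]⟩
        · rw [← Scheme.Hom.comp_apply, coprod.inr_desc] at hz
          exact absurd hz (image_avoid U₁ U₀ hd.symm b)
    have h₁ : IsIso (p ∣_ U₁) := Groth.Agent.ModPairLib.isIso_restrict_of_section U₁ (U₁.ι.toImage ≫ coprod.inr)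
      (by simp only [p, Category.assoc]; (first | rw [coprod.inl_desc] | rw [coprod.inr_desc]); exact Scheme.Hom.toImage_imageι _) fun z hz => by
        rcases hsurj z with ⟨a, rfl⟩ | ⟨b, rfl⟩
        · rw [← Scheme.Hom.comp_apply, coprod.inl_desc] at hz
          exact absurd hz (image_avoid U₀ U₁ hd a)
        · rw [← Scheme.Hom.comp_apply, coprod.inr_desc] at hz
          obtain ⟨v, rfl⟩ := (Groth.Agent.ModPairLib.range_toImage U₁).ge (show b ∈ _ from hz)
          exact ⟨v, by rw [Scheme.Hom.comp_apply]⟩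
    rw [← hU]
    let ι' := (U₀ ⊔ U₁).ι
    refine (IsZariskiLocalAtTarget.iff_of_iSup_eq_top (P := MorphismProperty.isomorphisms Scheme.{u})
      (fun b : Bool => cond b (ι' ⁻¹ᵁ U₀) (ι' ⁻¹ᵁ U₁)) (top_le_iff.1 fun x _ => ?_)).2 fun b => ?_
    · rcases (show x.1 ∈ U₀ ⊔ U₁ from x.2) with h | h
      · exact TopologicalSpace.Opens.mem_iSup.2 ⟨true, h⟩
      · exact TopologicalSpace.Opens.mem_iSup.2 ⟨false, h⟩
    have him : ∀ V : X.Opens, V ≤ U₀ ⊔ U₁ → ι' ''ᵁ (ι' ⁻¹ᵁ V) = V := fun V hV => by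
      rw [Scheme.Hom.image_preimage_eq_opensRange_inf, Scheme.Opens.opensRange_ι, inf_eq_right]
      exact hV
    cases b
    · refine ((MorphismProperty.isomorphisms Scheme.{u}).arrow_mk_iso_iff (morphismRestrictRestrict p _ _)).2 ?_
      simp only [cond_false, MorphismProperty.isomorphisms.iff]
      rw [him U₁ le_sup_right]
      exact h₁
    · refine ((MorphismProperty.isomorphisms Scheme.{u}).arrow_mk_iso_iff (morphismRestrictRestrict p _ _)).2 ?_
      simp only [cond_true, MorphismProperty.isomorphisms.iff]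
      rw [him U₀ le_sup_left]
      exact h₀

end Groth.Agent.S18737
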