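import Groth.Statements.S18742
import Groth.Agent.ModPairLib.Descend

set_option autoImplicit false
universe u
open CategoryTheory CategoryTheory.Limits AlgebraicGeometry TopologicalSpace
open ModPair

namespace Groth.Agent.S18742

/-- Let S be a quasi-compact quasi-separated scheme, (X_i) a cofiltered system of S-schemes with affine,
scheme-theoretically dominant transition morphisms and all X_i quasi-compact and quasi-separated, X
its limit in the category of S-schemes, and Y ⟶ S locally of finite type with Y quasi-compact and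
quasi-separated. Then the canonical map from the colimit of the sets Hom_S(X_i, Y) to Hom_S(X, Y) is
bijective: every S-morphism X ⟶ Y factors through the projection to some X_i, and two S-morphisms
X_i ⟶ Y with the same composite X ⟶ Y become equal after composition with some transition morphism
X_j ⟶ X_i. No finite-presentation hypothesis on Y is assumed. -/
theorem result {S : Scheme.{u}} [CompactSpace S]
    [QuasiSeparatedSpace S] {I : Type u} [SmallCategory I] [IsCofiltered I] (D : I ⥤ Over S)
    (c : Cone D) (hc : IsLimit c)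
    [∀ (i j : I) (t : i ⟶ j), IsAffineHom (D.map t).left]
    [∀ (i j : I) (t : i ⟶ j), IsSchemeTheoreticallyDominant (D.map t).left]
    [∀ i, CompactSpace (D.obj i).left] [∀ i, QuasiSeparatedSpace (D.obj i).left]
    (Y : Over S) [CompactSpace Y.left] [QuasiSeparatedSpace Y.left] [LocallyOfFiniteType Y.hom] :
    (∀ φ : c.pt ⟶ Y, ∃ (i : I) (φi : D.obj i ⟶ Y), c.π.app i ≫ φi = φ) ∧
      ∀ (i : I) (φ ψ : D.obj i ⟶ Y), c.π.app i ≫ φ = c.π.app i ≫ ψ →
        ∃ (j : I) (t : j ⟶ i), D.map t ≫ φ = D.map t ≫ ψ := by
  refine ⟨ModPairLib.exists_descend D c hc Y, fun i φ ψ h => ?_⟩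
  haveI : ∀ {i j : I} (f : i ⟶ j), IsAffineHom ((D ⋙ Over.forget S).map f) := by
    intro i j f; dsimp; infer_instance
  haveI : ∀ i, CompactSpace ((D ⋙ Over.forget S).obj i) := by exact fun i => ‹∀ i, CompactSpace (D.obj i).left› i
  haveI : ∀ i, QuasiSeparatedSpace ((D ⋙ Over.forget S).obj i) := fun i => ‹∀ i, QuasiSeparatedSpace (D.obj i).left› i
  obtain ⟨k, hik, heq⟩ := Scheme.exists_hom_comp_eq_comp_of_locallyOfFiniteType
    (D ⋙ Over.forget S) (.mk (fun _ ↦ (D.obj _).hom)) Y.hom ((Over.forget S).mapCone c)
    (isLimitOfPreserves _ hc) φ.left ψ.left (Over.w φ).symm (Over.w ψ).symm congr($(h).left)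
  exact ⟨k, hik, Over.OverMorphism.ext heq⟩

end Groth.Agent.S18742
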