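import Groth.Statements.S18748
import Groth.Agent.ModPairLib.Coprod

set_option autoImplicit false
universe u
open CategoryTheory CategoryTheory.Limits AlgebraicGeometry TopologicalSpace
open ModPair

namespace Groth.Agent.S18748

/-- The localization of the category of modulus pairs and ambient morphisms at the class of abstract
admissible blow-ups has binary coproducts, and the localization functor carries the coproduct of two
modulus pairs (the disjoint union of the total spaces with the disjoint union of the moduli) to a
coproduct. (The source also states that the interior functor detects these coproducts; that part is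
not included.) -/
theorem result :
    HasBinaryCoproducts (ModPair.Pair.admBlowup.{u}).Localization ∧
      PreservesColimitsOfShape (Discrete WalkingPair) (ModPair.Pair.admBlowup.{u}).Q := by
  let e : Discrete (ULift.{u} WalkingPair) ≌ Discrete WalkingPair := Discrete.equivalence Equiv.ulift
  haveI := Groth.Agent.ModPairLib.preservesColimitsOfShape_Q (ULift.{u} WalkingPair)
  haveI : PreservesColimitsOfShape (Discrete WalkingPair) (ModPair.Pair.admBlowup.{u}).Q :=
    preservesColimitsOfShape_of_equiv e _
  haveI := Groth.Agent.ModPairLib.hasColimitsOfShape_pair (ULift.{u} WalkingPair)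
  haveI : HasColimitsOfShape (Discrete WalkingPair) ModPair.Pair.{u} := hasColimitsOfShape_of_equivalence e
  refine ⟨?_, inferInstance⟩
  haveI : (ModPair.Pair.admBlowup.{u}).Q.EssSurj := Localization.essSurj _ ModPair.Pair.admBlowup
  haveI : ∀ X Y : (ModPair.Pair.admBlowup.{u}).Localization, HasColimit (pair X Y) := fun X Y => by
    let L := (ModPair.Pair.admBlowup.{u}).Q
    haveI : HasColimit (pair (L.objPreimage X) (L.objPreimage Y) ⋙ L) :=
      ⟨⟨⟨_, isColimitOfPreserves L (colimit.isColimit (pair (L.objPreimage X) (L.objPreimage Y)))⟩⟩⟩
    exact hasColimit_of_iso (mapPairIso (F := pair X Y) (G := pair (L.objPreimage X) (L.objPreimage Y) ⋙ L)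
      (L.objObjPreimageIso X).symm (L.objObjPreimageIso Y).symm)
  exact hasBinaryCoproducts_of_hasColimit_pair _

end Groth.Agent.S18748
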