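import Groth.Statements.S1875
import Groth.Agent.PInsepLen.Basic
import Groth.Agent.FieldExtLib.Separable
import Groth.Agent.GeomRedFieldLib.Basic

set_option autoImplicit false
universe u
open TensorProduct
open RelCyc

namespace Groth.Agent.S1875

open Groth.Agent.PInsepLen
open TensorProduct

set_option synthInstance.maxHeartbeats 200000 in
set_option maxHeartbeats 800000 in
theorem aux {k Ls L K : Type u} [Field k] [Field Ls] [Field L] [Field K] [Algebra k K] [Algebra k L] [Algebra k Ls]
    [Algebra Ls L] [IsScalarTower k Ls L] [Module.Finite Ls L] [IsPurelyInseparable Ls L] [Algebra.FormallySmooth k Ls]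
    (p : ℕ) [ExpChar Ls p] (q : Ideal (K ⊗[k] L)) [q.IsPrime] (hq : q ∈ minimalPrimes (K ⊗[k] L)) :
    ∃ n : ℕ, Module.length (Localization.AtPrime q) (Localization.AtPrime q) = (p ^ n : ℕ) := by
  classical
  haveI : Algebra.IsGeometricallyReduced k Ls :=
    FieldExtLib.formallySmooth_iff_isGeometricallyReduced.1 inferInstance
  haveI : IsReduced (Ls ⊗[k] K) := by
    haveI := GeomRedFieldLib.forall_of_isGeometricallyReduced (k := k) (S := Ls) K
    exact isReduced_of_injective (Algebra.TensorProduct.comm k Ls K) (AlgEquiv.injective _)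
  let A := Ls ⊗[k] K
  let B := A ⊗[Ls] L
  let e1 : B ≃+* L ⊗[Ls] A := (Algebra.TensorProduct.comm Ls A L).toRingEquiv
  let e2 : L ⊗[Ls] A ≃+* L ⊗[k] K := (Algebra.TensorProduct.cancelBaseChange k Ls L L K).toRingEquiv
  let e : K ⊗[k] L ≃+* B := ((Algebra.TensorProduct.comm k K L).toRingEquiv.trans e2.symm).trans e1.symm
  let q' : Ideal B := q.comap e.symm
  haveI : q'.IsPrime := Ideal.IsPrime.comap _
  have hq' : q' ∈ minimalPrimes B := by
    refine ⟨⟨inferInstance, bot_le⟩, fun J hJ hle => ?_⟩
    haveI := hJ.1
    have h1 : J.comap e ≤ q := fun x hx => by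
      have h2 := hle hx
      rw [Ideal.mem_comap] at h2
      simpa using h2
    have h3 := hq.2 ⟨Ideal.IsPrime.comap (e : K ⊗[k] L →+* B), bot_le⟩ h1
    intro y hy
    have h4 : (e : K ⊗[k] L →+* B) (e.symm y) ∈ J := h3 (Ideal.mem_comap.1 hy)
    rwa [RingEquiv.coe_toRingHom, e.apply_symm_apply] at h4
  haveI : Nontrivial B := ⟨0, 1, fun h => (inferInstance : q'.IsPrime).ne_top ((Ideal.eq_top_iff_one _).2 (h ▸ q'.zero_mem))⟩
  obtain ⟨f, hf⟩ := IsPurelyInseparable.finrank_eq_pow (F := Ls) (E := L) p
  obtain ⟨n, hn⟩ := length_minimalPrime A B (Algebra.TensorProduct.basis A (Module.finBasis Ls L)) p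
    (fun F _ _ => expChar_of_injective_ringHom ((algebraMap A F).comp (algebraMap Ls A)).injective p)
    ⟨f, by rw [Fintype.card_fin, hf]⟩ (pow_mem_tensor A Ls L p) q' hq'
  refine ⟨n, ?_⟩
  rw [← hn]
  refine length_eq_of_ringEquiv (IsLocalization.ringEquivOfRingEquiv (M := q.primeCompl) (T := q'.primeCompl) (Localization.AtPrime q) (Localization.AtPrime q') e ?_)
  ext x
  simp only [Submonoid.mem_map, Ideal.mem_primeCompl_iff, q', Ideal.mem_comap]
  constructor
  · rintro ⟨y, hy, rfl⟩; simpa using hy
  · intro hx; exact ⟨e.symm x, hx, by simp⟩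


/-- Let k be a field of exponential characteristic p, K/k any field extension and L/k a finitely
generated field extension (the function field of an integral scheme locally of finite type over k).
For every minimal prime 𝔮 of K ⊗_k L the length of the Artinian local ring (K ⊗_k L)_𝔮 — the
multiplicity of the corresponding irreducible component of the base change — is a power of p (so 1
in characteristic zero). -/
theorem result (k K L : Type u) [Field k] [Field K] [Field L] [Algebra k K] [Algebra k L] (hL : (⊤ : IntermediateField k L).FG) (p : ℕ) [ExpChar k p] (q : Ideal (K ⊗[k] L)) [q.IsPrime] (hq : q ∈ minimalPrimes (K ⊗[k] L)) : ∃ n : ℕ, Module.length (Localization.AtPrime q) (Localization.AtPrime q) = (p ^ n : ℕ) := by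
  classical
  haveI : Algebra.EssFiniteType k L := IntermediateField.fg_top_iff.1 hL
  obtain ⟨s, hs⟩ := exists_isTranscendenceBasis k L
  let E : IntermediateField k L := IntermediateField.adjoin k s
  haveI : Algebra.IsAlgebraic E L := by
    have := hs.isAlgebraic_field
    rwa [Subtype.range_val] at this
  haveI : Algebra.EssFiniteType E L := Algebra.EssFiniteType.of_comp k E L
  haveI : Module.Finite E L := Algebra.finite_of_essFiniteType_of_isAlgebraic
  let Ls := separableClosure E L
  haveI : Module.Finite Ls L := Module.Finite.of_restrictScalars_finite E Ls L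
  haveI : ExpChar Ls p := expChar_of_injective_ringHom (algebraMap k Ls).injective p
  haveI : IsPurelyInseparable Ls L := separableClosure.isPurelyInseparable E L
  haveI : Algebra.FormallySmooth (MvPolynomial s k) (FractionRing (MvPolynomial s k)) :=
    Algebra.FormallySmooth.of_isLocalization (nonZeroDivisors (MvPolynomial s k))
  haveI : Algebra.FormallySmooth k (FractionRing (MvPolynomial s k)) := Algebra.FormallySmooth.comp k (MvPolynomial s k) _
  haveI : Algebra.FormallySmooth k E := by
    have h := Algebra.FormallySmooth.of_equiv hs.1.aevalEquivField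
    rwa [Subtype.range_val] at h
  haveI := Algebra.FormallyEtale.of_isSeparable E Ls
  haveI : Algebra.FormallySmooth k Ls := Algebra.FormallySmooth.comp k E Ls
  haveI : IsScalarTower k Ls L := IsScalarTower.of_algebraMap_eq fun _ => rfl
  exact aux (Ls := Ls) p q hq

end Groth.Agent.S1875
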