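import Groth.Statements.S18753
import Groth.Agent.ModPairLib.SemiVal
import Mathlib.AlgebraicGeometry.ZariskisMainTheorem

set_option autoImplicit false
universe u
open CategoryTheory CategoryTheory.Limits AlgebraicGeometry TopologicalSpace
open ModPair

namespace Groth.Agent.S18753

lemma ker_quot_ideal {A : Type u} [CommRing A] (f : A) :
    (Spec.map (CommRingCat.ofHom (Ideal.Quotient.mk (Ideal.span {f})))).ker.ideal
        ⟨⊤, isAffineOpen_top (Spec (CommRingCat.of A))⟩ =
      Ideal.span {(Scheme.ΓSpecIso (CommRingCat.of A)).inv.hom f} := by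
  rw [Scheme.Hom.ker_apply]
  ext x
  obtain ⟨y, rfl⟩ : ∃ y, (Scheme.ΓSpecIso (CommRingCat.of A)).inv.hom y = x :=
    ⟨(Scheme.ΓSpecIso (CommRingCat.of A)).hom.hom x,
      ConcreteCategory.congr_hom (Scheme.ΓSpecIso (CommRingCat.of A)).hom_inv_id x⟩
  rw [RingHom.mem_ker, Ideal.mem_span_singleton']
  have h := ConcreteCategory.congr_hom
    (Scheme.ΓSpecIso_inv_naturality (CommRingCat.ofHom (Ideal.Quotient.mk (Ideal.span {f})))) y
  constructor
  · intro hx
    have h2 : (Scheme.ΓSpecIso (CommRingCat.of (A ⧸ Ideal.span {f}))).inv.hom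
        (Ideal.Quotient.mk (Ideal.span {f}) y) = 0 := h.trans hx
    rw [map_eq_zero_iff _ (ConcreteCategory.bijective_of_isIso _).injective,
      Ideal.Quotient.eq_zero_iff_mem, Ideal.mem_span_singleton'] at h2
    obtain ⟨a, rfl⟩ := h2
    exact ⟨(Scheme.ΓSpecIso (CommRingCat.of A)).inv.hom a, (map_mul _ _ _).symm⟩
  · rintro ⟨a, ha⟩
    refine h.symm.trans ?_
    show (Scheme.ΓSpecIso (CommRingCat.of (A ⧸ Ideal.span {f}))).inv.hom
        (Ideal.Quotient.mk (Ideal.span {f}) y) = 0
    obtain ⟨a, rfl⟩ : ∃ a', (Scheme.ΓSpecIso (CommRingCat.of A)).inv.hom a' = a :=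
      ⟨(Scheme.ΓSpecIso (CommRingCat.of A)).hom.hom a,
        ConcreteCategory.congr_hom (Scheme.ΓSpecIso (CommRingCat.of A)).hom_inv_id a⟩
    rw [← map_mul] at ha
    rw [← (ConcreteCategory.bijective_of_isIso (Scheme.ΓSpecIso (CommRingCat.of A)).inv).injective ha,
      Ideal.Quotient.eq_zero_iff_mem.mpr (Ideal.mul_mem_left _ a (Ideal.mem_span_singleton_self f)),
      map_zero]

lemma interior_quot {A : Type u} [CommRing A] (f : A) :
    (ModPair.interior (Spec.map (CommRingCat.ofHom (Ideal.Quotient.mk (Ideal.span {f})))).ker :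
      Set (Spec (CommRingCat.of A))) = (↑(PrimeSpectrum.basicOpen f) : Set (PrimeSpectrum A)) := by
  ext (x : PrimeSpectrum A)
  show x ∉ ((Spec.map (CommRingCat.ofHom (Ideal.Quotient.mk (Ideal.span {f})))).ker.support :
      Set (Spec (CommRingCat.of A))) ↔ _
  rw [Scheme.Hom.support_ker]
  show x ∉ closure (Set.range (PrimeSpectrum.comap (Ideal.Quotient.mk (Ideal.span {f})))) ↔ _
  rw [range_comap_of_surjective _ _ Ideal.Quotient.mk_surjective,
    (PrimeSpectrum.isClosed_zeroLocus _).closure_eq, Ideal.mk_ker, PrimeSpectrum.zeroLocus_span]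
  rw [PrimeSpectrum.basicOpen_eq_zeroLocus_compl]
  exact Iff.rfl

lemma isFinite_main {O : Type u} [CommRing O] [IsLocalRing O]
    (R : ValuationSubring (IsLocalRing.ResidueField O)) (f : ↥(ModPairLib.semiVal R))
    [IsLocalization.Away f O] {Q : Scheme.{u}} (IQ : Q.IdealSheafData)
    (hQ : BlowUp.IsEffCartierIdeal IQ)
    (q : Q ⟶ Spec (CommRingCat.of ↥(ModPairLib.semiVal R)))
    (hq : ModPair.IsMinimal IQ
      (Spec.map (CommRingCat.ofHom (Ideal.Quotient.mk (Ideal.span {f})))).ker q)
    [IsProper q]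
    (hfin : IsFinite (q ∣_ ModPair.interior
      (Spec.map (CommRingCat.ofHom (Ideal.Quotient.mk (Ideal.span {f})))).ker)) :
    IsFinite q := by
  suffices h : LocallyQuasiFinite q from IsFinite.of_isProper_of_locallyQuasiFinite q
  have hgen : LocallyQuasiFinite
      (pullback.snd q (Spec.map (CommRingCat.ofHom (algebraMap (ModPairLib.semiVal R) O)))) := by
    generalize hW : ModPair.interior
      (Spec.map (CommRingCat.ofHom (Ideal.Quotient.mk (Ideal.span {f})))).ker = W at hfin
    haveI : IsOpenImmersion (Spec.map (CommRingCat.ofHom (algebraMap (ModPairLib.semiVal R) O))) :=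
      IsOpenImmersion.of_isLocalization (S := O) f
    have hr : Set.range (Spec.map (CommRingCat.ofHom (algebraMap (ModPairLib.semiVal R) O))) =
        Set.range W.ι := by
      rw [Scheme.Opens.range_ι, ← hW, interior_quot]
      exact PrimeSpectrum.localization_away_comap_range O f
    haveI : IsFinite (q ∣_ W) := hfin
    haveI : IsFinite (pullback.snd q W.ι) := by
      rw [← (isPullback_morphismRestrict q W).flip.isoPullback_inv_snd]
      infer_instance
    generalize heq : IsOpenImmersion.isoOfRangeEq _ W.ι hr = e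
    have he : e.hom ≫ W.ι = Spec.map (CommRingCat.ofHom (algebraMap (ModPairLib.semiVal R) O)) := by
      rw [← heq, IsOpenImmersion.isoOfRangeEq_hom_fac]
    rw [← he, ← pullbackLeftPullbackSndIso_inv_snd_snd]
    infer_instance
  rw [IsZariskiLocalAtSource.iff_of_openCover (P := @LocallyQuasiFinite) Q.affineCover]
  intro k
  haveI : IsAffine (Q.affineCover.X k) := inferInstance
  obtain ⟨φ, hφ⟩ : ∃ φ, Spec.map φ = ((Q.affineCover.X k).isoSpec.inv ≫ Q.affineCover.f k) ≫ q :=
    Spec.map_surjective _
  letI : Algebra ↥(ModPairLib.semiVal R) Γ(Q.affineCover.X k, ⊤) := φ.hom.toAlgebra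
  haveI := ModPairLib.quasiFinite_tensor q hgen (B := Γ(Q.affineCover.X k, ⊤))
    ((Q.affineCover.X k).isoSpec.inv ≫ Q.affineCover.f k) hφ.symm
  have hnz : φ.hom f ∈ nonZeroDivisors Γ(Q.affineCover.X k, ⊤) := by
    have hc : BlowUp.IsEffCartierIdeal (IQ.comap (Q.affineCover.f k)) :=
      BlowCompLib.isEffCartier_comap_openImmersion hQ _
    refine ModPairLib.cart_generator_nzd hc ⟨⊤, isAffineOpen_top _⟩ ?_
    rw [hq, ← Scheme.IdealSheafData.comap_comp]
    rw [BlowCompLib.ideal_comap_span _ _ (ker_quot_ideal f) ⟨⊤, isAffineOpen_top _⟩ (by simp)]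
    congr 2
    have e : Q.affineCover.f k ≫ q = (Q.affineCover.X k).isoSpec.hom ≫ Spec.map φ := by
      rw [hφ, Category.assoc, Iso.hom_inv_id_assoc]
    rw [e]
    have e2 : ((Q.affineCover.X k).isoSpec.hom ≫ Spec.map φ).appLE ⊤ ⊤ (by simp) =
        (Scheme.ΓSpecIso _).hom ≫ φ := by
      simp [Scheme.Hom.appLE]
      exact (congrArg (Scheme.Hom.app (Spec.map φ) ⊤ ≫ ·) (Scheme.toSpecΓ_appTop (Q.affineCover.X k))).trans
        (Scheme.ΓSpecIso_naturality φ)
    rw [e2]
    exact (congrArg φ.hom
      (ConcreteCategory.congr_hom (Scheme.ΓSpecIso (CommRingCat.of _)).inv_hom_id f))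
  haveI : LocallyQuasiFinite (Spec.map φ) := by
    rw [HasRingHomProperty.Spec_iff (P := @LocallyQuasiFinite)]
    exact RingHom.quasiFinite_algebraMap.mpr (ModPairLib.quasiFinite_semiVal R f hnz)
  have e : Q.affineCover.f k ≫ q = (Q.affineCover.X k).isoSpec.hom ≫ Spec.map φ := by
    rw [hφ, Category.assoc, Iso.hom_inv_id_assoc]
  rw [e]
  infer_instance

/-- Let O be a local ring with residue field κ, R a valuation ring of κ, A ⊆ O the subring of elements
whose residue class lies in R (the fibre product ring R ×_κ O, a semi-valuation ring), and f an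
element of A such that O is the localization of A obtained by inverting f. Equip P = Spec A with the
modulus V(f), the closed subscheme cut out by f (an effective Cartier divisor: f is a unit of O, so
a nonzerodivisor of A), whose interior is Spec O. Let q : Q ⟶ P be a proper, minimal morphism of
modulus pairs (the modulus of Q is the pull-back of V(f) and is an effective Cartier divisor) whose
restriction over the interior of P is a finite morphism. Then q is finite. -/
theorem result {O : Type u} [CommRing O]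
    [IsLocalRing O] (R : ValuationSubring (IsLocalRing.ResidueField O))
    (f : ↥((R.toSubring).comap (IsLocalRing.residue O)))
    [IsLocalization.Away f O] {Q : Scheme.{u}} (IQ : Q.IdealSheafData)
    (hQ : BlowUp.IsEffCartierIdeal IQ)
    (q : Q ⟶ Spec (CommRingCat.of ↥((R.toSubring).comap (IsLocalRing.residue O))))
    (hq : ModPair.IsMinimal IQ
      (Spec.map (CommRingCat.ofHom (Ideal.Quotient.mk (Ideal.span {f})))).ker q)
    [IsProper q]
    (hfin : IsFinite (q ∣_ ModPair.interior
      (Spec.map (CommRingCat.ofHom (Ideal.Quotient.mk (Ideal.span {f})))).ker)) :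
    IsFinite q := by
  exact isFinite_main R f IQ hQ q hq hfin

end Groth.Agent.S18753
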