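import Groth.Statements.S18754
import Groth.Agent.ModPairLib.Descend
import Groth.Agent.ModPairLib.Cartier
import Mathlib

set_option autoImplicit false
universe u
open CategoryTheory CategoryTheory.Limits AlgebraicGeometry TopologicalSpace
open ModPair

namespace Groth.Agent.S18754

lemma dominant_of_restrict_iso {X X' Y : Scheme.{u}} (π : X ⟶ X') (f : X' ⟶ Y) (U : Y.Opens)
    [IsSchemeTheoreticallyDominant (f ⁻¹ᵁ U).ι] [IsIso ((π ≫ f) ∣_ U)] [IsIso (f ∣_ U)] :
    IsSchemeTheoreticallyDominant π := by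
  haveI : IsIso ((π ∣_ f ⁻¹ᵁ U) ≫ (f ∣_ U)) := (morphismRestrict_comp π f U) ▸ ‹IsIso ((π ≫ f) ∣_ U)›
  haveI : IsIso (π ∣_ f ⁻¹ᵁ U) := IsIso.of_isIso_comp_right (π ∣_ f ⁻¹ᵁ U) (f ∣_ U)
  refine ⟨le_bot_iff.mp ?_⟩
  have h : (inv (π ∣_ f ⁻¹ᵁ U) ≫ (π ⁻¹ᵁ (f ⁻¹ᵁ U)).ι) ≫ π = (f ⁻¹ᵁ U).ι := by
    rw [Category.assoc, ← morphismRestrict_ι, IsIso.inv_hom_id_assoc]
  have h2 := Scheme.Hom.le_ker_comp (inv (π ∣_ f ⁻¹ᵁ U) ≫ (π ⁻¹ᵁ (f ⁻¹ᵁ U)).ι) π
  rw [h, Scheme.Hom.ker_eq_bot (f ⁻¹ᵁ U).ι] at h2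
  exact h2

set_option backward.isDefEq.respectTransparency false in
lemma isIso_restrict_of_bijective {X Y : Scheme.{u}} (f : X ⟶ Y) [IsAffineHom f] {U : Y.Opens}
    (hU : IsAffineOpen U) (h : Function.Bijective (f.app U).hom) : IsIso (f ∣_ U) := by
  haveI : IsAffine (U : Scheme.{u}) := hU
  haveI : IsAffine (f ⁻¹ᵁ U : Scheme.{u}) := hU.preimage f
  haveI : IsIso (f.app U) := by rw [ConcreteCategory.isIso_iff_bijective]; exact h
  change MorphismProperty.isomorphisms Scheme (f ∣_ U)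
  rw [HasAffineProperty.iff_of_isAffine (P := MorphismProperty.isomorphisms Scheme)]
  refine ⟨inferInstance, ?_⟩
  rw [morphismRestrict_appTop]
  have e : U.ι ''ᵁ ⊤ = U := U.ι_image_top
  have h2 : ∀ V : Y.Opens, V = U → IsIso (f.app V) := fun V hV => hV ▸ inferInstance
  haveI : IsIso (f.app (U.ι ''ᵁ ⊤)) := h2 _ e
  infer_instance

lemma exists_iso_stage {I : Type u} [SmallCategory I] [IsCofiltered I] (D : I ⥤ Scheme.{u}) (c : Cone D)
    (hc : IsLimit c) [∀ {i j} (f : i ⟶ j), IsAffineHom (D.map f)]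
    (hd : ∀ i, IsSchemeTheoreticallyDominant (c.π.app i)) (i : I) [CompactSpace (D.obj i)]
    [IsFinite (c.π.app i)] : ∃ j, IsIso (c.π.app j) := by
  classical
  haveI : ∀ k, IsAffineHom (c.π.app k) := fun k => isAffineHom_π_app D c hc k
  have key (x : D.obj i) : ∃ (U : (D.obj i).affineOpens) (_ : x ∈ U.1) (k : I) (t : k ⟶ i),
      ∀ (l : I) (v : l ⟶ k), Function.Surjective ((c.π.app l).app (D.map (v ≫ t) ⁻¹ᵁ U.1)).hom := by
    obtain ⟨_, ⟨U, hU, rfl⟩, hx, -⟩ :=
      (D.obj i).isBasis_affineOpens.exists_subset_of_mem_open (Set.mem_univ x) isOpen_univ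
    replace hU : IsAffineOpen U := hU
    letI : Algebra Γ(D.obj i, U) Γ(c.pt, c.π.app i ⁻¹ᵁ U) := ((c.π.app i).app U).hom.toAlgebra
    haveI : Module.Finite Γ(D.obj i, U) Γ(c.pt, c.π.app i ⁻¹ᵁ U) :=
      RingHom.finite_algebraMap.mp ((c.π.app i).finite_app U hU)
    obtain ⟨s, hs⟩ := Module.finite_def.mp ‹Module.Finite Γ(D.obj i, U) Γ(c.pt, c.π.app i ⁻¹ᵁ U)›
    choose j t e w hw using fun z : s => ModPairLib.exists_section_stage D c hc i (show IsAffineOpen U from hU) z.1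
    obtain ⟨k, q, p, hp⟩ := IsCofiltered.wideCospan (fun z : s => t z)
    refine ⟨⟨U, hU⟩, hx, k, q, fun l v y => ?_⟩
    have hle : c.π.app i ⁻¹ᵁ U ≤ c.π.app l ⁻¹ᵁ (D.map (v ≫ q) ⁻¹ᵁ U) := by
      rw [← Scheme.Hom.comp_preimage, c.w]
    have hle' : c.π.app l ⁻¹ᵁ (D.map (v ≫ q) ⁻¹ᵁ U) ≤ c.π.app i ⁻¹ᵁ U := by
      rw [← Scheme.Hom.comp_preimage, c.w]
    suffices h : ∀ z : Γ(c.pt, c.π.app i ⁻¹ᵁ U), ∃ z' : Γ(D.obj l, D.map (v ≫ q) ⁻¹ᵁ U),
        ((c.π.app l).appLE (D.map (v ≫ q) ⁻¹ᵁ U) (c.π.app i ⁻¹ᵁ U) hle).hom z' = z by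
      obtain ⟨z', hz'⟩ := h ((c.pt.presheaf.map (homOfLE hle).op).hom y)
      refine ⟨z', ?_⟩
      have := congrArg (c.pt.presheaf.map (homOfLE hle').op).hom hz'
      have e3 : (c.π.app l).app (D.map (v ≫ q) ⁻¹ᵁ U) =
          (c.π.app l).appLE _ _ hle ≫ c.pt.presheaf.map (homOfLE hle').op := by
        exact (Scheme.Hom.app_eq_appLE _).trans (Scheme.Hom.appLE_map _ hle (homOfLE hle').op).symm
      have e4 : c.pt.presheaf.map (homOfLE hle).op ≫ c.pt.presheaf.map (homOfLE hle').op = 𝟙 _ := by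
        rw [← Functor.map_comp]
        exact (congrArg c.pt.presheaf.map (Subsingleton.elim _ (𝟙 _))).trans (CategoryTheory.Functor.map_id _ _)
      exact ((ConcreteCategory.congr_hom e3 z').trans this).trans (ConcreteCategory.congr_hom e4 y)
    intro z
    have hz : z ∈ Submodule.span Γ(D.obj i, U) (s : Set Γ(c.pt, c.π.app i ⁻¹ᵁ U)) := hs ▸ trivial
    induction hz using Submodule.span_induction with
    | mem z hzs =>
      obtain ⟨z', rfl⟩ : ∃ z' : s, z'.1 = z := ⟨⟨z, hzs⟩, rfl⟩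
      have hle2 : D.map (v ≫ q) ⁻¹ᵁ U ≤ D.map (v ≫ p z') ⁻¹ᵁ (D.map (t z') ⁻¹ᵁ U) := by
        rw [← Scheme.Hom.comp_preimage, ← Functor.map_comp, Category.assoc, hp z']
      refine ⟨((D.map (v ≫ p z')).appLE _ _ hle2).hom (w z'), ?_⟩
      refine Eq.trans ?_ (hw z')
      rw [← ConcreteCategory.comp_apply, Scheme.Hom.appLE_comp_appLE]
      simp
    | zero => exact ⟨0, map_zero _⟩
    | add z₁ z₂ _ _ h₁ h₂ =>
      obtain ⟨a₁, rfl⟩ := h₁
      obtain ⟨a₂, rfl⟩ := h₂
      exact ⟨a₁ + a₂, map_add _ _ _⟩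
    | smul a z _ h =>
      obtain ⟨z', rfl⟩ := h
      refine ⟨((D.map (v ≫ q)).appLE U _ le_rfl).hom a * z', ?_⟩
      rw [map_mul, Algebra.smul_def]
      congr 1
      rw [← ConcreteCategory.comp_apply, Scheme.Hom.appLE_comp_appLE]
      simp [RingHom.algebraMap_toAlgebra, Scheme.Hom.app_eq_appLE]
  choose U hxU k t hk using key
  obtain ⟨T, hT⟩ := CompactSpace.elim_nhds_subcover (fun x => ((U x).1 : Set (D.obj i)))
    (fun x => (U x).1.2.mem_nhds (hxU x))
  obtain ⟨l, q, p, hp⟩ := IsCofiltered.wideCospan (fun x : T => t x.1)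
  refine ⟨l, ?_⟩
  change MorphismProperty.isomorphisms Scheme (c.π.app l)
  rw [IsZariskiLocalAtTarget.iff_of_iSup_eq_top (P := MorphismProperty.isomorphisms Scheme)
    (fun x : T => D.map q ⁻¹ᵁ (U x.1).1) (top_le_iff.mp fun y _ => by
      obtain ⟨x, hxT, hy⟩ := Set.mem_iUnion₂.mp (hT.ge (Set.mem_univ (D.map q y)))
      exact TopologicalSpace.Opens.mem_iSup.mpr ⟨⟨x, hxT⟩, hy⟩)]
  intro x
  haveI := hd l
  have hs := hk x.1 l (p x)
  rw [hp x] at hs
  exact isIso_restrict_of_bijective (c.π.app l) ((U x.1).2.preimage _)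
    ⟨(c.π.app l).app_injective _, hs⟩

/-- Let (Y, I_Y) be a modulus pair with Y quasi-compact and quasi-separated, and let (X_i ⟶ Y) be a
cofiltered system of Y-schemes with affine transition morphisms such that every X_i is quasi-compact
and quasi-separated, the pulled-back ideal I_Y.comap (X_i ⟶ Y) is the ideal of an effective Cartier
divisor, and X_i ⟶ Y is an abstract admissible blow-up of modulus pairs which is locally of finite
presentation. Let X be the limit of the system over Y and suppose that X ⟶ Y, with the pulled-back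
modulus (assumed effective Cartier), is also an abstract admissible blow-up. Then X ⟶ Y is locally
of finite presentation: an abstract admissible blow-up of quasi-compact quasi-separated modulus
pairs which is not of finite presentation is never a limit of finitely presented ones. -/
theorem result {Y : Scheme.{u}}
    [CompactSpace Y] [QuasiSeparatedSpace Y] (IY : Y.IdealSheafData) (hY : BlowUp.IsEffCartierIdeal IY)
    {I : Type u} [SmallCategory I] [IsCofiltered I] (D : I ⥤ Over Y) (c : Cone D) (hc : IsLimit c)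
    [∀ (i j : I) (t : i ⟶ j), IsAffineHom (D.map t).left]
    [∀ i, CompactSpace (D.obj i).left] [∀ i, QuasiSeparatedSpace (D.obj i).left]
    (hI : ∀ i, BlowUp.IsEffCartierIdeal (IY.comap (D.obj i).hom))
    (hadm : ∀ i, ModPair.IsAdmBlowup (IY.comap (D.obj i).hom) IY (D.obj i).hom)
    [∀ i, LocallyOfFinitePresentation (D.obj i).hom]
    (hX : BlowUp.IsEffCartierIdeal (IY.comap c.pt.hom))
    (hXadm : ModPair.IsAdmBlowup (IY.comap c.pt.hom) IY c.pt.hom) :
    LocallyOfFinitePresentation c.pt.hom := by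
  haveI : ∀ {i j : I} (f : i ⟶ j), IsAffineHom ((D ⋙ Over.forget Y).map f) := by
    intro i j f; dsimp; infer_instance
  have hc' := isLimitOfPreserves (Over.forget Y) hc
  let i : I := Classical.choice IsCofiltered.nonempty
  haveI := isAffineHom_π_app (D ⋙ Over.forget Y) ((Over.forget Y).mapCone c) hc' i
  haveI hAff : IsAffineHom (c.π.app i).left := this
  haveI : IsProper c.pt.hom := hXadm.2.1
  haveI : IsProper (D.obj i).hom := (hadm i).2.1
  haveI : IsProper ((c.π.app i).left ≫ (D.obj i).hom) := (Over.w (c.π.app i)).symm ▸ hXadm.2.1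
  haveI : IsProper (c.π.app i).left := IsProper.of_comp _ (D.obj i).hom
  haveI : IsFinite (((Over.forget Y).mapCone c).π.app i) := by
    rw [IsFinite.iff_isProper_and_isAffineHom]
    exact ⟨‹IsProper (c.π.app i).left›, hAff⟩
  haveI : CompactSpace ((D ⋙ Over.forget Y).obj i) := ‹∀ i, CompactSpace (D.obj i).left› i
  obtain ⟨j, hj⟩ := exists_iso_stage (D ⋙ Over.forget Y) ((Over.forget Y).mapCone c) hc' (fun k => by
    show IsSchemeTheoreticallyDominant (c.π.app k).left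
    haveI : IsSchemeTheoreticallyDominant ((D.obj k).hom ⁻¹ᵁ ModPair.interior IY).ι := by
      rw [← ModPairLib.interior_comap]
      exact ModPairLib.dominant_interior (hI k)
    haveI : IsIso ((D.obj k).hom ∣_ ModPair.interior IY) := (hadm k).2.2
    haveI : IsIso (((c.π.app k).left ≫ (D.obj k).hom) ∣_ ModPair.interior IY) := by
      exact (Over.w (c.π.app k)).symm ▸ hXadm.2.2
    exact dominant_of_restrict_iso (c.π.app k).left (D.obj k).hom (ModPair.interior IY)) i
  haveI : IsIso (c.π.app j).left := hj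
  have hw : (c.π.app j).left ≫ (D.obj j).hom = c.pt.hom := Over.w _
  rw [← hw]
  infer_instance

end Groth.Agent.S18754
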