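import Groth.Statements.S18755
import Groth.Agent.ModPairLib.Pair

set_option autoImplicit false
universe u
open CategoryTheory CategoryTheory.Limits AlgebraicGeometry TopologicalSpace
open ModPair

namespace Groth.Agent.S18755

/-- Let (S₀, I₀), (S₁, I₁), (T, J), (X, I) be schemes with quasi-coherent ideal sheaves of effective
Cartier divisors, f : X ⟶ S₁, g : T ⟶ S₁ and σ : S₁ ⟶ S₀ morphisms satisfying the modulus condition,
and let (Y₁, K₁) with π₁ and (Y₀, K₀) with π₀ be ambient products of (X, I) and (T, J) over S₁ and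
over S₀ (the latter for f ≫ σ and g ≫ σ): blow-ups of the scheme-theoretic image of the product of
the interiors inside X ×_{S₁} T, resp. X ×_{S₀} T, in the intersection of the pulled-back moduli,
with K·E = D_X·D_T. Then the ambient product is functorial in the base: there is a unique morphism φ
: Y₁ ⟶ Y₀ compatible with the maps to X ×_{S₀} T (through the canonical X ×_{S₁} T ⟶ X ×_{S₀} T),
and every such φ is minimal, K₁ = K₀.comap φ. -/
theorem result {S₀ S₁ T X Y₁ Y₀ : Scheme.{u}} (I₀ : S₀.IdealSheafData)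
    (I₁ : S₁.IdealSheafData) (J : T.IdealSheafData) (I : X.IdealSheafData)
    (h₀ : BlowUp.IsEffCartierIdeal I₀) (h₁ : BlowUp.IsEffCartierIdeal I₁)
    (hT : BlowUp.IsEffCartierIdeal J) (hX : BlowUp.IsEffCartierIdeal I)
    (f : X ⟶ S₁) (hf : ModPair.IsAmbient I I₁ f) (g : T ⟶ S₁) (hg : ModPair.IsAmbient J I₁ g)
    (σ : S₁ ⟶ S₀) (hσ : ModPair.IsAmbient I₁ I₀ σ)
    (π₁ : Y₁ ⟶ ModPair.mprod f g I J) (K₁ : Y₁.IdealSheafData) (hY₁ : ModPair.IsAmbProd f g I J π₁ K₁)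
    (π₀ : Y₀ ⟶ ModPair.mprod (f ≫ σ) (g ≫ σ) I J) (K₀ : Y₀.IdealSheafData)
    (hY₀ : ModPair.IsAmbProd (f ≫ σ) (g ≫ σ) I J π₀ K₀) :
    (∃! φ : Y₁ ⟶ Y₀, φ ≫ π₀ ≫ ModPair.mprodι (f ≫ σ) (g ≫ σ) I J =
        π₁ ≫ ModPair.mprodι f g I J ≫ pullback.mapDesc f g σ) ∧
      ∀ φ : Y₁ ⟶ Y₀, φ ≫ π₀ ≫ ModPair.mprodι (f ≫ σ) (g ≫ σ) I J =
          π₁ ≫ ModPair.mprodι f g I J ≫ pullback.mapDesc f g σ →
        ModPair.IsMinimal K₁ K₀ φ := by
  have hXl := Groth.Agent.ModPairLib.isLP_of_cart hX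
  have hTl := Groth.Agent.ModPairLib.isLP_of_cart hT
  haveI := Groth.Agent.ModPairLib.quasiCompact_prodInterior f g I J hXl hTl
  set M := pullback.mapDesc f g σ
  have hM₁ : M ≫ pullback.fst (f ≫ σ) (g ≫ σ) = pullback.fst f g :=
    (pullback.lift_fst _ _ _).trans (Category.comp_id _)
  have hM₂ : M ≫ pullback.snd (f ≫ σ) (g ≫ σ) = pullback.snd f g :=
    (pullback.lift_snd _ _ _).trans (Category.comp_id _)
  let U₁ := ModPair.prodInterior f g I J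
  let U₀ := ModPair.prodInterior (f ≫ σ) (g ≫ σ) I J
  let l : U₁.toScheme ⟶ U₀.toScheme := IsOpenImmersion.lift U₀.ι (U₁.ι ≫ M) (by
    rw [Scheme.Opens.range_ι]
    rintro _ ⟨x, rfl⟩
    refine ⟨?_, ?_⟩
    · show pullback.fst (f ≫ σ) (g ≫ σ) ((U₁.ι ≫ M) x) ∈ ModPair.interior I
      rw [Scheme.Hom.comp_apply, ← Scheme.Hom.comp_apply M, hM₁]
      exact x.2.1
    · show pullback.snd (f ≫ σ) (g ≫ σ) ((U₁.ι ≫ M) x) ∈ ModPair.interior J
      rw [Scheme.Hom.comp_apply, ← Scheme.Hom.comp_apply M, hM₂]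
      exact x.2.2)
  obtain ⟨m, hm⟩ := Groth.Agent.ModPairLib.exists_lift_closed U₁.ι.toImage (ModPair.mprodι f g I J ≫ M)
    (ModPair.mprodι (f ≫ σ) (g ≫ σ) I J) (l ≫ U₀.ι.toImage)
    (by rw [Category.assoc, Scheme.Hom.toImage_imageι]
        exact (IsOpenImmersion.lift_fac _ _ _).trans (Scheme.Hom.toImage_imageι_assoc U₁.ι M).symm)
  have hA : (Groth.Agent.ModPairLib.mA (f ≫ σ) (g ≫ σ) I J).comap m = Groth.Agent.ModPairLib.mA f g I J := by
    rw [← Scheme.IdealSheafData.comap_comp, reassoc_of% hm, hM₁]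
  have hB : (Groth.Agent.ModPairLib.mB (f ≫ σ) (g ≫ σ) I J).comap m = Groth.Agent.ModPairLib.mB f g I J := by
    rw [← Scheme.IdealSheafData.comap_comp, reassoc_of% hm, hM₂]
  have hcentre : (ModPair.prodCentre (f ≫ σ) (g ≫ σ) I J).comap (π₁ ≫ m) = (ModPair.prodCentre f g I J).comap π₁ := by
    rw [Scheme.IdealSheafData.comap_comp, Groth.Agent.ModPairLib.comap_prodCentre, hA, hB]
    rfl
  obtain ⟨φ₀, hφ₀, huniq⟩ := hY₀.1.2 Y₁ (π₁ ≫ m) (by rw [hcentre]; exact hY₁.1.1)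
  have hiff : ∀ φ : Y₁ ⟶ Y₀, φ ≫ π₀ ≫ ModPair.mprodι (f ≫ σ) (g ≫ σ) I J = π₁ ≫ ModPair.mprodι f g I J ≫ M →
      φ ≫ π₀ = π₁ ≫ m := fun φ hφ => by
    rw [← cancel_mono (ModPair.mprodι (f ≫ σ) (g ≫ σ) I J), Category.assoc, Category.assoc, hm]
    exact hφ
  refine ⟨⟨φ₀, ?_, fun φ hφ => huniq φ (hiff φ hφ)⟩, fun φ hφ => ?_⟩
  · show φ₀ ≫ π₀ ≫ _ = _
    rw [reassoc_of% hφ₀, hm]
  · have h := hiff φ hφ
    refine Groth.Agent.ModPairLib.mul_right_cancel' hY₁.1.1 ?_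
    have h1 := congrArg (fun D => Scheme.IdealSheafData.comap D φ) hY₀.2
    simp only [Groth.Agent.BlowCompLib.comap_mul, ← Scheme.IdealSheafData.comap_comp] at h1
    have hA' : (I.comap (ModPair.mprodι f g I J ≫ pullback.fst f g)).comap π₁ =
        I.comap (φ ≫ π₀ ≫ ModPair.mprodι (f ≫ σ) (g ≫ σ) I J ≫ pullback.fst (f ≫ σ) (g ≫ σ)) := by
      rw [← Scheme.IdealSheafData.comap_comp, reassoc_of% h, reassoc_of% hm, hM₁]
    have hB' : (J.comap (ModPair.mprodι f g I J ≫ pullback.snd f g)).comap π₁ =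
        J.comap (φ ≫ π₀ ≫ ModPair.mprodι (f ≫ σ) (g ≫ σ) I J ≫ pullback.snd (f ≫ σ) (g ≫ σ)) := by
      rw [← Scheme.IdealSheafData.comap_comp, reassoc_of% h, reassoc_of% hm, hM₂]
    rw [hY₁.2, hA', hB', ← hcentre, ← h]
    exact h1.symm

end Groth.Agent.S18755
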