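import Groth.Statements.S18756
import Groth.Agent.ModPairLib.CoverDescent

set_option autoImplicit false
universe u
open CategoryTheory CategoryTheory.Limits AlgebraicGeometry TopologicalSpace
open ModPair

namespace Groth.Agent.S18756

lemma reduce {I : Type u} [SmallCategory I] [IsCofiltered I] (D : I ⥤ Scheme.{u})
    [∀ (i j : I) (t : i ⟶ j), IsAffineHom (D.map t)] (i₀ : I) [CompactSpace (D.obj i₀)]
    [QuasiSeparatedSpace (D.obj i₀)] :
    (∀ {i j : Over i₀} (f : i ⟶ j), IsAffineHom ((Over.forget i₀ ⋙ D).map f)) ∧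
    (∀ i : Over i₀, CompactSpace ((Over.forget i₀ ⋙ D).obj i)) ∧
    (∀ i : Over i₀, QuasiSeparatedSpace ((Over.forget i₀ ⋙ D).obj i)) :=
  ⟨fun {i j} f => inferInstanceAs (IsAffineHom (D.map f.left)),
    fun i => QuasiCompact.compactSpace_of_compactSpace (D.map i.hom),
    fun i => quasiSeparatedSpace_of_quasiSeparated (D.map i.hom)⟩

/-- Let (X_i) be a cofiltered system of schemes with affine transition morphisms such that X_{i₀} is
quasi-compact and quasi-separated for some index i₀, let X be its limit, and let {U_a ⟶ X} be an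
fppf covering: a jointly surjective family of morphisms which are flat and of finite presentation
(flat, locally of finite presentation, quasi-compact and quasi-separated). Then the covering
descends: for some index i there is a finite fppf covering {V_j ⟶ X_i}_{j < n} such that every V_j
×_{X_i} X is one of the U_a, i.e. for each j some U_{a_j} ⟶ X is the base change of V_j ⟶ X_i along
X ⟶ X_i. (The source states the same for Zariski, Nisnevich and étale coverings; only the fppf case
is given here.) -/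
theorem result {I : Type u} [SmallCategory I] [IsCofiltered I]
    (D : I ⥤ Scheme.{u}) (c : Cone D) (hc : IsLimit c)
    [∀ (i j : I) (t : i ⟶ j), IsAffineHom (D.map t)] (i₀ : I) [CompactSpace (D.obj i₀)]
    [QuasiSeparatedSpace (D.obj i₀)] {ι : Type u} (U : ι → Scheme.{u}) (u : ∀ a, U a ⟶ c.pt)
    [∀ a, Flat (u a)] [∀ a, LocallyOfFinitePresentation (u a)] [∀ a, QuasiCompact (u a)]
    [∀ a, QuasiSeparated (u a)] (hcov : ∀ x : c.pt, ∃ (a : ι) (y : U a), (u a).base y = x) :
    ∃ (i : I) (n : ℕ) (V : Fin n → Scheme.{u}) (v : ∀ j, V j ⟶ D.obj i) (a : Fin n → ι)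
      (e : ∀ j, U (a j) ⟶ V j),
      (∀ j, Flat (v j) ∧ LocallyOfFinitePresentation (v j) ∧ QuasiCompact (v j) ∧ QuasiSeparated (v j)) ∧
      (∀ x : D.obj i, ∃ (j : Fin n) (y : V j), (v j).base y = x) ∧
      ∀ j, IsPullback (e j) (u (a j)) (v j) (c.π.app i) := by
  obtain ⟨h₁, h₂, h₃⟩ := reduce D i₀
  haveI : ∀ {i j : Over i₀} (f : i ⟶ j), IsAffineHom ((Over.forget i₀ ⋙ D).map f) := fun {i j} f => h₁ f
  haveI := h₂
  haveI := h₃
  obtain ⟨i, n, V, v, a, e, hv, h4, h5⟩ := ModPairLib.exists_cover_stage (Over.forget i₀ ⋙ D)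
    (c.whisker (Over.forget i₀)) ((Functor.Initial.isLimitWhiskerEquiv (Over.forget i₀) c).symm hc)
    (@Flat ⊓ @LocallyOfFinitePresentation)
    (fun f hf => by haveI := hf.1; haveI := hf.2; exact inferInstance)
    (ModPairLib.attained_flatFP _ _ ((Functor.Initial.isLimitWhiskerEquiv (Over.forget i₀) c).symm hc))
    U u (fun a => ⟨inferInstance, inferInstance⟩) hcov
  exact ⟨i.left, n, V, v, a, e, fun j => ⟨(hv j).1.1, (hv j).1.2, (hv j).2.2.1, (hv j).2.2.2⟩, h4, h5⟩

end Groth.Agent.S18756
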