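import Groth.Statements.S1876
import Groth.Agent.DRingLib.Complex
-- import your own Groth.Agent.* helpers here

set_option autoImplicit false
set_option backward.isDefEq.respectTransparency false
universe u
open CategoryTheory
attribute [local instance] HasDerivedCategory.standard
open Trace

namespace Groth.Agent.S1876
open CategoryTheory CategoryTheory.Limits
attribute [local instance] HasDerivedCategory.standard

/-- Commutative coefficient ring, finite free terms: let P and Q be bounded complexes of finite free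
Λ-modules with chain endomorphisms f and g, and α : P ≅ Q an isomorphism in the derived category
D(Λ) with α ∘ f = g ∘ α there. Then Σ_i (−1)^i Tr(f^i | P^i) = Σ_i (−1)^i Tr(g^i | Q^i); that is,
the trace of an endomorphism of a perfect object of D(Λ) is well defined. -/
theorem result (Λ : Type u) [CommRing Λ] (P Q : DRing.Cx Λ) (a b : ℤ) (hP : DRing.VanishesOutside P a b) (hQ : DRing.VanishesOutside Q a b) (hPf : DRing.TermwiseFiniteFree P) (hQf : DRing.TermwiseFiniteFree Q) (f : P ⟶ P) (g : Q ⟶ Q) (α : DRing.toD P ≅ DRing.toD Q) (h : α.hom ≫ DerivedCategory.Q.map g = DerivedCategory.Q.map f ≫ α.hom) : ∑ i ∈ Finset.Icc a b, ((i.negOnePow : ℤˣ) : ℤ) • LinearMap.trace Λ (P.X i) (f.f i).hom = ∑ i ∈ Finset.Icc a b, ((i.negOnePow : ℤˣ) : ℤ) • LinearMap.trace Λ (Q.X i) (g.f i).hom := by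
  haveI : ∀ i, Module.Finite Λ (P.X i) := fun i => (hPf i).1
  haveI : ∀ i, Module.Free Λ (P.X i) := fun i => (hPf i).2
  haveI : ∀ i, Module.Finite Λ (Q.X i) := fun i => (hQf i).1
  haveI : ∀ i, Module.Free Λ (Q.X i) := fun i => (hQf i).2
  haveI : P.IsKProjective := DRingLib.isKProjective_of_vanishesAbove (b := b) (fun i hi => hP i (Or.inr hi))
    fun i => Module.Projective.of_free
  haveI : Q.IsKProjective := DRingLib.isKProjective_of_vanishesAbove (b := b) (fun i hi => hQ i (Or.inr hi))
    fun i => Module.Projective.of_free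
  -- homotopic endomorphisms have the same trace
  have key : ∀ (R : DRing.Cx Λ) [R.IsKProjective] (hR : DRing.VanishesOutside R a b)
      (hRf : DRing.TermwiseFiniteFree R) (u v : R ⟶ R),
      DerivedCategory.Q.map u = DerivedCategory.Q.map v →
      ∑ i ∈ Finset.Icc a b, ((i.negOnePow : ℤˣ) : ℤ) • LinearMap.trace Λ (R.X i) (u.f i).hom =
        ∑ i ∈ Finset.Icc a b, ((i.negOnePow : ℤˣ) : ℤ) • LinearMap.trace Λ (R.X i) (v.f i).hom := by
    intro R _ hR hRf u v huv
    haveI : ∀ i, Module.Finite Λ (R.X i) := fun i => (hRf i).1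
    haveI : ∀ i, Module.Free Λ (R.X i) := fun i => (hRf i).2
    obtain ⟨H⟩ := DRingLib.homotopic_zero R (u - v) (by rw [Functor.map_sub, huv, sub_self])
    let w : ℤ → Λ := fun i => LinearMap.trace Λ (R.X i) ((H.hom (i + 1) i).hom ∘ₗ (R.d i (i + 1)).hom)
    have hw : ∀ i, LinearMap.trace Λ (R.X i) (u.f i).hom - LinearMap.trace Λ (R.X i) (v.f i).hom =
        w i + w (i - 1) := by
      intro i
      have h1 := H.comm i
      rw [dNext_eq H.hom (show (ComplexShape.up ℤ).Rel i (i + 1) from rfl),
        prevD_eq H.hom (show (ComplexShape.up ℤ).Rel (i - 1) i from sub_add_cancel i 1)] at h1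
      have h2 := congrArg (fun φ => LinearMap.trace Λ (R.X i) φ.hom) h1
      simp only [HomologicalComplex.sub_f_apply, HomologicalComplex.zero_f, add_zero, ModuleCat.hom_sub,
        ModuleCat.hom_add, ModuleCat.hom_comp, map_sub, map_add] at h2
      rw [h2, LinearMap.trace_comp_comm' (H.hom i (i - 1)).hom (R.d (i - 1) i).hom]
      have h3 : w (i - 1) = LinearMap.trace Λ (R.X (i - 1)) ((H.hom i (i - 1)).hom ∘ₗ (R.d (i - 1) i).hom) := by
        show LinearMap.trace Λ (R.X (i - 1)) ((H.hom (i - 1 + 1) (i - 1)).hom ∘ₗ (R.d (i - 1) (i - 1 + 1)).hom) = _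
        rw [sub_add_cancel]
      rw [h3]
    have hzero : ∀ i, (i < a ∨ b < i + 1) → w i = 0 := by
      intro i hi
      have h0 : (H.hom (i + 1) i).hom ∘ₗ (R.d i (i + 1)).hom = 0 := by
        rw [← ModuleCat.hom_comp]
        rcases hi with hi | hi
        · rw [(hR i (Or.inl hi)).eq_of_src (R.d i (i + 1)) 0, zero_comp]
          rfl
        · rw [(hR (i + 1) (Or.inr hi)).eq_of_tgt (R.d i (i + 1)) 0, zero_comp]
          rfl
      show LinearMap.trace Λ (R.X i) _ = 0
      rw [h0, map_zero]
    have tele : ∀ n, a - 1 ≤ n →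
        ∑ i ∈ Finset.Icc a n, ((i.negOnePow : ℤˣ) : ℤ) • (w i + w (i - 1)) = ((n.negOnePow : ℤˣ) : ℤ) • w n := by
      intro n hn
      induction n, hn using Int.le_induction with
      | base => rw [Finset.Icc_eq_empty (by omega), Finset.sum_empty, hzero (a - 1) (Or.inl (by omega)), smul_zero]
      | succ n hn ih =>
        have e : Finset.Icc a (n + 1) = insert (n + 1) (Finset.Icc a n) := by
          ext i
          simp only [Finset.mem_insert, Finset.mem_Icc]
          omega
        rw [e, Finset.sum_insert (by simp), ih, Int.negOnePow_succ, add_sub_cancel_right, Units.val_neg, neg_smul,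
          neg_smul, smul_add]
        abel
    rw [← sub_eq_zero, ← Finset.sum_sub_distrib]
    simp only [← smul_sub, hw]
    by_cases hab : a - 1 ≤ b
    · rw [tele b hab, hzero b (Or.inr (by omega)), smul_zero]
    · rw [Finset.Icc_eq_empty (by omega), Finset.sum_empty]
  obtain ⟨p, hp⟩ := DRingLib.Q_map_surjective P Q α.hom
  obtain ⟨q, hq⟩ := DRingLib.Q_map_surjective Q P α.inv
  rw [key P hP hPf f (f ≫ p ≫ q) (by simp [hp, hq]),
    ← key Q hQ hQf (q ≫ f ≫ p) g (by
      rw [Functor.map_comp, Functor.map_comp, hp, hq, ← h, Iso.inv_hom_id_assoc])]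
  refine Finset.sum_congr rfl fun i _ => congrArg _ ?_
  simp only [HomologicalComplex.comp_f, ModuleCat.hom_comp]
  rw [LinearMap.comp_assoc (f.f i).hom, LinearMap.trace_comp_comm' ((p.f i).hom ∘ₗ (f.f i).hom) (q.f i).hom]

end Groth.Agent.S1876
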