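import Groth.Statements.S18761
import Groth.Agent.CurveFF.GenusOneCover
import Groth.Agent.CurveLib.SmulPow
import Groth.Agent.GenSubLib.AlgClosed
import Groth.Agent.SubgSpecLib.Ext
import Groth.Agent.AffSpecLib.Trans
import Groth.Agent.FixedSmooth.Split

set_option autoImplicit false
set_option backward.isDefEq.respectTransparency false
set_option backward.isDefEq.respectTransparency.types false
set_option linter.style.haveILetI false

universe u
open CategoryTheory MonoidalCategory CartesianMonoidalCategory MonObj GrpObj AlgebraicGeometry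

namespace Groth.Agent.S18761

open CategoryTheory.Limits Groth.Agent

noncomputable section

theorem mul_adj_symm {S S' : Scheme.{u}} (w : S' ⟶ S) (G : Over S) [GrpObj G] {T : Over S'}
    (a b : T ⟶ Red.bc w G) :
    ((Over.mapPullbackAdj w).homEquiv T G).symm (a * b) =
      ((Over.mapPullbackAdj w).homEquiv T G).symm a * ((Over.mapPullbackAdj w).homEquiv T G).symm b := by
  let adj := Over.mapPullbackAdj w
  show (adj.homEquiv T G).symm (a * b) = (adj.homEquiv T G).symm a * (adj.homEquiv T G).symm b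
  rw [Equiv.symm_apply_eq]
  conv_lhs => rw [← Equiv.apply_symm_apply (adj.homEquiv T G) a, ← Equiv.apply_symm_apply (adj.homEquiv T G) b]
  rw [Adjunction.homEquiv_unit, Adjunction.homEquiv_unit, Adjunction.homEquiv_unit, Functor.map_mul, MonObj.comp_mul]

/-- The fibre at a section of a base change is the group itself. -/
theorem exists_section_pullback {S : Scheme.{u}} {T₀ : Scheme.{u}} (p : S ⟶ T₀) (s : T₀ ⟶ S) (hs : s ≫ p = 𝟙 T₀)
    (G : Over T₀) [GrpObj G] :
    ∃ δ : Red.bc s (Red.bc p G) ⟶ G, IsMonHom δ ∧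
      δ.left = pullback.fst (pullback.snd G.hom p) s ≫ pullback.fst G.hom p := by
  let mi : ∀ X : Over T₀, X ⟶ (Over.map p).obj ((Over.map s).obj X) := fun X =>
    Over.homMk (𝟙 X.left) (by
      show 𝟙 X.left ≫ (X.hom ≫ s) ≫ p = X.hom
      rw [Category.id_comp, Category.assoc, hs, Category.comp_id])
  let A₁ := Over.mapPullbackAdj s
  let A₂ := Over.mapPullbackAdj p
  let δ : Red.bc s (Red.bc p G) ⟶ G :=
    mi _ ≫ (A₂.homEquiv _ G).symm ((A₁.homEquiv _ (Red.bc p G)).symm (𝟙 _))
  have hδ : δ.left = pullback.fst (pullback.snd G.hom p) s ≫ pullback.fst G.hom p := by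
    simp [δ, mi, A₁, A₂, Adjunction.homEquiv_counit]
  have hpts : ∀ {T : Over T₀} (a : T ⟶ Red.bc s (Red.bc p G)),
      a ≫ δ = mi T ≫ (A₂.homEquiv _ G).symm ((A₁.homEquiv _ (Red.bc p G)).symm a) := fun {T} a => by
    ext1
    rw [Over.comp_left, hδ]
    simp [mi, A₁, A₂, Adjunction.homEquiv_counit]
  refine ⟨δ, SubgSpecLib.isMonHom_of_points δ fun {T} a b => ?_, hδ⟩
  rw [hpts, hpts, hpts, mul_adj_symm, mul_adj_symm, MonObj.comp_mul]

theorem isMonHom_of_comp_mono {C : Type*} [Category C] [CartesianMonoidalCategory C] {A B D : C} [GrpObj A] [GrpObj B]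
    [GrpObj D] (f : A ⟶ B) (j : B ⟶ D) [Mono j] [IsMonHom j] (g : A ⟶ D) [IsMonHom g] (h : f ≫ j = g) : IsMonHom f :=
  SubgSpecLib.isMonHom_of_points f fun a b => by
    rw [← cancel_mono j, Category.assoc, h, MonObj.mul_comp, MonObj.mul_comp, Category.assoc, Category.assoc, h]

/-- Sections of a fibre product over an affine open of one factor. -/
theorem exists_sum_app {X Y Z P : Scheme.{u}} {fst : P ⟶ X} {snd : P ⟶ Y} {f : X ⟶ Z} {g : Y ⟶ Z}
    (h : IsPullback fst snd f g) [IsAffine X] [IsAffine Z] [IsAffineHom snd] {V : Y.Opens} (hV : IsAffineOpen V)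
    (x : Γ(P, snd ⁻¹ᵁ V)) :
    ∃ (n : ℕ) (a : Fin n → Γ(X, ⊤)) (b : Fin n → Γ(Y, V)),
      x = ∑ i, P.presheaf.map (homOfLE (le_top : snd ⁻¹ᵁ V ≤ ⊤)).op (fst.appTop (a i)) * snd.app V (b i) := by
  have h' : IsPullback ((snd ⁻¹ᵁ V).ι ≫ fst) (snd ∣_ V) f (V.ι ≫ g) :=
    (isPullback_morphismRestrict snd V).flip.paste_horiz h
  haveI : IsAffine (V : Scheme.{u}) := hV
  haveI : IsAffine (snd ⁻¹ᵁ V : Scheme.{u}) := hV.preimage snd
  obtain ⟨n, a, b, hx⟩ := AffSpecLib.exists_sum_of_isPushout (isPushout_appTop_of_isPullback h')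
    ((snd ⁻¹ᵁ V).topIso.inv x)
  refine ⟨n, a, fun i => V.topIso.hom (b i), ?_⟩
  have hx' := congrArg (snd ⁻¹ᵁ V).topIso.hom hx
  rw [Iso.inv_hom_id_apply, map_sum] at hx'
  rw [hx']
  refine Finset.sum_congr rfl fun i _ => ?_
  rw [map_mul]
  have e1 : ((snd ⁻¹ᵁ V).ι ≫ fst).appTop ≫ (snd ⁻¹ᵁ V).topIso.hom =
      fst.appTop ≫ P.presheaf.map (homOfLE (le_top : snd ⁻¹ᵁ V ≤ ⊤)).op := by
    rw [Scheme.Hom.comp_appTop, Category.assoc, Scheme.Opens.ι_appTop, Scheme.Opens.topIso_hom, ← Functor.map_comp]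
    rfl
  have e2 : (snd ∣_ V).appTop ≫ (snd ⁻¹ᵁ V).topIso.hom = V.topIso.hom ≫ snd.app V := by
    simp [Scheme.Opens.topIso_hom, morphismRestrict_appTop, Scheme.Hom.app_eq_appLE, Scheme.Hom.appLE_map,
      Scheme.Hom.map_appLE]
  exact congrArg₂ (· * ·) (ConcreteCategory.congr_hom e1 (a i)) (ConcreteCategory.congr_hom e2 (b i))

/-- Near any point, a finite map with direct image of rank `m` has free sections of rank `m`. -/
theorem exists_free_sections {X Y : Scheme.{u}} (f : X ⟶ Y) {m : ℕ}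
    (h : FlatMod.IsFinLocFreeOfRank m ((Scheme.Modules.pushforward f).obj (Coh.structureModule X))) (y : Y) :
    ∃ V : Y.Opens, IsAffineOpen V ∧ y ∈ V ∧ ∃ e : Γ(X, f ⁻¹ᵁ V) ≃+ (Fin m → Γ(Y, V)),
      ∀ (r : Γ(Y, V)) (x : Γ(X, f ⁻¹ᵁ V)), e (f.app V r * x) = r • e x := by
  let P := (Scheme.Modules.pushforward f).obj (Coh.structureModule X)
  haveI := (PullbackMod.isQCoh_and_isFP_of_isFinLocFree P fun y => by
    obtain ⟨V, hy, he⟩ := h y
    exact ⟨V, m, hy, he⟩).1
  obtain ⟨V, hV, hη, ⟨i⟩⟩ := CurveFF.exists_tilde_iso_rank P h y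
  let eΓ := (moduleSpecΓFunctor (R := Γ(Y, V))).mapIso i ≪≫ ((tilde.toTildeΓNatIso (R := Γ(Y, V))).app _).symm
  let e' : Γ(P, V) ≃ₗ[Γ(Y, V)] (Fin m → Γ(Y, V)) :=
    ((QCohLib.topEquiv P hV).symm.trans eΓ.toLinearEquiv).trans
      ((Finsupp.linearEquivFunOnFinite _ _ _).trans
        (LinearEquiv.funCongrLeft _ _ (Equiv.ulift.{u, 0} (α := Fin m)).symm))
  exact ⟨V, hV, hη, e'.toAddEquiv, fun r x => e'.map_smul r x⟩

/-- The core: a closed subscheme of a constant finite family, free of rank `m` with at most `m` sections, is constant. -/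
theorem core {k : Type u} [Field k] {S X : Scheme.{u}} (p : S ⟶ Spec (CommRingCat.of k))
    (B : Type u) [CommRing B] [Algebra k B] [Module.Finite k B] (hS : Nonempty S)
    (ψ : X ⟶ pullback (Spec.map (CommRingCat.ofHom (algebraMap k B))) p) [IsClosedImmersion ψ] (m : ℕ)
    (hd : Module.finrank k B ≤ m)
    (hE : FlatMod.IsFinLocFreeOfRank m
      ((Scheme.Modules.pushforward (ψ ≫ pullback.snd _ _)).obj (Coh.structureModule X))) :
    IsIso ψ ∧ Module.finrank k B = m := by
  classical
  let P := pullback (Spec.map (CommRingCat.ofHom (algebraMap k B))) p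
  let fst : P ⟶ Spec (CommRingCat.of B) := pullback.fst _ _
  let snd : P ⟶ S := pullback.snd _ _
  haveI : IsAffineHom snd :=
    MorphismProperty.pullback_snd _ _ (inferInstanceAs (IsAffineHom (Spec.map (CommRingCat.ofHom (algebraMap k B)))))
  have key : ∀ y : S, ∃ V : S.Opens, IsAffineOpen V ∧ y ∈ V ∧ Function.Bijective (ψ.app (snd ⁻¹ᵁ V)) ∧
      m ≤ Module.finrank k B := by
    intro y
    obtain ⟨V, hV, hy, e, he⟩ := exists_free_sections (ψ ≫ snd) hE y
    have hW : IsAffineOpen (snd ⁻¹ᵁ V) := hV.preimage snd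
    have hsurj : Function.Surjective (ψ.app (snd ⁻¹ᵁ V)) := ψ.app_surjective _ hW
    let b := Module.finBasis k B
    let res : Γ(P, ⊤) → Γ(P, snd ⁻¹ᵁ V) := P.presheaf.map (homOfLE (le_top : snd ⁻¹ᵁ V ≤ ⊤)).op
    let ιB : B →+* Γ(P, snd ⁻¹ᵁ V) := (P.presheaf.map (homOfLE (le_top : snd ⁻¹ᵁ V ≤ ⊤)).op).hom.comp
      (fst.appTop.hom.comp (Scheme.ΓSpecIso (CommRingCat.of B)).inv.hom)
    let c : k →+* Γ(S, V) := (S.presheaf.map (homOfLE (le_top : V ≤ ⊤)).op).hom.comp
      (p.appTop.hom.comp (Scheme.ΓSpecIso (CommRingCat.of k)).inv.hom)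
    have hc : ∀ z : k, ιB (algebraMap k B z) = snd.app V (c z) := by
      intro z
      have h1 : (Scheme.ΓSpecIso (CommRingCat.of B)).inv (algebraMap k B z) =
          (Spec.map (CommRingCat.ofHom (algebraMap k B))).appTop ((Scheme.ΓSpecIso (CommRingCat.of k)).inv z) :=
        ConcreteCategory.congr_hom (Scheme.ΓSpecIso_inv_naturality (CommRingCat.ofHom (algebraMap k B))) z
      have h2 : fst.appTop ((Spec.map (CommRingCat.ofHom (algebraMap k B))).appTop ((Scheme.ΓSpecIso (CommRingCat.of k)).inv z)) =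
          snd.appTop (p.appTop ((Scheme.ΓSpecIso (CommRingCat.of k)).inv z)) := by
        exact ConcreteCategory.congr_hom (show (Spec.map (CommRingCat.ofHom (algebraMap k B))).appTop ≫ fst.appTop =
          p.appTop ≫ snd.appTop by rw [← Scheme.Hom.comp_appTop, ← Scheme.Hom.comp_appTop, pullback.condition]) _
      show res (fst.appTop ((Scheme.ΓSpecIso (CommRingCat.of B)).inv (algebraMap k B z))) = _
      rw [h1, h2]
      exact (ConcreteCategory.congr_hom (snd.naturality (homOfLE (le_top : V ≤ ⊤)).op) _).symm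
    let Φ : (Fin (Module.finrank k B) → Γ(S, V)) → Γ(P, snd ⁻¹ᵁ V) := fun v => ∑ l, ιB (b l) * snd.app V (v l)
    have hΦ : Function.Surjective Φ := by
      intro x
      obtain ⟨n, a, w, hx⟩ := exists_sum_app (IsPullback.of_hasPullback (Spec.map (CommRingCat.ofHom (algebraMap k B))) p) hV x
      refine ⟨fun l => ∑ i, c (b.repr ((Scheme.ΓSpecIso (CommRingCat.of B)).hom (a i)) l) * w i, ?_⟩
      rw [hx]
      simp only [Φ, map_sum, map_mul, Finset.mul_sum]
      rw [Finset.sum_comm]
      refine Finset.sum_congr rfl fun i _ => ?_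
      have ha : a i = (Scheme.ΓSpecIso (CommRingCat.of B)).inv ((Scheme.ΓSpecIso (CommRingCat.of B)).hom (a i)) :=
        (Iso.hom_inv_id_apply _ _).symm
      conv_rhs => rw [ha]
      show _ = ιB ((Scheme.ΓSpecIso (CommRingCat.of B)).hom (a i)) * snd.app V (w i)
      conv_rhs => rw [← b.sum_repr ((Scheme.ΓSpecIso (CommRingCat.of B)).hom (a i))]
      rw [map_sum, Finset.sum_mul]
      refine Finset.sum_congr rfl fun l _ => ?_
      rw [Algebra.smul_def, map_mul, hc]
      ring
    let Ψ : (Fin (Module.finrank k B) → Γ(S, V)) →ₗ[Γ(S, V)] (Fin m → Γ(S, V)) :=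
      { toFun := fun v => e (ψ.app (snd ⁻¹ᵁ V) (Φ v))
        map_add' := fun v w => by
          rw [show Φ (v + w) = Φ v + Φ w by simp [Φ, mul_add, Finset.sum_add_distrib], map_add, map_add]
        map_smul' := fun r v => by
          rw [show Φ (r • v) = snd.app V r * Φ v by
            simp only [Φ, Pi.smul_apply, smul_eq_mul, map_mul, Finset.mul_sum]
            exact Finset.sum_congr rfl fun l _ => mul_left_comm _ _ _, map_mul]
          exact he r _ }
    have hΨ : Function.Surjective Ψ := e.surjective.comp (hsurj.comp hΦ)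
    haveI : Nonempty V := ⟨⟨y, hy⟩⟩
    haveI : Nontrivial Γ(S, V) := inferInstance
    have hm : m ≤ Module.finrank k B := le_of_fin_surjective _ Ψ hΨ
    refine ⟨V, hV, hy, ⟨?_, hsurj⟩, hm⟩
    obtain h0 := le_antisymm hd hm
    have hinj : Function.Injective Ψ := by
      let π := LinearEquiv.funCongrLeft Γ(S, V) Γ(S, V) (finCongr h0)
      have : Function.Injective (Ψ.comp π.toLinearMap) :=
        OrzechProperty.injective_of_surjective_endomorphism _ (hΨ.comp π.surjective)
      intro v w hvw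
      obtain ⟨v', rfl⟩ := π.surjective v
      obtain ⟨w', rfl⟩ := π.surjective w
      rw [this hvw]
    intro x x' hxx
    obtain ⟨v, rfl⟩ := hΦ x
    obtain ⟨v', rfl⟩ := hΦ x'
    rw [hinj (show Ψ v = Ψ v' from congrArg e hxx)]
  choose V hV hy hbij hm using key
  refine ⟨?_, le_antisymm hd (hm hS.some)⟩
  have hcov : (⨆ y, snd ⁻¹ᵁ V y) = ⊤ := eq_top_iff.2 fun z _ => TopologicalSpace.Opens.mem_iSup.2 ⟨snd z, hy (snd z)⟩
  refine (IsZariskiLocalAtTarget.iff_of_iSup_eq_top (P := MorphismProperty.isomorphisms Scheme.{u}) _ hcov).2 fun y => ?_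
  show IsIso (ψ ∣_ (snd ⁻¹ᵁ V y))
  rw [isIso_morphismRestrict_iff_isIso_app _ ((hV y).preimage snd)]
  exact (ConcreteCategory.isIso_iff_bijective _).2 (hbij y)

end

/-- Let k be an algebraically closed field, S a smooth, proper and integral curve over k (integral,
smooth and proper over k of dimension one), G a finite group scheme over k, and H a closed subgroup
scheme of the base change G_S = G ×_k S whose structure morphism H → S is faithfully flat, such that
the direct image of O_H on S is locally free of rank m and its space of global sections, that is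
Γ(H, O_H), has dimension exactly m over k. Then H descends to k: there are a group scheme H' over k,
a homomorphism H' → G which is a closed immersion, and an isomorphism of S-group schemes H ≅ H' ×_k
S carrying the inclusion of H into G_S to the base change of H' → G; moreover the induced ring map
Γ(H', O) → Γ(H, O_H) is bijective, so that H' is the spectrum of Γ(H, O_H). -/
theorem result
    (k : Type u) [Field k] [IsAlgClosed k] (S : Scheme.{u}) [S.Over (Spec (CommRingCat.of k))]
    [IsIntegral S] [IsProper (S ↘ Spec (CommRingCat.of k))] [Smooth (S ↘ Spec (CommRingCat.of k))]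
    (hdim : topologicalKrullDim S = 1)
    (G : Over (Spec (CommRingCat.of k))) [GrpObj G] [IsFinite G.hom]
    (H : Over S) [GrpObj H] (i : H ⟶ Red.bc (S ↘ Spec (CommRingCat.of k)) G) [IsMonHom i]
    [IsClosedImmersion i.left] [Flat H.hom] [Surjective H.hom] (m : ℕ)
    (hE : FlatMod.IsFinLocFreeOfRank m ((Coh.push H.hom).obj (Coh.structureModule H.left)))
    (hh0 : Module.finrank k (Coh.HH S ((Coh.push H.hom).obj (Coh.structureModule H.left)) 0) = m) :
    ∃ (H' : Grp (Over (Spec (CommRingCat.of k)))) (j : H'.X ⟶ G), IsMonHom j ∧ IsClosedImmersion j.left ∧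
      ∃ e : H ≅ Red.bc (S ↘ Spec (CommRingCat.of k)) H'.X, IsMonHom e.hom ∧
        e.hom ≫ (Over.pullback (S ↘ Spec (CommRingCat.of k))).map j = i ∧
        Function.Bijective (e.hom.left ≫ Limits.pullback.fst H'.X.hom (S ↘ Spec (CommRingCat.of k))).appTop.hom := by
  classical
  let p := S ↘ Spec (CommRingCat.of k)
  haveI : IsAffine G.left := isAffine_of_isAffineHom G.hom
  -- global functions on H, of dimension m
  letI algH : Algebra k Γ(H.left, ⊤) :=
    (H.hom.appTop.hom.comp (Coh.toGlobal p)).toAlgebra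
  have hmpos : 0 < m := by
    refine Nat.pos_of_ne_zero fun h0 => ?_
    obtain ⟨V, -, hy, e, -⟩ := exists_free_sections H.hom hE (genericPoint S)
    subst h0
    obtain ⟨x, hx⟩ := H.hom.surjective (genericPoint S)
    haveI : Nonempty (H.hom ⁻¹ᵁ V) := ⟨⟨x, show H.hom x ∈ V by rw [hx]; exact hy⟩⟩
    exact zero_ne_one (α := Γ(H.left, H.hom ⁻¹ᵁ V)) (e.injective (Subsingleton.elim _ _))
  have hrkH : Module.finrank k Γ(H.left, ⊤) = m := by
    let E := (Coh.push H.hom).obj (Coh.structureModule H.left)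
    let eE : Coh.HH S E 0 ≃+ Γ(H.left, ⊤) := CurveLib.secOf E
    let el : Coh.HH S E 0 ≃ₗ[k] Γ(H.left, ⊤) :=
      { eE with map_smul' := fun r c => (CurveLib.secOf_smul (k := k) E r c).trans rfl }
    rw [← el.finrank_eq]
    exact hh0
  haveI : Module.Finite k Γ(H.left, ⊤) := Module.finite_of_finrank_pos (hrkH.symm ▸ hmpos)
  letI algG : Algebra k Γ(G.left, ⊤) := (G.hom.appTop.hom.comp (Scheme.ΓSpecIso (CommRingCat.of k)).inv.hom).toAlgebra
  let q : H.left ⟶ G.left := i.left ≫ pullback.fst G.hom p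
  have hq : q ≫ G.hom = H.hom ≫ p := by
    show (i.left ≫ pullback.fst G.hom p) ≫ G.hom = H.hom ≫ p
    rw [Category.assoc, pullback.condition, ← Category.assoc]
    exact congrArg (· ≫ p) (Over.w i)
  let φ : Γ(G.left, ⊤) →ₐ[k] Γ(H.left, ⊤) :=
    { q.appTop.hom with
      commutes' := fun r => ConcreteCategory.congr_hom
        (show G.hom.appTop ≫ q.appTop = p.appTop ≫ H.hom.appTop by
          rw [← Scheme.Hom.comp_appTop, ← Scheme.Hom.comp_appTop, hq]) _ }
  let B : Subalgebra k Γ(H.left, ⊤) := φ.range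
  let fB : Spec (CommRingCat.of B) ⟶ Spec (CommRingCat.of k) := Spec.map (CommRingCat.ofHom (algebraMap k B))
  let H'' : Over (Spec (CommRingCat.of k)) := Over.mk fB
  let ιl : Spec (CommRingCat.of B) ⟶ G.left := Spec.map (CommRingCat.ofHom φ.rangeRestrict.toRingHom) ≫ G.left.isoSpec.inv
  haveI : IsClosedImmersion ιl := by
    haveI : IsClosedImmersion (Spec.map (CommRingCat.ofHom φ.rangeRestrict.toRingHom)) :=
      IsClosedImmersion.spec_of_surjective _ φ.rangeRestrict_surjective
    infer_instance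
  have hιl : ιl ≫ G.hom = fB := by
    rw [Category.assoc, show G.left.isoSpec.inv ≫ G.hom = Spec.map ((Scheme.ΓSpecIso (CommRingCat.of k)).inv ≫ G.hom.appTop) from ?_,
      ← Spec.map_comp]
    · congr 1
      ext r
      exact congrArg Subtype.val (φ.rangeRestrict.commutes r)
    · rw [Iso.inv_comp_eq, Spec.map_comp, Scheme.isoSpec_hom_naturality_assoc, Scheme.isoSpec_Spec_hom, ← Spec.map_comp,
        Iso.inv_hom_id, Spec.map_id, Category.comp_id]
  let ιH : H'' ⟶ G := Over.homMk ιl hιl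
  let r₀ : H.left ⟶ Spec (CommRingCat.of B) := H.left.toSpecΓ ≫ Spec.map (CommRingCat.ofHom B.val.toRingHom)
  have hr₀ : r₀ ≫ ιl = q := by
    show (H.left.toSpecΓ ≫ Spec.map _) ≫ Spec.map _ ≫ G.left.isoSpec.inv = q
    rw [Category.assoc, ← Spec.map_comp_assoc]
    rw [show CommRingCat.ofHom φ.rangeRestrict.toRingHom ≫ CommRingCat.ofHom B.val.toRingHom = q.appTop from rfl,
      ← Scheme.toSpecΓ_naturality_assoc]
    simp [Scheme.isoSpec]
  have hw₀ : r₀ ≫ fB = H.hom ≫ p := by
    rw [← hιl, ← Category.assoc, hr₀, hq]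
  let ψ : H.left ⟶ pullback fB p := pullback.lift r₀ H.hom hw₀
  let ψo : H ⟶ Red.bc p H'' := Over.homMk ψ (pullback.lift_snd _ _ _)
  have hψi : ψo ≫ (Over.pullback p).map ιH = i := by
    ext1
    refine pullback.hom_ext ?_ ?_
    · simp [ψo, ψ, ιH]
      exact (pullback.lift_fst_assoc _ _ _ _).trans hr₀
    · simp [ψo, ψ, ιH]
      exact (pullback.lift_snd _ _ _).trans (Over.w i).symm
  haveI : IsClosedImmersion ψ := by
    haveI : IsClosedImmersion (ψ ≫ ((Over.pullback p).map ιH).left) := by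
      rw [show ψ ≫ ((Over.pullback p).map ιH).left = i.left from congrArg CommaMorphism.left hψi]
      infer_instance
    haveI : IsClosedImmersion ((Over.pullback p).map ιH).left :=
      MorphismProperty.of_isPullback (P := @IsClosedImmersion) (FixedSmooth.isPullback_bc p ιH) ‹IsClosedImmersion ιl›
    exact IsClosedImmersion.of_comp ψ ((Over.pullback p).map ιH).left
  have hB : Module.finrank k B ≤ m := hrkH ▸ Submodule.finrank_le B.toSubmodule
  obtain ⟨hiso, hrk⟩ := core p B ⟨genericPoint S⟩ ψ m hB (by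
    rw [show ψ ≫ pullback.snd fB p = H.hom from pullback.lift_snd _ _ _]
    exact hE)
  have hBtop : B = ⊤ := Subalgebra.toSubmodule_injective
    ((Submodule.eq_top_of_finrank_eq (show Module.finrank k B.toSubmodule = _ from hrk.trans hrkH.symm)).trans
      Algebra.top_toSubmodule.symm)
  have hψiso : IsIso ψ := hiso
  haveI : IsIso ψo.left := hψiso
  haveI : IsIso ((Over.forget S).map ψo) := hψiso
  haveI : IsIso ψo := isIso_of_reflects_iso ψo (Over.forget _)
  -- a rational point of S
  haveI : JacobsonSpace S := LocallyOfFiniteType.jacobsonSpace p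
  obtain ⟨z, -, hz⟩ := nonempty_inter_closedPoints (Z := (Set.univ : Set S)) ⟨genericPoint S, trivial⟩ isClosed_univ.isLocallyClosed
  haveI : LocallyOfFiniteType (Over.mk p).hom := inferInstanceAs (LocallyOfFiniteType p)
  obtain ⟨sp, -⟩ := GenSubLib.exists_pt (P := Over.mk p) hz
  let s : Spec (CommRingCat.of k) ⟶ S := sp.left
  have hs : s ≫ p = 𝟙 _ := Over.w sp
  let H' : Over (Spec (CommRingCat.of k)) := (Over.pullback s).obj H
  have hr₀pb : IsPullback r₀ H.hom fB p :=
    IsPullback.of_iso_pullback ⟨hw₀⟩ (asIso ψ) (pullback.lift_fst _ _ _) (pullback.lift_snd _ _ _)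
  have hpb : IsPullback (pullback.fst H.hom s ≫ r₀) (pullback.snd H.hom s) fB (s ≫ p) :=
    (IsPullback.of_hasPullback H.hom s).paste_horiz hr₀pb
  haveI : IsIso (s ≫ p) := by rw [hs]; infer_instance
  let r' : H' ⟶ H'' := Over.homMk (pullback.fst H.hom s ≫ r₀) (by
    show (pullback.fst H.hom s ≫ r₀) ≫ fB = pullback.snd H.hom s
    rw [hpb.w, hs, Category.comp_id])
  haveI : IsIso r'.left := hpb.isIso_fst_of_isIso
  haveI : IsIso ((Over.forget _).map r') := ‹IsIso r'.left›
  haveI : IsIso r' := isIso_of_reflects_iso r' (Over.forget _)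
  let j : H' ⟶ G := r' ≫ ιH
  obtain ⟨δ, hδ, hδl⟩ := exists_section_pullback p s hs G
  have hj : (Over.pullback s).map i ≫ δ = j := by
    ext1
    show ((Over.pullback s).map i).left ≫ δ.left = (pullback.fst H.hom s ≫ r₀) ≫ ιl
    rw [hδl, Category.assoc, hr₀]
    simp [q]
    exact (pullback.lift_fst_assoc _ _ _ _).trans (Category.assoc _ _ _)
  haveI := hδ
  haveI hjm : IsMonHom j := hj ▸ inferInstanceAs (IsMonHom ((Over.pullback s).map i ≫ δ))
  haveI hjc : IsClosedImmersion j.left := inferInstanceAs (IsClosedImmersion (r'.left ≫ ιl))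
  refine ⟨⟨H'⟩, j, hjm, hjc, asIso ψo ≪≫ (Over.pullback p).mapIso (asIso r').symm, ?_⟩
  have he : (asIso ψo ≪≫ (Over.pullback p).mapIso (asIso r').symm).hom ≫ (Over.pullback p).map j = i := by
    simp only [Iso.trans_hom, Functor.mapIso_hom, Iso.symm_hom, asIso_inv, asIso_hom, Category.assoc, j,
      ← Functor.map_comp, IsIso.inv_hom_id_assoc]
    exact hψi
  haveI : IsClosedImmersion ((Over.pullback p).map j).left :=
    MorphismProperty.of_isPullback (P := @IsClosedImmersion) (FixedSmooth.isPullback_bc p j) hjc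
  haveI : Mono ((Over.pullback p).map j) := Over.mono_of_mono_left _
  refine ⟨isMonHom_of_comp_mono _ ((Over.pullback p).map j) i he, he, ?_⟩
  have hl : (asIso ψo ≪≫ (Over.pullback p).mapIso (asIso r').symm).hom.left ≫ pullback.fst H'.hom p =
      r₀ ≫ (inv r').left := by
    simp only [Iso.trans_hom, Functor.mapIso_hom, Iso.symm_hom, asIso_inv, asIso_hom, Over.comp_left, Category.assoc]
    show ψ ≫ pullback.lift (pullback.fst fB p ≫ (inv r').left) (pullback.snd fB p) _ ≫ pullback.fst H'.hom p = _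
    rw [pullback.lift_fst, ← Category.assoc, pullback.lift_fst]
  show Function.Bijective ((asIso ψo ≪≫ (Over.pullback p).mapIso (asIso r').symm).hom.left ≫ pullback.fst H'.hom p).appTop
  rw [hl, Scheme.Hom.comp_appTop]
  have h1 : Function.Bijective (inv r').left.appTop :=
    (ConcreteCategory.isIso_iff_bijective _).1 inferInstance
  have h2 : r₀.appTop = (Scheme.ΓSpecIso (CommRingCat.of B)).hom ≫ CommRingCat.ofHom B.val.toRingHom := by
    rw [Scheme.Hom.comp_appTop, Scheme.toSpecΓ_appTop, Scheme.ΓSpecIso_naturality]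
  rw [h2]
  refine (Function.Bijective.comp (⟨Subtype.val_injective, fun x => ?_⟩ : Function.Bijective (B.val : B → Γ(H.left, ⊤)))
    (ConcreteCategory.bijective_of_isIso (Scheme.ΓSpecIso (CommRingCat.of B)).hom)).comp h1
  exact ⟨⟨x, hBtop ▸ Algebra.mem_top⟩, rfl⟩

end Groth.Agent.S18761
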