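import Groth.Statements.S18762
import Groth.Agent.PrincBundLib.Descent
-- import your own Groth.Agent.* helpers here

set_option autoImplicit false
set_option backward.isDefEq.respectTransparency false
set_option maxHeartbeats 800000
set_option synthInstance.maxHeartbeats 200000
universe u
open CategoryTheory CategoryTheory.Limits MonoidalCategory CartesianMonoidalCategory MonObj GrpObj AlgebraicGeometry
open NonAbH1

namespace Groth.Agent.S18762

open scoped MonObj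
open MonoidalCategory CartesianMonoidalCategory in
lemma adj_mul {S S' : Scheme.{u}} (f : S' ⟶ S) {H : Over S} [GrpObj H] {T : Over S'} (g g' : T ⟶ Red.bc f H) :
    ((Over.mapPullbackAdj f).homEquiv T H).symm (g * g') =
      ((Over.mapPullbackAdj f).homEquiv T H).symm g * ((Over.mapPullbackAdj f).homEquiv T H).symm g' := by
  rw [Hom.mul_def, Hom.mul_def]
  change ((Over.mapPullbackAdj f).homEquiv T H).symm
    (lift g g' ≫ Functor.LaxMonoidal.μ (Over.pullback f) H H ≫ (Over.pullback f).map μ) = _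
  rw [← Category.assoc, Adjunction.homEquiv_naturality_right_symm]
  congr 1
  apply CartesianMonoidalCategory.hom_ext
  · rw [lift_fst, ← Adjunction.homEquiv_naturality_right_symm, Category.assoc, Functor.Monoidal.μ_fst, lift_fst]
  · rw [lift_snd, ← Adjunction.homEquiv_naturality_right_symm, Category.assoc, Functor.Monoidal.μ_snd, lift_snd]

open MonoidalCategory CartesianMonoidalCategory in
lemma restrict_smul {S : Scheme.{u}} {H G X Y : Over S} [GrpObj H] [GrpObj G] (φ : H ⟶ G) [IsMonHom φ]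
    (b : AlgGrp.Action H X) (a : AlgGrp.Action G Y) {f : X ⟶ Y}
    (hf : AlgGrp.Action.IsEquivariant b (a.restrict φ) f) {T : Over S} (g : T ⟶ H) (x : T ⟶ X) :
    (lift g x ≫ b.act) ≫ f = lift (g ≫ φ) (x ≫ f) ≫ a.act := by
  rw [Category.assoc, hf, lift_whiskerLeft_assoc]
  change lift g (x ≫ f) ≫ (φ ▷ _) ≫ a.act = _
  rw [lift_whiskerRight_assoc]

open MonoidalCategory CartesianMonoidalCategory in
lemma pseudo_unique {S : Scheme.{u}} {G X : Over S} [GrpObj G] {a : AlgGrp.Action G X}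
    (ha : NonAbH1.IsPseudoTorsorSch a) {T : Over S} (x y : T ⟶ X) : ∃! g : T ⟶ G, lift g y ≫ a.act = x :=
  (Groth.Agent.PrincBundLib.isIso_lift_snd_iff a.act).mp ha T x y

open MonoidalCategory CartesianMonoidalCategory in
lemma surjective_aux {X S : Scheme.{u}} (s : X ⟶ S) [ConnectedSpace X]
    (G G₁ G₂ : Over S) [GrpObj G] [GrpObj G₁] [GrpObj G₂] [DiscreteTopology ↥G.left]
    (φ₁ : G₁ ⟶ G) (φ₂ : G₂ ⟶ G) [IsMonHom φ₁] [IsMonHom φ₂] (T T₁ T₂ : Over X)
    (a : AlgGrp.Action (Red.bc s G) T) (a₁ : AlgGrp.Action (Red.bc s G₁) T₁) (a₂ : AlgGrp.Action (Red.bc s G₂) T₂)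
    (hT : NonAbH1.IsPseudoTorsorSch a)
    (hT₁ : NonAbH1.IsTorsorFor Scheme.fppfPrecoverage a₁) (hT₂ : NonAbH1.IsTorsorFor Scheme.fppfPrecoverage a₂)
    (f₁ : T₁ ⟶ T) (f₂ : T₂ ⟶ T)
    (hf₁ : AlgGrp.Action.IsEquivariant a₁ (a.restrict ((Over.pullback s).map φ₁)) f₁)
    (hf₂ : AlgGrp.Action.IsEquivariant a₂ (a.restrict ((Over.pullback s).map φ₂)) f₂)
    (P : Over X) (p₁ : P ⟶ T₁) (p₂ : P ⟶ T₂) (hsq : IsPullback p₁ p₂ f₁ f₂)
    [hne : Nonempty ↥P.left] : Surjective P.hom := by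
  obtain ⟨R₁, hR₁, hs₁⟩ := hT₁.2
  obtain ⟨R₂, hR₂, hs₂⟩ := hT₂.2
  have key : ∀ x : X, ∃ (X' : Over X) (s₁ : X' ⟶ T₁) (s₂ : X' ⟶ T₂),
      Flat X'.hom ∧ LocallyOfFinitePresentation X'.hom ∧ x ∈ Set.range X'.hom := by
    intro x
    obtain ⟨I₁, W₁, c₁, rfl⟩ := Presieve.exists_eq_ofArrows R₁
    obtain ⟨I₂, W₂, c₂, rfl⟩ := Presieve.exists_eq_ofArrows R₂
    obtain ⟨h1, h1'⟩ := (Scheme.ofArrows_mem_precoverage_iff _).1 hR₁
    obtain ⟨h2, h2'⟩ := (Scheme.ofArrows_mem_precoverage_iff _).1 hR₂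
    obtain ⟨i, y, hy⟩ := h1 x
    obtain ⟨j, z, hz⟩ := h2 x
    obtain ⟨u, hu⟩ := hs₁ (c₁ i) (Presieve.ofArrows.mk i)
    obtain ⟨v, hv⟩ := hs₂ (c₂ j) (Presieve.ofArrows.mk j)
    haveI := (h1' i).1
    haveI := (h1' i).2
    haveI := (h2' j).1
    haveI := (h2' j).2
    obtain ⟨w, hw, -⟩ := Scheme.Pullback.exists_preimage_pullback (f := c₁ i) (g := c₂ j) y z (hy.trans hz.symm)
    refine ⟨Over.mk (pullback.fst (c₁ i) (c₂ j) ≫ c₁ i), Over.homMk (pullback.fst _ _ ≫ u) ?_,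
      Over.homMk (pullback.snd _ _ ≫ v) ?_, inferInstanceAs (Flat (pullback.fst (c₁ i) (c₂ j) ≫ c₁ i)),
      inferInstanceAs (LocallyOfFinitePresentation (pullback.fst (c₁ i) (c₂ j) ≫ c₁ i)), ⟨w, ?_⟩⟩
    · rw [Category.assoc, hu]; rfl
    · rw [Category.assoc, hv, ← pullback.condition]; rfl
    · change c₁ i (pullback.fst (c₁ i) (c₂ j) w) = x
      rw [hw, hy]
  have loc : ∀ (X' : Over X) (s₁ : X' ⟶ T₁) (s₂ : X' ⟶ T₂),
      IsClopen (X'.hom ⁻¹' Set.range P.hom) := by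
    intro X' s₁ s₂
    obtain ⟨c, hc, -⟩ := pseudo_unique hT (s₁ ≫ f₁) (s₂ ≫ f₂)
    let E := fun (W : Over X) (H : Over S) => ((Over.mapPullbackAdj s).homEquiv W H).symm
    let c' : (Over.map s).obj X' ⟶ G := E X' G c
    let m : G₁ ⊗ G₂ ⟶ G := (fst G₁ G₂ ≫ φ₁)⁻¹ * (snd G₁ G₂ ≫ φ₂)
    suffices h : X'.hom ⁻¹' Set.range P.hom = c'.left ⁻¹' Set.range m.left by
      rw [h]
      exact (isClopen_discrete _).preimage c'.left.continuous
    have hiff : ∀ (W : Over X) (w : W ⟶ X') (g₁ : W ⟶ Red.bc s G₁) (g₂ : W ⟶ Red.bc s G₂),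
        (lift g₁ (w ≫ s₁) ≫ a₁.act) ≫ f₁ = (lift g₂ (w ≫ s₂) ≫ a₂.act) ≫ f₂ ↔
          (Over.map s).map w ≫ c' = lift (E W G₁ g₁) (E W G₂ g₂) ≫ m := by
      intro W w g₁ g₂
      rw [restrict_smul _ _ _ hf₁, restrict_smul _ _ _ hf₂, Category.assoc, Category.assoc, ← hc,
        ← Category.assoc w, comp_lift, ← AlgGrp.Action.lift_mul_act]
      have e0 : (Over.map s).map w ≫ c' = E W G (w ≫ c) :=
        ((Over.mapPullbackAdj s).homEquiv_naturality_left_symm w c).symm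
      have e1 : lift (E W G₁ g₁) (E W G₂ g₂) ≫ m =
          (E W G (g₁ ≫ (Over.pullback s).map φ₁))⁻¹ * E W G (g₂ ≫ (Over.pullback s).map φ₂) := by
        simp only [m, MonObj.comp_mul, GrpObj.comp_inv, lift_fst_assoc, lift_snd_assoc, E,
          Adjunction.homEquiv_naturality_right_symm]
      rw [e0, e1, eq_inv_mul_iff_mul_eq]
      constructor
      · intro h
        have := (pseudo_unique hT _ (w ≫ s₂ ≫ f₂)).unique h rfl
        exact (adj_mul s _ _).symm.trans (congrArg (E W G) this)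
      · intro h
        have : g₁ ≫ (Over.pullback s).map φ₁ * (w ≫ c) = g₂ ≫ (Over.pullback s).map φ₂ :=
          ((Over.mapPullbackAdj s).homEquiv W G).symm.injective ((adj_mul s _ _).trans h)
        rw [this]
    ext x'
    constructor
    · rintro ⟨z, hz⟩
      obtain ⟨q, hq₁, hq₂⟩ := Scheme.Pullback.exists_preimage_pullback (f := P.hom) (g := X'.hom) z x' hz
      let W : Over X := Over.mk (pullback.fst P.hom X'.hom ≫ P.hom)
      let wz : W ⟶ P := Over.homMk (pullback.fst _ _) rfl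
      let w : W ⟶ X' := Over.homMk (pullback.snd _ _) pullback.condition.symm
      obtain ⟨g₁, hg₁, -⟩ := pseudo_unique hT₁.1 (wz ≫ p₁) (w ≫ s₁)
      obtain ⟨g₂, hg₂, -⟩ := pseudo_unique hT₂.1 (wz ≫ p₂) (w ≫ s₂)
      have e := (hiff W w g₁ g₂).1 (by rw [hg₁, hg₂, Category.assoc, Category.assoc, hsq.w])
      refine ⟨(lift (E W G₁ g₁) (E W G₂ g₂)).left q, ?_⟩
      have := congrArg (fun k : (Over.map s).obj W ⟶ G => k.left q) e
      simp only [Over.comp_left] at this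
      refine this.symm.trans ?_
      change c'.left (pullback.snd P.hom X'.hom q) = c'.left x'
      rw [hq₂]
    · rintro ⟨y, hy⟩
      obtain ⟨q, hq₁, hq₂⟩ := Scheme.Pullback.exists_preimage_pullback (f := m.left) (g := c'.left) y x' hy
      let W : Over X := Over.mk (pullback.snd m.left c'.left ≫ X'.hom)
      let w : W ⟶ X' := Over.homMk (pullback.snd _ _) rfl
      let gg : (Over.map s).obj W ⟶ G₁ ⊗ G₂ := Over.homMk (pullback.fst m.left c'.left) (by
        rw [← Over.w m, ← Category.assoc, pullback.condition, Category.assoc, Over.w c']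
        exact (Category.assoc _ _ _).symm)
      let g₁ := (Over.mapPullbackAdj s).homEquiv W G₁ (gg ≫ fst G₁ G₂)
      let g₂ := (Over.mapPullbackAdj s).homEquiv W G₂ (gg ≫ snd G₁ G₂)
      have e := (hiff W w g₁ g₂).2 (by
        simp only [g₁, g₂, E, Equiv.symm_apply_apply, ← comp_lift, lift_fst_snd, Category.comp_id]
        exact Over.OverMorphism.ext pullback.condition.symm)
      let z := hsq.lift _ _ e
      refine ⟨z.left q, ?_⟩
      rw [← Scheme.Hom.comp_apply, Over.w z]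
      change X'.hom (pullback.snd m.left c'.left q) = X'.hom x'
      rw [hq₂]
  have hcl : IsClopen (Set.range P.hom) := by
    refine ⟨⟨?_⟩, ?_⟩ <;> rw [isOpen_iff_forall_mem_open]
    · intro x hx
      obtain ⟨X', s₁, s₂, _, _, x', rfl⟩ := key x
      refine ⟨X'.hom '' (X'.hom ⁻¹' Set.range P.hom)ᶜ, ?_, ?_, ⟨x', hx, rfl⟩⟩
      · rintro _ ⟨a, ha, rfl⟩
        exact ha
      · exact X'.hom.isOpenMap _ (loc X' s₁ s₂).compl.2
    · intro x hx
      obtain ⟨X', s₁, s₂, _, _, x', rfl⟩ := key x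
      refine ⟨X'.hom '' (X'.hom ⁻¹' Set.range P.hom), Set.image_preimage_subset _ _, ?_, ⟨x', hx, rfl⟩⟩
      exact X'.hom.isOpenMap _ (loc X' s₁ s₂).2
  exact ⟨Set.range_eq_univ.1 (hcl.eq_univ (Set.range_nonempty _))⟩


/-- Let X be a connected scheme over a field k with a rational point x, let G, G₁, G₂ be finite group
schemes over k with homomorphisms φ₁ : G₁ → G and φ₂ : G₂ → G, and let T, T₁, T₂ be torsors over X
(fppf-locally trivial) under the base changes to X of G, G₁, G₂ respectively, each pointed by a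
k-point lying over x. Let f₁ : T₁ → T and f₂ : T₂ → T be morphisms of pointed torsors: X-morphisms
which intertwine the actions along φ₁, φ₂ and send the marked points of T₁, T₂ to that of T. Then
the fibre product T₁ ×_T T₂ maps surjectively onto X. (The published statement assumes X also
quasi-compact and reduced and concludes that T₁ ×_T T₂ is a torsor over X; this row assumes only X
connected and concludes that T₁ ×_T T₂ maps onto X.) -/
theorem result
    (k : Type u) [Field k] (X : Scheme.{u}) [X.Over (Spec (CommRingCat.of k))] [ConnectedSpace X]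
    (x : Spec (CommRingCat.of k) ⟶ X) (hx : x ≫ (X ↘ Spec (CommRingCat.of k)) = 𝟙 _)
    (G G₁ G₂ : Over (Spec (CommRingCat.of k))) [GrpObj G] [GrpObj G₁] [GrpObj G₂]
    [IsFinite G.hom] [IsFinite G₁.hom] [IsFinite G₂.hom]
    (φ₁ : G₁ ⟶ G) (φ₂ : G₂ ⟶ G) [IsMonHom φ₁] [IsMonHom φ₂]
    (T T₁ T₂ : Over X)
    (a : AlgGrp.Action (Red.bc (X ↘ Spec (CommRingCat.of k)) G) T)
    (a₁ : AlgGrp.Action (Red.bc (X ↘ Spec (CommRingCat.of k)) G₁) T₁)
    (a₂ : AlgGrp.Action (Red.bc (X ↘ Spec (CommRingCat.of k)) G₂) T₂)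
    (hT : NonAbH1.IsTorsorFor Scheme.fppfPrecoverage a)
    (hT₁ : NonAbH1.IsTorsorFor Scheme.fppfPrecoverage a₁)
    (hT₂ : NonAbH1.IsTorsorFor Scheme.fppfPrecoverage a₂)
    (t : Spec (CommRingCat.of k) ⟶ T.left) (t₁ : Spec (CommRingCat.of k) ⟶ T₁.left)
    (t₂ : Spec (CommRingCat.of k) ⟶ T₂.left)
    (ht : t ≫ T.hom = x) (ht₁ : t₁ ≫ T₁.hom = x) (ht₂ : t₂ ≫ T₂.hom = x)
    (f₁ : T₁ ⟶ T) (f₂ : T₂ ⟶ T)
    (hf₁ : AlgGrp.Action.IsEquivariant a₁ (a.restrict ((Over.pullback (X ↘ Spec (CommRingCat.of k))).map φ₁)) f₁)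
    (hf₂ : AlgGrp.Action.IsEquivariant a₂ (a.restrict ((Over.pullback (X ↘ Spec (CommRingCat.of k))).map φ₂)) f₂)
    (hft₁ : t₁ ≫ f₁.left = t) (hft₂ : t₂ ≫ f₂.left = t) :
    Surjective (pullback f₁ f₂).hom := by
  haveI : DiscreteTopology ↥G.left := by
    have h := G.hom.isDiscrete_preimage_singleton default
    rw [show G.hom ⁻¹' {default} = Set.univ from
      Set.eq_univ_of_forall fun y => Subsingleton.elim (α := ↥(Spec (CommRingCat.of k))) _ _] at h
    exact isDiscrete_univ_iff.1 h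
  haveI : Nonempty ↥(pullback f₁ f₂).left := by
    let xk : Over X := Over.mk x
    let u₁ : xk ⟶ T₁ := Over.homMk t₁ ht₁
    let u₂ : xk ⟶ T₂ := Over.homMk t₂ ht₂
    let z := pullback.lift (f := f₁) (g := f₂) u₁ u₂ (Over.OverMorphism.ext (hft₁.trans hft₂.symm))
    exact ⟨z.left (IsLocalRing.closedPoint k)⟩
  exact surjective_aux _ G G₁ G₂ φ₁ φ₂ T T₁ T₂ a a₁ a₂ hT.1 hT₁ hT₂ f₁ f₂ hf₁ hf₂ _ _ _
    (IsPullback.of_hasPullback f₁ f₂)

end Groth.Agent.S18762
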