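import Groth.Statements.S18764
import Groth.Agent.S18762
import Groth.Agent.PrincBundLib.Descends
import Groth.Agent.ASp.EtLocal
import Groth.Agent.FpqcDesc.Basic
import Groth.Agent.TorsFlatLib.Flat
-- import your own Groth.Agent.* helpers here

set_option autoImplicit false
set_option backward.isDefEq.respectTransparency false
set_option maxHeartbeats 800000
set_option synthInstance.maxHeartbeats 200000
universe u
open CategoryTheory CategoryTheory.Limits MonoidalCategory CartesianMonoidalCategory MonObj GrpObj AlgebraicGeometry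
open NonAbH1

namespace Groth.Agent.S18764

open MonoidalCategory CartesianMonoidalCategory in
lemma restrict_smul {S : Scheme.{u}} {H G X Y : Over S} [GrpObj H] [GrpObj G] (φ : H ⟶ G) [IsMonHom φ]
    (b : AlgGrp.Action H X) (a : AlgGrp.Action G Y) {f : X ⟶ Y}
    (hf : AlgGrp.Action.IsEquivariant b (a.restrict φ) f) {T : Over S} (g : T ⟶ H) (x : T ⟶ X) :
    (lift g x ≫ b.act) ≫ f = lift (g ≫ φ) (x ≫ f) ≫ a.act := by
  rw [Category.assoc, hf, lift_whiskerLeft_assoc]
  change lift g (x ≫ f) ≫ (φ ▷ _) ≫ a.act = _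
  rw [lift_whiskerRight_assoc]

/-- A finite pseudo-torsor over a reduced base, with nonempty fibres, under a finite group over a field is flat. -/
lemma flat_of_pseudo {k : Type u} [Field k] {X : Scheme.{u}} [AlgebraicGeometry.IsReduced X]
    (s : X ⟶ Spec (CommRingCat.of k)) (P : Over (Spec (CommRingCat.of k))) [GrpObj P] [IsFinite P.hom]
    (Q : Over X) [IsFinite Q.hom] [Surjective Q.hom] (c : AlgGrp.Action (Red.bc s P) Q)
    (hc : NonAbH1.IsPseudoTorsorSch c) : Flat Q.hom := by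
  haveI : Flat P.hom := TorsFlatLib.flat_to_field _
  refine TorsFlatLib.flat_of_hasFibreRank Q.hom (P.hom.finrank default) fun K _ j => ?_
  haveI : Surjective (pullback.snd Q.hom j) := MorphismProperty.pullback_snd (P := @Surjective) _ _ ‹_›
  obtain ⟨q, -⟩ := (pullback.snd Q.hom j).surjective default
  let L := (pullback Q.hom j).residueField q
  let r : Spec (CommRingCat.of L) ⟶ pullback Q.hom j := (pullback Q.hom j).fromSpecResidueField q
  refine ⟨L, inferInstance, r ≫ pullback.snd _ _, (default : ↥(Spec (CommRingCat.of L))), ?_⟩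
  let W : Over X := Over.mk ((r ≫ pullback.snd Q.hom j) ≫ j)
  let σ : W ⟶ Q := Over.homMk (r ≫ pullback.fst _ _) (by
    change _ = (r ≫ pullback.snd Q.hom j) ≫ j
    simp [pullback.condition])
  haveI : IsIso (lift ((Red.bc s P ◁ σ) ≫ c.act) (snd (Red.bc s P) W)) :=
    (PrincBundLib.isIso_lift_snd_iff _).mpr fun T x w => by
      simp only [lift_whiskerLeft_assoc]
      exact (PrincBundLib.isIso_lift_snd_iff c.act).mp hc T x _
  let e := asIso (lift ((Red.bc s P ◁ σ) ≫ c.act) (snd (Red.bc s P) W))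
  have h1 : e.hom.left ≫ pullback.snd Q.hom W.hom = pullback.snd (Red.bc s P).hom W.hom :=
    congrArg (fun m => m.left) (lift_snd ((Red.bc s P ◁ σ) ≫ c.act) (snd (Red.bc s P) W))
  haveI : IsIso e.hom.left := inferInstanceAs (IsIso ((Over.forget X).map e.hom))
  haveI : Flat (pullback.snd Q.hom W.hom) := TorsFlatLib.flat_to_field _
  haveI : Flat (pullback.snd P.hom s) := MorphismProperty.pullback_snd (P := @Flat) _ _ ‹_›
  haveI : IsFinite (pullback.snd P.hom s) := MorphismProperty.pullback_snd (P := @IsFinite) _ _ ‹_›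
  change (pullback.snd Q.hom W.hom).finrank (default : ↥(Spec (CommRingCat.of L))) = _
  rw [← Scheme.Hom.finrank_comp_left_of_isIso e.hom.left (pullback.snd Q.hom W.hom), h1]
  change (pullback.snd (pullback.snd P.hom s) W.hom).finrank (default : ↥(Spec (CommRingCat.of L))) = _
  rw [Scheme.Hom.finrank_pullback_snd, Scheme.Hom.finrank_pullback_snd]
  exact congrArg _ (Subsingleton.elim (α := ↥(Spec (CommRingCat.of k))) _ _)

/-- Let k be a field and X a quasi-compact k-scheme, connected and reduced, having a k-point x; let G,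
G₁, G₂ be finite group schemes over k with homomorphisms φ₁ : G₁ → G and φ₂ : G₂ → G, and let T, T₁,
T₂ be torsors over X (fppf-locally trivial) under the base changes to X of G, G₁, G₂ respectively,
each pointed by a k-point lying over x. Let f₁ : T₁ → T and f₂ : T₂ → T be morphisms of pointed
torsors: X-morphisms which intertwine the actions along φ₁, φ₂ and send the marked points of T₁, T₂
to that of T. Let P be the fibre product group scheme G₁ ×_G G₂ with its projections π₁, π₂. Then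
the fibre product T₁ ×_T T₂ carries an action of the base change of P for which both projections to
T₁ and T₂ are equivariant (along π₁, π₂) and which makes it a torsor over X (fppf-locally trivial).
(The published statement says that such an X has a fundamental group scheme; this row states the
closure of finite pointed torsors under fibre products to which it is reduced.) -/
theorem result
    (k : Type u) [Field k] (X : Scheme.{u}) [X.Over (Spec (CommRingCat.of k))] [ConnectedSpace X]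
    [CompactSpace X] [AlgebraicGeometry.IsReduced X]
    (x : Spec (CommRingCat.of k) ⟶ X) (hx : x ≫ (X ↘ Spec (CommRingCat.of k)) = 𝟙 _)
    (G G₁ G₂ : Over (Spec (CommRingCat.of k))) [GrpObj G] [GrpObj G₁] [GrpObj G₂]
    [IsFinite G.hom] [IsFinite G₁.hom] [IsFinite G₂.hom]
    (φ₁ : G₁ ⟶ G) (φ₂ : G₂ ⟶ G) [IsMonHom φ₁] [IsMonHom φ₂]
    (T T₁ T₂ : Over X)
    (a : AlgGrp.Action (Red.bc (X ↘ Spec (CommRingCat.of k)) G) T)
    (a₁ : AlgGrp.Action (Red.bc (X ↘ Spec (CommRingCat.of k)) G₁) T₁)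
    (a₂ : AlgGrp.Action (Red.bc (X ↘ Spec (CommRingCat.of k)) G₂) T₂)
    (hT : NonAbH1.IsTorsorFor Scheme.fppfPrecoverage a)
    (hT₁ : NonAbH1.IsTorsorFor Scheme.fppfPrecoverage a₁)
    (hT₂ : NonAbH1.IsTorsorFor Scheme.fppfPrecoverage a₂)
    (t : Spec (CommRingCat.of k) ⟶ T.left) (t₁ : Spec (CommRingCat.of k) ⟶ T₁.left)
    (t₂ : Spec (CommRingCat.of k) ⟶ T₂.left)
    (ht : t ≫ T.hom = x) (ht₁ : t₁ ≫ T₁.hom = x) (ht₂ : t₂ ≫ T₂.hom = x)
    (f₁ : T₁ ⟶ T) (f₂ : T₂ ⟶ T)
    (hf₁ : AlgGrp.Action.IsEquivariant a₁ (a.restrict ((Over.pullback (X ↘ Spec (CommRingCat.of k))).map φ₁)) f₁)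
    (hf₂ : AlgGrp.Action.IsEquivariant a₂ (a.restrict ((Over.pullback (X ↘ Spec (CommRingCat.of k))).map φ₂)) f₂)
    (hft₁ : t₁ ≫ f₁.left = t) (hft₂ : t₂ ≫ f₂.left = t)
    (P : Over (Spec (CommRingCat.of k))) [GrpObj P] (π₁ : P ⟶ G₁) (π₂ : P ⟶ G₂) [IsMonHom π₁] [IsMonHom π₂]
    (hP : IsPullback π₁ π₂ φ₁ φ₂) :
    ∃ c : AlgGrp.Action (Red.bc (X ↘ Spec (CommRingCat.of k)) P) (pullback f₁ f₂),
      AlgGrp.Action.IsEquivariant c (a₁.restrict ((Over.pullback (X ↘ Spec (CommRingCat.of k))).map π₁)) (pullback.fst f₁ f₂) ∧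
      AlgGrp.Action.IsEquivariant c (a₂.restrict ((Over.pullback (X ↘ Spec (CommRingCat.of k))).map π₂)) (pullback.snd f₁ f₂) ∧
      NonAbH1.IsTorsorFor Scheme.fppfPrecoverage c := by
  classical
  let s := X ↘ Spec (CommRingCat.of k)
  let B := Over.pullback s
  haveI : PreservesLimit (cospan φ₁ φ₂) B := (Over.mapPullbackAdj s).rightAdjoint_preservesLimits.preservesLimitsOfShape.preservesLimit
  have hB : IsPullback (B.map π₁) (B.map π₂) (B.map φ₁) (B.map φ₂) := hP.map B
  let Q := pullback f₁ f₂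
  let p₁ : Q ⟶ T₁ := pullback.fst f₁ f₂
  let p₂ : Q ⟶ T₂ := pullback.snd f₁ f₂
  have hw : ∀ {W : Over X} (g : W ⟶ Red.bc s P) (q : W ⟶ Q),
      (lift (g ≫ B.map π₁) (q ≫ p₁) ≫ a₁.act) ≫ f₁ = (lift (g ≫ B.map π₂) (q ≫ p₂) ≫ a₂.act) ≫ f₂ := by
    intro W g q
    rw [restrict_smul _ _ _ hf₁, restrict_smul _ _ _ hf₂, Category.assoc g, Category.assoc g,
      show B.map π₁ ≫ B.map φ₁ = B.map π₂ ≫ B.map φ₂ from hB.w, Category.assoc q, Category.assoc q,
      show p₁ ≫ f₁ = p₂ ≫ f₂ from pullback.condition]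
  let act : Red.bc s P ⊗ Q ⟶ Q :=
    pullback.lift (lift (fst _ _ ≫ B.map π₁) (snd _ _ ≫ p₁) ≫ a₁.act)
      (lift (fst _ _ ≫ B.map π₂) (snd _ _ ≫ p₂) ≫ a₂.act) (hw _ _)
  have act1 : ∀ {W : Over X} (g : W ⟶ Red.bc s P) (q : W ⟶ Q),
      (lift g q ≫ act) ≫ p₁ = lift (g ≫ B.map π₁) (q ≫ p₁) ≫ a₁.act := fun g q => by
    rw [Category.assoc]
    simp only [act, p₁, pullback.lift_fst, comp_lift_assoc, lift_fst_assoc, lift_snd_assoc]
  have act2 : ∀ {W : Over X} (g : W ⟶ Red.bc s P) (q : W ⟶ Q),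
      (lift g q ≫ act) ≫ p₂ = lift (g ≫ B.map π₂) (q ≫ p₂) ≫ a₂.act := fun g q => by
    rw [Category.assoc]
    simp only [act, p₂, pullback.lift_snd, comp_lift_assoc, lift_fst_assoc, lift_snd_assoc]
  let c : AlgGrp.Action (Red.bc s P) Q :=
    { act := act
      one_act := by
        have e : (η[Red.bc s P] ▷ Q) = lift (fst _ _ ≫ η[Red.bc s P]) (snd _ _) := by
          apply CartesianMonoidalCategory.hom_ext <;> simp
        rw [e, leftUnitor_hom]
        refine pullback.hom_ext ?_ ?_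
        · rw [act1, Category.assoc, IsMonHom.one_hom]
          have := congrArg (lift (fst (𝟙_ _) Q) (snd (𝟙_ _) Q ≫ p₁) ≫ ·) a₁.one_act
          change lift _ _ ≫ _ ≫ _ = lift _ _ ≫ (λ_ T₁).hom at this
          rw [lift_whiskerRight_assoc, leftUnitor_hom, lift_snd] at this
          exact this
        · rw [act2, Category.assoc, IsMonHom.one_hom]
          have := congrArg (lift (fst (𝟙_ _) Q) (snd (𝟙_ _) Q ≫ p₂) ≫ ·) a₂.one_act
          change lift _ _ ≫ _ ≫ _ = lift _ _ ≫ (λ_ T₂).hom at this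
          rw [lift_whiskerRight_assoc, leftUnitor_hom, lift_snd] at this
          exact this
      mul_act := by
        apply AlgGrp.Action.hom_ext_lift₃
        intro W g h q
        rw [lift_whiskerRight_assoc, lift_lift_associator_hom_assoc, lift_whiskerLeft_assoc, ← Hom.mul_def]
        refine pullback.hom_ext ?_ ?_
        · rw [act1, act1, act1, MonObj.mul_comp, AlgGrp.Action.lift_mul_act]
        · rw [act2, act2, act2, MonObj.mul_comp, AlgGrp.Action.lift_mul_act] }
  have hc : NonAbH1.IsPseudoTorsorSch c := by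
    refine (PrincBundLib.isIso_lift_snd_iff c.act).mpr fun W x y => ?_
    obtain ⟨g₁, hg₁, hu₁⟩ := (PrincBundLib.isIso_lift_snd_iff a₁.act).mp hT₁.1 W (x ≫ p₁) (y ≫ p₁)
    obtain ⟨g₂, hg₂, hu₂⟩ := (PrincBundLib.isIso_lift_snd_iff a₂.act).mp hT₂.1 W (x ≫ p₂) (y ≫ p₂)
    have hg : g₁ ≫ B.map φ₁ = g₂ ≫ B.map φ₂ := by
      refine ((PrincBundLib.isIso_lift_snd_iff a.act).mp hT.1 W (x ≫ p₁ ≫ f₁) (y ≫ p₁ ≫ f₁)).unique ?_ ?_
      · rw [← Category.assoc y, ← restrict_smul _ _ _ hf₁ g₁, hg₁, Category.assoc]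
      · rw [show p₁ ≫ f₁ = p₂ ≫ f₂ from pullback.condition, ← Category.assoc y,
          ← restrict_smul _ _ _ hf₂ g₂, hg₂, Category.assoc]
    refine ⟨hB.lift g₁ g₂ hg, ?_, fun g hgx => hB.hom_ext ?_ ?_⟩
    · refine pullback.hom_ext ?_ ?_
      · rw [act1, hB.lift_fst, hg₁]
      · rw [act2, hB.lift_snd, hg₂]
    · rw [hB.lift_fst]
      exact hu₁ _ (show lift (g ≫ B.map π₁) (y ≫ p₁) ≫ a₁.act = x ≫ p₁ by rw [← act1, show lift g y ≫ act = x from hgx])
    · rw [hB.lift_snd]
      exact hu₂ _ (show lift (g ≫ B.map π₂) (y ≫ p₂) ≫ a₂.act = x ≫ p₂ by rw [← act2, show lift g y ≫ act = x from hgx])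
  haveI : Surjective Q.hom := S18762.result k X x hx G G₁ G₂ φ₁ φ₂ T T₁ T₂ a a₁ a₂ hT hT₁ hT₂ t t₁ t₂ ht ht₁ ht₂ f₁ f₂ hf₁ hf₂ hft₁ hft₂
  have tors : ∀ {H : Over (Spec (CommRingCat.of k))} [GrpObj H] [IsFinite H.hom] {V : Over X} (b : AlgGrp.Action (Red.bc s H) V),
      NonAbH1.IsTorsorFor Scheme.fppfPrecoverage b → IsFinite V.hom ∧ LocallyOfFinitePresentation V.hom := by
    intro H _ _ V b hb
    obtain ⟨hb1, R, hR, hs⟩ := hb
    have hb' : NonAbH1.IsTorsorFor Scheme.fpqcPrecoverage b := ⟨hb1, R, Scheme.fppfPrecoverage_le_fpqcPrecoverage _ hR, hs⟩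
    haveI : LocallyOfFinitePresentation H.hom := inferInstance
    haveI := FpqcDesc.isFinite_descends
    exact ⟨PrincBundLib.property_of_torsor @IsFinite b hb' (MorphismProperty.pullback_snd (P := @IsFinite) _ _ inferInstance),
      PrincBundLib.property_of_torsor @LocallyOfFinitePresentation b hb' (MorphismProperty.pullback_snd (P := @LocallyOfFinitePresentation) _ _ inferInstance)⟩
  obtain ⟨hTf, hTl⟩ := tors a hT
  obtain ⟨hT1f, hT1l⟩ := tors a₁ hT₁
  obtain ⟨hT2f, hT2l⟩ := tors a₂ hT₂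
  have hQ : IsPullback p₁.left p₂.left f₁.left f₂.left := (IsPullback.of_hasPullback f₁ f₂).map (Over.forget X)
  haveI : IsFinite f₂.left := by
    haveI : IsFinite (f₂.left ≫ T.hom) := by rw [Over.w]; exact hT2f
    exact MorphismProperty.of_postcomp (W := @IsFinite) (W' := @IsSeparated) f₂.left T.hom inferInstance inferInstance
  haveI : LocallyOfFinitePresentation f₂.left :=
    ASp.locallyOfFinitePresentation_of_comp f₂.left T.hom (by rw [Over.w]; exact hT2l) inferInstance
  have hf : IsFinite p₁.left := MorphismProperty.of_isPullback (P := @IsFinite) hQ.flip ‹_›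
  have hl : LocallyOfFinitePresentation p₁.left := MorphismProperty.of_isPullback (P := @LocallyOfFinitePresentation) hQ.flip ‹_›
  haveI : IsFinite Q.hom := by rw [← Over.w p₁]; infer_instance
  haveI : LocallyOfFinitePresentation Q.hom := by rw [← Over.w p₁]; infer_instance
  haveI : IsFinite P.hom := by
    have hP' : IsPullback π₁.left π₂.left φ₁.left φ₂.left := hP.map (Over.forget _)
    haveI : IsFinite (φ₂.left ≫ G.hom) := by rw [Over.w]; infer_instance
    haveI : IsFinite φ₂.left := MorphismProperty.of_postcomp (W := @IsFinite) (W' := @IsSeparated) φ₂.left G.hom inferInstance inferInstance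
    haveI : IsFinite π₁.left := MorphismProperty.of_isPullback (P := @IsFinite) hP'.flip ‹_›
    rw [← Over.w π₁]; infer_instance
  haveI : Flat Q.hom := flat_of_pseudo s P Q c hc
  refine ⟨c, ?_, ?_, hc, Presieve.singleton Q.hom, Scheme.Hom.singleton_mem_fppfPrecoverage Q.hom, ?_⟩
  · apply AlgGrp.Action.hom_ext_lift₂
    intro W g q
    rw [← Category.assoc, act1, lift_whiskerLeft_assoc]
    change _ = lift g (q ≫ p₁) ≫ (_ ▷ _) ≫ a₁.act
    rw [lift_whiskerRight_assoc]
  · apply AlgGrp.Action.hom_ext_lift₂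
    intro W g q
    rw [← Category.assoc, act2, lift_whiskerLeft_assoc]
    change _ = lift g (q ≫ p₂) ≫ (_ ▷ _) ≫ a₂.act
    rw [lift_whiskerRight_assoc]
  · rintro S' f ⟨⟩
    exact ⟨𝟙 _, Category.id_comp _⟩

end Groth.Agent.S18764
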