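import Groth.Statements.S18773
import Groth.Agent.CurveBddLib.VBQuot
-- import your own Groth.Agent.* helpers here

set_option autoImplicit false
set_option backward.isDefEq.respectTransparency false
set_option maxHeartbeats 1600000
set_option backward.isDefEq.respectTransparency false
set_option linter.style.haveILetI false
set_option synthInstance.maxHeartbeats 200000
universe u
open CategoryTheory CategoryTheory.Limits AlgebraicGeometry
open VBCurve

namespace Groth.Agent.S18773

open Groth.Agent CategoryTheory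

/-- Let k be algebraically closed of characteristic zero, Y a smooth proper k-scheme of dimension one,
possibly disconnected, L an ample invertible O_Y-module, r a natural number and d an integer, and S
a family of locally free O_Y-modules of rank r and degree d (degree χ(E) − r·χ(O_Y)). For a module M
write χ for the Euler characteristic, M(n) = M ⊗ L^{⊗n} and α(M) = χ(M(1)) − χ(M) (the multiplicity:
leading coefficient of the Hilbert polynomial). Then S is bounded in the sense that for some n₀,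
every E in S and every n ≥ n₀ have H¹(Y, E(n)) = 0 and E(n) globally generated, if and only if there
is a constant C such that for every E in S and every locally free quotient E → Q with α(Q) > 0 one
has χ(Q)/α(Q) − χ(E)/α(E) ≥ C (the minimal slope of a locally free quotient is at least the slope of
E plus C; slopes deg/α differ from χ/α by the constant χ(O_Y)/deg L). -/
theorem result
    (k : Type u) [Field k] [IsAlgClosed k] [CharZero k]
    (Y : Scheme.{u}) [Y.Over (Spec (CommRingCat.of k))] [IsProper (Y ↘ Spec (CommRingCat.of k))]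
    [Smooth (Y ↘ Spec (CommRingCat.of k))] (hdim : topologicalKrullDim Y = 1)
    (L : Y.Modules) (hL : CohB1.IsAmple L)
    (r : ℕ) (d : ℤ) (S : Set Y.Modules)
    (hS : ∀ E ∈ S, FlatMod.IsFinLocFreeOfRank r E ∧ Curv2.deg k Y E r = d) :
    (∃ n₀ : ℕ, ∀ n : ℕ, n₀ ≤ n → ∀ E ∈ S,
        Subsingleton (Coh.HH Y (CohB1.tensorMod E (CohB1.tensorPow L n)) 1) ∧
        Curv2.IsGloballyGenerated (CohB1.tensorMod E (CohB1.tensorPow L n))) ↔
    (∃ C : ℤ, ∀ E ∈ S, ∀ (Q : Y.Modules) (p : E ⟶ Q), Epi p → FlatMod.IsFinLocFree Q →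
        0 < Curv2.euler k Y (CohB1.tensorMod Q L) - Curv2.euler k Y Q →
        (C : ℚ) ≤ (Curv2.euler k Y Q : ℚ) / ((Curv2.euler k Y (CohB1.tensorMod Q L) - Curv2.euler k Y Q : ℤ) : ℚ)
          - (Curv2.euler k Y E : ℚ) / ((Curv2.euler k Y (CohB1.tensorMod E L) - Curv2.euler k Y E : ℤ) : ℚ)) := by
    haveI := EulerIneqLib.isNoetherian_proper (X := Y) k
    haveI := VBLib.isRegCurve_of_smooth k (X := Y) hdim.le
    have hdom : ∀ y : Y, IsDomain (Y.presheaf.stalk y) := fun y => by
      haveI := CurveLib.isRegularLocalRing_stalk_of_smooth (k := k) y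
      exact RegLocal.isDomain _
    obtain ⟨αO, hαO⟩ : ∃ a, DecSh.mult k Y L (Coh.structureModule Y) = a := ⟨_, rfl⟩
    have hinv : ∀ E ∈ S, Coh.IsCoh E ∧ DecSh.mult k Y L E = (r : ℤ) * αO ∧
        Curv2.euler k Y E = d + (r : ℤ) * Curv2.euler k Y (Coh.structureModule Y) := fun E hE => by
      obtain ⟨h1, h2⟩ := hS E hE
      refine ⟨DegDevLib.isCoh_of_rank h1, hαO ▸ CurveBddLib.mult_locFree k hdim hL.1 h1, ?_⟩
      unfold Curv2.deg at h2
      omega
    obtain ⟨e, he⟩ : ∃ e : ℤ, d + (r : ℤ) * Curv2.euler k Y (Coh.structureModule Y) = e := ⟨_, rfl⟩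
    constructor
    · rintro ⟨n₀, hn₀⟩
      refine ⟨⌊-(n₀ : ℚ) - (e : ℚ) / (((r : ℤ) * αO : ℤ) : ℚ)⌋, fun E hE Q p hp hQ hα => ?_⟩
      haveI := hp
      obtain ⟨hEc, hEm, hEe⟩ := hinv E hE
      change 0 < DecSh.mult k Y L Q at hα
      show _ ≤ (Curv2.euler k Y Q : ℚ) / (DecSh.mult k Y L Q : ℚ) -
        (Curv2.euler k Y E : ℚ) / (DecSh.mult k Y L E : ℚ)
      rw [hEm, hEe, he]
      have hQc : Coh.IsCoh Q := CurveLib.isCoh_of_isFinLocFree hQ
      have h1 := CurveBddLib.vanish_quot k hdim p n₀ (hn₀ n₀ le_rfl E hE).1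
      have h2 := CurveBddLib.euler_twistL (k := k) hdim hL hQc n₀
      have h3 := CurveBddLib.euler_two (k := k) hdim (CohB1.tensorMod Q (CohB1.tensorPow L n₀))
      haveI : Subsingleton (Coh.HH Y (CohB1.tensorMod Q (CohB1.tensorPow L n₀)) 1) := h1
      rw [Module.finrank_zero_of_subsingleton (R := k) (M := Coh.HH Y (CohB1.tensorMod Q (CohB1.tensorPow L n₀)) 1)] at h3
      have h4 : (0 : ℚ) ≤ (DecSh.mult k Y L Q : ℚ) * n₀ + Curv2.euler k Y Q := by
        rw [← h2, h3]
        push_cast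
        simp
      have hαq : (0 : ℚ) < (DecSh.mult k Y L Q : ℚ) := by exact_mod_cast hα
      have h5 : -(n₀ : ℚ) ≤ (Curv2.euler k Y Q : ℚ) / (DecSh.mult k Y L Q : ℚ) := by
        rw [le_div_iff₀ hαq]
        linarith
      linarith [Int.floor_le (-(n₀ : ℚ) - (e : ℚ) / (((r : ℤ) * αO : ℤ) : ℚ))]
    · rintro ⟨C, hC⟩
      rcases S.eq_empty_or_nonempty with rfl | ⟨E₀, hE₀⟩
      · exact ⟨0, fun _ _ _ h => h.elim⟩
      have hα0 : 0 ≤ (r : ℤ) * αO := (hinv E₀ hE₀).2.1 ▸ CurveBddLib.mult_nonneg' k hdim hL (hinv E₀ hE₀).1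
      obtain ⟨j₀, hj₀⟩ := CurveBddLib.exists_vanish_of_quot k hdim hL ((r : ℤ) * αO) e
        ((e : ℚ) / (((r : ℤ) * αO : ℤ) : ℚ) + C) hα0
      obtain ⟨n₁, hn₁⟩ := CurveBddLib.exists_gg k hdim hL j₀
      refine ⟨max j₀ n₁, fun n hn E hE => ?_⟩
      obtain ⟨hEc, hEm, hEe⟩ := hinv E hE
      have hv := hj₀ E hEc hEm (hEe.trans he) fun Q p hp hQc hQp hQα => by
        have h := hC E hE Q p hp (CurveBddLib.flf_of_pure hdom hdim.le hQc hQp) hQα
        change (C : ℚ) ≤ (Curv2.euler k Y Q : ℚ) / (DecSh.mult k Y L Q : ℚ) -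
          (Curv2.euler k Y E : ℚ) / (DecSh.mult k Y L E : ℚ) at h
        rw [hEm, hEe, he] at h
        have hαq : (0 : ℚ) < (DecSh.mult k Y L Q : ℚ) := by exact_mod_cast hQα
        rw [← le_div_iff₀ hαq]
        linarith
      exact ⟨hv n (le_trans (le_max_left _ _) hn), hn₁ E hEc hv n (le_trans (le_max_right _ _) hn)⟩

end Groth.Agent.S18773
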