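import Groth.Statements.S18774
import Groth.Agent.VBLib.Ext
import Groth.Agent.S1536
import Groth.Agent.GeomIrred.Scheme
-- import your own Groth.Agent.* helpers here

set_option autoImplicit false
set_option backward.isDefEq.respectTransparency false
universe u
open CategoryTheory CategoryTheory.Limits AlgebraicGeometry
open VBCurve

namespace Groth.Agent.S18774
open CategoryTheory CategoryTheory.Limits AlgebraicGeometry

/-- Let k be a finite field and C a smooth proper geometrically integral curve over k (proper, smooth
and geometrically integral over k, of dimension one), and write g = dim_k H^1(C, O_C). Let E be a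
finite locally free O_C-module and F a finite locally free submodule of E of rank r' ≥ 1 (a
monomorphism F → E). Then deg F ≤ r' · (dim_k H^0(C, E) + g − 1), that is, the slope of F is at most
h^0(C, E) + g − 1; here the degree of a rank-n locally free module G is χ(G) − n·χ(O_C). -/
theorem result (k : Type u) [Field k] [Finite k] (X : Scheme.{u}) [X.Over (Spec (CommRingCat.of k))]
    [IsProper (X ↘ Spec (CommRingCat.of k))] [Smooth (X ↘ Spec (CommRingCat.of k))]
    [GeometricallyIntegral (X ↘ Spec (CommRingCat.of k))] (hdim : topologicalKrullDim ↥X = 1)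
    (E : X.Modules) (hE : FlatMod.IsFinLocFree E) (F : X.Modules) (r' : ℕ) (hr' : 0 < r')
    (hF : FlatMod.IsFinLocFreeOfRank r' F) (i : F ⟶ E) [Mono i] :
    Curv2.deg k X F r' ≤ (r' : ℤ) * ((Module.finrank k (Coh.HH X E 0) : ℤ) + (Curv2.genus k X : ℤ) - 1) := by
  haveI := GeomIrred.geometricallyConnected_of_geometricallyIrreducible (X ↘ Spec (CommRingCat.of k))
  haveI := VBLib.isIntegral_of_geomConnected k (X := X)
  haveI := VBLib.isRegCurve_of_smooth k (X := X) hdim.le
  haveI := EulerIneqLib.isNoetherian_proper (X := X) k
  have hEc := CurveLib.isCoh_of_isFinLocFree hE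
  have h := VBLib.dg_le_sections k hdim.le i hEc
  rw [VBLib.dg_eq k hF, VBLib.grk_of_rank hF] at h
  have h0 : Module.finrank k (Coh.HH X (Coh.structureModule X) 0) = 1 := Groth.Agent.S1536.result k X
  rw [CurveLib.euler_eq_sub (k := k) hdim.le, h0] at h
  have hg : Curv2.genus k X = Module.finrank k (Coh.HH X (Coh.structureModule X) 1) := rfl
  rw [← hg] at h
  have hr : (1 : ℤ) ≤ r' := by exact_mod_cast hr'
  have hn := mul_le_mul_of_nonneg_right hr (Int.natCast_nonneg (Module.finrank k (Coh.HH X E 0)))
  push_cast at h
  linarith

end Groth.Agent.S18774
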