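import Groth.Statements.S18778
import Groth.Agent.VBLib.DegZero
import Groth.Agent.S1536
import Groth.Agent.GeomIrred.Scheme
-- import your own Groth.Agent.* helpers here

set_option autoImplicit false
set_option backward.isDefEq.respectTransparency false
universe u
open CategoryTheory CategoryTheory.Limits AlgebraicGeometry
open VBCurve

namespace Groth.Agent.S18778
open CategoryTheory CategoryTheory.Limits AlgebraicGeometry

/-- Let k be a finite field and C a smooth proper geometrically integral curve over k (proper, smooth
and geometrically integral over k, of dimension one) of genus one, i.e. dim_k H^1(C, O_C) = 1, with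
a k-rational point O (an elliptic curve over k). Let G be a finite locally free O_C-module of rank r
≥ 1 and degree 0, where the degree of a rank-n locally free module H is χ(H) − n·χ(O_C), which is
semistable: deg H · r ≤ deg G · rk H = 0 for every finite locally free submodule H of G of positive
rank. Then dim_k H^0(C, G) ≤ r. -/
theorem result (k : Type u) [Field k] [Finite k] (X : Scheme.{u}) [X.Over (Spec (CommRingCat.of k))]
    [IsProper (X ↘ Spec (CommRingCat.of k))] [Smooth (X ↘ Spec (CommRingCat.of k))]
    [GeometricallyIntegral (X ↘ Spec (CommRingCat.of k))] (hdim : topologicalKrullDim ↥X = 1)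
    (hg : Curv2.genus k X = 1) (O : Spec (CommRingCat.of k) ⟶ X) (hO : O ≫ (X ↘ Spec (CommRingCat.of k)) = 𝟙 _)
    (G : X.Modules) (r : ℕ) (hr : 0 < r) (hG : FlatMod.IsFinLocFreeOfRank r G)
    (hdeg : Curv2.deg k X G r = 0)
    (hGss : (∀ (H : X.Modules) (r' : ℕ) (i : H ⟶ G), Mono i → 0 < r' → FlatMod.IsFinLocFreeOfRank r' H →
      Curv2.deg k X H r' * (r : ℤ) ≤ Curv2.deg k X G r * (r' : ℤ))) :
    Module.finrank k (Coh.HH X G 0) ≤ r := by
  haveI := GeomIrred.geometricallyConnected_of_geometricallyIrreducible (X ↘ Spec (CommRingCat.of k))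
  haveI := VBLib.isIntegral_of_geomConnected k (X := X)
  haveI := VBLib.isRegCurve_of_smooth k (X := X) hdim.le
  haveI := EulerIneqLib.isNoetherian_proper (X := X) k
  refine VBLib.finrank_H0_le_of_deg_zero k hdim.le (Groth.Agent.S1536.result k X) r G hG
    ((VBLib.dg_eq k hG).trans hdeg) fun H i hi hH => ?_
  haveI := hi
  rcases Nat.eq_zero_or_pos (VBLib.grk H) with h | h
  · exact ((VBLib.dg_isZero k (VBLib.isZero_of_mono i hH hG h)).2).le
  · have hr' := VBLib.rank_of_mono i hH hG
    have h1 := hGss H _ i hi h hr'
    rw [hdeg, zero_mul] at h1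
    rw [VBLib.dg_eq k hr']
    have hr0 : (0 : ℤ) < r := by exact_mod_cast hr
    by_contra h2
    exact absurd h1 (not_le.2 (mul_pos (not_le.1 h2) hr0))

end Groth.Agent.S18778
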