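import Groth.Statements.S18784
import Groth.Agent.TwistShriek.CurveSetup
import Groth.Agent.S1536
import Groth.Agent.CurveLib.DegTensor
-- import your own Groth.Agent.* helpers here

set_option autoImplicit false
set_option backward.isDefEq.respectTransparency false
set_option maxHeartbeats 800000
set_option synthInstance.maxHeartbeats 200000
universe u
open CategoryTheory CategoryTheory.Limits AlgebraicGeometry
open Groth.Agent Groth.Agent.TwistShriek
attribute [local instance] HasDerivedCategory.standard
open Curves

namespace Groth.Agent.S18784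

/-- Let k be a perfect field and X a proper scheme over k of dimension one which is geometrically
connected and geometrically reduced over k, Gorenstein with trivial dualizing sheaf: its dualizing
module ω_X (the degree −1 cohomology sheaf of f^! O for the structure morphism f, assuming Rf_* on
D_QCoh and its right adjoint exist) is isomorphic to O_X. Let D be an effective Cartier divisor on X
of positive degree, given here as an invertible module L = O_X(D) with a monomorphism s : O_X → L
and deg L = χ(L) − χ(O_X) > 0. Then H^1(X, O_X(D)) = 0. (The first assertion of the lemma, H^0(X,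
O_X) = k, is not restated.) -/
theorem result (k : Type u) [Field k] [PerfectField k]
    (X : Scheme.{u}) [X.Over (Spec (CommRingCat.of k))] [IsProper (X ↘ Spec (CommRingCat.of k))]
    [GeometricallyConnected (X ↘ Spec (CommRingCat.of k))] [GeometricallyReduced (X ↘ Spec (CommRingCat.of k))]
    (hdim : topologicalKrullDim ↥X = 1)
    [DCoh.HasRpush (X ↘ Spec (CommRingCat.of k))] (h : DCoh.RpushPreservesQCoh (X ↘ Spec (CommRingCat.of k))) [DCoh.HasShriek (X ↘ Spec (CommRingCat.of k)) h]
    (OY : DCoh.DQCoh (Spec (CommRingCat.of k))) (hOY : Nonempty (OY.obj ≅ DCoh.inD (Spec (CommRingCat.of k)) (Coh.structureModule (Spec (CommRingCat.of k)))))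
    (hω : Nonempty (DCoh.dualizingMod (X ↘ Spec (CommRingCat.of k)) h OY 1 ≅ Coh.structureModule X))
    (L : X.Modules) (hL : PicF.IsInvertible L) (s : Coh.structureModule X ⟶ L) [Mono s]
    (hdeg : 0 < Curv2.deg k X L 1) :
    Subsingleton (Coh.HH X L 1) := by
    have h0 := Groth.Agent.S1536.result k X
    obtain ⟨tr, hω', hfin, hle⟩ := exists_pair_dualizingMod k X h OY hOY hdim.le
    haveI := hfin
    haveI := EulerIneqLib.isNoetherian_proper (X := X) k
    obtain ⟨eω⟩ := hω
    refine subsingleton_HH_of_hom_eq_zero k hω' L (CurveLib.isCoh_of_isInvertible hL).1 fun v => ?_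
    rw [← cancel_mono eω.hom, zero_comp]
    generalize v ≫ eω.hom = u
    show u = 0
    obtain ⟨c, hc⟩ := exists_eq_cst k hω' (hle.trans h0.le) (eω.hom ≫ (s ≫ u) ≫ eω.inv)
    have hsu : s ≫ u = (VBLib.cst k (Coh.structureModule X) c : Coh.structureModule X ⟶ Coh.structureModule X) := by
      rw [← cancel_epi eω.hom, ← cancel_mono eω.inv, Category.assoc, hc, ← VBLib.cst_natural, Category.assoc,
        Iso.hom_inv_id]
      exact (Category.id_comp _).symm.trans (by rw [Category.comp_id, Category.id_comp])
    refine PullbackMod.hom_ext_stalk fun x => LinearMap.ext fun z => ?_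
    obtain ⟨e, he⟩ := ParaFLib.exists_stalk_gen hL x
    obtain ⟨a, ha⟩ := he.2 (PullbackMod.stalkLin s x (ParaFLib.oneG x))
    simp only at ha
    have hinj := (PullbackMod.mono_iff_stalk s).1 inferInstance x
    have hau : a • PullbackMod.stalkLin u x e = PullbackMod.stalkLin (s ≫ u) x (ParaFLib.oneG x) := by
      rw [PullbackMod.stalkLin_comp, LinearMap.comp_apply, ← ha, map_smul]
    by_cases hc0 : c = 0
    · obtain ⟨b, rfl⟩ := he.2 z
      rw [hsu, hc0, VBLib.cst_zero, (PullbackMod.eq_zero_iff_stalk _).1 rfl x, LinearMap.zero_apply] at hau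
      obtain ⟨r, hr⟩ := (ParaFLib.bijective_oneG x).2 (PullbackMod.stalkLin u x e)
      change r • _ = _ at hr
      have h1 : PullbackMod.stalkLin s x (a • r • ParaFLib.oneG x) = 0 := by rw [hr, hau, map_zero]
      rw [map_eq_zero_iff _ hinj, ← smul_assoc] at h1
      have h2 : a • r = (0 : X.presheaf.stalk x) := (ParaFLib.bijective_oneG x).1 (h1.trans (zero_smul _ _).symm)
      have h3 : PullbackMod.stalkLin s x (r • ParaFLib.oneG x) = 0 := by
        rw [map_smul, ← ha, smul_smul, mul_comm, ← smul_eq_mul, h2, zero_smul]
      rw [map_eq_zero_iff _ hinj, hr] at h3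
      rw [(PullbackMod.eq_zero_iff_stalk _).1 rfl x, LinearMap.zero_apply, map_smul, h3, smul_zero]
    · exfalso
      haveI : IsIso (VBLib.cst k (Coh.structureModule X) c : Coh.structureModule X ⟶ Coh.structureModule X) :=
        ⟨⟨(VBLib.cst k (Coh.structureModule X) c⁻¹ : Coh.structureModule X ⟶ Coh.structureModule X),
          by rw [← VBLib.cst_mul, inv_mul_cancel₀ hc0, VBLib.cst_one],
          by rw [← VBLib.cst_mul, mul_inv_cancel₀ hc0, VBLib.cst_one]⟩⟩
      haveI hiso : IsIso s := (PullbackMod.isIso_iff_stalk s).2 fun y => by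
        refine ⟨(PullbackMod.mono_iff_stalk s).1 inferInstance y, ?_⟩
        obtain ⟨e', he'⟩ := ParaFLib.exists_stalk_gen hL y
        obtain ⟨a', ha'⟩ := he'.2 (PullbackMod.stalkLin s y (ParaFLib.oneG y))
        simp only at ha'
        obtain ⟨r, hr⟩ := (ParaFLib.bijective_oneG y).2 (PullbackMod.stalkLin u y e')
        change r • _ = _ at hr
        obtain ⟨q, hq⟩ := ((PullbackMod.isIso_iff_stalk (VBLib.cst k (Coh.structureModule X) c : Coh.structureModule X ⟶ Coh.structureModule X)).1 inferInstance y).2 (ParaFLib.oneG y)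
        obtain ⟨q', rfl⟩ := (ParaFLib.bijective_oneG y).2 q
        rw [← hsu, PullbackMod.stalkLin_comp, LinearMap.comp_apply, map_smul, map_smul, ← ha', map_smul, ← hr,
          smul_smul, smul_smul] at hq
        have hu1 : q' * a' * r = 1 := (ParaFLib.bijective_oneG y).1 (hq.trans (one_smul _ _).symm)
        intro w
        obtain ⟨t, rfl⟩ := he'.2 w
        refine ⟨(t * (q' * r)) • ParaFLib.oneG y, ?_⟩
        rw [map_smul, ← ha', smul_smul]
        congr 1
        rw [mul_assoc, mul_assoc q', mul_comm r a', ← mul_assoc q', hu1, mul_one]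
      have hd := CurveLib.deg_iso (k := k) (asIso s) 1
      simp only [Curv2.deg, Nat.cast_one, one_mul, sub_self] at hd hdeg
      omega

end Groth.Agent.S18784
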