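import Groth.Statements.S18787
import Groth.Agent.VBLib.AutCount

set_option autoImplicit false
universe u
open CategoryTheory CategoryTheory.Limits AlgebraicGeometry
open VBCurve

namespace Groth.Agent.S18787

set_option backward.isDefEq.respectTransparency false

theorem arith (q : ℕ) : (q - 1) * ((q ^ 2 - 1) * (q ^ 2 - q)) = (q - 1) ^ 3 * (q + 1) * q := by
  rcases q with _ | m
  · simp
  · rw [show (m + 1) ^ 2 - 1 = m * (m + 2) from Nat.sub_eq_of_eq_add (by ring),
      show (m + 1) ^ 2 - (m + 1) = m * (m + 1) from Nat.sub_eq_of_eq_add (by ring), Nat.add_sub_cancel]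
    ring

/-- Let k be a finite field and C a smooth proper geometrically integral curve over k (proper, smooth
and geometrically integral over k, of dimension one) of genus one, i.e. dim_k H^1(C, O_C) = 1, with
a k-rational point O (an elliptic curve over k); k is finite with q elements. Let L₁ and L₂ be
invertible O_C-modules of degree 0 (χ(L) − χ(O_C) = 0) and E = O_C ⊕ L₁ ⊕ L₂. Then the number of
automorphisms of E is: (q³ − 1)(q³ − q)(q³ − q²) if L₁ ≅ L₂ ≅ O_C; (q − 1)³ (q + 1) q if L₁ ≅ L₂ and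
L₁ ≇ O_C; (q − 1)³ (q + 1) q if L₁ ≇ L₂ and L₂ ≅ O_C; and (q − 1)³ if O_C, L₁, L₂ are pairwise
non-isomorphic. (In the third case the published value is (q − 1)² q³, and the published computation
gives (q − 1)³ q²; but there E ≅ O_C ⊕ O_C ⊕ L₁ with L₁ of degree 0 and non-trivial, whose
endomorphism ring is M₂(k) × k, so Aut(E) ≅ GL₂(k) × kˣ has (q − 1)³ (q + 1) q elements, the same
count as in the second case; the row states this corrected value.) (The published setting takes k of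
characteristic at least 5; the argument does not use this and the row allows every finite field.) -/
theorem result (k : Type u) [Field k] [Finite k] (X : Scheme.{u}) [X.Over (Spec (CommRingCat.of k))]
    [IsProper (X ↘ Spec (CommRingCat.of k))] [Smooth (X ↘ Spec (CommRingCat.of k))]
    [GeometricallyIntegral (X ↘ Spec (CommRingCat.of k))] (hdim : topologicalKrullDim ↥X = 1)
    (hg : Curv2.genus k X = 1) (O : Spec (CommRingCat.of k) ⟶ X) (hO : O ≫ (X ↘ Spec (CommRingCat.of k)) = 𝟙 _)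
    (L₁ L₂ : X.Modules) (hL₁ : PicF.IsInvertible L₁) (hL₂ : PicF.IsInvertible L₂)
    (hd₁ : Curv2.deg k X L₁ 1 = 0) (hd₂ : Curv2.deg k X L₂ 1 = 0) :
    (Nonempty (L₁ ≅ Coh.structureModule X) → Nonempty (L₂ ≅ Coh.structureModule X) →
      Nat.card (Aut (Coh.structureModule X ⊞ L₁ ⊞ L₂)) =
        (Nat.card k ^ 3 - 1) * (Nat.card k ^ 3 - Nat.card k) * (Nat.card k ^ 3 - Nat.card k ^ 2)) ∧
    (Nonempty (L₁ ≅ L₂) → ¬ Nonempty (L₁ ≅ Coh.structureModule X) →
      Nat.card (Aut (Coh.structureModule X ⊞ L₁ ⊞ L₂)) = (Nat.card k - 1) ^ 3 * (Nat.card k + 1) * Nat.card k) ∧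
    (¬ Nonempty (L₁ ≅ L₂) → Nonempty (L₂ ≅ Coh.structureModule X) →
      Nat.card (Aut (Coh.structureModule X ⊞ L₁ ⊞ L₂)) = (Nat.card k - 1) ^ 3 * (Nat.card k + 1) * Nat.card k) ∧
    (¬ Nonempty (L₁ ≅ Coh.structureModule X) → ¬ Nonempty (L₂ ≅ Coh.structureModule X) → ¬ Nonempty (L₁ ≅ L₂) →
      Nat.card (Aut (Coh.structureModule X ⊞ L₁ ⊞ L₂)) = (Nat.card k - 1) ^ 3) := by
  haveI : Subsingleton ↥(Spec (CommRingCat.of k)) := inferInstanceAs (Subsingleton (PrimeSpectrum k))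
  haveI : IsIntegral X := GeometricallyIntegral.isIntegral_of_subsingleton (f := X ↘ Spec (CommRingCat.of k))
  haveI := Groth.Agent.VBLib.isRegCurve_of_smooth k (X := X) hdim.le
  haveI := Groth.Agent.EulerIneqLib.isNoetherian_proper (X := X) k
  have hO := Groth.Agent.ParaFLib.isInvertible_structureModule (X := X)
  have hd : Curv2.deg k X (Coh.structureModule X) 1 = 0 := Groth.Agent.CurveLib.deg_structureModule
  have e0 := Groth.Agent.VBLib.AutCount.endLine k hdim hg hO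
  have e1 := Groth.Agent.VBLib.AutCount.endLine k hdim hg hL₁
  have e2 := Groth.Agent.VBLib.AutCount.endLine k hdim hg hL₂
  have hz : ∀ {L M : X.Modules}, PicF.IsInvertible L → PicF.IsInvertible M → Curv2.deg k X L 1 = 0 →
      Curv2.deg k X M 1 = 0 → ¬ Nonempty (L ≅ M) → ∀ f : L ⟶ M, f = 0 := fun {L M} hL hM hl hm hne f =>
    Groth.Agent.VBLib.AutCount.hom_eq_zero k hdim hL hM (by rw [hl, hm]) hne f
  refine ⟨?_, ?_, ?_, ?_⟩
  · rintro ⟨a⟩ ⟨b⟩
    rw [Groth.Agent.VBLib.AutCount.card_aut_iso (biprod.mapIso (Iso.refl (Coh.structureModule X)) (biprod.mapIso a b)),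
      Groth.Agent.VBLib.AutCount.card_aut_three e0]
  · rintro ⟨a⟩ hne
    have hne' : ¬ Nonempty (Coh.structureModule X ≅ L₁) := fun ⟨e⟩ => hne ⟨e.symm⟩
    rw [Groth.Agent.VBLib.AutCount.card_aut_iso (biprod.mapIso (Iso.refl (Coh.structureModule X))
        (biprod.mapIso (Iso.refl L₁) a.symm)),
      Groth.Agent.VBLib.AutCount.card_aut_biprod (A := Coh.structureModule X) (B := L₁ ⊞ L₁)
        (fun f => biprod.hom_ext _ _ (by rw [hz hO hL₁ hd hd₁ hne' (f ≫ biprod.fst), zero_comp])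
          (by rw [hz hO hL₁ hd hd₁ hne' (f ≫ biprod.snd), zero_comp]))
        (fun g => biprod.hom_ext' _ _ (by rw [hz hL₁ hO hd₁ hd hne (biprod.inl ≫ g), comp_zero])
          (by rw [hz hL₁ hO hd₁ hd hne (biprod.inr ≫ g), comp_zero])),
      Groth.Agent.VBLib.AutCount.card_aut_scalar e0, Groth.Agent.VBLib.AutCount.card_aut_two e1, arith]
  · rintro h12 ⟨b⟩
    have hne : ¬ Nonempty (L₁ ≅ Coh.structureModule X) := fun ⟨e⟩ => h12 ⟨e ≪≫ b.symm⟩
    have hne' : ¬ Nonempty (Coh.structureModule X ≅ L₁) := fun ⟨e⟩ => hne ⟨e.symm⟩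
    rw [Groth.Agent.VBLib.AutCount.card_aut_iso ((biprod.mapIso (Iso.refl (Coh.structureModule X))
        (biprod.mapIso (Iso.refl L₁) b)) ≪≫ biprod.mapIso (Iso.refl (Coh.structureModule X)) (biprod.braiding _ _) ≪≫
        (biprod.associator _ _ _).symm),
      Groth.Agent.VBLib.AutCount.card_aut_biprod (A := Coh.structureModule X ⊞ Coh.structureModule X) (B := L₁)
        (fun f => biprod.hom_ext' _ _ (by rw [hz hO hL₁ hd hd₁ hne' (biprod.inl ≫ f), comp_zero])
          (by rw [hz hO hL₁ hd hd₁ hne' (biprod.inr ≫ f), comp_zero]))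
        (fun g => biprod.hom_ext _ _ (by rw [hz hL₁ hO hd₁ hd hne (g ≫ biprod.fst), zero_comp])
          (by rw [hz hL₁ hO hd₁ hd hne (g ≫ biprod.snd), zero_comp])),
      Groth.Agent.VBLib.AutCount.card_aut_scalar e1, Groth.Agent.VBLib.AutCount.card_aut_two e0, mul_comm, arith]
  · intro h1 h2 h12
    have h1' : ¬ Nonempty (Coh.structureModule X ≅ L₁) := fun ⟨e⟩ => h1 ⟨e.symm⟩
    have h2' : ¬ Nonempty (Coh.structureModule X ≅ L₂) := fun ⟨e⟩ => h2 ⟨e.symm⟩
    have h21 : ¬ Nonempty (L₂ ≅ L₁) := fun ⟨e⟩ => h12 ⟨e.symm⟩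
    rw [Groth.Agent.VBLib.AutCount.card_aut_biprod (A := Coh.structureModule X) (B := L₁ ⊞ L₂)
        (fun f => biprod.hom_ext _ _ (by rw [hz hO hL₁ hd hd₁ h1' (f ≫ biprod.fst), zero_comp])
          (by rw [hz hO hL₂ hd hd₂ h2' (f ≫ biprod.snd), zero_comp]))
        (fun g => biprod.hom_ext' _ _ (by rw [hz hL₁ hO hd₁ hd h1 (biprod.inl ≫ g), comp_zero])
          (by rw [hz hL₂ hO hd₂ hd h2 (biprod.inr ≫ g), comp_zero])),
      Groth.Agent.VBLib.AutCount.card_aut_biprod (hz hL₁ hL₂ hd₁ hd₂ h12) (hz hL₂ hL₁ hd₂ hd₁ h21),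
      Groth.Agent.VBLib.AutCount.card_aut_scalar e0, Groth.Agent.VBLib.AutCount.card_aut_scalar e1,
      Groth.Agent.VBLib.AutCount.card_aut_scalar e2]
    ring

end Groth.Agent.S18787
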