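import Groth.Statements.S18788
import Groth.Agent.VBLib.AutCount

set_option autoImplicit false
universe u
open CategoryTheory CategoryTheory.Limits AlgebraicGeometry
open VBCurve

namespace Groth.Agent.S18788

set_option backward.isDefEq.respectTransparency false

/-- Let k be a finite field and C a smooth proper geometrically integral curve over k (proper, smooth
and geometrically integral over k, of dimension one) of genus one, i.e. dim_k H^1(C, O_C) = 1, with
a k-rational point O (an elliptic curve over k); k is finite with q elements. Let F be an O_C-module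
with a short exact sequence 0 → O_C → F → O_C → 0 that does not split, and L an invertible
O_C-module of degree 0 (χ(L) − χ(O_C) = 0). Then Aut(O_C ⊕ F) has (q − 1)² q³ elements, and if L ≇
O_C then Aut(O_C ⊕ (L ⊗ F)) has (q − 1)² q elements. (The source states this for E = O_C ⊕ G with G
a geometrically indecomposable rank-2 bundle of degree 0, which it writes as L ⊗ F with F the
non-split self-extension of O_C by a classification it quotes; the row takes G in that form
directly. The accompanying count of isomorphism classes is not restated.) (The published setting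
takes k of characteristic at least 5; the argument does not use this and the row allows every finite
field.) -/
theorem result (k : Type u) [Field k] [Finite k] (X : Scheme.{u}) [X.Over (Spec (CommRingCat.of k))]
    [IsProper (X ↘ Spec (CommRingCat.of k))] [Smooth (X ↘ Spec (CommRingCat.of k))]
    [GeometricallyIntegral (X ↘ Spec (CommRingCat.of k))] (hdim : topologicalKrullDim ↥X = 1)
    (hg : Curv2.genus k X = 1) (O : Spec (CommRingCat.of k) ⟶ X) (hO : O ≫ (X ↘ Spec (CommRingCat.of k)) = 𝟙 _)
    (T : ShortComplex X.Modules) (hT : T.ShortExact)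
    (e₁ : T.X₁ ≅ Coh.structureModule X) (e₃ : T.X₃ ≅ Coh.structureModule X) (hns : ¬ IsSplitEpi T.g)
    (L : X.Modules) (hL : PicF.IsInvertible L) (hdeg : Curv2.deg k X L 1 = 0) :
    Nat.card (Aut (Coh.structureModule X ⊞ T.X₂)) = (Nat.card k - 1) ^ 2 * Nat.card k ^ 3 ∧
    (¬ Nonempty (L ≅ Coh.structureModule X) →
      Nat.card (Aut (Coh.structureModule X ⊞ CohB1.tensorMod L T.X₂)) = (Nat.card k - 1) ^ 2 * Nat.card k) := by
  haveI : Subsingleton ↥(Spec (CommRingCat.of k)) := inferInstanceAs (Subsingleton (PrimeSpectrum k))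
  haveI : IsIntegral X := GeometricallyIntegral.isIntegral_of_subsingleton (f := X ↘ Spec (CommRingCat.of k))
  haveI := Groth.Agent.VBLib.isRegCurve_of_smooth k (X := X) hdim.le
  haveI := Groth.Agent.EulerIneqLib.isNoetherian_proper (X := X) k
  have hO := Groth.Agent.ParaFLib.isInvertible_structureModule (X := X)
  have hd : Curv2.deg k X (Coh.structureModule X) 1 = 0 := Groth.Agent.CurveLib.deg_structureModule
  have hEnd := Groth.Agent.VBLib.AutCount.bijective_cstHom k hdim hg hO
  let i : Coh.structureModule X ⟶ T.X₂ := e₁.inv ≫ T.f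
  let p : T.X₂ ⟶ Coh.structureModule X := T.g ≫ e₃.hom
  have w : i ≫ p = 0 := by simp [i, p]
  have hS : (ShortComplex.mk i p w).ShortExact :=
    ShortComplex.shortExact_of_iso (show T ≅ ShortComplex.mk i p w from
      ShortComplex.isoMk e₁ (Iso.refl T.X₂) e₃ (by simp [i]) (by simp [p])) hT
  have hns' : ¬ IsSplitEpi p := fun hsp => hns (by
    obtain ⟨⟨σ, hσ⟩⟩ := hsp
    refine ⟨⟨⟨e₃.hom ≫ σ, ?_⟩⟩⟩
    rw [← cancel_mono e₃.hom, Category.assoc, Category.assoc, hσ, Category.comp_id, Category.id_comp])
  refine ⟨Groth.Agent.VBLib.AutCount.card_aut_structure_selfExt k hS hns' hEnd, fun hne => ?_⟩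
  have hne' : ¬ Nonempty (Coh.structureModule X ≅ L) := fun ⟨e⟩ => hne ⟨e.symm⟩
  obtain ⟨N, hN, ⟨η⟩⟩ := Groth.Agent.AmpleEmb.exists_isInverseOf hL
  haveI := Groth.Agent.VBLib.isEquivalence_tensR η
  have hU := Groth.Agent.CurveLib.shortExact_tensR hS (Groth.Agent.CurveLib.freeAt_one_of_isInvertible hL)
  haveI := hU.mono_f
  haveI := hU.epi_g
  let u : (Groth.Agent.CurveLib.tensR L).obj (Coh.structureModule X) ≅ L := Groth.Agent.CurveLib.tmodUnit L
  let G : X.Modules := (Groth.Agent.CurveLib.tensR L).obj T.X₂
  let c : CohB1.tensorMod L T.X₂ ≅ G := Groth.Agent.AmpleLib.comm L T.X₂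
  have hG1 : ∀ f : Coh.structureModule X ⟶ G, f = 0 := fun f => by
    have h1 : f ≫ (Groth.Agent.CurveLib.tensR L).map p = 0 := by
      rw [← cancel_mono u.hom, zero_comp, Groth.Agent.VBLib.AutCount.hom_eq_zero k hdim hO hL
        (by rw [hd, hdeg]) hne' ((f ≫ (Groth.Agent.CurveLib.tensR L).map p) ≫ u.hom)]
    have h3 : hU.exact.lift f h1 = 0 := by
      rw [← cancel_mono u.hom, zero_comp]
      exact Groth.Agent.VBLib.AutCount.hom_eq_zero k hdim hO hL (by rw [hd, hdeg]) hne' _
    rw [← hU.exact.lift_f f h1, h3, zero_comp]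
  have hG2 : ∀ g : G ⟶ Coh.structureModule X, g = 0 := fun g => by
    have h1 : (Groth.Agent.CurveLib.tensR L).map i ≫ g = 0 := by
      rw [← cancel_epi u.inv, comp_zero]
      exact Groth.Agent.VBLib.AutCount.hom_eq_zero k hdim hL hO (by rw [hd, hdeg]) hne _
    have h3 : hU.exact.desc g h1 = 0 := by
      rw [← cancel_epi u.inv, comp_zero]
      exact Groth.Agent.VBLib.AutCount.hom_eq_zero k hdim hL hO (by rw [hd, hdeg]) hne _
    rw [← hU.exact.g_desc g h1, h3, comp_zero]
  rw [Groth.Agent.VBLib.AutCount.card_aut_iso (biprod.mapIso (Iso.refl (Coh.structureModule X)) c),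
    Groth.Agent.VBLib.AutCount.card_aut_biprod hG1 hG2,
    Groth.Agent.VBLib.AutCount.card_aut_scalar (Groth.Agent.VBLib.AutCount.endLine k hdim hg hO),
    show Nat.card (Aut G) = Nat.card (Aut T.X₂) from Nat.card_congr
      ((Functor.FullyFaithful.ofFullyFaithful (Groth.Agent.CurveLib.tensR L)).autMulEquivOfFullyFaithful (X := T.X₂)).symm.toEquiv,
    Groth.Agent.VBLib.AutCount.card_aut_selfExt k hS hns' hEnd]
  ring

end Groth.Agent.S18788
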