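import Groth.Statements.S18789
import Mathlib

set_option autoImplicit false
universe u v w x
open TorusGr

namespace Groth.Agent.S18789

open DirectSum
open scoped Pointwise

theorem comp_smul {k : Type u} [Field k] {M : Type v} [AddCommGroup M] [DecidableEq M]
    {A : Type w} [CommRing A] [Algebra k A] (𝒜 : M → Submodule k A) [GradedAlgebra 𝒜]
    {P : Type x} [AddCommGroup P] [Module A P] [Module k P] [IsScalarTower k A P]
    (ℳ : M → Submodule k P) [Decomposition ℳ] [SetLike.GradedSMul 𝒜 ℳ]
    (a : A) {e : M} {y : P} (hy : y ∈ ℳ e) (d : M) :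
    (decompose ℳ (a • y) (d + e) : P) = (decompose 𝒜 a d : A) • y := by
  refine DirectSum.Decomposition.inductionOn 𝒜 (motive := fun a : A => (decompose ℳ (a • y) (d + e) : P) = (decompose 𝒜 a d : A) • y)
    (by simp) (fun {l} z => ?_) (fun a b ha hb => by simp [add_smul, ha, hb]) a
  have hz : (z : A) • y ∈ ℳ (l + e) := SetLike.GradedSMul.smul_mem z.2 hy
  rcases eq_or_ne l d with rfl | hl
  · rw [decompose_of_mem_same ℳ hz, decompose_of_mem_same 𝒜 z.2]
  · rw [decompose_of_mem_ne ℳ hz fun h => hl (add_right_cancel h), decompose_of_mem_ne 𝒜 z.2 hl, zero_smul]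

open DirectSum in
/-- Let `A` be a commutative algebra over a field `k`, graded by an additive commutative group `M` (for
`M` the character group of a split torus `T` this is a `T`-action on `Spec A`, and an `M`-graded
`A`-module is a `T`-equivariant quasi-coherent sheaf), let `P` be a finitely generated projective
`A`-module with a compatible `M`-grading (a locally free `T`-sheaf of finite rank), and let `m` be a
homogeneous maximal ideal with residue field `k` (a `T`-fixed rational point). If homogeneous
elements `f i` of `P` reduce to a basis of `P/mP`, then there is a homogeneous `s ∉ m` such that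
after inverting `s` the `f i` generate `P` and every relation among them is killed by a power of
`s`: on the invariant open `D(s)` the module is free on the homogeneous sections `f i`, with the
weights of the fibre `P/mP`. (The published statement has `M ≅ ℤ^r`, a split torus; here `M` is any
additive commutative group, i.e. any diagonalizable group.) -/
theorem result
    {k : Type u} [Field k] {M : Type v} [AddCommGroup M] [DecidableEq M]
    {A : Type w} [CommRing A] [Algebra k A] (𝒜 : M → Submodule k A) [GradedAlgebra 𝒜]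
    {P : Type x} [AddCommGroup P] [Module A P] [Module k P] [IsScalarTower k A P]
    (ℳ : M → Submodule k P) [Decomposition ℳ] [SetLike.GradedSMul 𝒜 ℳ]
    [Module.Finite A P] [Module.Projective A P]
    (m : Ideal A) [m.IsMaximal] (hm : m.IsHomogeneous 𝒜)
    (hrat : Function.Surjective (algebraMap k (A ⧸ m)))
    {n : ℕ} (wt : Fin n → M) (f : Fin n → P) (hf : ∀ i, f i ∈ ℳ (wt i))
    (hli : LinearIndependent (A ⧸ m)
      (fun i => (Submodule.Quotient.mk (f i) : P ⧸ (m • (⊤ : Submodule A P)))))
    (hsp : Submodule.span A (Set.range f) ⊔ m • (⊤ : Submodule A P) = ⊤) :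
    ∃ s : A, SetLike.IsHomogeneousElem 𝒜 s ∧ s ∉ m ∧
      (∀ p : P, ∃ (N : ℕ) (c : Fin n → A), s ^ N • p = ∑ i, c i • f i) ∧
      (∀ c : Fin n → A, ∑ i, c i • f i = 0 → ∃ N : ℕ, ∀ i, s ^ N * c i = 0) := by
  classical
  have comp : ∀ (a : A) {e : M} {y : P}, y ∈ ℳ e → ∀ d, (decompose ℳ (a • y) (d + e) : P) = (decompose 𝒜 a d : A) • y :=
    fun a _ _ hy d => comp_smul 𝒜 ℳ a hy d
  let π : (Fin n → A) →ₗ[A] P := Fintype.linearCombination A f
  have hπ : ∀ c, π c = ∑ i, c i • f i := fun c => rfl
  have hrange : LinearMap.range π = Submodule.span A (Set.range f) := Fintype.range_linearCombination A f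
  obtain ⟨s1, hs1, hgen⟩ : ∃ r : A, r - 1 ∈ m ∧ r • (⊤ : Submodule A P) ≤ Submodule.span A (Set.range f) :=
    Submodule.exists_sub_one_mem_and_smul_le_of_fg_of_le_sup Module.Finite.fg_top le_top hsp.ge
  have hs1m : s1 ∉ m := fun h => Ideal.IsMaximal.ne_top ‹_› ((Ideal.eq_top_iff_one _).2 (by simpa using m.sub_mem h hs1))
  have hgen' : ∀ p : P, s1 • p ∈ LinearMap.range π := fun p => hrange ▸ hgen (Submodule.smul_mem_pointwise_smul p s1 ⊤ trivial)
  obtain ⟨σ, hσ⟩ := Module.projective_lifting_property π.rangeRestrict ((s1 • LinearMap.id).codRestrict (LinearMap.range π) hgen')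
    (LinearMap.surjective_rangeRestrict π)
  have hσ' : ∀ p, π (σ p) = s1 • p := fun p => congrArg Subtype.val (LinearMap.congr_fun hσ p)
  have hK : ∀ c, π c = 0 → ∀ i, c i ∈ m := by
    intro c hc i
    have h1 : ∑ i, (Ideal.Quotient.mk m (c i)) • (Submodule.Quotient.mk (f i) : P ⧸ (m • (⊤ : Submodule A P))) = 0 := by
      have := congrArg (Submodule.mkQ (m • (⊤ : Submodule A P))) hc
      rw [hπ, map_sum, map_zero] at this
      exact this
    exact Ideal.Quotient.eq_zero_iff_mem.1 (Fintype.linearIndependent_iff.1 hli _ h1 i)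
  let L : (Fin n → A) →ₗ[A] (Fin n → A) := s1 • LinearMap.id - σ ∘ₗ π
  have hLK : ∀ c, π (L c) = 0 := fun c => by simp [L, hσ']
  have hLfix : ∀ c, π c = 0 → L c = s1 • c := fun c hc => by simp [L, hc]
  obtain ⟨r, hr, hr0⟩ := Submodule.exists_sub_one_mem_and_smul_eq_zero_of_fg_of_le_smul m (LinearMap.range L)
    (by rw [LinearMap.range_eq_map]; exact Module.Finite.fg_top.map _) (by
      rintro _ ⟨c, rfl⟩
      have h1 : L c ∈ m • (⊤ : Submodule A (Fin n → A)) := by
        rw [pi_eq_sum_univ (L c)]
        exact Submodule.sum_mem _ fun i _ => Submodule.smul_mem_smul (hK _ (hLK c) i) trivial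
      have h2 : s1 • L c ∈ m • LinearMap.range L := by
        rw [← hLfix _ (hLK c), LinearMap.range_eq_map, ← Submodule.map_smul'']
        exact Submodule.mem_map_of_mem h1
      rw [show L c = s1 • L c + (1 - s1) • L c by rw [← add_smul]; simp]
      exact Submodule.add_mem _ h2 (Submodule.smul_mem_smul (by rw [← neg_sub]; exact m.neg_mem hs1) ⟨c, rfl⟩))
  let t := r * s1
  have htK : ∀ c, π c = 0 → ∀ i, t * c i = 0 := fun c hc i => by
    have := hr0 (L c) ⟨c, rfl⟩
    rw [hLfix c hc] at this
    simpa [t, mul_assoc] using congrFun this i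
  have htm : t ∉ m := fun h => (Ideal.IsMaximal.isPrime ‹_›).mem_or_mem h |>.elim
    (fun h => Ideal.IsMaximal.ne_top ‹_› ((Ideal.eq_top_iff_one _).2 (by simpa using m.sub_mem h hr))) hs1m
  obtain ⟨d, hd⟩ : ∃ d, (decompose 𝒜 t d : A) ∉ m := by
    by_contra hc
    push Not at hc
    refine htm ?_
    rw [← sum_support_decompose 𝒜 t]
    exact m.sum_mem fun i _ => hc i
  refine ⟨_, ⟨d, (decompose 𝒜 t d).2⟩, hd, fun p => ?_, fun c hc => ⟨1, fun i => ?_⟩⟩
  · have hM : ∀ x ∈ Submodule.span A (Set.range f), ∀ e, (decompose ℳ x e : P) ∈ Submodule.span A (Set.range f) := by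
      intro x hx e
      obtain ⟨c, rfl⟩ := hrange.ge hx
      rw [hπ, decompose_sum, DFinsupp.finsetSum_apply, AddSubmonoidClass.coe_finsetSum]
      refine Submodule.sum_mem _ fun i _ => ?_
      rw [show e = (e - wt i) + wt i by abel, comp (c i) (hf i)]
      exact Submodule.smul_mem _ _ (Submodule.subset_span ⟨i, rfl⟩)
    have hp : (decompose 𝒜 t d : A) • p ∈ Submodule.span A (Set.range f) := by
      refine DirectSum.Decomposition.inductionOn ℳ (motive := fun p : P => (decompose 𝒜 t d : A) • p ∈ Submodule.span A (Set.range f))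
        (by simp) (fun {e} y => ?_) (fun a b ha hb => by rw [smul_add]; exact Submodule.add_mem _ ha hb) p
      rw [← comp t y.2 d]
      refine hM _ ?_ _
      rw [mul_smul]
      exact Submodule.smul_mem _ _ (hrange ▸ hgen' y.1)
    obtain ⟨c, hc⟩ := hrange.ge hp
    exact ⟨1, c, by rw [pow_one, ← hπ, hc]⟩
  · rw [pow_one]
    have hgr : ∀ g : M, (decompose 𝒜 t d : A) * (decompose 𝒜 (c i) g : A) = 0 := by
      intro g
      let cg : Fin n → A := fun j => (decompose 𝒜 (c j) (g + wt i - wt j) : A)
      have hcg : π cg = 0 := by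
        have := congrArg (fun x => (decompose ℳ x (g + wt i) : P)) hc
        simp only [decompose_zero, DirectSum.zero_apply, ZeroMemClass.coe_zero] at this
        rw [decompose_sum, DFinsupp.finsetSum_apply, AddSubmonoidClass.coe_finsetSum] at this
        rw [hπ, ← this]
        refine Finset.sum_congr rfl fun j _ => ?_
        rw [← comp (c j) (hf j) (g + wt i - wt j), sub_add_cancel]
      have h0 := htK cg hcg i
      have e : (decompose 𝒜 (c i) (g + wt i - wt i) : A) = (decompose 𝒜 (c i) g : A) := by rw [add_sub_cancel_right]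
      simp only [cg, e] at h0
      have h2 := congrArg (fun x => (decompose 𝒜 x (d + g) : A)) h0
      simp only [decompose_zero, DirectSum.zero_apply, ZeroMemClass.coe_zero] at h2
      rwa [DirectSum.coe_decompose_mul_add_of_right_mem 𝒜 (decompose 𝒜 (c i) g).2] at h2
    rw [← sum_support_decompose 𝒜 (c i), Finset.mul_sum]
    exact Finset.sum_eq_zero fun g _ => hgr g

end Groth.Agent.S18789
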