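import Groth.Statements.S18790
import Mathlib

set_option autoImplicit false
universe u v w
open TorusGr

namespace Groth.Agent.S18790

/-- Let `A` be a commutative algebra over a field `k`, graded by an additive commutative group `M` (for
`M` the character group of a split torus `T`, a `T`-action on `Spec A`), let `J` be the ideal
generated by the homogeneous elements of non-zero degree (its zero locus is the fixed-point
subscheme) and let `m ⊇ J` be a maximal ideal with residue field `k` (a fixed rational point) at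
which the fixed-point subscheme is the reduced point: `J` and `m` agree after localizing at `m`.
Then the cotangent space `m/m²` has no part of weight zero: every degree-zero element of `m` lies in
`m²`. (The published statement has `M ≅ ℤ^r`, a split torus, and phrases the conclusion as the
non-vanishing of the weights of a semi-invariant basis of `m/m²`; here `M` is any additive
commutative group, i.e. any diagonalizable group.) -/
theorem result
    {k : Type u} [Field k] {M : Type v} [AddCommGroup M] [DecidableEq M]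
    {A : Type w} [CommRing A] [Algebra k A] (𝒜 : M → Submodule k A) [GradedAlgebra 𝒜]
    (m : Ideal A) [m.IsMaximal] (hrat : Function.Surjective (algebraMap k (A ⧸ m)))
    (hfix : ∀ i : M, i ≠ 0 → ∀ a ∈ 𝒜 i, a ∈ m)
    (hred : ∀ a ∈ m, ∃ s ∉ m, s * a ∈ Ideal.span {b : A | ∃ i : M, i ≠ 0 ∧ b ∈ 𝒜 i})
    {f : A} (hf0 : f ∈ 𝒜 0) (hfm : f ∈ m) : f ∈ m ^ 2 := by
  classical
  obtain ⟨s, hs, hsf⟩ := hred f hfm
  have hproj : ∀ x ∈ Ideal.span {b : A | ∃ i : M, i ≠ 0 ∧ b ∈ 𝒜 i},
      ((DirectSum.decompose 𝒜 x) 0 : A) ∈ m ^ 2 := by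
    intro x hx
    obtain ⟨ι, t, g, rfl⟩ : ∃ (n : ℕ) (t : Fin n → A) (g : Fin n → {b : A | ∃ i : M, i ≠ 0 ∧ b ∈ 𝒜 i}),
        ∑ j, t j • (g j : A) = x := Submodule.mem_span_set'.1 hx
    rw [DirectSum.decompose_sum, DFinsupp.finsetSum_apply, AddSubmonoidClass.coe_finsetSum]
    refine Ideal.sum_mem _ fun j _ => ?_
    obtain ⟨i, hi, hb⟩ := (g j).2
    have e := DirectSum.coe_decompose_mul_add_of_right_mem 𝒜 (i := -i) (j := i) (a := t j) hb
    rw [neg_add_cancel] at e
    rw [smul_eq_mul, e, pow_two]
    exact Ideal.mul_mem_mul (hfix (-i) (neg_ne_zero.2 hi) _ (DirectSum.decompose 𝒜 (t j) (-i)).2)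
      (hfix i hi _ hb)
  have h1 := hproj _ hsf
  rw [DirectSum.coe_decompose_mul_of_right_mem_zero 𝒜 hf0] at h1
  set s0 := ((DirectSum.decompose 𝒜 s) 0 : A) with hs0
  have hs0m : s0 ∉ m := by
    intro h
    apply hs
    rw [← DirectSum.sum_support_decompose 𝒜 s]
    refine Ideal.sum_mem _ fun i _ => ?_
    by_cases hi : i = 0
    · subst hi; exact h
    · exact hfix i hi _ (DirectSum.decompose 𝒜 s i).2
  obtain ⟨a, μ, hμ, hsum⟩ := ‹m.IsMaximal›.exists_inv hs0m
  have : f = a * (s0 * f) + μ * f := by linear_combination (-f) * hsum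
  rw [this]
  refine Ideal.add_mem _ (Ideal.mul_mem_left _ _ h1) ?_
  rw [pow_two]
  exact Ideal.mul_mem_mul hμ hfm

end Groth.Agent.S18790
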