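import Groth.Statements.S18791
import Mathlib

set_option autoImplicit false
universe u v w x
open TorusGr

namespace Groth.Agent.S18791

/-- Let `φ : B → A` be a degree-preserving homomorphism of commutative algebras over a field `k` graded
by an additive commutative group `M` (for `M` the character group of a split torus, an equivariant
morphism `Spec A → Spec B`), and let `m` be a maximal ideal of `A` containing all homogeneous
elements of non-zero degree (a fixed point). Then the ideal of those `b` whose image is zero in the
local ring `A_m` is homogeneous: the homogeneous (weight) components of such a `b` again die in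
`A_m`. Since `A_m` embeds in its completion when `A` is Noetherian, these are the elements of `B`
that die in the completed local ring. (The published lemma asserts moreover that, for `B = k[Y_1, …,
Y_d]` mapping the `Y_i` to semi-invariant lifts of a basis of `m/m²`, the kernel of the induced
surjection of completions `k[[Y]] → Â_m` is generated by semi-invariant polynomials; generation of
that kernel by polynomials can fail, so only the statement about polynomial elements of the kernel
is recorded here. The published statement has `M ≅ ℤ^r` (a split torus) and `B` the polynomial ring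
on the lifts; here `M` is any additive commutative group and `B` any `M`-graded `k`-algebra.) -/
theorem result
    {k : Type u} [Field k] {M : Type v} [AddCommGroup M] [DecidableEq M]
    {A : Type w} [CommRing A] [Algebra k A] (𝒜 : M → Submodule k A) [GradedAlgebra 𝒜]
    {B : Type x} [CommRing B] [Algebra k B] (ℬ : M → Submodule k B) [GradedAlgebra ℬ]
    (φ : B →ₐ[k] A) (hφ : ∀ i : M, ∀ b ∈ ℬ i, φ b ∈ 𝒜 i)
    (m : Ideal A) [m.IsMaximal] (hfix : ∀ i : M, i ≠ 0 → ∀ a ∈ 𝒜 i, a ∈ m) :
    (RingHom.ker ((algebraMap A (Localization.AtPrime m)).comp (φ : B →+* A))).IsHomogeneous ℬ := by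
  classical
  intro i₀ b hb
  rw [RingHom.mem_ker] at hb ⊢
  simp only [RingHom.comp_apply, RingHom.coe_coe] at hb ⊢
  set L := Localization.AtPrime m
  obtain ⟨⟨s, hs⟩, hsb⟩ := (IsLocalization.map_eq_zero_iff m.primeCompl L _).1 hb
  set S := (DirectSum.decompose ℬ b).support with hS
  let c : M → A := fun j => φ (DirectSum.decompose ℬ b j : B)
  have hc : ∀ j, c j ∈ 𝒜 j := fun j => hφ j _ (DirectSum.decompose ℬ b j).2
  have hsum : φ b = ∑ j ∈ S, c j := by
    conv_lhs => rw [← DirectSum.sum_support_decompose ℬ b]
    rw [map_sum]
  let d : M → A := fun j => (DirectSum.decompose 𝒜 s j : A)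
  have hcomp : ∀ i, ∑ j ∈ S, d (i - j) * c j = 0 := by
    intro i
    have h0 : (DirectSum.decompose 𝒜 (s * φ b) i : A) = 0 := by
      have : s * φ b = 0 := hsb
      rw [this, DirectSum.decompose_zero]; simp
    rw [hsum, Finset.mul_sum, DirectSum.decompose_sum, DFinsupp.finsetSum_apply,
      AddSubmonoidClass.coe_finsetSum] at h0
    rw [← h0]
    refine Finset.sum_congr rfl fun j _ => ?_
    have e := DirectSum.coe_decompose_mul_add_of_right_mem 𝒜 (i := i - j) (j := j) (a := s) (hc j)
    rw [sub_add_cancel] at e
    exact e.symm
  have hd0 : d 0 ∉ m := by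
    intro h
    apply hs
    rw [← DirectSum.sum_support_decompose 𝒜 s]
    refine Ideal.sum_mem _ fun i _ => ?_
    by_cases hi : i = 0
    · subst hi; exact h
    · exact hfix i hi _ (DirectSum.decompose 𝒜 s i).2
  let I : Ideal L := Ideal.span (((S.image fun j => algebraMap A L (c j)) : Finset L) : Set L)
  have hI : I ≤ IsLocalRing.maximalIdeal L • I := by
    refine Ideal.span_le.2 ?_
    intro y hy
    rw [Finset.coe_image] at hy
    obtain ⟨i, hi, rfl⟩ := hy
    have h1 := hcomp i
    rw [← Finset.add_sum_erase _ _ hi, sub_self, add_eq_zero_iff_eq_neg] at h1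
    have h2 : algebraMap A L (d 0) * algebraMap A L (c i) ∈ IsLocalRing.maximalIdeal L • I := by
      rw [← map_mul, h1, map_neg, map_sum]
      refine neg_mem (Submodule.sum_mem _ fun j hj => ?_)
      rw [Finset.mem_erase] at hj
      rw [map_mul, ← smul_eq_mul]
      refine Submodule.smul_mem_smul ?_ (Ideal.subset_span ?_)
      · exact (IsLocalization.AtPrime.to_map_mem_maximal_iff L m _).2
          (hfix _ (sub_ne_zero.2 hj.1.symm) _ (DirectSum.decompose 𝒜 s (i - j)).2)
      · exact Finset.mem_coe.2 (Finset.mem_image_of_mem _ hj.2)
    obtain ⟨v, hv⟩ := IsLocalization.map_units L (⟨d 0, hd0⟩ : m.primeCompl)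
    have h3 := Submodule.smul_mem _ (↑v⁻¹ : L) h2
    have e : (↑v⁻¹ : L) • (algebraMap A L (d 0) * algebraMap A L (c i)) = algebraMap A L (c i) := by
      rw [smul_eq_mul, ← mul_assoc, ← (show (v : L) = algebraMap A L (d 0) from hv), Units.inv_mul, one_mul]
    rw [e] at h3
    exact h3
  have hbot : I = ⊥ := Submodule.eq_bot_of_le_smul_of_le_jacobson_bot _ I
    ⟨S.image fun j => algebraMap A L (c j), rfl⟩ hI
    (by rw [IsLocalRing.jacobson_eq_maximalIdeal ⊥ bot_ne_top])
  by_cases hi : i₀ ∈ S
  · have : algebraMap A L (c i₀) ∈ I := Ideal.subset_span (Finset.mem_coe.2 (Finset.mem_image_of_mem _ hi))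
    rw [hbot] at this
    simpa [c] using this
  · rw [hS, DFinsupp.notMem_support_iff] at hi
    simp [hi]

end Groth.Agent.S18791
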