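import Groth.Statements.S18794
import Mathlib

set_option autoImplicit false
universe u v w
open scoped TensorProduct
open DefMod

namespace Groth.Agent.S18794

/-- Let E be a left module over an associative algebra D over a field K of characteristic zero. For a
field extension L of K, the base change L ⊗_K E is a module over L ⊗_K D, i.e. an L-vector space
with a commuting action of D; call it irreducible when it is nonzero and its only L-subspaces stable
under every element of D are 0 and the whole space. Then E is absolutely irreducible (its base
change to an algebraic closure of K is irreducible) if and only if L ⊗_K E is irreducible for every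
finite extension L of K. (Finite extensions are taken in the universe of K.) -/
theorem result
    {K : Type u} [Field K] [CharZero K]
    {D : Type v} [Ring D] [Algebra K D]
    {E : Type w} [AddCommGroup E] [Module K E] [Module D E] [IsScalarTower K D E] :
    (Nontrivial (AlgebraicClosure K ⊗[K] E) ∧ ∀ N : Submodule (AlgebraicClosure K) (AlgebraicClosure K ⊗[K] E), (∀ (d : D) (x : AlgebraicClosure K ⊗[K] E), x ∈ N → (DistribSMul.toLinearMap K E d).baseChange (AlgebraicClosure K) x ∈ N) → N = ⊥ ∨ N = ⊤) ↔
      ∀ (L : Type u) [Field L] [Algebra K L] [FiniteDimensional K L],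
        (Nontrivial (L ⊗[K] E) ∧ ∀ N : Submodule (L) (L ⊗[K] E), (∀ (d : D) (x : L ⊗[K] E), x ∈ N → (DistribSMul.toLinearMap K E d).baseChange (L) x ∈ N) → N = ⊥ ∨ N = ⊤) := by
  classical
  let T : D → (E →ₗ[K] E) := fun d => DistribSMul.toLinearMap K E d
  constructor
  · rintro ⟨hnt, hirr⟩ L _ _ _
    haveI hE : Nontrivial E := by
      by_contra h
      rw [not_nontrivial_iff_subsingleton] at h
      exact not_subsingleton (AlgebraicClosure K ⊗[K] E) inferInstance
    refine ⟨?_, fun N hN => or_iff_not_imp_left.2 fun hne => ?_⟩
    · obtain ⟨e, he⟩ := exists_ne (0 : E)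
      refine ⟨⟨(1 : L) ⊗ₜ[K] e, 0, fun h => he ?_⟩⟩
      have hinj := Module.Flat.rTensor_preserves_injective_linearMap (M := E) (Algebra.linearMap K L) (algebraMap K L).injective
      exact (TensorProduct.lid K E).symm.injective (hinj (by simpa using h))
    letI : Algebra L (AlgebraicClosure K) := (IsAlgClosed.lift : L →ₐ[K] AlgebraicClosure K).toRingHom.toAlgebra
    haveI : IsScalarTower K L (AlgebraicClosure K) :=
      IsScalarTower.of_algebraMap_eq fun x => ((IsAlgClosed.lift : L →ₐ[K] AlgebraicClosure K).commutes x).symm
    obtain ⟨π, hπ⟩ := LinearMap.exists_leftInverse_of_injective (Algebra.linearMap L (AlgebraicClosure K))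
      (LinearMap.ker_eq_bot.2 (algebraMap L (AlgebraicClosure K)).injective)
    let P : AlgebraicClosure K ⊗[K] E →ₗ[L] L ⊗[K] E := TensorProduct.AlgebraTensorModule.map π LinearMap.id
    let J : L ⊗[K] E →ₗ[L] AlgebraicClosure K ⊗[K] E :=
      TensorProduct.AlgebraTensorModule.map (Algebra.linearMap L (AlgebraicClosure K)) LinearMap.id
    have hPJ : ∀ x, P (J x) = x := fun x => by
      induction x using TensorProduct.induction_on with
      | zero => simp
      | tmul a e =>
        have h1 : π (algebraMap L (AlgebraicClosure K) a) = a := LinearMap.congr_fun hπ a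
        simp [P, J, h1]
      | add y z hy hz => simp [hy, hz]
    have hcomm : ∀ d x, (T d).baseChange (AlgebraicClosure K) (J x) = J ((T d).baseChange L x) := fun d x => by
      induction x using TensorProduct.induction_on with
      | zero => simp
      | tmul a e => simp [J]
      | add y z hy hz => simp [hy, hz]
    let M : Submodule (AlgebraicClosure K) (AlgebraicClosure K ⊗[K] E) := Submodule.span _ (J '' (N : Set (L ⊗[K] E)))
    have hM : M = ⊤ := by
      refine (hirr M fun d x hx => ?_).resolve_left fun h => hne (eq_bot_iff.2 fun x hx => ?_)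
      · induction hx using Submodule.span_induction with
        | mem y hy =>
          obtain ⟨z, hz, rfl⟩ := hy
          exact Submodule.subset_span ⟨_, hN d z hz, (hcomm d z).symm⟩
        | zero => simp
        | add y z _ _ hy hz => rw [map_add]; exact add_mem hy hz
        | smul c y _ hy => rw [map_smul]; exact Submodule.smul_mem _ c hy
      · have : J x ∈ M := Submodule.subset_span ⟨x, hx, rfl⟩
        rw [h, Submodule.mem_bot] at this
        rw [Submodule.mem_bot, ← hPJ x, this, map_zero]
    refine eq_top_iff.2 fun x _ => ?_
    have key : ∀ y ∈ M, ∀ c : AlgebraicClosure K, P (c • y) ∈ N := fun y hy => by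
      induction hy using Submodule.span_induction with
      | mem y hy =>
        obtain ⟨z, hz, rfl⟩ := hy
        intro c
        suffices P (c • J z) = π c • z from this ▸ N.smul_mem _ hz
        clear hz
        induction z using TensorProduct.induction_on with
        | zero => simp
        | tmul a e =>
          simp only [J, P, TensorProduct.AlgebraTensorModule.map_tmul, LinearMap.id_apply, TensorProduct.smul_tmul',
            Algebra.linearMap_apply, smul_eq_mul]
          rw [mul_comm c, ← Algebra.smul_def, map_smul, smul_eq_mul, mul_comm]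
        | add y z hy hz => simp [hy, hz]
      | zero => simp
      | add y z _ _ hy hz => intro c; rw [smul_add, map_add]; exact add_mem (hy c) (hz c)
      | smul c' y _ hy => intro c; rw [smul_smul]; exact hy _
    simpa [hPJ] using key (J x) (hM ▸ Submodule.mem_top) 1
  · intro h
    haveI hE : Nontrivial E := by
      by_contra h'
      rw [not_nontrivial_iff_subsingleton] at h'
      haveI := (h K).1
      exact not_subsingleton (K ⊗[K] E) inferInstance
    refine ⟨?_, fun N hN => or_iff_not_imp_left.2 fun hne => ?_⟩
    · obtain ⟨e, he⟩ := exists_ne (0 : E)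
      refine ⟨⟨(1 : AlgebraicClosure K) ⊗ₜ[K] e, 0, fun h => he ?_⟩⟩
      have hinj := Module.Flat.rTensor_preserves_injective_linearMap (M := E) (Algebra.linearMap K (AlgebraicClosure K))
        (algebraMap K (AlgebraicClosure K)).injective
      exact (TensorProduct.lid K E).symm.injective (hinj (by simpa using h))
    obtain ⟨x, hx, hx0⟩ := Submodule.exists_mem_ne_zero_of_ne_bot hne
    obtain ⟨s, hs⟩ := TensorProduct.exists_finset x
    let L : IntermediateField K (AlgebraicClosure K) := IntermediateField.adjoin K ((s.image Prod.fst : Finset (AlgebraicClosure K)) : Set (AlgebraicClosure K))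
    haveI : FiniteDimensional K L := IntermediateField.finiteDimensional_adjoin fun y _ => Algebra.IsIntegral.isIntegral y
    let J : L ⊗[K] E →ₗ[L] AlgebraicClosure K ⊗[K] E :=
      TensorProduct.AlgebraTensorModule.map (Algebra.linearMap L (AlgebraicClosure K)) LinearMap.id
    have hJ : ∀ (a : L) (e : E), J (a ⊗ₜ[K] e) = (a : AlgebraicClosure K) ⊗ₜ[K] e := fun _ _ => rfl
    have hcomm : ∀ d x, (T d).baseChange (AlgebraicClosure K) (J x) = J ((T d).baseChange L x) := fun d x => by
      induction x using TensorProduct.induction_on with
      | zero => simp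
      | tmul a e => rw [hJ, LinearMap.baseChange_tmul, LinearMap.baseChange_tmul, hJ]
      | add y z hy hz => simp [hy, hz]
    let NL : Submodule L (L ⊗[K] E) := (N.restrictScalars L).comap J
    have hstab : ∀ (d : D) (y : L ⊗[K] E), y ∈ NL → (T d).baseChange L y ∈ NL := fun d y hy => by
      show J ((T d).baseChange L y) ∈ N
      rw [← hcomm]
      exact hN d _ hy
    have hxmem : x ∈ LinearMap.range J := by
      rw [hs]
      refine Submodule.sum_mem _ fun i hi => ⟨(⟨i.1, IntermediateField.subset_adjoin K _ (Finset.mem_coe.2 (Finset.mem_image_of_mem Prod.fst hi))⟩ : L) ⊗ₜ[K] i.2, ?_⟩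
      rw [hJ]
    obtain ⟨x', rfl⟩ := hxmem
    have hNL : NL = ⊤ := ((h L).2 NL hstab).resolve_left fun hbot => hx0 (by
      have : x' ∈ NL := hx
      rw [hbot, Submodule.mem_bot] at this
      rw [this, map_zero])
    refine eq_top_iff.2 fun z _ => ?_
    induction z using TensorProduct.induction_on with
    | zero => exact zero_mem _
    | tmul c e =>
      have h1 : J ((1 : L) ⊗ₜ[K] e) ∈ N := (hNL ▸ Submodule.mem_top : (1 : L) ⊗ₜ[K] e ∈ NL)
      have h2 := N.smul_mem c h1
      rw [hJ, TensorProduct.smul_tmul'] at h2
      simpa using h2
    | add y z hy hz => exact add_mem (hy trivial) (hz trivial)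

end Groth.Agent.S18794
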