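import Groth.Statements.S18795
import Mathlib

set_option autoImplicit false
universe u v w
open scoped TensorProduct
open DefMod

namespace Groth.Agent.S18795

open CategoryTheory CategoryTheory.Limits AlgebraicGeometry

theorem exists_eigen {L V : Type*} [Field L] [IsAlgClosed L] [AddCommGroup V] [Module L V] [Nontrivial V]
    (ψ : Module.End L V) (p : Polynomial L) (hp : p.Monic) (h : Polynomial.aeval ψ p = 0) :
    ∃ c : L, ∃ v, v ≠ 0 ∧ ψ v = c • v := by
  suffices key : ∀ s : Multiset L, Polynomial.aeval ψ ((s.map fun a => Polynomial.X - Polynomial.C a).prod) = 0 →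
      ∃ c : L, ∃ v, v ≠ 0 ∧ ψ v = c • v by
    refine key p.roots ?_
    rwa [← (IsAlgClosed.splits _).eq_prod_roots_of_monic hp]
  intro s
  induction s using Multiset.induction_on with
  | empty =>
    intro h
    simp only [Multiset.map_zero, Multiset.prod_zero, map_one] at h
    obtain ⟨v, hv⟩ := exists_ne (0 : V)
    exact absurd (LinearMap.congr_fun h v) hv
  | cons a s ih =>
    intro h
    rw [Multiset.map_cons, Multiset.prod_cons, map_mul] at h
    by_cases hz : Polynomial.aeval ψ ((s.map fun a => Polynomial.X - Polynomial.C a).prod) = 0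
    · exact ih hz
    · obtain ⟨w, hw⟩ := DFunLike.ne_iff.mp hz
      refine ⟨a, _, hw, ?_⟩
      have := LinearMap.congr_fun h w
      simpa [Module.End.mul_apply, sub_eq_zero, Algebra.algebraMap_eq_smul_one] using this

theorem baseChange_aeval {K : Type*} [Field K] (L : Type*) [Field L] [Algebra K L] {E : Type*}
    [AddCommGroup E] [Module K E] (ψ : Module.End K E) (p : Polynomial K) :
    (Polynomial.aeval ψ p).baseChange L = Polynomial.aeval (ψ.baseChange L) (p.map (algebraMap K L)) := by
  rw [Polynomial.aeval_map_algebraMap]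
  exact (Polynomial.aeval_algHom_apply (Module.End.baseChangeHom K L E) ψ p).symm

/-- Let E be a left module over an associative algebra D over a field K of characteristic zero. Assume
that the D-linear endomorphisms of E form a finite-dimensional K-vector space, that E has a finite
presentation over D, and that E is absolutely irreducible: its base change K̄ ⊗_K E to an algebraic
closure K̄ of K is nonzero and its only K̄-subspaces stable under every element of D are 0 and the
whole space. Then End_D(E) = K: every D-linear endomorphism of E is multiplication by a scalar from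
K. -/
theorem result
    {K : Type u} [Field K] [CharZero K]
    {D : Type v} [Ring D] [Algebra K D]
    {E : Type w} [AddCommGroup E] [Module K E] [Module D E] [IsScalarTower K D E]
    [Module.Finite K (E →ₗ[D] E)] [Module.FinitePresentation D E]
    (habs : (Nontrivial (AlgebraicClosure K ⊗[K] E) ∧ ∀ N : Submodule (AlgebraicClosure K) (AlgebraicClosure K ⊗[K] E), (∀ (d : D) (x : AlgebraicClosure K ⊗[K] E), x ∈ N → (DistribSMul.toLinearMap K E d).baseChange (AlgebraicClosure K) x ∈ N) → N = ⊥ ∨ N = ⊤))
    (φ : E →ₗ[D] E) : ∃ c : K, ∀ x : E, φ x = c • x := by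
  obtain ⟨hnt, hirr⟩ := habs
  have hE : Nontrivial E := by
    by_contra hc
    rw [not_nontrivial_iff_subsingleton] at hc
    exact not_nontrivial (TensorProduct K (AlgebraicClosure K) E) hnt
  obtain ⟨p, hp, hpφ⟩ := Algebra.IsIntegral.isIntegral (R := K) φ
  let ι : (E →ₗ[D] E) →ₐ[K] Module.End K E :=
    { toFun := fun θ => θ.restrictScalars K
      map_one' := rfl
      map_mul' := fun _ _ => rfl
      map_zero' := rfl
      map_add' := fun _ _ => rfl
      commutes' := fun _ => rfl }
  have hψ : Polynomial.aeval ((ι φ).baseChange (AlgebraicClosure K))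
      (p.map (algebraMap K (AlgebraicClosure K))) = 0 := by
    rw [← baseChange_aeval, Polynomial.aeval_algHom_apply, Polynomial.aeval_def, hpφ, map_zero,
      LinearMap.baseChange_zero]
  obtain ⟨c, v, hv0, hv⟩ := exists_eigen _ _ (hp.map _) hψ
  let N : Submodule (AlgebraicClosure K) (TensorProduct K (AlgebraicClosure K) E) :=
    LinearMap.ker ((ι φ).baseChange (AlgebraicClosure K) - c • LinearMap.id)
  have hN : ∀ (d : D) (x : TensorProduct K (AlgebraicClosure K) E), x ∈ N →
      (DistribSMul.toLinearMap K E d).baseChange (AlgebraicClosure K) x ∈ N := by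
    intro d x hx
    have hcomm : (ι φ).baseChange (AlgebraicClosure K) ∘ₗ (DistribSMul.toLinearMap K E d).baseChange (AlgebraicClosure K) =
        (DistribSMul.toLinearMap K E d).baseChange (AlgebraicClosure K) ∘ₗ (ι φ).baseChange (AlgebraicClosure K) := by
      rw [← LinearMap.baseChange_comp, ← LinearMap.baseChange_comp]
      congr 1
      ext e
      exact φ.map_smul d e
    simp only [N, LinearMap.mem_ker, LinearMap.sub_apply, LinearMap.smul_apply, LinearMap.id_apply, sub_eq_zero] at hx ⊢
    rw [← LinearMap.comp_apply ((ι φ).baseChange _), hcomm, LinearMap.comp_apply, hx, map_smul]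
  have hvN : v ∈ N := by simpa [N, sub_eq_zero] using hv
  rcases hirr N hN with h | h
  · rw [h] at hvN
    exact absurd ((Submodule.mem_bot _).mp hvN) hv0
  have hall : ∀ e : E, (1 : AlgebraicClosure K) ⊗ₜ[K] φ e = c • ((1 : AlgebraicClosure K) ⊗ₜ[K] e) := by
    intro e
    have he : (1 : AlgebraicClosure K) ⊗ₜ[K] e ∈ N := h ▸ Submodule.mem_top
    have he' := LinearMap.mem_ker.mp he
    rw [LinearMap.sub_apply, LinearMap.smul_apply, LinearMap.id_apply, sub_eq_zero] at he'
    rw [LinearMap.baseChange_tmul] at he'
    exact he'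
  obtain ⟨e₀, he₀⟩ := exists_ne (0 : E)
  obtain ⟨l, hl⟩ := Module.Projective.exists_dual_ne_zero K he₀
  obtain ⟨a, ha⟩ : ∃ a : K, algebraMap K (AlgebraicClosure K) a = c := by
    refine ⟨l (φ e₀) / l e₀, ?_⟩
    have := congrArg (fun z => TensorProduct.rid K (AlgebraicClosure K) (LinearMap.lTensor (AlgebraicClosure K) l z)) (hall e₀)
    simp [TensorProduct.smul_tmul', Algebra.smul_def] at this
    rw [map_div₀, div_eq_iff ((map_ne_zero _).mpr hl), this, mul_comm]
  refine ⟨a, fun e => ?_⟩
  have he := hall e
  rw [← ha, algebraMap_smul] at he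
  rw [← TensorProduct.tmul_smul] at he
  exact Module.FaithfullyFlat.tensorProduct_mk_injective E he

end Groth.Agent.S18795
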