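import Groth.Statements.S18796
import Mathlib

set_option autoImplicit false
universe u v w w' u'
open scoped TensorProduct
open DefMod

namespace Groth.Agent.S18796

/-- Let K be a field of characteristic zero, D an associative K-algebra, E a left D-module that is
finitely presented over D, F a left D-module and P a commutative K-algebra. The canonical P-linear
map Φ : P ⊗_K Hom_D(E, F) → Hom_P(P ⊗_K E, P ⊗_K F), determined by p ⊗ f ↦ p · (1_P ⊗ f), is
injective, and its image consists exactly of the P-linear maps that commute with the action of every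
element of D; in other words Φ identifies P ⊗_K Hom_D(E, F) with the module of homomorphisms P ⊗_K E
→ P ⊗_K F over P ⊗_K D. The map Φ is pinned here by its values on pure tensors. -/
theorem result
    {K : Type u} [Field K] [CharZero K]
    {D : Type v} [Ring D] [Algebra K D]
    {E : Type w} [AddCommGroup E] [Module K E] [Module D E] [IsScalarTower K D E]
    [Module.FinitePresentation D E]
    {F : Type w'} [AddCommGroup F] [Module K F] [Module D F] [IsScalarTower K D F]
    (P : Type u') [CommRing P] [Algebra K P]
    (Φ : P ⊗[K] (E →ₗ[D] F) →ₗ[P] (P ⊗[K] E →ₗ[P] P ⊗[K] F))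
    (hΦ : ∀ (p : P) (f : E →ₗ[D] F), Φ (p ⊗ₜ[K] f) = p • (f.restrictScalars K).baseChange P) :
    Function.Injective Φ ∧
      ∀ g : P ⊗[K] E →ₗ[P] P ⊗[K] F,
        g ∈ LinearMap.range Φ ↔
          ∀ d : D, g ∘ₗ (DistribSMul.toLinearMap K E d).baseChange P =
            (DistribSMul.toLinearMap K F d).baseChange P ∘ₗ g := by
  classical
  let b := Module.Free.chooseBasis K P
  let ι' := Module.Free.ChooseBasisIndex K P
  let co : ι' → (P ⊗[K] F →ₗ[K] F) := fun i => (TensorProduct.lid K F).toLinearMap ∘ₗ (b.coord i).rTensor F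
  have hco : ∀ i p x, co i (p ⊗ₜ[K] x) = b.coord i p • x := fun i p x => by simp [co]
  have hco' : ∀ (z : P ⊗[K] F) i, co i z = TensorProduct.equivFinsuppOfBasisLeft b z i := fun z i => by
    induction z using TensorProduct.induction_on with
    | zero => simp
    | tmul p x => simp [hco]
    | add z w hz hw => simp [hz, hw]
  have hΦ' : ∀ (t : P ⊗[K] (E →ₗ[D] F)) (e : E) i, co i (Φ t (1 ⊗ₜ[K] e)) = TensorProduct.equivFinsuppOfBasisLeft b t i e := by
    intro t e i
    induction t using TensorProduct.induction_on with
    | zero => simp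
    | tmul p f => simp [hΦ, hco, TensorProduct.smul_tmul']
    | add z w hz hw => simp [hz, hw]
  refine ⟨fun s t h => (TensorProduct.equivFinsuppOfBasisLeft b).injective (Finsupp.ext fun i => LinearMap.ext fun e => ?_),
    fun g => ⟨?_, fun hg => ?_⟩⟩
  · rw [← hΦ', ← hΦ', h]
  · rintro ⟨t, rfl⟩ d
    induction t using TensorProduct.induction_on with
    | zero => simp
    | tmul p f =>
      refine TensorProduct.AlgebraTensorModule.ext fun q e => ?_
      simp [hΦ, TensorProduct.smul_tmul', f.map_smul]
    | add z w hz hw => rw [map_add, LinearMap.add_comp, LinearMap.comp_add, hz, hw]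
  · have hlin : ∀ i (d : D) (e : E), co i (g (1 ⊗ₜ[K] (d • e))) = d • co i (g (1 ⊗ₜ[K] e)) := fun i d e => by
      have h1 := LinearMap.congr_fun (hg d) (1 ⊗ₜ[K] e)
      simp only [LinearMap.comp_apply, LinearMap.baseChange_tmul] at h1
      rw [show (DistribSMul.toLinearMap K E d) e = d • e from rfl] at h1
      rw [h1]
      generalize g (1 ⊗ₜ[K] e) = z
      induction z using TensorProduct.induction_on with
      | zero => simp
      | tmul p x =>
        rw [LinearMap.baseChange_tmul, hco, hco]
        exact smul_comm _ d x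
      | add z w hz hw => simp [hz, hw, smul_add]
    let gi : ι' → (E →ₗ[D] F) := fun i =>
      { toFun := fun e => co i (g (1 ⊗ₜ[K] e))
        map_add' := fun x y => by simp [TensorProduct.tmul_add]
        map_smul' := fun d e => hlin i d e }
    obtain ⟨T, hT⟩ := Module.Finite.fg_top (R := D) (M := E)
    let I : Finset ι' := T.biUnion fun e => (TensorProduct.equivFinsuppOfBasisLeft b (g (1 ⊗ₜ[K] e))).support
    have hI : ∀ i, i ∉ I → gi i = 0 := fun i hi => by
      refine LinearMap.ext_on hT fun e he => ?_
      show co i (g (1 ⊗ₜ[K] e)) = 0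
      rw [hco']
      exact Finsupp.notMem_support_iff.1 fun h => hi (Finset.mem_biUnion.2 ⟨e, he, h⟩)
    refine ⟨∑ i ∈ I, b i ⊗ₜ[K] gi i, TensorProduct.AlgebraTensorModule.ext fun q e => ?_⟩
    rw [show q ⊗ₜ[K] e = q • ((1 : P) ⊗ₜ[K] e) by simp [TensorProduct.smul_tmul'], map_smul, map_smul]
    congr 1
    apply (TensorProduct.equivFinsuppOfBasisLeft b).injective
    refine Finsupp.ext fun j => ?_
    rw [← hco', ← hco', hΦ']
    simp only [map_sum, Finsupp.finsetSum_apply, LinearMap.sum_apply, TensorProduct.equivFinsuppOfBasisLeft_apply_tmul_apply,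
      Module.Basis.repr_self, Finsupp.single_apply, ite_smul, one_smul, zero_smul]
    rw [Finset.sum_eq_single j (fun i _ hij => by simp [hij]) (fun hj => by simp [hI j hj])]
    simp [gi]

end Groth.Agent.S18796
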