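import Groth.Statements.S18798
import Groth.Agent.ArtFunLib.Misc
-- import your own Groth.Agent.* helpers here

set_option autoImplicit false
universe u v
open CategoryTheory
open scoped TensorProduct
open ArtFun

namespace Groth.Agent.S18798
open ArtFun.Art Groth.Agent.ArtFunLib

/-- In the case of set-valued deformation functors, let k be a field of characteristic zero and φ : F →
G a morphism of set-valued deformation functors on Artinian local k-algebras with residue field k
(each of F(k), G(k) is a single point and F, G satisfy (RS): bijectivity of the comparison map for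
fibre-product squares A₁ ×_A A₂ with A₂ → A surjective). Let V, W be obstruction theories for F, G
in the vector-space form (obstruction classes in V ⊗ J for surjections with kernel J annihilated by
the maximal ideal, vanishing exactly when the element lifts), and let γ : V → W be an injective
k-linear map compatible with φ on small extensions: the obstruction of φ(x) along a small extension
p equals (γ ⊗ 1) applied to the obstruction of x along p. If the tangent map F(k[ε]) → G(k[ε]) is
surjective, then φ is smooth. (The published statement is for deformation categories cofibred in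
groupoids with obstruction spaces defined on small extensions only; it is rendered here for
set-valued functors with obstruction theories defined on all surjections whose kernel is annihilated
by the maximal ideal, the compatibility being required on small extensions only.) -/
theorem result
    {k : Type u} [Field k] [CharZero k]
    {F G : ArtFun.Art k k ⥤ Type v} (φ : F ⟶ G)
    (hF0 : ArtFun.H0 F) (hFrs : (∀ ⦃B A A' A'' : ArtFun.Art k k⦄ (p' : B ⟶ A') (p'' : B ⟶ A'') (f' : A' ⟶ A) (f'' : A'' ⟶ A)
        (h : ArtFun.Art.IsFibreProd p' p'' f' f''), Function.Surjective f'' → Function.Bijective (ArtFun.cmp F h)))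
    (hG0 : ArtFun.H0 G) (hGrs : (∀ ⦃B A A' A'' : ArtFun.Art k k⦄ (p' : B ⟶ A') (p'' : B ⟶ A'') (f' : A' ⟶ A) (f'' : A'' ⟶ A)
        (h : ArtFun.Art.IsFibreProd p' p'' f' f''), Function.Surjective f'' → Function.Bijective (ArtFun.cmp G h)))
    {V W : Type u} [AddCommGroup V] [Module k V] [AddCommGroup W] [Module k W]
    (oF : ArtFun.ObsTheory F V) (oG : ArtFun.ObsTheory G W)
    (γ : V →ₗ[k] W) (hγ : Function.Injective γ)
    (hcompat : ∀ ⦃C' C : ArtFun.Art k k⦄ (p : C' ⟶ C) (hp : ArtFun.Art.IsSmallExt p) (x : F.obj C),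
      oG.obs p hp.isSemismallExt (φ.app C x) = LinearMap.rTensor _ γ (oF.obs p hp.isSemismallExt x))
    (hT : Function.Surjective (ArtFun.TangentSpace.map φ)) :
    ArtFun.IsSmooth φ := by
  refine (isSmooth_iff φ).mpr (Mor.smooth_of_small _ fun B A μ hμ => (relCmp_surjective_iff φ μ).mp ?_)
  rintro ⟨⟨x, y⟩, hxy⟩
  have hy : G.map μ y = φ.app A x := hxy.symm
  have hz : oG.obs μ hμ.isSemismallExt (φ.app A x) = 0 :=
    (oG.obs_eq_zero_iff μ hμ.isSemismallExt _).mpr ⟨y, hy⟩
  rw [hcompat μ hμ x] at hz
  have hz' : oF.obs μ hμ.isSemismallExt x = 0 :=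
    (Module.Flat.rTensor_preserves_injective_linearMap γ hγ) (hz.trans (map_zero _).symm)
  obtain ⟨x', hx'⟩ := (oF.obs_eq_zero_iff μ hμ.isSemismallExt x).mp hz'
  obtain ⟨-, t, ht0, htm, htk⟩ := (isSmallExt_iff μ).mp hμ
  obtain ⟨Q, p₁, p₂, hQ⟩ := exists_fibreProd μ μ hμ.1
  obtain ⟨δ, hδ, -⟩ := exists_diff ht0 htm htk hQ
  have hx : G.map μ (φ.app B x') = G.map μ y := by
    rw [hy, ← hx']
    exact (NatTrans.naturality_apply φ μ x').symm
  obtain ⟨w, hw1, hw2⟩ := (cmp_surjective_iff hQ).mp (hGrs p₁ p₂ μ μ hQ hμ.1).2 (φ.app B x') y hx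
  obtain ⟨θ', hθ'⟩ := hT (G.map δ w)
  have hdual : Function.Surjective (toBase (dual k k)) := (dual k k).res_surjective
  obtain ⟨w', hw'1, hw'2⟩ := (cmp_surjective_iff hδ).mp (hFrs p₁ δ _ _ hδ hdual).2 x' θ'
    (@Subsingleton.elim _ hF0.2 _ _)
  have hw : φ.app Q w' = w := (cmp_injective_iff hδ).mp (hGrs p₁ δ _ _ hδ hdual).1 _ _
    (by rw [← NatTrans.naturality_apply φ p₁ w', hw'1, hw1])
    (by rw [← NatTrans.naturality_apply φ δ w', hw'2]; exact hθ')
  refine ⟨F.map p₂ w', Subtype.ext (Prod.ext ?_ ?_)⟩
  · show F.map μ (F.map p₂ w') = x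
    rw [map_map, ← hQ.w, ← map_map, hw'1, hx']
  · show φ.app B (F.map p₂ w') = y
    rw [NatTrans.naturality_apply φ p₂ w', hw, hw2]

end Groth.Agent.S18798
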