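import Groth.Statements.S1880
import Groth.Agent.FinGrpdLib.Scheme

set_option autoImplicit false
set_option backward.isDefEq.respectTransparency false
universe u
open CategoryTheory CategoryTheory.Limits AlgebraicGeometry
open Grpd

namespace Groth.Agent.S1880

/-- Let (U, R, s, t, c) be a groupoid scheme with U, R affine and s, t finite locally free. For f ∈
Γ(U), the norm along s♯ of t♯(f) is an R-invariant function. (Mathlib's norm is the determinant when
Γ(R) is free over Γ(U) via s♯ and 1 otherwise; the content is the free case, e.g. after localizing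
U.) (A groupoid scheme carries U, R, s, t, c, e, i over S with the groupoid axioms on T-points;
'finite locally free' is finite, flat and locally of finite presentation; C ⊂ Γ(U) is the ring of
functions a with s♯(a) = t♯(a) and M = Spec C.) -/
theorem result (S : Scheme.{u}) (G : Grpd.GroupoidScheme S) [IsAffine G.U] [IsAffine G.R] [IsFinite G.s] [Flat G.s] [LocallyOfFinitePresentation G.s] [IsFinite G.t] [Flat G.t] [LocallyOfFinitePresentation G.t] (f : Γ(G.U, ⊤)) : G.normST f ∈ G.invariants := by
  classical
  let E := FinGrpdLib.toData G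
  let _ : Algebra Γ(G.U, ⊤) Γ(G.R, ⊤) := G.s.appTop.hom.toAlgebra
  change Algebra.norm Γ(G.U, ⊤) (G.t.appTop.hom f) ∈ G.invariants
  by_cases hb : ∃ s : Finset Γ(G.R, ⊤), Nonempty (Module.Basis s Γ(G.U, ⊤) Γ(G.R, ⊤))
  swap
  · rw [Algebra.norm_eq_one_of_not_exists_basis _ hb]
    exact one_mem _
  obtain ⟨s, ⟨b₀⟩⟩ := hb
  let b := b₀.reindex s.equivFin
  let v : Fin s.card → Γ(G.R, ⊤) := fun i => b i
  let l : Fin s.card → Γ(G.R, ⊤) →+ Γ(G.U, ⊤) := fun i => (b.coord i).toAddMonoidHom
  have hl : ∀ i a x, l i (E.σ a * x) = a * l i x := fun i a x => (b.coord i).map_smul a x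
  have hv : ∀ x, ∑ i, E.σ (l i x) * v i = x := fun x => b.sum_repr x
  have hm : ∀ z, FinGrpdLib.mat v l z = Algebra.leftMulMatrix b z := fun z => by
    ext i j
    rw [Algebra.leftMulMatrix_eq_repr_mul]
    rfl
  have h := FinGrpdLib.det_eq E hl hv (RingHom.id _) (ι := Unit) (fun _ => 1) (fun _ => f)
  simp only [Finset.univ_unique, Finset.sum_singleton, one_smul, RingHom.id_comp, hm, map_one] at h
  rw [Matrix.map_one _ (map_zero _) (map_one _), Matrix.map_one _ (map_zero _) (map_one _), sub_self, add_zero,
    add_zero] at h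
  rw [Algebra.norm_eq_matrix_det b, FinGrpdLib.mem_invariants, RingHom.map_det, RingHom.map_det]
  exact h.symm

end Groth.Agent.S1880
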