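import Groth.Statements.S18802
import Mathlib

set_option autoImplicit false
universe u v w w' w''
open DefMod

namespace Groth.Agent.S18802

/-- Let K be a field of characteristic zero, D an associative K-algebra and E, F left D-modules. A
K-linear map s : D → Hom_K(E, F) with s(ab)(e) = a s(b)(e) + s(a)(b e) (a derivation into the
bimodule Hom_K(E, F), i.e. a Hochschild 1-cocycle) defines the twisted sum F ⊕_s E = F × E with a ·
(f, e) = (a f + s(a) e, a e), an extension of E by F. Every extension of left D-modules 0 → F → Q →
E → 0 arises this way: there are such an s and a D-linear isomorphism Q ≅ F ⊕_s E carrying the given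
map F → Q to the inclusion f ↦ (f, 0) and compatible with the two projections onto E. (Together with
the splitting criterion this identifies derivations modulo principal derivations with Ext¹_D(E, F);
the compatibility of that identification with addition and scalars is not restated.) -/
theorem result
    {K : Type u} [Field K] [CharZero K]
    {D : Type v} [Ring D] [Algebra K D]
    {E : Type w} [AddCommGroup E] [Module K E] [Module D E] [IsScalarTower K D E]
    {F : Type w'} [AddCommGroup F] [Module K F] [Module D F] [IsScalarTower K D F]
    {Q : Type w''} [AddCommGroup Q] [Module D Q]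
    (i : F →ₗ[D] Q) (p : Q →ₗ[D] E) (hi : Function.Injective i) (hp : Function.Surjective p)
    (hex : Function.Exact i p) :
    ∃ (s : D →ₗ[K] E →ₗ[K] F) (hs : W4c6defoisocp1.IsHomDerivation s) (Φ : Q ≃ₗ[D] W4c6defoisocp1.TwistExt s hs),
      (∀ f : F, Φ (i f) = W4c6defoisocp1.TwistExt.inl f) ∧ ∀ q : Q, W4c6defoisocp1.TwistExt.snd (Φ q) = p q := by
  open W4c6defoisocp1 in
  letI : Module K Q := Module.compHom Q (algebraMap K D)
  haveI : IsScalarTower K D Q := ⟨fun c d q => by
    change (c • d) • q = algebraMap K D c • d • q
    rw [smul_smul, ← Algebra.smul_def]⟩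
  obtain ⟨t, ht⟩ := LinearMap.exists_rightInverse_of_surjective (p.restrictScalars K) (LinearMap.range_eq_top.2 hp)
  have hpt : ∀ e, p (t e) = e := fun e => LinearMap.congr_fun ht e
  have hr : ∀ q, ∃ f, i f = q - t (p q) := fun q => (hex _).1 (by rw [map_sub, hpt, sub_self])
  choose r hr using hr
  let s : D →ₗ[K] E →ₗ[K] F := LinearMap.mk₂ K (fun a e => r (a • t e))
    (fun a b e => hi (by simp only [map_add, hr, add_smul, map_smul, hpt]; abel))
    (fun c a e => hi (by simp only [LinearMap.map_smul_of_tower, hr, smul_assoc, map_smul, hpt, smul_sub]))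
    (fun a e e' => hi (by simp only [map_add, hr, smul_add, map_smul, hpt]; abel))
    (fun c a e => hi (by simp only [LinearMap.map_smul_of_tower, hr, map_smul, hpt, smul_sub, smul_comm a c]))
  have hs : IsHomDerivation s := fun a b e => hi (by
    simp only [s, LinearMap.mk₂_apply, map_add, map_smul, hr, hpt, smul_sub, mul_smul]
    abel)
  refine ⟨s, hs, LinearEquiv.symm
    { toFun := fun x => i (TwistExt.val x).1 + t (TwistExt.val x).2
      invFun := fun q => TwistExt.mk (r q, p q)
      map_add' := fun x y => by simp only [TwistExt.val_add, Prod.fst_add, Prod.snd_add, map_add]; abel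
      map_smul' := fun a x => by
        simp only [TwistExt.val_smul, map_add, map_smul, RingHom.id_apply, s, LinearMap.mk₂_apply, hr, hpt, smul_add]
        abel
      left_inv := fun x => by
        have hp' : p (i (TwistExt.val x).1 + t (TwistExt.val x).2) = (TwistExt.val x).2 := by
          rw [map_add, hex.apply_apply_eq_zero, zero_add, hpt]
        exact TwistExt.ext (hi (by simp [hr, hp'])) (by simp [hp'])
      right_inv := fun q => by simp [hr] }, fun f => ?_, fun q => rfl⟩
  show TwistExt.mk (r (i f), p (i f)) = TwistExt.inl f
  exact TwistExt.ext (hi (by simp [TwistExt.inl, hr, hex.apply_apply_eq_zero]))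
    (by simp [TwistExt.inl, hex.apply_apply_eq_zero])

end Groth.Agent.S18802
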