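import Groth.Statements.S18803
import Mathlib

set_option autoImplicit false
universe u v w w'
open DefMod

namespace Groth.Agent.S18803

open CategoryTheory CategoryTheory.Limits AlgebraicGeometry

open W4c6defoisocp1 in
theorem val_map {K : Type*} [Field K] {D : Type*} [Ring D] [Algebra K D] {E : Type*} [AddCommGroup E] [Module K E]
    [Module D E] {F : Type*} [AddCommGroup F] [Module K F] [Module D F] {s : D →ₗ[K] E →ₗ[K] F} {hs : IsHomDerivation s}
    (x : TwistExt s hs) : x = TwistExt.inl (TwistExt.val x).1 + TwistExt.mk (0, (TwistExt.val x).2) :=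
  TwistExt.ext (by simp [TwistExt.inl]) (by simp [TwistExt.inl])


/-- Let K be a field of characteristic zero, D an associative K-algebra, E and F left D-modules, and s :
D → Hom_K(E, F) a K-linear map with s(ab)(e) = a s(b)(e) + s(a)(b e). The twisted sum F ⊕_s E (that
is F × E with a · (f, e) = (a f + s(a) e, a e)) is a trivial extension of E by F — there is a
D-linear isomorphism F ⊕_s E ≅ F × E with the direct-sum module structure, carrying the inclusion f
↦ (f, 0) to itself and compatible with the second projections — if and only if s is principal: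
s(a)(e) = a σ(e) − σ(a e) for some K-linear σ : E → F (a Hochschild 1-coboundary). -/
theorem result
    {K : Type u} [Field K] [CharZero K]
    {D : Type v} [Ring D] [Algebra K D]
    {E : Type w} [AddCommGroup E] [Module K E] [Module D E] [IsScalarTower K D E]
    {F : Type w'} [AddCommGroup F] [Module K F] [Module D F] [IsScalarTower K D F]
    (s : D →ₗ[K] E →ₗ[K] F) (hs : W4c6defoisocp1.IsHomDerivation s) :
    (∃ Ψ : W4c6defoisocp1.TwistExt s hs ≃ₗ[D] F × E,
        (∀ f : F, Ψ (W4c6defoisocp1.TwistExt.inl f) = (f, 0)) ∧ ∀ x : W4c6defoisocp1.TwistExt s hs, (Ψ x).2 = W4c6defoisocp1.TwistExt.snd x) ↔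
      W4c6defoisocp1.IsPrincipal s := by
  open W4c6defoisocp1 in
  constructor
  · rintro ⟨Ψ, h1, h2⟩
    let τ : E →+ F := AddMonoidHom.mk' (fun e => (Ψ (TwistExt.mk (0, e) : TwistExt s hs)).1) fun a b => by
      rw [← Prod.fst_add, ← map_add]
      congr 2
      exact TwistExt.ext (by simp) (by simp)
    have hτ : ∀ (a : D) (e : E), s a e + τ (a • e) = a • τ e := fun a e => by
      have h := congrArg Prod.fst (Ψ.map_smul a (TwistExt.mk (0, e) : TwistExt s hs))
      rw [val_map (a • (TwistExt.mk (0, e) : TwistExt s hs)), map_add, h1] at h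
      simpa [τ] using h
    have hK : ∀ (c : K) (e : E), τ (c • e) = c • τ e := fun c e => by
      have h := hτ (algebraMap K D c) e
      rw [Algebra.algebraMap_eq_smul_one, map_smul, LinearMap.smul_apply, TwistExt.map_one_eq_zero hs] at h
      simpa [smul_assoc] using h
    exact ⟨{ toFun := τ, map_add' := τ.map_add, map_smul' := hK },
      fun a e => eq_sub_of_add_eq (hτ a e)⟩
  · rintro ⟨σ, hσ⟩
    refine ⟨{ toFun := fun x => ((TwistExt.val x).1 + σ (TwistExt.val x).2, (TwistExt.val x).2)
              invFun := fun y => TwistExt.mk (y.1 - σ y.2, y.2)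
              map_add' := fun x y => Prod.ext (by simp; abel) (by simp)
              map_smul' := fun a x => Prod.ext (by simp [hσ, smul_add]; abel) (by simp)
              left_inv := fun x => TwistExt.ext (by simp) (by simp)
              right_inv := fun y => by simp }, fun f => by simp [TwistExt.inl], fun x => rfl⟩

end Groth.Agent.S18803
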