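import Groth.Statements.S18804
import Groth.Agent.CurveFF.Ideal
import Groth.Agent.CurveFF.Omega
import Groth.Agent.IntLib.Divisor
import Groth.Agent.CurveFF.Sections

set_option autoImplicit false
universe u
open CategoryTheory CategoryTheory.Limits AlgebraicGeometry
open Curves

namespace Groth.Agent.S18804

attribute [local instance] Curv2.stalkAlgebra
attribute [local instance high] FunFld.Place.algRes

/-- Let k be an algebraically closed field of characteristic zero, X a smooth proper integral curve over
k (integral, proper and smooth over k, of dimension one) of genus g, and L an invertible O_X-module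
of degree deg L = χ(L) − χ(O_X) at least 2g + 3. Then L is 3-very ample: every closed subscheme Z of
X of length 4 imposes independent conditions on H^0(X, L), stated as dim_k H^0(X, L ⊗ I) + 4 = dim_k
H^0(X, L) for every quasi-coherent ideal I of O_X with dim_k H^0(X, O_X/I) = 4. -/
theorem result
    (k : Type u) [Field k] [IsAlgClosed k] [CharZero k]
    (X : Scheme.{u}) [X.Over (Spec (CommRingCat.of k))] [IsIntegral X]
    [IsProper (X ↘ Spec (CommRingCat.of k))] [Smooth (X ↘ Spec (CommRingCat.of k))]
    (hdim : topologicalKrullDim X = 1)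
    (L : X.Modules) (hL : PicF.IsInvertible L)
    (hdeg : 2 * (Curv2.genus k X : ℤ) + 3 ≤ Curv2.deg k X L 1)
    (I : X.IdealSheafData) (hI : Module.finrank k (Coh.HH X (ClSub.quotMod I) 0) = 4) :
    Module.finrank k (Coh.HH X (CohB1.tensorMod L (ClSub.idealMod I)) 0) + 4 =
      Module.finrank k (Coh.HH X L 0) := by
  haveI := Groth.Agent.EulerIneqLib.isNoetherian_proper (X := X) k
  haveI := Groth.Agent.VBLib.isRegCurve_of_smooth (X := X) k hdim.le
  have h00 := Groth.Agent.CurveFF.h0_eq_one (X := X) k hdim
  let η := genericPoint X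
  haveI : Mono (ClSub.idealModι I) := inferInstanceAs (Mono (kernel.ι _))
  haveI := Groth.Agent.SerreAff.epi_unitToPush I.subschemeι
  haveI : Epi (ClSub.toSubscheme I) := inferInstanceAs (Epi (ClSub.toSubscheme I))
  have hne : ClSub.idealModι I ≠ 0 := by
    intro h0
    haveI : Mono (ClSub.toSubscheme I) := Preadditive.mono_of_kernel_zero h0
    haveI : IsIso (ClSub.toSubscheme I) := isIso_of_mono_of_epi _
    have := Groth.Agent.ShBCLib.finrank_HH_iso (K := k) (asIso (ClSub.toSubscheme I)) 0
    rw [h00] at this
    change 1 = Module.finrank k (Coh.HH X (ClSub.quotMod I) 0) at this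
    omega
  have hK := Groth.Agent.RefOne.isCoh_idealMod I
  have hinj := (Groth.Agent.PullbackMod.mono_iff_stalk (ClSub.idealModι I)).1 inferInstance η
  have hrk : Groth.Agent.VBLib.grk (ClSub.idealMod I) = 1 := by
    have hb := Groth.Agent.ParaFLib.bijective_oneG η
    let T : X.presheaf.stalk η ≃ₗ[X.presheaf.stalk η] (Coh.structureModule X).presheaf.stalk η :=
      LinearEquiv.ofBijective (LinearMap.toSpanSingleton (X.presheaf.stalk η) _ (Groth.Agent.ParaFLib.oneG η)) hb
    let J : (ClSub.idealMod I).presheaf.stalk η →ₗ[X.presheaf.stalk η] X.presheaf.stalk η :=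
      T.symm.toLinearMap.comp (Groth.Agent.PullbackMod.stalkLin (ClSub.idealModι I) η)
    have hJ : Function.Injective J := T.symm.injective.comp hinj
    refine le_antisymm ?_ (Nat.one_le_iff_ne_zero.2 fun h0 => hne ?_)
    · exact (LinearMap.finrank_le_finrank_of_injective (f := J) hJ).trans (le_of_eq (Module.finrank_self _))
    · haveI : Module.Finite (X.presheaf.stalk η) ((ClSub.idealMod I).presheaf.stalk η) := Module.Finite.of_injective J hJ
      haveI : Subsingleton ((ClSub.idealMod I).presheaf.stalk η) :=
        (Module.finrank_eq_zero_iff_of_free (X.presheaf.stalk η) _).1 h0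
      ext U m
      show (ClSub.idealModι I).app U m = 0
      refine Groth.Agent.ParaFLib.eq_zero_of_germ_generic Groth.Agent.ParaFLib.isInvertible_structureModule _ fun hη => ?_
      refine (Groth.Agent.PullbackMod.stalkLin_germ (ClSub.idealModι I) η hη m).symm.trans ?_
      rw [Subsingleton.elim ((ClSub.idealMod I).presheaf.germ U η hη m) 0]
      exact map_zero _
  have hKf := Groth.Agent.VBLib.rank_of_mono (ClSub.idealModι I) hK
    (Groth.Agent.CurveLib.isFinLocFreeOfRank_one (Groth.Agent.ParaFLib.isInvertible_structureModule (X := X)))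
  rw [hrk] at hKf
  have hIinv := Groth.Agent.VBLib.isInvertible_of_rank hKf
  have hdeg' := (Groth.Agent.CurveLib.deg_eq_add_coker (k := k) hdim.le hIinv Groth.Agent.ParaFLib.isInvertible_structureModule hne).1
  rw [Groth.Agent.CurveLib.deg_structureModule] at hdeg'
  let S : ShortComplex X.Modules := ShortComplex.mk (ClSub.idealModι I) (ClSub.toSubscheme I) (kernel.condition _)
  have hS : S.Exact := ShortComplex.exact_of_f_is_kernel _ (kernelIsKernel _)
  haveI : Epi S.g := inferInstanceAs (Epi (ClSub.toSubscheme I))
  let φ : cokernel (ClSub.idealModι I) ≅ ClSub.quotMod I :=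
    (cokernelIsCokernel _).coconePointUniqueUpToIso hS.gIsCokernel
  rw [Groth.Agent.ShBCLib.finrank_HH_iso (K := k) φ 0, hI] at hdeg'
  have hT := Groth.Agent.AmpleLib.isInvertible_tensor hL hIinv
  have hdT := Groth.Agent.CurveLib.deg_tensor_add (k := k) hdim.le hL hIinv
  haveI := Groth.Agent.CurveFF.subsingleton_H1 (k := k) hdim h00 hL (by omega)
  haveI := Groth.Agent.CurveFF.subsingleton_H1 (k := k) hdim h00 hT (by omega)
  have h1 := Groth.Agent.CurveLib.euler_eq_sub (k := k) (M := L) hdim.le
  have h2 := Groth.Agent.CurveLib.euler_eq_sub (k := k) (M := CohB1.tensorMod L (ClSub.idealMod I)) hdim.le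
  rw [Module.finrank_zero_of_subsingleton (M := Coh.HH X L 1)] at h1
  rw [Module.finrank_zero_of_subsingleton (M := Coh.HH X (CohB1.tensorMod L (ClSub.idealMod I)) 1)] at h2
  unfold Curv2.deg at hdT hdeg'
  omega

end Groth.Agent.S18804
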