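import Groth.Statements.S18805
import Groth.Agent.CurveFF.Ideal
import Groth.Agent.CurveFF.Omega
import Groth.Agent.CurveFF.Pic
import Groth.Agent.IntLib.Divisor
import Groth.Agent.CurveFF.Sections
import Groth.Agent.CurveFF.Duality

set_option autoImplicit false
universe u
open CategoryTheory CategoryTheory.Limits AlgebraicGeometry
open Curves

namespace Groth.Agent.S18805

open CategoryTheory CategoryTheory.Limits AlgebraicGeometry

set_option backward.isDefEq.respectTransparency false
set_option backward.isDefEq.respectTransparency.types false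
set_option linter.style.haveILetI false
set_option maxHeartbeats 1000000
attribute [local instance] Curv2.stalkAlgebra
attribute [local instance high] FunFld.Place.algRes

/-- An ideal of colength four is invertible of degree `-4`. -/
lemma ideal_four (k : Type u) [Field k] [IsAlgClosed k]
    (X : Scheme.{u}) [X.Over (Spec (CommRingCat.of k))] [IsIntegral X]
    [IsProper (X ↘ Spec (CommRingCat.of k))] [Groth.Agent.VBLib.IsRegCurve X]
    (hdim : topologicalKrullDim X = 1) (I : X.IdealSheafData)
    (hI : Module.finrank k (Coh.HH X (ClSub.quotMod I) 0) = 4) :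
    PicF.IsInvertible (ClSub.idealMod I) ∧ Curv2.deg k X (ClSub.idealMod I) 1 = -4 := by
  haveI := Groth.Agent.EulerIneqLib.isNoetherian_proper (X := X) k
  have h00 := Groth.Agent.CurveFF.h0_eq_one (X := X) k hdim
  let η := genericPoint X
  haveI : Mono (ClSub.idealModι I) := inferInstanceAs (Mono (kernel.ι _))
  haveI := Groth.Agent.SerreAff.epi_unitToPush I.subschemeι
  haveI : Epi (ClSub.toSubscheme I) := inferInstanceAs (Epi (ClSub.toSubscheme I))
  have hne : ClSub.idealModι I ≠ 0 := by
    intro h0
    haveI : Mono (ClSub.toSubscheme I) := Preadditive.mono_of_kernel_zero h0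
    haveI : IsIso (ClSub.toSubscheme I) := isIso_of_mono_of_epi _
    have := Groth.Agent.ShBCLib.finrank_HH_iso (K := k) (asIso (ClSub.toSubscheme I)) 0
    rw [h00] at this
    change 1 = Module.finrank k (Coh.HH X (ClSub.quotMod I) 0) at this
    omega
  have hK := Groth.Agent.RefOne.isCoh_idealMod I
  have hinj := (Groth.Agent.PullbackMod.mono_iff_stalk (ClSub.idealModι I)).1 inferInstance η
  have hrk : Groth.Agent.VBLib.grk (ClSub.idealMod I) = 1 := by
    have hb := Groth.Agent.ParaFLib.bijective_oneG η
    let T : X.presheaf.stalk η ≃ₗ[X.presheaf.stalk η] (Coh.structureModule X).presheaf.stalk η :=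
      LinearEquiv.ofBijective (LinearMap.toSpanSingleton (X.presheaf.stalk η) _ (Groth.Agent.ParaFLib.oneG η)) hb
    let J : (ClSub.idealMod I).presheaf.stalk η →ₗ[X.presheaf.stalk η] X.presheaf.stalk η :=
      T.symm.toLinearMap.comp (Groth.Agent.PullbackMod.stalkLin (ClSub.idealModι I) η)
    have hJ : Function.Injective J := T.symm.injective.comp hinj
    refine le_antisymm ?_ (Nat.one_le_iff_ne_zero.2 fun h0 => hne ?_)
    · exact (LinearMap.finrank_le_finrank_of_injective (f := J) hJ).trans (le_of_eq (Module.finrank_self _))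
    · haveI : Module.Finite (X.presheaf.stalk η) ((ClSub.idealMod I).presheaf.stalk η) := Module.Finite.of_injective J hJ
      haveI : Subsingleton ((ClSub.idealMod I).presheaf.stalk η) :=
        (Module.finrank_eq_zero_iff_of_free (X.presheaf.stalk η) _).1 h0
      ext U m
      show (ClSub.idealModι I).app U m = 0
      refine Groth.Agent.ParaFLib.eq_zero_of_germ_generic Groth.Agent.ParaFLib.isInvertible_structureModule _ fun hη => ?_
      refine (Groth.Agent.PullbackMod.stalkLin_germ (ClSub.idealModι I) η hη m).symm.trans ?_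
      rw [Subsingleton.elim ((ClSub.idealMod I).presheaf.germ U η hη m) 0]
      exact map_zero _
  have hKf := Groth.Agent.VBLib.rank_of_mono (ClSub.idealModι I) hK
    (Groth.Agent.CurveLib.isFinLocFreeOfRank_one (Groth.Agent.ParaFLib.isInvertible_structureModule (X := X)))
  rw [hrk] at hKf
  have hIinv := Groth.Agent.VBLib.isInvertible_of_rank hKf
  have hdeg' := (Groth.Agent.CurveLib.deg_eq_add_coker (k := k) hdim.le hIinv Groth.Agent.ParaFLib.isInvertible_structureModule hne).1
  rw [Groth.Agent.CurveLib.deg_structureModule] at hdeg'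
  let S : ShortComplex X.Modules := ShortComplex.mk (ClSub.idealModι I) (ClSub.toSubscheme I) (kernel.condition _)
  have hS : S.Exact := ShortComplex.exact_of_f_is_kernel _ (kernelIsKernel _)
  haveI : Epi S.g := inferInstanceAs (Epi (ClSub.toSubscheme I))
  let φ : cokernel (ClSub.idealModι I) ≅ ClSub.quotMod I :=
    (cokernelIsCokernel _).coconePointUniqueUpToIso hS.gIsCokernel
  rw [Groth.Agent.ShBCLib.finrank_HH_iso (K := k) φ 0, hI] at hdeg'
  exact ⟨hIinv, by omega⟩


/-- Let k be an algebraically closed field of characteristic zero and X a smooth proper integral curve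
over k (integral, proper and smooth over k, of dimension one), with sheaf of differentials ω =
Ω_(X/k). Then ω is 3-very ample, meaning dim_k H^0(X, ω ⊗ I) + 4 = dim_k H^0(X, ω) for every
quasi-coherent ideal I of O_X with dim_k H^0(X, O_X/I) = 4, if and only if X carries no g^1_4,
meaning that for every such I (the ideal of an effective divisor D of degree 4) every module M with
I ⊗ M ≅ O_X (so M plays the role of O_X(D)) has dim_k H^0(X, M) = 1. -/
theorem result
    (k : Type u) [Field k] [IsAlgClosed k] [CharZero k]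
    (X : Scheme.{u}) [X.Over (Spec (CommRingCat.of k))] [IsIntegral X]
    [IsProper (X ↘ Spec (CommRingCat.of k))] [Smooth (X ↘ Spec (CommRingCat.of k))]
    (hdim : topologicalKrullDim X = 1) :
    (∀ (I : X.IdealSheafData), Module.finrank k (Coh.HH X (ClSub.quotMod I) 0) = 4 →
      Module.finrank k (Coh.HH X (CohB1.tensorMod (Omega.sheaf (X ↘ Spec (CommRingCat.of k))) (ClSub.idealMod I)) 0) + 4 =
        Module.finrank k (Coh.HH X (Omega.sheaf (X ↘ Spec (CommRingCat.of k))) 0)) ↔
    (∀ (I : X.IdealSheafData), Module.finrank k (Coh.HH X (ClSub.quotMod I) 0) = 4 →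
      ∀ (M : X.Modules), ClSub.IsInverseOf (ClSub.idealMod I) M →
        Module.finrank k (Coh.HH X M 0) = 1) := by
  haveI := Groth.Agent.EulerIneqLib.isNoetherian_proper (X := X) k
  haveI := Groth.Agent.VBLib.isRegCurve_of_smooth (X := X) k hdim.le
  have h00 := Groth.Agent.CurveFF.h0_eq_one (X := X) k hdim
  have hω := Groth.Agent.CurveFF.omega_h0 (X := X) k hdim
  have key : ∀ (I : X.IdealSheafData), Module.finrank k (Coh.HH X (ClSub.quotMod I) 0) = 4 →
      ∀ (M : X.Modules), ClSub.IsInverseOf (ClSub.idealMod I) M →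
        (Module.finrank k (Coh.HH X (CohB1.tensorMod (Omega.sheaf (X ↘ Spec (CommRingCat.of k))) (ClSub.idealMod I)) 0) + 4 =
          Module.finrank k (Coh.HH X (Omega.sheaf (X ↘ Spec (CommRingCat.of k))) 0) ↔
        Module.finrank k (Coh.HH X M 0) = 1) := by
    intro I hI M hM
    obtain ⟨hIi, hdI⟩ := ideal_four k X hdim I hI
    have hMi := Groth.Agent.CurveFF.isInvertible_of_isInverseOf_right hM
    have hdual := Groth.Agent.CurveFF.h1_eq_h0_dual (k := k) hdim hMi
      (⟨Groth.Agent.AmpleLib.comm M (ClSub.idealMod I) ≪≫ hM.some⟩ : ClSub.IsInverseOf M (ClSub.idealMod I))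
    have hd := Groth.Agent.CurveLib.deg_tensor_add (k := k) hdim.le hIi hMi
    have he : Curv2.euler k X (CohB1.tensorMod (ClSub.idealMod I) M) = Curv2.euler k X (Coh.structureModule X) :=
      Groth.Agent.CurveLib.euler_iso (K := k) hM.some
    unfold Curv2.deg at hd hdI
    have h1 := Groth.Agent.CurveLib.euler_eq_sub (k := k) (M := M) hdim.le
    have hO := Groth.Agent.CurveLib.euler_eq_sub (k := k) (M := Coh.structureModule X) hdim.le
    rw [h00] at hO
    change _ = _ - (Curv2.genus k X : ℤ) at hO
    change Module.finrank k (Coh.HH X (CohB1.tensorMod (Groth.Agent.CurveFF.om k X) (ClSub.idealMod I)) 0) + 4 =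
      Module.finrank k (Coh.HH X (Groth.Agent.CurveFF.om k X) 0) ↔ _
    rw [hω]
    omega
  refine ⟨fun h I hI M hM => (key I hI M hM).1 (h I hI), fun h I hI => ?_⟩
  obtain ⟨hIi, -⟩ := ideal_four k X hdim I hI
  obtain ⟨e, he⟩ := Groth.Agent.CurveFF.exists_base hIi
  obtain ⟨D, hD⟩ := Groth.Agent.CurveFF.exists_isDiv hdim h00 hIi he
  obtain ⟨M, e', hMi, he', hE⟩ := Groth.Agent.CurveFF.exists_module hdim h00 (-D)
  have hM : ClSub.IsInverseOf (ClSub.idealMod I) M :=
    Groth.Agent.CurveFF.nonempty_iso_of_sub_mem_prinDivs hdim h00 (Groth.Agent.AmpleLib.isInvertible_tensor hIi hMi)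
      Groth.Agent.ParaFLib.isInvertible_structureModule (Groth.Agent.CurveFF.isBase_tensor he he')
      (Groth.Agent.CurveFF.isDiv_tensor hdim hIi hMi he he' hD hE) (Groth.Agent.ParaFLib.bijective_oneG _)
      (Groth.Agent.CurveFF.isDiv_structure hdim) (by rw [add_neg_cancel, sub_zero]; exact zero_mem _)
  exact (key I hI M hM).2 (h I hI M hM)

end Groth.Agent.S18805
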