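import Groth.Statements.S18811
import Mathlib

set_option autoImplicit false
universe u
open CategoryTheory CategoryTheory.Limits AlgebraicGeometry
open Variety

namespace Groth.Agent.S18811

/-- Let k be a field and X, Y quasi-compact k-schemes whose diagonal morphisms over k are affine
(semi-separated; for instance X and Y separated over k). Then the canonical map Γ(X, O_X) ⊗_k Γ(Y,
O_Y) → Γ(X ×_k Y, O) is an isomorphism: the commutative square of rings of global sections formed by
Spec k, X, Y and X ×_k Y with the pullback maps along the structure morphisms and the two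
projections is a pushout square of commutative rings. -/
theorem result (k : Type u) [Field k]
    (X : Scheme.{u}) [X.Over (Spec (CommRingCat.of k))] [CompactSpace ↥X]
    [IsAffineHom (pullback.diagonal (X ↘ (Spec (CommRingCat.of k))))]
    (Y : Scheme.{u}) [Y.Over (Spec (CommRingCat.of k))] [CompactSpace ↥Y]
    [IsAffineHom (pullback.diagonal (Y ↘ (Spec (CommRingCat.of k))))] :
    IsPushout (X ↘ (Spec (CommRingCat.of k))).appTop (Y ↘ (Spec (CommRingCat.of k))).appTop
      (pullback.fst (X ↘ (Spec (CommRingCat.of k))) (Y ↘ (Spec (CommRingCat.of k)))).appTop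
      (pullback.snd (X ↘ (Spec (CommRingCat.of k))) (Y ↘ (Spec (CommRingCat.of k)))).appTop := by
  have hflat : ∀ (Z : Scheme.{u}) (g : Z ⟶ Spec (CommRingCat.of k)), g.appTop.hom.Flat := fun Z g => by
    have hf : IsField Γ(Spec (CommRingCat.of k), ⊤) :=
      MulEquiv.isField (Field.toIsField k) (Scheme.ΓSpecIso (CommRingCat.of k)).commRingCatIsoToRingEquiv.toMulEquiv
    let := hf.toField
    algebraize [g.appTop.hom]
    exact RingHom.flat_algebraMap_iff.mpr inferInstance
  have hqsX : QuasiSeparated (X ↘ (Spec (CommRingCat.of k))) := ⟨inferInstance⟩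
  have hqsY : QuasiSeparated (Y ↘ (Spec (CommRingCat.of k))) := ⟨inferInstance⟩
  have : QuasiSeparatedSpace ↥X := quasiSeparatedSpace_of_quasiSeparated (X ↘ (Spec (CommRingCat.of k)))
  have : QuasiSeparatedSpace ↥Y := quasiSeparatedSpace_of_quasiSeparated (Y ↘ (Spec (CommRingCat.of k)))
  have H : IsPullback (pullback.fst (X ↘ (Spec (CommRingCat.of k))) (Y ↘ (Spec (CommRingCat.of k))))
      (pullback.snd (X ↘ (Spec (CommRingCat.of k))) (Y ↘ (Spec (CommRingCat.of k))))
      (X ↘ (Spec (CommRingCat.of k))) (Y ↘ (Spec (CommRingCat.of k))) := .of_hasPullback _ _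
  have : Flat (Y ↘ (Spec (CommRingCat.of k))) := inferInstance
  have hpo := (isIso_pushoutSection_iff (US := ⊤) (UT := ⊤) (UX := ⊤) (UY := ⊤) H (by simp) (by simp)
      (by simp)).mp
    (isIso_pushoutSection_of_isCompact_of_flat_right_of_ringHomFlat H _ _ _ (isAffineOpen_top _)
      isCompact_univ isQuasiSeparated_univ isCompact_univ isQuasiSeparated_univ
      (by simpa [Scheme.Hom.appLE, Scheme.Hom.appTop] using hflat X _))
  simpa [Scheme.Hom.appLE, Scheme.Hom.appTop] using hpo

end Groth.Agent.S18811
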