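import Groth.Statements.S18814
import Groth.Agent.Comodule.Sub
-- import your own Groth.Agent.* helpers here

set_option autoImplicit false
universe u v v' w w'
open TensorProduct
open HopfRep

namespace Groth.Agent.S18814

/-- Let k be a field, C and D commutative bialgebras over k (coordinate rings of affine monoid schemes M
and N) and V a k-vector space carrying a right C-comodule structure with coaction ρ_C : V → V ⊗ C
and a right D-comodule structure with coaction ρ_D : V → V ⊗ D which commute: (ρ_C ⊗ id_D) ∘ ρ_D and
(ρ_D ⊗ id_C) ∘ ρ_C agree in V ⊗ C ⊗ D after reassociating and swapping the last two factors (the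
actions of M and N on V commute). Assume V is semisimple as a D-comodule. Then for every simple
D-comodule S the isotypic component of V of type S, the sum of the images of all D-comodule maps S →
V, is a C-subcomodule of V. (The source works with left comodules; this is the right-comodule form.) -/
theorem result (k : Type u) [Field k]
    (C : Type v) [CommRing C] [Bialgebra k C] (D : Type v') [CommRing D] [Bialgebra k D]
    (V : Type w) [AddCommGroup V] [Module k V] [HopfRep.Comod k C V] [HopfRep.Comod k D V]
    (hcomm : (TensorProduct.assoc k V C D).toLinearMap ∘ₗ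
        (HopfRep.Comod.coact (k := k) (A := C) (V := V)).rTensor D ∘ₗ HopfRep.Comod.coact (k := k) (A := D) =
      (TensorProduct.comm k D C).toLinearMap.lTensor V ∘ₗ (TensorProduct.assoc k V D C).toLinearMap ∘ₗ
        (HopfRep.Comod.coact (k := k) (A := D) (V := V)).rTensor C ∘ₗ HopfRep.Comod.coact (k := k) (A := C))
    (hV : HopfRep.IsSemisimpleComod k D V)
    (S : Type w') [AddCommGroup S] [Module k S] [HopfRep.Comod k D S] (hS : HopfRep.IsSimpleComod k D S) :
    HopfRep.IsSubcomod (k := k) (A := C)
      (⨆ f : {f : S →ₗ[k] V // Hoch.IsComodHom D f}, LinearMap.range f.1) := by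
  refine Comodule.isSubcomod_iff.mpr fun g v hv => ?_
  have hc : ∀ (h : D →ₗ[k] k) (x : V),
      Comodule.dact (C := C) g.ofConv (Comodule.dact (C := D) h x) =
        Comodule.dact (C := D) h (Comodule.dact (C := C) g.ofConv x) := by
    intro h x
    have e := LinearMap.congr_fun hcomm x
    simp only [LinearMap.comp_apply, LinearEquiv.coe_coe] at e
    have e' := congrArg (Comodule.rcon (LinearMap.mul' k k ∘ₗ TensorProduct.map g.ofConv h)) e
    have h1 : ∀ y : (V ⊗[k] C) ⊗[k] D, Comodule.rcon (LinearMap.mul' k k ∘ₗ TensorProduct.map g.ofConv h)
        (TensorProduct.assoc k V C D y) = Comodule.rcon g.ofConv (Comodule.rcon h y) := by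
      intro y
      induction y with
      | zero => simp
      | add y z hy hz => simp only [map_add, hy, hz]
      | tmul a d =>
        induction a with
        | zero => simp
        | add p q hp hq => simp only [TensorProduct.add_tmul, map_add, hp, hq]
        | tmul p c => simp [smul_smul, mul_comm]
    have h2 : ∀ y : (V ⊗[k] D) ⊗[k] C, Comodule.rcon (LinearMap.mul' k k ∘ₗ TensorProduct.map g.ofConv h)
        ((TensorProduct.comm k D C).toLinearMap.lTensor V (TensorProduct.assoc k V D C y)) =
          Comodule.rcon h (Comodule.rcon g.ofConv y) := by
      intro y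
      induction y with
      | zero => simp
      | add y z hy hz => simp only [map_add, hy, hz]
      | tmul a d =>
        induction a with
        | zero => simp
        | add p q hp hq => simp only [TensorProduct.add_tmul, map_add, hp, hq]
        | tmul p c => simp [smul_smul, mul_comm]
    rw [h1, h2, Comodule.rcon_rTensor, Comodule.rcon_rTensor] at e'
    exact e'
  induction hv using Submodule.iSup_induction' with
  | mem f x hx =>
    obtain ⟨s, rfl⟩ := hx
    refine Submodule.mem_iSup_of_mem ⟨Comodule.dact (C := C) g.ofConv ∘ₗ f.1, ?_⟩ ⟨s, rfl⟩
    refine Comodule.isComodHom_iff.mpr fun h y => ?_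
    have hf := Comodule.isComodHom_iff.mp f.2 h y
    simp only [LinearMap.comp_apply]
    rw [hf]
    exact hc h.ofConv (f.1 y)
  | zero => rw [smul_zero]; exact Submodule.zero_mem _
  | add x y _ _ hx hy => rw [smul_add]; exact Submodule.add_mem _ hx hy

end Groth.Agent.S18814
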