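import Groth.Statements.S18817
import Groth.Agent.UnitInfLib.Main
import Groth.Agent.S18830
-- import your own Groth.Agent.* helpers here

set_option autoImplicit false
set_option backward.isDefEq.respectTransparency false
universe u
open CategoryTheory MonoidalCategory CartesianMonoidalCategory MonObj AlgebraicGeometry
open AlgGrp

namespace Groth.Agent.S18817

/-- Let k be a field and M an algebraic monoid over k, i.e. a monoid object in k-schemes whose
underlying scheme is of finite type over k, and assume M is geometrically integral. Let i : G → M be
the group of units of M: a monomorphism of k-schemes such that, for every k-scheme T, a T-valued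
point of M factors through i if and only if it is invertible in the monoid M(T). Then i is an open
immersion. -/
theorem result (k : Type u) [Field k]
    (M G : Over (Spec (CommRingCat.of k))) [MonObj M] [LocallyOfFiniteType M.hom] [QuasiCompact M.hom]
    [GeometricallyIntegral M.hom] (i : G ⟶ M) [Mono i]
    (hi : ∀ (T : Over (Spec (CommRingCat.of k))) (m : T ⟶ M), (∃ g : T ⟶ G, g ≫ i = m) ↔ IsUnit m) :
    IsOpenImmersion i.left := by
  obtain ⟨h1, h2⟩ := S18830.result k M G i hi
  haveI := h1
  haveI := LocallyOfFiniteType.isLocallyNoetherian M.hom
  haveI := LocallyOfFiniteType.isLocallyNoetherian G.hom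
  haveI : Mono i.left := Over.mono_left_of_mono i
  haveI : LocallyOfFiniteType (i.left ≫ M.hom) := by rw [Over.w]; infer_instance
  haveI : LocallyOfFiniteType i.left := locallyOfFiniteType_of_comp i.left M.hom
  obtain ⟨e, he⟩ := (hi _ (1 : 𝟙_ _ ⟶ M)).mpr isUnit_one
  let q : G.left := e.left (IsLocalRing.closedPoint k)
  have hq : i.left q = η[M].left (IsLocalRing.closedPoint k) := by
    show i.left (e.left _) = _
    rw [← Scheme.Hom.comp_apply, ← Over.comp_left, he, Hom.one_def, toUnit_unique (toUnit _) (𝟙 _), Category.id_comp]
  haveI : Flat i.left := UnitInfLib.flat_of_flat_at i hi q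
    (GrpPtsLib.flat_of_infinitesimal _ (UnitInfLib.infinitesimal i hi q hq))
  haveI : LocallyOfFinitePresentation i.left := inferInstance
  exact IsOpenImmersion.of_flat_of_mono i.left

end Groth.Agent.S18817
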