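import Groth.Statements.S18820
import Groth.Agent.GrpEasyLib.Quot
-- import your own Groth.Agent.* helpers here

set_option autoImplicit false
set_option backward.isDefEq.respectTransparency false
universe u
open CategoryTheory MonoidalCategory CartesianMonoidalCategory AlgebraicGeometry
open AlgGrp

namespace Groth.Agent.S18820

/-- Let k be a field, M a k-scheme (in the source a monoid k-scheme) acting on a k-scheme X through a :
M ×_k X → X, and z : Z → X a closed immersion which is surjective (a closed subscheme defined by an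
ideal all of whose sections are nilpotent, e.g. the reduction of X), stable under the action: a_Z :
M ×_k Z → Z satisfies (id_M × z) followed by a = a_Z followed by z. For an open subset U of X the
following are equivalent: (i) U is stable, i.e. a maps M ×_k U into U; (ii) U ∩ Z is stable, i.e.
a_Z maps M ×_k (U ∩ Z) into U ∩ Z. (The monoid axioms of the source play no role and are not
assumed.) -/
theorem result (k : Type u) [Field k]
    (M X Z : Over (Spec (CommRingCat.of k))) (a : M ⊗ X ⟶ X) (aZ : M ⊗ Z ⟶ Z) (z : Z ⟶ X)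
    [IsClosedImmersion z.left] [Surjective z.left] (hz : (M ◁ z) ≫ a = aZ ≫ z) (U : X.left.Opens) :
    (CartesianMonoidalCategory.snd M X).left ⁻¹ᵁ U ≤ a.left ⁻¹ᵁ U ↔
      (CartesianMonoidalCategory.snd M Z).left ⁻¹ᵁ (z.left ⁻¹ᵁ U) ≤ aZ.left ⁻¹ᵁ (z.left ⁻¹ᵁ U) := by
  have hs : Surjective (M ◁ z).left := Groth.Agent.GrpEasyLib.surjective_whiskerLeft z inferInstance
  have e1 : (M ◁ z).left ≫ (CartesianMonoidalCategory.snd M X).left =
      (CartesianMonoidalCategory.snd M Z).left ≫ z.left := by
    rw [← Over.comp_left, ← Over.comp_left, whiskerLeft_snd]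
  have e2 : (M ◁ z).left ≫ a.left = aZ.left ≫ z.left := by
    rw [← Over.comp_left, ← Over.comp_left, hz]
  constructor
  · intro h q hq
    have h1 : (M ◁ z).left q ∈ (CartesianMonoidalCategory.snd M X).left ⁻¹ᵁ U := by
      show ((M ◁ z).left ≫ (CartesianMonoidalCategory.snd M X).left) q ∈ U
      rw [e1]; exact hq
    have h2 : ((M ◁ z).left ≫ a.left) q ∈ U := h h1
    rw [e2] at h2
    exact h2
  · intro h p hp
    obtain ⟨q, rfl⟩ := hs.surj p
    have h1 : q ∈ (CartesianMonoidalCategory.snd M Z).left ⁻¹ᵁ (z.left ⁻¹ᵁ U) := by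
      show ((CartesianMonoidalCategory.snd M Z).left ≫ z.left) q ∈ U
      rw [← e1]; exact hp
    have h2 : (aZ.left ≫ z.left) q ∈ U := h h1
    rw [← e2] at h2
    exact h2

end Groth.Agent.S18820
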