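import Groth.Statements.S18822
import Mathlib
set_option backward.isDefEq.respectTransparency false
set_option backward.isDefEq.respectTransparency.types false

set_option autoImplicit false
universe u
open CategoryTheory MonoidalCategory CartesianMonoidalCategory MonObj AlgebraicGeometry Opposite
open Magnet

namespace Groth.Agent.S18822

/-- Let k be a commutative ring, M a monoid k-scheme and X a k-scheme with an action a of M. Then the
fixed-point subpresheaf X^M of X, whose T-valued points are the k-morphisms x : T → X such that g ·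
(x ∘ t) = x ∘ t for every k-scheme T', every t : T' → T and every T'-valued point g of M, is a sheaf
for the Zariski topology on k-schemes (the topology induced on schemes over Spec k). -/
theorem result (k : Type u) [CommRing k]
    (M X : Over (Spec (CommRingCat.of k))) [MonObj M] (a : Magnet.MonAct M X) :
    Presheaf.IsSheaf (Scheme.zariskiTopology.over (Spec (CommRingCat.of k))) (Magnet.MonAct.fixedPsh a) := by
  haveI : (Scheme.zariskiTopology.over (Spec (CommRingCat.of k))).Subcanonical := inferInstance
  rw [isSheaf_iff_isSheaf_of_type]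
  intro T R hR x hx
  have hX : Presieve.IsSheaf (Scheme.zariskiTopology.over (Spec (CommRingCat.of k))) (yoneda.obj X) :=
    GrothendieckTopology.Subcanonical.isSheaf_of_isRepresentable _
  let x' : Presieve.FamilyOfElements (yoneda.obj X) R.arrows := fun U f hf => (x f hf).1
  have hx' : x'.Compatible := fun U₁ U₂ W g₁ g₂ f₁ f₂ h₁ h₂ e => congrArg Subtype.val (hx g₁ g₂ h₁ h₂ e)
  obtain ⟨y, hy, huniq⟩ := hX R hR x' hx'
  have hfix : ∀ (T' : Over (Spec (CommRingCat.of k))) (t : T' ⟶ T) (g : T' ⟶ M), lift g (t ≫ y) ≫ a.act = t ≫ y := by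
    intro T' t g
    refine (hX (R.pullback t) (GrothendieckTopology.pullback_stable _ t hR)).isSeparatedFor.ext fun U f hf => ?_
    change f ≫ lift g (t ≫ y) ≫ a.act = f ≫ t ≫ y
    have e : (f ≫ t) ≫ y = (x (f ≫ t) hf).1 := hy (f ≫ t) hf
    rw [comp_lift_assoc, ← Category.assoc f t y, e]
    have := (x (f ≫ t) hf).2 U (𝟙 U) (f ≫ g)
    simpa using this
  refine ⟨⟨y, hfix⟩, fun U f hf => Subtype.ext (hy f hf), fun z hz => Subtype.ext (huniq z.1 fun U f hf => congrArg Subtype.val (hz f hf))⟩

end Groth.Agent.S18822
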