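import Groth.Statements.S18823
import Groth.Agent.WeilClosedLib.Transporter
import Groth.Agent.WeilClosedLib.EssFree
-- import your own Groth.Agent.* helpers here

set_option autoImplicit false
set_option backward.isDefEq.respectTransparency false
set_option backward.isDefEq.respectTransparency false
universe u
open CategoryTheory MonoidalCategory CartesianMonoidalCategory AlgebraicGeometry
open AlgGrp

namespace Groth.Agent.S18823

/-- Let k be a field, X a separated k-scheme, M a k-scheme (in the source a monoid k-scheme) acting on X
through a : M ×_k X → X, and i : G → M a morphism of k-schemes which is a scheme-theoretically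
dominant open immersion: no nonzero quasi-coherent ideal of O_M restricts to zero on G (for
quasi-compact i this is the usual schematic density, O_M → i_*O_G injective; in the source G is the
group of units of M, open and schematically dense). For a k-scheme T and a T-valued point x of X, x
is fixed under M, i.e. a ∘ (id_M × x) = x ∘ pr_T on M ×_k T, if and only if x is fixed under G, i.e.
a ∘ (i × x) = x ∘ pr_T on G ×_k T. Thus the fixed-point subpresheaves X^M and X^G of X are equal.
(The published statement has no separatedness assumption on X and reduces to points landing in an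
affine open; the step asserting that the equalizer of the two maps M ×_k T → X is closed uses that
the target is separated, so X is taken separated here, the case the printed argument establishes.
The monoid structure and the action axioms play no role in that argument and are not assumed.) -/
theorem result (k : Type u) [Field k]
    (M G X : Over (Spec (CommRingCat.of k))) [IsSeparated X.hom] (a : M ⊗ X ⟶ X) (i : G ⟶ M)
    [IsOpenImmersion i.left] [IsSchemeTheoreticallyDominant i.left]
    (T : Over (Spec (CommRingCat.of k))) (x : T ⟶ X) :
    (M ◁ x) ≫ a = CartesianMonoidalCategory.snd M T ≫ x ↔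
      (G ◁ x) ≫ (i ▷ X) ≫ a = CartesianMonoidalCategory.snd G T ≫ x := by
  obtain ⟨E, jE, hjE, hE⟩ := Groth.Agent.WeilClosedLib.exists_closed_equalizer
    ((M ◁ x) ≫ a) (CartesianMonoidalCategory.snd M T ≫ x)
  constructor
  · intro h
    have := congrArg ((i ▷ T) ≫ ·) h
    rw [← whisker_exchange_assoc, ← Category.assoc, ← Category.assoc, whiskerRight_snd] at this
    simpa only [Category.assoc] using this
  · intro h
    haveI := hjE
    obtain ⟨C, t, ht, hC, -⟩ := Groth.Agent.WeilClosedLib.exists_closed_forall
      (Groth.Agent.WeilClosedLib.isEssentiallyFree_of_field T.hom) jE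
    obtain ⟨z, hz⟩ := (hC G i).2 fun S'' s y => by
      rw [hE]
      have h' := congrArg (lift s y ≫ ·) h
      simpa [MonObj.comp_mul] using h'
    haveI := ht
    haveI : IsSchemeTheoreticallyDominant (z.left ≫ t.left) := by rw [← Over.comp_left, hz]; infer_instance
    haveI : IsIso t.left := by
      have h1 : t.left.ker = ⊥ :=
        le_bot_iff.mp ((Scheme.Hom.le_ker_comp z.left t.left).trans (Scheme.Hom.ker_eq_bot _).le)
      exact IsClosedImmersion.isIso_iff_ker_eq_bot.mpr h1
    haveI : IsIso ((Over.forget _).map t) := inferInstanceAs (IsIso t.left)
    haveI : IsIso t := isIso_of_reflects_iso t (Over.forget _)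
    obtain ⟨l, hl⟩ := (hC M (𝟙 M)).1 ⟨inv t, by simp⟩ (M ⊗ T) (fst M T) (snd M T)
    have := (hE _ _).1 ⟨l, hl⟩
    simpa using this

end Groth.Agent.S18823
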