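import Groth.Statements.S18826
import Groth.Agent.GeomQuotLib.Open
import Groth.Agent.EtSmLib.Core

set_option autoImplicit false
universe u
open CategoryTheory MonoidalCategory CartesianMonoidalCategory MonObj AlgebraicGeometry
open AlgGrp

namespace Groth.Agent.S18826

set_option backward.isDefEq.respectTransparency false

variable {S : Scheme.{u}} {G X Y : Over S} [GrpObj G] (aX : AlgGrp.Action G X) (aY : AlgGrp.Action G Y)

/-- An equivariant morphism and the two projections. -/
theorem isPullback_act (f : X ⟶ Y) (hf : (G ◁ f) ≫ aY.act = aX.act ≫ f) :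
    IsPullback (snd G X) (G ◁ f) f (snd G Y) ∧ IsPullback aX.act (G ◁ f) f aY.act := by
  refine ⟨IsPullback.of_isLimit (Limits.PullbackCone.IsLimit.mk (whiskerLeft_snd G f).symm
      (fun s => lift (s.snd ≫ fst G Y) s.fst) (fun s => lift_snd _ _) (fun s => ?_) fun s m h₁ h₂ => ?_),
    IsPullback.of_isLimit (Limits.PullbackCone.IsLimit.mk hf.symm
      (fun s => lift (s.snd ≫ fst G Y) (lift (s.snd ≫ fst G Y)⁻¹ s.fst ≫ aX.act)) (fun s => ?_) (fun s => ?_)
      fun s m h₁ h₂ => ?_)⟩
  · apply CartesianMonoidalCategory.hom_ext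
    · rw [Category.assoc, whiskerLeft_fst, lift_fst]
    · rw [Category.assoc, whiskerLeft_snd, lift_snd_assoc, s.condition]
  · apply CartesianMonoidalCategory.hom_ext
    · rw [lift_fst, ← h₂, Category.assoc, whiskerLeft_fst]
    · rw [lift_snd, h₁]
  · rw [← GrpQuotLib.mul_smul, mul_inv_cancel, GrpQuotLib.one_smul]
  · apply CartesianMonoidalCategory.hom_ext
    · rw [Category.assoc, whiskerLeft_fst, lift_fst]
    · have h : lift (s.snd ≫ fst G Y)⁻¹ s.fst ≫ aX.act ≫ f = s.snd ≫ snd G Y := by
        rw [← hf, lift_whiskerLeft_assoc, s.condition,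
          show s.snd ≫ aY.act = lift (s.snd ≫ fst G Y) (s.snd ≫ snd G Y) ≫ aY.act by
            rw [← comp_lift, lift_fst_snd, Category.comp_id],
          ← GrpQuotLib.mul_smul, inv_mul_cancel, GrpQuotLib.one_smul]
      rw [Category.assoc, whiskerLeft_snd, lift_snd_assoc, Category.assoc, h]
  · have e : m ≫ fst G X = s.snd ≫ fst G Y := by rw [← h₂, Category.assoc, whiskerLeft_fst]
    apply CartesianMonoidalCategory.hom_ext
    · rw [lift_fst, e]
    · rw [lift_snd, ← h₁, ← e,
        show m ≫ aX.act = lift (m ≫ fst G X) (m ≫ snd G X) ≫ aX.act by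
          rw [← comp_lift, lift_fst_snd, Category.comp_id],
        ← GrpQuotLib.mul_smul, inv_mul_cancel, GrpQuotLib.one_smul]

/-- Let k be a field, G a locally algebraic group over k (a group k-scheme locally of finite type)
acting on k-schemes X and Y, and f : X → Y a G-equivariant k-morphism. Let P be a property of
morphisms of schemes which is local on the target for the Zariski topology, stable under base
change, and descends along flat surjective universally open morphisms (the published hypothesis is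
descent along fpqc morphisms; the printed argument descends only along the restriction G ×_k U → G·U
of the action, which is flat, surjective and universally open). Then there is a largest open subset
V of Y such that the restriction f⁻¹(V) → V of f has P, and this V is G-stable: the action G ×_k Y →
Y maps G ×_k V into V. -/
theorem result (k : Type u) [Field k]
    (G X Y : Over (Spec (CommRingCat.of k))) [GrpObj G] [LocallyOfFiniteType G.hom]
    (aX : AlgGrp.Action G X) (aY : AlgGrp.Action G Y) (f : X ⟶ Y) (hf : (G ◁ f) ≫ aY.act = aX.act ≫ f)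
    (P : MorphismProperty Scheme.{u}) [IsZariskiLocalAtTarget P] [P.IsStableUnderBaseChange]
    [P.DescendsAlong (@Flat ⊓ @Surjective ⊓ @UniversallyOpen)] :
    ∃ V : Y.left.Opens, P (f.left ∣_ V) ∧ (∀ V' : Y.left.Opens, P (f.left ∣_ V') → V' ≤ V) ∧
      (CartesianMonoidalCategory.snd G Y).left ⁻¹ᵁ V ≤ aY.act.left ⁻¹ᵁ V := by
  obtain ⟨hsnd, hact⟩ := isPullback_act aX aY f hf
  have sqs := hsnd.map (Over.forget _)
  have sqa := hact.map (Over.forget _)
  let q : ∀ {T : Scheme.{u}}, (T ⟶ Y.left) → Prop := fun t => P (Limits.pullback.snd f.left t)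
  have hq : ∀ V : Y.left.Opens, q V.ι ↔ P (f.left ∣_ V) := fun V =>
    P.arrow_mk_iso_iff (Arrow.isoMk (pullbackRestrictIsoRestrict f.left V) (Iso.refl _)
      (by simp [pullbackRestrictIsoRestrict_hom_morphismRestrict]))
  have hqc : ∀ {T T' : Scheme.{u}} (i : T ⟶ Y.left) (w : T' ⟶ T),
      q (w ≫ i) ↔ P (Limits.pullback.snd (Limits.pullback.snd f.left i) w) := fun i w =>
    (P.arrow_mk_iso_iff (Arrow.isoMk (Limits.pullbackLeftPullbackSndIso f.left i w) (Iso.refl _)
      (by simp))).symm
  let V : Y.left.Opens := ⨆ i : {V : Y.left.Opens // P (f.left ∣_ V)}, i.1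
  have hV : P (f.left ∣_ V) := by
    refine (IsZariskiLocalAtTarget.iff_of_iSup_eq_top (P := P)
      (fun i : {V : Y.left.Opens // P (f.left ∣_ V)} => V.ι ⁻¹ᵁ i.1) ?_).mpr fun i => ?_
    · rw [← Scheme.Hom.preimage_iSup]
      exact eq_top_iff.mpr fun z _ => z.2
    · refine (P.arrow_mk_iso_iff ((morphismRestrictRestrict f.left V (V.ι ⁻¹ᵁ i.1)) ≪≫ morphismRestrictEq f.left ?_)).mpr i.2
      apply TopologicalSpace.Opens.ext
      show V.ι '' (V.ι ⁻¹' (i.1 : Set Y.left)) = i.1
      rw [Set.image_preimage_eq_inter_range, Scheme.Opens.range_ι]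
      exact Set.inter_eq_left.mpr (show i.1 ≤ V from le_iSup (fun i : {V : Y.left.Opens // P (f.left ∣_ V)} => i.1) i)
  refine ⟨V, hV, fun V' hV' => le_iSup (fun i : {V : Y.left.Opens // P (f.left ∣_ V)} => i.1) ⟨V', hV'⟩, ?_⟩
  haveI : Flat G.hom := inferInstance
  haveI : UniversallyOpen G.hom := inferInstance
  haveI := GeomQuotLib.universallyOpen_act aY
  haveI : Flat aY.act.left := by
    let σ := lift (fst G Y) aY.act
    have hσ : σ ≫ lift (fst G Y) (lift (fst G Y)⁻¹ (snd G Y) ≫ aY.act) = 𝟙 _ ∧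
        lift (fst G Y) (lift (fst G Y)⁻¹ (snd G Y) ≫ aY.act) ≫ σ = 𝟙 _ := by
      constructor <;> apply CartesianMonoidalCategory.hom_ext <;> simp only [σ, Category.assoc, lift_fst,
        lift_snd, Category.id_comp, comp_lift_assoc, GrpObj.comp_inv]
      · rw [show lift (fst G Y)⁻¹ aY.act = lift (fst G Y)⁻¹ (lift (fst G Y) (snd G Y) ≫ aY.act) by
            rw [lift_fst_snd, Category.id_comp],
          ← GrpQuotLib.mul_smul, inv_mul_cancel, GrpQuotLib.one_smul]
      · rw [← GrpQuotLib.mul_smul, mul_inv_cancel, GrpQuotLib.one_smul]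
    haveI : IsIso σ := ⟨_, hσ.1, hσ.2⟩
    haveI : IsIso σ.left := inferInstanceAs (IsIso ((Over.forget _).map σ))
    haveI : Flat (snd G Y).left := inferInstanceAs (Flat (Limits.pullback.snd G.hom Y.hom))
    rw [show aY.act.left = σ.left ≫ (snd G Y).left by rw [← Over.comp_left, lift_snd]]
    infer_instance
  let s := (snd G Y).left
  let A : (G ⊗ Y).left.Opens := s ⁻¹ᵁ V
  let W : Y.left.Opens := ⟨aY.act.left '' A, aY.act.left.isOpenMap _ A.2⟩
  let m := A.ι ≫ aY.act.left
  have hmr : Set.range m ⊆ Set.range W.ι := by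
    rw [Scheme.Opens.range_ι]
    rintro _ ⟨z, rfl⟩
    exact ⟨A.ι z, z.2, rfl⟩
  let v := IsOpenImmersion.lift W.ι m hmr
  have hv : v ≫ W.ι = m := IsOpenImmersion.lift_fac _ _ _
  have sqv := EtSmLib.isPullback_of_factor hv
  have hQv : (@Flat ⊓ @Surjective ⊓ @UniversallyOpen : MorphismProperty Scheme.{u}) v := by
    refine ⟨⟨MorphismProperty.of_isPullback (P := @Flat) sqv inferInstance, ⟨fun w => ?_⟩⟩,
      MorphismProperty.of_isPullback (P := @UniversallyOpen) sqv inferInstance⟩
    obtain ⟨z, hz, hzw⟩ := w.2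
    refine ⟨⟨z, hz⟩, W.ι.isEmbedding.injective ?_⟩
    rw [← Scheme.Hom.comp_apply, hv]
    exact hzw
  have h1 : q (A.ι ≫ s) := by
    show P (Limits.pullback.snd f.left (A.ι ≫ s))
    rw [← morphismRestrict_ι s V]
    exact (hqc V.ι (s ∣_ V)).mpr (P.pullback_snd _ _ ((hq V).mpr hV))
  have h2 : q m := by
    let F := (G ◁ f).left
    have e1 := (IsPullback.of_hasPullback F A.ι).paste_horiz sqs
    have e2 := (IsPullback.of_hasPullback F A.ι).paste_horiz sqa
    have k1 : P (Limits.pullback.snd F A.ι) := (P.arrow_mk_iso_iff (Arrow.isoMk e1.isoPullback (Iso.refl _)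
      (by exact e1.isoPullback_hom_snd.trans (Category.comp_id _).symm))).mpr h1
    exact (P.arrow_mk_iso_iff (Arrow.isoMk e2.isoPullback (Iso.refl _)
      (by exact e2.isoPullback_hom_snd.trans (Category.comp_id _).symm))).mp k1
  have h3 : q W.ι := by
    have h : P (Limits.pullback.snd f.left (v ≫ W.ι)) := hv.symm ▸ h2
    exact MorphismProperty.of_pullback_snd_of_descendsAlong hQv ((hqc W.ι v).mp h)
  intro z hz
  exact (le_iSup (fun i : {V : Y.left.Opens // P (f.left ∣_ V)} => i.1) ⟨W, (hq W).mp h3⟩) ⟨z, hz, rfl⟩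

end Groth.Agent.S18826
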