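import Groth.Statements.S18831
import Groth.Agent.VBLib.Point
-- import your own Groth.Agent.* helpers here

set_option autoImplicit false
set_option backward.isDefEq.respectTransparency false
universe u
open CategoryTheory CategoryTheory.Limits AlgebraicGeometry
open VBCurve

namespace Groth.Agent.S18831
open CategoryTheory CategoryTheory.Limits AlgebraicGeometry

/-- Let X be a smooth projective integral curve over an algebraically closed field k of characteristic
zero, and G a finite locally free O_X-module of rank r ≥ 1 which is slope-semistable, of slope μ =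
deg G / r (deg G = χ(G) − r χ(O_X)). Then dim_k H^0(X, G) ≤ r · max(⌊μ⌋ + 1, 0); in particular a
slope-semistable bundle of negative slope has no nonzero global section. -/
theorem result (k : Type u) [Field k] [IsAlgClosed k] [CharZero k]
    (X : Scheme.{u}) [X.Over (Spec (CommRingCat.of k))]
    [IsIntegral X] [IsProper (X ↘ Spec (CommRingCat.of k))] [Smooth (X ↘ Spec (CommRingCat.of k))]
    (hdim : topologicalKrullDim X = 1)
    (r : ℕ) (hr : 0 < r) (G : X.Modules) (hG : FlatMod.IsFinLocFreeOfRank r G)
    (hss : ModFun.IsSlopeSemistable k X G r) :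
    (Module.finrank k (Coh.HH X G 0) : ℤ) ≤
      (r : ℤ) * max (⌊(Curv2.deg k X G r : ℚ) / (r : ℚ)⌋ + 1) 0 := by
  haveI := VBLib.isRegCurve_of_smooth k (X := X) hdim.le
  haveI := EulerIneqLib.isNoetherian_proper (X := X) k
  set μ : ℚ := (Curv2.deg k X G r : ℚ) / (r : ℚ) with hμ
  obtain ⟨m, hm⟩ : ∃ m : ℕ, (m : ℤ) = max (⌊μ⌋ + 1) 0 := ⟨_, Int.toNat_of_nonneg (le_max_right _ _)⟩
  rw [← hm]
  have h1 : μ < (m : ℚ) := by
    have h2 : ⌊μ⌋ < (m : ℤ) := by
      rw [hm]
      exact lt_max_of_lt_left (lt_add_one _)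
    exact_mod_cast Int.floor_lt.1 h2
  have hr' : (0 : ℚ) < r := by exact_mod_cast hr
  rw [hμ, div_lt_iff₀ hr'] at h1
  have h3 : VBLib.dg k G < m * r := by
    rw [VBLib.dg_eq k hG]
    exact_mod_cast h1
  exact_mod_cast VBLib.finrank_H0_le k hdim hr m G hG
    (VBLib.slopeLE_of k hG (VBLib.dg_eq k hG ▸ hss)) h3

end Groth.Agent.S18831
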