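import Groth.Statements.S18832
import Mathlib
import Groth.Agent.S2116
import Groth.Agent.JetLib.Basic

set_option autoImplicit false
universe u
open Polynomial
open DefT

namespace Groth.Agent.S18832

/-- Let k be an algebraically closed field of characteristic zero, A a finitely generated k-algebra and
m a maximal ideal of A. Then A_m is a regular local ring (the pointed scheme (Spec A, m) is smooth
at m) if and only if, for every l ≥ 1, every k-algebra homomorphism φ : A → k[X]/(X^l) mapping m
into the nilpotent elements extends to a k-algebra homomorphism ψ : A → k[X]/(X^(l+1)) reducing to φ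
modulo X^l. Only jets along Spec k[X]/(X^l) are tested, not all local Artinian algebras. -/
theorem result (k : Type u) [Field k] [IsAlgClosed k] [CharZero k]
    (A : Type u) [CommRing A] [Algebra k A] [Algebra.FiniteType k A]
    (m : Ideal A) [m.IsMaximal] :
    IsRegularLocalRing (Localization.AtPrime m) ↔
      ∀ (l : ℕ), 1 ≤ l →
        ∀ (φ : A →ₐ[k] (k[X] ⧸ Ideal.span {(X : k[X]) ^ l})),
          (∀ a ∈ m, IsNilpotent (φ a)) →
          ∃ ψ : A →ₐ[k] (k[X] ⧸ Ideal.span {(X : k[X]) ^ (l + 1)}),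
            (Ideal.Quotient.factorₐ k
                (Ideal.span_singleton_le_span_singleton.mpr (pow_dvd_pow (X : k[X]) (Nat.le_succ l)))).comp ψ = φ := by
  classical
  haveI : IsNoetherianRing A := Algebra.FiniteType.isNoetherianRing k A
  let L := Localization.AtPrime m
  let J : ℕ → Ideal k[X] := fun l => Ideal.span {(X : k[X]) ^ l}
  have hle : ∀ {l l' : ℕ}, l ≤ l' → J l' ≤ J l := fun h =>
    Ideal.span_singleton_le_span_singleton.mpr (pow_dvd_pow (X : k[X]) h)
  constructor
  · intro hreg l hl φ hφ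
    haveI : Algebra.FormallySmooth k L := (Groth.Agent.S2116.result m).mp hreg
    have hunit : ∀ y : m.primeCompl, IsUnit (φ y) := by
      rintro ⟨a, ha⟩
      obtain ⟨b, i, hi, hbi⟩ := ‹m.IsMaximal›.exists_inv ha
      have h1 : IsUnit (φ (b * a)) := by
        rw [show b * a = 1 - i by linear_combination hbi, map_sub, map_one]
        exact (hφ i hi).isUnit_one_sub
      rw [map_mul] at h1
      exact isUnit_of_mul_isUnit_right h1
    let φL : L →ₐ[k] k[X] ⧸ J l := IsLocalization.liftAlgHom (M := m.primeCompl) hunit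
    let g : (k[X] ⧸ J (l + 1)) →ₐ[k] k[X] ⧸ J l := Ideal.Quotient.factorₐ k (hle (Nat.le_succ l))
    have hg : Function.Surjective g := Ideal.Quotient.factor_surjective (hle (Nat.le_succ l))
    have hnil : IsNilpotent (RingHom.ker (g : (k[X] ⧸ J (l + 1)) →+* k[X] ⧸ J l)) := by
      refine ⟨2, ?_⟩
      rw [show RingHom.ker (g : (k[X] ⧸ J (l + 1)) →+* k[X] ⧸ J l) =
        (J l).map (Ideal.Quotient.mk (J (l + 1))) from Ideal.Quotient.factor_ker (hle (Nat.le_succ l)), ← Ideal.map_pow,
        Ideal.zero_eq_bot, Ideal.map_eq_bot_iff_le_ker, Ideal.mk_ker, Ideal.span_singleton_pow,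
        ← pow_mul]
      exact hle (by omega)
    refine ⟨(Algebra.FormallySmooth.liftOfSurjective φL g hg hnil).comp (IsScalarTower.toAlgHom k A L), ?_⟩
    refine AlgHom.ext fun a => ?_
    show g (Algebra.FormallySmooth.liftOfSurjective φL g hg hnil (algebraMap A L a)) = φ a
    rw [Algebra.FormallySmooth.liftOfSurjective_apply]
    exact IsLocalization.lift_eq _ a
  intro hlift
  -- the point
  letI : Field (A ⧸ m) := Ideal.Quotient.field m
  haveI : Module.Finite k (A ⧸ m) := finite_of_finite_type_of_isJacobsonRing k (A ⧸ m)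
  haveI : Algebra.IsIntegral k (A ⧸ m) := Algebra.IsIntegral.of_finite k (A ⧸ m)
  let e := AlgEquiv.ofBijective (Algebra.ofId k (A ⧸ m)) IsAlgClosed.algebraMap_bijective_of_isIntegral
  let c : A →ₐ[k] k := e.symm.toAlgHom.comp (Ideal.Quotient.mkₐ k m)
  have hc : ∀ a, c a = 0 ↔ a ∈ m := fun a => by
    show e.symm (Ideal.Quotient.mk m a) = 0 ↔ a ∈ m
    rw [map_eq_zero_iff _ e.symm.injective, Ideal.Quotient.eq_zero_iff_mem]
  -- minimal generators modulo the square
  obtain ⟨n, x, hxm, hxgen, hxind⟩ := Groth.Agent.JetLib.exists_generators m c hc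
  -- arcs through every tangent direction
  have harc : ∀ (v : Fin n → k) (j : ℕ), ∃ φ : A →ₐ[k] k[X] ⧸ J (j + 2),
      (∀ a ∈ m, IsNilpotent (φ a)) ∧
      (∀ a, Ideal.Quotient.factor (hle (Nat.le_add_left 1 (j + 1))) (φ a) = Ideal.Quotient.mk (J 1) (C (c a))) ∧
      ∀ i, Ideal.Quotient.factor (hle (Nat.le_add_left 2 j)) (φ (x i)) = Ideal.Quotient.mk (J 2) (C (v i) * X) := by
    intro v j
    induction j with
    | zero =>
      obtain ⟨ℓ, hℓ1, hℓ2, hℓv⟩ := hxind v
      obtain ⟨φ, hφ⟩ := Groth.Agent.JetLib.exists_tangent_map c ℓ hℓ1 hℓ2 (fun a => (hc a).mp)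
      refine ⟨φ, fun a ha => ⟨2, ?_⟩, fun a => ?_, fun i => ?_⟩
      · rw [hφ, (hc a).mpr ha, map_zero, ← map_pow, Ideal.Quotient.eq_zero_iff_mem]
        simp only [zero_add, mul_pow]
        exact Ideal.mem_span_singleton.mpr (dvd_mul_left _ _)
      · rw [hφ, Ideal.Quotient.factor_mk, Ideal.Quotient.eq, add_sub_cancel_left]
        exact Ideal.mem_span_singleton.mpr (by rw [pow_one]; exact dvd_mul_left _ _)
      · rw [hφ, Ideal.Quotient.factor_mk, (hc _).mpr (hxm i), map_zero, hℓv]
        simp only [zero_add]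
    | succ j ih =>
      obtain ⟨φ, hφn, hφc, hφv⟩ := ih
      obtain ⟨ψ, hψ⟩ := hlift (j + 2) (by omega) φ hφn
      have hψ' : ∀ a, Ideal.Quotient.factor (hle (Nat.le_succ (j + 2))) (ψ a) = φ a :=
        fun a => AlgHom.congr_fun hψ a
      refine ⟨ψ, fun a ha => ?_, fun a => ?_, fun i => ?_⟩
      · obtain ⟨N, hN⟩ := hφn a ha
        refine ⟨N * 2, ?_⟩
        have h0 : Ideal.Quotient.factor (hle (Nat.le_succ (j + 2))) (ψ a ^ N) = 0 := by
          rw [map_pow, hψ', hN]
        obtain ⟨y, hy⟩ := Ideal.Quotient.mk_surjective (ψ a ^ N)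
        rw [← hy, Ideal.Quotient.factor_mk, Ideal.Quotient.eq_zero_iff_mem] at h0
        rw [pow_mul, ← hy, ← map_pow, Ideal.Quotient.eq_zero_iff_mem]
        have := Ideal.pow_mem_pow h0 2
        rw [Ideal.span_singleton_pow, ← pow_mul] at this
        exact hle (by omega) this
      · rw [← hφc a, ← hψ' a]
        exact (Ideal.Quotient.factor_comp_apply (hle (Nat.le_succ (j + 2))) _ _).symm
      · rw [← hφv i, ← hψ' (x i)]
        exact (Ideal.Quotient.factor_comp_apply (hle (Nat.le_succ (j + 2))) _ _).symm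
  -- the generators are analytically independent
  have hform : ∀ (d : ℕ) (P : MvPolynomial (Fin n) k) (s : A), P.IsHomogeneous d → s ∉ m →
      MvPolynomial.aeval x P * s ∈ m ^ (d + 1) → P = 0 := by
    intro d P s hP hs hmem
    refine MvPolynomial.funext fun v => ?_
    rw [map_zero]
    obtain ⟨φ, -, hφc, hφv⟩ := harc v d
    exact Groth.Agent.JetLib.eval_eq_zero_of_arc m c hc φ hφc x v hφv P s hP hs hmem
  have hinj := Groth.Agent.JetLib.injective_aeval m x hxm hform
  exact Groth.Agent.JetLib.isRegularLocalRing_of_injective m x hxm hxgen hinj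

end Groth.Agent.S18832
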