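import Groth.Statements.S18836
import Groth.Agent.QuotRepLib.Closed
import Groth.Agent.QuotRepLib.ProjAmb
import Groth.Agent.FBaseLib.RedTensorScheme

set_option autoImplicit false
universe u
open CategoryTheory CategoryTheory.Limits AlgebraicGeometry
open FGA

namespace Groth.Agent.S18836

/-- Let k be an algebraically closed field of characteristic zero, X a projective k-scheme (proper over
k, carrying an ample invertible sheaf), R a discrete valuation ring containing k with fraction field
K, X_R = X ×_k Spec R and X_K = X_R ×_(Spec R) Spec K with j : X_K → X_R the canonical open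
immersion. If F is a coherent module on X_K which is a quotient of O^N, then there is a coherent
module F' on X_R, flat over Spec R and again a quotient of O^N, whose restriction j^*F' to X_K is
isomorphic to F. (The Hilbert polynomial of the closed fibre of F' then equals that of F by
flatness; that clause is not restated.) The published statement is for a valuation ring R containing
k; its argument uses a uniformiser, and this row takes R a discrete valuation ring. The row asserts
only the existence of an isomorphism j^*F' ≅ F, not its compatibility with the two quotient maps. -/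
theorem result (k : Type u) [Field k] [IsAlgClosed k] [CharZero k]
    (X : Scheme.{u}) [X.Over (Spec (CommRingCat.of k))] [IsProper (X ↘ Spec (CommRingCat.of k))]
    (L : X.Modules) (hLi : PicF.IsInvertible L) (hL : CohB1.IsAmple L)
    (R : Type u) [CommRing R] [IsDomain R] [IsDiscreteValuationRing R] [Algebra k R]
    (N : ℕ)
    (F : (pullback (pullback.snd (X ↘ Spec (CommRingCat.of k))
              (Spec.map (CommRingCat.ofHom (algebraMap k R))))
            (Spec.map (CommRingCat.ofHom (algebraMap R (FractionRing R))))).Modules)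
    (hF : Coh.IsCoh F)
    (q : FlatMod.freeMod _ N ⟶ F) (hq : Epi q) :
    ∃ (F' : (pullback (X ↘ Spec (CommRingCat.of k)) (Spec.map (CommRingCat.ofHom (algebraMap k R)))).Modules)
      (q' : FlatMod.freeMod _ N ⟶ F'),
      Coh.IsCoh F' ∧ Epi q' ∧
      FlatMod.IsFlatOver (pullback.snd (X ↘ Spec (CommRingCat.of k))
          (Spec.map (CommRingCat.ofHom (algebraMap k R)))) F' ∧
      Nonempty ((Scheme.Modules.pullback
          (pullback.fst (pullback.snd (X ↘ Spec (CommRingCat.of k))
              (Spec.map (CommRingCat.ofHom (algebraMap k R))))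
            (Spec.map (CommRingCat.ofHom (algebraMap R (FractionRing R)))))).obj F' ≅ F) := by
  let f := pullback.snd (X ↘ Spec (CommRingCat.of k)) (Spec.map (CommRingCat.ofHom (algebraMap k R)))
  let h₀ : Spec (CommRingCat.of R) ⟶ Spec (CommRingCat.of R) := 𝟙 _
  let T : Over (Spec (CommRingCat.of R)) := Over.mk h₀
  let U : Over (Spec (CommRingCat.of R)) :=
    Over.mk (Spec.map (CommRingCat.ofHom (algebraMap R (FractionRing R))))
  let j : U ⟶ T := Over.homMk (Spec.map (CommRingCat.ofHom (algebraMap R (FractionRing R)))) (Category.comp_id _)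
  haveI : IsProper f := MorphismProperty.pullback_snd (P := @IsProper) _ _ ‹_›
  haveI : IsNoetherianRing R := inferInstance
  haveI : IsLocallyNoetherian (Spec (CommRingCat.of R)) := inferInstance
  haveI : IsLocallyNoetherian (pullback (X ↘ Spec (CommRingCat.of k)) (Spec.map (CommRingCat.ofHom (algebraMap k R)))) :=
    LocallyOfFiniteType.isLocallyNoetherian f
  haveI : IsOpenImmersion j.left := QuotRep.isOpenImmersion_spec_fraction R (FractionRing R)
  haveI : IsAffine U.left := inferInstanceAs (IsAffine (Spec (CommRingCat.of (FractionRing R))))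
  haveI : IsLocallyNoetherian U.left := inferInstanceAs (IsLocallyNoetherian (Spec (CommRingCat.of (FractionRing R))))
  haveI := QuotRep.isLocallyNoetherian_XT (f := f) (T := U)
  let E := FlatMod.freeMod (pullback (X ↘ Spec (CommRingCat.of k)) (Spec.map (CommRingCat.ofHom (algebraMap k R)))) N
  have hE : Coh.IsCoh E := QuotRep.isCoh_freeMod' _ N
  have hunit : ∀ a : R, a ≠ 0 → IsUnit (j.left.appTop ((Scheme.ΓSpecIso (CommRingCat.of R)).inv a)) := by
    intro a ha
    have h1 := ConcreteCategory.congr_hom
      (Scheme.ΓSpecIso_inv_naturality (CommRingCat.ofHom (algebraMap R (FractionRing R)))) a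
    change (Scheme.ΓSpecIso (CommRingCat.of (FractionRing R))).inv (algebraMap R (FractionRing R) a) =
      j.left.appTop ((Scheme.ΓSpecIso (CommRingCat.of R)).inv a) at h1
    rw [← h1]
    exact (IsUnit.mk0 (algebraMap R (FractionRing R) a)
      ((map_ne_zero_iff _ (IsFractionRing.injective R (FractionRing R))).2 ha)).map _
  -- the family over the fraction field
  let φ : FGA.ET f E U ⟶ F := (DCohLib.pullFreeIso (pullback.fst f U.hom) N).hom ≫ q
  haveI := hq
  haveI : Epi φ := epi_comp _ _
  let K₀ := kernelSubobject φ
  let ec : cokernel K₀.arrow ≅ F :=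
    cokernelIsoOfEq (kernelSubobject_arrow φ).symm ≪≫ cokernelEpiComp _ _ ≪≫
      (Abelian.coimageIsoImage φ ≪≫ asIso (Abelian.image.ι φ))
  haveI := hF.1
  let K : FGA.QuotSet f E U := ⟨K₀, TildeOpenLib.isCoh_of_iso' ec.symm hF,
    FBaseLib.isFlatOver_specField _ _⟩
  obtain ⟨K', hK'⟩ := QuotRep.exists_extension f E hE h₀ j hunit K
  -- back to the scheme over the ring
  let k₀ := pullback.fst f T.hom
  haveI : IsIso k₀ := inferInstanceAs (IsIso (pullback.fst f (𝟙 (Spec (CommRingCat.of R)))))
  haveI : IsLocallyNoetherian T.left := ‹IsLocallyNoetherian (Spec (CommRingCat.of R))›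
  haveI := K'.2.1.1
  let P := Scheme.Modules.pullback (inv k₀)
  haveI : P.IsLeftAdjoint := (Scheme.Modules.pullbackPushforwardAdjunction _).isLeftAdjoint
  let eE : E ≅ P.obj (FGA.ET f E T) :=
    ((Scheme.Modules.pullbackId _).app E).symm ≪≫ (Scheme.Modules.pullbackCongr (IsIso.inv_hom_id k₀).symm).app E ≪≫
      ((Scheme.Modules.pullbackComp (inv k₀) k₀).app E).symm
  let q' : E ⟶ P.obj (cokernel K'.1.arrow) := eE.hom ≫ P.map (cokernel.π K'.1.arrow)
  have hsq : IsPullback (inv k₀) f (PicF.XTproj f T) (𝟙 _) := IsPullback.of_horiz_isIso ⟨by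
    rw [Category.comp_id, IsIso.inv_comp_eq]
    show pullback.snd f T.hom = pullback.fst f T.hom ≫ f
    rw [pullback.condition]; exact (Category.comp_id _).symm⟩
  refine ⟨P.obj (cokernel K'.1.arrow), q', PullbackMod.isCoh_pullback _ _ K'.2.1, epi_comp _ _,
    fun w => PullbackMod.isFlatOverAt_baseChange hsq _ w (K'.2.2 _), ?_⟩
  have hj : pullback.fst f U.hom ≫ inv k₀ = PicF.XTmap f j := by
    rw [IsIso.comp_inv_eq]; exact (FGA.XTmap_fst f j).symm
  obtain ⟨e1⟩ := QuotRep.nonempty_cokernel_quotPull f E j K'.1
  rw [hK'] at e1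
  exact ⟨(Scheme.Modules.pullbackComp (pullback.fst f U.hom) (inv k₀)).app _ ≪≫
    (Scheme.Modules.pullbackCongr hj).app _ ≪≫ e1.symm ≪≫ ec⟩

end Groth.Agent.S18836
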