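import Groth.Statements.S18837
import Groth.Agent.DefTruncLib.Basic
-- import your own Groth.Agent.* helpers here

set_option autoImplicit false
universe u
open Polynomial TensorProduct
open Deform

namespace Groth.Agent.S18837

/-- Let k be an algebraically closed field of characteristic zero, n ≥ 1, D = k[X]/(X^(n+1)) (given with
a k-algebra isomorphism e identifying the class of X with τ ∈ D), and B a finitely generated
k-algebra which is a flat D-algebra such that B/tB is smooth over k, where t is the image of τ in B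
(an affine open of a flat deformation of a smooth k-scheme over Spec D); put B' = B/t^nB. Then
Ω_(B/D) is a projective B-module, B' ⊗_B Ω_(B/k) is a projective B'-module, and the sequence 0 → B'
→ B' ⊗_B Ω_(B/k) → B' ⊗_B Ω_(B/D) → 0 is exact, the first map being b ↦ b · (1 ⊗ dt) and the second
the base change of the canonical surjection Ω_(B/k) → Ω_(B/D). The source states this for a flat
proper family over Spec D with smooth central fibre; the statement is local and is given here on an
affine open. -/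
theorem result (k : Type u) [Field k] [IsAlgClosed k] [CharZero k] (n : ℕ) (hn : 1 ≤ n)
    (D : Type u) [CommRing D] [Algebra k D] (τ : D)
    (e : (k[X] ⧸ Ideal.span {(X : k[X]) ^ (n + 1)}) ≃ₐ[k] D)
    (he : e (Ideal.Quotient.mk (Ideal.span {(X : k[X]) ^ (n + 1)}) X) = τ)
    (B : Type u) [CommRing B] [Algebra k B] [Algebra D B] [IsScalarTower k D B]
    [Algebra.FiniteType k B] [Module.Flat D B]
    (t : B) (ht : t = algebraMap D B τ) (hsm : Algebra.Smooth k (B ⧸ Ideal.span {t})) :
    Module.Projective B (Ω[B⁄D]) ∧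
    Module.Projective (B ⧸ Ideal.span {t ^ n}) ((B ⧸ Ideal.span {t ^ n}) ⊗[B] Ω[B⁄k]) ∧
    Function.Injective
      (LinearMap.toSpanSingleton (B ⧸ Ideal.span {t ^ n}) ((B ⧸ Ideal.span {t ^ n}) ⊗[B] Ω[B⁄k])
        ((1 : (B ⧸ Ideal.span {t ^ n})) ⊗ₜ[B] KaehlerDifferential.D k B t)) ∧
    Function.Exact
      (LinearMap.toSpanSingleton (B ⧸ Ideal.span {t ^ n}) ((B ⧸ Ideal.span {t ^ n}) ⊗[B] Ω[B⁄k])
        ((1 : (B ⧸ Ideal.span {t ^ n})) ⊗ₜ[B] KaehlerDifferential.D k B t))
      (LinearMap.baseChange (B ⧸ Ideal.span {t ^ n}) (KaehlerDifferential.map k D B B)) ∧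
    Function.Surjective (LinearMap.baseChange (B ⧸ Ideal.span {t ^ n}) (KaehlerDifferential.map k D B B)) := by
  haveI := Groth.Agent.DefTruncLib.smooth k n D τ e he B t ht hsm
  haveI : Module.Finite B Ω[B⁄D] := inferInstance
  obtain ⟨p, hp⟩ := Groth.Agent.DefTruncLib.exists_retraction k n D τ e he B t ht
  have hex := Groth.Agent.DefTruncLib.exact_dt_baseChange k n D τ e he B t ht
  have hr : Function.Surjective (LinearMap.baseChange (B ⧸ Ideal.span {t ^ n}) (KaehlerDifferential.map k D B B)) :=
    LinearMap.lTensor_surjective _ (KaehlerDifferential.map_surjective k D B)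
  let p' : (B ⧸ Ideal.span {t ^ n}) ⊗[B] Ω[B⁄k] →ₗ[B ⧸ Ideal.span {t ^ n}] (B ⧸ Ideal.span {t ^ n}) :=
    p.liftBaseChange _
  have hp' : ∀ q : B ⧸ Ideal.span {t ^ n},
      p' (LinearMap.toSpanSingleton (B ⧸ Ideal.span {t ^ n}) ((B ⧸ Ideal.span {t ^ n}) ⊗[B] Ω[B⁄k])
        ((1 : (B ⧸ Ideal.span {t ^ n})) ⊗ₜ[B] KaehlerDifferential.D k B t) q) = q := fun q => by
    simp [p', hp]
  refine ⟨Algebra.FormallySmooth.projective_kaehlerDifferential, ?_, fun a b h => ?_, hex, hr⟩
  · haveI : Module.Projective B Ω[B⁄D] := Algebra.FormallySmooth.projective_kaehlerDifferential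
    let F := p'.prod (LinearMap.baseChange (B ⧸ Ideal.span {t ^ n}) (KaehlerDifferential.map k D B B))
    have hF : Function.Bijective F := by
      refine ⟨(injective_iff_map_eq_zero _).2 fun z hz => ?_, fun ⟨a, y⟩ => ?_⟩
      · obtain ⟨c, rfl⟩ := (hex z).1 (Prod.ext_iff.1 hz).2
        have := (Prod.ext_iff.1 hz).1
        simp only [F, LinearMap.prod_apply, Function.prod, hp', Prod.fst_zero] at this
        rw [this, map_zero]
      · obtain ⟨x₀, rfl⟩ := hr y
        refine ⟨x₀ + LinearMap.toSpanSingleton (B ⧸ Ideal.span {t ^ n}) ((B ⧸ Ideal.span {t ^ n}) ⊗[B] Ω[B⁄k])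
          ((1 : (B ⧸ Ideal.span {t ^ n})) ⊗ₜ[B] KaehlerDifferential.D k B t) (a - p' x₀), Prod.ext ?_ ?_⟩
        · simp only [F, LinearMap.prod_apply, Function.prod, map_add, Prod.fst_add, hp']
          ring
        · simp only [F, LinearMap.prod_apply, Function.prod, map_add, Prod.snd_add,
            (hex _).2 ⟨a - p' x₀, rfl⟩, add_zero]
    exact Module.Projective.of_equiv (LinearEquiv.ofBijective F hF).symm
  · rw [← hp' a, h, hp']

end Groth.Agent.S18837
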