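import Groth.Statements.S18838
import Groth.Agent.DefTruncLib.Basic
-- import your own Groth.Agent.* helpers here

set_option autoImplicit false
universe u
open Polynomial TensorProduct
open Deform

namespace Groth.Agent.S18838

/-- Let k be an algebraically closed field of characteristic zero, n ≥ 1, D = k[X]/(X^(n+1)) (given with
a k-algebra isomorphism e identifying the class of X with τ ∈ D), and B a finitely generated
k-algebra which is a flat D-algebra such that B/tB is smooth over k, where t is the image of τ in B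
(an affine open of a flat deformation of a smooth k-scheme over Spec D); put B' = B/t^nB. The map μ
: B → B' × (B' ⊗_B Ω_(B/k)) sending f to (f mod t^n, 1 ⊗ df) is injective, and its image consists
exactly of the pairs (g, α) with dg = r(α) in Ω_(B'/k), r being the canonical map B' ⊗_B Ω_(B/k) →
Ω_(B'/k). Injectivity uses that n is invertible in k. The source works with a flat proper family
over Spec D with smooth central fibre; the statement is local and is given here on an affine open. -/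
theorem result (k : Type u) [Field k] [IsAlgClosed k] [CharZero k] (n : ℕ) (hn : 1 ≤ n)
    (D : Type u) [CommRing D] [Algebra k D] (τ : D)
    (e : (k[X] ⧸ Ideal.span {(X : k[X]) ^ (n + 1)}) ≃ₐ[k] D)
    (he : e (Ideal.Quotient.mk (Ideal.span {(X : k[X]) ^ (n + 1)}) X) = τ)
    (B : Type u) [CommRing B] [Algebra k B] [Algebra D B] [IsScalarTower k D B]
    [Algebra.FiniteType k B] [Module.Flat D B]
    (t : B) (ht : t = algebraMap D B τ) (hsm : Algebra.Smooth k (B ⧸ Ideal.span {t})) :
    Function.Injective (fun f : B =>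
      ((Ideal.Quotient.mk (Ideal.span {t ^ n}) f,
        (1 : (B ⧸ Ideal.span {t ^ n})) ⊗ₜ[B] KaehlerDifferential.D k B f) : (B ⧸ Ideal.span {t ^ n}) × ((B ⧸ Ideal.span {t ^ n}) ⊗[B] Ω[B⁄k]))) ∧
    Set.range (fun f : B =>
      ((Ideal.Quotient.mk (Ideal.span {t ^ n}) f,
        (1 : (B ⧸ Ideal.span {t ^ n})) ⊗ₜ[B] KaehlerDifferential.D k B f) : (B ⧸ Ideal.span {t ^ n}) × ((B ⧸ Ideal.span {t ^ n}) ⊗[B] Ω[B⁄k]))) =
      {p | KaehlerDifferential.D k (B ⧸ Ideal.span {t ^ n}) p.1 = KaehlerDifferential.mapBaseChange k B (B ⧸ Ideal.span {t ^ n}) p.2} := by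
  haveI := Groth.Agent.DefTruncLib.smooth k n D τ e he B t ht hsm
  obtain ⟨p, hp⟩ := Groth.Agent.DefTruncLib.exists_retraction k n D τ e he B t ht
  have htop : t ^ (n + 1) = 0 := by
    rw [ht, ← map_pow, Groth.Agent.DefTruncLib.tau_pow k n D τ e he, map_zero]
  have hd : ∀ c : B, (1 : (B ⧸ Ideal.span {t ^ n})) ⊗ₜ[B] KaehlerDifferential.D k B (t ^ n * c) =
      ((1 : (B ⧸ Ideal.span {t ^ n})) ⊗ₜ[B] ((c * ((n : B) * t ^ (n - 1))) • KaehlerDifferential.D k B t)) := by
    intro c
    rw [Derivation.leibniz, Derivation.leibniz_pow, TensorProduct.tmul_add]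
    have h0 : (1 : (B ⧸ Ideal.span {t ^ n})) ⊗ₜ[B] (t ^ n • KaehlerDifferential.D k B c) = 0 := by
      rw [TensorProduct.tmul_smul, TensorProduct.smul_tmul', Algebra.smul_def, mul_one,
        show algebraMap B (B ⧸ Ideal.span {t ^ n}) (t ^ n) = 0 from
          Ideal.Quotient.eq_zero_iff_mem.2 (Ideal.mem_span_singleton_self _), TensorProduct.zero_tmul]
    rw [h0, zero_add, ← Nat.cast_smul_eq_nsmul B, smul_smul, smul_smul, mul_assoc]
  refine ⟨fun a b h => ?_, Set.ext fun ⟨g, α⟩ => ⟨?_, ?_⟩⟩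
  · obtain ⟨h1, h2⟩ := Prod.ext_iff.1 h
    simp only at h1 h2
    obtain ⟨c, hc⟩ := Ideal.mem_span_singleton.1 (Ideal.Quotient.eq.1 h1)
    have h3 : p.liftBaseChange (B ⧸ Ideal.span {t ^ n})
        ((1 : (B ⧸ Ideal.span {t ^ n})) ⊗ₜ[B] KaehlerDifferential.D k B (a - b)) = 0 := by
      rw [map_sub, TensorProduct.tmul_sub, h2, sub_self, map_zero]
    rw [hc, hd, LinearMap.liftBaseChange_tmul, one_smul, map_smul, hp, Algebra.smul_def, mul_one,
      Ideal.Quotient.algebraMap_eq, Ideal.Quotient.eq_zero_iff_mem] at h3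
    obtain ⟨m, hm⟩ := Ideal.mem_span_singleton.1 h3
    have h4 : (n : B) * (t ^ n * c) = 0 := by
      obtain ⟨n', rfl⟩ := Nat.exists_eq_add_of_le' hn
      rw [Nat.add_sub_cancel] at hm
      linear_combination t * hm + m * htop
    have hu : IsUnit (n : B) := by
      rw [show (n : B) = algebraMap k B n by simp]
      exact (Ne.isUnit (Nat.cast_ne_zero.2 (by omega))).map _
    rw [← sub_eq_zero, hc]
    exact hu.mul_right_eq_zero.1 h4
  · rintro ⟨f, hf⟩
    obtain ⟨rfl, rfl⟩ := Prod.ext_iff.1 hf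
    simp only [Set.mem_setOf_eq, KaehlerDifferential.mapBaseChange_tmul, one_smul, KaehlerDifferential.map_D]
    rfl
  · intro h
    obtain ⟨f₀, rfl⟩ := Ideal.Quotient.mk_surjective g
    have h1 : KaehlerDifferential.mapBaseChange k B (B ⧸ Ideal.span {t ^ n})
        (α - 1 ⊗ₜ KaehlerDifferential.D k B f₀) = 0 := by
      simp only [Set.mem_setOf_eq] at h
      rw [map_sub, KaehlerDifferential.mapBaseChange_tmul, one_smul, KaehlerDifferential.map_D, ← h,
        sub_eq_zero]
      rfl
    obtain ⟨w, hw⟩ := ((KaehlerDifferential.exact_kerCotangentToTensor_mapBaseChange k B (B ⧸ Ideal.span {t ^ n})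
      Ideal.Quotient.mk_surjective) _).1 h1
    obtain ⟨⟨x, hx⟩, rfl⟩ := Ideal.toCotangent_surjective _ w
    rw [KaehlerDifferential.kerCotangentToTensor_toCotangent] at hw
    have hx' : Ideal.Quotient.mk (Ideal.span {t ^ n}) x = 0 := hx
    have hw' : (1 : B ⧸ Ideal.span {t ^ n}) ⊗ₜ[B] KaehlerDifferential.D k B x = α - 1 ⊗ₜ KaehlerDifferential.D k B f₀ := hw
    refine ⟨f₀ + x, Prod.ext ?_ ?_⟩
    · show Ideal.Quotient.mk _ (f₀ + x) = _
      rw [map_add, hx', add_zero]
    · show (1 : B ⧸ Ideal.span {t ^ n}) ⊗ₜ[B] KaehlerDifferential.D k B (f₀ + x) = α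
      rw [map_add, TensorProduct.tmul_add, hw', add_sub_cancel]

end Groth.Agent.S18838
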