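import Groth.Statements.S18839
import Groth.Agent.DefTruncLib.Basic
-- import your own Groth.Agent.* helpers here

set_option autoImplicit false
universe u
open Polynomial TensorProduct
open Deform

namespace Groth.Agent.S18839

/-- Let k be an algebraically closed field of characteristic zero, n ≥ 1, D = k[X]/(X^(n+1)) (given with
a k-algebra isomorphism e identifying the class of X with τ ∈ D), and B a finitely generated
k-algebra which is a flat D-algebra such that B/tB is smooth over k, where t is the image of τ in B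
(an affine open of a flat deformation of a smooth k-scheme over Spec D); put B' = B/t^nB. The map ν
: Ω_(B/k) → Ω_(B/D) × (B' ⊗_B Ω_(B/k)), η ↦ (η relative to D, 1 ⊗ η), is injective, and its image
consists exactly of the pairs (α, β) with the same image in Ω_(B'/D) under the canonical maps
Ω_(B/D) → Ω_(B'/D) and B' ⊗_B Ω_(B/k) → Ω_(B'/k) → Ω_(B'/D). Injectivity uses that n + 1 is
invertible in k (so that t^n dt = 0 in Ω_(B/k)). The source works with a flat proper family over
Spec D with smooth central fibre; the statement is local and is given here on an affine open. -/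
theorem result (k : Type u) [Field k] [IsAlgClosed k] [CharZero k] (n : ℕ) (hn : 1 ≤ n)
    (D : Type u) [CommRing D] [Algebra k D] (τ : D)
    (e : (k[X] ⧸ Ideal.span {(X : k[X]) ^ (n + 1)}) ≃ₐ[k] D)
    (he : e (Ideal.Quotient.mk (Ideal.span {(X : k[X]) ^ (n + 1)}) X) = τ)
    (B : Type u) [CommRing B] [Algebra k B] [Algebra D B] [IsScalarTower k D B]
    [Algebra.FiniteType k B] [Module.Flat D B]
    (t : B) (ht : t = algebraMap D B τ) (hsm : Algebra.Smooth k (B ⧸ Ideal.span {t})) :
    Function.Injective (fun η : Ω[B⁄k] =>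
      ((KaehlerDifferential.map k D B B η, (1 : (B ⧸ Ideal.span {t ^ n})) ⊗ₜ[B] η) : Ω[B⁄D] × ((B ⧸ Ideal.span {t ^ n}) ⊗[B] Ω[B⁄k]))) ∧
    Set.range (fun η : Ω[B⁄k] =>
      ((KaehlerDifferential.map k D B B η, (1 : (B ⧸ Ideal.span {t ^ n})) ⊗ₜ[B] η) : Ω[B⁄D] × ((B ⧸ Ideal.span {t ^ n}) ⊗[B] Ω[B⁄k]))) =
      {p | KaehlerDifferential.map D D B (B ⧸ Ideal.span {t ^ n}) p.1 =
        KaehlerDifferential.map k D (B ⧸ Ideal.span {t ^ n}) (B ⧸ Ideal.span {t ^ n}) (KaehlerDifferential.mapBaseChange k B (B ⧸ Ideal.span {t ^ n}) p.2)} := by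
  haveI := Groth.Agent.DefTruncLib.smooth k n D τ e he B t ht hsm
  obtain ⟨p, hp⟩ := Groth.Agent.DefTruncLib.exists_retraction k n D τ e he B t ht
  have hex := Groth.Agent.DefTruncLib.exact_dt k n D τ e he B t ht
  have hexQ := Groth.Agent.DefTruncLib.exact_dt_baseChange k n D τ e he B t ht
  have hdt := Groth.Agent.DefTruncLib.pow_smul_D k n D τ e he B t ht
  have htn : ∀ c : B, Ideal.Quotient.mk (Ideal.span {t ^ n}) c = 0 → c • KaehlerDifferential.D k B t = 0 := by
    intro c hc
    obtain ⟨d, rfl⟩ := Ideal.mem_span_singleton.1 (Ideal.Quotient.eq_zero_iff_mem.1 hc)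
    rw [mul_comm, mul_smul, hdt, smul_zero]
  have hcomm : ∀ η : Ω[B⁄k], KaehlerDifferential.map D D B (B ⧸ Ideal.span {t ^ n}) (KaehlerDifferential.map k D B B η) =
      KaehlerDifferential.map k D (B ⧸ Ideal.span {t ^ n}) (B ⧸ Ideal.span {t ^ n})
        (KaehlerDifferential.mapBaseChange k B (B ⧸ Ideal.span {t ^ n}) (1 ⊗ₜ η)) := by
    intro η
    rw [KaehlerDifferential.mapBaseChange_tmul, one_smul]
    have h : η ∈ Submodule.span B (Set.range (KaehlerDifferential.D k B)) := by
      rw [KaehlerDifferential.span_range_derivation]; trivial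
    induction h using Submodule.span_induction with
    | zero => simp only [map_zero]
    | add a b _ _ ha hb => simp only [map_add, ha, hb]
    | smul r a _ ha =>
      simp only [map_smul]
      rw [ha, ← algebraMap_smul (B ⧸ Ideal.span {t ^ n}) r (KaehlerDifferential.map k k B (B ⧸ Ideal.span {t ^ n}) a),
        map_smul, algebraMap_smul]
    | mem a ha => obtain ⟨b, rfl⟩ := ha; simp only [KaehlerDifferential.map_D]; simp
  refine ⟨fun a b h => ?_, Set.ext fun ⟨α, β⟩ => ⟨?_, ?_⟩⟩
  · obtain ⟨h1, h2⟩ := Prod.ext_iff.1 h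
    obtain ⟨c, hc⟩ := (hex (a - b)).1 (by rw [map_sub, sub_eq_zero]; exact h1)
    have h3 : p.liftBaseChange (B ⧸ Ideal.span {t ^ n}) ((1 : (B ⧸ Ideal.span {t ^ n})) ⊗ₜ[B] (a - b)) = 0 := by
      simp only at h2
      rw [TensorProduct.tmul_sub, h2, sub_self, map_zero]
    rw [← hc, LinearMap.liftBaseChange_tmul, one_smul, LinearMap.toSpanSingleton_apply, map_smul, hp,
      Algebra.smul_def, mul_one] at h3
    rw [← sub_eq_zero, ← hc, LinearMap.toSpanSingleton_apply]
    exact htn c h3
  · rintro ⟨η, hη⟩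
    obtain ⟨rfl, rfl⟩ := Prod.ext_iff.1 hη
    exact hcomm η
  · intro h
    obtain ⟨η₀, rfl⟩ := KaehlerDifferential.map_surjective k D B α
    have h1 : KaehlerDifferential.mapBaseChange D B (B ⧸ Ideal.span {t ^ n})
        (LinearMap.baseChange (B ⧸ Ideal.span {t ^ n}) (KaehlerDifferential.map k D B B)
          (β - 1 ⊗ₜ η₀)) = 0 := by
      have h2 : ∀ z : (B ⧸ Ideal.span {t ^ n}) ⊗[B] Ω[B⁄k],
          KaehlerDifferential.mapBaseChange D B (B ⧸ Ideal.span {t ^ n})
            (LinearMap.baseChange (B ⧸ Ideal.span {t ^ n}) (KaehlerDifferential.map k D B B) z) =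
          KaehlerDifferential.map k D (B ⧸ Ideal.span {t ^ n}) (B ⧸ Ideal.span {t ^ n})
            (KaehlerDifferential.mapBaseChange k B (B ⧸ Ideal.span {t ^ n}) z) := by
        intro z
        induction z using TensorProduct.induction_on with
        | zero => simp only [map_zero]
        | add a b ha hb => simp only [map_add, ha, hb]
        | tmul q η =>
          rw [LinearMap.baseChange_tmul, KaehlerDifferential.mapBaseChange_tmul, KaehlerDifferential.mapBaseChange_tmul,
            map_smul]
          refine congrArg (q • ·) ((hcomm η).trans ?_)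
          rw [KaehlerDifferential.mapBaseChange_tmul, one_smul]
      simp only [Set.mem_setOf_eq] at h
      rw [h2, map_sub, map_sub, ← hcomm, h, sub_self]
    obtain ⟨w, hw⟩ := ((KaehlerDifferential.exact_kerCotangentToTensor_mapBaseChange D B (B ⧸ Ideal.span {t ^ n})
      Ideal.Quotient.mk_surjective) _).1 h1
    have hzero : LinearMap.baseChange (B ⧸ Ideal.span {t ^ n}) (KaehlerDifferential.map k D B B) (β - 1 ⊗ₜ η₀) = 0 := by
      rw [← hw]
      obtain ⟨⟨x, hx⟩, rfl⟩ := Ideal.toCotangent_surjective _ w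
      rw [KaehlerDifferential.kerCotangentToTensor_toCotangent]
      obtain ⟨c, hc⟩ := Ideal.mem_span_singleton.1 (Ideal.Quotient.eq_zero_iff_mem.1 hx)
      show (1 : B ⧸ Ideal.span {t ^ n}) ⊗ₜ[B] KaehlerDifferential.D D B x = 0
      have h0 : KaehlerDifferential.D D B (t ^ n) = 0 := by
        rw [ht, ← map_pow]; exact Derivation.map_algebraMap _ _
      rw [hc, Derivation.leibniz, h0, smul_zero, add_zero, TensorProduct.tmul_smul,
        TensorProduct.smul_tmul', Algebra.smul_def, mul_one,
        show algebraMap B (B ⧸ Ideal.span {t ^ n}) (t ^ n) = 0 from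
          Ideal.Quotient.eq_zero_iff_mem.2 (Ideal.mem_span_singleton_self _), TensorProduct.zero_tmul]
    obtain ⟨c, hc⟩ := (hexQ _).1 hzero
    obtain ⟨c, rfl⟩ := Ideal.Quotient.mk_surjective c
    refine ⟨η₀ + c • KaehlerDifferential.D k B t, Prod.ext ?_ ?_⟩
    · simp only [map_add]
      rw [show KaehlerDifferential.map k D B B (c • KaehlerDifferential.D k B t) = 0 from (hex _).2 ⟨c, rfl⟩, add_zero]
    · show (1 : B ⧸ Ideal.span {t ^ n}) ⊗ₜ[B] (η₀ + c • KaehlerDifferential.D k B t) = β
      rw [LinearMap.toSpanSingleton_apply, TensorProduct.smul_tmul', smul_eq_mul, mul_one] at hc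
      rw [TensorProduct.tmul_add, TensorProduct.tmul_smul, TensorProduct.smul_tmul', Algebra.smul_def, mul_one,
        Ideal.Quotient.algebraMap_eq, hc, add_sub_cancel]

end Groth.Agent.S18839
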