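import Groth.Statements.S6295
import Mathlib

set_option autoImplicit false
universe u
open CAlg

namespace Groth.Agent.S6295

/-- Let R be a reduced ring. Then every localization R_p at a minimal prime p is a field and the map R →
∏_{p minimal} R_p is injective (so R is a subring of a product of fields); moreover the set of
zerodivisors of R is the union of the minimal primes. -/
theorem result (R : Type u) [CommRing R] [IsReduced R] : (∀ p : PrimeSpectrum R, p.asIdeal ∈ minimalPrimes R → IsField (Localization.AtPrime p.asIdeal)) ∧ Function.Injective (algebraMap R (∀ p : {p : PrimeSpectrum R // p.asIdeal ∈ minimalPrimes R}, Localization.AtPrime p.1.asIdeal)) ∧ (∀ x : R, x ∉ nonZeroDivisors R ↔ ∃ p ∈ minimalPrimes R, x ∈ p) := by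
  have hmem : ∀ (p : Ideal R) [p.IsPrime] (x : R), algebraMap R (Localization.AtPrime p) x = 0 → x ∈ p := by
    intro p _ x hx
    obtain ⟨u, hu⟩ := (IsLocalization.map_eq_zero_iff p.primeCompl _ x).mp hx
    exact (Ideal.IsPrime.mem_or_mem inferInstance (hu ▸ p.zero_mem)).resolve_left u.2
  refine ⟨fun p hp => ?_, ?_, fun x => ?_⟩
  · rw [IsLocalRing.isField_iff_maximalIdeal_eq, eq_bot_iff]
    intro z hz
    have hall : ∀ q : Ideal (Localization.AtPrime p.asIdeal), q.IsPrime → z ∈ q := by
      intro q hq
      have hle : q ≤ IsLocalRing.maximalIdeal _ := IsLocalRing.le_maximalIdeal hq.ne_top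
      have h1 : q.comap (algebraMap R _) ≤ p.asIdeal :=
        (Ideal.comap_mono hle).trans (IsLocalization.AtPrime.under_maximalIdeal (Localization.AtPrime p.asIdeal) p.asIdeal).le
      have h2 : p.asIdeal ≤ q.comap (algebraMap R _) := hp.2 ⟨inferInstance, bot_le⟩ h1
      have h3 : IsLocalRing.maximalIdeal (Localization.AtPrime p.asIdeal) ≤ q := by
        rw [← IsLocalization.map_comap p.asIdeal.primeCompl (Localization.AtPrime p.asIdeal) (IsLocalRing.maximalIdeal (Localization.AtPrime p.asIdeal)),
          ← IsLocalization.map_comap p.asIdeal.primeCompl (Localization.AtPrime p.asIdeal) q]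
        refine Ideal.map_mono ?_
        exact (IsLocalization.AtPrime.under_maximalIdeal (Localization.AtPrime p.asIdeal) p.asIdeal).le.trans h2
      exact h3 hz
    have : z ∈ nilradical (Localization.AtPrime p.asIdeal) := by
      rw [nilradical_eq_sInf]; exact Ideal.mem_sInf.mpr fun {q} hq => hall q hq
    rwa [nilradical_eq_zero] at this
  · rw [injective_iff_map_eq_zero]
    intro x hx
    have : x ∈ nilradical R := by
      rw [nilradical, Ideal.radical_eq_sInf, Ideal.mem_sInf]
      rintro q ⟨-, hq⟩
      obtain ⟨m, hm, hle⟩ := Ideal.exists_minimalPrimes_le (J := q) (I := ⊥) bot_le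
      haveI := hm.1.1
      exact hle (hmem m x (congrFun hx ⟨⟨m, hm.1.1⟩, hm⟩))
    rwa [nilradical_eq_zero] at this
  · constructor
    · intro hx
      rw [mem_nonZeroDivisors_iff_right] at hx
      push Not at hx
      obtain ⟨y, hy, hy0⟩ := hx
      have hy' : y ∉ nilradical R := by rwa [nilradical_eq_zero]
      rw [nilradical, Ideal.radical_eq_sInf, Ideal.mem_sInf] at hy'
      push Not at hy'
      obtain ⟨q, ⟨-, hq⟩, hyq⟩ := hy'
      obtain ⟨m, hm, hle⟩ := Ideal.exists_minimalPrimes_le (J := q) (I := ⊥) bot_le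
      exact ⟨m, hm, (hm.1.1.mem_or_mem (hy ▸ m.zero_mem)).resolve_left fun h => hyq (hle h)⟩
    · rintro ⟨p, hp, hxp⟩
      exact Set.disjoint_left.mp (Ideal.disjoint_nonZeroDivisors_of_mem_minimalPrimes hp) |> fun h => fun hx => h hxp hx

end Groth.Agent.S6295
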