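import Groth.Statements.S18844
import Groth.Agent.TFOneLib.Decomp
-- import your own Groth.Agent.* helpers here

set_option autoImplicit false
set_option backward.isDefEq.respectTransparency false
set_option maxHeartbeats 1600000
set_option backward.isDefEq.respectTransparency.types false
set_option linter.style.haveILetI false
set_option synthInstance.maxHeartbeats 200000
universe u
open CategoryTheory CategoryTheory.Limits AlgebraicGeometry
open TFOne

namespace Groth.Agent.S18844

open Groth.Agent

/-- Let X be a proper, geometrically reduced scheme of pure dimension one over a field k whose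
irreducible components (with their reduced structure) are geometrically integral over k, assume X is
non-empty, and take a torsion-free sheaf I of rank one on X. Then I is simple over k (every
endomorphism of I is multiplication by a scalar) exactly when I is not decomposable, that is, when
there do not exist closed proper subcurves Y and Z of X (non-empty unions of irreducible components,
each different from X) together with the torsion-free quotients I_Y, I_Z of I on them (pinned by
their defining property) such that the canonical map I ⟶ I_Y ⊞ I_Z is an isomorphism. -/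
theorem result (k : Type u) [Field k] (X : Scheme.{u}) [X.Over (Spec (CommRingCat.of k))] [IsProper (X ↘ Spec (CommRingCat.of k))] [IsReduced X] [GeometricallyReduced (X ↘ Spec (CommRingCat.of k))] (hpure : ∀ C ∈ irreducibleComponents (X : Type u), topologicalKrullDim C = 1) (hgi : ∀ (C : Set X) (hC : C ∈ irreducibleComponents (X : Type u)), GeometricallyIntegral (VecSt.subschι X C (isClosed_of_mem_irreducibleComponents C hC) ≫ (X ↘ Spec (CommRingCat.of k)))) [Nonempty X] (I : X.Modules) (hI : TFOne.IsTF1 X I) : TFOne.IsSimple X k (X ↘ Spec (CommRingCat.of k)) I ↔ ¬ ∃ (Y Z : Set X) (hY : IsClosed Y) (hZ : IsClosed Z) (GY GZ : X.Modules) (πY : I ⟶ GY) (πZ : I ⟶ GZ), VecSt.IsSubcurve X Y ∧ VecSt.IsSubcurve X Z ∧ Y ≠ Set.univ ∧ Z ≠ Set.univ ∧ TFOne.IsQuotOn X I Y GY πY ∧ TFOne.IsQuotOn X I Z GZ πZ ∧ IsIso (biprod.lift πY πZ) := by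
    haveI := EulerIneqLib.isNoetherian_proper (X := X) k
    constructor
    · rintro hs ⟨Y, Z, hY, hZ, GY, GZ, πY, πZ, hYs, hZs, -, -, hGY, hGZ, hiso⟩
      obtain ⟨η, hη, hηY⟩ := TFOneLib.exists_maxPt_mem hYs
      obtain ⟨ζ, hζ, hζZ⟩ := TFOneLib.exists_maxPt_mem hZs
      haveI := hiso
      exact TFOneLib.not_isSimple_of_isIso k hI hGY hGZ hη hηY hζ hζZ hs
    · intro hnd
      by_contra hns
      obtain ⟨e, he, ⟨η, hη, hne⟩, ⟨ζ, hζ, hne'⟩⟩ := TFOneLib.exists_idem k hgi hI hns
      have he' : (1 - e) * (1 - e) = 1 - e := IsIdempotentElem.one_sub he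
      obtain ⟨G, p, i, hpi, hip, hG, hY⟩ := TFOneLib.exists_quot_of_idem hI e he
      obtain ⟨G', p', i', hpi', hip', hG', hY'⟩ := TFOneLib.exists_quot_of_idem hI (1 - e) he'
      refine hnd ⟨_, _, hY, hY', G, G', p, p', TFOneLib.isSubcurve_of_idem ⟨η, hη, hne⟩,
        TFOneLib.isSubcurve_of_idem ⟨ζ, hζ, hne'⟩, TFOneLib.ne_univ_of_idem hI he hζ hne',
        TFOneLib.ne_univ_of_idem hI he' hη (by rwa [sub_sub_cancel]), hG, hG', ?_⟩
      have hsum : p ≫ i + p' ≫ i' = 𝟙 I := by
        rw [hpi, hpi']
        exact add_sub_cancel e 1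
      have h1 : i ≫ p' = 0 := by
        have h : i ≫ p' ≫ i' = 0 := by
          rw [eq_sub_of_add_eq' hsum, Preadditive.comp_sub, Category.comp_id, ← Category.assoc, hip,
            Category.id_comp, sub_self]
        have := congrArg (fun t => t ≫ p') h
        simpa [hip'] using this
      have h2 : i' ≫ p = 0 := by
        have h : i' ≫ p ≫ i = 0 := by
          rw [eq_sub_of_add_eq hsum, Preadditive.comp_sub, Category.comp_id, ← Category.assoc, hip',
            Category.id_comp, sub_self]
        have := congrArg (fun t => t ≫ p) h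
        simpa [hip] using this
      refine ⟨biprod.desc i i', ?_, ?_⟩
      · rw [biprod.lift_desc, hsum]
      · refine biprod.hom_ext' _ _ ?_ ?_
        · rw [Category.comp_id, biprod.inl_desc_assoc]; exact biprod.hom_ext _ _ (by rw [Category.assoc, biprod.lift_fst, hip, biprod.inl_fst]) (by rw [Category.assoc, biprod.lift_snd, h1, biprod.inl_snd])
        · rw [Category.comp_id, biprod.inr_desc_assoc]; exact biprod.hom_ext _ _ (by rw [Category.assoc, biprod.lift_fst, h2, biprod.inr_fst]) (by rw [Category.assoc, biprod.lift_snd, hip', biprod.inr_snd])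

end Groth.Agent.S18844
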