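import Groth.Statements.S18845
import Groth.Agent.TFOneLib.Ext
-- import your own Groth.Agent.* helpers here

set_option autoImplicit false
set_option backward.isDefEq.respectTransparency false
set_option maxHeartbeats 1600000
set_option backward.isDefEq.respectTransparency.types false
set_option linter.style.haveILetI false
set_option synthInstance.maxHeartbeats 200000
universe u
open CategoryTheory CategoryTheory.Limits AlgebraicGeometry
open TFOne

namespace Groth.Agent.S18845

open Groth.Agent

/-- Let X be a proper, geometrically reduced scheme of pure dimension one over a field k whose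
irreducible components (with their reduced structure) are geometrically integral over k, let Y and Z
be closed subcurves (non-empty unions of irreducible components) with Y ∪ Z = X, and let M be a
torsion-free sheaf of rank one on X. Suppose M sits in a short exact sequence 0 ⟶ i_{Y*} I ⟶ M ⟶
i_{Z*} J ⟶ 0 of modules on X, where I is a simple torsion-free sheaf of rank one on the reduced
closed subscheme Y, J is a simple torsion-free sheaf of rank one on the reduced closed subscheme Z,
and i_{Y*}, i_{Z*} are the direct images. Then M is simple over k exactly when the sequence does not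
split (the epimorphism M ⟶ i_{Z*} J has no section). -/
theorem result (k : Type u) [Field k] (X : Scheme.{u}) [X.Over (Spec (CommRingCat.of k))] [IsProper (X ↘ Spec (CommRingCat.of k))] [IsReduced X] [GeometricallyReduced (X ↘ Spec (CommRingCat.of k))] (hpure : ∀ C ∈ irreducibleComponents (X : Type u), topologicalKrullDim C = 1) (hgi : ∀ (C : Set X) (hC : C ∈ irreducibleComponents (X : Type u)), GeometricallyIntegral (VecSt.subschι X C (isClosed_of_mem_irreducibleComponents C hC) ≫ (X ↘ Spec (CommRingCat.of k)))) (Y Z : Set X) (hY : IsClosed Y) (hZ : IsClosed Z) (hYs : VecSt.IsSubcurve X Y) (hZs : VecSt.IsSubcurve X Z) (hcov : Y ∪ Z = Set.univ) (M : X.Modules) (hM : TFOne.IsTF1 X M) (I : (VecSt.subsch X Y hY).Modules) (hI : TFOne.IsTF1 (VecSt.subsch X Y hY) I) (hIs : TFOne.IsSimple (VecSt.subsch X Y hY) k (VecSt.subschι X Y hY ≫ (X ↘ Spec (CommRingCat.of k))) I) (J : (VecSt.subsch X Z hZ).Modules) (hJ : TFOne.IsTF1 (VecSt.subsch X Z hZ) J) (hJs : TFOne.IsSimple (VecSt.subsch X Z hZ) k (VecSt.subschι X Z hZ ≫ (X ↘ Spec (CommRingCat.of k))) J) (a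 : (Coh.push (VecSt.subschι X Y hY)).obj I ⟶ M) (b : M ⟶ (Coh.push (VecSt.subschι X Z hZ)).obj J) (w : a ≫ b = 0) (hex : (ShortComplex.mk a b w).ShortExact) : TFOne.IsSimple X k (X ↘ Spec (CommRingCat.of k)) M ↔ ¬ IsSplitEpi b := by
    haveI := EulerIneqLib.isNoetherian_proper (X := X) k
    haveI : Nonempty X := ⟨(TFOneLib.exists_maxPt_mem hYs).choose⟩
    haveI : IsReduced (VecSt.subsch X Y hY) := DVRCrit.isReduced_vanishingIdeal _
    haveI : IsReduced (VecSt.subsch X Z hZ) := DVRCrit.isReduced_vanishingIdeal _
    haveI : IsClosedImmersion (VecSt.subschι X Y hY) := by delta VecSt.subschι; infer_instance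
    haveI : IsClosedImmersion (VecSt.subschι X Z hZ) := by delta VecSt.subschι; infer_instance
    haveI : IsLocallyNoetherian (VecSt.subsch X Y hY) :=
      LocallyOfFiniteType.isLocallyNoetherian (VecSt.subschι X Y hY)
    haveI : IsLocallyNoetherian (VecSt.subsch X Z hZ) :=
      LocallyOfFiniteType.isLocallyNoetherian (VecSt.subschι X Z hZ)
    have hr : ∀ (T : Set X) (hT : IsClosed T), VecSt.IsSubcurve X T → ∀ x, x ∈ Set.range (VecSt.subschι X T hT) →
        ∃ η, MeroLib.IsMaxPt η ∧ η ∈ Set.range (VecSt.subschι X T hT) ∧ η ⤳ x := by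
      intro T hT hTs x hx
      have e : Set.range (VecSt.subschι X T hT) = T := by
        show Set.range (Scheme.IdealSheafData.subschemeι _) = T
        rw [Scheme.IdealSheafData.range_subschemeι, Scheme.IdealSheafData.coe_support_vanishingIdeal]
        rfl
      rw [e] at hx ⊢
      obtain ⟨S, hS, -, rfl⟩ := hTs
      obtain ⟨C, hC, hxC⟩ := hx
      obtain ⟨η, hη⟩ := QuasiSober.sober (hS hC).1 (isClosed_of_mem_irreducibleComponents C (hS hC))
      refine ⟨η, (TFOneLib.isMaxPt_iff_genericPoints η).2 ?_, ⟨C, hC, hη.mem⟩, hη.specializes hxC⟩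
      show closure {η} ∈ irreducibleComponents (X : Type u)
      rw [hη.def]
      exact hS hC
    haveI := hI.1.1
    haveI := hJ.1.1
    exact TFOneLib.isSimple_iff_not_split k hM.2.2 _ _ (hr Y hY hYs) (hr Z hZ hZs) hI.2.1 hJ.2.1 hIs hJs a b w hex

end Groth.Agent.S18845
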