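import Groth.Statements.S18847
import Groth.Agent.TFOneLib.Setup
-- import your own Groth.Agent.* helpers here

set_option autoImplicit false
set_option backward.isDefEq.respectTransparency false
set_option maxHeartbeats 1600000
set_option backward.isDefEq.respectTransparency.types false
set_option linter.style.haveILetI false
set_option synthInstance.maxHeartbeats 200000
universe u
open CategoryTheory CategoryTheory.Limits AlgebraicGeometry
open TFOne

namespace Groth.Agent.S18847

open Groth.Agent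

/-- Let R be a discrete valuation ring with residue field κ, f : X ⟶ Spec R flat and proper, and X_s its
special fibre, assumed reduced of pure dimension one with geometrically integral irreducible
components over κ. Let I be a coherent R-flat module on X whose restriction I(s) to X_s is
torsion-free rank-1, E a locally free module of rank r > 0 on X with restriction E(s), and d an
integer with χ(I(s)) = d and deg E(s) = -r·d. For a closed subset T of X_s write I(s)_T for the
torsion-free quotient of I(s) on T (pinned by its defining property) and β(T) := r·χ(I(s)_T) +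
deg(E(s)|_T) (the source's β cleared of the denominator r). Let Y be a closed subcurve of X_s (a
non-empty union of irreducible components), and let I^Y be the kernel of the composite I ⟶ i_* I(s)
⟶ i_* I(s)_Y, with restriction I^Y(s) to X_s and quotients I^Y(s)_T and numbers β^Y(T) :=
r·χ(I^Y(s)_T) + deg(E(s)|_T) defined likewise. Assume that Y is the largest closed subcurve of X_s
on which β is minimal: β(Y) ≤ β(T) for every closed subcurve T of X_s, and every closed subcurve T
with β(T) = β(Y) is contained in Y. Then for every closed subcurve Z of X_s one has β(Y) ≤ β^Y(Z),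
and β^Y(Z) = β(Y) only if Z ⊆ Y. (The source takes f projective.) -/
theorem result (R : Type u) [CommRing R] [IsDomain R] [IsDiscreteValuationRing R] (X : Scheme.{u}) (f : X ⟶ Spec (CommRingCat.of R)) [Flat f] [IsProper f] (Xs : Scheme.{u}) [Xs.Over (Spec (CommRingCat.of (IsLocalRing.ResidueField R)))] (i : Xs ⟶ X) (hsq : IsPullback i (Xs ↘ Spec (CommRingCat.of (IsLocalRing.ResidueField R))) f (Spec.map (CommRingCat.ofHom (IsLocalRing.residue R)))) [IsReduced Xs] (hpure : ∀ C ∈ irreducibleComponents (Xs : Type u), topologicalKrullDim C = 1) (hgi : ∀ (C : Set Xs) (hC : C ∈ irreducibleComponents (Xs : Type u)), GeometricallyIntegral (VecSt.subschι Xs C (isClosed_of_mem_irreducibleComponents C hC) ≫ (Xs ↘ Spec (CommRingCat.of (IsLocalRing.ResidueField R))))) (I : X.Modules) (hIc : Coh.IsCoh I) (hIf : FlatMod.IsFlatOver f I) (hIs : TFOne.IsTF1 Xs ((Scheme.Modules.pullback i).obj I)) (E : X.Modules) (r : ℕ) (hr : 0 < r) (hE : FlatMod.IsFinLocFreeOfRank r E) (d : ℤ) (hχ : Curv2.euler (IsLocalRing.ResidueField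 R) Xs ((Scheme.Modules.pullback i).obj I) = d) (hEd : Curv2.deg (IsLocalRing.ResidueField R) Xs ((Scheme.Modules.pullback i).obj E) r = -(r : ℤ) * d) (Y : Set Xs) (hY : IsClosed Y) (hYs : VecSt.IsSubcurve Xs Y) (GY : Xs.Modules) (πY : ((Scheme.Modules.pullback i).obj I) ⟶ GY) (hGY : TFOne.IsQuotOn Xs ((Scheme.Modules.pullback i).obj I) Y GY πY) (IY : X.Modules) (hIY : IY = kernel ((Scheme.Modules.pullbackPushforwardAdjunction i).unit.app I ≫ (Scheme.Modules.pushforward i).map πY)) (hmin : ∀ (T : Set Xs) (hT : IsClosed T), VecSt.IsSubcurve Xs T → ∀ (G : Xs.Modules) (π : ((Scheme.Modules.pullback i).obj I) ⟶ G), TFOne.IsQuotOn Xs ((Scheme.Modules.pullback i).obj I) T G π → TFOne.rBeta Xs (IsLocalRing.ResidueField R) (Xs ↘ Spec (CommRingCat.of (IsLocalRing.ResidueField R))) Y hY ((Scheme.Modules.pullback i).obj E) r GY ≤ TFOne.rBeta Xs (IsLocalRing.ResidueField R) (Xs ↘ Spec (CommRingCat.of (IsLocalRing.ResidueField R))) T hT ((Scheme.Modules.pullback i).obj E) r G) (hmax : ∀ (T : Set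 Xs) (hT : IsClosed T), VecSt.IsSubcurve Xs T → ∀ (G : Xs.Modules) (π : ((Scheme.Modules.pullback i).obj I) ⟶ G), TFOne.IsQuotOn Xs ((Scheme.Modules.pullback i).obj I) T G π → TFOne.rBeta Xs (IsLocalRing.ResidueField R) (Xs ↘ Spec (CommRingCat.of (IsLocalRing.ResidueField R))) T hT ((Scheme.Modules.pullback i).obj E) r G = TFOne.rBeta Xs (IsLocalRing.ResidueField R) (Xs ↘ Spec (CommRingCat.of (IsLocalRing.ResidueField R))) Y hY ((Scheme.Modules.pullback i).obj E) r GY → T ⊆ Y) (Z : Set Xs) (hZ : IsClosed Z) (hZs : VecSt.IsSubcurve Xs Z) (GZ1 : Xs.Modules) (πZ1 : ((Scheme.Modules.pullback i).obj IY) ⟶ GZ1) (hGZ1 : TFOne.IsQuotOn Xs ((Scheme.Modules.pullback i).obj IY) Z GZ1 πZ1) : TFOne.rBeta Xs (IsLocalRing.ResidueField R) (Xs ↘ Spec (CommRingCat.of (IsLocalRing.ResidueField R))) Y hY ((Scheme.Modules.pullback i).obj E) r GY ≤ TFOne.rBeta Xs (IsLocalRing.ResidueField R) (Xs ↘ Spec (CommRingCat.of (IsLocalRing.ResidueField R))) Z hZ ((Scheme.Modules.pullback i).obj E) r GZ1 ∧ (TFOne.rBeta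 Xs (IsLocalRing.ResidueField R) (Xs ↘ Spec (CommRingCat.of (IsLocalRing.ResidueField R))) Z hZ ((Scheme.Modules.pullback i).obj E) r GZ1 = TFOne.rBeta Xs (IsLocalRing.ResidueField R) (Xs ↘ Spec (CommRingCat.of (IsLocalRing.ResidueField R))) Y hY ((Scheme.Modules.pullback i).obj E) r GY → Z ⊆ Y) := by
    obtain ⟨hp, hdim, hE', α, β, hJ⟩ := TFOneLib.setup hsq hpure hIc hIf hE hGY hIY
    haveI := hp
    haveI := EulerIneqLib.isNoetherian_proper (X := Xs) (IsLocalRing.ResidueField R)
    obtain ⟨GU, πU, hGU⟩ := TFOneLib.exists_quotOn hIs (hY.union hZ) (by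
      obtain ⟨S, hS, hSn, rfl⟩ := hYs
      obtain ⟨T, hT, -, rfl⟩ := hZs
      exact ⟨S ∪ T, Set.union_subset hS hT, hSn.inl, (Set.sUnion_union S T).symm⟩)
    have hYU := hmin _ (hY.union hZ) (by
      obtain ⟨S, hS, hSn, rfl⟩ := hYs
      obtain ⟨T, hT, -, rfl⟩ := hZs
      exact ⟨S ∪ T, Set.union_subset hS hT, hSn.inl, (Set.sUnion_union S T).symm⟩) GU πU hGU
    let W := ⋃₀ {C | C ∈ irreducibleComponents (Xs : Type u) ∧ C ⊆ Y ∩ Z}
    have hWm : ∀ η, MeroLib.IsMaxPt η → (η ∈ W ↔ η ∈ Y ∧ η ∈ Z) := fun η hη => by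
      show η ∈ Set.sUnion _ ↔ _
      rw [TFOneLib.mem_sUnion_iff ((TFOneLib.isMaxPt_iff_genericPoints η).1 hη),
        TFOneLib.closure_subset_iff (hY.inter hZ)]
      rfl
    have hWc : IsClosed W := by
      rw [show W = _ from Set.sUnion_eq_biUnion]
      exact Set.Finite.isClosed_biUnion ((TopologicalSpace.NoetherianSpace.finite_irreducibleComponents (α := Xs)).subset
        fun C hC => hC.1) fun C hC => isClosed_of_mem_irreducibleComponents C hC.1
    have key : ∀ (GW : Xs.Modules) (πW : (Scheme.Modules.pullback i).obj I ⟶ GW),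
        TFOne.IsQuotOn Xs ((Scheme.Modules.pullback i).obj I) W GW πW →
        TFOne.rBeta Xs (IsLocalRing.ResidueField R) (Xs ↘ Spec (CommRingCat.of (IsLocalRing.ResidueField R))) Y hY ((Scheme.Modules.pullback i).obj E) r GY ≤
          TFOne.rBeta Xs (IsLocalRing.ResidueField R) (Xs ↘ Spec (CommRingCat.of (IsLocalRing.ResidueField R))) W hWc ((Scheme.Modules.pullback i).obj E) r GW →
        TFOne.rBeta Xs (IsLocalRing.ResidueField R) (Xs ↘ Spec (CommRingCat.of (IsLocalRing.ResidueField R))) Y hY ((Scheme.Modules.pullback i).obj E) r GY ≤ TFOne.rBeta Xs (IsLocalRing.ResidueField R) (Xs ↘ Spec (CommRingCat.of (IsLocalRing.ResidueField R))) Z hZ ((Scheme.Modules.pullback i).obj E) r GZ1 ∧ (TFOne.rBeta Xs (IsLocalRing.ResidueField R) (Xs ↘ Spec (CommRingCat.of (IsLocalRing.ResidueField R))) Z hZ ((Scheme.Modules.pullback i).obj E) r GZ1 = TFOne.rBeta Xs (IsLocalRing.ResidueField R) (Xs ↘ Spec (CommRingCat.of (IsLocalRing.ResidueField R))) Y hY ((Scheme.Modules.pullback i).obj E) r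 GY → Z ⊆ Y) := fun GW πW hGW hYW => by
      have h := hJ.rBeta_ineq (k := IsLocalRing.ResidueField R) hIs hGY hdim hE' hY hZ hWc (hY.union hZ) hGZ1 hGW hGU hWm fun η _ => Iff.rfl
      refine ⟨by linarith, fun he => Set.subset_union_right.trans (hmax _ (hY.union hZ) (by
        obtain ⟨S, hS, hSn, rfl⟩ := hYs
        obtain ⟨T, hT, -, rfl⟩ := hZs
        exact ⟨S ∪ T, Set.union_subset hS hT, hSn.inl, (Set.sUnion_union S T).symm⟩) GU πU hGU ?_)⟩
      linarith
    by_cases hne : {C | C ∈ irreducibleComponents (Xs : Type u) ∧ C ⊆ Y ∩ Z}.Nonempty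
    · have hWs : VecSt.IsSubcurve Xs W := ⟨_, fun C hC => hC.1, hne, rfl⟩
      obtain ⟨GW, πW, hGW⟩ := TFOneLib.exists_quotOn hIs hWc hWs
      exact key GW πW hGW (hmin W hWc hWs GW πW hGW)
    · obtain ⟨GW, πW, hGW, hmem⟩ := TFOneLib.exists_quot hIs.1 hIs.2.1
        (fun η hη => TFOneLib.mem_support_of_maxPt hIs.2.2 hη) W
      have hWe : W = ∅ := by
        show Set.sUnion _ = (∅ : Set Xs)
        rw [Set.not_nonempty_iff_eq_empty.1 hne, Set.sUnion_empty]
      have e : CohB1.support GW = W := by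
        refine TFOneLib.support_eq_of_maxPt hGW.2.1 hGW.2.2.1 hWc ?_ hmem
        rw [hWe]
        exact fun y hy => hy.elim
      have hGW' : TFOne.IsQuotOn Xs ((Scheme.Modules.pullback i).obj I) W GW πW := ⟨hGW.1, hGW.2.1, hGW.2.2.1, e⟩
      refine key GW πW hGW' ?_
      rw [TFOneLib.rBeta_empty hdim hIs hE' hWc (fun η _ h => by rw [hWe] at h; exact h) hGW',
        ← TFOneLib.rBeta_univ hdim (M := (Scheme.Modules.pullback i).obj I) hE' hχ hEd]
      refine hmin Set.univ isClosed_univ ?_ _ _ (TFOneLib.isQuotOn_univ hIs)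
      obtain ⟨S, hS, hSn, -⟩ := hYs
      exact ⟨irreducibleComponents (Xs : Type u), subset_rfl, hSn.mono hS, (sUnion_irreducibleComponents).symm⟩

end Groth.Agent.S18847
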