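import Groth.Statements.S18848
import Groth.Agent.TFOneLib.Transfer
-- import your own Groth.Agent.* helpers here

set_option autoImplicit false
set_option backward.isDefEq.respectTransparency false
set_option maxHeartbeats 1600000
set_option backward.isDefEq.respectTransparency false
set_option linter.style.haveILetI false
set_option synthInstance.maxHeartbeats 200000
universe u
open CategoryTheory CategoryTheory.Limits AlgebraicGeometry
open TFOne

namespace Groth.Agent.S18848

open Groth.Agent

/-- Let R be a discrete valuation ring with residue field κ, f : X ⟶ Spec R flat and proper, and X_s its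
special fibre, assumed reduced of pure dimension one with geometrically integral irreducible
components over κ. Let I be a coherent R-flat module on X whose restriction I(s) to X_s is
torsion-free rank-1, E a locally free module of rank r > 0 on X with restriction E(s), and d an
integer with χ(I(s)) = d and deg E(s) = -r·d. For a closed subset T of X_s write I(s)_T for the
torsion-free quotient of I(s) on T (pinned by its defining property) and β(T) := r·χ(I(s)_T) +
deg(E(s)|_T) (the source's β cleared of the denominator r). Let Y be a closed subcurve of X_s (a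
non-empty union of irreducible components), and let I^Y be the kernel of the composite I ⟶ i_* I(s)
⟶ i_* I(s)_Y, with restriction I^Y(s) to X_s and quotients I^Y(s)_T and numbers β^Y(T) :=
r·χ(I^Y(s)_T) + deg(E(s)|_T) defined likewise. Assume I(s) is semistable with respect to E(s). Then
I^Y(s) is semistable with respect to E(s) if and only if β(Y) = 0 and I(s)_Y, viewed on the reduced
closed subscheme Y, is semistable with respect to E(s)|_Y. (Here β(Y) = 0 says that E(s)|_Y is a
polarisation for I(s)_Y, the source's implicit requirement for semistability with respect to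
E(s)|_Y. The source states the conclusion for semistability of I^Y over Spec R, which it reduces at
once to the special fibre since I^Y and I agree off Y; it also asserts that I^Y(s) and I(s) are then
Jordan–Hölder equivalent, which is not stated here; it takes f projective.) -/
theorem result (R : Type u) [CommRing R] [IsDomain R] [IsDiscreteValuationRing R] (X : Scheme.{u}) (f : X ⟶ Spec (CommRingCat.of R)) [Flat f] [IsProper f] (Xs : Scheme.{u}) [Xs.Over (Spec (CommRingCat.of (IsLocalRing.ResidueField R)))] (i : Xs ⟶ X) (hsq : IsPullback i (Xs ↘ Spec (CommRingCat.of (IsLocalRing.ResidueField R))) f (Spec.map (CommRingCat.ofHom (IsLocalRing.residue R)))) [IsReduced Xs] (hpure : ∀ C ∈ irreducibleComponents (Xs : Type u), topologicalKrullDim C = 1) (hgi : ∀ (C : Set Xs) (hC : C ∈ irreducibleComponents (Xs : Type u)), GeometricallyIntegral (VecSt.subschι Xs C (isClosed_of_mem_irreducibleComponents C hC) ≫ (Xs ↘ Spec (CommRingCat.of (IsLocalRing.ResidueField R))))) (I : X.Modules) (hIc : Coh.IsCoh I) (hIf : FlatMod.IsFlatOver f I) (hIs :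 TFOne.IsTF1 Xs ((Scheme.Modules.pullback i).obj I)) (E : X.Modules) (r : ℕ) (hr : 0 < r) (hE : FlatMod.IsFinLocFreeOfRank r E) (d : ℤ) (hχ : Curv2.euler (IsLocalRing.ResidueField R) Xs ((Scheme.Modules.pullback i).obj I) = d) (hEd : Curv2.deg (IsLocalRing.ResidueField R) Xs ((Scheme.Modules.pullback i).obj E) r = -(r : ℤ) * d) (hss : TFOne.IsSemistable Xs (IsLocalRing.ResidueField R) (Xs ↘ Spec (CommRingCat.of (IsLocalRing.ResidueField R))) ((Scheme.Modules.pullback i).obj I) ((Scheme.Modules.pullback i).obj E) r) (Y : Set Xs) (hY : IsClosed Y) (hYs : VecSt.IsSubcurve Xs Y) (GY : Xs.Modules) (πY : ((Scheme.Modules.pullback i).obj I) ⟶ GY) (hGY : TFOne.IsQuotOn Xs ((Scheme.Modules.pullback i).obj I) Y GY πY) (IY : X.Modules) (hIY : IY = kernel ((Scheme.Modules.pullbackPushforwardAdjunction i).unit.app I ≫ (Scheme.Modules.pushforward i).map πY)) : TFOne.IsSemistable Xs (IsLocalRing.ResidueField R) (Xs ↘ Spec (CommRingCat.of (IsLocalRing.ResidueField R))) ((Scheme.Modules.pullback i).obj IY) ((Scheme.Modules.pullback i).obj E) r ↔ (TFOne.rBeta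 Xs (IsLocalRing.ResidueField R) (Xs ↘ Spec (CommRingCat.of (IsLocalRing.ResidueField R))) Y hY ((Scheme.Modules.pullback i).obj E) r GY = 0 ∧ TFOne.IsSemistable (VecSt.subsch Xs Y hY) (IsLocalRing.ResidueField R) (VecSt.subschι Xs Y hY ≫ (Xs ↘ Spec (CommRingCat.of (IsLocalRing.ResidueField R)))) ((Scheme.Modules.pullback (VecSt.subschι Xs Y hY)).obj GY) ((Scheme.Modules.pullback (VecSt.subschι Xs Y hY)).obj ((Scheme.Modules.pullback i).obj E)) r) := by
    obtain ⟨hp, hdim, hE', α, β, hJ⟩ := TFOneLib.setup hsq hpure hIc hIf hE hGY hIY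
    haveI := hp
    haveI := EulerIneqLib.isNoetherian_proper (X := Xs) (IsLocalRing.ResidueField R)
    let κ' := IsLocalRing.ResidueField R
    let ι := VecSt.subschι Xs Y hY
    haveI : IsClosedImmersion ι := by show IsClosedImmersion (Scheme.IdealSheafData.subschemeι _); infer_instance
    haveI : IsReduced (VecSt.subsch Xs Y hY) := DVRCrit.isReduced_vanishingIdeal _
    have hrg : Set.range ι = Y := by
      show Set.range (Scheme.IdealSheafData.subschemeι _) = Y
      rw [Scheme.IdealSheafData.range_subschemeι, Scheme.IdealSheafData.coe_support_vanishingIdeal]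
      rfl
    obtain ⟨SY, hSY, hSYn, hYS⟩ := hYs
    have hgr : ∀ x, x ∈ Set.range ι → ∃ η, MeroLib.IsMaxPt η ∧ η ∈ Set.range ι ∧ η ⤳ x := by
      rw [hrg]
      exact TFOneLib.exists_maxPt_specializes hSY hYS
    have hYs' : VecSt.IsSubcurve Xs Y := ⟨SY, hSY, hSYn, hYS⟩
    have hu0 := TFOneLib.rBeta_univ (k := IsLocalRing.ResidueField R) hdim (M := (Scheme.Modules.pullback i).obj I) hE' hχ hEd
    have nonneg : ∀ (T : Set Xs) (hT : IsClosed T), VecSt.IsSubcurve Xs T → ∀ (G : Xs.Modules)
        (π : (Scheme.Modules.pullback i).obj I ⟶ G), TFOne.IsQuotOn Xs ((Scheme.Modules.pullback i).obj I) T G π →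
        0 ≤ TFOne.rBeta Xs (IsLocalRing.ResidueField R) (Xs ↘ Spec (CommRingCat.of (IsLocalRing.ResidueField R))) T hT ((Scheme.Modules.pullback i).obj E) r G := by
      intro T hT hTs G π hG
      by_cases hu : T = Set.univ
      · subst hu
        rw [TFOneLib.rBeta_eq, TFOneLib.euler_quot_eq (k := IsLocalRing.ResidueField R) hIs.2.2 hG (TFOneLib.isQuotOn_univ hIs) fun _ _ => Iff.rfl,
          ← TFOneLib.rBeta_eq, hu0]
      · exact hss.2 T hT hTs hu G π hG
    constructor
    · intro hJss
      refine ⟨le_antisymm ?_ (nonneg Y hY hYs' GY πY hGY), ?_⟩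
      · by_cases hu : Y = Set.univ
        · subst hu
          rw [TFOneLib.rBeta_eq, TFOneLib.euler_quot_eq (k := IsLocalRing.ResidueField R) hIs.2.2 hGY (TFOneLib.isQuotOn_univ hIs) fun _ _ => Iff.rfl,
            ← TFOneLib.rBeta_eq, hu0]
        · let Y' : Set Xs := Set.sUnion {C | C ∈ irreducibleComponents (Xs : Type u) ∧ ¬ C ⊆ Y}
          have hY'c : IsClosed Y' := by
            rw [show Y' = _ from Set.sUnion_eq_biUnion]
            exact Set.Finite.isClosed_biUnion ((TopologicalSpace.NoetherianSpace.finite_irreducibleComponents (α := Xs)).subset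
              fun C hC => hC.1) fun C hC => isClosed_of_mem_irreducibleComponents C hC.1
          have hY'm : ∀ η, MeroLib.IsMaxPt η → (η ∈ Y' ↔ η ∉ Y) := fun η hη => TFOneLib.mem_union_iff_of_maxPt hη hY
          have hne : {C | C ∈ irreducibleComponents (Xs : Type u) ∧ ¬ C ⊆ Y}.Nonempty := by
            by_contra he
            refine hu (Set.eq_univ_iff_forall.2 fun y => ?_)
            obtain ⟨C, hC, hy⟩ := Set.mem_sUnion.1 (show y ∈ Set.sUnion (irreducibleComponents (Xs : Type u)) by
              rw [sUnion_irreducibleComponents]; trivial)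
            by_contra hyY
            exact he ⟨C, hC, fun h => hyY (h hy)⟩
          have hY's : VecSt.IsSubcurve Xs Y' := ⟨{C | C ∈ irreducibleComponents (Xs : Type u) ∧ ¬ C ⊆ Y},
            fun C hC => hC.1, hne, rfl⟩
          have hY'u : Y' ≠ Set.univ := fun h => by
            obtain ⟨η, hη, hηY⟩ := TFOneLib.exists_maxPt_mem hYs'
            exact (hY'm η hη).1 (h ▸ Set.mem_univ η) hηY
          obtain ⟨G, p, hG⟩ := TFOneLib.exists_quotOn (hJ.isTF1 hIs hGY) hY'c hY's
          have h0 := hJss.2 Y' hY'c hY's hY'u G p hG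
          have e2 := hJ.euler_sdiff (k := IsLocalRing.ResidueField R) hIs hGY (TFOneLib.isQuotOn_univ hIs)
            (fun _ _ _ => trivial) hG (fun η hη => by rw [hY'm η hη]; simp)
          have hd := hJ.deg_eq (k := IsLocalRing.ResidueField R) hIs hGY hdim hE' hY hY'c isClosed_empty isClosed_univ
            (fun η hη => by rw [hY'm η hη]; simp) (fun η hη => by rw [hY'm η hη]; simp [em])
          have hde : TFOneLib.degOn (IsLocalRing.ResidueField R) ((Scheme.Modules.pullback i).obj E) r (∅ : Set Xs) isClosed_empty = 0 := by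
            rw [TFOneLib.degOn_eq _ hdim hE']
            simp
          rw [TFOneLib.rBeta_eq] at h0 hu0 ⊢
          rw [e2, mul_sub] at h0
          linarith
      · haveI := hGY.2.1.1
        haveI := hGY.1
        haveI : IsLocallyNoetherian (VecSt.subsch Xs Y hY) := LocallyOfFiniteType.isLocallyNoetherian ι
        haveI : CompactSpace (VecSt.subsch Xs Y hY) := ι.isClosedEmbedding.compactSpace
        haveI : IsNoetherian (VecSt.subsch Xs Y hY) := ⟨⟩
        have hS : DCohLib.SuppOn ι GY := TFOneLib.suppOn_of_maxPt ι hGY.2.2.1 (by rw [hrg, hGY.2.2.2])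
        haveI := DCohLib.isIso_unit_of_suppOn ι hS
        refine ⟨⟨PullbackMod.isCoh_pullback ι _ hGY.2.1, TFOneLib.torsionFree_pullback ι hgr hGY.2.2.1,
          TFOneLib.isRkOne_pullback ι hIs.2.2 hS
            (fun η hη h => TFOneLib.bijective_stalk hIs.2.2 hGY hη (hrg ▸ h)) hgr⟩, ?_⟩
        intro T hT hTs hTne G p hG
        haveI := hG.2.1.1
        haveI := hG.1
        let κT := VecSt.subschι (VecSt.subsch Xs Y hY) T hT
        haveI : IsClosedImmersion κT := by show IsClosedImmersion (Scheme.IdealSheafData.subschemeι _); infer_instance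
        have hκ : Set.range κT = T := by
          show Set.range (Scheme.IdealSheafData.subschemeι _) = T
          rw [Scheme.IdealSheafData.range_subschemeι, Scheme.IdealSheafData.coe_support_vanishingIdeal]
          rfl
        have hrT : Set.range (κT ≫ ι) = ι '' T := by
          rw [Scheme.Hom.comp_base, TopCat.coe_comp, Set.range_comp, hκ]
        have hT' : IsClosed (ι '' T) := ι.isClosedEmbedding.isClosedMap _ hT
        let G' := (Scheme.Modules.pushforward ι).obj G
        let π' := (Scheme.Modules.pullbackPushforwardAdjunction ι).unit.app GY ≫ (Scheme.Modules.pushforward ι).map p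
        haveI := DCohLib.preservesEpimorphisms_pushforward ι
        haveI : Epi ((Scheme.Modules.pushforward ι).map p) := (Scheme.Modules.pushforward ι).map_epi p
        have hsupp : CohB1.support G' = ι '' T := by
          ext x
          constructor
          · intro hx
            by_cases hr : x ∈ Set.range ι
            · obtain ⟨y, rfl⟩ := hr
              refine ⟨y, ?_, rfl⟩
              rw [← hG.2.2.2]
              intro h
              exact hx ((DCohLib.bijective_pushStalk ι G y).1.subsingleton)
            · exact absurd (DCohLib.subsingleton_stalk_pushforward ι G x hr) hx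
          · rintro ⟨y, hy, rfl⟩ h
            rw [← hG.2.2.2] at hy
            exact hy ((DCohLib.bijective_pushStalk ι G y).2.subsingleton)
        have hq : TFOne.IsQuotOn Xs ((Scheme.Modules.pullback i).obj I) (ι '' T) G' (πY ≫ π') :=
          ⟨inferInstance, DevLib.isCoh_pushforward_closed ι hG.2.1, TFOneLib.torsionFree_push ι hgr hG.2.2.1, hsupp⟩
        have hTs' : VecSt.IsSubcurve Xs (ι '' T) := by
          obtain ⟨S, hS', hSn, rfl⟩ := hTs
          refine ⟨(fun C => ι '' C) '' S, ?_, hSn.image _, ?_⟩
          · rintro _ ⟨C, hC, rfl⟩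
            obtain ⟨η, hη⟩ := QuasiSober.sober (hS' hC).1 (isClosed_of_mem_irreducibleComponents C (hS' hC))
            have hmax : MeroLib.IsMaxPt η := (TFOneLib.isMaxPt_iff_genericPoints η).2 (by
              show closure {η} ∈ irreducibleComponents _
              rw [hη.def]; exact hS' hC)
            have h' := (TFOneLib.isMaxPt_iff_genericPoints (ι η)).1 (TFOneLib.isMaxPt_image ι hgr hmax)
            show ι '' C ∈ irreducibleComponents (Xs : Type u)
            rw [← hη.def, ← ι.isClosedEmbedding.closure_image_eq, Set.image_singleton]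
            exact h'
          · rw [Set.image_sUnion]
        have hne : ι '' T ≠ Set.univ := fun h => hTne (Set.eq_univ_iff_forall.2 fun y => by
          obtain ⟨z, hz, he⟩ := (h ▸ Set.mem_univ (ι y) : ι y ∈ ι '' T)
          rwa [← ι.isClosedEmbedding.injective he])
        have h0 := hss.2 (ι '' T) hT' hTs' hne G' (πY ≫ π') hq
        have ed := TFOneLib.deg_eq_degOn (κT ≫ ι) (IsLocalRing.ResidueField R) hdim hE' (hrT ▸ hT')
        rw [Category.assoc] at ed
        letI : (VecSt.subsch Xs Y hY).Over (Spec (CommRingCat.of (IsLocalRing.ResidueField R))) :=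
          ⟨ι ≫ (Xs ↘ Spec (CommRingCat.of (IsLocalRing.ResidueField R)))⟩
        have ee := IntLib.euler_push (IsLocalRing.ResidueField R) ι rfl G
        show 0 ≤ (r : ℤ) * Curv2.euler (IsLocalRing.ResidueField R) (VecSt.subsch Xs Y hY) G + @Curv2.deg _ _ (VecSt.subsch (VecSt.subsch Xs Y hY) T hT)
          ⟨κT ≫ (ι ≫ (Xs ↘ Spec (CommRingCat.of (IsLocalRing.ResidueField R))))⟩
          ((Scheme.Modules.pullback κT).obj ((Scheme.Modules.pullback ι).obj ((Scheme.Modules.pullback i).obj E))) r
        letI : (VecSt.subsch (VecSt.subsch Xs Y hY) T hT).Over (Spec (CommRingCat.of (IsLocalRing.ResidueField R))) :=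
          ⟨κT ≫ (ι ≫ (Xs ↘ Spec (CommRingCat.of (IsLocalRing.ResidueField R))))⟩
        haveI : IsProper (VecSt.subsch (VecSt.subsch Xs Y hY) T hT ↘ Spec (CommRingCat.of (IsLocalRing.ResidueField R))) :=
          inferInstanceAs (IsProper (κT ≫ ι ≫ (Xs ↘ Spec (CommRingCat.of (IsLocalRing.ResidueField R)))))
        have ei : Curv2.deg (IsLocalRing.ResidueField R) (VecSt.subsch (VecSt.subsch Xs Y hY) T hT)
            ((Scheme.Modules.pullback κT).obj ((Scheme.Modules.pullback ι).obj ((Scheme.Modules.pullback i).obj E))) r =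
            Curv2.deg (IsLocalRing.ResidueField R) (VecSt.subsch (VecSt.subsch Xs Y hY) T hT)
            ((Scheme.Modules.pullback (κT ≫ ι)).obj ((Scheme.Modules.pullback i).obj E)) r := by
          exact congrArg (fun z : ℤ => z - (r : ℤ) * Curv2.euler (IsLocalRing.ResidueField R) _ (Coh.structureModule _))
            (CurveLib.euler_iso (K := IsLocalRing.ResidueField R)
              ((Scheme.Modules.pullbackComp κT ι).app ((Scheme.Modules.pullback i).obj E)))
        rw [TFOneLib.rBeta_eq, ee] at h0
        rw [ei, ed]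
        convert h0 using 3
    · rintro ⟨hY0, -⟩
      refine ⟨hJ.isTF1 hIs hGY, fun Z hZ hZs _ G p hG => ?_⟩
      let W := Set.sUnion {C | C ∈ irreducibleComponents (Xs : Type u) ∧ C ⊆ Y ∩ Z}
      have hWm : ∀ η, MeroLib.IsMaxPt η → (η ∈ W ↔ η ∈ Y ∧ η ∈ Z) := fun η hη => by
        show η ∈ Set.sUnion _ ↔ _
        rw [TFOneLib.mem_sUnion_iff ((TFOneLib.isMaxPt_iff_genericPoints η).1 hη),
          TFOneLib.closure_subset_iff (hY.inter hZ)]
        rfl
      have hWc : IsClosed W := by
        rw [show W = _ from Set.sUnion_eq_biUnion]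
        exact Set.Finite.isClosed_biUnion ((TopologicalSpace.NoetherianSpace.finite_irreducibleComponents (α := Xs)).subset
          fun C hC => hC.1) fun C hC => isClosed_of_mem_irreducibleComponents C hC.1
      have hUs : VecSt.IsSubcurve Xs (Y ∪ Z) := by
        obtain ⟨T, hT, -, rfl⟩ := hZs
        exact ⟨SY ∪ T, Set.union_subset hSY hT, hSYn.inl, by rw [hYS, Set.sUnion_union]⟩
      obtain ⟨GU, πU, hGU⟩ := TFOneLib.exists_quotOn hIs (hY.union hZ) hUs
      have hUb := nonneg _ (hY.union hZ) hUs GU πU hGU
      obtain ⟨GW, πW, hGW, hmem⟩ := TFOneLib.exists_quot hIs.1 hIs.2.1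
        (fun η hη => TFOneLib.mem_support_of_maxPt hIs.2.2 hη) W
      have hGW' : TFOne.IsQuotOn Xs ((Scheme.Modules.pullback i).obj I) W GW πW :=
        ⟨hGW.1, hGW.2.1, hGW.2.2.1, TFOneLib.support_eq_of_maxPt hGW.2.1 hGW.2.2.1 hWc
          (TFOneLib.exists_maxPt_specializes (fun C hC => hC.1) rfl) hmem⟩
      have hWb : 0 ≤ TFOne.rBeta Xs (IsLocalRing.ResidueField R) (Xs ↘ Spec (CommRingCat.of (IsLocalRing.ResidueField R))) W hWc ((Scheme.Modules.pullback i).obj E) r GW := by
        by_cases hne : {C | C ∈ irreducibleComponents (Xs : Type u) ∧ C ⊆ Y ∩ Z}.Nonempty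
        · exact nonneg W hWc ⟨{C | C ∈ irreducibleComponents (Xs : Type u) ∧ C ⊆ Y ∩ Z}, fun C hC => hC.1, hne, rfl⟩ GW πW hGW'
        · rw [TFOneLib.rBeta_empty hdim hIs hE' hWc (fun η _ h => ?_) hGW']
          obtain ⟨C, hC, -⟩ := h
          exact hne ⟨C, hC⟩
      have h := hJ.rBeta_ineq (k := IsLocalRing.ResidueField R) hIs hGY hdim hE' hY hZ hWc (hY.union hZ) hG hGW' hGU hWm fun η _ => Iff.rfl
      linarith

end Groth.Agent.S18848
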