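import Groth.Statements.S18851
import Groth.Agent.TFLangLib.Semi
import Groth.Agent.TFLangLib.Simple
import Groth.Agent.TFLangLib.Fibres
-- import your own Groth.Agent.* helpers here

set_option autoImplicit false
set_option backward.isDefEq.respectTransparency false
set_option maxHeartbeats 1600000
set_option backward.isDefEq.respectTransparency.types false
set_option linter.style.haveILetI false
set_option synthInstance.maxHeartbeats 200000
universe u
open CategoryTheory CategoryTheory.Limits AlgebraicGeometry
open TFOne

namespace Groth.Agent.S18851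

open Groth.Agent

/-- Let R be a discrete valuation ring with fraction field K and residue field κ, f : X ⟶ Spec R flat
and proper with generic fibre X_K (a cartesian square over Spec K ⟶ Spec R with top arrow j) and
special fibre X_s (a cartesian square over Spec κ ⟶ Spec R), the latter reduced of pure dimension
one with geometrically integral irreducible components over κ. Let I be a relatively torsion-free
rank-1 module on X over Spec R (R-flat, finitely presented, torsion-free rank-1 on every geometric
fibre), E a locally free module of rank r > 0 on X, and d an integer with χ(I(s)) = d and deg E(s) =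
-r·d for the restrictions to X_s. If j^* I is simple and semistable with respect to j^* E on every
geometric fibre of X_K over Spec K, then there is a relatively torsion-free rank-1 module I' on X
over Spec R with j^* I' ≅ j^* I which is both simple and semistable with respect to E on every
geometric fibre of f. (The source's proof starts from an arbitrary extension, the form stated here;
the source takes f projective.) -/
theorem result (R : Type u) [CommRing R] [IsDomain R] [IsDiscreteValuationRing R] (X : Scheme.{u}) (f : X ⟶ Spec (CommRingCat.of R)) [Flat f] [IsProper f] (Xs : Scheme.{u}) [Xs.Over (Spec (CommRingCat.of (IsLocalRing.ResidueField R)))] (i : Xs ⟶ X) (hsq : IsPullback i (Xs ↘ Spec (CommRingCat.of (IsLocalRing.ResidueField R))) f (Spec.map (CommRingCat.ofHom (IsLocalRing.residue R)))) [IsReduced Xs] (hpure : ∀ C ∈ irreducibleComponents (Xs : Type u), topologicalKrullDim C = 1) (hgi : ∀ (C : Set Xs) (hC : C ∈ irreducibleComponents (Xs : Type u)), GeometricallyIntegral (VecSt.subschι Xs C (isClosed_of_mem_irreducibleComponents C hC) ≫ (Xs ↘ Spec (CommRingCat.of (IsLocalRing.ResidueField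 R))))) (Xg : Scheme.{u}) [Xg.Over (Spec (CommRingCat.of (FractionRing R)))] (j : Xg ⟶ X) (hgen : IsPullback j (Xg ↘ Spec (CommRingCat.of (FractionRing R))) f (Spec.map (CommRingCat.ofHom (algebraMap R (FractionRing R))))) (I : X.Modules) (hI : TFOne.IsRelTF1 f I) (E : X.Modules) (r : ℕ) (hr : 0 < r) (hE : FlatMod.IsFinLocFreeOfRank r E) (d : ℤ) (hχ : Curv2.euler (IsLocalRing.ResidueField R) Xs ((Scheme.Modules.pullback i).obj I) = d) (hEd : Curv2.deg (IsLocalRing.ResidueField R) Xs ((Scheme.Modules.pullback i).obj E) r = -(r : ℤ) * d) (hIg1 : TFOne.FibSimple (Xg ↘ Spec (CommRingCat.of (FractionRing R))) ((Scheme.Modules.pullback j).obj I)) (hIg2 : TFOne.FibSemistable (Xg ↘ Spec (CommRingCat.of (FractionRing R))) ((Scheme.Modules.pullback j).obj I) ((Scheme.Modules.pullback j).obj E) r) : ∃ I' : X.Modules, TFOne.IsRelTF1 f I' ∧ Nonempty ((Scheme.Modules.pullback j).obj I' ≅ ((Scheme.Modules.pullback j).obj I)) ∧ TFOne.FibSimple f I' ∧ TFOne.FibSemistable f I' E r := by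
    haveI := TFLangLib.isProper_special hsq
    obtain ⟨M₁, hM₁, hss₁⟩ := TFLangLib.exists_semistable hsq hpure hgi hgen hr hE hχ hEd hI hIg2
    obtain ⟨M, ⟨hM, hss⟩, hind⟩ := TFLangLib.exists_indec hsq hpure hgi hgen hI hIg1
      (C := fun M => TFLangLib.Good f i j I M ∧ TFOne.IsSemistable Xs (IsLocalRing.ResidueField R)
        (Xs ↘ Spec (CommRingCat.of (IsLocalRing.ResidueField R))) ((Scheme.Modules.pullback i).obj M)
        ((Scheme.Modules.pullback i).obj E) r)
      (fun M h => h.1) ⟨M₁, hM₁, hss₁⟩
      (fun M hM A B G G' π π' hA hB hG hG' hi => by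
        haveI := hi
        haveI := EulerIneqLib.isNoetherian_proper (X := Xs) (IsLocalRing.ResidueField R)
        have hdim := TFLangLib.dim_special hpure
        have hEs := PBundleLib.isFinLocFreeOfRank_pullback i hE
        have hadd := TFLangLib.beta_add_of_isIso (k := IsLocalRing.ResidueField R) hdim hEs hM.1.tf hA.isClosed
          hB.isClosed hG hG'
        rw [TFLangLib.beta_univ _ hdim hEs hM.1.tf (hM.1.euler.trans hχ) hEd] at hadd
        have hA0 := TFLangLib.beta_nonneg_of_semistable _ hdim hEs hM.1.tf (hM.1.euler.trans hχ) hEd hM.2 hA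
        have hB0 := TFLangLib.beta_nonneg_of_semistable _ hdim hEs hM.1.tf (hM.1.euler.trans hχ) hEd hM.2 hB
        exact ⟨hM.1.step hsq hpure hgen hG,
          TFLangLib.semistable_step hsq hpure hgen hE hχ hEd hM.1 hM.2 hA hG (by omega)⟩)
    haveI := TFLangLib.nonempty_special hsq hgen hIg1
    exact ⟨M, hM.relTF1 hsq hpure hgen hI, hM.gen, hM.fibSimple hsq hpure hgi hgen hIg1 hind,
      hM.fibSemistable hsq hpure hgi hgen hE hss hIg2⟩

end Groth.Agent.S18851
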