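import Groth.Statements.S18852
import Groth.Agent.TFLangLib.Semi
import Groth.Agent.TFLangLib.Quasi
import Groth.Agent.TFLangLib.Fibres
-- import your own Groth.Agent.* helpers here

set_option autoImplicit false
set_option backward.isDefEq.respectTransparency false
set_option maxHeartbeats 1600000
set_option backward.isDefEq.respectTransparency.types false
set_option linter.style.haveILetI false
set_option synthInstance.maxHeartbeats 200000
universe u
open CategoryTheory CategoryTheory.Limits AlgebraicGeometry
open TFOne

namespace Groth.Agent.S18852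

open Groth.Agent

/-- Let R be a discrete valuation ring with fraction field K and residue field κ, f : X ⟶ Spec R flat
and proper with generic fibre X_K (a cartesian square over Spec K ⟶ Spec R with top arrow j) and
special fibre X_s (a cartesian square over Spec κ ⟶ Spec R), the latter reduced of pure dimension
one with geometrically integral irreducible components over κ. Let I be a relatively torsion-free
rank-1 module on X over Spec R (R-flat, finitely presented, torsion-free rank-1 on every geometric
fibre), E a locally free module of rank r > 0 on X, and d an integer with χ(I(s)) = d and deg E(s) =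
-r·d for the restrictions to X_s. Let σ be a section of f whose image lies in an open subscheme U of
X smooth over Spec R, and σ_K the induced section of X_K (the point of X_K over Spec K mapping to σ
under j). If j^* I is σ_K-quasi-stable with respect to j^* E on every geometric fibre of X_K over
Spec K (semistable, with the strict inequality on every proper subcurve through the point of the
fibre given by σ_K), then there is a relatively torsion-free rank-1 module I' on X over Spec R with
j^* I' ≅ j^* I which is σ-quasi-stable with respect to E on every geometric fibre of f. (The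
source's proof starts from an arbitrary extension, the form stated here; the source takes f
projective.) -/
theorem result (R : Type u) [CommRing R] [IsDomain R] [IsDiscreteValuationRing R] (X : Scheme.{u}) (f : X ⟶ Spec (CommRingCat.of R)) [Flat f] [IsProper f] (Xs : Scheme.{u}) [Xs.Over (Spec (CommRingCat.of (IsLocalRing.ResidueField R)))] (i : Xs ⟶ X) (hsq : IsPullback i (Xs ↘ Spec (CommRingCat.of (IsLocalRing.ResidueField R))) f (Spec.map (CommRingCat.ofHom (IsLocalRing.residue R)))) [IsReduced Xs] (hpure : ∀ C ∈ irreducibleComponents (Xs : Type u), topologicalKrullDim C = 1) (hgi : ∀ (C : Set Xs) (hC : C ∈ irreducibleComponents (Xs : Type u)), GeometricallyIntegral (VecSt.subschι Xs C (isClosed_of_mem_irreducibleComponents C hC) ≫ (Xs ↘ Spec (CommRingCat.of (IsLocalRing.ResidueField R))))) (Xg : Scheme.{u}) [Xg.Over (Spec (CommRingCat.of (FractionRing R)))] (j : Xg ⟶ X) (hgen : IsPullback j (Xg ↘ Spec (CommRingCat.of (FractionRing R))) f (Spec.map (CommRingCat.ofHom (algebraMap R (FractionRing R))))) (I : X.Modules) (hI : TFOne.IsRelTF1 f I) (E : X.Modules)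 (r : ℕ) (hr : 0 < r) (hE : FlatMod.IsFinLocFreeOfRank r E) (d : ℤ) (hχ : Curv2.euler (IsLocalRing.ResidueField R) Xs ((Scheme.Modules.pullback i).obj I) = d) (hEd : Curv2.deg (IsLocalRing.ResidueField R) Xs ((Scheme.Modules.pullback i).obj E) r = -(r : ℤ) * d) (σ : Spec (CommRingCat.of R) ⟶ X) (hσ : σ ≫ f = 𝟙 _) (U : X.Opens) (hσU : Set.range σ.base ⊆ (U : Set X)) [Smooth (U.ι ≫ f)] (σg : Spec (CommRingCat.of (FractionRing R)) ⟶ Xg) (hσg : σg ≫ (Xg ↘ Spec (CommRingCat.of (FractionRing R))) = 𝟙 _) (hσgj : σg ≫ j = Spec.map (CommRingCat.ofHom (algebraMap R (FractionRing R))) ≫ σ) (hIg : TFOne.FibQuasistableAlong (Xg ↘ Spec (CommRingCat.of (FractionRing R))) ((Scheme.Modules.pullback j).obj I) ((Scheme.Modules.pullback j).obj E) σg hσg r) : ∃ I' : X.Modules, TFOne.IsRelTF1 f I' ∧ Nonempty ((Scheme.Modules.pullback j).obj I' ≅ ((Scheme.Modules.pullback j).obj I)) ∧ TFOne.FibQuasistableAlong f I' E σ hσ r := by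
    haveI := TFLangLib.isProper_special hsq
    haveI := EulerIneqLib.isNoetherian_proper (X := Xs) (IsLocalRing.ResidueField R)
    have hIgs : TFOne.FibSemistable (Xg ↘ Spec (CommRingCat.of (FractionRing R))) ((Scheme.Modules.pullback j).obj I)
        ((Scheme.Modules.pullback j).obj E) r := fun Ω _ _ t Y o q ho => by
      exact (hIg Ω t Y o q ho (ho.lift (t ≫ σg) (𝟙 _) (by
        rw [Category.assoc, hσg, Category.comp_id, Category.id_comp])) (ho.lift_fst _ _ _) (ho.lift_snd _ _ _)).1
    obtain ⟨x, hx⟩ := (TFLangLib.mem_range_iff IsLocalRing.residue_surjective hsq).2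
      (show f (σ (IsLocalRing.closedPoint R)) = IsLocalRing.closedPoint R by
        rw [← Scheme.Hom.comp_apply, hσ]; rfl)
    have hxV : x ∈ i ⁻¹ᵁ U := by
      show i x ∈ U
      rw [hx]
      exact hσU ⟨_, rfl⟩
    haveI : Smooth ((i ⁻¹ᵁ U).ι ≫ (Xs ↘ Spec (CommRingCat.of (IsLocalRing.ResidueField R)))) :=
      MorphismProperty.of_isPullback (P := @Smooth) ((isPullback_morphismRestrict i U).paste_vert hsq) inferInstance
    obtain ⟨η₀, hη₀, hη₀x⟩ := PicCurveLib.exists_genPt x
    have hη₀' := (TFOneLib.isMaxPt_iff_genericPoints η₀).2 hη₀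
    obtain ⟨M₁, hM₁, hss₁⟩ := TFLangLib.exists_semistable hsq hpure hgi hgen hr hE hχ hEd hI hIgs
    obtain ⟨M, hM, hss, hq⟩ := TFLangLib.exists_quasistable hsq hpure hgi hgen hr hE hχ hEd hM₁ hss₁ hσ hσgj hIgs hIg
      hx.symm hη₀' hη₀x (fun η hη hs => TFLangLib.eq_of_specializes_of_smooth (κ := IsLocalRing.ResidueField R) (i ⁻¹ᵁ U) hxV hη hη₀' hs hη₀x)
    exact ⟨M, hM.relTF1 hsq hpure hgen hI, hM.gen,
      hM.fibQuasistable hsq hpure hgi hgen hE hss hσ hσgj hIg hx.symm hq⟩

end Groth.Agent.S18852
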