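import Groth.Statements.S18859
import Groth.Agent.PrincBundLib.Invariant
import Groth.Agent.GaPoints.Basic

set_option autoImplicit false
universe u
open CategoryTheory MonoidalCategory CartesianMonoidalCategory MonObj GrpObj AlgebraicGeometry
open NonAbH1

namespace Groth.Agent.S18859

/-- Let S be a scheme, G a group scheme over S and X → S a G-torsor for the fpqc topology (a
pseudo-torsor under G acquiring sections on the members of some fpqc covering family of S). Then the
functions on S are the G-invariant functions on X: the ring map Γ(S, O_S) → Γ(X, O_X) is injective,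
and a global function s on X lies in its image if and only if the pullbacks of s to G ×_S X along
the action morphism and along the second projection coincide. (The source works over a scheme of
finite type over a field with G the base change of an affine group scheme over that field and states
the equality O_S = (O_X)^G as sheaves on S; applied to the restriction of the torsor over each open
of S, the present global form is that equality.) -/
theorem result {S : Scheme.{u}} {G X : Over S}
    [GrpObj G] (a : AlgGrp.Action G X) (ha : NonAbH1.IsTorsorFor Scheme.fpqcPrecoverage a) :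
    Function.Injective X.hom.appTop.hom ∧
      ∀ s : Γ(X.left, ⊤), s ∈ Set.range X.hom.appTop.hom ↔
        a.act.left.appTop.hom s = (CartesianMonoidalCategory.snd G X).left.appTop.hom s := by
  have key : ∀ b : Γ((𝟙_ (Over S)).left, ⊤), ∀ g : 𝟙_ (Over S) ⟶ Red.Ga S, Red.gaFn g = b →
      Red.gaFn (toUnit X ≫ g) = X.hom.appTop.hom b := fun b g h => by
    rw [GaPoints.gaFn_comp, h]
    have : (toUnit X).left = X.hom := (Category.comp_id _).symm.trans (Over.w (toUnit X))
    rw [this]
  refine ⟨fun b b' h => ?_, fun s => ⟨?_, fun hs => ?_⟩⟩
  · obtain ⟨g, hg⟩ := GaPoints.gaFn_surjective (X := 𝟙_ (Over S)) b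
    obtain ⟨g', hg'⟩ := GaPoints.gaFn_surjective (X := 𝟙_ (Over S)) b'
    have h1 : toUnit X ≫ g = toUnit X ≫ g' :=
      GaPoints.gaFn_injective ((key b g hg).trans (h.trans (key b' g' hg').symm))
    obtain ⟨t, -, hu⟩ := PrincBundLib.existsUnique_invariant a ha (toUnit X ≫ g) (by
      rw [← Category.assoc, ← Category.assoc, toUnit_unique (a.act ≫ toUnit X) (snd G X ≫ toUnit X)])
    rw [← hg, ← hg', hu g rfl, hu g' h1.symm]
  · rintro ⟨b, rfl⟩
    have hw : a.act.left ≫ X.hom = (snd G X).left ≫ X.hom := (Over.w a.act).trans (Over.w (snd G X)).symm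
    have h : (a.act.left ≫ X.hom).appTop.hom b = ((snd G X).left ≫ X.hom).appTop.hom b :=
      congrArg (fun q => q.appTop.hom b) hw
    rw [Scheme.Hom.comp_appTop, Scheme.Hom.comp_appTop] at h
    exact h
  · obtain ⟨x, rfl⟩ := GaPoints.gaFn_surjective (X := X) s
    obtain ⟨g, hg, -⟩ := PrincBundLib.existsUnique_invariant a ha x (GaPoints.gaFn_injective (by
      rw [GaPoints.gaFn_comp, GaPoints.gaFn_comp]
      exact hs))
    exact ⟨Red.gaFn g, by rw [← key _ g rfl, hg]⟩

end Groth.Agent.S18859
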