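import Groth.Statements.S1886
import Groth.Agent.FinGrpdLib.Points2
-- import your own Groth.Agent.* helpers here

set_option autoImplicit false
set_option backward.isDefEq.respectTransparency false
universe u
open CategoryTheory CategoryTheory.Limits AlgebraicGeometry
open Grpd

namespace Groth.Agent.S1886

open Groth.Agent.FinGrpdLib in
/-- The diagonal of `j` is a base change of the identity section of the stabilizer. -/
theorem exists_isPullback_diagonal {S : Scheme.{u}} (G : Grpd.GroupoidScheme S) :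
    ∃ φ : pullback G.j G.j ⟶ G.stabilizer, IsPullback (pullback.diagonal G.j) G.t φ G.eStab := by
  let α : pullback G.j G.j ⟶ G.R := pullback.fst _ _
  let β : pullback G.j G.j ⟶ G.R := pullback.snd _ _
  have hs : α ≫ G.s = β ≫ G.s := by
    have := congrArg (· ≫ pullback.snd _ _) (pullback.condition : α ≫ G.j = β ≫ G.j)
    simpa [Grpd.GroupoidScheme.j, α, β] using this
  have ht : α ≫ G.t = β ≫ G.t := by
    have := congrArg (· ≫ pullback.fst _ _) (pullback.condition : α ≫ G.j = β ≫ G.j)
    simpa [Grpd.GroupoidScheme.j, α, β] using this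
  have h : α ≫ G.s = (β ≫ G.i) ≫ G.t := by rw [Category.assoc, G.i_t, hs]
  let φ : pullback G.j G.j ⟶ G.stabilizer := pullback.lift (mul G α (β ≫ G.i) h) (α ≫ G.t) (by
    apply pullback.hom_ext
    · simp [Grpd.GroupoidScheme.j, Grpd.GroupoidScheme.diag, mul_t]
    · simp [Grpd.GroupoidScheme.j, Grpd.GroupoidScheme.diag, mul_s, G.i_s, ht])
  have w : pullback.diagonal G.j ≫ φ = G.t ≫ G.eStab := by
    apply pullback.hom_ext
    · simp only [φ, Grpd.GroupoidScheme.eStab, Category.assoc, pullback.lift_fst]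
      rw [comp_mul, mul_congr (show pullback.diagonal G.j ≫ α = 𝟙 _ by simp [α])
        (show pullback.diagonal G.j ≫ β ≫ G.i = (𝟙 G.R) ≫ G.i by simp [β])]
      exact (G.comp_i _).trans (Category.id_comp _)
    · simp [φ, Grpd.GroupoidScheme.eStab, α]
  have key : ∀ {T : Scheme.{u}} (m : T ⟶ pullback G.j G.j) (u : T ⟶ G.U), m ≫ φ = u ≫ G.eStab →
      m ≫ α = m ≫ β ∧ u = (m ≫ α) ≫ G.t := by
    intro T m u hm
    have h₁ : m ≫ mul G α (β ≫ G.i) h = u ≫ G.e := by
      have := congrArg (· ≫ pullback.fst _ _) hm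
      simpa [φ, Grpd.GroupoidScheme.eStab] using this
    have h₂ : (m ≫ α) ≫ G.t = u := by
      have := congrArg (· ≫ pullback.snd _ _) hm
      simpa [φ, Grpd.GroupoidScheme.eStab] using this
    refine ⟨?_, h₂.symm⟩
    let X : Pt G T := ⟨(m ≫ α) ≫ G.s⟩
    let Y : Pt G T := ⟨(m ≫ α) ≫ G.t⟩
    let g : X ⟶ Y := ⟨m ≫ β, by simp [X, hs], by simp [Y, ht]⟩
    have h₃ : Groupoid.inv g ≫ arr (m ≫ α) = 𝟙 Y := by
      apply Subtype.ext
      change mul G (m ≫ α) ((m ≫ β) ≫ G.i) _ = ((m ≫ α) ≫ G.t) ≫ G.e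
      exact (mul_congr rfl (Category.assoc _ _ _) _).trans
        ((comp_mul m h).symm.trans (h₁.trans (congrArg (· ≫ G.e) h₂.symm)))
    have h₄ : g = arr (m ≫ α) := by
      have := congrArg (g ≫ ·) h₃
      simpa using this.symm
    exact (congrArg Subtype.val h₄).symm
  refine ⟨φ, ⟨w⟩, ⟨PullbackCone.IsLimit.mk _ (fun c => c.fst ≫ α) (fun c => ?_) (fun c => ?_) (fun c m h₁ _ => ?_)⟩⟩
  · obtain ⟨e₁, -⟩ := key _ _ c.condition
    apply pullback.hom_ext <;> simp [α, β] at e₁ ⊢
    exact e₁
  · exact ((key _ _ c.condition).2).symm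
  · rw [← h₁]; simp [α]

/-- Let (U, R, s, t, c) be a groupoid scheme over S with stabilizer group scheme G → U and identity
section e : U → G. Then j = (t, s) : R → U ×_S U is separated iff G → U is separated iff e is a
closed immersion; and j is quasi-separated iff G → U is quasi-separated iff e is quasi-compact. (A
groupoid scheme carries U, R, s, t, c, e, i over S with the groupoid axioms on T-points; 'finite
locally free' is finite, flat and locally of finite presentation; C ⊂ Γ(U) is the ring of functions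
a with s♯(a) = t♯(a) and M = Spec C.) -/
theorem result (S : Scheme.{u}) (G : Grpd.GroupoidScheme S) : ((IsSeparated G.j ↔ IsSeparated G.stabilizerToU) ∧ (IsSeparated G.stabilizerToU ↔ IsClosedImmersion G.eStab)) ∧ ((QuasiSeparated G.j ↔ QuasiSeparated G.stabilizerToU) ∧ (QuasiSeparated G.stabilizerToU ↔ QuasiCompact G.eStab)) := by
  obtain ⟨φ, hφ⟩ := exists_isPullback_diagonal G
  refine ⟨⟨⟨fun h => ?_, fun h => ?_⟩, ⟨fun h => ?_, fun h => ?_⟩⟩, ⟨⟨fun h => ?_, fun h => ?_⟩, ⟨fun h => ?_, fun h => ?_⟩⟩⟩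
  · exact MorphismProperty.pullback_snd _ _ h
  · haveI : IsClosedImmersion (G.eStab ≫ G.stabilizerToU) := by
      rw [show G.eStab ≫ G.stabilizerToU = 𝟙 G.U from pullback.lift_snd _ _ _]; infer_instance
    exact ⟨MorphismProperty.of_isPullback hφ.flip (IsClosedImmersion.of_comp G.eStab G.stabilizerToU)⟩
  · haveI : IsClosedImmersion (G.eStab ≫ G.stabilizerToU) := by
      rw [show G.eStab ≫ G.stabilizerToU = 𝟙 G.U from pullback.lift_snd _ _ _]; infer_instance
    exact IsClosedImmersion.of_comp G.eStab G.stabilizerToU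
  · exact MorphismProperty.pullback_snd (P := @IsSeparated) _ _ ⟨MorphismProperty.of_isPullback hφ.flip h⟩
  · exact MorphismProperty.pullback_snd _ _ h
  · haveI : QuasiCompact (G.eStab ≫ G.stabilizerToU) := by
      rw [show G.eStab ≫ G.stabilizerToU = 𝟙 G.U from pullback.lift_snd _ _ _]; infer_instance
    exact ⟨MorphismProperty.of_isPullback hφ.flip (QuasiCompact.of_comp G.eStab G.stabilizerToU)⟩
  · haveI : QuasiCompact (G.eStab ≫ G.stabilizerToU) := by
      rw [show G.eStab ≫ G.stabilizerToU = 𝟙 G.U from pullback.lift_snd _ _ _]; infer_instance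
    exact QuasiCompact.of_comp G.eStab G.stabilizerToU
  · exact MorphismProperty.pullback_snd (P := @QuasiSeparated) _ _ ⟨MorphismProperty.of_isPullback hφ.flip h⟩

end Groth.Agent.S1886
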