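import Groth.Statements.S18863
import Groth.Agent.AffLim.Existence
import Groth.Agent.AffLim.Props
import Groth.Agent.AffLim.Stalks
import Groth.Agent.SchDesc.TorsorDesc
import Groth.Agent.FpqcDesc.Basic
import Groth.Agent.ASp.Fpqc
import Groth.Agent.PrincBundLib.Descent
-- import your own Groth.Agent.* helpers here

set_option autoImplicit false
set_option backward.isDefEq.respectTransparency false
set_option maxHeartbeats 800000
set_option synthInstance.maxHeartbeats 200000
universe u
open CategoryTheory CategoryTheory.Limits MonoidalCategory CartesianMonoidalCategory MonObj GrpObj AlgebraicGeometry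
open NonAbH1

namespace Groth.Agent.S18863

lemma flat_spec_field {k : Type u} [Field k] {Y : Scheme.{u}} (f : Y ⟶ Spec (CommRingCat.of k)) : Flat f := by
  haveI : Subsingleton (Spec (CommRingCat.of k)) := inferInstanceAs (Subsingleton (PrimeSpectrum k))
  infer_instance

/-- The forgetful functor sends limit cones of cofiltered systems of affine groups over a field to limit cones. -/
lemma isLimit_forget {S : Scheme.{u}} {I : Type u} [SmallCategory I] [IsCofiltered I]
    (DG : I ⥤ Grp (Over S)) [∀ i, IsAffineHom (DG.obj i).X.hom] (cG : Cone DG) (hcG : IsLimit cG) :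
    Nonempty (IsLimit ((Grp.forget (Over S)).mapCone cG)) := by
  let F := DG ⋙ Grp.forget (Over S)
  let E := WithTerminal.liftFromOver.obj F
  have haff : ∀ {a b : WithTerminal I} (f : a ⟶ b), IsAffineHom (E.map f) := by
    rintro (a | _) (b | _) f
    · haveI : IsAffineHom (F.obj b).hom := inferInstanceAs (IsAffineHom (DG.obj b).X.hom)
      haveI : IsAffineHom ((F.map f).left ≫ (F.obj b).hom) := by
        rw [Over.w]; exact inferInstanceAs (IsAffineHom (DG.obj a).X.hom)
      exact IsAffineHom.of_comp (F.map f).left (F.obj b).hom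
    · exact inferInstanceAs (IsAffineHom (DG.obj a).X.hom)
    · exact f.elim
    · exact inferInstanceAs (IsAffineHom (𝟙 S))
  haveI : HasLimit E := AffLim.hasLimit E
  haveI : HasLimit F := Over.hasLimit_of_hasLimit_liftFromOver F
  let DM := DG ⋙ Grp.forget₂Mon (Over S)
  let c0 : Cone (DM ⋙ Mon.forget (Over S)) := limit.cone F
  let hc0 : IsLimit c0 := limit.isLimit F
  let M := Mon.limit DM c0 hc0
  let p : ∀ i, M.X ⟶ (DG.obj i).X := fun i => c0.π.app i
  have hmul : ∀ i, μ[M.X] ≫ p i = (p i ⊗ₘ p i) ≫ μ[(DG.obj i).X] :=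
    fun i => hc0.fac _ i
  have hone : ∀ i, η[M.X] ≫ p i = η[(DG.obj i).X] := fun i => hc0.fac _ i
  let inv0 : M.X ⟶ M.X := hc0.lift
    { pt := M.X
      π := { app := fun i => c0.π.app i ≫ ι[(DG.obj i).X]
             naturality := fun i j f => by
               have h1 : c0.π.app i ≫ (DG.map f).hom.hom = c0.π.app j := c0.w f
               change 𝟙 _ ≫ c0.π.app j ≫ ι[(DG.obj j).X] = (c0.π.app i ≫ ι[(DG.obj i).X]) ≫ (DG.map f).hom.hom
               rw [Category.id_comp, Category.assoc, GrpObj.inv_hom (DG.map f).hom.hom, ← Category.assoc, h1] } }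
  have hinv : ∀ i, inv0 ≫ p i = p i ≫ ι[(DG.obj i).X] := fun i => hc0.fac _ i
  let grp : GrpObj M.X :=
    { toMonObj := M.mon
      inv := inv0
      left_inv := hc0.hom_ext fun i => by
        change (_ ≫ μ[M.X]) ≫ p i = (_ ≫ η[M.X]) ≫ p i
        rw [Category.assoc, Category.assoc, hone i, hmul i, ← Category.assoc, lift_map, hinv i, Category.id_comp]
        have := congrArg (p i ≫ ·) (GrpObj.left_inv (DG.obj i).X)
        change p i ≫ _ ≫ _ = p i ≫ _ ≫ _ at this
        rw [← Category.assoc, comp_lift, Category.comp_id, ← Category.assoc, comp_toUnit] at this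
        exact this
      right_inv := hc0.hom_ext fun i => by
        change (_ ≫ μ[M.X]) ≫ p i = (_ ≫ η[M.X]) ≫ p i
        rw [Category.assoc, Category.assoc, hone i, hmul i, ← Category.assoc, lift_map, hinv i, Category.id_comp]
        have := congrArg (p i ≫ ·) (GrpObj.right_inv (DG.obj i).X)
        change p i ≫ _ ≫ _ = p i ≫ _ ≫ _ at this
        rw [← Category.assoc, comp_lift, Category.comp_id, ← Category.assoc, comp_toUnit] at this
        exact this }
  let G0 : Grp (Over S) := ⟨M.X⟩
  let c1 : Cone DG :=
    { pt := G0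
      π := { app := fun i => Grp.homMk' ((Mon.limitCone DM c0 hc0).π.app i)
             naturality := fun i j f => by
               apply (Grp.forget₂Mon (Over S)).map_injective
               exact (Mon.limitCone DM c0 hc0).π.naturality f } }
  have h1 : IsLimit ((Grp.forget₂Mon (Over S)).mapCone c1) :=
    (Mon.limitConeIsLimit DM c0 hc0).ofIsoLimit (Cone.ext (Iso.refl _) fun i => (Category.id_comp _).symm)
  have hc1 : IsLimit c1 := isLimitOfReflects (Grp.forget₂Mon (Over S)) h1
  refine ⟨IsLimit.ofIsoLimit ?_ ((Cone.functoriality _ (Grp.forget (Over S))).mapIso (hc1.uniqueUpToIso hcG))⟩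
  exact hc0.ofIsoLimit (Cone.ext (Iso.refl _) fun i => (Category.id_comp _).symm)

/-- Let k be a field and X a quasi-compact k-scheme. Let (G_i)_{i ∈ I} be a cofiltered inverse system of
affine group schemes of finite type over k with limit G in the category of k-group schemes (a limit
cone of homomorphisms G → G_i), and (T_i)_{i ∈ I} an inverse system of X-schemes such that each T_i
is a torsor over X for the fpqc topology under the base change of G_i to X and each transition map
T_j → T_i is equivariant along G_j → G_i. Let T be a limit of the T_i over X, with an action of the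
base change of G to X for which every projection T → T_i is equivariant along G → G_i. Then T is a
torsor over X under the base change of G for the fpqc topology. (The source indexes the system by a
directed partially ordered set and also records that T is pointed over a rational point of X when
all the T_i are; the limit scheme, the limit group and the limit action, which exist and are unique,
are taken here as data.) -/
theorem result (k : Type u) [Field k]
    (X : Scheme.{u}) [X.Over (Spec (CommRingCat.of k))] [CompactSpace X]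
    {I : Type u} [SmallCategory I] [IsCofiltered I]
    (DG : I ⥤ Grp (Over (Spec (CommRingCat.of k))))
    [∀ i, IsAffineHom (DG.obj i).X.hom] [∀ i, LocallyOfFiniteType (DG.obj i).X.hom]
    (cG : Cone DG) (hcG : IsLimit cG)
    (DT : I ⥤ Over X)
    (aT : ∀ i, AlgGrp.Action (Red.bc (X ↘ Spec (CommRingCat.of k)) (DG.obj i).X) (DT.obj i))
    (hT : ∀ i, NonAbH1.IsTorsorFor Scheme.fpqcPrecoverage (aT i))
    (hDT : ∀ (i j : I) (φ : i ⟶ j), AlgGrp.Action.IsEquivariant (aT i)
      ((aT j).restrict ((Over.pullback (X ↘ Spec (CommRingCat.of k))).map (DG.map φ).hom.hom)) (DT.map φ))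
    (cT : Cone DT) (hcT : IsLimit cT)
    (a : AlgGrp.Action (Red.bc (X ↘ Spec (CommRingCat.of k)) cG.pt.X) cT.pt)
    (ha : ∀ i, AlgGrp.Action.IsEquivariant a
      ((aT i).restrict ((Over.pullback (X ↘ Spec (CommRingCat.of k))).map (cG.π.app i).hom.hom)) (cT.π.app i)) :
    NonAbH1.IsTorsorFor Scheme.fpqcPrecoverage a := by
  classical
  let s := X ↘ Spec (CommRingCat.of k)
  obtain ⟨hF⟩ := isLimit_forget DG cG hcG
  haveI : PreservesLimit (DG ⋙ Grp.forget _) (Over.pullback s) := (Over.mapPullbackAdj s).rightAdjoint_preservesLimits.preservesLimitsOfShape.preservesLimit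
  let hG := isLimitOfPreserves (Over.pullback s) hF
  have hps : NonAbH1.IsPseudoTorsorSch a := by
    refine (PrincBundLib.isIso_lift_snd_iff a.act).mpr fun T x w => ?_
    have hi : ∀ i, ∃! g : T ⟶ Red.bc s (DG.obj i).X, lift g (w ≫ cT.π.app i) ≫ (aT i).act = x ≫ cT.π.app i :=
      fun i => (PrincBundLib.isIso_lift_snd_iff (aT i).act).mp (hT i).1 T _ _
    choose g hg hu using hi
    have hcompat : ∀ i j (φ : i ⟶ j), g i ≫ (Over.pullback s).map (DG.map φ).hom.hom = g j := fun i j φ => by
      refine hu j _ ?_
      have e := congrArg (lift (g i) (w ≫ cT.π.app i) ≫ ·) (hDT i j φ)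
      change _ ≫ _ ≫ _ = _ ≫ _ ≫ (_ ≫ _) at e
      rw [← Category.assoc, hg i, Category.assoc, cT.w φ, lift_whiskerLeft_assoc, lift_whiskerRight_assoc, Category.assoc, cT.w φ] at e
      exact e.symm
    let cg : Cone ((DG ⋙ Grp.forget _) ⋙ Over.pullback s) :=
      { pt := T
        π := { app := g, naturality := fun i j φ => by
                 change 𝟙 _ ≫ g j = g i ≫ (Over.pullback s).map (DG.map φ).hom.hom
                 rw [Category.id_comp, hcompat] } }
    have key : ∀ (gg : T ⟶ Red.bc s cG.pt.X) (i : I), lift gg w ≫ a.act ≫ cT.π.app i =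
        lift (gg ≫ (Over.pullback s).map (cG.π.app i).hom.hom) (w ≫ cT.π.app i) ≫ (aT i).act := fun gg i => by
      have e := congrArg (lift gg w ≫ ·) (ha i)
      change _ ≫ _ ≫ _ = _ ≫ _ ≫ (_ ≫ _) at e
      rw [lift_whiskerLeft_assoc, lift_whiskerRight_assoc] at e
      exact e
    refine ⟨hG.lift cg, ?_, fun gg hgg => ?_⟩
    · refine hcT.hom_ext fun i => ?_
      rw [Category.assoc, key, show hG.lift cg ≫ (Over.pullback s).map (cG.π.app i).hom.hom = g i from hG.fac cg i, hg]
    · refine hG.hom_ext fun i => ?_
      refine Eq.trans ?_ (hG.fac cg i).symm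
      refine hu i _ ?_
      have := key gg i
      rw [← Category.assoc, hgg] at this
      exact this.symm
  refine ⟨hps, ?_⟩
  have hTi : ∀ i, IsAffineHom (DT.obj i).hom ∧ Flat (DT.obj i).hom ∧ Surjective (DT.obj i).hom := by
    intro i
    obtain ⟨T, σ, hTf, hX⟩ := TorsorDesc.exists_trivializing (aT i) (hT i)
    haveI : SchDesc.IsFpqc T.hom := hTf
    haveI : IsZariskiLocalAtTarget (@Flat : MorphismProperty Scheme.{u}) :=
      HasRingHomProperty.instIsZariskiLocalAtTarget _
    have hGa : IsAffineHom (Red.bc s (DG.obj i).X).hom := MorphismProperty.pullback_snd (P := @IsAffineHom) _ s inferInstance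
    have hGf : Flat (Red.bc s (DG.obj i).X).hom := MorphismProperty.pullback_snd (P := @Flat) _ s (flat_spec_field _)
    refine ⟨TorsorDesc.prop_of_isFpqc (@IsAffineHom : MorphismProperty Scheme.{u}) FpqcDesc.isAffineHom_descends _ T.hom (hX _ hGa),
      TorsorDesc.prop_of_isFpqc (@Flat : MorphismProperty Scheme.{u}) inferInstance _ T.hom (hX _ hGf), ⟨fun x => ?_⟩⟩
    obtain ⟨t, rfl⟩ := T.hom.surjective x
    exact ⟨σ.left t, by rw [← Scheme.Hom.comp_apply, Over.w σ]⟩
  let E := WithTerminal.liftFromOver.obj DT
  let e := WithTerminal.coneEquiv.functor.obj cT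
  let he : IsLimit e := WithTerminal.isLimitEquiv.symm hcT
  have haff : ∀ {a b : WithTerminal I} (f : a ⟶ b), IsAffineHom (E.map f) := by
    rintro (a | _) (b | _) f
    · haveI := (hTi b).1
      haveI : IsAffineHom ((DT.map f).left ≫ (DT.obj b).hom) := by rw [Over.w]; exact (hTi a).1
      exact IsAffineHom.of_comp (DT.map f).left (DT.obj b).hom
    · exact (hTi a).1
    · exact f.elim
    · exact inferInstanceAs (IsAffineHom (𝟙 X))
  have hfl : ∀ (j : WithTerminal I) (φ : j ⟶ WithTerminal.star), Flat (E.map φ) := by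
    rintro (a | _) φ
    · exact (hTi a).2.1
    · exact inferInstanceAs (Flat (𝟙 X))
  have hsur : ∀ (j : WithTerminal I) (φ : j ⟶ WithTerminal.star), Surjective (E.map φ) := by
    rintro (a | _) φ
    · exact (hTi a).2.2
    · exact inferInstanceAs (Surjective (𝟙 X))
  have h1 : IsAffineHom cT.pt.hom := isAffineHom_π_app E e he WithTerminal.star
  have h2 : Flat cT.pt.hom := AffLim.flat_π E e he hfl
  have h3 : Surjective cT.pt.hom := (AffLim.surjective_π_iff E e he WithTerminal.star).mpr hsur
  refine ⟨(PreZeroHypercover.singleton.{0} cT.pt.hom).presieve₀,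
    (HTopV.mem_fpqc_iff _).mpr ⟨QuasiCompactCover.singleton cT.pt.hom, fun _ => h2⟩, fun S' f hf => ?_⟩
  obtain ⟨_⟩ := hf
  exact ⟨𝟙 _, Category.id_comp _⟩

end Groth.Agent.S18863
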