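import Groth.Statements.S18864
import Mathlib
-- import your own Groth.Agent.* helpers here

set_option autoImplicit false
universe u v w
open HopfRep

namespace Groth.Agent.S18864

/-- Let k be a field and G = lim G_i a pro-algebraic group scheme over k, so that G = Spec A with A the
direct limit of the Hopf algebras A_i of the affine group schemes G_i of finite type; assume
moreover that the maps A_i → A are injective, so that A is the directed union of the A_i, here given
as injective bialgebra maps A_i → A with directed, jointly covering images. Then every homomorphism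
from G to an affine group scheme H = Spec B of finite type over k factors through some projection G
→ G_i: every bialgebra map f : B → A with B finitely generated as a k-algebra is the composite of
A_i → A with a bialgebra map B → A_i for some i. (The published statement allows arbitrary
transition maps in the system; this row assumes each A_i → A injective, the case the printed
argument treats. The source also states the pro-finite variant with H finite, which is the case of
finite-dimensional A_i and B; finite generation of the A_i is not used.) -/
theorem result (k : Type u) [Field k]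
    (A : Type v) [CommRing A] [HopfAlgebra k A] {ι : Type v} (Aι : ι → Type v)
    [∀ i, CommRing (Aι i)] [∀ i, HopfAlgebra k (Aι i)] (emb : ∀ i, Aι i →ₐc[k] A)
    (hinj : ∀ i, Function.Injective (emb i))
    (hdir : ∀ i j, ∃ l, Set.range (emb i) ⊆ Set.range (emb l) ∧ Set.range (emb j) ⊆ Set.range (emb l))
    (hcov : ∀ a : A, ∃ i, a ∈ Set.range (emb i))
    (B : Type w) [CommRing B] [HopfAlgebra k B] [Algebra.FiniteType k B] (f : B →ₐc[k] A) :
    ∃ (i : ι) (g : B →ₐc[k] Aι i), (emb i).comp g = f := by
  classical
  obtain ⟨s, hs⟩ := (inferInstance : Algebra.FiniteType k B).out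
  haveI : Nonempty ι := ⟨(hcov 0).choose⟩
  have hdir' : Directed (· ⊆ ·) fun i => Set.range (emb i) := fun i j => hdir i j
  choose p hp using fun b : B => hcov (f b)
  obtain ⟨l, hl⟩ := hdir'.finset_le (s.image p)
  have hle : ∀ b, f b ∈ (emb l : Aι l →ₐ[k] A).range := by
    have hsub : Algebra.adjoin k (s : Set B) ≤ ((emb l : Aι l →ₐ[k] A).range).comap (f : B →ₐ[k] A) :=
      Algebra.adjoin_le fun b hb => hl (p b) (Finset.mem_image_of_mem p hb) (hp b)
    intro b
    exact hsub (hs.symm ▸ Algebra.mem_top)
  let e := AlgEquiv.ofInjective (emb l : Aι l →ₐ[k] A) (hinj l)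
  let g : B →ₐ[k] Aι l := e.symm.toAlgHom.comp ((f : B →ₐ[k] A).codRestrict _ hle)
  have hg : ∀ b, emb l (g b) = f b := by
    intro b
    have h := congrArg Subtype.val (e.apply_symm_apply ((f : B →ₐ[k] A).codRestrict _ hle b))
    exact h
  have hinj2 : Function.Injective (TensorProduct.map ((emb l : Aι l →ₐ[k] A).toLinearMap)
      ((emb l : Aι l →ₐ[k] A).toLinearMap)) := _root_.TensorProduct.map_injective_of_flat_flat _ _ (hinj l) (hinj l)
  refine ⟨l, BialgHom.ofAlgHom g ?_ ?_, DFunLike.ext _ _ hg⟩
  · refine AlgHom.ext fun b => ?_
    show Coalgebra.counit (R := k) (g b) = Coalgebra.counit (R := k) b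
    rw [← CoalgHomClass.counit_comp_apply (emb l) (g b), hg, CoalgHomClass.counit_comp_apply f b]
  · refine AlgHom.ext fun b => hinj2 ?_
    show TensorProduct.map _ _ (Algebra.TensorProduct.map g g (Coalgebra.comul (R := k) b)) =
      TensorProduct.map _ _ (Coalgebra.comul (R := k) (g b))
    have h1 := CoalgHomClass.map_comp_comul_apply (emb l) (g b)
    have h2 := CoalgHomClass.map_comp_comul_apply f b
    refine Eq.trans ?_ h1.symm
    rw [hg, ← h2]
    generalize Coalgebra.comul (R := k) b = z
    induction z with
    | zero => simp
    | add x y hx hy => simp only [map_add, hx, hy]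
    | tmul x y => simp [hg]

end Groth.Agent.S18864
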