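import Groth.Statements.S18865
import Groth.Agent.LiaisonLib.Colon

set_option autoImplicit false
universe u
open Liaison

namespace Groth.Agent.S18865

set_option backward.isDefEq.respectTransparency false

/-- Let K be a field, R = K[x_0, …, x_n] graded by degree, c ≥ 2 an integer, 𝔠 ⊂ R a homogeneous ideal
of height c such that R/𝔠 is a Gorenstein ring, and I ⊂ R a homogeneous ideal with I ⊄ 𝔠. Then the
ideal quotient 𝔠 : I is unmixed of codimension c: it has height c and every associated prime of R/(𝔠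
: I) has height c. (A Gorenstein ideal of the notes, one whose quotient is Cohen–Macaulay with last
graded Betti number 1, is rendered as: the quotient ring is Gorenstein.) -/
theorem result (K : Type u) [Field K] (n c : ℕ) (hc : 2 ≤ c)
    (𝔠 I : Ideal (MvPolynomial (Fin (n + 1)) K))
    (h𝔠 : 𝔠.IsHomogeneous (GrSyz.stdGr K (Fin (n + 1)))) (hI : I.IsHomogeneous (GrSyz.stdGr K (Fin (n + 1))))
    [LocCoh.IsGorensteinRing (MvPolynomial (Fin (n + 1)) K ⧸ 𝔠)] (h𝔠c : 𝔠.height = c) (hI𝔠 : ¬ I ≤ 𝔠) :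
    (𝔠.colon (I : Set (MvPolynomial (Fin (n + 1)) K))).height = c ∧
      ∀ p ∈ associatedPrimes (MvPolynomial (Fin (n + 1)) K) (MvPolynomial (Fin (n + 1)) K ⧸ 𝔠.colon (I : Set (MvPolynomial (Fin (n + 1)) K))), p.height = c := by
  haveI : LocCoh.IsCohenMacaulayRing (MvPolynomial (Fin (n + 1)) K ⧸ 𝔠) := LiaisonLib.cm_of_gorenstein
  have hass : ∀ p ∈ associatedPrimes (MvPolynomial (Fin (n + 1)) K) (MvPolynomial (Fin (n + 1)) K ⧸
      𝔠.colon (I : Set (MvPolynomial (Fin (n + 1)) K))), p.height = c := fun p hp => by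
    rw [LiaisonLib.height_associated h𝔠 (LiaisonLib.ass_colon_subset 𝔠 I hp), h𝔠c]
  refine ⟨le_antisymm ?_ (LiaisonLib.height_ge_of_ass fun P hP => (hass P hP).ge), hass⟩
  have hne : 𝔠.colon (I : Set (MvPolynomial (Fin (n + 1)) K)) ≠ ⊤ := fun h => hI𝔠 fun i hi => by
    have h1 := LiaisonLib.mem_colon_ideal.1 ((Ideal.eq_top_iff_one _).1 h) i hi
    rwa [one_mul] at h1
  obtain ⟨P, hP⟩ := Ideal.nonempty_minimalPrimes hne
  exact (Ideal.height_mono hP.1.2).trans (hass P (LiaisonLib.ass_of_minimal hP)).le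

end Groth.Agent.S18865
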