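import Groth.Statements.S18866
import Groth.Agent.LiaisonLib.Colon

set_option autoImplicit false
universe u
open Liaison

namespace Groth.Agent.S18866

set_option backward.isDefEq.respectTransparency false

/-- Let K be a field, R = K[x_0, …, x_n] graded by degree, c ≥ 2, 𝔠 ⊂ R a homogeneous ideal of height c
such that R/𝔠 is a Gorenstein ring, and I, J ⊂ R homogeneous ideals that are directly linked by 𝔠,
that is 𝔠 : I = J and 𝔠 : J = I. If R/I and R/J have no associated prime in common, then I ∩ J = 𝔠,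
so I and J are geometrically linked by 𝔠. -/
theorem result (K : Type u) [Field K] (n c : ℕ) (hc : 2 ≤ c)
    (𝔠 I J : Ideal (MvPolynomial (Fin (n + 1)) K))
    (h𝔠 : 𝔠.IsHomogeneous (GrSyz.stdGr K (Fin (n + 1)))) (hI : I.IsHomogeneous (GrSyz.stdGr K (Fin (n + 1)))) (hJ : J.IsHomogeneous (GrSyz.stdGr K (Fin (n + 1))))
    [LocCoh.IsGorensteinRing (MvPolynomial (Fin (n + 1)) K ⧸ 𝔠)] (h𝔠c : 𝔠.height = c)
    (hIJ : 𝔠.colon (I : Set (MvPolynomial (Fin (n + 1)) K)) = J) (hJI : 𝔠.colon (J : Set (MvPolynomial (Fin (n + 1)) K)) = I)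
    (hdisj : Disjoint (associatedPrimes (MvPolynomial (Fin (n + 1)) K) (MvPolynomial (Fin (n + 1)) K ⧸ I)) (associatedPrimes (MvPolynomial (Fin (n + 1)) K) (MvPolynomial (Fin (n + 1)) K ⧸ J))) :
    I ⊓ J = 𝔠 := by
  haveI : LocCoh.IsCohenMacaulayRing (MvPolynomial (Fin (n + 1)) K ⧸ 𝔠) := LiaisonLib.cm_of_gorenstein
  have hcI : 𝔠 ≤ I := hJI ▸ LiaisonLib.le_colon 𝔠 J
  have hcJ : 𝔠 ≤ J := hIJ ▸ LiaisonLib.le_colon 𝔠 I
  refine le_antisymm (fun x hx => ?_) (le_inf hcI hcJ)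
  by_contra hxc
  obtain ⟨P, hP, hxP⟩ := LiaisonLib.exists_ass_of_not_mem hxc
  haveI := (isAssociatedPrime_iff.1 hP).1
  have hIP : I ≤ P := fun i hi => hxP i (by
    have h1 := hx.2
    rw [← hIJ] at h1
    rw [mul_comm]; exact LiaisonLib.mem_colon_ideal.1 h1 i hi)
  have hJP : J ≤ P := fun j hj => hxP j (by
    have h1 := hx.1
    rw [← hJI] at h1
    rw [mul_comm]; exact LiaisonLib.mem_colon_ideal.1 h1 j hj)
  have hht : P.height = 𝔠.height := LiaisonLib.height_associated h𝔠 hP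
  have h1 := LiaisonLib.ass_of_minimal (LiaisonLib.minimal_of_height_le hIP (hht.le.trans (Ideal.height_mono hcI)))
  have h2 := LiaisonLib.ass_of_minimal (LiaisonLib.minimal_of_height_le hJP (hht.le.trans (Ideal.height_mono hcJ)))
  exact Set.disjoint_left.1 hdisj h1 h2

end Groth.Agent.S18866
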