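import Groth.Statements.S18868
import Groth.Agent.LiaisonLib.AlmostCI

set_option autoImplicit false
universe u
open Liaison

namespace Groth.Agent.S18868

set_option backward.isDefEq.respectTransparency false

/-- Let K be a field, R = K[x_0, …, x_n] graded by degree, c ≥ 2, 𝔠 ⊂ R a homogeneous complete
intersection of codimension c, that is a homogeneous ideal of height c generated by c elements g_1,
…, g_c, and I ⊂ R a homogeneous ideal of height c with R/I Cohen–Macaulay which properly contains 𝔠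
and has the form I = 𝔠 + fR for some f (so I is an almost complete intersection). Then the linked
ideal J = 𝔠 : I has height c and R/J is a Gorenstein ring. (A Gorenstein ideal of the notes, one
whose quotient is Cohen–Macaulay with last graded Betti number 1, is rendered as: the quotient ring
is Gorenstein.) -/
theorem result (K : Type u) [Field K] (n c : ℕ) (hc : 2 ≤ c)
    (g : Fin c → MvPolynomial (Fin (n + 1)) K) (f : MvPolynomial (Fin (n + 1)) K) (𝔠 I : Ideal (MvPolynomial (Fin (n + 1)) K)) (h𝔠g : Ideal.span (Set.range g) = 𝔠)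
    (h𝔠 : 𝔠.IsHomogeneous (GrSyz.stdGr K (Fin (n + 1)))) (hI : I.IsHomogeneous (GrSyz.stdGr K (Fin (n + 1))))
    (h𝔠c : 𝔠.height = c) (hIc : I.height = c) [LocCoh.IsCohenMacaulayRing (MvPolynomial (Fin (n + 1)) K ⧸ I)]
    (hlt : 𝔠 < I) (hIf : I = 𝔠 ⊔ Ideal.span {f}) :
    (𝔠.colon (I : Set (MvPolynomial (Fin (n + 1)) K))).height = c ∧
      LocCoh.IsGorensteinRing (MvPolynomial (Fin (n + 1)) K ⧸ 𝔠.colon (I : Set (MvPolynomial (Fin (n + 1)) K))) := by
  haveI : IsRegularRing (MvPolynomial (Fin (n + 1)) K) := inferInstance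
  haveI : LocCoh.IsGorensteinRing (MvPolynomial (Fin (n + 1)) K ⧸ 𝔠) := LiaisonLib.gorensteinRing_of_ci g 𝔠 h𝔠g h𝔠c
  haveI : LocCoh.IsCohenMacaulayRing (MvPolynomial (Fin (n + 1)) K ⧸ 𝔠) := LiaisonLib.cm_of_gorenstein
  have hne : 𝔠.colon (I : Set (MvPolynomial (Fin (n + 1)) K)) ≠ ⊤ := fun h => hlt.not_ge fun i hi => by
    have h1 := LiaisonLib.mem_colon_ideal.1 ((Ideal.eq_top_iff_one _).1 h) i hi
    rwa [one_mul] at h1
  refine ⟨le_antisymm ?_ (LiaisonLib.height_ge_of_ass fun P hP => ?_), ?_⟩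
  · obtain ⟨P, hP⟩ := Ideal.nonempty_minimalPrimes hne
    exact (Ideal.height_mono hP.1.2).trans (((LiaisonLib.height_associated h𝔠
      (LiaisonLib.ass_colon_subset 𝔠 I (LiaisonLib.ass_of_minimal hP))).trans h𝔠c).le)
  · exact ((LiaisonLib.height_associated h𝔠 (LiaisonLib.ass_colon_subset 𝔠 I hP)).trans h𝔠c).ge
  · have hsub : ∀ x : ℕ∞, x + (c : ℕ∞) = ((n + 1 : ℕ) : ℕ∞) → x = ((n + 1 - c : ℕ) : ℕ∞) := fun x hx => by
      cases x with
      | top => exact absurd hx (by rw [top_add]; exact (ENat.coe_ne_top _).symm)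
      | coe x =>
        norm_cast at hx
        exact congrArg _ (by omega)
    exact LiaisonLib.gorenstein_colon (k := K) _ f hIf
      (fun M hM => (haveI := hM; hsub _ (by rw [← h𝔠c]; exact LiaisonLib.height_maximal h𝔠 M)))
      (fun M hM => (haveI := hM; hsub _ (by rw [← hIc]; exact LiaisonLib.height_maximal hI M)))

end Groth.Agent.S18868
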