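import Groth.Statements.S18869
import Groth.Agent.LiaisonLib.GeomLink

set_option autoImplicit false
universe u
open Liaison

namespace Groth.Agent.S18869

set_option backward.isDefEq.respectTransparency false

/-- Let K be a field, R = K[x_0, …, x_n] graded by degree, and I₁, I₂ ⊂ R homogeneous ideals of the same
height c such that R/I₁ and R/I₂ are Cohen–Macaulay rings (they define arithmetically Cohen–Macaulay
subschemes of codimension c) and I₁, I₂ have no minimal prime in common (no common component). If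
R/(I₁ ∩ I₂) is a Gorenstein ring (the union is arithmetically Gorenstein), then I₁ + I₂ has height c
+ 1 and R/(I₁ + I₂) is a Gorenstein ring (the intersection is arithmetically Gorenstein of
codimension c + 1). (Arithmetically Gorenstein, in the notes arithmetically Cohen–Macaulay with last
graded Betti number 1, is rendered as: the quotient ring is Gorenstein.) -/
theorem result (K : Type u) [Field K] (n c : ℕ)
    (I₁ I₂ : Ideal (MvPolynomial (Fin (n + 1)) K))
    (hI₁ : I₁.IsHomogeneous (GrSyz.stdGr K (Fin (n + 1)))) (hI₂ : I₂.IsHomogeneous (GrSyz.stdGr K (Fin (n + 1))))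
    [LocCoh.IsCohenMacaulayRing (MvPolynomial (Fin (n + 1)) K ⧸ I₁)] [LocCoh.IsCohenMacaulayRing (MvPolynomial (Fin (n + 1)) K ⧸ I₂)]
    (h₁ : I₁.height = c) (h₂ : I₂.height = c) (hdisj : Disjoint I₁.minimalPrimes I₂.minimalPrimes)
    [LocCoh.IsGorensteinRing (MvPolynomial (Fin (n + 1)) K ⧸ (I₁ ⊓ I₂))] :
    (I₁ ⊔ I₂).height = c + 1 ∧ LocCoh.IsGorensteinRing (MvPolynomial (Fin (n + 1)) K ⧸ (I₁ ⊔ I₂)) := by
  classical
  let R := MvPolynomial (Fin (n + 1)) K
  have hne₁ : I₁ ≠ ⊤ := fun ht => ENat.coe_ne_top c (by rw [← h₁, ht, Ideal.height_top])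
  have hne₂ : I₂ ≠ ⊤ := fun ht => ENat.coe_ne_top c (by rw [← h₂, ht, Ideal.height_top])
  let S : Finset (Ideal R) :=
    (associatedPrimes.finite R (R ⧸ I₁)).toFinset ∪ (associatedPrimes.finite R (R ⧸ I₂)).toFinset
  have hS : ∀ P ∈ S, P.IsPrime ∧ ¬ I₁ ⊔ I₂ ≤ P := by
    intro P hP
    rw [Finset.mem_union, Set.Finite.mem_toFinset, Set.Finite.mem_toFinset] at hP
    have hht : P.height = c := hP.elim (fun h => (LiaisonLib.height_associated hI₁ h).trans h₁)
      fun h => (LiaisonLib.height_associated hI₂ h).trans h₂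
    haveI hPp : P.IsPrime := hP.elim (fun h => (isAssociatedPrime_iff.1 h).1) fun h => (isAssociatedPrime_iff.1 h).1
    refine ⟨hPp, fun hle => Set.disjoint_left.1 hdisj
      (LiaisonLib.minimal_of_height_le (le_sup_left.trans hle) (hht.trans h₁.symm).le)
      (LiaisonLib.minimal_of_height_le (le_sup_right.trans hle) (hht.trans h₂.symm).le)⟩
  obtain ⟨δ, hδ, hδS⟩ : ∃ δ ∈ I₁ ⊔ I₂, ∀ P ∈ S, δ ∉ P := by
    by_contra hno
    push Not at hno
    obtain ⟨P, hP, hle⟩ := (Ideal.subset_union_prime (f := id) ⊥ ⊥ (fun P hP _ _ => (hS P hP).1)).1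
      (show ((I₁ ⊔ I₂ : Ideal R) : Set R) ⊆ ⋃ P ∈ (↑S : Set (Ideal R)), (P : Set R) from fun x hx => by
        obtain ⟨P, hP, hxP⟩ := hno x hx
        exact Set.mem_biUnion hP hxP)
    exact (hS P hP).2 hle
  have hreg : ∀ I : Ideal R, (∀ P ∈ associatedPrimes R (R ⧸ I), P ∈ S) → ∀ x, δ * x ∈ I → x ∈ I := by
    intro I hI x hx
    by_contra hxI
    obtain ⟨P, hP, hxP⟩ := LiaisonLib.exists_ass_of_not_mem hxI
    exact hδS P (hI P hP) (hxP δ hx)
  have hr₁ := hreg I₁ fun P hP => Finset.mem_union_left _ ((Set.Finite.mem_toFinset _).2 hP)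
  have hr₂ := hreg I₂ fun P hP => Finset.mem_union_right _ ((Set.Finite.mem_toFinset _).2 hP)
  have hJ : (I₁ ⊓ I₂).IsHomogeneous (GrSyz.stdGr K (Fin (n + 1))) := hI₁.inf hI₂
  haveI : LocCoh.IsCohenMacaulayRing (R ⧸ (I₁ ⊓ I₂)) := LiaisonLib.cm_of_gorenstein
  have hJc : (I₁ ⊓ I₂).height = c := by
    refine le_antisymm (h₁ ▸ Ideal.height_mono inf_le_left) (LiaisonLib.height_ge_of_ass fun P hP => ?_)
    haveI := (isAssociatedPrime_iff.1 hP).1
    rcases (Ideal.IsPrime.inf_le (inferInstance : P.IsPrime)).1 (LiaisonLib.le_of_mem_ass hP) with h | h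
    · exact h₁ ▸ Ideal.height_mono h
    · exact h₂ ▸ Ideal.height_mono h
  have hsub : ∀ x : ℕ∞, x + (c : ℕ∞) = ((n + 1 : ℕ) : ℕ∞) → x = ((n + 1 - c : ℕ) : ℕ∞) := fun x hx => by
    cases x with
    | top => exact absurd hx (by rw [top_add]; exact (ENat.coe_ne_top _).symm)
    | coe x =>
      norm_cast at hx
      exact congrArg _ (by omega)
  refine ⟨?_, LiaisonLib.gorenstein_sup_of_inf (k := K) _ I₁ I₂
    (fun M hM => (haveI := hM; hsub _ (by rw [← hJc]; exact LiaisonLib.height_maximal hJ M)))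
    (fun M hM => (haveI := hM; hsub _ (by rw [← h₁]; exact LiaisonLib.height_maximal hI₁ M)))
    (fun M hM => (haveI := hM; hsub _ (by rw [← h₂]; exact LiaisonLib.height_maximal hI₂ M))) δ hδ hr₁ hr₂⟩
  have hcolon : (I₁ ⊓ I₂).colon {δ} = I₁ ⊓ I₂ := le_antisymm (fun x hx => by
      rw [Submodule.mem_colon_singleton, smul_eq_mul, mul_comm] at hx
      exact ⟨hr₁ x hx.1, hr₂ x hx.2⟩) fun x hx => by
      rw [Submodule.mem_colon_singleton, smul_eq_mul]
      exact Ideal.mul_mem_right _ _ hx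
  have hass : ∀ P ∈ associatedPrimes R (R ⧸ (I₁ ⊔ I₂)), P.height = c + 1 := fun P hP => by
    rw [LiaisonLib.height_add_one_of_ass hJ hcolon (LiaisonLib.ass_sup_subset rfl δ hδ hr₁ hr₂ hP), hJc]
  refine le_antisymm ?_ (LiaisonLib.height_ge_of_ass fun P hP => (hass P hP).ge)
  have hne : I₁ ⊔ I₂ ≠ ⊤ := fun ht => (RingHom.ker_ne_top (MvPolynomial.constantCoeff : R →+* K)) (top_le_iff.1
    (ht ▸ sup_le (CMGraded.le_ker_constantCoeff (LiaisonLib.isHomog_of hI₁) hne₁)
      (CMGraded.le_ker_constantCoeff (LiaisonLib.isHomog_of hI₂) hne₂)))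
  obtain ⟨P, hP⟩ := Ideal.nonempty_minimalPrimes hne
  exact (Ideal.height_mono hP.1.2).trans (hass P (LiaisonLib.ass_of_minimal hP)).le

end Groth.Agent.S18869
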