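import Groth.Statements.S18872
import Groth.Agent.LiaisonLib.Double
import Groth.Agent.LiaisonLib.Duality
import Groth.Agent.GorLib.ChangeRings
import Groth.Agent.LocCohLib.Depth
import Groth.Agent.S5152

set_option autoImplicit false
universe u
open Liaison

namespace Groth.Agent.S18872

set_option backward.isDefEq.respectTransparency false

open CategoryTheory LocCohLib RingTheory.Sequence

theorem exists_seq {A : Type u} [CommRing A] [LocCoh.IsCohenMacaulayRing A] (m : Ideal A) [m.IsMaximal] (d : ℕ)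
    (hd : (d : ℕ∞) ≤ m.height) : ∃ rs : List A, rs.length = d ∧ (∀ r ∈ rs, r ∈ m) ∧ IsWeaklyRegular A rs := by
  refine (Depth.le_idealDepth_iff (M := A) (I := m) ?_ d).1 ?_
  · rw [smul_eq_mul, Ideal.mul_top]
    exact (Ideal.IsMaximal.ne_top inferInstance)
  · rw [Groth.Agent.S5152.result A m A]
    refine le_iInf₂ fun p hp => ?_
    haveI hcm : LocCoh.IsCohenMacaulayLocalRing (Localization.AtPrime p.asIdeal) :=
      LocCoh.IsCohenMacaulayRing.isCohenMacaulayLocalRing_localization p.asIdeal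
    rw [Depth.depth_congr (Depth.localizedSelfEquiv p.asIdeal)]
    have h1 := hcm.supportDim_eq_depth
    rw [Module.supportDim_self_eq_ringKrullDim, IsLocalization.AtPrime.ringKrullDim_eq_height p.asIdeal,
      WithBot.coe_inj] at h1
    rw [← h1]
    exact hd.trans (Ideal.height_mono hp)

theorem subsingleton_H {R : Type u} [CommRing R] [IsNoetherianRing R] (I J m : Ideal R)
    [LocCoh.IsCohenMacaulayRing (R ⧸ J)] [m.IsMaximal] (hJm : J ≤ m) (hmI : m ≤ I) (d : ℕ)
    (hd : (d : ℕ∞) ≤ (m.map (Ideal.Quotient.mk J)).height) (i : ℕ) (hi : i < d) :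
    Subsingleton ((localCohomology I i).obj (ModuleCat.of R (R ⧸ J)) : Type u) := by
  haveI : (m.map (Ideal.Quotient.mk J)).IsMaximal :=
    Ideal.IsMaximal.map_of_surjective_of_ker_le Ideal.Quotient.mk_surjective (by rw [Ideal.mk_ker]; exact hJm)
  obtain ⟨rs, hl, hm, hw⟩ := exists_seq (m.map (Ideal.Quotient.mk J)) d hd
  obtain ⟨l, rfl⟩ : ∃ l : List R, l.map (algebraMap R (R ⧸ J)) = rs := by
    choose f hf using Ideal.Quotient.mk_surjective (I := J)
    exact ⟨rs.map f, by rw [List.map_map]; exact List.map_id'' hf rs⟩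
  refine subsingleton_of_isWeaklyRegular I (ModuleCat.of R (R ⧸ J)) l
    ((isWeaklyRegular_map_algebraMap_iff (R ⧸ J) (R ⧸ J) l).mp hw) (fun r hr => hmI ?_) i (by simpa [← hl] using hi)
  have h1 := hm _ (List.mem_map_of_mem hr)
  rw [Ideal.Quotient.algebraMap_eq, ← Ideal.mem_comap, Ideal.comap_map_mk hJm] at h1
  exact h1

theorem nonempty_equiv {R : Type u} [CommRing R] (a : Ideal R) {X Y Z : Type u} [AddCommGroup X]
    [Module R X] [AddCommGroup Y] [Module R Y] [AddCommGroup Z] [Module R Z] (j : X →ₗ[R] Y) (q : Y →ₗ[R] Z)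
    (hj : Function.Injective j) (hq : Function.Surjective q) (h : Function.Exact j q) (i : ℕ)
    (h1 : ∀ k, k < i → Subsingleton ((localCohomology a k).obj (ModuleCat.of R Z) : Type u))
    (h2 : Subsingleton ((localCohomology a i).obj (ModuleCat.of R Z) : Type u)) :
    Nonempty (LocCoh.H a i X ≃ₗ[R] LocCoh.H a i Y) := by
  have hS := GorLib.shortExact_mkQ j q hj hq h
  refine ⟨LinearEquiv.ofBijective ((localCohomology a i).map (ModuleCat.ofHom j)).hom ⟨?_, fun z => ?_⟩⟩
  · rw [injective_iff_map_eq_zero]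
    intro z hz
    cases i with
    | zero =>
      refine h0_injective ?_
      rw [map_zero]
      refine hj ?_
      have h3 := h0_map (ModuleCat.ofHom j) z (I := a)
      rw [hz, map_zero] at h3
      rw [map_zero]
      exact h3.symm
    | succ i =>
      obtain ⟨w, rfl⟩ := exists_of_map_f_eq_zero a hS i z hz
      haveI := h1 i i.lt_succ_self
      rw [Subsingleton.elim w 0, map_zero]
  · haveI := h2
    exact exists_of_map_g_eq_zero a hS i z (Subsingleton.elim _ _)

theorem subsingleton_quot {R : Type u} [CommRing R] (a J : Ideal R) (f : R) (hf : J.colon {f} = J) (i : ℕ)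
    (h1 : Subsingleton ((localCohomology a i).obj (ModuleCat.of R (R ⧸ J)) : Type u))
    (h2 : Subsingleton ((localCohomology a (i + 1)).obj (ModuleCat.of R (R ⧸ J)) : Type u)) :
    Subsingleton ((localCohomology a i).obj (ModuleCat.of R (R ⧸ (J ⊔ Ideal.span {f}))) : Type u) := by
  let j : (R ⧸ J) →ₗ[R] (R ⧸ J) := Submodule.mapQ J J (LinearMap.mulLeft R f) fun x hx => J.mul_mem_left f hx
  let q : (R ⧸ J) →ₗ[R] R ⧸ (J ⊔ Ideal.span {f}) :=
    Submodule.mapQ J (J ⊔ Ideal.span {f}) LinearMap.id fun x hx => Submodule.mem_sup_left hx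
  have hj : Function.Injective j := by
    rw [injective_iff_map_eq_zero]
    intro z hz
    obtain ⟨r, rfl⟩ := Submodule.Quotient.mk_surjective _ z
    rw [Submodule.mapQ_apply, Submodule.Quotient.mk_eq_zero, LinearMap.mulLeft_apply] at hz
    rw [Submodule.Quotient.mk_eq_zero, ← hf, Submodule.mem_colon_singleton, smul_eq_mul, mul_comm]
    exact hz
  have hq : Function.Surjective q := fun z => by
    obtain ⟨r, rfl⟩ := Submodule.Quotient.mk_surjective _ z
    exact ⟨Submodule.Quotient.mk r, rfl⟩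
  have hex : Function.Exact j q := by
    intro z
    obtain ⟨r, rfl⟩ := Submodule.Quotient.mk_surjective _ z
    rw [Submodule.mapQ_apply, Submodule.Quotient.mk_eq_zero]
    refine ⟨fun hr => ?_, ?_⟩
    · obtain ⟨x, hx, b, hb, rfl⟩ := Submodule.mem_sup.1 (show r ∈ J ⊔ Ideal.span {f} from hr)
      obtain ⟨a, rfl⟩ := Ideal.mem_span_singleton'.1 hb
      refine ⟨Submodule.Quotient.mk a, ?_⟩
      rw [Submodule.mapQ_apply, Submodule.Quotient.eq, LinearMap.mulLeft_apply,
        show f * a - (x + a * f) = -x by ring]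
      exact neg_mem hx
    · rintro ⟨w, hw⟩
      obtain ⟨a, rfl⟩ := Submodule.Quotient.mk_surjective _ w
      rw [Submodule.mapQ_apply, Submodule.Quotient.eq, LinearMap.mulLeft_apply] at hw
      have h1 : f * a - (f * a - r) ∈ J ⊔ Ideal.span {f} :=
        sub_mem (Submodule.mem_sup_right (Ideal.mul_mem_right a _ (Ideal.mem_span_singleton_self f)))
          (Submodule.mem_sup_left hw)
      rwa [sub_sub_cancel] at h1
  exact subsingleton_right a (GorLib.shortExact_mkQ j q hj hq hex) i h1 h2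

/-- Let K be a field, R = K[x_0, …, x_n] graded by degree, and J ⊆ I ⊂ R homogeneous ideals with J ≠ 0,
height I = height J + 1 = h + 1 and R/J Cohen–Macaulay; let f ∈ R be homogeneous of degree d with J
: f = J, and put Ĩ = J + fI (the basic double link). Then for every i < n − h = dim R/I the local
cohomology modules of R/Ĩ and of R/I with support in the irrelevant ideal 𝔪 = (x_0, …, x_n) are
isomorphic in degree i. (The graded statement is H^i_𝔪(R/Ĩ) ≅ H^i_𝔪(R/I)(−d); here only the
existence of an R-linear isomorphism of the underlying modules is asserted, the grading and the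
shift by d being dropped.) -/
theorem result (K : Type u) [Field K] (n h : ℕ)
    (J I : Ideal (MvPolynomial (Fin (n + 1)) K))
    (hJ : J.IsHomogeneous (GrSyz.stdGr K (Fin (n + 1)))) (hI : I.IsHomogeneous (GrSyz.stdGr K (Fin (n + 1))))
    (hJ0 : J ≠ ⊥) (hJI : J ≤ I) (hJh : J.height = h) (hIh : I.height = h + 1)
    [LocCoh.IsCohenMacaulayRing (MvPolynomial (Fin (n + 1)) K ⧸ J)]
    (f : MvPolynomial (Fin (n + 1)) K) (d : ℕ) (hf : f ∈ GrSyz.stdGr K (Fin (n + 1)) (d : ℤ)) (hJf : J.colon {f} = J) (i : ℕ) (hi : i + h < n) :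
    Nonempty (LocCoh.H (GrSyz.irrel (GrSyz.stdGr K (Fin (n + 1)))).toIdeal i (MvPolynomial (Fin (n + 1)) K ⧸ (J ⊔ Ideal.span {f} * I)) ≃ₗ[MvPolynomial (Fin (n + 1)) K]
      LocCoh.H (GrSyz.irrel (GrSyz.stdGr K (Fin (n + 1)))).toIdeal i (MvPolynomial (Fin (n + 1)) K ⧸ I)) := by
  let R := MvPolynomial (Fin (n + 1)) K
  let m : Ideal R := RingHom.ker (MvPolynomial.constantCoeff : R →+* K)
  haveI hm : m.IsMaximal := RingHom.ker_isMaximal_of_surjective _ fun a => ⟨MvPolynomial.C a, MvPolynomial.constantCoeff_C _ a⟩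
  have hJne : J ≠ ⊤ := fun htop => ENat.coe_ne_top h (by rw [← hJh, htop, Ideal.height_top])
  have hJm : J ≤ m := CMGraded.le_ker_constantCoeff (LiaisonLib.isHomog_of hJ) hJne
  have hmI : m ≤ (GrSyz.irrel (GrSyz.stdGr K (Fin (n + 1)))).toIdeal := by
    refine le_trans CMGraded.ker_constantCoeff_le (Ideal.span_le.2 ?_)
    rintro _ ⟨k, rfl⟩
    exact Ideal.subset_span ⟨1, one_pos, MvPolynomial.isWeightedHomogeneous_X _ _ _⟩
  have hd : ((n + 1 - h : ℕ) : ℕ∞) ≤ (m.map (Ideal.Quotient.mk J)).height := by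
    haveI : (m.map (Ideal.Quotient.mk J)).IsMaximal :=
      Ideal.IsMaximal.map_of_surjective_of_ker_le Ideal.Quotient.mk_surjective (by rw [Ideal.mk_ker]; exact hJm)
    have h1 := LiaisonLib.height_maximal hJ (m.map (Ideal.Quotient.mk J))
    rw [hJh] at h1
    revert h1
    cases (m.map (Ideal.Quotient.mk J)).height with
    | top => exact fun _ => le_top
    | coe x =>
      intro h1
      norm_cast at h1 ⊢
      omega
  have hA : ∀ k, k < n + 1 - h → Subsingleton ((localCohomology (GrSyz.irrel (GrSyz.stdGr K (Fin (n + 1)))).toIdeal k).obj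
      (ModuleCat.of R (R ⧸ J)) : Type u) := fun k hk => subsingleton_H _ J m hJm hmI (n + 1 - h) hd k hk
  have hQ : ∀ k, k + h < n → Subsingleton ((localCohomology (GrSyz.irrel (GrSyz.stdGr K (Fin (n + 1)))).toIdeal k).obj
      (ModuleCat.of R (R ⧸ (J ⊔ Ideal.span {f}))) : Type u) := fun k hk =>
    subsingleton_quot _ J f hJf k (hA k (by omega)) (hA (k + 1) (by omega))
  obtain ⟨e⟩ := nonempty_equiv (GrSyz.irrel (GrSyz.stdGr K (Fin (n + 1)))).toIdeal _ _
    (LiaisonLib.injective_mapQ hJI hJf) (fun z => by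
      obtain ⟨r, rfl⟩ := Submodule.Quotient.mk_surjective _ z
      exact ⟨Submodule.Quotient.mk r, rfl⟩) LiaisonLib.exact_mapQ i (fun k hk => hQ k (by omega)) (hQ i hi)
  exact ⟨e.symm⟩

end Groth.Agent.S18872
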