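import Groth.Statements.S18873
import Groth.Agent.LinkDegLib.Degree

set_option autoImplicit false
universe u
open Liaison

namespace Groth.Agent.S18873

/-- Let K be a field, R = K[x_0, …, x_n] graded by degree, 2 ≤ c ≤ n, 𝔠 ⊂ R a homogeneous ideal of
height c such that R/𝔠 is a Gorenstein ring, I ⊂ R a homogeneous ideal of height c containing 𝔠, and
J = 𝔠 : I. Write h_𝔞(j) = dim_K [R/𝔞]_j for the Hilbert function of R/𝔞. If p_𝔠, p_I, p_J ∈ ℚ[t] are
polynomials agreeing with h_𝔠, h_I, h_J in all sufficiently large degrees (Hilbert polynomials; R/𝔠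
and R/I have dimension n + 1 − c ≥ 1, and so has R/J unless I = 𝔠, when J = R and p_J = 0), then the
coefficients of t^(n−c) satisfy p_J = p_𝔠 − p_I in that degree; multiplying by (n − c)! this says
deg J = deg 𝔠 − deg I. -/
theorem result (K : Type u) [Field K] (n c : ℕ) (hc : 2 ≤ c) (hcn : c ≤ n)
    (𝔠 I : Ideal (MvPolynomial (Fin (n + 1)) K))
    (h𝔠 : 𝔠.IsHomogeneous (GrSyz.stdGr K (Fin (n + 1)))) (hI : I.IsHomogeneous (GrSyz.stdGr K (Fin (n + 1))))
    [LocCoh.IsGorensteinRing (MvPolynomial (Fin (n + 1)) K ⧸ 𝔠)] (h𝔠c : 𝔠.height = c) (hIc : I.height = c) (h𝔠I : 𝔠 ≤ I)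
    (p𝔠 pI pJ : Polynomial ℚ)
    (hp𝔠 : ∃ j₀ : ℕ, ∀ j : ℕ, j₀ ≤ j → (Module.finrank K ↥(Submodule.map (Ideal.Quotient.mkₐ K (𝔠)).toLinearMap (GrSyz.stdGr K (Fin (n + 1)) (j : ℤ))) : ℚ) = p𝔠.eval (j : ℚ))
    (hpI : ∃ j₀ : ℕ, ∀ j : ℕ, j₀ ≤ j → (Module.finrank K ↥(Submodule.map (Ideal.Quotient.mkₐ K (I)).toLinearMap (GrSyz.stdGr K (Fin (n + 1)) (j : ℤ))) : ℚ) = pI.eval (j : ℚ))
    (hpJ : ∃ j₀ : ℕ, ∀ j : ℕ, j₀ ≤ j → (Module.finrank K ↥(Submodule.map (Ideal.Quotient.mkₐ K (𝔠.colon (I : Set (MvPolynomial (Fin (n + 1)) K)))).toLinearMap (GrSyz.stdGr K (Fin (n + 1)) (j : ℤ))) : ℚ) = pJ.eval (j : ℚ)) :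
    pJ.coeff (n - c) = p𝔠.coeff (n - c) - pI.coeff (n - c) := by
  classical
  have hhom : ∀ {a : Ideal (MvPolynomial (Fin (n + 1)) K)}, CMGraded.IsHomog a →
      a.IsHomogeneous (CohB1.polyGrading n K) := by
    intro a ha i f hf
    have e : ((DirectSum.decompose (CohB1.polyGrading n K) f i : CohB1.polyGrading n K i) :
        MvPolynomial (Fin (n + 1)) K) = MvPolynomial.homogeneousComponent i f :=
      MvPolynomial.decomposition.decompose'_apply f i
    rw [e]
    exact ha f hf i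
  have hcH := LiaisonLib.isHomog_of h𝔠
  have hIH := LiaisonLib.isHomog_of hI
  have hJH : CMGraded.IsHomog (𝔠.colon (I : Set (MvPolynomial (Fin (n + 1)) K))) := by
    intro f hf m
    rw [LiaisonLib.mem_colon_ideal] at hf ⊢
    intro i hi
    rw [← MvPolynomial.sum_homogeneousComponent i, Finset.mul_sum]
    refine Ideal.sum_mem _ fun d _ => ?_
    have h1 := CMGraded.homogeneousComponent_mul_of_isHomogeneous
      (MvPolynomial.homogeneousComponent_isHomogeneous d i) f (m + d)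
    rw [if_pos (Nat.le_add_left d m), Nat.add_sub_cancel] at h1
    rw [← h1]
    exact hcH _ (hf _ (hIH i hi d)) (m + d)
  haveI : LocCoh.IsCohenMacaulayRing (MvPolynomial (Fin (n + 1)) K ⧸ 𝔠) := LiaisonLib.cm_of_gorenstein
  have hdim : ringKrullDim (MvPolynomial (Fin (n + 1)) K ⧸ 𝔠) ≤ ((n - c + 1 : ℕ) : WithBot ℕ∞) := by
    have h := HyperCILib.dim_quotient_le (k := K) (m := n + 1) (I := 𝔠) (r := c) fun P hP =>
      (LiaisonLib.height_associated h𝔠 (LiaisonLib.ass_of_minimal hP)).trans h𝔠c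
    rwa [show n + 1 - c = n - c + 1 by omega] at h
  have hgr : ∀ j : ℕ, GrSyz.stdGr K (Fin (n + 1)) (j : ℤ) = CohB1.polyGrading n K j := by
    intro j
    ext f
    show MvPolynomial.IsWeightedHomogeneous (fun _ : Fin (n + 1) => (1 : ℤ)) f (j : ℤ) ↔ f.IsHomogeneous j
    refine forall₂_congr fun d _ => ?_
    rw [Finsupp.weight_apply, Finsupp.weight_apply]
    simp only [Finsupp.sum, nsmul_eq_mul, mul_one, Pi.one_apply]
    exact_mod_cast Iff.rfl
  have key : ∀ (a : Ideal (MvPolynomial (Fin (n + 1)) K)) (p : Polynomial ℚ),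
      (∃ j₀ : ℕ, ∀ j : ℕ, j₀ ≤ j → (Module.finrank K ↥(Submodule.map (Ideal.Quotient.mkₐ K a).toLinearMap
        (GrSyz.stdGr K (Fin (n + 1)) (j : ℤ))) : ℚ) = p.eval (j : ℚ)) →
      ∀ᶠ j : ℕ in Filter.atTop, p.eval (j : ℚ) = HSLib.hilb a j := by
    intro a p ⟨j₀, hj₀⟩
    refine Filter.eventually_atTop.2 ⟨j₀, fun j hj => ?_⟩
    rw [← hj₀ j hj, hgr, HSLib.hilb]
    haveI := HSLib.finite_polyGrading (k := K) (n := n) j
    let g := (Ideal.Quotient.mkₐ K a).toLinearMap.comp (CohB1.polyGrading n K j).subtype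
    have h1 := LinearMap.finrank_range_add_finrank_ker g
    have h2 : LinearMap.range g = Submodule.map (Ideal.Quotient.mkₐ K a).toLinearMap (CohB1.polyGrading n K j) := by
      rw [LinearMap.range_comp, Submodule.range_subtype]
    have h3 : Module.finrank K (LinearMap.ker g) =
        Module.finrank K ↥(Submodule.restrictScalars K a ⊓ CohB1.polyGrading n K j) := by
      rw [← Submodule.finrank_map_subtype_eq (CohB1.polyGrading n K j) (LinearMap.ker g)]
      suffices h : Submodule.map (CohB1.polyGrading n K j).subtype (LinearMap.ker g) =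
          Submodule.restrictScalars K a ⊓ CohB1.polyGrading n K j by rw [h]
      ext x
      constructor
      · rintro ⟨y, hy, rfl⟩
        exact ⟨Ideal.Quotient.eq_zero_iff_mem.1 hy, y.2⟩
      · rintro ⟨hx, hxj⟩
        exact ⟨⟨x, hxj⟩, Ideal.Quotient.eq_zero_iff_mem.2 hx, rfl⟩
    rw [← h1, h2, h3]
    push_cast
    ring
  exact LinkDegLib.coeff_link 𝔠 I (hhom hcH) (hhom hIH) (hhom hJH) h𝔠I (n - c) hdim
    (key _ _ hp𝔠) (key _ _ hpI) (key _ _ hpJ)

end Groth.Agent.S18873
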