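import Groth.Statements.S18874
import Groth.Agent.RegLocal.Completion
import Groth.Agent.FpqcDesc.Basic
import Groth.Agent.SubmEtSpread.NhdLim
import Groth.Agent.FPModelLib.Proper
-- import your own Groth.Agent.* helpers here

set_option autoImplicit false
set_option backward.isDefEq.respectTransparency false
set_option maxHeartbeats 1000000
set_option linter.style.haveILetI false
universe u
open Lim

namespace Groth.Agent.S18874

open CategoryTheory CategoryTheory.Limits AlgebraicGeometry IsLocalRing

open SubmEtSpread in
theorem exists_restrict_of_stalk {S X Y : Scheme.{u}} (f : X ⟶ Y) (g : Y ⟶ S) [QuasiCompact g] [QuasiSeparated g]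
    [LocallyOfFiniteType f] [QuasiCompact (f ≫ g)] [QuasiSeparated (f ≫ g)] (s : S)
    (hp : IsProper (pullback.snd f (pullback.fst g (S.fromSpecStalk s)))) :
    ∃ W : S.Opens, s ∈ W ∧ IsProper (f ∣_ (g ⁻¹ᵁ W)) := by
  obtain ⟨hc⟩ := Nhd.nonempty_isLimit_cone S s
  obtain ⟨k₀⟩ : Nonempty (Nhd S s) := inferInstance
  haveI : ∀ {i j : Nhd S s} (a : i ⟶ j), IsAffineHom ((Nhd.sys S s).map a) := fun a => inferInstance
  let o := (Nhd.toBase S s).app k₀
  let g₀ := pullback.snd g o
  let qY₀ := pullback.fst g o
  let f₀ := pullback.snd f qY₀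
  haveI : CompactSpace ↥(pullback g o) :=
    QuasiCompact.compactSpace_of_compactSpace (Y := Spec Γ(S, k₀.V)) (pullback.snd g o)
  haveI : QuasiSeparatedSpace ↥(pullback g o) :=
    quasiSeparatedSpace_of_quasiSeparated (Y := Spec Γ(S, k₀.V)) (pullback.snd g o)
  have hsq : IsPullback (pullback.fst f qY₀) (f₀ ≫ g₀) (f ≫ g) o :=
    (IsPullback.of_hasPullback f qY₀).paste_vert (IsPullback.of_hasPullback g o)
  haveI : QuasiCompact (f₀ ≫ g₀) := MorphismProperty.of_isPullback (P := @QuasiCompact) hsq inferInstance
  haveI : QuasiSeparated (f₀ ≫ g₀) := MorphismProperty.of_isPullback (P := @QuasiSeparated) hsq inferInstance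
  haveI : CompactSpace ↥(pullback f qY₀) :=
    QuasiCompact.compactSpace_of_compactSpace (Y := Spec Γ(S, k₀.V)) (f₀ ≫ g₀)
  haveI : QuasiSeparatedSpace ↥(pullback f qY₀) :=
    quasiSeparatedSpace_of_quasiSeparated (Y := Spec Γ(S, k₀.V)) (f₀ ≫ g₀)
  have ho : (Nhd.cone S s).π.app k₀ ≫ o = S.fromSpecStalk s := Nhd.π_toBase S s k₀
  let qY : pullback g (S.fromSpecStalk s) ⟶ pullback g o :=
    pullback.lift (pullback.fst _ _) (pullback.snd _ _ ≫ (Nhd.cone S s).π.app k₀)
      (by rw [Category.assoc, ho, pullback.condition])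
  have hY : IsPullback qY (pullback.snd g (S.fromSpecStalk s)) g₀ ((Nhd.cone S s).π.app k₀) := by
    refine IsPullback.of_right ?_ (pullback.lift_snd _ _ _) (IsPullback.of_hasPullback g o)
    rw [pullback.lift_fst, ho]
    exact IsPullback.of_hasPullback g _
  let qX : pullback f (pullback.fst g (S.fromSpecStalk s)) ⟶ pullback f qY₀ :=
    pullback.lift (pullback.fst _ _) (pullback.snd _ _ ≫ qY)
      (by rw [Category.assoc, pullback.lift_fst, pullback.condition])
  have hX : IsPullback qX (pullback.snd f (pullback.fst g (S.fromSpecStalk s))) f₀ qY := by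
    refine IsPullback.of_right ?_ (pullback.lift_snd _ _ _) (IsPullback.of_hasPullback f qY₀)
    rw [pullback.lift_fst, pullback.lift_fst]
    exact IsPullback.of_hasPullback f _
  obtain ⟨j, φ, hj⟩ := FPModelLib.exists_proper_stage (Nhd.sys S s) (Nhd.cone S s) hc k₀ f₀ g₀ hY hX
  refine ⟨j.V, j.mem, ?_⟩
  let pY := pullback.fst g₀ ((Nhd.sys S s).map φ)
  have hYj : IsPullback (pY ≫ qY₀) (pullback.snd g₀ ((Nhd.sys S s).map φ)) g ((Nhd.toBase S s).app j) := by
    have h := (IsPullback.of_hasPullback g₀ ((Nhd.sys S s).map φ)).paste_horiz (IsPullback.of_hasPullback g o)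
    rwa [Nhd.map_toBase] at h
  haveI : IsOpenImmersion (pY ≫ qY₀) := MorphismProperty.of_isPullback (P := @IsOpenImmersion) hYj.flip inferInstance
  have hXj := (AffLim.isPullback_baseChangeMap (Nhd.sys S s) k₀ f₀ g₀ (Over.mk φ)).paste_horiz
    (IsPullback.of_hasPullback f qY₀)
  have hr : (pY ≫ qY₀).opensRange = g ⁻¹ᵁ j.V := by
    apply TopologicalSpace.Opens.ext
    show Set.range (pY ≫ qY₀) = g ⁻¹' (j.V : Set S)
    rw [← hYj.isoPullback_hom_fst, Scheme.Hom.comp_base, TopCat.coe_comp, Set.range_comp,
      Set.range_eq_univ.2 (hYj.isoPullback.hom.surjective), Set.image_univ]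
    rw [IsOpenImmersion.range_pullbackFst]
    exact congrArg (g ⁻¹' ·) j.isAffine.range_fromSpec
  rw [← hr]
  refine (MorphismProperty.arrow_mk_iso_iff @IsProper (morphismRestrictOpensRange f (pY ≫ qY₀))).2 ?_
  have : pullback.snd f (pY ≫ qY₀) = hXj.isoPullback.inv ≫ (AffLim.baseChangeMap (Nhd.sys S s) k₀ f₀ g₀).app (Over.mk φ) :=
    hXj.isoPullback_inv_snd.symm
  rw [this]
  haveI := hj
  infer_instance


open CategoryTheory AlgebraicGeometry in
/-- Let S be a quasi-compact scheme whose affine opens have excellent coordinate rings, let X → S and Y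
→ S be quasi-compact, quasi-separated and locally of finite presentation, let f : X → Y be a
morphism over S, let s be a closed point of S and R the completion of the local ring of S at s. If
the base change X ×_S Spec R → Y ×_S Spec R of f is proper, then s has an open neighbourhood W in S
such that X ×_S W → Y ×_S W is proper. (The published statement assumes X and Y only locally of
finite presentation over S; for S the affine line over a field, s the origin, Y = S and X the
disjoint union of S with one reduced point over each closed point other than s, the base change to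
Spec R is an isomorphism while X ×_S W → W is not quasi-compact for any open W ∋ s, so X and Y are
taken of finite presentation over S here, which is what the limit argument of the published proof
uses.) -/
theorem result
    (S : Scheme.{u}) [CompactSpace S] (hS : ∀ U : S.affineOpens, EGA4.IsExcellent Γ(S, U.1))
    {X Y : Scheme.{u}} (f : X ⟶ Y) (g : Y ⟶ S)
    [QuasiCompact g] [QuasiSeparated g] [LocallyOfFinitePresentation g]
    [QuasiCompact (f ≫ g)] [QuasiSeparated (f ≫ g)] [LocallyOfFinitePresentation (f ≫ g)]
    (s : S) (hs : IsClosed ({s} : Set S))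
    (hR : IsProper (Limits.pullback.snd f (Limits.pullback.fst g
      (Spec.map (CommRingCat.ofHom (algebraMap (S.presheaf.stalk s) (EGA4.Cpl (S.presheaf.stalk s)))) ≫
        S.fromSpecStalk s)))) :
    ∃ W : S.Opens, s ∈ W ∧ IsProper (f ∣_ (g ⁻¹ᵁ W)) := by
  haveI : IsLocallyNoetherian S := by
    refine isLocallyNoetherian_of_affine_cover (S := fun U : S.affineOpens => U) ?_ fun U => (hS U).1
    exact iSup_affineOpens_eq_top S
  let O := S.presheaf.stalk s
  have hI : IsLocalRing.maximalIdeal O ≠ ⊤ := (IsLocalRing.maximalIdeal.isMaximal O).ne_top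
  haveI : Module.FaithfullyFlat O (EGA4.Cpl O) := Groth.Agent.RegLocal.faithfullyFlat_completion O _ hI
  let a := Spec.map (CommRingCat.ofHom (algebraMap O (EGA4.Cpl O)))
  let e := S.fromSpecStalk s
  have hY : IsPullback (Limits.pullback.lift (Limits.pullback.fst g (a ≫ e)) (Limits.pullback.snd g (a ≫ e) ≫ a)
      (by rw [Category.assoc, Limits.pullback.condition]))
      (Limits.pullback.snd g (a ≫ e)) (Limits.pullback.snd g e) a := by
    refine IsPullback.of_right ?_ (Limits.pullback.lift_snd _ _ _) (IsPullback.of_hasPullback g e)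
    rw [Limits.pullback.lift_fst]
    exact IsPullback.of_hasPullback g _
  let b := Limits.pullback.lift (Limits.pullback.fst g (a ≫ e)) (Limits.pullback.snd g (a ≫ e) ≫ a)
      (by rw [Category.assoc, Limits.pullback.condition] : _ = (Limits.pullback.snd g (a ≫ e) ≫ a) ≫ e)
  have hX : IsPullback (Limits.pullback.lift (Limits.pullback.fst f (Limits.pullback.fst g (a ≫ e)))
      (Limits.pullback.snd f (Limits.pullback.fst g (a ≫ e)) ≫ b)
      (by rw [Category.assoc, Limits.pullback.lift_fst, Limits.pullback.condition]))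
      (Limits.pullback.snd f (Limits.pullback.fst g (a ≫ e))) (Limits.pullback.snd f (Limits.pullback.fst g e)) b := by
    refine IsPullback.of_right ?_ (Limits.pullback.lift_snd _ _ _) (IsPullback.of_hasPullback f _)
    rw [Limits.pullback.lift_fst, Limits.pullback.lift_fst]
    exact IsPullback.of_hasPullback f _
  have hb : (@Surjective ⊓ @Flat ⊓ @QuasiCompact : MorphismProperty Scheme.{u}) b := by
    haveI : Surjective a := ⟨PrimeSpectrum.comap_surjective_of_faithfullyFlat⟩
    haveI : Flat a := Flat.SpecMap_iff.2 (RingHom.flat_algebraMap_iff.2 inferInstance)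
    exact ⟨⟨MorphismProperty.of_isPullback (P := @Surjective) hY.flip inferInstance,
      MorphismProperty.of_isPullback (P := @Flat) hY.flip inferInstance⟩,
      MorphismProperty.of_isPullback (P := @QuasiCompact) hY.flip inferInstance⟩
  haveI : LocallyOfFiniteType f := locallyOfFiniteType_of_comp f g
  refine exists_restrict_of_stalk f g s ?_
  haveI := Groth.Agent.FpqcDesc.isProper_descends.{u}
  exact MorphismProperty.of_isPullback_of_descendsAlong (P := @IsProper)
    (Q := (@Surjective ⊓ @Flat ⊓ @QuasiCompact : MorphismProperty Scheme.{u})) hX.flip hb hR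

end Groth.Agent.S18874
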