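import Groth.Statements.S18877
import Groth.Agent.GenIrredLib.Stage
import Groth.Agent.FPModelLib.ZModel
-- import your own Groth.Agent.* helpers here

set_option autoImplicit false
universe u
open Lim

namespace Groth.Agent.S18877

open CategoryTheory AlgebraicGeometry in
/-- Let S = lim S_i be a cofiltered limit of Noetherian schemes with affine transition morphisms, let X₀
→ S_{i₀} be a scheme of finite type over one stage and X → S its base change to the limit. If all
geometric fibres of X → S are connected, then for some stage S_i → S_{i₀} all geometric fibres of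
the base change X₀ ×_{S_{i₀}} S_i → S_i are connected. (Connected is read so as to allow the empty
fibre: the underlying space of each geometric fibre is preconnected; the geometric fibre of X₀
×_{S_{i₀}} S_i over Spec Ω → S_i is written as the pullback of X₀ → S_{i₀} along Spec Ω → S_i →
S_{i₀}.) -/
theorem result {I : Type u} [SmallCategory I] [IsCofiltered I]
    (D : I ⥤ Scheme.{u}) (c : Limits.Cone D) (hc : Limits.IsLimit c)
    [∀ (i j : I) (a : i ⟶ j), IsAffineHom (D.map a)] [∀ i : I, AlgebraicGeometry.IsNoetherian (D.obj i)]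
    (i₀ : I) {X₀ : Scheme.{u}} (f₀ : X₀ ⟶ D.obj i₀) [QuasiCompact f₀] [LocallyOfFiniteType f₀]
    {X : Scheme.{u}} (f : X ⟶ c.pt) (q : X ⟶ X₀) (hX : IsPullback q f f₀ (c.π.app i₀))
    (hconn : ∀ (Ω : Type u) [Field Ω] [IsAlgClosed Ω] (t : Spec (CommRingCat.of Ω) ⟶ c.pt),
      PreconnectedSpace ↥(Limits.pullback f t)) :
    ∃ (i : I) (a : i ⟶ i₀), ∀ (Ω : Type u) [Field Ω] [IsAlgClosed Ω] (t : Spec (CommRingCat.of Ω) ⟶ D.obj i),
      PreconnectedSpace ↥(Limits.pullback f₀ (t ≫ D.map a)) := by
  haveI : IsLocallyNoetherian X₀ := LocallyOfFiniteType.isLocallyNoetherian f₀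
  haveI : LocallyOfFinitePresentation f₀ := inferInstance
  haveI : QuasiSeparated f₀ := inferInstance
  haveI : ∀ {i j : I} (a : i ⟶ j), IsAffineHom (D.map a) := fun {i j} a => ‹∀ (i j : I) (a : i ⟶ j), IsAffineHom (D.map a)› i j a
  have key : ∀ {T U : Scheme.{u}} (g : T ⟶ U) (Ω : Type u) [Field Ω] [IsAlgClosed Ω] (t : Spec (CommRingCat.of Ω) ⟶ U),
      PreconnectedSpace ↥(Limits.pullback g t) ↔
        (Groth.Agent.GenIrredLib.nGeom g (t (IsLocalRing.closedPoint Ω))).2 ≤ 1 := by
    intro T U g Ω _ _ t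
    refine Iff.trans ?_ (Eq.to_iff (congrArg (fun p : ℕ∞ × ℕ∞ => p.2 ≤ 1)
      (Groth.Agent.GenIrredLib.counts_eq_nGeom g Ω t _ rfl)))
    show _ ↔ ENat.card (_root_.ConnectedComponents ↥(Limits.pullback g t)) ≤ 1
    rw [ENat.card_le_one_iff_subsingleton]
    refine ⟨fun _ => inferInstance, fun h => preconnectedSpace_iff_connectedComponent.2 fun x => ?_⟩
    exact Set.eq_univ_of_forall fun y => ConnectedComponents.coe_eq_coe'.1 (h.elim _ _)
  obtain ⟨i, a, h, -⟩ := Groth.Agent.GenIrredLib.exists_stage_nGeom D c hc f₀ hX (fun p => p.2 ≤ 1) (fun s => by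
    obtain ⟨L, hL, hsep, φ, -⟩ := Groth.Agent.GenIrredLib.exists_algClosed_hom (c.pt.residueField s : Type u)
    let t : Spec (CommRingCat.of L) ⟶ c.pt := Spec.map (CommRingCat.ofHom φ) ≫ c.pt.fromSpecResidueField s
    have h1 := (key f L t).1 (hconn L t)
    have hts : t (IsLocalRing.closedPoint L) = s := by
      simp only [t, Scheme.Hom.comp_apply]
      exact Scheme.fromSpecResidueField_apply _ _
    exact hts ▸ h1)
  refine ⟨i, a, fun Ω _ _ t => (key f₀ Ω (t ≫ D.map a)).2 ?_⟩
  exact h _

end Groth.Agent.S18877
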