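import Groth.Agent.AffLim.DescendMore
import Groth.Agent.SubDesc.Family
import Groth.Prelude.Def_AlgGrp
import Groth.Prelude.Def_Red

/-! Closed subschemes of group schemes which become subgroups in a limit are subgroups at some stage. -/

set_option autoImplicit false
set_option backward.isDefEq.respectTransparency false
set_option backward.isDefEq.respectTransparency.types false
set_option linter.style.haveILetI false

universe u

open CategoryTheory CategoryTheory.Limits MonoidalCategory CartesianMonoidalCategory MonObj AlgebraicGeometry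

noncomputable section

namespace Groth.Agent.SubgrpStage

variable {I : Type u} [SmallCategory I] [IsCofiltered I] (D : I ⥤ Scheme.{u}) (c : Cone D) (hc : IsLimit c)
  [∀ {i j : I} (a : i ⟶ j), IsAffineHom (D.map a)] (i₀ : I) [CompactSpace (D.obj i₀)]
  [QuasiSeparatedSpace (D.obj i₀)]
  {G₀ H₀ : Over (D.obj i₀)} (ι₀ : H₀ ⟶ G₀) [LocallyOfFinitePresentation ι₀.left]

/-- The stage map measuring where `m` factors through `ι₀`. -/
abbrev fmap {P₀ : Over (D.obj i₀)} (m : P₀ ⟶ G₀) : pullback m.left ι₀.left ⟶ P₀.left := pullback.fst _ _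

omit [IsCofiltered I] [∀ {i j : I} (a : i ⟶ j), IsAffineHom (D.map a)] [CompactSpace (D.obj i₀)]
  [QuasiSeparatedSpace (D.obj i₀)] [LocallyOfFinitePresentation ι₀.left] in
theorem factor_of_isIso {P₀ : Over (D.obj i₀)} (m : P₀ ⟶ G₀) (k : Over i₀)
    [IsIso ((AffLim.baseChangeMap D i₀ (fmap D i₀ ι₀ m) P₀.hom).app k)] :
    ∃ h : Red.bc (D.map k.hom) P₀ ⟶ Red.bc (D.map k.hom) H₀,
      h ≫ (Over.pullback (D.map k.hom)).map ι₀ = (Over.pullback (D.map k.hom)).map m := by
  let M : pullback (fmap D i₀ ι₀ m ≫ P₀.hom) (D.map k.hom) ⟶ pullback P₀.hom (D.map k.hom) :=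
    (AffLim.baseChangeMap D i₀ (fmap D i₀ ι₀ m) P₀.hom).app k
  haveI : IsIso M := ‹_›
  have hM1 : M ≫ pullback.fst _ _ = pullback.fst _ _ ≫ fmap D i₀ ι₀ m := by
    simp [M, AffLim.baseChangeMap, pullback.map]
  have hM2 : M ≫ pullback.snd _ _ = pullback.snd _ _ := by simp [M, AffLim.baseChangeMap, pullback.map]
  let v : pullback (fmap D i₀ ι₀ m ≫ P₀.hom) (D.map k.hom) ⟶ pullback H₀.hom (D.map k.hom) :=
    pullback.lift (pullback.fst _ _ ≫ pullback.snd m.left ι₀.left) (pullback.snd _ _) (by
      rw [Category.assoc, ← Over.w ι₀, ← Category.assoc (pullback.snd m.left ι₀.left), ← pullback.condition,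
        Category.assoc, Over.w m]
      exact pullback.condition)
  refine ⟨Over.homMk (inv M ≫ v) (by
    show (inv M ≫ v) ≫ pullback.snd _ _ = pullback.snd _ _
    rw [Category.assoc, IsIso.inv_comp_eq, hM2]
    exact pullback.lift_snd _ _ _), ?_⟩
  refine Over.OverMorphism.ext ?_
  show (inv M ≫ v) ≫ ((Over.pullback (D.map k.hom)).map ι₀).left = ((Over.pullback (D.map k.hom)).map m).left
  rw [Category.assoc, IsIso.inv_comp_eq]
  apply pullback.hom_ext
  · simp [v, pullback.condition, reassoc_of% hM1]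
  · simp [v, hM2]

omit [IsCofiltered I] [∀ {i j : I} (a : i ⟶ j), IsAffineHom (D.map a)] [CompactSpace (D.obj i₀)]
  [QuasiSeparatedSpace (D.obj i₀)] in
/-- The underlying square of a base change of a morphism over the base. -/
theorem isPullback_map {S T : Scheme.{u}} (π : T ⟶ S) {X Y : Over S} (a : X ⟶ Y) :
    IsPullback (pullback.fst X.hom π) ((Over.pullback π).map a).left a.left (pullback.fst Y.hom π) := by
  refine IsPullback.of_bot ?_ (by simp) (IsPullback.of_hasPullback Y.hom π)
  have h := IsPullback.of_hasPullback X.hom π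
  simpa using h

omit [IsCofiltered I] [∀ {i j : I} (a : i ⟶ j), IsAffineHom (D.map a)] [CompactSpace (D.obj i₀)]
  [QuasiSeparatedSpace (D.obj i₀)] in
theorem mono_pullback_left {S T : Scheme.{u}} (π : T ⟶ S) {X Y : Over S} (a : X ⟶ Y) [Mono a.left] :
    Mono ((Over.pullback π).map a).left :=
  MorphismProperty.of_isPullback (P := MorphismProperty.monomorphisms Scheme.{u}) (isPullback_map π a) ‹Mono a.left›

include hc in
/-- A factorisation in the limit is attained at all late stages. -/
theorem exists_isIso' [QuasiCompact ι₀.left] [QuasiSeparated ι₀.left] [Mono ((Over.pullback (c.π.app i₀)).map ι₀).left] {P₀ : Over (D.obj i₀)} [QuasiCompact P₀.hom] [QuasiSeparated P₀.hom] (m : P₀ ⟶ G₀)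
    (hm : ∃ h : Red.bc (c.π.app i₀) P₀ ⟶ Red.bc (c.π.app i₀) H₀,
      h ≫ (Over.pullback (c.π.app i₀)).map ι₀ = (Over.pullback (c.π.app i₀)).map m) :
    ∃ k : Over i₀, ∀ (l : Over i₀) (_ : l ⟶ k),
      IsIso ((AffLim.baseChangeMap D i₀ (fmap D i₀ ι₀ m) P₀.hom).app l) := by
  obtain ⟨h, hh⟩ := hm
  haveI : CompactSpace P₀.left := QuasiCompact.compactSpace_of_compactSpace P₀.hom
  haveI : QuasiSeparatedSpace P₀.left := quasiSeparatedSpace_of_quasiSeparated P₀.hom
  let f₀ := fmap D i₀ ι₀ m
  haveI : QuasiCompact f₀ := MorphismProperty.pullback_fst _ _ inferInstance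
  haveI : QuasiSeparated f₀ := MorphismProperty.pullback_fst _ _ inferInstance
  haveI : LocallyOfFinitePresentation f₀ := MorphismProperty.pullback_fst _ _ inferInstance
  haveI : CompactSpace ↥(pullback m.left ι₀.left) := QuasiCompact.compactSpace_of_compactSpace f₀
  haveI : QuasiSeparatedSpace ↥(pullback m.left ι₀.left) := quasiSeparatedSpace_of_quasiSeparated f₀
  let g := pullback.snd P₀.hom (c.π.app i₀)
  let qY := pullback.fst P₀.hom (c.π.app i₀)
  have hY : IsPullback qY g P₀.hom (c.π.app i₀) := IsPullback.of_hasPullback _ _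
  let f := pullback.snd f₀ qY
  have hX : IsPullback (pullback.fst f₀ qY) f f₀ qY := IsPullback.of_hasPullback _ _
  haveI : Mono f := by
    refine ⟨fun {W} a b e => ?_⟩
    have e1 : a ≫ pullback.fst f₀ qY ≫ f₀ = b ≫ pullback.fst f₀ qY ≫ f₀ := by
      rw [pullback.condition, ← Category.assoc, ← Category.assoc, e]
    refine pullback.hom_ext (pullback.hom_ext e1 ?_) e
    have hw : ∀ z : W ⟶ pullback f₀ qY,
        (z ≫ pullback.fst f₀ qY ≫ pullback.snd m.left ι₀.left) ≫ H₀.hom = (z ≫ f ≫ g) ≫ c.π.app i₀ := by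
      intro z
      have h1 : pullback.snd m.left ι₀.left ≫ H₀.hom = f₀ ≫ P₀.hom := by
        rw [← Over.w ι₀, ← pullback.condition_assoc, Over.w m]
      have h2 : pullback.fst f₀ qY ≫ f₀ ≫ P₀.hom = f ≫ g ≫ c.π.app i₀ := by
        rw [pullback.condition_assoc, pullback.condition]
      simp only [Category.assoc, h1, h2]
    have h3 : pullback.lift (a ≫ pullback.fst f₀ qY ≫ pullback.snd m.left ι₀.left) (a ≫ f ≫ g) (hw a) =
        pullback.lift (b ≫ pullback.fst f₀ qY ≫ pullback.snd m.left ι₀.left) (b ≫ f ≫ g) (hw b) := by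
      rw [← cancel_mono ((Over.pullback (c.π.app i₀)).map ι₀).left]
      apply pullback.hom_ext
      · have h4 : ∀ z : W ⟶ pullback f₀ qY, z ≫ pullback.fst f₀ qY ≫ pullback.snd m.left ι₀.left ≫ ι₀.left =
            (z ≫ pullback.fst f₀ qY ≫ f₀) ≫ m.left := fun z => by
          simp only [Category.assoc, f₀, fmap, ← pullback.condition (f := m.left) (g := ι₀.left)]
        simp only [Over.pullback_map_left, Category.assoc, pullback.lift_fst, pullback.lift_fst_assoc]
        rw [h4 a, h4 b, e1]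
      · simp [f, reassoc_of% e]
    simpa using congrArg (· ≫ pullback.fst H₀.hom (c.π.app i₀)) h3
  have hsec : (h.left ≫ pullback.fst H₀.hom (c.π.app i₀)) ≫ ι₀.left = qY ≫ m.left := by
    have := congrArg (fun e => e.left ≫ pullback.fst G₀.hom (c.π.app i₀)) hh
    simpa [qY] using this
  haveI : IsSplitEpi f := IsSplitEpi.mk'
    { section_ := pullback.lift (pullback.lift qY (h.left ≫ pullback.fst H₀.hom (c.π.app i₀)) hsec.symm) (𝟙 _)
        (by simp [f₀])
      id := pullback.lift_snd _ _ _ }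
  haveI : IsIso f := isIso_of_mono_of_isSplitEpi f
  obtain ⟨k, hk⟩ := AffLim.exists_isOpenImmersion_baseChange D c hc i₀ f₀ P₀.hom hY hX
  obtain ⟨l, φ, hl⟩ := AffLim.exists_surjective_baseChange_from D c hc i₀ f₀ P₀.hom k hY hX
  haveI := AffLim.prop_of_stage_map D i₀ f₀ P₀.hom @IsOpenImmersion φ hk
  have hiso : MorphismProperty.isomorphisms Scheme.{u} ((AffLim.baseChangeMap D i₀ f₀ P₀.hom).app l) :=
    isIso_of_isOpenImmersion_of_opensRange_eq_top _ (TopologicalSpace.Opens.ext hl.surj.range_eq)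
  exact ⟨l, fun l' a => AffLim.prop_of_stage_map D i₀ f₀ P₀.hom (MorphismProperty.isomorphisms Scheme.{u}) a hiso⟩

include hc in
/-- The case of a closed immersion. -/
theorem exists_isIso [IsClosedImmersion ι₀.left] {P₀ : Over (D.obj i₀)} [QuasiCompact P₀.hom] [QuasiSeparated P₀.hom]
    (m : P₀ ⟶ G₀) (hm : ∃ h : Red.bc (c.π.app i₀) P₀ ⟶ Red.bc (c.π.app i₀) H₀,
      h ≫ (Over.pullback (c.π.app i₀)).map ι₀ = (Over.pullback (c.π.app i₀)).map m) :
    ∃ k : Over i₀, ∀ (l : Over i₀) (_ : l ⟶ k),
      IsIso ((AffLim.baseChangeMap D i₀ (fmap D i₀ ι₀ m) P₀.hom).app l) := by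
  haveI : Mono ((Over.pullback (c.π.app i₀)).map ι₀).left := mono_pullback_left (c.π.app i₀) ι₀
  exact exists_isIso' D c hc i₀ ι₀ m hm

section Group

variable {S T : Scheme.{u}} (π : T ⟶ S) {G H : Over S} [GrpObj G] (j : H ⟶ G)

omit [IsCofiltered I] [CompactSpace (D.obj i₀)] [QuasiSeparatedSpace (D.obj i₀)] in
theorem map_inv' {X : Over S} (a : X ⟶ G) :
    (Over.pullback π).map a⁻¹ = ((Over.pullback π).map a)⁻¹ :=
  map_inv ((Over.pullback π).homMonoidHom : (X ⟶ G) →* _) a

/-- The factorisations expressing that `j` is a subgroup after base change. -/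
def IsSubAfter : Prop :=
  (∃ h, h ≫ (Over.pullback π).map j = (Over.pullback π).map (η[G])) ∧
    (∃ h, h ≫ (Over.pullback π).map j = (Over.pullback π).map j⁻¹) ∧
      (∃ h, h ≫ (Over.pullback π).map j = (Over.pullback π).map ((fst H H ≫ j) * (snd H H ≫ j)))

/-- The factorisation expressing normality after base change. -/
def IsNormalAfter : Prop :=
  ∃ h, h ≫ (Over.pullback π).map j = (Over.pullback π).map (fst G H * (snd G H ≫ j) * (fst G H)⁻¹)

theorem map_one' : (Over.pullback π).map (η[G]) =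
    (Functor.OplaxMonoidal.η (Over.pullback π) : (Over.pullback π).obj (𝟙_ _) ⟶ 𝟙_ _) ≫ η[Red.bc π G] := by
  simp [Functor.obj.η_def]

theorem exists_grpObj_of_isSubAfter [Mono j.left] (h : IsSubAfter π j) :
    ∃ _ : GrpObj (Red.bc π H), IsMonHom ((Over.pullback π).map j) := by
  obtain ⟨⟨e, he⟩, ⟨ν, hν⟩, ⟨m, hm⟩⟩ := h
  haveI : Mono j := (Over.forget S).mono_of_mono_map ‹Mono j.left›
  refine SubDesc.exists_grpObj_of_closed _ (fun {W} x y => ?_) (fun {W} x => ?_) ?_
  · refine ⟨lift x y ≫ Functor.LaxMonoidal.μ (Over.pullback π) H H ≫ m, ?_⟩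
    rw [Category.assoc, Category.assoc, hm, Functor.map_mul, MonObj.comp_mul, MonObj.comp_mul,
      Functor.map_comp, Functor.map_comp]
    simp [← Category.assoc]
  · refine ⟨x ≫ ν, ?_⟩
    rw [Category.assoc, hν, map_inv', GrpObj.comp_inv]
  · refine ⟨Functor.LaxMonoidal.ε (Over.pullback π) ≫ e, ?_⟩
    rw [Category.assoc, he, map_one', MonObj.one_eq_one]
    simp

theorem isSubAfter_of_grpObj [GrpObj (Red.bc π H)] [IsMonHom ((Over.pullback π).map j)] : IsSubAfter π j := by
  refine ⟨⟨Functor.OplaxMonoidal.η (Over.pullback π) ≫ η[Red.bc π H], ?_⟩, ⟨(𝟙 _)⁻¹, ?_⟩,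
    ⟨(Over.pullback π).map (fst H H) * (Over.pullback π).map (snd H H), ?_⟩⟩
  · rw [map_one', Category.assoc, IsMonHom.one_hom]
  · rw [map_inv', GrpObj.inv_comp, Category.id_comp]
  · rw [MonObj.mul_comp, Functor.map_mul, Functor.map_comp, Functor.map_comp]

theorem isNormalAfter_iff [GrpObj (Red.bc π H)] :
    IsNormalAfter π j ↔ AlgGrp.IsNormalHom ((Over.pullback π).map j) := by
  constructor
  · rintro ⟨k, hk⟩ W g n
    refine ⟨lift g n ≫ Functor.LaxMonoidal.μ (Over.pullback π) G H ≫ k, ?_⟩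
    rw [Category.assoc, Category.assoc, hk, Functor.map_mul, Functor.map_mul, map_inv', MonObj.comp_mul,
      MonObj.comp_mul, MonObj.comp_mul, MonObj.comp_mul, GrpObj.comp_inv, GrpObj.comp_inv, Functor.map_comp]
    simp [← Category.assoc]
  · intro hn
    obtain ⟨k, hk⟩ := hn _ ((Over.pullback π).map (fst G H)) ((Over.pullback π).map (snd G H))
    exact ⟨k, by rw [← hk, Functor.map_mul, Functor.map_mul, map_inv', Functor.map_comp]⟩

end Group

section Transfer

variable {I : Type u} [SmallCategory I] (D : I ⥤ Scheme.{u}) (c : Cone D) {i j : I} (a : i ⟶ j)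

/-- Base change to the limit through a stage. -/
def pullbackStageIso :
    Over.pullback (c.π.app j) ≅ Over.pullback (D.map a) ⋙ Over.pullback (c.π.app i) :=
  eqToIso (congrArg (fun q : c.pt ⟶ D.obj j => Over.pullback q) (c.w a).symm) ≪≫ Over.pullbackComp _ _

theorem map_eq_stage {X Y : Over (D.obj j)} (m : X ⟶ Y) :
    (Over.pullback (c.π.app j)).map m = (pullbackStageIso D c a).hom.app X ≫
      (Over.pullback (c.π.app i)).map ((Over.pullback (D.map a)).map m) ≫ (pullbackStageIso D c a).inv.app Y := by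
  have h := (pullbackStageIso D c a).hom.naturality m
  simp only [Functor.comp_map] at h
  rw [← Category.assoc, ← h, Category.assoc, Iso.hom_inv_id_app, Category.comp_id]

theorem mono_limit {X Y : Over (D.obj j)} (m : X ⟶ Y) [Mono ((Over.pullback (D.map a)).map m)] :
    Mono ((Over.pullback (c.π.app j)).map m) := by
  rw [map_eq_stage D c a m]
  infer_instance

theorem factor_limit {P X Y : Over (D.obj j)} (u : X ⟶ Y) (m : P ⟶ Y)
    (h : ∃ h, h ≫ (Over.pullback (D.map a)).map u = (Over.pullback (D.map a)).map m) :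
    ∃ h, h ≫ (Over.pullback (c.π.app j)).map u = (Over.pullback (c.π.app j)).map m := by
  obtain ⟨h, hh⟩ := h
  refine ⟨(pullbackStageIso D c a).hom.app P ≫ (Over.pullback (c.π.app i)).map h ≫
    (pullbackStageIso D c a).inv.app X, ?_⟩
  rw [map_eq_stage D c a u, map_eq_stage D c a m, ← hh, Functor.map_comp]
  simp

end Transfer

section Central

variable {S T : Scheme.{u}} (π : T ⟶ S) {G H : Over S} [GrpObj G] (j : H ⟶ G)

theorem central_iff :
    (Over.pullback π).map (fst G H * (snd G H ≫ j)) = (Over.pullback π).map ((snd G H ≫ j) * fst G H) ↔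
      ∀ (W : Over T) (g : W ⟶ Red.bc π G) (n : W ⟶ Red.bc π H),
        g * (n ≫ (Over.pullback π).map j) = (n ≫ (Over.pullback π).map j) * g := by
  constructor
  · intro h W g n
    have := congrArg (fun p => lift g n ≫ Functor.LaxMonoidal.μ (Over.pullback π) G H ≫ p) h
    simp only [Functor.map_mul, MonObj.comp_mul, Functor.map_comp] at this
    simpa [← Category.assoc] using this
  · intro h
    have := h _ ((Over.pullback π).map (fst G H)) ((Over.pullback π).map (snd G H))
    rw [Functor.map_mul, Functor.map_mul, Functor.map_comp]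
    exact this

/-- The diagonal. -/
abbrev diag (G : Over S) : G ⟶ G ⊗ G := lift (𝟙 G) (𝟙 G)

theorem eq_iff_factor {P : Over S} {Y : Over S} (a b : P ⟶ Y) :
    (Over.pullback π).map a = (Over.pullback π).map b ↔
      ∃ h, h ≫ (Over.pullback π).map (diag Y) = (Over.pullback π).map (lift a b) := by
  constructor
  · intro h
    refine ⟨(Over.pullback π).map a, ?_⟩
    rw [← cancel_mono (Functor.OplaxMonoidal.δ (Over.pullback π) Y Y)]
    apply CartesianMonoidalCategory.hom_ext <;> simp [← Functor.map_comp, h]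
  · rintro ⟨h, hh⟩
    have h1 := congrArg (· ≫ (Over.pullback π).map (fst Y Y)) hh
    have h2 := congrArg (· ≫ (Over.pullback π).map (snd Y Y)) hh
    simp only [Category.assoc, ← Functor.map_comp, lift_fst, lift_snd, CategoryTheory.Functor.map_id, Category.comp_id] at h1 h2
    exact h1.symm.trans h2

end Central

section MonoStage

include hc in
theorem exists_mono_stage {G₀ H₀ : Over (D.obj i₀)} (u₀ : H₀ ⟶ G₀) [LocallyOfFinitePresentation u₀.left]
    [QuasiCompact G₀.hom] [QuasiSeparated G₀.hom] [QuasiCompact H₀.hom] [QuasiSeparated H₀.hom]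
    [Mono ((Over.pullback (c.π.app i₀)).map u₀).left] :
    ∃ k : Over i₀, ∀ (l : Over i₀) (_ : l ⟶ k), Mono ((Over.pullback (D.map l.hom)).map u₀) := by
  haveI : CompactSpace G₀.left := QuasiCompact.compactSpace_of_compactSpace G₀.hom
  haveI : QuasiSeparatedSpace G₀.left := quasiSeparatedSpace_of_quasiSeparated G₀.hom
  haveI : CompactSpace H₀.left := QuasiCompact.compactSpace_of_compactSpace H₀.hom
  haveI : QuasiSeparatedSpace H₀.left := quasiSeparatedSpace_of_quasiSeparated H₀.hom
  obtain ⟨k, hk⟩ := AffLim.exists_mono_baseChange D c hc i₀ u₀.left G₀.hom (IsPullback.of_hasPullback _ _)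
    (isPullback_map (c.π.app i₀) u₀)
  refine ⟨k, fun l a => ?_⟩
  haveI : Mono ((AffLim.baseChangeMap D i₀ u₀.left G₀.hom).app l) :=
    AffLim.prop_of_stage_map D i₀ u₀.left G₀.hom (MorphismProperty.monomorphisms Scheme.{u}) a hk
  haveI : Mono ((Over.pullback (D.map l.hom)).map u₀).left := by
    have : ((Over.pullback (D.map l.hom)).map u₀).left = (pullback.congrHom (Over.w u₀).symm rfl).hom ≫
        (AffLim.baseChangeMap D i₀ u₀.left G₀.hom).app l := by
      apply pullback.hom_ext <;> simp [AffLim.baseChangeMap, pullback.map]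
    rw [this]
    exact mono_comp (pullback.congrHom (Over.w u₀).symm rfl).hom _
  exact (Over.forget _).mono_of_mono_map ‹_›

end MonoStage

end Groth.Agent.SubgrpStage
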