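import Groth.Statements.S18878
import Groth.Agent.SubgrpStageLib

set_option autoImplicit false
set_option backward.isDefEq.respectTransparency false
set_option backward.isDefEq.respectTransparency.types false
universe u
open CategoryTheory AlgebraicGeometry MonoidalCategory
open Lim

namespace Groth.Agent.S18878

open CategoryTheory AlgebraicGeometry in
/-- Let S = lim S_i be a cofiltered limit of schemes with affine transition morphisms over a
quasi-compact quasi-separated stage S_{i₀}, let G₀ be a group scheme separated and of finite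
presentation over S_{i₀} and H₀ ⊆ G₀ a closed subscheme whose immersion is of finite presentation,
and write G, H (resp. G_i, H_i) for the base changes to S (resp. to a stage S_i). If H is a closed
subgroup scheme of G, that is H carries a group structure over S for which H → G is a homomorphism,
then H_i is a closed subgroup scheme of G_i for some stage i → i₀; if moreover H is normal in G, the
stage can be chosen so that H_i is normal in G_i. (The published statement is for separated finitely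
presented group algebraic spaces and an arbitrary closed subspace H₀; this row is the case of
schemes and assumes H₀ → G₀ of finite presentation: over the limit Spec k of the spectra of k[x_1,
x_2, …]/(x_1, …, x_n), k of characteristic zero, the closed subscheme of the additive group cut out
by all x_m t^m becomes the whole additive group over Spec k but is a subgroup over no stage, so a
finiteness condition on H₀ is needed, and finite presentation is what the published limit argument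
uses.) -/
theorem result
    {I : Type u} [SmallCategory I] [IsCofiltered I]
    (D : I ⥤ Scheme.{u}) (c : Limits.Cone D) (hc : Limits.IsLimit c)
    [∀ (i j : I) (a : i ⟶ j), IsAffineHom (D.map a)] (i₀ : I)
    [CompactSpace (D.obj i₀)] [QuasiSeparatedSpace (D.obj i₀)]
    (G₀ : Over (D.obj i₀)) [GrpObj G₀] [IsSeparated G₀.hom] [QuasiCompact G₀.hom]
    [LocallyOfFinitePresentation G₀.hom]
    (H₀ : Over (D.obj i₀)) (ι₀ : H₀ ⟶ G₀) [IsClosedImmersion ι₀.left]
    [LocallyOfFinitePresentation ι₀.left]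
    (hH : ∃ _ : GrpObj (Red.bc (c.π.app i₀) H₀), IsMonHom ((Over.pullback (c.π.app i₀)).map ι₀)) :
    (∃ (i : I) (a : i ⟶ i₀) (_ : GrpObj (Red.bc (D.map a) H₀)),
        IsMonHom ((Over.pullback (D.map a)).map ι₀)) ∧
    ((∃ (_ : GrpObj (Red.bc (c.π.app i₀) H₀)) (_ : IsMonHom ((Over.pullback (c.π.app i₀)).map ι₀)),
        AlgGrp.IsNormalHom ((Over.pullback (c.π.app i₀)).map ι₀)) →
      ∃ (i : I) (a : i ⟶ i₀) (_ : GrpObj (Red.bc (D.map a) H₀))
        (_ : IsMonHom ((Over.pullback (D.map a)).map ι₀)),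
        AlgGrp.IsNormalHom ((Over.pullback (D.map a)).map ι₀)) := by
  haveI : QuasiCompact H₀.hom := by rw [← Over.w ι₀]; infer_instance
  haveI : QuasiSeparated H₀.hom := by rw [← Over.w ι₀]; infer_instance
  haveI : QuasiCompact (𝟙_ (Over (D.obj i₀))).hom := (inferInstance : QuasiCompact (𝟙 (D.obj i₀)))
  haveI : QuasiSeparated (𝟙_ (Over (D.obj i₀))).hom := (inferInstance : QuasiSeparated (𝟙 (D.obj i₀)))
  haveI : QuasiCompact (H₀ ⊗ H₀).hom :=
    (inferInstance : QuasiCompact (Limits.pullback.fst H₀.hom H₀.hom ≫ H₀.hom))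
  haveI : QuasiSeparated (H₀ ⊗ H₀).hom :=
    (inferInstance : QuasiSeparated (Limits.pullback.fst H₀.hom H₀.hom ≫ H₀.hom))
  haveI : QuasiCompact (G₀ ⊗ H₀).hom :=
    (inferInstance : QuasiCompact (Limits.pullback.fst G₀.hom H₀.hom ≫ G₀.hom))
  haveI : QuasiSeparated (G₀ ⊗ H₀).hom :=
    (inferInstance : QuasiSeparated (Limits.pullback.fst G₀.hom H₀.hom ≫ G₀.hom))
  obtain ⟨g, hg⟩ := hH
  letI := g
  haveI := hg
  obtain ⟨h₁, h₂, h₃⟩ := SubgrpStage.isSubAfter_of_grpObj (c.π.app i₀) ι₀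
  obtain ⟨k₁, hk₁⟩ := SubgrpStage.exists_isIso D c hc i₀ ι₀ _ h₁
  obtain ⟨k₂, hk₂⟩ := SubgrpStage.exists_isIso D c hc i₀ ι₀ _ h₂
  obtain ⟨k₃, hk₃⟩ := SubgrpStage.exists_isIso D c hc i₀ ι₀ _ h₃
  have hsub : ∀ l : Over i₀, (l ⟶ k₁) → (l ⟶ k₂) → (l ⟶ k₃) → SubgrpStage.IsSubAfter (D.map l.hom) ι₀ :=
    fun l a b d => ⟨haveI := hk₁ l a; SubgrpStage.factor_of_isIso D i₀ ι₀ _ l,
      haveI := hk₂ l b; SubgrpStage.factor_of_isIso D i₀ ι₀ _ l,
      haveI := hk₃ l d; SubgrpStage.factor_of_isIso D i₀ ι₀ _ l⟩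
  let m₀ := IsCofiltered.min k₁ k₂
  let m₁ := IsCofiltered.min m₀ k₃
  let a₁ : m₁ ⟶ k₁ := IsCofiltered.minToLeft m₀ k₃ ≫ IsCofiltered.minToLeft k₁ k₂
  let a₂ : m₁ ⟶ k₂ := IsCofiltered.minToLeft m₀ k₃ ≫ IsCofiltered.minToRight k₁ k₂
  let a₃ : m₁ ⟶ k₃ := IsCofiltered.minToRight m₀ k₃
  refine ⟨?_, fun hN => ?_⟩
  · obtain ⟨g', hg'⟩ := SubgrpStage.exists_grpObj_of_isSubAfter _ _ (hsub m₁ a₁ a₂ a₃)
    exact ⟨m₁.left, m₁.hom, g', hg'⟩
  · obtain ⟨g', hg', hn⟩ := hN
    obtain ⟨k₄, hk₄⟩ := SubgrpStage.exists_isIso D c hc i₀ ι₀ _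
      ((@SubgrpStage.isNormalAfter_iff _ _ (c.π.app i₀) _ _ _ ι₀ g').2 hn)
    let l := IsCofiltered.min m₁ k₄
    let b : l ⟶ m₁ := IsCofiltered.minToLeft m₁ k₄
    obtain ⟨g₂, hg₂⟩ := SubgrpStage.exists_grpObj_of_isSubAfter _ _ (hsub l (b ≫ a₁) (b ≫ a₂) (b ≫ a₃))
    haveI := hk₄ l (IsCofiltered.minToRight m₁ k₄)
    letI := g₂
    exact ⟨l.left, l.hom, g₂, hg₂,
      (SubgrpStage.isNormalAfter_iff _ _).1 (SubgrpStage.factor_of_isIso D i₀ ι₀ _ l)⟩

end Groth.Agent.S18878
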