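import Groth.Statements.S1888
import Groth.Agent.FinGrpdLib.Cancel
-- import your own Groth.Agent.* helpers here

set_option autoImplicit false
set_option backward.isDefEq.respectTransparency false
universe u
open CategoryTheory CategoryTheory.Limits AlgebraicGeometry
open Grpd
open Groth.Agent Groth.Agent.FinGrpdLib

namespace Groth.Agent.S1888

/-- Let (U, R, s, t, c) be a groupoid scheme over S with U the spectrum of a field k, and r a point of R
such that both s and t induce isomorphisms from k to κ(r). Then there is an automorphism of the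
scheme R carrying the identity point e to r. (The source's automorphism is x ↦ c(r, x); only the
existence of an automorphism moving e to r is stated here.) (A groupoid scheme carries U, R, s, t,
c, e, i over S with the groupoid axioms on T-points; 'finite locally free' is finite, flat and
locally of finite presentation; C ⊂ Γ(U) is the ring of functions a with s♯(a) = t♯(a) and M = Spec
C.) -/
theorem result (S : Scheme.{u}) (G : Grpd.GroupoidScheme S) (k : Type u) [Field k] (eU : G.U ≅ Spec (CommRingCat.of k)) (r : G.R) (hs : IsIso (G.s.residueFieldMap r)) (ht : IsIso (G.t.residueFieldMap r)) : ∃ φ : G.R ≅ G.R, φ.hom (G.e (eU.inv (IsLocalRing.closedPoint k))) = r := by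
  haveI : Subsingleton G.U := ⟨fun x y => eU.hom.homeomorph.injective (Subsingleton.elim _ _)⟩
  haveI : IsReduced G.U := isReduced_of_isOpenImmersion eU.hom
  let ρ : Spec (G.R.residueField r) ⟶ G.R := G.R.fromSpecResidueField r
  have hiso : ∀ (f : G.R ⟶ G.U), IsIso (f.residueFieldMap r) → IsIso (ρ ≫ f) := by
    intro f hf
    haveI : Surjective (G.U.fromSpecResidueField (f r)) :=
      ⟨fun x => ⟨IsLocalRing.closedPoint _, Subsingleton.elim _ _⟩⟩
    haveI : IsClosedImmersion (G.U.fromSpecResidueField (f r)) :=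
      IsClosedImmersion.of_isPreimmersion _ (by rw [Set.range_eq_univ.2 (Surjective.surj)]; exact isClosed_univ)
    haveI := isIso_of_isClosedImmersion_of_surjective (G.U.fromSpecResidueField (f r))
    rw [← Scheme.Hom.SpecMap_residueFieldMap_fromSpecResidueField]
    infer_instance
  haveI := hiso G.s hs
  haveI := hiso G.t ht
  let σ : G.U ⟶ G.R := inv (ρ ≫ G.s) ≫ ρ
  have hσs : σ ≫ G.s = 𝟙 G.U := by simp [σ]
  let θ : G.U ≅ G.U := (asIso (ρ ≫ G.s)).symm ≪≫ asIso (ρ ≫ G.t)
  have hσt : σ ≫ G.t = θ.hom := by simp [σ, θ]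
  have h₁ : (G.t ≫ σ) ≫ G.s = 𝟙 G.R ≫ G.t := by rw [Category.assoc, hσs, Category.comp_id, Category.id_comp]
  have h₂ : ((G.t ≫ θ.inv ≫ σ) ≫ G.i) ≫ G.s = 𝟙 G.R ≫ G.t := by
    simp only [Category.assoc, G.i_s, hσt, θ.inv_hom_id, Category.comp_id, Category.id_comp]
  let φ : G.R ⟶ G.R := mul G (G.t ≫ σ) (𝟙 _) h₁
  let ψ : G.R ⟶ G.R := mul G ((G.t ≫ θ.inv ≫ σ) ≫ G.i) (𝟙 _) h₂
  have hφt : φ ≫ G.t = G.t ≫ θ.hom := by rw [mul_t, Category.assoc, hσt]
  have hψt : ψ ≫ G.t = G.t ≫ θ.inv := by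
    rw [mul_t]; simp only [Category.assoc, G.i_t, hσs, Category.comp_id]
  have h₃ : φ ≫ ψ = 𝟙 _ := by
    rw [comp_mul, mul_congr (show φ ≫ (G.t ≫ θ.inv ≫ σ) ≫ G.i = (G.t ≫ σ) ≫ G.i by
      simp only [Category.assoc, reassoc_of% hφt, θ.hom_inv_id_assoc]) (Category.comp_id φ)]
    exact mul_inv_cancel h₁ _
  have h₄ : ψ ≫ φ = 𝟙 _ := by
    rw [comp_mul, mul_congr (show ψ ≫ G.t ≫ σ = G.t ≫ θ.inv ≫ σ by rw [reassoc_of% hψt]) (Category.comp_id ψ)]
    exact mul_inv_cancel' h₂ _
  refine ⟨⟨φ, ψ, h₃, h₄⟩, ?_⟩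
  have he : G.e ≫ φ = σ := by
    rw [comp_mul, mul_congr (show G.e ≫ G.t ≫ σ = σ by rw [← Category.assoc, G.e_t, Category.id_comp])
      (show G.e ≫ 𝟙 G.R = σ ≫ G.s ≫ G.e by rw [reassoc_of% hσs, Category.comp_id])]
    exact G.comp_e σ
  change φ (G.e _) = r
  rw [← Scheme.Hom.comp_apply, he, Scheme.Hom.comp_apply]
  exact Scheme.fromSpecResidueField_apply _ _

end Groth.Agent.S1888
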