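import Groth.Statements.S18884
-- import your own Groth.Agent.* helpers here

set_option autoImplicit false
universe v u w
open CategoryTheory CategoryTheory.Limits
open Desc

namespace Groth.Agent.S18884

open CategoryTheory CategoryTheory.Limits in
/-- The condition on abelian cosheaves. -/
abbrev IsCosh {C : Type u} [Category.{v} C] [HasPullbacks C] (W : MorphismProperty C) :
    ObjectProperty (C ⥤ AddCommGrpCat.{w}) := fun F =>
  ∀ ⦃Y X : C⦄ (π : Y ⟶ X), W π → Function.Surjective (F.map π).hom ∧
    (F.map π).hom.ker = ((F.map (pullback.fst π π)).hom - (F.map (pullback.snd π π)).hom).range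

open CategoryTheory CategoryTheory.Limits in
/-- A transformation on the objects of `D` extends uniquely to cosheaves. -/
theorem exists_ext {C : Type u} [Category.{v} C] [HasPullbacks C] (W : MorphismProperty C)
    [W.IsStableUnderBaseChange] [W.IsStableUnderComposition]
    (D : ObjectProperty C) (hD : ∀ X : C, ∃ (Y : C) (π : Y ⟶ X), W π ∧ D Y)
    {F G : C ⥤ AddCommGrpCat.{w}} (hF : IsCosh W F) (θ : D.ι ⋙ F ⟶ D.ι ⋙ G) :
    ∃ η : F ⟶ G, Functor.whiskerLeft D.ι η = θ := by
  classical
  choose Y π hπ hY using hD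
  let θ' : ∀ (T : C) (_ : D T), F.obj T ⟶ G.obj T := fun T hT => θ.app ⟨T, hT⟩
  have nat : ∀ {T T' : C} (hT : D T) (hT' : D T') (a : T ⟶ T') (t : F.obj T),
      θ' T' hT' (F.map a t) = G.map a (θ' T hT t) := fun hT hT' a t =>
    ConcreteCategory.congr_hom (θ.naturality (⟨a⟩ : (⟨_, hT⟩ : D.FullSubcategory) ⟶ ⟨_, hT'⟩)) t
  let g : ∀ X, F.obj (Y X) →+ G.obj X := fun X => ((θ' (Y X) (hY X)) ≫ G.map (π X)).hom
  have hker : ∀ X, (F.map (π X)).hom.ker ≤ (g X).ker := by
    intro X y hy
    rw [(hF (π X) (hπ X)).2] at hy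
    obtain ⟨p, rfl⟩ := hy
    obtain ⟨t, rfl⟩ := (hF (π (pullback (π X) (π X))) (hπ _)).1 p
    show G.map (π X) (θ' _ (hY X) (F.map (pullback.fst (π X) (π X)) (F.map (π _) t) -
      F.map (pullback.snd (π X) (π X)) (F.map (π _) t))) = 0
    simp only [← Functor.map_comp_apply, map_sub, nat (hY _) (hY X)]
    rw [Category.assoc, Category.assoc, pullback.condition, sub_self]
  have hex : ∀ X (x : F.obj X), ∃ y : F.obj (Y X), F.map (π X) y = x := fun X => (hF (π X) (hπ X)).1
  choose l hl using hex
  let ev : ∀ X, F.obj X → G.obj X := fun X x => g X (l X x)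
  have hev : ∀ X (y : F.obj (Y X)), ev X (F.map (π X) y) = g X y := by
    intro X y
    refine sub_eq_zero.1 ?_
    show g X _ - g X y = 0
    rw [← map_sub]
    exact hker X (show F.map (π X) (l X _ - y) = 0 by rw [map_sub, hl, sub_self])
  have key : ∀ (X T : C) (hT : D T) (a : T ⟶ X) (t : F.obj T), ev X (F.map a t) = G.map a (θ' T hT t) := by
    intro X T hT a t
    obtain ⟨p, hp⟩ := (hF (pullback.fst a (π X)) (MorphismProperty.pullback_fst _ _ (hπ X))).1 t
    obtain ⟨r, rfl⟩ := (hF (π (pullback a (π X))) (hπ _)).1 p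
    rw [← hp]
    simp only [← Functor.map_comp_apply, nat (hY _) hT]
    rw [show (π _ ≫ pullback.fst a (π X)) ≫ a = (π _ ≫ pullback.snd a (π X)) ≫ π X by
      rw [Category.assoc, Category.assoc, pullback.condition]]
    rw [Functor.map_comp_apply F, hev]
    show G.map (π X) (θ' _ (hY X) (F.map _ r)) = _
    rw [nat (hY _) (hY X), ← Functor.map_comp_apply]
  let η : ∀ X, F.obj X ⟶ G.obj X := fun X => AddCommGrpCat.ofHom
    (AddMonoidHom.mk' (ev X) fun x x' => by
      have h : F.map (π X) (l X x + l X x') = x + x' := by rw [map_add, hl, hl]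
      rw [← h, hev, map_add])
  refine ⟨{ app := η, naturality := fun X X' h => ?_ }, ?_⟩
  · refine AddCommGrpCat.hom_ext (AddMonoidHom.ext fun x => ?_)
    show ev X' (F.map h x) = G.map h (ev X x)
    conv_lhs => rw [← hl X x, ← Functor.map_comp_apply]
    rw [key X' (Y X) (hY X), Functor.map_comp_apply]
    rfl
  · refine NatTrans.ext (funext fun T => AddCommGrpCat.hom_ext (AddMonoidHom.ext fun t => ?_))
    show ev T.obj t = _
    have := key T.obj T.obj T.property (𝟙 _) t
    simp only [CategoryTheory.Functor.map_id] at this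
    exact this


/-- Let C be a category with pullbacks equipped with a class W of morphisms, the covers, stable under
base change and under composition. An abelian cosheaf is a functor F : C ⥤ Ab such that for every
cover π : Y ⟶ X the map F(π) is surjective and its kernel is the image of F(p₁) − F(p₂), where p₁,
p₂ : Y ×_X Y ⟶ Y are the two projections. If D is a full subcategory of C such that every object of
C is the target of a cover whose source lies in D, then the restriction functor from the full
subcategory of abelian cosheaves in C ⥤ Ab to D ⥤ Ab is full and faithful. -/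
theorem result {C : Type u} [Category.{v} C]
    [HasPullbacks C] (W : MorphismProperty C) [W.IsStableUnderBaseChange] [W.IsStableUnderComposition]
    (D : ObjectProperty C) (hD : ∀ X : C, ∃ (Y : C) (π : Y ⟶ X), W π ∧ D Y) :
    (ObjectProperty.ι (fun F : C ⥤ AddCommGrpCat.{w} =>
        ∀ ⦃Y X : C⦄ (π : Y ⟶ X), W π → Function.Surjective (F.map π).hom ∧
          (F.map π).hom.ker = ((F.map (pullback.fst π π)).hom - (F.map (pullback.snd π π)).hom).range) ⋙
      (Functor.whiskeringLeft D.FullSubcategory C AddCommGrpCat.{w}).obj D.ι).Full ∧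
    (ObjectProperty.ι (fun F : C ⥤ AddCommGrpCat.{w} =>
        ∀ ⦃Y X : C⦄ (π : Y ⟶ X), W π → Function.Surjective (F.map π).hom ∧
          (F.map π).hom.ker = ((F.map (pullback.fst π π)).hom - (F.map (pullback.snd π π)).hom).range) ⋙
      (Functor.whiskeringLeft D.FullSubcategory C AddCommGrpCat.{w}).obj D.ι).Faithful := by
  constructor
  · refine ⟨fun {F G} θ => ?_⟩
    obtain ⟨η, hη⟩ := exists_ext W D hD F.property θ
    exact ⟨⟨η⟩, hη⟩
  · refine ⟨fun {F G} φ ψ h => ?_⟩
    refine ObjectProperty.hom_ext _ (NatTrans.ext (funext fun X => AddCommGrpCat.hom_ext (AddMonoidHom.ext fun x => ?_)))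
    obtain ⟨Y, π, hπ, hY⟩ := hD X
    obtain ⟨y, rfl⟩ := (F.property π hπ).1 x
    have h1 := ConcreteCategory.congr_hom (NatTrans.congr_app h ⟨Y, hY⟩) y
    refine (ConcreteCategory.congr_hom (φ.hom.naturality π) y).trans ?_
    refine Eq.trans ?_ (ConcreteCategory.congr_hom (ψ.hom.naturality π) y).symm
    exact congrArg (G.obj.map π) h1

end Groth.Agent.S18884
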