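import Groth.Statements.S18888
import Mathlib

set_option autoImplicit false
universe u v w
open CAlg

namespace Groth.Agent.S18888

/-- Let A be a unique factorisation domain in which 2 is invertible, with fraction field K, and let L ⊇
K be a quadratic extension field (of degree 2 over K) containing an element y ∉ K whose square is a
squarefree element d of A. Then the integral closure of A in L equals the A-subalgebra A[y]
generated by y. -/
theorem result {A : Type u} {K : Type v} {L : Type w}
    [CommRing A] [IsDomain A] [UniqueFactorizationMonoid A] [Field K] [Algebra A K] [IsFractionRing A K]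
    [Field L] [Algebra K L] [Algebra A L] [IsScalarTower A K L]
    (h2 : IsUnit (2 : A)) (hL : Module.finrank K L = 2)
    (d : A) (hd : Squarefree d) (y : L) (hy : y * y = algebraMap A L d)
    (hyK : y ∉ Set.range (algebraMap K L)) :
    integralClosure A L = Algebra.adjoin A {y} := by
  classical
  refine le_antisymm ?_ (adjoin_le_integralClosure ?_)
  swap
  · exact IsIntegral.of_pow two_pos (by rw [sq, hy]; exact isIntegral_algebraMap)
  intro z hz
  have hfd : FiniteDimensional K L := Module.finite_of_finrank_eq_succ hL
  have hli : LinearIndependent K ![(1 : L), y] := by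
    rw [LinearIndependent.pair_iff]
    intro s t hst
    by_cases ht : t = 0
    · subst ht; simp [Algebra.smul_def] at hst; exact ⟨hst, rfl⟩
    · refine absurd ⟨-s / t, ?_⟩ hyK
      rw [map_div₀, map_neg, div_eq_iff (by simpa using ht)]
      simp only [Algebra.smul_def, mul_one] at hst
      linear_combination -hst
  obtain ⟨a, b, hab⟩ : ∃ a b : K, algebraMap K L a + algebraMap K L b * y = z := by
    have hsp := hli.span_eq_top_of_card_eq_finrank (by rw [hL]; rfl)
    rw [Matrix.range_cons, Matrix.range_cons, Matrix.range_empty, Set.union_empty, Set.singleton_union] at hsp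
    obtain ⟨a, b, h⟩ := Submodule.mem_span_pair.mp (hsp ▸ Submodule.mem_top : z ∈ _)
    exact ⟨a, b, by rw [← h, Algebra.smul_def, Algebra.smul_def, mul_one]⟩
  have hyd : y * y = algebraMap K L (algebraMap A K d) := by rw [hy, ← IsScalarTower.algebraMap_apply]
  obtain ⟨w, hw⟩ := h2
  have key : (∃ a₀, algebraMap A K a₀ = a) ∧ ∃ b₀, algebraMap A K b₀ = b := by
    by_cases hb : b = 0
    · subst hb
      rw [map_zero, zero_mul, add_zero] at hab
      have hz' : IsIntegral A z := hz
      rw [← hab] at hz'
      exact ⟨IsIntegrallyClosed.isIntegral_iff.mp ((isIntegral_algebraMap_iff (algebraMap K L).injective).mp hz'), 0, map_zero _⟩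
    · let q : Polynomial K := Polynomial.X ^ 2 + (Polynomial.C (-(2 * a)) * Polynomial.X + Polynomial.C (a * a - algebraMap A K d * (b * b)))
      have hdq : (Polynomial.C (-(2 * a)) * Polynomial.X + Polynomial.C (a * a - algebraMap A K d * (b * b))).degree < ((2 : ℕ) : WithBot ℕ) :=
        lt_of_le_of_lt Polynomial.degree_linear_le (by norm_num)
      have hqm : q.Monic := Polynomial.monic_X_pow_add hdq
      have hq0 : Polynomial.aeval z q = 0 := by
        simp only [q, map_add, map_mul, map_pow, Polynomial.aeval_X, Polynomial.aeval_C, map_neg, map_sub, ← hab, map_ofNat]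
        linear_combination (algebraMap K L b ^ 2) * hyd
      have hq2 : q.natDegree = 2 := by
        refine Polynomial.natDegree_eq_of_degree_eq_some ?_
        rw [Polynomial.degree_add_eq_left_of_degree_lt (by rw [Polynomial.degree_X_pow]; exact hdq), Polynomial.degree_X_pow]
      have hzK : z ∉ Set.range (algebraMap K L) := by
        rintro ⟨c, hc⟩
        refine hyK ⟨(c - a) / b, ?_⟩
        rw [map_div₀, map_sub, div_eq_iff (by simpa using hb)]
        linear_combination hc - hab
      have hzI : IsIntegral K z := Algebra.IsIntegral.isIntegral z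
      have hmin : minpoly K z = q := by
        refine (Polynomial.eq_of_monic_of_dvd_of_natDegree_le (minpoly.monic hzI) hqm (minpoly.dvd K z hq0) ?_).symm
        rw [hq2]
        exact (minpoly.two_le_natDegree_iff hzI).mpr hzK
      have hmap := minpoly.isIntegrallyClosed_eq_field_fractions K L (show IsIntegral A z from hz)
      rw [Algebra.algebraMap_self, RingHom.id_apply, hmin] at hmap
      have c0 := congrArg (fun P : Polynomial K => P.coeff 0) hmap
      have c1 := congrArg (fun P : Polynomial K => P.coeff 1) hmap
      simp only [q, Polynomial.coeff_map, Polynomial.coeff_add, Polynomial.coeff_X_pow, Polynomial.coeff_C_mul, Polynomial.coeff_X_zero, Polynomial.coeff_X_one, Polynomial.coeff_C] at c0 c1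
      norm_num at c0 c1
      obtain ⟨u, hu⟩ : ∃ u, algebraMap A K u = a := by
        refine ⟨-(↑w⁻¹ : A) * (minpoly A z).coeff 1, ?_⟩
        have hw2 : algebraMap A K (↑w⁻¹ : A) * 2 = 1 := by
          rw [← map_ofNat (algebraMap A K) 2, ← hw, ← map_mul, Units.inv_mul, map_one]
        rw [map_mul, map_neg, ← c1]
        linear_combination a * hw2
      refine ⟨⟨u, hu⟩, ?_⟩
      obtain ⟨p, r, hrel, hpr⟩ := IsFractionRing.exists_reduced_fraction (A := A) b
      have hb' : b * algebraMap A K r = algebraMap A K p := IsLocalization.eq_mk'_iff_mul_eq.mp hpr.symm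
      have hdiv : (r : A) * r ∣ d * (p * p) := by
        refine ⟨u * u - (minpoly A z).coeff 0, IsFractionRing.injective A K ?_⟩
        simp only [map_mul, map_sub]
        rw [← c0, ← hb', hu]
        ring
      have hcop : ∀ x, x ∣ (r : A) * r → x ∣ p * p → IsUnit x :=
        ((IsRelPrime.symm hrel).mul_left (IsRelPrime.symm hrel)).mul_right ((IsRelPrime.symm hrel).mul_left (IsRelPrime.symm hrel))
      have hrd : (r : A) * r ∣ d := IsRelPrime.dvd_of_dvd_mul_right hcop hdiv
      obtain ⟨t, ht⟩ := hd _ hrd
      refine ⟨p * (↑t⁻¹ : A), ?_⟩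
      rw [map_mul, ← hb', mul_assoc, ← map_mul, ← ht, Units.mul_inv, map_one, mul_one]
  obtain ⟨⟨a₀, rfl⟩, b₀, rfl⟩ := key
  rw [← hab, ← IsScalarTower.algebraMap_apply, ← IsScalarTower.algebraMap_apply]
  exact add_mem (Subalgebra.algebraMap_mem _ _) (mul_mem (Subalgebra.algebraMap_mem _ _) (Algebra.subset_adjoin (Set.mem_singleton y)))

end Groth.Agent.S18888
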