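import Groth.Statements.S1889
import Groth.Agent.FinGrpdLib.Field
-- import your own Groth.Agent.* helpers here

set_option autoImplicit false
set_option backward.isDefEq.respectTransparency false
universe u
open CategoryTheory CategoryTheory.Limits AlgebraicGeometry
open Grpd
open Groth.Agent Groth.Agent.FinGrpdLib

namespace Groth.Agent.S1889

/-- Let (U, R, s, t, c) be a groupoid scheme over S with U the spectrum of a field, W ⊆ R open and a : Z
→ R a morphism. Then the image of Z ×_{s∘a, U, t} W → R ×_{s,U,t} R → R (composition) is open. (A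
groupoid scheme carries U, R, s, t, c, e, i over S with the groupoid axioms on T-points; 'finite
locally free' is finite, flat and locally of finite presentation; C ⊂ Γ(U) is the ring of functions
a with s♯(a) = t♯(a) and M = Spec C.) -/
theorem result (S : Scheme.{u}) (G : Grpd.GroupoidScheme S) (k : Type u) [Field k] (eU : G.U ≅ Spec (CommRingCat.of k)) (W : G.R.Opens) (Z : Scheme.{u}) (a : Z ⟶ G.R) : IsOpen (Set.range ⇑(pullback.lift (pullback.fst (a ≫ G.s) (W.ι ≫ G.t) ≫ a) (pullback.snd (a ≫ G.s) (W.ι ≫ G.t) ≫ W.ι) ((Category.assoc _ _ _).trans (pullback.condition.trans (Category.assoc _ _ _).symm)) ≫ G.c)) := by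
  obtain ⟨_, _⟩ := point_props eU
  let P₀ := pullback (a ≫ G.s) G.t
  let Q := pullback (a ≫ G.t) G.t
  let z₀ : P₀ ⟶ Z := pullback.fst (a ≫ G.s) G.t
  let w₀ : P₀ ⟶ G.R := pullback.snd (a ≫ G.s) G.t
  let z₁ : Q ⟶ Z := pullback.fst (a ≫ G.t) G.t
  let w₁ : Q ⟶ G.R := pullback.snd (a ≫ G.t) G.t
  have hm : (z₀ ≫ a) ≫ G.s = w₀ ≫ G.t := (Category.assoc _ _ _).trans pullback.condition
  have hn : ((z₁ ≫ a) ≫ G.i) ≫ G.s = w₁ ≫ G.t := by
    simp only [z₁, w₁, Category.assoc, G.i_s, pullback.condition]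
  let m : P₀ ⟶ Q := pullback.lift z₀ (mul G (z₀ ≫ a) w₀ hm) ((Category.assoc _ _ _).symm.trans (mul_t hm).symm)
  let n : Q ⟶ P₀ := pullback.lift z₁ (mul G ((z₁ ≫ a) ≫ G.i) w₁ hn) (by
    rw [mul_t]; simp only [Category.assoc, G.i_t])
  have hmz : m ≫ z₁ = z₀ := pullback.lift_fst _ _ _
  have hmw : m ≫ w₁ = mul G (z₀ ≫ a) w₀ hm := pullback.lift_snd _ _ _
  have hnz : n ≫ z₀ = z₁ := pullback.lift_fst _ _ _
  have hnw : n ≫ w₀ = mul G ((z₁ ≫ a) ≫ G.i) w₁ hn := pullback.lift_snd _ _ _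
  have h_mn : m ≫ n = 𝟙 P₀ := by
    apply pullback.hom_ext
    · rw [Category.assoc, Category.id_comp]
      exact (congrArg (m ≫ ·) (pullback.lift_fst _ _ _)).trans hmz
    · rw [Category.assoc, Category.id_comp]
      refine (congrArg (m ≫ ·) hnw).trans ?_
      rw [comp_mul, mul_congr (show m ≫ (z₁ ≫ a) ≫ G.i = (z₀ ≫ a) ≫ G.i by simp only [← Category.assoc, hmz]) hmw]
      exact mul_inv_cancel hm _
  have h_nm : n ≫ m = 𝟙 Q := by
    apply pullback.hom_ext
    · rw [Category.assoc, Category.id_comp]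
      exact (congrArg (n ≫ ·) (pullback.lift_fst _ _ _)).trans hnz
    · rw [Category.assoc, Category.id_comp]
      refine (congrArg (n ≫ ·) hmw).trans ?_
      rw [comp_mul, mul_congr (show n ≫ z₀ ≫ a = z₁ ≫ a by simp only [← Category.assoc, hnz]) hnw]
      exact mul_inv_cancel' hn _
  haveI : IsIso m := ⟨n, h_mn, h_nm⟩
  haveI : UniversallyOpen (a ≫ G.t ≫ eU.hom) := inferInstance
  haveI : UniversallyOpen (a ≫ G.t) :=
    (MorphismProperty.cancel_right_of_respectsIso @UniversallyOpen (a ≫ G.t) eU.hom).1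
      (by simpa only [Category.assoc] using ‹UniversallyOpen (a ≫ G.t ≫ eU.hom)›)
  let j : pullback (a ≫ G.s) (W.ι ≫ G.t) ⟶ P₀ :=
    pullback.map _ _ _ _ (𝟙 _) W.ι (𝟙 _) (by simp) (by simp)
  haveI : IsOpenImmersion j := inferInstanceAs (IsOpenImmersion (pullback.map _ _ _ _ _ _ _ _ _))
  have e : pullback.lift (pullback.fst (a ≫ G.s) (W.ι ≫ G.t) ≫ a) (pullback.snd (a ≫ G.s) (W.ι ≫ G.t) ≫ W.ι)
      ((Category.assoc _ _ _).trans (pullback.condition.trans (Category.assoc _ _ _).symm)) ≫ G.c =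
      j ≫ m ≫ w₁ := by
    rw [hmw, comp_mul]
    exact mul_congr (by simp [j, z₀]) (by simp [j, w₀]) _
  rw [e]
  haveI : UniversallyOpen w₁ := inferInstanceAs (UniversallyOpen (pullback.snd (a ≫ G.t) G.t))
  exact (j ≫ m ≫ w₁).isOpenMap.isOpen_range

end Groth.Agent.S1889
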