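import Groth.Statements.S18890
import Mathlib

set_option autoImplicit false
universe u v w w'
open CAlg

namespace Groth.Agent.S18890
open TensorProduct

/-- Let R be a commutative ring, G a finite group whose order is invertible in R, M an R-module with an
R-linear action ρ of G and N an arbitrary R-module. Then the natural map M^G ⊗_R N → M ⊗_R N induced
by the inclusion of the invariants is injective, and its image is the submodule of invariants of M
⊗_R N under the action ρ ⊗ 1 (G acting on the first factor). (The source lets G be a group of
R-automorphisms of M; a possibly non-faithful linear action changes nothing.) -/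
theorem result {R : Type u} [CommRing R]
    {G : Type v} [Group G] [Finite G] (hG : IsUnit ((Nat.card G : ℕ) : R))
    {M : Type w} {N : Type w'} [AddCommGroup M] [Module R M] [AddCommGroup N] [Module R N]
    (ρ : Representation R G M) :
    Function.Injective (LinearMap.rTensor N ρ.invariants.subtype) ∧
      LinearMap.range (LinearMap.rTensor N ρ.invariants.subtype) =
        (ρ.tprod (Representation.trivial R G N)).invariants := by
  classical
  have := Fintype.ofFinite G
  let c : R := ↑hG.unit⁻¹
  let e : M →ₗ[R] ρ.invariants := LinearMap.codRestrict _ (c • ∑ g : G, ρ g) (fun x h => by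
    simp only [LinearMap.smul_apply, LinearMap.sum_apply, map_smul, map_sum, ← Module.End.mul_apply, ← map_mul]
    congr 1
    exact Fintype.sum_bijective _ (Group.mulLeft_bijective h) _ _ (fun g => rfl))
  have hcn : c * (Fintype.card G : R) = 1 := by rw [← Nat.card_eq_fintype_card]; exact IsUnit.val_inv_mul hG
  have he : e.comp ρ.invariants.subtype = LinearMap.id := by
    ext x
    simp only [LinearMap.comp_apply, Submodule.coe_subtype, LinearMap.id_apply, e, LinearMap.codRestrict_apply, LinearMap.smul_apply, LinearMap.sum_apply]
    rw [Finset.sum_congr rfl fun g _ => x.2 g, Finset.sum_const, Finset.card_univ, ← Nat.cast_smul_eq_nsmul R, smul_smul, hcn, one_smul]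
  have hact : ∀ (g : G) (x : M ⊗[R] N), (ρ.tprod (Representation.trivial R G N)) g x = LinearMap.rTensor N (ρ g) x := by
    intro g x
    simp [Representation.tprod_apply, LinearMap.rTensor_def, Representation.trivial]
    rfl
  refine ⟨fun x y hxy => ?_, le_antisymm ?_ ?_⟩
  · have := congrArg (e.rTensor N) hxy
    rwa [← LinearMap.comp_apply, ← LinearMap.comp_apply, ← LinearMap.rTensor_comp, he, LinearMap.rTensor_id] at this
  · rintro _ ⟨x, rfl⟩ g
    rw [hact, ← LinearMap.comp_apply, ← LinearMap.rTensor_comp]
    congr 2
    exact LinearMap.ext fun m => m.2 g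
  · intro x hx
    refine ⟨e.rTensor N x, ?_⟩
    rw [← LinearMap.comp_apply, ← LinearMap.rTensor_comp, show ρ.invariants.subtype.comp e = c • ∑ g : G, ρ g from rfl,
      LinearMap.rTensor_smul, LinearMap.smul_apply]
    have hs : LinearMap.rTensor N (∑ g : G, ρ g) = ∑ g : G, LinearMap.rTensor N (ρ g) :=
      map_sum (LinearMap.rTensorHom (R := R) (N := M) (P := M) N) _ _
    rw [hs, LinearMap.sum_apply, Finset.sum_congr rfl fun g _ => (hact g x).symm.trans (hx g), Finset.sum_const, Finset.card_univ, ← Nat.cast_smul_eq_nsmul R, smul_smul, hcn, one_smul]

end Groth.Agent.S18890
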