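import Groth.Statements.S18891
import Mathlib

set_option autoImplicit false
universe u
open CategoryTheory CategoryTheory.Limits AlgebraicGeometry
open Mor

namespace Groth.Agent.S18891

/-- Let f : X → Y be a morphism of schemes which is proper and formally unramified, and such that for
every algebraically closed field Ω the map X(Ω) → Y(Ω), g ↦ g ≫ f, is injective. Then f is a closed
immersion. -/
theorem result {X Y : Scheme.{u}} (f : X ⟶ Y)
    [IsProper f] [FormallyUnramified f]
    (hinj : ∀ (Ω : Type u) [Field Ω] [IsAlgClosed Ω],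
      Function.Injective (fun g : Spec (CommRingCat.of Ω) ⟶ X => g ≫ f)) :
    IsClosedImmersion f := by
  have h2 : ∀ (K : Type u) [Field K], Function.Injective (fun g : Spec (.of K) ⟶ X => g ≫ f) := by
    intro K _ g₁ g₂ e
    let ι := Spec.map (CommRingCat.ofHom (algebraMap K (AlgebraicClosure K)))
    haveI : Subsingleton (Spec (CommRingCat.of K)) := inferInstanceAs (Subsingleton (PrimeSpectrum K))
    haveI : Surjective ι := ⟨fun x => ⟨(⟨⊥, Ideal.isPrime_bot⟩ : PrimeSpectrum (AlgebraicClosure K)), Subsingleton.elim _ _⟩⟩
    haveI : Flat ι := inferInstance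
    haveI := Flat.epi_of_flat_of_surjective ι
    have := hinj (AlgebraicClosure K) (a₁ := ι ≫ g₁) (a₂ := ι ≫ g₂) (by
      show (ι ≫ g₁) ≫ f = (ι ≫ g₂) ≫ f
      rw [Category.assoc, Category.assoc, show g₁ ≫ f = g₂ ≫ f from e])
    exact (cancel_epi ι).1 this
  haveI : Surjective (pullback.diagonal f) := ((tfae_universallyInjective f).out 1 3).1 h2
  haveI : IsIso (pullback.diagonal f) :=
    (isIso_iff_isOpenImmersion_and_surjective _).mpr ⟨inferInstance, inferInstance⟩
  haveI : Mono f := (pullback.isIso_diagonal_iff f).mp inferInstance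
  exact (IsClosedImmersion.iff_isProper_and_mono (f := f)).mpr ⟨inferInstance, inferInstance⟩

end Groth.Agent.S18891
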