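import Groth.Statements.S18893
import Groth.Agent.CurveFF.HypCenter
import Groth.Agent.CurveFF.SmoothReg
import Groth.Agent.CurveFF.Genus
import Groth.Agent.CurveLib.GlobalFun

set_option autoImplicit false
universe u
open CategoryTheory CategoryTheory.Limits AlgebraicGeometry
open Curves

namespace Groth.Agent.S18893

attribute [local instance] Curv2.stalkAlgebra Curv2.resAlgebra
attribute [local instance high] FunFld.Place.algRes
set_option backward.isDefEq.respectTransparency false
set_option maxHeartbeats 1600000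
open scoped IntermediateField

/-- Let k be an algebraically closed field of characteristic different from 2 and X a hyperelliptic
curve over k (p : X → Spec k smooth and proper, X connected of dimension one, genus dim_k H¹(X, O_X)
≥ 2, with a double cover h : X → P¹_k, finite and flat of rank 2 everywhere) with hyperelliptic
involution σ (σ ≫ h = h, σ ≠ id). Then σ lies in the centre of the automorphism group of X over k:
it commutes with every k-automorphism τ of X. -/
theorem result (k : Type u) [Field k] [IsAlgClosed k] (h2 : (2 : k) ≠ 0)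
    {X : Scheme.{u}} (p : X ⟶ Spec (CommRingCat.of k)) [IsProper p] [Smooth p] [ConnectedSpace ↥X]
    (hX : topologicalKrullDim ↥X = 1) (hg : 2 ≤ @Curv2.genus k _ X ⟨p⟩)
    (h : X ⟶ CohB1.ProjSpace 1 k) (hh : h ≫ CohB1.ProjSpace.toSpec 1 k = p)
    [IsFinite h] [Flat h] (hr : ∀ y : ↥(CohB1.ProjSpace 1 k), h.finrank y = 2)
    (σ : X ⟶ X) (hσ : σ ≫ h = h) (hσ₁ : σ ≠ 𝟙 X)
    (τ : X ≅ X) (hτ : τ.hom ≫ p = p) :
    τ.hom ≫ σ = σ ≫ τ.hom := by
  letI : X.Over (Spec (CommRingCat.of k)) := ⟨p⟩
  haveI : IsProper (X ↘ Spec (CommRingCat.of k)) := ‹IsProper p›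
  haveI : Smooth (X ↘ Spec (CommRingCat.of k)) := ‹Smooth p›
  haveI := Groth.Agent.CurveLib.isIntegral_of_smooth k (X := X)
  haveI := Groth.Agent.VBLib.isRegCurve_of_smooth (X := X) k hX.le
  have h0 : Module.finrank k (Coh.HH X (Coh.structureModule X) 0) = 1 := Groth.Agent.CurveLib.finrank_H0_structure
  have hK := Groth.Agent.CurveFF.isFunctionField k hX h0
  have hgF : 2 ≤ FunFld.genus k X.functionField := hg.trans (Groth.Agent.CurveFF.genus_eq hX h0).le
  have hg1 : 1 ≤ Curv2.genus k X := le_trans one_le_two hg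
  haveI : IsIntegral (CohB1.ProjSpace 1 k) := Groth.Agent.REqLib.isIntegral_projSpace 1 k
  haveI : LocallyOfFiniteType (CohB1.ProjSpace 1 k ↘ Spec (CommRingCat.of k)) :=
    inferInstanceAs (LocallyOfFiniteType (CohB1.ProjSpace.toSpec 1 k))
  haveI : IsLocallyNoetherian (CohB1.ProjSpace 1 k) :=
    LocallyOfFiniteType.isLocallyNoetherian (CohB1.ProjSpace 1 k ↘ Spec (CommRingCat.of k))
  have hgen := Groth.Agent.CurveFF.generic_to_generic hX h0 h
  haveI := Groth.Agent.CurveFF.GenEtale.surjective_of_generic h hgen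
  obtain ⟨ψ, hψ, x, hx, hxr, hn⟩ := Groth.Agent.CurveFF.exists_coord_of_residueDegree hX h hh
    ((Groth.Agent.CurveFF.GenEtale.finrank_eq_residueDegree h (genericPoint _)).symm.trans (hr _))
  haveI := Groth.Agent.CurveFF.isSeparable_of_finrank_two hX h0 hg1 hx hn
  obtain ⟨s₀, hfix, hne, -, hsum⟩ := Groth.Agent.CurveFF.exists_involution hn
  haveI : IsFinite (σ ≫ h) := hσ.symm ▸ ‹IsFinite h›
  haveI : IsFinite σ := IsFinite.of_comp σ h
  have hση : σ (genericPoint X) = genericPoint X := by
    refine Groth.Agent.CurveFF.eq_generic_of_not_closed k hX fun hcl => ?_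
    have h1 := h.isClosedMap _ hcl
    rw [Set.image_singleton, show h (σ (genericPoint X)) = (σ ≫ h) (genericPoint X) from rfl, hσ, hgen] at h1
    haveI : IsProper (CohB1.ProjSpace 1 k ↘ Spec (CommRingCat.of k)) :=
      inferInstanceAs (IsProper (CohB1.ProjSpace.toSpec 1 k))
    haveI : Smooth (CohB1.ProjSpace 1 k ↘ Spec (CommRingCat.of k)) := Groth.Agent.ProjSmoothLib.smooth_toSpec 1 k
    have hdP : topologicalKrullDim (CohB1.ProjSpace 1 k) = 1 := by exact_mod_cast Groth.Agent.S10829.result k 1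
    haveI := Groth.Agent.VBLib.isRegCurve_of_smooth (X := CohB1.ProjSpace 1 k) k hdP.le
    exact Groth.Agent.CurveFF.ne_generic (X := CohB1.ProjSpace 1 k) hdP h1 rfl
  haveI := Groth.Agent.CurveFF.GenEtale.surjective_of_generic σ hση
  have hσp : σ ≫ (X ↘ Spec (CommRingCat.of k)) = X ↘ Spec (CommRingCat.of k) := by
    show σ ≫ p = p
    rw [← hh, ← Category.assoc, hσ]
  obtain ⟨s, hs⟩ := Groth.Agent.CurveFF.exists_algHom_of_endo (k := k) σ hσp
  obtain ⟨t, ht⟩ := Groth.Agent.CurveFF.exists_algEquiv_of_iso (k := k) τ hτ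
  have hsψ : ∀ a, s (ψ a) = ψ a := by
    have h1 := congrArg (X.fromSpecStalk (genericPoint X) ≫ ·) hσ
    simp only [← Category.assoc, hs] at h1
    rw [Category.assoc, hψ, ← Category.assoc, cancel_mono, ← Spec.map_comp, ← CommRingCat.ofHom_comp] at h1
    exact fun a => RingHom.congr_fun (congrArg CommRingCat.Hom.hom (Spec.map_injective h1)) a
  haveI := Groth.Agent.CurveFF.isDominant_fromSpecStalk_generic (X := X)
  have hsne : ∃ z, s z ≠ z := by
    by_contra hc
    push Not at hc
    refine hσ₁ (ext_of_isDominant_of_isSeparated (X ↘ Spec (CommRingCat.of k)) (by rw [hσp, Category.id_comp])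
      (X.fromSpecStalk (genericPoint X)) ?_)
    rw [hs, Category.comp_id, show s.toRingHom = RingHom.id _ from RingHom.ext hc, CommRingCat.ofHom_id, Spec.map_id]
    exact Category.id_comp _
  have hsfix : ∀ r ∈ k⟮x⟯, s r = r := fun r hr' => by
    rw [hxr] at hr'
    obtain ⟨a, rfl⟩ := hr'
    exact hsψ a
  have hss₀ : ∀ z, s z = s₀ z := Groth.Agent.CurveFF.eq_involution (s₀ := s₀.toAlgHom) hsum hsfix hsne
  refine ext_of_isDominant_of_isSeparated (X ↘ Spec (CommRingCat.of k)) ?_ (X.fromSpecStalk (genericPoint X)) ?_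
  · rw [Category.assoc, Category.assoc, hσp]
    show τ.hom ≫ p = σ ≫ τ.hom ≫ p
    rw [hτ]
    exact hσp.symm
  · rw [← Category.assoc, ht, Category.assoc, hs, ← Category.assoc, ← Spec.map_comp, ← Category.assoc (f := X.fromSpecStalk _),
      hs, Category.assoc, ht, ← Category.assoc, ← Spec.map_comp, ← CommRingCat.ofHom_comp, ← CommRingCat.ofHom_comp,
      show t.toAlgHom.toRingHom.comp s.toRingHom = s.toRingHom.comp t.toAlgHom.toRingHom from RingHom.ext fun z => by
        show t (s z) = s (t z)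
        rw [hss₀, hss₀]
        exact Groth.Agent.CurveFF.involution_central hK hgF hx hn (s₀ := s₀.toAlgHom) hfix hne hsum t z]

end Groth.Agent.S18893
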