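import Groth.Statements.S3338
import Groth.Agent.CastLib.SmoothMin
import Groth.Agent.S11107
-- import your own Groth.Agent.* helpers here

set_option autoImplicit false
set_option backward.isDefEq.respectTransparency false
set_option maxHeartbeats 800000
set_option synthInstance.maxHeartbeats 200000
universe u
open CategoryTheory CategoryTheory.Limits AlgebraicGeometry
open Models

namespace Groth.Agent.S3338

/-- The step (1) implies (2) as proved there: let R be a discrete valuation ring with fraction field K,
C a smooth proper curve over K with H^0(C, O_C) = K, and X a proper smooth model of C over R. Then X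
is a minimal model (regular, proper, with no exceptional curve of the first kind in its closed
fibre). -/
theorem result (R : Type u) [CommRing R] [IsDomain R] [IsDiscreteValuationRing R]
    (C X : Scheme.{u}) (f : C ⟶ Spec (CommRingCat.of (FractionRing R))) (p : X ⟶ Spec (CommRingCat.of R))
    (hC : Curve.IsSmoothProperCurve (FractionRing R) C f) (hH0 : IsIso f.appTop)
    (hX : Models.IsModel R X p C f) [IsProper p] [Smooth p] :
    Models.IsMinimalModel R X p C f := by
    obtain ⟨hflat, hlft, hqc, g, hg⟩ := id hX
    have hreg : ∀ x : X, IsRegularLocalRing (X.presheaf.stalk x) := fun x =>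
      Groth.Agent.S11107.isRegularLocalRing_stalk p x
    have hmodel : Models.IsRegularProperModel R X p C f := ⟨hX, inferInstance, hreg⟩
    refine ⟨hmodel, fun Γ hE => ?_⟩
    obtain ⟨-, hXi, hXn, hdim⟩ := Groth.Agent.SurfPtBlow.model_facts hC hmodel hg
    haveI := hXi
    haveI := hXn
    haveI : IsIntegral C := hC.2.2.1
    haveI := Groth.Agent.SurfPtBlow.isOpenImmersion_gen hg
    have hgen : p (genericPoint X) ≠ IsLocalRing.closedPoint R := by
      rw [← genericPoint_eq_of_isOpenImmersion g]
      exact Groth.Agent.SurfPtBlow.p_apply_gen hg _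
    have hd2 : topologicalKrullDim X = 2 := by
      refine le_antisymm hdim ?_
      rw [Groth.Agent.ASp.topologicalKrullDim_eq_krullDim]
      have h1 : Order.krullDim Γ.curve.left = 1 := by
        rw [← Groth.Agent.ASp.topologicalKrullDim_eq_krullDim]; exact Γ.dim_eq
      obtain ⟨l, hl⟩ := Order.le_krullDim_iff.1 (show ((1 : ℕ) : WithBot ℕ∞) ≤ Order.krullDim Γ.curve.left from h1.ge)
      let j : Γ.curve.left ⟶ X := Γ.ι
      haveI : IsClosedImmersion j := Γ.isClosedImmersion
      have hmono : StrictMono j := fun a b h => by
        rw [lt_iff_le_not_ge] at h ⊢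
        simp only [Scheme.le_iff_specializes, j.isClosedEmbedding.isInducing.specializes_iff] at h ⊢
        exact h
      have hlt : (l.map j hmono).last < genericPoint X :=
        lt_of_le_not_ge (Scheme.le_iff_specializes.2 (genericPoint_specializes _)) fun h => hgen (by
          rw [← ((Scheme.le_iff_specializes.1 h).antisymm (genericPoint_specializes _)).eq]
          exact Groth.Agent.CastLib.apply_eq_closedPoint Γ.ι p Γ.curve.hom Γ.w l.last)
      exact Order.le_krullDim_iff.2 ⟨(l.map j hmono).snoc (genericPoint X) hlt, by
        rw [RelSeries.snoc_length]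
        show l.length + 1 = 2
        omega⟩
    obtain ⟨H, hH⟩ := Groth.Agent.CastLib.exists_isAmple_local hreg hdim p hgen
    have hA : ArSurf.IsArithSurface R (Over.mk p) :=
      haveI : IsProper (Over.mk p).hom := ‹IsProper p›
      ⟨hreg, hXi, hd2, hflat, Groth.Agent.CastLib.isProjectiveOver_of_isAmple (Over.mk p) hH⟩
    haveI : Smooth (Over.mk p).hom := ‹Smooth p›
    exact Groth.Agent.CastLib.not_isExcCurve_of_relMin (IsDiscreteValuationRing.not_isField R) hA
      (Groth.Agent.CastLib.isRelMinimal_of_smooth hA) Γ.ι hE

end Groth.Agent.S3338
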