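import Groth.Statements.S18894
import Groth.Agent.S3330
import Groth.Agent.S3338
import Groth.Agent.CastLib.GlobalConst
import Groth.Agent.SmoothWeil.Dom
import Groth.Agent.GenSeesawLib.Glue
import Groth.Agent.ASp.PropDescend
import Groth.Agent.CastLib.Genus
-- import your own Groth.Agent.* helpers here

set_option autoImplicit false
universe u
open CategoryTheory CategoryTheory.Limits AlgebraicGeometry
open Curves

namespace Groth.Agent.S18894

open AlgebraicGeometry CategoryTheory CategoryTheory.Limits in
set_option backward.isDefEq.respectTransparency false in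
theorem genus_pos {R : Type u} [CommRing R] [IsDomain R] {X : Scheme.{u}}
    (f : X ⟶ Spec (CommRingCat.of R)) [IsProper f]
    (hXgen : ∀ s : ↥(Spec (CommRingCat.of R)),
      letI : (f.fiber s).Over (Spec ((Spec (CommRingCat.of R)).residueField s)) := ⟨f.fiberToSpecResidueField s⟩
      0 < Curv2.genus ((Spec (CommRingCat.of R)).residueField s) (f.fiber s)) :
    0 < Models.curveGenus (FractionRing R)
      (pullback f (Spec.map (CommRingCat.ofHom (algebraMap R (FractionRing R)))))
      (pullback.snd f (Spec.map (CommRingCat.ofHom (algebraMap R (FractionRing R))))) := by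
  let η := Spec.map (CommRingCat.ofHom (algebraMap R (FractionRing R)))
  let S := Spec (CommRingCat.of R)
  haveI : IsPreimmersion η := IsPreimmersion.of_isLocalization (nonZeroDivisors R)
  let s0 : S := η (IsLocalRing.closedPoint (FractionRing R))
  let θ : S.residueField s0 ⟶ CommRingCat.of (FractionRing R) :=
    S.descResidueField (Scheme.stalkClosedPointTo η)
  have hθ : Spec.map θ ≫ S.fromSpecResidueField s0 = η :=
    Scheme.descResidueField_stalkClosedPointTo_fromSpecResidueField (FractionRing R) S η
  haveI : IsPreimmersion (Spec.map θ ≫ S.fromSpecResidueField s0) := by rw [hθ]; infer_instance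
  haveI : IsPreimmersion (Spec.map θ) := IsPreimmersion.of_comp (Spec.map θ) (S.fromSpecResidueField s0)
  have hrange : Set.range (Spec.map θ) = Set.univ := by
    refine Set.eq_univ_of_forall fun z => ⟨IsLocalRing.closedPoint (FractionRing R), ?_⟩
    haveI : Subsingleton (Spec (S.residueField s0) : Scheme.{u}) :=
      inferInstanceAs (Subsingleton (PrimeSpectrum (S.residueField s0)))
    exact Subsingleton.elim _ _
  haveI : IsClosedImmersion (Spec.map θ) :=
    IsClosedImmersion.of_isPreimmersion _ (by rw [hrange]; exact isClosed_univ)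
  have hθs : Function.Surjective θ.hom := by
    have := (IsClosedImmersion.isAffine_surjective_of_isAffine (Spec.map θ)).2
    intro z
    obtain ⟨w, hw⟩ := this ((Scheme.ΓSpecIso (.of (FractionRing R))).inv z)
    refine ⟨(Scheme.ΓSpecIso (S.residueField s0)).hom w, ?_⟩
    refine (ConcreteCategory.congr_hom (Scheme.ΓSpecIso_naturality θ) w).symm.trans ((congrArg _ hw).trans ?_)
    exact ConcreteCategory.congr_hom (Scheme.ΓSpecIso (.of (FractionRing R))).inv_hom_id z
  haveI : IsIso θ := (ConcreteCategory.isIso_iff_bijective θ).2 ⟨θ.hom.injective, hθs⟩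
  let C := pullback f η
  let q : C ⟶ Spec (CommRingCat.of (FractionRing R)) := pullback.snd f η
  haveI : IsProper q := MorphismProperty.pullback_snd f η inferInstance
  let ε : C ⟶ f.fiber s0 := pullback.map f η f (S.fromSpecResidueField s0) (𝟙 X) (Spec.map θ) (𝟙 S)
    (by rw [Category.id_comp]; exact Category.comp_id f) (by rw [hθ]; exact Category.comp_id η)
  haveI : IsIso ε := by dsimp only [ε]; infer_instance
  letI : C.Over (Spec (CommRingCat.of (FractionRing R))) := ⟨q⟩
  haveI : Module.Finite (FractionRing R) (Coh.HH C (Coh.structureModule C) 1) := by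
    haveI : IsLocallyNoetherian C := LocallyOfFiniteType.isLocallyNoetherian q
    haveI : CompactSpace C := QuasiCompact.compactSpace_of_compactSpace q
    haveI : AlgebraicGeometry.IsNoetherian C := { }
    exact Groth.Agent.ProperFin.allFin_of_isCoh (A := FractionRing R) q _ (Groth.Agent.DevLib.isCoh_structureModule C) 1
  show 0 < Module.finrank (FractionRing R) (Coh.HH C (Coh.structureModule C) 1)
  by_contra h
  have hsub : Subsingleton (Coh.HH C (Coh.structureModule C) 1) :=
    Module.finrank_zero_iff.1 (Nat.eq_zero_of_not_pos h)
  have hfib := Groth.Agent.GenSeesawLib.subsingleton_HH_structureModule_of_isIso ε 1 hsub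
  letI : (f.fiber s0).Over (Spec (S.residueField s0)) := ⟨f.fiberToSpecResidueField s0⟩
  have hh := hXgen s0
  have h0 : Curv2.genus (S.residueField s0) (f.fiber s0) = 0 := Module.finrank_zero_of_subsingleton
  exact absurd (hh.trans_le h0.le) (lt_irrefl 0)


/-- Together with the accompanying claim: let R be a discrete valuation ring with fraction field K, η :
Spec K → Spec R the generic point, and f : X → Spec R, g : Y → Spec R two smooth curves of genus n ≥
1 (proper and smooth, with geometrically connected fibres of dimension one and genus n). Then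
restriction to the generic fibre is a bijection from R-isomorphisms X ≅ Y onto K-isomorphisms X_η ≅
Y_η: every isomorphism φ of the generic fibres over Spec K is induced by a unique morphism e : X → Y
compatible with the first projections, and this e is an isomorphism over Spec R. -/
theorem result {R : Type u} [CommRing R] [IsDomain R]
    [IsDiscreteValuationRing R] {X Y : Scheme.{u}}
    (f : X ⟶ Spec (CommRingCat.of R)) (g : Y ⟶ Spec (CommRingCat.of R))
    [IsProper f] [Smooth f] [GeometricallyConnected f] [IsProper g] [Smooth g] [GeometricallyConnected g]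
    (hXdim : ∀ s : ↥(Spec (CommRingCat.of R)), topologicalKrullDim ↥(f.fiber s) = 1)
    (hYdim : ∀ s : ↥(Spec (CommRingCat.of R)), topologicalKrullDim ↥(g.fiber s) = 1)
    (n : ℕ) (hn : 1 ≤ n)
    (hXgen : ∀ s : ↥(Spec (CommRingCat.of R)),
      letI : (f.fiber s).Over (Spec ((Spec (CommRingCat.of R)).residueField s)) := ⟨f.fiberToSpecResidueField s⟩
      Curv2.genus ((Spec (CommRingCat.of R)).residueField s) (f.fiber s) = n)
    (hYgen : ∀ s : ↥(Spec (CommRingCat.of R)),
      letI : (g.fiber s).Over (Spec ((Spec (CommRingCat.of R)).residueField s)) := ⟨g.fiberToSpecResidueField s⟩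
      Curv2.genus ((Spec (CommRingCat.of R)).residueField s) (g.fiber s) = n)
    (η : Spec (CommRingCat.of (FractionRing R)) ⟶ Spec (CommRingCat.of R))
    (hη : η = Spec.map (CommRingCat.ofHom (algebraMap R (FractionRing R))))
    (φ : pullback f η ≅ pullback g η) (hφ : φ.hom ≫ pullback.snd g η = pullback.snd f η) :
    ∃ e : X ≅ Y, e.hom ≫ g = f ∧ pullback.fst f η ≫ e.hom = φ.hom ≫ pullback.fst g η ∧
      ∀ e' : X ⟶ Y, pullback.fst f η ≫ e' = φ.hom ≫ pullback.fst g η → e' = e.hom := by
  subst hη
  let η := Spec.map (CommRingCat.ofHom (algebraMap R (FractionRing R)))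
  let C := pullback f η
  let q : C ⟶ Spec (CommRingCat.of (FractionRing R)) := pullback.snd f η
  haveI : IsProper q := MorphismProperty.pullback_snd f η inferInstance
  haveI : Smooth q := MorphismProperty.pullback_snd f η inferInstance
  haveI : GeometricallyConnected q := MorphismProperty.pullback_snd f η inferInstance
  haveI : ConnectedSpace (Spec (CommRingCat.of (FractionRing R)) : Scheme.{u}) :=
    inferInstanceAs (ConnectedSpace (PrimeSpectrum (FractionRing R)))
  haveI : ConnectedSpace C := GeometricallyConnected.connectedSpace q q.isOpenMap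
  haveI : IsIntegral C := Groth.Agent.SmoothWeil.isIntegral_of_smooth_connected q
  have hdimC : topologicalKrullDim C = 1 := by
    let s0 : Spec (CommRingCat.of R) := η (IsLocalRing.closedPoint (FractionRing R))
    haveI : IsPreimmersion η := IsPreimmersion.of_isLocalization (nonZeroDivisors R)
    have hsub : Set.range η = {s0} := by
      refine Set.eq_singleton_iff_nonempty_unique_mem.2 ⟨⟨s0, _, rfl⟩, ?_⟩
      rintro _ ⟨z, rfl⟩
      haveI : Subsingleton (Spec (CommRingCat.of (FractionRing R)) : Scheme.{u}) :=
        inferInstanceAs (Subsingleton (PrimeSpectrum (FractionRing R)))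
      exact congrArg η (Subsingleton.elim _ _)
    have hr : Set.range (pullback.fst f η) = f ⁻¹' {s0} := by
      rw [Scheme.Pullback.range_fst, hsub]
    haveI : IsPreimmersion (pullback.fst f η) := MorphismProperty.pullback_fst f η inferInstance
    have e1 := ((pullback.fst f η).isEmbedding.toHomeomorph).trans
      ((Homeomorph.setCongr hr).trans (f.fiberHomeo s0).symm)
    rw [IsHomeomorph.topologicalKrullDim_eq _ e1.isHomeomorph]
    exact hXdim s0
  have hC : Curve.IsSmoothProperCurve (FractionRing R) C q := ⟨inferInstance, inferInstance, inferInstance, hdimC⟩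
  have hH0 : IsIso q.appTop := Groth.Agent.CastLib.isIso_appTop_of_smooth q
  have hgen : 0 < Models.curveGenus (FractionRing R) C q := genus_pos f fun s => by
    have := hXgen s
    omega
  have hp₁ : IsPullback (pullback.fst f η) q f η := IsPullback.of_hasPullback f η
  have hp₂ : IsPullback (φ.hom ≫ pullback.fst g η) q g η :=
    (IsPullback.of_hasPullback g η).of_iso φ.symm (Iso.refl _) (Iso.refl _) (Iso.refl _)
      (by simp) (by simp only [Iso.refl_hom, Category.comp_id, Iso.symm_hom]; exact (φ.eq_inv_comp).2 hφ)
      (by simp) (by simp)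
  have hX : Models.IsModel R X f C q := ⟨inferInstance, inferInstance, inferInstance, _, hp₁⟩
  have hY : Models.IsModel R Y g C q := ⟨inferInstance, inferInstance, inferInstance, _, hp₂⟩
  have hmX := Groth.Agent.S3338.result R C X q f hC hH0 hX
  have hmY := Groth.Agent.S3338.result R C Y q g hC hH0 hY
  obtain ⟨e, ⟨he1, he2⟩, -⟩ := Groth.Agent.S3330.result R C X Y q f g hC hH0 hgen hmX hmY _ hp₁ _ hp₂
  refine ⟨e, he1, he2, fun e' he' => ?_⟩
  haveI : IsReduced X := Groth.Agent.ASp.isReduced_of_smooth f
  haveI : Y.IsSeparated := ⟨by
    rw [← terminal.comp_from g]; infer_instance⟩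
  haveI : IsDominant (pullback.fst f η) := ⟨by
    rw [DenseRange, Scheme.Pullback.range_fst]
    refine Dense.preimage ?_ f.isOpenMap
    exact (PrimeSpectrum.denseRange_comap_iff_ker_le_nilRadical _).2 (by
      show RingHom.ker (algebraMap R (FractionRing R)) ≤ _
      rw [(RingHom.injective_iff_ker_eq_bot _).1 (IsFractionRing.injective R (FractionRing R))]
      exact bot_le)⟩
  exact ext_of_isDominant (pullback.fst f η) (he'.trans he2.symm)

end Groth.Agent.S18894
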