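import Groth.Statements.S18896
import Groth.Agent.GenBCLib.SteinUnit
import Groth.Agent.GenBCLib.RankPush
import Groth.Agent.GenBCLib.Helpers
import Groth.Agent.PicTrivLib.Fiber
import Groth.Agent.AVLib.GeomInt
import Groth.Agent.ShBCLib.Finrank
import Groth.Agent.DCohLib.ProjMap
-- import your own Groth.Agent.* helpers here

set_option autoImplicit false
set_option backward.isDefEq.respectTransparency false
set_option linter.style.haveILetI false
universe u
open CategoryTheory CategoryTheory.Limits AlgebraicGeometry
open Curves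

namespace Groth.Agent.S18896

theorem fiberRank_eq_genus {X S : Scheme.{u}} (f : X ⟶ S) (s : S) :
    letI : (f.fiber s).Over (Spec (S.residueField s)) := ⟨f.fiberToSpecResidueField s⟩
    CohIII.fiberRank f (Coh.structureModule X) 1 s = Curv2.genus (S.residueField s) (f.fiber s) := by
  letI : (f.fiber s).Over (Spec (CommRingCat.of (S.residueField s))) := ⟨f.fiberToSpecResidueField s⟩
  exact Groth.Agent.ShBCLib.finrank_HH_iso (X := f.fiber s) (K := S.residueField s)
    (Groth.Agent.DCohLib.pullStructureIso (f.fiberι s)) 1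

/-- Let f : X → S be a smooth curve of genus g over a scheme S, i.e. f is proper and smooth and its
fibres are geometrically connected of dimension one and genus g (g the dimension of H¹ of the
structure sheaf of each fibre over its residue field). Then R¹f_*(O_X) is a locally free O_S-module
of rank g. -/
theorem result {X S : Scheme.{u}} (f : X ⟶ S)
    [IsProper f] [Smooth f] [GeometricallyConnected f]
    (hdim : ∀ s : S, topologicalKrullDim ↥(f.fiber s) = 1) (g : ℕ)
    (hgen : ∀ s : S, letI : (f.fiber s).Over (Spec (S.residueField s)) := ⟨f.fiberToSpecResidueField s⟩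
      Curv2.genus (S.residueField s) (f.fiber s) = g)
    [HasInjectiveResolutions X.Modules] :
    FlatMod.IsFinLocFreeOfRank g ((Coh.Rpush f 1).obj (Coh.structureModule X)) := by
  haveI := Groth.Agent.AVLib.geometricallyReduced_of_smooth f
  haveI : Coh.IsQCoh (Coh.structureModule X) := (Groth.Agent.DevLib.isCoh_structureModule X).1
  have hb := Groth.Agent.PicTrivLib.bijective_fiber f
  have key : ∀ s : S, ∃ (V : S.Opens) (D : Groth.Agent.GenBCLib.Dat f (Coh.structureModule X) V) (c : Γ(S, V)),
      s ∈ S.basicOpen c ∧ D.L.Good c 1 ∧ D.L.Split c 1 := fun s => by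
    obtain ⟨V, D, hs⟩ := Groth.Agent.GenBCLib.exists_dat_at (Groth.Agent.FlatStage.isFP_structureModule X)
      (Groth.Agent.BCLib.isFlatOver_structureModule f) s
    obtain ⟨b, hb', -, hsb, -⟩ := D.exists_vanish hs (n := 2)
      (Groth.Agent.GenBCLib.subsingleton_fiberH_of_dim f (Coh.structureModule X) 1 s (hdim s).le one_lt_two)
    obtain ⟨a, ha, hga⟩ := D.exists_good hs (D.surjAt_zero_structure hs (hb s))
    exact ⟨V, D, a * b, by rw [S.basicOpen_mul]; exact ⟨ha, hb'⟩, hsb.mul_left a, hga.mul_right b⟩
  have hlf : FlatMod.IsFinLocFree ((Coh.Rpush f 1).obj (Coh.structureModule X)) :=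
    Groth.Agent.GenBCLib.isFinLocFree_of_nhds _ fun s => by
      obtain ⟨V, D, c, hc, hg', hsp⟩ := key s
      exact ⟨_, hc, D.isFinLocFree_basicOpen hg' hsp⟩
  haveI := (Groth.Agent.PullbackMod.isQCoh_and_isFP_of_isFinLocFree _ hlf).1
  refine (Groth.Agent.PullbackMod.isFinLocFreeOfRank_iff_freeAt _
    (Groth.Agent.PullbackMod.isQCoh_and_isFP_of_isFinLocFree _ hlf).2 g).2 fun s => ?_
  obtain ⟨V, D, c, hc, hg', hsp⟩ := key s
  have hr : CohIII.fiberRank f (Coh.structureModule X) 1 s = g := by
    rw [← hgen s]
    exact fiberRank_eq_genus f s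
  rw [← hr]
  exact D.freeAt_rpush_of_good hc hg' hsp

end Groth.Agent.S18896
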