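import Groth.Statements.S18898
import Groth.Agent.FPModelLib.ProperModel
import Groth.Agent.FPModelLib.Fibre
import Groth.Agent.GenIrredLib.Stage
import Groth.Agent.JacLib.JacProper
import Groth.Agent.S18896

set_option backward.isDefEq.respectTransparency false
set_option maxHeartbeats 1000000

set_option autoImplicit false
universe u
open CategoryTheory CategoryTheory.Limits AlgebraicGeometry
open Curves

namespace Groth.Agent.S18898

/-- Take an affine base S and a smooth genus-g curve f : X → S over it (proper and smooth, with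
geometrically connected fibres of dimension one and genus g). Then there exist an affine scheme S₀
whose ring of global sections is of finite type over ℤ (in particular S₀ is Noetherian), a morphism
u : S → S₀ which is injective on global sections (so that S₀ is the spectrum of a subring of
O_S(S)), and a smooth curve of genus g, f₀ : X₀ → S₀, together with a cartesian square making f the
base change of f₀ along u. -/
theorem result {X S : Scheme.{u}} (f : X ⟶ S) [IsAffine S]
    [IsProper f] [Smooth f] [GeometricallyConnected f]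
    (hdim : ∀ s : S, topologicalKrullDim ↥(f.fiber s) = 1) (g : ℕ)
    (hgen : ∀ s : S, letI : (f.fiber s).Over (Spec (S.residueField s)) := ⟨f.fiberToSpecResidueField s⟩
      Curv2.genus (S.residueField s) (f.fiber s) = g) :
    ∃ (S₀ X₀ : Scheme.{u}) (f₀ : X₀ ⟶ S₀) (u : S ⟶ S₀) (v : X ⟶ X₀),
      IsAffine S₀ ∧ Algebra.FiniteType ℤ Γ(S₀, ⊤) ∧ Function.Injective (u.appTop).hom ∧
      IsPullback v f f₀ u ∧ IsProper f₀ ∧ Smooth f₀ ∧ GeometricallyConnected f₀ ∧
      (∀ s : S₀, topologicalKrullDim ↥(f₀.fiber s) = 1) ∧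
      ∀ s : S₀, letI : (f₀.fiber s).Over (Spec (S₀.residueField s)) := ⟨f₀.fiberToSpecResidueField s⟩
        Curv2.genus (S₀.residueField s) (f₀.fiber s) = g := by
  obtain ⟨i₁, G₁, g₁, q₁, _, _, _, h₁⟩ := FPModelLib.exists_proper_flat_zmodel f
  let A := Γ(S, ⊤)
  let D := FPModelLib.zSys A
  let c := FPModelLib.zCone A
  have hc : IsLimit c := FPModelLib.isLimitZCone A
  haveI : ∀ i, CompactSpace (D.obj i) := fun i => inferInstance
  haveI : ∀ i, QuasiSeparatedSpace (D.obj i) := fun i => inferInstance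
  let f' : X ⟶ c.pt := f ≫ S.isoSpec.hom
  haveI : IsProper f' := inferInstanceAs (IsProper (f ≫ S.isoSpec.hom))
  haveI : Smooth f' := inferInstanceAs (Smooth (f ≫ S.isoSpec.hom))
  haveI : GeometricallyConnected f' :=
    (MorphismProperty.cancel_right_of_respectsIso (P := @GeometricallyConnected) f S.isoSpec.hom).2 ‹_›
  have hf' : IsPullback (𝟙 X) f f' S.isoSpec.hom := IsPullback.of_horiz_isIso ⟨by simp [f']⟩
  have hpt : ∀ t : c.pt, S.isoSpec.hom (S.isoSpec.inv t) = t := fun t => by
    rw [← Scheme.Hom.comp_apply, S.isoSpec.inv_hom_id]; rfl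
  have hdim' : ∀ t, topologicalKrullDim ↥(f'.fiber t) = 1 := fun t => by
    rw [← hpt t]
    exact ((Groth.Agent.S9777.result f' _ f _ hf' _).symm).trans (hdim _)
  -- smoothness
  haveI : CompactSpace G₁ := QuasiCompact.compactSpace_of_compactSpace g₁
  haveI : QuasiSeparatedSpace G₁ := quasiSeparatedSpace_of_quasiSeparated g₁
  obtain ⟨i₂, φ₂, G₂', g₂', r₂, hr₂, hsm⟩ := FPModelLib.attained_smooth D c hc i₁ g₁ f' q₁
    inferInstance inferInstance inferInstance (FPModelLib.isPullback_cone f h₁) inferInstance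
  haveI : Smooth (pullback.snd g₁ (D.map φ₂)) := by
    rw [← (hr₂.isoPullback_inv_snd)]
    exact MorphismProperty.RespectsIso.precomp (P := @Smooth) _ _ hsm
  let g₂ := pullback.snd g₁ (D.map φ₂)
  haveI : IsProper g₂ := MorphismProperty.pullback_snd _ _ ‹_›
  obtain ⟨q₂, h₂⟩ := FPModelLib.exists_isPullback_stage f φ₂ h₁
  -- geometric connectedness
  obtain ⟨i₃, φ₃, -, hn₃⟩ := GenIrredLib.exists_stage_nGeom D c hc g₂ (FPModelLib.isPullback_cone f h₂)
    (fun x => x.2 = 1) (fun t => (GenIrredLib.geometricallyConnected_iff_nGeom f').1 inferInstance t)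
  let g₃ := pullback.snd g₂ (D.map φ₃)
  haveI : IsProper g₃ := MorphismProperty.pullback_snd _ _ ‹_›
  haveI : Smooth g₃ := MorphismProperty.pullback_snd _ _ ‹_›
  haveI : GeometricallyConnected g₃ := (GenIrredLib.geometricallyConnected_iff_nGeom g₃).2 hn₃
  obtain ⟨q₃, h₃⟩ := FPModelLib.exists_isPullback_stage f φ₃ h₂
  -- dimension
  obtain ⟨i₄, φ₄, hd₄⟩ := FPModelLib.exists_fibreDim_eq D c hc g₃ (FPModelLib.isPullback_cone f h₃) 1 hdim'
  let g₄ := pullback.snd g₃ (D.map φ₄)
  haveI : IsProper g₄ := MorphismProperty.pullback_snd _ _ ‹_›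
  haveI : Smooth g₄ := MorphismProperty.pullback_snd _ _ ‹_›
  haveI : GeometricallyConnected g₄ := MorphismProperty.pullback_snd _ _ ‹_›
  obtain ⟨q₄, h₄⟩ := FPModelLib.exists_isPullback_stage f φ₄ h₃
  -- genus
  let W : Set (D.obj i₄) := {z | CohIII.fiberRank g₄ (Coh.structureModule _) 1 z = g}
  have hW : IsClopen W :=
    ⟨(JacLib.isLocallyConstant_genus g₄ hd₄).isClosed_fiber g, (JacLib.isLocallyConstant_genus g₄ hd₄).isOpen_fiber g⟩
  have hWc : Topology.IsLocallyConstructible W :=
    (IsRetrocompact.isConstructible hW.2 (hW.1.isCompact.isRetrocompact hW.2)).isLocallyConstructible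
  obtain ⟨i₅, φ₅, hg₅⟩ := FPModelLib.exists_stage_forall_mem D c hc hWc fun t => by
    have e₂ := JacLib.fiberRank_structure_baseChange (FPModelLib.isPullback_cone f h₄) 1 t
    have e₁ := JacLib.fiberRank_structure_baseChange hf' 1 (S.isoSpec.inv t)
    erw [hpt] at e₁
    show CohIII.fiberRank g₄ (Coh.structureModule _) 1 (c.π.app i₄ t) = g
    refine e₂.symm.trans (e₁.symm.trans ?_)
    rw [Groth.Agent.S18896.fiberRank_eq_genus]
    exact hgen _
  let g₅ := pullback.snd g₄ (D.map φ₅)
  haveI : IsProper g₅ := MorphismProperty.pullback_snd _ _ ‹_›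
  haveI : Smooth g₅ := MorphismProperty.pullback_snd _ _ ‹_›
  haveI : GeometricallyConnected g₅ := MorphismProperty.pullback_snd _ _ ‹_›
  obtain ⟨q₅, h₅⟩ := FPModelLib.exists_isPullback_stage f φ₅ h₄
  refine ⟨D.obj i₅, _, g₅, FPModelLib.zπ S i₅, q₅, inferInstance, FPModelLib.finiteType_Γ_zSys A i₅, ?_, h₅,
    inferInstance, inferInstance, inferInstance, fun s => ?_, fun s => ?_⟩
  · have e : (FPModelLib.zπ S i₅).appTop = ((FPModelLib.zCone A).π.app i₅).appTop ≫ S.isoSpec.hom.appTop := rfl
    rw [e]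
    refine (ConcreteCategory.bijective_of_isIso S.isoSpec.hom.appTop).1.comp ?_
    have e' : ((FPModelLib.zCone A).π.app i₅).appTop = (Scheme.ΓSpecIso (CommRingCat.of i₅.unop.1)).hom ≫
        CommRingCat.ofHom i₅.unop.1.val.toRingHom ≫ (Scheme.ΓSpecIso A).inv := by
      rw [← Category.assoc, Iso.eq_comp_inv]
      exact Scheme.ΓSpecIso_naturality (CommRingCat.ofHom i₅.unop.1.val.toRingHom)
    rw [e']
    exact ((ConcreteCategory.bijective_of_isIso (Scheme.ΓSpecIso A).inv).1.comp Subtype.val_injective).comp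
      (ConcreteCategory.bijective_of_isIso (Scheme.ΓSpecIso (CommRingCat.of i₅.unop.1)).hom).1
  · exact (Groth.Agent.S9777.result g₄ _ g₅ _ (IsPullback.of_hasPullback g₄ (D.map φ₅)) s).trans (hd₄ _)
  · rw [← Groth.Agent.S18896.fiberRank_eq_genus,
      JacLib.fiberRank_structure_baseChange (IsPullback.of_hasPullback g₄ (D.map φ₅)) 1 s]
    exact hg₅ s

end Groth.Agent.S18898
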