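import Groth.Statements.S1890
-- import your own Groth.Agent.* helpers here

set_option autoImplicit false
set_option backward.isDefEq.respectTransparency false
universe u
open CategoryTheory CategoryTheory.Limits AlgebraicGeometry
open Grpd

namespace Groth.Agent.S1890

/-- Take a quasi-compact immersion j : V → Spec A and an element f ∈ A such that j⁻¹(D(f)) is affine and
j(V) ∩ V(f) is closed in Spec A. Then V is affine. -/
theorem result (A : Type u) [CommRing A] (V : Scheme.{u}) (j : V ⟶ Spec (CommRingCat.of A)) [IsImmersion j] [QuasiCompact j] (f : A) (haff : IsAffineOpen (j ⁻¹ᵁ PrimeSpectrum.basicOpen f)) (hcl : IsClosed (Set.range ⇑j ∩ PrimeSpectrum.zeroLocus {f})) : IsAffine V := by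
  let Z : Set (Spec (CommRingCat.of A)) := Set.range ⇑j ∩ PrimeSpectrum.zeroLocus {f}
  suffices IsAffineHom j from isAffine_of_isAffineHom j
  refine isAffineHom_of_forall_exists_isAffineOpen j fun z => ?_
  by_cases hz : z ∈ Z
  · have hzO : z ∈ j.coborderRange := subset_coborder hz.1
    obtain ⟨_, ⟨g, rfl⟩, hzg, hgO⟩ :=
      PrimeSpectrum.isTopologicalBasis_basic_opens.exists_subset_of_mem_open (a := z) hzO j.coborderRange.2
    refine ⟨PrimeSpectrum.basicOpen g, hzg, IsAffineOpen.Spec_basicOpen g, ?_⟩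
    have h₁ : IsAffineOpen (j.coborderRange.ι ⁻¹ᵁ PrimeSpectrum.basicOpen g) :=
      (IsAffineOpen.Spec_basicOpen g).preimage_of_isOpenImmersion _ (by rw [Scheme.Opens.opensRange_ι]; exact hgO)
    have h₂ := h₁.preimage j.liftCoborder
    rw [← Scheme.Hom.comp_preimage, Scheme.Hom.liftCoborder_ι] at h₂
    exact h₂
  · obtain ⟨_, ⟨g, rfl⟩, hzg, hgZ⟩ :=
      PrimeSpectrum.isTopologicalBasis_basic_opens.exists_subset_of_mem_open (a := z) (u := Zᶜ) hz hcl.isOpen_compl
    refine ⟨PrimeSpectrum.basicOpen g, hzg, IsAffineOpen.Spec_basicOpen g, ?_⟩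
    let Vf := j ⁻¹ᵁ PrimeSpectrum.basicOpen f
    haveI : IsAffine Vf.toScheme := haff
    have h := ((IsAffineOpen.Spec_basicOpen g).preimage (Vf.ι ≫ j)).image_of_isOpenImmersion Vf.ι
    have he : Vf.ι ''ᵁ ((Vf.ι ≫ j) ⁻¹ᵁ PrimeSpectrum.basicOpen g) = j ⁻¹ᵁ PrimeSpectrum.basicOpen g := by
      rw [Scheme.Hom.comp_preimage, Scheme.Hom.image_preimage_eq_opensRange_inf, Scheme.Opens.opensRange_ι]
      refine inf_eq_right.2 fun v hv => ?_
      by_contra hvf
      exact hgZ hv ⟨⟨v, rfl⟩, fun a ha => by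
        rw [Set.mem_singleton_iff.1 ha]
        exact not_not.1 hvf⟩
    rwa [he] at h

end Groth.Agent.S1890
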