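import Groth.Statements.S18900
import Groth.Agent.DblCovLib.Scheme
open CategoryTheory AlgebraicGeometry
set_option backward.isDefEq.respectTransparency false
-- import your own Groth.Agent.* helpers here

set_option autoImplicit false
universe u
open CategoryTheory CategoryTheory.Limits AlgebraicGeometry
open DblCov

namespace Groth.Agent.S18900

/-- Let f : X → Y be a double cover, i.e. a finite, flat, locally finitely presented morphism of rank 2
at every point, and assume 2 is invertible in O_Y(Y). Then X carries a Y-automorphism σ with σ ∘ σ =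
id such that f is the quotient of X by the group generated by σ: f is affine and σ-invariant, and
over every open subset of Y the sections of O_Y are exactly the σ-invariant sections of O_X. (The
source adds that σ has order exactly 2, which holds as soon as X is non-empty.) -/
theorem result {X Y : Scheme.{u}} (f : X ⟶ Y)
    [IsFinite f] [Flat f] [LocallyOfFinitePresentation f] (hrk : ∀ y : Y, f.finrank y = 2)
    (h2 : IsUnit (2 : Γ(Y, ⊤))) :
    ∃ σ : Aut X, σ.hom ≫ f = f ∧ σ * σ = 1 ∧ SGA1.IsQuot (Subgroup.zpowers σ).subtype f := by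
  obtain ⟨σ, hσf, hσσ, hloc⟩ := DblCovLib.exists_involution hrk h2
  have hinj : ∀ U : Y.Opens, Function.Injective (f.app U).hom := by
    intro U
    rw [injective_iff_map_eq_zero]
    intro s hs
    refine TopCat.Sheaf.eq_of_locally_eq' Y.sheaf (fun W : {W : Y.Opens // DblCovLib.Good f W ∧ W ≤ U} => W.1) U
      (fun W => homOfLE W.2.2) (fun y hy => ?_) s 0 fun W => ?_
    · obtain ⟨W, hyW, hWU, hW⟩ := DblCovLib.exists_good_le (f := f) hrk y U hy
      exact TopologicalSpace.Opens.mem_iSup.mpr ⟨⟨W, hW, hWU⟩, hyW⟩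
    · rw [map_zero]
      letI := (f.app W.1).hom.toAlgebra
      apply DblCovLib.algebraMap_injective W.2.1.2
      refine Eq.trans ?_ (map_zero _).symm
      exact (DblCovLib.res_app W.2.2 s).symm.trans (by rw [show f.app U s = 0 from hs, map_zero])
  let a : Aut X := ⟨σ, σ, hσσ, hσσ⟩
  have haa : a * a = 1 := Iso.ext hσσ
  have hmem : ∀ g ∈ Subgroup.zpowers a, g = 1 ∨ g = a := by
    intro g hg
    obtain ⟨k, rfl⟩ := Subgroup.mem_zpowers_iff.mp hg
    rcases Int.even_or_odd' k with ⟨m, rfl | rfl⟩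
    · left; rw [zpow_mul, zpow_two, haa, one_zpow]
    · right; rw [zpow_add, zpow_mul, zpow_two, haa, one_zpow, one_mul, zpow_one]
  have hinv : ∀ g : Subgroup.zpowers a, ((Subgroup.zpowers a).subtype g).hom ≫ f = f := by
    intro g
    rcases hmem g.1 g.2 with h | h
    · rw [Subgroup.coe_subtype, h]; exact Category.id_comp f
    · rw [Subgroup.coe_subtype, h]; exact hσf
  refine ⟨a, hσf, haa, ⟨inferInstance, hinv, hinj, fun U s => ⟨?_, fun hs => ?_⟩⟩⟩
  · rintro ⟨b, rfl⟩ g
    have h1 := Scheme.Hom.comp_appLE ((Subgroup.zpowers a).subtype g).hom f U (f ⁻¹ᵁ U)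
      (SGA1.preimage_le_of_inv _ f hinv g U)
    have h2 : (((Subgroup.zpowers a).subtype g).hom ≫ f).appLE U (f ⁻¹ᵁ U)
        (by rw [hinv g]) = f.appLE U (f ⁻¹ᵁ U) le_rfl := by
      simp only [hinv g]
    rw [← Scheme.Hom.app_eq_appLE] at h2
    exact congr($((h1.symm.trans h2)).hom b)
  · have hs' : ∀ W : {W : Y.Opens // DblCovLib.Good f W ∧ W ≤ U},
        ∃ c : Γ(Y, W.1), f.app W.1 c = DblCovLib.res f W.2.2 s := by
      intro W
      obtain ⟨t, e, ht, hσt⟩ := hloc W.1 W.2.1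
      refine ht.2.2 _ ?_
      rw [← hσt]
      have e0 : f ⁻¹ᵁ U ≤ σ ⁻¹ᵁ (f ⁻¹ᵁ U) := by rw [← Scheme.Hom.comp_preimage, hσf]
      have h3 : σ.appLE (f ⁻¹ᵁ U) (f ⁻¹ᵁ U) e0 s = s := hs ⟨a, Subgroup.mem_zpowers a⟩
      have h4 : DblCovLib.res f W.2.2 ≫ σ.appLE (f ⁻¹ᵁ W.1) (f ⁻¹ᵁ W.1) e =
          σ.appLE (f ⁻¹ᵁ U) (f ⁻¹ᵁ U) e0 ≫ DblCovLib.res f W.2.2 := by
        rw [Scheme.Hom.map_appLE, Scheme.Hom.appLE_map]
      have := congr($(h4).hom s)
      exact this.trans (congrArg (DblCovLib.res f W.2.2) h3)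
    choose c hc using hs'
    have hcomp : TopCat.Presheaf.IsCompatible Y.presheaf
        (fun W : {W : Y.Opens // DblCovLib.Good f W ∧ W ≤ U} => W.1) c := by
      intro W W'
      apply hinj (W.1 ⊓ W'.1)
      have h5 := DblCovLib.res_app (f := f) (inf_le_left : W.1 ⊓ W'.1 ≤ W.1) (c W)
      have h6 := DblCovLib.res_app (f := f) (inf_le_right : W.1 ⊓ W'.1 ≤ W'.1) (c W')
      rw [hc] at h5 h6
      refine h5.symm.trans (Eq.trans ?_ h6)
      simp only [DblCovLib.res, ← CommRingCat.comp_apply, ← Functor.map_comp]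
      rfl
    obtain ⟨b, hb, -⟩ := TopCat.Sheaf.existsUnique_gluing' Y.sheaf
      (fun W : {W : Y.Opens // DblCovLib.Good f W ∧ W ≤ U} => W.1) U (fun W => homOfLE W.2.2)
      (fun y hy => by
        obtain ⟨W, hyW, hWU, hW⟩ := DblCovLib.exists_good_le (f := f) hrk y U hy
        exact TopologicalSpace.Opens.mem_iSup.mpr ⟨⟨W, hW, hWU⟩, hyW⟩) c hcomp
    refine ⟨b, TopCat.Sheaf.eq_of_locally_eq' X.sheaf (fun W : {W : Y.Opens // DblCovLib.Good f W ∧ W ≤ U} => f ⁻¹ᵁ W.1)
      (f ⁻¹ᵁ U) (fun W => homOfLE (f.preimage_mono W.2.2)) (fun x hx => ?_) _ _ fun W => ?_⟩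
    · obtain ⟨W, hyW, hWU, hW⟩ := DblCovLib.exists_good_le (f := f) hrk (f x) U hx
      exact TopologicalSpace.Opens.mem_iSup.mpr ⟨⟨W, hW, hWU⟩, hyW⟩
    · refine (DblCovLib.res_app W.2.2 b).trans ?_
      exact (congrArg (f.app W.1) (hb W)).trans (hc W)

end Groth.Agent.S18900
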