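import Groth.Statements.S18904
import Groth.Agent.RelVALib.CurveGoals

set_option autoImplicit false
universe u
open CategoryTheory CategoryTheory.Limits AlgebraicGeometry
open Curves

namespace Groth.Agent.S18904

/-- A smooth curve of genus g ≥ 2, i.e. a proper smooth morphism f : X → S whose fibres are
geometrically connected of dimension one and genus g, is a projective morphism: X is isomorphic over
S to the homogeneous spectrum of a quasi-coherent graded O_S-algebra generated by its degree-one
part, the latter of finite type. -/
theorem result {X S : Scheme.{u}} (f : X ⟶ S)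
    [IsProper f] [Smooth f] [GeometricallyConnected f]
    (hdim : ∀ s : S, topologicalKrullDim ↥(f.fiber s) = 1) (g : ℕ) (hg : 2 ≤ g)
    (hgen : ∀ s : S, letI : (f.fiber s).Over (Spec (S.residueField s)) := ⟨f.fiberToSpecResidueField s⟩
      Curv2.genus (S.residueField s) (f.fiber s) = g) :
    RelProj.IsProjective f := by
  have hI := Groth.Agent.CurveFamLib.isInvertible_omega f hdim
  have hL := Groth.Agent.AmpleLib.isInvertible_tensorPow hI 3
  have hva := Groth.Agent.RelVALib.isRelVeryAmple_curve f hdim hL fun s =>
    Groth.Agent.RelVALib.two_genus_add_one_le f hdim le_rfl s (hg.trans (hgen s).ge)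
  refine Groth.Agent.S5728.result f _ hL hva ?_
  exact Groth.Agent.ExactConstrLib.isFT_of_isFP (Groth.Agent.PullbackMod.isQCoh_and_isFP_of_isFinLocFree _
    (Groth.Agent.RelVALib.isFinLocFree_push f hL fun s =>
      (Groth.Agent.CurveFamLib.fibre_tensorPow f hdim g hgen hg 3 (by norm_num) s).1)).2

end Groth.Agent.S18904
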