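import Mathlib
import Groth.Statements.S18908

set_option autoImplicit false
universe u v w
open scoped TensorProduct
open CAlg

namespace Groth.Agent.S18908

/-- Let K ⊇ k be a finite field extension of degree n and Ω ⊇ k an algebraically closed extension. Then
K is separable over k if and only if Ω ⊗_k K is isomorphic, as an Ω-algebra, to the product of n
copies of Ω. (The source says 'for every (some) algebraically closed extension Ω'; the equivalence
is stated for each fixed Ω, which gives both readings.) -/
theorem result (k : Type u) (K : Type v) (Ω : Type w)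
    [Field k] [Field K] [Algebra k K] [FiniteDimensional k K]
    [Field Ω] [Algebra k Ω] [IsAlgClosed Ω] :
    Algebra.IsSeparable k K ↔ Nonempty ((Ω ⊗[k] K) ≃ₐ[Ω] (Fin (Module.finrank k K) → Ω)) := by
  classical
  open TensorProduct in
  constructor
  · intro hs
    have hcard : Fintype.card (K →ₐ[k] Ω) = Module.finrank k K := AlgHom.card k K Ω
    let φ : (Ω ⊗[k] K) →ₐ[Ω] ((K →ₐ[k] Ω) → Ω) :=
      Pi.algHom Ω (fun _ => Ω) fun σ => Algebra.TensorProduct.lift (AlgHom.id Ω Ω) σ (fun _ _ => Commute.all _ _)
    have hsurj : Function.Surjective φ := by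
      rw [← AlgHom.coe_toLinearMap, ← LinearMap.range_eq_top]
      by_contra hne
      obtain ⟨f, hf0, hf⟩ := Submodule.exists_le_ker_of_lt_top _ (lt_top_iff_ne_top.2 hne)
      refine hf0 (LinearMap.pi_ext' fun σ => LinearMap.ext_ring ?_)
      have hli : LinearIndependent Ω (fun σ : K →ₐ[k] Ω => (⇑(σ.toRingHom.toMonoidHom) : K → Ω)) :=
        (linearIndependent_monoidHom K Ω).comp (fun σ : K →ₐ[k] Ω => σ.toRingHom.toMonoidHom)
          fun σ τ e => AlgHom.ext fun x => DFunLike.congr_fun e x
      have h := Fintype.linearIndependent_iff.1 hli (fun σ => f (Pi.single σ 1)) (funext fun x => ?_) σ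
      · simpa using h
      · have h0 : f (φ (1 ⊗ₜ x)) = 0 := hf (LinearMap.mem_range.2 ⟨1 ⊗ₜ[k] x, rfl⟩)
        rw [pi_eq_sum_univ' (φ (1 ⊗ₜ x)), map_sum] at h0
        simp only [map_smul, smul_eq_mul, φ, Pi.algHom_apply, Algebra.TensorProduct.lift_tmul, map_one, one_mul] at h0
        simpa [Finset.sum_apply, mul_comm] using h0
    have hbij : Function.Bijective φ := by
      refine ⟨(LinearMap.injective_iff_surjective_of_finrank_eq_finrank (f := φ.toLinearMap) ?_).2 hsurj, hsurj⟩
      rw [Module.finrank_baseChange, Module.finrank_pi, hcard]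
    exact ⟨(AlgEquiv.ofBijective φ hbij).trans
      (AlgEquiv.piCongrLeft Ω (fun _ : Fin (Module.finrank k K) => Ω) (Fintype.equivFinOfCardEq hcard))⟩
  · rintro ⟨e⟩
    let ψ : Fin (Module.finrank k K) → (K →ₐ[k] Ω) := fun i =>
      ((Pi.evalAlgHom Ω (fun _ : Fin (Module.finrank k K) => Ω) i).comp e.toAlgHom).restrictScalars k |>.comp
        Algebra.TensorProduct.includeRight
    have hψ : Function.Injective ψ := by
      intro i j hij
      by_contra hne
      obtain ⟨z, hz⟩ := e.surjective (Pi.single i 1)
      have h : ∀ w : Ω ⊗[k] K, e w i = e w j := by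
        intro w
        induction w using TensorProduct.induction_on with
        | zero => simp
        | add a b ha hb => simp [map_add, ha, hb]
        | tmul a x =>
          rw [show a ⊗ₜ[k] x = a • ((1 : Ω) ⊗ₜ[k] x) by rw [TensorProduct.smul_tmul', smul_eq_mul, mul_one],
            map_smul, Pi.smul_apply, Pi.smul_apply]
          exact congrArg (a • ·) (DFunLike.congr_fun hij x)
      have := h z
      rw [hz, Pi.single_eq_same, Pi.single_eq_of_ne (Ne.symm hne)] at this
      exact one_ne_zero this
    have h1 : Module.finrank k K ≤ Nat.card (K →ₐ[k] Ω) := by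
      rw [Nat.card_eq_fintype_card]
      simpa using Fintype.card_le_of_injective ψ hψ
    rw [← Field.finSepDegree_eq_of_isAlgClosed k K Ω] at h1
    exact (Field.finSepDegree_eq_finrank_iff k K).1 (le_antisymm (Field.finSepDegree_le_finrank k K) h1)

end Groth.Agent.S18908
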