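import Groth.Statements.S18912


set_option autoImplicit false
universe u
open CategoryTheory CategoryTheory.Limits AlgebraicGeometry
open TFNodal

namespace Groth.Agent.S18912

open CategoryTheory CategoryTheory.Limits AlgebraicGeometry

open CategoryTheory AlgebraicGeometry TopologicalSpace Opposite Polynomial
set_option backward.isDefEq.respectTransparency false

/-- Let k be an algebraically closed field of characteristic zero, X a reduced scheme locally of finite
type over k, F an O_X-module, d ≥ 1 an integer and τ, τ' : F → O_X two O_X-linear maps whose d-th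
symmetric powers agree, in the sense that for every open U and all sections a_1, …, a_d of F over U
the products τ(a_1)⋯τ(a_d) and τ'(a_1)⋯τ'(a_d) coincide in Γ(U, O_X). Then for every point η of X
whose local ring is a field (a generic point of an irreducible component) there is a d-th root of
unity ξ in k such that, for every section a of F over an open containing η, the germ of τ'(a) at η
is ξ times the germ of τ(a). The published statement is for a coherent module on a projective nodal
curve and concludes that τ' = ξ τ with one root of unity ξ on each connected component; that form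
fails for the union of two lines meeting at a node, F the ideal of the node, τ the inclusion and τ'
equal to τ on one line and to −τ on the other (d = 2), so the conclusion is stated here at each
generic point, i.e. per irreducible component, which is what the stalkwise argument yields. -/
theorem result
    (k : Type u) [Field k] [IsAlgClosed k] [CharZero k]
    (X : Scheme.{u}) [X.Over (Spec (CommRingCat.of k))]
    [LocallyOfFiniteType (X ↘ Spec (CommRingCat.of k))] [AlgebraicGeometry.IsReduced X]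
    (F : X.Modules) (τ τ' : F ⟶ Coh.structureModule X) (d : ℕ) (hd : 1 ≤ d)
    (hS : ∀ (U : X.Opens) (a : Fin d → Γ(F, U)),
      (∏ i, (τ.app U (a i) : Γ(X, U)) : Γ(X, U)) = (∏ i, (τ'.app U (a i) : Γ(X, U)) : Γ(X, U)))
    (η : X) (hη : IsField (X.presheaf.stalk η)) :
    ∃ ξ : k, ξ ^ d = 1 ∧ ∀ (U : X.Opens) (hU : η ∈ U) (a : Γ(F, U)),
      (X.presheaf.germ U η hU (τ'.app U a : Γ(X, U)) : X.presheaf.stalk η) =
        Curv2.stalkMap k X η ξ * X.presheaf.germ U η hU (τ.app U a : Γ(X, U)) := by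
  classical
  letI : Field (X.presheaf.stalk η) := hη.toField
  let ι := Curv2.stalkMap k X η
  obtain ⟨n, rfl⟩ : ∃ n, d = n + 1 := ⟨d - 1, by omega⟩
  let g : ∀ (φ : F ⟶ Coh.structureModule X) (U : X.Opens) (_ : η ∈ U), Γ(F, U) → X.presheaf.stalk η :=
    fun φ U hU a => X.presheaf.germ U η hU (φ.app U a : Γ(X, U))
  have hres : ∀ (φ : F ⟶ Coh.structureModule X) {U V : X.Opens} (hVU : V ≤ U) (hV : η ∈ V) (a : Γ(F, U)),
      g φ V hV (F.presheaf.map (homOfLE hVU).op a) = g φ U (hVU hV) a := fun φ {U V} hVU hV a => by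
    have h := ConcreteCategory.congr_hom (φ.mapPresheaf.naturality (homOfLE hVU).op) a
    show X.presheaf.germ V η hV (φ.app V (F.presheaf.map (homOfLE hVU).op a) : Γ(X, V)) = _
    refine (congrArg (fun s : Γ(X, V) => X.presheaf.germ V η hV s) h).trans ?_
    exact X.presheaf.germ_res_apply (homOfLE hVU) η hV _
  have hprod : ∀ {U U₀ : X.Opens} (hU : η ∈ U) (hU₀ : η ∈ U₀) (a : Γ(F, U)) (a₀ : Γ(F, U₀)),
      g τ U hU a * g τ U₀ hU₀ a₀ ^ n = g τ' U hU a * g τ' U₀ hU₀ a₀ ^ n := fun {U U₀} hU hU₀ a a₀ => by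
    have h := congrArg (X.presheaf.germ (U ⊓ U₀) η ⟨hU, hU₀⟩)
      (hS (U ⊓ U₀) (Fin.cons (F.presheaf.map (homOfLE (inf_le_left : U ⊓ U₀ ≤ U)).op a)
        (fun _ => F.presheaf.map (homOfLE (inf_le_right : U ⊓ U₀ ≤ U₀)).op a₀)))
    rw [map_prod, map_prod, Fin.prod_univ_succ, Fin.prod_univ_succ] at h
    simp only [Fin.cons_zero, Fin.cons_succ, Finset.prod_const, Finset.card_univ, Fintype.card_fin] at h
    rw [← hres τ (inf_le_left : U ⊓ U₀ ≤ U) ⟨hU, hU₀⟩ a, ← hres τ (inf_le_right : U ⊓ U₀ ≤ U₀) ⟨hU, hU₀⟩ a₀,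
      ← hres τ' (inf_le_left : U ⊓ U₀ ≤ U) ⟨hU, hU₀⟩ a, ← hres τ' (inf_le_right : U ⊓ U₀ ≤ U₀) ⟨hU, hU₀⟩ a₀]
    exact h
  by_cases hall : ∀ (U : X.Opens) (hU : η ∈ U) (a : Γ(F, U)), g τ U hU a = 0
  · refine ⟨1, one_pow _, fun U hU a => ?_⟩
    have h := hprod hU hU a a
    rw [← pow_succ', ← pow_succ', hall U hU a, zero_pow n.succ_ne_zero] at h
    show g τ' U hU a = ι 1 * g τ U hU a
    rw [hall U hU a, mul_zero, eq_zero_of_pow_eq_zero h.symm]
  push Not at hall
  obtain ⟨U₀, hU₀, a₀, ha₀⟩ := hall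
  let c := g τ' U₀ hU₀ a₀ / g τ U₀ hU₀ a₀
  have hcd : c ^ (n + 1) = 1 := by
    have h := hprod hU₀ hU₀ a₀ a₀
    rw [← pow_succ', ← pow_succ'] at h
    rw [div_pow, ← h, div_self (pow_ne_zero _ ha₀)]
  obtain ⟨ξ, hξc⟩ : ∃ ξ : k, ι ξ = c := by
    have hc : c ∈ ((Polynomial.X ^ (n + 1) - 1 : Polynomial k).map ι).roots := by
      rw [Polynomial.mem_roots (Polynomial.map_ne_zero (by simpa using Polynomial.X_pow_sub_C_ne_zero n.succ_pos (1 : k)))]
      simp [IsRoot.def, hcd]
    rw [(IsAlgClosed.splits _).roots_map] at hc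
    obtain ⟨ξ, -, h⟩ := Multiset.mem_map.1 hc
    exact ⟨ξ, h⟩
  refine ⟨ξ, ι.injective (by rw [map_pow, hξc, hcd, map_one]), fun U hU a => ?_⟩
  show g τ' U hU a = ι ξ * g τ U hU a
  rw [hξc]
  have h := hprod hU hU₀ a a₀
  rw [show g τ' U₀ hU₀ a₀ = c * g τ U₀ hU₀ a₀ from (div_mul_cancel₀ _ ha₀).symm, mul_pow, ← mul_assoc] at h
  have h2 : g τ U hU a = g τ' U hU a * c ^ n := mul_right_cancel₀ (pow_ne_zero n ha₀) h
  rw [h2, mul_left_comm, ← pow_succ', hcd, mul_one]


end Groth.Agent.S18912
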