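import Groth.Statements.S18913
import Groth.Agent.TFInterpNodeLib.DepthOne

set_option backward.isDefEq.respectTransparency false
set_option backward.isDefEq.respectTransparency.types false

set_option autoImplicit false
universe u
open CategoryTheory CategoryTheory.Limits AlgebraicGeometry
open TFNodal
open Groth.Agent

namespace Groth.Agent.S18913

/-- Let k be an algebraically closed field of characteristic zero, X a connected reduced proper curve
over k (a proper k-scheme of dimension one), L an ample invertible O_X-module, F a coherent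
O_X-module and r a natural number. Then F is of depth one at every closed point (no closed point of
X is an associated point of F) with stalk free of rank r at every generic point (uniform multirank
r) if and only if there are a natural number m and a monomorphism F → (L^{⊗m})^{⊕r} whose cokernel
has zero stalk at every generic point of X (a torsion cokernel). -/
theorem result
    (k : Type u) [Field k] [IsAlgClosed k] [CharZero k]
    (X : Scheme.{u}) [X.Over (Spec (CommRingCat.of k))] [IsProper (X ↘ Spec (CommRingCat.of k))]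
    [AlgebraicGeometry.IsReduced X] [ConnectedSpace X] (hdim : topologicalKrullDim X = 1)
    (L : X.Modules) (hL : CohB1.IsAmple L)
    (F : X.Modules) (hF : Coh.IsCoh F) (r : ℕ) :
    ((∀ x : X, IsClosed ({x} : Set X) → ¬ Curv2.IsAssPoint F x) ∧
      (∀ η : X, IsField (X.presheaf.stalk η) →
        Nonempty (F.presheaf.stalk η ≃ₗ[X.presheaf.stalk η] (Fin r → X.presheaf.stalk η)))) ↔
    (∃ (m : ℕ) (ι : F ⟶ ∐ fun _ : Fin r => CohB1.tensorPow L m), Mono ι ∧
      ∀ η : X, IsField (X.presheaf.stalk η) → Subsingleton ((cokernel ι).presheaf.stalk η)) := by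
  haveI := EulerIneqLib.isNoetherian_proper (X := X) k
  haveI := hF.1
  constructor
  · rintro ⟨hA, hrk⟩
    have hG : Coh.IsCoh ((StalkHomLib.hF F).obj (Coh.structureModule X)) :=
      StalkHomLib.isCoh_hF F _ hF (DevLib.isCoh_structureModule X)
    obtain ⟨m, hm⟩ := AmpleEmb.eventually_isGloballyGenerated hL hG
    have hgg : Curv2.IsGloballyGenerated
        (DCohLib.tmod ((StalkHomLib.hF F).obj (Coh.structureModule X)) (CohB1.tensorPow L m)) := hm m le_rfl
    obtain ⟨ι, hι⟩ := TFInterpNodeLib.exists_sum_map k hF (AmpleLib.isInvertible_tensorPow hL.1 m) hgg hrk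
    refine ⟨m, ι, (PullbackMod.mono_iff_stalk ι).2 fun x => (injective_iff_map_eq_zero _).2 fun z hz => ?_,
      fun η hη => ?_⟩
    · refine TFInterpNodeLib.eq_zero_of_generic hdim F (hA x) z fun y h hy => (hι y hy).1 ?_
      rw [map_zero]
      obtain ⟨U, hxU, t, rfl⟩ := TopCat.Presheaf.exists_germ_eq F.presheaf z
      rw [TopCat.Presheaf.germ_stalkSpecializes_apply, PullbackMod.stalkLin_germ]
      rw [PullbackMod.stalkLin_germ] at hz
      rw [← TopCat.Presheaf.germ_stalkSpecializes_apply _ hxU h, hz, map_zero]
    · haveI : Subsingleton ((∐ fun _ : Fin r => CohB1.tensorPow L m).presheaf.stalk η ⧸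
          LinearMap.range (PullbackMod.stalkLin ι η)) :=
        Submodule.Quotient.subsingleton_iff.2 (LinearMap.range_eq_top.2 (hι η hη).2)
      exact (TFNodeLib.cokerStalkEquiv ι η).symm.toEquiv.subsingleton
  · rintro ⟨m, ι, hι, hcok⟩
    haveI := hι
    have hinj := (PullbackMod.mono_iff_stalk ι).1 hι
    have hP1 : ∀ y : X, Nonempty ((∐ fun _ : Fin r => CohB1.tensorPow L m).presheaf.stalk y ≃ₗ[X.presheaf.stalk y]
        (Fin r → X.presheaf.stalk y)) := fun y =>
      (CurveLib.freeAt_one_of_isInvertible (AmpleLib.isInvertible_tensorPow hL.1 m) y).map fun e =>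
        TFInterpNodeLib.sumStalk (CohB1.tensorPow L m) y ≪≫ₗ
          LinearEquiv.piCongrRight fun _ => e ≪≫ₗ LinearEquiv.funUnique (Fin 1) _ _
    refine ⟨fun x hx hass => ?_, fun η hη => ?_⟩
    · obtain ⟨e⟩ := hP1 x
      have h2 := (hass.map_of_injective _ (hinj x)).map_of_injective e.toLinearMap e.injective
      obtain ⟨-, v, hv⟩ := isAssociatedPrime_iff.1 h2
      have hmem : ∀ a, a ∈ IsLocalRing.maximalIdeal (X.presheaf.stalk x) ↔ a • v = 0 := fun a => by
        rw [hv, Submodule.mem_colon_singleton, Submodule.mem_bot]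
      obtain ⟨i, hi⟩ : ∃ i, v i ≠ 0 := by
        by_contra hall
        push Not at hall
        exact (IsLocalRing.maximalIdeal (X.presheaf.stalk x)).one_notMem ((hmem 1).2 (by
          rw [one_smul]; exact funext hall))
      have hci : ∀ a ∈ IsLocalRing.maximalIdeal (X.presheaf.stalk x), a * v i = 0 := fun a ha =>
        congrFun ((hmem a).1 ha) i
      have hu : IsUnit (v i) := by
        by_contra hn
        exact hi (IsNilpotent.eq_zero ⟨2, by rw [pow_two]; exact hci _ hn⟩)
      refine TFInterpNodeLib.not_isField_of_isClosed hdim hx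
        (IsLocalRing.isField_iff_maximalIdeal_eq.2 ((Submodule.eq_bot_iff _).2 fun a ha => ?_))
      exact hu.mul_left_eq_zero.1 (hci a ha)
    · haveI := hcok η hη
      haveI : Subsingleton ((∐ fun _ : Fin r => CohB1.tensorPow L m).presheaf.stalk η ⧸
          LinearMap.range (PullbackMod.stalkLin ι η)) := (TFNodeLib.cokerStalkEquiv ι η).toEquiv.subsingleton
      obtain ⟨e⟩ := hP1 η
      exact ⟨LinearEquiv.ofBijective (PullbackMod.stalkLin ι η) ⟨hinj η,
        LinearMap.range_eq_top.1 (Submodule.Quotient.subsingleton_iff.1 ‹_›)⟩ ≪≫ₗ e⟩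

end Groth.Agent.S18913
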