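import Groth.Statements.S18914
import Groth.Agent.AssLib.Noetherian
import Groth.Agent.DimFormulaLib.Misc
import Groth.Agent.DCohLib.ProjFlf
import Groth.Agent.EulerIneqLib.Basic


set_option autoImplicit false
universe u
open CategoryTheory CategoryTheory.Limits AlgebraicGeometry
open TFNodal

namespace Groth.Agent.S18914

open CategoryTheory CategoryTheory.Limits AlgebraicGeometry

open Groth.Agent
set_option backward.isDefEq.respectTransparency false

/-- Let k be an algebraically closed field of characteristic zero, X a reduced proper curve over k (a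
proper k-scheme of dimension one), and E, F₁, F₂ coherent O_X-modules that are torsion free (every
stalk is a torsion free module over the local ring: no nonzero element is killed by a
non-zero-divisor). Let q₁ : E → F₁ and q₂ : E → F₂ be epimorphisms, U a dense open subset of X and φ
: F₁|_U ≅ F₂|_U an isomorphism of the restricted quotients, q₁|_U ≫ φ = q₂|_U. Then there is an
isomorphism of quotients ψ : F₁ ≅ F₂, q₁ ≫ ψ = q₂, whose restriction to U is φ. -/
theorem result
    (k : Type u) [Field k] [IsAlgClosed k] [CharZero k]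
    (X : Scheme.{u}) [X.Over (Spec (CommRingCat.of k))] [IsProper (X ↘ Spec (CommRingCat.of k))]
    [AlgebraicGeometry.IsReduced X] (hdim : topologicalKrullDim X = 1)
    (E F₁ F₂ : X.Modules) (hE : Coh.IsCoh E) (hF₁ : Coh.IsCoh F₁) (hF₂ : Coh.IsCoh F₂)
    (htE : TorSh.IsTorsionFree E) (ht₁ : TorSh.IsTorsionFree F₁) (ht₂ : TorSh.IsTorsionFree F₂)
    (q₁ : E ⟶ F₁) (q₂ : E ⟶ F₂) [Epi q₁] [Epi q₂]
    (U : X.Opens) (hU : Dense (U : Set X))
    (φ : F₁.restrict U.ι ≅ F₂.restrict U.ι)
    (hφ : (Scheme.Modules.restrictFunctor U.ι).map q₁ ≫ φ.hom = (Scheme.Modules.restrictFunctor U.ι).map q₂) :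
    ∃ ψ : F₁ ≅ F₂, q₁ ≫ ψ.hom = q₂ ∧ (Scheme.Modules.restrictFunctor U.ι).map ψ.hom = φ.hom := by
  haveI := EulerIneqLib.isNoetherian_proper (X := X) k
  let R := Scheme.Modules.restrictFunctor U.ι
  have key : ∀ (G F : X.Modules), Coh.IsCoh F → TorSh.IsTorsionFree F → ∀ g : G ⟶ F, R.map g = 0 → g = 0 := by
    intro G F hF htF g hg
    haveI := hF.1
    refine Scheme.Modules.hom_ext _ _ fun V => AddCommGrpCat.hom_ext (AddMonoidHom.ext fun m => ?_)
    show g.app V m = 0
    refine AssLib.eq_zero_of_germ_ass (M := F) _ fun x hx hxa => ?_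
    have hxU : x ∈ U := by
      refine DimFormulaLib.mem_of_dense U.isOpen hU fun w hw => ?_
      let A := X.presheaf.stalk x
      haveI := htF x
      obtain ⟨hp, z, hz⟩ := (isAssociatedPrime_iff_exists_injective_linearMap _ _).1 hxa
      have hzd : ∀ a ∈ IsLocalRing.maximalIdeal A, ∃ b : A, b ≠ 0 ∧ a * b = 0 := fun a ha => by
        by_contra hne
        push Not at hne
        have hreg : IsRegular a := by
          have hl : IsLeftRegular a := fun b c hbc => sub_eq_zero.1 (by_contra fun h0 => hne _ h0 (by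
            have hbc' : a * b = a * c := hbc
            rw [mul_sub, hbc', sub_self]))
          exact ⟨hl, fun b c hbc => hl (by
            show a * b = a * c
            simpa only [mul_comm a] using hbc)⟩
        have h1 : z (Ideal.Quotient.mk _ 1) ≠ 0 := fun h => by
          rw [← map_zero z] at h
          exact hp.ne_top ((Ideal.eq_top_iff_one _).2 (Ideal.Quotient.eq_zero_iff_mem.1 (hz h)))
        refine h1 ((Module.IsTorsionFree.isSMulRegular hreg) ?_)
        show a • z (Ideal.Quotient.mk _ 1) = a • 0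
        rw [smul_zero, ← map_smul, show a • (Ideal.Quotient.mk (IsLocalRing.maximalIdeal A) (1 : A)) = 0 from
          (by rw [← Ideal.Quotient.mk_eq_mk, ← Submodule.Quotient.mk_smul, smul_eq_mul, mul_one]
              exact (Submodule.Quotient.mk_eq_zero _).2 ha), map_zero]
      have hsub : ((IsLocalRing.maximalIdeal A : Ideal A) : Set A) ⊆ ⋃ p ∈ (⊥ : Ideal A).minimalPrimes, (p : Set A) := by
        intro a ha
        rw [Ideal.iUnion_minimalPrimes]
        obtain ⟨b, hb, hab⟩ := hzd a ha
        refine ⟨b, fun h => hb ?_, ?_⟩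
        · obtain ⟨e, he⟩ := h
          exact IsReduced.eq_zero b ⟨e, Ideal.mem_bot.1 he⟩
        · exact Ideal.le_radical (Ideal.mem_bot.2 hab)
      obtain ⟨p, hpm, hle⟩ := (Ideal.subset_union_prime_finite (Ideal.finite_minimalPrimes_of_isNoetherianRing A ⊥) ⊥ ⊥
        (fun i hi _ _ => hi.1.1)).1 hsub
      obtain ⟨q, hq⟩ : w ∈ Set.range (X.fromSpecStalk x) := by
        rw [Scheme.range_fromSpecStalk]; exact hw
      have hqm : q = IsLocalRing.closedPoint A := PrimeSpectrum.ext (le_antisymm
        (IsLocalRing.le_maximalIdeal q.isPrime.ne_top)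
        (hle.trans (hpm.2 ⟨q.isPrime, bot_le⟩ ((IsLocalRing.le_maximalIdeal q.isPrime.ne_top).trans hle))))
      rw [← hq, hqm, Scheme.fromSpecStalk_closedPoint]
    let W : X.Opens := U.ι ''ᵁ (U.ι ⁻¹ᵁ V)
    have hWV : W ≤ V := U.ι.image_preimage_le V
    have hxW : x ∈ W := ⟨⟨x, hxU⟩, hx, rfl⟩
    rw [← TopCat.Presheaf.germ_res_apply F.presheaf (homOfLE hWV) x hxW]
    refine (congrArg (F.presheaf.germ W x hxW) ?_).trans (map_zero _)
    refine (NatTrans.naturality_apply g.mapPresheaf (homOfLE hWV).op m).symm.trans ?_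
    exact congr($(hg).app (U.ι ⁻¹ᵁ V) (G.presheaf.map (homOfLE hWV).op m))
  have hk₁ : kernel.ι q₁ ≫ q₂ = 0 := key _ _ hF₂ ht₂ _ (by
    rw [Functor.map_comp, ← hφ, ← Category.assoc, ← Functor.map_comp, kernel.condition, Functor.map_zero, zero_comp])
  have hk₂ : kernel.ι q₂ ≫ q₁ = 0 := key _ _ hF₁ ht₁ _ (by
    have hφ' : R.map q₁ = R.map q₂ ≫ φ.inv := (Iso.eq_comp_inv φ).2 hφ
    rw [Functor.map_comp, hφ', ← Category.assoc, ← Functor.map_comp, kernel.condition, Functor.map_zero, zero_comp])
  let a := Abelian.epiDesc q₁ q₂ hk₁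
  let b := Abelian.epiDesc q₂ q₁ hk₂
  have ha : q₁ ≫ a = q₂ := Abelian.comp_epiDesc _ _ _
  have hb : q₂ ≫ b = q₁ := Abelian.comp_epiDesc _ _ _
  let ψ : F₁ ≅ F₂ :=
    { hom := a
      inv := b
      hom_inv_id := (cancel_epi q₁).1 (by rw [reassoc_of% ha, hb, Category.comp_id])
      inv_hom_id := (cancel_epi q₂).1 (by rw [reassoc_of% hb, ha, Category.comp_id]) }
  refine ⟨ψ, ha, ?_⟩
  haveI : Epi (R.map q₁) := inferInstance
  exact (cancel_epi (R.map q₁)).1 (by rw [hφ, ← Functor.map_comp, ha])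


end Groth.Agent.S18914
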