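import Groth.Statements.S18915
import Groth.Agent.TFInterpNodeLib.DepthTwo

set_option backward.isDefEq.respectTransparency false
set_option backward.isDefEq.respectTransparency.types false

set_option autoImplicit false
universe u
open CategoryTheory CategoryTheory.Limits AlgebraicGeometry
open TFNodal
open Groth.Agent

namespace Groth.Agent.S18915

/-- Let k be an algebraically closed field of characteristic zero, X a reduced proper curve over k (a
proper k-scheme of dimension one) without isolated points (no closed point is open, i.e. X is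
one-dimensional at every point), C a smooth irreducible k-scheme of dimension one and c a closed
point of C. Put Z = X ×_k C with projections p_X and p_C, let Y be a nonempty finite set of closed
points of Z lying over c, and let j : U → Z be the inclusion of the open complement of Y. Then for
every coherent torsion free O_X-module F (every stalk a torsion free module over the local ring),
the unit map p_X^* F → j_* j^* (p_X^* F) is an isomorphism. -/
theorem result
    (k : Type u) [Field k] [IsAlgClosed k] [CharZero k]
    (X : Scheme.{u}) [X.Over (Spec (CommRingCat.of k))] [IsProper (X ↘ Spec (CommRingCat.of k))]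
    [AlgebraicGeometry.IsReduced X] (hdim : topologicalKrullDim X = 1)
    (hpure : ∀ x : X, IsClosed ({x} : Set X) → ¬ IsOpen ({x} : Set X))
    (C : Scheme.{u}) [C.Over (Spec (CommRingCat.of k))] [Smooth (C ↘ Spec (CommRingCat.of k))]
    [IrreducibleSpace C] (hdimC : topologicalKrullDim C = 1)
    (c : C) (hc : IsClosed ({c} : Set C))
    (Y : Set ↑(pullback (X ↘ Spec (CommRingCat.of k)) (C ↘ Spec (CommRingCat.of k))))
    (hYfin : Y.Finite) (hYne : Y.Nonempty) (hYcl : ∀ z ∈ Y, IsClosed ({z} : Set _))
    (hYc : ∀ z ∈ Y, (pullback.snd (X ↘ Spec (CommRingCat.of k)) (C ↘ Spec (CommRingCat.of k))).base z = c)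
    (U : (pullback (X ↘ Spec (CommRingCat.of k)) (C ↘ Spec (CommRingCat.of k))).Opens)
    (hU : (U : Set _) = Yᶜ)
    (F : X.Modules) (hF : Coh.IsCoh F) (htF : TorSh.IsTorsionFree F) :
    IsIso ((Scheme.Modules.restrictAdjunction U.ι).unit.app
      ((Scheme.Modules.pullback (pullback.fst (X ↘ Spec (CommRingCat.of k)) (C ↘ Spec (CommRingCat.of k)))).obj F)) := by
  haveI := EulerIneqLib.isNoetherian_proper (X := X) k
  haveI := hF.1
  let f := pullback.fst (X ↘ Spec (CommRingCat.of k)) (C ↘ Spec (CommRingCat.of k))
  haveI : IsLocallyNoetherian (TFInterpNodeLib.prodX k X C) := LocallyOfFiniteType.isLocallyNoetherian f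
  let FZ := (Scheme.Modules.pullback f).obj F
  have hFZ : Coh.IsCoh FZ := PullbackMod.isCoh_pullback f F hF
  haveI := hFZ.1
  haveI : Coh.IsQCoh ((Scheme.Modules.restrictFunctor U.ι).obj FZ) := inferInstance
  haveI : Coh.IsQCoh ((Scheme.Modules.pushforward U.ι).obj ((Scheme.Modules.restrictFunctor U.ι).obj FZ)) :=
    QCohLib.isQCoh_pushforward _ _
  let φ : FZ ⟶ (Scheme.Modules.pushforward U.ι).obj ((Scheme.Modules.restrictFunctor U.ι).obj FZ) :=
    (Scheme.Modules.restrictAdjunction U.ι).unit.app FZ
  show IsIso φ
  refine AssLib.isIso_of_depth φ hFZ fun z => ?_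
  by_cases hz : z ∈ U
  · exact Or.inl (S1575.unit_stalk_bijective U.ι FZ (by rw [Scheme.Opens.opensRange_ι]; exact hz))
  · have hzY : z ∈ Y := by
      by_contra h
      exact hz (show z ∈ (U : Set _) from hU ▸ h)
    refine Or.inr ⟨TFInterpNodeLib.two_le_depth_pullback k X C hpure hdimC hF htF z (hYcl z hzY), fun hass => hz ?_⟩
    obtain ⟨y, rfl, -⟩ := AssLib.exists_isWeakAssPoint_of_push U.ι _
      ((AssLib.isWeakAssPoint_iff_isAssPoint _ z).mpr hass)
    exact y.2

end Groth.Agent.S18915
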