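import Groth.Statements.S18916
import Groth.Agent.RefOne.Stalk
import Groth.Agent.UnivOpenAtLib.Immediate
import Groth.Agent.S16583
import Groth.Agent.EulerIneqLib.Basic

set_option autoImplicit false
universe u
open CategoryTheory CategoryTheory.Limits AlgebraicGeometry
open TFNodal

namespace Groth.Agent.S18916

open CategoryTheory CategoryTheory.Limits AlgebraicGeometry

open Groth.Agent
set_option backward.isDefEq.respectTransparency false

/-- Let k be an algebraically closed field of characteristic zero, X a reduced proper curve over k (a
proper k-scheme of dimension one) without isolated points (no closed point is open, i.e. X is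
one-dimensional at every point) and F a coherent O_X-module. Then the dual 𝓗om(F, O_X) is torsion
free: no closed point of X is an associated point of it. -/
theorem result
    (k : Type u) [Field k] [IsAlgClosed k] [CharZero k]
    (X : Scheme.{u}) [X.Over (Spec (CommRingCat.of k))] [IsProper (X ↘ Spec (CommRingCat.of k))]
    [AlgebraicGeometry.IsReduced X] (hdim : topologicalKrullDim X = 1)
    (hpure : ∀ x : X, IsClosed ({x} : Set X) → ¬ IsOpen ({x} : Set X))
    (F : X.Modules) (hF : Coh.IsCoh F) (x : X) (hx : IsClosed ({x} : Set X)) :
    ¬ Curv2.IsAssPoint (RefHull.dual F) x := by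
  haveI := EulerIneqLib.isNoetherian_proper (X := X) k
  intro hass
  obtain ⟨hp, θ, hθ⟩ := isAssociatedPrime_iff.mp hass
  refine hpure x hx (UnivOpenAtLib.isOpen_singleton_of_generization x hx fun g hg =>
    S16583.eq_of_specializes_of_isField (IsLocalRing.isField_iff_maximalIdeal_eq.2 ?_) hg)
  by_contra hne
  refine hp.ne_top (hθ.trans (eq_top_iff.mpr fun a _ => ?_))
  rw [Submodule.mem_colon_singleton, Submodule.mem_bot]
  have h0 : θ = 0 := by
    refine (RefOne.dualStalk hF x).injective ?_
    rw [map_zero]
    refine LinearMap.ext fun v => ?_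
    have hr : ∀ r ∈ IsLocalRing.maximalIdeal (X.presheaf.stalk x), r * RefOne.dualStalk hF x θ v = 0 := fun r hr => by
      rw [hθ, Submodule.mem_colon_singleton, Submodule.mem_bot] at hr
      have := congrArg (fun t => RefOne.dualStalk hF x t v) hr
      simpa using this
    by_cases hu : IsUnit (RefOne.dualStalk hF x θ v)
    · exact absurd ((Submodule.eq_bot_iff _).2 fun r hr' => hu.mul_left_eq_zero.1 (hr r hr')) hne
    · exact IsReduced.eq_zero _ ⟨2, (pow_two _).trans (hr _ ((IsLocalRing.mem_maximalIdeal _).2 hu))⟩
  rw [h0, smul_zero]

end Groth.Agent.S18916
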