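import Groth.Statements.S18917
import Groth.Agent.CompSplitLib.Basic
import Groth.Agent.K0LocLib.Basic

set_option backward.isDefEq.respectTransparency false
set_option backward.isDefEq.respectTransparency.types false

set_option autoImplicit false
universe u
open CategoryTheory CategoryTheory.Limits AlgebraicGeometry
open VBCurve
open Groth.Agent

namespace Groth.Agent.S18917

/-- Let k be an algebraically closed field of characteristic zero, Y a smooth proper k-scheme of
dimension one, possibly disconnected, L an ample invertible O_Y-module (the polarization) and E a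
nonzero finite locally free O_Y-module. For an open and closed U ⊆ Y with inclusion j write E_U =
j_*(E|_U), the part of E supported on U (a direct summand of E), χ for the Euler characteristic over
k and α(M) = χ(M ⊗ L) − χ(M) for the multiplicity. Then E is semistable of dimension one with
respect to L if and only if, for every connected component U of Y with E_U ≠ 0, the module E_U is
semistable of dimension one with respect to L and has the same reduced Hilbert polynomial as E, that
is χ(E_U) · α(E) = χ(E) · α(E_U). (Equality of reduced Hilbert polynomials is the source's condition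
that the slope of E equals the slope of E|_U plus the correction term attached to the component.) -/
theorem result
    (k : Type u) [Field k] [IsAlgClosed k] [CharZero k]
    (Y : Scheme.{u}) [Y.Over (Spec (CommRingCat.of k))] [IsProper (Y ↘ Spec (CommRingCat.of k))]
    [Smooth (Y ↘ Spec (CommRingCat.of k))] (hdim : topologicalKrullDim Y = 1)
    (L : Y.Modules) (hL : CohB1.IsAmple L)
    (E : Y.Modules) (hE : FlatMod.IsFinLocFree E) (hE0 : ¬ IsZero E) :
    ShStab.IsSemistable k Y L E 1 ↔
      ∀ U : Y.Opens, IsClopen (U : Set Y) → _root_.IsConnected (U : Set Y) →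
        ¬ IsZero ((Scheme.Modules.pushforward U.ι).obj (E.restrict U.ι)) →
        ShStab.IsSemistable k Y L ((Scheme.Modules.pushforward U.ι).obj (E.restrict U.ι)) 1 ∧
          Curv2.euler k Y ((Scheme.Modules.pushforward U.ι).obj (E.restrict U.ι)) *
              (Curv2.euler k Y (CohB1.tensorMod E L) - Curv2.euler k Y E) =
            Curv2.euler k Y E *
              (Curv2.euler k Y (CohB1.tensorMod ((Scheme.Modules.pushforward U.ι).obj (E.restrict U.ι)) L) -
                Curv2.euler k Y ((Scheme.Modules.pushforward U.ι).obj (E.restrict U.ι))) := by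
  classical
  haveI := EulerIneqLib.isNoetherian_proper (X := Y) k
  have hEc : Coh.IsCoh E := CurveLib.isCoh_of_isFinLocFree hE
  have hd : ∀ M : Y.Modules, ShStabLib.DimLE 1 M := fun M => lt_of_le_of_lt
    ((Topology.IsInducing.subtypeVal (t := CohB1.support M)).topologicalKrullDim_le.trans hdim.le) (by decide)
  obtain ⟨pE, -, hpE⟩ := ShStabLib.exists_hp k hL hEc (hd E)
  have hRed : ∀ (M : Y.Modules) (hM : Coh.IsCoh M) (pM : Polynomial ℚ), ShStabLib.HP k L M pM →
      (StabCat.RedEq 1 pM pE ↔
        Curv2.euler k Y M * (Curv2.euler k Y (CohB1.tensorMod E L) - Curv2.euler k Y E) =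
          Curv2.euler k Y E * (Curv2.euler k Y (CohB1.tensorMod M L) - Curv2.euler k Y M)) := fun M hM pM hpM => by
    obtain ⟨hP, hPa⟩ := CompSplitLib.coeffs_of_euler k hL hM (hd M) hpM
    obtain ⟨hQ, hQa⟩ := CompSplitLib.coeffs_of_euler k hL hEc (hd E) hpE
    rw [StabCat.RedEq, hPa, hQa, hP, hQ]
    constructor
    · intro h
      have h0 := congrArg (fun P => Polynomial.coeff P 0) h
      simp only [smul_add, Polynomial.coeff_add, Polynomial.coeff_smul, Polynomial.mul_coeff_zero,
        Polynomial.coeff_X_zero, mul_zero, zero_add, Polynomial.coeff_C_zero, smul_eq_mul] at h0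
      exact_mod_cast (mul_comm _ _).trans (h0.trans (mul_comm _ _))
    · intro h
      have h' := congrArg (fun z : ℤ => (z : ℚ)) h
      push_cast at h'
      simp only [Polynomial.smul_eq_C_mul, mul_add, ← mul_assoc, ← Polynomial.C_mul]
      rw [mul_comm ((Curv2.euler k Y (CohB1.tensorMod E L) : ℚ) - Curv2.euler k Y E) (Curv2.euler k Y M : ℚ), h',
        mul_comm ((Curv2.euler k Y (CohB1.tensorMod E L) : ℚ) - Curv2.euler k Y E), mul_comm (Curv2.euler k Y E : ℚ)]
  haveI := DeltaBC.finite_connectedComponents (T := Y)
  haveI := Fintype.ofFinite (_root_.ConnectedComponents Y)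
  let V : _root_.ConnectedComponents Y → Y.Opens := fun c =>
    ⟨(ConnectedComponents.mk : Y → _) ⁻¹' {c}, (isClopen_discrete _).preimage ConnectedComponents.continuous_coe |>.2⟩
  have hVc : ∀ c, IsClosed (V c : Set Y) := fun c =>
    ((isClopen_discrete ({c} : Set (_root_.ConnectedComponents Y))).preimage ConnectedComponents.continuous_coe).1
  have hVconn : ∀ c, _root_.IsConnected (V c : Set Y) := fun c => by
    obtain ⟨y, rfl⟩ := ConnectedComponents.surjective_coe c
    show _root_.IsConnected ((ConnectedComponents.mk : Y → _) ⁻¹' {ConnectedComponents.mk y})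
    rw [connectedComponents_preimage_singleton]
    exact isConnected_connectedComponent
  have hdisj : ∀ c ∈ (Finset.univ : Finset (_root_.ConnectedComponents Y)), ∀ c' ∈ Finset.univ, c ≠ c' →
      ∀ y, y ∈ V c → y ∉ V c' := fun c _ c' _ hne y h h' => hne ((h : _ = c).symm.trans (h' : _ = c'))
  have hsplit : ∀ (M : Y.Modules), Coh.IsCoh M → ∀ (pM : Polynomial ℚ), ShStabLib.HP k L M pM →
      ∀ q : _root_.ConnectedComponents Y → Polynomial ℚ, (∀ c, ShStabLib.HP k L (CompSplitLib.part (V c) M) (q c)) →
        pM = ∑ c, q c := fun M hM pM hpM q hq =>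
    CompSplitLib.hp_split k hL Finset.univ V hVc hdisj hM (hd M)
      (fun y hy => (hy (ConnectedComponents.mk y) (Finset.mem_univ _) rfl).elim) hpM q fun c _ => hq c
  choose qE hqE using fun c => ShStabLib.exists_hp k hL (CompSplitLib.isCoh_part (hVc c) hEc) (hd (CompSplitLib.part (V c) E))
  have hqsum := hsplit E hEc pE hpE qE fun c => (hqE c).2
  constructor
  · intro hs U hU hconn hU0
    obtain ⟨s, hsm⟩ := CompSplitLib.exists_section hU.1 E
    haveI := hsm
    have hcU := CompSplitLib.isCoh_part hU.1 hEc
    obtain ⟨pU, -, hpU⟩ := ShStabLib.exists_hp k hL hcU (hd (CompSplitLib.part U E))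
    have hαE := ShStabLib.alpha_pos_of_isPure k hL hs.1 hs.2.1 hs.2.2.1 hpE
    have hzero : ∀ c, StabCat.RedEq 1 (qE c) pE := by
      have hle : ∀ c, 0 ≤ (ShStabLib.cr 1 (qE c) pE).leadingCoeff := fun c => by
        by_cases h0 : IsZero (CompSplitLib.part (V c) E)
        · rw [ShStabLib.hp_unique k (hqE c).2 (Q := 0) fun m => by
            rw [Polynomial.eval_zero]; exact HilbLib.chi_isZero k hL.1 h0 m]
          simp [ShStabLib.cr, StabCat.alpha]
        · obtain ⟨s', hs'⟩ := CompSplitLib.exists_section (hVc c) E
          haveI := hs'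
          exact ShStabLib.redLE_iff.1 (ShStabLib.ss_le k hL hs s' (CompSplitLib.isCoh_part (hVc c) hEc) h0 (hqE c).2 hpE)
      have hsum : ∑ c, ShStabLib.cr 1 (qE c) pE = 0 := by
        have hcr : ∀ (S : Finset (_root_.ConnectedComponents Y)),
            ∑ c ∈ S, ShStabLib.cr 1 (qE c) pE = ShStabLib.cr 1 (∑ c ∈ S, qE c) pE := fun S => by
          induction S using Finset.induction_on with
          | empty => simp [ShStabLib.cr, StabCat.alpha]
          | insert i S hi ih => rw [Finset.sum_insert hi, Finset.sum_insert hi, ih, ShStabLib.cr_add_left]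
        rw [hcr, ← hqsum, ShStabLib.cr_self]
      intro c
      rw [ShStabLib.redEq_iff]
      by_contra hne
      have hpos : 0 < (ShStabLib.cr 1 (qE c) pE).leadingCoeff :=
        lt_of_le_of_ne (hle c) fun h => hne (Polynomial.leadingCoeff_eq_zero.1 h.symm)
      have hrest : ∀ S : Finset (_root_.ConnectedComponents Y),
          0 ≤ (∑ c' ∈ S, ShStabLib.cr 1 (qE c') pE).leadingCoeff := fun S => by
        induction S using Finset.induction_on with
        | empty => simp
        | insert i S hi ih => rw [Finset.sum_insert hi]; exact ShStabLib.lc_add_nonneg (hle i) ih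
      have h := ShStabLib.lc_add_pos hpos (hrest (Finset.univ.erase c))
      rw [Finset.add_sum_erase _ (fun c' => ShStabLib.cr 1 (qE c') pE) (Finset.mem_univ c), hsum, Polynomial.leadingCoeff_zero] at h
      exact lt_irrefl _ h
    obtain ⟨y, hy⟩ := hconn.nonempty
    obtain rfl : U = V (ConnectedComponents.mk y) := by
      refine TopologicalSpace.Opens.ext ?_
      show (U : Set Y) = (ConnectedComponents.mk : Y → _) ⁻¹' {ConnectedComponents.mk y}
      rw [connectedComponents_preimage_singleton]
      exact subset_antisymm (hconn.isPreconnected.subset_connectedComponent hy) (hU.connectedComponent_subset hy)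
    have heq := hzero (ConnectedComponents.mk y)
    rw [ShStabLib.hp_unique k (hqE (ConnectedComponents.mk y)).2 hpU] at heq
    refine ⟨⟨hcU, hU0, ShStabLib.isPure_of_mono hs.2.2.1 s, fun F ι hι hF hF0 _ pF pU' hpF hpU' => ?_⟩,
      (hRed _ hcU pU hpU).1 heq⟩
    haveI := hι
    rw [ShStabLib.hp_unique k hpU' hpU]
    have h1 := ShStabLib.ss_le k hL hs (ι ≫ s) hF hF0 hpF hpE
    have hαU := ShStabLib.alpha_pos_of_isPure k hL hcU hU0 (ShStabLib.isPure_of_mono hs.2.2.1 s) hpU
    have hαF := ShStabLib.alpha_nonneg k hL hF (hd F) hpF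
    exact ShStabLib.redLE_trans hαE hαF hαU.le h1 (ShStabLib.redLE_of_eq heq.symm)
  · intro h
    have hpartE : ∀ c, ¬ IsZero (CompSplitLib.part (V c) E) →
        ShStab.IsSemistable k Y L (CompSplitLib.part (V c) E) 1 ∧ StabCat.RedEq 1 (qE c) pE := fun c h0 =>
      ⟨(h (V c) ⟨hVc c, (V c).2⟩ (hVconn c) h0).1, (hRed _ (CompSplitLib.isCoh_part (hVc c) hEc) _ (hqE c).2).2
        (h (V c) ⟨hVc c, (V c).2⟩ (hVconn c) h0).2⟩
    have hne : ∀ (M : Y.Modules), ¬ IsZero M → ∃ c, ¬ IsZero (CompSplitLib.part (V c) M) := fun M hM0 => by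
      by_contra hall
      push Not at hall
      refine hM0 (K0LocLib.isZero_of_stalks fun y => ?_)
      haveI := not_not.1 (Set.eq_empty_iff_forall_notMem.1 (HilbLib.support_eq_empty_of_isZero (hall (ConnectedComponents.mk y))) y)
      exact (CompSplitLib.bijective_res (V (ConnectedComponents.mk y)) M (show y ∈ V _ from rfl)).1.subsingleton
    have hpure : ShStab.IsPure Y E 1 := fun F ι hι hF hF0 => by
      haveI := hι
      obtain ⟨c, hc⟩ := hne F hF0
      haveI := CompSplitLib.mono_partMap (hVc c) ι
      have hc' : ¬ IsZero (CompSplitLib.part (V c) E) := fun hz =>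
        hc (hz.of_mono (CompSplitLib.partMap (V c) ι))
      have h1 := (hpartE c hc').1.2.2.1 _ (CompSplitLib.partMap (V c) ι) inferInstance (CompSplitLib.isCoh_part (hVc c) hF) hc
      obtain ⟨s, hs⟩ := CompSplitLib.exists_section (hVc c) F
      haveI := hs
      refine le_antisymm ((Topology.IsInducing.subtypeVal (t := CohB1.support F)).topologicalKrullDim_le.trans hdim.le) ?_
      rw [← h1]
      exact (Topology.IsEmbedding.inclusion ((fun x hx hsub => hx (by haveI := hsub; exact ((PullbackMod.mono_iff_stalk s).1 inferInstance x).subsingleton)) : CohB1.support _ ⊆ CohB1.support F)).isInducing.topologicalKrullDim_le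
    refine ⟨hEc, hE0, hpure, fun F ι hι hF hF0 _ pF pE' hpF hpE' => ?_⟩
    haveI := hι
    rw [ShStabLib.hp_unique k hpE' hpE]
    choose qF hqF using fun c => ShStabLib.exists_hp k hL (CompSplitLib.isCoh_part (hVc c) hF) (hd (CompSplitLib.part (V c) F))
    rw [hsplit F hF pF hpF qF fun c => (hqF c).2, ShStabLib.redLE_iff]
    have hone : ∀ c, 0 ≤ (ShStabLib.cr 1 (qF c) pE).leadingCoeff := fun c => by
      by_cases h0 : IsZero (CompSplitLib.part (V c) F)
      · rw [ShStabLib.hp_unique k (hqF c).2 (Q := 0) fun m => by
          rw [Polynomial.eval_zero]; exact HilbLib.chi_isZero k hL.1 h0 m]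
        simp [ShStabLib.cr, StabCat.alpha]
      · haveI := CompSplitLib.mono_partMap (hVc c) ι
        have hc' : ¬ IsZero (CompSplitLib.part (V c) E) := fun hz => h0 (hz.of_mono (CompSplitLib.partMap (V c) ι))
        obtain ⟨hss, heq⟩ := hpartE c hc'
        have h1 := ShStabLib.ss_le k hL hss (CompSplitLib.partMap (V c) ι) (CompSplitLib.isCoh_part (hVc c) hF) h0
          (hqF c).2 (hqE c).2
        exact ShStabLib.redLE_iff.1 (ShStabLib.redLE_trans
          (ShStabLib.alpha_pos_of_isPure k hL hss.1 hc' hss.2.2.1 (hqE c).2)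
          (ShStabLib.alpha_nonneg k hL (CompSplitLib.isCoh_part (hVc c) hF) (hd _) (hqF c).2)
          (ShStabLib.alpha_pos_of_isPure k hL hEc hE0 hpure hpE).le h1 (ShStabLib.redLE_of_eq heq))
    have hcr : ∀ (S : Finset (_root_.ConnectedComponents Y)),
        0 ≤ (ShStabLib.cr 1 (∑ c ∈ S, qF c) pE).leadingCoeff := fun S => by
      induction S using Finset.induction_on with
      | empty => simp [ShStabLib.cr, StabCat.alpha]
      | insert i S hi ih => rw [Finset.sum_insert hi, ShStabLib.cr_add_left]; exact ShStabLib.lc_add_nonneg (hone i) ih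
    exact hcr _

end Groth.Agent.S18917
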