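import Groth.Statements.S18919
import Groth.Agent.TFInterpNodeLib.Local

set_option backward.isDefEq.respectTransparency false
set_option backward.isDefEq.respectTransparency.types false

set_option autoImplicit false
universe u
open CategoryTheory CategoryTheory.Limits AlgebraicGeometry
open TFNodal
open Groth.Agent

namespace Groth.Agent.S18919

/-- Let k be an algebraically closed field of characteristic zero, X a connected proper curve over k (a
proper k-scheme of dimension one) whose closed points are smooth points or nodes, and F a coherent
torsion free O_X-module (every stalk a torsion free module over the local ring). Let x be a node at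
which the stalk F_x is isomorphic, as an O_{X,x}-module, to m_x^{⊕a} ⊕ O_{X,x}^{⊕b} (F of type given
by a and b at x). Then there is an open neighbourhood U of x containing no other node such that F|_U
is isomorphic to I|_U^{⊕a} ⊕ O_U^{⊕b}, where I ⊆ O_X is the ideal sheaf of the reduced closed point
x (existence of an isomorphism; the source produces one whose stalk at x is the given one). The
published statement assumes F of uniform multirank r with b = r − a; this row allows any a and b,
the argument being local at x. -/
theorem result
    (k : Type u) [Field k] [IsAlgClosed k] [CharZero k]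
    (X : Scheme.{u}) [X.Over (Spec (CommRingCat.of k))] [IsProper (X ↘ Spec (CommRingCat.of k))]
    [ConnectedSpace X] (hdim : topologicalKrullDim X = 1) (hnod : Curv2.AtWorstNodal k X)
    (F : X.Modules) (hF : Coh.IsCoh F) (htF : TorSh.IsTorsionFree F)
    (x : X) (hx : Curv2.IsNode k X x) (a b : ℕ)
    (hΦ : Nonempty (F.presheaf.stalk x ≃ₗ[X.presheaf.stalk x]
      ((Fin a → IsLocalRing.maximalIdeal (X.presheaf.stalk x)) × (Fin b → X.presheaf.stalk x)))) :
    ∃ U : X.Opens, x ∈ U ∧ (∀ y ∈ U, Curv2.IsNode k X y → y = x) ∧
      Nonempty (F.restrict U.ι ≅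
        (∐ fun _ : Fin a =>
            (ClSub.idealMod (Scheme.IdealSheafData.vanishingIdeal (⟨{x}, hx.1⟩ : TopologicalSpace.Closeds X))).restrict U.ι) ⨿
          (∐ fun _ : Fin b => Coh.structureModule (↑U : Scheme.{u}))) := by
  haveI := EulerIneqLib.isNoetherian_proper (X := X) k
  classical
  have hc : IsClosed {y : X | Curv2.IsNode k X y ∧ y ≠ x} := by
    have hfin : {y : X | Curv2.IsNode k X y}.Finite := by
      haveI := EulerIneqLib.isNoetherian_proper (X := X) k
      exact TFInterpNodeLib.finite_nodes k (TFNodeLib.comps_one hdim) hnod
    rw [← Set.biUnion_of_singleton {y : X | Curv2.IsNode k X y ∧ y ≠ x}]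
    exact (hfin.subset fun y hy => hy.1).isClosed_biUnion fun y hy => hy.1.1
  obtain ⟨W, hxW, hW, he⟩ := TFInterpNodeLib.exists_normal_form k hF x hx.1
    (W₀ := ⟨_, hc.isOpen_compl⟩) (fun h => h.2 rfl) a b hΦ
  exact ⟨W, hxW, fun y hy hyn => by_contra fun hne => hW hy ⟨hyn, hne⟩, he⟩

end Groth.Agent.S18919
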