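import Groth.Statements.S18920
import Mathlib

set_option autoImplicit false
universe u
open CAlg

namespace Groth.Agent.S18920

/-- Let M be a commutative monoid, s ≥ 1, and ξ_1, …, ξ_s elements of M with ξ_i ^ (s!/i) = 1 for 1 ≤ i
≤ s (an (s!/i)-th root of unity for each i). Suppose that for every finitely supported function d on
{1, …, s} with Σ_i i · d_i = s! the product ∏_i ξ_i ^ d_i equals 1. Then ξ_1 ^ j = ξ_j for every 1 ≤
j ≤ s. (The source works with roots of unity in the complex numbers.) -/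
theorem result
    {M : Type u} [CommMonoid M] (s : ℕ) (hs : 1 ≤ s) (ξ : ℕ → M)
    (hξ : ∀ i : ℕ, 1 ≤ i → i ≤ s → ξ i ^ (s.factorial / i) = 1)
    (hprod : ∀ d : ℕ →₀ ℕ, (∀ i ∈ d.support, 1 ≤ i ∧ i ≤ s) →
      (d.sum fun i n => i * n) = s.factorial → (d.prod fun i n => ξ i ^ n) = 1)
    (j : ℕ) (hj : 1 ≤ j) (hjs : j ≤ s) :
    ξ 1 ^ j = ξ j := by
  classical
  have hdvd : j ∣ s.factorial := Nat.dvd_factorial hj hjs
  obtain ⟨t, ht⟩ : ∃ t, s.factorial / j = t + 1 :=
    ⟨s.factorial / j - 1, by have := Nat.div_pos (Nat.le_of_dvd s.factorial_pos hdvd) hj; omega⟩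
  have hmul : j * (t + 1) = s.factorial := by rw [← ht]; exact Nat.mul_div_cancel' hdvd
  have h := hprod (Finsupp.single j t + Finsupp.single 1 j) (fun i hi => by
      rcases Finset.mem_union.mp (Finsupp.support_add hi) with h | h
      · obtain rfl := Finset.mem_singleton.mp (Finsupp.support_single_subset h); exact ⟨hj, hjs⟩
      · obtain rfl := Finset.mem_singleton.mp (Finsupp.support_single_subset h); exact ⟨le_rfl, hs⟩)
    (by rw [Finsupp.sum_add_index' (by simp) (fun a b c => mul_add a b c), Finsupp.sum_single_index (by simp), Finsupp.sum_single_index (by simp), one_mul, ← hmul]; ring)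
  rw [Finsupp.prod_add_index' (by simp) (fun a b c => pow_add _ b c), Finsupp.prod_single_index (by simp), Finsupp.prod_single_index (by simp)] at h
  have h2 := hξ j hj hjs
  rw [ht] at h2
  calc ξ 1 ^ j = ξ 1 ^ j * ξ j ^ (t + 1) := by rw [h2, mul_one]
    _ = (ξ j ^ t * ξ 1 ^ j) * ξ j := by rw [pow_succ]; ac_rfl
    _ = ξ j := by rw [h, one_mul]

end Groth.Agent.S18920
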