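import Groth.Statements.S18921
import Groth.Agent.S18917
import Groth.Agent.CompSplitLib.Line

set_option backward.isDefEq.respectTransparency false
set_option backward.isDefEq.respectTransparency.types false

set_option autoImplicit false
universe u
open CategoryTheory CategoryTheory.Limits AlgebraicGeometry
open VBCurve
open Groth.Agent

namespace Groth.Agent.S18921

/-- Let k be an algebraically closed field of characteristic zero, Y a smooth proper k-scheme of
dimension one, possibly disconnected but with no isolated points (every connected component is a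
curve), and L an ample invertible O_Y-module. Say (Y, L) has property P when for any two finite
locally free O_Y-modules E, F with nowhere-zero stalks (support equal to Y) that are semistable of
dimension one with respect to L, the tensor product E ⊗ F is again semistable. If (Y, L) has
property P then for every connected component U of Y, with j : U → Y the inclusion, O_U =
j_*(O_Y|_U) and L_U = j_*(L|_U), the Euler characteristics over k satisfy χ(O_U) · (χ(L) − χ(O_Y)) =
χ(O_Y) · (χ(L_U) − χ(O_U)); in words, χ(O_U)/deg(L|_U) is the same for all components and equals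
χ(O_Y)/deg L. -/
theorem result
    (k : Type u) [Field k] [IsAlgClosed k] [CharZero k]
    (Y : Scheme.{u}) [Y.Over (Spec (CommRingCat.of k))] [IsProper (Y ↘ Spec (CommRingCat.of k))]
    [Smooth (Y ↘ Spec (CommRingCat.of k))] (hdim : topologicalKrullDim Y = 1)
    (hpure : ∀ y : Y, ¬ IsOpen ({y} : Set Y))
    (L : Y.Modules) (hL : CohB1.IsAmple L)
    (hP : ∀ E F : Y.Modules, FlatMod.IsFinLocFree E → FlatMod.IsFinLocFree F →
      (∀ y : Y, ¬ Subsingleton (E.presheaf.stalk y)) → (∀ y : Y, ¬ Subsingleton (F.presheaf.stalk y)) →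
      ShStab.IsSemistable k Y L E 1 → ShStab.IsSemistable k Y L F 1 →
      ShStab.IsSemistable k Y L (CohB1.tensorMod E F) 1)
    (U : Y.Opens) (hUc : IsClopen (U : Set Y)) (hUconn : _root_.IsConnected (U : Set Y)) :
    Curv2.euler k Y ((Scheme.Modules.pushforward U.ι).obj ((Coh.structureModule Y).restrict U.ι)) *
        (Curv2.euler k Y L - Curv2.euler k Y (Coh.structureModule Y)) =
      Curv2.euler k Y (Coh.structureModule Y) *
        (Curv2.euler k Y ((Scheme.Modules.pushforward U.ι).obj (L.restrict U.ι)) -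
          Curv2.euler k Y ((Scheme.Modules.pushforward U.ι).obj ((Coh.structureModule Y).restrict U.ι))) := by
  classical
  haveI := EulerIneqLib.isNoetherian_proper (X := Y) k
  obtain ⟨ι, hfin, V, hV, hconn, hcov, hdisj⟩ := CompSplitLib.exists_components k (Y := Y)
  haveI := hfin
  let e := Fintype.equivFin ι
  let W : Fin (Fintype.card ι) → Y.Opens := fun j => V (e.symm j)
  have hW : ∀ j, IsClosed (W j : Set Y) := fun j => hV _
  have hWc : ∀ j, _root_.IsConnected (W j : Set Y) := fun j => hconn _
  have hWcov : ∀ y, ∃ j, y ∈ W j := fun y => by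
    obtain ⟨i, hi⟩ := hcov y
    exact ⟨e i, by show y ∈ V (e.symm (e i)); rwa [e.symm_apply_apply]⟩
  have hWd : ∀ i j, i ≠ j → ∀ y, y ∈ W i → y ∉ W j := fun i j h => hdisj _ _ fun h' => h (e.symm.injective h')
  have hmem : ∀ (V' : Y.Opens), IsClopen (V' : Set Y) → _root_.IsConnected (V' : Set Y) → ∃ j, V' = W j := fun V' hV'c hV'conn => by
    obtain ⟨y, hy⟩ := hV'conn.nonempty
    obtain ⟨j, hj⟩ := hWcov y
    exact ⟨j, TopologicalSpace.Opens.ext (subset_antisymm (hV'conn.isPreconnected.subset_isClopen ⟨hW j, (W j).2⟩ ⟨y, hy, hj⟩)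
      ((hWc j).isPreconnected.subset_isClopen hV'c ⟨y, hj, hy⟩))⟩
  have hO := DevLib.isCoh_structureModule Y
  have hOinv : PicF.IsInvertible (Coh.structureModule Y) := ParaFLib.isInvertible_structureModule
  have hOflf := CurveLib.isFinLocFree_of_isInvertible hOinv
  let δ : Fin (Fintype.card ι) → ℤ := fun j => Curv2.deg k (↑(W j) : Scheme.{u}) (L.restrict (W j).ι) 1
  have hδ : ∀ j, 0 < δ j := fun j =>
    (CompSplitLib.isSemistable_part_line k hdim hpure hL (hW j) (hWc j) hOflf (ParaFLib.isInvertible_restrict _ hOinv)).2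
  let χ : Fin (Fintype.card ι) → ℤ := fun j => Curv2.euler k Y (CompSplitLib.part (W j) (Coh.structureModule Y))
  let M0 : ℤ := ∑ j, |χ j|
  have hn : ∀ j, 0 ≤ M0 * δ j + χ j := fun j => by
    have h1 : |χ j| ≤ M0 := Finset.single_le_sum (fun i _ => abs_nonneg (χ i)) (Finset.mem_univ j)
    have h2 : M0 ≤ M0 * δ j := le_mul_of_one_le_right ((abs_nonneg _).trans h1) (hδ j)
    have h3 := neg_abs_le (χ j)
    linarith
  choose N hN hNdeg using fun j =>
    CompSplitLib.exists_invertible_deg k hdim hpure (hW j) (hWc j) (M0 * δ j + χ j).toNat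
  obtain ⟨E, hEN⟩ := CompSplitLib.exists_glue W hW hWd N
  have hEinv : ∀ j, PicF.IsInvertible (E.restrict (W j).ι) := fun j =>
    ParaFLib.isInvertible_of_iso (hEN j).some.symm (hN j)
  have hE : FlatMod.IsFinLocFree E := GenBCLib.isFinLocFree_of_nhds E fun y => by
    obtain ⟨j, hj⟩ := hWcov y
    exact ⟨W j, hj, CurveLib.isFinLocFree_of_isInvertible (hEinv j)⟩
  have hstalk : ∀ y : Y, ¬ Subsingleton (E.presheaf.stalk y) := fun y hs => by
    obtain ⟨j, hj⟩ := hWcov y
    obtain ⟨l⟩ := CurveLib.freeAt_of_isFinLocFreeOfRank (CurveLib.isFinLocFreeOfRank_one (hEinv j)) ⟨y, hj⟩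
    haveI : Subsingleton ((E.restrict (W j).ι).presheaf.stalk ⟨y, hj⟩) :=
      ((Scheme.Modules.restrictStalkNatIso (W j).ι (⟨y, hj⟩ : (W j : Scheme.{u}))).app E).addCommGroupIsoToAddEquiv.toEquiv.subsingleton_congr.2 hs
    exact (not_subsingleton (Fin 1 → (↑(W j) : Scheme.{u}).presheaf.stalk ⟨y, hj⟩)) l.symm.toEquiv.subsingleton
  have hEc := CurveLib.isCoh_of_isFinLocFree hE
  have hχE : ∀ j, Curv2.euler k Y (CompSplitLib.part (W j) E) = -M0 * δ j := fun j => by
    haveI := CompSplitLib.isProper_part k (hW j)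
    have h := hNdeg j
    rw [Int.toNat_of_nonneg (hn j)] at h
    unfold Curv2.deg at h
    rw [CompSplitLib.euler_part k (hW j) hEc, CurveLib.euler_iso (K := k) (hEN j).some]
    have hχ : χ j = Curv2.euler k (↑(W j) : Scheme.{u}) (Coh.structureModule _) :=
      (CompSplitLib.euler_part k (hW j) hO).trans (CurveLib.euler_iso (K := k) (DCohLib.restrictUnit (W j).ι))
    push_cast at h
    linarith
  have hαE : ∀ j, Curv2.euler k Y (CohB1.tensorMod (CompSplitLib.part (W j) E) L) -
      Curv2.euler k Y (CompSplitLib.part (W j) E) = δ j := fun j => by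
    rw [CompSplitLib.part_rr k (hW j) hdim hpure (hWc j) hE (CurveLib.isFinLocFreeOfRank_one (hEinv j)) hL.1]
    simp [δ]
  have hsE := CompSplitLib.euler_split k hdim W hW hWcov hWd hL hEc
  rw [Finset.sum_congr rfl (fun j _ => hαE j), Finset.sum_congr rfl (fun j _ => hχE j)] at hsE
  have hD : Curv2.euler k Y L - Curv2.euler k Y (Coh.structureModule Y) = ∑ j, δ j := by
    rw [(CompSplitLib.euler_split k hdim W hW hWcov hWd hL (CurveLib.isCoh_of_isInvertible hL.1)).1,
      (CompSplitLib.euler_split k hdim W hW hWcov hWd hL hO).1, ← Finset.sum_sub_distrib]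
    exact Finset.sum_congr rfl fun j _ => CompSplitLib.part_deg k (hW j) hdim hpure (hWc j) hL.1
  have hE0 : ¬ IsZero E := fun hz => by
    obtain ⟨y, hy⟩ := hUconn.nonempty
    exact hstalk y (not_not.1 (Set.eq_empty_iff_forall_notMem.1 (HilbLib.support_eq_empty_of_isZero hz) y))
  have hEs : ShStab.IsSemistable k Y L E 1 := (S18917.result k Y hdim L hL E hE hE0).2 fun V' hV'c hV'conn _ => by
    obtain ⟨j, rfl⟩ := hmem V' hV'c hV'conn
    refine ⟨(CompSplitLib.isSemistable_part_line k hdim hpure hL (hW j) (hWc j) hE (hEinv j)).1, ?_⟩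
    show Curv2.euler k Y (CompSplitLib.part (W j) E) * _ =
      _ * (Curv2.euler k Y (CohB1.tensorMod (CompSplitLib.part (W j) E) L) - Curv2.euler k Y (CompSplitLib.part (W j) E))
    rw [hαE, hsE.2, hsE.1, hχE, ← Finset.mul_sum]
    ring
  have hEE : FlatMod.IsFinLocFree (CohB1.tensorMod E E) := DCohLib.isFinLocFree_tensor hE hE
  obtain ⟨j, rfl⟩ := hmem U hUc hUconn
  have hrk := fun i => CurveLib.isFinLocFreeOfRank_one (hEinv i)
  have hT := fun i => CompSplitLib.part_tensor k (hW i) hdim hpure (hWc i) hE hE hL.1 (hrk i) (hrk i)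
  have hEEp : ¬ IsZero (CompSplitLib.part (W j) (CohB1.tensorMod E E)) := fun hz => by
    have h0 := (hT j).2
    have hd1 : ShStabLib.DimLE 1 (CompSplitLib.part (W j) (CohB1.tensorMod E E)) := lt_of_le_of_lt
      (Topology.IsInducing.subtypeVal.topologicalKrullDim_le.trans hdim.le) (by decide)
    have hc := CompSplitLib.isCoh_part (hW j) (CurveLib.isCoh_of_isFinLocFree hEE)
    have hz0 : ShStabLib.HP k L (CompSplitLib.part (W j) (CohB1.tensorMod E E)) 0 := fun m => by
      rw [Polynomial.eval_zero]; exact HilbLib.chi_isZero k hL.1 hz m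
    have hα := (CompSplitLib.coeffs_of_euler k hL hc hd1 hz0).2
    rw [StabCat.alpha, ← Int.cast_sub, h0] at hα
    replace h0 := hα
    simp at h0
    exact (hδ j).ne' (by exact_mod_cast h0.symm)
  have hEE0 : ¬ IsZero (CohB1.tensorMod E E) := fun hz => hEEp
    ((Scheme.Modules.pushforward (W j).ι).map_isZero ((Scheme.Modules.restrictFunctor (W j).ι).map_isZero hz))
  have hs := (S18917.result k Y hdim L hL _ hEE hEE0).1 (hP E E hE hE hstalk hstalk hEs hEs) (W j)
    ⟨hW j, (W j).2⟩ (hWc j) hEEp
  have h2 : Curv2.euler k Y (CompSplitLib.part (W j) (CohB1.tensorMod E E)) * _ =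
    _ * (Curv2.euler k Y (CohB1.tensorMod (CompSplitLib.part (W j) (CohB1.tensorMod E E)) L) -
      Curv2.euler k Y (CompSplitLib.part (W j) (CohB1.tensorMod E E))) := hs.2
  have hsEE := CompSplitLib.euler_split k hdim W hW hWcov hWd hL (CurveLib.isCoh_of_isFinLocFree hEE)
  have hsO := (CompSplitLib.euler_split k hdim W hW hWcov hWd hL hO).1
  rw [hsEE.2, hsEE.1, Finset.sum_congr rfl (fun i _ => (hT i).2), (hT j).2] at h2
  simp only [fun i => (hT i).1, hχE, Nat.cast_one, one_mul, mul_one] at h2
  show χ j * (_ - _) = _ * (Curv2.euler k Y (CompSplitLib.part (W j) L) - Curv2.euler k Y (CompSplitLib.part (W j) (Coh.structureModule Y)))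
  rw [hD, CompSplitLib.part_deg k (hW j) hdim hpure (hWc j) hL.1, hsO]
  simp only [Finset.sum_sub_distrib, Finset.sum_add_distrib, ← Finset.mul_sum] at h2
  change χ j * _ = (∑ i, χ i) * δ j
  linear_combination -h2

end Groth.Agent.S18921
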