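import Groth.Statements.S18922
import Groth.Agent.AssLib.Basic
import Groth.Agent.MeroLib.Total
import Groth.Agent.TorRankLib.Basic
import Groth.Agent.S6295
import Groth.Agent.EulerIneqLib.Basic

set_option autoImplicit false
universe u
open CategoryTheory CategoryTheory.Limits AlgebraicGeometry
open TFNodal

namespace Groth.Agent.S18922

open CategoryTheory CategoryTheory.Limits AlgebraicGeometry

open Groth.Agent
set_option backward.isDefEq.respectTransparency false

/-- Let k be an algebraically closed field of characteristic zero, X a reduced proper curve over k (a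
proper k-scheme of dimension one) and F a coherent torsion free O_X-module (every stalk a torsion
free module over the local ring). Let x be a point of X and U an open subset containing x such that
every irreducible component of U passes through x, that is, every point of U whose local ring is a
field specializes to x. Then the map from the sections of F over U to the stalk F_x is injective.
(The source states this for x a node of a connected nodal curve and U inside the union of the
irreducible components through x, meeting no other node.) -/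
theorem result
    (k : Type u) [Field k] [IsAlgClosed k] [CharZero k]
    (X : Scheme.{u}) [X.Over (Spec (CommRingCat.of k))] [IsProper (X ↘ Spec (CommRingCat.of k))]
    [AlgebraicGeometry.IsReduced X] (hdim : topologicalKrullDim X = 1)
    (F : X.Modules) (hF : Coh.IsCoh F) (htF : TorSh.IsTorsionFree F)
    (x : X) (U : X.Opens) (hxU : x ∈ U)
    (hU : ∀ y : X, y ∈ U → IsField (X.presheaf.stalk y) → x ∈ closure ({y} : Set X)) :
    Function.Injective (F.presheaf.germ U x hxU) := by
  classical
  haveI := EulerIneqLib.isNoetherian_proper (X := X) k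
  haveI := hF.1
  rw [injective_iff_map_eq_zero]
  intro s hs
  refine AssLib.eq_zero_of_germ F s fun y hy => ?_
  obtain ⟨W, hW, hyW, hWU⟩ := exists_isAffineOpen_mem_and_subset (X := X) (x := y) (U := U) hy
  let m : Γ(F, W) := F.presheaf.map (homOfLE hWU).op s
  rw [show F.presheaf.germ U y hy s = F.presheaf.germ W y hyW m from
    (TopCat.Presheaf.germ_res_apply F.presheaf (homOfLE hWU) y hyW s).symm]
  letI : Algebra Γ(X, W) (X.presheaf.stalk y) := TopCat.Presheaf.algebra_section_stalk X.presheaf ⟨y, hyW⟩
  haveI := hW.isLocalization_stalk ⟨y, hyW⟩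
  let J : Ideal (X.presheaf.stalk y) :=
    LinearMap.ker (LinearMap.toSpanSingleton (X.presheaf.stalk y) (F.presheaf.stalk y) (F.presheaf.germ W y hyW m))
  have hJ : ∀ Q ∈ minimalPrimes (X.presheaf.stalk y), ¬ J ≤ Q := fun Q hQ hle => by
    haveI := hQ.1.1
    let q : PrimeSpectrum Γ(X, W) := ⟨Q.comap (algebraMap Γ(X, W) (X.presheaf.stalk y)), inferInstance⟩
    let η := AssLib.pt hW q
    have hηW : η ∈ W := AssLib.pt_mem hW q
    have hpr : AssLib.pr hW hηW = q.asIdeal := AssLib.pr_pt hW q
    have hqy : q.asIdeal ≤ AssLib.pr hW hyW := by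
      rw [← AssLib.under_maximalIdeal hW hyW]
      exact Ideal.comap_mono (IsLocalRing.le_maximalIdeal Ideal.IsPrime.ne_top')
    have hmax : MeroLib.IsMaxPt η := fun z hz => by
      have hzW : z ∈ W := AssLib.mem_of_specializes hz hηW
      have h1 : AssLib.pr hW hzW ≤ q.asIdeal := hpr ▸ (AssLib.specializes_iff hW hηW hzW).1 hz
      have h2 : AssLib.pr hW hzW = q.asIdeal := by
        refine le_antisymm h1 ?_
        have hd : Disjoint ((AssLib.pr hW hyW).primeCompl : Set Γ(X, W)) (AssLib.pr hW hzW) :=
          Set.disjoint_left.2 fun a ha ha' => ha (hqy (h1 ha'))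
        have h3 := IsLocalization.isPrime_of_isPrime_disjoint (AssLib.pr hW hyW).primeCompl
          (X.presheaf.stalk y) (AssLib.pr hW hzW) inferInstance hd
        have h4 : (AssLib.pr hW hzW).map (algebraMap Γ(X, W) (X.presheaf.stalk y)) ≤ Q :=
          Ideal.map_le_iff_le_comap.2 h1
        have h5 := hQ.2 ⟨h3, bot_le⟩ h4
        calc q.asIdeal ≤ ((AssLib.pr hW hzW).map (algebraMap Γ(X, W) (X.presheaf.stalk y))).comap
              (algebraMap Γ(X, W) (X.presheaf.stalk y)) := Ideal.comap_mono h5
          _ = AssLib.pr hW hzW := IsLocalization.under_map_of_isPrime_disjoint _ _ inferInstance hd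
      calc z = AssLib.pt hW (hW.primeIdealOf ⟨z, hzW⟩) := (AssLib.pt_primeIdealOf hW hzW).symm
        _ = AssLib.pt hW (hW.primeIdealOf ⟨η, hηW⟩) := by
          congr 1
          exact PrimeSpectrum.ext (h2.trans hpr.symm)
        _ = η := AssLib.pt_primeIdealOf hW hηW
    have hηx : η ⤳ x := specializes_iff_mem_closure.2 (hU η (hWU hηW) (MeroLib.isField_stalk hmax))
    have hη : F.presheaf.germ W η hηW m = 0 := by
      refine (TopCat.Presheaf.germ_res_apply F.presheaf (homOfLE hWU) η hηW s).trans ?_
      refine (TopCat.Presheaf.germ_stalkSpecializes_apply F.presheaf hxU hηx s).symm.trans ?_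
      rw [hs]
      exact map_zero _
    obtain ⟨a, ha, ham⟩ := (AssLib.germ_eq_zero_iff hW hηW m).1 hη
    refine ha (hpr ▸ hle ?_)
    show (X.presheaf.germ W y hyW a) • F.presheaf.germ W y hyW m = 0
    rw [← TorRankLib.germ_smul', ham, map_zero]
  obtain ⟨r, hrJ, hr⟩ := Set.not_subset.1 (fun h : (J : Set (X.presheaf.stalk y)) ⊆
      ⋃ Q ∈ ((minimalPrimes.finite_of_isNoetherianRing (X.presheaf.stalk y)).toFinset : Set (Ideal (X.presheaf.stalk y))), (Q : Set _) => by
    obtain ⟨Q, hQ, hle⟩ := (Ideal.subset_union_prime ⊥ ⊥ fun Q hQ _ _ => ((Set.Finite.mem_toFinset _).1 hQ).1.1).1 h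
    exact hJ Q ((Set.Finite.mem_toFinset _).1 hQ) hle)
  have hreg : r ∈ nonZeroDivisors (X.presheaf.stalk y) := by
    by_contra hn
    obtain ⟨Q, hQ, hrQ⟩ := ((Groth.Agent.S6295.result (X.presheaf.stalk y)).2.2 r).1 hn
    exact hr (Set.mem_biUnion (by simpa using hQ) hrQ)
  refine (htF y).isSMulRegular (isRegular_iff_mem_nonZeroDivisors.2 hreg) ?_
  exact (show r • F.presheaf.germ W y hyW m = 0 from hrJ).trans (smul_zero _).symm

end Groth.Agent.S18922
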