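import Groth.Statements.S18923
import Groth.Agent.S18917
import Groth.Agent.CompSplitLib.Curve

set_option backward.isDefEq.respectTransparency false
set_option backward.isDefEq.respectTransparency.types false

set_option autoImplicit false
universe u
open CategoryTheory CategoryTheory.Limits AlgebraicGeometry
open VBCurve
open Groth.Agent

namespace Groth.Agent.S18923

/-- Let k be an algebraically closed field of characteristic zero, Y a smooth proper k-scheme of
dimension one, possibly disconnected but with no isolated points, and L an ample invertible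
O_Y-module such that for every connected component U of Y, with j : U → Y, O_U = j_*(O_Y|_U) and L_U
= j_*(L|_U), one has χ(O_U) · (χ(L) − χ(O_Y)) = χ(O_Y) · (χ(L_U) − χ(O_U)) (all correction terms of
the components vanish). Let E and F be finite locally free O_Y-modules with nowhere-zero stalks,
both semistable of dimension one with respect to L, and write α(M) = χ(M ⊗ L) − χ(M). Then χ(E ⊗
F)/α(E ⊗ F) = χ(E)/α(E) + χ(F)/α(F) − χ(O_Y)/(χ(L) − χ(O_Y)) as rational numbers; equivalently the
slope of E ⊗ F is the sum of the slopes of E and F. The published statement speaks of any two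
semistable locally free sheaves; this row takes E and F with nowhere-zero stalks (support all of Y),
without which E ⊗ F can be zero and the slopes undefined. -/
theorem result
    (k : Type u) [Field k] [IsAlgClosed k] [CharZero k]
    (Y : Scheme.{u}) [Y.Over (Spec (CommRingCat.of k))] [IsProper (Y ↘ Spec (CommRingCat.of k))]
    [Smooth (Y ↘ Spec (CommRingCat.of k))] (hdim : topologicalKrullDim Y = 1)
    (hpure : ∀ y : Y, ¬ IsOpen ({y} : Set Y))
    (L : Y.Modules) (hL : CohB1.IsAmple L)
    (hB : ∀ U : Y.Opens, IsClopen (U : Set Y) → _root_.IsConnected (U : Set Y) →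
      Curv2.euler k Y ((Scheme.Modules.pushforward U.ι).obj ((Coh.structureModule Y).restrict U.ι)) * (Curv2.euler k Y L - Curv2.euler k Y (Coh.structureModule Y)) =
        Curv2.euler k Y (Coh.structureModule Y) * (Curv2.euler k Y ((Scheme.Modules.pushforward U.ι).obj (L.restrict U.ι)) - Curv2.euler k Y ((Scheme.Modules.pushforward U.ι).obj ((Coh.structureModule Y).restrict U.ι))))
    (E F : Y.Modules) (hE : FlatMod.IsFinLocFree E) (hF : FlatMod.IsFinLocFree F)
    (hE0 : ∀ y : Y, ¬ Subsingleton (E.presheaf.stalk y)) (hF0 : ∀ y : Y, ¬ Subsingleton (F.presheaf.stalk y))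
    (hEs : ShStab.IsSemistable k Y L E 1) (hFs : ShStab.IsSemistable k Y L F 1) :
    ((Curv2.euler k Y (CohB1.tensorMod E F) : ℚ) /
        ((Curv2.euler k Y (CohB1.tensorMod (CohB1.tensorMod E F) L) - Curv2.euler k Y (CohB1.tensorMod E F) : ℤ) : ℚ)) =
      (Curv2.euler k Y E : ℚ) / ((Curv2.euler k Y (CohB1.tensorMod E L) - Curv2.euler k Y E : ℤ) : ℚ) +
        (Curv2.euler k Y F : ℚ) / ((Curv2.euler k Y (CohB1.tensorMod F L) - Curv2.euler k Y F : ℤ) : ℚ) -
        (Curv2.euler k Y (Coh.structureModule Y) : ℚ) /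
          ((Curv2.euler k Y L - Curv2.euler k Y (Coh.structureModule Y) : ℤ) : ℚ) := by
  classical
  haveI := EulerIneqLib.isNoetherian_proper (X := Y) k
  obtain ⟨ι, hfin, V, hV, hconn, hcov, hdisj⟩ := CompSplitLib.exists_components k (Y := Y)
  haveI := hfin
  have hEc : Coh.IsCoh E := CurveLib.isCoh_of_isFinLocFree hE
  have hFc : Coh.IsCoh F := CurveLib.isCoh_of_isFinLocFree hF
  have hO : Coh.IsCoh (Coh.structureModule Y) := DevLib.isCoh_structureModule Y
  have hEFc : Coh.IsCoh (CohB1.tensorMod E F) := CurveLib.isCoh_tmod hEc hFc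
  have hLc := CurveLib.isCoh_of_isInvertible hL.1
  have hd : ∀ M : Y.Modules, ShStabLib.DimLE 1 M := fun M => lt_of_le_of_lt
    ((Topology.IsInducing.subtypeVal (t := CohB1.support M)).topologicalKrullDim_le.trans hdim.le) (by decide)
  let a : Y.Modules → ℤ := fun M => Curv2.euler k Y (CohB1.tensorMod M L) - Curv2.euler k Y M
  have key : ∀ (G : Y.Modules), ShStab.IsSemistable k Y L G 1 → FlatMod.IsFinLocFree G →
      (∀ y : Y, ¬ Subsingleton (G.presheaf.stalk y)) → ∀ i, ∃ r : ℕ,
      FlatMod.IsFinLocFreeOfRank r (G.restrict (V i).ι) ∧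
      0 < (r : ℤ) * Curv2.deg k (↑(V i) : Scheme.{u}) (L.restrict (V i).ι) 1 ∧
      a (CompSplitLib.part (V i) G) = r * Curv2.deg k (↑(V i) : Scheme.{u}) (L.restrict (V i).ι) 1 ∧
      Curv2.euler k Y (CompSplitLib.part (V i) G) * a G = Curv2.euler k Y G * a (CompSplitLib.part (V i) G) :=
    fun G hs hG h0 i => by
      obtain ⟨r, hr, hrk⟩ := CompSplitLib.exists_rank (hconn i) hG h0
      have hrr := CompSplitLib.part_rr k (hV i) hdim hpure (hconn i) hG hrk hL.1
      have hGc := CurveLib.isCoh_of_isFinLocFree hG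
      have hp0 : ¬ IsZero (CompSplitLib.part (V i) G) := fun hz => by
        obtain ⟨y, hy⟩ := (hconn i).nonempty
        haveI := not_not.1 (Set.eq_empty_iff_forall_notMem.1 (HilbLib.support_eq_empty_of_isZero hz) y)
        exact h0 y (CompSplitLib.bijective_res (V i) G hy).1.subsingleton
      obtain ⟨hss, heq⟩ := (S18917.result k Y hdim L hL G hG hs.2.1).1 hs (V i) ⟨hV i, (V i).2⟩ (hconn i) hp0
      obtain ⟨p, -, hp⟩ := ShStabLib.exists_hp k hL hss.1 (hd (CompSplitLib.part (V i) G))
      have hpos := ShStabLib.alpha_pos_of_isPure k hL hss.1 hp0 hss.2.2.1 hp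
      rw [(CompSplitLib.coeffs_of_euler k hL hss.1 (hd _) hp).2] at hpos
      have hpos' : (0 : ℤ) < a (CompSplitLib.part (V i) G) := by exact_mod_cast hpos
      exact ⟨r, hrk, by rwa [← hrr], hrr, heq⟩
  choose rE hrE hδE haE hχE using key E hEs hE hE0
  choose rF hrF hδF haF hχF using key F hFs hF hF0
  let δ : ι → ℤ := fun i => Curv2.deg k (↑(V i) : Scheme.{u}) (L.restrict (V i).ι) 1
  have hδ : ∀ i, 0 < δ i := fun i => by
    rcases mul_pos_iff.1 (hδE i) with h | h
    · exact h.2
    · exact absurd h.1 (not_lt.2 (Int.natCast_nonneg _))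
  haveI : Nonempty ι := by
    obtain ⟨y⟩ : Nonempty Y := by
      by_contra hne
      rw [not_nonempty_iff] at hne
      rw [ASp.topologicalKrullDim_eq_krullDim, Order.krullDim_eq_bot] at hdim
      exact WithBot.bot_ne_one hdim
    exact (hcov y).nonempty
  have hsum : ∀ (M : Y.Modules), Coh.IsCoh M → Curv2.euler k Y M = ∑ i, Curv2.euler k Y (CompSplitLib.part (V i) M) ∧
      a M = ∑ i, a (CompSplitLib.part (V i) M) := fun M hM =>
    CompSplitLib.euler_split k hdim V hV hcov hdisj hL hM
  set δ₀ : ℤ := Curv2.euler k Y L - Curv2.euler k Y (Coh.structureModule Y)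
  have hδ₀ : δ₀ = ∑ i, δ i := by
    show Curv2.euler k Y L - Curv2.euler k Y (Coh.structureModule Y) = _
    rw [(hsum L hLc).1, (hsum _ hO).1, ← Finset.sum_sub_distrib]
    exact Finset.sum_congr rfl fun i _ => CompSplitLib.part_deg k (hV i) hdim hpure (hconn i) hL.1
  have hT := fun i => CompSplitLib.part_tensor k (hV i) hdim hpure (hconn i) hE hF hL.1 (hrE i) (hrF i)
  have hαE : (0 : ℤ) < a E := by
    rw [(hsum E hEc).2]; exact Finset.sum_pos (fun i _ => by rw [haE]; exact hδE i) Finset.univ_nonempty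
  have hαF : (0 : ℤ) < a F := by
    rw [(hsum F hFc).2]; exact Finset.sum_pos (fun i _ => by rw [haF]; exact hδF i) Finset.univ_nonempty
  have hαO : (0 : ℤ) < δ₀ := by
    rw [hδ₀]; exact Finset.sum_pos (fun i _ => hδ i) Finset.univ_nonempty
  let μ : ℚ := (Curv2.euler k Y E : ℚ) / (a E : ℚ) + (Curv2.euler k Y F : ℚ) / (a F : ℚ) -
    (Curv2.euler k Y (Coh.structureModule Y) : ℚ) / (δ₀ : ℚ)
  have hαEF : a (CohB1.tensorMod E F) = ∑ i, (rE i : ℤ) * rF i * δ i := by
    rw [(hsum _ hEFc).2]; exact Finset.sum_congr rfl fun i _ => (hT i).2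
  have hαEF0 : (0 : ℤ) < a (CohB1.tensorMod E F) := by
    rw [hαEF]
    refine Finset.sum_pos (fun i _ => ?_) Finset.univ_nonempty
    have h1 := hδE i
    have h2 := hδF i
    have h3 := hδ i
    have : (0 : ℤ) < rF i := pos_of_mul_pos_left h2 h3.le
    rw [mul_right_comm]
    exact mul_pos h1 this
  show (Curv2.euler k Y (CohB1.tensorMod E F) : ℚ) / (a (CohB1.tensorMod E F) : ℚ) = μ
  rw [div_eq_iff (by exact_mod_cast hαEF0.ne'), hαEF, (hsum _ hEFc).1]
  push_cast
  rw [Finset.mul_sum]
  refine Finset.sum_congr rfl fun i _ => ?_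
  rw [(hT i).1]
  have e1 := congrArg (fun z : ℤ => (z : ℚ)) (hχE i)
  have e2 := congrArg (fun z : ℤ => (z : ℚ)) (hχF i)
  have e3 := congrArg (fun z : ℤ => (z : ℚ)) (hB (V i) ⟨hV i, (V i).2⟩ (hconn i))
  rw [haE] at e1
  rw [haF] at e2
  rw [CompSplitLib.part_deg k (hV i) hdim hpure (hconn i) hL.1] at e3
  push_cast at e1 e2 e3 ⊢
  have n1 : (a E : ℚ) ≠ 0 := by exact_mod_cast hαE.ne'
  have n2 : (a F : ℚ) ≠ 0 := by exact_mod_cast hαF.ne'
  have n3 : (δ₀ : ℚ) ≠ 0 := by exact_mod_cast hαO.ne'
  have f1 : (Curv2.euler k Y (CompSplitLib.part (V i) E) : ℚ) =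
      (Curv2.euler k Y E : ℚ) / (a E : ℚ) * ((rE i : ℚ) * (δ i : ℚ)) := by
    field_simp; linear_combination e1
  have f2 : (Curv2.euler k Y (CompSplitLib.part (V i) F) : ℚ) =
      (Curv2.euler k Y F : ℚ) / (a F : ℚ) * ((rF i : ℚ) * (δ i : ℚ)) := by
    field_simp; linear_combination e2
  have f3 : (Curv2.euler k Y (CompSplitLib.part (V i) (Coh.structureModule Y)) : ℚ) =
      (Curv2.euler k Y (Coh.structureModule Y) : ℚ) / (δ₀ : ℚ) * (δ i : ℚ) := by
    field_simp; linear_combination e3
  rw [f1, f2, f3]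
  ring

end Groth.Agent.S18923
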