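import Groth.Statements.S18924
import Groth.Agent.ResCount.Main
-- import your own Groth.Agent.* helpers here

set_option autoImplicit false
set_option backward.isDefEq.respectTransparency false
universe u
open ResHyp

namespace Groth.Agent.S18924

/-- Let F be a finite field with q elements and let n ≥ 3 be odd. Count the pairs (f, g) where f is a
binary quadratic form and g a binary form of degree n over F, recorded by their coefficient vectors
of lengths 3 and n + 1 (leading coefficients may vanish), whose resultant — the Sylvester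
determinant of the two coefficient vectors with size parameters 2 and n — equals 1. The number of
such pairs is q ^ (n + 3) - q ^ (n + 1). (The published statement gives q ^ (n + 3) + q ^ (n + 1);
for q = 3 and n = 3 the count is 648, not 810.) -/
theorem result (F : Type u) [Field F] [Fintype F] (n : ℕ)
    (hn : Odd n) (h3 : 3 ≤ n) :
    Nat.card {p : (Fin 3 → F) × (Fin (n + 1) → F) //
      Polynomial.resultant (∑ i : Fin 3, Polynomial.C (p.1 i) * Polynomial.X ^ (i : ℕ))
        (∑ j : Fin (n + 1), Polynomial.C (p.2 j) * Polynomial.X ^ (j : ℕ)) 2 n = 1} =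
      Fintype.card F ^ (n + 3) - Fintype.card F ^ (n + 1) := by
  classical
  obtain ⟨m, rfl⟩ := Nat.exists_eq_add_of_le' (show 2 ≤ n by omega)
  rw [Groth.Agent.ResCount.card_eq (fun x : F => x = 1) m (by simp)]
  have hπ : Groth.Agent.ResCount.π (fun x : F => x = 1) = 1 := by
    simp [Groth.Agent.ResCount.π, Groth.Agent.ResCount.χ]
  have hK : Groth.Agent.ResCount.K (fun x : F => x = 1) (m + 2) = Fintype.card F - 1 := by
    obtain ⟨j, hj⟩ := hn
    have e : Groth.Agent.ResCount.K (fun x : F => x = 1) (m + 2) =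
        (Finset.univ.filter fun p : F × F => p.1 ^ (m + 2) * p.2 ^ 2 = 1).card := by
      rw [Finset.card_filter, Fintype.sum_prod_type]
      rfl
    rw [e, ← Groth.Agent.ResCount.card_ne (0 : F), hj]
    have hne : ∀ a v : F, a ^ (2 * j + 1) * v ^ 2 = 1 → a ≠ 0 ∧ v ≠ 0 := fun a v h =>
      ⟨fun h0 => by simp [h0] at h, fun h0 => by simp [h0] at h⟩
    refine Finset.card_nbij' (fun p => p.1 ^ j * p.2) (fun x => ((x⁻¹) ^ 2, x ^ (2 * j + 1))) ?_ ?_ ?_ ?_
    · intro p hp
      rw [Finset.mem_coe, Finset.mem_filter] at hp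
      obtain ⟨ha, hv⟩ := hne _ _ hp.2
      simp [ha, hv]
    · intro x hx
      rw [Finset.mem_coe, Finset.mem_erase] at hx
      have h0 := hx.1
      simp only [Finset.mem_coe, Finset.mem_filter, Finset.mem_univ, true_and]
      rw [← pow_mul, ← pow_mul, mul_comm (2 * j + 1) 2, ← mul_pow, inv_mul_cancel₀ h0, one_pow]
    · intro p hp
      rw [Finset.mem_coe, Finset.mem_filter] at hp
      obtain ⟨ha, hv⟩ := hne _ _ hp.2
      have hsq : (p.1 ^ j * p.2) ^ 2 = p.1⁻¹ := eq_inv_of_mul_eq_one_left (by rw [← hp.2]; ring)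
      refine Prod.ext ?_ ?_
      · show ((p.1 ^ j * p.2)⁻¹) ^ 2 = p.1
        rw [inv_pow, hsq, inv_inv]
      · show (p.1 ^ j * p.2) ^ (2 * j + 1) = p.2
        rw [pow_succ, pow_mul, hsq, inv_pow, ← mul_assoc, inv_mul_cancel₀ (pow_ne_zero j ha), one_mul]
    · intro x hx
      rw [Finset.mem_coe, Finset.mem_erase] at hx
      show ((x⁻¹) ^ 2) ^ j * x ^ (2 * j + 1) = x
      rw [pow_succ x, ← mul_assoc, ← pow_mul, ← mul_pow, inv_mul_cancel₀ hx.1, one_pow, one_mul]
  rw [hπ, hK]
  obtain ⟨q, hq⟩ : ∃ q, Fintype.card F = q + 2 :=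
    Nat.exists_eq_add_of_le' (Fintype.one_lt_card (α := F))
  rw [hq, show q + 2 - 1 = q + 1 from rfl]
  symm
  have e : (q + 2) ^ (m + 2 + 3) =
      ((q + 2) ^ (m + 3) + (q + 2) ^ (m + 2)) * ((q + 1) ^ 2 * 1 + (q + 1)) + (q + 2) ^ (m + 2 + 1) := by ring
  omega

end Groth.Agent.S18924
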