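import Groth.Statements.S18925
import Groth.Agent.ResCount.Main
-- import your own Groth.Agent.* helpers here

set_option autoImplicit false
set_option backward.isDefEq.respectTransparency false
universe u
open ResHyp

namespace Groth.Agent.S18925

/-- Let F be a finite field with q elements and let n ≥ 2. Count the pairs (f, g) where f is a binary
quadratic form and g a binary form of degree n over F, recorded by their coefficient vectors of
lengths 3 and n + 1 (leading coefficients may vanish), whose resultant — the Sylvester determinant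
of the two coefficient vectors with size parameters 2 and n — is nonzero, i.e. f and g have no
common zero on the projective line. The number of such pairs is q ^ (n + 4) - q ^ (n + 3) - q ^ (n +
2) + q ^ (n + 1). (The source's result is the compactly supported ℓ-adic cohomology of this locus:
one-dimensional of Tate weights n + 4, n + 3, n + 2, n + 1 in degrees 2n + 8, 2n + 7, 2n + 5, 2n + 4
and zero elsewhere; this row keeps only the resulting point count.) -/
theorem result (F : Type u) [Field F] [Fintype F] (n : ℕ) (h2 : 2 ≤ n) :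
    Nat.card {p : (Fin 3 → F) × (Fin (n + 1) → F) //
      Polynomial.resultant (∑ i : Fin 3, Polynomial.C (p.1 i) * Polynomial.X ^ (i : ℕ))
        (∑ j : Fin (n + 1), Polynomial.C (p.2 j) * Polynomial.X ^ (j : ℕ)) 2 n ≠ 0} =
      Fintype.card F ^ (n + 4) - Fintype.card F ^ (n + 3) - Fintype.card F ^ (n + 2) + Fintype.card F ^ (n + 1) := by
  classical
  obtain ⟨m, rfl⟩ := Nat.exists_eq_add_of_le' h2
  rw [Groth.Agent.ResCount.card_eq (fun x : F => x ≠ 0) m (fun h => h rfl)]
  have hcount : ∀ g : F → ℕ, g 0 = 0 → (∀ x, x ≠ 0 → g x = 1) → ∑ x, g x = Fintype.card F - 1 := by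
    intro g h0 h1
    rw [← Finset.sum_erase Finset.univ h0, Finset.sum_congr rfl fun x hx => h1 x (Finset.ne_of_mem_erase hx)]
    simp [Groth.Agent.ResCount.card_ne]
  have hπ : Groth.Agent.ResCount.π (fun x : F => x ≠ 0) = Fintype.card F - 1 :=
    hcount _ (by simp [Groth.Agent.ResCount.χ]) (fun x hx => by simp [Groth.Agent.ResCount.χ, hx])
  have hK : Groth.Agent.ResCount.K (fun x : F => x ≠ 0) (m + 2) = (Fintype.card F - 1) ^ 2 := by
    have : ∀ a : F, ∑ v : F, Groth.Agent.ResCount.χ (fun x : F => x ≠ 0) (a ^ (m + 2) * v ^ 2) =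
        if a ≠ 0 then Fintype.card F - 1 else 0 := fun a => by
      by_cases ha : a = 0
      · simp [ha, Groth.Agent.ResCount.χ]
      · rw [if_pos ha]
        exact hcount _ (by simp [Groth.Agent.ResCount.χ]) (fun x hx => by simp [Groth.Agent.ResCount.χ, ha, hx])
    rw [Groth.Agent.ResCount.K, Finset.sum_congr rfl (fun a _ => this a), ← Finset.sum_filter]
    simp [Finset.filter_ne', Finset.card_erase_of_mem, sq]
  rw [hπ, hK]
  obtain ⟨q, hq⟩ : ∃ q, Fintype.card F = q + 2 :=
    Nat.exists_eq_add_of_le' (Fintype.one_lt_card (α := F))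
  rw [hq, show q + 2 - 1 = q + 1 from rfl]
  symm
  rw [Nat.sub_sub]
  have e : (q + 2) ^ (m + 2 + 4) + (q + 2) ^ (m + 2 + 1) =
      ((q + 2) ^ (m + 3) + (q + 2) ^ (m + 2)) * ((q + 1) ^ 2 * (q + 1) + (q + 1) ^ 2) +
        ((q + 2) ^ (m + 2 + 3) + (q + 2) ^ (m + 2 + 2)) := by ring
  have hle : (q + 2) ^ (m + 2 + 3) + (q + 2) ^ (m + 2 + 2) ≤ (q + 2) ^ (m + 2 + 4) := by
    have h1 : (q + 2) ^ (m + 2 + 2) ≤ (q + 2) ^ (m + 2 + 3) := Nat.pow_le_pow_right (by omega) (by omega)
    calc _ ≤ 2 * (q + 2) ^ (m + 2 + 3) := by omega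
      _ ≤ (q + 2) * (q + 2) ^ (m + 2 + 3) := Nat.mul_le_mul_right _ (by omega)
      _ = (q + 2) ^ (m + 2 + 4) := by ring
  omega

end Groth.Agent.S18925
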