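import Groth.Statements.S18926
import Groth.Agent.PicTrivLib.Const
import Groth.Agent.SteinConn.General
import Groth.Agent.QCohAffine.Smul

set_option autoImplicit false
universe u
open FinCov

namespace Groth.Agent.S18926

open CategoryTheory CategoryTheory.Limits AlgebraicGeometry

open Opposite Groth.Agent

theorem app_injective {X S : Scheme.{u}} (f : X ⟶ S) [Flat f] [Surjective f] (U : S.Opens) :
    Function.Injective (f.app U) := fun a b hab => by
  refine TopCat.Presheaf.section_ext S.sheaf U a b fun x hx => ?_
  obtain ⟨z, rfl⟩ := f.surjective x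
  letI := (f.stalkMap z).hom.toAlgebra
  haveI : Module.Flat (S.presheaf.stalk (f z)) (X.presheaf.stalk z) := Flat.stalkMap f z
  haveI : IsLocalHom (algebraMap (S.presheaf.stalk (f z)) (X.presheaf.stalk z)) :=
    inferInstanceAs (IsLocalHom (f.stalkMap z).hom)
  haveI := Module.FaithfullyFlat.of_flat_of_isLocalHom (A := S.presheaf.stalk (f z)) (B := X.presheaf.stalk z)
  refine FaithfulSMul.algebraMap_injective (S.presheaf.stalk (f z)) (X.presheaf.stalk z) ?_
  show f.stalkMap z (S.presheaf.germ U (f z) hx a) = f.stalkMap z (S.presheaf.germ U (f z) hx b)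
  rw [Scheme.Hom.germ_stalkMap_apply, Scheme.Hom.germ_stalkMap_apply, hab]


open CategoryTheory CategoryTheory.Limits AlgebraicGeometry in
/-- Let k be a field, Y a proper, geometrically connected and geometrically reduced scheme over k, and ρ
: X ⟶ Y a finite, flat and surjective morphism. If the zeroth cohomology group of the cokernel of
the O_Y-module map O_Y ⟶ ρ_* O_X has at most one element, then X is geometrically connected over k.
(The published statement assumes Y projective and takes for X one of the finite locally free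
Gorenstein covers of degree 3, 4 or 5 that it constructs, with the cokernel identified with a dual
vector bundle; this row assumes only that ρ is finite, flat and surjective and that Y is proper.) -/
theorem result
    (k : Type u) [Field k] (X Y : Scheme.{u}) (g : Y ⟶ Spec (CommRingCat.of k)) (ρ : X ⟶ Y)
    [IsProper g] [GeometricallyConnected g] [GeometricallyReduced g]
    [IsFinite ρ] [Flat ρ] [Surjective ρ]
    (h0 : Subsingleton (Coh.HH Y (cokernel (ClSub.unitToPush ρ)) 0)) :
    GeometricallyConnected (ρ ≫ g) := by
  have hY := PicTrivLib.bijective_appTop_of_geom g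
  have hρ : Function.Bijective ρ.appTop.hom := by
    refine ⟨app_injective ρ ⊤, fun t => ?_⟩
    let f := ClSub.unitToPush ρ
    haveI : Mono f := ⟨fun a b h => Scheme.Modules.hom_ext _ _ fun U => AddCommGrpCat.hom_ext (AddMonoidHom.ext fun x =>
      app_injective ρ U (congrArg (fun φ => φ.app U x) h))⟩
    haveI : Subsingleton Γ(cokernel f, ⊤) :=
      (Sheaf.H.equiv₀ (Coh.toAb (cokernel f)) isTerminalTop).symm.injective.subsingleton
    let σ := QCohAffine.secHom ((Scheme.Modules.pushforward ρ).obj (Coh.structureModule X)) t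
    have hσ : σ ≫ cokernel.π f = 0 := QCohAffine.hom_ext_sec (Subsingleton.elim _ _)
    refine ⟨QCohAffine.homSec (Abelian.monoLift f σ hσ), ?_⟩
    have h1 := congrArg QCohAffine.homSec (Abelian.monoLift_comp f σ hσ)
    rw [QCohAffine.homSec_secHom, QCohAffine.homSec_comp] at h1
    exact h1
  have hcomp : Function.Bijective (ρ ≫ g).appTop.hom := by
    have h1 : Function.Bijective g.appTop.hom := by
      have := hY.comp (ConcreteCategory.bijective_of_isIso (Scheme.ΓSpecIso (CommRingCat.of k)).hom)
      rwa [← RingHom.coe_comp, ← CommRingCat.hom_comp, Iso.hom_inv_id_assoc] at this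
    rw [Scheme.Hom.comp_appTop, CommRingCat.hom_comp, RingHom.coe_comp]
    exact hρ.comp h1
  refine SteinConn.geometricallyConnected_of_bijApp _ fun V => ?_
  rcases eq_or_ne V ⊥ with rfl | hV
  · have : (ρ ≫ g) ⁻¹ᵁ (⊥ : (Spec (CommRingCat.of k)).Opens) = ⊥ := Scheme.Hom.preimage_bot _
    haveI : Subsingleton Γ(X, (ρ ≫ g) ⁻¹ᵁ (⊥ : (Spec (CommRingCat.of k)).Opens)) := by rw [this]; infer_instance
    exact ⟨fun a b _ => Subsingleton.elim (α := Γ(Spec (CommRingCat.of k), ⊥)) a b, fun b => ⟨0, Subsingleton.elim _ _⟩⟩
  · have : V = ⊤ := by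
      obtain ⟨z, hz⟩ : (V : Set ↥(Spec (CommRingCat.of k))).Nonempty :=
        Set.nonempty_iff_ne_empty.2 fun h => hV (SetLike.coe_injective h)
      exact eq_top_iff.2 fun y _ => Subsingleton.elim z y ▸ hz
    subst this
    exact hcomp

end Groth.Agent.S18926
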