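import Groth.Statements.S18928
import Mathlib
-- import your own Groth.Agent.* helpers here

set_option autoImplicit false
universe u
open DPow

namespace Groth.Agent.S18928

/-- Let B be a commutative ring, I an ideal of B with a divided power structure, p a prime, r a natural
number, b an element of B and δ an element of I. Then (b + δ)^(p^r) − b^(p^r) lies in the ideal p^r
I. (The source states this for a divided power thickening over the Witt vectors of length n and 0 ≤
r ≤ n; neither restriction is used.) -/
theorem result {B : Type u} [CommRing B] {I : Ideal B}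
    (hI : DividedPowers I) (p : ℕ) [Fact p.Prime] (r : ℕ) (b δ : B) (hδ : δ ∈ I) :
    (b + δ) ^ (p ^ r) - b ^ (p ^ r) ∈ Ideal.span {((p : B) ^ r)} * I := by
  obtain ⟨q, hq⟩ : ∃ q, p ^ r = q + 1 := ⟨p ^ r - 1, by have := pow_pos (Fact.out : p.Prime).pos r; omega⟩
  have key : ∀ k, k ≠ 0 → δ ^ k * b ^ (p ^ r - k) * ((p ^ r).choose k : B) ∈ Ideal.span {((p : B) ^ r)} * I := fun k hk => by
    obtain ⟨j, rfl⟩ := Nat.exists_eq_succ_of_ne_zero hk
    have e : (j + 1).factorial * (p ^ r).choose (j + 1) = p ^ r * q.descFactorial j := by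
      rw [← Nat.descFactorial_eq_factorial_mul_choose, hq, Nat.succ_descFactorial_succ]
    rw [← hI.factorial_mul_dpow_eq_pow hδ]
    have e' : ((j + 1).factorial : B) * ((p ^ r).choose (j + 1) : B) = (p : B) ^ r * (q.descFactorial j : B) := by
      exact_mod_cast congrArg (Nat.cast (R := B)) e
    have : ((j + 1).factorial : B) * hI.dpow (j + 1) δ * b ^ (p ^ r - (j + 1)) * ((p ^ r).choose (j + 1) : B) =
        (p : B) ^ r * ((q.descFactorial j : B) * b ^ (p ^ r - (j + 1)) * hI.dpow (j + 1) δ) := by
      linear_combination (hI.dpow (j + 1) δ * b ^ (p ^ r - (j + 1))) * e'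
    rw [this]
    exact Ideal.mul_mem_mul (Ideal.mem_span_singleton_self _) (I.mul_mem_left _ (hI.dpow_mem hk hδ))
  rw [add_comm b δ, add_pow, Finset.sum_range_succ']
  simp only [pow_zero, one_mul, Nat.choose_zero_right, Nat.cast_one, mul_one, Nat.sub_zero, add_sub_cancel_right]
  exact Ideal.sum_mem _ fun k _ => key (k + 1) (Nat.succ_ne_zero k)

end Groth.Agent.S18928
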