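import Groth.Statements.S18934
import Groth.Agent.FrobAlgLib.Syn
import Mathlib.RingTheory.AdjoinRoot

set_option autoImplicit false
universe u
open Synt

namespace Groth.Agent.S18934

open Polynomial in
/-- Let p be a prime, A a commutative ring and a an element of A. Then the A-algebra A[T]/(T^p − a) is
syntomic and faithfully flat over A. This is the step of the source's proof showing that adjoining a
p-th root of any element is a covering for the syntomic topology. -/
theorem result (p : ℕ) [Fact p.Prime]
    (A : Type u) [CommRing A] (a : A) :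
    Synt.IsSyntomic A (AdjoinRoot (X ^ p - C a)) ∧ Module.FaithfullyFlat A (AdjoinRoot (X ^ p - C a)) := by
  have hp : p ≠ 0 := (Fact.out : p.Prime).ne_zero
  rcases subsingleton_or_nontrivial A with hA | hA
  · haveI : Subsingleton (Polynomial A) := inferInstance
    haveI : Subsingleton (AdjoinRoot (X ^ p - C a)) := (AdjoinRoot.mk_surjective (g := X ^ p - C a)).subsingleton
    haveI : Module.Free A (AdjoinRoot (X ^ p - C a)) := Module.Free.of_subsingleton A _
    refine ⟨?_, ?_⟩
    · exact ⟨inferInstance, inferInstance, fun q => absurd (Subsingleton.elim q.asIdeal ⊤) q.2.ne_top⟩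
    · exact { submodule_ne_top := fun m hm => absurd (Subsingleton.elim m ⊤) hm.ne_top }
  have hm : (X ^ p - C a).Monic := monic_X_pow_sub_C a hp
  let pb := AdjoinRoot.powerBasis' hm
  have hd : pb.dim = p := by
    rw [AdjoinRoot.powerBasis'_dim, natDegree_X_pow_sub_C]
  let e : Fin pb.dim ≃ (Fin 1 → Fin p) := (finCongr hd).trans (Equiv.funUnique (Fin 1) (Fin p)).symm
  let b := pb.basis.reindex e
  refine ⟨Groth.Agent.FrobAlgLib.isSyntomic_of_monomialBasis (n := 1) (fun _ => AdjoinRoot.root (X ^ p - C a)) (fun _ => a) ?_ b ?_, ?_⟩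
  · intro _
    have := AdjoinRoot.eval₂_root (X ^ p - C a)
    simpa [eval₂_sub, sub_eq_zero, AdjoinRoot.algebraMap_eq] using this
  · intro r
    rw [Module.Basis.reindex_apply, pb.basis_eq_pow]
    simp [e, pb]
  · haveI := Module.Free.of_basis b
    haveI : Nonempty (Fin 1 → Fin p) := ⟨fun _ => ⟨0, Nat.pos_of_ne_zero hp⟩⟩
    exact Module.FaithfullyFlat.of_linearEquiv A _ b.repr

end Groth.Agent.S18934
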