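import Mathlib
import Groth.Statements.S18936

set_option autoImplicit false
universe u
open CAlg

namespace Groth.Agent.S18936

/-- Let A be a Noetherian commutative ring, q a prime ideal of A and f an element of A whose image in
the localization A_q is a non-zero-divisor. Then there is an element b of A not in q such that the
image of f in A[1/b] is a non-zero-divisor. -/
theorem result {A : Type u} [CommRing A] [IsNoetherianRing A]
    (q : Ideal A) [q.IsPrime] (f : A)
    (hf : algebraMap A (Localization.AtPrime q) f ∈ nonZeroDivisors (Localization.AtPrime q)) :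
    ∃ b : A, b ∉ q ∧ algebraMap A (Localization.Away b) f ∈ nonZeroDivisors (Localization.Away b) := by
  obtain ⟨s, hs⟩ := IsNoetherian.noetherian ((⊥ : Ideal A).colon (Ideal.span {f}))
  have hb : ∀ x : A, x * f = 0 → ∃ t : A, t ∉ q ∧ t * x = 0 := by
    intro x hx
    have : algebraMap A (Localization.AtPrime q) x = 0 := (mem_nonZeroDivisors_iff_right.mp hf) _ (by rw [← map_mul, hx, map_zero])
    obtain ⟨⟨t, ht⟩, h⟩ := (IsLocalization.map_eq_zero_iff q.primeCompl _ x).mp this
    exact ⟨t, ht, h⟩
  choose t ht htx using hb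
  classical
  have hmem : ∀ x ∈ s, x * f = 0 := fun x hx => by
    have : x ∈ (⊥ : Ideal A).colon (Ideal.span {f}) := hs ▸ Submodule.subset_span hx
    simpa using Submodule.mem_colon.mp this f (Ideal.mem_span_singleton_self f)
  refine ⟨∏ x ∈ s.attach, t x.1 (hmem _ x.2), ?_, ?_⟩
  · exact fun h => by
      obtain ⟨x, _, hx⟩ := (Ideal.IsPrime.prod_mem_iff).mp h
      exact ht _ _ hx
  · set b := ∏ x ∈ s.attach, t x.1 (hmem _ x.2)
    rw [mem_nonZeroDivisors_iff_right]
    intro z hz
    obtain ⟨⟨x, m⟩, hxm⟩ := IsLocalization.surj (Submonoid.powers b) z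
    have : algebraMap A (Localization.Away b) (x * f) = 0 := by rw [map_mul, ← hxm, mul_right_comm, hz, zero_mul]
    obtain ⟨⟨_, k, rfl⟩, h⟩ := (IsLocalization.map_eq_zero_iff (Submonoid.powers b) _ _).mp this
    have h' : b ^ k * x ∈ Submodule.span A (s : Set A) := by
      rw [hs, Submodule.mem_colon]
      intro p hp; obtain ⟨c, rfl⟩ := Ideal.mem_span_singleton'.mp hp
      simp only [smul_eq_mul, Submodule.mem_bot]
      linear_combination c * h
    have hbs : ∀ y ∈ Submodule.span A (s : Set A), b * y = 0 := by
      intro y hy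
      induction hy using Submodule.span_induction with
      | mem y hy =>
        obtain ⟨c, hc⟩ := Finset.dvd_prod_of_mem (fun x : {x // x ∈ s} => t x.1 (hmem _ x.2)) (Finset.mem_attach s ⟨y, hy⟩)
        rw [show b = _ from hc, mul_right_comm, htx, zero_mul]
      | zero => simp
      | add _ _ _ _ h1 h2 => rw [mul_add, h1, h2, add_zero]
      | smul c _ _ h1 => rw [smul_eq_mul, mul_left_comm, h1, mul_zero]
    have h0 : algebraMap A (Localization.Away b) x = 0 := (IsLocalization.map_eq_zero_iff (Submonoid.powers b) _ _).mpr ⟨⟨b^(k+1), k+1, rfl⟩, by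
      simp only; rw [pow_succ', mul_assoc, hbs _ h']⟩
    rw [h0] at hxm
    exact (IsUnit.mul_left_eq_zero (IsLocalization.map_units _ m)).mp hxm

end Groth.Agent.S18936
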