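import Groth.Statements.S18937
import Groth.Agent.RegPresLib.Basic

set_option autoImplicit false
universe u
open CategoryTheory AlgebraicGeometry
open RegImm

namespace Groth.Agent.S18937

/-- Let A be a Noetherian commutative ring, n a natural number, I an ideal of the polynomial ring A[X_1,
…, X_n] and B = A[X_1, …, X_n]/I, and assume that the closed immersion Spec B → Spec A[X_1, …, X_n]
is a regular immersion (kind: successive non-zero-divisors). Then Spec B is covered by basic opens
D(g) with B[1/g] isomorphic, as an A-algebra, to a quotient A[X_0, …, X_n]/(P_1, …, P_d) of the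
polynomial ring in one more variable by a regular sequence P_1, …, P_d. -/
theorem result
    (A : Type u) [CommRing A] [IsNoetherianRing A] (n : ℕ) (I : Ideal (MvPolynomial (Fin n) A))
    (h : RegImm.IsRegularImmersion RegImm.Kind.regular
      (Spec.map (CommRingCat.ofHom (Ideal.Quotient.mk I))))
    (q : PrimeSpectrum (MvPolynomial (Fin n) A ⧸ I)) :
    ∃ g : MvPolynomial (Fin n) A ⧸ I, g ∉ q.asIdeal ∧
      ∃ (d : ℕ) (P : Fin d → MvPolynomial (Fin (n + 1)) A),
        RingTheory.Sequence.IsRegular (MvPolynomial (Fin (n + 1)) A) (List.ofFn P) ∧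
        Nonempty (Localization.Away g ≃ₐ[A] (MvPolynomial (Fin (n + 1)) A ⧸ Ideal.ofList (List.ofFn P))) := by
  obtain ⟨h0, hq, rs, hrs, hI⟩ := RegPresLib.exists_away_isWeaklyRegular I h q
  obtain ⟨ps, φ, hps, hφ, hk⟩ := RegPresLib.exists_regular_presentation (A := A) I h0 rs hrs hI
  refine ⟨Ideal.Quotient.mk I h0, hq, ?_⟩
  let σ := MvPolynomial.finSuccEquiv A n
  let L : List (MvPolynomial (Fin (n + 1)) A) := ps.map σ.symm.toRingEquiv
  let ψ : MvPolynomial (Fin (n + 1)) A →ₐ[A] Localization.Away (Ideal.Quotient.mk I h0) := φ.comp σ.toAlgHom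
  have hψ : Function.Surjective ψ := hφ.comp σ.surjective
  have hψk : RingHom.ker ψ = Ideal.ofList L := by
    show RingHom.ker (φ.toRingHom.comp σ.toRingEquiv.toRingHom) = _
    rw [← RingHom.comap_ker, show RingHom.ker φ.toRingHom = Ideal.ofList ps from hk]
    show Ideal.comap σ.toRingEquiv (Ideal.ofList ps) = _
    rw [← Ideal.map_symm]
    show Ideal.map σ.symm.toRingEquiv.toRingHom (Ideal.ofList ps) = _
    rw [Ideal.map_ofList]
    rfl
  haveI : Nontrivial (Localization.Away (Ideal.Quotient.mk I h0)) :=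
    not_subsingleton_iff_nontrivial.mp fun hss => by
      have h0' := (IsLocalization.subsingleton_iff (M := Submonoid.powers (Ideal.Quotient.mk I h0)) (S := Localization.Away (Ideal.Quotient.mk I h0))).mp hss
      obtain ⟨m, hm⟩ := h0'
      exact hq (q.isPrime.mem_of_pow_mem m ((Eq.symm hm : (0 : _) = Ideal.Quotient.mk I h0 ^ m) ▸ q.asIdeal.zero_mem))
  refine ⟨L.length, L.get, ?_, ?_⟩
  · rw [List.ofFn_get]
    refine ⟨RegPresLib.isWeaklyRegular_map_ringEquiv σ.symm.toRingEquiv hps, ?_⟩
    rw [smul_eq_mul, Ideal.mul_top, ← hψk]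
    exact (RingHom.ker_ne_top ψ).symm
  · rw [List.ofFn_get, ← hψk]
    exact ⟨(Ideal.quotientKerAlgEquivOfSurjective hψ).symm⟩

end Groth.Agent.S18937
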