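import Groth.Statements.S18938
import Groth.Agent.CILib.RegPres

set_option autoImplicit false
universe u
open Synt

set_option backward.isDefEq.respectTransparency false

namespace Groth.Agent.S18938

/-- Let A be a Noetherian commutative ring and B a syntomic A-algebra. Then Spec B is covered by basic
opens D(g) with B[1/g] isomorphic, as an A-algebra, to A[T_1, …, T_n]/(P_1, …, P_d) for a regular
sequence P_1, …, P_d (successive non-zero-divisors with nonzero last quotient) in the polynomial
ring A[T_1, …, T_n]. (The source states this for a syntomic scheme over Spec A, syntomic meaning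
flat, locally of finite presentation and locally a Koszul-regular immersion into a smooth scheme;
here syntomic is the ring-map notion with local complete intersection fibres, which agrees with it.) -/
theorem result
    (A : Type u) [CommRing A] [IsNoetherianRing A] (B : Type u) [CommRing B] [Algebra A B]
    (h : Synt.IsSyntomic A B) (q : PrimeSpectrum B) :
    ∃ g : B, g ∉ q.asIdeal ∧
      ∃ (n d : ℕ) (P : Fin d → MvPolynomial (Fin n) A),
        RingTheory.Sequence.IsRegular (MvPolynomial (Fin n) A) (List.ofFn P) ∧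
        Nonempty (Localization.Away g ≃ₐ[A] (MvPolynomial (Fin n) A ⧸ Ideal.ofList (List.ofFn P))) := by
  let p := PrimeSpectrum.comap (algebraMap A B) q
  let Q := PrimeSpectrum.preimageEquivFiber A B p ⟨q, rfl⟩
  have hQ : Q.asIdeal.comap (Algebra.TensorProduct.includeRight : B →ₐ[A] p.asIdeal.Fiber B).toRingHom = q.asIdeal :=
    congrArg (fun z => z.1.asIdeal) ((PrimeSpectrum.preimageEquivFiber A B p).symm_apply_apply ⟨q, rfl⟩)
  have h1 : (1 : B) ∉ q.asIdeal := fun h => q.2.ne_top ((Ideal.eq_top_iff_one _).2 h)
  obtain ⟨hfp, hfl, hci⟩ := Groth.Agent.CILib.conditions_of_syntomic p.asIdeal q.asIdeal Q.asIdeal h1 hQ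
    (Groth.Agent.CILib.isSyntomic_away h 1 (Localization.Away (1 : B)))
  obtain ⟨g, hg, n, c, F, hF, ⟨ε⟩⟩ := Groth.Agent.CILib.exists_relGCI_of_conditions p.asIdeal q.asIdeal Q.asIdeal h1 hQ hci
  obtain ⟨q₁, _, hq₁, -⟩ := Groth.Agent.CILib.exists_atPrime_equiv_of_away (k := A) (B := Localization.Away g) g q.asIdeal hg
  let q' : Ideal (Synt.RelGCIRing A n c F) := q₁.comap ε.symm.toAlgHom.toRingHom
  haveI : q'.IsPrime := Ideal.IsPrime.comap _
  let qP := q'.comap (Ideal.Quotient.mk (Ideal.span (Set.range F)))
  haveI : qP.IsPrime := Ideal.IsPrime.comap _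
  have hqP : Ideal.span (Set.range F) ≤ qP := fun x hx => by
    show Ideal.Quotient.mk _ x ∈ q'
    rw [Ideal.Quotient.eq_zero_iff_mem.2 hx]
    exact q'.zero_mem
  have hw := (RingTheory.Sequence.isWeaklyRegular_map_algebraMap_iff (Localization.AtPrime qP) (Localization.AtPrime qP)
    (List.ofFn F)).1 (Groth.Agent.CILib.regular_flat_of_noetherian F hF qP hqP).1
  obtain ⟨u, hu, huw⟩ := Groth.Agent.CILib.exists_away_isWeaklyRegular qP (List.ofFn F) hw
  let s := Ideal.Quotient.mk (Ideal.span (Set.range F)) u
  haveI : Nontrivial (Localization.Away s) := by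
    refine not_subsingleton_iff_nontrivial.1 fun hsub => ?_
    have hm := (IsLocalization.subsingleton_iff (M := Submonoid.powers s) (S := Localization.Away s)).1 hsub
    obtain ⟨k, hk⟩ := hm
    exact hu (show s ∈ q' from ‹q'.IsPrime›.mem_of_pow_mem k (by rw [show s ^ k = 0 from hk]; exact q'.zero_mem))
  obtain ⟨P, hP, ⟨e⟩⟩ := Groth.Agent.CILib.exists_regular_presentation_away F u huw
  obtain ⟨e₁⟩ := Groth.Agent.CILib.exists_equiv_away_quotient ε.symm.toAlgHom ε.symm.surjective
    (AlgHom.id A (Synt.RelGCIRing A n c F)) Function.surjective_id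
    (fun x hx => by
      rw [RingHom.mem_ker] at hx ⊢
      show ε.symm x = 0
      rw [show x = 0 from hx, map_zero])
    s (fun x hx => by
      rw [RingHom.mem_ker] at hx ⊢
      show s * x = 0
      rw [show x = 0 from ε.symm.injective (by rw [map_zero]; exact hx), mul_zero])
  let T := Localization.Away g
  obtain ⟨m, b, hb⟩ := IsLocalization.Away.surj g (ε.symm s)
  have hgu : IsUnit (algebraMap B T g) := IsLocalization.Away.algebraMap_isUnit g
  haveI : IsLocalization.Away (algebraMap B T b) (Localization.Away (ε.symm s)) :=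
    IsLocalization.Away.of_associated (r := ε.symm s) ⟨(hgu.pow m).unit, hb⟩
  haveI : IsLocalization.Away (g * b) (Localization.Away (ε.symm s)) :=
    IsLocalization.Away.mul' T (Localization.Away (ε.symm s)) g b
  have hb' : b ∉ q.asIdeal := fun h => by
    rw [← hq₁, Ideal.mem_comap, ← hb] at h
    rcases (‹q₁.IsPrime›).mem_or_mem h with h | h
    · exact hu h
    · exact hg (hq₁ ▸ (‹q₁.IsPrime›).mem_of_pow_mem m h)
  exact ⟨g * b, fun hm => (q.2.mem_or_mem hm).elim hg hb', n + 1, c + 1, P, hP,
    ⟨(((IsLocalization.algEquiv (Submonoid.powers (g * b)) (Localization.Away (g * b))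
      (Localization.Away (ε.symm s))).restrictScalars A).trans e₁.symm).trans e⟩⟩

end Groth.Agent.S18938
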