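import Mathlib
import Groth.Agent.DefSchLib.LCIRel
import Groth.Statements.S18939

set_option autoImplicit false
universe u
open LCI

namespace Groth.Agent.S18939

/-- Let R be a commutative ring, I a proper ideal of R and f_1, …, f_r a Koszul-regular sequence of
elements of I generating I. Then I/I² is a free R/I-module of rank r, with basis the classes of f_1,
…, f_r. -/
theorem result {R : Type u} [CommRing R] {I : Ideal R} (hI : I ≠ ⊤)
    (r : ℕ) (f : Fin r → I) (hf : LCI.IsKoszulRegularSeq R (List.ofFn (fun i => (f i : R))))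
    (hfI : Ideal.span (Set.range (fun i => (f i : R))) = I) :
    ∃ b : Module.Basis (Fin r) (R ⧸ I) I.Cotangent, ∀ i, b i = I.toCotangent (f i) := by
  classical
  let a : Fin r → R := fun i => (f i : R)
  have hker : ∀ c : Fin r → R, ∑ i, c i * a i = 0 → ∀ i, c i ∈ I := by
    intro c hc i
    have hlen : (List.ofFn a).length = r := List.length_ofFn
    let q : Fin (List.ofFn a).length →₀ R :=
      Finsupp.equivFunOnFinite.symm fun j => c (Fin.cast hlen j)
    have hget : ∀ j, (List.ofFn a).get j = a (Fin.cast hlen j) := fun j => List.get_ofFn a j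
    have hq : q ∈ LinearMap.ker (Finsupp.linearCombination R (List.ofFn a).get) := by
      rw [LinearMap.mem_ker, Finsupp.linearCombination_apply, Finsupp.sum_fintype _ _ (by simp)]
      rw [← Equiv.sum_comp (finCongr hlen).symm]
      refine Eq.trans (Finset.sum_congr rfl fun j _ => ?_) hc
      simp [q, hget]
    have h1 := DefSchLib.mem_span_of_mem_trivR (DefSchLib.ker_le_trivR_of_isKoszulRegularSeq hf hq)
      (Fin.cast hlen.symm i)
    have h2 : Ideal.span (Set.range (List.ofFn a).get) = I := by
      rw [← hfI]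
      congr 1
      ext x
      constructor
      · rintro ⟨j, rfl⟩; exact ⟨Fin.cast hlen j, (hget j).symm⟩
      · rintro ⟨j, rfl⟩; exact ⟨Fin.cast hlen.symm j, by rw [hget]; rfl⟩
    rw [h2] at h1
    simpa [q] using h1
  have hmem : ∀ x ∈ I, ∃ d : Fin r → R, ∑ i, d i * a i = x := by
    intro x hx
    rw [← hfI] at hx
    exact (Ideal.mem_span_range_iff_exists_fun).1 hx
  let v : Fin r → I.Cotangent := fun i => I.toCotangent (f i)
  have hval : ∀ c : Fin r → R, ∑ i, Ideal.Quotient.mk I (c i) • v i =
      I.toCotangent (∑ i, c i • f i) := by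
    intro c
    rw [map_sum]
    refine Finset.sum_congr rfl fun i _ => ?_
    rw [map_smul]
    exact algebraMap_smul (R ⧸ I) (c i) (v i)
  have hli : LinearIndependent (R ⧸ I) v := by
    rw [Fintype.linearIndependent_iff]
    intro g hg i
    choose c hc using fun i => Ideal.Quotient.mk_surjective (g i)
    simp only [← hc] at hg
    rw [hval, Ideal.toCotangent_eq_zero] at hg
    have hsum : ((∑ i, c i • f i : I) : R) = ∑ i, c i * a i := by simp [a]
    rw [hsum] at hg
    -- an element of `I²` is a combination with coefficients in `I`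
    have hsq : ∀ x ∈ I ^ 2, ∃ d : Fin r → R, (∀ i, d i ∈ I) ∧ ∑ i, d i * a i = x := by
      intro x hx
      rw [pow_two] at hx
      refine Submodule.mul_induction_on hx (fun u hu w hw => ?_) (fun u w hu hw => ?_)
      · obtain ⟨d, hd⟩ := hmem w hw
        refine ⟨fun i => u * d i, fun i => I.mul_mem_right _ hu, ?_⟩
        simp only [mul_assoc, ← Finset.mul_sum, hd]
      · obtain ⟨d, hd, rfl⟩ := hu
        obtain ⟨d', hd', rfl⟩ := hw
        exact ⟨d + d', fun i => I.add_mem (hd i) (hd' i), by
          simp [add_mul, Finset.sum_add_distrib]⟩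
    obtain ⟨d, hd, hd2⟩ := hsq _ hg
    have h3 := hker (c - d) (by simp [sub_mul, Finset.sum_sub_distrib, hd2]) i
    rw [← hc, Ideal.Quotient.eq_zero_iff_mem]
    simpa using I.add_mem h3 (hd i)
  have hspan : ⊤ ≤ Submodule.span (R ⧸ I) (Set.range v) := by
    intro z _
    obtain ⟨x, rfl⟩ := I.toCotangent_surjective z
    obtain ⟨d, hd⟩ := hmem x x.2
    have : x = ∑ i, d i • f i := Subtype.ext (by simp [← hd, a])
    rw [this, ← hval]
    exact Submodule.sum_mem _ fun i _ => Submodule.smul_mem _ _ (Submodule.subset_span ⟨i, rfl⟩)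
  exact ⟨Module.Basis.mk hli hspan, fun i => by rw [Module.Basis.mk_apply]⟩

end Groth.Agent.S18939
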