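import Groth.Statements.S1894
import Groth.Agent.FinGrpdLib.Sat
import Groth.Agent.SpreadOut.Components
-- import your own Groth.Agent.* helpers here

set_option autoImplicit false
set_option backward.isDefEq.respectTransparency false
universe u
open CategoryTheory CategoryTheory.Limits AlgebraicGeometry
open Grpd
open Groth.Agent Groth.Agent.FinGrpdLib

namespace Groth.Agent.S1894

/-- Let (U, R, s, t, c) be a groupoid scheme over S with s, t quasi-compact and flat and U
quasi-separated, and W ⊆ U a quasi-compact open. Then there are an R-invariant open V (s⁻¹V = t⁻¹V)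
and a quasi-compact open W' with W ⊆ V ⊆ W'. (A groupoid scheme carries U, R, s, t, c, e, i over S
with the groupoid axioms on T-points; 'finite locally free' is finite, flat and locally of finite
presentation; C ⊂ Γ(U) is the ring of functions a with s♯(a) = t♯(a) and M = Spec C.) -/
theorem result (S : Scheme.{u}) (G : Grpd.GroupoidScheme S) [QuasiCompact G.s] [Flat G.s] [QuasiCompact G.t] [Flat G.t] [QuasiSeparatedSpace G.U] (W : G.U.Opens) (hW : IsCompact (W : Set G.U)) : ∃ V W' : G.U.Opens, G.s ⁻¹ᵁ V = G.t ⁻¹ᵁ V ∧ IsCompact (W' : Set G.U) ∧ W ≤ V ∧ V ≤ W' := by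
  obtain ⟨W', hW', hEW', -⟩ := exists_compact_open_between (isCompact_sat G W hW) isOpen_univ (Set.subset_univ _)
  let C : Set G.R := ⇑G.s ⁻¹' (W' : Set G.U)ᶜ
  let Z : Set G.U := closure (⇑G.t '' C)
  have hZ : ∀ r : G.R, G.s r ∈ Z → G.t r ∈ Z := by
    intro r hr
    obtain ⟨a, ha, hs⟩ := SpreadOut.exists_specializes_of_mem_closure_image G.t
      (Z := C) (W'.2.isClosed_compl.preimage G.s.continuous) hr
    obtain ⟨r', hr', hsr'⟩ := (Flat.generalizingMap G.s) hs
    refine (hr'.map G.t.continuous).mem_closed isClosed_closure (subset_closure ?_)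
    obtain ⟨y, hy, h⟩ := (mem_sat G).1 (⟨a, ha, rfl⟩ : G.t a ∈ ⇑G.t '' C)
    exact (mem_sat G).2 ⟨y, hy, Rel.trans ⟨r', rfl, hsr'⟩ h⟩
  refine ⟨⟨Zᶜ, isClosed_closure.isOpen_compl⟩, W', ?_, hW', ?_, ?_⟩
  · rw [invariant_iff]
    rintro x y ⟨r, rfl, rfl⟩ hx hy
    exact hx (hZ r hy)
  · intro w hw hwZ
    obtain ⟨x, hxW, hx⟩ := mem_closure_iff.1 hwZ _ W.2 hw
    obtain ⟨y, hy, h⟩ := (mem_sat G).1 hx
    exact hy (hEW' ((mem_sat G).2 ⟨x, hxW, Rel.symm h⟩))
  · intro x hx
    by_contra h
    exact hx (subset_closure (subset_sat G _ h))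

end Groth.Agent.S1894
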