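import Groth.Statements.S18943
import Mathlib
set_option backward.isDefEq.respectTransparency false
set_option backward.isDefEq.respectTransparency.types false

set_option autoImplicit false
open scoped ContDiff
open CInfGerm

namespace Groth.Agent.S18943

/-- Let f be an infinitely differentiable real-valued function on the real line with f(0) = 0. Then f(x)
= x·g(x) for an infinitely differentiable function g. (The source phrases this for germs at 0: the
maximal ideal of the local ring of germs of smooth functions at the origin is generated by the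
coordinate t; the global form stated here is what its argument, smooth extension of f(x)/x across 0,
gives.) -/
theorem result (f : ℝ → ℝ) (hf : ContDiff ℝ ∞ f) (h0 : f 0 = 0) :
    ∃ g : ℝ → ℝ, ContDiff ℝ ∞ g ∧ ∀ x : ℝ, f x = x * g x := by
  have hd : ∀ (k : ℕ) (F : ℝ → ℝ), ContDiff ℝ ∞ F → ∀ x₀ : ℝ,
      HasDerivAt (fun x => ∫ t in (0:ℝ)..1, t ^ k * F (t * x)) (∫ t in (0:ℝ)..1, t ^ (k + 1) * deriv F (t * x₀)) x₀ := by
    intro k F hF x₀
    have hc : Continuous F := hF.continuous
    have hc' : Continuous (deriv F) := (contDiff_infty_iff_deriv.1 hF).2.continuous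
    obtain ⟨C, hC⟩ := ((isCompact_Icc (a := (0:ℝ)) (b := 1)).prod (isCompact_closedBall x₀ (1:ℝ))).exists_bound_of_continuousOn
      (f := fun p : ℝ × ℝ => p.1 ^ (k + 1) * deriv F (p.1 * p.2)) (by fun_prop)
    refine (intervalIntegral.hasDerivAt_integral_of_dominated_loc_of_deriv_le
      (F := fun x t => t ^ k * F (t * x)) (F' := fun x t => t ^ (k + 1) * deriv F (t * x))
      (bound := fun _ => C) (Metric.closedBall_mem_nhds x₀ one_pos)
      (Filter.Eventually.of_forall fun x => (by fun_prop : Continuous fun t => t ^ k * F (t * x)).aestronglyMeasurable)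
      ((by fun_prop : Continuous fun t => t ^ k * F (t * x₀)).intervalIntegrable _ _)
      (by fun_prop : Continuous fun t => t ^ (k + 1) * deriv F (t * x₀)).aestronglyMeasurable
      (Filter.Eventually.of_forall fun t ht x hx => hC (t, x) ⟨?_, hx⟩)
      intervalIntegrable_const (Filter.Eventually.of_forall fun t _ x _ => ?_)).2
    · rw [Set.uIoc_of_le zero_le_one] at ht
      exact ⟨ht.1.le, ht.2⟩
    · have h1 : HasDerivAt (fun y => F (t * y)) (deriv F (t * x) * t) x := by
        have h2 : HasDerivAt F (deriv F (t * x)) (t * x) :=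
          ((contDiff_infty_iff_deriv.1 hF).1 _).hasDerivAt
        have h5 := h2.comp x ((hasDerivAt_id x).const_mul t)
        simp only [mul_one] at h5
        exact h5
      have h3 := h1.const_mul (t ^ k)
      rwa [show t ^ k * (deriv F (t * x) * t) = t ^ (k + 1) * deriv F (t * x) by ring] at h3
  have hsm : ∀ (n : ℕ) (k : ℕ) (F : ℝ → ℝ), ContDiff ℝ ∞ F →
      ContDiff ℝ n (fun x => ∫ t in (0:ℝ)..1, t ^ k * F (t * x)) := by
    intro n
    induction n with
    | zero =>
      intro k F hF
      rw [Nat.cast_zero, contDiff_zero]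
      exact continuous_iff_continuousAt.2 fun x => (hd k F hF x).continuousAt
    | succ n ih =>
      intro k F hF
      rw [Nat.cast_succ, contDiff_succ_iff_deriv]
      refine ⟨fun x => (hd k F hF x).differentiableAt, by simp, ?_⟩
      rw [show deriv (fun x => ∫ t in (0:ℝ)..1, t ^ k * F (t * x)) = _ from funext fun x => (hd k F hF x).deriv]
      exact ih (k + 1) _ (contDiff_infty_iff_deriv.1 hF).2
  refine ⟨fun x => ∫ t in (0:ℝ)..1, t ^ 0 * deriv f (t * x),
    contDiff_infty.2 fun n => hsm n 0 _ (contDiff_infty_iff_deriv.1 hf).2, fun x => ?_⟩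
  have h1 : ∀ t ∈ Set.uIcc (0:ℝ) 1, HasDerivAt (fun t => f (t * x)) (deriv f (t * x) * x) t := fun t _ => by
    have h2 : HasDerivAt f (deriv f (t * x)) (t * x) := ((contDiff_infty_iff_deriv.1 hf).1 _).hasDerivAt
    simpa [Function.comp_def] using h2.comp t ((hasDerivAt_id t).mul_const x)
  have hc' : Continuous (deriv f) := (contDiff_infty_iff_deriv.1 hf).2.continuous
  have h2 := intervalIntegral.integral_eq_sub_of_hasDerivAt h1
    ((by fun_prop : Continuous fun t => deriv f (t * x) * x).intervalIntegrable _ _)
  simp only [one_mul, zero_mul, h0, sub_zero] at h2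
  rw [← h2]
  simp [mul_comm]

end Groth.Agent.S18943
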