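import Groth.Statements.S18944
import Groth.Agent.RegIdealLib.Immersion
import Mathlib

set_option autoImplicit false
universe u
open CategoryTheory AlgebraicGeometry
open RegImm

namespace Groth.Agent.S18944

open AlgebraicGeometry CategoryTheory RingTheory.Sequence
set_option backward.isDefEq.respectTransparency false

/-- Let i : Z → X be a regular immersion of schemes (kind: successive non-zero-divisors). Then for every
point z of Z the kernel of the induced map of local rings O_{X, i(z)} → O_{Z, z} is generated by a
regular sequence of O_{X, i(z)}. (No Noetherian hypothesis; over a locally Noetherian X the converse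
also holds.) -/
theorem result {Z X : Scheme.{u}} (i : Z ⟶ X)
    (h : RegImm.IsRegularImmersion RegImm.Kind.regular i) (z : Z) :
    ∃ rs : List (X.presheaf.stalk (i z)),
      RingTheory.Sequence.IsRegular (X.presheaf.stalk (i z)) rs ∧
        RingHom.ker (i.stalkMap z).hom = Ideal.ofList rs := by
  obtain ⟨U, hzU, hc, rs, hrs, hker⟩ := h.2 z
  letI : Algebra Γ(X, U.1) (X.presheaf.stalk (i z)) := TopCat.Presheaf.algebra_section_stalk X.presheaf ⟨i z, hzU⟩
  haveI := U.2.isLocalization_stalk ⟨i z, hzU⟩
  haveI : Module.Flat Γ(X, U.1) (X.presheaf.stalk (i z)) :=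
    IsLocalization.flat _ (U.2.primeIdealOf ⟨i z, hzU⟩).asIdeal.primeCompl
  have hk : RingHom.ker (i.stalkMap z).hom = Ideal.ofList (rs.map (algebraMap Γ(X, U.1) (X.presheaf.stalk (i z)))) := by
    rw [Groth.Agent.RegIdealLib.ker_stalkMap i U.2 hc z hzU, hker, Ideal.map_ofList]
    rfl
  refine ⟨_, ⟨IsWeaklyRegular.of_flat (S := X.presheaf.stalk (i z)) (show IsRegular Γ(X, U.1) rs from hrs).toIsWeaklyRegular, ?_⟩, hk⟩
  intro htop
  rw [← hk, smul_eq_mul, Ideal.mul_top] at htop
  exact RingHom.ker_ne_top (i.stalkMap z).hom htop.symm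

end Groth.Agent.S18944
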