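import Groth.Statements.S18945
import Groth.Agent.S18934
import Groth.Agent.CILib.Scheme
import Mathlib
-- import your own Groth.Agent.* helpers here

set_option autoImplicit false
universe u
open CategoryTheory AlgebraicGeometry
open Synt

namespace Groth.Agent.S18945

/-- Let p be a prime, X a scheme and a a global section of the structure sheaf of X. There is a covering
of X for the syntomic topology, that is a jointly surjective family of syntomic morphisms X_i → X,
such that the restriction of a to each X_i is a p-th power. (The source states the surjectivity of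
the p-th power map of the structure sheaf on the small syntomic site of a syntomic scheme over a
perfect field of characteristic p; the covering it uses elsewhere, adjoining a p-th root T^p = a
over affine pieces, gives the statement for every scheme, which is the form given here.) -/
theorem result (p : ℕ) [Fact p.Prime] (X : Scheme.{u}) (a : Γ(X, ⊤)) :
    ∃ 𝒰 : Scheme.Cover.{u} (Scheme.precoverage @Synt.IsSyntomicMor) X,
      ∀ i : 𝒰.I₀, ∃ b : Γ(𝒰.X i, ⊤), b ^ p = (𝒰.f i).appTop a := by
  classical
  let B : X.affineOpens → CommRingCat.{u} := fun V =>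
    CommRingCat.of (AdjoinRoot (Polynomial.X ^ p - Polynomial.C (X.presheaf.map (homOfLE (le_top : V.1 ≤ ⊤)).op a)))
  let φ : ∀ V : X.affineOpens, Γ(X, V.1) ⟶ B V := fun V => CommRingCat.ofHom (AdjoinRoot.of _)
  let g : ∀ V : X.affineOpens, Spec (B V) ⟶ X := fun V => Spec.map (φ V) ≫ V.2.fromSpec
  have hsyn : ∀ V, Synt.IsSyntomicMor (g V) := fun V => by
    have h1 : Groth.Agent.CILib.SyntMor (Spec.map (φ V)) := by
      rw [HasRingHomProperty.Spec_iff (P := @Groth.Agent.CILib.SyntMor)]
      have := (Groth.Agent.S18934.result p Γ(X, V.1) (X.presheaf.map (homOfLE (le_top : V.1 ≤ ⊤)).op a)).1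
      exact Groth.Agent.CILib.isSyntomicHom_algebraMap.2 this
    haveI := HasRingHomProperty.respects_isOpenImmersion (P := @Groth.Agent.CILib.SyntMor)
      Groth.Agent.CILib.isSyntomicHom_sourceAway
    exact (Groth.Agent.CILib.syntMor_iff _).1
      (MorphismProperty.RespectsRight.postcomp (Q := @IsOpenImmersion) V.2.fromSpec inferInstance _ h1)
  refine ⟨{ I₀ := X.affineOpens, X := fun V => Spec (B V), f := g, mem₀ := ?_ }, fun V => ?_⟩
  · rw [Scheme.presieve₀_mem_precoverage_iff]
    refine ⟨fun x => ?_, hsyn⟩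
    obtain ⟨_, ⟨V, hV, rfl⟩, hxV, -⟩ :=
      X.isBasis_affineOpens.exists_subset_of_mem_open (Set.mem_univ x) isOpen_univ
    refine ⟨⟨V, hV⟩, ?_⟩
    haveI := (Groth.Agent.S18934.result p Γ(X, V) (X.presheaf.map (homOfLE (le_top : V ≤ ⊤)).op a)).2
    obtain ⟨z, hz⟩ : ∃ z : Spec Γ(X, V), hV.fromSpec z = x := by
      have : x ∈ Set.range hV.fromSpec := by rw [hV.range_fromSpec]; exact hxV
      exact this
    obtain ⟨w, hw⟩ := PrimeSpectrum.comap_surjective_of_faithfullyFlat
      (A := Γ(X, V)) (B := B ⟨V, hV⟩) z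
    exact ⟨w, by rw [Scheme.Hom.comp_apply]; exact (congrArg hV.fromSpec hw).trans hz⟩
  · refine ⟨(Scheme.ΓSpecIso (B V)).inv (AdjoinRoot.root _), ?_⟩
    rw [← map_pow]
    have hr : (AdjoinRoot.root _ : B V) ^ p =
        φ V (X.presheaf.map (homOfLE (le_top : V.1 ≤ ⊤)).op a) := by
      have := AdjoinRoot.eval₂_root (Polynomial.X ^ p - Polynomial.C (X.presheaf.map (homOfLE (le_top : V.1 ≤ ⊤)).op a))
      simpa [Polynomial.eval₂_sub, sub_eq_zero, φ] using this
    erw [hr]
    simp only [g, Scheme.Hom.comp_appTop, CommRingCat.comp_apply]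
    have e : V.2.fromSpec.appTop = X.presheaf.map (homOfLE (le_top : V.1 ≤ ⊤)).op ≫
        (Scheme.ΓSpecIso Γ(X, V.1)).inv := by
      rw [Scheme.Hom.appTop, V.2.fromSpec_app_of_le ⊤ le_top]
      exact congrArg (X.presheaf.map _ ≫ ·) ((congrArg ((Scheme.ΓSpecIso _).inv ≫ ·) ((Spec _).presheaf.map_id _)).trans (Category.comp_id _))
    rw [e]
    exact ConcreteCategory.congr_hom (Scheme.ΓSpecIso_inv_naturality (φ V)) _

end Groth.Agent.S18945
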