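import Groth.Statements.S18946
import Mathlib

set_option autoImplicit false
universe u
open scoped BigOperators
open InvQ

namespace Groth.Agent.S18946

open MvPolynomial

/-- Let k be an algebraically closed field of characteristic zero and n a natural number, and let the
torus of (n+1)-tuples of units of k with product 1 act on the polynomial ring k[t_0, ..., t_n] by
rescaling each variable t_i by the i-th unit. A polynomial is fixed by every such rescaling if and
only if it lies in the k-subalgebra generated by the product t_0 t_1 ... t_n. (This is the
computation of the ring of functions on affine (n+1)-space invariant under the maximal diagonal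
torus of the special linear group, identified with the polynomial ring in the single coordinate t =
t_0 ... t_n of the line it maps to by the product map; invariance is tested on k-valued points of
the torus, which over an infinite field is the same as invariance under the group scheme.) -/
theorem result
    (k : Type u) [Field k] [IsAlgClosed k] [CharZero k] (n : ℕ)
    (f : MvPolynomial (Fin (n + 1)) k) :
    (∀ σ : Fin (n + 1) → kˣ, ∏ i, (σ i : k) = 1 →
        MvPolynomial.aeval (fun i => MvPolynomial.C (σ i : k) * MvPolynomial.X i) f = f) ↔
      f ∈ Algebra.adjoin k ({∏ i : Fin (n + 1), MvPolynomial.X i} : Set (MvPolynomial (Fin (n + 1)) k)) := by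
  classical
  have hmap : ∀ (σ : Fin (n + 1) → kˣ) (d : Fin (n + 1) →₀ ℕ) (g : MvPolynomial (Fin (n + 1)) k),
      (aeval (fun i => C (σ i : k) * X i) g).coeff d = (∏ i, (σ i : k) ^ d i) * g.coeff d := by
    intro σ d g
    induction g using MvPolynomial.induction_on' with
    | add p q hp hq => rw [map_add, coeff_add, coeff_add, hp, hq, mul_add]
    | monomial e a =>
      have : aeval (fun i => C (σ i : k) * X i) (monomial e a) =
          monomial e ((∏ i, (σ i : k) ^ e i) * a) := by
        rw [aeval_monomial, Finsupp.prod_fintype _ _ (fun i => by simp)]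
        simp only [mul_pow, ← C_pow, Finset.prod_mul_distrib, MvPolynomial.algebraMap_eq]
        rw [← map_prod, monomial_eq, Finsupp.prod_fintype _ _ (fun i => by simp), map_mul]
        ring
      rw [this, coeff_monomial, coeff_monomial]
      split_ifs with h
      · subst h; rfl
      · simp
  constructor
  · intro hf
    rw [f.as_sum]
    refine Subalgebra.sum_mem _ fun d hd => ?_
    rw [mem_support_iff] at hd
    have hd0 : ∀ i, d i = d 0 := by
      intro i
      by_contra hi
      have hi0 : i ≠ 0 := fun h => hi (by rw [h])
      let w : kˣ := Units.mk0 2 two_ne_zero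
      let σ : Fin (n + 1) → kˣ := Function.update (Function.update 1 i w) 0 w⁻¹
      have hp : ∀ e : Fin (n + 1) → ℕ,
          ∏ j, (σ j : k) ^ e j = (2 : k) ^ e i * ((2 : k) ^ e 0)⁻¹ := by
        intro e
        rw [Fintype.prod_eq_mul i 0 hi0 (fun j hj => by simp [σ, hj.1, hj.2])]
        simp [σ, w, hi0]
      have h1 := congrArg (coeff d) (hf σ (by simpa using hp 1))
      rw [hmap, hp, mul_eq_right₀ hd, mul_inv_eq_one₀ (pow_ne_zero _ two_ne_zero)] at h1
      have h2 : ((2 ^ d i : ℕ) : k) = ((2 ^ d 0 : ℕ) : k) := by exact_mod_cast h1
      exact hi (Nat.pow_right_injective le_rfl (Nat.cast_injective h2))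
    have : monomial d (f.coeff d) = C (f.coeff d) * (∏ i, X i) ^ (d 0) := by
      rw [monomial_eq, Finsupp.prod_fintype _ _ (fun i => by simp), ← Finset.prod_pow]
      congr 1
      exact Finset.prod_congr rfl fun i _ => by rw [hd0 i]
    rw [this]
    have hpmem : (∏ i, X i : MvPolynomial (Fin (n + 1)) k) ∈
        Algebra.adjoin k ({∏ i : Fin (n + 1), MvPolynomial.X i} : Set (MvPolynomial (Fin (n + 1)) k)) :=
      Algebra.subset_adjoin (Set.mem_singleton _)
    rw [C_mul']
    exact Subalgebra.smul_mem _ (Subalgebra.pow_mem _ hpmem (d 0)) (f.coeff d)
  · intro hf σ hσ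
    induction hf using Algebra.adjoin_induction with
    | mem x hx =>
      rw [Set.mem_singleton_iff.1 hx, map_prod]
      simp only [aeval_X, Finset.prod_mul_distrib, ← map_prod, hσ, map_one, one_mul]
    | algebraMap r => exact AlgHom.commutes _ _
    | add a b _ _ ha hb => rw [map_add, ha, hb]
    | mul a b _ _ ha hb => rw [map_mul, ha, hb]

end Groth.Agent.S18946
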