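import Groth.Statements.S18948
import Mathlib

set_option autoImplicit false
universe u v
open CExt

namespace Groth.Agent.S18948

/-- Let f : E → G be a surjective homomorphism of groups whose kernel is central in E, and let x ∈ E.
Then f maps the conjugacy class of x bijectively onto the conjugacy class of f(x) if and only if
every element of G commuting with f(x) is the image of some element of E commuting with x. (In the
source E → G is the central extension, with kernel the roots of unity, attached to a Brauer class of
the classifying stack of a finite tame étale group scheme, and a conjugacy class of E mapping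
bijectively onto a given class of G is a marking; the equivalence is stated here for an arbitrary
central extension of abstract groups.) -/
theorem result {E : Type u} {G : Type v} [Group E] [Group G]
    (f : E →* G) (hf : Function.Surjective f) (hker : f.ker ≤ Subgroup.center E) (x : E) :
    Set.BijOn f (MulAction.orbit (ConjAct E) x) (MulAction.orbit (ConjAct G) (f x)) ↔
      ∀ g : G, g * f x = f x * g → ∃ e : E, f e = g ∧ e * x = x * e := by
  constructor
  · rintro ⟨-, hinj, -⟩ g hg
    obtain ⟨e, rfl⟩ := hf g
    refine ⟨e, rfl, ?_⟩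
    have h1 : f (e * x * e⁻¹) = f x := by rw [map_mul, map_mul, map_inv, hg, mul_inv_cancel_right]
    have h2 := hinj (MulAction.mem_orbit_iff.2 ⟨ConjAct.toConjAct e, by rw [ConjAct.smul_def, ConjAct.ofConjAct_toConjAct]⟩)
      (MulAction.mem_orbit_self x) h1
    exact mul_inv_eq_iff_eq_mul.1 h2
  · intro h
    refine ⟨?_, ?_, ?_⟩
    · rintro _ ⟨a, rfl⟩
      exact ⟨ConjAct.toConjAct (f (ConjAct.ofConjAct a)), by simp [ConjAct.smul_def]⟩
    · rintro _ ⟨a, rfl⟩ _ ⟨b, rfl⟩ hab
      simp only [ConjAct.smul_def, map_mul, map_inv] at hab ⊢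
      set u := ConjAct.ofConjAct a
      set w := ConjAct.ofConjAct b
      have hc : f (w⁻¹ * u) * f x = f x * f (w⁻¹ * u) := by
        rw [map_mul, map_inv]
        calc (f w)⁻¹ * f u * f x = (f w)⁻¹ * (f u * f x * (f u)⁻¹) * f u := by group
          _ = (f w)⁻¹ * (f w * f x * (f w)⁻¹) * f u := by rw [hab]
          _ = f x * ((f w)⁻¹ * f u) := by group
      obtain ⟨e, he, hex⟩ := h _ hc
      have hz : e⁻¹ * (w⁻¹ * u) ∈ Subgroup.center E := hker (by rw [MonoidHom.mem_ker, map_mul, map_inv, he, inv_mul_cancel])
      have hwu : w⁻¹ * u * x = x * (w⁻¹ * u) := by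
        rw [show w⁻¹ * u = e * (e⁻¹ * (w⁻¹ * u)) by group, mul_assoc, ← (Subgroup.mem_center_iff.1 hz x), ← mul_assoc, hex, mul_assoc]
      calc u * x * u⁻¹ = w * (w⁻¹ * u * x) * u⁻¹ := by group
        _ = w * (x * (w⁻¹ * u)) * u⁻¹ := by rw [hwu]
        _ = w * x * w⁻¹ := by group
    · rintro _ ⟨a, rfl⟩
      obtain ⟨e, he⟩ := hf (ConjAct.ofConjAct a)
      exact ⟨_, ⟨ConjAct.toConjAct e, rfl⟩, by simp [ConjAct.smul_def, he]⟩

end Groth.Agent.S18948
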