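import Groth.Statements.S18949
import Mathlib

set_option autoImplicit false
universe u v
open CExt

namespace Groth.Agent.S18949

/-- Automorphisms over the base: let f : E → G be a surjective homomorphism of groups with central
kernel A. For every homomorphism χ : G → A the map e ↦ χ(f(e)) · e is an endomorphism of E over G
which is the identity on A; and every endomorphism α of E with f ∘ α = f and α equal to the identity
on A is of this form for exactly one χ. (In the source this identifies the automorphisms of a
central extension fixing its kernel with Hom(G, A), for extensions of profinite étale group schemes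
over a field; stated here for abstract groups.) -/
theorem result {E : Type u} {G : Type v} [Group E] [Group G]
    (f : E →* G) (hf : Function.Surjective f) (hker : f.ker ≤ Subgroup.center E) :
    (∀ χ : G →* f.ker, ∃ α : E →* E, f.comp α = f ∧ (∀ a ∈ f.ker, α a = a) ∧
        ∀ e : E, α e = (χ (f e) : E) * e) ∧
      ∀ α : E →* E, f.comp α = f → (∀ a ∈ f.ker, α a = a) →
        ∃! χ : G →* f.ker, ∀ e : E, α e = (χ (f e) : E) * e := by
  refine ⟨fun χ => ?_, fun α hα hαA => ?_⟩
  · refine ⟨{ toFun := fun e => (χ (f e) : E) * e
              map_one' := by simp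
              map_mul' := fun a b => ?_ }, ?_, ?_, fun e => rfl⟩
    · rw [map_mul, map_mul, Subgroup.coe_mul]
      have h := Subgroup.mem_center_iff.1 (hker (χ (f b)).2) a
      calc (χ (f a) : E) * χ (f b) * (a * b) = χ (f a) * (χ (f b) * a) * b := by group
        _ = χ (f a) * (a * χ (f b)) * b := by rw [h]
        _ = χ (f a) * a * (χ (f b) * b) := by group
    · refine MonoidHom.ext fun e => ?_
      show f ((χ (f e) : E) * e) = f e
      rw [map_mul, MonoidHom.mem_ker.1 (χ (f e)).2, one_mul]
    · intro a ha
      show (χ (f a) : E) * a = a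
      rw [MonoidHom.mem_ker.1 ha, map_one, Subgroup.coe_one, one_mul]
  · have hk : ∀ e, α e * e⁻¹ ∈ f.ker := fun e => by
      rw [MonoidHom.mem_ker, map_mul, map_inv, ← MonoidHom.comp_apply, hα, mul_inv_cancel]
    choose s hs using hf
    have hwd : ∀ e e', f e = f e' → α e * e⁻¹ = α e' * e'⁻¹ := fun e e' h => by
      have ha : e'⁻¹ * e ∈ f.ker := by rw [MonoidHom.mem_ker, map_mul, map_inv, h, inv_mul_cancel]
      rw [show e = e' * (e'⁻¹ * e) by group, map_mul, hαA _ ha]
      group
    refine ⟨{ toFun := fun g => ⟨α (s g) * (s g)⁻¹, hk _⟩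
              map_one' := Subtype.ext (by
                show α (s 1) * (s 1)⁻¹ = 1
                rw [hwd (s 1) 1 (by rw [hs, map_one]), map_one, inv_one, mul_one])
              map_mul' := fun g g' => Subtype.ext (by
                show α (s (g * g')) * (s (g * g'))⁻¹ = (α (s g) * (s g)⁻¹) * (α (s g') * (s g')⁻¹)
                rw [hwd (s (g * g')) (s g * s g') (by rw [map_mul, hs, hs, hs]), map_mul, mul_inv_rev]
                have h := Subgroup.mem_center_iff.1 (hker (hk (s g'))) (s g)⁻¹
                calc α (s g) * α (s g') * ((s g')⁻¹ * (s g)⁻¹) = α (s g) * (α (s g') * (s g')⁻¹ * (s g)⁻¹) := by group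
                  _ = α (s g) * ((s g)⁻¹ * (α (s g') * (s g')⁻¹)) := by rw [h]
                  _ = _ := by group) },
      fun e => ?_, fun χ hχ => MonoidHom.ext fun g => Subtype.ext ?_⟩
    · show α e = α (s (f e)) * (s (f e))⁻¹ * e
      rw [hwd (s (f e)) e (hs _), inv_mul_cancel_right]
    · show (χ g : E) = α (s g) * (s g)⁻¹
      rw [hχ, hs, mul_inv_cancel_right]

end Groth.Agent.S18949
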