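import Groth.Statements.S18951
import Mathlib

set_option autoImplicit false
universe u
open OrbPic

namespace Groth.Agent.S18951

/-- Let G be a group and C ⊆ G a subset that generates G. Then the projection (χ, w) ↦ w from the group
of geometric partial orbifold line bundles with respect to C to functions G → ℚ is injective, its
image contains every conjugation-invariant integer-valued function vanishing at 1 and outside C, and
the group is torsion-free. (The source works with the geometric points of a tame finite étale group
scheme, characters with values in roots of unity and weights on conjugacy classes of the Tate twist;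
here these are identified with a group, homomorphisms to ℚ/ℤ and class functions as the source does
after choosing roots of unity. The case C = G ∖ {1} is the statement for full orbifold line
bundles.) -/
theorem result (G : Type u) [Group G] (C : Set G)
    (hC : Subgroup.closure C = ⊤) :
    Set.InjOn (fun p : (Additive G →+ W4c6brauerbgmalle.QmodZ) × (G → ℚ) => p.2) (W4c6brauerbgmalle.picOrb G C) ∧
      (∀ w ∈ W4c6brauerbgmalle.intWeights G C, ((0 : Additive G →+ W4c6brauerbgmalle.QmodZ), w) ∈ W4c6brauerbgmalle.picOrb G C) ∧
      ∀ (n : ℕ) (p : (Additive G →+ W4c6brauerbgmalle.QmodZ) × (G → ℚ)), p ∈ W4c6brauerbgmalle.picOrb G C → n ≠ 0 →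
        n • p = 0 → p = 0 := by
  refine ⟨fun p hp q hq hpq => ?_, fun w hw => ?_, fun n p hp hn h0 => ?_⟩
  · refine Prod.ext ?_ hpq
    have hw : p.2 = q.2 := hpq
    have h : ∀ g : G, p.1 (Additive.ofMul g) = q.1 (Additive.ofMul g) := fun g => by
      have hg : g ∈ Subgroup.closure C := hC ▸ Subgroup.mem_top g
      induction hg using Subgroup.closure_induction with
      | mem x hx => rw [← hp.2.2.2 x hx, ← hq.2.2.2 x hx, hw]
      | one => simp
      | mul a b _ _ ha hb => rw [ofMul_mul, map_add, map_add, ha, hb]
      | inv a _ ha => rw [ofMul_inv, map_neg, map_neg, ha]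
    exact AddMonoidHom.ext fun x => h (Additive.toMul x)
  · refine ⟨hw.1, hw.2.1, hw.2.2.1, fun g _ => ?_⟩
    obtain ⟨m, hm⟩ := hw.2.2.2 g
    show W4c6brauerbgmalle.toQmodZ (w g) = 0
    rw [hm]
    exact (QuotientAddGroup.eq_zero_iff _).2 (AddSubgroup.mem_zmultiples_iff.2 ⟨m, by simp⟩)
  · have hw : p.2 = 0 := by
      funext g
      have h1 := congrFun (congrArg Prod.snd h0) g
      simpa [hn] using h1
    refine Prod.ext (AddMonoidHom.ext fun x => ?_) hw
    have hg : Additive.toMul x ∈ Subgroup.closure C := hC ▸ Subgroup.mem_top _
    show p.1 (Additive.ofMul (Additive.toMul x)) = 0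
    generalize Additive.toMul x = g at hg
    induction hg using Subgroup.closure_induction with
    | mem y hy => rw [← hp.2.2.2 y hy, hw]; simp
    | one => simp
    | mul a b _ _ ha hb => rw [ofMul_mul, map_add, ha, hb, add_zero]
    | inv a _ ha => rw [ofMul_inv, map_neg, ha, neg_zero]

end Groth.Agent.S18951
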