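import Groth.Statements.S18952
import Mathlib

set_option autoImplicit false
universe u
open OrbPic

namespace Groth.Agent.S18952

/-- Let G be a group and C ⊆ G a subset stable under conjugation. Then (χ, w) ↦ χ maps the group of
geometric partial orbifold line bundles with respect to C onto all characters G → ℚ/ℤ, and a pair in
its kernel (χ trivial) has w a conjugation-invariant integer-valued function vanishing at 1 and
outside C: with the inclusion of such functions this is the exact sequence 0 → Hom(C/conj, ℤ) → Pic
→ Hom(G, ℚ/ℤ) → 0 over a separably closed field. (As in the source after a choice of roots of unity,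
the group G stands for the geometric points of a tame finite étale group scheme, characters are
homomorphisms to ℚ/ℤ and weights are class functions on G.) -/
theorem result (G : Type u) [Group G] (C : Set G)
    (hC : ∀ g h : G, g ∈ C → h * g * h⁻¹ ∈ C) :
    (∀ χ : Additive G →+ W4c6brauerbgmalle.QmodZ, ∃ w : G → ℚ, (χ, w) ∈ W4c6brauerbgmalle.picOrb G C) ∧
      (∀ p : (Additive G →+ W4c6brauerbgmalle.QmodZ) × (G → ℚ), p ∈ W4c6brauerbgmalle.picOrb G C → p.1 = 0 →
        p.2 ∈ W4c6brauerbgmalle.intWeights G C) := by
  classical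
  refine ⟨fun χ => ?_, fun p hp h0 => ⟨hp.1, hp.2.1, hp.2.2.1, fun g => ?_⟩⟩
  · let lift : W4c6brauerbgmalle.QmodZ → ℚ := fun x => if x = 0 then 0 else Quotient.out x
    have hlift : ∀ x, W4c6brauerbgmalle.toQmodZ (lift x) = x := fun x => by
      simp only [lift]
      split
      · rename_i h; rw [h, map_zero]
      · exact Quotient.out_eq x
    refine ⟨fun g => if g ∈ C then lift (χ (Additive.ofMul g)) else 0, ?_, fun g hg => if_neg hg, fun g h => ?_, fun g hg => ?_⟩
    · show (if (1 : G) ∈ C then lift (χ (Additive.ofMul 1)) else 0) = 0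
      simp [lift]
    · show (if h * g * h⁻¹ ∈ C then lift (χ (Additive.ofMul (h * g * h⁻¹))) else 0) = _
      have h1 : h * g * h⁻¹ ∈ C ↔ g ∈ C :=
        ⟨fun hm => by simpa [mul_assoc] using hC _ h⁻¹ hm, fun hm => hC g h hm⟩
      simp only [h1, ofMul_mul, ofMul_inv, map_add, map_neg]
      congr 2
      abel
    · show W4c6brauerbgmalle.toQmodZ (if g ∈ C then lift (χ (Additive.ofMul g)) else 0) = χ (Additive.ofMul g)
      rw [if_pos hg, hlift]
  · by_cases hg : g ∈ C
    · have h1 := hp.2.2.2 g hg
      rw [h0] at h1
      obtain ⟨m, hm⟩ := AddSubgroup.mem_zmultiples_iff.1 ((QuotientAddGroup.eq_zero_iff _).1 h1)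
      exact ⟨m, by simpa using hm.symm⟩
    · exact ⟨0, by simp [hp.2.1 g hg]⟩

end Groth.Agent.S18952
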