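import Groth.Statements.S18953
import Mathlib

set_option autoImplicit false
universe u v
open OrbPic

namespace Groth.Agent.S18953

/-- Let G₁ and G₂ be groups with subsets C₁ ⊆ G₁ and C₂ ⊆ G₂, and let C ⊆ G₁ × G₂ be the union of C₁ ×
{1} and {1} × C₂. Restricting the character and the weight along the two inclusions G₁ → G₁ × G₂ and
G₂ → G₁ × G₂ is a bijection from the geometric partial orbifold line bundles of G₁ × G₂ with respect
to C onto pairs of geometric partial orbifold line bundles of G₁ with respect to C₁ and of G₂ with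
respect to C₂. (As in the source after a choice of roots of unity, each group stands for the
geometric points of a tame finite étale group scheme, characters are homomorphisms to ℚ/ℤ and
weights are class functions; the source states the Galois-equivariant version, which follows by
taking invariants.) -/
theorem result (G₁ : Type u) (G₂ : Type v) [Group G₁] [Group G₂] (C₁ : Set G₁) (C₂ : Set G₂) :
    Set.BijOn
      (fun p : (Additive (G₁ × G₂) →+ W4c6brauerbgmalle.QmodZ) × (G₁ × G₂ → ℚ) =>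
        ((p.1.comp (MonoidHom.toAdditive (MonoidHom.inl G₁ G₂)), fun g => p.2 (g, 1)),
          (p.1.comp (MonoidHom.toAdditive (MonoidHom.inr G₁ G₂)), fun g => p.2 (1, g))))
      (W4c6brauerbgmalle.picOrb (G₁ × G₂) ((fun g => (g, (1 : G₂))) '' C₁ ∪ (fun g => ((1 : G₁), g)) '' C₂))
      ((W4c6brauerbgmalle.picOrb G₁ C₁ : Set _) ×ˢ (W4c6brauerbgmalle.picOrb G₂ C₂ : Set _)) := by
  classical
  set C : Set (G₁ × G₂) := (fun g => (g, (1 : G₂))) '' C₁ ∪ (fun g => ((1 : G₁), g)) '' C₂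
  have hC : ∀ a b, (a, b) ∈ C → (b = 1 ∧ a ∈ C₁) ∨ (a = 1 ∧ b ∈ C₂) := by
    rintro a b (⟨x, hx, h⟩ | ⟨x, hx, h⟩) <;> obtain ⟨rfl, rfl⟩ := Prod.mk.inj h
    · exact Or.inl ⟨rfl, hx⟩
    · exact Or.inr ⟨rfl, hx⟩
  have key : ∀ p ∈ W4c6brauerbgmalle.picOrb (G₁ × G₂) C, ∀ a b, p.2 (a, b) = if b = 1 then p.2 (a, 1) else
      if a = 1 then p.2 (1, b) else 0 := fun p hp a b => by
    by_cases hb : b = 1
    · rw [if_pos hb, hb]
    · rw [if_neg hb]
      by_cases ha : a = 1
      · rw [if_pos ha, ha]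
      · rw [if_neg ha]
        exact hp.2.1 _ fun h => by rcases hC a b h with ⟨h', -⟩ | ⟨h', -⟩ <;> contradiction
  refine ⟨fun p hp => ⟨⟨hp.1, fun g hg => ?_, fun g h => ?_, fun g hg => ?_⟩, ⟨hp.1, fun g hg => ?_, fun g h => ?_, fun g hg => ?_⟩⟩,
    fun p hp q hq hpq => ?_, ?_⟩
  · show p.2 (g, 1) = 0
    by_cases h1 : g = 1
    · rw [h1]; exact hp.1
    · exact hp.2.1 _ fun h => by rcases hC g 1 h with ⟨-, h'⟩ | ⟨h', -⟩ <;> contradiction
  · simpa using hp.2.2.1 (g, 1) (h, 1)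
  · exact hp.2.2.2 (g, 1) (Or.inl ⟨g, hg, rfl⟩)
  · show p.2 (1, g) = 0
    by_cases h1 : g = 1
    · rw [h1]; exact hp.1
    · exact hp.2.1 _ fun h => by rcases hC 1 g h with ⟨h', -⟩ | ⟨-, h'⟩ <;> contradiction
  · simpa using hp.2.2.1 (1, g) (1, h)
  · exact hp.2.2.2 (1, g) (Or.inr ⟨g, hg, rfl⟩)
  · simp only [Prod.mk.injEq] at hpq
    obtain ⟨⟨h1, h2⟩, h3, h4⟩ := hpq
    refine Prod.ext (AddMonoidHom.ext fun x => ?_) (funext fun ⟨a, b⟩ => ?_)
    · suffices ∀ a b, p.1 (Additive.ofMul (a, b)) = q.1 (Additive.ofMul (a, b)) from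
        this (Additive.toMul x).1 (Additive.toMul x).2
      intro a b
      have e1 := DFunLike.congr_fun h1 (Additive.ofMul a)
      have e2 := DFunLike.congr_fun h3 (Additive.ofMul b)
      simp only [AddMonoidHom.comp_apply] at e1 e2
      rw [show ((a, b) : G₁ × G₂) = (a, 1) * (1, b) by simp, ofMul_mul, map_add, map_add]
      exact congrArg₂ (· + ·) e1 e2
    · rw [key p hp, key q hq, congrFun h2 a, congrFun h4 b]
  · rintro ⟨⟨χ₁, w₁⟩, χ₂, w₂⟩ ⟨hp, hq⟩
    have hp1 : w₁ 1 = 0 := hp.1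
    have hq1 : w₂ 1 = 0 := hq.1
    refine ⟨((χ₁.comp (MonoidHom.toAdditive (MonoidHom.fst G₁ G₂))) + χ₂.comp (MonoidHom.toAdditive (MonoidHom.snd G₁ G₂)),
      fun x => if x.2 = 1 then w₁ x.1 else if x.1 = 1 then w₂ x.2 else 0), ⟨?_, ?_, ?_, ?_⟩, ?_⟩
    · show (if (1 : G₂) = 1 then w₁ 1 else _) = 0
      rw [if_pos rfl]; exact hp.1
    · rintro ⟨a, b⟩ hg
      show (if b = 1 then w₁ a else if a = 1 then w₂ b else 0) = 0
      split
      · rename_i hb
        subst hb
        exact hp.2.1 a fun h => hg (Or.inl ⟨a, h, rfl⟩)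
      · split
        · rename_i ha
          subst ha
          exact hq.2.1 b fun h => hg (Or.inr ⟨b, h, rfl⟩)
        · rfl
    · rintro ⟨a, b⟩ ⟨x, y⟩
      have h1 : y * b * y⁻¹ = 1 ↔ b = 1 := by rw [mul_inv_eq_one, mul_eq_left]
      have h2 : x * a * x⁻¹ = 1 ↔ a = 1 := by rw [mul_inv_eq_one, mul_eq_left]
      show (if y * b * y⁻¹ = 1 then w₁ (x * a * x⁻¹) else if x * a * x⁻¹ = 1 then w₂ (y * b * y⁻¹) else 0) =
        (if b = 1 then w₁ a else if a = 1 then w₂ b else 0)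
      rw [show w₁ (x * a * x⁻¹) = w₁ a from hp.2.2.1 a x, show w₂ (y * b * y⁻¹) = w₂ b from hq.2.2.1 b y]
      simp only [h1, h2]
    · rintro ⟨a, b⟩ hg
      show W4c6brauerbgmalle.toQmodZ (if b = 1 then w₁ a else if a = 1 then w₂ b else 0) =
        χ₁ (Additive.ofMul a) + χ₂ (Additive.ofMul b)
      rcases hC a b hg with ⟨rfl, ha⟩ | ⟨rfl, hb⟩
      · rw [if_pos rfl, ofMul_one, map_zero, add_zero]; exact hp.2.2.2 a ha
      · by_cases hb1 : b = 1
        · subst hb1
          simp [hp1]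
        · rw [if_neg hb1, if_pos rfl, ofMul_one, map_zero, zero_add]; exact hq.2.2.2 b hb
    · refine Prod.ext (Prod.ext ?_ ?_) (Prod.ext ?_ ?_)
      · ext x; simp
      · funext a; simp
      · ext x; simp
      · funext b
        by_cases hb : b = 1
        · subst hb; simp [hp1, hq1]
        · simp [hb]

end Groth.Agent.S18953
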