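import Groth.Statements.S18958
import Groth.Agent.MagnetHom.Units
-- import your own Groth.Agent.* helpers here

set_option autoImplicit false
set_option backward.isDefEq.respectTransparency false
universe u
open CategoryTheory MonoidalCategory CartesianMonoidalCategory MonObj AlgebraicGeometry Opposite
open Magnet

namespace Groth.Agent.S18958

/-- Let k be a field, G a group k-scheme and M a monoid k-scheme with a homomorphism of monoids i : G →
M and a zero o : Spec k → M (m·o = o = o·m for every point m of M). Assume that for every k-scheme T
whose underlying scheme is the spectrum of a field K, every open subset of M ×_k T which is stable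
under G acting by left multiplication through i on the first factor and which contains the zero
section T → M ×_k T is the whole of M ×_k T. Let X be a k-scheme with an action aX of G and j : U →
X an open immersion, G-equivariant for an action aU of G on U (an open G-stable subscheme). For a
G-scheme W write D_W for the functor on k-schemes whose value at Y is the set of k-morphisms M ×_k Y
→ W that are G-equivariant for G acting on M ×_k Y by left multiplication through i on the first
factor. Then the square of presheaves formed by D_U → D_X (composition with j), the restrictions D_U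
→ U and D_X → X to the zero section of M, and j is cartesian. (In the source M is a Kempf monoid
with G its group of units, and the restriction to the zero section is viewed as the retraction of
D_X onto the fixed points X^G; the displayed property of the open G-stable subsets of M over field
extensions is what the argument uses about M, and the square over X^G is cartesian exactly when the
one over X is, U^G being X^G ×_X U.) -/
theorem result (k : Type u) [Field k]
    (M G X U : Over (Spec (CommRingCat.of k))) [MonObj M] [GrpObj G] (i : G ⟶ M) [IsMonHom i]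
    (o : 𝟙_ (Over (Spec (CommRingCat.of k))) ⟶ M)
    (ho : ∀ (T : Over (Spec (CommRingCat.of k))) (m : T ⟶ M), m * (toUnit T ≫ o) = toUnit T ≫ o ∧ (toUnit T ≫ o) * m = toUnit T ≫ o)
    (hM : ∀ (T : Over (Spec (CommRingCat.of k))) (K : Type u) [Field K] (eT : T.left ≅ Spec (CommRingCat.of K))
      (W : (M ⊗ T).left.Opens),
      (CartesianMonoidalCategory.snd G (M ⊗ T)).left ⁻¹ᵁ W ≤
          ((((Magnet.MonAct.regular M).restrict i).prod (Magnet.MonAct.trivial G T)).act).left ⁻¹ᵁ W →
      (CartesianMonoidalCategory.lift (toUnit T ≫ o) (𝟙 T)).left ⁻¹ᵁ W = ⊤ → W = ⊤)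
    (aX : AlgGrp.Action G X) (aU : AlgGrp.Action G U) (j : U ⟶ X) [IsOpenImmersion j.left]
    (hj : Magnet.MonAct.IsEquivariant (Magnet.MonAct.ofAction aU) (Magnet.MonAct.ofAction aX) j) :
    IsPullback
      (Magnet.MonAct.eqvHom.postcomp ((Magnet.MonAct.regular M).restrict i) j hj)
      (Magnet.MonAct.eqvHom.evalAt ((Magnet.MonAct.regular M).restrict i) (Magnet.MonAct.ofAction aU) o)
      (Magnet.MonAct.eqvHom.evalAt ((Magnet.MonAct.regular M).restrict i) (Magnet.MonAct.ofAction aX) o)
      (yoneda.map j) := by
  haveI : Mono j.left := inferInstance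
  haveI : Mono j := Over.mono_of_mono_left j
  refine IsPullback.of_forall_isPullback_app fun T => ?_
  rw [CategoryTheory.Limits.Types.isPullback_iff]
  refine ⟨by ext φ; exact (Category.assoc _ _ _).symm, ?_, ?_⟩
  · intro ψ₁ ψ₂ h
    exact Subtype.ext ((cancel_mono j).mp (congrArg Subtype.val h.1))
  · intro φ z hz
    change (Magnet.MonAct.eqvHom.evalAt _ _ _).app T φ = z ≫ j at hz
    have hU := Groth.Agent.MagnetHom.snd_preimage_opensRange_le j hj
    have h0 : ((Magnet.MonAct.eqvHom.evalAt ((Magnet.MonAct.regular M).restrict i) (Magnet.MonAct.ofAction aX) o).app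
        (op (unop T)) φ).left ⁻¹ᵁ j.left.opensRange = ⊤ := by
      rw [show (Magnet.MonAct.eqvHom.evalAt ((Magnet.MonAct.regular M).restrict i) (Magnet.MonAct.ofAction aX) o).app
        (op (unop T)) φ = z ≫ j from hz, Over.comp_left, Scheme.Hom.comp_preimage, Scheme.Hom.preimage_opensRange]
      rfl
    have h1 := Groth.Agent.MagnetHom.preimage_eq_top_of_evalAt _ o (fun T' K _ eT W => hM T' K eT W) _ _ hU
      (T := unop T) φ h0
    have hr : Set.range φ.1.left ⊆ Set.range j.left := by
      rintro _ ⟨q, rfl⟩
      exact h1.ge (Set.mem_univ q)
    let m : M ⊗ unop T ⟶ U := Over.homMk (IsOpenImmersion.lift j.left φ.1.left hr)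
      (by rw [← Over.w j, IsOpenImmersion.lift_fac_assoc]; exact Over.w φ.1)
    have hm : m ≫ j = φ.1 := Over.OverMorphism.ext (IsOpenImmersion.lift_fac _ _ _)
    have hj' : (Magnet.MonAct.ofAction aU).act ≫ j = (_ ◁ j) ≫ (Magnet.MonAct.ofAction aX).act := hj
    refine ⟨⟨m, ?_⟩, Subtype.ext hm, ?_⟩
    · have hφ := φ.2
      unfold Magnet.MonAct.IsEquivariant at hφ ⊢
      rw [← cancel_mono j, Category.assoc, hm, hφ, Category.assoc, hj', ← MonoidalCategory.whiskerLeft_comp_assoc, hm]
    · rw [← cancel_mono j, Magnet.MonAct.eqvHom.evalAt_app, Category.assoc]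
      change _ ≫ m ≫ j = _
      rw [hm, ← hz, Magnet.MonAct.eqvHom.evalAt_app]

end Groth.Agent.S18958
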