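import Groth.Statements.S18960
import Mathlib
-- import your own Groth.Agent.* helpers here

set_option autoImplicit false
universe w' w v u
open CategoryTheory Limits
open CatLim

namespace Groth.Agent.S18960

/-- Let C be a category and T an endofunctor of C; let C(T) be the category whose objects are pairs (X,
u) with u : T X → X an isomorphism and whose morphisms (X, u) → (Y, w) are the morphisms X → Y
compatible with u and w — the full subcategory of T-algebras with invertible structure map — and let
π : C(T) → C be the forgetful functor. If T preserves colimits of shape J then π creates colimits of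
shape J. (The source assumes T preserves all small colimits and concludes for all small shapes; the
argument is shape by shape.) -/
theorem result {C : Type u} [Category.{v} C] (T : C ⥤ C)
    (J : Type w) [Category.{w'} J] [PreservesColimitsOfShape J T] :
    Nonempty (CreatesColimitsOfShape J
      ((ObjectProperty.ι (fun A : Endofunctor.Algebra T => IsIso A.str)) ⋙ Endofunctor.Algebra.forget T)) := by
  refine ⟨⟨fun {K} => createsColimitOfReflectsIso fun c hc => ?_⟩⟩
  let π := (ObjectProperty.ι (fun A : Endofunctor.Algebra T => IsIso A.str)) ⋙ Endofunctor.Algebra.forget T
  let β : (K ⋙ π) ⋙ T ≅ K ⋙ π := NatIso.ofComponents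
    (fun j => @asIso _ _ _ _ (K.obj j).obj.str (K.obj j).property)
    (fun {a b} g => (K.map g).hom.h)
  let hT := isColimitOfPreserves T hc
  let str := IsColimit.coconePointsIsoOfNatIso hT hc β
  have hstr : ∀ j, T.map (c.ι.app j) ≫ str.hom = (K.obj j).obj.str ≫ c.ι.app j := fun j =>
    IsColimit.comp_coconePointsIsoOfNatIso_hom hT hc β j
  let L : ObjectProperty.FullSubcategory (fun A : Endofunctor.Algebra T => IsIso A.str) :=
    ⟨⟨c.pt, str.hom⟩, (inferInstance : IsIso str.hom)⟩
  let lc : Cocone K :=
    { pt := L
      ι :=
        { app := fun j => ObjectProperty.homMk { f := c.ι.app j, h := hstr j }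
          naturality := fun a b g => by
            apply ObjectProperty.hom_ext
            apply Endofunctor.Algebra.ext
            show (K.map g).hom.f ≫ c.ι.app b = c.ι.app a ≫ 𝟙 _
            rw [Category.comp_id]; exact c.w g } }
  exact
    { liftedCocone := lc
      validLift := Cocone.ext (Iso.refl _) (fun j => Category.comp_id _)
      makesColimit :=
        { desc := fun s => ObjectProperty.homMk
            { f := hc.desc (π.mapCocone s)
              h := by
                refine hT.hom_ext fun j => ?_
                show T.map (c.ι.app j) ≫ T.map (hc.desc (π.mapCocone s)) ≫ s.pt.obj.str =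
                  T.map (c.ι.app j) ≫ str.hom ≫ hc.desc (π.mapCocone s)
                refine (Category.assoc _ _ _).symm.trans ?_
                rw [← T.map_comp, hc.fac]
                refine Eq.trans ?_ ((congrArg (· ≫ hc.desc (π.mapCocone s)) (hstr j)).symm.trans (Category.assoc _ _ _))
                exact (s.ι.app j).hom.h.trans
                  ((congrArg ((K.obj j).obj.str ≫ ·) (hc.fac (π.mapCocone s) j).symm).trans (Category.assoc _ _ _).symm)
                }
          fac := fun s j => by
            apply ObjectProperty.hom_ext
            apply Endofunctor.Algebra.ext
            exact hc.fac (π.mapCocone s) j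
          uniq := fun s m hm => by
            apply ObjectProperty.hom_ext
            apply Endofunctor.Algebra.ext
            exact hc.uniq (π.mapCocone s) m.hom.f fun j =>
              congrArg (fun q => q.hom.f) (hm j) } }

end Groth.Agent.S18960
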