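import Groth.Statements.S18961
import Groth.Agent.GrSmooth.Gens
import Groth.Agent.GrSmooth.Poly
set_option autoImplicit false
universe u
open BBDec

namespace Groth.Agent.S18961

/-- Let k be a field, A a finitely generated k-algebra and B a finitely generated A-algebra graded by
the natural numbers as an A-algebra, with degree-zero part equal to the image of A and A → B
injective; let B₊ be the irrelevant ideal. So Spec B → Spec A is the retraction of an affine scheme
with an action of the multiplicative monoid of the affine line onto its fixed-point scheme, with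
zero section cut out by B₊; this is the affine-local graded form, for that monoid, of the published
statement, which covers any Kempf monoid M with unit group G and a k-scheme X locally of finite
type, and concludes that the retraction X⁺ → X^G is an affine-space bundle near a fixed point at
whose section value it is smooth. Assume that A → B is smooth at every prime ideal containing B₊ and
that B₊/B₊² is a free A-module of finite rank. Then B is isomorphic, as an A-algebra, to the
polynomial ring over A in (rank of B₊/B₊²) variables. (The published statement also makes the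
isomorphism equivariant for a suitable linear action when G is linearly reductive; only the
existence of an A-algebra isomorphism is stated here. Freeness of the conormal module holds after
shrinking the base, which is how the published proof reaches this situation.) -/
theorem result (k : Type u) [Field k]
    (A B : Type u) [CommRing A] [CommRing B] [Algebra k A] [Algebra k B] [Algebra A B] [IsScalarTower k A B]
    [Algebra.FiniteType k A] [Algebra.FiniteType A B] (𝒜 : ℕ → Submodule A B) [GradedAlgebra 𝒜]
    (h0 : ∀ b : B, b ∈ 𝒜 0 ↔ b ∈ Set.range (algebraMap A B)) (hinj : Function.Injective (algebraMap A B))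
    (hsm : ∀ (P : Ideal B) [P.IsPrime], (HomogeneousIdeal.irrelevant 𝒜).toIdeal ≤ P → Algebra.IsSmoothAt A P)
    [Module.Free A (HomogeneousIdeal.irrelevant 𝒜).toIdeal.Cotangent]
    [Module.Finite A (HomogeneousIdeal.irrelevant 𝒜).toIdeal.Cotangent] :
    Nonempty (B ≃ₐ[A]
      MvPolynomial (Fin (Module.finrank A (HomogeneousIdeal.irrelevant 𝒜).toIdeal.Cotangent)) A) := by
  classical
  set J := (HomogeneousIdeal.irrelevant 𝒜).toIdeal with hJdef
  rcases subsingleton_or_nontrivial A with hA | hA
  · have : Subsingleton B := by
      refine ⟨fun x y => ?_⟩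
      have h1 : (1 : B) = 0 := by
        rw [← map_one (algebraMap A B), Subsingleton.elim (1 : A) 0, map_zero]
      rw [← mul_one x, ← mul_one y, h1, mul_zero, mul_zero]
    exact ⟨AlgEquiv.ofBijective (Algebra.ofId A B |>.comp (MvPolynomial.aeval (fun _ => (0 : A))))
      ⟨fun x y _ => Subsingleton.elim x y, fun z => ⟨0, Subsingleton.elim _ _⟩⟩ |>.symm⟩
  let e := Module.finBasis A J.Cotangent
  obtain ⟨b, hbJ, hgen, hind⟩ := Groth.Agent.GrSmooth.exists_gens 𝒜 h0 e
  let π : MvPolynomial (Fin (Module.finrank A J.Cotangent)) A →ₐ[A] B := MvPolynomial.aeval b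
  have hsurj : Function.Surjective π := by
    rw [← AlgHom.range_eq_top, ← Algebra.adjoin_range_eq_range_aeval, hgen]
  have hX : ∀ x ∈ MvPolynomial.idealOfVars (Fin (Module.finrank A J.Cotangent)) A, π x ∈ J := by
    intro x hx
    have hle : (MvPolynomial.idealOfVars (Fin (Module.finrank A J.Cotangent)) A).map π.toRingHom ≤ J := by
      rw [Ideal.map_span, Ideal.span_le]
      rintro _ ⟨_, ⟨i, rfl⟩, rfl⟩
      have : π (MvPolynomial.X i) = b i := MvPolynomial.aeval_X b i
      show π (MvPolynomial.X i) ∈ J
      rw [this]; exact hbJ i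
    exact hle (Ideal.mem_map_of_mem _ hx)
  have hdec : ∀ x : MvPolynomial (Fin (Module.finrank A J.Cotangent)) A,
      x - MvPolynomial.C (MvPolynomial.constantCoeff x) ∈
        MvPolynomial.idealOfVars (Fin (Module.finrank A J.Cotangent)) A := by
    intro x
    rw [← pow_one (MvPolynomial.idealOfVars _ _), MvPolynomial.mem_pow_idealOfVars_iff']
    intro m hm
    have : m = 0 := (Finsupp.degree_eq_zero_iff m).mp (by omega)
    subst this
    simp [MvPolynomial.constantCoeff_eq]
  have hJ0 : ∀ a : A, algebraMap A B a ∈ J → a = 0 := by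
    intro a ha
    have h1 := (Groth.Agent.GrSmooth.mem_irrelevant_iff_pr 𝒜 _).mp ha
    rw [Groth.Agent.GrSmooth.pr_of_mem 𝒜 ((h0 _).mpr ⟨a, rfl⟩)] at h1
    exact hinj (h1.trans (map_zero _).symm)
  have hconst : ∀ x, π x ∈ J → x ∈ MvPolynomial.idealOfVars (Fin (Module.finrank A J.Cotangent)) A := by
    intro x hx
    have h1 := sub_mem hx (hX _ (hdec x))
    rw [map_sub, sub_sub_cancel, ← MvPolynomial.algebraMap_eq, AlgHom.commutes] at h1
    have := hdec x
    rwa [hJ0 _ h1, map_zero, sub_zero] at this
  have hK : RingHom.ker π ≤ MvPolynomial.idealOfVars (Fin (Module.finrank A J.Cotangent)) A ^ 2 := by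
    intro k hk
    rw [RingHom.mem_ker] at hk
    have hk1 := hconst k (by rw [hk]; exact zero_mem _)
    obtain ⟨g, rfl⟩ := Ideal.mem_span_range_iff_exists_fun.mp hk1
    let c := fun i => MvPolynomial.constantCoeff (g i)
    have hc : ∑ i, c i • b i ∈ J ^ 2 := by
      have h1 : ∀ i, π (g i) * b i - c i • b i ∈ J ^ 2 := by
        intro i
        have := hX _ (hdec (g i))
        rw [map_sub, ← MvPolynomial.algebraMap_eq, AlgHom.commutes] at this
        rw [Algebra.smul_def, ← sub_mul, pow_two]
        exact Ideal.mul_mem_mul this (hbJ i)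
      have h2 : ∑ i, π (g i) * b i = 0 := by
        simpa [π] using hk
      have := neg_mem (sum_mem (t := Finset.univ) fun i _ => h1 i)
      rwa [Finset.sum_sub_distrib, h2, zero_sub, neg_neg] at this
    refine sum_mem fun i _ => ?_
    rw [pow_two]
    refine Ideal.mul_mem_mul ?_ (Ideal.subset_span ⟨i, rfl⟩)
    have := hdec (g i)
    rwa [show MvPolynomial.constantCoeff (g i) = 0 from congr_fun (hind c hc) i, map_zero,
      sub_zero] at this
  have : IsNoetherianRing A := Algebra.FiniteType.isNoetherianRing k A
  have : Algebra.FinitePresentation A B := Algebra.FinitePresentation.of_finiteType.mp inferInstance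
  obtain ⟨I, hI⟩ := (PrimeSpectrum.isClosed_iff_zeroLocus_ideal _).mp
    (Algebra.isOpen_smoothLocus (R := A) (A := B)).isClosed_compl
  have htop : I ⊔ J = ⊤ := by
    by_contra hne
    obtain ⟨m, hm, hle⟩ := Ideal.exists_le_maximal _ hne
    have h1 : (⟨m, hm.isPrime⟩ : PrimeSpectrum B) ∈ PrimeSpectrum.zeroLocus (I : Set B) :=
      le_trans le_sup_left hle
    rw [← hI] at h1
    exact h1 (@hsm m hm.isPrime (le_trans le_sup_right hle))
  obtain ⟨g, hg, j, hj, hgj⟩ := Submodule.mem_sup.mp ((Ideal.eq_top_iff_one _).mp htop)
  have hsub : ↑(PrimeSpectrum.basicOpen g) ⊆ Algebra.smoothLocus A B := by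
    intro q hq
    by_contra hne
    have h1 : q ∈ (Algebra.smoothLocus A B)ᶜ := hne
    rw [hI] at h1
    exact hq (h1 hg)
  have hsmooth := Algebra.basicOpen_subset_smoothLocus_iff_smooth.mp hsub
  obtain ⟨h, rfl⟩ := hsurj g
  have hh : 1 - h ∈ MvPolynomial.idealOfVars (Fin (Module.finrank A J.Cotangent)) A := by
    refine hconst _ ?_
    rwa [map_sub, map_one, ← hgj, add_sub_cancel_left]
  have hle := Groth.Agent.GrSmooth.ker_le_mul π hsurj hK h hh
  have hpow : ∀ N : ℕ, RingHom.ker π ≤
      MvPolynomial.idealOfVars (Fin (Module.finrank A J.Cotangent)) A ^ N := by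
    intro N
    induction N with
    | zero => simp
    | succ N ih => exact hle.trans ((Ideal.mul_mono_right ih).trans_eq (pow_succ' _ N).symm)
  have hinjπ : Function.Injective π := by
    rw [RingHom.injective_iff_ker_eq_bot, eq_bot_iff]
    intro x hx
    rw [Ideal.mem_bot]
    ext m
    exact (MvPolynomial.mem_pow_idealOfVars_iff' _ _).mp (hpow (m.degree + 1) hx) m (by omega)
  exact ⟨(AlgEquiv.ofBijective π ⟨hinjπ, hsurj⟩).symm⟩

end Groth.Agent.S18961
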