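import Groth.Statements.S18963
import Mathlib
import Groth.Agent.MagnetHom.FormalSat

set_option autoImplicit false
set_option maxHeartbeats 2000000
universe u
open CategoryTheory MonoidalCategory CartesianMonoidalCategory MonObj AlgebraicGeometry Opposite
open Magnet

namespace Groth.Agent.S18963

/-- For the multiplicative monoid of the affine line with unit group G_m (the published statement: any
Kempf monoid M with unit group G), let k be a field, X a k-scheme with an action a of the
multiplicative group G_m = D(ℤ) over k, and Y a k-scheme. Let γ₁ and γ₂ be two k-morphisms A^1 ×_k Y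
→ X, where A^1 is the diagonalizable monoid scheme of the non-negative integers (the affine line
under multiplication), that are G_m-equivariant for G_m scaling the first factor — two Y-valued
points of the Białynicki-Birula functor D_X. Suppose γ₁ and γ₂ agree at every T-valued point (m, t)
of A^1 ×_k Y whose first coordinate m is nilpotent in the monoid A^1(T), i.e. some power of m is
absorbing (equal to its product with any element); equivalently γ₁ and γ₂ agree on all infinitesimal
neighbourhoods of {0} ×_k Y. Then γ₁ = γ₂; that is, the canonical map from D_X to the formal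
Białynicki-Birula functor is injective on Y-points. -/
theorem result (k : Type u) [Field k]
    (X Y : Over (Spec (CommRingCat.of k))) (a : AlgGrp.Action (Red.DS (Spec (CommRingCat.of k)) ℤ) X)
    (γ₁ γ₂ : (Magnet.attr (Magnet.MonAct.ofAction a) (AddSubmonoid.multiples (1 : ℤ))).obj (op Y))
    (h : ∀ (T : Over (Spec (CommRingCat.of k))) (m : T ⟶ Magnet.AMonS (Spec (CommRingCat.of k)) (AddSubmonoid.multiples (1 : ℤ))) (t : T ⟶ Y),
      (∃ n : ℕ, ∀ m' : T ⟶ Magnet.AMonS (Spec (CommRingCat.of k)) (AddSubmonoid.multiples (1 : ℤ)), m ^ (n + 1) * m' = m ^ (n + 1)) →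
      CartesianMonoidalCategory.lift m t ≫ γ₁.1 = CartesianMonoidalCategory.lift m t ≫ γ₂.1) :
    γ₁ = γ₂ := by
  let S : Scheme.{u} := Spec (CommRingCat.of k)
  have h' : Groth.Agent.MagnetHom.AgreeNilp γ₁.1 γ₂.1 := h
  let v := CartesianMonoidalCategory.lift (toUnit Y ≫ Groth.Agent.MagnetHom.vertex Groth.Agent.MagnetHom.NN S) (𝟙 Y)
  choose O hO hOe using fun y => h'.exists_nhd y
  let D : (Magnet.AMonS S Groth.Agent.MagnetHom.NN ⊗ Y).left.Opens := ⨆ y, O y
  have hD : ∀ y, v.left y ∈ D := fun y => TopologicalSpace.Opens.mem_iSup.mpr ⟨y, hO y⟩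
  have hDe : D.ι ≫ γ₁.1.left = D.ι ≫ γ₂.1.left := by
    refine Scheme.hom_ext_of_forall _ _ fun x => ?_
    obtain ⟨y, hy⟩ := TopologicalSpace.Opens.mem_iSup.mp (show D.ι x ∈ D from x.2)
    refine ⟨D.ι ⁻¹ᵁ O y, hy, ?_⟩
    have e := Scheme.Hom.resLE_comp_ι D.ι (U := O y) (V := D.ι ⁻¹ᵁ O y) (le_refl _)
    calc (D.ι ⁻¹ᵁ O y).ι ≫ D.ι ≫ γ₁.1.left = (D.ι.resLE (O y) (D.ι ⁻¹ᵁ O y) (le_refl _) ≫ (O y).ι) ≫ γ₁.1.left := by
          rw [e, Category.assoc]
      _ = (D.ι.resLE (O y) (D.ι ⁻¹ᵁ O y) (le_refl _) ≫ (O y).ι) ≫ γ₂.1.left := by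
          rw [Category.assoc, Category.assoc]; exact congrArg _ (hOe y)
      _ = (D.ι ⁻¹ᵁ O y).ι ≫ D.ι ≫ γ₂.1.left := by rw [e, Category.assoc]
  haveI : Flat (Red.DS S ℤ).hom := Groth.Agent.MagnetHom.flat_AMonS S ℤ
  haveI := Groth.Agent.MagnetHom.surjective_sat (M := ℤ) Groth.Agent.MagnetHom.NN D hD
  exact Subtype.ext (Groth.Agent.MagnetHom.eq_of_agree_on_open (G := Red.DS S ℤ)
    (show Magnet.MonAct (Red.DS S ℤ) _ from Groth.Agent.MagnetHom.actNY (S := S) (M := ℤ) Groth.Agent.MagnetHom.NN Y) (Magnet.MonAct.ofAction a) γ₁.1 γ₂.1 γ₁.2 γ₂.2 D hDe)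

end Groth.Agent.S18963
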