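import Groth.Statements.S18964
import Groth.Agent.MagnetHom.UnitsRep
import Groth.Agent.OverRep.Main
import Groth.Agent.S18294
-- import your own Groth.Agent.* helpers here

set_option autoImplicit false
set_option backward.isDefEq.respectTransparency false
universe u
open CategoryTheory MonoidalCategory CartesianMonoidalCategory MonObj AlgebraicGeometry Opposite
open Magnet

namespace Groth.Agent.S18964

/-- Let k be a field, M an affine monoid k-scheme, G an affine group k-scheme and i : G → M a
homomorphism of monoids which is an open immersion with scheme-theoretically dense image; let o :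
Spec k → M be a zero of M (m·o = o = o·m), and assume that for every k-scheme T whose underlying
scheme is the spectrum of a field, every open subset of M ×_k T which is stable under G acting by
left multiplication through i on the first factor and contains the zero section is the whole of M
×_k T. Let X be a k-scheme with an action aX of G such that the G-stable affine open subsets U of X
cover the fixed points: for every k-scheme T and every G-fixed T-valued point x of X, the preimages
under x of the G-stable affine opens cover T (equivalently, the open subfunctors U^G cover X^G; this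
holds when X is locally linear, i.e. every point has a G-stable affine open neighbourhood). Then the
functor D_X on k-schemes, whose value at Y is the set of k-morphisms M ×_k Y → X that are
G-equivariant for G acting on M ×_k Y by left multiplication through i on the first factor, is
representable by a k-scheme. (In the source M is a Kempf monoid with G its group of units;
affineness of G, density and openness of G in M and the displayed property of G-stable opens over
field extensions are the consequences of that hypothesis which the argument uses.) -/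
theorem result (k : Type u) [Field k]
    (M G X : Over (Spec (CommRingCat.of k))) [MonObj M] [GrpObj G] [IsAffine M.left] [IsAffine G.left]
    (i : G ⟶ M) [IsMonHom i] [IsOpenImmersion i.left] [IsSchemeTheoreticallyDominant i.left]
    (o : 𝟙_ (Over (Spec (CommRingCat.of k))) ⟶ M)
    (ho : ∀ (T : Over (Spec (CommRingCat.of k))) (m : T ⟶ M), m * (toUnit T ≫ o) = toUnit T ≫ o ∧ (toUnit T ≫ o) * m = toUnit T ≫ o)
    (hM : ∀ (T : Over (Spec (CommRingCat.of k))) (K : Type u) [Field K] (eT : T.left ≅ Spec (CommRingCat.of K))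
      (W : (M ⊗ T).left.Opens),
      (CartesianMonoidalCategory.snd G (M ⊗ T)).left ⁻¹ᵁ W ≤
          ((((Magnet.MonAct.regular M).restrict i).prod (Magnet.MonAct.trivial G T)).act).left ⁻¹ᵁ W →
      (CartesianMonoidalCategory.lift (toUnit T ≫ o) (𝟙 T)).left ⁻¹ᵁ W = ⊤ → W = ⊤)
    (aX : AlgGrp.Action G X)
    (hcov : ∀ (T : Over (Spec (CommRingCat.of k))) (x : (Magnet.MonAct.fixedPsh (Magnet.MonAct.ofAction aX)).obj (op T)),
      ⨆ (U : X.left.Opens) (_ : IsAffineOpen U ∧ (CartesianMonoidalCategory.snd G X).left ⁻¹ᵁ U ≤ aX.act.left ⁻¹ᵁ U),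
        x.1.left ⁻¹ᵁ U = ⊤) :
    ∃ Z : Over (Spec (CommRingCat.of k)),
      Nonempty ((Magnet.MonAct.eqvHom ((Magnet.MonAct.regular M).restrict i) (Magnet.MonAct.ofAction aX)).RepresentableBy Z) := by
  classical
  let a := Magnet.MonAct.ofAction aX
  let ρ := (Magnet.MonAct.regular M).restrict i
  let F := Magnet.MonAct.eqvHom ρ a
  let J₀ := {U : X.left.Opens // IsAffineOpen U ∧ (CartesianMonoidalCategory.snd G X).left ⁻¹ᵁ U ≤ aX.act.left ⁻¹ᵁ U}
  have hpiece : ∀ U : J₀, ∃ (Z : Over (Spec (CommRingCat.of k))) (eU : F.obj (op Z)),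
      (∀ (T : Over (Spec (CommRingCat.of k))) (u v : T ⟶ Z), F.map u.op eU = F.map v.op eU → u = v) ∧
      (∀ (T : Over (Spec (CommRingCat.of k))) (φ : F.obj (op T)),
        (∃ u : T ⟶ Z, F.map u.op eU = φ) ↔
          Set.range ((Magnet.MonAct.eqvHom.evalAt ρ a o).app (op T) φ).left ⊆ U.1) := by
    intro U
    let XU : Over (Spec (CommRingCat.of k)) := Over.mk (Scheme.Opens.ι U.1 ≫ X.hom)
    let jU : XU ⟶ X := Over.homMk (Scheme.Opens.ι U.1)
    haveI : IsOpenImmersion jU.left := inferInstanceAs (IsOpenImmersion (Scheme.Opens.ι U.1))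
    haveI : Mono jU.left := inferInstance
    haveI : Mono jU := Over.mono_of_mono_left jU
    haveI : IsAffine XU.left := U.2.1
    have hrj : Set.range jU.left = (U.1 : Set X.left) := Scheme.Opens.range_ι U.1
    have hrange : Set.range ((G ◁ jU) ≫ a.act).left ⊆ Set.range jU.left := by
      rintro _ ⟨q, rfl⟩
      rw [hrj]
      refine U.2.2 (show (snd G X).left ((G ◁ jU).left q) ∈ U.1 from ?_)
      rw [← Scheme.Hom.comp_apply, ← Over.comp_left, whiskerLeft_snd, Over.comp_left, Scheme.Hom.comp_apply,
        ← SetLike.mem_coe, ← hrj]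
      exact Set.mem_range_self _
    let actU : G ⊗ XU ⟶ XU := Over.homMk (IsOpenImmersion.lift jU.left ((G ◁ jU) ≫ a.act).left hrange) (by
      rw [← Over.w jU, IsOpenImmersion.lift_fac_assoc]; exact Over.w _)
    have hactU : actU ≫ jU = (G ◁ jU) ≫ a.act := Over.OverMorphism.ext (IsOpenImmersion.lift_fac _ _ _)
    let aU : Magnet.MonAct G XU := Magnet.MonAct.mk' actU
      (fun T x => by rw [← cancel_mono jU, Category.assoc, hactU, lift_whiskerLeft_assoc, Magnet.MonAct.lift_one_act])
      (fun T g h x => by
        rw [← cancel_mono jU]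
        simp only [Category.assoc, hactU, lift_whiskerLeft_assoc, Magnet.MonAct.lift_mul_act])
    have hjU : Magnet.MonAct.IsEquivariant aU a jU := hactU
    obtain ⟨Z, -, eZ, -, -⟩ := Groth.Agent.MagnetHom.exists_representableBy_units_affine i aU
    let post := Magnet.MonAct.eqvHom.postcomp ρ jU hjU
    refine ⟨Z, post.app (op Z) (eZ.homEquiv (𝟙 Z)), ?_, ?_⟩
    · intro T u v h
      rw [← NatTrans.naturality_apply, ← NatTrans.naturality_apply] at h
      have h' : (Magnet.MonAct.eqvHom ρ aU).map u.op (eZ.homEquiv (𝟙 Z)) = (Magnet.MonAct.eqvHom ρ aU).map v.op (eZ.homEquiv (𝟙 Z)) :=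
        Subtype.ext ((cancel_mono jU).mp (congrArg Subtype.val h))
      refine eZ.homEquiv.injective ?_
      rw [eZ.homEquiv_eq u, eZ.homEquiv_eq v]
      exact h'
    · intro T φ
      constructor
      · rintro ⟨u, rfl⟩
        rw [← NatTrans.naturality_apply, Magnet.MonAct.eqvHom.evalAt_app, Magnet.MonAct.eqvHom.postcomp_app_coe,
          ← Category.assoc, Over.comp_left]
        rintro _ ⟨q, rfl⟩
        rw [← hrj]
        exact ⟨_, rfl⟩
      · intro h
        have h0 : ((Magnet.MonAct.eqvHom.evalAt ρ a o).app (op T) φ).left ⁻¹ᵁ U.1 = ⊤ :=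
          top_le_iff.mp fun q _ => h ⟨q, rfl⟩
        have h1 := Groth.Agent.MagnetHom.preimage_eq_top_of_evalAt ρ o (fun T' K _ eT W => hM T' K eT W) a U.1 U.2.2 φ h0
        have hr : Set.range φ.1.left ⊆ Set.range jU.left := by
          rw [hrj]
          rintro _ ⟨q, rfl⟩
          exact h1.ge (Set.mem_univ q)
        let m : M ⊗ T ⟶ XU := Over.homMk (IsOpenImmersion.lift jU.left φ.1.left hr)
          (by rw [← Over.w jU, IsOpenImmersion.lift_fac_assoc]; exact Over.w φ.1)
        have hm : m ≫ jU = φ.1 := Over.OverMorphism.ext (IsOpenImmersion.lift_fac _ _ _)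
        have hmeq : Magnet.MonAct.IsEquivariant (ρ.prod (Magnet.MonAct.trivial G T)) aU m := by
          have hφ := φ.2
          unfold Magnet.MonAct.IsEquivariant at hφ hjU ⊢
          rw [← cancel_mono jU, Category.assoc, hm, hφ, Category.assoc, hjU, ← MonoidalCategory.whiskerLeft_comp_assoc, hm]
        refine ⟨eZ.homEquiv.symm ⟨m, hmeq⟩, ?_⟩
        rw [← NatTrans.naturality_apply]
        change post.app (op T) ((Magnet.MonAct.eqvHom ρ aU).map (eZ.homEquiv.symm ⟨m, hmeq⟩).op (eZ.homEquiv (𝟙 Z))) = φ
        rw [← eZ.homEquiv_eq, Equiv.apply_symm_apply]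
        exact Subtype.ext hm
  choose Z eU hinj hrng using hpiece
  have hF : Presheaf.IsSheaf (Scheme.zariskiTopology.over (Spec (CommRingCat.of k))) F := by
    have hfppf := Groth.Agent.S18294.result _ G M X ρ a
    rw [isSheaf_iff_isSheaf_of_type] at hfppf ⊢
    refine Presieve.isSheaf_of_le F ?_ hfppf
    intro T R hR
    change R ∈ Scheme.fppfTopology.over _ T
    rw [GrothendieckTopology.mem_over_iff] at hR ⊢
    exact Precoverage.toGrothendieck_mono Scheme.zariskiPrecoverage_le_fppfPrecoverage _ hR
  refine Groth.Agent.OverRep.exists_representableBy_of_cover hF Z eU hinj (fun U T s => ?_) (fun T s p => ?_)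
  · refine ⟨((Magnet.MonAct.eqvHom.evalAt ρ a o).app (op T) s).left ⁻¹ᵁ U.1, fun T' t => ?_⟩
    refine (hrng U T' (F.map t.op s)).trans ?_
    rw [show (Magnet.MonAct.eqvHom.evalAt ρ a o).app (op T') (F.map t.op s) =
      t ≫ (Magnet.MonAct.eqvHom.evalAt ρ a o).app (op T) s from NatTrans.naturality_apply _ _ _, Over.comp_left]
    simp [Set.range_subset_iff]
  · have hfix : ∀ (T' : Over (Spec (CommRingCat.of k))) (t : T' ⟶ T) (g : T' ⟶ G),
        CartesianMonoidalCategory.lift g (t ≫ (Magnet.MonAct.eqvHom.evalAt ρ a o).app (op T) s) ≫ a.act =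
          t ≫ (Magnet.MonAct.eqvHom.evalAt ρ a o).app (op T) s := by
      intro T' t g
      have h := (Magnet.MonAct.mem_eqvHom_iff _).mp s.2 T' g (toUnit T' ≫ o) t
      rw [Magnet.MonAct.lift_restrict_act, Magnet.MonAct.lift_regular_act, (ho T' (g ≫ i)).1] at h
      simp only [Magnet.MonAct.eqvHom.evalAt_app, unop_op, comp_lift_assoc, comp_toUnit_assoc, Category.comp_id]
      exact h.symm
    have hx := hcov T ⟨_, hfix⟩
    have hp := hx.ge (Set.mem_univ p)
    simp only [TopologicalSpace.Opens.mem_iSup] at hp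
    obtain ⟨U, hU, hpU⟩ := hp
    let V := ((Magnet.MonAct.eqvHom.evalAt ρ a o).app (op T) s).left ⁻¹ᵁ U
    let t : Over.mk (Scheme.Opens.ι V ≫ T.hom) ⟶ T := Over.homMk (Scheme.Opens.ι V)
    obtain ⟨u, hu⟩ := (hrng ⟨U, hU⟩ _ (F.map t.op s)).mpr (by
      rw [show (Magnet.MonAct.eqvHom.evalAt ρ a o).app (op (Over.mk (Scheme.Opens.ι V ≫ T.hom))) (F.map t.op s) =
        t ≫ (Magnet.MonAct.eqvHom.evalAt ρ a o).app (op T) s from NatTrans.naturality_apply _ _ _, Over.comp_left]
      rintro _ ⟨q, rfl⟩
      exact q.2)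
    exact ⟨⟨U, hU⟩, _, t, u, inferInstanceAs (IsOpenImmersion (Scheme.Opens.ι V)), ⟨⟨p, hpU⟩, rfl⟩, hu⟩

end Groth.Agent.S18964
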