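import Groth.Statements.S18967
import Groth.Agent.ShStabLib.Slope
-- import your own Groth.Agent.* helpers here

set_option autoImplicit false
open CategoryTheory CategoryTheory.Limits AlgebraicGeometry Polynomial
set_option backward.isDefEq.respectTransparency false
universe u
open ShStab
open Groth.Agent.ShStabLib Groth.Agent.DevLib Groth.Agent.QCohLib Groth.Agent.HilbLib

namespace Groth.Agent.S18967

/-- Let k be an algebraically closed field of characteristic zero, X a smooth projective integral
variety of dimension n ≥ 1 over k polarised by an ample invertible sheaf L, and 0 → F → H → G → 0 a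
short exact sequence of O_X-modules with F and G torsion-free coherent (pure of dimension n) and
slope-semistable with respect to L of the same slope μ. Then H is slope-semistable of slope μ; in
particular this applies to H = F ⊕ G. Slopes are compared through the quantity α_(n−1)/α_n of the
Hilbert polynomials with respect to L, an increasing affine function of the slope det ·
L^(n−1)/rank. -/
theorem result (k : Type u) [Field k] [IsAlgClosed k] [CharZero k]
    (X : Scheme.{u}) [X.Over (Spec (CommRingCat.of k))] [IsIntegral X]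
    [IsProper (X ↘ Spec (CommRingCat.of k))] [Smooth (X ↘ Spec (CommRingCat.of k))]
    (n : ℕ) (hn : 1 ≤ n) (hX : topologicalKrullDim X = (n : WithBot ℕ∞))
    (L : X.Modules) (hLi : PicF.IsInvertible L) (hL : CohB1.IsAmple L)
    (T : ShortComplex X.Modules) (hT : T.ShortExact)
    (hFt : ShStab.IsPure X T.X₁ n) (hGt : ShStab.IsPure X T.X₃ n)
    (hF : ShStab.IsMuSemistable k X L T.X₁ n) (hG : ShStab.IsMuSemistable k X L T.X₃ n)
    (pF pG : ℚ[X]) (hpF : ShStab.IsHilbPoly k X L T.X₁ pF) (hpG : ShStab.IsHilbPoly k X L T.X₃ pG)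
    (hμ : StabCat.hatSlope n pF = StabCat.hatSlope n pG) :
    ShStab.IsMuSemistable k X L T.X₂ n ∧
      ∀ pH : ℚ[X], ShStab.IsHilbPoly k X L T.X₂ pH → StabCat.hatSlope n pH = StabCat.hatSlope n pF := by
  haveI := EulerIneqLib.isNoetherian_proper (X := X) k
  haveI := hT.mono_f
  haveI := hT.epi_g
  have hH : Coh.IsCoh T.X₂ := Groth.Agent.QCohLib.isCoh_X₂ hT hF.1 hG.1
  have hall : ∀ M : X.Modules, DimLE n M := fun M => by
    refine lt_of_le_of_lt (Topology.IsInducing.subtypeVal.topologicalKrullDim_le) ?_
    rw [hX]; exact_mod_cast Nat.lt_succ_self n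
  have hpure : ShStab.IsPure X T.X₂ n := fun W w _ hW hW0 => by
    by_cases hz : w ≫ T.g = 0
    · haveI : Mono (hT.exact.lift w hz) := mono_of_mono_fac (hT.exact.lift_f w hz)
      exact hFt W (hT.exact.lift w hz) inferInstance hW hW0
    · refine le_antisymm (le_trans Topology.IsInducing.subtypeVal.topologicalKrullDim_le hX.le) ?_
      rw [← hGt _ (Abelian.image.ι (w ≫ T.g)) inferInstance (isCoh_image' _ hW hG.1) (not_isZero_image hz)]
      exact (Topology.IsEmbedding.inclusion (support_subset_of_epi (Abelian.factorThruImage (w ≫ T.g)))).isInducing.topologicalKrullDim_le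
  have hH0 : ¬ IsZero T.X₂ := fun hz => hF.2.1 ((IsZero.iff_id_eq_zero _).2 (by
    rw [← cancel_mono T.f]; exact hz.eq_of_tgt _ _))
  obtain ⟨pH, -, hpH⟩ := exists_hp k hL hH (hall _)
  have e : pH = pF + pG := hp_add k hL hT hF.1 hH hG.1 hpF hpH hpG
  have aF := alpha_pos_of_isPure k hL hF.1 hF.2.1 hFt hpF
  have aG := alpha_pos_of_isPure k hL hG.1 hG.2.1 hGt hpG
  have bF : StabCat.alpha (n - 1) pF = StabCat.hatSlope n pF * StabCat.alpha n pF := by
    rw [StabCat.hatSlope, div_mul_cancel₀ _ aF.ne']
  have bG : StabCat.alpha (n - 1) pG = StabCat.hatSlope n pF * StabCat.alpha n pG := by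
    rw [hμ, StabCat.hatSlope, div_mul_cancel₀ _ aG.ne']
  have hslope : StabCat.hatSlope n pH = StabCat.hatSlope n pF := by
    conv_lhs => rw [StabCat.hatSlope, e, alpha_add, alpha_add, bF, bG, ← mul_add,
      mul_div_assoc, div_self (by positivity), mul_one]
  refine ⟨⟨hH, hH0, hpure _ (𝟙 _) inferInstance hH hH0, fun W w _ hW hc => ?_, ?_⟩,
    fun p hp => by rw [hp_unique k hp hpH, hslope]⟩
  · by_cases hW0 : IsZero W
    · have hb : topologicalKrullDim (CohB1.support W) = ⊥ := by
        rw [support_eq_empty_of_isZero hW0]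
        haveI : IsEmpty (TopologicalSpace.IrreducibleCloseds (∅ : Set X)) := ⟨fun c => by
          obtain ⟨z, -⟩ := c.isIrreducible.nonempty
          exact z.2⟩
        exact Order.krullDim_eq_bot
      rw [hb, WithBot.bot_add] at hc
      exact WithBot.bot_ne_coe hc
    · rw [hpure W w inferInstance hW hW0] at hc
      have h' : n + 1 = n := by exact_mod_cast hc
      omega
  · intro W w _ hW pW pT hpW hpT hpos _
    rw [hp_unique k hpT hpH, hslope, StabCat.hatSlope, div_le_iff₀ hpos]
    have hI := isCoh_image' (w ≫ T.g) hW hG.1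
    obtain ⟨pJ, -, hpJ⟩ := exists_hp k hL hI (hall _)
    obtain ⟨pK, hpK, eW, hKc, -⟩ := exists_hp_ker k hL (Abelian.factorThruImage (w ≫ T.g)) hW hI (hall _) hpW hpJ
    have hz : (kernel.ι (Abelian.factorThruImage (w ≫ T.g)) ≫ w) ≫ T.g = 0 := by
      have h : kernel.ι (Abelian.factorThruImage (w ≫ T.g)) ≫
          (Abelian.factorThruImage (w ≫ T.g) ≫ Abelian.image.ι (w ≫ T.g)) = 0 := by
        rw [← Category.assoc, kernel.condition, Limits.zero_comp]
      rw [Abelian.image.fac] at h
      rwa [Category.assoc]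
    haveI : Mono (hT.exact.lift _ hz) := mono_of_mono_fac (hT.exact.lift_f _ hz)
    have h1 := slope_sub k hL hn hFt hF (hT.exact.lift _ hz) hKc hpK hpF
    have h2 := slope_sub k hL hn hGt hG (Abelian.image.ι (w ≫ T.g)) hI hpJ hpG
    rw [← hμ] at h2
    rw [eW, alpha_add, alpha_add, mul_add]
    exact add_le_add h1 h2

end Groth.Agent.S18967
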