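import Groth.Statements.S18970
import Groth.Agent.GrothBddLib.Product
-- import your own Groth.Agent.* helpers here

set_option autoImplicit false
set_option backward.isDefEq.respectTransparency false
set_option maxHeartbeats 800000
set_option synthInstance.maxHeartbeats 200000
open CategoryTheory CategoryTheory.Limits AlgebraicGeometry Polynomial
universe u
open ShStab

namespace Groth.Agent.S18970

open Groth.Agent CategoryTheory
set_option backward.isDefEq.respectTransparency false

/-- Let k be a field and X an integral scheme, smooth and proper over k, with a closed immersion ι into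
projective N-space over k compatible with the structure maps, polarised by the ample O_X(1) =
ι^*O(1); let 1 ≤ ℓ ≤ d. Let S be a k-scheme of finite type and F a coherent sheaf on X ×_k S, flat
over S, whose fibres F_s on X_s = (X ×_k S) ×_S Spec κ(s) have d-dimensional support and a fixed
Hilbert polynomial P with respect to O_X(1)|_{X_s}. Then the set of points s of S for which F_s is
geometrically ℓ-stable of dimension d is open: here F_s is geometrically ℓ-stable when for every
field extension K of κ(s) (in the universe of k) the pull-back of F_s to X_s ×_{κ(s)} Spec K,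
polarised by the pull-back of O_X(1)|_{X_s}, is ℓ-stable of dimension d over K, that is coherent,
nonzero, pure of dimension d, with p_ℓ(G') < p_ℓ eventually for every coherent submodule G' of
multiplicity strictly between 0 and that of the pull-back, p_ℓ denoting the reduced truncation of
the Hilbert polynomial to the degrees d − ℓ, …, d. -/
theorem result (k : Type u) [Field k]
    (X : Scheme.{u}) [X.Over (Spec (CommRingCat.of k))] [IsIntegral X]
    [Smooth (X ↘ Spec (CommRingCat.of k))] [IsProper (X ↘ Spec (CommRingCat.of k))]
    (N : ℕ) (ι : X ⟶ CohB1.ProjSpace N k) [IsClosedImmersion ι]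
    (hι : ι ≫ CohB1.ProjSpace.toSpec N k = X ↘ Spec (CommRingCat.of k))
    (hL : CohB1.IsAmple ((Scheme.Modules.pullback ι).obj (Twist.twistProjSpace N k 1)))
    (S : Scheme.{u}) (q : S ⟶ Spec (CommRingCat.of k)) [LocallyOfFiniteType q] [CompactSpace S]
    (d ℓ : ℕ) (hℓ : 1 ≤ ℓ) (hℓd : ℓ ≤ d)
    (F : (pullback (X ↘ Spec (CommRingCat.of k)) q).Modules) (hF : Coh.IsCoh F)
    (hfl : FlatMod.IsFlatOver (pullback.snd (X ↘ Spec (CommRingCat.of k)) q) F) (P : ℚ[X])
    (hP : ∀ s : S, ShStab.IsHilbPoly (S.residueField s) (Over.mk ((pullback.snd (X ↘ Spec (CommRingCat.of k)) q).fiberToSpecResidueField s)).left (CohIII.fiberMod (pullback.snd (X ↘ Spec (CommRingCat.of k)) q) ((Scheme.Modules.pullback (pullback.fst (X ↘ Spec (CommRingCat.of k)) q)).obj ((Scheme.Modules.pullback ι).obj (Twist.twistProjSpace N k 1))) s) (CohIII.fiberMod (pullback.snd (X ↘ Spec (CommRingCat.of k)) q) F s) P)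
    (hd : ∀ s : S, topologicalKrullDim (CohB1.support (CohIII.fiberMod (pullback.snd (X ↘ Spec (CommRingCat.of k)) q) F s)) = (d : WithBot ℕ∞)) :
    IsOpen {s : S | ∀ (K : Type u) [Field K] [Algebra (S.residueField s) K],
      @ShStab.IsEllStable K _ (Curv2.bc (S.residueField s) (Over.mk ((pullback.snd (X ↘ Spec (CommRingCat.of k)) q).fiberToSpecResidueField s)).left K) ⟨(Curv2.bcSnd (S.residueField s) (Over.mk ((pullback.snd (X ↘ Spec (CommRingCat.of k)) q).fiberToSpecResidueField s)).left K)⟩
        ((Scheme.Modules.pullback (Curv2.bcFst (S.residueField s) (Over.mk ((pullback.snd (X ↘ Spec (CommRingCat.of k)) q).fiberToSpecResidueField s)).left K)).obj (CohIII.fiberMod (pullback.snd (X ↘ Spec (CommRingCat.of k)) q) ((Scheme.Modules.pullback (pullback.fst (X ↘ Spec (CommRingCat.of k)) q)).obj ((Scheme.Modules.pullback ι).obj (Twist.twistProjSpace N k 1))) s))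
        ((Scheme.Modules.pullback (Curv2.bcFst (S.residueField s) (Over.mk ((pullback.snd (X ↘ Spec (CommRingCat.of k)) q).fiberToSpecResidueField s)).left K)).obj (CohIII.fiberMod (pullback.snd (X ↘ Spec (CommRingCat.of k)) q) F s)) d ℓ} := by
    haveI := GrothBddLib.isNoetherian_of_ft k S q
    let f := pullback.snd (X ↘ Spec (CommRingCat.of k)) q
    haveI : IsProper f := MorphismProperty.pullback_snd (P := @IsProper) _ _ inferInstance
    have hva := GrothBddLib.isRelVeryAmplePn_product k X N ι hι S q
    convert GrothBddLib.isOpen_good f hva hF hP (Bad := GrothBddLib.BadEllSt ℓ d P)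
      (fun _ hPd hα => GrothBddLib.isBad_ellSt hℓ hPd hα) hd using 1
    ext s
    exact GrothBddLib.isGeomEllStable_iff (GrothBddLib.isRelAmple_of_va f hva) hF (hP s) (hd s)

end Groth.Agent.S18970
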