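import Mathlib
import Mathlib
import Groth.Statements.S18974

set_option autoImplicit false
universe u
open CAlg

namespace Groth.Agent.S18974

/-- Let A be a commutative algebra over the rationals, D a locally nilpotent derivation of A and a an
element with D a = 1; write A' for the quotient of A by the ideal generated by a. Then there is a
ring isomorphism from A onto the polynomial ring A'[Y] which sends every x to the (finite) sum over
n of (1/n!) (class of D^n x) Y^n; its inverse sends Y to a and the constant polynomial on the class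
of x to the sum over n of ((-1)^n/n!) (D^n x) a^n, and under it D corresponds to the derivative
d/dY. (The source says only that A is a ring, in a setting over a field of characteristic zero; the
rational coefficients 1/n! require an algebra over the rationals, which is the hypothesis taken
here. Both sums are written over any range beyond which the iterates of D vanish at x.) -/
theorem result
    (A : Type u) [CommRing A] [Algebra ℚ A] (D : Derivation ℚ A A)
    (hnil : ∀ x : A, ∃ n : ℕ, ((D : A →ₗ[ℚ] A) ^ n) x = 0) (a : A) (ha : D a = 1) :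
    ∃ χ : A ≃+* Polynomial (A ⧸ Ideal.span ({a} : Set A)),
      (∀ (x : A) (N : ℕ), ((D : A →ₗ[ℚ] A) ^ N) x = 0 →
        χ x = ∑ n ∈ Finset.range N,
          ((n.factorial : ℚ)⁻¹ • Polynomial.C (Ideal.Quotient.mk (Ideal.span ({a} : Set A)) (((D : A →ₗ[ℚ] A) ^ n) x))) *
            Polynomial.X ^ n) ∧
      χ.symm Polynomial.X = a ∧
      (∀ (x : A) (N : ℕ), ((D : A →ₗ[ℚ] A) ^ N) x = 0 →
        χ.symm (Polynomial.C (Ideal.Quotient.mk (Ideal.span ({a} : Set A)) x)) =
          ∑ n ∈ Finset.range N, (((-1 : ℚ) ^ n * (n.factorial : ℚ)⁻¹) • ((((D : A →ₗ[ℚ] A) ^ n) x) * a ^ n))) ∧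
      ∀ p : Polynomial (A ⧸ Ideal.span ({a} : Set A)), χ (D (χ.symm p)) = Polynomial.derivative p := by
  classical
  let c : ℕ → ℚ := fun n => (n.factorial : ℚ)⁻¹
  have hc : ∀ n : ℕ, ((n + 1 : ℕ) : ℚ) * c (n + 1) = c n := fun n => by
    simp only [c, Nat.factorial_succ, Nat.cast_mul, mul_inv]
    rw [← mul_assoc, mul_inv_cancel₀ (by exact_mod_cast Nat.succ_ne_zero n), one_mul]
  have hc' : ∀ (n : ℕ) (v : A), c (n + 1) • ((n + 1 : ℕ) • v) = c n • v := fun n v => by
    rw [← Nat.cast_smul_eq_nsmul ℚ (n + 1) v, smul_smul, mul_comm, hc]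
  -- iterates
  have hstep : ∀ (n : ℕ) (x : A), ((D : A →ₗ[ℚ] A) ^ (n + 1)) x = ((D : A →ₗ[ℚ] A) ^ n) (D x) := fun n x => by
    rw [pow_succ, Module.End.mul_apply]
    rfl
  have hstep' : ∀ (n : ℕ) (x : A), ((D : A →ₗ[ℚ] A) ^ (n + 1)) x = D (((D : A →ₗ[ℚ] A) ^ n) x) := fun n x => by
    rw [pow_succ', Module.End.mul_apply]
    rfl
  -- the Taylor map
  let T : A → PowerSeries A := fun x => PowerSeries.mk fun n => c n • ((D : A →ₗ[ℚ] A) ^ n) x
  have hT : ∀ n x, PowerSeries.coeff n (T x) = c n • ((D : A →ₗ[ℚ] A) ^ n) x := fun n x => PowerSeries.coeff_mk _ _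
  have hdT : ∀ x, PowerSeries.derivative A (T x) = T (D x) := fun x => PowerSeries.ext fun n => by
    rw [PowerSeries.coeff_derivative, hT, hT, ← hstep, mul_comm,
      show ((n : A) + 1) = ((n + 1 : ℕ) : A) by push_cast; ring, ← nsmul_eq_mul, ← smul_comm, hc']
  have hTadd : ∀ x y, T (x + y) = T x + T y := fun x y => PowerSeries.ext fun n => by
    rw [map_add, hT, hT, hT, map_add, smul_add]
  have hTmul : ∀ x y, T (x * y) = T x * T y := by
    suffices h : ∀ n x y, PowerSeries.coeff n (T (x * y)) = PowerSeries.coeff n (T x * T y) from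
      fun x y => PowerSeries.ext fun n => h n x y
    intro n
    induction n with
    | zero =>
      intro x y
      rw [hT, PowerSeries.coeff_mul, Finset.Nat.antidiagonal_zero, Finset.sum_singleton, hT, hT]
      simp [c]
    | succ n ih =>
      intro x y
      have h1 := ih x (D y)
      have h2 := ih (D x) y
      have e1 : PowerSeries.coeff n (PowerSeries.derivative A (T (x * y))) =
          PowerSeries.coeff n (PowerSeries.derivative A (T x * T y)) := by
        rw [hdT, D.leibniz, Derivation.leibniz, hdT, hdT, smul_eq_mul, smul_eq_mul, smul_eq_mul, smul_eq_mul,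
          hTadd, map_add, map_add, h1, mul_comm y (D x), h2, mul_comm (T (D x)) (T y)]
      rw [PowerSeries.coeff_derivative, PowerSeries.coeff_derivative] at e1
      have hu : IsUnit ((n : A) + 1) := by
        rw [show ((n : A) + 1) = algebraMap ℚ A ((n + 1 : ℕ) : ℚ) by push_cast [map_natCast]; simp]
        exact (isUnit_iff_ne_zero.2 (by exact_mod_cast Nat.succ_ne_zero n)).map _
      exact hu.mul_left_injective e1
  have hTone : T 1 = 1 := PowerSeries.ext fun n => by
    rw [hT, PowerSeries.coeff_one]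
    cases n with
    | zero => simp [c]
    | succ n => rw [hstep, Derivation.map_one_eq_zero, map_zero, smul_zero, if_neg (Nat.succ_ne_zero n)]
  have hvan : ∀ (N : ℕ) (x : A), ((D : A →ₗ[ℚ] A) ^ N) x = 0 → ∀ n, N ≤ n → ((D : A →ₗ[ℚ] A) ^ n) x = 0 := by
    intro N x hN n hn
    obtain ⟨j, rfl⟩ := Nat.exists_eq_add_of_le hn
    rw [add_comm, pow_add, Module.End.mul_apply, hN, map_zero]
  let mk := Ideal.Quotient.mk (Ideal.span ({a} : Set A))
  let P : A → Polynomial (A ⧸ Ideal.span ({a} : Set A)) := fun x =>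
    PowerSeries.trunc (Nat.find (hnil x)) (PowerSeries.map mk (T x))
  have hP : ∀ x, (P x : PowerSeries (A ⧸ Ideal.span ({a} : Set A))) = PowerSeries.map mk (T x) := fun x =>
    PowerSeries.ext fun n => by
      rw [Polynomial.coeff_coe, PowerSeries.coeff_trunc]
      split_ifs with hn
      · rfl
      · rw [PowerSeries.coeff_map, hT, hvan _ x (Nat.find_spec (hnil x)) n (not_lt.1 hn), smul_zero, map_zero]
  have hPc : ∀ x n, (P x).coeff n = mk (c n • ((D : A →ₗ[ℚ] A) ^ n) x) := fun x n => by
    rw [← Polynomial.coeff_coe, hP, PowerSeries.coeff_map, hT]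
  let χ₀ : A →+* Polynomial (A ⧸ Ideal.span ({a} : Set A)) :=
    { toFun := P
      map_one' := Polynomial.coe_injective _ (by rw [hP, hTone, map_one, Polynomial.coe_one])
      map_mul' := fun x y => Polynomial.coe_injective _ (by rw [Polynomial.coe_mul, hP, hP, hP, hTmul, map_mul])
      map_zero' := Polynomial.ext fun n => by rw [hPc, map_zero, smul_zero, map_zero, Polynomial.coeff_zero]
      map_add' := fun x y => Polynomial.ext fun n => by
        rw [Polynomial.coeff_add, hPc, hPc, hPc, map_add, smul_add, map_add] }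
  have hχc : ∀ x n, (χ₀ x).coeff n = mk (c n • ((D : A →ₗ[ℚ] A) ^ n) x) := hPc
  have hderiv : ∀ x, χ₀ (D x) = Polynomial.derivative (χ₀ x) := fun x => Polynomial.ext fun n => by
    rw [Polynomial.coeff_derivative, hχc, hχc, ← hstep, show ((n : A ⧸ Ideal.span ({a} : Set A)) + 1) = mk ((n + 1 : ℕ) : A) by
      rw [map_natCast]; push_cast; ring, ← map_mul, mul_comm, ← nsmul_eq_mul, ← smul_comm, hc']
  have hχa : χ₀ a = Polynomial.X := Polynomial.ext fun n => by
    rw [hχc, Polynomial.coeff_X]
    rcases n with _ | _ | n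
    · rw [pow_zero, if_neg one_ne_zero]
      show mk (c 0 • a) = 0
      rw [show c 0 = 1 by simp [c], one_smul]
      exact Ideal.Quotient.eq_zero_iff_mem.2 (Ideal.mem_span_singleton_self a)
    · rw [hstep, pow_zero, if_pos rfl]
      show mk (c 1 • D a) = 1
      simp [c, ha]
    · rw [hstep, hstep, ha, Derivation.map_one_eq_zero, map_zero, smul_zero, map_zero, if_neg (by omega)]
  -- the slice
  let e : A → ℕ → A := fun x n => ((-1 : ℚ) ^ n * c n) • (((D : A →ₗ[ℚ] A) ^ n) x * a ^ n)
  let f : A → ℕ → A := fun x n => ((-1 : ℚ) ^ n * c n) • (((D : A →ₗ[ℚ] A) ^ (n + 1)) x * a ^ n)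
  have hDe : ∀ x (M : ℕ), D (∑ n ∈ Finset.range (M + 1), e x n) = f x M := by
    intro x M
    induction M with
    | zero =>
      simp only [zero_add, Finset.sum_range_one, e, f, pow_zero, mul_one, one_mul]
      rw [Derivation.map_smul]
      rfl
    | succ M ih =>
      rw [Finset.sum_range_succ, map_add, ih]
      show f x M + D (e x (M + 1)) = f x (M + 1)
      simp only [e, f, Derivation.map_smul, Derivation.leibniz, Derivation.leibniz_pow, ha, smul_eq_mul, mul_one,
        add_tsub_cancel_right, ← hstep' (M + 1) x, smul_add]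
      rw [mul_comm (((D : A →ₗ[ℚ] A) ^ (M + 1)) x) ((M + 1) • a ^ M), smul_mul_assoc,
        mul_smul ((-1 : ℚ) ^ (M + 1)) (c (M + 1)) ((M + 1) • _), hc', smul_smul,
        mul_comm (a ^ M) (((D : A →ₗ[ℚ] A) ^ (M + 1)) x), mul_comm (a ^ (M + 1)), pow_succ (-1 : ℚ) M,
        show ((-1 : ℚ) ^ M * -1) * c M = -((-1 : ℚ) ^ M * c M) by ring, neg_smul]
      abel
  have hslice : ∀ x (N : ℕ), ((D : A →ₗ[ℚ] A) ^ N) x = 0 →
      χ₀ (∑ n ∈ Finset.range N, e x n) = Polynomial.C (mk x) := by
    intro x N hN
    rcases N with _ | M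
    · rw [pow_zero] at hN
      have hx : x = 0 := hN
      simp [hx]
    have h0 : Polynomial.derivative (χ₀ (∑ n ∈ Finset.range (M + 1), e x n)) = 0 := by
      rw [← hderiv, hDe]
      simp [f, hN]
    refine Polynomial.ext fun n => ?_
    rw [Polynomial.coeff_C]
    rcases n with _ | n
    · rw [if_pos rfl, hχc, pow_zero]
      show mk (c 0 • (∑ n ∈ Finset.range (M + 1), e x n)) = mk x
      rw [show c 0 = 1 by simp [c], one_smul, Finset.sum_range_succ', map_add, map_sum]
      rw [Finset.sum_eq_zero fun n _ => ?_, zero_add]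
      · simp [e, c]
      · refine Ideal.Quotient.eq_zero_iff_mem.2 (Submodule.smul_of_tower_mem _ _ ?_)
        rw [pow_succ a, ← mul_assoc]
        exact Ideal.mul_mem_left _ _ (Ideal.mem_span_singleton_self a)
    · rw [if_neg (Nat.succ_ne_zero n)]
      have h1 := congrArg (fun p => Polynomial.coeff p n) h0
      simp only [Polynomial.coeff_derivative, Polynomial.coeff_zero] at h1
      refine (IsUnit.mul_left_eq_zero ?_).1 h1
      rw [show ((n : A ⧸ Ideal.span ({a} : Set A)) + 1) = mk (algebraMap ℚ A ((n + 1 : ℕ) : ℚ)) by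
        rw [map_natCast, map_natCast]; push_cast; ring]
      exact ((isUnit_iff_ne_zero.2 (by exact_mod_cast Nat.succ_ne_zero n)).map (algebraMap ℚ A)).map mk
  have hinj : ∀ (N : ℕ) (x : A), ((D : A →ₗ[ℚ] A) ^ N) x = 0 → χ₀ x = 0 → x = 0 := by
    intro N
    induction N with
    | zero => intro x hx _; exact hx
    | succ N ih =>
      intro x hx hχ
      have hDx : D x = 0 := ih _ (by rw [← hstep]; exact hx) (by rw [hderiv, hχ, map_zero])
      have h0 : mk x = 0 := by
        have := congrArg (fun p => Polynomial.coeff p 0) hχ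
        simpa [hχc, c] using this
      obtain ⟨y, hy⟩ := Ideal.mem_span_singleton.1 (Ideal.Quotient.eq_zero_iff_mem.1 h0)
      have hgen : ∀ j, ((D : A →ₗ[ℚ] A) ^ (j + 1)) x = a * ((D : A →ₗ[ℚ] A) ^ (j + 1)) y + (j + 1) • ((D : A →ₗ[ℚ] A) ^ j) y := by
        intro j
        induction j with
        | zero =>
          rw [hstep, hy, Derivation.leibniz, ha, smul_eq_mul, smul_eq_mul, mul_one, hstep, map_add]
          simp
        | succ j ihj =>
          rw [hstep', ihj, map_add, Derivation.leibniz, ha, map_nsmul, ← hstep', ← hstep', smul_eq_mul, smul_eq_mul,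
            mul_one, succ_nsmul _ (j + 1)]
          ring
      have hdown : ∀ j, ((D : A →ₗ[ℚ] A) ^ j) y = 0 → y = 0 := by
        intro j
        induction j with
        | zero => exact id
        | succ j ihj =>
          intro hj
          refine ihj ?_
          have h1 := hgen j
          rw [hj, mul_zero, zero_add, hstep, hDx, map_zero, ← Nat.cast_smul_eq_nsmul ℚ] at h1
          exact (IsUnit.smul_eq_zero (isUnit_iff_ne_zero.2 (by exact_mod_cast Nat.succ_ne_zero j))).1 h1.symm
      obtain ⟨K, hK⟩ := hnil y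
      rw [hy, hdown K hK, mul_zero]
  have hbij : Function.Bijective χ₀ := by
    refine ⟨(injective_iff_map_eq_zero χ₀).2 fun x hx => ?_, fun p => ?_⟩
    · obtain ⟨N, hN⟩ := hnil x
      exact hinj N x hN hx
    · induction p using Polynomial.induction_on' with
      | add p q hp hq =>
        obtain ⟨u, rfl⟩ := hp
        obtain ⟨v, rfl⟩ := hq
        exact ⟨u + v, map_add _ _ _⟩
      | monomial n z =>
        obtain ⟨x, rfl⟩ := Ideal.Quotient.mk_surjective z
        obtain ⟨N, hN⟩ := hnil x
        refine ⟨(∑ n ∈ Finset.range N, e x n) * a ^ n, ?_⟩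
        rw [map_mul, map_pow, hslice x N hN, hχa, Polynomial.C_mul_X_pow_eq_monomial]
  refine ⟨RingEquiv.ofBijective χ₀ hbij, fun x N hN => ?_, ?_, fun x N hN => ?_, fun p => ?_⟩
  · show χ₀ x = _
    refine Polynomial.ext fun m => ?_
    rw [hχc, Polynomial.finsetSum_coeff]
    simp only [Polynomial.smul_C, Polynomial.coeff_C_mul_X_pow]
    rw [Finset.sum_ite_eq (Finset.range N) m]
    split_ifs with hm
    · exact ((Ideal.Quotient.mkₐ ℚ (Ideal.span ({a} : Set A))).toLinearMap.map_smul (c m) _)
    · rw [hvan N x hN m (not_lt.1 (fun h => hm (Finset.mem_range.2 h))), smul_zero, map_zero]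
  · rw [RingEquiv.symm_apply_eq]
    exact hχa.symm
  · rw [RingEquiv.symm_apply_eq]
    exact (hslice x N hN).symm
  · show χ₀ (D _) = _
    rw [hderiv]
    exact congrArg _ ((RingEquiv.ofBijective χ₀ hbij).apply_symm_apply p)

end Groth.Agent.S18974
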