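import Groth.Statements.S18976
import Groth.Agent.AssocBundleLib.Torsor

set_option autoImplicit false
set_option backward.isDefEq.respectTransparency false
set_option backward.isDefEq.respectTransparency.types false
universe u
open CategoryTheory MonoidalCategory CartesianMonoidalCategory MonObj AlgebraicGeometry
open GIT

namespace Groth.Agent.S18976

/-- The associated fibre bundle exists. Over an algebraically closed field k of characteristic zero, let
G be an affine group scheme of finite type over k acting on a k-scheme X, let φ : X → Y be a
G-torsor over Y (the square formed by the action, the second projection and φ twice is cartesian,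
and φ acquires sections on the members of some fpqc covering family of Y), and let G act on an
affine k-scheme F. Give X ×_k F the diagonal action. Then there are a k-scheme Q with a morphism to
Y and a morphism q : X ×_k F → Q compatible with the projection to Y such that q is a G-torsor over
Q in the same sense; moreover q is affine and a geometric quotient. (The source writes the torsor
with a right action and lets g act on X × F by (x g⁻¹, g f); with the left action g x := x g⁻¹ this
is the diagonal action used here. The last assertion of the source, on the case where F is a larger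
affine group containing G, is not part of this row.) -/
theorem result
    (k : Type u) [Field k] [IsAlgClosed k] [CharZero k]
    (G X Y F : Over (Spec (CommRingCat.of k))) [GrpObj G] [IsAffine G.left] [LocallyOfFiniteType G.hom]
    (a : AlgGrp.Action G X) (φ : X ⟶ Y)
    (hcart : IsPullback a.act (snd G X) φ φ)
    (hloc : NonAbH1.IsLocallyTrivialFor Scheme.fpqcPrecoverage (Over.mk φ.left : Over Y.left))
    [IsAffine F.left] (b : AlgGrp.Action G F) :
    ∃ (Q : Over (Spec (CommRingCat.of k))) (q : X ⊗ F ⟶ Q) (r : Q ⟶ Y),
      q ≫ r = fst X F ≫ φ ∧
      IsPullback (a.prod b).act (snd G (X ⊗ F)) q q ∧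
      NonAbH1.IsLocallyTrivialFor Scheme.fpqcPrecoverage (Over.mk q.left : Over Q.left) ∧
      IsAffineHom q.left ∧ GIT.IsGeomQuot (a.prod b) q := by
  haveI : IsAffineHom G.hom := inferInstance
  haveI := Groth.Agent.AssocBundle.isFpqc_of_torsor a φ hcart hloc
  haveI : IsAffineHom F.hom := inferInstance
  haveI := Groth.Agent.AssocBundle.isAffineHom_fst X F
  obtain ⟨Q, q, r, hqr, hsq, hq, hc⟩ :=
    Groth.Agent.AssocBundle.exists_quotient hcart (fst X F) (a.prod b) (Groth.Agent.AssocBundle.prod_act_fst a b)
  haveI := hq
  haveI := (Groth.Agent.GitTorsor.isAffineHom_and_isGeomQuot a φ hcart hloc).1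
  haveI : QuasiCompact q.left := MorphismProperty.of_isPullback hsq inferInstance
  have hloc' : NonAbH1.IsLocallyTrivialFor Scheme.fpqcPrecoverage (Over.mk q.left : Over Q.left) := by
    refine ⟨Presieve.singleton q.left, q.left.singleton_mem_fpqcPrecoverage, ?_⟩
    intro S' g hg
    cases hg
    exact ⟨𝟙 _, Category.id_comp _⟩
  exact ⟨Q, q, r, hqr, hc, hloc', Groth.Agent.GitTorsor.isAffineHom_and_isGeomQuot (a.prod b) q hc hloc'⟩

end Groth.Agent.S18976
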