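import Groth.Statements.S18977
import Groth.Agent.AssocBundleLib.Torsor

set_option autoImplicit false
set_option backward.isDefEq.respectTransparency false
set_option backward.isDefEq.respectTransparency.types false
universe u
open CategoryTheory MonoidalCategory CartesianMonoidalCategory MonObj AlgebraicGeometry
open GIT

namespace Groth.Agent.S18977

/-- Composition of torsors. Over an algebraically closed field k of characteristic zero, let G be an
affine group scheme of finite type over k, N a closed normal subgroup scheme which is the kernel of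
a homomorphism q : G → Q, and H a closed subgroup scheme of G which q maps isomorphically onto Q (so
G is the inner semidirect product N H). Let G act on a k-scheme X and let φ₁ : X → Y be a torsor
over Y under the restricted action of N (the square formed by the N-action, the second projection
and φ₁ twice is cartesian, and φ₁ acquires sections on the members of some fpqc covering family of
Y); let Q act on Y so that φ₁ is equivariant along q, and let φ₂ : Y → Z be a Q-torsor over Z in the
same sense. Then φ₂ ∘ φ₁ is a G-torsor over Z: the square formed by the G-action, the second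
projection and φ₂ ∘ φ₁ twice is cartesian, and φ₂ ∘ φ₁ acquires sections fpqc-locally on Z. (The
induced action of the factor group on Y is taken as a datum together with the equivariance of φ₁;
the source's second assertion, that the composite of trivial torsors is trivial, amounts to
composing sections and is not restated.) -/
theorem result
    (k : Type u) [Field k] [IsAlgClosed k] [CharZero k]
    (G N Q H X Y Z : Over (Spec (CommRingCat.of k))) [GrpObj G] [GrpObj N] [GrpObj Q] [GrpObj H]
    [IsAffine G.left] [LocallyOfFiniteType G.hom]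
    (iN : N ⟶ G) [IsMonHom iN] [IsClosedImmersion iN.left] (hnorm : AlgGrp.IsNormalHom iN)
    (q : G ⟶ Q) [IsMonHom q] (hker : AlgGrp.IsKernel iN q)
    (iH : H ⟶ G) [IsMonHom iH] [IsClosedImmersion iH.left] [IsIso (iH ≫ q)]
    (a : AlgGrp.Action G X) (φ₁ : X ⟶ Y)
    (h₁ : IsPullback (a.restrict iN).act (snd N X) φ₁ φ₁)
    (h₁loc : NonAbH1.IsLocallyTrivialFor Scheme.fpqcPrecoverage (Over.mk φ₁.left : Over Y.left))
    (aY : AlgGrp.Action Q Y) (hequiv : (q ⊗ₘ φ₁) ≫ aY.act = a.act ≫ φ₁)
    (φ₂ : Y ⟶ Z) (h₂ : IsPullback aY.act (snd Q Y) φ₂ φ₂)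
    (h₂loc : NonAbH1.IsLocallyTrivialFor Scheme.fpqcPrecoverage (Over.mk φ₂.left : Over Z.left)) :
    IsPullback a.act (snd G X) (φ₁ ≫ φ₂) (φ₁ ≫ φ₂) ∧
      NonAbH1.IsLocallyTrivialFor Scheme.fpqcPrecoverage (Over.mk (φ₁ ≫ φ₂).left : Over Z.left) := by
  refine ⟨?_, ?_⟩
  · have hqiN : ∀ {T : Over (Spec (CommRingCat.of k))} (n : T ⟶ N), (n ≫ iN) ≫ q = 1 := by
      intro T n
      rw [Category.assoc, hker.w, Hom.one_def, ← Category.assoc, toUnit_unique (n ≫ toUnit N) (toUnit T)]
    have hact : ∀ {T : Over (Spec (CommRingCat.of k))} (g : T ⟶ G) (x : T ⟶ X),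
        (lift g x ≫ a.act) ≫ φ₁ = lift (g ≫ q) (x ≫ φ₁) ≫ aY.act := by
      intro T g x
      rw [Category.assoc, ← hequiv, ← Category.assoc, lift_map]
    have hinv : a.act ≫ φ₁ ≫ φ₂ = snd G X ≫ φ₁ ≫ φ₂ := by
      apply AlgGrp.Action.hom_ext_lift₂
      intro T g x
      rw [← Category.assoc, ← Category.assoc, hact, Category.assoc, h₂.w, lift_snd_assoc, lift_snd_assoc, Category.assoc]
    have hN1 : ∀ {T : Over (Spec (CommRingCat.of k))} (n : T ⟶ N) (x : T ⟶ X),
        lift (n ≫ iN) x ≫ a.act = x → n = 1 := by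
      intro T n x e
      have e1 : lift n x ≫ (a.restrict iN).act = lift 1 x ≫ (a.restrict iN).act := by
        rw [AlgGrp.Action.lift_restrict_act, e, AlgGrp.Action.lift_one_act]
      have e2 := h₁.hom_ext e1 (by rw [lift_snd, lift_snd])
      simpa using congrArg (· ≫ fst N X) e2
    have hfree : ∀ {T : Over (Spec (CommRingCat.of k))} (g g' : T ⟶ G) (x : T ⟶ X),
        lift g x ≫ a.act = lift g' x ≫ a.act → g = g' := by
      intro T g g' x e
      have eh : lift (g'⁻¹ * g) x ≫ a.act = x := by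
        rw [AlgGrp.Action.lift_mul_act, e, ← AlgGrp.Action.lift_mul_act, inv_mul_cancel, AlgGrp.Action.lift_one_act]
      have ey : lift ((g'⁻¹ * g) ≫ q) (x ≫ φ₁) ≫ aY.act = lift 1 (x ≫ φ₁) ≫ aY.act := by
        rw [← hact, eh, AlgGrp.Action.lift_one_act]
      have eq1 : (g'⁻¹ * g) ≫ q = 1 := by
        simpa using congrArg (· ≫ fst Q Y) (h₂.hom_ext ey (by rw [lift_snd, lift_snd]))
      obtain ⟨n, hn, -⟩ := (hker.exists_lift (g'⁻¹ * g) (toUnit T) (by rw [eq1, Hom.one_def]))
      have hn1 := hN1 n x (by rw [hn, eh])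
      rw [hn1, MonObj.one_comp] at hn
      exact (inv_mul_eq_one.mp hn.symm).symm
    have hex : ∀ s : CategoryTheory.Limits.PullbackCone (φ₁ ≫ φ₂) (φ₁ ≫ φ₂), ∃ g : s.pt ⟶ G, lift g s.snd ≫ a.act = s.fst := by
      intro s
      have hy : (s.fst ≫ φ₁) ≫ φ₂ = (s.snd ≫ φ₁) ≫ φ₂ := by
        rw [Category.assoc, Category.assoc]; exact s.condition
      obtain ⟨z, hz₁, hz₂⟩ := h₂.exists_lift _ _ hy
      let qq := z ≫ fst Q Y
      have hqq : lift qq (s.snd ≫ φ₁) ≫ aY.act = s.fst ≫ φ₁ := by
        rw [← hz₁]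
        congr 1
        apply CartesianMonoidalCategory.hom_ext
        · rw [lift_fst]
        · rw [lift_snd, hz₂]
      let g₀ := qq ≫ inv (iH ≫ q) ≫ iH
      have hg₀ : g₀ ≫ q = qq := by simp [g₀]
      have hx : s.fst ≫ φ₁ = (lift g₀ s.snd ≫ a.act) ≫ φ₁ := by rw [hact, hg₀, hqq]
      obtain ⟨w, hw₁, hw₂⟩ := h₁.exists_lift _ _ hx
      refine ⟨(w ≫ fst N X ≫ iN) * g₀, ?_⟩
      rw [AlgGrp.Action.lift_mul_act, ← hw₂, ← hw₁, ← Category.assoc w, ← AlgGrp.Action.lift_restrict_act,
        ← comp_lift_assoc, lift_fst_snd, Category.id_comp]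
    choose l hl using hex
    refine IsPullback.of_isLimit' ⟨hinv⟩ (CategoryTheory.Limits.PullbackCone.IsLimit.mk hinv
      (fun s => lift (l s) s.snd) hl (fun s => lift_snd _ _) fun s m h h' => ?_)
    have e : m = lift (m ≫ fst G X) s.snd := by
      rw [← h', ← comp_lift, lift_fst_snd, Category.comp_id]
    refine e.trans ?_
    congr 1
    exact hfree _ _ s.snd (by rw [← e, h, hl])
  · haveI : IsAffineHom G.hom := inferInstance
    haveI : IsAffineHom N.hom := by rw [← Over.w iN]; infer_instance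
    haveI : IsAffineHom H.hom := by rw [← Over.w iH]; infer_instance
    haveI : IsIso (iH ≫ q).left := inferInstanceAs (IsIso ((Over.forget _).map (iH ≫ q)))
    haveI : IsAffineHom Q.hom := by rw [← Over.w (inv (iH ≫ q))]; infer_instance
    haveI := Groth.Agent.AssocBundle.isFpqc_of_torsor (a.restrict iN) φ₁ h₁ h₁loc
    haveI := Groth.Agent.AssocBundle.isFpqc_of_torsor aY φ₂ h₂ h₂loc
    obtain ⟨ha₁, -⟩ := Groth.Agent.GitTorsor.isAffineHom_and_isGeomQuot (a.restrict iN) φ₁ h₁ h₁loc
    obtain ⟨ha₂, -⟩ := Groth.Agent.GitTorsor.isAffineHom_and_isGeomQuot aY φ₂ h₂ h₂loc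
    haveI := ha₁; haveI := ha₂
    haveI : Flat (φ₁ ≫ φ₂).left := by rw [Over.comp_left]; infer_instance
    haveI : Surjective (φ₁ ≫ φ₂).left := by rw [Over.comp_left]; infer_instance
    haveI : QuasiCompact (φ₁ ≫ φ₂).left := by rw [Over.comp_left]; infer_instance
    exact ⟨Presieve.singleton (φ₁ ≫ φ₂).left, (φ₁ ≫ φ₂).left.singleton_mem_fpqcPrecoverage, fun S' g hg => by
      cases hg; exact ⟨𝟙 _, Category.id_comp _⟩⟩

end Groth.Agent.S18977
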