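import Groth.Statements.S18981
import Groth.Agent.GoodQuotLib.Orbit

set_option autoImplicit false
universe u
open CategoryTheory MonoidalCategory CartesianMonoidalCategory MonObj AlgebraicGeometry Topology
open NRQuot

namespace Groth.Agent.S18981

open CategoryTheory CategoryTheory.Limits AlgebraicGeometry

open Groth.Agent

/-- Over an algebraically closed field k of characteristic zero, let G be an affine group scheme of
finite type over k acting on a k-scheme X locally of finite type, and let φ : X → Y be a good
quotient (affine and invariant, functions on every open of Y are exactly the invariant functions on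
its preimage, invariant closed subsets have closed images, images commute with intersections of
families of invariant closed subsets). If the orbit of every k-point of X is closed in X, then φ is
a geometric quotient; this row states the one clause that a good quotient lacks: fibres are orbits,
read on k-points — two k-points of X with the same image in Y are translates of each other by a
k-point of G. (Surjectivity and submersiveness of a good quotient are the content of the companion
statement on good quotients; X locally of finite type is what the argument on closed points uses.) -/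
theorem result
    (k : Type u) [Field k] [IsAlgClosed k] [CharZero k]
    (G X Y : Over (Spec (CommRingCat.of k))) [GrpObj G] [IsAffine G.left] [LocallyOfFiniteType G.hom]
    [LocallyOfFiniteType X.hom]
    (a : AlgGrp.Action G X) (φ : X ⟶ Y) (h : NRQuot.IsGoodQuot a φ)
    (hcl : ∀ x : 𝟙_ (Over (Spec (CommRingCat.of k))) ⟶ X, IsClosed (Set.range (a.orbitMap x).left.base))
    (x₁ x₂ : 𝟙_ (Over (Spec (CommRingCat.of k))) ⟶ X) (hφ : x₁ ≫ φ = x₂ ≫ φ) :
    ∃ g : 𝟙_ (Over (Spec (CommRingCat.of k))) ⟶ G, lift g x₁ ≫ a.act = x₂ := by
  let t : ↥(𝟙_ (Over (Spec (CommRingCat.of k)))).left := IsLocalRing.closedPoint k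
  refine GoodQuotLib.exists_smul_eq_of_inter a x₁ x₂ (hcl x₁) (hcl x₂) ?_
  let C : ULift.{u} Bool → Set ↥X.left := fun i => Set.range (a.orbitMap (cond i.down x₁ x₂)).left.base
  have hi := h.inter _ C (fun i => hcl _) fun i => GoodQuotLib.isInvariantSet_orbit a _
  have hy : φ.left (x₁.left t) ∈ ⋂ i, φ.left '' C i := by
    refine Set.mem_iInter.mpr fun ⟨i⟩ => ?_
    cases i
    · refine ⟨x₂.left t, GoodQuotLib.point_mem_orbit a x₂ t, ?_⟩
      rw [← Scheme.Hom.comp_apply, ← Scheme.Hom.comp_apply, ← Over.comp_left, ← Over.comp_left, hφ]
    · exact ⟨x₁.left t, GoodQuotLib.point_mem_orbit a x₁ t, rfl⟩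
  obtain ⟨p, hp, -⟩ := hi.ge hy
  exact ⟨p, Set.mem_iInter.mp hp ⟨true⟩, Set.mem_iInter.mp hp ⟨false⟩⟩


end Groth.Agent.S18981
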