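import Mathlib
import Groth.Statements.S18983
-- import your own Groth.Agent.* helpers here

set_option autoImplicit false
universe u v w
open CAlg

namespace Groth.Agent.S18983

variable {k : Type u} [Field k] {Λ : Type v} {V : Type w} [AddCommGroup V] [Module k V]
  [FiniteDimensional k V]

theorem jordan_aux [AddCommGroup Λ] (π : Λ → V →ₗ[k] V) (Hom : Set V)
    (hHom : ∀ μ v, π μ v ∈ Hom) (hHomA : ∀ v ∈ Hom, ∃ μ, π μ v = v)
    (hspan : ∀ v, v ∈ Submodule.span k (Set.range fun μ => π μ v))
    (A : Module.End k V) (hA : IsNilpotent A) (χ : Λ)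
    (hcomm : ∀ μ v, π (μ + χ) (A v) = A (π μ v)) :
    ∀ (d : ℕ) (W : Submodule k V), Module.finrank k W = d → (∀ μ, ∀ x ∈ W, π μ x ∈ W) →
      (∀ x ∈ W, A x ∈ W) →
      ∃ (ι : Type w) (_ : Fintype ι) (n : ι → ℕ) (e : (Σ i : ι, Fin (n i + 1)) → V),
        LinearIndependent k e ∧ Submodule.span k (Set.range e) = W ∧ (∀ p, e p ∈ Hom) ∧
          (∀ i, A (e ⟨i, 0⟩) = 0) ∧
          ∀ (i : ι) (l : Fin (n i)), A (e ⟨i, l.succ⟩) = e ⟨i, l.castSucc⟩ := by
  classical
  intro d
  induction d using Nat.strong_induction_on with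
  | _ d ih =>
    intro W hd hgr hinv
    by_cases hW : W = ⊥
    · exact ⟨PEmpty, inferInstance, fun i => i.elim, fun p => p.1.elim,
        linearIndependent_empty_type, by simp [hW], fun p => p.1.elim, fun i => i.elim,
        fun i => i.elim⟩
    let U := W.map A
    have hUW : U ≤ W := by rintro _ ⟨x, hx, rfl⟩; exact hinv x hx
    have hUlt : U < W := by
      refine lt_of_le_of_ne hUW fun h => hW ?_
      obtain ⟨m, hm⟩ := hA
      have hit : ∀ j : ℕ, ∀ x ∈ W, ∃ y ∈ W, (A ^ j) y = x := by
        intro j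
        induction j with
        | zero => exact fun x hx => ⟨x, hx, rfl⟩
        | succ j ihj =>
          intro x hx
          obtain ⟨y, hy, rfl⟩ := ihj x hx
          obtain ⟨z, hz, rfl⟩ := (show y ∈ U from h.symm ▸ hy)
          exact ⟨z, hz, by rw [pow_succ]; rfl⟩
      rw [eq_bot_iff]
      intro x hx
      obtain ⟨y, _, rfl⟩ := hit m x hx
      simp [hm]
    have hUgr : ∀ μ, ∀ x ∈ U, π μ x ∈ U := by
      rintro μ _ ⟨x, hx, rfl⟩
      exact ⟨π (μ - χ) x, hgr _ x hx, by rw [← hcomm, sub_add_cancel]⟩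
    obtain ⟨ι, _, n, e, hli, hsp, hhom, h0, hs⟩ :=
      ih _ (hd ▸ Submodule.finrank_lt_finrank_of_lt hUlt) U rfl hUgr
        (fun x hx => ⟨x, hUW hx, rfl⟩)
    have heU : ∀ p, e p ∈ U := fun p => hsp ▸ Submodule.subset_span ⟨p, rfl⟩
    have hlift : ∀ i : ι, ∃ f : V, f ∈ W ∧ f ∈ Hom ∧ A f = e ⟨i, Fin.last (n i)⟩ := by
      intro i
      obtain ⟨x, hx, hxe⟩ := heU ⟨i, Fin.last (n i)⟩
      obtain ⟨μ, hμ⟩ := hHomA _ (hhom ⟨i, Fin.last (n i)⟩)
      refine ⟨π (μ - χ) x, hgr _ x hx, hHom _ _, ?_⟩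
      rw [← hcomm, sub_add_cancel, hxe, hμ]
    choose f hfW hfHom hfA using hlift
    let S : Set V := {v | v ∈ W ∧ A v = 0 ∧ v ∈ Hom}
    let s₀ : Set V := Set.range fun i : ι => e ⟨i, 0⟩
    have hs₀ : s₀ ⊆ S := by
      rintro _ ⟨i, rfl⟩
      exact ⟨hUW (heU _), h0 i, hhom _⟩
    have hinj : Function.Injective fun i : ι => e ⟨i, 0⟩ :=
      hli.injective.comp fun i j h => congrArg Sigma.fst h
    have hs₀li : LinearIndepOn k id s₀ :=
      ((hli.comp (fun i : ι => (⟨i, 0⟩ : Σ i, Fin (n i + 1)))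
        fun i j h => congrArg Sigma.fst h)).linearIndepOn_id
    let B := hs₀li.extend hs₀
    have hBS : B ⊆ S := hs₀li.extend_subset hs₀
    have hsB : s₀ ⊆ B := hs₀li.subset_extend hs₀
    have hBli : LinearIndepOn k id B := hs₀li.linearIndepOn_extend hs₀
    haveI : Finite B := LinearIndependent.finite (R := k) (M := V) hBli
    have hker : ∀ v ∈ W, A v = 0 → v ∈ Submodule.span k B := by
      intro v hv hv0
      rw [hs₀li.span_extend_eq_span hs₀]
      refine (Submodule.span_le.mpr ?_) (hspan v)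
      rintro _ ⟨μ, rfl⟩
      exact Submodule.subset_span ⟨hgr μ v hv, by rw [← hcomm, hv0, map_zero], hHom _ _⟩
    let X := {b : B // (b : V) ∉ s₀}
    haveI : Fintype X := Fintype.ofFinite _
    let n' : ι ⊕ X → ℕ := Sum.elim (fun i => n i + 1) (fun _ => 0)
    let g : ∀ i : ι, Fin (n i + 1 + 1) → V := fun i =>
      Fin.lastCases (motive := fun _ => V) (f i) (fun l => e ⟨i, l⟩)
    have hgl : ∀ i, g i (Fin.last (n i + 1)) = f i := fun i => Fin.lastCases_last ..
    have hgc : ∀ i (l : Fin (n i + 1)), g i l.castSucc = e ⟨i, l⟩ := fun i l =>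
      Fin.lastCases_castSucc ..
    let e' : (Σ j : ι ⊕ X, Fin (n' j + 1)) → V := fun p =>
      match p with
      | ⟨Sum.inl i, l⟩ => g i l
      | ⟨Sum.inr b, _⟩ => (b.1 : V)
    have hgA : ∀ (i : ι) (l : Fin (n i + 1)), A (g i l.succ) = g i l.castSucc := fun i =>
      Fin.lastCases (motive := fun l : Fin (n i + 1) => A (g i l.succ) = g i l.castSucc)
        (by rw [hgc, Fin.succ_last, hgl, hfA])
        (fun l => by rw [hgc, Fin.succ_castSucc, hgc, hs])
    have hgW : ∀ (i : ι) (l : Fin (n i + 1 + 1)), g i l ∈ W := fun i =>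
      Fin.lastCases (motive := fun l => g i l ∈ W) (by rw [hgl]; exact hfW i)
        (fun l => by rw [hgc]; exact hUW (heU _))
    have hgH : ∀ (i : ι) (l : Fin (n i + 1 + 1)), g i l ∈ Hom := fun i =>
      Fin.lastCases (motive := fun l => g i l ∈ Hom) (by rw [hgl]; exact hfHom i)
        (fun l => by rw [hgc]; exact hhom _)
    have he'W : ∀ p, e' p ∈ W := by
      rintro ⟨i | b, l⟩
      · exact hgW i l
      · exact (hBS b.1.2).1
    have hB' : Submodule.span k B ≤ Submodule.span k (Set.range e') := by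
      rw [Submodule.span_le]
      intro b hb
      by_cases hb0 : b ∈ s₀
      · obtain ⟨i, rfl⟩ := hb0
        exact Submodule.subset_span ⟨⟨Sum.inl i, (Fin.castSucc (0 : Fin (n i + 1)) : Fin (n i + 1 + 1))⟩, hgc i 0⟩
      · exact Submodule.subset_span ⟨⟨Sum.inr ⟨⟨b, hb⟩, hb0⟩, 0⟩, rfl⟩
    have hspan' : Submodule.span k (Set.range e') = W := by
      refine le_antisymm (Submodule.span_le.mpr (by rintro _ ⟨p, rfl⟩; exact he'W p)) ?_
      have hU' : U ≤ (Submodule.span k (Set.range e') ⊓ W).map A := by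
        rw [← hsp, Submodule.span_le]
        rintro _ ⟨⟨i, l⟩, rfl⟩
        exact ⟨g i l.succ, ⟨Submodule.subset_span ⟨⟨Sum.inl i, l.succ⟩, rfl⟩, hgW i _⟩,
          (hgA i l).trans (hgc i l)⟩
      intro v hv
      obtain ⟨w, ⟨hw, hwW⟩, hwA⟩ := hU' ⟨v, hv, rfl⟩
      rw [← sub_add_cancel v w]
      exact Submodule.add_mem _ (hB' (hker _ (W.sub_mem hv hwW) (by rw [map_sub, hwA, sub_self]))) hw
    have hcard : Fintype.card (Σ j : ι ⊕ X, Fin (n' j + 1)) =
        Fintype.card (Σ i : ι, Fin (n i + 1)) + Nat.card B := by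
      haveI : Fintype B := Fintype.ofFinite _
      have h1 : Nat.card B = Fintype.card ι + Fintype.card X := by
        rw [Nat.card_eq_fintype_card]
        have : Fintype.card {b : B // (b : V) ∈ s₀} = Fintype.card ι := by
          refine (Fintype.card_congr (Equiv.ofBijective
            (fun i : ι => (⟨⟨e ⟨i, 0⟩, hsB ⟨i, rfl⟩⟩, ⟨i, rfl⟩⟩ : {b : B // (b : V) ∈ s₀})) ⟨?_, ?_⟩)).symm
          · intro i j h
            exact hinj (congrArg (fun x => (x.1 : V)) h)
          · rintro ⟨⟨b, hb⟩, i, hi⟩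
            exact ⟨i, Subtype.ext (Subtype.ext hi)⟩
        have h2 := Fintype.card_subtype_compl (fun b : B => (b : V) ∈ s₀)
        have h3 := Fintype.card_subtype_le (fun b : B => (b : V) ∈ s₀)
        have h4 : Fintype.card X = Fintype.card B - Fintype.card {b : B // (b : V) ∈ s₀} := h2
        omega
      rw [h1]
      simp [n', Fintype.card_sigma, Fintype.sum_sum_type, Finset.sum_add_distrib]
      try ring
    have hdim : Module.finrank k W = Module.finrank k U + Nat.card B := by
      have h := LinearMap.finrank_range_add_finrank_ker (A.domRestrict W)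
      rw [LinearMap.range_domRestrict, LinearMap.ker_domRestrict] at h
      rw [← h]
      congr 1
      rw [← LinearEquiv.finrank_eq (Submodule.equivMapOfInjective W.subtype W.injective_subtype _).symm,
        Submodule.map_comap_eq, Submodule.range_subtype]
      have hBW : W ⊓ LinearMap.ker A = Submodule.span k B := by
        refine le_antisymm (fun v hv => hker v hv.1 hv.2) (Submodule.span_le.mpr ?_)
        exact fun v hv => ⟨(hBS hv).1, (hBS hv).2.1⟩
      haveI : Fintype B := Fintype.ofFinite _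
      rw [hBW, finrank_span_set_eq_card hBli, Nat.card_eq_fintype_card, Set.toFinset_card]
    have hli' : LinearIndependent k e' := by
      rw [linearIndependent_iff_card_eq_finrank_span, hcard, Set.finrank, hspan', hdim, ← hsp,
        finrank_span_eq_card hli]
    refine ⟨ι ⊕ X, inferInstance, n', e', hli', hspan', ?_, ?_, ?_⟩
    · rintro ⟨i | b, l⟩
      · exact hgH i l
      · exact (hBS b.1.2).2.2
    · rintro (i | b)
      · change A (g i (Fin.castSucc (0 : Fin (n i + 1)))) = 0
        rw [hgc, h0]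
      · exact (hBS b.1.2).2.1
    · rintro (i | b) l
      · exact hgA i l
      · exact Fin.elim0 l

/-- Let k be a field, Λ an additive commutative group, V a finite-dimensional k-vector space which is
the internal direct sum of subspaces V_μ indexed by Λ (a representation of a torus with character
group Λ), and A a nilpotent endomorphism of V mapping each V_μ into V_{μ+χ} for a fixed χ (the
infinitesimal generator of an action of the additive group on which the torus acts through the
character χ). Then V has a basis consisting of homogeneous vectors e_{i,l}, 0 ≤ l ≤ n_i, with A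
e_{i,0} = 0 and A e_{i,l+1} = e_{i,l}: a weight basis bringing A into Jordan normal form. (The
source states this, over an algebraically closed field of characteristic zero, as a decomposition of
every representation of the semidirect product of the additive group with a torus into twists of
symmetric powers of the standard two-dimensional representation by characters; the first line of its
proof reduces that to the present statement, which is what is proved, and which holds over any
field.) -/
theorem result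
    (k : Type u) [Field k] (Λ : Type v) [AddCommGroup Λ] [DecidableEq Λ]
    (V : Type w) [AddCommGroup V] [Module k V] [FiniteDimensional k V]
    (𝒱 : Λ → Submodule k V) (h𝒱 : DirectSum.IsInternal 𝒱)
    (A : Module.End k V) (hA : IsNilpotent A) (χ : Λ)
    (hhom : ∀ (μ : Λ) (v : V), v ∈ 𝒱 μ → A v ∈ 𝒱 (μ + χ)) :
    ∃ (ι : Type w) (_ : Finite ι) (n : ι → ℕ) (b : Module.Basis (Σ i : ι, Fin (n i + 1)) k V),
      (∀ (i : ι) (l : Fin (n i + 1)), ∃ μ : Λ, b ⟨i, l⟩ ∈ 𝒱 μ) ∧
      (∀ i : ι, A (b ⟨i, 0⟩) = 0) ∧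
      ∀ (i : ι) (l : Fin (n i)), A (b ⟨i, l.succ⟩) = b ⟨i, l.castSucc⟩ := by
  classical
  letI := h𝒱.chooseDecomposition
  let π : Λ → V →ₗ[k] V := fun μ => (𝒱 μ).subtype ∘ₗ
    (DirectSum.component k Λ (fun ν => 𝒱 ν) μ) ∘ₗ (DirectSum.decomposeLinearEquiv 𝒱).toLinearMap
  have hπ : ∀ μ v, π μ v = (DirectSum.decompose 𝒱 v μ : V) := fun μ v => rfl
  have hsame : ∀ μ (v : V), v ∈ 𝒱 μ → π μ v = v := fun μ v hv => by
    rw [hπ]; exact DirectSum.decompose_of_mem_same 𝒱 hv
  have hne : ∀ μ ν (v : V), v ∈ 𝒱 μ → μ ≠ ν → π ν v = 0 := fun μ ν v hv h => by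
    rw [hπ]; exact DirectSum.decompose_of_mem_ne 𝒱 hv h
  have hcomm : ∀ μ v, π (μ + χ) (A v) = A (π μ v) := by
    intro μ v
    induction v using DirectSum.Decomposition.inductionOn 𝒱 with
    | zero => simp
    | @homogeneous ν m =>
      rcases eq_or_ne ν μ with rfl | h
      · rw [hsame _ _ (hhom _ _ m.2), hsame _ _ m.2]
      · rw [hne _ _ _ (hhom _ _ m.2) (by simpa using h), hne _ _ _ m.2 h, map_zero]
    | add a b ha hb => simp only [map_add, ha, hb]
  obtain ⟨ι, hι, n, e, hli, hsp, hH, h0, hs⟩ := jordan_aux π {v | ∃ μ, v ∈ 𝒱 μ}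
    (fun μ v => ⟨μ, (DirectSum.decompose 𝒱 v μ).2⟩)
    (fun v hv => Exists.elim hv fun μ hμ => ⟨μ, hsame μ v hμ⟩)
    (fun v => by
      have h : ∑ i ∈ (DirectSum.decompose 𝒱 v).support, π i v ∈
          Submodule.span k (Set.range fun ν => π ν v) :=
        Submodule.sum_mem _ fun μ _ => Submodule.subset_span ⟨μ, rfl⟩
      have h2 : ∑ i ∈ (DirectSum.decompose 𝒱 v).support, π i v = v :=
        DirectSum.sum_support_decompose 𝒱 v
      rwa [h2] at h)
    A hA χ hcomm (Module.finrank k V) ⊤ (finrank_top k V)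
    (fun _ _ _ => Submodule.mem_top) (fun _ _ => Submodule.mem_top)
  refine ⟨ι, inferInstance, n, Module.Basis.mk hli hsp.ge, ?_, ?_, ?_⟩
  · intro i l; rw [Module.Basis.mk_apply]; exact hH ⟨i, l⟩
  · intro i; rw [Module.Basis.mk_apply]; exact h0 i
  · intro i l; rw [Module.Basis.mk_apply, Module.Basis.mk_apply]; exact hs i l

end Groth.Agent.S18983
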