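import Groth.Statements.S18984
import Groth.Agent.PropActLib.Torsor

set_option autoImplicit false
set_option backward.isDefEq.respectTransparency false
set_option backward.isDefEq.respectTransparency.types false
universe u
open CategoryTheory MonoidalCategory CartesianMonoidalCategory MonObj AlgebraicGeometry
open GIT

namespace Groth.Agent.S18984

/-- Over an algebraically closed field k of characteristic zero, let G be a connected reductive group
over k acting on a reduced separated k-scheme X of finite type, and let φ : X → Y be a geometric
quotient which is an affine morphism (invariant and surjective, G ×_k X → X ×_Y X surjective,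
universally submersive, and the functions on every open of Y are exactly the invariant functions on
its preimage). Then φ is a G-torsor over Y — the square formed by the action, the second projection
and φ twice is cartesian and φ acquires sections on the members of some fpqc covering family of Y —
if and only if the stabiliser of every geometric point of X is the trivial group scheme. (The source
allows any reductive G, not necessarily connected, and its geometric quotients are affine and
submersive rather than universally submersive; this row takes G connected reductive and a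
universally submersive affine geometric quotient.) -/
theorem result
    (k : Type u) [Field k] [IsAlgClosed k] [CharZero k]
    (G X Y : Over (Spec (CommRingCat.of k))) [GrpObj G] (hG : Red.IsReductiveOver k G)
    [LocallyOfFiniteType X.hom] [QuasiCompact X.hom] [IsSeparated X.hom] [AlgebraicGeometry.IsReduced X.left]
    (a : AlgGrp.Action G X) (φ : X ⟶ Y) (hq : GIT.IsGeomQuot a φ) [IsAffineHom φ.left] :
    (IsPullback a.act (snd G X) φ φ ∧
        NonAbH1.IsLocallyTrivialFor Scheme.fpqcPrecoverage (Over.mk φ.left : Over Y.left)) ↔
      ∀ (Ω : Type u) [Field Ω] [IsAlgClosed Ω] (P : Over (Spec (CommRingCat.of k)))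
        (_ : P.left ≅ Spec (CommRingCat.of Ω)) (x : P ⟶ X), IsIso (GLinSh.stabTo a x) := by
  haveI := hG.1
  haveI := hG.2.1
  haveI : LocallyOfFiniteType G.hom := inferInstance
  haveI : QuasiCompact G.hom := inferInstance
  constructor
  · rintro ⟨hcart, -⟩ Ω _ _ P hP x
    have hsq := hcart.map (Over.forget _)
    let ψ := GIT.psi a (𝟙 X)
    have e₁ : ψ ≫ fst X X = a.act := by simp [ψ, GIT.psi]
    have e₂ : ψ ≫ snd X X = snd G X := by simp [ψ, GIT.psi]
    haveI : Mono ψ.left := ⟨fun u v huv => hsq.hom_ext
      (by
        show u ≫ a.act.left = v ≫ a.act.left
        rw [← e₁, Over.comp_left, reassoc_of% huv])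
      (by
        show u ≫ (snd G X).left = v ≫ (snd G X).left
        rw [← e₂, Over.comp_left, reassoc_of% huv])⟩
    haveI : Mono (GIT.psi a x).left := MorphismProperty.of_isPullback
      (P := MorphismProperty.monomorphisms Scheme) ((Groth.Agent.PropAct.isPullback_psi a x).map (Over.forget _))
      (MorphismProperty.monomorphisms.infer_property ψ.left)
    haveI : IsSplitEpi (GLinSh.stabTo a x) := IsSplitEpi.mk'
      ⟨Limits.pullback.lift (lift (1 : P ⟶ G) (𝟙 P)).left (𝟙 _) (by
        rw [Category.id_comp, ← Over.comp_left]
        congr 1
        apply CartesianMonoidalCategory.hom_ext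
        · simp only [GIT.psi, Category.assoc, lift_fst, lift_whiskerLeft_assoc, Category.id_comp]
          exact Groth.Agent.RedQuot.act_one a x
        · simp [GIT.psi]), Limits.pullback.lift_snd _ _ _⟩
    haveI : Mono (GLinSh.stabTo a x) := inferInstanceAs (Mono (Limits.pullback.snd (GIT.psi a x).left _))
    exact isIso_of_mono_of_isSplitEpi _
  · intro hstab
    haveI : IsAffineHom G.hom := inferInstance
    obtain ⟨A, _, _, ⟨i⟩⟩ := Groth.Agent.TorusField.exists_hopf k G
    let e : CoactBr.sp k A ≅ G := (Grp.forget _).mapIso i
    haveI : IsMonHom e.hom := i.hom.hom.isMonHom_hom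
    obtain ⟨hA', hdom⟩ := Groth.Agent.PropAct.linRed_of_isReductiveOver hG e
    haveI := hdom
    obtain ⟨hft, hA⟩ := hA'
    haveI := hft
    haveI := Groth.Agent.PropAct.isIso_stab a hstab
    obtain ⟨hflat, hsurj, hcart⟩ := Groth.Agent.PropAct.torsor_of_free hA e a φ hq
    refine ⟨hcart, ?_⟩
    haveI := hflat
    haveI := hsurj
    haveI : Groth.Agent.SchDesc.IsFpqc φ.left := ⟨inferInstance, inferInstance, inferInstance⟩
    exact Groth.Agent.DSMapLib.isLocallyTrivialFor_of_isFpqc φ.left

end Groth.Agent.S18984
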