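import Groth.Statements.S18994
import Mathlib

set_option autoImplicit false
universe u
open TernForm

namespace Groth.Agent.S18994

open MvPolynomial

variable {R : Type u} [CommRing R]

lemma key (j : Fin 3) (q : MvPolynomial (Fin 3) R) (hq : q.IsHomogeneous 2) (hqj : IsUnit (q.coeff (Finsupp.single j 2)))
    (b : MvPolynomial (Fin 3) R) (h : ∀ m : Fin 3 →₀ ℕ, 2 ≤ m j → (q * b).coeff m = 0) : b = 0 := by
  classical
  by_contra hb
  obtain ⟨e₀, he₀, hmax⟩ := b.support.exists_max_image (fun e => e j) (Finset.nonempty_iff_ne_empty.2 (by simpa using hb))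
  have h1 := h (Finsupp.single j 2 + e₀) (by simp)
  rw [coeff_mul, Finset.sum_eq_single_of_mem (Finsupp.single j 2, e₀) (by simp)] at h1
  · exact mem_support_iff.1 he₀ (hqj.mul_right_eq_zero.1 h1)
  · rintro ⟨d, e⟩ hde hne
    simp only [Finset.HasAntidiagonal.mem_antidiagonal] at hde
    by_contra hz
    have hd := left_ne_zero_of_mul hz
    have he : e ∈ b.support := mem_support_iff.2 (right_ne_zero_of_mul hz)
    have hdeg : d.degree = 2 := by rw [Finsupp.degree_eq_weight_one]; exact hq hd
    have hj : d j + e j = 2 + e₀ j := by simpa using DFunLike.congr_fun hde j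
    have hd2 : d = Finsupp.single j 2 := by
      have h3 : ∑ i, d i = 2 := by rw [← Finsupp.degree_eq_sum, hdeg]
      have h4 := hmax e he
      ext i
      have := Finset.sum_eq_add_sum_sdiff_singleton_of_mem (Finset.mem_univ j) (fun i => d i)
      rcases eq_or_ne i j with rfl | hi
      · simp; have h5 := Finset.single_le_sum (f := fun i => d i) (by simp) (Finset.mem_univ i); omega
      · simp [Finsupp.single_eq_of_ne hi]
        have h5 := Finset.sum_le_sum_of_subset (f := fun i => d i) (Finset.subset_univ {i, j})
        rw [Finset.sum_pair hi] at h5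
        omega
    subst hd2
    exact hne (by rw [show e = e₀ from add_left_cancel hde])

lemma mem_span (j : Fin 3) (q : MvPolynomial (Fin 3) R) (hq : q.IsHomogeneous 2) (hqj : IsUnit (q.coeff (Finsupp.single j 2))) (n : ℕ)
    (W : Submodule R (MvPolynomial (Fin 3) R))
    (h1 : ∀ m : Fin 3 →₀ ℕ, m.degree = n → m j < 2 → monomial m 1 ∈ W)
    (h2 : ∀ m : Fin 3 →₀ ℕ, m.degree + 2 = n → q * monomial m 1 ∈ W)
    (k : ℕ) : ∀ m : Fin 3 →₀ ℕ, m.degree = n → m j = k → monomial m (1 : R) ∈ W := by
  classical
  induction k using Nat.strong_induction_on with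
  | _ k ih =>
    intro m hm hk
    by_cases hlt : m j < 2
    · exact h1 m hm hlt
    obtain ⟨m', rfl⟩ : ∃ m', m = Finsupp.single j 2 + m' := ⟨m - Finsupp.single j 2, by
      rw [add_tsub_cancel_of_le]; exact Finsupp.single_le_iff.2 (by omega)⟩
    have hm' : m'.degree + 2 = n := by simp at hm; omega
    obtain ⟨v, hv⟩ := hqj.exists_left_inv
    have hq' : q = monomial (Finsupp.single j 2) (q.coeff (Finsupp.single j 2)) +
        ∑ d ∈ q.support.erase (Finsupp.single j 2), monomial d (q.coeff d) := by
      conv_lhs => rw [q.as_sum]
      by_cases hm2 : Finsupp.single j 2 ∈ q.support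
      · rw [← Finset.add_sum_erase _ _ hm2]
      · rw [notMem_support_iff.1 hm2, map_zero, zero_add, Finset.erase_eq_of_notMem hm2]
    have hrest : (∑ d ∈ q.support.erase (Finsupp.single j 2), monomial d (q.coeff d)) * monomial m' 1 ∈ W := by
      rw [Finset.sum_mul]
      refine W.sum_mem fun d hd => ?_
      rw [Finset.mem_erase, mem_support_iff] at hd
      have hdeg : d.degree = 2 := by rw [Finsupp.degree_eq_weight_one]; exact hq hd.2
      have hdj : d j < 2 := by
        by_contra hge
        apply hd.1
        have h3 : ∑ i, d i = 2 := by rw [← Finsupp.degree_eq_sum, hdeg]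
        ext i
        rcases eq_or_ne i j with rfl | hi
        · simp; have h5 := Finset.single_le_sum (f := fun i => d i) (by simp) (Finset.mem_univ i); omega
        · simp [Finsupp.single_eq_of_ne hi]
          have h5 := Finset.sum_le_sum_of_subset (f := fun i => d i) (Finset.subset_univ {i, j})
          rw [Finset.sum_pair hi] at h5
          omega
      rw [monomial_mul, mul_one, show monomial (d + m') (q.coeff d) = q.coeff d • monomial (d + m') (1:R) from by rw [smul_monomial, smul_eq_mul, mul_one]]
      refine W.smul_mem _ (ih _ ?_ (d + m') (by simp; omega) rfl)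
      simp at hk ⊢; omega
    have h3 := W.sub_mem (h2 m' hm') hrest
    rw [← sub_mul, show q - (∑ d ∈ q.support.erase (Finsupp.single j 2), monomial d (q.coeff d)) =
      monomial (Finsupp.single j 2) (q.coeff (Finsupp.single j 2)) from sub_eq_of_eq_add hq', monomial_mul, mul_one] at h3
    have h4 := W.smul_mem v h3
    rwa [smul_monomial, smul_eq_mul, hv] at h4

/-- Let R be a commutative ring, j ∈ {0, 1, 2}, q a homogeneous polynomial of degree 2 in R[X_0, X_1,
X_2] whose coefficient of X_j^2 is a unit, and n a natural number. Then the family consisting of the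
monomials of degree n not divisible by X_j^2 (exponent of X_j at most 1) together with the products
q · m, m running over the monomials of degree n − 2 (indexed by exponents m with |m| + 2 = n), is
linearly independent over R and spans exactly the homogeneous polynomials of degree n; in particular
it is a basis of that module and the two parts are disjoint. (The published lemma is stated over a
field with the coefficient nonzero, the special case of a field R here; the version over a ring with
the coefficient invertible is what its change-of-basis argument gives — ordering monomials by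
decreasing exponent of X_j makes the matrix triangular with diagonal entries 1 and that coefficient
— and is the form used to trivialise the bundle of degree-n forms modulo multiples of q over the
locus where the coefficient is invertible. The published lemma also allows an arbitrary monomial of
degree 2 in place of X_j^2; for the mixed monomial X_1X_2, the form q = X_1^2 + X_1X_2 + X_2^2 and n
= 3 give the linear relation q·X_1 − q·X_2 = X_1^3 − X_2^3 among members of the family, so the claim
fails there and is stated here for the square of a variable.) -/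
theorem result
    (R : Type u) [CommRing R] (j : Fin 3) (q : MvPolynomial (Fin 3) R)
    (hq : q.IsHomogeneous 2) (hqj : IsUnit (q.coeff (Finsupp.single j 2))) (n : ℕ) :
    LinearIndependent R (Sum.elim (fun m : {m : Fin 3 →₀ ℕ // m.degree = n ∧ m j < 2} => MvPolynomial.monomial m.1 (1 : R)) (fun m : {m : Fin 3 →₀ ℕ // m.degree + 2 = n} => q * MvPolynomial.monomial m.1 (1 : R))) ∧
      Submodule.span R (Set.range (Sum.elim (fun m : {m : Fin 3 →₀ ℕ // m.degree = n ∧ m j < 2} => MvPolynomial.monomial m.1 (1 : R)) (fun m : {m : Fin 3 →₀ ℕ // m.degree + 2 = n} => q * MvPolynomial.monomial m.1 (1 : R)))) = MvPolynomial.homogeneousSubmodule (Fin 3) R n := by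
  classical
  open MvPolynomial in
  let f1 := fun m : {m : Fin 3 →₀ ℕ // m.degree = n ∧ m j < 2} => monomial m.1 (1 : R)
  open MvPolynomial in
  let f2 := fun m : {m : Fin 3 →₀ ℕ // m.degree + 2 = n} => q * monomial m.1 (1 : R)
  let mulq := LinearMap.mulLeft R q
  have hs1 : ∀ x ∈ Submodule.span R (Set.range f1), ∀ m : Fin 3 →₀ ℕ, 2 ≤ m j → x.coeff m = 0 := by
    intro x hx
    induction hx using Submodule.span_induction with
    | mem x hx =>
      obtain ⟨a, rfl⟩ := hx
      intro m hm
      simp only [f1, MvPolynomial.coeff_monomial]
      rw [if_neg]; intro e; have := a.2.2; rw [e] at this; omega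
    | zero => simp
    | add a b _ _ ha hb => intro m hm; simp [ha m hm, hb m hm]
    | smul r a _ ha => intro m hm; simp [ha m hm]
  have li1 : LinearIndependent R f1 := by
    simpa [f1, Function.comp_def] using ((MvPolynomial.basisMonomials (Fin 3) R).linearIndependent.comp _ Subtype.val_injective :
      LinearIndependent R fun m : {m : Fin 3 →₀ ℕ // m.degree = n ∧ m j < 2} => MvPolynomial.basisMonomials (Fin 3) R m.1)
  refine ⟨?_, ?_⟩
  · refine LinearIndependent.sum_type li1 ?_ ?_
    · have h := ((MvPolynomial.basisMonomials (Fin 3) R).linearIndependent.comp _ Subtype.val_injective :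
        LinearIndependent R fun m : {m : Fin 3 →₀ ℕ // m.degree + 2 = n} => MvPolynomial.basisMonomials (Fin 3) R m.1)
      have := h.map' mulq (LinearMap.ker_eq_bot'.2 fun b hb => key j q hq hqj b fun m _ => by
        rw [show q * b = 0 from hb]; simp)
      convert this using 1
      funext m; simp [mulq]
    · rw [Submodule.disjoint_def]
      intro x hx1 hx2
      have : x ∈ LinearMap.range mulq :=
        Submodule.span_le.2 (by rintro _ ⟨m, rfl⟩; exact ⟨_, rfl⟩) hx2
      obtain ⟨b, rfl⟩ := this
      rw [key j q hq hqj b (fun m hm => hs1 _ hx1 m hm)]; simp [mulq]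
  · apply le_antisymm
    · rw [Submodule.span_le]
      rintro _ ⟨(m | m), rfl⟩
      · exact MvPolynomial.isHomogeneous_monomial _ m.2.1
      · have hh := hq.mul (MvPolynomial.isHomogeneous_monomial (1 : R) (rfl : m.1.degree = m.1.degree))
        rw [show 2 + m.1.degree = n by have := m.2; omega] at hh
        exact hh
    · intro x hx
      rw [x.as_sum]
      refine Submodule.sum_mem _ fun d hd => ?_
      have hdeg : d.degree = n := by
        rw [Finsupp.degree_eq_weight_one]; exact (MvPolynomial.mem_homogeneousSubmodule n x).1 hx (MvPolynomial.mem_support_iff.1 hd)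
      rw [show MvPolynomial.monomial d (x.coeff d) = x.coeff d • MvPolynomial.monomial d (1 : R) from by rw [MvPolynomial.smul_monomial, smul_eq_mul, mul_one]]
      refine Submodule.smul_mem _ _ (mem_span j q hq hqj n _ (fun m a b => Submodule.subset_span (Set.mem_range_self (f := Sum.elim f1 f2) (Sum.inl ⟨m, a, b⟩)))
        (fun m a => Submodule.subset_span (Set.mem_range_self (f := Sum.elim f1 f2) (Sum.inr ⟨m, a⟩))) (d j) d hdeg rfl)

end Groth.Agent.S18994
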