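import Groth.Statements.S18995
import Groth.Agent.FlagLib.Step
import Groth.Agent.DCohLib.Betti
import Groth.Agent.PullbackMod.LimFree

-- import your own Groth.Agent.* helpers here

set_option autoImplicit false
universe u
open CategoryTheory AlgebraicGeometry
open ProjBd

set_option backward.isDefEq.respectTransparency false
set_option backward.isDefEq.respectTransparency.types false

set_option maxHeartbeats 1000000

namespace Groth.Agent.S18995

/-- Let X be a scheme and 0 → A → E → B → 0 a short exact sequence of finite locally free O_X-modules.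
Let (π : P → X, O(1), q) be the projective bundle of rank-one quotients of E and (π_B : P_B → X,
O_B(1), q_B) that of B, each given through its universal property, and let c : P_B → P be the
morphism over X together with an isomorphism c^*O(1) ≅ O_B(1) identifying c^*q with π_B^*E → π_B^*B
→ O_B(1); thus c is the closed sub-bundle P(B) ⊂ P(E). Then for every open subset W of P that does
not meet the image of c, the restriction to W of the composite π^*A → π^*E → O(1) is an epimorphism
of O_W-modules. Consequently W carries an invertible quotient of the pull-back of A and hence a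
morphism to P(A) over X, the projection away from the sub-bundle. (In the convention where a
projective bundle parametrises lines rather than rank-one quotients, this is the statement that for
an exact sequence 0 → F → E → G → 0 of locally free sheaves the tautological line sub-bundle of E
restricted to the complement of P(F) in P(E) maps isomorphically onto a line sub-bundle of the
pull-back of G, giving the canonical morphism from that complement to P(G); A, E, B here are the
duals of G, E, F there. The published statement takes X of finite type over a field; the row is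
stated for an arbitrary scheme X, which the argument allows.) -/
theorem result
    (X P PB : Scheme.{u}) (S : ShortComplex X.Modules) (hS : S.ShortExact)
    (hA : FlatMod.IsFinLocFree S.X₁) (hE : FlatMod.IsFinLocFree S.X₂) (hB : FlatMod.IsFinLocFree S.X₃)
    (π : P ⟶ X) (O1 : P.Modules) (q : (Scheme.Modules.pullback π).obj S.X₂ ⟶ O1)
    (hP : KRR.IsProjBundle π S.X₂ O1 q)
    (πB : PB ⟶ X) (O1B : PB.Modules) (qB : (Scheme.Modules.pullback πB).obj S.X₃ ⟶ O1B)
    (hPB : KRR.IsProjBundle πB S.X₃ O1B qB)
    (c : PB ⟶ P) (hc : c ≫ π = πB) (ec : (Scheme.Modules.pullback c).obj O1 ≅ O1B)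
    (hcq : (Scheme.Modules.pullbackCongr hc).inv.app S.X₂ ≫ (Scheme.Modules.pullbackComp c π).inv.app S.X₂ ≫
      (Scheme.Modules.pullback c).map q ≫ ec.hom = (Scheme.Modules.pullback πB).map S.g ≫ qB)
    (W : P.Opens) (hW : Disjoint (W : Set P) (Set.range c.base)) :
    Epi ((Scheme.Modules.pullback W.ι).map ((Scheme.Modules.pullback π).map S.f ≫ q)) := by
  haveI := hP.epi
  -- one generator of each stalk of `O1`
  have hinv : FlatMod.IsFinLocFree O1 := fun x => ⟨(hP.invertible x).choose, 1, (hP.invertible x).choose_spec⟩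
  have hfp := (PullbackMod.isQCoh_and_isFP_of_isFinLocFree O1 hinv).2
  have hgen : ∀ x : P, ∃ z : O1.presheaf.stalk x, ∀ w, ∃ c : P.presheaf.stalk x, w = c • z := by
    intro x
    obtain ⟨e⟩ := (PullbackMod.isFinLocFreeOfRank_iff_freeAt O1 hfp 1).1 hP.invertible x
    refine ⟨e.symm fun _ => 1, fun w => ⟨e w 0, e.injective (funext fun i => ?_)⟩⟩
    rw [Fin.fin_one_eq_zero i, map_smul, LinearEquiv.apply_symm_apply, Pi.smul_apply, smul_eq_mul, mul_one]
  suffices hsurj : ∀ p ∈ W, Function.Surjective
      (PullbackMod.stalkLin ((Scheme.Modules.pullback π).map S.f ≫ q) p) by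
    refine (PullbackMod.epi_iff_stalk _).2 fun y => (PullbackMod.surjective_stalk_pullback_iff W.ι _ y).2 ?_
    letI := (W.ι.stalkMap y).hom.toAlgebra
    exact LinearMap.lTensor_surjective _ (hsurj _ y.2)
  intro p hpW
  by_contra hns
  let φ := (Scheme.Modules.pullback π).map S.f ≫ q
  let g : Spec (P.residueField p) ⟶ P := P.fromSpecResidueField p
  have hz : (Scheme.Modules.pullback g).map φ = 0 := by
    refine (PullbackMod.eq_zero_iff_stalk _).2 fun t => (PullbackMod.stalk_pullback_eq_zero_iff g φ t).2 ?_
    have hgt : g t = p := Set.mem_singleton_iff.1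
      ((Scheme.range_fromSpecResidueField p).subst (motive := fun A => g t ∈ A) ⟨t, rfl⟩)
    have hns' : ¬ Function.Surjective (PullbackMod.stalkLin φ (g t)) := by rw [hgt]; exact hns
    letI := (g.stalkMap t).hom.toAlgebra
    obtain ⟨z, hzg⟩ := hgen (g t)
    refine TensorProduct.ext' fun b m => ?_
    obtain ⟨a, ha⟩ := hzg (PullbackMod.stalkLin φ (g t) m)
    have ham : ¬ IsUnit a := fun hu => hns' fun w => by
      obtain ⟨c, rfl⟩ := hzg w
      obtain ⟨u, rfl⟩ := hu
      refine ⟨(c * ↑u⁻¹) • m, ?_⟩
      rw [map_smul, ha, smul_smul, mul_assoc, Units.inv_mul, mul_one]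
    have h0 : (g.stalkMap t).hom a = 0 := by
      by_contra hne
      obtain ⟨d, hd⟩ := (DCohLib.isField_stalk_fieldPoint p t).mul_inv_cancel hne
      haveI : IsLocalHom (g.stalkMap t).hom := g.toLRSHom.prop t
      exact ham (isUnit_of_map_unit (g.stalkMap t).hom a (IsUnit.of_mul_eq_one d hd))
    rw [LinearMap.lTensor_tmul, ha, ← TensorProduct.smul_tmul, Algebra.smul_def, RingHom.algebraMap_toAlgebra,
      h0, zero_mul, TensorProduct.zero_tmul]
    rfl
  let α : (Scheme.Modules.pullback (g ≫ π)).obj S.X₂ ⟶ (Scheme.Modules.pullback g).obj O1 := FlagLib.qb q rfl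
  haveI : Epi α := FlagLib.epi_qb q rfl
  have hα0 : (Scheme.Modules.pullback (g ≫ π)).map S.f ≫ α = 0 := by
    show _ ≫ FlagLib.qb q rfl = 0
    rw [FlagLib.qb_rfl, ← Category.assoc, (Scheme.Modules.pullbackComp g π).inv.naturality S.f, Category.assoc,
      Functor.comp_map, ← Functor.map_comp, show (Scheme.Modules.pullback g).map φ = 0 from hz, Limits.comp_zero]
  have hcol := Limits.isColimitCoforkMapOfIsColimit' (Scheme.Modules.pullback (g ≫ π)) S.zero hS.gIsCokernel
  obtain ⟨s, hs⟩ : ∃ s, (Scheme.Modules.pullback (g ≫ π)).map S.g ≫ s = α :=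
    ⟨hcol.desc (Limits.CokernelCofork.ofπ α hα0), hcol.fac _ Limits.WalkingParallelPair.one⟩
  haveI : Epi s := by
    haveI : Epi ((Scheme.Modules.pullback (g ≫ π)).map S.g ≫ s) := by rw [hs]; infer_instance
    exact epi_of_epi ((Scheme.Modules.pullback (g ≫ π)).map S.g) s
  have hL := FlagLib.rank_pullback g O1 hP.invertible
  obtain ⟨h, ⟨hh, e, he⟩, -⟩ := hPB.univ _ (g ≫ π) _ hL s inferInstance
  obtain ⟨k, -, huniq⟩ := hP.univ _ (g ≫ π) _ hL α inferInstance
  have hgk : g = k := huniq g ⟨rfl, Iso.refl _, by simp [α, FlagLib.qb_rfl, Scheme.Modules.pullbackCongr]⟩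
  have hqc : FlagLib.qb q hc ≫ ec.hom = (Scheme.Modules.pullback πB).map S.g ≫ qB := by
    rw [← hcq]
    simp [FlagLib.qb, Grass.quotBC]
  have hhc : (h ≫ c) ≫ π = g ≫ π := by rw [Category.assoc, hc, hh]
  have hhk : h ≫ c = k := by
    refine huniq (h ≫ c) ⟨hhc, ((Scheme.Modules.pullbackComp h c).app O1).symm ≪≫
      (Scheme.Modules.pullback h).mapIso ec ≪≫ e, ?_⟩
    have h1 := FlagLib.qb_qb q hc rfl hh hhc ec.hom
    rw [hqc] at h1
    have h2 : FlagLib.qb ((Scheme.Modules.pullback πB).map S.g ≫ qB) hh ≫ e.hom = α := by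
      rw [← hs, ← he]
      simp only [FlagLib.qb, Grass.quotBC, Functor.map_comp, Category.assoc]
      erw [(Scheme.Modules.pullbackCongr hh).inv.naturality_assoc S.g]
      refine congrArg (fun t => (Scheme.Modules.pullbackCongr hh).inv.app S.X₂ ≫ t) ?_
      exact ((Scheme.Modules.pullbackComp h πB).inv.naturality_assoc S.g _).symm
    rw [h1] at h2
    refine Eq.trans ?_ h2
    simp [FlagLib.qb, Grass.quotBC, Scheme.Modules.pullbackCongr]
  have hp : g (default : Spec (P.residueField p)) = p :=
    Set.mem_singleton_iff.1 ((Scheme.range_fromSpecResidueField p).subst (motive := fun A => g default ∈ A) ⟨_, rfl⟩)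
  refine Set.disjoint_left.mp hW hpW ⟨h (default : Spec (P.residueField p)), ?_⟩
  show (h ≫ c) _ = p
  rw [hhk, ← hgk, hp]


end Groth.Agent.S18995
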