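import Groth.Statements.S18997
import Groth.Agent.AntiCanLib.Main

set_option autoImplicit false
universe u
open CategoryTheory AlgebraicGeometry Limits
open ProjBd

namespace Groth.Agent.S18997

/-- Let π : C → S be a smooth proper morphism of schemes, S locally Noetherian, all of whose geometric
fibres are integral of dimension 1 and of genus 0 (smooth conics), and let T be an O_C-module
inverse to the module of relative differentials of π, i.e. the relative anticanonical sheaf. Then
(i) π_*T is finite locally free of rank 3; (ii) the adjunction map π^*π_*T → T is an epimorphism;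
(iii) for every cartesian square C' = C ×_S S' with projections π' : C' → S' and g' : C' → C over g
: S' → S, the base-change map g^*π_*T → π'_*g'^*T (adjoint to π'^*g^*π_*T ≅ g'^*π^*π_*T → g'^*T) is
an isomorphism; (iv) if (p : P → S, O(1), q) is the projective bundle of rank-one quotients of π_*T,
given through its universal property, and h : C → P over S with h^*O(1) ≅ T identifies h^*q with the
adjunction map of (ii), then h is a closed immersion (the relative anticanonical embedding as a
conic). (The published statement is made for schemes of finite type over a field and is given with a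
pointer to cohomology and base change instead of a proof; the row takes S locally Noetherian, the
setting of that classical input.) -/
theorem result
    {C S : Scheme.{u}} (π : C ⟶ S) [Smooth π] [IsProper π] [IsLocallyNoetherian S]
    (hfib : ∀ (K : Type u) [Field K] [IsAlgClosed K] (x : Spec (CommRingCat.of K) ⟶ S),
      IsIntegral (pullback π x) ∧ topologicalKrullDim ↥(pullback π x) = 1 ∧
        @Curv2.genus K _ (pullback π x) ⟨pullback.snd π x⟩ = 0)
    (T : C.Modules) (hT : ClSub.IsInverseOf T (Omega.sheaf π)) :
    FlatMod.IsFinLocFreeOfRank 3 ((Scheme.Modules.pushforward π).obj T) ∧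
    Epi ((Scheme.Modules.pullbackPushforwardAdjunction π).counit.app T) ∧
    (∀ (S' C' : Scheme.{u}) (g : S' ⟶ S) (π' : C' ⟶ S') (g' : C' ⟶ C) (hsq : IsPullback g' π' π g),
      IsIso (((Scheme.Modules.pullbackPushforwardAdjunction π').homEquiv _ _)
        ((Scheme.Modules.pullbackComp π' g).hom.app _ ≫
          (Scheme.Modules.pullbackCongr hsq.w.symm).hom.app _ ≫
          (Scheme.Modules.pullbackComp g' π).inv.app _ ≫
          (Scheme.Modules.pullback g').map ((Scheme.Modules.pullbackPushforwardAdjunction π).counit.app T)))) ∧
    (∀ (P : Scheme.{u}) (p : P ⟶ S) (O1 : P.Modules)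
      (q : (Scheme.Modules.pullback p).obj ((Scheme.Modules.pushforward π).obj T) ⟶ O1),
      KRR.IsProjBundle p ((Scheme.Modules.pushforward π).obj T) O1 q →
      ∀ (h : C ⟶ P) (hg : h ≫ p = π) (e : (Scheme.Modules.pullback h).obj O1 ≅ T),
        (Scheme.Modules.pullbackCongr hg).inv.app _ ≫ (Scheme.Modules.pullbackComp h p).inv.app _ ≫
          (Scheme.Modules.pullback h).map q ≫ e.hom = (Scheme.Modules.pullbackPushforwardAdjunction π).counit.app T →
        IsClosedImmersion h) := by
  have H := Groth.Agent.AntiCanLib.conicData π hfib
  have hT' : PicF.IsInvertible T := by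
    obtain ⟨e⟩ := hT
    exact Groth.Agent.AmpleLib.isInvertible_of_tensor_iso e
  refine ⟨Groth.Agent.AntiCanLib.rank_push H hT' hT,
    Groth.Agent.S5725.result π T hT' (Groth.Agent.AntiCanLib.isRelVeryAmple H hT' hT), ?_, ?_⟩
  · intro S' C' g π' g' hsq
    haveI : IsProper π' := MorphismProperty.of_isPullback (P := @IsProper) hsq inferInstance
    haveI : Coh.IsQCoh T := Groth.Agent.InvExt.isQCoh_of_isInvertible hT'
    rw [Groth.Agent.AntiCanLib.homEquiv_counit_eq_bc0 π g π' g' hsq.w T]
    exact Groth.Agent.GenBCLib.isIso_bc0 hsq T fun z => Groth.Agent.AntiCanLib.exists_goodNear H hT' hT _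
  · intro P p O1 q hP h hg e he
    refine Groth.Agent.AntiCanLib.isClosedImmersion_of_univ H hT' hT hP h hg e ?_
    rw [← he]
    simp only [Groth.Agent.FlagLib.qb, Grass.quotBC, Category.assoc]

end Groth.Agent.S18997
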