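import Groth.Statements.S18998
import Groth.Agent.ChowFldLib.Main

set_option autoImplicit false
universe u
open CategoryTheory AlgebraicGeometry Limits
open Cyc

namespace Groth.Agent.S18998

/-- For a field extension K of k and a scheme X of finite type over k, pullback of cycles along X_K → X
induces an injection of Chow groups with rational coefficients CH_n(X) ⊗ ℚ → CH_n(X_K) ⊗ ℚ.
Concretely: δ is the dimension function on X induced from Spec k and δ_K the one on X_K induced from
Spec K; if α is an n-cycle on X and some nonzero integer multiple of its flat pullback (relative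
dimension 0) to X_K is rationally equivalent to zero as an n-cycle, then some nonzero integer
multiple of α is rationally equivalent to zero. (The published statement takes X a variety, i.e.
integral of finite type; integrality plays no role and is not assumed here.) -/
theorem result (k K : Type u) [Field k] [Field K] [Algebra k K]
    (X : Scheme.{u}) [X.Over (Spec (CommRingCat.of k))]
    [LocallyOfFiniteType (X ↘ Spec (CommRingCat.of k))] [QuasiCompact (X ↘ Spec (CommRingCat.of k))]
    (δ : X → ℤ) (hδ : Cyc.DeltaCompat (X ↘ Spec (CommRingCat.of k)) δ (fun _ => 0))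
    (δK : ↥(Curv2.bc k X K) → ℤ) (hδK : Cyc.DeltaCompat (Curv2.bcSnd k X K) δK (fun _ => 0))
    (n : ℤ) (α : AlgebraicCycle X ℤ) (hα : α ∈ Cyc.Zk X δ n)
    (γ : AlgebraicCycle (Curv2.bc k X K) ℤ) (hγ : ⇑γ = Cyc.pullFun (Curv2.bcFst k X K) δK δ 0 ⇑α)
    (m : ℤ) (hm : m ≠ 0) (h0 : Cyc.RatEquivZero δK n (m • γ)) :
    ∃ m' : ℤ, m' ≠ 0 ∧ Cyc.RatEquivZero δ n (m' • α) := by
  have sq : IsPullback (Curv2.bcFst k X K) (Curv2.bcSnd k X K) (X ↘ Spec (CommRingCat.of k))
      (Spec.map (CommRingCat.ofHom (algebraMap k K))) := IsPullback.of_hasPullback _ _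
  have hmα : m • α ∈ Cyc.Zk X δ n := (ChowOps.zk X δ n).zsmul_mem hα m
  have hγm : ⇑(m • γ) = Cyc.pullFun (Curv2.bcFst k X K) δK δ 0 ⇑(m • α) := by
    funext y
    show m * γ y = _
    rw [hγ]
    simp only [Cyc.pullFun]
    split_ifs
    · exact (mul_assoc _ _ _).symm
    · exact mul_zero _
  obtain ⟨m', hm', h⟩ := Groth.Agent.ChowFldLib.inj k K X _ _ _ _ sq δ δK hδ hδK n (m • α) hmα (m • γ) hγm h0
  exact ⟨m' * m, mul_ne_zero hm' hm, by rwa [mul_smul]⟩

end Groth.Agent.S18998
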