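import Groth.Statements.S1900
import Groth.Agent.CycLib.P1Closed

set_option autoImplicit false
universe u
open CategoryTheory AlgebraicGeometry
open CategoryTheory.Limits
open Cyc

namespace Groth.Agent.S1900

open CategoryTheory CategoryTheory.Limits AlgebraicGeometry

open Groth.Agent
set_option backward.isDefEq.respectTransparency false

/-- Let W → P^1_X be a closed immersion with W integral of δ-dimension k + 1 (for the dimension function
on P^1_X induced from δ on X), whose generic point lies neither over the zero section nor over the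
section at infinity. Let W_0, W_∞ → X be the pullbacks of W along the two sections X → P^1_X (closed
subschemes of X). Then [W_0]_k ∼_rat [W_∞]_k on X. A pair (X, δ) with Cyc.IsSetup plays the role of
a scheme locally of finite type over a fixed base with a dimension function (X locally Noetherian
with universally catenary local rings, δ a dimension function), and Cyc.DeltaCompat records that the
dimension function upstairs is the induced one. -/
theorem result (X : Scheme.{u}) (δ : X → ℤ) (hX : Cyc.IsSetup X δ) (δP : ↥(CohB1.ProjSpaceOver 1 X) → ℤ) (hP : Cyc.DeltaCompat (CohB1.ProjSpaceOver.toBase 1 X) δP δ) (k : ℤ) (W : Scheme.{u}) [IsIntegral W] (ι : W ⟶ CohB1.ProjSpaceOver 1 X) [IsClosedImmersion ι] (hW : δP (ι (genericPoint W)) = k + 1) (h0 : ι (genericPoint W) ∉ Set.range ⇑(P1.sect X 0)) (h1 : ι (genericPoint W) ∉ Set.range ⇑(P1.sect X 1)) (α β : AlgebraicCycle X ℤ) (hα : ⇑α = Cyc.subschemeFun δ k (pullback.snd ι (P1.sect X 0))) (hβ : ⇑β = Cyc.subschemeFun δ k (pullback.snd ι (P1.sect X 1))) : Cyc.RatEquiv δ k α β := by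
  haveI := hX.1
  haveI : IsProper (CohB1.ProjSpaceOver.toBase 1 X) := MorphismProperty.pullback_snd _ _ inferInstance
  have hδ := (CycLib.isSetup_of_lft (CohB1.ProjSpaceOver.toBase 1 X) hX hP).2.2
  have hlt : ∀ w : W, w ≠ genericPoint W → δP (ι w) < k + 1 := fun w hw => by
    rw [← hW]
    exact (hδ _ _ ((genericPoint_specializes w).map ι.continuous)
      fun e => hw (ι.isEmbedding.injective e).symm).1
  refine CycLib.P1Closed.ratEquiv_closed hX hP ι (fun w => ?_) (fun w hw => ?_) (fun w hw => ?_) α β hα hβ
  · by_cases h : w = genericPoint W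
    · rw [h, hW]
    · exact (hlt w h).le
  · have h : w ≠ genericPoint W := by
      rintro rfl
      exact hw.elim h0 h1
    have := hlt w h
    omega
  · have hbot : IsLocalRing.maximalIdeal (W.presheaf.stalk w) = ⊥ := by
      obtain ⟨hp, a, ha⟩ := hw
      by_cases h : a = 0
      · subst h
        exact absurd (ha.trans (Ideal.radical_eq_top.2 ((Submodule.colon_eq_top_iff_subset _).2 (by simp)))) hp.ne_top
      · refine ha.trans (le_bot_iff.1 fun r hr => ?_)
        obtain ⟨n, hn⟩ := hr
        rw [Submodule.mem_colon_singleton, Submodule.mem_bot, smul_eq_mul] at hn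
        exact eq_zero_of_pow_eq_zero ((mul_eq_zero.1 hn).resolve_right h)
    obtain ⟨Q, hQ⟩ := CycLib.exists_fromSpecStalk (genericPoint_specializes w)
    have hQc : Q = IsLocalRing.closedPoint (W.presheaf.stalk w) := PrimeSpectrum.ext (le_antisymm
      (IsLocalRing.le_maximalIdeal Q.2.ne_top) (by
        show IsLocalRing.maximalIdeal (W.presheaf.stalk w) ≤ Q.asIdeal
        rw [hbot]; exact bot_le))
    rw [hQc, Scheme.fromSpecStalk_closedPoint] at hQ
    refine Or.inl ?_
    rintro (hm | hm)
    · exact h0 (hQ ▸ hm)
    · exact h1 (hQ ▸ hm)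


end Groth.Agent.S1900
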