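import Groth.Statements.S19004
import Mathlib
set_option backward.isDefEq.respectTransparency false
set_option backward.isDefEq.respectTransparency.types false

set_option autoImplicit false
open GIT

namespace Groth.Agent.S19004

/-- For the group PGL(n) acting on the space of n × n matrices the T-quotient is (P^{n−1})^n with Chow
ring ℚ[t_1,…,t_n]/(t_1^n,…,t_n^n), the class c_top(g/t) is the product of all roots t_i − t_j (i ≠
j), and the computation in the proof shows that this product equals n!·t_1^{n−1}⋯t_n^{n−1} in that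
ring. Stated here as the equivalent coefficient identity in ℤ[t_1,…,t_n]: the coefficient of
t_1^{n−1}⋯t_n^{n−1} in the product over ordered pairs i ≠ j of (t_i − t_j) is n!. -/
theorem result (n : ℕ) :
    MvPolynomial.coeff (Finsupp.equivFunOnFinite.symm (fun _ : Fin n => n - 1))
      (∏ i : Fin n, ∏ j ∈ Finset.univ.erase i, (MvPolynomial.X i - MvPolynomial.X j : MvPolynomial (Fin n) ℤ)) = (n.factorial : ℤ) := by
  classical
  let X : Fin n → MvPolynomial (Fin n) ℤ := MvPolynomial.X
  have h1 : (∏ i : Fin n, ∏ j ∈ Finset.univ.erase i, (X i - X j)) =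
      (Matrix.vandermonde X).det * (Matrix.vandermonde (X ∘ Fin.rev)).det := by
    rw [Matrix.det_vandermonde, Matrix.det_vandermonde]
    have e1 : ∀ i : Fin n, ∏ j ∈ Finset.univ.erase i, (X i - X j) =
        (∏ j ∈ Finset.Iio i, (X i - X j)) * ∏ j ∈ Finset.Ioi i, (X i - X j) := fun i => by
      rw [← Finset.prod_union (by
        rw [Finset.disjoint_left]; intro a ha hb; simp at ha hb; exact lt_asymm ha hb)]
      congr 1
      ext a; simp [lt_or_lt_iff_ne]
    rw [Finset.prod_congr rfl (fun i _ => e1 i), Finset.prod_mul_distrib]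
    congr 1
    · exact Finset.prod_comm' (by simp)
    · conv_rhs => rw [Finset.prod_comm' (t' := Finset.univ) (s' := Finset.Iio) (by simp)]
      refine (Fintype.prod_equiv Fin.revPerm _ _ fun a => ?_)
      refine Finset.prod_nbij' Fin.rev Fin.rev ?_ ?_ ?_ ?_ ?_ <;> intro b hb
      · simp only [Finset.mem_Iio, Finset.mem_Ioi, Fin.lt_def, Fin.revPerm_apply, Fin.val_rev] at hb ⊢; omega
      · simp only [Finset.mem_Iio, Finset.mem_Ioi, Fin.lt_def, Fin.revPerm_apply, Fin.val_rev] at hb ⊢; omega
      · simp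
      · simp
      · simp [Fin.revPerm]
  have hm : ∀ σ : Equiv.Perm (Fin n), ∏ i, X (σ i) ^ (i : ℕ) =
      MvPolynomial.monomial (Finsupp.equivFunOnFinite.symm fun k => ((σ.symm k : Fin n) : ℕ)) (1 : ℤ) := fun σ => by
    rw [MvPolynomial.monomial_eq, map_one, one_mul, Finsupp.prod_fintype _ _ (fun _ => pow_zero _)]
    exact Fintype.prod_equiv σ _ _ fun i => by simp [X]
  rw [show (∏ i : Fin n, ∏ j ∈ Finset.univ.erase i, (MvPolynomial.X i - MvPolynomial.X j : MvPolynomial (Fin n) ℤ)) = _ from h1,
    Matrix.det_apply', Matrix.det_apply', Finset.sum_mul_sum, MvPolynomial.coeff_sum]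
  simp only [MvPolynomial.coeff_sum, Matrix.vandermonde_apply, Function.comp_apply]
  have h2 : ∀ σ : Equiv.Perm (Fin n), ∑ τ : Equiv.Perm (Fin n),
      MvPolynomial.coeff (Finsupp.equivFunOnFinite.symm fun _ : Fin n => n - 1)
        ((((Equiv.Perm.sign σ : ℤˣ) : ℤ) : MvPolynomial (Fin n) ℤ) * (∏ i, X (σ i) ^ (i : ℕ)) *
          ((((Equiv.Perm.sign τ : ℤˣ) : ℤ) : MvPolynomial (Fin n) ℤ) * ∏ i, X (Fin.rev (τ i)) ^ (i : ℕ))) = 1 := fun σ => by
    have e : ∀ τ : Equiv.Perm (Fin n), ∏ i, X (Fin.rev (τ i)) ^ (i : ℕ) =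
        MvPolynomial.monomial (Finsupp.equivFunOnFinite.symm fun k => (((τ.trans Fin.revPerm).symm k : Fin n) : ℕ)) (1 : ℤ) :=
      fun τ => by rw [← hm]; simp
    simp only [hm, e, ← map_intCast (MvPolynomial.C : ℤ →+* MvPolynomial (Fin n) ℤ), MvPolynomial.C_mul_monomial,
      MvPolynomial.monomial_mul, MvPolynomial.coeff_monomial, Int.cast_id, mul_one]
    rw [Finset.sum_eq_single ((Fin.revPerm.trans σ).trans Fin.revPerm)]
    · rw [if_pos]
      · simp only [Equiv.Perm.sign_trans]
        rcases Int.units_eq_one_or (Equiv.Perm.sign σ) with h | h <;>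
          rcases Int.units_eq_one_or (Equiv.Perm.sign (Fin.revPerm : Equiv.Perm (Fin n))) with h' | h' <;> simp [h, h']
      · ext k
        have hk : ((σ.symm k : Fin n) : ℕ) < n := Fin.isLt _
        simp
        omega
    · intro τ _ hτ
      rw [if_neg]
      refine fun h => hτ (Equiv.ext fun i => Fin.rev_injective ?_)
      have hk := DFunLike.congr_fun h (Fin.rev (τ i))
      simp [Fin.ext_iff] at hk ⊢
      have h3 : σ.symm (Fin.rev (τ i)) = Fin.rev i := by
        ext; simp; omega
      have h4 := (Equiv.symm_apply_eq σ).1 h3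
      simp [Fin.ext_iff] at h4
      omega
    · simp
  rw [Finset.sum_congr rfl (fun σ _ => h2 σ)]
  simp [Fintype.card_perm]

end Groth.Agent.S19004
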