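import Groth.Statements.S19005
import Mathlib

set_option autoImplicit false
open scoped TensorProduct
open K2Cent

namespace Groth.Agent.S19005

/-- For abelian groups X and M and ε in M with 2ε = 0 (in the source X is the character group of a split
torus and ε is the class of −1 among the units), the map x ↦ (x ⊗ x, −(x ⊗ ε)) into (X ⊗ X) × (X ⊗
M) is quadratic over ℤ, i.e. it underlies an integer quadratic map with exactly these values. -/
theorem result (X M : Type*) [AddCommGroup X]
    [AddCommGroup M] (ε : M) (hε : 2 • ε = 0) :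
    ∃ R : QuadraticMap ℤ X (TensorProduct ℤ X X × TensorProduct ℤ X M),
      ∀ x : X, R x = (x ⊗ₜ[ℤ] x, -(x ⊗ₜ[ℤ] ε)) := by
  have h2 : ∀ x : X, (2 : ℤ) • (x ⊗ₜ[ℤ] ε) = 0 := fun x => by
    rw [← TensorProduct.tmul_smul, show (2 : ℤ) • ε = 0 by rw [← hε, two_smul, two_nsmul], TensorProduct.tmul_zero]
  let B : LinearMap.BilinMap ℤ X (TensorProduct ℤ X X × TensorProduct ℤ X M) :=
    ((TensorProduct.mk ℤ X X + (TensorProduct.mk ℤ X X).flip).compr₂
      (LinearMap.inl ℤ (TensorProduct ℤ X X) (TensorProduct ℤ X M)))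
  refine ⟨{ toFun := fun x => (x ⊗ₜ[ℤ] x, -(x ⊗ₜ[ℤ] ε))
            toFun_smul := fun a x => ?_
            exists_companion' := ⟨B, fun x y => ?_⟩ }, fun x => rfl⟩
  · refine Prod.ext ?_ ?_
    · show (a • x) ⊗ₜ[ℤ] (a • x) = (a * a) • (x ⊗ₜ[ℤ] x)
      rw [TensorProduct.smul_tmul_smul]
    · show -((a • x) ⊗ₜ[ℤ] ε) = (a * a) • -(x ⊗ₜ[ℤ] ε)
      obtain ⟨c, hc⟩ : (2 : ℤ) ∣ a * a - a := by
        rw [show a * a - a = (a - 1) * a by ring]
        have := Int.even_mul_succ_self (a - 1)
        rw [sub_add_cancel] at this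
        exact this.two_dvd
      rw [← TensorProduct.smul_tmul', show a * a = a + c * 2 by linarith, add_smul, mul_smul, smul_neg, smul_neg, h2]
      simp
  · refine Prod.ext ?_ ?_
    · show _ = _ + _ + (B x y).1
      rw [show (B x y).1 = x ⊗ₜ[ℤ] y + y ⊗ₜ[ℤ] x from rfl]
      simp [TensorProduct.add_tmul, TensorProduct.tmul_add]
      abel
    · simp [B, TensorProduct.add_tmul]
      abel

end Groth.Agent.S19005
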