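import Groth.Statements.S19006
import Groth.Agent.RootDLib.Irred
-- import your own Groth.Agent.* helpers here

set_option autoImplicit false
universe u v w x
open RootD

namespace Groth.Agent.S19006

/-- For a root pairing over an integral domain of characteristic zero, a quadratic form Q on the
coweight module N with polar form B, and a root α with coroot α^∨, the form Q is invariant under the
reflection attached to α acting on N if and only if B(y, α^∨) = ⟨α, y⟩ Q(α^∨) for all y in N. (The
source states this for integer-valued forms on the cocharacter lattice of a split reductive group;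
here the form takes values in the base ring of the pairing.) -/
theorem result {ι : Type u} {R : Type v} {M : Type w} {N : Type x} [CommRing R] [IsDomain R] [CharZero R]
    [AddCommGroup M] [Module R M] [AddCommGroup N] [Module R N] (P : RootPairing ι R M N)
    (Q : QuadraticMap R N R) (j : ι) :
    (∀ y : N, Q (P.coreflection j y) = Q y) ↔
      ∀ y : N, QuadraticMap.polar Q y (P.coroot j) = P.root' j y * Q (P.coroot j) := by
  have key : ∀ (y c : N) (p : R), Q (y - p • c) = Q y - p * QuadraticMap.polar Q y c + p * p * Q c := fun y c p => by
    rw [sub_eq_add_neg, ← neg_smul, QuadraticMap.map_add Q, Q.map_smul, QuadraticMap.polar_smul_right, smul_eq_mul, smul_eq_mul]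
    ring
  simp only [RootPairing.coreflection_apply, key]
  refine ⟨fun h => ?_, fun h y => by rw [h y]; ring⟩
  have e : ∀ y, P.root' j y ≠ 0 → QuadraticMap.polar Q y (P.coroot j) = P.root' j y * Q (P.coroot j) := fun y hp =>
    mul_left_cancel₀ hp (by linear_combination -(h y))
  intro y
  by_cases hp : P.root' j y = 0
  · have h2 : P.root' j (y + P.coroot j) = 2 := by rw [map_add, hp, zero_add]; exact P.root_coroot_two j
    have := e (y + P.coroot j) (by rw [h2]; exact two_ne_zero)
    rw [h2, QuadraticMap.polar_add_left, QuadraticMap.polar_self, nsmul_eq_mul, Nat.cast_ofNat] at this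
    rw [hp, zero_mul]
    linear_combination this
  · exact e y hp

end Groth.Agent.S19006
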