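import Groth.Statements.S19007
import Groth.Agent.RootDLib.Dom
import Groth.Agent.S19006
-- import your own Groth.Agent.* helpers here

set_option autoImplicit false
universe u v w x
open RootD

namespace Groth.Agent.S19007

/-- Let P be a finite reduced crystallographic root pairing over an integral domain of characteristic
zero, b a base of P (a system of simple roots) and Q a quadratic form on the coweight module with
polar form B. Then Q is invariant under all root reflections (equivalently under the Weyl group) on
the span of the coroots if and only if for all pairs of distinct simple roots α_i ≠ α_j one has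
B(α_i^∨, α_j^∨) = ⟨α_j, α_i^∨⟩ Q(α_j^∨). (In the source the form is integer-valued on the lattice
spanned by the coroots and the condition says that the bilinear form lies in the kernel of the last
map of a three-term complex built from the Bruhat cells of codimension at most two; here the form
takes values in the base ring.) -/
theorem result {ι : Type u} {R : Type v} {M : Type w} {N : Type x} [CommRing R] [IsDomain R] [CharZero R]
    [AddCommGroup M] [Module R M] [AddCommGroup N] [Module R N] (P : RootPairing ι R M N)
    [Finite ι] [P.IsCrystallographic] [P.IsReduced] (b : P.Base) (Q : QuadraticMap R N R) :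
    (∀ i : ι, ∀ y ∈ Submodule.span R (Set.range P.coroot), Q (P.coreflection i y) = Q y) ↔
      ∀ i ∈ b.support, ∀ j ∈ b.support, i ≠ j →
        QuadraticMap.polar Q (P.coroot i) (P.coroot j) = P.pairing j i * Q (P.coroot j) := by
  classical
  have key : ∀ (y c : N) (p : R), Q (y - p • c) = Q y - p * QuadraticMap.polar Q y c + p * p * Q c := fun y c p => by
    rw [sub_eq_add_neg, ← neg_smul, QuadraticMap.map_add Q, Q.map_smul, QuadraticMap.polar_smul_right, smul_eq_mul, smul_eq_mul]
    ring
  have mem : ∀ i, P.coroot i ∈ Submodule.span R (Set.range P.coroot) := fun i => Submodule.subset_span ⟨i, rfl⟩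
  constructor
  · intro h i _ j _ _
    have e : ∀ y ∈ Submodule.span R (Set.range P.coroot), P.root' j y ≠ 0 →
        QuadraticMap.polar Q y (P.coroot j) = P.root' j y * Q (P.coroot j) := fun y hy hp => mul_left_cancel₀ hp (by
      have := h j y hy
      rw [RootPairing.coreflection_apply, key] at this
      linear_combination -this)
    by_cases hp : P.root' j (P.coroot i) = 0
    · have h2 : P.root' j (P.coroot i + P.coroot j) = 2 := by rw [map_add, hp, zero_add]; exact P.root_coroot_two j
      have := e _ (add_mem (mem i) (mem j)) (by rw [h2]; exact two_ne_zero)
      rw [h2, QuadraticMap.polar_add_left, QuadraticMap.polar_self, nsmul_eq_mul, Nat.cast_ofNat] at this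
      show _ = P.root' j (P.coroot i) * _
      rw [hp, zero_mul]
      linear_combination this
    · exact e _ (mem i) hp
  · intro h k
    have simple : ∀ j ∈ b.support, ∀ y ∈ Submodule.span R (Set.range P.coroot), Q (P.coreflection j y) = Q y := by
      intro j hj y hy
      have hker : Submodule.span R (P.coroot '' (b.support : Set ι)) ≤
          LinearMap.ker (Q.polarBilin.flip (P.coroot j) - Q (P.coroot j) • P.root' j) := Submodule.span_le.2 (by
        rintro _ ⟨i, hi, rfl⟩
        show QuadraticMap.polar Q (P.coroot i) (P.coroot j) - Q (P.coroot j) * P.pairing j i = 0
        by_cases hij : i = j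
        · subst hij
          rw [QuadraticMap.polar_self, P.pairing_same, nsmul_eq_mul, Nat.cast_ofNat]; ring
        · rw [h i hi j hj hij]; ring)
      have hp : QuadraticMap.polar Q y (P.coroot j) - Q (P.coroot j) * P.root' j y = 0 :=
        hker (by rw [b.span_coroot_support]; exact hy)
      rw [RootPairing.coreflection_apply, key]
      linear_combination (-(P.root' j y)) * hp
    induction k using b.induction_reflect with
    | h₀ i ih =>
      intro y hy
      have e : P.coreflection (P.reflectionPerm i i) y = P.coreflection i y := by
        rw [RootPairing.coreflection_apply, RootPairing.coreflection_apply]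
        simp [RootPairing.root']
      rw [e]; exact ih y hy
    | h₁ i hi => exact simple i hi
    | h₂ i j ih hj =>
      intro y hy
      have e : P.coreflection (P.reflectionPerm j i) y = P.coreflection j (P.coreflection i (P.coreflection j y)) := by
        rw [P.coreflection_eq_flip_reflection, P.coreflection_eq_flip_reflection, P.coreflection_eq_flip_reflection,
          show P.reflectionPerm j i = P.flip.reflectionPerm j i from rfl, P.flip.reflection_reflectionPerm]
        rfl
      have hst : ∀ l, ∀ z ∈ Submodule.span R (Set.range P.coroot), P.coreflection l z ∈ Submodule.span R (Set.range P.coroot) :=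
        fun l z hz => by
          rw [RootPairing.coreflection_apply]
          exact sub_mem hz (Submodule.smul_mem _ _ (mem l))
      rw [e, simple j hj _ (hst i _ (hst j y hy)), ih _ (hst j y hy), simple j hj y hy]

end Groth.Agent.S19007
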