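import Groth.Statements.S19008
import Groth.Agent.RootDLib.Irred

set_option autoImplicit false
universe u v w x
open RootD

namespace Groth.Agent.S19008

section
variable {ι : Type*} {R M N : Type*} [CommRing R] [IsDomain R] [CharZero R] [AddCommGroup M] [Module R M]
  [AddCommGroup N] [Module R N] (P : RootPairing ι R M N) [Finite ι] [P.IsCrystallographic] (b : P.Base)

open Groth.Agent.RootDLib in
/-- Some row of any principal submatrix of the Cartan matrix has positive sum. -/
theorem exists_row_pos (s : Finset ι) (hs : ∀ i ∈ s, i ∈ b.support) (hne : s.Nonempty) :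
    ∃ i ∈ s, 0 < ∑ j ∈ s, P.pairingIn ℤ i j := by
  classical
  haveI := Fintype.ofFinite ι
  by_contra hcon
  push Not at hcon
  let L : ℤ := ∏ k, q P k k
  have hLpos : 0 < L := Finset.prod_pos fun k _ => q_self_pos P k
  let c : ι → ℤ := fun i => if i ∈ s then ∏ k ∈ Finset.univ.erase i, q P k k else 0
  have hc0 : ∀ i, 0 ≤ c i := fun i => by
    simp only [c]
    split
    · exact (Finset.prod_pos fun k _ => q_self_pos P k).le
    · exact le_rfl
  have hcq : ∀ i ∈ s, c i * q P i i = L := fun i hi => by
    simp only [c, if_pos hi, L]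
    exact Finset.prod_erase_mul _ _ (Finset.mem_univ i)
  let d : ι →₀ ℤ := Finsupp.equivFunOnFinite.symm c
  have key : ∑ i, ∑ j, d i * d j * q P i j ≤ 0 := by
    refine Finset.sum_nonpos fun i _ => ?_
    show ∑ j, c i * c j * q P i j ≤ 0
    by_cases hi : i ∈ s
    · have h2 : 2 * ∑ j, c j * q P i j = L * ∑ j ∈ s, P.pairingIn ℤ i j := by
        rw [← Finset.sum_subset (Finset.subset_univ s) (fun j _ hj => by simp [c, hj]),
          Finset.mul_sum, Finset.mul_sum]
        refine Finset.sum_congr rfl fun j hj => ?_
        rw [← hcq j hj]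
        linear_combination (c j) * two_mul_q P i j
      have h3 : ∑ j, c j * q P i j ≤ 0 := by
        nlinarith [mul_nonpos_of_nonneg_of_nonpos hLpos.le (hcon i hi)]
      have : ∑ j, c i * c j * q P i j = c i * ∑ j, c j * q P i j := by
        rw [Finset.mul_sum]; exact Finset.sum_congr rfl fun j _ => by ring
      rw [this]
      exact mul_nonpos_of_nonneg_of_nonpos (hc0 i) h3
    · simp [c, hi]
  have h0 := comb_eq_zero_of_nonpos P d d rfl key
  obtain ⟨i, hi⟩ := hne
  have hsum : ∑ j ∈ s, (c j : R) • P.root j = 0 := by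
    rw [← h0, comb, Finsupp.linearCombination_apply,
      Finsupp.sum_fintype _ _ (fun j => zero_smul ℤ (P.root j)),
      ← Finset.sum_subset (Finset.subset_univ s) (fun j _ hj => by
        show c j • P.root j = 0
        simp [c, hj])]
    exact Finset.sum_congr rfl fun j _ => Int.cast_smul_eq_zsmul R (c j) (P.root j)
  have := linearIndepOn_iff'.1 b.linearIndepOn_root s _ (fun j hj => hs j hj) hsum i hi
  rw [Int.cast_eq_zero] at this
  have h4 := hcq i hi
  rw [this, zero_mul] at h4
  exact hLpos.ne h4

/-- The edge equations on a part of the Dynkin diagram are solvable. -/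
theorem exists_edge_sol (d : ι → ι → ℤ)
    (hd : ∀ i ∈ b.support, ∀ j ∈ b.support, i ≠ j → P.pairingIn ℤ i j = 0 → d i j = d j i)
    (s : Finset ι) (hs : ∀ i ∈ s, i ∈ b.support) :
    ∃ x : ι → ℤ, ∀ i ∈ s, ∀ j ∈ s, i ≠ j →
      P.pairingIn ℤ i j * x i - P.pairingIn ℤ j i * x j = d i j - d j i := by
  classical
  induction h : s.card using Nat.strong_induction_on generalizing s with
  | _ n ih =>
    subst h
    rcases s.eq_empty_or_nonempty with rfl | hne
    · exact ⟨0, by simp⟩
    obtain ⟨i, hi, hrow⟩ := exists_row_pos P b s hs hne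
    obtain ⟨x, hx⟩ := ih (s.erase i).card (Finset.card_erase_lt_of_mem hi) (s.erase i)
      (fun j hj => hs j (Finset.mem_of_mem_erase hj)) rfl
    rw [← Finset.add_sum_erase s _ hi, RootPairing.pairingIn_same] at hrow
    have hnp : ∀ j ∈ s.erase i, P.pairingIn ℤ i j ≤ 0 := fun j hj =>
      b.pairingIn_le_zero_of_ne (Finset.ne_of_mem_erase hj).symm (hs i hi)
        (hs j (Finset.mem_of_mem_erase hj))
    have hzero : ∀ j ∈ s.erase i, P.pairingIn ℤ i j = 0 →
        ∀ t : ℤ, P.pairingIn ℤ i j * t - P.pairingIn ℤ j i * x j = d i j - d j i := fun j hj h0 t => by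
      have : P.pairingIn ℤ j i = 0 := by
        by_contra h'
        exact Groth.Agent.RootDLib.pairingIn_ne_zero_symm P h' h0
      rw [h0, this, hd i (hs i hi) j (hs j (Finset.mem_of_mem_erase hj))
        (Finset.ne_of_mem_erase hj).symm h0]
      ring
    have hext : ∃ t : ℤ, ∀ j ∈ s.erase i,
        P.pairingIn ℤ i j * t - P.pairingIn ℤ j i * x j = d i j - d j i := by
      by_cases hu : ∃ u ∈ s.erase i, P.pairingIn ℤ i u ≠ 0
      · obtain ⟨u, hu, hu0⟩ := hu
        have hrest := Finset.sum_erase_add (s := s.erase i) (f := fun j => P.pairingIn ℤ i j) hu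
        have hle : ∀ j ∈ (s.erase i).erase u, P.pairingIn ℤ i j ≤ 0 := fun j hj =>
          hnp j (Finset.mem_of_mem_erase hj)
        have hsum := Finset.sum_nonpos hle
        have := hnp u hu
        have hu1 : P.pairingIn ℤ i u = -1 := by omega
        have hall : ∑ j ∈ (s.erase i).erase u, P.pairingIn ℤ i j = 0 := by omega
        refine ⟨-(d i u - d u i + P.pairingIn ℤ u i * x u), fun j hj => ?_⟩
        rcases eq_or_ne j u with rfl | hju
        · rw [hu1]; ring
        · exact hzero j hj ((Finset.sum_eq_zero_iff_of_nonpos hle).1 hall j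
            (Finset.mem_erase.2 ⟨hju, hj⟩)) _
      · push Not at hu
        exact ⟨0, fun j hj => hzero j hj (hu j hj) 0⟩
    obtain ⟨t, ht⟩ := hext
    refine ⟨Function.update x i t, fun k hk l hl hkl => ?_⟩
    rcases eq_or_ne k i with rfl | hki
    · rw [Function.update_self, Function.update_of_ne hkl.symm]
      exact ht l (Finset.mem_erase.2 ⟨hkl.symm, hl⟩)
    rcases eq_or_ne l i with rfl | hli
    · rw [Function.update_self, Function.update_of_ne hki]
      linear_combination -(ht k (Finset.mem_erase.2 ⟨hki, hk⟩))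
    rw [Function.update_of_ne hki, Function.update_of_ne hli]
    exact hx k (Finset.mem_erase.2 ⟨hki, hk⟩) l (Finset.mem_erase.2 ⟨hli, hl⟩) hkl

end

/-- Let P be a finite reduced crystallographic root pairing over an integral domain of characteristic
zero and b a base (simple roots α_i, i in the support of b), with Cartan integers a_ij = ⟨α_i,
α_j^∨⟩. An integer-valued bilinear form C on the lattice with basis the simple coroots is an integer
matrix C_ij = C(α_i^∨, α_j^∨), and the component of the last map of the complex at the pair (i, j),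
i ≠ j, is C ↦ C(α_i^∨, α_j^∨) + C(α_j^∨, s_j(α_i^∨)) = C_ij + C_ji − a_ji C_jj; the pairs (i, j) and
(j, i) index the same component exactly when α_i and α_j are orthogonal. This map is surjective: for
every family of integers d_ij (i ≠ j in the support) with d_ij = d_ji whenever a_ij = 0 there is an
integer matrix C with C_ij + C_ji − a_ji C_jj = d_ij for all i ≠ j in the support. -/
theorem result {ι : Type u} {R : Type v} {M : Type w} {N : Type x} [CommRing R] [IsDomain R] [CharZero R]
    [AddCommGroup M] [Module R M] [AddCommGroup N] [Module R N] (P : RootPairing ι R M N)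
    [Finite ι] [P.IsCrystallographic] [P.IsReduced] (b : P.Base) (d : ι → ι → ℤ)
    (hd : ∀ i ∈ b.support, ∀ j ∈ b.support, i ≠ j → P.pairingIn ℤ i j = 0 → d i j = d j i) :
    ∃ C : ι → ι → ℤ, ∀ i ∈ b.support, ∀ j ∈ b.support, i ≠ j →
      C i j + C j i - P.pairingIn ℤ j i * C j j = d i j := by
  classical
  obtain ⟨x, hx⟩ := exists_edge_sol P b d hd (b.support : Finset ι) (fun i hi => hi)
  obtain ⟨n, ⟨e⟩⟩ := Finite.exists_equiv_fin ι
  refine ⟨fun i j => if i = j then x j else
    if e i < e j then d i j + P.pairingIn ℤ j i * x j else 0, fun i hi j hj hij => ?_⟩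
  simp only [if_neg hij, if_neg hij.symm, if_true]
  rcases lt_trichotomy (e i) (e j) with h | h | h
  · rw [if_pos h, if_neg (not_lt.2 h.le)]; ring
  · exact absurd (e.injective h) hij
  · rw [if_neg (not_lt.2 h.le), if_pos h]
    linear_combination -(hx j hj i hi hij.symm)

end Groth.Agent.S19008
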