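import Groth.Statements.S19009
import Groth.Agent.RootDLib.Irred
import Groth.Agent.S19006
-- import your own Groth.Agent.* helpers here

set_option autoImplicit false
universe u v w x
open RootD

namespace Groth.Agent.S19009

/-- Let P be a root pairing over an integral domain R of characteristic zero (roots α acting on the
coweight module N through reflections y ↦ y − ⟨α, y⟩ α^∨), D ⊆ N a submodule containing every coroot
and such that every element of D has a positive integer multiple in the span of the coroots (the
derived part), and Y₀ a complement of D in N. Let Q_d be a quadratic form on N whose restriction to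
D is invariant under all root reflections. Then there is a quadratic form on N, invariant under all
root reflections and agreeing with Q_d on D, if and only if there is an R-bilinear form Φ on N with
Φ(y₀, α^∨) = ⟨α, y₀⟩ Q_d(α^∨) for all y₀ in Y₀ and all roots α. (In the source R = ℤ, N = Y₀ ⊕ Y_der
is the cocharacter lattice of a split reductive group, and the condition is phrased as integrality
on Y₀ × Y_der of the pairing y₀, y ↦ B(q(y₀), y) deduced from the polar form B of Q_d; that pairing
is characterised by the displayed values on coroots, only the values of Φ on Y₀ × D matter, and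
forms take values in R here.) -/
theorem result {ι : Type u} {R : Type v} {M : Type w} {N : Type x} [CommRing R] [IsDomain R] [CharZero R]
    [AddCommGroup M] [Module R M] [AddCommGroup N] [Module R N] (P : RootPairing ι R M N)
    (D Y₀ : Submodule R N) (hD : ∀ i : ι, P.coroot i ∈ D)
    (hDsat : ∀ y ∈ D, ∃ n : ℕ, 0 < n ∧ n • y ∈ Submodule.span R (Set.range P.coroot))
    (hc : IsCompl Y₀ D)
    (Qd : QuadraticMap R N R) (hQd : ∀ i : ι, ∀ y ∈ D, Qd (P.coreflection i y) = Qd y) :
    (∃ Q : QuadraticMap R N R, (∀ (i : ι) (y : N), Q (P.coreflection i y) = Q y) ∧ ∀ y ∈ D, Q y = Qd y) ↔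
      ∃ Φ : N →ₗ[R] N →ₗ[R] R, ∀ y₀ ∈ Y₀, ∀ i : ι,
        Φ y₀ (P.coroot i) = P.root' i y₀ * Qd (P.coroot i) := by
  classical
  have h2 : ∀ (i : ι) (d : N), d ∈ D → QuadraticMap.polar Qd d (P.coroot i) = P.root' i d * Qd (P.coroot i) := by
    have key : ∀ (y c : N) (p : R), Qd (y - p • c) = Qd y - p * QuadraticMap.polar Qd y c + p * p * Qd c :=
      fun y c p => by
        rw [sub_eq_add_neg, ← neg_smul, QuadraticMap.map_add Qd, Qd.map_smul, QuadraticMap.polar_smul_right, smul_eq_mul,
          smul_eq_mul]
        ring
    intro i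
    have e : ∀ y ∈ D, P.root' i y ≠ 0 → QuadraticMap.polar Qd y (P.coroot i) = P.root' i y * Qd (P.coroot i) :=
      fun y hy hp => mul_left_cancel₀ hp (by
        have := hQd i y hy
        rw [RootPairing.coreflection_apply, key] at this
        linear_combination -this)
    intro y hy
    by_cases hp : P.root' i y = 0
    · have h2 : P.root' i (y + P.coroot i) = 2 := by rw [map_add, hp, zero_add]; exact P.root_coroot_two i
      have := e (y + P.coroot i) (add_mem hy (hD i)) (by rw [h2]; exact two_ne_zero)
      rw [h2, QuadraticMap.polar_add_left, QuadraticMap.polar_self, nsmul_eq_mul, Nat.cast_ofNat] at this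
      rw [hp, zero_mul]
      linear_combination this
    · exact e y hy hp
  constructor
  · rintro ⟨Q, hQ, hQD⟩
    refine ⟨Q.polarBilin, fun y _ i => ?_⟩
    rw [QuadraticMap.polarBilin_apply_apply, (Groth.Agent.S19006.result P Q i).1 (hQ i) y, hQD _ (hD i)]
  · rintro ⟨Φ, hΦ⟩
    let a : N →ₗ[R] N := Y₀.subtype ∘ₗ Y₀.projectionOnto D hc
    let b : N →ₗ[R] N := D.subtype ∘ₗ D.projectionOnto Y₀ hc.symm
    have hab : ∀ y, a y + b y = y := fun y => by
      obtain ⟨u, hu, v, hv, rfl⟩ := Submodule.mem_sup.1 (hc.sup_eq_top ▸ Submodule.mem_top (x := y))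
      simp [a, b, Submodule.projectionOnto_apply_of_mem_left _ hu, Submodule.projectionOnto_apply_of_mem_left _ hv,
        (Submodule.projectionOnto_apply_eq_zero_iff hc).2 hv, (Submodule.projectionOnto_apply_eq_zero_iff hc.symm).2 hu]
    have hb : ∀ {y}, y ∈ D → b y = y := fun {y} hy => by
      simp [b, Submodule.projectionOnto_apply_of_mem_left _ hy]
    have ha : ∀ {y}, y ∈ D → a y = 0 := fun {y} hy => by
      simp [a, (Submodule.projectionOnto_apply_eq_zero_iff hc).2 hy]
    refine ⟨Qd.comp b + LinearMap.BilinMap.toQuadraticMap (Φ.compl₁₂ a b), fun i y => ?_, fun y hy => by simp [ha hy, hb hy]⟩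
    have hp : P.root' i y = P.root' i (a y) + P.root' i (b y) := by rw [← map_add, hab]
    have hbD : b y ∈ D := Submodule.coe_mem _
    simp only [RootPairing.coreflection_apply, QuadraticMap.add_apply, QuadraticMap.comp_apply,
      LinearMap.BilinMap.toQuadraticMap_apply, LinearMap.compl₁₂_apply, map_sub a, map_sub b, map_smul, ha (hD i),
      hb (hD i), smul_zero, sub_zero]
    rw [sub_eq_add_neg, ← neg_smul, QuadraticMap.map_add Qd, Qd.map_smul, QuadraticMap.polar_smul_right, h2 i _ hbD,
      map_add, map_smul, hΦ (a y) (Submodule.coe_mem _) i, smul_eq_mul, smul_eq_mul, smul_eq_mul, hp]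
    ring

end Groth.Agent.S19009
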