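import Groth.Statements.S19010
import Groth.Agent.RootDLib.Irred
import Groth.Agent.S19006
-- import your own Groth.Agent.* helpers here

set_option autoImplicit false
universe u v w x
open RootD

namespace Groth.Agent.S19010

/-- Let P be a root pairing over an integral domain R of characteristic zero (roots α acting on the
coweight module N through reflections y ↦ y − ⟨α, y⟩ α^∨), D ⊆ N a submodule containing every coroot
and such that every element of D has a positive integer multiple in the span of the coroots (the
derived part), and Y₀ a complement of D in N. Let Q' be a quadratic form on N invariant under all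
root reflections. Then restriction to Y₀ is a bijection from the set of quadratic forms on N that
are invariant under all root reflections and agree with Q' on D onto the set of all quadratic forms
on Y₀. (In the source R = ℤ and N = Y₀ ⊕ Y_der is the cocharacter lattice of a split reductive
group; forms take values in R here.) -/
theorem result {ι : Type u} {R : Type v} {M : Type w} {N : Type x} [CommRing R] [IsDomain R] [CharZero R]
    [AddCommGroup M] [Module R M] [AddCommGroup N] [Module R N] (P : RootPairing ι R M N)
    (D Y₀ : Submodule R N) (hD : ∀ i : ι, P.coroot i ∈ D)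
    (hDsat : ∀ y ∈ D, ∃ n : ℕ, 0 < n ∧ n • y ∈ Submodule.span R (Set.range P.coroot))
    (hc : IsCompl Y₀ D)
    (Q' : QuadraticMap R N R) (hQ' : ∀ (i : ι) (y : N), Q' (P.coreflection i y) = Q' y) :
    Set.BijOn (fun Q : QuadraticMap R N R => Q.comp Y₀.subtype)
      {Q | (∀ (i : ι) (y : N), Q (P.coreflection i y) = Q y) ∧ ∀ y ∈ D, Q y = Q' y} Set.univ := by
  classical
  let πY := Y₀.projectionOnto D hc
  let πD := D.projectionOnto Y₀ hc.symm
  refine ⟨fun Q _ => trivial, ?_, fun q _ => ?_⟩
  · intro Q1 h1 Q2 h2 e
    replace e : Q1.comp Y₀.subtype = Q2.comp Y₀.subtype := e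
    have hY : ∀ y ∈ Y₀, Q1 y = Q2 y := fun y hy => DFunLike.congr_fun e ⟨y, hy⟩
    ext y
    obtain ⟨a, ha, d, hd, rfl⟩ := Submodule.mem_sup.1 (hc.sup_eq_top ▸ Submodule.mem_top (x := y))
    rw [QuadraticMap.map_add Q1, QuadraticMap.map_add Q2, hY a ha, h1.2 d hd, h2.2 d hd]
    congr 1
    let ψ : N →ₗ[R] R := Q1.polarBilin a - Q2.polarBilin a
    have hψ : Submodule.span R (Set.range P.coroot) ≤ LinearMap.ker ψ := Submodule.span_le.2 (by
      rintro _ ⟨i, rfl⟩
      show QuadraticMap.polar Q1 a (P.coroot i) - QuadraticMap.polar Q2 a (P.coroot i) = 0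
      rw [(Groth.Agent.S19006.result P Q1 i).1 (h1.1 i) a, (Groth.Agent.S19006.result P Q2 i).1 (h2.1 i) a,
        h1.2 _ (hD i), h2.2 _ (hD i), sub_self])
    obtain ⟨n, hn, hnd⟩ := hDsat d hd
    have h0 : ψ (n • d) = 0 := hψ hnd
    rw [map_nsmul, nsmul_eq_mul] at h0
    exact sub_eq_zero.1 ((mul_eq_zero.1 h0).resolve_left (Nat.cast_ne_zero.2 hn.ne'))
  · refine ⟨Q' + (q - Q'.comp Y₀.subtype).comp πY, ⟨fun i y => ?_, fun y hy => ?_⟩, ?_⟩
    · have : πY (P.coreflection i y) = πY y := by
        rw [RootPairing.coreflection_apply, map_sub, map_smul,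
          (Submodule.projectionOnto_apply_eq_zero_iff hc).2 (hD i), smul_zero, sub_zero]
      simp [hQ' i y, this]
    · simp [show πY y = 0 from (Submodule.projectionOnto_apply_eq_zero_iff hc).2 hy]
    · ext a
      simp [πY, Submodule.projectionOnto_apply_left]

end Groth.Agent.S19010
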