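import Groth.Statements.S19011
import Groth.Agent.RootDLib.Dom
import Groth.Agent.RootDLib.Sub3
-- import your own Groth.Agent.* helpers here

set_option autoImplicit false
universe u v w x
open RootD

namespace Groth.Agent.S19011

/-- For a finite reduced crystallographic root pairing over an integral domain of characteristic zero,
the additive group generated by the coroots admits the presentation with one generator [β] for each
root β and the relations [s_α(β)] = [β] − ⟨α, β^∨⟩ [α] for all roots α, β, where ⟨α, β^∨⟩ is the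
Cartan integer. Concretely: the kernel of the ℤ-linear map from the free abelian group on the index
type of the roots to the coweight module sending the generator of index β to the coroot β^∨ is the
subgroup generated by the elements [s_α(β)] − [β] + ⟨α, β^∨⟩ [α]. (The source states this for the
cocharacter lattice of a split semi-simple simply connected group, which is the group generated by
the coroots.) -/
theorem result {ι : Type u} {R : Type v} {M : Type w} {N : Type x} [CommRing R] [IsDomain R] [CharZero R]
    [AddCommGroup M] [Module R M] [AddCommGroup N] [Module R N] (P : RootPairing ι R M N)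
    [Finite ι] [P.IsCrystallographic] [P.IsReduced] :
    LinearMap.ker (Finsupp.linearCombination ℤ (fun i : ι => (P.coroot i : N))) =
      Submodule.span ℤ (Set.range fun p : ι × ι =>
        Finsupp.single (P.reflectionPerm p.1 p.2) (1 : ℤ) - Finsupp.single p.2 1 +
          P.pairingIn ℤ p.1 p.2 • Finsupp.single p.1 1) := by
  classical
  have := Groth.Agent.RootDLib.isAddTorsionFree P
  obtain ⟨ψ, hψ⟩ := Groth.Agent.RootDLib.exists_functional P (∅ : Set ι) fun k ⟨n, hn, hk⟩ => by
    rw [Set.image_empty, Submodule.span_empty, Submodule.mem_bot] at hk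
    exact absurd ((smul_eq_zero.1 hk).resolve_left hn.ne') (P.ne_zero k)
  let f : ι → ℤ := fun k => ψ ⟨P.root k, Submodule.subset_span ⟨k, rfl⟩⟩
  have hf0 : ∀ k, f k ≠ 0 := fun k h => (hψ k).1 h
  have hng : ∀ k, f (Groth.Agent.RootDLib.ng P k) = -f k := fun k => by
    show ψ _ = -ψ _
    rw [← map_neg]
    congr 1
    exact Subtype.ext (Groth.Agent.RootDLib.root_ng P k)
  let S : Set ι := {k | 0 < f k}
  have hS : RootD.IsPosSys P S := by
    refine ⟨fun k hk hk' => ?_, fun k => ?_, fun k n hn h => ?_⟩
    · have h' : 0 < f (Groth.Agent.RootDLib.ng P k) := hk'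
      have h'' : 0 < f k := hk
      rw [hng] at h'; omega
    · show 0 < f k ∨ 0 < f (Groth.Agent.RootDLib.ng P k)
      have := hf0 k
      rw [hng]; omega
    · have key : ∀ x ∈ RootD.natSpan P S, ∃ hx : x ∈ Submodule.span ℤ (Set.range P.root), 0 ≤ ψ ⟨x, hx⟩ := fun x hx => by
        induction hx using AddSubmonoid.closure_induction with
        | mem y hy =>
          obtain ⟨a, ha, rfl⟩ := hy
          exact ⟨Submodule.subset_span ⟨a, rfl⟩, le_of_lt (show 0 < f a from ha)⟩
        | zero => exact ⟨zero_mem _, (map_zero ψ).ge⟩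
        | add y z _ _ hy hz =>
          obtain ⟨h1, e1⟩ := hy
          obtain ⟨h2, e2⟩ := hz
          exact ⟨add_mem h1 h2, by
            have := map_add ψ ⟨y, h1⟩ ⟨z, h2⟩
            exact this ▸ add_nonneg e1 e2⟩
      obtain ⟨hx, h0⟩ := key _ h
      have he : ψ ⟨n • P.root k, hx⟩ = n • f k :=
        (congrArg ψ (Subtype.ext rfl)).trans (map_nsmul ψ n ⟨P.root k, Submodule.subset_span ⟨k, rfl⟩⟩)
      rw [he, nsmul_eq_mul] at h0
      show 0 < f k
      rcases lt_or_gt_of_ne (hf0 k) with h1 | h1
      · exact absurd h0 (not_le.2 (mul_neg_of_pos_of_neg (by exact_mod_cast hn) h1))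
      · exact h1
  have hΔ := Groth.Agent.RootDLib.isSimple_simples hS
  set L := Finsupp.linearCombination ℤ (fun i : ι => (P.coroot i : N)) with hL
  set Rel := Submodule.span ℤ (Set.range fun p : ι × ι =>
        Finsupp.single (P.reflectionPerm p.1 p.2) (1 : ℤ) - Finsupp.single p.2 1 +
          P.pairingIn ℤ p.1 p.2 • Finsupp.single p.1 1) with hRel
  have hle : Rel ≤ LinearMap.ker L := Submodule.span_le.2 (by
    rintro _ ⟨⟨i, j⟩, rfl⟩
    show L _ = 0
    rw [hL, map_add, map_sub, map_smul]
    simp only [Finsupp.linearCombination_single, one_smul]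
    have := Groth.Agent.RootDLib.coroot_refl P i j
    rw [Groth.Agent.RootDLib.refl_smul_idx] at this
    rw [this]; abel)
  have hgen : ∀ k, Finsupp.single k (1 : ℤ) ∈ Rel ⊔ Finsupp.supported ℤ ℤ (Groth.Agent.RootDLib.simples P S) := fun k => by
    obtain ⟨g, hg, a, ha, rfl⟩ := hΔ.exists_weylSub_smul (k := k) (fun l e =>
      P.nsmul_notMem_range_root (n := 2) (i := l) ⟨k, by rw [e, ← natCast_zsmul]; rfl⟩)
    obtain ⟨l, hl, rfl⟩ := Groth.Agent.RootDLib.exists_word P hg
    clear hg
    induction l with
    | nil => rw [List.map_nil, List.prod_nil, one_smul]; exact Submodule.mem_sup_right (Finsupp.single_mem_supported ℤ 1 ha)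
    | cons b t ih =>
      rw [List.map_cons, List.prod_cons, mul_smul, Groth.Agent.RootDLib.refl_smul_idx]
      have h1 := ih fun x hx => hl x (List.mem_cons_of_mem b hx)
      generalize (t.map (Groth.Agent.RootDLib.refl P)).prod • a = j at h1
      have h2 : Finsupp.single (P.reflectionPerm b j) (1 : ℤ) - Finsupp.single j 1 + P.pairingIn ℤ b j • Finsupp.single b 1 ∈
          Rel ⊔ Finsupp.supported ℤ ℤ (Groth.Agent.RootDLib.simples P S) := Submodule.mem_sup_left (Submodule.subset_span ⟨(b, j), rfl⟩)
      have h3 : P.pairingIn ℤ b j • Finsupp.single b (1 : ℤ) ∈ Rel ⊔ Finsupp.supported ℤ ℤ (Groth.Agent.RootDLib.simples P S) :=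
        Submodule.smul_mem _ _ (Submodule.mem_sup_right (Finsupp.single_mem_supported ℤ 1 (hl b List.mem_cons_self)))
      convert add_mem (sub_mem h2 h3) h1 using 1
      abel
  refine le_antisymm (fun x hx => ?_) hle
  have hx' : x ∈ Rel ⊔ Finsupp.supported ℤ ℤ (Groth.Agent.RootDLib.simples P S) := by
    rw [← Finsupp.sum_single x]
    exact Submodule.sum_mem _ fun i _ => by rw [← Finsupp.smul_single_one]; exact Submodule.smul_mem _ _ (hgen i)
  obtain ⟨r, hr, d, hd, rfl⟩ := Submodule.mem_sup.1 hx'
  have hd0 : L d = 0 := by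
    have h1 : L r = 0 := hle hr
    have h2 : L (r + d) = 0 := hx
    rwa [map_add, h1, zero_add] at h2
  rw [linearIndepOn_iff.1 hΔ.linearIndepOn_coroot d hd hd0, add_zero]
  exact hr

end Groth.Agent.S19011
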