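import Groth.Statements.S19012
import Groth.Agent.RootDLib.Irred
import Groth.Agent.S19006
-- import your own Groth.Agent.* helpers here

set_option autoImplicit false
universe u v w x
open RootD

namespace Groth.Agent.S19012

/-- Let P be a finite reduced crystallographic root pairing over a field of characteristic zero which is
irreducible, and b a base. A quadratic form on the coweight module that is invariant under all root
reflections and vanishes on some simple coroot is zero; in other words an invariant form is
determined by its value on a single simple coroot. (The source proves, component by component of the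
Dynkin diagram, that an invariant integer-valued form on the coroot lattice with prescribed value on
the first simple coroot of each component is unique; here the system is irreducible, the coroots
span the coweight module, and forms take values in the base field.) -/
theorem result {ι : Type u} {K : Type v} {M : Type w} {N : Type x} [Field K] [CharZero K]
    [AddCommGroup M] [Module K M] [AddCommGroup N] [Module K N] (P : RootPairing ι K M N)
    [Finite ι] [P.IsCrystallographic] [P.IsReduced] [P.IsIrreducible] (b : P.Base)
    (Q : QuadraticMap K N K) (hQ : ∀ (i : ι) (y : N), Q (P.coreflection i y) = Q y)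
    (i₀ : ι) (hi₀ : i₀ ∈ b.support) (h0 : Q (P.coroot i₀) = 0) : Q = 0 := by
  classical
  have hpol : ∀ (y : N) (i : ι), QuadraticMap.polar Q y (P.coroot i) = P.root' i y * Q (P.coroot i) := fun y i =>
    (Groth.Agent.S19006.result P Q i).1 (hQ i) y
  let C : Set ι := {i | Q (P.coroot i) = 0}
  have hadj : ∀ i ∈ C, ∀ j, P.pairing i j ≠ 0 → j ∈ C := fun i hi j hij => by
    have h1 := hpol (P.coroot i) j
    rw [QuadraticMap.polar_comm, hpol, show Q (P.coroot i) = 0 from hi, mul_zero] at h1
    refine (mul_eq_zero.1 h1.symm).resolve_left fun h => ?_
    exact hij (P.pairing_eq_zero_iff'.1 h)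
  have hC : ∀ k, k ∈ C := fun k => by
    by_contra hk
    haveI : Nonempty ι := ⟨k⟩
    have htop : Submodule.span K (P.root '' C) = ⊤ := by
      refine P.span_root_image_eq_top_of_forall_orthogonal C ⟨i₀, h0⟩ fun j hj i hi => ?_
      have h : P.pairing i j = 0 := by
        by_contra h
        exact hj (Submodule.subset_span ⟨j, hadj i hi j h, rfl⟩)
      exact ⟨P.pairing_eq_zero_iff'.1 h, h⟩
    have hker : Submodule.span K (P.root '' C) ≤ LinearMap.ker (P.coroot' k) := Submodule.span_le.2 (by
      rintro _ ⟨i, hi, rfl⟩
      exact not_not.1 fun h => hk (hadj i hi k h))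
    have h2 : P.coroot' k (P.root k) = 0 := hker (htop ▸ Submodule.mem_top)
    rw [P.root_coroot'_eq_pairing, P.pairing_same] at h2
    exact two_ne_zero h2
  have hB : ∀ y z, QuadraticMap.polar Q y z = 0 := fun y => by
    haveI : Nonempty ι := ⟨i₀⟩
    have : Submodule.span K (Set.range P.coroot) ≤ LinearMap.ker (Q.polarBilin y) := Submodule.span_le.2 (by
      rintro _ ⟨i, rfl⟩
      show QuadraticMap.polar Q y (P.coroot i) = 0
      rw [hpol, show Q (P.coroot i) = 0 from hC i, mul_zero])
    intro z
    exact this (by rw [RootPairing.IsRootSystem.span_coroot_eq_top]; trivial)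
  ext y
  have h := hB y y
  rw [QuadraticMap.polar_self] at h
  simpa using h

end Groth.Agent.S19012
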