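import Groth.Statements.S19017
import Groth.Agent.CycLib.Restrict
import Groth.Agent.CycLib.FieldSetup

set_option autoImplicit false
universe u
open CategoryTheory AlgebraicGeometry
open IntTh

namespace Groth.Agent.S19017

open CategoryTheory CategoryTheory.Limits AlgebraicGeometry


/-- The restriction of (the part in `s` of) a cycle along a closed immersion. -/
noncomputable def pullCyc {X Z : Scheme.{u}} (i : Z ⟶ X) [IsClosedImmersion i] (α : AlgebraicCycle X ℤ)
    (s : Set X) : AlgebraicCycle Z ℤ where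
  toFun z := s.indicator (fun x => α x) (i z)
  supportWithinDomain' := Set.subset_univ _
  supportLocallyFiniteWithinDomain' z _ := by
    obtain ⟨t, ht, hfin⟩ := α.supportLocallyFiniteWithinDomain (i z) trivial
    refine ⟨i ⁻¹' t, i.continuous.continuousAt.preimage_mem_nhds ht,
      (hfin.preimage (i.isEmbedding.injective.injOn)).subset fun w ⟨hw, hne⟩ => ⟨hw, ?_⟩⟩
    exact fun e => hne (show s.indicator (fun x => α x) (i w) = 0 by
      classical rw [Set.indicator_apply, show α (i w) = 0 from e, ite_self])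

theorem pullCyc_apply {X Z : Scheme.{u}} (i : Z ⟶ X) [IsClosedImmersion i] (α : AlgebraicCycle X ℤ)
    (s : Set X) (z : Z) : pullCyc i α s z = s.indicator (fun x => α x) (i z) := rfl

/-- Let k be an arbitrary field and X a scheme separated and of finite type over k, with the dimension
function δ induced from Spec k. Let i_1 : X_1 → X and i_2 : X_2 → X be closed subschemes whose
images cover X, and let Y be their intersection: closed immersions j_1 : Y → X_1, j_2 : Y → X_2 with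
i_1 ∘ j_1 = i_2 ∘ j_2 whose image in X is the intersection of the images of X_1 and X_2. Then the
sequence CH_n(Y) → CH_n(X_1) ⊕ CH_n(X_2) → CH_n(X) → 0, with first map γ ↦ (j_{1*}γ, −j_{2*}γ) and
second map the sum of the push-forwards, is exact for every integer n: every n-cycle on X is a sum
i_{1*}α_1 + i_{2*}α_2 of n-cycles on X_1 and X_2, and whenever such a sum is rationally equivalent
to zero on X there is an n-cycle γ on Y with α_1 rationally equivalent to j_{1*}γ on X_1 and α_2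
rationally equivalent to −j_{2*}γ on X_2. (The published statement does not require the two closed
subschemes to cover X; without that requirement the surjectivity fails already for two empty closed
subschemes of a point, and the printed argument uses the covering, so it is assumed here. The
published statement also calls the sequence one of rings graded by codimension; stated here is the
additive sequence graded by dimension, which is what the printed argument gives.) -/
theorem result (k : Type u) [Field k]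
    (X : Scheme.{u}) [X.Over (Spec (CommRingCat.of k))]
    [IsSeparated (X ↘ Spec (CommRingCat.of k))] [LocallyOfFiniteType (X ↘ Spec (CommRingCat.of k))]
    [QuasiCompact (X ↘ Spec (CommRingCat.of k))]
    (δ : X → ℤ) (hδ : Cyc.DeltaCompat (X ↘ Spec (CommRingCat.of k)) δ (fun _ => 0))
    {X₁ X₂ Y : Scheme.{u}} (i₁ : X₁ ⟶ X) (i₂ : X₂ ⟶ X) [IsClosedImmersion i₁] [IsClosedImmersion i₂]
    (hcov : Set.range i₁ ∪ Set.range i₂ = Set.univ)
    (j₁ : Y ⟶ X₁) (j₂ : Y ⟶ X₂) [IsClosedImmersion j₁] [IsClosedImmersion j₂]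
    (hcomm : j₁ ≫ i₁ = j₂ ≫ i₂) (hY : Set.range (j₁ ≫ i₁) = Set.range i₁ ∩ Set.range i₂) (n : ℤ) :
    (∀ α : AlgebraicCycle X ℤ, α ∈ Cyc.Zk X δ n →
      ∃ (α₁ : AlgebraicCycle X₁ ℤ) (α₂ : AlgebraicCycle X₂ ℤ),
        α₁ ∈ Cyc.Zk X₁ (fun x => δ (i₁ x)) n ∧ α₂ ∈ Cyc.Zk X₂ (fun x => δ (i₂ x)) n ∧
        α = AlgebraicCycle.map i₁ (fun x => δ (i₁ x)) δ α₁ + AlgebraicCycle.map i₂ (fun x => δ (i₂ x)) δ α₂) ∧
    (∀ (α₁ : AlgebraicCycle X₁ ℤ) (α₂ : AlgebraicCycle X₂ ℤ),
      α₁ ∈ Cyc.Zk X₁ (fun x => δ (i₁ x)) n → α₂ ∈ Cyc.Zk X₂ (fun x => δ (i₂ x)) n →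
      Cyc.RatEquivZero δ n
        (AlgebraicCycle.map i₁ (fun x => δ (i₁ x)) δ α₁ + AlgebraicCycle.map i₂ (fun x => δ (i₂ x)) δ α₂) →
      ∃ γ : AlgebraicCycle Y ℤ, γ ∈ Cyc.Zk Y (fun y => δ (i₁ (j₁ y))) n ∧
        Cyc.RatEquiv (fun x => δ (i₁ x)) n α₁
          (AlgebraicCycle.map j₁ (fun y => δ (i₁ (j₁ y))) (fun x => δ (i₁ x)) γ) ∧
        Cyc.RatEquiv (fun x => δ (i₂ x)) n α₂
          (-AlgebraicCycle.map j₂ (fun y => δ (i₁ (j₁ y))) (fun x => δ (i₂ x)) γ)) := by
  haveI hX : Cyc.IsSetup X δ := CycLib.isSetup_of_field k δ hδ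
  haveI := hX.1
  haveI := CycLib.isLocallyNoetherian_closed (X := X) i₁
  haveI := CycLib.isLocallyNoetherian_closed (X := X) i₂
  have hd := hX.2.2
  have hpt : ∀ y, i₂ (j₂ y) = i₁ (j₁ y) := fun y => by
    rw [← Scheme.Hom.comp_apply, ← Scheme.Hom.comp_apply, hcomm]
  have hmem₁ : ∀ x₁, i₁ x₁ ∈ Set.range i₂ → x₁ ∈ Set.range j₁ := fun x₁ h => by
    obtain ⟨y, hy⟩ : i₁ x₁ ∈ Set.range (j₁ ≫ i₁) := hY ▸ ⟨⟨x₁, rfl⟩, h⟩
    exact ⟨y, i₁.isEmbedding.injective (by rwa [Scheme.Hom.comp_apply] at hy)⟩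
  have hmem₂ : ∀ x₂, i₂ x₂ ∈ Set.range i₁ → x₂ ∈ Set.range j₂ := fun x₂ h => by
    obtain ⟨y, hy⟩ : i₂ x₂ ∈ Set.range (j₁ ≫ i₁) := hY ▸ ⟨h, ⟨x₂, rfl⟩⟩
    exact ⟨y, i₂.isEmbedding.injective (by rw [hpt]; rwa [Scheme.Hom.comp_apply] at hy)⟩
  constructor
  · intro α hα
    refine ⟨pullCyc i₁ α Set.univ, pullCyc i₂ α (Set.range i₁)ᶜ, fun x hx => ?_, fun x hx => ?_, ?_⟩
    · rw [pullCyc_apply, Set.indicator_univ]; exact hα _ hx
    · classical
      rw [pullCyc_apply, Set.indicator_apply]; split_ifs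
      exacts [hα _ hx, rfl]
    ext x
    show α x = AlgebraicCycle.map i₁ _ δ _ x + AlgebraicCycle.map i₂ _ δ _ x
    by_cases h1 : x ∈ Set.range i₁
    · obtain ⟨x₁, rfl⟩ := h1
      rw [CycLib.map_closed_apply, pullCyc_apply, Set.indicator_univ]
      by_cases h2 : i₁ x₁ ∈ Set.range i₂
      · obtain ⟨x₂, hx₂⟩ := h2
        rw [← hx₂, CycLib.map_closed_apply, pullCyc_apply, Set.indicator_of_notMem
          (Set.notMem_compl_iff.2 (hx₂ ▸ ⟨x₁, rfl⟩)), add_zero]
      · rw [CycLib.map_closed_apply_of_notMem i₂ _ h2, add_zero]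
    · obtain ⟨x₂, rfl⟩ : x ∈ Set.range i₂ := ((Set.ext_iff.1 hcov x).2 trivial).resolve_left h1
      rw [CycLib.map_closed_apply_of_notMem i₁ _ h1, CycLib.map_closed_apply, pullCyc_apply,
        Set.indicator_of_mem (show i₂ x₂ ∈ (Set.range i₁)ᶜ from h1), zero_add]
  · intro α₁ α₂ hα₁ hα₂ hS
    obtain ⟨F, hF⟩ := (CycLib.ratEquivZero_iff _).1 hS
    let P : F.ι → Prop := fun j => F.ξ j ∈ Set.range i₁
    have hS' : ∀ x, AlgebraicCycle.map i₁ (fun x => δ (i₁ x)) δ α₁ x +
        AlgebraicCycle.map i₂ (fun x => δ (i₂ x)) δ α₂ x =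
        (F.part P).cycle hd x + (F.part fun j => ¬ P j).cycle hd x :=
      fun x => (hF x).trans (CycLib.Fam.cycle_part_add hd F P x)
    let A₁ := pullCyc i₁ ((F.part P).cycle hd) Set.univ
    let B₂ := pullCyc i₂ ((F.part fun j => ¬ P j).cycle hd) Set.univ
    have hA : ∀ z, A₁ z = (F.part P).cycle hd (i₁ z) := fun z => Set.indicator_of_mem (Set.mem_univ _) _
    have hB : ∀ z, B₂ z = (F.part fun j => ¬ P j).cycle hd (i₂ z) := fun z => Set.indicator_of_mem (Set.mem_univ _) _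
    have hP : ∀ j : (F.part P).ι, (F.part P).ξ j ∈ Set.range i₁ := fun j => j.2
    have hnP : ∀ j : (F.part fun j => ¬ P j).ι, (F.part fun j => ¬ P j).ξ j ∈ Set.range i₂ := fun j =>
      ((Set.ext_iff.1 hcov (F.ξ j.1)).2 trivial).resolve_left j.2
    have hA' := CycLib.Fam.ratEquivZero_restrict i₁ hd (F.part P) hP A₁ hA
    have hB' := CycLib.Fam.ratEquivZero_restrict i₂ hd (F.part fun j => ¬ P j) hnP B₂ hB
    refine ⟨pullCyc j₁ (α₁ - A₁) Set.univ, fun y hy => ?_, ?_, ?_⟩
    · rw [pullCyc_apply, Set.indicator_univ]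
      show α₁ (j₁ y) - A₁ (j₁ y) = 0
      rw [hα₁ _ hy, hA, zero_sub, neg_eq_zero]
      refine finsum_eq_zero_of_forall_eq_zero fun j => ?_
      by_contra hne
      have := (CycLib.specializes_of_divFun_ne_zero hne).2
      rw [(F.part P).hξ j] at this
      exact hy (by
        show δ (i₁ (j₁ y)) = n
        omega)
    · unfold Cyc.RatEquiv
      convert hA' using 1
      ext x₁
      show α₁ x₁ - AlgebraicCycle.map j₁ _ _ _ x₁ = A₁ x₁
      by_cases hx : x₁ ∈ Set.range j₁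
      · obtain ⟨y, rfl⟩ := hx
        rw [CycLib.map_closed_apply (δ := fun x => δ (i₁ x)) j₁, pullCyc_apply, Set.indicator_univ]
        show α₁ (j₁ y) - (α₁ (j₁ y) - A₁ (j₁ y)) = A₁ (j₁ y)
        abel
      · rw [CycLib.map_closed_apply_of_notMem (δ := fun x => δ (i₁ x)) j₁ _ hx, sub_zero]
        have h := hS' (i₁ x₁)
        have h2 : i₁ x₁ ∉ Set.range i₂ := fun h => hx (hmem₁ x₁ h)
        rw [CycLib.map_closed_apply, CycLib.map_closed_apply_of_notMem i₂ _ h2, add_zero,
          CycLib.Fam.cycle_apply_eq_zero_of_notMem i₂ hd _ hnP h2, add_zero] at h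
        rw [hA]; exact h
    · unfold Cyc.RatEquiv
      convert hB' using 1
      ext x₂
      rw [show (fun y => δ (i₁ (j₁ y))) = fun y => δ (i₂ (j₂ y)) from funext fun y => by rw [hpt]]
      show α₂ x₂ - -AlgebraicCycle.map j₂ _ _ _ x₂ = B₂ x₂
      by_cases hx : x₂ ∈ Set.range j₂
      · obtain ⟨y, rfl⟩ := hx
        rw [CycLib.map_closed_apply (δ := fun x => δ (i₂ x)) j₂, pullCyc_apply, Set.indicator_univ]
        show α₂ (j₂ y) - -(α₁ (j₁ y) - A₁ (j₁ y)) = B₂ (j₂ y)
        have h := hS' (i₁ (j₁ y))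
        rw [CycLib.map_closed_apply, ← hA] at h
        rw [← hpt, CycLib.map_closed_apply, ← hB] at h
        omega
      · rw [CycLib.map_closed_apply_of_notMem (δ := fun x => δ (i₂ x)) j₂ _ hx, neg_zero, sub_zero]
        have h := hS' (i₂ x₂)
        have h1 : i₂ x₂ ∉ Set.range i₁ := fun h => hx (hmem₂ x₂ h)
        rw [CycLib.map_closed_apply i₂, CycLib.map_closed_apply_of_notMem i₁ _ h1, zero_add,
          CycLib.Fam.cycle_apply_eq_zero_of_notMem i₁ hd _ hP h1, zero_add] at h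
        rw [hB]; exact h

end Groth.Agent.S19017
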