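import Groth.Statements.S19018
-- import your own Groth.Agent.* helpers here

set_option autoImplicit false
universe u
open TensorProduct
open SymTen

namespace Groth.Agent.S19018

/-- Suppose k is a field in which 2 ≠ 0 and R is a commutative k-algebra. Write I for the ideal of the
diagonal, i.e. the kernel of multiplication R ⊗_k R → R, and write S for the subalgebra of R ⊗_k R
consisting of elements invariant under interchanging the two tensor factors. Then, viewed as ideals
of S, the swap-invariant elements of I^4 form precisely the square of the ideal of swap-invariant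
elements of I^2. (The source is stated over the complex numbers; the proof needs only that 2 is
invertible.) -/
theorem result
    (k R : Type u) [Field k] [NeZero (2 : k)] [CommRing R] [Algebra k R] :
    Ideal.comap
        (AlgHom.equalizer ((Algebra.TensorProduct.comm k R R : R ⊗[k] R ≃ₐ[k] R ⊗[k] R) : R ⊗[k] R →ₐ[k] R ⊗[k] R)
          (AlgHom.id k (R ⊗[k] R))).val
        (KaehlerDifferential.ideal k R ^ 4) =
      (Ideal.comap
        (AlgHom.equalizer ((Algebra.TensorProduct.comm k R R : R ⊗[k] R ≃ₐ[k] R ⊗[k] R) : R ⊗[k] R →ₐ[k] R ⊗[k] R)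
          (AlgHom.id k (R ⊗[k] R))).val
        (KaehlerDifferential.ideal k R ^ 2)) ^ 2 := by
  open Pointwise in
    set σ : R ⊗[k] R →ₐ[k] R ⊗[k] R :=
      ((Algebra.TensorProduct.comm k R R : R ⊗[k] R ≃ₐ[k] R ⊗[k] R) : R ⊗[k] R →ₐ[k] R ⊗[k] R) with hσ
    set S := AlgHom.equalizer σ (AlgHom.id k (R ⊗[k] R)) with hS
    set J := Ideal.comap S.val (KaehlerDifferential.ideal k R ^ 2) with hJ
    have hσσ : ∀ y, σ (σ y) = y := fun y => by
      induction y using TensorProduct.induction_on with
      | zero => simp
      | tmul a b => simp [σ]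
      | add a b ha hb => rw [map_add, map_add, ha, hb]
    have hsym : ∀ y, y + σ y ∈ S := fun y => by
      rw [hS, AlgHom.mem_equalizer, AlgHom.id_apply, map_add, hσσ, add_comm]
    let D : Set (R ⊗[k] R) := Set.range fun r : R => (1 : R) ⊗ₜ[k] r - r ⊗ₜ 1
    have hI2 : KaehlerDifferential.ideal k R ^ 2 = Ideal.span (D * D) := by
      rw [pow_two, ← KaehlerDifferential.span_range_eq_ideal, Ideal.span_mul_span']
    have hq : ∀ q ∈ D * D, q ∈ S ∧ q ∈ KaehlerDifferential.ideal k R ^ 2 := fun q hq => by
      refine ⟨?_, hI2 ▸ Ideal.subset_span hq⟩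
      obtain ⟨_, ⟨r, rfl⟩, _, ⟨r', rfl⟩, rfl⟩ := hq
      rw [hS, AlgHom.mem_equalizer, AlgHom.id_apply]
      simp [σ]
      ring
    have key : ∀ a ∈ KaehlerDifferential.ideal k R ^ 2, ∀ b ∈ KaehlerDifferential.ideal k R ^ 2,
        ∀ s, ∃ z ∈ J ^ 2, (z : R ⊗[k] R) = s * (a * b) + σ (s * (a * b)) := by
      intro a ha
      rw [hI2] at ha ⊢
      induction ha using Submodule.span_induction with
      | zero => exact fun b _ s => ⟨0, zero_mem _, by simp⟩
      | add a a' _ _ iha iha' =>
          intro b hb s
          obtain ⟨z, hz, e⟩ := iha b hb s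
          obtain ⟨z', hz', e'⟩ := iha' b hb s
          exact ⟨z + z', add_mem hz hz', by simp only [AddMemClass.coe_add, e, e', add_mul, mul_add, map_add]; abel⟩
      | smul t a _ iha =>
          intro b hb s
          obtain ⟨z, hz, e⟩ := iha b hb (s * t)
          exact ⟨z, hz, by rw [e, smul_eq_mul, mul_assoc t a b, mul_assoc s t (a * b)]⟩
      | mem q hq' =>
          intro b hb
          induction hb using Submodule.span_induction with
          | zero => exact fun s => ⟨0, zero_mem _, by simp⟩
          | add b b' _ _ ihb ihb' =>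
              intro s
              obtain ⟨z, hz, e⟩ := ihb s
              obtain ⟨z', hz', e'⟩ := ihb' s
              exact ⟨z + z', add_mem hz hz', by simp only [AddMemClass.coe_add, e, e', mul_add, map_add]; abel⟩
          | smul t b _ ihb =>
              intro s
              obtain ⟨z, hz, e⟩ := ihb (s * t)
              exact ⟨z, hz, by rw [e, smul_eq_mul, mul_left_comm q t b, mul_assoc s t (q * b)]⟩
          | mem q2 hq2 =>
              intro s
              refine ⟨(⟨s + σ s, hsym s⟩ * ⟨q, (hq q hq').1⟩) * ⟨q2, (hq q2 hq2).1⟩,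
                by rw [pow_two]; exact Ideal.mul_mem_mul (Ideal.mul_mem_left _ _ (hq q hq').2) (hq q2 hq2).2, ?_⟩
              have e1 : σ q = q := (hq q hq').1
              have e2 : σ q2 = q2 := (hq q2 hq2).1
              simp only [MulMemClass.coe_mul, map_mul, e1, e2]
              ring
    apply le_antisymm
    · rintro ⟨x, hxS⟩ hx
      have hx4 : x ∈ KaehlerDifferential.ideal k R ^ 2 * KaehlerDifferential.ideal k R ^ 2 := by
        rw [← pow_add]; exact hx
      have : ∃ z ∈ J ^ 2, (z : R ⊗[k] R) = x + σ x := by
        clear hx hxS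
        induction hx4 using Submodule.mul_induction_on' with
        | mem_mul_mem a ha b hb =>
            obtain ⟨z, hz, e⟩ := key a ha b hb 1
            exact ⟨z, hz, by rw [e, one_mul]⟩
        | add a _ b _ iha ihb =>
            obtain ⟨z, hz, e⟩ := iha
            obtain ⟨z', hz', e'⟩ := ihb
            exact ⟨z + z', add_mem hz hz', by simp only [AddMemClass.coe_add, e, e', map_add]; abel⟩
      obtain ⟨z, hz, e⟩ := this
      have hxx : σ x = x := hxS
      have hx2 : (⟨x, hxS⟩ : S) = algebraMap k S (2 : k)⁻¹ * z := by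
        apply Subtype.ext
        show x = algebraMap k (R ⊗[k] R) (2 : k)⁻¹ * z
        rw [e, hxx, ← two_mul, ← map_ofNat (algebraMap k (R ⊗[k] R)) 2, ← mul_assoc, ← map_mul,
          inv_mul_cancel₀ (NeZero.ne (2 : k)), map_one, one_mul]
      show (⟨x, hxS⟩ : S) ∈ J ^ 2
      rw [hx2]
      exact Ideal.mul_mem_left _ _ hz
    · have : J ^ 2 ≤ Ideal.comap S.val (KaehlerDifferential.ideal k R ^ 2 * KaehlerDifferential.ideal k R ^ 2) := by
        rw [pow_two J]
        exact Ideal.le_comap_mul S.val
      rwa [← pow_add] at this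

end Groth.Agent.S19018
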