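import Groth.Statements.S19019
import Mathlib

set_option autoImplicit false
open scoped ComplexOrder
open Toeplitz

namespace Groth.Agent.S19019

/-- Let A be an m × m complex Hermitian Toeplitz matrix, with entries A i j = t (j - i) constant along
diagonals, and let f(y) = Σ_{-m < k < m} t k · exp(i k y) be the trigonometric polynomial attached
to it. If f has positive real part at every real y outside a countable set, then A is positive
definite (hence nondegenerate). (The source also states the mirror case: f negative off a countable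
set gives A negative definite, which is this statement for -A.) -/
theorem result
    (m : ℕ) (t : ℤ → ℂ) (A : Matrix (Fin m) (Fin m) ℂ)
    (hA : ∀ i j : Fin m, A i j = t ((j : ℤ) - (i : ℤ))) (hH : A.IsHermitian)
    (hpos : Set.Countable {y : ℝ | ¬ 0 < (∑ k ∈ Finset.Ioo (-(m : ℤ)) (m : ℤ),
        t k * Complex.exp (Complex.I * (k : ℂ) * (y : ℂ))).re}) :
    A.PosDef := by
  classical
  refine Matrix.PosDef.of_dotProduct_mulVec_pos hH fun v hv => ?_
  set f : ℝ → ℂ := fun y => ∑ k ∈ Finset.Ioo (-(m : ℤ)) (m : ℤ), t k * Complex.exp (Complex.I * (k : ℂ) * (y : ℂ)) with hf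
  set Q : ℝ → ℂ := fun y => ∑ j : Fin m, v j * Complex.exp (-(Complex.I * ((j : ℕ) : ℂ) * (y : ℂ))) with hQ
  have hfc : Continuous f := by fun_prop
  have hQc : Continuous Q := by fun_prop
  let h : ℝ → ℂ := fun y => f y * (star (Q y) * Q y)
  have hre : ∀ y, (h y).re = (f y).re * Complex.normSq (Q y) := fun y => by
    show (f y * ((starRingEnd ℂ) (Q y) * Q y)).re = _
    rw [← Complex.normSq_eq_conj_mul_self, Complex.re_mul_ofReal]
  have hint : ∀ k : ℤ, ∫ y in (0:ℝ)..(2 * Real.pi), Complex.exp (Complex.I * (k : ℂ) * (y : ℂ)) =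
      if k = 0 then (2 * Real.pi : ℂ) else 0 := by
    intro k
    split_ifs with hk
    · subst hk; simp
    · rw [integral_exp_mul_complex (mul_ne_zero Complex.I_ne_zero (Int.cast_ne_zero.mpr hk))]
      rw [show Complex.I * (k : ℂ) * ((2 * Real.pi : ℝ) : ℂ) = (k : ℂ) * (2 * Real.pi * Complex.I) by push_cast; ring,
        Complex.exp_int_mul_two_pi_mul_I]
      simp
  have hI : ∫ y in (0:ℝ)..(2 * Real.pi), h y = (2 * Real.pi : ℂ) * (star v ⬝ᵥ A.mulVec v) := by
    have hexp : ∀ y, h y = ∑ k ∈ Finset.Ioo (-(m : ℤ)) (m : ℤ), ∑ i : Fin m, ∑ j : Fin m,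
        t k * (star (v i) * v j) * Complex.exp (Complex.I * (((k + i - j : ℤ)) : ℂ) * (y : ℂ)) := by
      intro y
      show f y * (star (Q y) * Q y) = _
      rw [show Q y = ∑ j : Fin m, v j * Complex.exp (-(Complex.I * ((j : ℕ) : ℂ) * (y : ℂ))) from rfl, star_sum, Finset.sum_mul_sum,
        show f y = ∑ k ∈ Finset.Ioo (-(m : ℤ)) (m : ℤ), t k * Complex.exp (Complex.I * (k : ℂ) * (y : ℂ)) from rfl, Finset.sum_mul]
      refine Finset.sum_congr rfl fun k _ => ?_
      rw [Finset.mul_sum]
      refine Finset.sum_congr rfl fun i _ => ?_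
      rw [Finset.mul_sum]
      refine Finset.sum_congr rfl fun j _ => ?_
      have hs : star (Complex.exp (-(Complex.I * ((i : ℕ) : ℂ) * (y : ℂ)))) = Complex.exp (Complex.I * ((i : ℕ) : ℂ) * (y : ℂ)) := by
        show (starRingEnd ℂ) _ = _
        rw [← Complex.exp_conj]
        simp
      rw [star_mul', hs, show Complex.I * (((k + i - j : ℤ)) : ℂ) * (y : ℂ) = Complex.I * (k : ℂ) * y + (Complex.I * ((i : ℕ) : ℂ) * y + -(Complex.I * ((j : ℕ) : ℂ) * y)) by push_cast; ring,
        Complex.exp_add, Complex.exp_add]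
      ring
    simp only [hexp]
    rw [intervalIntegral.integral_finsetSum (fun k _ => (by fun_prop : Continuous _).intervalIntegrable _ _)]
    simp only [dotProduct, Matrix.mulVec, Finset.mul_sum, Pi.star_apply]
    rw [Finset.sum_congr rfl (fun k _ => intervalIntegral.integral_finsetSum (fun i _ => (by fun_prop : Continuous _).intervalIntegrable _ _))]
    rw [Finset.sum_comm]
    refine Finset.sum_congr rfl fun i _ => ?_
    rw [Finset.sum_congr rfl (fun k _ => intervalIntegral.integral_finsetSum (fun j _ => (by fun_prop : Continuous _).intervalIntegrable _ _))]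
    rw [Finset.sum_comm]
    refine Finset.sum_congr rfl fun j _ => ?_
    simp only [intervalIntegral.integral_const_mul, hint, hA]
    rw [Finset.sum_eq_single ((j : ℤ) - (i : ℤ))]
    · rw [if_pos (by omega)]; ring
    · intro k _ hk; rw [if_neg (by omega), mul_zero]
    · intro hk; exact absurd (Finset.mem_Ioo.mpr (by omega)) hk
  have hhc : Continuous h := hfc.mul ((continuous_star.comp hQc).mul hQc)
  have hdense : Dense {y : ℝ | ¬ 0 < (f y).re}ᶜ := Set.Countable.dense_compl ℝ hpos
  have hnn : ∀ y, 0 ≤ (f y).re := fun y => by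
    have hcl : IsClosed {y : ℝ | 0 ≤ (f y).re} := isClosed_le continuous_const (Complex.continuous_re.comp hfc)
    exact hcl.closure_subset_iff.mpr (fun z hz => le_of_lt (not_not.mp hz)) (hdense y)
  have hex : ∃ c ∈ Set.Icc (0:ℝ) (2 * Real.pi), 0 < (h c).re := by
    by_contra hne
    push Not at hne
    let P : Polynomial ℂ := ∑ j : Fin m, Polynomial.C (v j) * Polynomial.X ^ (j : ℕ)
    let S : Set ℝ := Set.Ioo (0:ℝ) (2 * Real.pi) \ {y | ¬ 0 < (f y).re}
    have hS : ¬ S.Countable := fun hc => by
      refine Cardinal.Real.Ioo_countable_iff.not.mpr (not_le.mpr Real.two_pi_pos) (Set.Countable.mono ?_ (hc.union hpos))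
      intro y hy
      by_cases h' : 0 < (f y).re
      · exact Or.inl ⟨hy, not_not.mpr h'⟩
      · exact Or.inr h'
    have hz : (fun y : ℝ => Complex.exp (-(Complex.I * (y : ℂ)))) '' S ⊆ {z | P.IsRoot z} := by
      rintro _ ⟨y, ⟨hy, hy'⟩, rfl⟩
      have h1 := hne y (Set.Ioo_subset_Icc_self hy)
      rw [hre] at h1
      have hQ0 : Q y = 0 := by
        by_contra h2
        exact absurd h1 (not_le.mpr (mul_pos (not_not.mp hy') (Complex.normSq_pos.mpr h2)))
      show P.IsRoot _
      rw [Polynomial.IsRoot, ← hQ0]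
      simp only [P, hQ, Polynomial.eval_finsetSum, Polynomial.eval_mul, Polynomial.eval_C, Polynomial.eval_pow, Polynomial.eval_X, ← Complex.exp_nat_mul]
      exact Finset.sum_congr rfl fun j _ => by congr 2; ring
    have hinj : Set.InjOn (fun y : ℝ => Complex.exp (-(Complex.I * (y : ℂ)))) S := by
      intro y hy z hz' hyz
      obtain ⟨k, hk⟩ := Complex.exp_eq_exp_iff_exists_int.mp hyz
      have h2 : z - y = (k : ℝ) * (2 * Real.pi) := by
        have := congrArg Complex.im hk
        simp at this
        linarith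
      have hk0 : k = 0 := by
        have h3 := hy.1.1; have h4 := hy.1.2; have h5 := hz'.1.1; have h6 := hz'.1.2
        by_contra hk'
        rcases lt_or_gt_of_ne hk' with hk1 | hk1
        · have : (k : ℝ) ≤ -1 := by exact_mod_cast (by omega : k ≤ -1)
          nlinarith [Real.pi_pos]
        · have : (1 : ℝ) ≤ k := by exact_mod_cast hk1
          nlinarith [Real.pi_pos]
      rw [hk0] at h2; simp at h2; linarith
    have hP : P = 0 := by
      by_contra hP
      exact hS ((Set.mapsTo_image _ _).countable_of_injOn hinj ((Polynomial.finite_setOfPred_isRoot hP).subset hz).countable)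
    refine hv (funext fun j => ?_)
    have := congrArg (Polynomial.coeff · (j : ℕ)) hP
    simpa [P, Polynomial.finsetSum_coeff, Polynomial.coeff_C_mul_X_pow, Fin.val_inj] using this
  have hpos' : 0 < ∫ y in (0:ℝ)..(2 * Real.pi), (h y).re :=
    intervalIntegral.integral_pos Real.two_pi_pos (Complex.continuous_re.comp hhc).continuousOn
      (fun y _ => by rw [hre]; exact mul_nonneg (hnn y) (Complex.normSq_nonneg _)) hex
  have hc := Complex.reCLM.intervalIntegral_comp_comm (hhc.intervalIntegrable (μ := MeasureTheory.volume) 0 (2 * Real.pi))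
  simp only [Complex.reCLM_apply] at hc
  rw [hI] at hc
  rw [hc] at hpos'
  rw [Complex.pos_iff]
  refine ⟨?_, (hH.im_star_dotProduct_mulVec_self v).symm⟩
  have : ((2 * Real.pi : ℂ) * (star v ⬝ᵥ A.mulVec v)).re = 2 * Real.pi * (star v ⬝ᵥ A.mulVec v).re := by
    simp [Complex.mul_re]
  rw [this] at hpos'
  exact (mul_pos_iff_of_pos_left Real.two_pi_pos).mp hpos'

end Groth.Agent.S19019
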