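import Groth.Statements.S19020
import Mathlib

set_option autoImplicit false
open Toeplitz

namespace Groth.Agent.S19020

/-- For natural numbers n and m, the m × m real Toeplitz matrix with (i, j) entry (-1)^(i+j) · C(2n, n +
|i - j|), i.e. with t_k = (-1)^k C(2n, n + k) on the k-th diagonal for |k| ≤ n and zero beyond, is
positive definite; in particular it is nondegenerate, which is the printed assertion (positive
definiteness is what the printed proof establishes; m = 0 is the empty matrix). -/
theorem result (n m : ℕ) :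
    (Matrix.of fun i j : Fin m =>
        (-1 : ℝ) ^ ((i : ℕ) + (j : ℕ)) * (Nat.choose (2 * n) (n + Nat.dist i j) : ℝ)).PosDef := by
  classical
  let G : Matrix (Fin m) (Fin (m + n)) ℝ :=
    fun i k => if (i : ℕ) ≤ k then (-1) ^ (i : ℕ) * (n.choose (k - i) : ℝ) else 0
  have vand : ∀ d, ∑ l ∈ Finset.range (n + 1), n.choose l * n.choose (l + d) = (2 * n).choose (n + d) := by
    intro d
    rw [two_mul, Nat.add_choose_eq, Finset.Nat.sum_antidiagonal_eq_sum_range_succ (fun i j => n.choose i * n.choose j)]
    symm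
    rw [← Finset.sum_subset (s₁ := Finset.range (n + 1)) (Finset.range_mono (by omega))
      (fun x _ hx => by simp [Nat.choose_eq_zero_of_lt (show n < x by simpa using hx)])]
    refine (Finset.sum_range_reflect _ _).symm.trans (Finset.sum_congr rfl fun l hl => ?_)
    rw [Finset.mem_range] at hl
    simp only [Nat.add_sub_cancel]
    rw [Nat.choose_symm (by omega), show n + d - (n - l) = l + d by omega]
  have key : ∀ i j : Fin m, (j : ℕ) ≤ i →
      ∑ k : Fin (m + n), G i k * G j k = (-1 : ℝ) ^ ((i : ℕ) + j) * ((2 * n).choose (n + ((i : ℕ) - j)) : ℝ) := by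
    intro i j hji
    rw [Fin.sum_univ_eq_sum_range (fun k => (if (i : ℕ) ≤ k then (-1) ^ (i : ℕ) * (n.choose (k - i) : ℝ) else 0) *
      (if (j : ℕ) ≤ k then (-1) ^ (j : ℕ) * (n.choose (k - j) : ℝ) else 0))]
    rw [show m + n = (i : ℕ) + (m + n - i) by omega, Finset.sum_range_add,
      Finset.sum_eq_zero (fun k hk => by rw [if_neg (by simpa using hk), zero_mul]), zero_add, ← vand,
      Nat.cast_sum, Finset.mul_sum]
    refine (Finset.sum_subset (Finset.range_mono (by omega)) (fun x _ hx => ?_)).symm.trans (Finset.sum_congr rfl fun l _ => ?_)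
    · simp [Nat.choose_eq_zero_of_lt (show n < x by simpa using hx)]
    · rw [if_pos (by omega), if_pos (by omega), Nat.add_sub_cancel_left, pow_add, Nat.cast_mul,
        show (i : ℕ) + l - j = l + ((i : ℕ) - j) by omega]
      ring
  have hG : (Matrix.of fun i j : Fin m => (-1 : ℝ) ^ ((i : ℕ) + (j : ℕ)) * (Nat.choose (2 * n) (n + Nat.dist i j) : ℝ)) = G * G.conjTranspose := by
    ext i j
    simp only [Matrix.of_apply, Matrix.mul_apply, Matrix.conjTranspose_apply, star_trivial]
    rcases le_total (j : ℕ) (i : ℕ) with h | h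
    · rw [key i j h, Nat.dist_eq_sub_of_le_right h]
    · rw [Finset.sum_congr rfl (fun k _ => mul_comm (G i k) (G j k)), key j i h, Nat.dist_eq_sub_of_le h, add_comm (j : ℕ)]
  rw [hG]
  refine Matrix.PosDef.mul_conjTranspose_self G ?_
  intro v w hvw
  rw [← sub_eq_zero]
  have h0 : Matrix.vecMul (v - w) G = 0 := by rw [Matrix.sub_vecMul]; exact sub_eq_zero.mpr hvw
  funext i
  obtain ⟨a, ha⟩ := i
  induction a using Nat.strong_induction_on with
  | _ a ih =>
    have h1 := congrFun h0 ⟨a, by omega⟩
    rw [Matrix.vecMul, dotProduct, Finset.sum_eq_single (⟨a, ha⟩ : Fin m) (fun b _ hb => ?_) (by simp)] at h1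
    · simpa [G] using h1
    · rcases lt_or_gt_of_ne (fun h => hb (Fin.ext h) : (b : ℕ) ≠ a) with h | h
      · rw [ih b h b.2, Pi.zero_apply, zero_mul]
      · simp only [G]
        rw [if_neg (show ¬ (b : ℕ) ≤ a by omega), mul_zero]

end Groth.Agent.S19020
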