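import Groth.Statements.S19021
import Mathlib
import Groth.Agent.S19020

set_option autoImplicit false
open Toeplitz

namespace Groth.Agent.S19021

/-- For natural numbers n and m, the m × m integer Toeplitz matrix with (i, j) entry (-1)^(i+j) ·
C(2n+1, n+1+i-j) (the binomial coefficient being 0 outside the range 0 ≤ n+1+i-j ≤ 2n+1;
equivalently s_k = (-1)^k C(2n+1, n+k+1) on the diagonal i - j = k for -n-1 ≤ k ≤ n and zero beyond)
is nondegenerate: its determinant is nonzero (m = 0 is the empty matrix, of determinant 1). -/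
theorem result (n m : ℕ) :
    (Matrix.of fun i j : Fin m =>
        (-1 : ℤ) ^ ((i : ℕ) + (j : ℕ)) *
          (if (j : ℕ) ≤ (i : ℕ) then (Nat.choose (2 * n + 1) (n + 1 + ((i : ℕ) - (j : ℕ))) : ℤ)
            else (Nat.choose (2 * n + 1) (n + ((j : ℕ) - (i : ℕ))) : ℤ))).det ≠ 0 := by
  classical
  set S : Matrix (Fin m) (Fin m) ℤ := Matrix.of fun i j : Fin m => (-1 : ℤ) ^ ((i : ℕ) + (j : ℕ)) *
      (if (j : ℕ) ≤ (i : ℕ) then (Nat.choose (2 * n + 1) (n + 1 + ((i : ℕ) - (j : ℕ))) : ℤ)
        else (Nat.choose (2 * n + 1) (n + ((j : ℕ) - (i : ℕ))) : ℤ)) with hS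
  let M : Matrix (Fin m) (Fin m) ℝ := S.map (Int.castRingHom ℝ)
  have key : M + M.transpose = Matrix.of fun i j : Fin m => (-1 : ℝ) ^ ((i : ℕ) + (j : ℕ)) * (Nat.choose (2 * (n + 1)) (n + 1 + Nat.dist i j) : ℝ) := by
    ext i j
    simp only [M, hS, Matrix.add_apply, Matrix.transpose_apply, Matrix.map_apply, Matrix.of_apply, map_mul, map_pow, map_neg, map_one, apply_ite (Int.castRingHom ℝ), map_natCast]
    rw [add_comm (j : ℕ) (i : ℕ), ← mul_add]
    congr 1
    rcases lt_trichotomy (i : ℕ) (j : ℕ) with h | h | h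
    · rw [if_neg (by omega), if_pos h.le, Nat.dist_eq_sub_of_le h.le, ← Nat.cast_add,
        show 2 * (n + 1) = (2 * n + 1) + 1 by omega, show n + 1 + ((j : ℕ) - i) = (n + ((j : ℕ) - i)) + 1 by omega]
      exact congrArg Nat.cast (Nat.choose_succ_succ _ _).symm
    · rw [h, if_pos le_rfl, Nat.dist_self, ← Nat.cast_add, Nat.sub_self, Nat.add_zero, show 2 * (n + 1) = (2 * n + 1) + 1 by omega,
        Nat.add_zero, show (2 * n + 1 + 1).choose (n + 1) = (2 * n + 1).choose n + (2 * n + 1).choose (n + 1) from Nat.choose_succ_succ _ _, Nat.choose_symm_half]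
    · rw [if_pos h.le, if_neg (by omega), Nat.dist_eq_sub_of_le_right h.le, ← Nat.cast_add, add_comm,
        show 2 * (n + 1) = (2 * n + 1) + 1 by omega, show n + 1 + ((i : ℕ) - j) = (n + ((i : ℕ) - j)) + 1 by omega]
      exact congrArg Nat.cast (Nat.choose_succ_succ _ _).symm
  intro hdet
  have h0 : M.det = 0 := by
    show (S.map (Int.castRingHom ℝ)).det = 0
    rw [← RingHom.mapMatrix_apply, ← RingHom.map_det, hdet, map_zero]
  obtain ⟨v, hv, hMv⟩ := Matrix.exists_mulVec_eq_zero_iff.mpr h0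
  have hp := (S19020.result (n + 1) m).dotProduct_mulVec_pos hv
  rw [← key, Matrix.add_mulVec, dotProduct_add, hMv, dotProduct_zero, zero_add, star_trivial, Matrix.mulVec_transpose,
    dotProduct_comm, ← Matrix.dotProduct_mulVec, hMv, dotProduct_zero] at hp
  exact lt_irrefl 0 hp

end Groth.Agent.S19021
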