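import Groth.Statements.S19022
import Groth.Agent.FlatLocus.ModInjFlat
import Groth.Agent.AmpleLib.Tensor
import Groth.Agent.InvExt.Main
import Groth.Agent.S16031

set_option autoImplicit false
universe u
open CategoryTheory AlgebraicGeometry
open PicF

namespace Groth.Agent.S19022

open AlgebraicGeometry CategoryTheory Groth.Agent.ParaFLib Groth.Agent.AmpleLib FlatLocus


/-- Let X be a scheme, L an invertible O_X-module and T a finite set of closed points of X that lies in
some affine open of X. Then T lies in an affine open U of X on which L is trivial (L restricted to U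
is isomorphic to the structure sheaf). (The source states this for a smooth quasi-projective complex
surface, where every finite set of points lies in an affine open, and phrases it as: X^n and the
symmetric product S^n X are covered by the opens U^n and S^n U with U affine and L trivial on U; the
printed argument uses only that the finitely many points lie in one affine open, which is taken as
the hypothesis here.) -/
theorem result
    (X : Scheme.{u}) (L : X.Modules) (hL : PicF.IsInvertible L)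
    (T : Finset X) (hT : ∀ x ∈ T, IsClosed ({x} : Set X))
    (hU : ∃ U : X.Opens, IsAffineOpen U ∧ ∀ x ∈ T, x ∈ U) :
    ∃ U : X.Opens, IsAffineOpen U ∧ (∀ x ∈ T, x ∈ U) ∧
      Nonempty (L.restrict U.ι ≅ Coh.structureModule (↑U : Scheme.{u})) := by
  classical
  obtain ⟨U, hU, hTU⟩ := hU
  haveI : Coh.IsQCoh L := InvExt.isQCoh_of_isInvertible hL
  let P : ↥T → Ideal Γ(X, U) := fun x => (hU.primeIdealOf ⟨x.1, hTU x.1 x.2⟩).asIdeal
  have hP : ∀ x y : ↥T, x ≠ y → ∃ a ∈ P y, a ∉ P x := by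
    intro x y hxy
    by_contra hc
    push_neg at hc
    have h1 : hU.primeIdealOf ⟨y.1, hTU y.1 y.2⟩ ⤳ hU.primeIdealOf ⟨x.1, hTU x.1 x.2⟩ :=
      (PrimeSpectrum.le_iff_specializes _ _).1 fun a ha => hc a ha
    have h2 := h1.map hU.fromSpec.continuous
    rw [hU.fromSpec_primeIdealOf, hU.fromSpec_primeIdealOf] at h2
    exact hxy (Subtype.ext (h2.mem_closed (hT y.1 y.2) rfl))
  choose z hz hz' using hP
  let c : ↥T → Γ(X, U) := fun x => ∏ y : {y : ↥T // y ≠ x}, z x y.1 (Ne.symm y.2)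
  have hc : ∀ x, c x ∉ P x := fun x h => by
    haveI : (P x).IsPrime := (hU.primeIdealOf ⟨x.1, hTU x.1 x.2⟩).2
    obtain ⟨y, -, hy⟩ := Ideal.IsPrime.prod_mem_iff.1 h
    exact hz' x y.1 _ hy
  have hc' : ∀ x y, x ≠ y → c x ∈ P y := fun x y hxy => by
    exact Ideal.prod_mem _ (Finset.mem_univ (⟨y, hxy.symm⟩ : {y : ↥T // y ≠ x})) (hz x y _)
  have hσx : ∀ x : ↥T, ∃ σ : Γ(L, U), Function.Bijective fun r : X.presheaf.stalk (x.1 : X) => r • L.presheaf.germ U x.1 (hTU x.1 x.2) σ := by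
    intro x
    obtain ⟨e, he⟩ := exists_stalk_gen hL x.1
    letI := Module.compHom (L.presheaf.stalk x.1) (X.presheaf.germ U x.1 (hTU x.1 x.2)).hom
    haveI := isLocalizedModule_germL L hU x.1 (hTU x.1 x.2)
    obtain ⟨⟨m, s⟩, hms⟩ := IsLocalizedModule.surj (hU.primeIdealOf ⟨x.1, hTU x.1 x.2⟩).asIdeal.primeCompl (germL L U x.1 (hTU x.1 x.2)) e
    refine ⟨m, ?_⟩
    have hu : IsUnit (X.presheaf.germ U x.1 (hTU x.1 x.2) s.1) := by
      rw [← Scheme.mem_basicOpen]
      have h : hU.fromSpec (hU.primeIdealOf ⟨x.1, hTU x.1 x.2⟩) ∈ X.basicOpen s.1 ↔ _ := SetLike.ext_iff.mp (hU.fromSpec_preimage_basicOpen s.1) (hU.primeIdealOf ⟨x.1, hTU x.1 x.2⟩)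
      rw [hU.fromSpec_primeIdealOf] at h
      exact h.2 s.2
    have hm : L.presheaf.germ U x.1 (hTU x.1 x.2) m = X.presheaf.germ U x.1 (hTU x.1 x.2) s.1 • e := hms.symm
    obtain ⟨v, hv⟩ := hu
    have : (fun r : X.presheaf.stalk x.1 => r • L.presheaf.germ U x.1 (hTU x.1 x.2) m) = (fun r => r • e) ∘ fun r => r * v.1 :=
      funext fun r => by simp only [Function.comp_apply, hm, ← hv, mul_smul]
    rw [this]
    exact he.comp v.mulRight.bijective
  choose σ hσ using hσx
  let τ : Γ(L, U) := ∑ x : ↥T, c x • σ x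
  have hτ : ∀ x : ↥T, Function.Bijective fun r : X.presheaf.stalk (x.1 : X) => r • L.presheaf.germ U x.1 (hTU x.1 x.2) τ := by
    intro x
    have hexp : L.presheaf.germ U x.1 (hTU x.1 x.2) τ = ∑ y : ↥T, X.presheaf.germ U x.1 (hTU x.1 x.2) (c y) • L.presheaf.germ U x.1 (hTU x.1 x.2) (σ y) := by
      simp only [τ, map_sum, germ_smul']
    choose r hr using fun y => (hσ x).2 (L.presheaf.germ U x.1 (hTU x.1 x.2) (σ y))
    let a := ∑ y : ↥T, X.presheaf.germ U x.1 (hTU x.1 x.2) (c y) * r y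
    have hτa : L.presheaf.germ U x.1 (hTU x.1 x.2) τ = a • L.presheaf.germ U x.1 (hTU x.1 x.2) (σ x) := by
      rw [hexp, Finset.sum_smul]
      exact Finset.sum_congr rfl fun y _ => by rw [mul_smul]; exact congrArg _ (hr y).symm
    have hmem : ∀ b, IsUnit (X.presheaf.germ U x.1 (hTU x.1 x.2) b) ↔ b ∉ P x := fun b => by
      rw [← Scheme.mem_basicOpen]
      have h : hU.fromSpec (hU.primeIdealOf ⟨x.1, hTU x.1 x.2⟩) ∈ X.basicOpen b ↔ _ := SetLike.ext_iff.mp (hU.fromSpec_preimage_basicOpen b) (hU.primeIdealOf ⟨x.1, hTU x.1 x.2⟩)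
      rw [hU.fromSpec_primeIdealOf] at h
      exact h
    have ha : IsUnit a := by
      rw [← IsLocalRing.notMem_maximalIdeal]
      intro hmax
      have hrx : r x = 1 := (hσ x).1 ((hr x).trans (one_smul _ _).symm)
      have h2 : X.presheaf.germ U x.1 (hTU x.1 x.2) (c x) * r x ∈ IsLocalRing.maximalIdeal (X.presheaf.stalk x.1) := by
        have := Ideal.sum_mem (t := Finset.univ.erase x) (f := fun y => X.presheaf.germ U x.1 (hTU x.1 x.2) (c y) * r y) (IsLocalRing.maximalIdeal (X.presheaf.stalk x.1))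
          fun y hy => Ideal.mul_mem_right _ _ ((IsLocalRing.mem_maximalIdeal _).2 fun hu => (hmem _).1 hu (hc' y x (Finset.ne_of_mem_erase hy)))
        have h3 := Ideal.sub_mem _ hmax this
        rwa [show a = _ from (Finset.add_sum_erase _ _ (Finset.mem_univ x)).symm, add_sub_cancel_right] at h3
      rw [hrx, mul_one] at h2
      exact (IsLocalRing.mem_maximalIdeal _).1 h2 ((hmem _).2 (hc x))
    obtain ⟨v, hv⟩ := ha
    have : (fun r : X.presheaf.stalk (x.1 : X) => r • L.presheaf.germ U x.1 (hTU x.1 x.2) τ) = (fun r => r • L.presheaf.germ U x.1 (hTU x.1 x.2) (σ x)) ∘ fun r => r * v.1 :=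
      funext fun r => by simp only [Function.comp_apply, hτa, ← hv, mul_smul]
    rw [this]
    exact (hσ x).comp v.mulRight.bijective
  have hnhd : ∀ x : ↥T, ∃ (O : X.Opens) (hO : O ≤ U), (x.1 : X) ∈ O ∧ Gen O (L.presheaf.map (homOfLE hO).op τ) := by
    intro x
    obtain ⟨W, e, hxW, he⟩ := exists_gen_nhd hL x.1
    obtain ⟨a, ha⟩ := (he (W ⊓ U) inf_le_left).2 (L.presheaf.map (homOfLE (inf_le_right : W ⊓ U ≤ U)).op τ)
    have hxWU : (x.1 : X) ∈ W ⊓ U := ⟨hxW, hTU x.1 x.2⟩
    have hu : IsUnit (X.presheaf.germ _ x.1 hxWU a) := by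
      obtain ⟨b, hb⟩ := (hτ x).2 (L.presheaf.germ W x.1 hxW e)
      refine IsUnit.of_mul_eq_one b ((he.bijective_germ x.1 hxW).1 ?_)
      show (_ * b) • _ = (1 : X.presheaf.stalk x.1) • _
      rw [one_smul, mul_comm, mul_smul]
      refine (congrArg (b • ·) ?_).trans hb
      rw [← TopCat.Presheaf.germ_res_apply L.presheaf (homOfLE (inf_le_right : W ⊓ U ≤ U)) x.1 hxWU τ, ← ha, germ_smul', TopCat.Presheaf.germ_res_apply]
    have hle : X.basicOpen a ≤ W ⊓ U := X.basicOpen_le a
    refine ⟨X.basicOpen a, hle.trans inf_le_right, (X.mem_basicOpen a x.1 hxWU).2 hu, ?_⟩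
    rw [← res_res (inf_le_right : W ⊓ U ≤ U) hle, ← ha, L.map_smul, res_res]
    exact (he.res (hle.trans inf_le_left)).smul (RingedSpace.isUnit_res_basicOpen _ a)
  choose O hO hxO hGen using hnhd
  obtain ⟨g, hgO, hTg⟩ := S16031.exists_basicOpen_finite hU (⨆ x, O x) T.finite_toSet (fun x hx => hTU x hx)
    (fun x hx => TopologicalSpace.Opens.mem_iSup.2 ⟨⟨x, hx⟩, hxO ⟨x, hx⟩⟩)
  refine ⟨X.basicOpen g, hU.basicOpen g, fun x hx => hTg hx, nonempty_iso_of_gen (s := L.presheaf.map (homOfLE (X.basicOpen_le g)).op τ) (gen_of_germ fun y hy => ?_)⟩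
  obtain ⟨x, hyx⟩ := TopologicalSpace.Opens.mem_iSup.1 (hgO hy)
  have := (hGen x).bijective_germ y hyx
  rw [TopCat.Presheaf.germ_res_apply] at this ⊢
  exact this

end Groth.Agent.S19022
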