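import Groth.Statements.S19025
-- import your own Groth.Agent.* helpers here

set_option autoImplicit false
universe u
open HigherRestr

namespace Groth.Agent.S19025

/-- In abstract form, the estimate its proof establishes. Let S be a commutative ring, I an ideal of S,
g₀ and g₁ elements with g₁ - g₀ ∈ I, N a natural number and y a sequence in S such that, for 1 ≤ i ≤
N, the (N-i)-fold unit-step forward difference of y taken at i lies in I^(N-i). Then g₀^N times the
N-fold forward difference of y at 0, minus the N-fold forward difference at 0 of the twisted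
sequence j ↦ g₀^(N-j) g₁^j y_j, lies in I^N. (In the source S is the ring of functions on an affine
chart of X^n, I the ideal of a pairwise diagonal, g₀ and g₁ the two pullbacks of a transition unit
of L, and y_j the components x_λ along the compositions a₀^(N-j) a₁^j μ; the estimate is what makes
the higher order restrictions D^l_L well defined on ker D^(l-1)_L independently of the
trivialisation.) -/
theorem result
    (S : Type u) [CommRing S] (I : Ideal S) (g₀ g₁ : S) (hg : g₁ - g₀ ∈ I)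
    (N : ℕ) (y : ℕ → S)
    (hy : ∀ i : ℕ, 1 ≤ i → i ≤ N → (fwdDiff (1 : ℕ))^[N - i] y i ∈ I ^ (N - i)) :
    g₀ ^ N * (fwdDiff (1 : ℕ))^[N] y 0 -
        (fwdDiff (1 : ℕ))^[N] (fun j : ℕ => g₀ ^ (N - j) * g₁ ^ j * y j) 0 ∈ I ^ N := by
  have hΔ : ∀ (n : ℕ) (z : ℕ → S) (i : ℕ),
      (fwdDiff (1 : ℕ))^[n + 1] z i = (fwdDiff (1 : ℕ))^[n] z (i + 1) - (fwdDiff (1 : ℕ))^[n] z i := by
    intro n z i
    rw [Function.iterate_succ_apply']
    rfl
  have hshift : ∀ (n : ℕ) (z : ℕ → S) (i : ℕ),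
      (fwdDiff (1 : ℕ))^[n] (fun j => z (j + 1)) i = (fwdDiff (1 : ℕ))^[n] z (i + 1) := by
    intro n
    induction n with
    | zero => intro z i; rfl
    | succ n ih => intro z i; rw [hΔ, hΔ, ih, ih]
  let F : ℕ → (ℕ → S) → S := fun n z => (fwdDiff (1 : ℕ))^[n] (fun j => g₀ ^ (n - j) * g₁ ^ j * z j) 0
  have hlin : ∀ (n : ℕ) (a b : S) (z w : ℕ → S) (m : ℕ), ∀ (u : ℕ → S),
      (∀ j ≤ n + m, u j = a * z j + b * w j) →
      ∀ i ≤ m, (fwdDiff (1 : ℕ))^[n] u i = a * (fwdDiff (1 : ℕ))^[n] z i + b * (fwdDiff (1 : ℕ))^[n] w i := by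
    intro n
    induction n with
    | zero => intro a b z w m u h i hi; exact h i (by omega)
    | succ n ih =>
      intro a b z w m u h i hi
      rw [hΔ, hΔ, hΔ, ih a b z w (m + 1) u (fun j hj => h j (by omega)) (i + 1) (by omega),
        ih a b z w (m + 1) u (fun j hj => h j (by omega)) i (by omega)]
      ring
  have hF : ∀ (n : ℕ) (z : ℕ → S),
      F (n + 1) z = g₁ * F n (fun j => z (j + 1)) - g₀ * F n z := by
    intro n z
    show (fwdDiff (1 : ℕ))^[n + 1] _ 0 = _
    rw [hΔ, ← hshift, hlin n g₁ 0 (fun j => g₀ ^ (n - j) * g₁ ^ j * z (j + 1)) 0 0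
        (fun j => g₀ ^ (n + 1 - (j + 1)) * g₁ ^ (j + 1) * z (j + 1)) (fun j hj => by
          rw [Nat.add_sub_add_right, pow_succ]; ring) 0 le_rfl,
      hlin n g₀ 0 (fun j => g₀ ^ (n - j) * g₁ ^ j * z j) 0 0
        (fun j => g₀ ^ (n + 1 - j) * g₁ ^ j * z j) (fun j hj => by
          rw [Nat.succ_sub (show j ≤ n by omega), pow_succ]; ring) 0 le_rfl]
    simp only [F, zero_mul, add_zero]
  suffices key : ∀ (n k : ℕ) (z : ℕ → S),
      (∀ i, 1 ≤ i → i ≤ n → (fwdDiff (1 : ℕ))^[n - i] z i ∈ I ^ (n - i + k)) →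
      g₀ ^ n * (fwdDiff (1 : ℕ))^[n] z 0 - F n z ∈ I ^ (n + k) from key N 0 y hy
  intro n
  induction n with
  | zero =>
    intro k z _
    simp [F]
  | succ n ih =>
    intro k z hz
    let w : ℕ → S := fun j => z (j + 1)
    let D : ℕ → S := fun j => z (j + 1) - z j
    have hD : g₀ ^ n * (fwdDiff (1 : ℕ))^[n] D 0 - F n D ∈ I ^ (n + (k + 1)) := ih (k + 1) D fun i h1 h2 => by
      rw [hlin (n - i) 1 (-1) w z i D (fun j _ => by simp [D, w]; ring) i le_rfl, hshift, one_mul,
        neg_one_mul, ← sub_eq_add_neg, ← hΔ]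
      have := hz i h1 (by omega)
      rwa [Nat.succ_sub h2, Nat.succ_add, ← Nat.add_succ] at this
    have hw : g₀ ^ n * (fwdDiff (1 : ℕ))^[n] w 0 - F n w ∈ I ^ (n + k) := ih k w fun i h1 h2 => by
      rw [hshift]
      have := hz (i + 1) (by omega) (by omega)
      rwa [Nat.add_sub_add_right] at this
    have hFw : F n w ∈ I ^ (n + k) := by
      have h1 : g₀ ^ n * (fwdDiff (1 : ℕ))^[n] w 0 ∈ I ^ (n + k) := by
        rw [hshift]
        have := hz 1 le_rfl (by omega)
        exact Ideal.mul_mem_left _ _ (by simpa using this)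
      have h2 := sub_mem h1 hw
      rwa [sub_sub_cancel] at h2
    have hFD : F n D = F n w - F n z := by
      show (fwdDiff (1 : ℕ))^[n] _ 0 = _
      rw [hlin n 1 (-1) (fun j => g₀ ^ (n - j) * g₁ ^ j * w j) (fun j => g₀ ^ (n - j) * g₁ ^ j * z j) 0
        (fun j => g₀ ^ (n - j) * g₁ ^ j * D j) (fun j _ => by simp [D, w]; ring) 0 le_rfl]
      simp only [F]; ring
    have hDz : (fwdDiff (1 : ℕ))^[n] D 0 = (fwdDiff (1 : ℕ))^[n + 1] z 0 := by
      rw [hlin n 1 (-1) w z 0 D (fun j _ => by simp [D, w]; ring) 0 le_rfl, hshift, hΔ]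
      ring
    rw [hF, show n + 1 + k = n + (k + 1) by omega]
    rw [hDz, hFD] at hD
    have e : g₀ ^ (n + 1) * (fwdDiff (1 : ℕ))^[n + 1] z 0 - (g₁ * F n w - g₀ * F n z) =
        g₀ * (g₀ ^ n * (fwdDiff (1 : ℕ))^[n + 1] z 0 - (F n w - F n z)) - (g₁ - g₀) * F n w := by ring
    rw [e]
    refine sub_mem (Ideal.mul_mem_left _ _ hD) ?_
    rw [show n + (k + 1) = (n + k) + 1 by omega, pow_succ']
    exact Ideal.mul_mem_mul hg hFw

end Groth.Agent.S19025
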