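import Groth.Statements.S19027
import Groth.Agent.SubAdjLib.Rows

set_option autoImplicit false
universe u
open CategoryTheory CategoryTheory.Limits AlgebraicGeometry
attribute [local instance] HasDerivedCategory.standard
open Curves

namespace Groth.Agent.S19027

open CategoryTheory CategoryTheory.Limits AlgebraicGeometry

set_option backward.isDefEq.respectTransparency false
set_option backward.isDefEq.respectTransparency.types false
set_option linter.style.haveILetI false
set_option maxHeartbeats 1000000
open Groth.Agent.SubAdjLib Groth.Agent.CliffCurveLib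
attribute [local instance] HasDerivedCategory.standard


/-- Let k be an algebraically closed field and X a connected reduced Gorenstein curve over k of genus g
≥ 2: X is proper over k, reduced, connected, of dimension one, and its dualizing module ω_X (the
degree −1 cohomology sheaf of f^! O for the structure morphism f, for any choice of the data Rf_* on
D_QCoh with its right adjoint) is invertible; g = dim_k H^1(X, O_X). A connected subcurve Z of X is
a reduced connected closed subscheme of dimension one, deg_Z of a module means the degree of its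
pullback to Z, g_Z = dim_k H^1(Z, O_Z), and k_Z is the length (k-dimension of global sections of the
structure sheaf) of the scheme-theoretic intersection of Z with the reduced closed subscheme
supported on the closure of X ∖ Z. Let L be an invertible module of degree d which is balanced: for
every connected subcurve Z, |deg_Z L − (d/(2g−2)) deg_Z ω_X| ≤ k_Z/2 (written cleared of
denominators). Assume d > 3(g − 1). Under this bound, ampleness of L is equivalent to X being
G-quasistable together with deg_Z L = 1 on each exceptional subcurve Z; here G-quasistable means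
that deg_Z ω_X ≥ 0 for every connected subcurve Z and that every exceptional subcurve Z (connected,
with deg_Z ω_X = 0) is irreducible (for an exceptional subcurve, irreducibility is equivalent to
being a projective line, since such a subcurve has genus zero and meets the rest of X in a scheme of
length two). -/
theorem result (k : Type u) [Field k] [IsAlgClosed k] (X : Scheme.{u}) [X.Over (Spec (CommRingCat.of k))]
    [IsProper (X ↘ (Spec (CommRingCat.of k)))] [AlgebraicGeometry.IsReduced X] [ConnectedSpace X] (hdim : topologicalKrullDim X = 1)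
    [DCoh.HasRpush (X ↘ (Spec (CommRingCat.of k)))] (h : DCoh.RpushPreservesQCoh (X ↘ (Spec (CommRingCat.of k)))) [DCoh.HasShriek (X ↘ (Spec (CommRingCat.of k))) h]
    (OY : DCoh.DQCoh (Spec (CommRingCat.of k)))
    (hOY : Nonempty (OY.obj ≅ DCoh.inD (Spec (CommRingCat.of k)) (Coh.structureModule (Spec (CommRingCat.of k)))))
    (hGor : PicF.IsInvertible (DCoh.dualizingMod (X ↘ (Spec (CommRingCat.of k))) h OY 1)) (hg : 2 ≤ Curv2.genus k X)
    (L : X.Modules) (hL : PicF.IsInvertible L)
    (hbal : ∀ J : X.IdealSheafData, AlgebraicGeometry.IsReduced J.subscheme → ConnectedSpace J.subscheme →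
      topologicalKrullDim J.subscheme = 1 →
      |2 * (2 * (Curv2.genus k X : ℤ) - 2) * @Curv2.deg k _ J.subscheme ⟨J.subschemeι ≫ (X ↘ (Spec (CommRingCat.of k)))⟩ ((Scheme.Modules.pullback J.subschemeι).obj L) 1
          - 2 * Curv2.deg k X L 1 * @Curv2.deg k _ J.subscheme ⟨J.subschemeι ≫ (X ↘ (Spec (CommRingCat.of k)))⟩ ((Scheme.Modules.pullback J.subschemeι).obj (DCoh.dualizingMod (X ↘ (Spec (CommRingCat.of k))) h OY 1)) 1|
        ≤ (2 * (Curv2.genus k X : ℤ) - 2) * (Module.finrank k (Coh.HH X (ClSub.quotMod (J ⊔ (Scheme.IdealSheafData.vanishingIdeal ⟨closure ((J.support : Set X)ᶜ), isClosed_closure⟩))) 0) : ℤ))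
    (hd : 3 * ((Curv2.genus k X : ℤ) - 1) < Curv2.deg k X L 1) :
    CohB1.IsAmple L ↔
      ((∀ J : X.IdealSheafData, AlgebraicGeometry.IsReduced J.subscheme → ConnectedSpace J.subscheme →
      topologicalKrullDim J.subscheme = 1 →
        0 ≤ @Curv2.deg k _ J.subscheme ⟨J.subschemeι ≫ (X ↘ (Spec (CommRingCat.of k)))⟩ ((Scheme.Modules.pullback J.subschemeι).obj (DCoh.dualizingMod (X ↘ (Spec (CommRingCat.of k))) h OY 1)) 1) ∧
      (∀ J : X.IdealSheafData, AlgebraicGeometry.IsReduced J.subscheme → ConnectedSpace J.subscheme →
      topologicalKrullDim J.subscheme = 1 →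
        @Curv2.deg k _ J.subscheme ⟨J.subschemeι ≫ (X ↘ (Spec (CommRingCat.of k)))⟩ ((Scheme.Modules.pullback J.subschemeι).obj (DCoh.dualizingMod (X ↘ (Spec (CommRingCat.of k))) h OY 1)) 1 = 0 → IrreducibleSpace J.subscheme) ∧
      (∀ J : X.IdealSheafData, AlgebraicGeometry.IsReduced J.subscheme → ConnectedSpace J.subscheme →
      topologicalKrullDim J.subscheme = 1 →
        @Curv2.deg k _ J.subscheme ⟨J.subschemeι ≫ (X ↘ (Spec (CommRingCat.of k)))⟩ ((Scheme.Modules.pullback J.subschemeι).obj (DCoh.dualizingMod (X ↘ (Spec (CommRingCat.of k))) h OY 1)) 1 = 0 → @Curv2.deg k _ J.subscheme ⟨J.subschemeι ≫ (X ↘ (Spec (CommRingCat.of k)))⟩ ((Scheme.Modules.pullback J.subschemeι).obj L) 1 = 1)) := by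
  haveI := EulerIneqLib.isNoetherian_proper (X := X) k
  have hnum := fun (S : TopologicalSpace.Closeds X) (hS : IsSub S) => num_of_balanced k hdim h OY hOY hGor hL hbal hS
  have hG : (0 : ℤ) < 2 * (Curv2.genus k X : ℤ) - 2 := by omega
  constructor
  · intro hamp
    have hl := fun (S : TopologicalSpace.Closeds X) (hS : IsSub S) => degS_pos_of_ample k hL hdim.le hamp hS
    have hd0 : 0 < Curv2.deg k X L 1 := by
      have := hl ⊤ (isSub_top hdim)
      rwa [degS_top] at this
    have hw : ∀ S, IsSub S → 0 ≤ degS k (DCoh.dualizingMod (X ↘ Spec (CommRingCat.of k)) h OY 1) S := fun S hS => by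
      have n := hnum S hS
      by_contra hneg
      have h1 := n.omega_eq
      have h2 := n.g_nonneg
      rcases n.top_or with ⟨-, h4, -⟩ | h3
      · omega
      · have h5 := n.upper
        rw [show (kc k S : ℤ) = 1 by omega, show degS k (DCoh.dualizingMod (X ↘ Spec (CommRingCat.of k)) h OY 1) S = -1 by omega] at h5
        nlinarith [hl S hS]
    have hone : ∀ S, IsSub S → degS k (DCoh.dualizingMod (X ↘ Spec (CommRingCat.of k)) h OY 1) S = 0 →
        degS k L S = 1 := fun S hS h0 => by
      have h1 := ((hnum S hS).exceptional hG h0).2.2.2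
      have h2 := hl S hS
      omega
    refine ⟨fun J hr hc hd1 => ?_, fun J hr hc hd1 h0 => ?_, fun J hr hc hd1 h0 => ?_⟩
    · obtain ⟨S, hS, rfl⟩ := exists_closeds J hr hc hd1
      rw [deg_eq_degS k hGor]
      exact hw S hS
    · obtain ⟨S, hS, rfl⟩ := exists_closeds J hr hc hd1
      rw [deg_eq_degS k hGor] at h0
      exact irreducibleSpace_vI (irreducible_of_exceptional k hdim.le hGor hL hw hone hS h0)
    · obtain ⟨S, hS, rfl⟩ := exists_closeds J hr hc hd1
      rw [deg_eq_degS k hGor] at h0
      rw [deg_eq_degS k hL]
      exact hone S hS h0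
  · rintro ⟨hss, -, hex⟩
    refine isAmple_of_degS_pos k hL hdim.le fun S hS _ => ?_
    have hw := hss _ (DVRCrit.isReduced_vanishingIdeal S) (connectedSpace_vI hS.1) (dim_vI_eq_one hdim.le hS.2)
    have hx := hex _ (DVRCrit.isReduced_vanishingIdeal S) (connectedSpace_vI hS.1) (dim_vI_eq_one hdim.le hS.2)
    rw [deg_eq_degS k hGor] at hw hx
    rw [deg_eq_degS k hL] at hx
    have n := hnum S hS
    have h2 := n.omega_eq
    have h3 := n.g_nonneg
    rcases lt_or_eq_of_le hw with hw' | hw'
    · rcases n.top_or with ⟨h4, h5, h6⟩ | h4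
      · omega
      · have h1 := n.gt_of_pos (c := 3) hG (by omega) hw'
        omega
    · have := hx hw'.symm
      omega

end Groth.Agent.S19027
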