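import Groth.Statements.S19032
import Groth.Agent.SubAdjLib.Rows
import Groth.Agent.SubAdjLib.NonSpecial
import Groth.Agent.S1606

set_option autoImplicit false
universe u
open CategoryTheory CategoryTheory.Limits AlgebraicGeometry
attribute [local instance] HasDerivedCategory.standard
open Curves

namespace Groth.Agent.S19032

open CategoryTheory CategoryTheory.Limits AlgebraicGeometry

set_option backward.isDefEq.respectTransparency false
set_option backward.isDefEq.respectTransparency.types false
set_option linter.style.haveILetI false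
set_option maxHeartbeats 1000000
open Groth.Agent.SubAdjLib Groth.Agent.CliffCurveLib
attribute [local instance] HasDerivedCategory.standard


/-- Let k be an algebraically closed field and X a connected reduced Gorenstein curve over k of genus g
≥ 2: X is proper over k, reduced, connected, of dimension one, and its dualizing module ω_X (the
degree −1 cohomology sheaf of f^! O for the structure morphism f, for any choice of the data Rf_* on
D_QCoh with its right adjoint) is invertible; g = dim_k H^1(X, O_X). If X is G-semistable, i.e. the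
pullback of ω_X to every reduced connected closed subscheme of dimension one has non-negative
degree, then for every i ≥ 2 the tensor power ω_X^{⊗ i} is non-special (H^1(X, ω_X^{⊗ i}) = 0) and
globally generated. -/
theorem result (k : Type u) [Field k] [IsAlgClosed k] (X : Scheme.{u}) [X.Over (Spec (CommRingCat.of k))]
    [IsProper (X ↘ (Spec (CommRingCat.of k)))] [AlgebraicGeometry.IsReduced X] [ConnectedSpace X] (hdim : topologicalKrullDim X = 1)
    [DCoh.HasRpush (X ↘ (Spec (CommRingCat.of k)))] (h : DCoh.RpushPreservesQCoh (X ↘ (Spec (CommRingCat.of k)))) [DCoh.HasShriek (X ↘ (Spec (CommRingCat.of k))) h]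
    (OY : DCoh.DQCoh (Spec (CommRingCat.of k)))
    (hOY : Nonempty (OY.obj ≅ DCoh.inD (Spec (CommRingCat.of k)) (Coh.structureModule (Spec (CommRingCat.of k)))))
    (hGor : PicF.IsInvertible (DCoh.dualizingMod (X ↘ (Spec (CommRingCat.of k))) h OY 1)) (hg : 2 ≤ Curv2.genus k X)
    (hss : ∀ J : X.IdealSheafData, AlgebraicGeometry.IsReduced J.subscheme → ConnectedSpace J.subscheme →
      topologicalKrullDim J.subscheme = 1 →
      0 ≤ @Curv2.deg k _ J.subscheme ⟨J.subschemeι ≫ (X ↘ (Spec (CommRingCat.of k)))⟩ ((Scheme.Modules.pullback J.subschemeι).obj (DCoh.dualizingMod (X ↘ (Spec (CommRingCat.of k))) h OY 1)) 1)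
    (i : ℕ) (hi : 2 ≤ i) :
    Subsingleton (Coh.HH X (CohB1.tensorPow (DCoh.dualizingMod (X ↘ (Spec (CommRingCat.of k))) h OY 1) i) 1) ∧ Curv2.IsGloballyGenerated (CohB1.tensorPow (DCoh.dualizingMod (X ↘ (Spec (CommRingCat.of k))) h OY 1) i) := by
  haveI := EulerIneqLib.isNoetherian_proper (X := X) k
  have key : ∀ S : TopologicalSpace.Closeds X, IsSub S → 2 * (gS k S : ℤ) - 2 < degS k (CohB1.tensorPow
      (DCoh.dualizingMod (X ↘ Spec (CommRingCat.of k)) h OY 1) i) S ∧ 2 * (gS k S : ℤ) ≤ degS k (CohB1.tensorPow
      (DCoh.dualizingMod (X ↘ Spec (CommRingCat.of k)) h OY 1) i) S := fun S hS => by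
    have hw := hss _ (DVRCrit.isReduced_vanishingIdeal S) (connectedSpace_vI hS.1) (dim_vI_eq_one hdim.le hS.2)
    rw [deg_eq_degS k hGor] at hw
    rw [degS_tensorPow k hGor hdim.le hS]
    have h2 := degS_omega k hdim h OY hOY hGor hS
    have h5 : (kc k S : ℤ) = 0 → degS k (DCoh.dualizingMod (X ↘ Spec (CommRingCat.of k)) h OY 1) S = 2 * (Curv2.genus k X : ℤ) - 2 := fun h0 => by
      by_cases hT : S = ⊤
      · rw [hT]; exact omega_top k hdim h OY hOY hGor
      · have := kc_pos k hdim.le hS hT
        omega
    rw [h2] at hw h5 ⊢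
    have h6 : (2 : ℤ) ≤ (i : ℤ) := by exact_mod_cast hi
    have h7 : (2 : ℤ) * (2 * (gS k S : ℤ) - 2 + kc k S) ≤ (i : ℤ) * (2 * (gS k S : ℤ) - 2 + kc k S) :=
      mul_le_mul_of_nonneg_right h6 hw
    constructor <;> omega
  refine ⟨subsingleton_H1_of_degS k hdim (AmpleLib.isInvertible_tensorPow hGor i) fun S hS => (key S hS).1,
    Groth.Agent.S1606.result k X hdim _ (AmpleLib.isInvertible_tensorPow hGor i) fun J hr hc hd1 => ?_⟩
  obtain ⟨S, hS, rfl⟩ := exists_closeds J hr hc hd1
  rw [deg_eq_degS k (AmpleLib.isInvertible_tensorPow hGor i), ← gS_eq]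
  exact (key S hS).2

end Groth.Agent.S19032
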