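import Mathlib
import Groth.Statements.S19034

set_option autoImplicit false
universe u
open LabGraph

namespace Groth.Agent.S19034

open LabGraph in
/-- Let σ : Z → X be the contraction of some exceptional components of a quasi-wp-stable curve Z of
genus g ≥ 2 onto a quasi-wp-stable curve X, and d a properly balanced multidegree on X; then the
pull-back d̃ of d to Z (d̃_W = d_{σ(W)} when σ(W) is a curve, d̃ = 0 on contracted components) is
balanced. Encode Z by its weighted multigraph (vertices = irreducible components, weight plus number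
of loops = arithmetic genus of the component, one edge per node and two per tacnode joining distinct
components; canDeg Y = deg_Y ω_Z, cut Y = k_Y, K = canDeg of all vertices = 2g − 2; exceptional
vertex = exceptional component), and let S be the set of contracted components, each an exceptional
vertex. The components of X are the vertices outside S; for a set W of them, the subcurve σ(W) of X
has deg ω_X equal to canDeg Ŵ and k equal to cut Ŵ, where Ŵ is W together with the vertices of S all
of whose edges end in W, and the exceptional components of X are the exceptional vertices outside S.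
So the hypotheses below say that d̃ vanishes on S and that d = d̃|_{V∖S} is properly balanced on X
(Basic Inequality 2·|K·d_W − D·canDeg Ŵ| ≤ cut Ŵ·K for every W disjoint from S, D the total degree,
and value 1 on exceptional vertices outside S); the conclusion is the Basic Inequality for d̃ on Z,
for every set of vertices. -/
theorem result {V E : Type u} [Fintype V] [Fintype E]
    [DecidableEq V] [DecidableEq E] (ends : E → V × V) (w : V → ℕ) (hZ : IsQuasistableGraph ends w)
    (hg : 2 ≤ genus ends w) (S : Finset V) (hS : ∀ v ∈ S, IsExceptional ends w v)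
    (dt : V → ℤ) (hzero : ∀ v ∈ S, dt v = 0)
    (hBI : ∀ W : Finset V, Disjoint W S →
      2 * |canDeg ends w Finset.univ * (∑ v ∈ W, dt v) - (∑ v, dt v) * canDeg ends w (Finset.univ.filter (fun v : V => v ∈ W ∨ (v ∈ S ∧ ∀ e : E, ((ends e).1 = v → (ends e).2 ∈ W) ∧ ((ends e).2 = v → (ends e).1 ∈ W))))|
        ≤ (cut ends (Finset.univ.filter (fun v : V => v ∈ W ∨ (v ∈ S ∧ ∀ e : E, ((ends e).1 = v → (ends e).2 ∈ W) ∧ ((ends e).2 = v → (ends e).1 ∈ W)))) : ℤ) * canDeg ends w Finset.univ)
    (hone : ∀ v : V, v ∉ S → IsExceptional ends w v → dt v = 1) :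
    SatisfiesBI ends w dt := by
  classical
  have hno : ∀ v ∈ S, ∀ e, ends e ≠ (v, v) := fun v hv => (hS v hv).2.1
  let inc : V → Finset E := fun v => Finset.univ.filter fun e => (ends e).1 = v ∨ (ends e).2 = v
  have hinc : ∀ v ∈ S, (inc v).card = 2 := by
    intro v hv
    rw [← (hS v hv).2.2, cut]
    congr 1
    ext e
    have := hno v hv e
    simp only [inc, Finset.mem_filter, Finset.mem_univ, true_and, Finset.mem_singleton]
    constructor
    · rintro (h | h)
      · exact Or.inl ⟨h, fun h' => this (Prod.ext h h')⟩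
      · exact Or.inr ⟨fun h' => this (Prod.ext h' h), h⟩
    · rintro (⟨h, -⟩ | ⟨-, h⟩)
      · exact Or.inl h
      · exact Or.inr h
  have hcd : ∀ v ∈ S, 2 * (w v : ℤ) - 2 + (endCount ends Finset.univ v : ℤ) = 0 := by
    intro v hv
    have : endCount ends Finset.univ v = (inc v).card := by
      rw [endCount, Finset.card_filter]
      refine Finset.sum_congr rfl fun e _ => ?_
      have := hno v hv e
      by_cases h1 : (ends e).1 = v <;> by_cases h2 : (ends e).2 = v <;> simp [h1, h2]
      exact this (Prod.ext h1 h2)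
    rw [this, hinc v hv, (hS v hv).1]
    norm_num
  have hadj : ∀ e : E, (ends e).1 ∈ S → (ends e).2 ∉ S := by
    intro e h1 h2
    by_cases heq : (ends e).1 = (ends e).2
    · exact hno _ h1 e (Prod.ext rfl heq.symm)
    · exact hZ.2 e heq ⟨hS _ h1, hS _ h2⟩
  have hK : 0 ≤ canDeg ends w Finset.univ := by
    have hsum : ∑ v, endCount ends Finset.univ v = 2 * Fintype.card E := by
      simp only [endCount]
      rw [Finset.sum_comm]
      simp only [Finset.sum_add_distrib, Finset.sum_ite_eq, Finset.mem_univ, if_true,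
        Finset.sum_const, Finset.card_univ, smul_eq_mul]
      ring
    have : canDeg ends w Finset.univ = 2 * genus ends w - 2 := by
      simp only [canDeg, genus, Finset.sum_add_distrib, Finset.sum_sub_distrib, ← Finset.mul_sum,
        ← Nat.cast_sum, hsum]
      simp
      ring
    linarith
  intro Y
  set W := Y \ S with hW
  set What := Finset.univ.filter (fun v : V => v ∈ W ∨ (v ∈ S ∧ ∀ e : E, ((ends e).1 = v → (ends e).2 ∈ W) ∧ ((ends e).2 = v → (ends e).1 ∈ W))) with hWhat
  have hB := hBI W Finset.sdiff_disjoint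
  rw [← hWhat] at hB
  have hmem : ∀ v, v ∈ What ↔ (v ∈ W ∨ (v ∈ S ∧ ∀ e : E, ((ends e).1 = v → (ends e).2 ∈ W) ∧ ((ends e).2 = v → (ends e).1 ∈ W))) :=
    fun v => by simp [hWhat]
  have hd : ∑ v ∈ Y, dt v = ∑ v ∈ W, dt v := by
    symm
    refine Finset.sum_subset Finset.sdiff_subset fun v hv hvW => hzero v ?_
    by_contra hvS
    exact hvW (Finset.mem_sdiff.mpr ⟨hv, hvS⟩)
  have hc : ∀ Z : Finset V, W ⊆ Z → (∀ v ∈ Z, v ∈ W ∨ v ∈ S) → canDeg ends w Z = canDeg ends w W := by
    intro Z hZ1 hZ2
    symm
    refine Finset.sum_subset hZ1 fun v hv hvW => hcd v ?_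
    exact (hZ2 v hv).resolve_left hvW
  have hcY : canDeg ends w Y = canDeg ends w What := by
    rw [hc Y Finset.sdiff_subset (fun v hv => ?_), hc What (fun v hv => (hmem v).mpr (Or.inl hv))
      (fun v hv => ((hmem v).mp hv).imp id And.left)]
    by_cases hvS : v ∈ S
    · exact Or.inr hvS
    · exact Or.inl (Finset.mem_sdiff.mpr ⟨hv, hvS⟩)
  -- `cut What ≤ cut Y`
  let isCut : Finset V → Finset E := fun Z => Finset.univ.filter fun e : E =>
    ((ends e).1 ∈ Z ∧ (ends e).2 ∉ Z) ∨ ((ends e).1 ∉ Z ∧ (ends e).2 ∈ Z)
  let oth : V → E → V := fun v e => if (ends e).1 = v then (ends e).2 else (ends e).1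
  have hoth : ∀ v ∈ S, ∀ e ∈ inc v, oth v e ∉ S ∧
      ∀ Z : Finset V, e ∈ isCut Z ↔ ¬ (v ∈ Z ↔ oth v e ∈ Z) := by
    intro v hv e he
    simp only [inc, Finset.mem_filter, Finset.mem_univ, true_and] at he
    by_cases h1 : (ends e).1 = v
    · refine ⟨by simp only [oth, h1, if_true]; exact hadj e (h1.symm ▸ hv), fun Z => ?_⟩
      simp only [isCut, oth, h1, if_true, Finset.mem_filter, Finset.mem_univ, true_and]
      tauto
    · have h2 : (ends e).2 = v := he.resolve_left h1
      refine ⟨?_, fun Z => ?_⟩
      · simp only [oth, h1, if_false]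
        exact fun h => hadj e h (h2.symm ▸ hv)
      · simp only [isCut, oth, h1, if_false, h2, Finset.mem_filter, Finset.mem_univ, true_and]
        tauto
  have hWnS : ∀ v ∈ S, v ∉ W := fun v hv h => (Finset.mem_sdiff.mp h).2 hv
  have hWY : ∀ u, u ∉ S → (u ∈ What ↔ u ∈ W) ∧ (u ∈ Y ↔ u ∈ W) := fun u hu =>
    ⟨⟨fun h => ((hmem u).mp h).resolve_right (fun h => hu h.1), fun h => (hmem u).mpr (Or.inl h)⟩,
      ⟨fun h => Finset.mem_sdiff.mpr ⟨h, hu⟩, fun h => Finset.sdiff_subset h⟩⟩
  have hle : cut ends What ≤ cut ends Y := by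
    show (isCut What).card ≤ (isCut Y).card
    suffices h : (isCut What \ isCut Y).card ≤ (isCut Y \ isCut What).card by
      rw [← Finset.card_sdiff_add_card_inter (isCut What) (isCut Y),
        ← Finset.card_sdiff_add_card_inter (isCut Y) (isCut What), Finset.inter_comm]
      lia
    refine Finset.card_le_card_of_forall_subsingleton
      (fun e e' => ∃ v ∈ S, e ∈ inc v ∧ e' ∈ inc v ∧ e ≠ e') ?_ ?_
    · intro e he
      rw [Finset.mem_sdiff] at he
      obtain ⟨v, hv, hev⟩ : ∃ v ∈ S, e ∈ inc v := by
        by_contra hno'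
        push Not at hno'
        have h1 : (ends e).1 ∉ S := fun h => hno' _ h (by simp [inc])
        have h2 : (ends e).2 ∉ S := fun h => hno' _ h (by simp [inc])
        apply he.2
        have := he.1
        simp only [isCut, Finset.mem_filter, Finset.mem_univ, true_and] at this ⊢
        rw [(hWY _ h1).1, (hWY _ h2).1] at this
        rwa [(hWY _ h1).2, (hWY _ h2).2]
      obtain ⟨hu, hcut⟩ := hoth v hv e hev
      have hcW := (hcut What).mp he.1
      have hcYn := mt (hcut Y).mpr he.2
      rw [not_not, (hWY _ hu).2] at hcYn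
      rw [(hWY _ hu).1] at hcW
      have hvn : v ∉ What := by
        intro hvW
        have h3 := (((hmem v).mp hvW).resolve_left (hWnS v hv)).2 e
        apply hcW
        refine iff_of_true hvW ?_
        simp only [oth]
        split
        · next h => exact h3.1 h
        · next h =>
          simp only [inc, Finset.mem_filter, Finset.mem_univ, true_and] at hev
          exact h3.2 (hev.resolve_left h)
      have huW : oth v e ∈ W := by
        by_contra h
        exact hcW (iff_of_false hvn h)
      have hvY : v ∈ Y := hcYn.mpr huW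
      obtain ⟨e', he', he'W⟩ : ∃ e' ∈ inc v, oth v e' ∉ W := by
        by_contra hall
        push Not at hall
        refine hvn ((hmem v).mpr (Or.inr ⟨hv, fun e' => ⟨fun h => ?_, fun h => ?_⟩⟩))
        · simpa [oth, h] using hall e' (by simp [inc, h])
        · have := hall e' (by simp [inc, h])
          have hne : (ends e').1 ≠ v := fun h' => hno v hv e' (Prod.ext h' h)
          simpa [oth, hne] using this
      obtain ⟨hu', hcut'⟩ := hoth v hv e' he'
      refine ⟨e', Finset.mem_sdiff.mpr ⟨(hcut' Y).mpr ?_, mt (hcut' What).mp ?_⟩, v, hv, hev, he',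
        fun h => he'W (h ▸ huW)⟩
      · rw [(hWY _ hu').2]
        exact fun h => he'W (h.mp hvY)
      · rw [not_not, (hWY _ hu').1]
        exact iff_of_false hvn he'W
    · rintro e' - e₁ ⟨-, v₁, hv₁, he₁, he₁', hne₁⟩ e₂ ⟨-, v₂, hv₂, he₂, he₂', hne₂⟩
      have hv : v₁ = v₂ := by
        simp only [inc, Finset.mem_filter, Finset.mem_univ, true_and] at he₁' he₂'
        rcases he₁' with h | h <;> rcases he₂' with h' | h'
        · exact h.symm.trans h'
        · exact absurd (h' ▸ hv₂) (hadj e' (h ▸ hv₁))
        · exact absurd (h ▸ hv₁) (hadj e' (h' ▸ hv₂))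
        · exact h.symm.trans h'
      subst hv
      have h1 : ((inc v₁).erase e').card = 1 := by
        rw [Finset.card_erase_of_mem he₁', hinc v₁ hv₁]
      obtain ⟨a, ha⟩ := Finset.card_eq_one.mp h1
      have m1 : e₁ ∈ (inc v₁).erase e' := Finset.mem_erase.mpr ⟨hne₁, he₁⟩
      have m2 : e₂ ∈ (inc v₁).erase e' := Finset.mem_erase.mpr ⟨hne₂, he₂⟩
      rw [ha, Finset.mem_singleton] at m1 m2
      exact m1.trans m2.symm
  rw [hd, hcY]
  exact hB.trans (mul_le_mul_of_nonneg_right (by exact_mod_cast hle) hK)

end Groth.Agent.S19034
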