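import Groth.Statements.S19035
import Mathlib

set_option autoImplicit false
universe u v w x
open CAlg

namespace Groth.Agent.S19035

/-- Let p be a prime and k a perfect field of characteristic p. Let (A_i) be a directed system of
finitely generated commutative k-algebras, indexed by a nonempty directed preorder, with compatible
k-algebra transition maps, and let B be a finitely generated k-algebra with compatible k-algebra
maps A_i → B which present B as the direct limit of the system (every element of B is the image of
an element of some A_i, and two elements of some A_i with the same image in B have the same image in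
some A_j). Then the p-typical Witt vectors commute with this direct limit: every Witt vector over B
is the image of a Witt vector over some A_i, and two Witt vectors over some A_i with the same image
over B already have the same image over some A_j. (Both finiteness hypotheses matter: for an
arbitrary filtered direct limit of commutative rings either assertion can fail.) -/
theorem result
    (p : ℕ) [Fact p.Prime] (k : Type u) [Field k] [CharP k p] [PerfectRing k p]
    {ι : Type v} [Preorder ι] [IsDirected ι (· ≤ ·)] [Nonempty ι]
    (A : ι → Type w) [∀ i, CommRing (A i)] [∀ i, Algebra k (A i)]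
    [∀ i, Algebra.FiniteType k (A i)]
    (f : ∀ i j, i ≤ j → (A i →ₐ[k] A j))
    (hf : ∀ i j l (hij : i ≤ j) (hjl : j ≤ l) (x : A i),
      f j l hjl (f i j hij x) = f i l (hij.trans hjl) x)
    (B : Type x) [CommRing B] [Algebra k B] [Algebra.FiniteType k B]
    (g : ∀ i, A i →ₐ[k] B)
    (hfg : ∀ i j (hij : i ≤ j) (x : A i), g j (f i j hij x) = g i x)
    (hsurj : ∀ b : B, ∃ i, ∃ x : A i, g i x = b)
    (hinj : ∀ i (x y : A i), g i x = g i y → ∃ j, ∃ hij : i ≤ j, f i j hij x = f i j hij y) :
    (∀ w : WittVector p B, ∃ i, ∃ v : WittVector p (A i),
        WittVector.map (g i).toRingHom v = w) ∧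
    (∀ i (v v' : WittVector p (A i)),
        WittVector.map (g i).toRingHom v = WittVector.map (g i).toRingHom v' →
        ∃ j, ∃ hij : i ≤ j,
          WittVector.map (f i j hij).toRingHom v = WittVector.map (f i j hij).toRingHom v') := by
  classical
  have hub : ∀ (s : Finset ι), ∃ j, ∀ i ∈ s, i ≤ j := fun s => s.exists_le
  constructor
  · intro w
    obtain ⟨G, hG⟩ := (Algebra.FiniteType.out : (⊤ : Subalgebra k B).FG)
    choose I X hX using fun b : B => hsurj b
    obtain ⟨j, hj⟩ := hub (G.image I)
    have hrange : (g j).range = ⊤ := by
      rw [eq_top_iff, ← hG, Algebra.adjoin_le_iff]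
      intro b hb
      exact ⟨f (I b) j (hj _ (Finset.mem_image_of_mem I hb)) (X b), (hfg _ _ _ _).trans (hX b)⟩
    have hs : Function.Surjective (g j) := AlgHom.range_eq_top _ |>.1 hrange
    choose c hc using fun n => hs (w.coeff n)
    exact ⟨j, WittVector.mk p c, WittVector.ext fun n => by simp [WittVector.map_coeff, hc]⟩
  · intro i v v' h
    haveI : IsNoetherianRing (A i) := Algebra.FiniteType.isNoetherianRing k (A i)
    obtain ⟨G, hG⟩ := IsNoetherian.noetherian (RingHom.ker (g i).toRingHom)
    have hkill : ∀ a : G, ∃ j, ∃ hij : i ≤ j, f i j hij (a : A i) = 0 := fun a => by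
      obtain ⟨j, hij, hj⟩ := hinj i (a : A i) 0 (by
        rw [map_zero]; exact (hG ▸ Submodule.subset_span a.2 : (a : A i) ∈ RingHom.ker (g i).toRingHom))
      exact ⟨j, hij, by rw [hj, map_zero]⟩
    choose J hJle hJ using hkill
    obtain ⟨j, hj⟩ := hub (insert i (Finset.univ.image J))
    have hij : i ≤ j := hj i (Finset.mem_insert_self _ _)
    have hker : RingHom.ker (g i).toRingHom ≤ RingHom.ker (f i j hij).toRingHom := by
      rw [← hG, Submodule.span_le]
      intro a ha
      have hle : J ⟨a, ha⟩ ≤ j := hj _ (Finset.mem_insert_of_mem (Finset.mem_image_of_mem J (Finset.mem_univ _)))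
      show f i j hij a = 0
      rw [← hf i (J ⟨a, ha⟩) j (hJle _) hle a, hJ ⟨a, ha⟩, map_zero]
    refine ⟨j, hij, WittVector.ext fun n => ?_⟩
    have hn : g i (v.coeff n) = g i (v'.coeff n) := by
      have := congrArg (fun x => x.coeff n) h
      simpa [WittVector.map_coeff] using this
    have := hker (show v.coeff n - v'.coeff n ∈ RingHom.ker (g i).toRingHom by
      rw [RingHom.mem_ker, map_sub]; exact sub_eq_zero.2 hn)
    rw [RingHom.mem_ker, map_sub, sub_eq_zero] at this
    simpa [WittVector.map_coeff] using this

end Groth.Agent.S19035
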