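import Groth.Statements.S19036


set_option autoImplicit false
universe u
open Instab

namespace Groth.Agent.S19036

open CategoryTheory AlgebraicGeometry

variable {X Y : Scheme.{u}} (f : X ⟶ Y)

theorem spec_eval_fromSpec {V : X.Opens} (hV : IsAffineOpen V) (x : X) (hx : x ∈ V) :
    Spec.map (X.evaluation V x hx) ≫ hV.fromSpec = X.fromSpecResidueField x := by
  rw [Scheme.fromSpecResidueField, ← hV.fromSpecStalk_eq_fromSpecStalk hx, IsAffineOpen.fromSpecStalk,
    ← Spec.map_comp_assoc]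
  rfl

/-- The centres of the valuation rings of one residue field over an affine open of the base. -/
theorem exists_center (hf : ValuativeCriterion f) {U : Y.Opens} (hU : IsAffineOpen U) (ξ : X) (hξ : f ξ ∈ U)
    (R : ValuationSubring (X.residueField ξ))
    (hR : ∀ a, (f.app U ≫ X.evaluation (f ⁻¹ᵁ U) ξ hξ) a ∈ R) :
    ∃ c : X, f c ∈ U ∧ ξ ⤳ c ∧
      (∀ (V : X.Opens), IsAffineOpen V → V ≤ f ⁻¹ᵁ U → c ∈ V → ∀ hξV : ξ ∈ V, ∀ b, X.evaluation V ξ hξV b ∈ R) ∧
      (∀ (V : X.Opens) (hV : IsAffineOpen V), V ≤ f ⁻¹ᵁ U → ∀ (hξV : ξ ∈ V) (hb : ∀ b, X.evaluation V ξ hξV b ∈ R),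
        c = hV.fromSpec (Spec.map (CommRingCat.ofHom ((X.evaluation V ξ hξV).hom.codRestrict R.toSubring hb))
          (IsLocalRing.closedPoint R))) := by
  let K := X.residueField ξ
  let φ := f.app U ≫ X.evaluation (f ⁻¹ᵁ U) ξ hξ
  let i : CommRingCat.of R ⟶ K := CommRingCat.ofHom (algebraMap R K)
  let φR : Γ(Y, U) ⟶ CommRingCat.of R := CommRingCat.ofHom (φ.hom.codRestrict R.toSubring hR)
  have hφ : ∀ (V : X.Opens) (e : V ≤ f ⁻¹ᵁ U) (hξV : ξ ∈ V), f.appLE U V e ≫ X.evaluation V ξ hξV = φ := by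
    intro V e hξV
    simp only [φ, Scheme.evaluation, Scheme.Hom.appLE, Category.assoc]
    erw [TopCat.Presheaf.germ_res_assoc]
  have hw : X.fromSpecResidueField ξ ≫ f = Spec.map i ≫ Spec.map φR ≫ hU.fromSpec := by
    obtain ⟨V, hV, hξV, hVle⟩ := exists_isAffineOpen_mem_and_subset (x := ξ) (U := f ⁻¹ᵁ U) hξ
    rw [← spec_eval_fromSpec hV ξ hξV, Category.assoc, ← hU.SpecMap_appLE_fromSpec f hV hVle,
      ← Spec.map_comp_assoc, hφ V hVle hξV, ← Spec.map_comp_assoc]
    rfl
  let S : ValuativeCommSq f :=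
    { R := R, K := K, i₁ := X.fromSpecResidueField ξ, i₂ := Spec.map φR ≫ hU.fromSpec, commSq := ⟨hw⟩ }
  obtain ⟨⟨⟨l, hl1, hl2⟩⟩, huniq⟩ := Classical.choice (hf S)
  dsimp only [S] at hl1 hl2 huniq
  have hlU : ∀ s, f (l s) ∈ U := fun s => by
    have : (l ≫ f) s ∈ U := by
      rw [hl2]
      exact hU.range_fromSpec.le ⟨Spec.map φR s, rfl⟩
    exact this
  refine ⟨l (IsLocalRing.closedPoint R), hlU _, ?_, ?_, ?_⟩
  · have h1 : (IsLocalRing.closedPoint R) ∈ closure {Spec.map i (IsLocalRing.closedPoint K)} :=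
      specializes_iff_mem_closure.1 (IsLocalRing.specializes_closedPoint _)
    have h2 := (specializes_iff_mem_closure.2 h1).map l.continuous
    have h3 : (Spec.map i ≫ l) (IsLocalRing.closedPoint K) = ξ := by
      rw [show Spec.map i ≫ l = X.fromSpecResidueField ξ from hl1]
      exact Scheme.fromSpecResidueField_apply ξ _
    have h2' : (Spec.map i ≫ l) (IsLocalRing.closedPoint K) ⤳ l (IsLocalRing.closedPoint R) := h2
    rw [h3] at h2'
    exact h2'
  · intro V hV hVle hc hξV b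
    have hrange : Set.range l ⊆ Set.range hV.fromSpec := by
      rintro _ ⟨s, rfl⟩
      rw [hV.range_fromSpec]
      exact ((IsLocalRing.specializes_closedPoint s).map l.continuous).mem_open V.2 hc
    let ψ := IsOpenImmersion.lift hV.fromSpec l hrange
    obtain ⟨β, hβ⟩ : ∃ β : Γ(X, V) ⟶ CommRingCat.of R, Spec.map β = ψ := ⟨Spec.preimage ψ, Spec.map_preimage ψ⟩
    have h1 : Spec.map (β ≫ i) = Spec.map (X.evaluation V ξ hξV) := by
      rw [← cancel_mono hV.fromSpec, spec_eval_fromSpec, Spec.map_comp, Category.assoc, hβ, IsOpenImmersion.lift_fac, ← hl1]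
      rfl
    have h2 := Spec.map_injective h1
    rw [← h2]
    exact (β b).2
  · intro V hV hVle hξV hb
    let βR : Γ(X, V) ⟶ CommRingCat.of R := CommRingCat.ofHom ((X.evaluation V ξ hξV).hom.codRestrict R.toSubring hb)
    have h1 : βR ≫ i = X.evaluation V ξ hξV := rfl
    have h2 : f.appLE U V hVle ≫ βR = φR := by
      ext a
      exact ConcreteCategory.congr_hom (hφ V hVle hξV) a
    have e1 : Spec.map i ≫ Spec.map βR ≫ hV.fromSpec = X.fromSpecResidueField ξ := by
      rw [← Spec.map_comp_assoc, h1, spec_eval_fromSpec]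
    have e2 : (Spec.map βR ≫ hV.fromSpec) ≫ f = Spec.map φR ≫ hU.fromSpec := by
      rw [Category.assoc, ← hU.SpecMap_appLE_fromSpec f hV hVle, ← Spec.map_comp_assoc, h2]
    have := congrArg CommSq.LiftStruct.l (huniq ⟨Spec.map βR ≫ hV.fromSpec, e1, e2⟩)
    exact (congrArg (fun g : Spec (CommRingCat.of R) ⟶ X => g (IsLocalRing.closedPoint R)) this).symm

theorem exists_ring {U : Y.Opens} (hU : IsAffineOpen U) (hf : ValuativeCriterion f)
    (ξ x : X) (hx : f x ∈ U) (h : ξ ⤳ x) (hξ : f ξ ∈ U) :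
    ∃ (R : ValuationSubring (X.residueField ξ)) (hR : ∀ a, (f.app U ≫ X.evaluation (f ⁻¹ᵁ U) ξ hξ) a ∈ R),
      (exists_center f hf hU ξ hξ R hR).choose = x := by
  obtain ⟨R, hR, hloc⟩ := IsLocalRing.exists_factor_valuationRing (X.presheaf.stalkSpecializes h ≫ X.residue ξ).hom
  have hev : ∀ (V : X.Opens) (hxV : x ∈ V) (hξV : ξ ∈ V),
      X.presheaf.germ V x hxV ≫ X.presheaf.stalkSpecializes h ≫ X.residue ξ = X.evaluation V ξ hξV := by
    intro V hxV hξV
    rw [TopCat.Presheaf.germ_stalkSpecializes_assoc]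
    rfl
  have hφR : ∀ a, (f.app U ≫ X.evaluation (f ⁻¹ᵁ U) ξ hξ) a ∈ R := fun a => by
    rw [← hev (f ⁻¹ᵁ U) hx hξ]
    exact hR _
  refine ⟨R, hφR, ?_⟩
  obtain ⟨V, hV, hxV, hVle⟩ := exists_isAffineOpen_mem_and_subset (x := x) (U := f ⁻¹ᵁ U) hx
  have hξV : ξ ∈ V := h.mem_open V.2 hxV
  have hb : ∀ b, X.evaluation V ξ hξV b ∈ R := fun b => by
    rw [← hev V hxV hξV]
    exact hR _
  refine ((exists_center f hf hU ξ hξ R hφR).choose_spec.2.2.2 V hV hVle hξV hb).trans ?_
  let s : X.presheaf.stalk x ⟶ CommRingCat.of R :=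
    CommRingCat.ofHom ((X.presheaf.stalkSpecializes h ≫ X.residue ξ).hom.codRestrict R.toSubring hR)
  have h1 : CommRingCat.ofHom ((X.evaluation V ξ hξV).hom.codRestrict R.toSubring hb) = X.presheaf.germ V x hxV ≫ s := by
    ext b
    exact (ConcreteCategory.congr_hom (hev V hxV hξV) b).symm
  rw [h1, Spec.map_comp]
  show hV.fromSpec (Spec.map (X.presheaf.germ V x hxV) (Spec.map s (IsLocalRing.closedPoint R))) = x
  have h2 : Spec.map s (IsLocalRing.closedPoint R) = IsLocalRing.closedPoint (X.presheaf.stalk x) :=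
    IsLocalRing.comap_closedPoint (S := R) ((X.presheaf.stalkSpecializes h ≫ X.residue ξ).hom.codRestrict R.toSubring hR)
  rw [h2]
  show (Spec.map (X.presheaf.germ V x hxV) ≫ hV.fromSpec) (IsLocalRing.closedPoint (X.presheaf.stalk x)) = x
  rw [show Spec.map (X.presheaf.germ V x hxV) ≫ hV.fromSpec = X.fromSpecStalk x from
    hV.fromSpecStalk_eq_fromSpecStalk hxV]
  exact Scheme.fromSpecStalk_closedPoint

/-- The limit of valuation rings along an ultrafilter. -/
def ultraLimit {α : Type*} {K : Type*} [Field K] (F : Ultrafilter α) (g : α → ValuationSubring K) : ValuationSubring K where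
  carrier := {z | ∀ᶠ i in (F : Filter α), z ∈ g i}
  mul_mem' ha hb := (ha.and hb).mono fun i hi => mul_mem hi.1 hi.2
  one_mem' := Filter.Eventually.of_forall fun i => one_mem _
  add_mem' ha hb := (ha.and hb).mono fun i hi => add_mem hi.1 hi.2
  zero_mem' := Filter.Eventually.of_forall fun i => zero_mem _
  neg_mem' ha := ha.mono fun i hi => neg_mem hi
  mem_or_inv_mem' z := Ultrafilter.eventually_or.1 (Filter.Eventually.of_forall fun i => (g i).mem_or_inv_mem z)

theorem isCompact_preimage [LocallyOfFiniteType f] (hf : ValuativeCriterion f)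
    (hX : (irreducibleComponents ↥X).Finite) {U : Y.Opens} (hU : IsAffineOpen U) :
    IsCompact (f ⁻¹ᵁ U : Set X) := by
  classical
  rw [isCompact_iff_ultrafilter_le_nhds]
  intro F hF
  have hW : ∀ᶠ x in (F : Filter X), x ∈ f ⁻¹ᵁ U := Filter.le_principal_iff.1 hF
  obtain ⟨t, ht, htF⟩ : ∃ t ∈ irreducibleComponents X, t ∈ F := by
    refine (Ultrafilter.finite_sUnion_mem_iff hX).1 ?_
    rw [sUnion_irreducibleComponents]
    exact Filter.univ_mem
  obtain ⟨ξ, hξt⟩ := QuasiSober.sober ht.1 (isClosed_of_mem_irreducibleComponents t ht)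
  have hev : ∀ᶠ x in (F : Filter X), x ∈ f ⁻¹ᵁ U ∧ ξ ⤳ x := by
    filter_upwards [hW, htF] with x h1 h2
    exact ⟨h1, hξt.specializes h2⟩
  obtain ⟨x0, hx0⟩ := hev.exists
  have hξ : f ξ ∈ U := hx0.2.mem_open (f ⁻¹ᵁ U).2 hx0.1
  have hg : ∀ x, ∃ R : ValuationSubring (X.residueField ξ),
      ∃ hR : ∀ a, (f.app U ≫ X.evaluation (f ⁻¹ᵁ U) ξ hξ) a ∈ R,
        (x ∈ f ⁻¹ᵁ U → ξ ⤳ x → (exists_center f hf hU ξ hξ R hR).choose = x) := fun x => by
    by_cases h : x ∈ f ⁻¹ᵁ U ∧ ξ ⤳ x
    · obtain ⟨R, hR, hc⟩ := exists_ring f hU hf ξ x h.1 h.2 hξ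
      exact ⟨R, hR, fun _ _ => hc⟩
    · exact ⟨⊤, fun a => ValuationSubring.mem_top _, fun h1 h2 => absurd ⟨h1, h2⟩ h⟩
  choose g hgR hgc using hg
  obtain ⟨c, hcU, hξc, hc1, -⟩ := exists_center f hf hU ξ hξ (ultraLimit F g)
    (fun a => Filter.Eventually.of_forall fun x => hgR x a)
  refine ⟨c, hcU, ?_⟩
  intro O hO
  obtain ⟨O', hO'sub, hO'open, hcO'⟩ := mem_nhds_iff.1 hO
  obtain ⟨V, hV, hcV, hVsub⟩ := exists_isAffineOpen_mem_and_subset (x := c) (U := (f ⁻¹ᵁ U) ⊓ ⟨O', hO'open⟩) ⟨hcU, hcO'⟩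
  have hVle : V ≤ f ⁻¹ᵁ U := hVsub.trans inf_le_left
  have hξV : ξ ∈ V := hξc.mem_open V.2 hcV
  have hft := f.finiteType_appLE hU hV hVle
  letI := (f.appLE U V hVle).hom.toAlgebra
  obtain ⟨s, hs⟩ := (hft : Algebra.FiniteType Γ(Y, U) Γ(X, V)).out
  have hev2 : ∀ᶠ x in (F : Filter X), ∀ b ∈ s, X.evaluation V ξ hξV b ∈ g x :=
    (Filter.eventually_all_finset s).2 fun b _ => hc1 V hV hVle hcV hξV b
  refine Filter.mem_of_superset (hev.and hev2) ?_
  rintro x ⟨⟨hx, hξx⟩, hxs⟩
  have hb : ∀ b, X.evaluation V ξ hξV b ∈ g x := by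
    intro b
    have hb : b ∈ Algebra.adjoin Γ(Y, U) (s : Set Γ(X, V)) := hs ▸ Algebra.mem_top
    induction hb using Algebra.adjoin_induction with
    | mem z hz => exact hxs z hz
    | algebraMap a =>
      have h1 : X.evaluation V ξ hξV (f.appLE U V hVle a) = (f.app U ≫ X.evaluation (f ⁻¹ᵁ U) ξ hξ) a := by
        rw [← ConcreteCategory.comp_apply]
        congr 1
        simp only [Scheme.evaluation, Scheme.Hom.appLE, Category.assoc]
        erw [TopCat.Presheaf.germ_res_assoc]
      exact h1 ▸ hgR x a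
    | add y z _ _ hy hz => rw [map_add]; exact add_mem hy hz
    | mul y z _ _ hy hz => rw [map_mul]; exact mul_mem hy hz
  have h := (exists_center f hf hU ξ hξ (g x) (hgR x)).choose_spec.2.2.2 V hV hVle hξV hb
  rw [hgc x hx hξx] at h
  refine hO'sub (hVsub ?_).2
  rw [h]
  exact hV.range_fromSpec.le ⟨_, rfl⟩

open CategoryTheory AlgebraicGeometry in
/-- Let f : X → Y be a morphism of schemes which is locally of finite presentation, and for which the
valuative criterion holds (every valuative square over a valuation ring has exactly one lift). When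
X has only finitely many irreducible components, the morphism f is quasi-compact. (The source states
this for algebraic spaces and adds that f is then proper; universal closedness follows from
quasi-compactness and the existence part by the standard criterion, and separatedness from the
uniqueness part once f is quasi-separated. Only the scheme case and the quasi-compactness conclusion
are stated here.) -/
theorem result
    {X Y : Scheme.{u}} (f : X ⟶ Y) [LocallyOfFinitePresentation f]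
    (hf : ValuativeCriterion f) (hX : (irreducibleComponents ↥X).Finite) :
    QuasiCompact f := by
  rw [quasiCompact_iff_forall_isAffineOpen]
  exact fun U hU => isCompact_preimage f hf hX hU

end Groth.Agent.S19036
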