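import Groth.Statements.S19037
import Mathlib

set_option autoImplicit false
universe u v
open scoped Polynomial LaurentPolynomial
open Instab

namespace Groth.Agent.S19037

/-- Affine form over a ring R. Let A be a commutative ℤ-graded R-algebra and t an element of degree −1
(so A is a graded algebra over R[t] with t in degree −1), and let ψ : A[1/t] → R[T, T⁻¹] be an
R-algebra map sending t to T which is graded, in the sense that each homogeneous element of degree n
of A goes to an element of R times T^(−n). Then ψ is obtained by inverting t from an R-algebra map χ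
: A → R[T] (compared through the inclusion of R[T] in R[T, T⁻¹]) if and only if ψ kills t·a for
every homogeneous a of degree 1; such a χ is unique. (The source states this for quasi-coherent
graded algebras over an arbitrary base scheme; the statement is local on the base and is given here
over an affine base.) -/
theorem result
    {R : Type u} {A : Type v} [CommRing R] [CommRing A] [Algebra R A]
    (𝒜 : ℤ → Submodule R A) [GradedAlgebra 𝒜] (t : A) (ht : t ∈ 𝒜 (-1))
    (ψ : Localization.Away t →ₐ[R] R[T;T⁻¹])
    (hψt : ψ (algebraMap A (Localization.Away t) t) = LaurentPolynomial.T 1)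
    (hψ : ∀ (n : ℤ) (a : A), a ∈ 𝒜 n →
      ∃ r : R, ψ (algebraMap A (Localization.Away t) a) = LaurentPolynomial.C r * LaurentPolynomial.T (-n)) :
    (∃! χ : A →ₐ[R] R[X], ∀ a : A,
        ψ (algebraMap A (Localization.Away t) a) = Polynomial.toLaurentAlg (χ a)) ↔
      ∀ a ∈ 𝒜 1, ψ (algebraMap A (Localization.Away t) (t * a)) = 0 := by
  classical
  let φ : A →ₐ[R] R[T;T⁻¹] := ψ.comp (IsScalarTower.toAlgHom R A (Localization.Away t))
  have hφ : ∀ a, φ a = ψ (algebraMap A (Localization.Away t) a) := fun a => rfl
  have hφt : φ t = LaurentPolynomial.T 1 := hψt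
  have hinj : Function.Injective (Polynomial.toLaurentAlg : R[X] →ₐ[R] R[T;T⁻¹]) := by
    rw [Polynomial.coe_toLaurentAlg]; exact Polynomial.toLaurent_injective
  constructor
  · rintro ⟨χ, hχ, -⟩ a ha
    obtain ⟨r, hr⟩ := hψ 1 a ha
    have h1 : Polynomial.toLaurent (Polynomial.X * χ a) = LaurentPolynomial.C r := by
      rw [map_mul, Polynomial.toLaurent_X, ← Polynomial.coe_toLaurentAlg, ← hχ, hr, mul_comm, mul_assoc, ← LaurentPolynomial.T_add]
      simp
    have h2 : Polynomial.X * χ a = Polynomial.C r := Polynomial.toLaurent_injective (h1.trans (Polynomial.toLaurent_C r).symm)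
    have h3 := congrArg (Polynomial.coeff · 0) h2
    simp at h3
    rw [map_mul, map_mul, hψt, hr, ← h3]; simp
  · intro h
    have hz : ∀ n : ℕ, ∀ a ∈ 𝒜 (n + 1 : ℤ), φ a = 0 := by
      intro n
      induction n with
      | zero =>
        intro a ha
        have h1 := h a (by simpa using ha)
        rw [← hφ, map_mul, hφt] at h1
        have h2 := congrArg (LaurentPolynomial.T (-1) * ·) h1
        simpa [← mul_assoc, ← LaurentPolynomial.T_add] using h2
      | succ n ih =>
        intro a ha
        have hta : t * a ∈ 𝒜 (n + 1 : ℤ) := by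
          have := SetLike.mul_mem_graded ht ha
          rwa [show (-1 : ℤ) + ((n + 1 : ℕ) + 1) = n + 1 by push_cast; ring] at this
        have h1 := ih _ hta
        rw [map_mul, hφt] at h1
        have h2 := congrArg (LaurentPolynomial.T (-1) * ·) h1
        simpa [← mul_assoc, ← LaurentPolynomial.T_add] using h2
    have hmem : ∀ a, φ a ∈ (Polynomial.toLaurentAlg : R[X] →ₐ[R] R[T;T⁻¹]).range := by
      intro a
      rw [← DirectSum.sum_support_decompose 𝒜 a, map_sum]
      refine Subalgebra.sum_mem _ fun n _ => ?_
      rcases le_or_gt n 0 with hn | hn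
      · obtain ⟨r, hr⟩ := hψ n _ (DirectSum.decompose 𝒜 a n).2
        obtain ⟨m, rfl⟩ : ∃ m : ℕ, n = -(m : ℤ) := ⟨(-n).toNat, by omega⟩
        exact ⟨Polynomial.C r * Polynomial.X ^ m, by rw [hφ, hr]; simp⟩
      · obtain ⟨m, rfl⟩ : ∃ m : ℕ, n = (m : ℤ) + 1 := ⟨(n - 1).toNat, by omega⟩
        exact ⟨0, by rw [map_zero, hz m _ (DirectSum.decompose 𝒜 a _).2]⟩
    refine ⟨(AlgEquiv.ofInjective _ hinj).symm.toAlgHom.comp (φ.codRestrict _ hmem), fun a => ?_, fun χ hχ => ?_⟩
    · exact (congrArg Subtype.val ((AlgEquiv.ofInjective _ hinj).apply_symm_apply (φ.codRestrict _ hmem a))).symm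
    · refine AlgHom.ext fun a => hinj ?_
      rw [← hχ a]
      exact (congrArg Subtype.val ((AlgEquiv.ofInjective _ hinj).apply_symm_apply (φ.codRestrict _ hmem a))).symm

end Groth.Agent.S19037
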