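import Groth.Statements.S1904
import Groth.Agent.P1DivLib.Point
import Groth.Agent.BivarLib.Basic

set_option autoImplicit false
universe u
open CategoryTheory AlgebraicGeometry
open CategoryTheory.Limits
open Cyc

namespace Groth.Agent.S1904

/-- Let X be integral with δ(η) = n, U ⊆ X a nonempty open and f an invertible function on U, viewed as
a rational function on X. Let Y ⊆ P^1_X be the scheme-theoretic closure of the graph of f and Y_0,
Y_∞ → X its pullbacks along the sections at 0 and ∞. Then div_X(f) = [Y_0]_{n−1} − [Y_∞]_{n−1}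
coefficientwise. A pair (X, δ) with Cyc.IsSetup plays the role of a scheme locally of finite type
over a fixed base with a dimension function (X locally Noetherian with universally catenary local
rings, δ a dimension function), and Cyc.DeltaCompat records that the dimension function upstairs is
the induced one. The published statement has further parts, which are not stated here. -/
theorem result (X : Scheme.{u}) [IsIntegral X] (δ : X → ℤ) (hX : Cyc.IsSetup X δ) (n : ℤ) (hn : δ (genericPoint X) = n) (U : X.Opens) (hη : genericPoint X ∈ U) (f : Γ(X, U)) (hf : IsUnit f) : Cyc.divFun δ (genericPoint X) (X.evaluation U (genericPoint X) hη f) = fun x => Cyc.subschemeFun δ (n - 1) (pullback.snd (P1.graphClosureι X U f) (P1.sect X 0)) x - Cyc.subschemeFun δ (n - 1) (pullback.snd (P1.graphClosureι X U f) (P1.sect X 1)) x := by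
  haveI := hX.1
  obtain ⟨δP, hP⟩ := Groth.Agent.BivarLib.exists_delta (Groth.Agent.P1DivLib.tb X) δ
  have hsP := Groth.Agent.CycLib.isSetup_of_lft (Groth.Agent.P1DivLib.tb X) hX hP
  haveI := hsP.1
  haveI : Nonempty (↑U : Scheme.{u}) := ⟨⟨genericPoint X, hη⟩⟩
  haveI : IsIntegral (↑U : Scheme.{u}) := isIntegral_of_isOpenImmersion U.ι
  have hg : X.evaluation U (genericPoint X) hη f ≠ 0 := (hf.map _).ne_zero
  let σ := Groth.Agent.P1DivLib.σ (genericPoint X) (X.evaluation U (genericPoint X) hη f)
  let ψ : Spec (CommRingCat.of (X.residueField (genericPoint X))) ⟶ (↑U : Scheme.{u}) :=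
    Spec.map (X.residue (genericPoint X)) ≫ U.fromSpecStalkOfMem (genericPoint X) hη
  have hψ : ψ ≫ U.ι = X.fromSpecResidueField (genericPoint X) := by
    show (Spec.map (X.residue (genericPoint X)) ≫ U.fromSpecStalkOfMem (genericPoint X) hη) ≫ U.ι = _
    rw [Category.assoc, Scheme.Opens.fromSpecStalkOfMem_ι]
    rfl
  have hgraph : P1.graph X U f ≫ Groth.Agent.P1DivLib.tb X = U.ι := pullback.lift_snd _ _ _
  haveI : QuasiCompact (P1.graph X U f) := by
    haveI : QuasiCompact (P1.graph X U f ≫ Groth.Agent.P1DivLib.tb X) := by rw [hgraph]; infer_instance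
    exact QuasiCompact.of_comp _ (Groth.Agent.P1DivLib.tb X)
  have hσ : ψ ≫ P1.graph X U f = σ := by
    refine pullback.hom_ext ?_ ?_
    · refine (Category.assoc _ _ _).trans ((congrArg (ψ ≫ ·) (pullback.lift_fst _ _ _)).trans
        (Eq.trans ?_ (Groth.Agent.P1DivLib.σ_prZ _ _).symm))
      show (Spec.map (X.residue (genericPoint X)) ≫ U.fromSpecStalkOfMem (genericPoint X) hη) ≫ U.toSpecΓ ≫ _ = _
      rw [Category.assoc, Scheme.Opens.fromSpecStalkOfMem_toSpecΓ_assoc, ← Spec.map_comp_assoc]
      refine (Category.assoc _ _ _).symm.trans (congrArg (· ≫ Proj.awayι P1.grading.{u} (P1.T 0) (P1.X_mem 0) one_pos) ?_)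
      rw [← Spec.map_comp]
      congr 1
      exact CommRingCat.hom_ext (Groth.Agent.P1DivLib.chartMap_comp 0
        (X.evaluation U (genericPoint X) hη).hom f)
    · rw [Category.assoc]
      refine (congrArg (ψ ≫ ·) hgraph).trans (hψ.trans ?_)
      exact (Groth.Agent.P1DivLib.σ_tb _ _).symm
  obtain ⟨hint, hgen⟩ := Groth.Agent.P1DivLib.isIntegral_image (P1.graph X U f)
  haveI := hint
  haveI : IsClosedImmersion (P1.graphClosureι X U f) :=
    inferInstanceAs (IsClosedImmersion (P1.graph X U f).ker.subschemeι)
  have hpt : P1.graphClosureι X U f (genericPoint (P1.graph X U f).ker.subscheme) =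
      Groth.Agent.P1DivLib.pt (genericPoint X) (X.evaluation U (genericPoint X) hη f) := by
    refine hgen.trans ?_
    have e : genericPoint (↑U : Scheme.{u}) = ψ (IsLocalRing.closedPoint _) := by
      refine U.ι.isOpenEmbedding.injective ?_
      exact (genericPoint_eq_of_isOpenImmersion U.ι).trans ((Scheme.fromSpecResidueField_apply _ _).symm.trans
        (congrArg (fun φ : Spec (CommRingCat.of (X.residueField (genericPoint X))) ⟶ X =>
          φ (IsLocalRing.closedPoint _)) hψ).symm)
    rw [e]
    exact congrArg (fun φ : Spec (CommRingCat.of (X.residueField (genericPoint X))) ⟶ CohB1.ProjSpaceOver 1 X =>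
      φ (IsLocalRing.closedPoint _)) hσ
  funext x
  exact (Groth.Agent.P1DivLib.fibre_sub_eq_divFun _ _ hX hP (n - 1) (by omega) hg (P1.graphClosureι X U f) hpt x).symm

end Groth.Agent.S1904
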