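import Groth.Statements.S3447
import Groth.Agent.FibreDepth.Scheme
-- import your own Groth.Agent.* helpers here

set_option autoImplicit false
open CategoryTheory AlgebraicGeometry
universe u
open EGA43

namespace Groth.Agent.S3447

/-- Let Y be locally Noetherian, f : X ⟶ Y of finite type and x a point of X with y = f x. Then dim
O_{X,x} ≤ dim O_{Y,y} + dim O_{X_y,x}, where X_y is the fibre through x. -/
theorem result {X Y : Scheme.{u}} [IsLocallyNoetherian Y] (f : X ⟶ Y)
    [LocallyOfFiniteType f] [QuasiCompact f] (x : X) :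
    ringKrullDim (X.presheaf.stalk x) ≤
      ringKrullDim (Y.presheaf.stalk (f.base x)) + ringKrullDim ((f.fiber (f.base x)).presheaf.stalk (f.asFiber x)) := by
  haveI : IsLocallyNoetherian X := LocallyOfFiniteType.isLocallyNoetherian f
  let R := Y.presheaf.stalk (f.base x)
  let S := X.presheaf.stalk x
  letI : Algebra R S := (f.stalkMap x).hom.toAlgebra
  haveI : IsLocalHom (algebraMap R S) := inferInstanceAs (IsLocalHom (f.stalkMap x).hom)
  haveI : (IsLocalRing.maximalIdeal S).LiesOver (IsLocalRing.maximalIdeal R) :=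
    ⟨(IsLocalRing.maximalIdeal_comap (algebraMap R S)).symm⟩
  let I := (IsLocalRing.maximalIdeal R).map (algebraMap R S)
  have hI : I ≤ IsLocalRing.maximalIdeal S := Ideal.map_le_iff_le_comap.2
    (IsLocalRing.maximalIdeal_comap (algebraMap R S)).ge
  have h := Ideal.height_le_height_add_of_liesOver (IsLocalRing.maximalIdeal R) (IsLocalRing.maximalIdeal S)
  rw [(FibreDepth.fib_stalk_self f x).2]
  rw [show FibreDepth.fibreIdeal f x = I from rfl, smul_eq_mul, Ideal.mul_top,
    Module.supportDim_quotient_eq_ringKrullDim]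
  haveI : Nontrivial (S ⧸ I) := Ideal.Quotient.nontrivial_iff.mpr
    (ne_top_of_le_ne_top (IsLocalRing.maximalIdeal.isMaximal S).ne_top hI)
  haveI : IsLocalRing (S ⧸ I) := .of_surjective' (Ideal.Quotient.mk I) Ideal.Quotient.mk_surjective
  rw [← IsLocalRing.maximalIdeal_height_eq_ringKrullDim, ← IsLocalRing.maximalIdeal_height_eq_ringKrullDim,
    ← IsLocalRing.maximalIdeal_height_eq_ringKrullDim (R := S ⧸ I),
    ← IsLocalRing.map_maximalIdeal_of_surjective (Ideal.Quotient.mk I) Ideal.Quotient.mk_surjective]
  exact_mod_cast h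

end Groth.Agent.S3447
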