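import Groth.Statements.S19040
import Groth.Agent.ProjMap.Pow
import Groth.Agent.ProjDecompLib.Chart
import Groth.Agent.S2768
import Groth.Agent.S3447
import Groth.Agent.S9356
import Groth.Agent.FlatDim.Scheme
import Groth.Agent.FibreComp.DimSpace

set_option autoImplicit false
universe u
open CategoryTheory CategoryTheory.Limits AlgebraicGeometry
open Cyc

namespace Groth.Agent.S19040

open CategoryTheory CategoryTheory.Limits AlgebraicGeometry

set_option backward.isDefEq.respectTransparency false
set_option backward.defeqAttrib.useBackward true
set_option linter.style.haveILetI false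

theorem smoothOfRelativeDimension_powBase (S : Scheme.{u}) :
    ∀ n, SmoothOfRelativeDimension n (ProjMap.powBase S n) := by
  intro n
  induction n with
  | zero =>
    haveI : IsIso (ProjMap.powBase S 0) := ⟨WidePullback.lift (𝟙 S) (fun i => i.elim0) (fun i => i.elim0),
      WidePullback.hom_ext _ _ _ (fun i => i.elim0) (by rw [Category.assoc, WidePullback.lift_base, Category.comp_id, Category.id_comp]), WidePullback.lift_base _ _ _ _⟩
    infer_instance
  | succ n ih =>
    obtain ⟨ψ, hψ, hψb⟩ := ProjMap.powBase_succ S n
    haveI := hψ
    rw [← hψb]
    haveI := ih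
    haveI := smoothOfRelativeDimension_isStableUnderBaseChange (n := n)
    haveI : SmoothOfRelativeDimension n
        (pullback.fst (CohB1.ProjSpaceOver.toBase 1 S) (ProjMap.powBase S n)) :=
      MorphismProperty.pullback_fst (P := @SmoothOfRelativeDimension n) _ _ ih
    haveI : SmoothOfRelativeDimension 0 ψ := inferInstance
    have h := smoothOfRelativeDimension_comp (n := 0) (m := n + 1) ψ
      (pullback.fst (CohB1.ProjSpaceOver.toBase 1 S) (ProjMap.powBase S n) ≫ CohB1.ProjSpaceOver.toBase 1 S)
    rwa [Nat.zero_add] at h


/-- Let X be an integral Noetherian scheme and n a natural number, let P be the n-fold fibre product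
over X of copies of the projective line over X, with structure map to X, and let W be an integral
closed subscheme of P of codimension n, in the sense that the local ring of P at the generic point
of W has Krull dimension n. If the induced morphism f : W → X is dominant and flat, then f is finite
and surjective, so finite and faithfully flat. (The source works with a Noetherian separated scheme
X of finite dimension over a field k, takes W to be the closure in X ×_k (P^1_k)^n of an integral
closed subscheme Z of codimension n of X × (P^1 minus the point 1)^n, and assumes the closure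
dominant and flat over X; such a closure is an integral closed subscheme of codimension n of the
n-fold product of projective lines over X, which is the form stated here, and the field k plays no
role.) -/
theorem result
    (X : Scheme.{u}) [IsIntegral X] [IsNoetherian X] (n : ℕ)
    (W : Scheme.{u}) [IsIntegral W]
    (i : W ⟶ widePullback X (fun _ : Fin n => CohB1.ProjSpaceOver 1 X)
      (fun _ => CohB1.ProjSpaceOver.toBase 1 X))
    [IsClosedImmersion i]
    (hcodim : ringKrullDim
      ((widePullback X (fun _ : Fin n => CohB1.ProjSpaceOver 1 X)
        (fun _ => CohB1.ProjSpaceOver.toBase 1 X)).presheaf.stalk (i.base (genericPoint W))) = n)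
    (f : W ⟶ X)
    (hf : i ≫ WidePullback.base (fun _ : Fin n => CohB1.ProjSpaceOver.toBase 1 X) = f)
    [IsDominant f] [Flat f] :
    IsFinite f ∧ Surjective f := by
  haveI hπ : SmoothOfRelativeDimension n (ProjMap.powBase X n) := smoothOfRelativeDimension_powBase X n
  haveI : Smooth (ProjMap.powBase X n) := SmoothOfRelativeDimension.smooth n _
  haveI : IsProper (ProjMap.powBase X n) := by
    obtain ⟨φ, hφ, -, hφb⟩ := ProjMap.exists_finite_surjective X n
    rw [← hφb]
    haveI := hφ
    haveI : IsProper (CohB1.ProjSpaceOver.toBase n X) := inferInstance
    infer_instance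
  haveI : IsProper f := hf ▸ inferInstance
  haveI : LocallyOfFinitePresentation f := LocallyOfFinitePresentation.iff_locallyOfFiniteType.2 inferInstance
  have hη : f (genericPoint W) = genericPoint X :=
    ((genericPoint_spec ↥W).image f.continuous).eq (by
      have h1 := genericPoint_spec ↥X
      rw [Set.image_univ, f.denseRange.closure_range]
      exact h1)
  let π := ProjMap.powBase X n
  let p := i (genericPoint W)
  have hp : π p = genericPoint X := by
    rw [← hη, ← hf, Scheme.Hom.comp_apply]
  have hdim : ∀ y : ↥(π.fiber (π p)), ringKrullDim ((π.fiber (π p)).presheaf.stalk y) ≤ n := by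
    intro y
    refine (FibreComp.ringKrullDim_stalk_le_topologicalKrullDim y).trans ?_
    haveI : SmoothOfRelativeDimension n (π.fiberToSpecResidueField (π p)) := by
      haveI := smoothOfRelativeDimension_isStableUnderBaseChange (n := n)
      exact MorphismProperty.pullback_snd (P := @SmoothOfRelativeDimension n) _ _ hπ
    rw [DimFormulaLib.topologicalKrullDim_eq_iSup_localDim]
    exact iSup_le fun z => (S2768.localDim_eq n (π.fiberToSpecResidueField (π p)) z).le
  have hdim' : (n : WithBot ℕ∞) ≤ ringKrullDim ((π.fiber (π p)).presheaf.stalk (π.asFiber p)) := by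
    refine hcodim.ge.trans ((S3447.result π p).trans ?_)
    have h0 : ringKrullDim (X.presheaf.stalk (π p)) = 0 := by
      rw [hp]
      exact ringKrullDim_eq_zero_of_field X.functionField
    rw [show ringKrullDim (X.presheaf.stalk (π.base p)) = 0 from h0, zero_add]
  have hfib : topologicalKrullDim (f.fiber (genericPoint X)) ≤ 0 := by
    rw [(f.fiberHomeo _).isHomeomorph.topologicalKrullDim_eq]
    haveI : Subsingleton ↥(f ⁻¹' {genericPoint X}) := by
      refine ⟨fun a b => ?_⟩
      suffices h : ∀ w : W, f w = genericPoint X → w = genericPoint W from
        Subtype.ext ((h a.1 a.2).trans (h b.1 b.2).symm)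
      intro w hw
      refine i.isClosedEmbedding.injective ?_
      by_contra hne
      have hsp : i (genericPoint W) ⤳ i w :=
        (genericPoint_specializes w).map i.continuous
      let q : ↥(π.fiber (π p)) := π.asFiber p
      let z : ↥(π.fiber (π p)) := (π.fiberHomeo (π p)).symm ⟨i w, by
        show π (i w) = π p
        rw [← Scheme.Hom.comp_apply, hf, hw, hp]⟩
      have hq : π.fiberι (π p) q = p := π.fiberι_asFiber p
      have hz : π.fiberι (π p) z = i w := by simp [z]
      have hqz : q ⤳ z := by
        rw [← (π.fiberι (π p)).isEmbedding.isInducing.specializes_iff, hq, hz]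
        exact hsp
      have hne' : q ≠ z := fun h => hne (by rw [← hz, ← h, hq])
      obtain ⟨-, hlt⟩ := S9356.result π (π p) q z hqz hne'
      exact absurd (hdim'.trans_lt (hlt.trans_le (hdim z))) (lt_irrefl _)
    exact topologicalKrullDim_zero_of_discreteTopology _
  have hfin : ∀ y, topologicalKrullDim (f.fiber y) ≤ 0 := fun y =>
    (FlatDim.topologicalKrullDim_fiber_le f (genericPoint_specializes y)).trans hfib
  haveI : LocallyQuasiFinite f := LocallyQuasiFinite.of_finite_preimage_singleton f fun y => by
    haveI : LocallyOfFiniteType (f.fiberToSpecResidueField y) := MorphismProperty.pullback_snd _ _ inferInstance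
    haveI : IsLocallyNoetherian (f.fiber y) := LocallyOfFiniteType.isLocallyNoetherian (f.fiberToSpecResidueField y)
    haveI : IsLocallyArtinian (f.fiber y) := IsLocallyArtinian.of_topologicalKrullDim_le_zero (hfin y)
    haveI : IsArtinianScheme (f.fiber y) := {}
    haveI : Finite (f.fiber y) := inferInstance
    exact Finite.of_equiv _ (f.fiberHomeo y).toEquiv
  refine ⟨IsFinite.of_isProper_of_locallyQuasiFinite f, ⟨fun x => ?_⟩⟩
  have h := f.isClosedMap.isClosed_range.closure_eq ▸ f.denseRange.closure_range
  exact h.ge (Set.mem_univ x)

end Groth.Agent.S19040
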