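import Groth.Statements.S19041
import Mathlib

set_option autoImplicit false
universe u
open Dieu

namespace Groth.Agent.S19041

/-- Let `k` be a perfect field of characteristic `2` and `c` a natural number, and consider the explicit
`2c`-dimensional `k`-space on `X_1, …, X_c, Y_1, …, Y_c` with its operators `F` and `V` (`F Y_j =
0`; `F X_j = X_{j/2}` for `j` even and `Y_{c-(j-1)/2}` for `j` odd; `V Y_j = Y_{2j}` when `2j ≤ c`,
else `0`; `V X_j = Y_{2c-2j+1}` when `2j > c`, else `0`). For `j = 2^e l` with `l` odd and `c < 2j ≤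
2c`, and for `j'` with `c < 2j' ≤ 2c` and `n` with `2^n (2c - 2j' + 1) = c - (l-1)/2`, one has
`F^{e+1} X_j + V^{n+1} X_{j'} = 0`. (Stated over any perfect field of characteristic `2`; the source
works over an algebraically closed one.) -/
theorem result (c : ℕ) (k : Type u) [Field k] [CharP k 2] [PerfectRing k 2]
    (j e l : ℕ) (hj : j = 2 ^ e * l) (hl : Odd l) (hjc : j ≤ c) (hcj : c < 2 * j)
    (j' n : ℕ) (hj'c : j' ≤ c) (hcj' : c < 2 * j') (hn : 2 ^ n * (2 * c - 2 * j' + 1) = c - (l - 1) / 2) :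
    (W4c6eohyperellchar2.F c k)^[e + 1] (W4c6eohyperellchar2.X c k j) + (W4c6eohyperellchar2.V c k)^[n + 1] (W4c6eohyperellchar2.X c k j') = 0 := by
  classical
  have hXF : ∀ j, 1 ≤ j → 2 * j ≤ c →
      W4c6eohyperellchar2.F c k (W4c6eohyperellchar2.X c k (2 * j)) = W4c6eohyperellchar2.X c k j := by
    intro j hj hj2
    refine Prod.ext (funext fun i => ?_) (funext fun i => ?_)
    · simp only [W4c6eohyperellchar2.F, W4c6eohyperellchar2.coefX, W4c6eohyperellchar2.X]
      split_ifs <;> simp_all <;> omega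
    · simp only [W4c6eohyperellchar2.F, W4c6eohyperellchar2.coefX, W4c6eohyperellchar2.X]
      split_ifs <;> simp_all <;> omega
  have hXV : ∀ j, c < 2 * j → j ≤ c →
      W4c6eohyperellchar2.V c k (W4c6eohyperellchar2.X c k j)
        = W4c6eohyperellchar2.Y c k (2 * c - 2 * j + 1) := by
    intro j hj hjc
    refine Prod.ext rfl (funext fun i => ?_)
    simp only [W4c6eohyperellchar2.V, W4c6eohyperellchar2.coefX, W4c6eohyperellchar2.coefY,
      W4c6eohyperellchar2.X, W4c6eohyperellchar2.Y, Pi.zero_apply]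
    have := i.isLt
    split_ifs <;> simp_all <;> omega
  have hYV : ∀ m, 1 ≤ m → 2 * m ≤ c →
      W4c6eohyperellchar2.V c k (W4c6eohyperellchar2.Y c k m) = W4c6eohyperellchar2.Y c k (2 * m) := by
    intro m hm hmc
    refine Prod.ext rfl (funext fun i => ?_)
    simp only [W4c6eohyperellchar2.V, W4c6eohyperellchar2.coefX, W4c6eohyperellchar2.coefY,
      W4c6eohyperellchar2.Y, Pi.zero_apply]
    have := i.isLt
    split_ifs <;> simp_all <;> omega
  have hFodd : ∀ q, 2 * q + 1 ≤ c →
      W4c6eohyperellchar2.F c k (W4c6eohyperellchar2.X c k (2 * q + 1))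
        = W4c6eohyperellchar2.Y c k (c - q) := by
    intro q hq
    refine Prod.ext (funext fun i => ?_) (funext fun i => ?_)
    · simp only [W4c6eohyperellchar2.F, W4c6eohyperellchar2.coefX, W4c6eohyperellchar2.X,
        W4c6eohyperellchar2.Y, Pi.zero_apply]
      split_ifs <;> simp_all
      omega
    · simp only [W4c6eohyperellchar2.F, W4c6eohyperellchar2.coefX, W4c6eohyperellchar2.X,
        W4c6eohyperellchar2.Y]
      have := i.isLt
      split_ifs <;> simp_all <;> omega
  obtain ⟨q, rfl⟩ := hl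
  have hFit : ∀ d, d ≤ e → (W4c6eohyperellchar2.F c k)^[d] (W4c6eohyperellchar2.X c k j)
      = W4c6eohyperellchar2.X c k (2 ^ (e - d) * (2 * q + 1)) := by
    intro d
    induction d with
    | zero => intro _; simp [hj]
    | succ d ih =>
      intro hd
      have h1 : 1 ≤ 2 ^ (e - (d + 1)) * (2 * q + 1) :=
        Nat.mul_pos (Nat.two_pow_pos _) (Nat.succ_pos _)
      have h2 : 2 ^ (e - d) * (2 * q + 1) = 2 * (2 ^ (e - (d + 1)) * (2 * q + 1)) := by
        rw [show e - d = e - (d + 1) + 1 by omega, pow_succ]; ring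
      have h3 : 2 ^ (e - d) * (2 * q + 1) ≤ c := by
        refine le_trans ?_ hjc
        rw [hj]
        exact Nat.mul_le_mul_right _ (Nat.pow_le_pow_right (by norm_num) (Nat.sub_le _ _))
      rw [Function.iterate_succ_apply', ih (by omega), h2, hXF _ h1 (h2 ▸ h3)]
  have hlc : 2 * q + 1 ≤ c := le_trans (Nat.le_mul_of_pos_left _ (Nat.two_pow_pos e)) (hj ▸ hjc)
  have hm1 : 1 ≤ 2 * c - 2 * j' + 1 := Nat.succ_pos _
  have hVit : ∀ d, d ≤ n → (W4c6eohyperellchar2.V c k)^[d]
      (W4c6eohyperellchar2.Y c k (2 * c - 2 * j' + 1))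
      = W4c6eohyperellchar2.Y c k (2 ^ d * (2 * c - 2 * j' + 1)) := by
    intro d
    induction d with
    | zero => intro _; simp
    | succ d ih =>
      intro hd
      have h1 : 1 ≤ 2 ^ d * (2 * c - 2 * j' + 1) := Nat.mul_pos (Nat.two_pow_pos _) hm1
      have h2 : 2 ^ (d + 1) * (2 * c - 2 * j' + 1) ≤ c := by
        refine le_trans (Nat.mul_le_mul_right _ (Nat.pow_le_pow_right (by norm_num) hd)) ?_
        rw [hn]; exact Nat.sub_le _ _
      rw [Function.iterate_succ_apply', ih (by omega), pow_succ',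
        mul_assoc, hYV _ h1 (by rwa [← mul_assoc, ← pow_succ'])]
  rw [Function.iterate_succ_apply', hFit e le_rfl, Nat.sub_self, pow_zero, one_mul, hFodd q hlc,
    Function.iterate_succ_apply, hXV j' hcj' hj'c, hVit n le_rfl, hn,
    show c - (2 * q + 1 - 1) / 2 = c - q by omega]
  refine Prod.ext (by simp [W4c6eohyperellchar2.Y]) (funext fun i => ?_)
  exact CharTwo.add_self_eq_zero _

end Groth.Agent.S19041
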