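import Groth.Statements.S19042
import Mathlib

set_option autoImplicit false
universe u
open Dieu

namespace Groth.Agent.S19042

/-- Let `k` be a perfect field of characteristic `2` and `c` a natural number, and consider the explicit
`2c`-dimensional `k`-space on `X_1, …, X_c, Y_1, …, Y_c` with its operators `F` and `V` (`F Y_j =
0`; `F X_j = X_{j/2}` for `j` even and `Y_{c-(j-1)/2}` for `j` odd; `V Y_j = Y_{2j}` when `2j ≤ c`,
else `0`; `V X_j = Y_{2c-2j+1}` when `2j > c`, else `0`). The vectors `X_j` with `c < 2j ≤ 2c`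
generate it as a module over `k[F, V]`: a `k`-subspace stable under `F` and `V` containing them is
everything. (Stated over any perfect field of characteristic `2`; the source works over an
algebraically closed one.) -/
theorem result (c : ℕ) (k : Type u) [Field k] [CharP k 2] [PerfectRing k 2]
    (N : Submodule k (W4c6eohyperellchar2.GcMod c k))
    (hF : ∀ v ∈ N, W4c6eohyperellchar2.F c k v ∈ N) (hV : ∀ v ∈ N, W4c6eohyperellchar2.V c k v ∈ N)
    (hX : ∀ j : ℕ, c < 2 * j → j ≤ c → W4c6eohyperellchar2.X c k j ∈ N) : N = ⊤ := by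
  classical
  have hXF : ∀ j, 1 ≤ j → 2 * j ≤ c →
      W4c6eohyperellchar2.F c k (W4c6eohyperellchar2.X c k (2 * j)) = W4c6eohyperellchar2.X c k j := by
    intro j hj hj2
    refine Prod.ext (funext fun i => ?_) (funext fun i => ?_)
    · simp only [W4c6eohyperellchar2.F, W4c6eohyperellchar2.coefX, W4c6eohyperellchar2.X]
      split_ifs <;> simp_all <;> omega
    · simp only [W4c6eohyperellchar2.F, W4c6eohyperellchar2.coefX, W4c6eohyperellchar2.X]
      split_ifs <;> simp_all <;> omega
  have hXV : ∀ m, m % 2 = 1 → m ≤ c →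
      W4c6eohyperellchar2.V c k (W4c6eohyperellchar2.X c k ((2 * c + 1 - m) / 2))
        = W4c6eohyperellchar2.Y c k m := by
    intro m hm hmc
    refine Prod.ext rfl (funext fun i => ?_)
    simp only [W4c6eohyperellchar2.V, W4c6eohyperellchar2.coefX, W4c6eohyperellchar2.coefY,
      W4c6eohyperellchar2.X, W4c6eohyperellchar2.Y, Pi.zero_apply]
    have := i.isLt
    split_ifs <;> simp_all <;> omega
  have hYV : ∀ m, 1 ≤ m → 2 * m ≤ c →
      W4c6eohyperellchar2.V c k (W4c6eohyperellchar2.Y c k m) = W4c6eohyperellchar2.Y c k (2 * m) := by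
    intro m hm hmc
    refine Prod.ext rfl (funext fun i => ?_)
    simp only [W4c6eohyperellchar2.V, W4c6eohyperellchar2.coefX, W4c6eohyperellchar2.coefY,
      W4c6eohyperellchar2.Y, Pi.zero_apply]
    have := i.isLt
    split_ifs <;> simp_all <;> omega
  have hXN : ∀ d n, c - n = d → 1 ≤ n → n ≤ c → W4c6eohyperellchar2.X c k n ∈ N := by
    intro d
    induction d using Nat.strong_induction_on with
    | h d ih =>
      intro n hd hn hnc
      rcases lt_or_ge c (2 * n) with h | h
      · exact hX n h hnc
      · rw [← hXF n hn h]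
        exact hF _ (ih (c - 2 * n) (by omega) (2 * n) rfl (by omega) h)
  have hYN : ∀ m, 1 ≤ m → m ≤ c → W4c6eohyperellchar2.Y c k m ∈ N := by
    intro m
    induction m using Nat.strong_induction_on with
    | h m ih =>
      intro hm hmc
      rcases Nat.even_or_odd' m with ⟨q, rfl | rfl⟩
      · rw [← hYV q (by omega) hmc]
        exact hV _ (ih q (by omega) (by omega) (by omega))
      · rw [← hXV _ (by omega) hmc]
        exact hV _ (hXN _ _ rfl (by omega) (by omega))
  rw [eq_top_iff]
  intro v _
  have hv : v = ∑ i : Fin c, (v.1 i • W4c6eohyperellchar2.X c k (i.val + 1)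
      + v.2 i • W4c6eohyperellchar2.Y c k (i.val + 1)) := by
    refine Prod.ext (funext fun i => ?_) (funext fun i => ?_) <;>
      simp [W4c6eohyperellchar2.X, W4c6eohyperellchar2.Y, Prod.fst_sum, Prod.snd_sum,
        Finset.sum_apply, Fin.val_inj]
  rw [hv]
  have hlt := fun i : Fin c => i.isLt
  exact Submodule.sum_mem _ fun i _ => add_mem
    (Submodule.smul_mem _ _ (hXN _ _ rfl (by omega) (hlt i)))
    (Submodule.smul_mem _ _ (hYN _ (by omega) (hlt i)))

end Groth.Agent.S19042
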