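import Groth.Statements.S19043
import Mathlib

set_option autoImplicit false
universe u
open Dieu

namespace Groth.Agent.S19043

/-- Let `k` be a perfect field of characteristic `2` and `c` a natural number, and let `M` be the
explicit `2c`-dimensional `k`-space on `X_1, …, X_c, Y_1, …, Y_c` with its operators `F` and `V` (`F
Y_j = 0`; `F X_j = X_{j/2}` for `j` even and `Y_{c-(j-1)/2}` for `j` odd; `V Y_j = Y_{2j}` when `2j
≤ c`, else `0`; `V X_j = Y_{2c-2j+1}` when `2j > c`, else `0`). The classes of the `X_j` with `c <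
2j ≤ 2c` in the quotient of `M` by the `k`-span of `F(M) ∪ V(M)` are linearly independent and span
that quotient. (Stated over any perfect field of characteristic `2`; the source works over an
algebraically closed one.) -/
theorem result (c : ℕ) (k : Type u) [Field k] [CharP k 2] [PerfectRing k 2] :
    LinearIndependent k (fun j : {j : ℕ // c < 2 * j ∧ j ≤ c} =>
        Submodule.mkQ (Submodule.span k (Set.range (W4c6eohyperellchar2.F c k) ∪ Set.range (W4c6eohyperellchar2.V c k))) (W4c6eohyperellchar2.X c k j.1)) ∧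
      Submodule.span k (Set.range (fun j : {j : ℕ // c < 2 * j ∧ j ≤ c} =>
        Submodule.mkQ (Submodule.span k (Set.range (W4c6eohyperellchar2.F c k) ∪ Set.range (W4c6eohyperellchar2.V c k))) (W4c6eohyperellchar2.X c k j.1))) = ⊤ := by
  classical
  have hXF : ∀ j, 1 ≤ j → 2 * j ≤ c →
      W4c6eohyperellchar2.F c k (W4c6eohyperellchar2.X c k (2 * j)) = W4c6eohyperellchar2.X c k j := by
    intro j hj hj2
    refine Prod.ext (funext fun i => ?_) (funext fun i => ?_)
    · simp only [W4c6eohyperellchar2.F, W4c6eohyperellchar2.coefX, W4c6eohyperellchar2.X]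
      split_ifs <;> simp_all <;> omega
    · simp only [W4c6eohyperellchar2.F, W4c6eohyperellchar2.coefX, W4c6eohyperellchar2.X]
      split_ifs <;> simp_all <;> omega
  have hXV : ∀ j, c < 2 * j → j ≤ c →
      W4c6eohyperellchar2.V c k (W4c6eohyperellchar2.X c k j)
        = W4c6eohyperellchar2.Y c k (2 * c - 2 * j + 1) := by
    intro j hj hjc
    refine Prod.ext rfl (funext fun i => ?_)
    simp only [W4c6eohyperellchar2.V, W4c6eohyperellchar2.coefX, W4c6eohyperellchar2.coefY,
      W4c6eohyperellchar2.X, W4c6eohyperellchar2.Y, Pi.zero_apply]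
    have := i.isLt
    split_ifs <;> simp_all <;> omega
  have hYV : ∀ m, 1 ≤ m → 2 * m ≤ c →
      W4c6eohyperellchar2.V c k (W4c6eohyperellchar2.Y c k m) = W4c6eohyperellchar2.Y c k (2 * m) := by
    intro m hm hmc
    refine Prod.ext rfl (funext fun i => ?_)
    simp only [W4c6eohyperellchar2.V, W4c6eohyperellchar2.coefX, W4c6eohyperellchar2.coefY,
      W4c6eohyperellchar2.Y, Pi.zero_apply]
    have := i.isLt
    split_ifs <;> simp_all <;> omega
  let S : Submodule k (W4c6eohyperellchar2.GcMod c k) := Submodule.span k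
    (Set.range (W4c6eohyperellchar2.F c k) ∪ Set.range (W4c6eohyperellchar2.V c k))
  have hSzero : ∀ v ∈ S, ∀ i : Fin c, c < 2 * (i.val + 1) → v.1 i = 0 := by
    intro v hv i hi
    induction hv using Submodule.span_induction with
    | mem x hx =>
      rcases hx with ⟨w, rfl⟩ | ⟨w, rfl⟩
      · simp only [W4c6eohyperellchar2.F, W4c6eohyperellchar2.coefX]
        rw [dif_neg (by omega)]
        simp
      · rfl
    | zero => rfl
    | add a b _ _ ha hb => simp [ha, hb]
    | smul a x _ hx => simp [hx]
  refine ⟨?_, ?_⟩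
  · haveI : Finite {j : ℕ // c < 2 * j ∧ j ≤ c} :=
      Finite.of_injective (fun j => (⟨j.1, by omega⟩ : Fin (c + 1)))
        (fun a b h => Subtype.ext (Fin.mk.inj_iff.mp h))
    haveI := Fintype.ofFinite {j : ℕ // c < 2 * j ∧ j ≤ c}
    rw [Fintype.linearIndependent_iff]
    intro g hg j
    have hmem : (∑ x, g x • W4c6eohyperellchar2.X c k x.1) ∈ S := by
      rw [← Submodule.Quotient.mk_eq_zero S]
      show S.mkQ _ = 0
      rw [map_sum]
      simp only [map_smul]
      exact hg
    have h1 := hSzero _ hmem ⟨j.1 - 1, by omega⟩ (by simp; omega)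
    simp only [W4c6eohyperellchar2.X, Prod.fst_sum, Finset.sum_apply, Prod.smul_fst, Pi.smul_apply,
      smul_eq_mul] at h1
    rw [Finset.sum_eq_single j] at h1
    · simpa [show j.1 - 1 + 1 = j.1 by omega] using h1
    · intro b _ hb
      have : b.1 ≠ j.1 := fun h => hb (Subtype.ext h)
      rw [if_neg (by omega), mul_zero]
    · simp
  · rw [eq_top_iff]
    intro x _
    obtain ⟨v, rfl⟩ := Submodule.mkQ_surjective _ x
    let T := Submodule.span k (Set.range (fun j : {j : ℕ // c < 2 * j ∧ j ≤ c} =>
        Submodule.mkQ S (W4c6eohyperellchar2.X c k j.1)))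
    show S.mkQ v ∈ T
    have hv : v = ∑ i : Fin c, (v.1 i • W4c6eohyperellchar2.X c k (i.val + 1)
        + v.2 i • W4c6eohyperellchar2.Y c k (i.val + 1)) := by
      refine Prod.ext (funext fun i => ?_) (funext fun i => ?_) <;>
        simp [W4c6eohyperellchar2.X, W4c6eohyperellchar2.Y, Prod.fst_sum, Prod.snd_sum,
          Finset.sum_apply, Fin.val_inj]
    rw [hv, map_sum]
    refine Submodule.sum_mem _ fun i _ => ?_
    rw [map_add, map_smul, map_smul]
    have hi := i.isLt
    have hY : S.mkQ (W4c6eohyperellchar2.Y c k (i.val + 1)) = 0 := by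
      rw [Submodule.mkQ_apply, Submodule.Quotient.mk_eq_zero]
      rcases Nat.even_or_odd' (i.val + 1) with ⟨q, hq | hq⟩
      · rw [hq, ← hYV q (by omega) (by omega)]
        exact Submodule.subset_span (Or.inr ⟨_, rfl⟩)
      · rw [show i.val + 1 = 2 * c - 2 * (c - q) + 1 by omega, ← hXV (c - q) (by omega) (by omega)]
        exact Submodule.subset_span (Or.inr ⟨_, rfl⟩)
    rw [hY, smul_zero, add_zero]
    refine Submodule.smul_mem _ _ ?_
    rcases lt_or_ge c (2 * (i.val + 1)) with h | h
    · exact Submodule.subset_span ⟨⟨i.val + 1, h, hi⟩, rfl⟩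
    · have hX : S.mkQ (W4c6eohyperellchar2.X c k (i.val + 1)) = 0 := by
        rw [Submodule.mkQ_apply, Submodule.Quotient.mk_eq_zero, ← hXF _ (by omega) h]
        exact Submodule.subset_span (Or.inl ⟨_, rfl⟩)
      rw [hX]
      exact zero_mem _

end Groth.Agent.S19043
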