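import Groth.Statements.S19045
import Groth.Agent.FF.ASPoints
import Groth.Agent.FF.GaloisPlaces

set_option autoImplicit false
universe u v
open FunFld

namespace Groth.Agent.S19045

open FunFld Polynomial Groth.Agent.FF in
open scoped IntermediateField in
lemma exists_conj {k K : Type*} [Field k] [Field K] [Algebra (RatFunc k) K] {y : K} {f : RatFunc k}
    (hdeg : Module.finrank (RatFunc k) K = 2) (h2 : ringChar k = 2)
    (hy : y ∉ Set.range (algebraMap (RatFunc k) K)) (heq : y ^ 2 + y = algebraMap (RatFunc k) K f) :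
    ∃ σ : K ≃ₐ[RatFunc k] K, σ y = y + 1 := by
  haveI : FiniteDimensional (RatFunc k) K := Module.finite_of_finrank_eq_succ hdeg
  have hint : IsIntegral (RatFunc k) y := Algebra.IsIntegral.isIntegral y
  let pb := IntermediateField.adjoin.powerBasis hint
  let e : (RatFunc k)⟮y⟯ ≃ₐ[RatFunc k] K :=
    (IntermediateField.equivOfEq (AS.adjoin_eq_top hdeg hy)).trans IntermediateField.topEquiv
  have h2K : (2 : K) = 0 := by
    rw [← map_ofNat (algebraMap (RatFunc k) K) 2, AS.two_eq_zero h2 (RatFunc k), map_zero]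
  have hmin : minpoly (RatFunc k) y = X ^ 2 + X - C f := by
    have hm : (X ^ 2 + X - C f : (RatFunc k)[X]).Monic := by monicity!
    have hd : (X ^ 2 + X - C f : (RatFunc k)[X]).natDegree = 2 := by compute_degree!
    refine (Polynomial.eq_of_monic_of_dvd_of_natDegree_le (minpoly.monic hint) hm (minpoly.dvd _ _ (by simp [heq])) ?_).symm
    rw [hd, ← IntermediateField.adjoin.finrank hint, AS.adjoin_eq_top hdeg hy, IntermediateField.finrank_top', hdeg]
  let ψ : (RatFunc k)⟮y⟯ →ₐ[RatFunc k] K := pb.lift (y + 1) (by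
    rw [IntermediateField.adjoin.powerBasis_gen, IntermediateField.minpoly_gen, hmin]
    simp only [map_sub, map_add, map_pow, aeval_X, aeval_C]
    linear_combination heq + (y + 1) * h2K)
  refine ⟨AlgEquiv.ofBijective (ψ.comp e.symm.toAlgHom) (AlgHom.bijective _), ?_⟩
  show ψ (e.symm y) = y + 1
  rw [show e.symm y = pb.gen from e.symm_apply_eq.2 rfl]
  exact pb.lift_gen _ _

/-- Let `k` be algebraically closed of characteristic `2` and `K = k(x, y)` with `y² + y = f(x)`, `K`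
separable of degree `2` over `k(x)`; let `B ⊆ k` be a finite set containing `0` such that `f` has a
pole of odd order `d_β` at `x = β` for every `β ∈ B` and is integral at all other places of `k(x)`.
Then `y` is integral at the places of `K` above `x = ∞` and has order `0` at one of them, and for `α
∈ B` and `j ∈ ℤ` the divisor of poles of `y (x - α)^j` consists of: order `max(d_α - 2j, 0)` at the
place above `α`, order exactly `d_β` above every other `β ∈ B`, order `max(j - ord_P y, 0)` at each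
place `P` above `∞`, and nothing elsewhere. -/
theorem result (k : Type u) (K : Type v)
    [Field k] [IsAlgClosed k] [CharP k 2] [Field K] [Algebra k K] [Algebra (RatFunc k) K] [IsScalarTower k (RatFunc k) K]
    (hK : FunFld.IsFunctionField k K) (hdeg : Module.finrank (RatFunc k) K = 2) [Algebra.IsSeparable (RatFunc k) K]
    (y : K) (hy : y ∉ Set.range (algebraMap (RatFunc k) K)) (f : RatFunc k)
    (heq : y ^ 2 + y = algebraMap (RatFunc k) K f)
    (B : Finset k) (h0 : (0 : k) ∈ B) (d : k → ℕ) (hd : ∀ β ∈ B, Odd (d β))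
    (hpole : ∀ (p : FunFld.Place k (RatFunc k)) (β : k), β ∈ B →
      p.1 ((RatFunc.X : RatFunc k) - RatFunc.C β) < 1 → p.ord f = -(d β : ℤ))
    (hint : ∀ p : FunFld.Place k (RatFunc k), (∀ β ∈ B, 1 ≤ p.1 ((RatFunc.X : RatFunc k) - RatFunc.C β)) → p.1 f ≤ 1) :
    (∀ P : FunFld.Place k K, 1 < P.1 (algebraMap (RatFunc k) K RatFunc.X) → 0 ≤ P.ord y) ∧
    (∃ P : FunFld.Place k K, 1 < P.1 (algebraMap (RatFunc k) K RatFunc.X) ∧ P.ord y = 0) ∧
    ∀ (α : k), α ∈ B → ∀ (j : ℤ) (P : FunFld.Place k K),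
      (P.1 ((algebraMap (RatFunc k) K RatFunc.X) - (algebraMap k K α)) < 1 →
        max (-(P.ord (y * ((algebraMap (RatFunc k) K RatFunc.X) - (algebraMap k K α)) ^ j))) 0 = max ((d α : ℤ) - 2 * j) 0) ∧
      (∀ β : k, β ∈ B → β ≠ α → P.1 ((algebraMap (RatFunc k) K RatFunc.X) - (algebraMap k K β)) < 1 →
        P.ord (y * ((algebraMap (RatFunc k) K RatFunc.X) - (algebraMap k K α)) ^ j) = -(d β : ℤ)) ∧
      (1 < P.1 (algebraMap (RatFunc k) K RatFunc.X) → max (-(P.ord (y * ((algebraMap (RatFunc k) K RatFunc.X) - (algebraMap k K α)) ^ j))) 0 = max (j - P.ord y) 0) ∧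
      (P.1 (algebraMap (RatFunc k) K RatFunc.X) ≤ 1 → (∀ β : k, β ∈ B → 1 ≤ P.1 ((algebraMap (RatFunc k) K RatFunc.X) - (algebraMap k K β))) → 0 ≤ P.ord (y * ((algebraMap (RatFunc k) K RatFunc.X) - (algebraMap k K α)) ^ j)) := by
  have h2 : ringChar k = 2 := ringChar.eq k 2
  have hf : Groth.Agent.FF.AS.PoleData f B d := ⟨hd, hpole, hint⟩
  have hy0 : y ≠ 0 := fun h => hy ⟨0, by rw [map_zero, h]⟩
  have hinf : ∀ (P : FunFld.Place k K), 1 < P.1 (algebraMap (RatFunc k) K RatFunc.X) →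
      ∃ R : FunFld.Place k (RatFunc k), FunFld.IsOverWith P R 1 ∧ R.ord (RatFunc.X : RatFunc k) < 0 ∧ P.1 y ≤ 1 := fun P hP => by
    obtain ⟨R, e, he⟩ := Groth.Agent.FF.Quad.exists_below Groth.Agent.FF.Rat.isFunctionField hdeg P
    have hR := (Groth.Agent.FF.AS.below_inf he).1 hP
    obtain ⟨rfl, h1⟩ := Groth.Agent.FF.AS.int_case hdeg h2 hy heq he (hf.inf hR)
    exact ⟨R, he, hR, h1⟩
  have hz : ∀ (P : FunFld.Place k K) (R : FunFld.Place k (RatFunc k)) (e : ℕ) (α : k) (j : ℤ),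
      FunFld.IsOverWith P R e →
      P.ord (y * ((algebraMap (RatFunc k) K RatFunc.X) - (algebraMap k K α)) ^ j) =
        P.ord y + j * ((e : ℤ) * R.ord ((RatFunc.X : RatFunc k) - RatFunc.C α)) := fun P R e α j he => by
    have hne : (algebraMap (RatFunc k) K RatFunc.X) - (algebraMap k K α) ≠ 0 := by
      rw [← Groth.Agent.FF.AS.map_X_sub]; exact (map_ne_zero _).2 (Groth.Agent.FF.AS.X_sub_C_ne_zero α)
    rw [Groth.Agent.FF.ord_mul P hy0 (zpow_ne_zero j hne), Groth.Agent.FF.ord_zpow, ← Groth.Agent.FF.AS.map_X_sub,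
      Groth.Agent.FF.ord_of_isOverWith he]
  refine ⟨fun P hP => Groth.Agent.FF.Rat.ord_nonneg_of_le_one (hinf P hP).choose_spec.2.2, ?_,
    fun α hα j P => ⟨fun hP => ?_, fun β hβ hne hP => ?_, fun hP => ?_, fun hP hB => ?_⟩⟩
  · obtain ⟨Pinf, hPinf⟩ := Groth.Agent.FF.Rat.exists_inf (k := k)
    obtain ⟨Q, e, he⟩ := Groth.Agent.FF.Quad.exists_above Groth.Agent.FF.Rat.isFunctionField hdeg Pinf
    have hQ := (Groth.Agent.FF.AS.below_inf he).2 hPinf
    obtain ⟨R, -, -, hy1⟩ := hinf Q hQ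
    by_cases h0 : Q.ord y = 0
    · exact ⟨Q, hQ, h0⟩
    · obtain ⟨σ, hσ⟩ := exists_conj hdeg h2 hy heq
      have hlt : Q.1 y < 1 := by
        have := Groth.Agent.FF.Rat.ord_nonneg_of_le_one hy1
        exact (Groth.Agent.FF.v_lt_one_iff Q hy0).2 (by omega)
      refine ⟨Groth.Agent.FF.galPlace σ Q, ?_, ?_⟩
      · rw [Groth.Agent.FF.galPlace_apply, σ.commutes]; exact hQ
      · show -WithZero.log ((Groth.Agent.FF.galPlace σ Q).1 y) = 0
        rw [Groth.Agent.FF.galPlace_apply, hσ, add_comm, Valuation.map_one_add_of_lt Q.1 hlt, WithZero.log_one, neg_zero]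
  · obtain ⟨R, hR, he, hoy⟩ := Groth.Agent.FF.AS.at_point hdeg heq hf hα hP
    rw [hz P R 2 α j he, hoy, Groth.Agent.FF.AS.ord_point_self hR]
    congr 1
    push_cast; ring
  · obtain ⟨R, hR, he, hoy⟩ := Groth.Agent.FF.AS.at_point hdeg heq hf hβ hP
    rw [hz P R 2 α j he, hoy, Groth.Agent.FF.AS.ord_point_ne hR (Ne.symm hne)]
    ring
  · obtain ⟨R, he, hR, -⟩ := hinf P hP
    rw [hz P R 1 α j he]
    have hlin : R.ord ((RatFunc.X : RatFunc k) - RatFunc.C α) = -1 := by
      rw [← RatFunc.algebraMap_X, ← RatFunc.algebraMap_C, ← map_sub, Groth.Agent.FF.Rat.ord_poly_inf hR,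
        Polynomial.natDegree_X_sub_C]
      rfl
    rw [hlin]
    congr 1
    push_cast; ring
  · obtain ⟨R, e, he⟩ := Groth.Agent.FF.Quad.exists_below Groth.Agent.FF.Rat.isFunctionField hdeg P
    have hR : 0 ≤ R.ord (RatFunc.X : RatFunc k) := by
      by_contra h
      exact absurd ((Groth.Agent.FF.AS.below_inf he).2 (not_le.1 h)) (not_lt.2 hP)
    obtain ⟨γ, hγ⟩ := Groth.Agent.FF.AS.exists_point hR
    have hγB : γ ∉ B := fun h => absurd ((Groth.Agent.FF.AS.below_lt_one he γ).2 hγ) (not_lt.2 (hB γ h))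
    obtain ⟨rfl, hy1⟩ := Groth.Agent.FF.AS.int_case hdeg h2 hy heq he (hf.other hγ hγB)
    rw [hz P R 1 α j he, Groth.Agent.FF.AS.ord_point_ne hγ (fun h => hγB (h ▸ hα))]
    simpa using Groth.Agent.FF.Rat.ord_nonneg_of_le_one hy1

end Groth.Agent.S19045
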