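import Groth.Statements.S19047
import Groth.Agent.FF.ASPoints

set_option autoImplicit false
universe u v
open Classical
open FunFld

namespace Groth.Agent.S19047

open FunFld Groth.Agent.FF in
open scoped Classical in
lemma single_rat_mem {k : Type*} {K : Type*} [Field k] [Field K] [Algebra k K] [Algebra (RatFunc k) K]
    [IsScalarTower k (RatFunc k) K] (hdeg : Module.finrank (RatFunc k) K = 2) {Q : Place k K}
    {P : Place k (RatFunc k)} (hQ : IsOverWith Q P 2) (r : RatFunc k) :
    (Pi.single Q (algebraMap (RatFunc k) K r) : Place k K → K) ∈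
      AD (0 : Divisor k K) ⊔ LinearMap.range (diag k K) := by
  have hr : (Pi.single P r : Place k (RatFunc k) → RatFunc k) ∈ adele k (RatFunc k) :=
    mem_adele.2 ((Set.finite_singleton P).subset fun R hR => by
      by_contra h
      exact hR (by rw [Pi.single_eq_of_ne (by simpa using h), map_zero]; exact zero_le))
  obtain ⟨hfq, hdim⟩ := finrank_quot_ADK (Rat.isFunctionField (k := k)) (0 : Divisor k (RatFunc k))
  haveI := hfq
  rw [defect_zero Rat.isFunctionField, Rat.genus_eq_zero] at hdim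
  have htop : ADK (0 : Divisor k (RatFunc k)) = ⊤ := by
    have h0 : Module.finrank k (↥(adele k (RatFunc k)) ⧸ ADK (0 : Divisor k (RatFunc k))) = 0 := by
      omega
    haveI := Module.finrank_zero_iff.1 h0
    exact Submodule.Quotient.subsingleton_iff.1 this
  have hmem : (⟨_, hr⟩ : adele k (RatFunc k)) ∈ ADK (0 : Divisor k (RatFunc k)) := htop ▸ Submodule.mem_top
  obtain ⟨b, hb, c, ⟨h, rfl⟩, hbc⟩ := Submodule.mem_sup.1 hmem
  have hbv : ∀ R : Place k (RatFunc k), R.1 (b R) ≤ 1 := fun R => by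
    have := hb R
    rwa [Finsupp.coe_zero, Pi.zero_apply, WithZero.exp_zero] at this
  refine Submodule.mem_sup.2 ⟨(Pi.single Q (algebraMap (RatFunc k) K r) : Place k K → K) - diag k K (algebraMap (RatFunc k) K h),
    fun R => ?_, _, ⟨_, rfl⟩, sub_add_cancel _ _⟩
  rw [Finsupp.coe_zero, Pi.zero_apply, WithZero.exp_zero]
  obtain ⟨P', e, he⟩ := Quad.exists_below Rat.isFunctionField hdeg R
  have hP' : b P' + h = (Pi.single P r : Place k (RatFunc k) → RatFunc k) P' := congrFun hbc P'
  show R.1 ((Pi.single Q (algebraMap (RatFunc k) K r) : Place k K → K) R - algebraMap (RatFunc k) K h) ≤ 1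
  by_cases hR : R = Q
  · subst hR
    obtain rfl := place_below_unique ⟨2, hQ⟩ ⟨e, he⟩
    rw [Pi.single_eq_same] at hP' ⊢
    rw [← hP', map_add, add_sub_cancel_right, he]
    exact pow_le_one' (hbv _) _
  · have hne : P' ≠ P := fun h' => hR ((Quad.of_ramified Rat.isFunctionField hdeg hQ).1 R (h' ▸ ⟨e, he⟩))
    rw [Pi.single_eq_of_ne hne] at hP'
    rw [Pi.single_eq_of_ne hR, zero_sub, Valuation.map_neg, show h = -b P' by linear_combination hP', map_neg,
      Valuation.map_neg, he]
    exact pow_le_one' (hbv _) _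

/-- Let `k` be algebraically closed of characteristic `2`, `K = k(x, y)` with `y² + y = f(x)` separable
of degree `2` over `k(x)`, `B ⊆ k` a finite set containing `0` with `f` having a pole of odd order
`d_β` at `x = β` for `β ∈ B` and integral elsewhere, `c_β = (d_β - 1)/2`, and `P_β` a place of `K`
above `x = β`. With `H¹(X, O)` of the smooth projective model written as repartitions modulo `W =
A(0) + K` (everywhere-integral repartitions plus constants) and its Frobenius induced by
componentwise squaring, for `α ∈ B` and `j ≥ 0`: the Frobenius of the class of the repartition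
supported at `P_α` with value `y (x - α)^j` is the class of the one with value `y (x - α)^{2j}` when
`2j ≤ c_α`, and is `0` when `2j > c_α`. -/
theorem result (k : Type u) (K : Type v)
    [Field k] [IsAlgClosed k] [CharP k 2] [Field K] [Algebra k K] [Algebra (RatFunc k) K] [IsScalarTower k (RatFunc k) K]
    (hK : FunFld.IsFunctionField k K) (hdeg : Module.finrank (RatFunc k) K = 2) [Algebra.IsSeparable (RatFunc k) K]
    (y : K) (hy : y ∉ Set.range (algebraMap (RatFunc k) K)) (f : RatFunc k)
    (heq : y ^ 2 + y = algebraMap (RatFunc k) K f)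
    (B : Finset k) (h0 : (0 : k) ∈ B) (d : k → ℕ) (hd : ∀ β ∈ B, Odd (d β))
    (hpole : ∀ (p : FunFld.Place k (RatFunc k)) (β : k), β ∈ B →
      p.1 ((RatFunc.X : RatFunc k) - RatFunc.C β) < 1 → p.ord f = -(d β : ℤ))
    (hint : ∀ p : FunFld.Place k (RatFunc k), (∀ β ∈ B, 1 ≤ p.1 ((RatFunc.X : RatFunc k) - RatFunc.C β)) → p.1 f ≤ 1)
    (Pl : k → FunFld.Place k K) (hPl : ∀ β ∈ B, (Pl β).1 ((algebraMap (RatFunc k) K RatFunc.X) - (algebraMap k K β)) < 1)
    (α : k) (hα : α ∈ B) (j : ℕ) :
    (4 * j + 1 ≤ d α → (Pi.single (Pl α) ((y * ((algebraMap (RatFunc k) K RatFunc.X) - (algebraMap k K α)) ^ j) ^ 2) : FunFld.Place k K → K) - (Pi.single (Pl α) (y * ((algebraMap (RatFunc k) K RatFunc.X) - (algebraMap k K α)) ^ (2 * j)) : FunFld.Place k K → K) ∈ (FunFld.AD (0 : FunFld.Divisor k K) ⊔ LinearMap.range (FunFld.diag k K))) ∧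
    (d α < 4 * j + 1 → (Pi.single (Pl α) ((y * ((algebraMap (RatFunc k) K RatFunc.X) - (algebraMap k K α)) ^ j) ^ 2) : FunFld.Place k K → K) ∈ (FunFld.AD (0 : FunFld.Divisor k K) ⊔ LinearMap.range (FunFld.diag k K))) := by
  have h2 : ringChar k = 2 := ringChar.eq k 2
  have hf : Groth.Agent.FF.AS.PoleData f B d := ⟨hd, hpole, hint⟩
  obtain ⟨P, hP, he, hoy⟩ := Groth.Agent.FF.AS.at_point hdeg heq hf hα (hPl α hα)
  set u := (algebraMap (RatFunc k) K RatFunc.X) - (algebraMap k K α)
  have h2K : (2 : K) = 0 := Groth.Agent.FF.AS.two_eq_zero h2 K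
  set r := f * ((RatFunc.X : RatFunc k) - RatFunc.C α) ^ (2 * j) with hrdef
  have key : (y * u ^ j) ^ 2 - y * u ^ (2 * j) = algebraMap (RatFunc k) K r := by
    rw [hrdef, map_mul, map_pow, Groth.Agent.FF.AS.map_X_sub, ← heq]
    linear_combination (-y * u ^ (2 * j)) * h2K
  have hm := single_rat_mem (k := k) hdeg he r
  refine ⟨fun _ => ?_, fun hlt => ?_⟩
  · rw [← Pi.single_sub, key]; exact hm
  · have hu : u ≠ 0 := by
      show (algebraMap (RatFunc k) K RatFunc.X) - (algebraMap k K α) ≠ 0
      rw [← Groth.Agent.FF.AS.map_X_sub]; exact (map_ne_zero _).2 (Groth.Agent.FF.AS.X_sub_C_ne_zero α)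
    have hy0 : y ≠ 0 := fun h => hy ⟨0, by rw [map_zero, h]⟩
    have hAD : (Pi.single (Pl α) (y * u ^ (2 * j)) : FunFld.Place k K → K) ∈ FunFld.AD (0 : FunFld.Divisor k K) := fun R => by
      rw [Finsupp.coe_zero, Pi.zero_apply, WithZero.exp_zero]
      by_cases hR : R = Pl α
      · subst hR
        rw [Pi.single_eq_same]
        refine Groth.Agent.FF.Rat.le_one_of_ord_nonneg ?_
        rw [Groth.Agent.FF.ord_mul _ hy0 (pow_ne_zero _ hu), Groth.Agent.FF.ord_pow, hoy]
        show (0 : ℤ) ≤ -(d α : ℤ) + ((2 * j : ℕ) : ℤ) * (Pl α).ord ((algebraMap (RatFunc k) K RatFunc.X) - (algebraMap k K α))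
        rw [← Groth.Agent.FF.AS.map_X_sub, Groth.Agent.FF.ord_of_isOverWith he, Groth.Agent.FF.AS.ord_point_self hP]
        obtain ⟨i, hi⟩ := hd α hα
        push_cast
        omega
      · rw [Pi.single_eq_of_ne hR, map_zero]; exact zero_le
    rw [show (y * u ^ j) ^ 2 = algebraMap (RatFunc k) K r + y * u ^ (2 * j) by rw [← key]; ring, Pi.single_add]
    exact add_mem hm (Submodule.mem_sup_left hAD)

end Groth.Agent.S19047
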