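import Groth.Statements.S19048
import Mathlib

set_option autoImplicit false
universe u
open Dieu

namespace Groth.Agent.S19048
open W4c6eohyperellchar2

theorem mem_Nfil (c : ℕ) (k : Type u) [Field k] (i : ℕ) (v : GcMod c k) :
    v ∈ Nfil c k i ↔ (∀ m : Fin c, i < m.val + 1 → v.2 m = 0) ∧ ∀ m : Fin c, m.val + 1 ≤ 2 * c - i → v.1 m = 0 := by
  classical
  constructor
  · intro hv
    induction hv using Submodule.span_induction with
    | mem x hx =>
      rcases hx with ⟨n, hn, rfl⟩ | ⟨n, hn, rfl⟩
      · refine ⟨fun m hm => ?_, fun m _ => rfl⟩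
        simp only [Set.mem_Icc] at hn
        simp only [Y]
        rw [if_neg]; omega
      · refine ⟨fun m _ => rfl, fun m hm => ?_⟩
        simp only [Set.mem_Ioc] at hn
        simp only [X]
        rw [if_neg]; omega
    | zero => exact ⟨fun _ _ => rfl, fun _ _ => rfl⟩
    | add x y _ _ hx hy => exact ⟨fun m hm => by simp [hx.1 m hm, hy.1 m hm], fun m hm => by simp [hx.2 m hm, hy.2 m hm]⟩
    | smul r x _ hx => exact ⟨fun m hm => by simp [hx.1 m hm], fun m hm => by simp [hx.2 m hm]⟩
  · rintro ⟨h2, h1⟩
    have e : v = ∑ m : Fin c, (v.1 m • X c k (m.val + 1) + v.2 m • Y c k (m.val + 1)) := by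
      refine Prod.ext ?_ ?_ <;> funext j <;>
        simp [Prod.fst_sum, Prod.snd_sum, X, Y, Finset.sum_apply, Fin.val_inj, Pi.smul_apply]
    rw [e]
    refine Submodule.sum_mem _ fun m _ => Submodule.add_mem _ ?_ ?_
    · by_cases hm : m.val + 1 ≤ 2 * c - i
      · rw [h1 m hm, zero_smul]; exact zero_mem _
      · exact Submodule.smul_mem _ _ (Submodule.subset_span (Or.inr ⟨m.val + 1, ⟨by omega, m.2⟩, rfl⟩))
    · by_cases hm : i < m.val + 1
      · rw [h2 m hm, zero_smul]; exact zero_mem _
      · exact Submodule.smul_mem _ _ (Submodule.subset_span (Or.inl ⟨m.val + 1, ⟨Nat.le_add_left 1 _, by omega⟩, rfl⟩))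

theorem coefX_eq {c : ℕ} {k : Type u} [Zero k] (v : GcMod c k) (m : Fin c) : coefX v (m.val + 1) = v.1 m := by
  rw [coefX, dif_pos ⟨Nat.le_add_left 1 _, m.2⟩]; rfl

theorem coefY_eq {c : ℕ} {k : Type u} [Zero k] (v : GcMod c k) (m : Fin c) : coefY v (m.val + 1) = v.2 m := by
  rw [coefY, dif_pos ⟨Nat.le_add_left 1 _, m.2⟩]; rfl

theorem NV_add (c : ℕ) (k : Type u) [CommRing k] [ExpChar k 2] [PerfectRing k 2] (a : ℕ → k) (v w : GcMod c k) :
    NV c k a (v + w) = NV c k a v + NV c k a w := by
  refine Prod.ext (by simp [NV]) ?_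
  funext i
  simp only [NV, Prod.snd_add, Pi.add_apply]
  have hY : ∀ n, coefY (v + w) n = coefY v n + coefY w n := fun n => by
    unfold coefY; split <;> simp
  rw [hY, map_add, add_add_add_comm]
  congr 1
  rw [← Finset.sum_add_distrib]
  refine Finset.sum_congr rfl fun j _ => ?_
  split <;> simp [add_mul]


/-- Let `k` be a perfect field of characteristic `2`, `c` a natural number and `a_1, …, a_c ∈ k` with
`a_c ≠ 0`. On the `2c`-dimensional `k`-space with basis `λ_1, …, λ_c, σ_1, …, σ_c` let `F` be
Frobenius-semilinear with `F λ_j = 0`, `F σ_j = σ_{2j}` for `2j ≤ c`, `F σ_j = Σ_{i=j}^{c} a_i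
λ_{2i-2j+1}` for `2j > c`, and `V` inverse-Frobenius-semilinear with `V λ_j = λ_{j/2}` (`j` even),
`0` (`j` odd), `V σ_j = 0` (`j` even), `V σ_j = Σ_{i=(j+1)/2}^{c} a_i^{1/2} λ_{i-(j-1)/2}` (`j` odd)
— the shape of `F` and `V` on the block of the first de Rham cohomology of `y² − y = f(x)` belonging
to a branch point with invariant `d = 2c + 1`, `a_i` the coefficients of the odd polynomial `f_α`.
Put `N_i = ⟨λ_1, …, λ_i⟩` for `i ≤ c` and `N_i = ⟨λ_1, …, λ_c, σ_{2c-i+1}, …, σ_c⟩` for `c ≤ i ≤
2c`. Then for `0 ≤ i ≤ 2c`: `dim N_i = i`, `V(N_i) = N_{⌊i/2⌋}` and `F⁻¹(N_i) = N_{c+⌈i/2⌉}`; so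
`(N_i)` is a final filtration with `dim V(N_i) = ⌊i/2⌋`. (The published statement adjoins the `σ_j`
starting from `σ_1`; then `V(N_{c+1})` contains `V σ_1`, whose `λ_c`-coefficient is a square root of
`a_c ≠ 0`, so it is not `N_{⌊(c+1)/2⌋}` once `c ≥ 2`; adjoining them from `σ_c` downward, as here,
makes both identities hold.) -/
theorem result (c : ℕ) (k : Type u) [Field k] [CharP k 2] [PerfectRing k 2]
    (a : ℕ → k) (ha : a c ≠ 0) (i : ℕ) (hi : i ≤ 2 * c) :
    Module.finrank k (W4c6eohyperellchar2.Nfil c k i) = i ∧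
      W4c6eohyperellchar2.NV c k a '' (W4c6eohyperellchar2.Nfil c k i : Set (W4c6eohyperellchar2.GcMod c k)) = (W4c6eohyperellchar2.Nfil c k (i / 2) : Set (W4c6eohyperellchar2.GcMod c k)) ∧
      W4c6eohyperellchar2.NF c k a ⁻¹' (W4c6eohyperellchar2.Nfil c k i : Set (W4c6eohyperellchar2.GcMod c k)) = (W4c6eohyperellchar2.Nfil c k (c + (i + 1) / 2) : Set (W4c6eohyperellchar2.GcMod c k)) := by
  classical
  refine ⟨?_, ?_, ?_⟩
  · let φ : W4c6eohyperellchar2.Nfil c k i →ₗ[k] (Fin (min i c) → k) × (Fin (i - c) → k) :=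
      { toFun := fun v => (fun m => v.1.2 ⟨m.val, by omega⟩, fun m => v.1.1 ⟨2 * c - i + m.val, by omega⟩)
        map_add' := fun v w => rfl
        map_smul' := fun r v => rfl }
    have hbij : Function.Bijective φ := by
      constructor
      · rw [injective_iff_map_eq_zero]
        intro v hv
        obtain ⟨h2, h1⟩ := (mem_Nfil c k i v.1).1 v.2
        have e2 := congrArg Prod.fst hv
        have e1 := congrArg Prod.snd hv
        refine Subtype.ext (Prod.ext ?_ ?_) <;> funext m
        · by_cases hm : m.val + 1 ≤ 2 * c - i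
          · exact h1 m hm
          · have := congrFun e1 ⟨m.val - (2 * c - i), by omega⟩
            simp only [φ, LinearMap.coe_mk, AddHom.coe_mk] at this
            rw [show (⟨2 * c - i + (m.val - (2 * c - i)), by omega⟩ : Fin c) = m from Fin.ext (by simp only; omega)] at this
            exact this
        · by_cases hm : i < m.val + 1
          · exact h2 m hm
          · exact congrFun e2 ⟨m.val, by omega⟩
      · rintro ⟨p, q⟩
        refine ⟨⟨(fun m => if h : 2 * c - i ≤ m.val then q ⟨m.val - (2 * c - i), by omega⟩ else 0,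
          fun m => if h : m.val < min i c then p ⟨m.val, h⟩ else 0), (mem_Nfil c k i _).2 ⟨?_, ?_⟩⟩, ?_⟩
        · intro m hm; simp only; rw [dif_neg]; omega
        · intro m hm; simp only; rw [dif_neg]; omega
        · refine Prod.ext ?_ ?_ <;> funext m <;> simp only [φ, LinearMap.coe_mk, AddHom.coe_mk]
          · rw [dif_pos m.2]
          · rw [dif_pos (Nat.le_add_right _ _)]
            exact congrArg q (Fin.ext (by simp))
    rw [LinearEquiv.finrank_eq (LinearEquiv.ofBijective φ hbij), Module.finrank_prod, Module.finrank_fin_fun, Module.finrank_fin_fun]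
    omega
  · have hsq : ∀ x : k, (frobeniusEquiv k 2).symm (x ^ 2) = x := fun x => by
      exact (RingEquiv.symm_apply_eq _).2 rfl
    have hmaps : ∀ v ∈ W4c6eohyperellchar2.Nfil c k i, W4c6eohyperellchar2.NV c k a v ∈ W4c6eohyperellchar2.Nfil c k (i / 2) := by
      intro v hv
      obtain ⟨h2, h1⟩ := (mem_Nfil c k i v).1 hv
      refine (mem_Nfil c k _ _).2 ⟨fun m hm => ?_, fun m _ => rfl⟩
      simp only [W4c6eohyperellchar2.NV]
      have e1 : W4c6eohyperellchar2.coefY v (2 * (m.val + 1)) = 0 := by
        unfold W4c6eohyperellchar2.coefY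
        split
        · exact h2 _ (by simp only; omega)
        · rfl
      rw [e1, map_zero, zero_add]
      refine Finset.sum_eq_zero fun j _ => ?_
      split
      · rw [h1 j (by omega), zero_mul, map_zero]
      · rfl
    refine Set.Subset.antisymm (Set.image_subset_iff.2 hmaps) ?_
    suffices key : ∀ n, n ≤ i / 2 → (W4c6eohyperellchar2.Nfil c k n : Set _) ⊆
        W4c6eohyperellchar2.NV c k a '' (W4c6eohyperellchar2.Nfil c k i : Set _) from key _ le_rfl
    intro n
    induction n with
    | zero =>
      intro _ w hw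
      obtain ⟨h2, h1⟩ := (mem_Nfil c k 0 w).1 hw
      refine ⟨0, zero_mem _, ?_⟩
      refine Prod.ext ?_ ?_ <;> funext m
      · rw [h1 m (by omega)]; rfl
      · rw [h2 m (Nat.succ_pos _)]
        simp [W4c6eohyperellchar2.NV, W4c6eohyperellchar2.coefY]
    | succ n ih =>
      intro hn w hw
      have hnc : n < c := by omega
      obtain ⟨v, hv, hv1, hv2⟩ : ∃ v ∈ W4c6eohyperellchar2.Nfil c k i,
          (W4c6eohyperellchar2.NV c k a v).2 ⟨n, hnc⟩ = w.2 ⟨n, hnc⟩ ∧
          ∀ m : Fin c, n < m.val → (W4c6eohyperellchar2.NV c k a v).2 m = 0 := by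
        by_cases h2n : 2 * (n + 1) ≤ c
        · refine ⟨(w.2 ⟨n, hnc⟩ ^ 2) • W4c6eohyperellchar2.Y c k (2 * (n + 1)), Submodule.smul_mem _ _
            (Submodule.subset_span (Or.inl ⟨_, ⟨by omega, by omega⟩, rfl⟩)), ?_, fun m hm => ?_⟩
          · simp [W4c6eohyperellchar2.NV, W4c6eohyperellchar2.coefY, W4c6eohyperellchar2.Y, h2n]
            rw [if_pos (show 2 * (n + 1) - 1 + 1 = 2 * (n + 1) by omega), if_pos (show 1 ≤ 2 * (n + 1) by omega), hsq]
          · simp only [W4c6eohyperellchar2.NV, W4c6eohyperellchar2.coefY, W4c6eohyperellchar2.Y, Prod.smul_snd, Prod.smul_fst, Pi.smul_apply]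
            simp
            intro h
            omega
        · have hj : 2 * (c - (n + 1)) < c := by omega
          refine ⟨(w.2 ⟨n, hnc⟩ ^ 2 / a c) • W4c6eohyperellchar2.X c k (2 * (c - (n + 1)) + 1), Submodule.smul_mem _ _
            (Submodule.subset_span (Or.inr ⟨_, ⟨by omega, by omega⟩, rfl⟩)), ?_, fun m hm => ?_⟩
          · simp only [W4c6eohyperellchar2.NV]
            rw [Finset.sum_eq_single ⟨2 * (c - (n + 1)), hj⟩]
            · rw [if_pos (by simp only; omega)]
              have e : n + 1 + 2 * (c - (n + 1)) / 2 = c := by omega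
              have e0 : W4c6eohyperellchar2.coefY ((w.2 ⟨n, hnc⟩ ^ 2 / a c) • W4c6eohyperellchar2.X c k (2 * (c - (n + 1)) + 1)) (2 * (n + 1)) = 0 := by
                simp [W4c6eohyperellchar2.coefY, W4c6eohyperellchar2.X]
              rw [e0, map_zero, zero_add]
              simp only [e, W4c6eohyperellchar2.X, Prod.smul_fst, Pi.smul_apply, smul_eq_mul, if_true, mul_one]
              rw [div_mul_cancel₀ _ ha, hsq]
            · intro j _ hne
              have : j.val ≠ 2 * (c - (n + 1)) := fun h => hne (Fin.ext h)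
              simp [W4c6eohyperellchar2.X, this]
            · exact fun h => absurd (Finset.mem_univ _) h
          · simp only [W4c6eohyperellchar2.NV]
            rw [Finset.sum_eq_zero fun j _ => ?_, add_zero]
            · simp [W4c6eohyperellchar2.coefY, W4c6eohyperellchar2.X]
            · split
              · rename_i h
                have : j.val ≠ 2 * (c - (n + 1)) := fun h' => by omega
                simp [W4c6eohyperellchar2.X, this]
              · rfl
      obtain ⟨hw2, hw1⟩ := (mem_Nfil c k _ w).1 hw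
      obtain ⟨v', hv', he⟩ := ih (by omega) (show w - W4c6eohyperellchar2.NV c k a v ∈ W4c6eohyperellchar2.Nfil c k n from
        (mem_Nfil c k n _).2 ⟨fun m hm => by
          rcases Nat.lt_or_eq_of_le (Nat.lt_succ_iff.1 hm) with h | h
          · show w.2 m - _ = 0
            rw [hw2 m (by omega), hv2 m h, sub_zero]
          · show w.2 m - _ = 0
            rw [show m = ⟨n, hnc⟩ from Fin.ext h.symm, hv1, sub_self],
        fun m hm => by
          show w.1 m - 0 = 0
          rw [hw1 m (by omega), sub_zero]⟩)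
      exact ⟨v + v', add_mem hv hv', by rw [NV_add, he, add_sub_cancel]⟩
  · ext v
    rw [Set.mem_preimage, SetLike.mem_coe, SetLike.mem_coe, mem_Nfil, mem_Nfil]
    constructor
    · rintro ⟨h2, h1⟩
      refine ⟨fun m hm => by have := m.2; omega, ?_⟩
      suffices key : ∀ (n : ℕ) (m : Fin c), m.val = n → m.val + 1 ≤ 2 * c - (c + (i + 1) / 2) → v.1 m = 0 from fun m => key _ m rfl
      intro n
      induction n using Nat.strong_induction_on with
      | _ n ih =>
        intro m hmn hm
        by_cases h2m : 2 * (m.val + 1) ≤ c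
        · have := h1 ⟨2 * m.val + 1, by omega⟩ (by simp only; omega)
          simp only [W4c6eohyperellchar2.NF] at this
          rw [if_pos (by omega), show (2 * m.val + 1 + 1) / 2 = m.val + 1 by omega, coefX_eq] at this
          exact pow_eq_zero_iff (two_ne_zero (α := ℕ)) |>.1 this
        · have := h2 ⟨2 * (c - (m.val + 1)), by omega⟩ (by simp only; omega)
          simp only [W4c6eohyperellchar2.NF] at this
          rw [if_pos (by omega), Finset.sum_eq_single m, if_pos ⟨by omega, by omega⟩,
            show m.val + 1 + 2 * (c - (m.val + 1)) / 2 = c by omega] at this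
          · exact pow_eq_zero_iff (two_ne_zero (α := ℕ)) |>.1 ((mul_eq_zero.1 this).resolve_right ha)
          · intro j _ hne
            split
            · rename_i h
              have : j.val ≠ m.val := fun h' => hne (Fin.ext h')
              rw [ih j.val (by omega) j rfl (by omega), zero_pow two_ne_zero, zero_mul]
            · rfl
          · exact fun h => absurd (Finset.mem_univ _) h
    · rintro ⟨-, h1⟩
      refine ⟨fun m hm => ?_, fun m hm => ?_⟩
      · simp only [W4c6eohyperellchar2.NF]
        split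
        · refine Finset.sum_eq_zero fun j _ => ?_
          split
          · rw [h1 j (by omega), zero_pow two_ne_zero, zero_mul]
          · rfl
        · rfl
      · simp only [W4c6eohyperellchar2.NF]
        split
        · unfold W4c6eohyperellchar2.coefX
          split
          · rw [h1 _ (by simp only; omega), zero_pow two_ne_zero]
          · exact zero_pow two_ne_zero
        · rfl

end Groth.Agent.S19048
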