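import Groth.Statements.S1905
import Groth.Agent.CycLib.RatPull

set_option autoImplicit false
universe u
open CategoryTheory AlgebraicGeometry
open Cyc

namespace Groth.Agent.S1905

open CategoryTheory CategoryTheory.Limits AlgebraicGeometry

set_option backward.isDefEq.respectTransparency false
set_option backward.defeqAttrib.useBackward true
set_option linter.style.haveILetI false


/-- Let f : X → Y be a flat morphism, locally of finite type, of relative dimension r between integral
schemes, and g a nonzero rational function on Y, taken in the residue field at f(η_X) (the generic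
point of Y). Then f^*(div_Y g) = div_X(g ∘ f) coefficientwise, where g ∘ f is the image of g in
κ(η_X). A pair (X, δ) with Cyc.IsSetup plays the role of a scheme locally of finite type over a
fixed base with a dimension function (X locally Noetherian with universally catenary local rings, δ
a dimension function), and Cyc.DeltaCompat records that the dimension function upstairs is the
induced one. -/
theorem result (X Y : Scheme.{u}) [IsIntegral X] [IsIntegral Y] (δX : X → ℤ) (δY : Y → ℤ) (hX : Cyc.IsSetup X δX) (hY : Cyc.IsSetup Y δY) (f : X ⟶ Y) [Flat f] [LocallyOfFiniteType f] (r : ℕ) (hr : Cyc.HasRelDim f r) (hδ : Cyc.DeltaCompat f δX δY) (g : Y.residueField (f (genericPoint X))) (hg : g ≠ 0) : Cyc.pullFun f δX δY r (Cyc.divFun δY (f (genericPoint X)) g) = Cyc.divFun δX (genericPoint X) (f.residueFieldMap (genericPoint X) g) := by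
  haveI := hX.1
  haveI := hY.1
  have hs := CycLib.IsShift.of_relDim hX hY r hr hδ
  have hmax : CycLib.MaxFib f (genericPoint X) := fun w _ hw => (hw.antisymm (genericPoint_specializes w)).eq
  funext x
  rw [CycLib.pullFun_divFun hs hX.2.2 hY.2.2 (f (genericPoint X)) hg x,
    finsum_eq_single _ (⟨genericPoint X, rfl, hmax⟩ : CycLib.Over f (f (genericPoint X))) fun η hη => ?_]
  · have hbot : CycLib.fibIdeal f (genericPoint X) = ⊥ := by
      have h0 : IsLocalRing.maximalIdeal (X.presheaf.stalk (genericPoint X)) = ⊥ := by
        rw [← IsLocalRing.isField_iff_maximalIdeal_eq]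
        exact Field.toIsField X.functionField
      exact le_bot_iff.1 (h0 ▸ CycLib.fibIdeal_le f (genericPoint X))
    have h1 : CycLib.mult f (genericPoint X) = 1 := by
      haveI : IsSimpleModule (X.presheaf.stalk (genericPoint X)) (X.presheaf.stalk (genericPoint X)) :=
        inferInstanceAs (IsSimpleModule X.functionField X.functionField)
      unfold CycLib.mult
      rw [hbot, (Submodule.quotEquivOfEqBot (⊥ : Ideal (X.presheaf.stalk (genericPoint X))) rfl).length_eq,
        Module.length_eq_one]
      rfl
    rw [h1, one_mul]
    simp [CycLib.lift]
  · exfalso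
    refine hη (Subtype.ext ?_)
    exact (η.2.2 (genericPoint X) η.2.1.symm (genericPoint_specializes _)).symm

end Groth.Agent.S1905
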