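import Groth.Statements.S19050
import Groth.Agent.HomDvrLib.Main
import Groth.Agent.CompleteCurve.ProjSpace

set_option autoImplicit false
open CategoryTheory CategoryTheory.Limits AlgebraicGeometry
universe u
open Coherent

namespace Groth.Agent.S19050

set_option backward.isDefEq.respectTransparency false
set_option linter.style.haveILetI false

/-- Let R be a discrete valuation ring, X a projective R-scheme and I, F coherent O_X-modules flat over
R. Suppose that for each point y of Spec R the κ(y)-vector space of morphisms I_y → F_y between the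
restrictions to the fibre X_y = X ×_R Spec κ(y) has the same dimension n. Then the R-module
Hom_{O_X}(I, F) is free of rank n (finitely generated, free, of rank n), and if n ≥ 1 there is a
morphism I → F whose restriction to each fibre is nonzero. (The published statement is for the base
change to R of a smooth projective variety over a field; it is stated here for any projective
R-scheme, to which the printed argument applies unchanged. The identification of the two fibres of
Hom(I, F) with the Hom spaces on the fibres is not restated; its consequence for n ≥ 1 is.) -/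
theorem result
    (R : Type u) [CommRing R] [IsDomain R] [IsDiscreteValuationRing R]
    (X : Scheme.{u}) [X.Over (Spec (CommRingCat.of R))]
    (hproj : ∃ (m : ℕ) (ι : X ⟶ CohB1.ProjSpace m R), IsClosedImmersion ι ∧
      ι ≫ CohB1.ProjSpace.toSpec m R = X ↘ Spec (CommRingCat.of R))
    (I F : X.Modules) (hI : Coh.IsCoh I) (hF : Coh.IsCoh F)
    (hIfl : FlatMod.IsFlatOver (X ↘ Spec (CommRingCat.of R)) I)
    (hFfl : FlatMod.IsFlatOver (X ↘ Spec (CommRingCat.of R)) F)
    (n : ℕ)
    (hfib : ∀ y : ↥(Spec (CommRingCat.of R)),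
      letI : ((X ↘ Spec (CommRingCat.of R)).fiber y).Over
          (Spec (CommRingCat.of ((Spec (CommRingCat.of R)).residueField y))) :=
        ⟨(X ↘ Spec (CommRingCat.of R)).fiberToSpecResidueField y⟩
      Module.finrank ((Spec (CommRingCat.of R)).residueField y)
        ((Scheme.Modules.pullback ((X ↘ Spec (CommRingCat.of R)).fiberι y)).obj I ⟶
          (Scheme.Modules.pullback ((X ↘ Spec (CommRingCat.of R)).fiberι y)).obj F) = n) :
    Module.Finite R (I ⟶ F) ∧ Module.Free R (I ⟶ F) ∧ Module.finrank R (I ⟶ F) = n ∧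
      (0 < n → ∃ φ : I ⟶ F, ∀ y : ↥(Spec (CommRingCat.of R)),
        (Scheme.Modules.pullback ((X ↘ Spec (CommRingCat.of R)).fiberι y)).map φ ≠ 0) := by
  let f : X ⟶ Spec (CommRingCat.of R) := X ↘ Spec (CommRingCat.of R)
  haveI : IsProper f := by
    obtain ⟨m, ι, _, hι⟩ := hproj
    show IsProper (X ↘ Spec (CommRingCat.of R))
    rw [← hι]
    infer_instance
  haveI := hI.1
  haveI := hF.1
  haveI hfin : Module.Finite R (I ⟶ F) := HomDvrLib.finite_hom R hI hF
  haveI := HomDvrLib.isTorsionFree_hom R (I := I) hFfl
  haveI : Module.Free R (I ⟶ F) := Module.free_of_finite_type_torsion_free'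
  let φ : ∀ y : ↥(Spec (CommRingCat.of R)), R →+* (Spec (CommRingCat.of R)).residueField y := fun y =>
    ((Scheme.Spec.residueFieldIso (CommRingCat.of R) y).inv.hom).comp (algebraMap R y.asIdeal.ResidueField)
  have hsq : ∀ y, IsPullback (f.fiberι y) (f.fiberToSpecResidueField y) f
      (Spec.map (CommRingCat.ofHom (φ y))) := fun y => by
    have h : Spec.map (CommRingCat.ofHom (φ y)) = (Spec (CommRingCat.of R)).fromSpecResidueField y := by
      rw [← Scheme.Spec.map_residueFieldIso_inv_eq_fromSpecResidueField, ← Spec.map_comp]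
      rfl
    rw [h]
    exact IsPullback.of_hasPullback f _
  have hbij : ∀ y, Function.Bijective (Scheme.Spec.residueFieldIso (CommRingCat.of R) y).inv.hom := fun y =>
    ConcreteCategory.bijective_of_isIso (Scheme.Spec.residueFieldIso (CommRingCat.of R) y).inv
  have hker : ∀ y, RingHom.ker (φ y) = y.asIdeal := fun y => by
    ext r
    rw [RingHom.mem_ker]
    show (Scheme.Spec.residueFieldIso (CommRingCat.of R) y).inv.hom (algebraMap R y.asIdeal.ResidueField r) = 0 ↔ _
    rw [map_eq_zero_iff _ (hbij y).1, ← RingHom.mem_ker, Ideal.ker_algebraMap_residueField]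
  have hfrac : ∀ y, y.asIdeal = ⊥ →
      @IsFractionRing R _ ((Spec (CommRingCat.of R)).residueField y) _ (φ y).toAlgebra := fun y hy => by
    letI := (φ y).toAlgebra
    have hinj : Function.Injective (algebraMap R ((Spec (CommRingCat.of R)).residueField y)) :=
      (RingHom.injective_iff_ker_eq_bot (φ y)).2 ((hker y).trans hy)
    haveI : FaithfulSMul R ((Spec (CommRingCat.of R)).residueField y) :=
      (faithfulSMul_iff_algebraMap_injective R _).2 hinj
    refine IsFractionRing.of_field R _ fun z => ?_
    obtain ⟨w, rfl⟩ := (hbij y).2 z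
    obtain ⟨a, b, -, hw⟩ := IsFractionRing.div_surjective (R ⧸ y.asIdeal) w
    obtain ⟨a, rfl⟩ := Ideal.Quotient.mk_surjective a
    obtain ⟨b, rfl⟩ := Ideal.Quotient.mk_surjective b
    refine ⟨a, b, ?_⟩
    rw [← hw, map_div₀]
    rfl
  let η : ↥(Spec (CommRingCat.of R)) := ⟨⊥, Ideal.isPrime_bot⟩
  have hrank : Module.finrank R (I ⟶ F) = n := by
    letI : (f.fiber η).Over (Spec (CommRingCat.of ((Spec (CommRingCat.of R)).residueField η))) :=
      ⟨f.fiberToSpecResidueField η⟩
    letI := (φ η).toAlgebra
    haveI := hfrac η rfl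
    exact (HomDvrLib.finrank_hom (K := (Spec (CommRingCat.of R)).residueField η) R (f.fiberι η) (hsq η) hI hF hFfl).trans (hfib η)
  refine ⟨hfin, inferInstance, hrank, fun hn => ?_⟩
  let b := Module.finBasisOfFinrankEq R (I ⟶ F) hrank
  let i₀ : Fin n := ⟨0, hn⟩
  refine ⟨b i₀, fun y h => ?_⟩
  rcases eq_or_ne y.asIdeal ⊥ with hy | hy
  · letI : (f.fiber y).Over (Spec (CommRingCat.of ((Spec (CommRingCat.of R)).residueField y))) :=
      ⟨f.fiberToSpecResidueField y⟩
    letI := (φ y).toAlgebra
    haveI := hfrac y hy
    exact b.ne_zero i₀ ((HomDvrLib.map_eq_zero_iff_generic (K := (Spec (CommRingCat.of R)).residueField y) R (f.fiberι y) (hsq y) hFfl (b i₀)).1 h)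
  · obtain ⟨ϖ, hϖ⟩ := IsDiscreteValuationRing.exists_irreducible R
    haveI : y.asIdeal.IsMaximal := y.isPrime.isMaximal hy
    have hmax : y.asIdeal = Ideal.span {ϖ} := (IsLocalRing.eq_maximalIdeal inferInstance).trans hϖ.maximalIdeal_eq
    have hsurj : Function.Surjective (φ y) := by
      refine (hbij y).2.comp fun z => ?_
      obtain ⟨q, rfl⟩ := y.asIdeal.bijective_algebraMap_quotient_residueField.2 z
      obtain ⟨r, rfl⟩ := Ideal.Quotient.mk_surjective q
      exact ⟨r, rfl⟩
    letI := (φ y).toAlgebra
    obtain ⟨χ, hχ⟩ := HomDvrLib.exists_smul_eq_of_map_eq_zero (K := (Spec (CommRingCat.of R)).residueField y) R (f.fiberToSpecResidueField y) (f.fiberι y)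
      (hsq y) hsurj hϖ.ne_zero ((hker y).trans hmax) hFfl h
    have h1 := congrArg (fun v => b.repr v i₀) hχ
    simp only [Module.Basis.repr_self, Finsupp.single_eq_same, map_smul, Finsupp.smul_apply, smul_eq_mul] at h1
    exact hϖ.not_isUnit (IsUnit.of_mul_eq_one (b := b.repr χ i₀) h1.symm)

end Groth.Agent.S19050
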