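import Groth.Statements.S19051
import Groth.Agent.ExtStabLib.IdealEnd
import Groth.Agent.RefOne.Divisor
-- import your own Groth.Agent.* helpers here

set_option autoImplicit false
set_option backward.isDefEq.respectTransparency false
set_option maxHeartbeats 800000
set_option synthInstance.maxHeartbeats 200000
open CategoryTheory CategoryTheory.Limits AlgebraicGeometry
universe u
open NonPure

namespace Groth.Agent.S19051

open Groth.Agent CategoryTheory
set_option backward.isDefEq.respectTransparency false
set_option maxHeartbeats 800000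
set_option synthInstance.maxHeartbeats 200000

/-- Let K be a field and X an integral K-scheme, smooth, proper and geometrically irreducible over K, of
dimension at least 2, with an invertible ample O_X-module L (the polarisation for Hilbert
polynomials) and an integer ℓ ≥ 1. Let A_j (j ∈ J) be sets of closed subschemes of X (quasi-coherent
ideal sheaves), each member integral and different from X. Assume condition (†)(1) over K — every
nonzero morphism I_{W'} → I_W between the ideal sheaves (as O_X-modules) of members W ∈ A_j, W' ∈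
A_{j'} is an isomorphism — and condition (†)(2) over K: for W ∈ A_j, Y ∈ A_{j'} and every coherent
torsion-free O_Y-module G of generic rank one whose Hilbert polynomial is P_{O_Y} − ℓ, every
morphism I_W → i_*G vanishes (I_W the ideal sheaf of W as an O_X-module, i : Y → X the inclusion).
Let F be a sheaf of torsion type: a short exact sequence 0 → i_*G → F → I_W → 0 with W and Y in the
same A_j and G a coherent torsion-free O_Y-module of generic rank one with Hilbert polynomial
P_{O_Y} − ℓ. If for some W' ∈ A_{j'} there is a nonzero morphism I_{W'} → F, then: the sequence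
splits; I_W ≅ I_{W'} (existence of an isomorphism); Hom(I_W, F) is a one-dimensional K-vector space;
and every morphism I_{W'} → F factors through any splitting I_W → F. (In the published statement X
is the base change to K of a fixed smooth projective geometrically connected variety and the A_j are
the K-points of the connected components α_j of a fixed open and closed α ⊆ Hilb(X) whose points are
geometrically integral and geometrically normal or divisors, with (†) asked over every field
extension; the row keeps exactly what the printed argument uses over K, and makes explicit that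
members of α are proper closed subschemes.) -/
theorem result
    (K : Type u) [Field K] (X : Scheme.{u}) [X.Over (Spec (CommRingCat.of K))]
    [IsIntegral X] [Smooth (X ↘ Spec (CommRingCat.of K))] [IsProper (X ↘ Spec (CommRingCat.of K))]
    [GeometricallyIrreducible (X ↘ Spec (CommRingCat.of K))]
    (hdim : 2 ≤ topologicalKrullDim X)
    (L : X.Modules) (hLi : PicF.IsInvertible L) (hLa : CohB1.IsAmple L)
    (ℓ : ℕ) (hℓ : 0 < ℓ)
    (J : Type u) (A : J → Set X.IdealSheafData)
    (hA : ∀ j, ∀ W ∈ A j, IsIntegral W.subscheme ∧ W ≠ ⊥)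
    (dag1 : ∀ j j', ∀ W ∈ A j, ∀ W' ∈ A j', ∀ φ : ClSub.idealMod W' ⟶ ClSub.idealMod W,
      φ ≠ 0 → IsIso φ)
    (dag2 : ∀ j j', ∀ W ∈ A j, ∀ Y ∈ A j', ∀ (hY : IsIntegral Y.subscheme) (G : Y.subscheme.Modules),
      Coh.IsCoh G → TorSh.IsTorsionFree G →
      (haveI := hY
       Module.finrank (Y.subscheme.presheaf.stalk (genericPoint Y.subscheme))
        (G.presheaf.stalk (genericPoint Y.subscheme)) = 1) →
      (letI : Y.subscheme.Over (Spec (CommRingCat.of K)) := ⟨Y.subschemeι ≫ (X ↘ Spec (CommRingCat.of K))⟩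
       ∃ P : Polynomial ℚ,
        ShStab.IsHilbPoly K Y.subscheme ((Scheme.Modules.pullback Y.subschemeι).obj L)
          (Coh.structureModule Y.subscheme) P ∧
        ShStab.IsHilbPoly K Y.subscheme ((Scheme.Modules.pullback Y.subschemeι).obj L) G
          (P - Polynomial.C (ℓ : ℚ))) →
      ∀ φ : ClSub.idealMod W ⟶ (Coh.push Y.subschemeι).obj G, φ = 0)
    (j : J) (W : X.IdealSheafData) (hW : W ∈ A j) (Y : X.IdealSheafData) (hYA : Y ∈ A j)
    [IsIntegral Y.subscheme] (G : Y.subscheme.Modules) (hGc : Coh.IsCoh G) (hGt : TorSh.IsTorsionFree G)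
    (hGr : Module.finrank (Y.subscheme.presheaf.stalk (genericPoint Y.subscheme))
        (G.presheaf.stalk (genericPoint Y.subscheme)) = 1)
    (hGP : letI : Y.subscheme.Over (Spec (CommRingCat.of K)) := ⟨Y.subschemeι ≫ (X ↘ Spec (CommRingCat.of K))⟩
       ∃ P : Polynomial ℚ,
        ShStab.IsHilbPoly K Y.subscheme ((Scheme.Modules.pullback Y.subschemeι).obj L)
          (Coh.structureModule Y.subscheme) P ∧
        ShStab.IsHilbPoly K Y.subscheme ((Scheme.Modules.pullback Y.subschemeι).obj L) G
          (P - Polynomial.C (ℓ : ℚ)))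
    (F : X.Modules) (a : (Coh.push Y.subschemeι).obj G ⟶ F) (q : F ⟶ ClSub.idealMod W)
    (w : a ≫ q = 0) (hex : (ShortComplex.mk a q w).ShortExact)
    (j' : J) (W' : X.IdealSheafData) (hW' : W' ∈ A j')
    (hne : ∃ φ : ClSub.idealMod W' ⟶ F, φ ≠ 0) :
    (∃ σ : ClSub.idealMod W ⟶ F, σ ≫ q = 𝟙 _) ∧
    Nonempty (ClSub.idealMod W ≅ ClSub.idealMod W') ∧
    Module.Finite K (ClSub.idealMod W ⟶ F) ∧ Module.finrank K (ClSub.idealMod W ⟶ F) = 1 ∧
    (∀ σ : ClSub.idealMod W ⟶ F, σ ≫ q = 𝟙 _ →
      ∀ f : ClSub.idealMod W' ⟶ F, ∃ g : ClSub.idealMod W' ⟶ ClSub.idealMod W, f = g ≫ σ) := by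
  haveI := EulerIneqLib.isNoetherian_proper (X := X) K
  haveI := hex.mono_f
  have key : ∀ (W'' : X.IdealSheafData) (j'' : J), W'' ∈ A j'' → ∀ f : ClSub.idealMod W'' ⟶ F, f ≫ q = 0 → f = 0 := by
    intro W'' j'' hW'' f hf
    have e : hex.exact.lift f hf ≫ a = f := hex.exact.lift_f f hf
    rw [← e]
    rw [show hex.exact.lift f hf = 0 from dag2 j'' j W'' hW'' Y hYA inferInstance G hGc hGt hGr hGP _]
    exact zero_comp
  obtain ⟨φ, hφ⟩ := hne
  have hφq : φ ≫ q ≠ 0 := fun h => hφ (key W' j' hW' φ h)
  haveI := dag1 j j' W hW W' hW' (φ ≫ q) hφq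
  obtain ⟨σ, hσ⟩ : ∃ σ : ClSub.idealMod W ⟶ F, σ ≫ q = 𝟙 _ :=
    ⟨inv (φ ≫ q) ≫ φ, by rw [Category.assoc]; exact IsIso.inv_hom_id _⟩
  haveI : Mono (ClSub.idealModι W) := inferInstanceAs (Mono (kernel.ι _))
  have hI0 : ClSub.idealModι W ≠ 0 := fun h => hφq (by
    rw [← cancel_mono (ClSub.idealModι W), h, comp_zero, comp_zero])
  have hb : Function.Bijective (LinearMap.toSpanSingleton K (ClSub.idealMod W ⟶ F) σ) := by
    refine ⟨(injective_iff_map_eq_zero _).2 fun c hc => ?_, fun f => ?_⟩
    · rw [LinearMap.toSpanSingleton_apply] at hc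
      refine (smul_eq_zero.1 hc).resolve_right fun h0 => hI0 ?_
      rw [← Category.id_comp (ClSub.idealModι W), ← hσ, h0, zero_comp, zero_comp]
    · obtain ⟨c, hc⟩ := ExtStab.end_eq_smul_id K (RefOne.isCoh_idealMod W).1 (ClSub.idealModι W) hI0 (f ≫ q)
      refine ⟨c, ?_⟩
      rw [LinearMap.toSpanSingleton_apply]
      refine (sub_eq_zero.1 (key W j hW _ ?_)).symm
      rw [Preadditive.sub_comp, Linear.smul_comp, hσ, hc, sub_self]
  let e := LinearEquiv.ofBijective _ hb
  refine ⟨⟨σ, hσ⟩, ⟨(asIso (φ ≫ q)).symm⟩, Module.Finite.equiv e, by rw [← e.finrank_eq, Module.finrank_self], ?_⟩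
  intro τ hτ f
  refine ⟨f ≫ q, sub_eq_zero.1 (key W' j' hW' _ ?_)⟩
  rw [Preadditive.sub_comp, Category.assoc, Category.assoc, hτ, Category.comp_id, sub_self]

end Groth.Agent.S19051
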