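import Groth.Statements.S19052
import Groth.Agent.ExtStabLib.IdealPair
-- import your own Groth.Agent.* helpers here

set_option autoImplicit false
set_option backward.isDefEq.respectTransparency false
set_option maxHeartbeats 800000
set_option synthInstance.maxHeartbeats 200000
open CategoryTheory CategoryTheory.Limits AlgebraicGeometry
universe u
open NonPure

namespace Groth.Agent.S19052

open Groth.Agent CategoryTheory
set_option backward.isDefEq.respectTransparency false
set_option maxHeartbeats 800000
set_option synthInstance.maxHeartbeats 200000

/-- Let K be a field and X an integral K-scheme, smooth, proper and geometrically irreducible over K, of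
dimension at least 2, with an invertible ample O_X-module L (the polarisation for Hilbert
polynomials) and an integer ℓ ≥ 1. Let A_j (j ∈ J) be sets of closed subschemes of X (quasi-coherent
ideal sheaves), each member integral and different from X. Assume that each A_j contains every
closed subscheme whose ideal sheaf is isomorphic, as an O_X-module, to the ideal sheaf of a member
of A_j, and condition (†)(2) over K: for W ∈ A_j, Y ∈ A_{j'} and every coherent torsion-free
O_Y-module G of generic rank one whose Hilbert polynomial is P_{O_Y} − ℓ, every morphism I_W → i_*G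
vanishes (I_W the ideal sheaf of W as an O_X-module, i : Y → X the inclusion). Let Z ⊆ X be a closed
subscheme finite locally free of degree ℓ over K, so that F = I_Z is a sheaf of ideal type. Then for
every W ∈ A_j the K-vector space Hom(I_W, I_Z) is finite-dimensional of dimension at most one. (In
the published statement X is the base change to K of a fixed smooth projective geometrically
connected variety and the A_j are the K-points of the connected components α_j of a fixed open and
closed α ⊆ Hilb(X) whose points are geometrically integral and geometrically normal or divisors,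
with (†) asked over every field extension; the row keeps exactly what the printed argument uses over
K, and makes explicit that members of α are proper closed subschemes.) -/
theorem result
    (K : Type u) [Field K] (X : Scheme.{u}) [X.Over (Spec (CommRingCat.of K))]
    [IsIntegral X] [Smooth (X ↘ Spec (CommRingCat.of K))] [IsProper (X ↘ Spec (CommRingCat.of K))]
    [GeometricallyIrreducible (X ↘ Spec (CommRingCat.of K))]
    (hdim : 2 ≤ topologicalKrullDim X)
    (L : X.Modules) (hLi : PicF.IsInvertible L) (hLa : CohB1.IsAmple L)
    (ℓ : ℕ) (hℓ : 0 < ℓ)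
    (J : Type u) (A : J → Set X.IdealSheafData)
    (hA : ∀ j, ∀ W ∈ A j, IsIntegral W.subscheme ∧ W ≠ ⊥)
    (hAiso : ∀ j, ∀ W ∈ A j, ∀ W'' : X.IdealSheafData,
      Nonempty (ClSub.idealMod W'' ≅ ClSub.idealMod W) → W'' ∈ A j)
    (dag2 : ∀ j j', ∀ W ∈ A j, ∀ Y ∈ A j', ∀ (hY : IsIntegral Y.subscheme) (G : Y.subscheme.Modules),
      Coh.IsCoh G → TorSh.IsTorsionFree G →
      (haveI := hY
       Module.finrank (Y.subscheme.presheaf.stalk (genericPoint Y.subscheme))
        (G.presheaf.stalk (genericPoint Y.subscheme)) = 1) →
      (letI : Y.subscheme.Over (Spec (CommRingCat.of K)) := ⟨Y.subschemeι ≫ (X ↘ Spec (CommRingCat.of K))⟩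
       ∃ P : Polynomial ℚ,
        ShStab.IsHilbPoly K Y.subscheme ((Scheme.Modules.pullback Y.subschemeι).obj L)
          (Coh.structureModule Y.subscheme) P ∧
        ShStab.IsHilbPoly K Y.subscheme ((Scheme.Modules.pullback Y.subschemeι).obj L) G
          (P - Polynomial.C (ℓ : ℚ))) →
      ∀ φ : ClSub.idealMod W ⟶ (Coh.push Y.subschemeι).obj G, φ = 0)
    (Z : X.IdealSheafData) (hZ : Mor2.IsFinLocFreeOfDeg ℓ (Z.subschemeι ≫ (X ↘ Spec (CommRingCat.of K))))
    (j : J) (W : X.IdealSheafData) (hW : W ∈ A j) :
    Module.Finite K (ClSub.idealMod W ⟶ ClSub.idealMod Z) ∧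
      Module.finrank K (ClSub.idealMod W ⟶ ClSub.idealMod Z) ≤ 1 := by
  haveI := EulerIneqLib.isNoetherian_proper (X := X) K
  obtain ⟨n, hn⟩ : ∃ n : ℕ, topologicalKrullDim X ≤ (n : WithBot ℕ∞) :=
    ExtStab.exists_nat_dim_le (X ↘ Spec (CommRingCat.of K))
  exact ExtStab.finrank_hom_le_one K hLa hn Z (ExtStab.hp_quotMod_of_deg K hLa Z hZ) (A j)
    (fun W hW => (hA j W hW).1) (hAiso j) (dag2 j j) hW

end Groth.Agent.S19052
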