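import Groth.Statements.S19053
import Groth.Agent.ExtStabLib.PicInt
-- import your own Groth.Agent.* helpers here

set_option autoImplicit false
set_option backward.isDefEq.respectTransparency false
set_option maxHeartbeats 800000
set_option synthInstance.maxHeartbeats 200000
open CategoryTheory CategoryTheory.Limits AlgebraicGeometry
universe u
open NonPure

namespace Groth.Agent.S19053

open Groth.Agent CategoryTheory
set_option backward.isDefEq.respectTransparency false
set_option maxHeartbeats 800000
set_option synthInstance.maxHeartbeats 200000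

/-- Let K be an algebraically closed field and Y an integral K-scheme which is smooth, proper and
projective over K (a closed subscheme of some P^n_K), polarised by an invertible ample O_Y-module L,
and whose Picard group is isomorphic to ℤ. Let ℓ ≥ 1 and let G be a coherent torsion-free O_Y-module
of generic rank one whose Hilbert polynomial with respect to L is P_{O_Y} − ℓ. Then G is isomorphic
to the ideal sheaf of a closed subscheme Z ⊆ Y which is finite locally free of degree ℓ over K (a
length-ℓ subscheme). (This is the assertion proved in the first two steps of the printed proof, for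
the members Y of α, which are assumed smooth with Pic(Y) ≅ ℤ there; the surjectivity statement of
the proposition itself rests on the existence of the good moduli space and is not restated.) -/
theorem result
    (K : Type u) [Field K] [IsAlgClosed K] (Y : Scheme.{u}) [Y.Over (Spec (CommRingCat.of K))]
    [IsIntegral Y] [Smooth (Y ↘ Spec (CommRingCat.of K))] [IsProper (Y ↘ Spec (CommRingCat.of K))]
    (hproj : ∃ (n : ℕ) (ι : Y ⟶ CohB1.ProjSpace n K), IsClosedImmersion ι ∧
      ι ≫ CohB1.ProjSpace.toSpec n K = Y ↘ Spec (CommRingCat.of K))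
    (L : Y.Modules) (hLi : PicF.IsInvertible L) (hLa : CohB1.IsAmple L)
    [PicGrp.Law Y] (hPic : Nonempty (PicLoc.PicSet Y ≃* Multiplicative ℤ))
    (ℓ : ℕ) (hℓ : 0 < ℓ)
    (G : Y.Modules) (hGc : Coh.IsCoh G) (hGt : TorSh.IsTorsionFree G)
    (hGr : Module.finrank (Y.presheaf.stalk (genericPoint Y)) (G.presheaf.stalk (genericPoint Y)) = 1)
    (hGP : ∃ P : Polynomial ℚ, ShStab.IsHilbPoly K Y L (Coh.structureModule Y) P ∧
      ShStab.IsHilbPoly K Y L G (P - Polynomial.C (ℓ : ℚ))) :
    ∃ Z : Y.IdealSheafData, Mor2.IsFinLocFreeOfDeg ℓ (Z.subschemeι ≫ (Y ↘ Spec (CommRingCat.of K))) ∧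
      Nonempty (G ≅ ClSub.idealMod Z) := by
  haveI := EulerIneqLib.isNoetherian_proper (X := Y) K
  obtain ⟨N, ι, hι, -⟩ := hproj
  haveI := hι
  obtain ⟨n, hn⟩ := ExtStab.exists_nat_of_le (ExtStab.exists_dim_le_of_proj K ι) (by
    haveI : Nonempty (TopologicalSpace.IrreducibleCloseds Y) :=
      ⟨⟨closure {genericPoint Y}, isIrreducible_singleton.closure, isClosed_closure⟩⟩
    exact Order.krullDim_nonneg)
  obtain ⟨P, hPO, hPG⟩ := hGP
  obtain ⟨e₀⟩ := hPic
  obtain ⟨s, hs⟩ := ExtStab.exists_mono_of_pic_int K hn hLa e₀ hGc hGt hGr hℓ hPO hPG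
  haveI := hs
  haveI := hGc.1
  obtain ⟨Z, ⟨e⟩, ⟨e'⟩⟩ := ExtStab.exists_idealMod_of_mono s
  have hd : ShStabLib.DimLE n (Coh.structureModule Y) := lt_of_le_of_lt
    (Topology.IsInducing.subtypeVal.topologicalKrullDim_le.trans hn.le) (by exact_mod_cast Nat.lt_succ_self n)
  obtain ⟨Q, hQ, hsum, -, -⟩ := ShStabLib.exists_hp_coker K hLa s hGc (DevLib.isCoh_structureModule Y) hd hPG hPO
  obtain rfl : Q = Polynomial.C (ℓ : ℚ) := by linear_combination -hsum
  exact ⟨Z, ExtStab.isFinLocFreeOfDeg_of_hp K hLa hn.le Z ℓ (ShStabLib.hp_iso K e' hQ), ⟨e⟩⟩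

end Groth.Agent.S19053
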