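import Groth.Statements.S19055
import Groth.Agent.ExtStabLib.CurveHom
-- import your own Groth.Agent.* helpers here

set_option autoImplicit false
set_option backward.isDefEq.respectTransparency false
set_option maxHeartbeats 800000
set_option synthInstance.maxHeartbeats 200000
open CategoryTheory CategoryTheory.Limits AlgebraicGeometry
universe u
open NonPure

namespace Groth.Agent.S19055

open Groth.Agent CategoryTheory
set_option backward.isDefEq.respectTransparency false
set_option maxHeartbeats 800000
set_option synthInstance.maxHeartbeats 200000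

/-- Let K be an algebraically closed field and X a smooth projective surface over K — an integral
K-scheme, smooth, proper and projective over K, of dimension 2 — polarised by an invertible ample
O_X-module L. Let C₁, C₂ ⊆ X be closed subschemes which are integral of dimension one, with
intersection number I = C₁ · C₂ (computed as χ(O_X) − χ(I_{C₁}) − χ(I_{C₂}) + χ(I_{C₁} ⊗ I_{C₂})),
and let ℓ be a natural number with I < ℓ. If G is a coherent torsion-free O_{C₂}-module of generic
rank one whose Hilbert polynomial with respect to L|_{C₂} is P_{O_{C₂}} − ℓ, then every morphism of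
O_X-modules I_{C₁} → i_*G is zero, i : C₂ → X being the inclusion. (This is the verification, at the
start of the printed proof, that a family of integral curves with constant intersection number I(α)
< ℓ satisfies part (2) of condition (†); the contraction statement of the result itself rests on the
existence of the good moduli space and is not restated.) -/
theorem result
    (K : Type u) [Field K] [IsAlgClosed K] (X : Scheme.{u}) [X.Over (Spec (CommRingCat.of K))]
    [IsIntegral X] [Smooth (X ↘ Spec (CommRingCat.of K))] [IsProper (X ↘ Spec (CommRingCat.of K))]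
    (hproj : ∃ (n : ℕ) (ι : X ⟶ CohB1.ProjSpace n K), IsClosedImmersion ι ∧
      ι ≫ CohB1.ProjSpace.toSpec n K = X ↘ Spec (CommRingCat.of K))
    (hdim : topologicalKrullDim X = 2)
    (L : X.Modules) (hLi : PicF.IsInvertible L) (hLa : CohB1.IsAmple L)
    (C₁ C₂ : X.IdealSheafData) [IsIntegral C₁.subscheme] [IsIntegral C₂.subscheme]
    (hC₁ : topologicalKrullDim ↥C₁.subscheme = 1) (hC₂ : topologicalKrullDim ↥C₂.subscheme = 1)
    (ℓ : ℕ)
    (hℓ : FGA.intNum K X 2 (fun i : Fin 2 => if i = 0 then ClSub.idealMod C₁ else ClSub.idealMod C₂)
      (Coh.structureModule X) < (ℓ : ℤ))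
    (G : C₂.subscheme.Modules) (hGc : Coh.IsCoh G) (hGt : TorSh.IsTorsionFree G)
    (hGr : Module.finrank (C₂.subscheme.presheaf.stalk (genericPoint C₂.subscheme))
        (G.presheaf.stalk (genericPoint C₂.subscheme)) = 1)
    (hGP : letI : C₂.subscheme.Over (Spec (CommRingCat.of K)) := ⟨C₂.subschemeι ≫ (X ↘ Spec (CommRingCat.of K))⟩
       ∃ P : Polynomial ℚ,
        ShStab.IsHilbPoly K C₂.subscheme ((Scheme.Modules.pullback C₂.subschemeι).obj L)
          (Coh.structureModule C₂.subscheme) P ∧
        ShStab.IsHilbPoly K C₂.subscheme ((Scheme.Modules.pullback C₂.subschemeι).obj L) G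
          (P - Polynomial.C (ℓ : ℚ)))
    (φ : ClSub.idealMod C₁ ⟶ (Coh.push C₂.subschemeι).obj G) : φ = 0 := by
  exact ExtStab.hom_ideal_push_eq_zero K hdim (L := L) C₁ C₂ hC₁ hC₂ ℓ hℓ G hGc hGt hGr hGP φ

end Groth.Agent.S19055
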