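import Groth.Statements.S19057
import Groth.Agent.ExtStabLib.IdealSheaf
-- import your own Groth.Agent.* helpers here

set_option autoImplicit false
set_option backward.isDefEq.respectTransparency false
set_option maxHeartbeats 800000
set_option synthInstance.maxHeartbeats 200000
open CategoryTheory CategoryTheory.Limits AlgebraicGeometry
universe u
open NonPure

namespace Groth.Agent.S19057

open Groth.Agent CategoryTheory
set_option backward.isDefEq.respectTransparency false
set_option maxHeartbeats 800000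
set_option synthInstance.maxHeartbeats 200000

/-- Let K be a field and X an integral K-scheme which is smooth, proper, projective and geometrically
irreducible over K, of dimension at least 2, polarised by an invertible ample O_X-module L; let ℓ ≥
1. Let F be a coherent torsion-free O_X-module whose double dual Hom(Hom(F, O_X), O_X) is isomorphic
to O_X (the sheaf Hom functors Hom(M, −) are taken as right adjoints of M ⊗ −; their existence is
the stated instance hypothesis and holds) and whose Hilbert polynomial with respect to L is P_{O_X}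
− ℓ. Then there is a closed subscheme Z ⊆ X, finite locally free of degree ℓ over K, with F ≅ I_Z,
and Z is unique: two such subschemes of degree ℓ with isomorphic ideal sheaves coincide. (The
published statement is the isomorphism of stacks ψ : Hilb^ℓ(X) × B𝔾_m → Coh^tf(X)_{O_X,P_ℓ}; this
row is its shadow on K-valued points — every torsion-free sheaf with trivial determinant and Hilbert
polynomial P_ℓ is the ideal sheaf of a unique length-ℓ subscheme — with triviality of the
determinant expressed, for a torsion-free sheaf of rank one on a smooth variety, as triviality of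
the reflexive hull.) -/
theorem result
    (K : Type u) [Field K] (X : Scheme.{u}) [X.Over (Spec (CommRingCat.of K))]
    [IsIntegral X] [Smooth (X ↘ Spec (CommRingCat.of K))] [IsProper (X ↘ Spec (CommRingCat.of K))]
    [GeometricallyIrreducible (X ↘ Spec (CommRingCat.of K))]
    (hproj : ∃ (n : ℕ) (ι : X ⟶ CohB1.ProjSpace n K), IsClosedImmersion ι ∧
      ι ≫ CohB1.ProjSpace.toSpec n K = X ↘ Spec (CommRingCat.of K))
    (hdim : 2 ≤ topologicalKrullDim X)
    (L : X.Modules) (hLi : PicF.IsInvertible L) (hLa : CohB1.IsAmple L)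
    (ℓ : ℕ) (hℓ : 0 < ℓ)
    (F : X.Modules) (hFc : Coh.IsCoh F) (hFt : TorSh.IsTorsionFree F)
    [DCoh.HasSheafHom F] [DCoh.HasSheafHom ((DCoh.sheafHom F).obj (Coh.structureModule X))]
    (hdet : Nonempty ((DCoh.sheafHom ((DCoh.sheafHom F).obj (Coh.structureModule X))).obj
      (Coh.structureModule X) ≅ Coh.structureModule X))
    (hFP : ∃ P : Polynomial ℚ, ShStab.IsHilbPoly K X L (Coh.structureModule X) P ∧
      ShStab.IsHilbPoly K X L F (P - Polynomial.C (ℓ : ℚ))) :
    (∃ Z : X.IdealSheafData, Mor2.IsFinLocFreeOfDeg ℓ (Z.subschemeι ≫ (X ↘ Spec (CommRingCat.of K))) ∧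
      Nonempty (F ≅ ClSub.idealMod Z)) ∧
    (∀ Z Z' : X.IdealSheafData, Mor2.IsFinLocFreeOfDeg ℓ (Z.subschemeι ≫ (X ↘ Spec (CommRingCat.of K))) →
      Mor2.IsFinLocFreeOfDeg ℓ (Z'.subschemeι ≫ (X ↘ Spec (CommRingCat.of K))) →
      Nonempty (ClSub.idealMod Z ≅ ClSub.idealMod Z') → Z = Z') := by
  haveI := EulerIneqLib.isNoetherian_proper (X := X) K
  obtain ⟨N, ι, hι, hιK⟩ := hproj
  haveI := hι
  obtain ⟨n, hn⟩ := ExtStab.exists_nat_of_le (ExtStab.exists_dim_le_of_proj K ι) (le_trans (by norm_num) hdim)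
  refine ⟨?_, fun Z Z' hZ _ ⟨e⟩ => ?_⟩
  · haveI := hFc.1
    obtain ⟨a⟩ := Groth.Agent.InfLiftLib.nonempty_homSh_iso F (Coh.structureModule X)
    have hDc : Coh.IsCoh (RefHull.dual F) := RefOne.isCoh_dual hFc
    have hSc : Coh.IsCoh ((DCoh.sheafHom F).obj (Coh.structureModule X)) := ShStabLib.isCoh_of_iso a.symm hDc
    haveI := hSc.1
    haveI : Coh.IsQCoh (RefHull.dual F) := hDc.1
    obtain ⟨b⟩ := Groth.Agent.InfLiftLib.nonempty_homSh_iso ((DCoh.sheafHom F).obj (Coh.structureModule X)) (Coh.structureModule X)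
    obtain ⟨c⟩ := Groth.Agent.FibreDualLib.nonempty_dual_congr (a : (DCoh.sheafHom F).obj (Coh.structureModule X) ≅ RefHull.dual F)
    obtain ⟨d⟩ := hdet
    obtain ⟨s, hs⟩ := ExtStab.exists_mono_of_ddual K hFc hFt (c.symm ≪≫ b.symm ≪≫ d)
    haveI := hs
    obtain ⟨Z, ⟨e⟩, ⟨e'⟩⟩ := ExtStab.exists_idealMod_of_mono s
    obtain ⟨P, hPO, hPF⟩ := hFP
    have hd : ShStabLib.DimLE n (Coh.structureModule X) := lt_of_le_of_lt
      (Topology.IsInducing.subtypeVal.topologicalKrullDim_le.trans hn.le) (by exact_mod_cast Nat.lt_succ_self n)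
    obtain ⟨Q, hQ, hsum, -, -⟩ := ShStabLib.exists_hp_coker K hLa s hFc (DevLib.isCoh_structureModule X) hd hPF hPO
    obtain rfl : Q = Polynomial.C (ℓ : ℚ) := by linear_combination -hsum
    exact ⟨Z, ExtStab.isFinLocFreeOfDeg_of_hp K hLa hn.le Z ℓ (ShStabLib.hp_iso K e' hQ), ⟨e⟩⟩
  · refine ExtStab.idealSheaf_eq_of_nonempty_iso K hdim hn Z Z' ?_ e
    haveI : IsFinite (Z.subschemeι ≫ (X ↘ Spec (CommRingCat.of K))) := hZ.1.1
    haveI : Mono (ClSub.idealModι Z) := inferInstanceAs (Mono (kernel.ι _))
    haveI := Groth.Agent.SerreAff.epi_unitToPush Z.subschemeι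
    have hS : (ShortComplex.mk (ClSub.idealModι Z) (ClSub.toSubscheme Z) (kernel.condition _)).ShortExact :=
      ShortComplex.ShortExact.mk' (ShortComplex.exact_of_f_is_kernel _ (kernelIsKernel _)) inferInstance
        (inferInstanceAs (Epi (ClSub.toSubscheme Z)))
    haveI : Epi (ShortComplex.mk (ClSub.idealModι Z) (ClSub.toSubscheme Z) (kernel.condition _)).g := hS.epi_g
    have ei : cokernel (ClSub.idealModι Z) ≅ ClSub.quotMod Z :=
      IsColimit.coconePointUniqueUpToIso (cokernelIsCokernel (ClSub.idealModι Z)) hS.exact.gIsCokernel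
    rw [CycLib.support_eq_of_iso ei]
    refine (Topology.IsEmbedding.inclusion (IntLib.support_quotMod_subset Z)).isInducing.topologicalKrullDim_le.trans ?_
    rw [← Scheme.IdealSheafData.range_subschemeι, ← Z.subschemeι.isEmbedding.toHomeomorph.isHomeomorph.topologicalKrullDim_eq]
    exact ExtStab.dim_le_zero_of_isFinite (Z.subschemeι ≫ (X ↘ Spec (CommRingCat.of K)))

end Groth.Agent.S19057
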