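import Groth.Statements.S19059
import Groth.Agent.GenusOneLib.Embed
import Groth.Agent.CurveLib.SmulPow
import Groth.Agent.RelVALib.EmbGen
import Groth.Agent.ProperFin.Main

set_option autoImplicit false
universe u
open CategoryTheory CategoryTheory.Limits AlgebraicGeometry Opposite
open Curves

namespace Groth.Agent.S19059

open CategoryTheory CategoryTheory.Limits AlgebraicGeometry

set_option backward.isDefEq.respectTransparency false
set_option backward.isDefEq.respectTransparency.types false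
set_option maxHeartbeats 1000000

open Groth.Agent.PullbackMod Groth.Agent.DCohLib Groth.Agent.ParaFLib Groth.Agent.AmpleLib Groth.Agent.H1ZeroLib
open TopologicalSpace
open scoped TensorProduct

section
variable {X Y : Scheme.{u}}

theorem closure_induction' {M N : X.Modules}
    (h : AddSubgroup.closure {z : (CohB1.tensorMod M N).val.obj (op ⊤) |
      ∃ (m : M.val.obj (op ⊤)) (v : N.val.obj (op ⊤)), z = SecTwist.tmul M N ⊤ m v} = ⊤)
    (P : Γ(tmod M N, ⊤) → Prop) (hpair : ∀ a v, P (pairS M N a v)) (hzero : P 0)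
    (hadd : ∀ x y, P x → P y → P (x + y)) (hneg : ∀ x, P x → P (-x)) : ∀ τ, P τ := fun τ => by
  have hτ : (show (CohB1.tensorMod M N).val.obj (op ⊤) from τ) ∈ AddSubgroup.closure
      {z : (CohB1.tensorMod M N).val.obj (op ⊤) |
        ∃ (m : M.val.obj (op ⊤)) (v : N.val.obj (op ⊤)), z = SecTwist.tmul M N ⊤ m v} := h ▸ AddSubgroup.mem_top _
  refine AddSubgroup.closure_induction (p := fun z _ => P z) ?_ hzero (fun x y _ _ => hadd x y) (fun x _ => hneg x) hτ
  rintro _ ⟨a, v, rfl⟩
  exact hpair a v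

theorem embGen_of_closure [IsAffine Y] (q : X ⟶ Y) [UniversallyClosed q] {A : X.Modules}
    (hA : CohB1.IsAmple A)
    (hsp : ∀ j : ℕ, AddSubgroup.closure {z : (CohB1.tensorMod (CohB1.tensorPow A (j + 1)) A).val.obj (op ⊤) |
      ∃ (m : (CohB1.tensorPow A (j + 1)).val.obj (op ⊤)) (v : A.val.obj (op ⊤)), z = SecTwist.tmul (CohB1.tensorPow A (j + 1)) A ⊤ m v} = ⊤) {n : ℕ}
    (s : Fin (n + 1) → (Coh.structureModule X ⟶ A)) (hs : ∀ x, ∃ i, x ∈ CohB1.genLocus A (s i))
    (hspan : ∀ v : Γ(A, ⊤), ∃ r : Fin (n + 1) → Γ(Y, ⊤), v = ∑ b, (show Γ(X, ⊤) from q.appTop (r b)) • sec (s b)) :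
    RelVALib.EmbGen q s := by
  classical
  refine ⟨fun a => isAffineOpen_genLocus_of_universallyClosed q hA (s a), hs, fun a => ?_⟩
  haveI : CompactSpace X := hA.2.1
  haveI := quasiSeparatedSpace_of_isAmple hA
  set U := CohB1.genLocus A (s a) with hU
  set e := resT (sec (s a)) U with he
  intro t ht
  have ht' : ∀ b, t b • e = resT (sec (s b)) U := fun b => by
    have h := ht b
    unfold RelVALib.IsRatio at h
    exact h
  let ev := MvPolynomial.eval₂Hom (q.appLE ⊤ U (fun _ _ => trivial)).hom t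
  have key : ∀ (j : ℕ) (τ : Γ(CohB1.tensorPow A (j + 1), ⊤)),
      ∃ p, resT τ U = ev p • powLoc e (j + 1) := by
    intro j
    induction j with
    | zero =>
      intro τ
      haveI := isIso_pairLeft_one A
      obtain ⟨v, hv⟩ := (ConcreteCategory.bijective_of_isIso
        ((pairLeft (Coh.structureModule X) A (show Γ(Coh.structureModule X, ⊤) from (1 : Γ(X, ⊤)))).app ⊤)).2 τ
      obtain ⟨r, hr⟩ := hspan v
      refine ⟨∑ b, MvPolynomial.C (r b) * MvPolynomial.X b, ?_⟩
      have h1 : resT v U = ev (∑ b, MvPolynomial.C (r b) * MvPolynomial.X b) • e := by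
        rw [hr, resT, map_sum, map_sum, Finset.sum_smul]
        refine Finset.sum_congr rfl fun b _ => ?_
        rw [A.map_smul, map_mul, mul_smul]
        simp only [ev, MvPolynomial.eval₂Hom_C, MvPolynomial.eval₂Hom_X']
        rw [ht' b]
        rfl
      rw [← hv]
      show resT (pairS (Coh.structureModule X) A (resT (show Γ(Coh.structureModule X, ⊤) from (1 : Γ(X, ⊤))) ⊤) v) U =
        _ • pairS (Coh.structureModule X) A (powLoc e 0) e
      rw [resT, res_pairS, ← pairS_smul_right]
      refine congrArg₂ (pairS (Coh.structureModule X) A) ?_ h1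
      rw [resT, ParaFLib.res_res]
      exact map_one (X.presheaf.map (homOfLE (le_top : U ≤ ⊤)).op).hom
    | succ j ih =>
      intro τ
      refine closure_induction' (hsp j)
        (fun z => ∃ p, resT (show Γ(CohB1.tensorPow A (j + 1 + 1), ⊤) from z) U = ev p • powLoc e (j + 1 + 1))
        (fun a v => ?_) ?_ ?_ ?_ τ
      · obtain ⟨p, hp⟩ := ih a
        obtain ⟨r, hr⟩ := hspan v
        refine ⟨p * ∑ b, MvPolynomial.C (r b) * MvPolynomial.X b, ?_⟩
        have h1 : resT v U = ev (∑ b, MvPolynomial.C (r b) * MvPolynomial.X b) • e := by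
          rw [hr, resT, map_sum, map_sum, Finset.sum_smul]
          refine Finset.sum_congr rfl fun b _ => ?_
          rw [A.map_smul, map_mul, mul_smul]
          simp only [ev, MvPolynomial.eval₂Hom_C, MvPolynomial.eval₂Hom_X']
          rw [ht' b]
          rfl
        refine (res_pairS le_top a v).trans ?_
        show pairS (CohB1.tensorPow A (j + 1)) A (resT a U) (resT v U) =
          _ • pairS (CohB1.tensorPow A (j + 1)) A (powLoc e (j + 1)) e
        refine (congrArg₂ (pairS (CohB1.tensorPow A (j + 1)) A) hp h1).trans ?_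
        rw [pairS_smul_left, pairS_smul_right, smul_smul, map_mul]
      · exact ⟨0, by rw [resT, map_zero]; erw [map_zero]; exact (zero_smul _ _).symm⟩
      · rintro x y ⟨p, hp⟩ ⟨p', hp'⟩
        refine ⟨p + p', ?_⟩
        rw [map_add, add_smul, ← hp, ← hp']
        exact map_add ((CohB1.tensorPow A (j + 1 + 1)).presheaf.map (homOfLE (le_top : U ≤ ⊤)).op).hom x y
      · rintro x ⟨p, hp⟩
        refine ⟨-p, ?_⟩
        rw [map_neg, neg_smul, ← hp]
        exact map_neg ((CohB1.tensorPow A (j + 1 + 1)).presheaf.map (homOfLE (le_top : U ≤ ⊤)).op).hom x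
  intro h
  obtain ⟨k, τ, hτ⟩ := exists_extend hA.1 (s a) h
  obtain ⟨p, hp⟩ := key k (pairS (CohB1.tensorPow A k) A (sec τ) (sec (s a)))
  have hinj : Function.Injective fun r : Γ(X, U) => r • powLoc e (k + 1) := fun r r' hrr => by
    refine ((gen_powLoc (gen_genLocus hA.1 (s a)) (k + 1)) U le_rfl).1 ?_
    change r • (CohB1.tensorPow A (k + 1)).presheaf.map (homOfLE (le_refl U)).op (powLoc e (k + 1)) =
      r' • (CohB1.tensorPow A (k + 1)).presheaf.map (homOfLE (le_refl U)).op (powLoc e (k + 1))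
    rw [ParaFLib.res_self]
    exact hrr
  refine ⟨p, hinj ?_⟩
  show ev p • powLoc e (k + 1) = h • powLoc e (k + 1)
  refine hp.symm.trans ?_
  refine (res_pairS le_top (sec τ) (sec (s a))).trans ?_
  show pairS (CohB1.tensorPow A k) A (resT (sec τ) U) e = h • pairS (CohB1.tensorPow A k) A (powLoc e k) e
  rw [hτ, pairS_smul_left]


theorem germ_pairS_mem {A B : X.Modules} (x : X) (m : Γ(A, ⊤)) (v : Γ(B, ⊤))
    (hv : B.presheaf.germ ⊤ x trivial v ∈
      IsLocalRing.maximalIdeal (X.presheaf.stalk x) • (⊤ : Submodule (X.presheaf.stalk x) (B.presheaf.stalk x))) :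
    (tmod A B).presheaf.germ ⊤ x trivial (pairS A B m v) ∈
      IsLocalRing.maximalIdeal (X.presheaf.stalk x) •
        (⊤ : Submodule (X.presheaf.stalk x) ((tmod A B).presheaf.stalk x)) := by
  rw [← stalkTensorHom_tmul x (U := ⊤) trivial m v]
  generalize A.presheaf.germ ⊤ x trivial m = a
  show stalkTensor x A B (a ⊗ₜ[X.presheaf.stalk x] B.presheaf.germ ⊤ x trivial v) ∈ _
  refine Submodule.smul_induction_on hv (fun r hr w _ => ?_) fun y z hy hz => ?_
  · rw [TensorProduct.tmul_smul, map_smul]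
    exact Submodule.smul_mem_smul hr trivial
  · rw [TensorProduct.tmul_add, map_add]
    exact Submodule.add_mem _ hy hz

theorem notMem_max_of_mem_genLocus {L : X.Modules} (hL : PicF.IsInvertible L) {t : Coh.structureModule X ⟶ L} {x : X}
    (hx : x ∈ CohB1.genLocus L t) : L.presheaf.germ ⊤ x trivial (sec t) ∉
      IsLocalRing.maximalIdeal (X.presheaf.stalk x) • (⊤ : Submodule (X.presheaf.stalk x) (L.presheaf.stalk x)) := by
  rw [AmpleLib.mem_genLocus_iff hL] at hx
  intro hm
  set e := L.presheaf.germ ⊤ x trivial (sec t)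
  have htop : (⊤ : Submodule (X.presheaf.stalk x) (L.presheaf.stalk x)) = Submodule.span (X.presheaf.stalk x) {e} :=
    (eq_top_iff.2 fun w _ => Submodule.mem_span_singleton.2 (hx.2 w)).symm
  rw [htop, Submodule.mem_smul_span_singleton] at hm
  obtain ⟨r, hr, he⟩ := hm
  have : r = 1 := hx.1 (by simpa using he)
  subst this
  exact hr isUnit_one

theorem mem_max_of_notMem_genLocus {L : X.Modules} (hL : PicF.IsInvertible L) {t : Coh.structureModule X ⟶ L} {x : X}
    (hx : x ∉ CohB1.genLocus L t) : L.presheaf.germ ⊤ x trivial (sec t) ∈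
      IsLocalRing.maximalIdeal (X.presheaf.stalk x) • (⊤ : Submodule (X.presheaf.stalk x) (L.presheaf.stalk x)) := by
  obtain ⟨e, he⟩ := ParaFLib.exists_stalk_gen hL x
  obtain ⟨a, ha⟩ := he.2 (L.presheaf.germ ⊤ x trivial (sec t))
  rw [← ha]
  refine Submodule.smul_mem_smul ?_ trivial
  intro hu
  refine hx ?_
  rw [AmpleLib.mem_genLocus_iff hL, ← ha]
  exact (AmpleLib.bijective_smul_iff he a).2 hu

theorem germ_mem_of_closure {A B : X.Modules} (x : X)
    (h : AddSubgroup.closure {z : (CohB1.tensorMod A B).val.obj (op ⊤) |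
      ∃ (m : A.val.obj (op ⊤)) (v : B.val.obj (op ⊤)), z = SecTwist.tmul A B ⊤ m v} = ⊤)
    (hB : ∀ v : Γ(B, ⊤), B.presheaf.germ ⊤ x trivial v ∈
      IsLocalRing.maximalIdeal (X.presheaf.stalk x) • (⊤ : Submodule (X.presheaf.stalk x) (B.presheaf.stalk x)))
    (z : Γ(tmod A B, ⊤)) : (tmod A B).presheaf.germ ⊤ x trivial z ∈
      IsLocalRing.maximalIdeal (X.presheaf.stalk x) •
        (⊤ : Submodule (X.presheaf.stalk x) ((tmod A B).presheaf.stalk x)) := by
  refine closure_induction' h (fun z => (tmod A B).presheaf.germ ⊤ x trivial z ∈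
      IsLocalRing.maximalIdeal (X.presheaf.stalk x) •
        (⊤ : Submodule (X.presheaf.stalk x) ((tmod A B).presheaf.stalk x)))
    (fun a v => germ_pairS_mem x a v (hB v)) ?_ (fun y w hy hw => ?_) (fun y hy => ?_) z
  · rw [map_zero]; exact Submodule.zero_mem _
  · rw [map_add]; exact Submodule.add_mem _ hy hw
  · rw [map_neg]; exact Submodule.neg_mem _ hy

theorem germ_mem_of_pairLeft {A B : X.Modules} (x : X) (σ : Γ(A, ⊤)) (hσ : IsIso (pairLeft A B σ))
    (hB : ∀ v : Γ(B, ⊤), B.presheaf.germ ⊤ x trivial v ∈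
      IsLocalRing.maximalIdeal (X.presheaf.stalk x) • (⊤ : Submodule (X.presheaf.stalk x) (B.presheaf.stalk x)))
    (z : Γ(tmod A B, ⊤)) : (tmod A B).presheaf.germ ⊤ x trivial z ∈
      IsLocalRing.maximalIdeal (X.presheaf.stalk x) •
        (⊤ : Submodule (X.presheaf.stalk x) ((tmod A B).presheaf.stalk x)) := by
  haveI := hσ
  obtain ⟨v, rfl⟩ := (ConcreteCategory.bijective_of_isIso ((pairLeft A B σ).app ⊤)).2 z
  exact germ_pairS_mem x _ v (hB v)

/-- A family spanning the sections of an ample normally generated module generates it. -/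
theorem exists_mem_genLocus {A : X.Modules} (hA : CohB1.IsAmple A)
    (hng : ∀ j : ℕ, AddSubgroup.closure {z : (CohB1.tensorMod (CohB1.tensorPow A (j + 1)) A).val.obj (op ⊤) |
      ∃ (m : (CohB1.tensorPow A (j + 1)).val.obj (op ⊤)) (v : A.val.obj (op ⊤)),
        z = SecTwist.tmul (CohB1.tensorPow A (j + 1)) A ⊤ m v} = ⊤)
    {n : ℕ} (s : Fin n → (Coh.structureModule X ⟶ A))
    (hspan : ∀ v : Γ(A, ⊤), ∃ r : Fin n → Γ(X, ⊤), v = ∑ b, r b • sec (s b)) (x : X) :
    ∃ i, x ∈ CohB1.genLocus A (s i) := by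
  by_contra hne
  push Not at hne
  have hA1 : ∀ v : Γ(A, ⊤), A.presheaf.germ ⊤ x trivial v ∈
      IsLocalRing.maximalIdeal (X.presheaf.stalk x) • (⊤ : Submodule (X.presheaf.stalk x) (A.presheaf.stalk x)) := by
    intro v
    obtain ⟨r, hr⟩ := hspan v
    rw [hr, map_sum]
    refine Submodule.sum_mem _ fun b _ => ?_
    rw [ParaFLib.germ_smul']
    exact Submodule.smul_mem _ _ (mem_max_of_notMem_genLocus hA.1 (hne b))
  obtain ⟨j, t, hx, -⟩ := hA.2.2 x
  refine notMem_max_of_mem_genLocus (AmpleLib.isInvertible_tensorPow hA.1 (j + 1)) hx ?_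
  rcases j with _ | j
  · exact germ_mem_of_pairLeft (A := Coh.structureModule X) (B := A) x
      (show Γ(Coh.structureModule X, ⊤) from (1 : Γ(X, ⊤))) (isIso_pairLeft_one A) hA1 (sec t)
  · exact germ_mem_of_closure (A := CohB1.tensorPow A (j + 1)) (B := A) x (hng j) hA1 (sec t)

end

theorem exists_generators (R : Type u) [CommRing R] [IsNoetherianRing R]
    {X : Scheme.{u}} (f : X ⟶ Spec (CommRingCat.of R)) [IsProper f] {L : X.Modules} (hL : PicF.IsInvertible L) :
    ∃ (n : ℕ) (v : Fin (n + 1) → Γ(L, ⊤)), ∀ w : Γ(L, ⊤),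
      ∃ r : Fin (n + 1) → Γ(Spec (CommRingCat.of R), ⊤), w = ∑ b, (show Γ(X, ⊤) from f.appTop (r b)) • v b := by
  haveI : IsLocallyNoetherian X := LocallyOfFiniteType.isLocallyNoetherian f
  haveI : CompactSpace X := QuasiCompact.compactSpace_of_compactSpace f
  haveI : AlgebraicGeometry.IsNoetherian X := ⟨⟩
  letI : Module R (Coh.HH X L 0) := Module.compHom (Coh.HH X L 0) (Coh.toGlobal f)
  haveI : Module.Finite R (Coh.HH X L 0) := ProperFin.allFin_of_isCoh f L (CurveLib.isCoh_of_isInvertible hL) 0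
  obtain ⟨n, g, hg⟩ := Module.Finite.exists_fin (R := R) (M := Coh.HH X L 0)
  refine ⟨n, fun b => CurveLib.secOf L (Fin.snoc (α := fun _ : Fin (n + 1) => Coh.HH X L 0) g 0 b), fun w => ?_⟩
  have hmem : (CurveLib.secOf L).symm w ∈ Submodule.span R (Set.range g) := hg ▸ Submodule.mem_top
  obtain ⟨c, hc⟩ := (Submodule.mem_span_range_iff_exists_fun R).1 hmem
  refine ⟨fun b => (Scheme.ΓSpecIso (CommRingCat.of R)).inv (Fin.snoc (α := fun _ : Fin (n + 1) => R) c 0 b), ?_⟩
  rw [Fin.sum_univ_castSucc]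
  simp only [Fin.snoc_castSucc, Fin.snoc_last]
  rw [map_zero (CurveLib.secOf L), smul_zero, add_zero]
  conv_lhs => rw [← (CurveLib.secOf L).apply_symm_apply w, ← hc, map_sum]
  refine Finset.sum_congr rfl fun i _ => ?_
  show CohBase.H0Equiv (⊤ : X.Opens) (Coh.toAb L) (CohBase.HEquiv _ 0 (Sheaf.H.map (Coh.smulAb L _) 0 (g i))) = _
  rw [CohBase.HEquiv_map, CohBase.H0Equiv_hmap, Coh.smulAb_app]
  exact congrArg (fun a : Γ(X, ⊤) => a • CurveLib.secOf L (g i)) (ConcreteCategory.congr_hom (X.presheaf.map_id _) _)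

/-- Let R be a Noetherian ring and f : X ⟶ Spec R a relative curve (proper and smooth, with
geometrically connected fibres of dimension one). Let L be an ample invertible O_X-module which is
normally generated, i.e. for every n ≥ 1 the global sections of L^(n+1) = L^n ⊗ L are additively
generated by the products m ⊗ s of a global section m of L^n and a global section s of L
(equivalently, the n-fold tensor powers of the global sections of L map onto the global sections of
L^n for all n ≥ 1). Then L is very ample relative to f: there is an immersion i : X ⟶ P^N over Spec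
R with L ≅ i^*O(1). (The projectivity of X over Spec R assumed in the source follows here from the
ampleness of L.) -/
theorem result (R : Type u) [CommRing R] [IsNoetherianRing R]
    {X : Scheme.{u}} (f : X ⟶ Spec (CommRingCat.of R)) [IsProper f] [Smooth f] [GeometricallyConnected f]
    (hdim : ∀ s : Spec (CommRingCat.of R), topologicalKrullDim ↥(f.fiber s) = 1)
    (L : X.Modules) (hL : PicF.IsInvertible L) (hLa : CohB1.IsAmple L)
    (hng : ∀ n : ℕ, 1 ≤ n → AddSubgroup.closure {t | ∃ (m : (CohB1.tensorPow L n).val.obj (op ⊤)) (s : L.val.obj (op ⊤)), t = SecTwist.tmul (CohB1.tensorPow L n) L ⊤ m s} = ⊤) :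
    RelAmple.IsRelVeryAmplePn f L := by
  obtain ⟨n, v, hv⟩ := exists_generators R f hL
  let s : Fin (n + 1) → (Coh.structureModule X ⟶ L) := fun b => DCohLib.secHom L (v b)
  have hspan : ∀ w : Γ(L, ⊤), ∃ r : Fin (n + 1) → Γ(Spec (CommRingCat.of R), ⊤),
      w = ∑ b, (show Γ(X, ⊤) from f.appTop (r b)) • sec (s b) := fun w => by
    simp only [s, AmpleLib.sec_secHom]
    exact hv w
  have hcov : ∀ x, ∃ i, x ∈ CohB1.genLocus L (s i) :=
    exists_mem_genLocus hLa (fun j => hng (j + 1) (by omega)) s fun w => (hspan w).elim fun r hr => ⟨_, hr⟩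
  have h := embGen_of_closure f hLa (fun j => hng (j + 1) (by omega)) s hcov hspan
  choose t ht using fun a b => ((AmpleEmb.gen_genLocus hL (s a)) _ le_rfl).2 (resT (sec (s b)) (CohB1.genLocus L (s a)))
  simp only [ParaFLib.res_self] at ht
  let F := AmpleEmb.familyOfSections hL s h.affine h.cover t ht
  haveI := RelVALib.EmbGen.isClosedImmersion hL h t ht
  obtain ⟨θ⟩ := AmpleEmb.nonempty_iso_pullback_twistOne (AmpleEmb.intConst X) F s (fun i => AmpleEmb.gen_genLocus hL (s i)) ht
  exact ⟨n, AmpleEmb.toProjOver f F, inferInstanceAs (IsImmersion (AmpleEmb.toProjOver f (AmpleEmb.familyOfSections hL s h.affine h.cover t ht))),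
    AmpleEmb.toProjOver_toBase f F,
    ⟨θ ≪≫ (Scheme.Modules.pullbackCongr (AmpleEmb.toProjOver_toInt f F).symm).app _ ≪≫
      ((Scheme.Modules.pullbackComp (AmpleEmb.toProjOver f F) (ProjMap.toInt (Spec (CommRingCat.of R)) n)).app _).symm⟩⟩

end Groth.Agent.S19059
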