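import Groth.Statements.S19060
import Groth.Agent.GenBCLib.CokerFlat
import Groth.Agent.GenBCLib.Helpers
import Groth.Agent.BCLib.Semi
-- import your own Groth.Agent.* helpers here

set_option autoImplicit false
set_option backward.isDefEq.respectTransparency false
set_option linter.style.haveILetI false
universe u
open CategoryTheory CategoryTheory.Limits AlgebraicGeometry Opposite
open Curves

namespace Groth.Agent.S19060

/-- Let R be a Noetherian ring and X a relative curve over Spec R (proper and smooth, with geometrically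
connected fibres of dimension one, and projective: X carries an ample invertible module). Let F be a
coherent O_X-module which is flat over Spec R (every stalk is a flat module over the local ring of
the base). If H^1(X, F) is a projective R-module, then H^0(X, F) is a projective R-module. (The
source says only that F is an O_X-module flat over the base; F is taken coherent here, as the
finiteness of its cohomology over R used there requires.) -/
theorem result (R : Type u) [CommRing R] [IsNoetherianRing R]
    (X : Scheme.{u}) [X.Over (Spec (CommRingCat.of R))] [IsProper (X ↘ Spec (CommRingCat.of R))]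
    [Smooth (X ↘ Spec (CommRingCat.of R))] [GeometricallyConnected (X ↘ Spec (CommRingCat.of R))]
    (hdim : ∀ s : Spec (CommRingCat.of R), topologicalKrullDim ↥((X ↘ Spec (CommRingCat.of R)).fiber s) = 1)
    (hproj : ∃ M : X.Modules, CohB1.IsAmple M)
    (F : X.Modules) (hF : Coh.IsCoh F) (hfl : FlatMod.IsFlatOver (X ↘ Spec (CommRingCat.of R)) F)
    (h1 : Module.Projective R (Coh.HH X F 1)) :
    Module.Projective R (Coh.HH X F 0) := by
  haveI : Coh.IsQCoh F := hF.1
  obtain ⟨Φ⟩ := Groth.Agent.BCLib.nonempty_fibModel hF hfl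
  let L := Φ.L
  haveI hfin : ∀ n, Module.Finite R (L.X n) := Φ.finite
  haveI hflat : ∀ n, Module.Flat R (L.X n) := Φ.flat
  haveI hproj : ∀ n, Module.Projective R (L.X n) := fun n =>
    haveI : Module.FinitePresentation R (L.X n) := Module.finitePresentation_of_finite R _
    Module.Flat.projective_of_finitePresentation
  have hvan : ∀ x : PrimeSpectrum R, FlatCx.kdim (L.δ 2) x.asIdeal.ResidueField = 0 := fun x => by
    rw [← Φ.fiberRank_eq 2 x]
    haveI := Groth.Agent.GenBCLib.subsingleton_fiberH_of_dim (X ↘ Spec (CommRingCat.of R)) F 1 x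
      (hdim x).le (i := 2) one_lt_two
    exact Module.finrank_zero_of_subsingleton
  haveI hC2 : Module.Flat R (L.X 2 ⧸ L.bd 2) := L.flat_quot_of_kdim_eq_zero 2 hvan
  obtain ⟨e1⟩ := Groth.Agent.BCLib.nonempty_HH_equiv_kerδ Φ.toModel 1
  haveI : Module.Projective R (LinearMap.ker (L.δ 1)) := Module.Projective.of_equiv e1
  haveI : Module.FinitePresentation R (L.X 2 ⧸ L.bd 2) := Module.finitePresentation_of_finite R _
  haveI : Module.Projective R (L.X 2 ⧸ L.bd 2) := Module.Flat.projective_of_finitePresentation
  obtain ⟨s, hs⟩ := Module.projective_lifting_property (L.bd 2).mkQ LinearMap.id (L.bd 2).mkQ_surjective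
  have hrange : ∀ x, (LinearMap.id - s ∘ₗ (L.bd 2).mkQ : L.X 2 →ₗ[R] L.X 2) x ∈ L.bd 2 := fun x => by
    rw [← Submodule.Quotient.mk_eq_zero]
    show (L.bd 2).mkQ (x - s ((L.bd 2).mkQ x)) = 0
    rw [map_sub, ← LinearMap.comp_apply _ s, hs, LinearMap.id_apply, sub_self]
  haveI : Module.Projective R (L.bd 2) := Module.Projective.of_split (L.bd 2).subtype
    ((LinearMap.id - s ∘ₗ (L.bd 2).mkQ).codRestrict _ hrange) (LinearMap.ext fun x => Subtype.ext (by
      show x.1 - s ((L.bd 2).mkQ x.1) = x.1
      rw [Submodule.mkQ_apply, (Submodule.Quotient.mk_eq_zero _).2 x.2, map_zero, sub_zero]))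
  let q : (L.X 1 ⧸ L.bd 1) →ₗ[R] L.bd 2 :=
    (L.δ 1).codRestrict _ fun x => (L.range_δ 1).le (LinearMap.mem_range_self (L.δ 1) x)
  have hq : Function.Surjective q := fun y => by
    obtain ⟨x, hx⟩ := (L.range_δ 1).ge y.2
    exact ⟨x, Subtype.ext hx⟩
  obtain ⟨σ, hσ⟩ := Module.projective_lifting_property q LinearMap.id hq
  have hker : ∀ x, (LinearMap.id - σ ∘ₗ q : (L.X 1 ⧸ L.bd 1) →ₗ[R] _) x ∈ LinearMap.ker (L.δ 1) := fun x => by
    rw [LinearMap.mem_ker]
    show L.δ 1 (x - σ (q x)) = 0
    rw [map_sub, show L.δ 1 (σ (q x)) = L.δ 1 x from congrArg Subtype.val (LinearMap.congr_fun hσ (q x)), sub_self]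
  haveI hC1 : Module.Projective R (L.X 1 ⧸ L.bd 1) := Module.Projective.of_split
    (((LinearMap.id - σ ∘ₗ q).codRestrict _ hker).prod q) ((LinearMap.ker (L.δ 1)).subtype.coprod σ)
    (LinearMap.ext fun x => sub_add_cancel x (σ (q x)))
  haveI : Module.Flat R (L.X 0 ⧸ L.bd 0) :=
    Module.Flat.of_linearEquiv (Submodule.quotEquivOfEqBot (L.bd 0) rfl)
  haveI : Module.Flat R (LinearMap.ker (L.δ 0)) :=
    Groth.Agent.BCLib.flat_kerδ Φ.toModel 0 inferInstance (inferInstance : Module.Flat R (L.X 1 ⧸ L.bd 1))
  haveI : IsNoetherian R (L.X 0 ⧸ L.bd 0) := isNoetherian_of_isNoetherianRing_of_finite R _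
  haveI : Module.FinitePresentation R (LinearMap.ker (L.δ 0)) := Module.finitePresentation_of_finite R _
  haveI : Module.Projective R (LinearMap.ker (L.δ 0)) := Module.Flat.projective_of_finitePresentation
  obtain ⟨e0⟩ := Groth.Agent.BCLib.nonempty_HH_equiv_kerδ Φ.toModel 0
  exact Module.Projective.of_equiv e0.symm

end Groth.Agent.S19060
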