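import Groth.Statements.S1907
import Groth.Agent.CycLib.RatPull

set_option autoImplicit false
universe u
open CategoryTheory AlgebraicGeometry
open Cyc

namespace Groth.Agent.S1907

open CategoryTheory CategoryTheory.Limits AlgebraicGeometry

set_option backward.isDefEq.respectTransparency false
set_option backward.defeqAttrib.useBackward true
set_option linter.style.haveILetI false


/-- Let Y be integral with δY(η_Y) = k, f : X → Y flat, locally of finite type, of relative dimension r,
and g a nonzero rational function on Y. Then f^*(div_Y g) = Σ_j n_j · div_{X_j}(g|_{X_j}) as (k + r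
− 1)-cycles on X, the sum over the irreducible components X_j of X (generic points ξ_j, which map to
η_Y) with n_j the length of O_{X,ξ_j}, and g|_{X_j} the image of g in κ(ξ_j). A pair (X, δ) with
Cyc.IsSetup plays the role of a scheme locally of finite type over a fixed base with a dimension
function (X locally Noetherian with universally catenary local rings, δ a dimension function), and
Cyc.DeltaCompat records that the dimension function upstairs is the induced one. -/
theorem result (X Y : Scheme.{u}) [IsIntegral Y] (δX : X → ℤ) (δY : Y → ℤ) (hX : Cyc.IsSetup X δX) (hY : Cyc.IsSetup Y δY) (f : X ⟶ Y) [Flat f] [LocallyOfFiniteType f] (r : ℕ) (hr : Cyc.HasRelDim f r) (hδ : Cyc.DeltaCompat f δX δY) (k : ℤ) (hk : δY (genericPoint Y) = k) (g : Y.residueField (genericPoint Y)) (hg : g ≠ 0) (x : X) : Cyc.pullFun f δX δY r (Cyc.divFun δY (genericPoint Y) g) x = ∑ᶠ ξ : {ξ : X // (∀ x' : X, x' ⤳ ξ → x' = ξ) ∧ f ξ = genericPoint Y}, ((Module.length (X.presheaf.stalk ξ.1) (X.presheaf.stalk ξ.1)).toNat : ℤ)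 * Cyc.divFun δX ξ.1 (f.residueFieldMap ξ.1 ((Y.residueFieldCongr ξ.2.2.symm).hom g)) x := by
  haveI := hX.1
  haveI := hY.1
  have hs := CycLib.IsShift.of_relDim hX hY r hr hδ
  rw [CycLib.pullFun_divFun hs hX.2.2 hY.2.2 (genericPoint Y) hg x]
  have hiff : ∀ η : X, (f η = genericPoint Y ∧ CycLib.MaxFib f η) ↔
      ((∀ x' : X, x' ⤳ η → x' = η) ∧ f η = genericPoint Y) := by
    intro η
    refine ⟨fun ⟨e, hm⟩ => ⟨fun x' hx' => hm x' ?_ hx', e⟩, fun ⟨hm, e⟩ => ⟨e, fun w _ hw => hm w hw⟩⟩
    rw [e]
    exact ((genericPoint_specializes (f x')).antisymm (e ▸ hx'.map f.continuous)).eq.symm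
  refine finsum_eq_of_bijective (fun η => ⟨η.1, (hiff η.1).1 η.2⟩)
    ⟨fun a b e => Subtype.ext (congrArg (fun η : {ξ : X // (∀ x' : X, x' ⤳ ξ → x' = ξ) ∧ f ξ = genericPoint Y} => η.1) e),
      fun b => ⟨⟨b.1, (hiff b.1).2 b.2⟩, rfl⟩⟩ fun η => ?_
  congr 1
  have hbot : ∀ z : X, f z = genericPoint Y → CycLib.fibIdeal f z = ⊥ := fun z hz => by
    have : IsLocalRing.maximalIdeal (Y.presheaf.stalk (f z)) = ⊥ := by
      rw [← IsLocalRing.isField_iff_maximalIdeal_eq, hz]
      exact Field.toIsField Y.functionField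
    show Ideal.map _ (IsLocalRing.maximalIdeal (Y.presheaf.stalk (f z))) = ⊥
    rw [this, Ideal.map_bot]
  unfold CycLib.mult
  rw [hbot η.1 η.2.1, (Submodule.quotEquivOfEqBot (⊥ : Ideal (X.presheaf.stalk η.1)) rfl).length_eq]

end Groth.Agent.S1907
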