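import Groth.Statements.S19073
import Groth.Agent.TwistShriek.SurfRR
import Groth.Agent.FundLocIsoLib.SerreDual
import Groth.Agent.FundLocIsoLib.Regular
-- import your own Groth.Agent.* helpers here

set_option autoImplicit false
set_option backward.isDefEq.respectTransparency false
set_option maxHeartbeats 800000
set_option synthInstance.maxHeartbeats 200000
universe u
open CategoryTheory CategoryTheory.Limits AlgebraicGeometry
open Surf
open Groth.Agent Groth.Agent.TwistShriek Groth.Agent.DCohLib

namespace Groth.Agent.S19073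

/-- Let X be a surface over an algebraically closed field k (an integral scheme of dimension two all of
whose local rings are regular, with a closed immersion into some P^n_k over k), and let L₁, L₂ be
invertible O_X-modules which are numerically equivalent: (L₁·M) = (L₂·M) for every invertible
O_X-module M, where (L·M) = χ(O_X) − χ(L) − χ(M) + χ(L ⊗ M) is the intersection number. Then χ(X,
L₁) = χ(X, L₂). -/
theorem result (k : Type u) [Field k] [IsAlgClosed k] (X : Scheme.{u}) [X.Over (Spec (CommRingCat.of k))]
    [AlgebraicGeometry.IsIntegral X] (hdim : topologicalKrullDim X = 2) (hreg : ∀ x : X, IsRegularLocalRing (X.presheaf.stalk x))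
    (hproj : ∃ (n : ℕ) (ι : X ⟶ CohB1.ProjSpace n k), IsClosedImmersion ι ∧ ι ≫ CohB1.ProjSpace.toSpec n k = (X ↘ (Spec (CommRingCat.of k))))
    (L₁ L₂ : X.Modules) (hL₁ : PicF.IsInvertible L₁) (hL₂ : PicF.IsInvertible L₂)
    (hnum : ∀ M : X.Modules, PicF.IsInvertible M →
      FGA.intNum k X 2 ![L₁, M] (Coh.structureModule X) = FGA.intNum k X 2 ![L₂, M] (Coh.structureModule X)) :
    Curv2.euler k X L₁ = Curv2.euler k X L₂ := by
    obtain ⟨n, ι, hι, hι'⟩ := hproj
    haveI := hι
    haveI := ProjSerreLib.isProper_over ι hι'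
    haveI := FundLocIsoLib.smoothOfRelativeDimension_of_regular (X ↘ Spec (CommRingCat.of k)) hreg hdim
    haveI : Smooth (X ↘ Spec (CommRingCat.of k)) := SmoothOfRelativeDimension.smooth 2 _
    haveI := (Groth.Agent.PullbackMod.isQCoh_and_isFP_of_isFinLocFree _ (InfLiftLib.isFinLocFree_omega (X ↘ Spec (CommRingCat.of k)))).1
    obtain ⟨W, -, hW⟩ := ExtPowLib.exists_isExtPow (Omega.sheaf (X ↘ Spec (CommRingCat.of k))) 2
    have hWinv : PicF.IsInvertible W :=
      SeesawVB.isInvertible_of_isExtPow hW (SeesawVB.exists_frame_omega (X ↘ Spec (CommRingCat.of k)) 2)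
    obtain ⟨t, ht⟩ := FundLocIsoLib.exists_trace_topForms ι hι' hW
    have hRR : ∀ {L : X.Modules}, PicF.IsInvertible L → _ := fun {L} hL =>
      two_mul_euler_of_trace k ι (FundLocIsoLib.isCoh_topForms ι hι' hW) hWinv hdim.le
        (FundLocIsoLib.cm_closedPoint (n := 2) ι hι') t ht (L := L) hL
    have hsymm : ∀ {A B : X.Modules}, PicF.IsInvertible A → PicF.IsInvertible B →
        FGA.intNum k X 2 ![A, B] (Coh.structureModule X) = FGA.intNum k X 2 ![B, A] (Coh.structureModule X) :=
      fun {A B} hA hB => by
      rw [IntLib.intNum_eq k hdim.le _ ![A, B] (fun i => by fin_cases i <;> assumption),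
        IntLib.intNum_eq k hdim.le _ ![B, A] (fun i => by fin_cases i <;> assumption), Fin.prod_univ_two,
        Fin.prod_univ_two]
      exact congrArg _ (mul_comm _ _)
    have h1 := hRR hL₁
    have h2 := hRR hL₂
    have a := hnum L₁ hL₁
    have b := hnum L₂ hL₂
    have c := hsymm hL₁ hL₂
    have d := hnum W hWinv
    linarith

end Groth.Agent.S19073
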