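import Groth.Statements.S19082
import Groth.Agent.HypSqLib.Invol

set_option autoImplicit false
universe u
open CategoryTheory CategoryTheory.Limits AlgebraicGeometry Opposite
open HypSq

namespace Groth.Agent.S19082

open CategoryTheory CategoryTheory.Limits AlgebraicGeometry

set_option backward.isDefEq.respectTransparency false
set_option backward.defeqAttrib.useBackward true
set_option linter.style.haveILetI false

open Groth.Agent.HypSq

open Groth.Agent.IntLib (mk mk_eq_mk mk_tensor mk_tensorPow pullCls pullCls_mk) in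
theorem fst_graph {k : Type u} [Field k] [IsAlgClosed k] {C : Scheme.{u}} [C.Over (Spec (CommRingCat.of k))]
    [IsProper (C ↘ Spec (CommRingCat.of k))] [Smooth (C ↘ Spec (CommRingCat.of k))] [ConnectedSpace ↥C]
    (hdim : topologicalKrullDim ↥C = 1) {g : ℕ} (hg : 2 ≤ g) (hgen : Curv2.genus k C = g)
    (κ : C ⟶ CohB1.ProjSpace 1 k) (hκ : κ ≫ CohB1.ProjSpace.toSpec 1 k = (C ↘ Spec (CommRingCat.of k)))
    [IsFinite κ] [Flat κ] (hκ2 : ∀ y : ↥(CohB1.ProjSpace 1 k), κ.finrank y = 2)
    {τ : C ⟶ C} [IsIso τ] (hτ : τ ≫ κ = κ)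
    (hτp : τ ≫ (C ↘ Spec (CommRingCat.of k)) = (C ↘ Spec (CommRingCat.of k)))
    {N : (Sq k C).Modules} (hN : PicF.IsInvertible N) (hNinv : ClSub.IsInverseOf N (ClSub.idealMod (gr hτp).ker))
    {A : C.Modules} (hA : PicF.IsInvertible A) (hd : Curv2.deg k C A 1 = 1) :
    FGA.intNum k (Sq k C) 2 ![(Scheme.Modules.pullback (p₁ k C)).obj A, N] (Coh.structureModule (Sq k C)) = 1 := by
  haveI := Groth.Agent.CurveLib.isIntegral_of_smooth (X := C) k
  haveI := Groth.Agent.EulerIneqLib.isNoetherian_proper (X := C) k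
  have hO := Groth.Agent.ParaFLib.isInvertible_structureModule (X := C)
  have hOd : Curv2.deg k C (Coh.structureModule C) 1 = 0 := Groth.Agent.CurveLib.deg_structureModule
  have hOt : Curv2.deg k C ((Scheme.Modules.pullback τ).obj (Coh.structureModule C)) 1 = 0 :=
    (deg_pullback_iso τ hτp hO).trans hOd
  have e1 := euler_box_pow hdim hg hgen κ hκ hκ2 hτ hτp hN hNinv hA hO hd hOt hOd
  have e0 := euler_box_pow hdim hg hgen κ hκ hκ2 hτ hτp hN hNinv hO hO hOd hOt hOd
  have hV : mk (box (k := k) A (Coh.structureModule C)) = mk ((Scheme.Modules.pullback (p₁ k C)).obj A) := by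
    rw [mk_box, show mk (Coh.structureModule C) = 1 from rfl, map_one, mul_one, pullCls_mk]
  have hU : mk (box (k := k) (Coh.structureModule C) (Coh.structureModule C)) = 1 := by
    rw [mk_box, show mk (Coh.structureModule C) = 1 from rfl, map_one, map_one, mul_one]
  refine (intNum_two hdim (Groth.Agent.AmpleLib.isInvertible_pullback _ hA) hN).trans ?_
  rw [euler_congr (M := Coh.structureModule _) (M' := CohB1.tensorMod (box (k := k) (Coh.structureModule C) (Coh.structureModule C)) (CohB1.tensorPow N 0))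
      (by rw [mk_tensor, mk_tensorPow, hU, pow_zero, mul_one]; rfl),
    euler_congr (M := (Scheme.Modules.pullback (p₁ k C)).obj A) (M' := CohB1.tensorMod (box (k := k) A (Coh.structureModule C)) (CohB1.tensorPow N 0))
      (by rw [mk_tensor, mk_tensorPow, hV, pow_zero, mul_one]),
    euler_congr (M := N) (M' := CohB1.tensorMod (box (k := k) (Coh.structureModule C) (Coh.structureModule C)) (CohB1.tensorPow N 1))
      (by rw [mk_tensor, mk_tensorPow, hU, pow_one, one_mul]),
    euler_congr (M := CohB1.tensorMod ((Scheme.Modules.pullback (p₁ k C)).obj A) N) (M' := CohB1.tensorMod (box (k := k) A (Coh.structureModule C)) (CohB1.tensorPow N 1))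
      (by rw [mk_tensor, mk_tensor (box A _), mk_tensorPow, hV, pow_one]),
    e0, e1, e0, e1]
  push_cast
  ring

open Groth.Agent.IntLib (mk mk_eq_mk mk_tensor mk_tensorPow pullCls pullCls_mk) in
theorem fst_fst_snd {k : Type u} [Field k] [IsAlgClosed k] {C : Scheme.{u}} [C.Over (Spec (CommRingCat.of k))]
    [IsProper (C ↘ Spec (CommRingCat.of k))] [Smooth (C ↘ Spec (CommRingCat.of k))] [ConnectedSpace ↥C]
    (hdim : topologicalKrullDim ↥C = 1) {g : ℕ} (hgen : Curv2.genus k C = g)
    {A : C.Modules} (hA : PicF.IsInvertible A) (hd : Curv2.deg k C A 1 = 1) :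
    FGA.intNum k (Sq k C) 2 ![(Scheme.Modules.pullback (p₁ k C)).obj A, (Scheme.Modules.pullback (p₁ k C)).obj A]
        (Coh.structureModule (Sq k C)) = 0 ∧
      FGA.intNum k (Sq k C) 2 ![(Scheme.Modules.pullback (p₁ k C)).obj A, (Scheme.Modules.pullback (p₂ k C)).obj A]
        (Coh.structureModule (Sq k C)) = 1 := by
  haveI := Groth.Agent.CurveLib.isIntegral_of_smooth (X := C) k
  haveI := Groth.Agent.EulerIneqLib.isNoetherian_proper (X := C) k
  have hO := Groth.Agent.ParaFLib.isInvertible_structureModule (X := C)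
  have hOd : Curv2.deg k C (Coh.structureModule C) 1 = 0 := Groth.Agent.CurveLib.deg_structureModule
  have hAA := Groth.Agent.AmpleLib.isInvertible_tensor hA hA
  have hd2 := deg_mul (k := k) hdim hA hA (P := CohB1.tensorMod A A) (mk_tensor A A)
  have hp := Groth.Agent.AmpleLib.isInvertible_pullback (p₁ k C) hA
  have hq := Groth.Agent.AmpleLib.isInvertible_pullback (p₂ k C) hA
  have h1 : mk (Coh.structureModule C) = 1 := rfl
  constructor
  · rw [intNum_two hdim hp hp,
      euler_congr (M := Coh.structureModule _) (M' := box (k := k) (Coh.structureModule C) (Coh.structureModule C))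
        (by rw [mk_box, h1, map_one, map_one, mul_one]; rfl),
      euler_congr (M := (Scheme.Modules.pullback (p₁ k C)).obj A) (M' := box (k := k) A (Coh.structureModule C))
        (by rw [mk_box, h1, map_one, mul_one, pullCls_mk]),
      euler_congr (M := CohB1.tensorMod ((Scheme.Modules.pullback (p₁ k C)).obj A) ((Scheme.Modules.pullback (p₁ k C)).obj A)) (M' := box (k := k) (CohB1.tensorMod A A) (Coh.structureModule C))
        (by rw [mk_tensor, mk_box, h1, map_one, mul_one, mk_tensor, map_mul, pullCls_mk]),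
      euler_box hdim hO hO, euler_box hdim hA hO, euler_box hdim hAA hO, euler_eq hdim hgen, euler_eq hdim hgen,
      euler_eq hdim hgen, hd2, hd, hOd]
    ring
  · rw [intNum_two hdim hp hq,
      euler_congr (M := Coh.structureModule _) (M' := box (k := k) (Coh.structureModule C) (Coh.structureModule C))
        (by rw [mk_box, h1, map_one, map_one, mul_one]; rfl),
      euler_congr (M := (Scheme.Modules.pullback (p₁ k C)).obj A) (M' := box (k := k) A (Coh.structureModule C))
        (by rw [mk_box, h1, map_one, mul_one, pullCls_mk]),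
      euler_congr (M := (Scheme.Modules.pullback (p₂ k C)).obj A) (M' := box (k := k) (Coh.structureModule C) A)
        (by rw [mk_box, h1, map_one, one_mul, pullCls_mk]),
      euler_box hdim hO hO, euler_box hdim hA hO, euler_box hdim hO hA, euler_box hdim hA hA, euler_eq hdim hgen,
      euler_eq hdim hgen, hd, hOd]
    ring


/-- Let k be an algebraically closed field of characteristic ≠ 2 and C a hyperelliptic curve of genus g
≥ 2 over k: C ⟶ Spec k proper and smooth, C connected of dimension one with dim_k H^1(C, O_C) = g,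
with a double cover κ : C ⟶ P^1_k over k (finite, flat, of rank 2 everywhere) and hyperelliptic
involution σ (σ ≫ κ = κ, σ ≠ id). On X = C ×_k C let N be an invertible O_X-module inverse to the
ideal sheaf of the graph Γ_σ = (id, σ) : C ⟶ X, N_Δ an invertible module inverse to the ideal sheaf
of the diagonal, x : Spec k ⟶ C a k-point with A = O_C(x) an invertible O_C-module inverse to the
ideal sheaf of x, and V = p_1^*A, H = p_2^*A the classes of the fibres {x} × C and C × {x}. Then
(V·V) = 0, (V·H) = 1, (V·N_Δ) = 1 and (V·N) = 1, with (L·M) = χ(O_X) − χ(L) − χ(M) + χ(L ⊗ M) the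
intersection number. (The source takes x to be a Weierstrass point; the entries hold for any
k-point.) -/
theorem result (k : Type u) [Field k] [IsAlgClosed k] (h2 : (2 : k) ≠ 0)
    (C : Scheme.{u}) [C.Over (Spec (CommRingCat.of k))] [IsProper (C ↘ Spec (CommRingCat.of k))] [Smooth (C ↘ Spec (CommRingCat.of k))] [ConnectedSpace ↥C]
    (hdim : topologicalKrullDim ↥C = 1) (g : ℕ) (hg : 2 ≤ g) (hgen : Curv2.genus k C = g)
    (κ : C ⟶ CohB1.ProjSpace 1 k) (hκ : κ ≫ CohB1.ProjSpace.toSpec 1 k = (C ↘ Spec (CommRingCat.of k)))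
    [IsFinite κ] [Flat κ] (hκ2 : ∀ y : ↥(CohB1.ProjSpace 1 k), κ.finrank y = 2)
    (σ : C ⟶ C) (hσ : σ ≫ κ = κ) (hσ1 : σ ≠ 𝟙 C) (hσp : σ ≫ (C ↘ Spec (CommRingCat.of k)) = (C ↘ Spec (CommRingCat.of k)))
    (N : (pullback (C ↘ Spec (CommRingCat.of k)) (C ↘ Spec (CommRingCat.of k))).Modules) (hN : PicF.IsInvertible N)
    (hNinv : ClSub.IsInverseOf N (ClSub.idealMod (pullback.lift (𝟙 C) σ ((Category.id_comp (C ↘ Spec (CommRingCat.of k))).trans hσp.symm)).ker))
    (ND : (pullback (C ↘ Spec (CommRingCat.of k)) (C ↘ Spec (CommRingCat.of k))).Modules) (hND : PicF.IsInvertible ND)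
    (hNDinv : ClSub.IsInverseOf ND (ClSub.idealMod (pullback.diagonal (C ↘ Spec (CommRingCat.of k))).ker))
    (x : Spec (CommRingCat.of k) ⟶ C) (hx : x ≫ (C ↘ Spec (CommRingCat.of k)) = 𝟙 (Spec (CommRingCat.of k)))
    (A : C.Modules) (hA : PicF.IsInvertible A) (hAinv : ClSub.IsInverseOf A (ClSub.idealMod x.ker)) :
    letI : (pullback (C ↘ Spec (CommRingCat.of k)) (C ↘ Spec (CommRingCat.of k))).Over (Spec (CommRingCat.of k)) := ⟨pullback.fst (C ↘ Spec (CommRingCat.of k)) (C ↘ Spec (CommRingCat.of k)) ≫ (C ↘ Spec (CommRingCat.of k))⟩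
    FGA.intNum k (pullback (C ↘ Spec (CommRingCat.of k)) (C ↘ Spec (CommRingCat.of k))) 2 ![((Scheme.Modules.pullback (pullback.fst (C ↘ Spec (CommRingCat.of k)) (C ↘ Spec (CommRingCat.of k)))).obj A), ((Scheme.Modules.pullback (pullback.fst (C ↘ Spec (CommRingCat.of k)) (C ↘ Spec (CommRingCat.of k)))).obj A)] (Coh.structureModule (pullback (C ↘ Spec (CommRingCat.of k)) (C ↘ Spec (CommRingCat.of k)))) = 0 ∧
      FGA.intNum k (pullback (C ↘ Spec (CommRingCat.of k)) (C ↘ Spec (CommRingCat.of k))) 2 ![((Scheme.Modules.pullback (pullback.fst (C ↘ Spec (CommRingCat.of k)) (C ↘ Spec (CommRingCat.of k)))).obj A), ((Scheme.Modules.pullback (pullback.snd (C ↘ Spec (CommRingCat.of k)) (C ↘ Spec (CommRingCat.of k)))).obj A)] (Coh.structureModule (pullback (C ↘ Spec (CommRingCat.of k)) (C ↘ Spec (CommRingCat.of k)))) = 1 ∧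
      FGA.intNum k (pullback (C ↘ Spec (CommRingCat.of k)) (C ↘ Spec (CommRingCat.of k))) 2 ![((Scheme.Modules.pullback (pullback.fst (C ↘ Spec (CommRingCat.of k)) (C ↘ Spec (CommRingCat.of k)))).obj A), ND] (Coh.structureModule (pullback (C ↘ Spec (CommRingCat.of k)) (C ↘ Spec (CommRingCat.of k)))) = 1 ∧
      FGA.intNum k (pullback (C ↘ Spec (CommRingCat.of k)) (C ↘ Spec (CommRingCat.of k))) 2 ![((Scheme.Modules.pullback (pullback.fst (C ↘ Spec (CommRingCat.of k)) (C ↘ Spec (CommRingCat.of k)))).obj A), N] (Coh.structureModule (pullback (C ↘ Spec (CommRingCat.of k)) (C ↘ Spec (CommRingCat.of k)))) = 1 := by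
  obtain ⟨-, hi⟩ := isIso_invol h2 hdim hg hgen κ hκ hκ2 hσ hσ1 hσp
  haveI := hi
  have hd := deg_point x hx hA hAinv
  obtain ⟨a, b⟩ := fst_fst_snd hdim hgen hA hd
  exact ⟨a, b, fst_graph hdim hg hgen κ hκ hκ2 (Category.id_comp κ) (τ := 𝟙 C) (Category.id_comp _) hND hNDinv hA hd,
    fst_graph hdim hg hgen κ hκ hκ2 hσ hσp hN hNinv hA hd⟩

end Groth.Agent.S19082
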