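import Groth.Statements.S19092
import Mathlib

set_option autoImplicit false
universe u
open FrobAlg

namespace Groth.Agent.S19092

/-- Let p be a prime and A a commutative ring of characteristic p whose absolute Frobenius a ↦ a^p is a
finite ring homomorphism. Then the same holds for every quotient and every localization of A: for
every ideal I of A such that A ⧸ I has characteristic p (every proper ideal) the absolute Frobenius
of A ⧸ I is finite, and for every submonoid S of A and every localization B of A at S of
characteristic p (every nonzero localization) the absolute Frobenius of B is finite. -/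
theorem result (p : ℕ) [Fact p.Prime]
    (A : Type u) [CommRing A] [CharP A p] (hF : (frobenius A p).Finite) :
    (∀ (I : Ideal A) [CharP (A ⧸ I) p], (frobenius (A ⧸ I) p).Finite) ∧
      ∀ (S : Submonoid A) (B : Type u) [CommRing B] [Algebra A B] [IsLocalization S B] [CharP B p],
        (frobenius B p).Finite := by
  constructor
  · intro I _
    have h1 : ((frobenius (A ⧸ I) p).comp (Ideal.Quotient.mk I)).Finite := by
      rw [show (frobenius (A ⧸ I) p).comp (Ideal.Quotient.mk I) = (Ideal.Quotient.mk I).comp (frobenius A p) from
        RingHom.ext fun a => by simp [frobenius_def]]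
      exact (RingHom.Finite.of_surjective _ Ideal.Quotient.mk_surjective).comp hF
    exact h1.of_comp_finite
  · intro S B _ _ _ _
    obtain ⟨s, hs⟩ := @Module.Finite.fg_top A A _ _ (frobenius A p).toAlgebra.toModule hF
    letI inst : Algebra B B := (frobenius B p).toAlgebra
    show @Module.Finite B B _ _ inst.toModule
    classical
    refine (@Module.finite_def B B _ _ inst.toModule).2 ?_
    refine ⟨s.image (algebraMap A B), ?_⟩
    refine eq_top_iff.2 fun x _ => ?_
    obtain ⟨⟨a, t⟩, hx⟩ := IsLocalization.surj S x
    obtain ⟨u, hu⟩ := IsLocalization.map_units B t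
    have hxe : x = (u⁻¹ : Bˣ).1 ^ p * algebraMap A B (a * (t : A) ^ (p - 1)) := by
      rw [map_mul, map_pow, ← hx, ← hu, mul_assoc, ← pow_succ', Nat.sub_add_cancel (Fact.out : p.Prime).one_le]
      rw [mul_left_comm, ← mul_pow, Units.inv_mul, one_pow, mul_one]
    have hmem : ∀ z : A, algebraMap A B z ∈ @Submodule.span B B _ _ inst.toModule (↑(s.image (algebraMap A B))) := fun z => by
      letI instA : Module A A := (frobenius A p).toAlgebra.toModule
      have hz : z ∈ @Submodule.span A A _ _ instA (s : Set A) := (congrArg (z ∈ ·) hs).mpr trivial
      induction hz using @Submodule.span_induction A A _ _ instA (s : Set A) with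
      | mem w hw => exact @Submodule.subset_span B B _ _ inst.toModule _ _ (Finset.mem_coe.2 (Finset.mem_image_of_mem _ hw))
      | zero => rw [map_zero]; exact @Submodule.zero_mem B B _ _ inst.toModule _
      | add a b _ _ ha hb => rw [map_add]; exact @Submodule.add_mem B B _ _ inst.toModule _ _ _ ha hb
      | smul r a _ ha =>
        show algebraMap A B (frobenius A p r * a) ∈ _
        rw [map_mul, frobenius_def, map_pow]
        exact @Submodule.smul_mem B B _ _ inst.toModule _ _ (algebraMap A B r) ha
    rw [hxe]
    exact @Submodule.smul_mem B B _ _ inst.toModule _ _ (u⁻¹ : Bˣ).1 (hmem _)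

end Groth.Agent.S19092
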