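import Groth.Statements.S19093
import Mathlib

set_option autoImplicit false
universe u
open FrobAlg

namespace Groth.Agent.S19093

theorem RingHom.Finite.mk' {R S : Type u} [CommRing R] [CommRing S] (f : R →+* S) (n : ℕ) (g : Fin n → S)
    (h : ∀ x, ∃ c : Fin n → R, ∑ i, f (c i) * g i = x) : f.Finite := by
  letI := f.toAlgebra
  show Module.Finite R S
  refine Module.Finite.of_surjective (Fintype.linearCombination R g) fun x => ?_
  obtain ⟨c, hc⟩ := h x
  exact ⟨c, by rw [Fintype.linearCombination_apply, ← hc]; rfl⟩

theorem RingHom.Finite.exists_fin' {R S : Type u} [CommRing R] [CommRing S] (f : R →+* S) (hf : f.Finite) :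
    ∃ (n : ℕ) (g : Fin n → S), ∀ x, ∃ c : Fin n → R, ∑ i, f (c i) * g i = x := by
  letI := f.toAlgebra
  haveI : Module.Finite R S := hf
  obtain ⟨n, g, hg⟩ := Module.Finite.exists_fin (R := R) (M := S)
  exact ⟨n, g, fun x => (Submodule.mem_span_range_iff_exists_fun R).1 (hg.symm ▸ Submodule.mem_top)⟩

open PowerSeries in
theorem frobenius_powerSeries_finite (p : ℕ) [Fact p.Prime] (k : Type u) [Field k] [CharP k p] [PerfectRing k p]
    [CharP (PowerSeries k) p] : (frobenius (PowerSeries k) p).Finite := by
  refine RingHom.Finite.mk' _ p (fun j => (X : PowerSeries k) ^ (j : ℕ)) fun f => ?_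
  have hp := (Fact.out : p.Prime)
  refine ⟨fun j => PowerSeries.mk fun m => (frobeniusEquiv k p).symm (coeff (p * m + j) f), ?_⟩
  refine PowerSeries.ext fun n => ?_
  rw [map_sum]
  have hpow : ∀ g : PowerSeries k, ∀ m, coeff m (g ^ p) = if p ∣ m then coeff (m / p) g ^ p else 0 := by
    intro g m
    have hg : PowerSeries.map (frobenius k p) (PowerSeries.expand p hp.ne_zero g) = g ^ p :=
      MvPowerSeries.map_frobenius_expand p hp.ne_zero
    rw [← hg, PowerSeries.coeff_map, PowerSeries.coeff_expand, frobenius_def]
    split_ifs with h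
    · rfl
    · exact zero_pow hp.ne_zero
  have hterm : ∀ (g : PowerSeries k) (j : ℕ), coeff n (g ^ p * X ^ j) =
      if j ≤ n then (if p ∣ n - j then coeff ((n - j) / p) g ^ p else 0) else 0 := fun g j => by
    rw [coeff_mul_X_pow', hpow]
  rw [Finset.sum_eq_single ⟨n % p, Nat.mod_lt _ hp.pos⟩]
  · rw [frobenius_def, hterm, if_pos (Nat.mod_le _ _), if_pos (Nat.dvd_sub_mod n), coeff_mk, frobeniusEquiv_symm_pow_p]
    congr 1
    congr 1
    have h2 : (n - n % p) / p = n / p := by
      have := Nat.div_add_mod n p
      rw [show n - n % p = p * (n / p) by omega, Nat.mul_div_cancel_left _ hp.pos]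
    rw [h2, Nat.div_add_mod]
  · intro j _ hj
    rw [frobenius_def, hterm]
    split_ifs with h1 h2
    · refine absurd (Fin.ext ?_) hj
      show (j : ℕ) = n % p
      obtain ⟨c, hc⟩ := h2
      rw [show n = (j : ℕ) + p * c by omega, Nat.add_mul_mod_self_left, Nat.mod_eq_of_lt j.2]
    · rfl
    · rfl
  · simp

/-- Let p be a prime, k a finite field of characteristic p, A a commutative k[[t]]-algebra of finite
type over the power series ring k[[t]], and P a prime ideal of A. Then the absolute Frobenius a ↦
a^p of the local ring A_P is a finite ring homomorphism. In particular every local ring of a scheme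
of finite type over k[[t]] has finite absolute Frobenius. (The instance hypothesis that A_P has
characteristic p always holds, A_P being a nonzero algebra over k.) The published statement is for
the local rings of a projective strictly semistable scheme over k[[t]] and adds that such a scheme
is regular with F-finite local rings; its proof uses only that the scheme is of finite type over
k[[t]], which is the form stated here. -/
theorem result (p : ℕ) [Fact p.Prime]
    (k : Type u) [Field k] [Finite k] [CharP k p]
    (A : Type u) [CommRing A] [Algebra (PowerSeries k) A] [Algebra.FiniteType (PowerSeries k) A]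
    (P : Ideal A) [P.IsPrime] [CharP (Localization.AtPrime P) p] :
    (frobenius (Localization.AtPrime P) p).Finite := by
  classical
  have hinjk : Function.Injective (PowerSeries.C : k →+* PowerSeries k) := PowerSeries.C_injective
  haveI : CharP (PowerSeries k) p := charP_of_injective_ringHom hinjk p
  haveI : PerfectRing k p := PerfectField.toPerfectRing p
  have hR := frobenius_powerSeries_finite p k
  haveI : CharP A p := by
    rcases subsingleton_or_nontrivial A with h | h
    · exact absurd (Subsingleton.elim _ _) (‹P.IsPrime›.ne_top)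
    · refine (CharP.charP_iff_prime_eq_zero Fact.out).2 ?_
      rw [← map_natCast (algebraMap (PowerSeries k) A), CharP.cast_eq_zero, map_zero]
  have hA : (frobenius A p).Finite := by
    have h1 : ((algebraMap (PowerSeries k) A).comp (frobenius (PowerSeries k) p)).FiniteType :=
      (RingHom.finiteType_algebraMap.2 ‹_›).comp hR.to_finiteType
    rw [(algebraMap (PowerSeries k) A).frobenius_comm p] at h1
    refine RingHom.finite_iff_isIntegral_and_finiteType.2 ⟨fun x => ?_, RingHom.FiniteType.of_comp_finiteType h1⟩
    exact ⟨Polynomial.X ^ p - Polynomial.C x, Polynomial.monic_X_pow_sub_C x (Fact.out : p.Prime).ne_zero, by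
      simp [frobenius_def]⟩
  let AP := Localization.AtPrime P
  obtain ⟨n, e, he⟩ := RingHom.Finite.exists_fin' _ hA
  refine RingHom.Finite.mk' _ n (fun i => algebraMap A AP (e i)) fun x => ?_
  obtain ⟨⟨a, s⟩, rfl⟩ := IsLocalization.mk'_surjective P.primeCompl x
  obtain ⟨c, hc⟩ := he (a * (s : A) ^ (p - 1))
  refine ⟨fun i => IsLocalization.mk' AP (c i) s, ?_⟩
  show ∑ i, frobenius AP p (IsLocalization.mk' AP (c i) s) * algebraMap A AP (e i) = IsLocalization.mk' AP a s
  have hs : IsUnit (algebraMap A AP (s : A) ^ p) := (IsLocalization.map_units AP s).pow p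
  refine hs.mul_left_cancel ?_
  rw [Finset.mul_sum]
  have h2 : ∀ i, algebraMap A AP (s : A) ^ p * (frobenius AP p (IsLocalization.mk' AP (c i) s) * algebraMap A AP (e i))
      = algebraMap A AP (c i ^ p * e i) := fun i => by
    rw [frobenius_def, ← mul_assoc, ← mul_pow, mul_comm (algebraMap A AP (s : A)), IsLocalization.mk'_spec, ← map_pow,
      ← map_mul]
  simp only [h2]
  rw [← map_sum, show ∑ i, c i ^ p * e i = a * (s : A) ^ (p - 1) from hc, map_mul, map_pow,
    ← IsLocalization.mk'_spec AP a s, mul_assoc, ← pow_succ', Nat.sub_add_cancel (Fact.out : p.Prime).one_le, mul_comm]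

end Groth.Agent.S19093
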