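import Groth.Statements.S19098


set_option autoImplicit false
universe u
open CategoryTheory MonoidalCategory CartesianMonoidalCategory MonObj AlgebraicGeometry
open ChGrp

namespace Groth.Agent.S19098

open CategoryTheory CategoryTheory.Limits AlgebraicGeometry

open Groth.Agent
set_option backward.isDefEq.respectTransparency false

/-- Let S be a scheme, G an S-group scheme acting on an S-scheme X through a, and h an S-point of G. Let
i : Z → G be a homomorphism and ψ : Ψ → G a monomorphism with a G-action on Ψ under which ψ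
intertwines with conjugation, and o an S-point of Ψ over h, such that (Ψ, o) is the homogeneous
space G/Z for the fppf topology through the orbit map g ↦ g h g⁻¹ (so Z is the centralizer of h and
Ψ its conjugacy class). Let incl : X^h → X be a monomorphism whose points are the points of X fixed
by h, with the Z-action restricted from a; let σ : S_Ψ → G ×_S X be a monomorphism whose points are
the pairs (g, x) with g a point of Ψ and g x = x (the part of the global stabilizer over Ψ), with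
the G-action by conjugation on the first entry and by a on the second; and let Φ : G ×_S X^h → S_Ψ
be the morphism (g, x) ↦ (g h g⁻¹, g x). Then Φ makes S_Ψ, with its G-action, the balanced product G
×^Z X^h for the fppf topology: Φ is G-equivariant, it is a Z-torsor for the action z (g, x) = (g
z⁻¹, z x), and it has sections fppf-locally on S_Ψ. (The source works with algebraic spaces of
finite type over the complex numbers and a semisimple conjugacy class Ψ, where the identification of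
Ψ with G/Z comes from the theory of algebraic groups; here that identification is the hypothesis
hhom, the base is arbitrary and X is a scheme.) -/
theorem result
    {S : Scheme.{u}} {G X Z Ψ Xh SΨ : Over S} [GrpObj G] [GrpObj Z]
    (a : AlgGrp.Action G X) (h : 𝟙_ (Over S) ⟶ G)
    (i : Z ⟶ G) [IsMonHom i]
    (ψ : Ψ ⟶ G) [Mono ψ] (aΨ : AlgGrp.Action G Ψ)
    (hψ : aΨ.act ≫ ψ = fst G Ψ * (snd G Ψ ≫ ψ) * (fst G Ψ)⁻¹)
    (o : 𝟙_ (Over S) ⟶ Ψ) (ho : o ≫ ψ = h)
    (hhom : ChGrp.IsHomog Scheme.fppfPrecoverage i aΨ o)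
    (incl : Xh ⟶ X) [Mono incl]
    (hXh : ∀ (T : Over S) (x : T ⟶ X), (∃ y : T ⟶ Xh, y ≫ incl = x) ↔ lift (toUnit T ≫ h) x ≫ a.act = x)
    (aXh : AlgGrp.Action Z Xh) (hincl : AlgGrp.Action.IsEquivariant aXh (a.restrict i) incl)
    (σ : SΨ ⟶ G ⊗ X) [Mono σ]
    (hSΨ : ∀ (T : Over S) (g : T ⟶ G) (x : T ⟶ X),
      (∃ q : T ⟶ SΨ, q ≫ σ = lift g x) ↔ ((∃ y : T ⟶ Ψ, y ≫ ψ = g) ∧ lift g x ≫ a.act = x))
    (aS : AlgGrp.Action G SΨ)
    (hσ : aS.act ≫ σ = lift (fst G SΨ * (snd G SΨ ≫ σ ≫ fst G X) * (fst G SΨ)⁻¹)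
      (lift (fst G SΨ) (snd G SΨ ≫ σ ≫ snd G X) ≫ a.act))
    (Φ : G ⊗ Xh ⟶ SΨ)
    (hΦ : Φ ≫ σ = lift (fst G Xh * (toUnit (G ⊗ Xh) ≫ h) * (fst G Xh)⁻¹)
      (lift (fst G Xh) (snd G Xh ≫ incl) ≫ a.act)) :
    ChGrp.IsBalProd Scheme.fppfPrecoverage i aXh aS Φ := by
  obtain ⟨hmon, hsq, htriv⟩ := hhom
  have hψp : ∀ (T : Over S) (g : T ⟶ G) (p : T ⟶ Ψ), (lift g p ≫ aΨ.act) ≫ ψ = g * (p ≫ ψ) * g⁻¹ := fun T g p => by
    rw [Category.assoc, hψ, MonObj.comp_mul, MonObj.comp_mul, GrpObj.comp_inv, lift_fst, lift_snd_assoc]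
  have horb : ∀ (T : Over S) (g : T ⟶ G), (g ≫ aΨ.orbitMap o) ≫ ψ = g * (toUnit T ≫ h) * g⁻¹ := fun T g => by
    rw [AlgGrp.Action.comp_orbitMap, hψp, Category.assoc, ho]
  have hfix : ∀ (T : Over S) (y : T ⟶ Xh), lift (toUnit T ≫ h) (y ≫ incl) ≫ a.act = y ≫ incl := fun T y =>
    (hXh T _).1 ⟨y, rfl⟩
  have hin : ∀ (T : Over S) (z : T ⟶ Z) (y : T ⟶ Xh),
      (lift z y ≫ aXh.act) ≫ incl = lift (z ≫ i) (y ≫ incl) ≫ a.act := fun T z y => by
    rw [Category.assoc, show aXh.act ≫ incl = _ from hincl, lift_whiskerLeft_assoc,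
      AlgGrp.Action.lift_restrict_act]
  have hΦp : ∀ (T : Over S) (g : T ⟶ G) (y : T ⟶ Xh), lift g y ≫ Φ ≫ σ =
      lift (g * (toUnit T ≫ h) * g⁻¹) (lift g (y ≫ incl) ≫ a.act) := fun T g y => by
    rw [hΦ, comp_lift, MonObj.comp_mul, MonObj.comp_mul, GrpObj.comp_inv, lift_fst, comp_lift_assoc, lift_fst,
      lift_snd_assoc, ← Category.assoc, toUnit_unique (lift g y ≫ toUnit _) (toUnit T)]
  have pair : ∀ (T : Over S) (w : T ⟶ G ⊗ Xh), ∃ g y, w = lift g y := fun T w =>
    ⟨w ≫ fst G Xh, w ≫ snd G Xh, by rw [← comp_lift, lift_fst_snd, Category.comp_id]⟩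
  refine ⟨?_, ?_, ?_⟩
  · refine AlgGrp.Action.hom_ext_lift₂ fun T g w => ?_
    obtain ⟨g', y, rfl⟩ := pair T w
    rw [← cancel_mono σ]
    simp only [Category.assoc]
    rw [AlgGrp.Action.lift_prod_act_assoc, AlgGrp.Action.lift_trivial_act, lift_whiskerLeft_assoc, hσ, comp_lift,
      MonObj.comp_mul, MonObj.comp_mul, GrpObj.comp_inv, lift_fst, comp_lift_assoc, lift_fst, lift_snd_assoc, lift_snd_assoc,
      Category.assoc, Category.assoc, hΦp]
    simp only [← Category.assoc]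
    rw [show (lift g' y ≫ Φ) ≫ σ = _ from (Category.assoc _ _ _).trans (hΦp T g' y)]
    rw [lift_fst, lift_snd]
    rw [show lift g g' ≫ (NonAbH1.trivialAction G).act = g * g' from by rw [Hom.mul_def]; rfl]
    rw [AlgGrp.Action.lift_mul_act]
    congr 1
    group
  · have hcomm : (ChGrp.twist i aXh).act ≫ Φ = snd Z (G ⊗ Xh) ≫ Φ := by
      refine AlgGrp.Action.hom_ext_lift₂ fun T z w => ?_
      obtain ⟨g, y, rfl⟩ := pair T w
      rw [lift_snd_assoc]
      rw [ChGrp.lift_twist_act_assoc, ← cancel_mono σ, Category.assoc, Category.assoc, hΦp, hΦp, hin]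
      have hz : (z ≫ i) * (toUnit T ≫ h) * (z ≫ i)⁻¹ = toUnit T ≫ h := by
        have h1 : lift (1 : T ⟶ G) z ≫ fst G Z ≫ aΨ.orbitMap o = lift (1 : T ⟶ G) z ≫ ((G ◁ i) ≫ μ[G]) ≫ aΨ.orbitMap o := by
          rw [hsq.w]
        rw [lift_fst_assoc, Category.assoc, lift_whiskerLeft_assoc, ← Category.assoc (lift _ _),
          ← Hom.mul_def, _root_.one_mul] at h1
        have h2 := congrArg (fun p => p ≫ ψ) h1
        simp only [horb] at h2
        simpa using h2.symm
      congr 1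
      · calc g * (z ≫ i)⁻¹ * (toUnit T ≫ h) * (g * (z ≫ i)⁻¹)⁻¹
            = g * (z ≫ i)⁻¹ * ((z ≫ i) * (toUnit T ≫ h) * (z ≫ i)⁻¹) * (g * (z ≫ i)⁻¹)⁻¹ := by rw [hz]
          _ = g * (toUnit T ≫ h) * g⁻¹ := by group
      · rw [← AlgGrp.Action.lift_mul_act, inv_mul_cancel_right]
    refine IsPullback.of_isLimit (c := PullbackCone.mk _ _ hcomm) ?_
    have key : ∀ (T : Over S) (w₁ w₂ : T ⟶ G ⊗ Xh), w₁ ≫ Φ = w₂ ≫ Φ →
        ∃! z : T ⟶ Z, lift z w₂ ≫ (ChGrp.twist i aXh).act = w₁ := by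
      intro T w₁ w₂ hw
      obtain ⟨g₁, y₁, rfl⟩ := pair T w₁
      obtain ⟨g₂, y₂, rfl⟩ := pair T w₂
      have h1 := congrArg (fun p => p ≫ σ) hw
      simp only [Category.assoc, hΦp] at h1
      have hg : g₁ * (toUnit T ≫ h) * g₁⁻¹ = g₂ * (toUnit T ≫ h) * g₂⁻¹ := by
        simpa using congrArg (fun p => p ≫ fst G X) h1
      have hx : lift g₁ (y₁ ≫ incl) ≫ a.act = lift g₂ (y₂ ≫ incl) ≫ a.act := by
        simpa using congrArg (fun p => p ≫ snd G X) h1
      have ho' : g₁ ≫ aΨ.orbitMap o = g₂ ≫ aΨ.orbitMap o := by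
        rw [← cancel_mono ψ, horb, horb, hg]
      obtain ⟨l, hl₁, hl₂⟩ : ∃ l, l ≫ fst G Z = g₁ ∧ l ≫ (G ◁ i) ≫ μ[G] = g₂ :=
        ⟨hsq.lift g₁ g₂ ho', hsq.lift_fst _ _ _, hsq.lift_snd _ _ _⟩
      have hl : l = lift g₁ (l ≫ snd G Z) := by rw [← hl₁, ← comp_lift, lift_fst_snd, Category.comp_id]
      generalize hz : l ≫ snd G Z = z at hl
      have e2 : g₁ * (z ≫ i) = g₂ := by
        rw [← hl₂, hl, lift_whiskerLeft_assoc]
        rfl
      refine ⟨z, ?_, fun z' hz' => ?_⟩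
      · simp only
        rw [ChGrp.lift_twist_act, ← e2, mul_inv_cancel_right]
        congr 1
        rw [← cancel_mono incl, hin]
        have := congrArg (fun p => lift g₁⁻¹ p ≫ a.act) hx
        simp only [← AlgGrp.Action.lift_mul_act, inv_mul_cancel, AlgGrp.Action.lift_one_act] at this
        rw [this, ← e2, inv_mul_cancel_left]
      · simp only at hz'
        rw [ChGrp.lift_twist_act] at hz'
        have e3 : g₂ * (z' ≫ i)⁻¹ = g₁ := by simpa using congrArg (fun p => p ≫ fst G Xh) hz'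
        have : lift g₁ z' = l := hsq.hom_ext (by rw [lift_fst, hl₁]) (by
          rw [hl₂, lift_whiskerLeft_assoc]
          show g₁ * (z' ≫ i) = g₂
          rw [← e3, inv_mul_cancel_right])
        rw [← hz, ← this, lift_snd]
    refine PullbackCone.IsLimit.mk _ (fun s => lift (key s.pt s.fst s.snd s.condition).choose s.snd)
      (fun s => (key s.pt s.fst s.snd s.condition).choose_spec.1) (fun s => lift_snd _ _) fun s m hm₁ hm₂ => ?_
    have e : m = lift (m ≫ fst Z (G ⊗ Xh)) s.snd := by rw [← hm₂, ← comp_lift, lift_fst_snd, Category.comp_id]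
    rw [e]
    congr 1
    exact (key s.pt s.fst s.snd s.condition).choose_spec.2 _ (by simp only; rw [← e]; exact hm₁)
  · obtain ⟨R, hR, hs⟩ := htriv
    obtain ⟨⟨y, hy⟩, hxfix⟩ := (hSΨ SΨ (σ ≫ fst G X) (σ ≫ snd G X)).1
      ⟨𝟙 SΨ, by rw [Category.id_comp, ← comp_lift, lift_fst_snd, Category.comp_id]⟩
    refine ⟨_, Precoverage.pullbackArrows_mem y.left hR, ?_⟩
    rintro T _ ⟨W, c, hc⟩
    obtain ⟨s, hs⟩ := hs c hc
    let T' : Over S := Over.mk (pullback.snd c y.left ≫ SΨ.hom)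
    let q : T' ⟶ SΨ := Over.homMk (pullback.snd c y.left)
    let g : T' ⟶ G := Over.homMk (pullback.fst c y.left ≫ s) (by
      show (pullback.fst c y.left ≫ s) ≫ G.hom = pullback.snd c y.left ≫ SΨ.hom
      rw [← Over.w (aΨ.orbitMap o), Category.assoc, ← Category.assoc s]
      erw [hs]
      rw [← Category.assoc, pullback.condition, Category.assoc, Over.w y])
    have hgo : g ≫ aΨ.orbitMap o = q ≫ y := by
      apply Over.OverMorphism.ext
      show (pullback.fst c y.left ≫ s) ≫ (aΨ.orbitMap o).left = pullback.snd c y.left ≫ y.left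
      rw [Category.assoc]
      erw [hs]
      exact pullback.condition
    have hg : q ≫ σ ≫ fst G X = g * (toUnit T' ≫ h) * g⁻¹ := by
      rw [← horb, hgo, Category.assoc, hy]
    have hx : lift (q ≫ σ ≫ fst G X) (q ≫ σ ≫ snd G X) ≫ a.act = q ≫ σ ≫ snd G X := by
      rw [← comp_lift_assoc, hxfix]
    obtain ⟨x', hx'⟩ := (hXh T' (lift g⁻¹ (q ≫ σ ≫ snd G X) ≫ a.act)).2 (by
      rw [← AlgGrp.Action.lift_mul_act]
      conv_rhs => rw [← hx, hg]
      rw [← AlgGrp.Action.lift_mul_act]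
      congr 2
      group)
    have hmain : lift g x' ≫ Φ = q := by
      rw [← cancel_mono σ, Category.assoc, hΦp, hx', ← AlgGrp.Action.lift_mul_act, mul_inv_cancel,
        AlgGrp.Action.lift_one_act, ← hg, ← comp_lift, ← comp_lift, lift_fst_snd, Category.comp_id]
    exact ⟨(lift g x').left, congrArg (fun p => p.left) hmain⟩


end Groth.Agent.S19098
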