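import Groth.Statements.S19099
import Groth.Agent.H6BalFix

set_option autoImplicit false
universe u
open CategoryTheory MonoidalCategory CartesianMonoidalCategory MonObj AlgebraicGeometry
open ChGrp

namespace Groth.Agent.S19099

open CategoryTheory CategoryTheory.Limits AlgebraicGeometry

open Groth.Agent
set_option backward.isDefEq.respectTransparency false

/-- Let S be a scheme, i : G → Q a monomorphic homomorphism of S-group schemes (a closed subgroup), h an
S-point of G whose image in Q is central, and X an S-scheme with a G-action a. Let incl : X^h → X be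
a monomorphism whose points are the points of X fixed by h, with a G-action making incl equivariant
(X^h is G-stable since h is central in G). Let Y with its Q-action and j : Q ×_S X → Y be the
balanced product Q ×^G X for the fppf topology, Y' with j' : Q ×_S X^h → Y' the balanced product Q
×^G X^h, and m : Y' → Y the morphism under which j' followed by m is Q × incl followed by j. Then m
is a monomorphism, a point of Y factors through m exactly when it is fixed by h acting on Y through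
the Q-action, and m is a closed immersion if incl is one: Q ×^G X^h is the fixed locus of h in Q ×^G
X. (The source states this for a smooth algebraic space X of finite type over the complex numbers,
as an equality of closed subspaces, and argues on closed points; the form here is the one its
computation gives for the fppf quotients over any base, with X a scheme.) -/
theorem result
    {S : Scheme.{u}} {Q G X Xh Y Y' : Over S} [GrpObj Q] [GrpObj G]
    (i : G ⟶ Q) [IsMonHom i] [Mono i]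
    (h : 𝟙_ (Over S) ⟶ G)
    (hcent : ∀ (T : Over S) (q : T ⟶ Q), q * (toUnit T ≫ h ≫ i) = (toUnit T ≫ h ≫ i) * q)
    (a : AlgGrp.Action G X)
    (incl : Xh ⟶ X) [Mono incl]
    (hXh : ∀ (T : Over S) (x : T ⟶ X), (∃ y : T ⟶ Xh, y ≫ incl = x) ↔ lift (toUnit T ≫ h) x ≫ a.act = x)
    (aXh : AlgGrp.Action G Xh) (hincl : AlgGrp.Action.IsEquivariant aXh a incl)
    (aY : AlgGrp.Action Q Y) (j : Q ⊗ X ⟶ Y) (hY : ChGrp.IsBalProd Scheme.fppfPrecoverage i a aY j)
    (aY' : AlgGrp.Action Q Y') (j' : Q ⊗ Xh ⟶ Y') (hY' : ChGrp.IsBalProd Scheme.fppfPrecoverage i aXh aY' j')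
    (m : Y' ⟶ Y) (hm : j' ≫ m = (Q ◁ incl) ≫ j) :
    Mono m ∧
      (∀ (T : Over S) (y : T ⟶ Y), (∃ y' : T ⟶ Y', y' ≫ m = y) ↔ lift (toUnit T ≫ h ≫ i) y ≫ aY.act = y) ∧
      (IsClosedImmersion incl.left → IsClosedImmersion m.left) := by
  obtain ⟨hej, hsq, htriv⟩ := hY
  obtain ⟨hej', hsq', htriv'⟩ := hY'
  obtain ⟨R, hR, hRs⟩ := htriv
  obtain ⟨R', hR', hRs'⟩ := htriv'
  have hje : ∀ (T : Over S) (g q : T ⟶ Q) (x : T ⟶ X),
      lift g (lift q x ≫ j) ≫ aY.act = lift (g * q) x ≫ j := fun T g q x => by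
    rw [← lift_whiskerLeft_assoc, ← show _ = (Q ◁ j) ≫ aY.act from hej, AlgGrp.Action.lift_prod_act_assoc,
      AlgGrp.Action.lift_trivial_act, show lift g q ≫ (NonAbH1.trivialAction Q).act = g * q from by rw [Hom.mul_def]; rfl]
  have hjj : ∀ (T : Over S) (q : T ⟶ Q) (x : T ⟶ Xh), lift q x ≫ j' ≫ m = lift q (x ≫ incl) ≫ j := fun T q x => by
    rw [hm, lift_whiskerLeft_assoc]
  have pr : ∀ (T : Over S) (A B : Over S) (w : T ⟶ A ⊗ B), ∃ q x, w = lift q x := fun T A B w =>
    ⟨w ≫ fst A B, w ≫ snd A B, by rw [← comp_lift, lift_fst_snd, Category.comp_id]⟩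
  -- two lifts with the same image differ by a point of `G`
  have hrel : ∀ (T : Over S) (q₁ q₂ : T ⟶ Q) (x₁ x₂ : T ⟶ X), lift q₁ x₁ ≫ j = lift q₂ x₂ ≫ j →
      ∃ g : T ⟶ G, q₂ * (g ≫ i)⁻¹ = q₁ ∧ lift g x₂ ≫ a.act = x₁ := fun T q₁ q₂ x₁ x₂ he => by
    obtain ⟨g, w, hgw⟩ := pr T G _ (hsq.lift _ _ he)
    have h1 := hsq.lift_fst _ _ he
    have h2 := hsq.lift_snd _ _ he
    rw [hgw, lift_snd] at h2
    subst h2
    rw [hgw, ChGrp.lift_twist_act] at h1
    exact ⟨g, by simpa using congrArg (fun p => p ≫ fst Q X) h1, by simpa using congrArg (fun p => p ≫ snd Q X) h1⟩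
  have hpres : ∀ (T : Over S) (q₁ q₂ : T ⟶ Q) (x₁ x₂ : T ⟶ Xh),
      lift q₁ (x₁ ≫ incl) ≫ j = lift q₂ (x₂ ≫ incl) ≫ j → lift q₁ x₁ ≫ j' = lift q₂ x₂ ≫ j' :=
    fun T q₁ q₂ x₁ x₂ he => by
      obtain ⟨g, hq, hx⟩ := hrel T _ _ _ _ he
      have hx' : lift g x₂ ≫ aXh.act = x₁ := by
        rw [← cancel_mono incl, Category.assoc, show aXh.act ≫ incl = _ from hincl, lift_whiskerLeft_assoc, hx]
      have := congrArg (fun p => lift g (lift q₂ x₂) ≫ p) hsq'.w
      simpa only [ChGrp.lift_twist_act_assoc, lift_snd_assoc, hq, hx'] using this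
  have hcentT : ∀ (T : Over S) (q : T ⟶ Q), (toUnit T ≫ h ≫ i) * q = q * (toUnit T ≫ h ≫ i) :=
    fun T q => (hcent T q).symm
  -- local lifts
  have hloc : ∀ {W Z : Over S} (e : W ⟶ Z) (Rw : Presieve Z.left) (_ : Rw ∈ Scheme.fppfPrecoverage Z.left)
      (_ : ∀ ⦃P : Scheme.{u}⦄ (c : P ⟶ Z.left), Rw c → NonAbH1.HasSectionOver (Over.mk e.left : Over Z.left) c)
      (T : Over S) (y : T ⟶ Z), ∃ (P : Z.left → Scheme.{u}) (c : ∀ k, P k ⟶ T.left),
        Presieve.ofArrows P c ∈ Scheme.fppfPrecoverage T.left ∧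
        ∀ k, ∃ w : Over.mk (c k ≫ T.hom) ⟶ W, w ≫ e = (Over.homMk (c k) : Over.mk (c k ≫ T.hom) ⟶ T) ≫ y := by
    intro W Z e Rw hRw hs T y
    obtain ⟨P, c, hc, hRc⟩ := H6BalFix.exists_small_cover hRw
    refine ⟨fun k => pullback y.left (c k), fun k => pullback.fst y.left (c k),
      Precoverage.mem_coverings_of_isPullback c hc y.left (fun k => pullback.fst _ _) (fun k => pullback.snd _ _)
        (fun k => IsPullback.of_hasPullback _ _), fun k => ?_⟩
    obtain ⟨s, hs⟩ := hs (c k) (hRc k)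
    refine ⟨Over.homMk (pullback.snd y.left (c k) ≫ s) ?_, ?_⟩
    · show (pullback.snd y.left (c k) ≫ s) ≫ W.hom = pullback.fst y.left (c k) ≫ T.hom
      rw [← Over.w e, Category.assoc, ← Category.assoc s]
      erw [hs]
      rw [← Category.assoc, ← pullback.condition, Category.assoc, Over.w y]
    · apply Over.OverMorphism.ext
      show (pullback.snd y.left (c k) ≫ s) ≫ e.left = pullback.fst y.left (c k) ≫ y.left
      rw [Category.assoc]
      erw [hs]
      exact pullback.condition.symm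
  have le_fpqc : ∀ {T : Scheme.{u}} {R : Presieve T}, R ∈ Scheme.fppfPrecoverage T → R ∈ Scheme.fpqcPrecoverage T :=
    fun h => Scheme.fppfPrecoverage_le_fpqcPrecoverage _ h
  haveI hmono : Mono m := by
    refine ⟨fun {T} y₁ y₂ he => ?_⟩
    obtain ⟨P, c, hc, hw⟩ := hloc j' R' hR' hRs' T y₁
    refine PrincBundLib.hom_ext_over (le_fpqc hc) fun k => ?_
    obtain ⟨w, hw⟩ := hw k
    obtain ⟨P', c', hc', hw'⟩ := hloc j' R' hR' hRs' _ ((Over.homMk (c k) : Over.mk (c k ≫ T.hom) ⟶ T) ≫ y₂)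
    refine PrincBundLib.hom_ext_over (le_fpqc hc') fun l => ?_
    obtain ⟨w', hw'⟩ := hw' l
    rw [← hw, ← hw', ← Category.assoc]
    obtain ⟨q₁, x₁, e₁⟩ := pr _ Q Xh ((Over.homMk (c' l) : Over.mk (c' l ≫ (Over.mk (c k ≫ T.hom)).hom) ⟶ Over.mk (c k ≫ T.hom)) ≫ w)
    obtain ⟨q₂, x₂, rfl⟩ := pr _ Q Xh w'
    rw [e₁]
    refine hpres _ _ _ _ _ ?_
    rw [← hjj, ← hjj, ← e₁]
    simp only [← Category.assoc] at hw hw' ⊢
    simp only [Category.assoc] at hw hw' ⊢
    rw [reassoc_of% hw, reassoc_of% hw', he]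
  have hfwd : ∀ (T : Over S) (q : T ⟶ Q) (x : T ⟶ Xh),
      lift (toUnit T ≫ h ≫ i) (lift q (x ≫ incl) ≫ j) ≫ aY.act = lift q (x ≫ incl) ≫ j := fun T q x => by
    rw [hje, hcentT]
    have h1 := congrArg (fun p => lift (toUnit T ≫ h) (lift (q * (toUnit T ≫ h ≫ i)) (x ≫ incl)) ≫ p) hsq.w
    simp only [ChGrp.lift_twist_act_assoc, lift_snd_assoc, Category.assoc, mul_inv_cancel_right] at h1
    rw [← h1, (hXh T (x ≫ incl)).1 ⟨x, rfl⟩]
  have hbwd : ∀ (T : Over S) (q : T ⟶ Q) (x : T ⟶ X),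
      lift (toUnit T ≫ h ≫ i) (lift q x ≫ j) ≫ aY.act = lift q x ≫ j → ∃ x' : T ⟶ Xh, x' ≫ incl = x := fun T q x he => by
    rw [hje, hcentT] at he
    obtain ⟨g, hq, hx⟩ := hrel T _ _ _ _ he
    have hg : g⁻¹ = toUnit T ≫ h := by
      rw [← cancel_mono i, GrpObj.inv_comp, Category.assoc]
      exact mul_left_cancel hq
    refine (hXh T x).2 ?_
    rw [← hg]
    conv_lhs => rw [← hx]
    rw [← AlgGrp.Action.lift_mul_act, inv_mul_cancel, AlgGrp.Action.lift_one_act]
  refine ⟨hmono, fun T y => ⟨?_, fun hy => ?_⟩, fun hci => ?_⟩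
  · rintro ⟨y', rfl⟩
    obtain ⟨P, c, hc, hw⟩ := hloc j' R' hR' hRs' T y'
    refine PrincBundLib.hom_ext_over (le_fpqc hc) fun k => ?_
    obtain ⟨w, hw⟩ := hw k
    obtain ⟨q, x, rfl⟩ := pr _ Q Xh w
    have hy : (Over.homMk (c k) : Over.mk (c k ≫ T.hom) ⟶ T) ≫ y' ≫ m = lift q (x ≫ incl) ≫ j := by
      rw [← Category.assoc, ← hw, Category.assoc, hjj]
    rw [comp_lift_assoc, hy, ← Category.assoc, toUnit_unique (_ ≫ toUnit T) (toUnit _), hfwd]
  · obtain ⟨P, c, hc, hw⟩ := hloc j R hR hRs T y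
    have hex : ∀ k, ∃ z : Over.mk (c k ≫ T.hom) ⟶ Y', z ≫ m = (Over.homMk (c k) : Over.mk (c k ≫ T.hom) ⟶ T) ≫ y := fun k => by
      obtain ⟨w, hw⟩ := hw k
      obtain ⟨q, x, rfl⟩ := pr _ Q X w
      obtain ⟨x', hx'⟩ := hbwd _ q x (by
        rw [hw]
        conv_rhs => rw [← hy]
        rw [comp_lift_assoc, ← Category.assoc _ (toUnit T), toUnit_unique (_ ≫ toUnit T) (toUnit _)])
      exact ⟨lift q x' ≫ j', by rw [Category.assoc, hjj, hx', hw]⟩
    choose z hz using hex
    obtain ⟨g, hg, -⟩ := PrincBundLib.glue_over (le_fpqc hc) z fun k l P a b hab => by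
      rw [← cancel_mono m, Category.assoc, Category.assoc, hz, hz, ← Category.assoc, ← Category.assoc,
        show a ≫ (Over.homMk (c k) : Over.mk (c k ≫ T.hom) ⟶ T) = b ≫ Over.homMk (c l) from Over.OverMorphism.ext hab]
    refine ⟨g, PrincBundLib.hom_ext_over (le_fpqc hc) fun k => ?_⟩
    rw [← Category.assoc, hg k, hz k]
  · have sqj : IsPullback (Q ◁ incl) j' j m := by
      have ex : ∀ (s : PullbackCone j m), ∃ l : s.pt ⟶ Q ⊗ Xh, l ≫ (Q ◁ incl) = s.fst ∧ l ≫ j' = s.snd := fun s => by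
        obtain ⟨q, x, hwx⟩ := pr s.pt Q X s.fst
        obtain ⟨x', hx'⟩ := hbwd _ q x (by
          rw [← hwx, s.condition]
          obtain ⟨P, c, hc, hw⟩ := hloc j' R' hR' hRs' s.pt s.snd
          refine PrincBundLib.hom_ext_over (le_fpqc hc) fun k => ?_
          obtain ⟨w, hw⟩ := hw k
          obtain ⟨q', x'', rfl⟩ := pr _ Q Xh w
          have hy : (Over.homMk (c k) : Over.mk (c k ≫ s.pt.hom) ⟶ s.pt) ≫ s.snd ≫ m = lift q' (x'' ≫ incl) ≫ j := by
            rw [← Category.assoc, ← hw, Category.assoc, hjj]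
          rw [comp_lift_assoc, hy, ← Category.assoc, toUnit_unique (_ ≫ toUnit s.pt) (toUnit _), hfwd])
        have hl : lift q x' ≫ (Q ◁ incl) = s.fst := by rw [lift_whiskerLeft, hx', hwx]
        refine ⟨lift q x', hl, ?_⟩
        rw [← cancel_mono m, Category.assoc, hm, ← Category.assoc, hl, s.condition]
      choose l hl₁ hl₂ using ex
      haveI : Mono (Q ◁ incl) := ⟨fun {T} u v huv => by
        apply hom_ext
        · simpa using congrArg (fun p => p ≫ fst Q X) huv
        · rw [← cancel_mono incl]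
          simpa using congrArg (fun p => p ≫ snd Q X) huv⟩
      exact IsPullback.of_isLimit (c := PullbackCone.mk _ _ hm.symm) (PullbackCone.IsLimit.mk _ l hl₁ hl₂
        fun s u hu _ => by rw [← cancel_mono (Q ◁ incl), hu, hl₁])
    have sqw : IsPullback (snd Q Xh) (Q ◁ incl) incl (snd Q X) := by
      refine IsPullback.of_isLimit (c := PullbackCone.mk _ _ (whiskerLeft_snd Q incl).symm) (PullbackCone.IsLimit.mk _
        (fun s => lift (s.snd ≫ fst Q X) s.fst) (fun s => lift_snd _ _) (fun s => ?_) fun s u hu₁ hu₂ => ?_)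
      · rw [lift_whiskerLeft]
        apply hom_ext
        · rw [lift_fst]
        · rw [lift_snd, s.condition]
      · apply hom_ext
        · rw [lift_fst, ← hu₂, Category.assoc, whiskerLeft_fst]
        · rw [lift_snd, ← hu₁]
    have hwl : IsClosedImmersion (Q ◁ incl).left :=
      MorphismProperty.of_isPullback (P := @IsClosedImmersion) (sqw.map (Over.forget S)) hci
    obtain ⟨P, c, hc, hw⟩ := hloc j R hR hRs Y (𝟙 Y)
    refine H6BalFix.isClosedImmersion_of_fppf_cover m.left c hc fun k => ?_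
    obtain ⟨w, hw⟩ := hw k
    have hwc : w.left ≫ j.left = c k := by
      rw [← Over.comp_left, hw]
      exact Category.comp_id _
    have p1 := (sqj.map (Over.forget S)).flip
    have p2 := (IsPullback.of_hasPullback w.left (Q ◁ incl).left).flip.paste_horiz p1
    simp only [Over.forget_map, hwc] at p2
    haveI := hwl
    rw [← p2.flip.isoPullback_inv_fst]
    infer_instance


end Groth.Agent.S19099
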