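import Groth.Statements.S1911
import Groth.Agent.CycLib.SpFlat

set_option autoImplicit false
universe u
open CategoryTheory AlgebraicGeometry
open CategoryTheory.Limits
open Cyc

namespace Groth.Agent.S1911

open CategoryTheory CategoryTheory.Limits AlgebraicGeometry

open Groth.Agent Groth.Agent.CycLib
set_option backward.isDefEq.respectTransparency false

/-- Let F be a coherent O_X-module flat over R with dim Supp(F_η) ≤ r. Then dim Supp(F_s) ≤ r and
sp([F_η]_r) = [F_s]_r, where F_η, F_s are the pullbacks of F to the two fibres. Here R is a discrete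
valuation ring, a : X → Spec R is locally of finite type, X_η and X_s are the fibres over the
generic and closed points (Mathlib's Scheme.Hom.fiber) with their dimension functions δη, δs
(transcendence degree of residue fields), r-cycles on X_η are cycles supported at points with δη =
r, and sp is the specialization map Z_r(X_η) → Z_r(X_s) on coefficient functions (Cyc.spFun). -/
theorem result (R : Type u) [CommRing R] [IsDomain R] [IsDiscreteValuationRing R] (X : Scheme.{u}) (a : X ⟶ Spec (CommRingCat.of R)) [LocallyOfFiniteType a] (δη : ↥(a.fiber (genericPoint ↥(Spec (CommRingCat.of R)))) → ℤ) (δs : ↥(a.fiber (IsLocalRing.closedPoint R)) → ℤ) (hδη : Cyc.DeltaCompat (a.fiberToSpecResidueField (genericPoint ↥(Spec (CommRingCat.of R)))) δη (fun _ => 0)) (hδs : Cyc.DeltaCompat (a.fiberToSpecResidueField (IsLocalRing.closedPoint R)) δs (fun _ => 0)) [IsLocallyNoetherian X] (r : ℤ) (F : X.Modules) (hF : Coh.IsCoh F) (hflat : FlatMod.IsFlatOver a F) (hdim : ∀ ζ : ↥(a.fiber (genericPoint ↥(Spec (CommRingCat.of R)))), Nontrivial (((Scheme.Modules.pullback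 (a.fiberι (genericPoint ↥(Spec (CommRingCat.of R))))).obj F).presheaf.stalk ζ) → δη ζ ≤ r) : (∀ x : ↥(a.fiber (IsLocalRing.closedPoint R)), Nontrivial (((Scheme.Modules.pullback (a.fiberι (IsLocalRing.closedPoint R))).obj F).presheaf.stalk x) → δs x ≤ r) ∧ Cyc.spFun a (genericPoint ↥(Spec (CommRingCat.of R))) (IsLocalRing.closedPoint R) δη δs r (Cyc.sheafFun δη r ((Scheme.Modules.pullback (a.fiberι (genericPoint ↥(Spec (CommRingCat.of R))))).obj F)) = Cyc.sheafFun δs r ((Scheme.Modules.pullback (a.fiberι (IsLocalRing.closedPoint R))).obj F) := by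
  classical
  haveI := hF.1
  obtain ⟨δ, hδ⟩ := exists_deltaCompat a (dvrDelta R)
  have hδd : Cyc.IsDimFun X δ := (isSetup_of_lft a (isSetup_dvr R) hδ).2.2
  have hdim' : ∀ v : X, a v = genericPoint ↥(Spec (CommRingCat.of R)) → Nontrivial (F.presheaf.stalk v) →
      δ v ≤ r + 1 := by
    intro v hv hn
    obtain ⟨ζ, rfl⟩ := SpFlat.exists_fibre_point a hv
    have hne : Nontrivial (((Scheme.Modules.pullback (a.fiberι (genericPoint ↥(Spec (CommRingCat.of R))))).obj
        F).presheaf.stalk ζ) := by
      rw [← not_subsingleton_iff_nontrivial, ← Module.length_eq_zero_iff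
        (R := (a.fiber (genericPoint ↥(Spec (CommRingCat.of R)))).presheaf.stalk ζ), SpFlat.length_generic a F ζ,
        Module.length_eq_zero_iff, not_subsingleton_iff_nontrivial]
      exact hn
    have h := hdim ζ hne
    rw [delta_fibre a hδ _ hδη ζ, dvrDelta_generic]
    omega
  refine ⟨fun x hx => ?_, funext fun x => SpFlat.spFun_eq a hδd hδ hF hflat hdim' hδη hδs x⟩
  obtain ⟨t, -, -, hlen⟩ := SpFlat.length_closed a F x
  have hn : Nontrivial (F.presheaf.stalk (a.fiberι (IsLocalRing.closedPoint R) x)) := by
    by_contra hc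
    rw [not_nontrivial_iff_subsingleton] at hc
    exact not_subsingleton_iff_nontrivial.2 hx (Module.length_eq_zero_iff.1 (hlen.trans Module.length_eq_zero))
  obtain ⟨v, hv, hg, -, hvr, -⟩ := SpFlat.exists_generic_above a hδd hF hflat hdim' hn
  have hne : v ≠ a.fiberι (IsLocalRing.closedPoint R) x := fun e => by
    rw [e, SpFlat.apply_fiberι] at hg
    exact dvr_generic_ne R hg.symm
  have h := (hδd _ _ hv hne).1
  rw [delta_fibre a hδ _ hδs x, dvrDelta_closed] at h
  omega

end Groth.Agent.S1911
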