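import Groth.Statements.S1910
import Groth.Agent.S1911
import Groth.Agent.CycLib.SubFun
import Groth.Agent.CycLib.FieldSetup
import Groth.Agent.BCLib.SteinFlat
import Groth.Agent.HilbObsLib.Ideal

set_option autoImplicit false
universe u
open CategoryTheory AlgebraicGeometry
open CategoryTheory.Limits
open Cyc

namespace Groth.Agent.S1910

open CategoryTheory CategoryTheory.Limits AlgebraicGeometry

open Groth.Agent Groth.Agent.CycLib
set_option backward.isDefEq.respectTransparency false

/-- Let W → X be a closed immersion with W flat over R and dim W_η ≤ r. Then dim W_s ≤ r and sp([W_η]_r)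
= [W_s]_r. Here R is a discrete valuation ring, a : X → Spec R is locally of finite type, X_η and
X_s are the fibres over the generic and closed points (Mathlib's Scheme.Hom.fiber) with their
dimension functions δη, δs (transcendence degree of residue fields), r-cycles on X_η are cycles
supported at points with δη = r, and sp is the specialization map Z_r(X_η) → Z_r(X_s) on coefficient
functions (Cyc.spFun). -/
theorem result (R : Type u) [CommRing R] [IsDomain R] [IsDiscreteValuationRing R] (X : Scheme.{u}) (a : X ⟶ Spec (CommRingCat.of R)) [LocallyOfFiniteType a] (δη : ↥(a.fiber (genericPoint ↥(Spec (CommRingCat.of R)))) → ℤ) (δs : ↥(a.fiber (IsLocalRing.closedPoint R)) → ℤ) (hδη : Cyc.DeltaCompat (a.fiberToSpecResidueField (genericPoint ↥(Spec (CommRingCat.of R)))) δη (fun _ => 0)) (hδs : Cyc.DeltaCompat (a.fiberToSpecResidueField (IsLocalRing.closedPoint R)) δs (fun _ => 0)) (r : ℤ) (W : Scheme.{u}) (ι : W ⟶ X) [IsClosedImmersion ι] [Flat (ι ≫ a)] (hdim : ∀ ζ : ↥(a.fiber (genericPoint ↥(Spec (CommRingCat.of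 R)))), a.fiberι (genericPoint ↥(Spec (CommRingCat.of R))) ζ ∈ Set.range ⇑ι → δη ζ ≤ r) : (∀ x : ↥(a.fiber (IsLocalRing.closedPoint R)), a.fiberι (IsLocalRing.closedPoint R) x ∈ Set.range ⇑ι → δs x ≤ r) ∧ Cyc.spFun a (genericPoint ↥(Spec (CommRingCat.of R))) (IsLocalRing.closedPoint R) δη δs r (Cyc.subschemeFun δη r (pullback.snd ι (a.fiberι (genericPoint ↥(Spec (CommRingCat.of R)))))) = Cyc.subschemeFun δs r (pullback.snd ι (a.fiberι (IsLocalRing.closedPoint R))) := by
  classical
  haveI : IsLocallyNoetherian X := LocallyOfFiniteType.isLocallyNoetherian a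
  haveI : IsLocallyNoetherian W := LocallyOfFiniteType.isLocallyNoetherian ι
  let F := (Coh.push ι).obj (Coh.structureModule W)
  have hF : Coh.IsCoh F := DevLib.isCoh_pushforward_closed ι (DevLib.isCoh_structureModule W)
  have hflat : FlatMod.IsFlatOver a F :=
    (HilbObsLib.isFlatOver_pushforward_iff ι a _).2 (BCLib.isFlatOver_structureModule (ι ≫ a))
  have hiff := fun (s : ↥(Spec (CommRingCat.of R))) (z : ↥(a.fiber s)) => SubFun.nontrivial_pull_iff ι (a.fiberι s) z
  obtain ⟨h1, h2⟩ := S1911.result R X a δη δs hδη hδs r F hF hflat fun ζ hζ => hdim ζ ((hiff _ ζ).1 hζ)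
  have h3 : ∀ x : ↥(a.fiber (IsLocalRing.closedPoint R)),
      a.fiberι (IsLocalRing.closedPoint R) x ∈ Set.range ⇑ι → δs x ≤ r := fun x hx => h1 x ((hiff _ x).2 hx)
  have hsetup : ∀ (s : ↥(Spec (CommRingCat.of R))) (δ : ↥(a.fiber s) → ℤ),
      Cyc.DeltaCompat (a.fiberToSpecResidueField s) δ (fun _ => 0) → Cyc.IsSetup (a.fiber s) δ := fun s δ hδ => by
    haveI : LocallyOfFiniteType (a.fiberToSpecResidueField s) := MorphismProperty.pullback_snd _ _ inferInstance
    exact isSetup_of_lft (a.fiberToSpecResidueField s) (isSetup_spec_field _) hδ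
  refine ⟨h3, ?_⟩
  rw [SubFun.subschemeFun_snd ι (a.fiberι _) (hsetup _ δs hδs) (fun z => h3 _ ⟨pullback.fst ι _ z,
      congr($(pullback.condition (f := ι) (g := a.fiberι (IsLocalRing.closedPoint R))) z)⟩),
    SubFun.subschemeFun_snd ι (a.fiberι _) (hsetup _ δη hδη) (fun z => hdim _ ⟨pullback.fst ι _ z,
      congr($(pullback.condition (f := ι) (g := a.fiberι (genericPoint ↥(Spec (CommRingCat.of R))))) z)⟩)]
  exact h2

end Groth.Agent.S1910
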