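import Groth.Statements.S19101
import Groth.Agent.ConormalLib.Cart

set_option backward.isDefEq.respectTransparency false

set_option autoImplicit false
open CategoryTheory MonoidalCategory CartesianMonoidalCategory MonObj AlgebraicGeometry Limits
open Omega

namespace Groth.Agent.S19101

/-- Over S = Spec ℂ let G be an affine group scheme of finite type, Y a scheme over ℂ, and X a scheme
over Y carrying an action, over Y, of the base change G_Y of G to Y which makes X an fppf torsor
under G over Y. Let g : X ×_Y X → G be the morphism determined by g(h x, x) = h, i.e. the composite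
of the inverse of the isomorphism G_Y ×_Y X → X ×_Y X, (h, x) ↦ (h x, x), with the projection to G;
the diagonal X → X ×_Y X and the unit section Spec ℂ → G then form a commutative (indeed cartesian)
square with g and X → Spec ℂ. Then there is a map of conormal sheaves for this square, from the
pullback to X of the conormal sheaf m_e/m_e² of the unit section (the trivial bundle with fibre the
dual of the Lie algebra 𝔤) to the conormal sheaf of the diagonal, which is the sheaf of relative
differentials Ω_{X/Y}, characterised by sending the class of a local equation of the unit section to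
the class of its pullback under g, and this map is an isomorphism: Ω_{X/Y} ≅ O_X ⊗ 𝔤^∨ canonically.
(The source states the dual form T_f = X × 𝔤 for algebraic spaces and moreover as G-equivariant
bundles for the adjoint action; the equivariance is not expressed here, and X, Y are schemes.) -/
theorem result
    {G Y : Over (Spec (CommRingCat.of ℂ))} [GrpObj G] [IsAffine G.left] [LocallyOfFiniteType G.hom]
    {X : Over Y.left} (a : AlgGrp.Action (Red.bc Y.hom G) X)
    (hX : NonAbH1.IsTorsorFor Scheme.fppfPrecoverage a)
    (g : pullback X.hom X.hom ⟶ G.left)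
    (hg : (lift a.act (snd (Red.bc Y.hom G) X)).left ≫ g =
      (fst (Red.bc Y.hom G) X).left ≫ pullback.fst G.hom Y.hom) :
    ∃ φ : (Scheme.Modules.pullback (toUnit (Over.mk (X.hom ≫ Y.hom) : Over (Spec (CommRingCat.of ℂ)))).left).obj
        (Omega.conormal (η[G]).left) ⟶ Omega.conormal (pullback.diagonal X.hom),
      OmegaSh.IsConormalMap (pullback.diagonal X.hom) (η[G]).left g
        (toUnit (Over.mk (X.hom ≫ Y.hom) : Over (Spec (CommRingCat.of ℂ)))).left φ ∧ IsIso φ := by
  haveI hΦ : IsIso (lift a.act (snd (Red.bc Y.hom G) X)) := hX.1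
  let P := ((Red.bc Y.hom G) ⊗ X).left
  let p : P ⟶ G.left := (fst (Red.bc Y.hom G) X).left ≫ pullback.fst G.hom Y.hom
  let q : P ⟶ X.left := (snd (Red.bc Y.hom G) X).left
  let t : X.left ⟶ Spec (CommRingCat.of ℂ) := X.hom ≫ Y.hom
  have hP : IsPullback p q G.hom t :=
    (IsPullback.of_hasPullback (Red.bc Y.hom G).hom X.hom).paste_horiz (IsPullback.of_hasPullback G.hom Y.hom)
  let Φ : P ⟶ pullback X.hom X.hom := (lift a.act (snd (Red.bc Y.hom G) X)).left
  haveI : IsIso Φ := (Over.forget Y.left).map_isIso (lift a.act (snd (Red.bc Y.hom G) X))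
  let σ : X ⟶ (Red.bc Y.hom G) ⊗ X := lift (toUnit X ≫ η[Red.bc Y.hom G]) (𝟙 X)
  have hσq : σ.left ≫ q = 𝟙 X.left := by
    show (σ ≫ snd _ _).left = _
    simp [σ]
  have hσp : σ.left ≫ p = t ≫ (η[G]).left := by
    have h1 : σ.left ≫ (fst (Red.bc Y.hom G) X).left = X.hom ≫ (η[Red.bc Y.hom G]).left := by
      show (σ ≫ fst _ _).left = _
      simp [σ]
    have h2 : (η[Red.bc Y.hom G]).left ≫ pullback.fst G.hom Y.hom = Y.hom ≫ (η[G]).left := by
      show ((Functor.LaxMonoidal.ε (Over.pullback Y.hom) ≫ (Over.pullback Y.hom).map η[G]).left) ≫ _ = _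
      have h3 : (Functor.LaxMonoidal.ε (Over.pullback Y.hom)).left ≫ pullback.fst _ _ = Y.hom := by
        have h4 : (Functor.LaxMonoidal.ε (Over.pullback Y.hom)).left ≫ pullback.snd _ _ = 𝟙 _ :=
          Over.w (Functor.LaxMonoidal.ε (Over.pullback Y.hom))
        refine (Category.comp_id _).symm.trans ?_
        show (_ ≫ pullback.fst (𝟙_ (Over _)).hom Y.hom) ≫ (𝟙_ (Over (Spec (CommRingCat.of ℂ)))).hom = _
        rw [Category.assoc, pullback.condition, ← Category.assoc, h4]
        exact Category.id_comp _
      simp only [Over.comp_left, Over.pullback_map_left, Category.assoc, pullback.lift_fst]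
      rw [← Category.assoc, h3]
    show σ.left ≫ _ ≫ pullback.fst G.hom Y.hom = _
    rw [← Category.assoc, h1, Category.assoc, h2, Category.assoc]
  have hsec : IsPullback σ.left t p (η[G]).left := by
    refine IsPullback.of_right ?_ hσp hP.flip
    rw [hσq, show (η[G]).left ≫ G.hom = 𝟙 _ from Over.w η[G]]
    haveI : IsIso (𝟙 (𝟙_ (Over (Spec (CommRingCat.of ℂ)))).left) := inferInstanceAs (IsIso (𝟙 (Spec (CommRingCat.of ℂ))))
    exact IsPullback.of_horiz_isIso ⟨by exact (Category.id_comp _).trans (Category.comp_id _).symm⟩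
  have hσΦ : σ.left ≫ Φ = pullback.diagonal X.hom := by
    have e : σ ≫ lift a.act (snd (Red.bc Y.hom G) X) = lift (𝟙 X) (𝟙 X) := by
      refine CartesianMonoidalCategory.hom_ext _ _ ?_ ?_
      · have h := congrArg (fun z => lift (toUnit X) (𝟙 X) ≫ z) a.one_act
        simp only [lift_map_assoc, ← Category.assoc, lift_whiskerRight] at h
        simp only [σ, Category.assoc, lift_fst]
        refine (h.trans ?_)
        simp
      · simp [σ]
    exact congrArg CommaMorphism.left e
  have hg' : p = Φ ≫ g := hg.symm
  have hsq : IsPullback (pullback.diagonal X.hom) t g (η[G]).left :=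
    IsPullback.of_iso hsec (Iso.refl _) (asIso Φ) (Iso.refl _) (Iso.refl _) (by simp [hσΦ])
      (by simp) (by simp [hg']) (by simp)
  haveI : Flat t := inferInstance
  haveI : Flat p := MorphismProperty.of_isPullback hP.flip ‹Flat t›
  haveI : Flat g := by
    rw [show g = inv Φ ≫ p by rw [hg', IsIso.inv_hom_id_assoc]]
    infer_instance
  haveI : IsClosedImmersion (η[G]).left := by
    haveI : IsSeparated G.hom := inferInstance
    haveI : IsClosedImmersion ((η[G]).left ≫ G.hom) := by
      rw [Over.w η[G]]
      exact inferInstanceAs (IsClosedImmersion (𝟙 (Spec (CommRingCat.of ℂ))))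
    exact IsClosedImmersion.of_comp (η[G]).left G.hom
  haveI : IsClosedImmersion (pullback.diagonal X.hom) := MorphismProperty.of_isPullback hsq.flip ‹_›
  have ht : (toUnit (Over.mk (X.hom ≫ Y.hom) : Over (Spec (CommRingCat.of ℂ)))).left = t := rfl
  obtain ⟨φ, hφ, -⟩ := ConormalLib.existsUnique_conormalMap (pullback.diagonal X.hom) (η[G]).left g
    (toUnit (Over.mk (X.hom ≫ Y.hom) : Over (Spec (CommRingCat.of ℂ)))).left (ht ▸ hsq.w.symm)
  exact ⟨φ, hφ, (ConormalLib.epi_and_isIso_of_isPullback (ht ▸ hsq) hφ).2 inferInstance⟩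

end Groth.Agent.S19101
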