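import Groth.Statements.S19102
import Groth.Agent.Comodule.CharIndep
-- import your own Groth.Agent.* helpers here

set_option autoImplicit false
open CategoryTheory MonoidalCategory CartesianMonoidalCategory MonObj AlgebraicGeometry
open scoped TensorProduct
open HopfRep

namespace Groth.Agent.S19102

attribute [local instance] CoactBr.braidedAlgSpecOf in
open CategoryTheory MonoidalCategory CartesianMonoidalCategory AlgebraicGeometry in
open scoped TensorProduct MonObj in
theorem class_iff {A : Type} [CommRing A] [HopfAlgebra ℂ A] (f : A) :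
    (∀ (T : Over (Spec (CommRingCat.of ℂ))) (x g : T ⟶ CoactBr.sp ℂ A),
        (x * g * x⁻¹).left.appTop ((Scheme.ΓSpecIso (CommRingCat.of A)).inv f) =
          g.left.appTop ((Scheme.ΓSpecIso (CommRingCat.of A)).inv f)) ↔
      ∀ φ ψ : WithConv (A →ₗ[ℂ] ℂ), (φ * ψ).ofConv f = (ψ * φ).ofConv f := by
  let e : ∀ (S : Over (Spec (CommRingCat.of ℂ))), (S ⟶ CoactBr.sp ℂ A) → Γ(S.left, ⊤) := fun S z =>
    z.left.appTop ((Scheme.ΓSpecIso (CommRingCat.of A)).inv f)
  let ix : A →ₐ[ℂ] A ⊗[ℂ] A := Algebra.TensorProduct.includeLeft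
  let iy : A →ₐ[ℂ] A ⊗[ℂ] A := Algebra.TensorProduct.includeRight
  have hpt : ∀ (K : Type) [CommRing K] [Algebra ℂ K] (φ : A →ₐ[ℂ] K) (S : Over (Spec (CommRingCat.of ℂ)))
      (u : S ⟶ CoactBr.sp ℂ K), e S (u ≫ CoactBr.pt φ) =
      u.left.appTop ((Scheme.ΓSpecIso (CommRingCat.of K)).inv (φ f)) := by
    intro K _ _ φ S u
    simp only [e, Over.comp_left, CoactBr.pt_left, Scheme.Hom.comp_appTop, CommRingCat.comp_apply]
    congr 1
    exact congrArg (fun (z : CommRingCat.of A ⟶ _) => z f)
      (Scheme.ΓSpecIso_inv_naturality (CommRingCat.ofHom φ.toRingHom)).symm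
  have hmul : ∀ (a b : A →ₐ[ℂ] A ⊗[ℂ] A), CoactBr.pt a * CoactBr.pt b =
      CoactBr.pt (WithConv.toConv a * WithConv.toConv b).ofConv := fun a b =>
    (map_mul Spec.mapMulEquiv (WithConv.toConv a) (WithConv.toConv b)).symm
  constructor
  · intro h φ ψ
    have h0 : e _ (CoactBr.pt ix * CoactBr.pt iy) = e _ (CoactBr.pt iy * CoactBr.pt ix) := by
      have h1 : e _ (CoactBr.pt ix * (CoactBr.pt iy * CoactBr.pt ix) * (CoactBr.pt ix)⁻¹) =
          e _ (CoactBr.pt iy * CoactBr.pt ix) := h _ (CoactBr.pt ix) (CoactBr.pt iy * CoactBr.pt ix)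
      rw [show CoactBr.pt ix * (CoactBr.pt iy * CoactBr.pt ix) * (CoactBr.pt ix)⁻¹ =
        CoactBr.pt ix * CoactBr.pt iy from by rw [_root_.mul_assoc, _root_.mul_assoc (CoactBr.pt iy), mul_inv_cancel, _root_.mul_one]] at h1
      exact h1
    rw [hmul, hmul] at h0
    have hc := hpt _ (WithConv.toConv ix * WithConv.toConv iy).ofConv _ (𝟙 _)
    have hc' := hpt _ (WithConv.toConv iy * WithConv.toConv ix).ofConv _ (𝟙 _)
    rw [Category.id_comp] at hc hc'
    rw [hc, hc'] at h0
    have hinj : Function.Injective (Scheme.ΓSpecIso (CommRingCat.of (A ⊗[ℂ] A))).inv :=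
      (Scheme.ΓSpecIso (CommRingCat.of (A ⊗[ℂ] A))).commRingCatIsoToRingEquiv.symm.injective
    have h2 : (WithConv.toConv ix * WithConv.toConv iy).ofConv f = (WithConv.toConv iy * WithConv.toConv ix).ofConv f := by
      apply hinj
      have hid : ∀ z, (CategoryTheory.Over.Hom.left (𝟙 (CoactBr.sp ℂ (A ⊗[ℂ] A)) :
          CoactBr.sp ℂ (A ⊗[ℂ] A) ⟶ CoactBr.sp ℂ (A ⊗[ℂ] A))).appTop z = z := fun z => by simp
      exact ((hid _).symm.trans h0).trans (hid _)
    have h3 := congrArg (LinearMap.mul' ℂ ℂ ∘ₗ TensorProduct.map φ.ofConv ψ.ofConv) h2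
    have e1 : ∀ t : A ⊗[ℂ] A, Algebra.TensorProduct.lift ix iy (fun _ _ => .all _ _) t = t := fun t => by
      induction t using TensorProduct.induction_on with
      | zero => simp
      | tmul a b => simp [ix, iy]
      | add a b ha hb => rw [map_add, ha, hb]
    have e2 : ∀ t : A ⊗[ℂ] A, Algebra.TensorProduct.lift iy ix (fun _ _ => .all _ _) t = TensorProduct.comm ℂ A A t := fun t => by
      induction t using TensorProduct.induction_on with
      | zero => simp
      | tmul a b => simp [ix, iy]
      | add a b ha hb => rw [map_add, map_add, ha, hb]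
    have f1 : (WithConv.toConv ix * WithConv.toConv iy).ofConv f = CoalgebraStruct.comul (R := ℂ) f := by
      rw [← e1 (CoalgebraStruct.comul (R := ℂ) f)]
      exact AlgHom.convMul_apply _ _ _
    have f2 : (WithConv.toConv iy * WithConv.toConv ix).ofConv f =
        TensorProduct.comm ℂ A A (CoalgebraStruct.comul (R := ℂ) f) := by
      rw [← e2 (CoalgebraStruct.comul (R := ℂ) f)]
      exact AlgHom.convMul_apply _ _ _
    rw [f1, f2] at h3
    rw [LinearMap.convMul_apply, LinearMap.convMul_apply]
    refine h3.trans ?_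
    generalize CoalgebraStruct.comul (R := ℂ) f = t
    induction t using TensorProduct.induction_on with
    | zero => simp
    | tmul a b => simp [mul_comm]
    | add a b ha hb => simp only [map_add, ha, hb]
  · intro h T x g
    let u : T ⟶ CoactBr.sp ℂ (A ⊗[ℂ] A) := lift x g ≫
      Functor.LaxMonoidal.μ (algSpec (CommRingCat.of ℂ)) (Opposite.op (.of ℂ A)) (Opposite.op (.of ℂ A))
    have hx : u ≫ CoactBr.pt ix = x := by
      show (lift x g ≫ _) ≫ (algSpec (CommRingCat.of ℂ)).map (fst (Opposite.op (CommAlgCat.of ℂ A)) (Opposite.op (CommAlgCat.of ℂ A))) = x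
      rw [Category.assoc]
      erw [Functor.Monoidal.μ_fst]
      exact lift_fst _ _
    have hg : u ≫ CoactBr.pt iy = g := by
      show (lift x g ≫ _) ≫ (algSpec (CommRingCat.of ℂ)).map (snd (Opposite.op (CommAlgCat.of ℂ A)) (Opposite.op (CommAlgCat.of ℂ A))) = g
      rw [Category.assoc]
      erw [Functor.Monoidal.μ_snd]
      exact lift_snd _ _
    have hinv : x⁻¹ = u ≫ CoactBr.pt (ix.comp (HopfAlgebra.antipodeAlgHom ℂ A)) := by
      rw [← CoactBr.pt_inv, GrpObj.comp_inv, hx]
    have hprod : x * g * x⁻¹ = u ≫ (CoactBr.pt ix * CoactBr.pt iy * (CoactBr.pt ix)⁻¹) := by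
      rw [MonObj.comp_mul, MonObj.comp_mul, GrpObj.comp_inv, hx, hg]
    show e T (x * g * x⁻¹) = e T g
    have key : ∀ a b : A →ₐ[ℂ] A ⊗[ℂ] A, (WithConv.toConv a * WithConv.toConv b).ofConv f =
        (WithConv.toConv b * WithConv.toConv a).ofConv f := by
      intro a b
      have hsym : TensorProduct.comm ℂ A A (CoalgebraStruct.comul (R := ℂ) f) = CoalgebraStruct.comul (R := ℂ) f := by
        refine sub_eq_zero.mp (Groth.Agent.Comodule.eq_zero_of_rcon fun φ => ?_)
        rw [← Module.forall_dual_apply_eq_zero_iff ℂ]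
        intro ψ
        rw [map_sub, map_sub, sub_eq_zero]
        have e1 : ∀ t : A ⊗[ℂ] A, ψ (Groth.Agent.Comodule.rcon φ (TensorProduct.comm ℂ A A t)) =
            LinearMap.mul' ℂ ℂ (TensorProduct.map φ ψ t) := fun t => by
          induction t using TensorProduct.induction_on with
          | zero => simp
          | tmul a b => simp [Groth.Agent.Comodule.rcon]
          | add a b ha hb => simp only [map_add, ha, hb]
        have e2 : ∀ t : A ⊗[ℂ] A, ψ (Groth.Agent.Comodule.rcon φ t) =
            LinearMap.mul' ℂ ℂ (TensorProduct.map ψ φ t) := fun t => by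
          induction t using TensorProduct.induction_on with
          | zero => simp
          | tmul a b => simp [Groth.Agent.Comodule.rcon, mul_comm]
          | add a b ha hb => simp only [map_add, ha, hb]
        rw [e1, e2]
        have := h (WithConv.toConv φ) (WithConv.toConv ψ)
        rw [LinearMap.convMul_apply, LinearMap.convMul_apply] at this
        exact this
      rw [AlgHom.convMul_apply, AlgHom.convMul_apply]
      conv_rhs => rw [← hsym]
      generalize CoalgebraStruct.comul (R := ℂ) f = t
      induction t using TensorProduct.induction_on with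
      | zero => simp
      | tmul p q => simp [mul_comm]
      | add p q hp hq => simp only [map_add, hp, hq]
    rw [hprod, CoactBr.pt_inv, hmul, hmul]
    conv_rhs => rw [← hg]
    rw [hpt, hpt]
    congr 2
    simp only [WithConv.toConv_ofConv]
    have hinv2 : WithConv.toConv (ix.comp (HopfAlgebra.antipodeAlgHom ℂ A)) * WithConv.toConv ix = 1 :=
      inv_mul_cancel (WithConv.toConv ix)
    rw [show WithConv.toConv ix * WithConv.toConv iy * WithConv.toConv (ix.comp (HopfAlgebra.antipodeAlgHom ℂ A)) =
      WithConv.toConv (WithConv.toConv ix * WithConv.toConv iy).ofConv * WithConv.toConv (ix.comp (HopfAlgebra.antipodeAlgHom ℂ A)) from rfl,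
      key, WithConv.toConv_ofConv, ← _root_.mul_assoc, hinv2, _root_.one_mul]

/-- Let A be a finitely generated commutative Hopf algebra over the complex numbers all of whose
finite-dimensional comodules are semisimple (a linearly reductive complex linear algebraic group G =
Spec A, connected or not; over the complex numbers these are the groups whose identity component has
a torus as radical, the reductive groups of the source). For a comodule structure on the coordinate
space ℂ^d with coaction e_i ↦ Σ_j e_j ⊗ a_ji, its character is the element Σ_i a_ii of A. Then (1)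
an element f of A is a class function, meaning f(x g x⁻¹) = f(g) for all points x, g of G with
values in any ℂ-scheme, if and only if f is a ℂ-linear combination of characters; and (2) the
characters of finitely many simple comodule structures on coordinate spaces, pairwise non-isomorphic
(no linear isomorphism intertwines the coactions), are linearly independent over ℂ. In other words
the character map from the complexified representation ring of G to the ring of class functions on G
is bijective. (The source's further assertion that R(G) is a finitely generated algebra for every G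
is not restated.) -/
theorem result
    (A : Type) [CommRing A] [HopfAlgebra ℂ A] [Algebra.FiniteType ℂ A]
    (hred : HopfRep.IsLinearlyReductive ℂ A) :
    (∀ f : A,
      (∀ (T : Over (Spec (CommRingCat.of ℂ))) (x g : T ⟶ CoactBr.sp ℂ A),
          (x * g * x⁻¹).left.appTop ((Scheme.ΓSpecIso (CommRingCat.of A)).inv f) =
            g.left.appTop ((Scheme.ΓSpecIso (CommRingCat.of A)).inv f)) ↔
        f ∈ Submodule.span ℂ (Set.range fun p : (Σ d : ℕ, HopfRep.Comod ℂ A (Fin d → ℂ)) =>
          ∑ i : Fin p.1, TensorProduct.lid ℂ A (LinearMap.rTensor A (LinearMap.proj i)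
            (@HopfRep.Comod.coact ℂ A _ _ _ _ (Fin p.1 → ℂ) _ _ p.2 (Pi.single i 1))))) ∧
    (∀ (n : ℕ) (d : Fin n → ℕ) (c : (i : Fin n) → HopfRep.Comod ℂ A (Fin (d i) → ℂ)),
      (∀ i, @HopfRep.IsSimpleComod ℂ A _ _ _ _ (Fin (d i) → ℂ) _ _ (c i)) →
      (∀ i j, i ≠ j → ∀ P : (Fin (d i) → ℂ) ≃ₗ[ℂ] (Fin (d j) → ℂ),
          LinearMap.rTensor A P.toLinearMap ∘ₗ @HopfRep.Comod.coact ℂ A _ _ _ _ (Fin (d i) → ℂ) _ _ (c i) ≠
            (@HopfRep.Comod.coact ℂ A _ _ _ _ (Fin (d j) → ℂ) _ _ (c j)) ∘ₗ P.toLinearMap) →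
      LinearIndependent ℂ (fun i : Fin n => ∑ t : Fin (d i), TensorProduct.lid ℂ A (LinearMap.rTensor A (LinearMap.proj t)
            (@HopfRep.Comod.coact ℂ A _ _ _ _ (Fin (d i) → ℂ) _ _ (c i) (Pi.single t 1))))) := by
  classical
  have hcf : ∀ (d : ℕ) (c : HopfRep.Comod ℂ A (Fin d → ℂ)) (t : Fin d),
      TensorProduct.lid ℂ A (LinearMap.rTensor A (LinearMap.proj t)
        (@HopfRep.Comod.coact ℂ A _ _ _ _ (Fin d → ℂ) _ _ c (Pi.single t 1))) =
      Groth.Agent.Comodule.cf c t t := fun d c t => rfl
  have hss : ∀ N : Submodule (WithConv (A →ₗ[ℂ] ℂ)) A, Module.Finite ℂ (N.restrictScalars ℂ) →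
      IsSemisimpleModule (WithConv (A →ₗ[ℂ] ℂ)) N := by
    intro N hN
    let hsub := Groth.Agent.Comodule.isSubcomod_restrictScalars N
    letI := Groth.Agent.Comodule.subComod (N.restrictScalars ℂ) hsub
    haveI : IsSemisimpleModule (WithConv (A →ₗ[ℂ] ℂ)) (N.restrictScalars ℂ) :=
      Groth.Agent.Comodule.isSemisimpleComod_iff.mp (hred _ hN)
    exact IsSemisimpleModule.congr (Groth.Agent.Comodule.subEquiv (N.restrictScalars ℂ) hsub).symm
  refine ⟨fun f => ?_, fun n d c hs hne => ?_⟩
  · rw [class_iff]
    constructor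
    · intro hco
      obtain ⟨n, d, c, hs, hne, hf⟩ := Groth.Agent.Comodule.exists_simple_cf (f := f) hss
      refine Submodule.span_mono ?_ (Groth.Agent.Comodule.mem_span_char_of_cocomm c hs hne hf hco)
      rintro _ ⟨i, rfl⟩
      exact ⟨⟨d i, c i⟩, rfl⟩
    · intro hf φ ψ
      induction hf using Submodule.span_induction with
      | mem x hx =>
        obtain ⟨⟨d, c⟩, rfl⟩ := hx
        simp only [hcf, map_sum, Groth.Agent.Comodule.conv_cf]
        rw [Finset.sum_comm]
        simp only [mul_comm]
      | zero => simp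
      | add a b _ _ ha hb => simp only [map_add, ha, hb]
      | smul r a _ ha => simp only [map_smul, ha]
  · exact Groth.Agent.Comodule.linearIndependent_char c hs fun i j hij P hP => hne i j hij P hP.symm

end Groth.Agent.S19102
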