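import Groth.Statements.S19105
import Groth.Agent.HilbCurveLib.Divisor
-- import your own Groth.Agent.* helpers here

set_option autoImplicit false
open CategoryTheory CategoryTheory.Limits AlgebraicGeometry
universe u
open HilbD

namespace Groth.Agent.S19105

/-- Let f : X ⟶ S be smooth of relative dimension 1, μ a non-empty Young diagram and n a reversed plane
partition of shape μ (a labelling of the cells by naturals, non-decreasing along rows and columns).
Call relative divisor of degree d a closed subscheme of X, given by a quasi-coherent ideal sheaf,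
whose projection to S is finite locally free of degree d; sums of divisors are products of ideal
sheaves. Let edge data of type n be given: a relative divisor Z_00 of degree n_00, for each cell
(i,j) with i ≥ 1 a relative divisor X_ij of degree n_ij − n_{i−1,j} and for each cell with j ≥ 1 a
relative divisor Y_ij of degree n_ij − n_{i,j−1}, such that for every cell with i, j ≥ 1 the divisor
Y_ij + X_{i,j−1} is contained in X_ij + Y_{i−1,j} (containment of ideal sheaves the other way). Then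
there is exactly one flag (Z_c)_{c ∈ μ} of relative divisors of degrees n_c, growing along rows and
columns, with corner Z_00 and with Z_ij = Z_{i−1,j} + X_ij and Z_ij = Z_{i,j−1} + Y_ij throughout.
(The published statement is for X = C × T ⟶ T with C a smooth irreducible quasi-projective complex
curve and T a complex scheme, and identifies, through T-points, the scheme of such flags with the
zero scheme of a section of a vector bundle on the product of symmetric powers that carries the edge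
data; the vanishing of the pulled-back section at a T-point amounts to the stated containment of
divisors. Here f is any smooth morphism of relative dimension 1, and neither the bundle nor its
section is formed.) -/
theorem result {X S : Scheme.{u}} (f : X ⟶ S) [SmoothOfRelativeDimension 1 f]
    (μ : YoungDiagram) (h00 : ((0, 0) : ℕ × ℕ) ∈ μ) (n : ℕ × ℕ → ℕ) (hn : HilbD.IsRevPlanePartition μ n)
    (E : HilbD.DnEdgeData μ X) (hE : E.IsOfType f n)
    (hcomm : ∀ (c : ℕ × ℕ) (hc : c ∈ μ) (hi : 1 ≤ c.1) (hj : 1 ≤ c.2), E.gammaOne c hc hi hj ≤ E.gammaTwo c hc hi hj) :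
    ∃! Z : ∀ c : ℕ × ℕ, c ∈ μ → X.IdealSheafData, HilbD.IsDnFlag f μ n Z ∧ E.IsEdgesOf h00 Z := by
  obtain ⟨hb, hv, hh⟩ := hE
  let Z₀ : ℕ → ∀ c : ℕ × ℕ, c ∈ μ → X.IdealSheafData := fun k => Nat.rec (fun _ _ => E.base)
    (fun _ rec c hc => if hi : 1 ≤ c.1 then rec (c.1 - 1, c.2) (HilbD.mem_up hc) * E.vert c hc hi
      else if hj : 1 ≤ c.2 then rec (c.1, c.2 - 1) (HilbD.mem_left hc) * E.horiz c hc hj else E.base) k
  let Z : ∀ c : ℕ × ℕ, c ∈ μ → X.IdealSheafData := fun c hc => Z₀ (c.1 + c.2) c hc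
  have hbase : ∀ hc : ((0, 0) : ℕ × ℕ) ∈ μ, Z (0, 0) hc = E.base := fun _ => rfl
  have hup : ∀ (c : ℕ × ℕ) (hc : c ∈ μ) (hi : 1 ≤ c.1),
      Z c hc = Z (c.1 - 1, c.2) (HilbD.mem_up hc) * E.vert c hc hi := by
    intro c hc hi
    obtain ⟨m, hm⟩ : ∃ m, c.1 + c.2 = m + 1 := ⟨c.1 + c.2 - 1, by omega⟩
    show Z₀ (c.1 + c.2) c hc = Z₀ (c.1 - 1 + c.2) _ _ * _
    rw [hm, show c.1 - 1 + c.2 = m by omega]
    exact dif_pos hi
  have hleft0 : ∀ (c : ℕ × ℕ) (hc : c ∈ μ) (hj : 1 ≤ c.2), c.1 = 0 →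
      Z c hc = Z (c.1, c.2 - 1) (HilbD.mem_left hc) * E.horiz c hc hj := by
    intro c hc hj h0
    obtain ⟨m, hm⟩ : ∃ m, c.1 + c.2 = m + 1 := ⟨c.1 + c.2 - 1, by omega⟩
    show Z₀ (c.1 + c.2) c hc = Z₀ (c.1 + (c.2 - 1)) _ _ * _
    rw [hm, show c.1 + (c.2 - 1) = m by omega]
    exact (dif_neg (by omega)).trans (dif_pos hj)
  have hdeg : ∀ (k : ℕ) (c : ℕ × ℕ) (hc : c ∈ μ), c.1 + c.2 = k → HilbD.IsDivOfDeg f (n c) (Z c hc) := by
    intro k
    induction k with
    | zero =>
      intro c hc h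
      obtain rfl : c = (0, 0) := Prod.ext (by omega) (by omega)
      exact (hbase hc).symm ▸ hb
    | succ k ih =>
      intro c hc h
      by_cases hi : 1 ≤ c.1
      · have h1 := HilbCurveLib.deg_mul f (ih (c.1 - 1, c.2) (HilbD.mem_up hc) (by simp only; omega)) (hv c hc hi)
        rw [Nat.add_sub_cancel' (hn (HilbD.mem_up hc) hc ⟨Nat.sub_le _ _, le_rfl⟩)] at h1
        rw [HilbD.IsDivOfDeg, hup c hc hi]
        exact h1
      · have hj : 1 ≤ c.2 := by omega
        have h1 := HilbCurveLib.deg_mul f (ih (c.1, c.2 - 1) (HilbD.mem_left hc) (by simp only; omega)) (hh c hc hj)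
        rw [Nat.add_sub_cancel' (hn (HilbD.mem_left hc) hc ⟨le_rfl, Nat.sub_le _ _⟩)] at h1
        rw [HilbD.IsDivOfDeg, hleft0 c hc hj (by omega)]
        exact h1
  have hgam : ∀ (c : ℕ × ℕ) (hc : c ∈ μ) (hi : 1 ≤ c.1) (hj : 1 ≤ c.2),
      E.gammaOne c hc hi hj = E.gammaTwo c hc hi hj := by
    intro c hc hi hj
    have hu : (c.1 - 1, c.2) ∈ μ := HilbD.mem_up hc
    have hl : (c.1, c.2 - 1) ∈ μ := HilbD.mem_left hc
    have hd : (c.1 - 1, c.2 - 1) ∈ μ := HilbD.mem_left hu
    have m1 : n (c.1 - 1, c.2 - 1) ≤ n (c.1 - 1, c.2) := hn hd hu ⟨le_rfl, Nat.sub_le _ _⟩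
    have m2 : n (c.1 - 1, c.2 - 1) ≤ n (c.1, c.2 - 1) := hn hd hl ⟨Nat.sub_le _ _, le_rfl⟩
    have m3 : n (c.1 - 1, c.2) ≤ n c := hn hu hc ⟨Nat.sub_le _ _, le_rfl⟩
    have m4 : n (c.1, c.2 - 1) ≤ n c := hn hl hc ⟨le_rfl, Nat.sub_le _ _⟩
    have g1 := HilbCurveLib.deg_mul f (hv c hc hi) (hh (c.1 - 1, c.2) hu hj)
    have g2 := HilbCurveLib.deg_mul f (hh c hc hj) (hv (c.1, c.2 - 1) hl hi)
    rw [show n c - n (c.1 - 1, c.2) + (n (c.1 - 1, c.2) - n (c.1 - 1, c.2 - 1)) = n c - n (c.1 - 1, c.2 - 1) by omega] at g1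
    rw [show n c - n (c.1, c.2 - 1) + (n (c.1, c.2 - 1) - n (c.1 - 1, c.2 - 1)) = n c - n (c.1 - 1, c.2 - 1) by omega] at g2
    exact HilbCurveLib.eq_of_le_of_deg f (hcomm c hc hi hj) g2 g1
  have hleft : ∀ (k : ℕ) (c : ℕ × ℕ) (hc : c ∈ μ) (hj : 1 ≤ c.2), c.1 = k →
      Z c hc = Z (c.1, c.2 - 1) (HilbD.mem_left hc) * E.horiz c hc hj := by
    intro k
    induction k with
    | zero => exact fun c hc hj h => hleft0 c hc hj h
    | succ k ih =>
      intro c hc hj h
      have hi : 1 ≤ c.1 := by omega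
      have hu : (c.1 - 1, c.2) ∈ μ := HilbD.mem_up hc
      have hl : (c.1, c.2 - 1) ∈ μ := HilbD.mem_left hc
      rw [hup c hc hi, ih (c.1 - 1, c.2) hu hj (by simp only; omega), hup (c.1, c.2 - 1) hl hi]
      have := hgam c hc hi hj
      rw [HilbD.DnEdgeData.gammaOne, HilbD.DnEdgeData.gammaTwo] at this
      rw [mul_assoc, mul_comm (E.horiz _ _ _), this, mul_comm (E.horiz c hc hj), ← mul_assoc]
  have hstep1 : ∀ (c : ℕ × ℕ) (hc : c ∈ μ), Z c hc ≤ Z (c.1 - 1, c.2) (HilbD.mem_up hc) := by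
    intro c hc
    by_cases hi : 1 ≤ c.1
    · rw [hup c hc hi]
      intro U
      rw [Scheme.IdealSheafData.ideal_mul, Pi.mul_apply]
      exact Ideal.mul_le_left
    · have hceq : (c.1 - 1, c.2) = c := Prod.ext (by simp only; omega) rfl
      simp only [hceq, le_refl]
  have hstep2 : ∀ (c : ℕ × ℕ) (hc : c ∈ μ), Z c hc ≤ Z (c.1, c.2 - 1) (HilbD.mem_left hc) := by
    intro c hc
    by_cases hj : 1 ≤ c.2
    · rw [hleft c.1 c hc hj rfl]
      intro U
      rw [Scheme.IdealSheafData.ideal_mul, Pi.mul_apply]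
      exact Ideal.mul_le_left
    · have hceq : (c.1, c.2 - 1) = c := Prod.ext rfl (by simp only; omega)
      simp only [hceq, le_refl]
  have hmono : ∀ (m : ℕ) (c c' : ℕ × ℕ) (hc : c ∈ μ) (hc' : c' ∈ μ), c ≤ c' → c'.1 + c'.2 = m + (c.1 + c.2) →
      Z c' hc' ≤ Z c hc := by
    intro m
    induction m with
    | zero =>
      intro c c' hc hc' hle h
      obtain rfl : c = c' := Prod.ext (by have := hle.1; have := hle.2; omega) (by have := hle.1; have := hle.2; omega)
      exact le_rfl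
    | succ m ih =>
      intro c c' hc hc' hle h
      have := hle.1
      have := hle.2
      by_cases hi : c.1 < c'.1
      · exact (hstep1 c' hc').trans (ih c (c'.1 - 1, c'.2) hc _ ⟨by simp only; omega, hle.2⟩ (by simp only; omega))
      · exact (hstep2 c' hc').trans (ih c (c'.1, c'.2 - 1) hc _ ⟨hle.1, by simp only; omega⟩ (by simp only; omega))
  refine ⟨Z, ⟨⟨fun c hc => hdeg _ c hc rfl, fun c c' hc hc' hle =>
    hmono (c'.1 + c'.2 - (c.1 + c.2)) c c' hc hc' hle (by have := hle.1; have := hle.2; omega)⟩,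
    hbase h00, hup, fun c hc hj => hleft c.1 c hc hj rfl⟩, ?_⟩
  rintro W ⟨-, w1, w2, w3⟩
  have : ∀ (k : ℕ) (c : ℕ × ℕ) (hc : c ∈ μ), c.1 + c.2 = k → W c hc = Z c hc := by
    intro k
    induction k with
    | zero =>
      intro c hc h
      obtain rfl : c = (0, 0) := Prod.ext (by omega) (by omega)
      exact w1.trans (hbase hc).symm
    | succ k ih =>
      intro c hc h
      by_cases hi : 1 ≤ c.1
      · rw [w2 c hc hi, hup c hc hi, ih _ _ (by simp only; omega)]
      · rw [w3 c hc (by omega), hleft0 c hc (by omega) (by omega), ih _ _ (by simp only; omega)]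
  funext c hc
  exact this _ c hc rfl

end Groth.Agent.S19105
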