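import Groth.Statements.S19106
import Mathlib

set_option autoImplicit false
open HilbD

namespace Groth.Agent.S19106

/-- Let μ be a non-empty Young diagram, V the number of its cells, E the number of unordered pairs of
cells sharing a side (a cell together with the cell immediately below it, or immediately to its
right, both in μ) and Q the number of 2 × 2 blocks of cells of μ (cells c such that the cell
diagonally below-right of c is in μ, the other two corners being in μ automatically). Then V − E + Q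
− 1 = 0, stated as V + Q = E + 1 in the naturals. (The empty diagram, for which the count reads 0 −
0 + 0 − 1, is excluded.) -/
theorem result (μ : YoungDiagram) (hμ : μ ≠ ⊥) :
    μ.cells.card + (μ.cells.filter (fun c => (c.1 + 1, c.2 + 1) ∈ μ)).card =
      (μ.cells.filter (fun c => (c.1 + 1, c.2) ∈ μ)).card + (μ.cells.filter (fun c => (c.1, c.2 + 1) ∈ μ)).card + 1 := by
  classical
  have hmem : ∀ {a b a' b' : ℕ}, (a, b) ∈ μ → a' ≤ a → b' ≤ b → (a', b') ∈ μ := fun h ha hb => μ.up_left_mem ha hb h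
  have e1 : (μ.cells.filter (fun c => (c.1 + 1, c.2) ∈ μ)).card = (μ.cells.filter (fun c => 0 < c.1)).card := by
    refine Finset.card_nbij' (fun c => (c.1 + 1, c.2)) (fun c => (c.1 - 1, c.2)) ?_ ?_ ?_ ?_
    all_goals rintro ⟨a, b⟩ h
    all_goals simp only [Finset.mem_coe, Finset.mem_filter, YoungDiagram.mem_cells, Prod.mk.injEq] at h ⊢
    · exact ⟨h.2, Nat.succ_pos _⟩
    · exact ⟨hmem h.1 (Nat.sub_le _ _) le_rfl, by rw [Nat.sub_add_cancel h.2]; exact h.1⟩
    · exact ⟨by omega, trivial⟩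
    · exact ⟨by omega, trivial⟩
  have e2 : (μ.cells.filter (fun c => (c.1, c.2 + 1) ∈ μ)).card = (μ.cells.filter (fun c => 0 < c.2)).card := by
    refine Finset.card_nbij' (fun c => (c.1, c.2 + 1)) (fun c => (c.1, c.2 - 1)) ?_ ?_ ?_ ?_
    all_goals rintro ⟨a, b⟩ h
    all_goals simp only [Finset.mem_coe, Finset.mem_filter, YoungDiagram.mem_cells, Prod.mk.injEq] at h ⊢
    · exact ⟨h.2, Nat.succ_pos _⟩
    · exact ⟨hmem h.1 le_rfl (Nat.sub_le _ _), by rw [Nat.sub_add_cancel h.2]; exact h.1⟩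
    · exact ⟨trivial, by omega⟩
    · exact ⟨trivial, by omega⟩
  have e3 : (μ.cells.filter (fun c => (c.1 + 1, c.2 + 1) ∈ μ)).card = (μ.cells.filter (fun c => 0 < c.1 ∧ 0 < c.2)).card := by
    refine Finset.card_nbij' (fun c => (c.1 + 1, c.2 + 1)) (fun c => (c.1 - 1, c.2 - 1)) ?_ ?_ ?_ ?_
    all_goals rintro ⟨a, b⟩ h
    all_goals simp only [Finset.mem_coe, Finset.mem_filter, YoungDiagram.mem_cells, Prod.mk.injEq] at h ⊢
    · exact ⟨h.2, Nat.succ_pos _, Nat.succ_pos _⟩
    · exact ⟨hmem h.1 (Nat.sub_le _ _) (Nat.sub_le _ _), by rw [Nat.sub_add_cancel h.2.1, Nat.sub_add_cancel h.2.2]; exact h.1⟩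
    · exact ⟨by omega, by omega⟩
    · exact ⟨by omega, by omega⟩
  have h00 : (0, 0) ∈ μ := by
    obtain ⟨⟨a, b⟩, hc⟩ : μ.cells.Nonempty := by
      rw [Finset.nonempty_iff_ne_empty]
      exact fun h => hμ (YoungDiagram.ext (h.trans YoungDiagram.cells_bot.symm))
    exact hmem ((YoungDiagram.mem_cells _).1 hc) (Nat.zero_le _) (Nat.zero_le _)
  have e4 : μ.cells.card = (μ.cells.filter (fun c => 0 < c.1 ∨ 0 < c.2)).card + 1 := by
    rw [← Finset.card_filter_add_card_filter_not (s := μ.cells) (fun c => 0 < c.1 ∨ 0 < c.2)]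
    congr 1
    rw [Finset.card_eq_one]
    refine ⟨(0, 0), ?_⟩
    ext ⟨a, b⟩
    simp only [Finset.mem_filter, YoungDiagram.mem_cells, Finset.mem_singleton, Prod.mk.injEq, not_or, not_lt, Nat.le_zero]
    exact ⟨fun h => h.2, fun h => ⟨by rw [h.1, h.2]; exact h00, h⟩⟩
  have e5 := Finset.card_union_add_card_inter (μ.cells.filter (fun c => 0 < c.1)) (μ.cells.filter (fun c => 0 < c.2))
  rw [← Finset.filter_or, ← Finset.filter_and] at e5
  omega

end Groth.Agent.S19106
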