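import Groth.Statements.S19128
import Groth.Agent.SuppVanishLib.Main
import Groth.Agent.CdpLib.ResPush
import Groth.Agent.EtClosedPts.Curve
import Groth.Agent.GorLib.DepthVanish
import Groth.Agent.CurveLib.Components
import Groth.Agent.SuppCoh.Edge
import Groth.Agent.S0109
import Groth.Agent.S0110
import Groth.Agent.S0291
import Groth.Agent.S0356

set_option autoImplicit false
universe u
open CategoryTheory CategoryTheory.Limits AlgebraicGeometry Opposite
open EtDual

set_option backward.isDefEq.respectTransparency false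
set_option backward.isDefEq.respectTransparency.types false
set_option linter.style.haveILetI false

namespace Groth.Agent.S19128

open SuppCoh (gs)

theorem puncturedSpec_eq (A : Type u) [CommRing A] [IsLocalRing A] :
    FEt.puncturedSpec A = LocCoh.puncturedOpen A (IsLocalRing.maximalIdeal A) := by
  refine TopologicalSpace.Opens.ext (congrArg (·ᶜ) ?_)
  refine Set.ext fun p => ?_
  show p = IsLocalRing.closedPoint A ↔ IsLocalRing.maximalIdeal A ≤ p.asIdeal
  refine ⟨fun h => h ▸ le_rfl, fun h => PrimeSpectrum.ext ?_⟩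
  exact ((IsLocalRing.maximalIdeal.isMaximal A).eq_of_le p.2.ne_top h).symm

variable (R : Type u) [CommRing R] [IsNoetherianRing R] [IsLocalRing R]

theorem appTop_eq : (FEt.puncturedSpec R).ι.appTop =
    (Spec (CommRingCat.of R)).presheaf.map (homOfLE (le_top : FEt.puncturedSpec R ≤ ⊤)).op ≫
      (Scheme.Opens.topIso (FEt.puncturedSpec R)).inv := by
  rw [Scheme.Opens.ι_appTop, Scheme.Opens.topIso_inv]
  exact ((Spec (CommRingCat.of R)).presheaf.map_comp _ _)

/-- A positive depth makes restriction to the punctured spectrum injective. -/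
theorem injective_appTop (h : (1 : ℕ∞) ≤ LocCoh.depth R R) :
    Function.Injective (FEt.puncturedSpec R).ι.appTop := by
  rw [show (1 : ℕ∞) = ((1 : ℕ) : ℕ∞) from rfl, CAlgBasics.natCast_le_depth_iff] at h
  obtain ⟨rs, hl, hreg, hmem⟩ := h
  obtain ⟨f, rfl⟩ := List.length_eq_one_iff.1 hl
  have hf : IsSMulRegular R f := ((RingTheory.Sequence.isWeaklyRegular_cons_iff R f []).1 hreg).1
  have hle : (PrimeSpectrum.basicOpen f : (Spec (CommRingCat.of R)).Opens) ≤ FEt.puncturedSpec R := by
    intro x hx h
    obtain rfl : x = IsLocalRing.closedPoint R := h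
    exact hx (hmem f (by simp))
  rw [appTop_eq]
  intro a b hab
  have hab' : (Spec (CommRingCat.of R)).presheaf.map (homOfLE (le_top : FEt.puncturedSpec R ≤ ⊤)).op a =
      (Spec (CommRingCat.of R)).presheaf.map (homOfLE (le_top : FEt.puncturedSpec R ≤ ⊤)).op b := by
    rw [ConcreteCategory.comp_apply, ConcreteCategory.comp_apply] at hab
    exact (ConcreteCategory.bijective_of_isIso _).1 hab
  clear hab
  have hab := congrArg ((Spec (CommRingCat.of R)).presheaf.map (homOfLE hle).op) hab'
  simp only [← ConcreteCategory.comp_apply, ← Functor.map_comp] at hab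
  obtain ⟨a, rfl⟩ := (ConcreteCategory.bijective_of_isIso (Scheme.ΓSpecIso (CommRingCat.of R)).inv).2 a
  obtain ⟨b, rfl⟩ := (ConcreteCategory.bijective_of_isIso (Scheme.ΓSpecIso (CommRingCat.of R)).inv).2 b
  letI : Algebra R Γ(Spec (CommRingCat.of R), PrimeSpectrum.basicOpen f) :=
    StructureSheaf.openAlgebra R (op (PrimeSpectrum.basicOpen f))
  haveI : IsLocalization.Away f Γ(Spec (CommRingCat.of R), PrimeSpectrum.basicOpen f) :=
    StructureSheaf.IsLocalization.to_basicOpen R f
  refine congrArg _ (IsLocalization.injective _ (M := Submonoid.powers f) ?_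
    (show algebraMap R Γ(Spec (CommRingCat.of R), PrimeSpectrum.basicOpen f) a = algebraMap R _ b from hab))
  exact Submonoid.powers_le.mpr (mem_nonZeroDivisors_iff_right.mpr fun c hc => hf (show f • c = f • 0 by rw [smul_eq_mul, smul_zero, mul_comm, hc]))

/-- Depth two makes restriction to the punctured spectrum bijective. -/
theorem bijective_appTop (h : (2 : ℕ∞) ≤ LocCoh.depth R R) :
    Function.Bijective (FEt.puncturedSpec R).ι.appTop := by
  have hiso := Groth.Agent.S0291.result R R fun m hm => by
    obtain rfl : m = IsLocalRing.maximalIdeal R := IsLocalRing.eq_maximalIdeal hm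
    let e : R ≃+* Localization.AtPrime (IsLocalRing.maximalIdeal R) :=
      (IsLocalization.atUnits R (IsLocalRing.maximalIdeal R).primeCompl (S := Localization.AtPrime (IsLocalRing.maximalIdeal R))
        fun x hx => by
          by_contra hu
          exact hx ((IsLocalRing.mem_maximalIdeal x).2 hu)).toRingEquiv
    rw [Groth.Agent.S0291.depth_of_ringEquiv e]
    exact h
  have hid : Spec.map (CommRingCat.ofHom (algebraMap R R)) ⁻¹ᵁ FEt.puncturedSpec R = FEt.puncturedSpec R := by
    rw [show CommRingCat.ofHom (algebraMap R R) = 𝟙 (CommRingCat.of R) from rfl, Spec.map_id]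
    rfl
  rw [appTop_eq]
  have key : ∀ (V : (Spec (CommRingCat.of R)).Opens), V = FEt.puncturedSpec R →
      IsIso ((Spec (CommRingCat.of R)).presheaf.map (homOfLE (le_top : V ≤ ⊤)).op) →
      IsIso ((Spec (CommRingCat.of R)).presheaf.map (homOfLE (le_top : FEt.puncturedSpec R ≤ ⊤)).op) := by
    rintro V rfl h
    exact h
  haveI hk := key _ hid hiso
  exact ConcreteCategory.bijective_of_isIso _

/-- The restriction of global sections of the additive group to the punctured spectrum. -/
theorem unit_Ga :
    (Function.Injective (FEt.puncturedSpec R).ι.appTop →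
      Mono ((gs _).map (EtDual.unitApp (FEt.puncturedSpec R).ι (EtCoh.Ga (Spec (CommRingCat.of R)))))) ∧
    (Function.Surjective (FEt.puncturedSpec R).ι.appTop →
      Epi ((gs _).map (EtDual.unitApp (FEt.puncturedSpec R).ι (EtCoh.Ga (Spec (CommRingCat.of R)))))) := by
  let j := (FEt.puncturedSpec R).ι
  let W := EtCoh.top (Spec (CommRingCat.of R))
  haveI := EtJCont.jCont j
  let b := pullback.fst (𝟙 (Spec (CommRingCat.of R))) j
  let e : pullback (𝟙 (Spec (CommRingCat.of R))) j ≅ (FEt.puncturedSpec R : Scheme.{u}) :=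
    asIso (pullback.snd (𝟙 (Spec (CommRingCat.of R))) j)
  have hb : b.appTop = j.appTop ≫ e.hom.appTop := by
    rw [← Scheme.Hom.comp_appTop]
    congr 1
    exact (Category.comp_id b).symm.trans pullback.condition
  have hmap : ∀ s, ((EtCoh.Ga (Spec (CommRingCat.of R))).obj.map (FEtDepthLib.rho j W).op s) =
      (ULift.up (b.appTop s.down) : ULift.{u + 1} _) := fun s => by
    apply ULift.ext
    show (((FEtDepthLib.rho j W).left).appTop s.down) = b.appTop s.down
    rw [FEtDepthLib.rho_left]
    rfl
  rw [SuppVanishLib.map_unitApp_top]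
  constructor
  · intro h
    haveI : Mono ((EtCoh.Ga (Spec (CommRingCat.of R))).obj.map (FEtDepthLib.rho j W).op) := by
      rw [AddCommGrpCat.mono_iff_injective]
      intro s t hst
      rw [hmap, hmap] at hst
      apply ULift.ext
      have h1 := congrArg ULift.down hst
      rw [hb] at h1
      exact h ((ConcreteCategory.bijective_of_isIso e.hom.appTop).1 h1)
    exact mono_comp _ _
  · intro h
    haveI : Epi ((EtCoh.Ga (Spec (CommRingCat.of R))).obj.map (FEtDepthLib.rho j W).op) := by
      rw [AddCommGrpCat.epi_iff_surjective]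
      intro t
      obtain ⟨y, hy⟩ := (ConcreteCategory.bijective_of_isIso e.hom.appTop).2 (ULift.down t)
      obtain ⟨x, hx⟩ := h y
      refine ⟨ULift.up x, (hmap _).trans (ULift.ext _ _ ?_)⟩
      show b.appTop x = ULift.down t
      rw [hb, ConcreteCategory.comp_apply]
      exact (congrArg _ hx).trans hy
    exact epi_comp _ _

/-- The cohomology of the additive group on the punctured spectrum vanishes below the depth. -/
theorem subsingleton_H_punctured (n : ℕ) (hn : 1 ≤ n) (h : ((n + 2 : ℕ) : ℕ∞) ≤ LocCoh.depth R R) :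
    Subsingleton (EtCoh.H (FEt.puncturedSpec R : Scheme.{u})
      ((EtCoh.pull (FEt.puncturedSpec R).ι).obj (EtCoh.Ga (Spec (CommRingCat.of R)))) n) := by
  haveI := EtJCont.jCont (FEt.puncturedSpec R).ι
  refine EtClosedPts.subsingleton_H_of_iso ((EtPtsLib.pullIsoRestr (FEt.puncturedSpec R).ι).app _ ≪≫
    CdpLib.restrGaIso (FEt.puncturedSpec R).ι) n ?_
  obtain ⟨e⟩ := Groth.Agent.S0110.result (FEt.puncturedSpec R : Scheme.{u}) n
  refine @Equiv.subsingleton _ _ e.toEquiv ?_
  rw [puncturedSpec_eq R]
  let U := LocCoh.puncturedOpen R (IsLocalRing.maximalIdeal R)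
  obtain ⟨e'⟩ := Groth.Agent.S0356.result R (IsLocalRing.maximalIdeal R) R n hn
  have hz : Subsingleton (LocCoh.H (IsLocalRing.maximalIdeal R) (n + 1) R) :=
    (GorLib.natCast_le_depth_iff_subsingleton_H R (n + 2)).1 h (n + 1) (by omega)
  let φ : (AlgebraicGeometry.tilde (R := CommRingCat.of R) (ModuleCat.of R R)).restrict U.ι ≅
      Coh.structureModule (U : Scheme.{u}) :=
    (Scheme.Modules.restrictFunctor U.ι).mapIso tildeSelf ≪≫ Scheme.Modules.restrictUnitIso U.ι
  exact CurveLib.subsingleton_HH_iso φ n (@Equiv.subsingleton _ _ e'.toEquiv hz)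


/-- Let p be a prime and R a Noetherian local ring of characteristic p which is strictly henselian
(henselian with separably closed residue field) and Cohen–Macaulay, of Krull dimension d; let Y =
Spec R with closed point y and punctured spectrum U = Y - {y}. Then the local cohomology groups
H^i_y(Y_et, Z/p) of the constant étale sheaf Z/p with support in the closed point (right derived
functors of sections vanishing on U) are zero for every i < d. -/
theorem result
    (p : ℕ) [Fact p.Prime] (R : Type u) [CommRing R] [LocCoh.IsCohenMacaulayLocalRing R]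
    [HenselianLocalRing R] [IsSepClosed (IsLocalRing.ResidueField R)] [CharP R p]
    (i : ℕ) (hi : (i : WithBot ℕ∞) < ringKrullDim R) :
    IsZero ((EtDual.HY (FEt.puncturedSpec R).ι i).obj (EtCoh.const (Spec (CommRingCat.of R)) (ZMod p))) := by
  let X := Spec (CommRingCat.of R)
  have hp : p.Prime := Fact.out
  haveI : CharP Γ(X, ⊤) p :=
    charP_of_injective_ringHom (f := (Scheme.ΓSpecIso (CommRingCat.of R)).inv.hom)
      (ConcreteCategory.bijective_of_isIso (Scheme.ΓSpecIso (CommRingCat.of R)).inv).1 p
  have h0 : (p : Γ(X, ⊤)) = 0 := CharP.cast_eq_zero _ p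
  have hdepth : ringKrullDim R = ((LocCoh.depth R R : ℕ∞) : WithBot ℕ∞) := by
    rw [← Module.supportDim_self_eq_ringKrullDim]
    exact LocCoh.IsCohenMacaulayLocalRing.supportDim_eq_depth
  rw [hdepth] at hi
  have hi' : ((i + 1 : ℕ) : ℕ∞) ≤ LocCoh.depth R R := by
    have h1 : (i : ℕ∞) < LocCoh.depth R R := WithBot.coe_lt_coe.1 hi
    push_cast
    exact Order.add_one_le_of_lt h1
  have hGa : ∀ k ≤ i, IsZero ((EtDual.HY (FEt.puncturedSpec R).ι k).obj (EtCoh.Ga X)) := fun k hk => by
    have hV := SuppVanishLib.isZero_HY (FEt.puncturedSpec R).ι (EtCoh.Ga X)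
    cases k with
    | zero =>
      exact hV.1 ((unit_Ga R).1 (injective_appTop R (le_trans (Nat.cast_le.2 (by omega)) hi')))
    | succ q =>
      refine hV.2 q (Groth.Agent.S0109.result X (q + 1) (by omega)) ?_
      cases q with
      | zero =>
        exact Or.inl ⟨rfl, (unit_Ga R).2 (bijective_appTop R (le_trans (show (2 : ℕ∞) ≤ ((0 + 1 + 1 : ℕ) : ℕ∞) by norm_num) (le_trans (Nat.cast_le.2 (by omega)) hi'))).2⟩
      | succ m =>
        exact Or.inr (subsingleton_H_punctured R (m + 1) (by omega) (le_trans (Nat.cast_le.2 (by omega)) hi'))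
  have hS := Groth.Agent.EtVanish.shortExact_AS (X := X) p hp h0
  haveI : PreservesFiniteLimits (EtDual.secSupp (FEt.puncturedSpec R).ι) :=
    ((Functor.preservesFiniteLimits_tfae (EtDual.secSupp (FEt.puncturedSpec R).ι)).out 2 3).1
      fun _ _ f => SuppCoh.preservesKernel_secSupp _ f
  haveI := SuppVanishLib.preservesFiniteLimits_gs X
  haveI : PreservesFiniteLimits (EtDual.gammaSupp (FEt.puncturedSpec R).ι) :=
    inferInstanceAs (PreservesFiniteLimits (EtDual.secSupp (FEt.puncturedSpec R).ι ⋙ gs X))
  cases i with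
  | zero => exact SuppVanishLib.isZero_rightDerived_zero_left _ hS (hGa 0 le_rfl)
  | succ q => exact SuppVanishLib.isZero_rightDerived_left _ hS (hGa (q + 1) le_rfl) (hGa q (by omega))
end Groth.Agent.S19128
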