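import Groth.Statements.S19130
import Groth.Agent.GabberConstLib.PushOpen
import Groth.Agent.S0090

set_option autoImplicit false
universe u
open CategoryTheory CategoryTheory.Limits AlgebraicGeometry Opposite
open EtCoh

set_option backward.isDefEq.respectTransparency false

namespace Groth.Agent.S19130

/-- Let p be a prime and Y an integral scheme which is normal (every local ring is integrally closed in
its fraction field) and whose function field is algebraically closed. Then the étale cohomology of
the constant sheaf Z/p on Y is Z/p in degree 0 and vanishes in positive degrees: H^0(Y_et, Z/p) has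
exactly p elements and H^i(Y_et, Z/p) = 0 for i > 0. Moreover, for every nonempty open subscheme j :
U → Y, the unit morphism from the constant sheaf Z/p on Y_et to j_* of its restriction to U is an
isomorphism. -/
theorem result
    (p : ℕ) [Fact p.Prime] (Y : Scheme.{u}) [IsIntegral Y]
    (hnorm : ∀ y : Y, IsIntegrallyClosed (Y.presheaf.stalk y)) [IsAlgClosed Y.functionField] :
    Nat.card (EtCoh.H Y (EtCoh.const Y (ZMod p)) 0) = p ∧
      (∀ i : ℕ, 0 < i → Subsingleton (EtCoh.H Y (EtCoh.const Y (ZMod p)) i)) ∧
      ∀ U : Y.Opens, (U : Set Y).Nonempty →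
        IsIso ((EtCoh.pullPushAdj U.ι).unit.app (EtCoh.const Y (ZMod p))) := by
  haveI : IsSepClosed Y.functionField := inferInstance
  have hS : ∀ y : Y, EtCoh.IsStrictlyHenselianLocalRing (Y.presheaf.stalk y) := fun y => Groth.Agent.S0090.result Y hnorm y
  refine ⟨(Groth.Agent.GabberConstLib.card_H0_const (X := Y) (ZMod p)).trans (Nat.card_zmod p),
    fun i hi => Groth.Agent.GabberConstLib.subsingleton_H_irreducible hS (ZMod p) i hi,
    fun U hU => Groth.Agent.GabberConstLib.isIso_unit_opens hS (ZMod p) U hU⟩

end Groth.Agent.S19130
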