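import Groth.Statements.S19131
import Groth.Agent.VerdierTLib.Key

set_option autoImplicit false
universe v u v' u'
open CategoryTheory CategoryTheory.Limits CategoryTheory.Pretriangulated CategoryTheory.Triangulated
open PervT

namespace Groth.Agent.S19131

open scoped ZeroObject
set_option linter.style.haveILetI false
set_option backward.isDefEq.respectTransparency false

theorem ext_of {E : Type*} [Category E] [Preadditive E] [HasZeroObject E] [HasShift E ℤ]
    [∀ n : ℤ, (shiftFunctor E n).Additive] [Pretriangulated E] {t t' : TStructure E}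
    (h : ∀ n X, t.le n X ↔ t'.le n X) (h' : ∀ n X, t.ge n X ↔ t'.ge n X) : t = t' := by
  cases t
  cases t'
  congr
  · funext n X; exact propext (h n X)
  · funext n X; exact propext (h' n X)


/-- Let C be a triangulated category (octahedron axiom included) carrying a bounded t-structure t (every
object is ≥ a and ≤ b for some integers a, b), and let D be a strictly full triangulated subcategory
of C (a property of objects containing zero, stable under shifts, extensions and isomorphisms) such
that (1) for X in D and every integer n the n-th cohomology object of X for t, realised as τ^{≥ n}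
τ^{≤ n} X, lies in D, and (2) the objects of D in the heart of t are closed under subobjects and
quotients in the heart: for every distinguished triangle X → Y → Z → X[1] whose three vertices lie
in the heart, if Y is in D then so are X and Z. Let q : C ⥤ E be a triangulated functor to a
pretriangulated category E which exhibits E as the localization of C at the class of morphisms whose
cone lies in D (the Verdier quotient of C by D). Then E carries exactly one t-structure for which q
is t-exact (q sends objects ≤ n to objects ≤ n and objects ≥ n to objects ≥ n), and for this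
t-structure an object of E is ≤ n, respectively ≥ n, if and only if it is isomorphic to q X for some
X ≤ n, respectively X ≥ n, in C. (The source also identifies the heart of this t-structure with the
quotient of the heart of t by its intersection with D; that identification is not asserted here.) -/
theorem result
    {C : Type u} [Category.{v} C] [Preadditive C] [HasZeroObject C] [HasShift C ℤ]
    [∀ n : ℤ, (shiftFunctor C n).Additive] [Pretriangulated C] [IsTriangulated C]
    (t : TStructure C) (hb : ∀ X : C, t.bounded X)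
    (D : ObjectProperty C) [D.IsTriangulated] [D.IsClosedUnderIsomorphisms]
    (h1 : ∀ X : C, D X → ∀ n : ℤ, D ((t.truncGELE n n).obj X))
    (h2 : ∀ (X Y Z : C) (f : X ⟶ Y) (g : Y ⟶ Z) (h : Z ⟶ X⟦(1 : ℤ)⟧),
      Triangle.mk f g h ∈ distTriang C → t.heart X → t.heart Y → t.heart Z → D Y → D X ∧ D Z)
    {E : Type u'} [Category.{v'} E] [Preadditive E] [HasZeroObject E] [HasShift E ℤ]
    [∀ n : ℤ, (shiftFunctor E n).Additive] [Pretriangulated E]
    (q : C ⥤ E) [q.CommShift ℤ] [q.IsTriangulated] [q.IsLocalization D.trW] :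
    ∃ t' : TStructure E,
      (∀ (X : C) (n : ℤ), t.IsLE X n → t'.IsLE (q.obj X) n) ∧
      (∀ (X : C) (n : ℤ), t.IsGE X n → t'.IsGE (q.obj X) n) ∧
      (∀ (Y : E) (n : ℤ), t'.IsLE Y n ↔ ∃ X : C, t.IsLE X n ∧ Nonempty (q.obj X ≅ Y)) ∧
      (∀ (Y : E) (n : ℤ), t'.IsGE Y n ↔ ∃ X : C, t.IsGE X n ∧ Nonempty (q.obj X ≅ Y)) ∧
      ∀ t'' : TStructure E,
        (∀ (X : C) (n : ℤ), t.IsLE X n → t''.IsLE (q.obj X) n) →
        (∀ (X : C) (n : ℤ), t.IsGE X n → t''.IsGE (q.obj X) n) → t'' = t' := by
  haveI : q.EssSurj := Localization.essSurj q D.trW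
  have hker : ∀ V : C, D V → IsZero (q.obj V) := fun V hV => by
    have hw : D.trW (0 : V ⟶ 0) := (D.trW_iff _).2 ⟨_, _, _,
      rot_of_distTriang _ (contractible_distinguished V), D.le_shift (1 : ℤ) V hV⟩
    haveI := Localization.inverts q D.trW _ hw
    exact (q.map_isZero (isZero_zero C)).of_iso (asIso (q.map (0 : V ⟶ 0)))
  have orth : ∀ (X Y : C), t.IsLE X 0 → t.IsGE Y 1 → ∀ φ : q.obj X ⟶ q.obj Y, φ = 0 := by
    intro X Y hX hY φ
    haveI := hX
    haveI := hY
    obtain ⟨ψ, rfl⟩ := Localization.exists_rightFraction q D.trW φ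
    obtain ⟨X', s, hs, f, rfl⟩ := ψ.cases
    have h0 : q.map f = 0 := by
      rw [← t.π_descTruncGE f 1, q.map_comp,
        (hker _ (Groth.Agent.VerdierTLib.truncGE_one_mem t D hb h1 h2 s hs)).eq_of_tgt (q.map ((t.truncGEπ 1).app X')) 0]
      exact zero_comp
    haveI := Localization.inverts q D.trW s hs
    rw [← cancel_epi (q.map s), comp_zero, ← h0]
    exact MorphismProperty.RightFraction.map_s_comp_map (MorphismProperty.RightFraction.mk (W := D.trW) s hs f) q (Localization.inverts q D.trW)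
  let t' : TStructure E :=
    { le := fun n Y => ∃ X : C, t.IsLE X n ∧ Nonempty (q.obj X ≅ Y)
      ge := fun n Y => ∃ X : C, t.IsGE X n ∧ Nonempty (q.obj X ≅ Y)
      le_isClosedUnderIsomorphisms := fun n =>
        ⟨fun {_ _} e h => by obtain ⟨X, hX, ⟨e'⟩⟩ := h; exact ⟨X, hX, ⟨e' ≪≫ e⟩⟩⟩
      ge_isClosedUnderIsomorphisms := fun n =>
        ⟨fun {_ _} e h => by obtain ⟨X, hX, ⟨e'⟩⟩ := h; exact ⟨X, hX, ⟨e' ≪≫ e⟩⟩⟩
      le_shift := fun n a n' hn Y h => by
        obtain ⟨X, hX, ⟨e⟩⟩ := h
        haveI := hX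
        exact ⟨X⟦a⟧, t.isLE_shift X n a n' hn, ⟨(q.commShiftIso a).app X ≪≫ (shiftFunctor E a).mapIso e⟩⟩
      ge_shift := fun n a n' hn Y h => by
        obtain ⟨X, hX, ⟨e⟩⟩ := h
        haveI := hX
        exact ⟨X⟦a⟧, t.isGE_shift X n a n' hn, ⟨(q.commShiftIso a).app X ≪≫ (shiftFunctor E a).mapIso e⟩⟩
      zero' := fun Y Y' f h h' => by
        obtain ⟨X, hX, ⟨e⟩⟩ := h
        obtain ⟨X', hX', ⟨e'⟩⟩ := h'
        rw [← cancel_epi e.hom, ← cancel_mono e'.inv, comp_zero, zero_comp]
        exact orth X X' hX hX' _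
      le_zero_le := fun Y h => by
        obtain ⟨X, hX, e⟩ := h
        haveI := hX
        exact ⟨X, t.isLE_of_le X 0 1, e⟩
      ge_one_le := fun Y h => by
        obtain ⟨X, hX, e⟩ := h
        haveI := hX
        exact ⟨X, t.isGE_of_ge X 0 1, e⟩
      exists_triangle_zero_one := fun Y => by
        obtain ⟨X₁, X₂, hX₁, hX₂, f, g, h, mem⟩ := t.exists_triangle (q.objPreimage Y) 0 1 (by omega)
        let e := q.objObjPreimageIso Y
        refine ⟨q.obj X₁, q.obj X₂, ⟨X₁, ⟨hX₁⟩, ⟨Iso.refl _⟩⟩, ⟨X₂, ⟨hX₂⟩, ⟨Iso.refl _⟩⟩, q.map f ≫ e.hom,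
          e.inv ≫ q.map g, (q.mapTriangle.obj (Triangle.mk f g h)).mor₃, ?_⟩
        refine isomorphic_distinguished _ (q.map_distinguished _ mem) _
          (Triangle.isoMk _ _ (Iso.refl _) e.symm (Iso.refl _) ?_ ?_ ?_)
        all_goals simp
        all_goals rfl }
  have hle : ∀ (Y : E) (n : ℤ), t'.IsLE Y n ↔ ∃ X : C, t.IsLE X n ∧ Nonempty (q.obj X ≅ Y) :=
    fun Y n => (t'.le_iff_isLE Y n).symm
  have hge : ∀ (Y : E) (n : ℤ), t'.IsGE Y n ↔ ∃ X : C, t.IsGE X n ∧ Nonempty (q.obj X ≅ Y) :=
    fun Y n => (t'.ge_iff_isGE Y n).symm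
  refine ⟨t', fun X n hX => (hle _ _).2 ⟨X, hX, ⟨Iso.refl _⟩⟩, fun X n hX => (hge _ _).2 ⟨X, hX, ⟨Iso.refl _⟩⟩,
    hle, hge, fun t'' hl hg => ext_of (fun n Y => ?_) fun n Y => ?_⟩
  · rw [t'.le_iff_isLE, t''.le_iff_isLE]
    constructor
    · intro hY
      refine (t'.isLE_iff_orthogonal n (n + 1) rfl Y).2 fun S f hS => ?_
      obtain ⟨X, hX, ⟨e⟩⟩ := (hge _ _).1 hS
      haveI := hg X (n + 1) hX
      haveI := hY
      haveI := t''.isGE_of_iso e (n + 1)
      exact t''.zero f n (n + 1)
    · intro hY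
      obtain ⟨X, hX, ⟨e⟩⟩ := (hle _ _).1 hY
      haveI := hl X n hX
      exact t''.isLE_of_iso e n
  · rw [t'.ge_iff_isGE, t''.ge_iff_isGE]
    constructor
    · intro hY
      refine (t'.isGE_iff_orthogonal (n - 1) n (by omega) Y).2 fun S f hS => ?_
      obtain ⟨X, hX, ⟨e⟩⟩ := (hle _ _).1 hS
      haveI := hl X (n - 1) hX
      haveI := hY
      haveI := t''.isLE_of_iso e (n - 1)
      exact t''.zero f (n - 1) n
    · intro hY
      obtain ⟨X, hX, ⟨e⟩⟩ := (hge _ _).1 hY
      haveI := hg X n hX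
      exact t''.isGE_of_iso e n

end Groth.Agent.S19131
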