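import Groth.Statements.S19132
import Groth.Agent.DualCxLib.Trunc
-- Template for statement S19132 (row 19131; see the milestone table for weights).
-- Copy to Groth/Agent/S19132.lean and replace the sorry. The statement below is byte-identical to the frozen
-- statement Dual.GrothFrozen.S19132 (Groth/Statements/S19132.lean; the theorem Dual.hom_shift_dualizing_subsingleton_of_cohomology_nonneg);
-- the grader kernel-checks Groth.Agent.S19132.result against that frozen type. Keep the theorem IN THIS FILE
-- (a `result` declared elsewhere and merely imported here is not credited); helpers may live anywhere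
-- under Groth/Agent/.
-- helpers: DualCxLib

set_option autoImplicit false
universe u
open CategoryTheory
attribute [local instance] HasDerivedCategory.standard
open Dual Groth.Agent.DualCxLib

namespace Groth.Agent.S19132

/-- In the case of a local ring whose dualizing complex is normalized, let A be a Noetherian local ring
with residue field k and ω a normalized dualizing complex over A (Hom(k, ω[i]) = 0 in D(A) for i ≠
0), and let N be an object of D(A) which is bounded with finitely generated cohomology modules and
concentrated in nonnegative degrees (H^i(N) = 0 for i < 0). Then RHom_A(N, ω) is concentrated in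
nonpositive degrees: the group of morphisms N → ω[i] in D(A) vanishes for every i > 0. (For the
local ring at a point x of a scheme of finite type over the base, whose dualizing complex is
normalized only up to the shift by the integer d(x), the corresponding bound is degree −d(x); that
case is this statement applied to the shifted complex.) -/
theorem result
    (A : Type u) [CommRing A] [IsLocalRing A] [IsNoetherianRing A]
    (ω : Dual.D A) (hω : Dual.IsDualizing A ω) (hn : Dual.IsNormalized A ω)
    (N : Dual.D A) (hfin : ∀ i : ℤ, Module.Finite A (Dual.HD A N i))
    (b : ℤ) (hb : ∀ i : ℤ, b < i → Subsingleton (Dual.HD A N i))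
    (hge : ∀ i : ℤ, i < 0 → Subsingleton (Dual.HD A N i))
    (i : ℤ) (hi : 0 < i) :
    Subsingleton (N ⟶ ω⟦i⟧) := by
  haveI : N.IsGE 0 := (DerivedCategory.isGE_iff _ _).2 fun j hj =>
    ModuleCat.isZero_iff_subsingleton.2 (hge j hj)
  haveI : N.IsLE b := (DerivedCategory.isLE_iff _ _).2 fun j hj =>
    ModuleCat.isZero_iff_subsingleton.2 (hb j hj)
  exact subsingleton_hom_of_bounded ω i 0 b N hfin fun Y _ _ _ j hj =>
    subsingleton_HK_pos hω hn Y (by omega)

end Groth.Agent.S19132
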