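import Groth.Statements.S19135
import Groth.Agent.DualCxLib.GammaHDI
import Groth.Agent.DualCxLib.PairD
import Groth.Agent.S0299
import Groth.Agent.DualCxLib.PairD
import Groth.Agent.InjHullLib.Matlis
-- Template for statement S19135 (row 19134; see the milestone table for weights).
-- Copy to Groth/Agent/S19135.lean and replace the sorry. The statement below is byte-identical to the frozen
-- statement Dual.GrothFrozen.S19135 (Groth/Statements/S19135.lean; the theorem Dual.hom_dualizing_vanishing_iff_RgammaI_vanishing);
-- the grader kernel-checks Groth.Agent.S19135.result against that frozen type. Keep the theorem IN THIS FILE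
-- (a `result` declared elsewhere and merely imported here is not credited); helpers may live anywhere
-- under Groth/Agent/.
-- helpers: DualCxLib

set_option autoImplicit false
universe u
open CategoryTheory
attribute [local instance] HasDerivedCategory.standard
open Dual Groth.Agent.DualCxLib

namespace Groth.Agent.S19135

/-- In the case of the spectrum of the base local ring and its closed point, let A be a Noetherian local
ring with maximal ideal m and ω a normalized dualizing complex over A (Hom(k, ω[i]) = 0 in D(A) for
i ≠ 0), assume the total right derived functor RΓ_m of the m-power-torsion functor exists on D(A),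
and let M be an object of D(A) which is bounded with finitely generated cohomology modules. Then
RHom(M, ω) is concentrated in degrees ≥ 0 (Hom(M, ω[i]) = 0 for all i < 0) if and only if RΓ_m M is
concentrated in degrees ≤ 0 (H^i(RΓ_m M) = 0 for all i > 0); and RHom(M, ω) is concentrated in
degrees ≤ 0 if and only if RΓ_m M is concentrated in degrees ≥ 0. In particular M is perverse
coherent (RHom(M, ω) concentrated in degree 0) exactly when its local cohomology at m is
concentrated in degree 0. (The published statement of the two halves, read in cohomological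
indexing, has the inequalities on the local cohomology side exchanged: over a field k with ω = k,
the complex k[1] has RHom(k[1], ω) = k[−1] concentrated in degrees ≥ 0 while its local cohomology
k[1] is concentrated in degree −1, not in degrees ≥ 0. This statement gives the form that local
duality yields, which is the one compatible with the description of the perverse t-structure by
support conditions.) -/
theorem result
    (A : Type u) [CommRing A] [IsLocalRing A] [IsNoetherianRing A]
    (ω : Dual.D A) (hω : Dual.IsDualizing A ω) (hn : Dual.IsNormalized A ω)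
    [DRing.HasRgammaI (IsLocalRing.maximalIdeal A)] (M : Dual.D A)
    (hfin : ∀ i : ℤ, Module.Finite A (Dual.HD A M i))
    (hbd : ∃ a b : ℤ, ∀ i : ℤ, (i < a ∨ b < i) → Subsingleton (Dual.HD A M i)) :
    ((∀ i : ℤ, i < 0 → Subsingleton (M ⟶ ω⟦i⟧)) ↔
      (∀ i : ℤ, 0 < i → Subsingleton (Dual.HD A ((DRing.RgammaI (IsLocalRing.maximalIdeal A)).obj M) i))) ∧
    ((∀ i : ℤ, 0 < i → Subsingleton (M ⟶ ω⟦i⟧)) ↔
      (∀ i : ℤ, i < 0 → Subsingleton (Dual.HD A ((DRing.RgammaI (IsLocalRing.maximalIdeal A)).obj M) i))) := by
  let S := Groth.Agent.DualCxLib.model hω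
  obtain ⟨E, _, _, f, hf⟩ := Groth.Agent.S0299.result A (IsLocalRing.ResidueField A)
  obtain ⟨e⟩ := S.nonempty_E0_equiv hω hn hf
  have key : ∀ i : ℤ, Subsingleton (Dual.HD A ((DRing.RgammaI (IsLocalRing.maximalIdeal A)).obj M) i) ↔
      Subsingleton (M ⟶ ω⟦-i⟧) := fun i => by
    obtain ⟨c⟩ := Groth.Agent.DualCxLib.nonempty_HD_RgammaI (IsLocalRing.maximalIdeal A) M i
    rw [c.toEquiv.subsingleton_congr,
      (LinearEquiv.ofBijective (S.phiD hω hn e M i) (S.bijective_phiD hω hn e hf M hfin i)).toEquiv.subsingleton_congr]
    haveI : Module.Finite A (M ⟶ ω⟦-i⟧) := S.finite_hom hω.finite_cohomology M hfin (-i)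
    obtain ⟨q, π, hπ⟩ := Module.Finite.exists_fin' A (M ⟶ ω⟦-i⟧)
    let eL : ((Fin q → A) ⧸ LinearMap.ker π) ≃ₗ[A] (M ⟶ ω⟦-i⟧) := π.quotKerEquivOfSurjective hπ
    refine ⟨fun h => ?_, fun h => ⟨fun a b => LinearMap.ext fun x => by
      rw [Subsingleton.elim x 0, map_zero, map_zero]⟩⟩
    haveI : Subsingleton (((Fin q → A) ⧸ LinearMap.ker π) →ₗ[A] E) :=
      (LinearEquiv.arrowCongr eL (LinearEquiv.refl A E)).injective.subsingleton
    haveI : Subsingleton ((Fin q → A) ⧸ LinearMap.ker π) :=
      (Groth.Agent.InjHullLib.eval_injective hf ((Fin q → A) ⧸ LinearMap.ker π)).subsingleton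
    exact eL.symm.injective.subsingleton
  refine ⟨⟨fun h i hi => (key i).2 (h (-i) (by omega)), fun h i hi => ?_⟩,
    ⟨fun h i hi => (key i).2 (h (-i) (by omega)), fun h i hi => ?_⟩⟩
  · have := (key (-i)).1 (h (-i) (by omega))
    rwa [neg_neg] at this
  · have := (key (-i)).1 (h (-i) (by omega))
    rwa [neg_neg] at this

end Groth.Agent.S19135
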