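import Groth.Statements.S19138
import Mathlib

set_option autoImplicit false
open Instab

namespace Groth.Agent.S19138

open Matrix

variable {n : ℕ}

/-- support -/
noncomputable def supp (y : Fin n → ℝ) : Finset (Fin n) := Finset.univ.filter fun i => y i ≠ 0

theorem expand (A : Matrix (Fin n) (Fin n) ℝ) (y v : Fin n → ℝ) (t : ℝ) :
    (y + t • v) ⬝ᵥ A *ᵥ (y + t • v) = y ⬝ᵥ A *ᵥ y + t * (y ⬝ᵥ (A + Aᵀ) *ᵥ v) + t ^ 2 * (v ⬝ᵥ A *ᵥ v) := by
  have h : y ⬝ᵥ Aᵀ *ᵥ v = v ⬝ᵥ A *ᵥ y := by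
    rw [dotProduct_mulVec, vecMul_transpose, dotProduct_comm]
  simp only [mulVec_add, add_mulVec, mulVec_smul, dotProduct_add, add_dotProduct, dotProduct_smul, smul_dotProduct, smul_eq_mul, h]
  ring

theorem bsymm (A : Matrix (Fin n) (Fin n) ℝ) (u v : Fin n → ℝ) : u ⬝ᵥ (A + Aᵀ) *ᵥ v = v ⬝ᵥ (A + Aᵀ) *ᵥ u := by
  rw [dotProduct_mulVec, dotProduct_comm, ← mulVec_transpose, transpose_add, transpose_transpose, add_comm]

theorem self_eq (A : Matrix (Fin n) (Fin n) ℝ) (v : Fin n → ℝ) : v ⬝ᵥ (A + Aᵀ) *ᵥ v = 2 * (v ⬝ᵥ A *ᵥ v) := by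
  have h : v ⬝ᵥ Aᵀ *ᵥ v = v ⬝ᵥ A *ᵥ v := by rw [dotProduct_mulVec, vecMul_transpose, dotProduct_comm]
  rw [add_mulVec, dotProduct_add, h]; ring

theorem dot_supp {S : Finset (Fin n)} {v : Fin n → ℝ} (hv : ∀ i, i ∉ S → v i = 0) (w : Fin n → ℝ) :
    v ⬝ᵥ w = ∑ i : S, v i * w i := by
  rw [Finset.sum_coe_sort S (fun i => v i * w i)]
  exact (Finset.sum_subset (Finset.subset_univ S) fun i _ hi => by rw [hv i hi, zero_mul]).symm

theorem exists_step {S : Finset (Fin n)} {y v : Fin n → ℝ} (hy : ∀ i, 0 ≤ y i) (hS : ∀ i, i ∈ S ↔ y i ≠ 0)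
    (hv : ∀ i, i ∉ S → v i = 0) (hneg : ∃ i, v i < 0) :
    ∃ t : ℝ, (∀ i, 0 ≤ (y + t • v) i) ∧ (supp (y + t • v)).card < S.card := by
  classical
  let N := Finset.univ.filter fun i => v i < 0
  have hN : N.Nonempty := by obtain ⟨i, hi⟩ := hneg; exact ⟨i, by simp [N, hi]⟩
  obtain ⟨i0, hi0, hmin⟩ := N.exists_min_image (fun i => y i / (-v i)) hN
  have hv0 : v i0 < 0 := by simpa [N] using hi0
  let t := y i0 / (-v i0)
  have ht : 0 ≤ t := div_nonneg (hy i0) (by linarith)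
  refine ⟨t, fun i => ?_, ?_⟩
  · simp only [Pi.add_apply, Pi.smul_apply, smul_eq_mul]
    by_cases hvi : v i < 0
    · have h1 : t ≤ y i / (-v i) := hmin i (by simp [N, hvi])
      rw [le_div_iff₀ (by linarith)] at h1
      linarith
    · have := mul_nonneg ht (not_lt.1 hvi)
      have := hy i
      linarith
  · refine Finset.card_lt_card (Finset.ssubset_iff_of_subset (fun i hi => ?_) |>.2 ⟨i0, ?_, ?_⟩)
    · simp only [supp, Finset.mem_filter, Pi.add_apply, Pi.smul_apply, smul_eq_mul] at hi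
      by_contra h
      exact hi.2 (by rw [hv i h, not_ne_iff.1 fun h' => h ((hS i).2 h')]; ring)
    · by_contra h
      exact hv0.ne (hv i0 h)
    · simp only [supp, Finset.mem_filter, Pi.add_apply, Pi.smul_apply, smul_eq_mul, not_and, not_not]
      intro _
      simp only [t]
      field_simp [hv0.ne]
      ring

open Matrix in
/-- Let ℓ ∈ ℚⁿ and let B be a rational n × n matrix whose real quadratic form q(y) = y · (B y) is
non-negative on ℝⁿ and positive at every non-zero point of the non-negative orthant. If ℓ · y > 0 at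
some point of the orthant, then the function ℓ · y / √q(y) on the non-zero points of the orthant
attains its maximum at a point with rational coordinates. (The published lemma says that the
numerical invariant attached to a rational degree-two class and such a norm on graded points attains
its maximum on each rational simplex at a rational point whenever it is positive somewhere on that
simplex; on one rational simplex that invariant is this function, so this is what is asked there.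
The case of a piecewise rational linear norm is not stated here.) -/
theorem result (n : ℕ) (ℓ : Fin n → ℚ)
    (B : Matrix (Fin n) (Fin n) ℚ)
    (hnn : ∀ y : Fin n → ℝ, 0 ≤ y ⬝ᵥ (B.map (fun r : ℚ => (r : ℝ))) *ᵥ y)
    (hpos : ∀ y : Fin n → ℝ, (∀ i, 0 ≤ y i) → y ≠ 0 → 0 < y ⬝ᵥ (B.map (fun r : ℚ => (r : ℝ))) *ᵥ y)
    (hℓ : ∃ y : Fin n → ℝ, (∀ i, 0 ≤ y i) ∧ 0 < (fun i => (ℓ i : ℝ)) ⬝ᵥ y) :
    ∃ x : Fin n → ℚ, (∀ i, 0 ≤ x i) ∧ x ≠ 0 ∧
      ∀ y : Fin n → ℝ, (∀ i, 0 ≤ y i) → y ≠ 0 →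
        (fun i => (ℓ i : ℝ)) ⬝ᵥ y / Real.sqrt (y ⬝ᵥ (B.map (fun r : ℚ => (r : ℝ))) *ᵥ y) ≤
          (fun i => (ℓ i : ℝ)) ⬝ᵥ (fun i => (x i : ℝ)) /
            Real.sqrt ((fun i => (x i : ℝ)) ⬝ᵥ (B.map (fun r : ℚ => (r : ℝ))) *ᵥ (fun i => (x i : ℝ))) := by
  classical
  let L : Fin n → ℝ := fun i => (ℓ i : ℝ)
  let A : Matrix (Fin n) (Fin n) ℝ := B.map (fun r : ℚ => (r : ℝ))
  let f : (Fin n → ℝ) → ℝ := fun y => L ⬝ᵥ y / Real.sqrt (y ⬝ᵥ A *ᵥ y)
  have hsimpl : ∀ y ∈ stdSimplex ℝ (Fin n), (∀ i, 0 ≤ y i) ∧ y ≠ 0 := fun y hy => ⟨hy.1, fun h => by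
    have := hy.2; simp [h] at this⟩
  have hscale : ∀ (c : ℝ), 0 < c → ∀ y, f (c • y) = f y := by
    intro c hc y
    simp only [f, dotProduct_smul, mulVec_smul, smul_dotProduct, smul_eq_mul]
    rw [← mul_assoc, Real.sqrt_mul (mul_self_nonneg c), Real.sqrt_mul_self hc.le, mul_div_mul_left _ _ hc.ne']
  have hnorm : ∀ y : Fin n → ℝ, (∀ i, 0 ≤ y i) → y ≠ 0 → 0 < ∑ i, y i ∧ (∑ i, y i)⁻¹ • y ∈ stdSimplex ℝ (Fin n) := by
    intro y hy hy0
    have hs : 0 < ∑ i, y i := by
      obtain ⟨i, hi⟩ := Function.ne_iff.1 hy0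
      exact Finset.sum_pos' (fun i _ => hy i) ⟨i, Finset.mem_univ i, lt_of_le_of_ne (hy i) (Ne.symm hi)⟩
    refine ⟨hs, fun i => ?_, ?_⟩
    · simp only [Pi.smul_apply, smul_eq_mul]; exact mul_nonneg (inv_nonneg.2 hs.le) (hy i)
    · simp only [Pi.smul_apply, smul_eq_mul, ← Finset.mul_sum]; exact inv_mul_cancel₀ hs.ne'
  have hcont : ContinuousOn f (stdSimplex ℝ (Fin n)) := by
    refine ContinuousOn.div ?_ ?_ fun y hy => ?_
    · exact (continuous_finsetSum _ fun i _ => (continuous_apply i).const_smul (L i)).continuousOn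
    · refine (Real.continuous_sqrt.comp ?_).continuousOn
      simp only [dotProduct, mulVec]
      fun_prop
    · exact (Real.sqrt_pos.2 (hpos y (hsimpl y hy).1 (hsimpl y hy).2)).ne'
  obtain ⟨y0, hy0, hL0⟩ := hℓ
  have hy00 : y0 ≠ 0 := fun h => by rw [h] at hL0; simp at hL0
  obtain ⟨ym, hym, hmax'⟩ := (isCompact_stdSimplex ℝ (Fin n)).exists_isMaxOn ⟨_, (hnorm y0 hy0 hy00).2⟩ hcont
  have hmax : ∀ y, (∀ i, 0 ≤ y i) → y ≠ 0 → f y ≤ f ym := fun y hy hne => by
    rw [← hscale _ (inv_pos.2 (hnorm y hy hne).1) y]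
    exact hmax' (hnorm y hy hne).2
  have hμ : 0 < f ym := lt_of_lt_of_le (div_pos hL0 (Real.sqrt_pos.2 (hpos y0 hy0 hy00))) (hmax y0 hy0 hy00)
  have hex : ∃ m, ∃ y : Fin n → ℝ, (∀ i, 0 ≤ y i) ∧ y ≠ 0 ∧ f y = f ym ∧ (supp y).card = m :=
    ⟨_, ym, (hsimpl ym hym).1, (hsimpl ym hym).2, rfl, rfl⟩
  obtain ⟨y, hy, hyne, hfy, hcard⟩ := Nat.find_spec hex
  have hminS : ∀ w : Fin n → ℝ, (∀ i, 0 ≤ w i) → w ≠ 0 → f w = f ym → ¬ (supp w).card < (supp y).card :=
    fun w h1 h2 h3 h4 => Nat.find_min hex (hcard ▸ h4) ⟨w, h1, h2, h3, rfl⟩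
  set S := supp y with hSdef
  have hS : ∀ i, i ∈ S ↔ y i ≠ 0 := fun i => by simp [S, supp]
  set Q := y ⬝ᵥ A *ᵥ y with hQdef
  set Lv := L ⬝ᵥ y with hLdef
  have hQ : 0 < Q := hpos y hy hyne
  have hLv : 0 < Lv := by
    have : 0 < f y := hfy ▸ hμ
    by_contra h
    exact absurd this (not_lt.2 (div_nonpos_of_nonpos_of_nonneg (not_lt.1 h) (Real.sqrt_nonneg _)))
  have hcrit : ∀ v : Fin n → ℝ, (∀ i, i ∉ S → v i = 0) → 2 * (L ⬝ᵥ v) * Q = Lv * (y ⬝ᵥ (A + Aᵀ) *ᵥ v) := by
    intro v hv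
    set a := L ⬝ᵥ v
    set b := y ⬝ᵥ (A + Aᵀ) *ᵥ v
    set c := v ⬝ᵥ A *ᵥ v
    have hev : ∀ᶠ t in nhds (0 : ℝ), (∀ i, 0 ≤ (y + t • v) i) ∧ 0 < Lv + t * a := by
      refine Filter.Eventually.and (Filter.eventually_all.2 fun i => ?_) ?_
      · by_cases hi : i ∈ S
        · have hp : 0 < y i := lt_of_le_of_ne (hy i) (Ne.symm ((hS i).1 hi))
          have hc : Filter.Tendsto (fun t : ℝ => y i + t * v i) (nhds 0) (nhds (y i)) := by
            have : Continuous fun t : ℝ => y i + t * v i := by fun_prop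
            simpa using this.tendsto 0
          exact (hc.eventually (eventually_gt_nhds hp)).mono fun t ht => by simpa using ht.le
        · exact Filter.Eventually.of_forall fun t => by simp [hv i hi, hy i]
      · have hc : Filter.Tendsto (fun t : ℝ => Lv + t * a) (nhds 0) (nhds Lv) := by
          have : Continuous fun t : ℝ => Lv + t * a := by fun_prop
          simpa using this.tendsto 0
        exact hc.eventually (eventually_gt_nhds hLv)
    have hquad : ∀ᶠ t in nhds (0 : ℝ), t * (2 * Lv * a * Q - Lv ^ 2 * b) + t ^ 2 * (a ^ 2 * Q - Lv ^ 2 * c) ≤ 0 := by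
      refine hev.mono fun t ⟨h1, h2⟩ => ?_
      have hwne : y + t • v ≠ 0 := fun h => by
        have hz := congrArg (fun w => L ⬝ᵥ w) h
        simp [dotProduct_add, dotProduct_smul] at hz
        change Lv + t * a = 0 at hz
        linarith
      have hle := hmax _ h1 hwne
      rw [← hfy] at hle
      have hQ' : 0 < (y + t • v) ⬝ᵥ A *ᵥ (y + t • v) := hpos _ h1 hwne
      simp only [f] at hle
      rw [dotProduct_add, dotProduct_smul, smul_eq_mul] at hle
      change (Lv + t * a) / _ ≤ Lv / _ at hle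
      rw [div_le_div_iff₀ (Real.sqrt_pos.2 hQ') (Real.sqrt_pos.2 hQ)] at hle
      have hsq := mul_self_le_mul_self (mul_nonneg h2.le (Real.sqrt_nonneg _)) hle
      have e1 := Real.mul_self_sqrt hQ.le
      have e2 := Real.mul_self_sqrt hQ'.le
      have e3 := expand A y v t
      change _ = Q + t * b + t ^ 2 * c at e3
      rw [mul_mul_mul_comm, e1, mul_mul_mul_comm, e2, e3] at hsq
      nlinarith [hsq]
    set l := 2 * Lv * a * Q - Lv ^ 2 * b with hldef
    set m := a ^ 2 * Q - Lv ^ 2 * c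
    suffices l = 0 by
      have h2 : Lv * (2 * a * Q - Lv * b) = 0 := by rw [← this, hldef]; ring
      rcases mul_eq_zero.1 h2 with h3 | h3
      · linarith
      · linarith
    obtain ⟨ε, hε, hball⟩ := Metric.eventually_nhds_iff.1 hquad
    by_contra hl
    let s := min (ε / 2) (|l| / (2 * (|m| + 1)))
    have hs : 0 < s := lt_min (by linarith) (div_pos (abs_pos.2 hl) (by positivity))
    have hs1 : s ≤ ε / 2 := min_le_left _ _
    have hs2 : s * (2 * (|m| + 1)) ≤ |l| := (le_div_iff₀ (by positivity)).1 (min_le_right _ _)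
    have hm : -|m| ≤ m := neg_abs_le m
    have hh : ∀ t : ℝ, |t| = s → t * l = s * |l| → False := fun t ht htl => by
      have h1 := hball (y := t) (by rw [Real.dist_eq, sub_zero, ht]; linarith)
      rw [htl, ← sq_abs t, ht] at h1
      nlinarith [mul_le_mul_of_nonneg_left hm (sq_nonneg s), mul_le_mul_of_nonneg_left hs2 hs.le, mul_pos hs (abs_pos.2 hl), abs_nonneg m]
    rcases lt_or_gt_of_ne hl with h | h
    · exact hh (-s) (by rw [abs_neg, abs_of_pos hs]) (by rw [abs_of_neg h]; ring)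
    · exact hh s (abs_of_pos hs) (by rw [abs_of_pos h])
  have hker : ∀ v : Fin n → ℝ, (∀ i, i ∉ S → v i = 0) → (∀ i ∈ S, ((A + Aᵀ) *ᵥ v) i = 0) → v = 0 := by
    intro v hv hk
    by_contra hne
    wlog hneg : ∃ i, v i < 0 generalizing v
    · push Not at hneg
      refine this (-v) (fun i hi => by simp [hv i hi]) (fun i hi => by simp [mulVec_neg, hk i hi]) (by simpa using hne) ?_
      obtain ⟨i, hi⟩ := Function.ne_iff.1 hne
      exact ⟨i, by simp; exact lt_of_le_of_ne (hneg i) (Ne.symm hi)⟩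
    obtain ⟨t, ht1, ht2⟩ := exists_step hy hS hv hneg
    have hy' : ∀ i, i ∉ S → y i = 0 := fun i hi => not_ne_iff.1 fun h => hi ((hS i).2 h)
    have hb : y ⬝ᵥ (A + Aᵀ) *ᵥ v = 0 := by
      rw [dot_supp hy']; exact Finset.sum_eq_zero fun i _ => by rw [hk i.1 i.2, mul_zero]
    have hc : v ⬝ᵥ A *ᵥ v = 0 := by
      have := self_eq A v
      rw [dot_supp hv, Finset.sum_eq_zero fun (i : S) _ => by rw [hk i.1 i.2, mul_zero]] at this
      linarith
    have ha : L ⬝ᵥ v = 0 := by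
      have := hcrit v hv
      rw [hb, mul_zero] at this
      rcases mul_eq_zero.1 this with h | h
      · linarith
      · exact absurd h hQ.ne'
    have hQw : (y + t • v) ⬝ᵥ A *ᵥ (y + t • v) = Q := by rw [expand, hb, hc]; ring
    refine hminS _ ht1 (fun h => ?_) ?_ ht2
    · rw [h] at hQw; simp at hQw; linarith
    · show L ⬝ᵥ (y + t • v) / Real.sqrt ((y + t • v) ⬝ᵥ A *ᵥ (y + t • v)) = f ym
      rw [hQw, dotProduct_add, dotProduct_smul, ha, smul_zero, add_zero, ← hfy]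
  let Mq : Matrix S S ℚ := fun i j => B i.1 j.1 + B j.1 i.1
  let ext : (S → ℝ) → Fin n → ℝ := fun u i => if h : i ∈ S then u ⟨i, h⟩ else 0
  have hext : ∀ u i, i ∉ S → ext u i = 0 := fun u i h => dif_neg h
  have hmul : ∀ u (i : S), ((A + Aᵀ) *ᵥ ext u) i = (Mq.map (fun r : ℚ => (r : ℝ)) *ᵥ u) i := by
    intro u i
    show (fun j => (A + Aᵀ) i.1 j) ⬝ᵥ ext u = _
    rw [dotProduct_comm, dot_supp (hext u)]
    simp only [mulVec, dotProduct, A, Mq, Matrix.map_apply, Matrix.add_apply, Matrix.transpose_apply, ext]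
    refine Finset.sum_congr rfl fun j _ => ?_
    rw [dif_pos j.2]
    simp only [Matrix.map, Matrix.of_apply]
    push_cast
    ring
  have hinjR : Function.Injective (Mq.map (fun r : ℚ => (r : ℝ))).mulVec := by
    intro u u' huu
    have h := hker (ext (u - u')) (hext _) fun i hi => by
      rw [hmul _ ⟨i, hi⟩, mulVec_sub, huu, sub_self]; rfl
    funext j
    have := congrFun h j.1
    simp only [ext, dif_pos j.2, Pi.sub_apply, Pi.zero_apply] at this
    linarith
  have hdet : IsUnit Mq.det := by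
    have h := (Matrix.isUnit_iff_isUnit_det _).1 (Matrix.mulVec_injective_iff_isUnit.1 hinjR)
    rw [show Mq.map (fun r : ℚ => (r : ℝ)) = (Rat.castHom ℝ).mapMatrix Mq from rfl, ← RingHom.map_det] at h
    exact isUnit_iff_ne_zero.2 fun h0 => h.ne_zero (by rw [h0, map_zero])
  let x : S → ℚ := Mq⁻¹ *ᵥ (fun i => 2 * ℓ i.1)
  have hx : Mq *ᵥ x = fun i => 2 * ℓ i.1 := by
    simp only [x, mulVec_mulVec, mul_nonsing_inv _ hdet, one_mulVec]
  have hz : (fun j : S => (x j : ℝ)) = fun j : S => Lv / Q * y j.1 := by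
    refine hinjR ?_
    funext i
    have h1 : (Mq.map (fun r : ℚ => (r : ℝ)) *ᵥ fun j : S => (x j : ℝ)) i = ((Mq *ᵥ x) i : ℝ) := by
      simp only [mulVec, dotProduct, Matrix.map_apply]; push_cast; rfl
    have h2 : ext (fun j : S => Lv / Q * y j.1) = (Lv / Q) • y := by
      funext m
      simp only [ext, Pi.smul_apply, smul_eq_mul]
      split_ifs with hm
      · rfl
      · rw [not_ne_iff.1 fun h => hm ((hS m).2 h), mul_zero]
    have h3 := hcrit (Pi.single i.1 1) fun m hm => Pi.single_eq_of_ne (fun h : m = i.1 => hm (by rw [h]; exact i.2)) 1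
    rw [dotProduct_single_one, bsymm, single_one_dotProduct] at h3
    rw [h1, hx, ← hmul, h2, mulVec_smul, Pi.smul_apply, smul_eq_mul]
    show ((2 * ℓ i.1 : ℚ) : ℝ) = _
    field_simp
    push_cast
    linarith [h3]
  let xx : Fin n → ℚ := fun i => if h : i ∈ S then x ⟨i, h⟩ else 0
  have hxx : (fun i => (xx i : ℝ)) = (Lv / Q) • y := by
    funext i
    simp only [xx, Pi.smul_apply, smul_eq_mul]
    split_ifs with h
    · exact congrFun hz ⟨i, h⟩
    · rw [Rat.cast_zero, not_ne_iff.1 fun h' => h ((hS i).2 h'), mul_zero]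
  have hc0 : 0 < Lv / Q := div_pos hLv hQ
  refine ⟨xx, fun i => ?_, fun h => hyne ?_, fun w hw hwne => ?_⟩
  · have := congrFun hxx i
    simp only [Pi.smul_apply, smul_eq_mul] at this
    have h2 : (0 : ℝ) ≤ (xx i : ℝ) := this ▸ mul_nonneg hc0.le (hy i)
    exact_mod_cast h2
  · rw [h] at hxx
    funext i
    have := congrFun hxx i
    simp only [Pi.zero_apply, Rat.cast_zero, Pi.smul_apply, smul_eq_mul] at this
    exact (mul_eq_zero.1 this.symm).resolve_left hc0.ne'
  · rw [hxx]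
    exact (hmax w hw hwne).trans_eq (by rw [← hfy]; exact (hscale _ hc0 y).symm)

end Groth.Agent.S19138
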