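import Groth.Statements.S19141
import Groth.Agent.MultImage.Glue
-- import your own Groth.Agent.* helpers here

set_option autoImplicit false
open CategoryTheory MonoidalCategory CartesianMonoidalCategory MonObj GrpObj AlgebraicGeometry
universe u
open SGA3x

namespace Groth.Agent.S19141

/-- Let f : H ⟶ G be a homomorphism of S-group schemes, with H of multiplicative type (of arbitrary
type) and G separated and of finite presentation over S. Then there is a closed subgroup scheme Q of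
G, of multiplicative type, such that f factors through a faithfully flat (flat and surjective)
homomorphism f' : H ⟶ Q; and the pair (Q, f') is unique: for any other such factorization f = f'' ≫
j'' through a closed subgroup Q'' of multiplicative type there is an isomorphism Q ≅ Q'' over S
carrying j to j'' and f' to f''. (Q is called the image of f.) -/
theorem result {S : Scheme.{u}} (H G : Over S) [GrpObj H] [GrpObj G]
    (hH : TwC.Locally S TwC.Topology.fpqc (fun S' g => ∃ (M : Type) (_ : AddCommGroup M), Nonempty (Grp.mk (Red.bc g H) ≅ Grp.mk (Red.DS S' M))))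
    [IsSeparated G.hom] [QuasiCompact G.hom] [LocallyOfFinitePresentation G.hom] (f : H ⟶ G) [IsMonHom f] :
    (∃ (Q : Over S) (_ : GrpObj Q) (j : Q ⟶ G) (_ : IsMonHom j) (f' : H ⟶ Q) (_ : IsMonHom f'),
      IsClosedImmersion j.left ∧ TwC.Locally S TwC.Topology.fpqc (fun S' g => ∃ (M : Type) (_ : AddCommGroup M), Nonempty (Grp.mk (Red.bc g Q) ≅ Grp.mk (Red.DS S' M))) ∧
      Flat f'.left ∧ Surjective f'.left ∧ f' ≫ j = f) ∧
    (∀ (Q₁ Q₂ : Over S) [GrpObj Q₁] [GrpObj Q₂] (j₁ : Q₁ ⟶ G) (j₂ : Q₂ ⟶ G) [IsMonHom j₁] [IsMonHom j₂]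
      (f₁ : H ⟶ Q₁) (f₂ : H ⟶ Q₂) [IsMonHom f₁] [IsMonHom f₂],
      IsClosedImmersion j₁.left → IsClosedImmersion j₂.left →
      TwC.Locally S TwC.Topology.fpqc (fun S' g => ∃ (M : Type) (_ : AddCommGroup M), Nonempty (Grp.mk (Red.bc g Q₁) ≅ Grp.mk (Red.DS S' M))) →
      TwC.Locally S TwC.Topology.fpqc (fun S' g => ∃ (M : Type) (_ : AddCommGroup M), Nonempty (Grp.mk (Red.bc g Q₂) ≅ Grp.mk (Red.DS S' M))) →
      Flat f₁.left → Surjective f₁.left → f₁ ≫ j₁ = f →
      Flat f₂.left → Surjective f₂.left → f₂ ≫ j₂ = f →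
      ∃ e : Q₁ ≅ Q₂, e.hom ≫ j₂ = j₁ ∧ f₁ ≫ e.hom = f₂) := by
  have hH' : Groth.Agent.WeilClosedLib.IsMultTypeLoc H := hH
  haveI : IsAffineHom H.hom := Groth.Agent.FixedSmooth.isAffineHom_of_isMultTypeLoc hH'
  refine ⟨?_, ?_⟩
  · obtain ⟨S', π, hfl, hsu, hqc, hloc⟩ := hH'
    haveI := hfl
    haveI := hsu
    have hx : ∀ x : S', ∃ (U : S'.Opens) (M : Type) (_ : AddCommGroup M), x ∈ U ∧
        ∃ P : Groth.Agent.MultImage.ImPiece f (U.ι ≫ π), Nonempty (P.Q ≅ Grp.mk (Red.DS U.toScheme M)) := fun x => by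
      obtain ⟨U, hxU, M, iM, ⟨e⟩⟩ := hloc x
      obtain ⟨W, N, hW, _, -, hP⟩ := Groth.Agent.MultImage.exists_piece_nhd f (U.ι ≫ π) e ⟨x, hxU⟩
      have hle : U.ι ''ᵁ W ≤ U := by
        rintro _ ⟨y, -, rfl⟩
        exact y.2
      refine ⟨U.ι ''ᵁ W, N, inferInstance, ⟨⟨x, hxU⟩, hW, rfl⟩, hP (S'.homOfLE hle) _ (by simp) ?_⟩
      rintro _ ⟨y, rfl⟩
      obtain ⟨y', hy', e'⟩ := y.2
      have : (S'.homOfLE hle y) = y' := U.ι.isOpenEmbedding.injective (by
        refine Eq.trans ?_ e'.symm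
        exact congrArg (fun k => k y) (Scheme.homOfLE_ι S' hle))
      rw [this]
      exact hy'
    choose U M iM hU P eP using hx
    obtain ⟨Q, iQ, j, hj, f', hf', hcl, hflat, hsurj, hfac, hiso⟩ :=
      Groth.Agent.MultImage.exists_image_of_pieces π hqc U hU P
    exact ⟨Q, iQ, j, hj, f', hf', hcl, ⟨S', π, hfl, hsu, hqc, fun x => ⟨U x, hU x, M x, iM x,
      ⟨(hiso x).some ≪≫ (eP x).some⟩⟩⟩, hflat, hsurj, hfac⟩
  · intro Q₁ Q₂ _ _ j₁ j₂ _ _ f₁ f₂ _ _ hc₁ hc₂ h₁ h₂ hf₁ hs₁ hfac₁ hf₂ hs₂ hfac₂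
    haveI : IsAffineHom Q₁.hom := Groth.Agent.FixedSmooth.isAffineHom_of_isMultTypeLoc h₁
    haveI : IsAffineHom Q₂.hom := Groth.Agent.FixedSmooth.isAffineHom_of_isMultTypeLoc h₂
    haveI : QuasiCompact (f₁.left ≫ Q₁.hom) := by rw [Over.w f₁]; infer_instance
    haveI : QuasiCompact (f₂.left ≫ Q₂.hom) := by rw [Over.w f₂]; infer_instance
    haveI : QuasiCompact f₁.left := QuasiCompact.of_comp f₁.left Q₁.hom
    haveI : QuasiCompact f₂.left := QuasiCompact.of_comp f₂.left Q₂.hom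
    haveI : Groth.Agent.SchDesc.IsFpqc f₁.left := @Groth.Agent.SchDesc.IsFpqc.of_quasiCompact _ _ _ hf₁ hs₁ inferInstance
    haveI : Groth.Agent.SchDesc.IsFpqc f₂.left := @Groth.Agent.SchDesc.IsFpqc.of_quasiCompact _ _ _ hf₂ hs₂ inferInstance
    haveI : Mono j₁.left := by haveI := hc₁; infer_instance
    haveI : Mono j₂.left := by haveI := hc₂; infer_instance
    haveI : Mono j₁ := Over.mono_of_mono_left _
    haveI : Mono j₂ := Over.mono_of_mono_left _
    haveI : Epi f₁ := Groth.Agent.GrpQuotLib.epi_of_isFpqc _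
    haveI : Epi f₂ := Groth.Agent.GrpQuotLib.epi_of_isFpqc _
    obtain ⟨a, ha⟩ := Groth.Agent.GrpQuotLib.exists_desc f₁ f₂ fun T x y e => by
      rw [← cancel_mono j₂, Category.assoc, Category.assoc, hfac₂, ← hfac₁, reassoc_of% e]
    obtain ⟨b, hb⟩ := Groth.Agent.GrpQuotLib.exists_desc f₂ f₁ fun T x y e => by
      rw [← cancel_mono j₁, Category.assoc, Category.assoc, hfac₁, ← hfac₂, reassoc_of% e]
    refine ⟨⟨a, b, ?_, ?_⟩, ?_, ha⟩
    · rw [← cancel_epi f₁, reassoc_of% ha, hb, Category.comp_id]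
    · rw [← cancel_epi f₂, reassoc_of% hb, ha, Category.comp_id]
    · rw [← cancel_epi f₁, reassoc_of% ha, hfac₂, hfac₁]

end Groth.Agent.S19141
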