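import Mathlib
import Groth.Statements.S19157

set_option autoImplicit false
open scoped TensorProduct
universe u v w
open FiltMod

namespace Groth.Agent.S19157

section

variable {Γ : Type w} [AddCommGroup Γ] [LinearOrder Γ] [IsOrderedAddMonoid Γ]
    {R : Type u} [CommRing R] {M : Type v} [AddCommGroup M] [Module R M]

/-- The scalar contraction of pure tensors against a family of functionals. -/
noncomputable def contract {n : ℕ} (φ : Fin n → Module.Dual R M) :
    PiTensorProduct R (fun _ : Fin n => M) →ₗ[R] R :=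
  PiTensorProduct.lift ((MultilinearMap.mkPiAlgebra R (Fin n) R).compLinearMap φ)

theorem contract_tprod {n : ℕ} (φ : Fin n → Module.Dual R M) (v : Fin n → M) :
    contract φ (PiTensorProduct.tprod R v) = ∏ i, φ i (v i) := by
  simp [contract]

/-- The tensor filtration. -/
noncomputable def T (F : Γ → Submodule R M) (n : ℕ) (γ : Γ) :
    Submodule R (PiTensorProduct R (fun _ : Fin n => M)) :=
  ⨆ c : {c : Fin n → Γ // ∑ i, c i = γ},
    LinearMap.range (PiTensorProduct.map (R := R) (fun i => (F (c.1 i)).subtype))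

theorem tprod_mem_T {F : Γ → Submodule R M} {n : ℕ} (c : Fin n → Γ) (v : Fin n → M)
    (hv : ∀ i, v i ∈ F (c i)) : PiTensorProduct.tprod R v ∈ T F n (∑ i, c i) :=
  Submodule.mem_iSup_of_mem (⟨c, rfl⟩ : {d : Fin n → Γ // ∑ i, d i = ∑ i, c i})
    ⟨PiTensorProduct.tprod R (fun i => (⟨v i, hv i⟩ : F (c i))), by simp⟩

theorem contract_T_mem {F : Γ → Submodule R M} {n : ℕ} {γ : Γ} (φ : Fin n → Module.Dual R M)
    (J : Ideal R)
    (h : ∀ c : Fin n → Γ, ∑ i, c i = γ → ∃ i, ∀ x ∈ F (c i), φ i x ∈ J)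
    {t : PiTensorProduct R (fun _ : Fin n => M)} (ht : t ∈ T F n γ) : contract φ t ∈ J := by
  have hle : T F n γ ≤ Submodule.comap (contract φ) J := by
    refine iSup_le fun c => ?_
    rw [PiTensorProduct.map_range_eq_span_tprod, Submodule.span_le]
    rintro _ ⟨m, rfl⟩
    obtain ⟨i, hi⟩ := h c.1 c.2
    show contract φ (PiTensorProduct.tprod R _) ∈ J
    rw [contract_tprod, ← Finset.mul_prod_erase _ _ (Finset.mem_univ i)]
    exact J.mul_mem_right _ (hi _ (m i).2)
  exact hle ht

theorem le_of_T_eq [Module.Finite R M] [Module.Projective R M]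
    (F₁ F₂ : Γ → Submodule R M) (hF₁ : Antitone F₁)
    (h₂ : ∃ G : Γ → Submodule R M, DirectSum.IsInternal G ∧ ∀ γ, F₂ γ = ⨆ η ∈ Set.Ici γ, G η)
    (n : ℕ) (h : ∀ γ, T F₁ (n + 1) γ = T F₂ (n + 1) γ) (γ : Γ) : F₁ γ ≤ F₂ γ := by
  classical
  obtain ⟨G, hG, hF⟩ := h₂
  let e := (LinearEquiv.ofBijective (DirectSum.coeLinearMap G) hG).symm
  let π : Γ → M →ₗ[R] M := fun δ =>
    (G δ).subtype ∘ₗ DirectSum.component R Γ (fun i => G i) δ ∘ₗ e.toLinearMap
  have hπ : ∀ δ, ∀ g ∈ G δ, π δ g = g := fun δ g hg =>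
    congrArg Subtype.val (hG.ofBijective_coeLinearMap_of_mem hg)
  have hπ' : ∀ δ η, η ≠ δ → ∀ g ∈ G η, π δ g = 0 := fun δ η hne g hg =>
    congrArg Subtype.val (hG.ofBijective_coeLinearMap_of_mem_ne hne hg)
  have hkill : ∀ δ ν, δ < ν → F₂ ν ≤ LinearMap.ker (π δ) := by
    intro δ ν hlt
    rw [hF]
    exact iSup₂_le fun η hη g hg => hπ' δ η (hlt.trans_le hη).ne' g hg
  have htop : ⨆ δ, G δ = ⊤ := hG.submodule_iSup_eq_top
  intro x hx
  let I : Ideal R := (F₂ γ).colon {x}
  suffices hI : I = ⊤ by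
    have h1 : (1 : R) ∈ I := hI ▸ Submodule.mem_top
    simpa [I, Submodule.mem_colon_singleton] using h1
  by_contra hne
  obtain ⟨m, hm, hIm⟩ := Ideal.exists_le_maximal I hne
  -- the key divisibility
  have hD : ∀ μ : Γ, ∀ e' ∈ F₁ μ, ∀ φ : Module.Dual R M,
      (∀ ν, μ < ν → ∀ y ∈ F₂ ν, φ y = 0) → φ e' ∈ m := by
    intro μ e' he' φ hφ
    refine hm.isPrime.mem_of_pow_mem n (hIm ?_)
    rw [Submodule.mem_colon_singleton]
    have hG2 : ∀ δ, δ < γ → π δ (φ e' ^ n • x) = 0 := by
      intro δ hδ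
      rw [← Module.forall_dual_apply_eq_zero_iff R]
      intro ψ
      let ψ' : Module.Dual R M := ψ ∘ₗ π δ
      have hψ : ∀ y ∈ F₂ γ, ψ' y = 0 := fun y hy => by
        show ψ (π δ y) = 0
        rw [LinearMap.mem_ker.mp (hkill δ γ hδ hy), map_zero]
      have hmem : PiTensorProduct.tprod R (Fin.cons x (fun _ => e') : Fin (n + 1) → M) ∈
          T F₁ (n + 1) (∑ i, (Fin.cons γ (fun _ => μ) : Fin (n + 1) → Γ) i) := by
        refine tprod_mem_T _ _ fun i => ?_
        refine Fin.cases ?_ (fun j => ?_) i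
        · simpa using hx
        · simpa using he'
      rw [h] at hmem
      have h0 := contract_T_mem (Fin.cons ψ' (fun _ => φ)) ⊥ (fun c hc => by
        by_contra hall
        push Not at hall
        have hc0 : c 0 < γ := by
          by_contra hge
          push Not at hge
          obtain ⟨y, hy, hne⟩ := hall 0
          refine hne (Ideal.mem_bot.mpr ?_)
          simp only [Fin.cons_zero]
          refine hψ y ?_
          rw [hF] at hy ⊢
          have hle : (⨆ η ∈ Set.Ici (c 0), G η) ≤ ⨆ η ∈ Set.Ici γ, G η :=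
            biSup_mono fun η (hη : η ∈ Set.Ici (c 0)) => le_trans hge hη
          exact hle hy
        have hcj : ∀ j : Fin n, c j.succ ≤ μ := fun j => by
          by_contra hgt
          push Not at hgt
          obtain ⟨y, hy, hne⟩ := hall j.succ
          exact hne (Ideal.mem_bot.mpr (by simpa using hφ _ hgt y hy))
        rw [Fin.sum_univ_succ, Fin.sum_univ_succ] at hc
        simp only [Fin.cons_zero, Fin.cons_succ] at hc
        exact (add_lt_add_of_lt_of_le hc0 (Finset.sum_le_sum fun j _ => hcj j)).ne hc) hmem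
      rw [Ideal.mem_bot, contract_tprod, Fin.prod_univ_succ] at h0
      simp only [Fin.cons_zero, Fin.cons_succ, Finset.prod_const, Finset.card_univ,
        Fintype.card_fin] at h0
      rw [map_smul, map_smul, smul_eq_mul, mul_comm]
      exact h0
    -- assemble
    obtain ⟨f, hf⟩ : ∃ f, DirectSum.coeLinearMap G f = φ e' ^ n • x := hG.2 _
    rw [← hf]
    have hfδ : ∀ δ, δ < γ → f δ = 0 := fun δ hδ => by
      have := hG2 δ hδ
      rw [← hf] at this
      have he : e (DirectSum.coeLinearMap G f) = f := LinearEquiv.symm_apply_apply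
        (LinearEquiv.ofBijective (DirectSum.coeLinearMap G) hG) f
      simp only [π, LinearMap.comp_apply, LinearEquiv.coe_coe, he] at this
      exact Subtype.ext this
    rw [DirectSum.coeLinearMap_eq_dfinsuppSum, hF]
    refine Submodule.sum_mem _ fun δ hδ => ?_
    rcases lt_or_ge δ γ with hlt | hge
    · exact absurd (hfδ δ hlt) (DFinsupp.mem_support_iff.mp hδ)
    · exact Submodule.mem_iSup_of_mem δ (Submodule.mem_iSup_of_mem hge (f δ).2)
  -- all functionals land in `m`
  have hall : ∀ (φ : Module.Dual R M) (y : M), φ y ∈ m := by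
    intro φ y
    have hy : y ∈ ⨆ δ, G δ := htop ▸ Submodule.mem_top
    refine (show ⨆ δ, G δ ≤ Submodule.comap φ m from iSup_le fun δ g hg => ?_) hy
    refine hm.isPrime.mem_of_pow_mem (n + 1) ?_
    let φ' : Module.Dual R M := φ ∘ₗ π δ
    have hg2 : g ∈ F₂ δ := by
      rw [hF]; exact Submodule.mem_iSup_of_mem δ (Submodule.mem_iSup_of_mem (Set.self_mem_Ici) hg)
    have hmem := tprod_mem_T (F := F₂) (fun _ : Fin (n + 1) => δ) (fun _ => g) (fun _ => hg2)
    rw [← h] at hmem
    have h0 := contract_T_mem (fun _ => φ') m (fun c hc => by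
      by_contra hall
      push Not at hall
      have : ∀ i, c i < δ := fun i => by
        by_contra hge
        push Not at hge
        obtain ⟨y, hy, hne⟩ := hall i
        refine hne (hD δ y (hF₁ hge hy) φ' fun ν hν y hy => ?_)
        show φ (π δ y) = 0
        rw [LinearMap.mem_ker.mp (hkill δ ν hν hy), map_zero]
      exact (Finset.sum_lt_sum_of_nonempty (Finset.univ_nonempty) fun i _ => this i).ne hc) hmem
    rw [contract_tprod] at h0
    simpa [φ', hπ δ g hg] using h0
  -- Nakayama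
  obtain ⟨d, s, t, -, -, hst⟩ := Module.Finite.exists_comp_eq_id_of_projective R M
  have hle : (⊤ : Submodule R M) ≤ m • ⊤ := by
    intro y _
    have : y = ∑ i, (t y i) • s (Pi.single i 1) := by
      conv_lhs => rw [← LinearMap.id_apply (R := R) y, ← hst, LinearMap.comp_apply,
        pi_eq_sum_univ' (t y), map_sum]
      simp [Pi.single_apply]
    rw [this]
    exact Submodule.sum_mem _ fun i _ => Submodule.smul_mem_smul
      (hall (LinearMap.proj i ∘ₗ t) y) trivial
  obtain ⟨r, hr1, hr⟩ := Submodule.exists_sub_one_mem_and_smul_eq_zero_of_fg_of_le_smul m ⊤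
    Module.Finite.fg_top hle
  have hrI : r ∈ I := by
    rw [Submodule.mem_colon_singleton, hr x trivial]
    exact zero_mem _
  exact hm.ne_top (m.eq_top_iff_one.mpr (by simpa using m.sub_mem (hIm hrI) hr1))

end


/-- In affine form, let Γ be a non-trivial totally ordered commutative group, R a commutative ring, M a
finitely generated projective R-module, k ≥ 1, and F₁, F₂ two Γ-filtrations of M each admitting a
splitting (a grading M = ⊕_γ G_γ by submodules with F^γ = Σ_{η ≥ γ} G_η). If the filtrations they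
induce on the k-th tensor power M^{⊗k} coincide, i.e. for every γ the sum over γ₁ + ⋯ + γ_k = γ of
the images of F₁^{γ₁} ⊗ ⋯ ⊗ F₁^{γ_k} in M^{⊗k} equals the corresponding sum for F₂, then F₁ = F₂.
(The source states this for Γ-filtrations of a finite locally free sheaf on a scheme, which split
Zariski-locally; this is the affine split case to which it reduces.) -/
theorem result
    {Γ : Type w} [AddCommGroup Γ] [LinearOrder Γ] [IsOrderedAddMonoid Γ] [Nontrivial Γ]
    {R : Type u} [CommRing R] {M : Type v} [AddCommGroup M] [Module R M] [Module.Finite R M] [Module.Projective R M]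
    (F₁ F₂ : Γ → Submodule R M)
    (h₁ : ∃ G : Γ → Submodule R M, DirectSum.IsInternal G ∧ ∀ γ, F₁ γ = ⨆ η ∈ Set.Ici γ, G η)
    (h₂ : ∃ G : Γ → Submodule R M, DirectSum.IsInternal G ∧ ∀ γ, F₂ γ = ⨆ η ∈ Set.Ici γ, G η)
    (k : ℕ) (hk : 1 ≤ k)
    (h : ∀ γ : Γ,
      (⨆ c : {c : Fin k → Γ // ∑ i, c i = γ}, LinearMap.range (PiTensorProduct.map (R := R) (fun i => (F₁ (c.1 i)).subtype))) =
      (⨆ c : {c : Fin k → Γ // ∑ i, c i = γ}, LinearMap.range (PiTensorProduct.map (R := R) (fun i => (F₂ (c.1 i)).subtype)))) :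
    F₁ = F₂ := by
  obtain ⟨n, rfl⟩ := Nat.exists_eq_add_of_le' hk
  have anti : ∀ F : Γ → Submodule R M,
      (∃ G : Γ → Submodule R M, DirectSum.IsInternal G ∧ ∀ γ, F γ = ⨆ η ∈ Set.Ici γ, G η) →
      Antitone F := by
    rintro F ⟨G, -, hF⟩ a b hab
    rw [hF, hF]
    exact biSup_mono fun η (hη : η ∈ Set.Ici b) => le_trans hab hη
  exact funext fun γ => le_antisymm (le_of_T_eq F₁ F₂ (anti _ h₁) h₂ n h γ)
    (le_of_T_eq F₂ F₁ (anti _ h₂) h₁ n (fun γ => (h γ).symm) γ)

end Groth.Agent.S19157
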