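import Mathlib
import Groth.Agent.S19157
import Groth.Statements.S19148

set_option autoImplicit false
open scoped TensorProduct
universe u v
open FiltMod

namespace Groth.Agent.S19148

section

open Groth.Agent.S19157 (contract contract_tprod)

variable {R : Type u} [CommRing R] {M : Type v} [AddCommGroup M] [Module R M]

theorem contract_range_mem {n : ℕ} (F : Submodule R M) (φ : Fin n → Module.Dual R M) (J : Ideal R)
    (h : ∃ i, ∀ x ∈ F, φ i x ∈ J) (v : Fin n → M)
    (hv : PiTensorProduct.tprod R v ∈
      LinearMap.range (PiTensorProduct.map (R := R) (fun _ : Fin n => F.subtype))) :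
    ∏ i, φ i (v i) ∈ J := by
  obtain ⟨i, hi⟩ := h
  rw [← contract_tprod]
  have hle : LinearMap.range (PiTensorProduct.map (R := R) (fun _ : Fin n => F.subtype)) ≤
      Submodule.comap (contract φ) J := by
    rw [PiTensorProduct.map_range_eq_span_tprod, Submodule.span_le]
    rintro _ ⟨m, rfl⟩
    show contract φ (PiTensorProduct.tprod R _) ∈ J
    rw [contract_tprod, ← Finset.mul_prod_erase _ _ (Finset.mem_univ i)]
    exact J.mul_mem_right _ (hi _ (m i).2)
  exact hle hv

theorem tprod_mem_range {n : ℕ} (F : Submodule R M) (v : Fin n → M) (hv : ∀ i, v i ∈ F) :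
    PiTensorProduct.tprod R v ∈
      LinearMap.range (PiTensorProduct.map (R := R) (fun _ : Fin n => F.subtype)) :=
  ⟨PiTensorProduct.tprod R (fun i => (⟨v i, hv i⟩ : F)), by simp⟩

theorem le_of_range_eq [Module.Finite R M] [Module.Projective R M] (F₁ F₂ : Submodule R M)
    (h₁ : ∃ C : Submodule R M, IsCompl F₁ C) (h₂ : ∃ C : Submodule R M, IsCompl F₂ C) (n : ℕ)
    (h : LinearMap.range (PiTensorProduct.map (R := R) (fun _ : Fin (n + 1) => F₁.subtype)) =
      LinearMap.range (PiTensorProduct.map (R := R) (fun _ : Fin (n + 1) => F₂.subtype))) :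
    F₁ ≤ F₂ := by
  classical
  obtain ⟨C₁, hC₁⟩ := h₁
  obtain ⟨C₂, hC₂⟩ := h₂
  intro x hx
  let I : Ideal R := F₂.colon {x}
  suffices hI : I = ⊤ by
    have h1 : (1 : R) ∈ I := hI ▸ Submodule.mem_top
    simpa [I, Submodule.mem_colon_singleton] using h1
  by_contra hne
  obtain ⟨m, hm, hIm⟩ := Ideal.exists_le_maximal I hne
  have hD : ∀ e ∈ F₁, ∀ φ : Module.Dual R M, φ e ∈ m := by
    intro e he φ
    refine hm.isPrime.mem_of_pow_mem n (hIm ?_)
    rw [Submodule.mem_colon_singleton]
    let q : M →ₗ[R] M := LinearMap.id - F₂.subtype ∘ₗ Submodule.projectionOnto F₂ C₂ hC₂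
    have hq : ∀ y, q y = 0 → y ∈ F₂ := fun y hy => by
      rw [show y = (Submodule.projectionOnto F₂ C₂ hC₂ y : M) from sub_eq_zero.mp hy]
      exact Subtype.prop _
    refine hq _ ?_
    rw [← Module.forall_dual_apply_eq_zero_iff R]
    intro ψ
    have hψ : ∀ y ∈ F₂, (ψ ∘ₗ q) y = 0 := fun y hy => by
      simp [q, Submodule.projectionOnto_apply_left hC₂ ⟨y, hy⟩]
    have hmem := tprod_mem_range F₁ (Fin.cons x (fun _ : Fin n => e)) (fun i => by
      refine Fin.cases ?_ (fun j => ?_) i
      · simpa using hx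
      · simpa using he)
    rw [h] at hmem
    have h0 := contract_range_mem F₂ (Fin.cons (ψ ∘ₗ q) (fun _ => φ)) ⊥
      ⟨0, fun y hy => by simpa using hψ y hy⟩ _ hmem
    rw [Ideal.mem_bot, Fin.prod_univ_succ] at h0
    simp only [Fin.cons_zero, Fin.cons_succ, Finset.prod_const, Finset.card_univ,
      Fintype.card_fin, LinearMap.comp_apply] at h0
    rw [map_smul, map_smul, smul_eq_mul, mul_comm]
    exact h0
  obtain ⟨d, s, t, -, -, hst⟩ := Module.Finite.exists_comp_eq_id_of_projective R M
  have hmM : ∀ y ∈ F₁, y ∈ m • (⊤ : Submodule R M) := by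
    intro y hy
    have : y = ∑ i, (t y i) • s (Pi.single i 1) := by
      conv_lhs => rw [← LinearMap.id_apply (R := R) y, ← hst, LinearMap.comp_apply,
        pi_eq_sum_univ' (t y), map_sum]
      simp [Pi.single_apply]
    rw [this]
    exact Submodule.sum_mem _ fun i _ => Submodule.smul_mem_smul
      (hD y hy (LinearMap.proj i ∘ₗ t)) trivial
  let p : M →ₗ[R] M := F₁.subtype ∘ₗ Submodule.projectionOnto F₁ C₁ hC₁
  have hp : LinearMap.range p = F₁ := by
    refine le_antisymm ?_ fun y hy => ⟨y, by simp [p, Submodule.projectionOnto_apply_left hC₁ ⟨y, hy⟩]⟩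
    rintro _ ⟨y, rfl⟩
    exact Subtype.prop _
  have hle : F₁ ≤ m • F₁ := by
    intro y hy
    have hy' : p y ∈ Submodule.map p (m • ⊤) := Submodule.mem_map_of_mem (hmM y hy)
    rw [Submodule.map_smul'', Submodule.map_top, hp] at hy'
    simpa [p, Submodule.projectionOnto_apply_left hC₁ ⟨y, hy⟩] using hy'
  have hfg : F₁.FG := by
    rw [← hp, LinearMap.range_eq_map]
    exact Submodule.FG.map _ Module.Finite.fg_top
  obtain ⟨r, hr1, hr⟩ :=
    Submodule.exists_sub_one_mem_and_smul_eq_zero_of_fg_of_le_smul m F₁ hfg hle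
  have hrI : r ∈ I := by
    rw [Submodule.mem_colon_singleton, hr x hx]
    exact zero_mem _
  exact hm.ne_top (m.eq_top_iff_one.mpr (by simpa using m.sub_mem (hIm hrI) hr1))

end


/-- In affine form, let R be a commutative ring, M a finitely generated projective R-module (a finite
locally free sheaf on Spec R), F₁ and F₂ direct summands of M and k ≥ 1. Then the images of F₁^{⊗k}
and F₂^{⊗k} in the k-th tensor power M^{⊗k} are equal if and only if F₁ = F₂. (The source states
this for local direct factors of a finite locally free sheaf on a scheme; equality of subsheaves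
being local, this is the affine case with global direct summands, to which it reduces.) -/
theorem result {R : Type u} [CommRing R] {M : Type v} [AddCommGroup M] [Module R M]
    [Module.Finite R M] [Module.Projective R M] (F₁ F₂ : Submodule R M)
    (h₁ : ∃ C : Submodule R M, IsCompl F₁ C) (h₂ : ∃ C : Submodule R M, IsCompl F₂ C) (k : ℕ) (hk : 1 ≤ k) :
    LinearMap.range (PiTensorProduct.map (R := R) (fun _ : Fin k => F₁.subtype)) =
      LinearMap.range (PiTensorProduct.map (R := R) (fun _ : Fin k => F₂.subtype)) ↔ F₁ = F₂ := by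
  obtain ⟨n, rfl⟩ := Nat.exists_eq_add_of_le' hk
  constructor
  · exact fun h => le_antisymm (le_of_range_eq F₁ F₂ h₁ h₂ n h) (le_of_range_eq F₂ F₁ h₂ h₁ n h.symm)
  · rintro rfl; rfl

end Groth.Agent.S19148
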