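import Mathlib
import Mathlib
import Groth.Statements.S19154

set_option autoImplicit false
open scoped TensorProduct
universe u v w
open FiltMod

namespace Groth.Agent.S19154

open TensorProduct

section Linear

variable {Γ : Type*} [LinearOrder Γ] {R : Type*} [Ring R] {M : Type*} [AddCommGroup M] [Module R M]

/-- Pieces meeting the later terms of a filtration trivially are independent. -/
theorem iSupIndep_of_disjoint (F G : Γ → Submodule R M) (hF : Antitone F) (hG : ∀ γ, G γ ≤ F γ)
    (hd : ∀ γ, Disjoint (G γ) (⨆ η ∈ Set.Ioi γ, F η)) : iSupIndep G := by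
  classical
  rw [iSupIndep_iff_dfinsupp_lsum_injective, injective_iff_map_eq_zero]
  intro x hx
  by_contra h
  have hne : x.support.Nonempty := Finset.nonempty_of_ne_empty fun he =>
    h (DFinsupp.support_eq_empty.mp he)
  let η₀ := x.support.min' hne
  have h0 : η₀ ∈ x.support := Finset.min'_mem _ hne
  have hsum : ∑ i ∈ x.support, (x i : M) = 0 := by
    rw [DFinsupp.lsum_apply_apply, DFinsupp.sumAddHom_apply] at hx
    exact hx
  rw [← Finset.add_sum_erase _ _ h0] at hsum
  have hmem : (x η₀ : M) ∈ ⨆ η ∈ Set.Ioi η₀, F η := by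
    rw [eq_neg_of_add_eq_zero_left hsum]
    refine neg_mem (sum_mem fun i hi => ?_)
    have hlt : η₀ < i := lt_of_le_of_ne (Finset.min'_le _ _ (Finset.mem_of_mem_erase hi))
      (Finset.ne_of_mem_erase hi).symm
    exact Submodule.mem_iSup_of_mem i (Submodule.mem_iSup_of_mem hlt (hG i (x i).2))
  exact (DFinsupp.mem_support_iff.mp h0)
    (Subtype.ext (Submodule.disjoint_def.mp (hd η₀) _ (x η₀).2 hmem))

/-- If such pieces span everything, they give the filtration. -/
theorem eq_iSup_of_disjoint (F G : Γ → Submodule R M) (hF : Antitone F) (hG : ∀ γ, G γ ≤ F γ)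
    (hd : ∀ γ, Disjoint (G γ) (⨆ η ∈ Set.Ioi γ, F η)) (htop : ⨆ γ, G γ = ⊤) (γ : Γ) :
    F γ = ⨆ η ∈ Set.Ici γ, G η := by
  classical
  refine le_antisymm (fun m hm => ?_) (iSup₂_le fun η hη => (hG η).trans (hF hη))
  obtain ⟨x, hx, rfl⟩ :=
    (Submodule.mem_iSup_iff_exists_finsupp G m).mp (htop ▸ Submodule.mem_top)
  refine Submodule.sum_mem _ fun i hi => ?_
  by_cases hiγ : γ ≤ i
  · exact Submodule.mem_iSup_of_mem i (Submodule.mem_iSup_of_mem hiγ (hx i))
  exfalso
  have hne : (x.support.filter fun j => j < γ).Nonempty :=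
    ⟨i, Finset.mem_filter.mpr ⟨hi, not_le.mp hiγ⟩⟩
  let η₀ := (x.support.filter fun j => j < γ).min' hne
  obtain ⟨h0, h0γ⟩ := Finset.mem_filter.mp (Finset.min'_mem _ hne : η₀ ∈ _)
  have hmem : x η₀ ∈ ⨆ η ∈ Set.Ioi η₀, F η := by
    have hs : x η₀ = x.sum (fun _ v => v) - ∑ j ∈ x.support.erase η₀, x j := by
      rw [Finsupp.sum, ← Finset.add_sum_erase _ _ h0, add_sub_cancel_right]
    rw [hs]
    refine sub_mem (Submodule.mem_iSup_of_mem γ (Submodule.mem_iSup_of_mem h0γ hm))
      (sum_mem fun j hj => ?_)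
    have hlt : η₀ < j := by
      refine lt_of_le_of_ne ?_ (Finset.ne_of_mem_erase hj).symm
      rcases lt_or_ge j γ with h | h
      · exact Finset.min'_le _ _ (Finset.mem_filter.mpr ⟨Finset.mem_of_mem_erase hj, h⟩)
      · exact h0γ.le.trans h
    exact Submodule.mem_iSup_of_mem j (Submodule.mem_iSup_of_mem hlt (hG j (hx j)))
  exact (Finsupp.mem_support_iff.mp h0) (Submodule.disjoint_def.mp (hd η₀) _ (hx η₀) hmem)

/-- Disjointness from the later part of a grading. -/
theorem disjoint_later (G : Γ → Submodule R M) (h : iSupIndep G) (γ : Γ) :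
    Disjoint (G γ) (⨆ η ∈ Set.Ioi γ, G η) :=
  (h γ).mono_right (iSup₂_le fun η hη => le_iSup₂_of_le η (ne_of_gt hη) le_rfl)

/-- Splitting `F γ` for the filtration of a grading. -/
theorem split_of_grading (F G : Γ → Submodule R M) (h : ∀ γ, F γ = ⨆ η ∈ Set.Ici γ, G η) (γ : Γ) :
    F γ = G γ ⊔ (⨆ η ∈ Set.Ioi γ, G η) ∧
      (⨆ η ∈ Set.Ioi γ, F η) = ⨆ η ∈ Set.Ioi γ, G η := by
  constructor
  · rw [h γ]
    refine le_antisymm (iSup₂_le fun η hη => ?_) (sup_le ?_ ?_)
    · rcases (Set.mem_Ici.mp hη).eq_or_lt with rfl | hlt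
      · exact le_sup_left
      · exact le_sup_of_le_right (le_iSup₂_of_le η hlt le_rfl)
    · exact le_iSup₂_of_le γ Set.self_mem_Ici le_rfl
    · exact biSup_mono fun η hη => le_of_lt (Set.mem_Ioi.mp hη)
  · refine le_antisymm (iSup₂_le fun η hη => ?_) (iSup₂_le fun η hη => ?_)
    · rw [h η]
      exact biSup_mono fun ν hν => lt_of_lt_of_le (Set.mem_Ioi.mp hη) hν
    · refine le_iSup₂_of_le η hη ?_
      rw [h η]
      exact le_iSup₂_of_le η Set.self_mem_Ici le_rfl

end Linear

section Field

variable {Γ : Type*} [LinearOrder Γ] {k : Type*} [DivisionRing k] {V : Type*} [AddCommGroup V]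
  [Module k V] [FiniteDimensional k V]

/-- The dimension of a jump. -/
theorem jump_of_disjoint (W Cc P : Submodule k V) (hd : Disjoint Cc P) (hW : Cc ⊔ P = W) :
    Module.finrank k W - Module.finrank k P = Module.finrank k Cc := by
  have h := Submodule.finrank_sup_add_finrank_inf_eq Cc P
  rw [disjoint_iff.mp hd, finrank_bot, add_zero, hW] at h
  omega

/-- Dimension of a finite independent supremum. -/
theorem finrank_biSup_of_iSupIndep {C : Γ → Submodule k V} (hind : iSupIndep C) (s : Finset Γ) :
    Module.finrank k ↥(⨆ γ ∈ s, C γ) = ∑ γ ∈ s, Module.finrank k (C γ) := by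
  classical
  induction s using Finset.induction with
  | empty => simp
  | insert a s ha ih =>
    rw [Finset.iSup_insert, Finset.sum_insert ha, ← ih]
    have hd : Disjoint (C a) (⨆ γ ∈ s, C γ) := (hind a).mono_right
      (iSup₂_le fun γ hγ => le_iSup₂_of_le γ (fun h => by subst h; exact ha hγ) le_rfl)
    have h := Submodule.finrank_sup_add_finrank_inf_eq (C a) (⨆ γ ∈ s, C γ)
    rwa [disjoint_iff.mp hd, finrank_bot, add_zero] at h

/-- Complements of the jumps of a filtration span when the jumps add up to the dimension. -/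
theorem iSup_eq_top_of_finrank (Fx Gx : Γ → Submodule k V) (hF : Antitone Fx)
    (hG : ∀ γ, Gx γ ⊔ (⨆ η ∈ Set.Ioi γ, Fx η) = Fx γ)
    (hd : Module.finrank k V = ∑ᶠ γ, (Module.finrank k (Fx γ) -
      Module.finrank k ↥(⨆ η ∈ Set.Ioi γ, Fx η))) : ⨆ γ, Gx γ = ⊤ := by
  classical
  choose Cc hC using fun γ => Submodule.exists_isCompl
    ((Gx γ ⊓ ⨆ η ∈ Set.Ioi γ, Fx η).comap (Gx γ).subtype)
  let C : Γ → Submodule k V := fun γ => (Cc γ).map (Gx γ).subtype
  have hCG : ∀ γ, C γ ≤ Gx γ := fun γ => Submodule.map_subtype_le _ _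
  have hdis : ∀ γ, Disjoint (C γ) (⨆ η ∈ Set.Ioi γ, Fx η) := fun γ => by
    rw [Submodule.disjoint_def]
    rintro _ ⟨c, hc, rfl⟩ hP
    have := Submodule.disjoint_def.mp (hC γ).disjoint c
      (Submodule.mem_comap.mpr ⟨c.2, hP⟩) hc
    simp [this]
  have hsup : ∀ γ, C γ ⊔ (⨆ η ∈ Set.Ioi γ, Fx η) = Fx γ := fun γ => by
    refine le_antisymm (sup_le ((hCG γ).trans (le_sup_left.trans (hG γ).le))
      (le_sup_right.trans (hG γ).le)) ?_
    rw [← hG γ]
    refine sup_le (fun g hg => ?_) le_sup_right
    obtain ⟨a, ha, b, hb, hab⟩ := Submodule.mem_sup.mp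
      ((hC γ).sup_eq_top.ge (Submodule.mem_top : (⟨g, hg⟩ : Gx γ) ∈ ⊤))
    have hgab : g = (b : V) + (a : V) := by
      rw [add_comm]; exact (congrArg Subtype.val hab).symm
    rw [hgab]
    exact Submodule.add_mem_sup ⟨b, hb, rfl⟩ (Submodule.mem_comap.mp ha).2
  have hle : ∀ γ, C γ ≤ Fx γ := fun γ => le_sup_left.trans (hsup γ).le
  have hind := iSupIndep_of_disjoint Fx C hF hle hdis
  simp only [fun γ => jump_of_disjoint (Fx γ) (C γ) _ (hdis γ) (hsup γ)] at hd
  refine top_le_iff.mp (le_trans ?_ (iSup_mono hCG))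
  have hfin := WellFoundedGT.finite_ne_bot_of_iSupIndep hind
  have hs : (Function.support fun γ => Module.finrank k (C γ)) ⊆ ↑hfin.toFinset := fun γ hγ => by
    simp only [Set.Finite.coe_toFinset, Set.mem_setOf_eq]
    intro h0
    refine hγ ?_
    change Module.finrank k (C γ) = 0
    rw [h0, finrank_bot]
  rw [finsum_eq_sum_of_support_subset _ hs, ← finrank_biSup_of_iSupIndep hind hfin.toFinset] at hd
  have htop := Submodule.eq_top_of_finrank_eq hd.symm
  rw [← htop]
  exact iSup₂_le fun γ _ => le_iSup C γ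

end Field

section BaseChange

variable {R : Type*} [CommRing R] (k : Type*) [Field k] [Algebra R k] {M : Type*} [AddCommGroup M]
  [Module R M]

/-- The image of `k ⊗ N` in `k ⊗ M` is spanned by the `1 ⊗ n`. -/
theorem range_baseChange_eq_span (N : Submodule R M) :
    LinearMap.range (N.subtype.baseChange k) =
      Submodule.span k ((fun m => (1 : k) ⊗ₜ[R] m) '' N) := by
  refine le_antisymm ?_ (Submodule.span_le.mpr ?_)
  · rintro _ ⟨z, rfl⟩
    induction z with
    | zero => simp
    | add x y hx hy => rw [map_add]; exact add_mem hx hy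
    | tmul a n =>
      rw [LinearMap.baseChange_tmul, show a ⊗ₜ[R] N.subtype n = a • ((1 : k) ⊗ₜ[R] (n : M)) by
        rw [TensorProduct.smul_tmul', smul_eq_mul, mul_one]; rfl]
      exact Submodule.smul_mem _ _ (Submodule.subset_span ⟨n, n.2, rfl⟩)
  · rintro _ ⟨n, hn, rfl⟩
    exact ⟨1 ⊗ₜ ⟨n, hn⟩, rfl⟩

theorem range_baseChange_mono {N N' : Submodule R M} (h : N ≤ N') :
    LinearMap.range (N.subtype.baseChange k) ≤ LinearMap.range (N'.subtype.baseChange k) := by
  rw [range_baseChange_eq_span, range_baseChange_eq_span]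
  exact Submodule.span_mono (Set.image_mono h)

theorem range_baseChange_iSup {ι : Sort*} (N : ι → Submodule R M) :
    LinearMap.range ((⨆ i, N i).subtype.baseChange k) =
      ⨆ i, LinearMap.range ((N i).subtype.baseChange k) := by
  refine le_antisymm ?_ (iSup_le fun i => range_baseChange_mono k (le_iSup N i))
  rw [range_baseChange_eq_span, Submodule.span_le]
  rintro _ ⟨m, hm, rfl⟩
  refine Submodule.iSup_induction N (motive := fun m => (1 : k) ⊗ₜ[R] m ∈ _) hm
    (fun i x hx => Submodule.mem_iSup_of_mem i ?_) ?_ ?_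
  · rw [range_baseChange_eq_span]
    exact Submodule.subset_span ⟨x, hx, rfl⟩
  · rw [TensorProduct.tmul_zero]; exact zero_mem _
  · intro x y hx hy; rw [TensorProduct.tmul_add]; exact add_mem hx hy

theorem range_baseChange_biSup {ι : Type*} (s : Set ι) (N : ι → Submodule R M) :
    LinearMap.range ((⨆ i ∈ s, N i).subtype.baseChange k) =
      ⨆ i ∈ s, LinearMap.range ((N i).subtype.baseChange k) := by
  rw [range_baseChange_iSup]
  exact iSup_congr fun i => range_baseChange_iSup k _

theorem range_baseChange_sup (N N' : Submodule R M) :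
    LinearMap.range ((N ⊔ N').subtype.baseChange k) =
      LinearMap.range (N.subtype.baseChange k) ⊔ LinearMap.range (N'.subtype.baseChange k) := by
  rw [sup_eq_iSup, range_baseChange_iSup, sup_eq_iSup]
  exact iSup_congr fun b => by cases b <;> rfl

theorem range_baseChange_top :
    LinearMap.range ((⊤ : Submodule R M).subtype.baseChange k) = ⊤ := by
  rw [LinearMap.range_eq_top]
  exact fun z => ⟨(Submodule.topEquiv.symm.toLinearMap).baseChange k z, by
    rw [← LinearMap.comp_apply, ← LinearMap.baseChange_comp]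
    induction z with
    | zero => simp
    | add x y hx hy => rw [map_add, hx, hy]
    | tmul a m => simp⟩

/-- The image of a piece of a grading is independent. -/
theorem iSupIndep_baseChange {ι : Type*} [DecidableEq ι] (G : ι → Submodule R M)
    (hG : DirectSum.IsInternal G) :
    iSupIndep fun i => LinearMap.range ((G i).subtype.baseChange k) := by
  intro i
  let e := LinearEquiv.ofBijective (DirectSum.coeLinearMap G) hG
  let π : M →ₗ[R] M :=
    (G i).subtype ∘ₗ DirectSum.component R ι (fun i => G i) i ∘ₗ e.symm.toLinearMap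
  have hπ : ∀ j, ∀ x : G j, π x = if j = i then (x : M) else 0 := by
    intro j x
    have hx : e.symm (x : M) = DirectSum.lof R ι (fun i => G i) j x :=
      e.symm_apply_eq.mpr (DirectSum.coeLinearMap_of G j x).symm
    simp only [π, LinearMap.comp_apply, LinearEquiv.coe_coe, hx, Submodule.coe_subtype]
    rcases eq_or_ne j i with rfl | h
    · rw [DirectSum.component.lof_self, if_pos rfl]
    · rw [DirectSum.component.of, dif_neg h, if_neg h]
      rfl
  have h1 : LinearMap.range ((G i).subtype.baseChange k) ≤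
      LinearMap.ker (π.baseChange k - LinearMap.id) := by
    rw [range_baseChange_eq_span, Submodule.span_le]
    rintro _ ⟨x, hx, rfl⟩
    simp [hπ i ⟨x, hx⟩]
  have h2 : (⨆ j ≠ i, LinearMap.range ((G j).subtype.baseChange k)) ≤
      LinearMap.ker (π.baseChange k) := by
    refine iSup₂_le fun j hj => ?_
    rw [range_baseChange_eq_span, Submodule.span_le]
    rintro _ ⟨x, hx, rfl⟩
    simp [hπ j ⟨x, hx⟩, hj]
  rw [Submodule.disjoint_def]
  intro z hz hz'
  have ha := LinearMap.mem_ker.mp (h1 hz)
  rw [LinearMap.sub_apply, LinearMap.mem_ker.mp (h2 hz'), LinearMap.id_apply, zero_sub,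
    neg_eq_zero] at ha
  exact ha

end BaseChange

/-- A submodule of a finite module is everything if it is so on closed fibres. -/
theorem eq_top_of_fibres {R : Type*} [CommRing R] {M : Type*} [AddCommGroup M] [Module R M]
    [Module.Finite R M] (N : Submodule R M)
    (h : ∀ (m : Ideal R) [m.IsMaximal],
      LinearMap.range (N.subtype.baseChange m.ResidueField) = ⊤) : N = ⊤ := by
  by_contra hN
  have hann : Module.annihilator R (M ⧸ N) ≠ ⊤ := fun ht => hN <| by
    rw [Module.annihilator_eq_top_iff, Submodule.Quotient.subsingleton_iff] at ht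
    exact ht
  obtain ⟨m, hm, hle⟩ := Ideal.exists_le_maximal _ hann
  have hsub : Subsingleton (m.ResidueField ⊗[R] (M ⧸ N)) := by
    refine subsingleton_of_forall_eq 0 fun z => ?_
    obtain ⟨y, rfl⟩ := LinearMap.lTensor_surjective m.ResidueField N.mkQ_surjective z
    obtain ⟨w, rfl⟩ : y ∈ LinearMap.range (N.subtype.baseChange m.ResidueField) := by
      rw [h m]; trivial
    induction w with
    | zero => simp
    | add a b ha hb => rw [map_add, map_add, ha, hb, add_zero]
    | tmul a x => simp [(Submodule.Quotient.mk_eq_zero N).mpr x.2]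
  let e : (R ⧸ m) ≃ₗ[R] m.ResidueField := LinearEquiv.ofBijective
    (IsScalarTower.toAlgHom R (R ⧸ m) m.ResidueField).toLinearMap
    m.bijective_algebraMap_quotient_residueField
  have : Subsingleton ((R ⧸ m) ⊗[R] (M ⧸ N)) :=
    (TensorProduct.congr e (LinearEquiv.refl R _)).injective.subsingleton
  have hmQ : (⊤ : Submodule R (M ⧸ N)) ≤ m • ⊤ := by
    have := (TensorProduct.quotTensorEquivQuotSMul (M ⧸ N) m).symm.injective.subsingleton
    rw [Submodule.Quotient.subsingleton_iff] at this
    exact this.ge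
  obtain ⟨r, hr1, hr⟩ := Submodule.exists_sub_one_mem_and_smul_eq_zero_of_fg_of_le_smul m
    (⊤ : Submodule R (M ⧸ N)) Module.Finite.fg_top hmQ
  have hrm : r ∈ m := hle (Module.mem_annihilator.mpr fun q => hr q trivial)
  exact hm.ne_top ((Ideal.eq_top_iff_one _).mpr (by
    have := m.sub_mem hrm hr1
    rwa [sub_sub_cancel] at this))


/-- (1) ⇔ (4): in affine form, let Γ be a non-trivial totally ordered commutative group, R a commutative
ring, M a finitely generated projective R-module (a finite locally free sheaf on X = Spec R) and F a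
non-increasing Γ-indexed family of submodules of M; write F^γ_+ for the sum of the F^η with η > γ
and Gr^γ = F^γ/F^γ_+. Then the following are equivalent: (1) there is a Γ-grading M = ⊕_γ G_γ by
submodules (internal direct sum) with F^γ = Σ_{η ≥ γ} G_η for every γ; (4) every Gr^γ is finitely
generated projective over R and, for every prime p of R, dim_{κ(p)} (κ(p) ⊗ M) = Σ_γ dim_{κ(p)} Gr^γ
of the image filtration on κ(p) ⊗ M (whose γ-th term F_x^γ is the image of κ(p) ⊗ F^γ; dim Gr^γ is
written as dim F_x^γ − dim F_x^γ_+, and the sum has finitely many non-zero terms). (The source's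
conditions (2), (3) are the Zariski- and fpqc-local forms of (1) on a general scheme; its further
assertions on F^γ ⊗ κ(x) are not stated.) -/
theorem result
    {Γ : Type w} [AddCommGroup Γ] [LinearOrder Γ] [IsOrderedAddMonoid Γ] [Nontrivial Γ]
    {R : Type u} [CommRing R] {M : Type v} [AddCommGroup M] [Module R M] [Module.Finite R M] [Module.Projective R M]
    (F : Γ → Submodule R M) (hF : Antitone F)
    (Fp : Γ → Submodule R M) (hFp : ∀ γ, Fp γ = ⨆ η ∈ Set.Ioi γ, F η) :
    (∃ G : Γ → Submodule R M, DirectSum.IsInternal G ∧ ∀ γ, F γ = ⨆ η ∈ Set.Ici γ, G η) ↔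
    ((∀ γ, Module.Finite R (↥(F γ) ⧸ Submodule.comap (F γ).subtype (Fp γ)) ∧
        Module.Projective R (↥(F γ) ⧸ Submodule.comap (F γ).subtype (Fp γ))) ∧
      ∀ (p : PrimeSpectrum R) (Fx : Γ → Submodule p.asIdeal.ResidueField (p.asIdeal.ResidueField ⊗[R] M)),
        (∀ γ, Fx γ = LinearMap.range ((F γ).subtype.baseChange p.asIdeal.ResidueField)) →
        Module.finrank p.asIdeal.ResidueField (p.asIdeal.ResidueField ⊗[R] M) =
          ∑ᶠ γ, (Module.finrank p.asIdeal.ResidueField ↥(Fx γ) -
            Module.finrank p.asIdeal.ResidueField ↥(⨆ η ∈ Set.Ioi γ, Fx η))) := by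
  classical
  constructor
  · rintro ⟨G, hG, hFG⟩
    have hind := hG.submodule_iSupIndep
    have htop := hG.submodule_iSup_eq_top
    obtain ⟨hsplit, hFp'⟩ : (∀ γ, F γ = G γ ⊔ Fp γ) ∧ ∀ γ, Fp γ = ⨆ η ∈ Set.Ioi γ, G η :=
      ⟨fun γ => by rw [hFp, (split_of_grading F G hFG γ).2]; exact (split_of_grading F G hFG γ).1,
        fun γ => by rw [hFp, (split_of_grading F G hFG γ).2]⟩
    refine ⟨fun γ => ?_, fun p Fx hFx => ?_⟩
    · let e := LinearEquiv.ofBijective (DirectSum.coeLinearMap G) hG
      let π : M →ₗ[R] G γ := DirectSum.component R Γ (fun i => G i) γ ∘ₗ e.symm.toLinearMap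
      have hπ : π ∘ₗ (G γ).subtype = LinearMap.id := by
        refine LinearMap.ext fun x => ?_
        have hx : e.symm (x : M) = DirectSum.lof R Γ (fun i => G i) γ x :=
          e.symm_apply_eq.mpr (DirectSum.coeLinearMap_of G γ x).symm
        simp [π, hx]
      have hfin : Module.Finite R (G γ) :=
        Module.Finite.of_surjective π fun x => ⟨x, LinearMap.congr_fun hπ x⟩
      have hproj : Module.Projective R (G γ) := Module.Projective.of_split (G γ).subtype π hπ
      have hGF : G γ ≤ F γ := le_sup_left.trans (hsplit γ).ge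
      let f : G γ →ₗ[R] ↥(F γ) ⧸ Submodule.comap (F γ).subtype (Fp γ) :=
        Submodule.mkQ _ ∘ₗ Submodule.inclusion hGF
      have hf : Function.Bijective f := by
        refine ⟨(injective_iff_map_eq_zero f).mpr fun x hx => ?_, fun q => ?_⟩
        · have hxP : (x : M) ∈ Fp γ :=
            Submodule.mem_comap.mp ((Submodule.Quotient.mk_eq_zero _).mp hx)
          rw [hFp'] at hxP
          exact Subtype.ext (Submodule.disjoint_def.mp (disjoint_later G hind γ) _ x.2 hxP)
        · obtain ⟨⟨x, hx⟩, rfl⟩ := Submodule.mkQ_surjective _ q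
          rw [hsplit γ] at hx
          obtain ⟨a, ha, b, hb, rfl⟩ := Submodule.mem_sup.mp hx
          refine ⟨⟨a, ha⟩, (Submodule.Quotient.eq _).mpr (Submodule.mem_comap.mpr ?_)⟩
          change a - (a + b) ∈ Fp γ
          rw [sub_add_cancel_left]
          exact neg_mem hb
      exact ⟨Module.Finite.equiv (LinearEquiv.ofBijective f hf),
        Module.Projective.of_equiv (LinearEquiv.ofBijective f hf)⟩
    · let k := p.asIdeal.ResidueField
      let Gx : Γ → Submodule k (k ⊗[R] M) := fun γ => LinearMap.range ((G γ).subtype.baseChange k)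
      have hindx : iSupIndep Gx := iSupIndep_baseChange k G hG
      have hFx' : ∀ γ, Fx γ = ⨆ η ∈ Set.Ici γ, Gx η := fun γ => by
        rw [hFx, hFG, range_baseChange_biSup]
      have htopx : ⨆ γ, Gx γ = ⊤ := by
        rw [← range_baseChange_iSup, htop, range_baseChange_top]
      have hjump : ∀ γ, Module.finrank k ↥(Fx γ) - Module.finrank k ↥(⨆ η ∈ Set.Ioi γ, Fx η) =
          Module.finrank k (Gx γ) := fun γ =>
        jump_of_disjoint _ _ _ (by
          rw [(split_of_grading Fx Gx hFx' γ).2]
          exact disjoint_later Gx hindx γ)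
          (by rw [(split_of_grading Fx Gx hFx' γ).2]; exact (split_of_grading Fx Gx hFx' γ).1.symm)
      rw [finsum_congr hjump]
      have hfs := WellFoundedGT.finite_ne_bot_of_iSupIndep hindx
      have hs : (Function.support fun γ => Module.finrank k (Gx γ)) ⊆ ↑hfs.toFinset := fun γ hγ => by
        simp only [Set.Finite.coe_toFinset, Set.mem_setOf_eq]
        intro h0
        refine hγ ?_
        change Module.finrank k (Gx γ) = 0
        rw [h0, finrank_bot]
      rw [finsum_eq_sum_of_support_subset _ hs, ← finrank_biSup_of_iSupIndep hindx,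
        show (⨆ γ ∈ hfs.toFinset, Gx γ) = ⊤ from ?_, finrank_top]
      rw [← top_le_iff, ← htopx]
      refine iSup_le fun γ => ?_
      rcases eq_or_ne (Gx γ) ⊥ with h0 | h0
      · rw [h0]; exact bot_le
      · exact le_iSup₂_of_le γ (hfs.mem_toFinset.mpr h0) le_rfl
  · rintro ⟨hgr, hdim⟩
    -- lifts of the graded pieces
    choose s hs using fun γ =>
      haveI := (hgr γ).2
      Module.projective_lifting_property (Submodule.comap (F γ).subtype (Fp γ)).mkQ LinearMap.id
        (Submodule.mkQ_surjective _)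
    let G : Γ → Submodule R M := fun γ => (LinearMap.range (s γ)).map (F γ).subtype
    have hGF : ∀ γ, G γ ≤ F γ := fun γ => Submodule.map_subtype_le _ _
    have hd : ∀ γ, Disjoint (G γ) (Fp γ) := fun γ => by
      rw [Submodule.disjoint_def]
      rintro _ ⟨_, ⟨q, rfl⟩, rfl⟩ hq
      have h0 : q = 0 := by
        rw [← LinearMap.id_apply (R := R) q, ← hs γ]
        exact (Submodule.Quotient.mk_eq_zero _).mpr hq
      simp [h0]
    have hsup : ∀ γ, G γ ⊔ Fp γ = F γ := fun γ => by
      refine le_antisymm (sup_le (hGF γ) ?_) fun x hx => ?_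
      · rw [hFp]; exact iSup₂_le fun η hη => hF (le_of_lt hη)
      let q : ↥(F γ) ⧸ Submodule.comap (F γ).subtype (Fp γ) := Submodule.Quotient.mk ⟨x, hx⟩
      have hx' : x - (s γ q : M) ∈ Fp γ := by
        have := (Submodule.Quotient.eq _).mp (LinearMap.congr_fun (hs γ) q).symm
        exact Submodule.mem_comap.mp this
      rw [← add_sub_cancel (s γ q : M) x]
      exact Submodule.add_mem_sup ⟨_, ⟨q, rfl⟩, rfl⟩ hx'
    have hd' : ∀ γ, Disjoint (G γ) (⨆ η ∈ Set.Ioi γ, F η) := fun γ => hFp γ ▸ hd γ
    have htop : ⨆ γ, G γ = ⊤ := eq_top_of_fibres _ fun m hm => by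
      let p : PrimeSpectrum R := ⟨m, hm.isPrime⟩
      let k := p.asIdeal.ResidueField
      rw [range_baseChange_iSup]
      refine iSup_eq_top_of_finrank (fun γ => LinearMap.range ((F γ).subtype.baseChange k)) _
        (fun a b hab => range_baseChange_mono k (hF hab)) (fun γ => ?_) (hdim p _ fun _ => rfl)
      rw [← range_baseChange_biSup, ← range_baseChange_sup, ← hFp, hsup]
    exact ⟨G, DirectSum.isInternal_submodule_of_iSupIndep_of_iSup_eq_top
      (iSupIndep_of_disjoint F G hF hGF hd') htop, eq_iSup_of_disjoint F G hF hGF hd' htop⟩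

end Groth.Agent.S19154
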