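import Groth.Statements.S19155
import Groth.Agent.RootDLib.Dom
-- import your own Groth.Agent.* helpers here

set_option autoImplicit false
open RootPairing
open RootD

namespace Groth.Agent.S19155

/-- Let P be a root datum (root pairing over ℤ with finitely many roots, roots in M), S a system of
positive roots, Γ a non-trivial totally ordered commutative group and f : M → Γ additive. Call f
dominant when f(α) ≥ 0 for every positive root α. Then the dominant maps form a fundamental domain
for the Weyl group W acting on Hom(M, Γ) through M: there is w ∈ W with f ∘ w dominant, and if f and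
f ∘ w are both dominant (w ∈ W) then f ∘ w = f. -/
theorem result {ι M N : Type*} [AddCommGroup M] [AddCommGroup N]
    (P : RootPairing ι ℤ M N) [Finite ι] (S : Set ι) (hS : RootD.IsPosSys P S)
    {Γ : Type*} [AddCommGroup Γ] [LinearOrder Γ] [IsOrderedAddMonoid Γ] [Nontrivial Γ] (f : M →+ Γ) :
    (∃ g : P.Aut, g ∈ P.weylGroup ∧ ∀ i ∈ S, 0 ≤ f (RootPairing.Equiv.weightHom P g (P.root i))) ∧
    (∀ g : P.Aut, g ∈ P.weylGroup → (∀ i ∈ S, 0 ≤ f (P.root i)) →
      (∀ i ∈ S, 0 ≤ f (RootPairing.Equiv.weightHom P g (P.root i))) →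
      ∀ m : M, f (RootPairing.Equiv.weightHom P g m) = f m) := by
  classical
  haveI := Fintype.ofFinite ι
  have hw : ∀ (g : P.Aut) (m : M), RootPairing.Equiv.weightHom P g m = g • m := fun _ _ => rfl
  simp only [hw]
  constructor
  · obtain ⟨g, hg, h⟩ := Groth.Agent.RootDLib.exists_weyl_image_subset P (P' := {a | 0 ≤ f (P.root a)}) hS (fun a => by
      simp only [Set.mem_setOf_eq]
      show 0 ≤ _ ∨ 0 ≤ f (P.root (Groth.Agent.RootDLib.ng P a))
      rw [Groth.Agent.RootDLib.root_ng, map_neg, neg_nonneg]
      exact le_total _ _) (fun a b k ha hb e => by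
        simp only [Set.mem_setOf_eq] at ha hb ⊢
        rw [e, map_add]; exact add_nonneg ha hb)
    exact ⟨g, hg, fun i hi => by rw [← Groth.Agent.RootDLib.root_smul]; exact h i hi⟩
  · intro g hg hf hfg m
    obtain ⟨c, hc0, hcS, hc⟩ := Groth.Agent.RootDLib.exists_dom_comb P hS f hf hg
    obtain ⟨m₀, hm₀⟩ := Groth.Agent.RootDLib.exists_regular P hS
    have h1 : f (g • m₀) ≤ f m₀ := Groth.Agent.RootDLib.dominant_le P hS f hf hg fun i hi => (hm₀ i hi).le
    have h2 : f m₀ ≤ f (g • m₀) := by
      have := Groth.Agent.RootDLib.dominant_le P hS (f.comp (DistribMulAction.toAddMonoidHom M g)) (fun i hi => hfg i hi)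
        (inv_mem hg) (m := m₀) fun i hi => (hm₀ i hi).le
      change f (g • g⁻¹ • m₀) ≤ f (g • m₀) at this
      rwa [smul_inv_smul] at this
    have hz : ∑ i, (P.coroot' i m₀) • c i = 0 := by rw [← hc, sub_eq_zero]; exact le_antisymm h2 h1
    have hci : ∀ i, c i = 0 := fun i => by
      by_cases hi : i ∈ S
      · have hnn : ∀ a ∈ (Finset.univ : Finset ι), 0 ≤ (P.coroot' a m₀) • c a := fun a _ => by
          by_cases ha : a ∈ S
          · exact zsmul_nonneg (hc0 a) (hm₀ a ha).le
          · rw [hcS a ha, smul_zero]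
        have h := (Finset.sum_eq_zero_iff_of_nonneg hnn).1 hz i (Finset.mem_univ i)
        refine le_antisymm (not_lt.1 fun hlt => ?_) (hc0 i)
        exact (zsmul_pos hlt (hm₀ i hi)).ne' h
      · exact hcS i hi
    have := hc m
    rw [Finset.sum_eq_zero fun i _ => by rw [hci i, smul_zero], sub_eq_zero] at this
    exact this.symm

end Groth.Agent.S19155
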