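import Groth.Statements.S19156
import Groth.Agent.RootDLib.Dom
-- import your own Groth.Agent.* helpers here

set_option autoImplicit false
open RootPairing
open RootD

namespace Groth.Agent.S19156

/-- Let P be a root datum (root pairing over ℤ with finitely many roots indexed by ι), S a system of
positive roots, Γ a non-trivial totally ordered commutative group and f : M → Γ additive. Then f is
dominant (non-negative on the positive roots) if and only if, for every w in the Weyl group, f − f ∘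
w is a combination m ↦ Σ_{α ∈ S} ⟨m, α∨⟩ c_α of the positive coroots with coefficients c_α ≥ 0 in Γ
(f ∘ w is strongly dominated by f); and f is dominant if and only if f(w m) ≤ f(m) for every w ∈ W
and every dominant weight m (weak dominance). -/
theorem result {ι M N : Type*} [AddCommGroup M] [AddCommGroup N]
    (P : RootPairing ι ℤ M N) [Fintype ι] (S : Set ι) (hS : RootD.IsPosSys P S)
    {Γ : Type*} [AddCommGroup Γ] [LinearOrder Γ] [IsOrderedAddMonoid Γ] [Nontrivial Γ] (f : M →+ Γ) :
    ((∀ i ∈ S, 0 ≤ f (P.root i)) ↔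
      ∀ g : P.Aut, g ∈ P.weylGroup → ∃ c : ι → Γ, (∀ i, 0 ≤ c i) ∧ (∀ i, i ∉ S → c i = 0) ∧
        ∀ m : M, f m - f (RootPairing.Equiv.weightHom P g m) = ∑ i, (P.coroot' i m) • c i) ∧
    ((∀ i ∈ S, 0 ≤ f (P.root i)) ↔
      ∀ g : P.Aut, g ∈ P.weylGroup → ∀ m : M, (∀ i ∈ S, 0 ≤ P.coroot' i m) →
        f (RootPairing.Equiv.weightHom P g m) ≤ f m) := by
  classical
  have hw : ∀ (g : P.Aut) (m : M), RootPairing.Equiv.weightHom P g m = g • m := fun _ _ => rfl
  simp only [hw]
  obtain ⟨m₀, hm₀⟩ := Groth.Agent.RootDLib.exists_regular P hS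
  have weakconv : (∀ g : P.Aut, g ∈ P.weylGroup → f (g • m₀) ≤ f m₀) → ∀ i ∈ S, 0 ≤ f (P.root i) := fun h i hi => by
    have h1 := h (Groth.Agent.RootDLib.refl P i) (P.reflection_mem_weylGroup i)
    rw [Groth.Agent.RootDLib.root_refl_int, map_sub, map_zsmul, sub_le_self_iff] at h1
    exact not_lt.1 fun hlt => (neg_pos.1 (by rw [← smul_neg]; exact zsmul_pos (neg_pos.2 hlt) (hm₀ i hi))).not_ge h1
  refine ⟨⟨fun hf g hg => Groth.Agent.RootDLib.exists_dom_comb P hS f hf hg, fun h => weakconv fun g hg => ?_⟩,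
    ⟨fun hf g hg m hm => Groth.Agent.RootDLib.dominant_le P hS f hf hg hm, fun h => weakconv fun g hg => h g hg m₀ fun i hi => (hm₀ i hi).le⟩⟩
  obtain ⟨c, h0, hS', hc⟩ := h g hg
  rw [← sub_nonneg, hc]
  refine Finset.sum_nonneg fun i _ => ?_
  by_cases hi : i ∈ S
  · exact zsmul_nonneg (h0 i) (hm₀ i hi).le
  · rw [hS' i hi, smul_zero]

end Groth.Agent.S19156
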