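import Groth.Statements.S19158
import Mathlib

set_option autoImplicit false
universe u v w
open FiltMod

namespace Groth.Agent.S19158

/-- In affine form, let Γ be a non-trivial totally ordered commutative group, R a commutative ring and
(M_a) a finite family of finitely generated projective R-modules, each carrying a non-increasing
Γ-indexed family of submodules F_a; give M = Π_a M_a the family F^γ = Π_a F_a^γ. Then F is split by
a Γ-grading of M (an internal direct sum decomposition M = ⊕_γ G_γ with F^γ = Σ_{η ≥ γ} G_η for all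
γ) if and only if each F_a is split by a Γ-grading of M_a. (The published statement is for finite
locally free sheaves on a scheme, where a filtration counts as split when it is split by a grading
locally on the scheme; this row is the affine case, in which that is the same as being split by one
global grading.) -/
theorem result
    {Γ : Type w} [AddCommGroup Γ] [LinearOrder Γ] [IsOrderedAddMonoid Γ] [Nontrivial Γ]
    {R : Type u} [CommRing R] {A : Type v} [Fintype A] (M : A → Type v) [∀ a, AddCommGroup (M a)] [∀ a, Module R (M a)]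
    [∀ a, Module.Finite R (M a)] [∀ a, Module.Projective R (M a)]
    (F : ∀ a, Γ → Submodule R (M a)) (hF : ∀ a, Antitone (F a)) :
    (∃ G : Γ → Submodule R (∀ a, M a), DirectSum.IsInternal G ∧
        ∀ γ, Submodule.pi Set.univ (fun a => F a γ) = ⨆ η ∈ Set.Ici γ, G η) ↔
    ∀ a, ∃ G : Γ → Submodule R (M a), DirectSum.IsInternal G ∧ ∀ γ, F a γ = ⨆ η ∈ Set.Ici γ, G η := by
  classical
  constructor
  · rintro ⟨G, hG, hFG⟩ a
    let inc : M a →ₗ[R] (∀ b, M b) := LinearMap.single R M a
    let pro : (∀ b, M b) →ₗ[R] M a := LinearMap.proj a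
    have hpi : ∀ x, pro (inc x) = x := fun x => by simp [pro, inc]
    obtain ⟨S, hS⟩ : ∃ S : Finset Γ, ∀ η, G η ≠ ⊥ → η ∈ S := by
      have hs : (⊤ : Submodule R (∀ b, M b)) ≤ ⨆ η, G η := le_of_eq hG.submodule_iSup_eq_top.symm
      obtain ⟨S, hS⟩ := CompleteLattice.IsCompactElement.exists_finset_of_le_iSup _ ((Submodule.fg_iff_compact _).mp Module.Finite.fg_top) G hs
      refine ⟨S, fun η hη => ?_⟩
      by_contra hηS
      refine hη (disjoint_self.mp ((hG.submodule_iSupIndep η).mono_right (le_top.trans (hS.trans ?_))))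
      exact iSup₂_le fun i hi => le_iSup₂_of_le i (fun h => hηS (h ▸ hi)) le_rfl
    let E := LinearEquiv.ofBijective (DirectSum.coeLinearMap G) hG
    let pr : Γ → (∀ b, M b) →ₗ[R] (∀ b, M b) := fun η => ((G η).subtype.comp (DirectSum.component R Γ (fun i => G i) η)).comp E.symm.toLinearMap
    have hprG : ∀ η ζ x, x ∈ G ζ → pr η x = if ζ = η then x else 0 := by
      intro η ζ x hx
      have h1 : E.symm x = DirectSum.lof R Γ (fun i => G i) ζ ⟨x, hx⟩ := by
        rw [LinearEquiv.symm_apply_eq]; simp [E]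
      simp only [pr, LinearMap.comp_apply, LinearEquiv.coe_coe, h1, DirectSum.component.of, Submodule.subtype_apply]
      split_ifs with h
      · subst h; rfl
      · rfl
    have hpr_sum : ∀ x, ∑ η ∈ S, pr η x = x := by
      intro x
      have hx : x ∈ ⨆ η, G η := hG.submodule_iSup_eq_top ▸ trivial
      induction hx using Submodule.iSup_induction' with
      | mem ζ y hy =>
        rw [Finset.sum_congr rfl (fun η _ => hprG η ζ y hy), Finset.sum_ite_eq]
        by_cases h : ζ ∈ S
        · rw [if_pos h]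
        · rw [if_neg h]
          by_contra hy0
          exact h (hS ζ fun hb => hy0 ((Submodule.mem_bot R).mp (hb ▸ hy)).symm)
      | zero => simp
      | add y z hy hz ihy ihz => simp only [map_add, Finset.sum_add_distrib, ihy, ihz]
    have hprF : ∀ η γ, η < γ → ∀ x ∈ ⨆ ζ ∈ Set.Ici γ, G ζ, pr η x = 0 := by
      intro η γ hηγ x hx
      have : (⨆ ζ ∈ Set.Ici γ, G ζ) ≤ LinearMap.ker (pr η) := iSup₂_le fun ζ hζ y hy => by
        rw [LinearMap.mem_ker, hprG η ζ y hy, if_neg (hηγ.trans_le hζ).ne']
      exact this hx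
    let e : Γ → M a →ₗ[R] M a := fun η => (pro.comp (pr η)).comp inc
    have hmemF : ∀ γ x, x ∈ F a γ ↔ inc x ∈ ⨆ ζ ∈ Set.Ici γ, G ζ := by
      intro γ x
      rw [← hFG]
      constructor
      · intro hx b _
        by_cases hb : b = a
        · subst hb; simpa [inc] using hx
        · simp [inc, Pi.single_eq_of_ne hb]
      · intro hx
        simpa [inc] using hx a trivial
    have heF : ∀ γ x, e γ x ∈ F a γ := by
      intro γ x
      have h1 : pr γ (inc x) ∈ ⨆ ζ ∈ Set.Ici γ, G ζ :=
        le_iSup₂ (f := fun ζ (_ : ζ ∈ Set.Ici γ) => G ζ) γ (Set.mem_Ici.mpr le_rfl) (Submodule.coe_mem _)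
      rw [← hFG] at h1
      exact h1 a trivial
    have he0 : ∀ η γ, η < γ → ∀ x ∈ F a γ, e η x = 0 := fun η γ h x hx => by
      show pro (pr η (inc x)) = 0
      rw [hprF η γ h _ ((hmemF γ x).mp hx), map_zero]
    have hes : ∀ x, ∑ η ∈ S, e η x = x := fun x => by
      show ∑ η ∈ S, pro (pr η (inc x)) = x
      rw [← map_sum, hpr_sum, hpi]
    have hex : ∀ γ, ∀ x ∈ F a γ, ∑ η ∈ S.filter (fun η => γ ≤ η), e η x = x := fun γ x hx => by
      conv_rhs => rw [← hes x]
      exact Finset.sum_filter_of_ne fun η _ hη => not_lt.mp fun h => hη (he0 η γ h x hx)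
    have hidem : ∀ γ, ∀ x ∈ F a γ, e γ (e γ x) = e γ x := by
      intro γ x hx
      conv_rhs => rw [← hex γ x hx, map_sum]
      by_cases hγ : γ ∈ S
      · rw [Finset.sum_eq_single γ (fun η hη hne => he0 γ η (lt_of_le_of_ne (Finset.mem_filter.mp hη).2 (Ne.symm hne)) _ (heF η x))
          (fun h => absurd (Finset.mem_filter.mpr ⟨hγ, le_rfl⟩) h)]
      · have h0 : ∀ z, e γ z = 0 := fun z => by
          have hb : G γ = ⊥ := by_contra fun h => hγ (hS γ h)
          show pro (pr γ (inc z)) = 0
          rw [show pr γ (inc z) = 0 from (Submodule.mem_bot R).mp (hb ▸ Submodule.coe_mem _), map_zero]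
        simp [h0]
    let H : Γ → Submodule R (M a) := fun γ => (F a γ).map (e γ)
    have hHF : ∀ γ, H γ ≤ F a γ := fun γ => by rintro _ ⟨x, -, rfl⟩; exact heF γ x
    have hgen : ∀ γ, F a γ ≤ ⨆ η ∈ Set.Ici γ, H η := by
      suffices h : ∀ (k : ℕ) γ, (S.filter (fun η => γ ≤ η)).card = k → F a γ ≤ ⨆ η ∈ Set.Ici γ, H η from fun γ => h _ γ rfl
      intro k
      induction k using Nat.strong_induction_on with
      | _ k ih =>
        intro γ hk x hx
        rcases (S.filter (fun η => γ ≤ η)).eq_empty_or_nonempty with hT | hT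
        · rw [← hex γ x hx, hT, Finset.sum_empty]; exact zero_mem _
        · have hμ := Finset.mem_filter.mp (Finset.min'_mem _ hT)
          set μ := (S.filter (fun η => γ ≤ η)).min' hT with hμdef
          have hxμ : x ∈ F a μ := by
            rw [← hex γ x hx]
            exact sum_mem fun η hη => hF a (Finset.min'_le _ η hη) (heF η x)
          have hrest : ∀ η ∈ (S.filter (fun η => γ ≤ η)).erase μ, e η x ∈ ⨆ ζ ∈ Set.Ici γ, H ζ := by
            intro η hη
            obtain ⟨hne, hη'⟩ := Finset.mem_erase.mp hη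
            have hlt : μ < η := lt_of_le_of_ne (Finset.min'_le _ η hη') (Ne.symm hne)
            have hsub : S.filter (fun ζ => η ≤ ζ) ⊂ S.filter (fun ζ => γ ≤ ζ) := by
              rw [Finset.ssubset_iff_of_subset (Finset.monotone_filter_right _ fun ζ _ hζ => (Finset.mem_filter.mp hη').2.trans hζ)]
              exact ⟨μ, Finset.min'_mem _ hT, fun h => absurd (Finset.mem_filter.mp h).2 (not_le.mpr hlt)⟩
            have h1 := ih _ (hk ▸ Finset.card_lt_card hsub) η rfl (heF η x)
            exact (iSup₂_le fun ζ hζ => le_iSup₂_of_le ζ ((Finset.mem_filter.mp hη').2.trans hζ) le_rfl :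
              (⨆ ζ ∈ Set.Ici η, H ζ) ≤ ⨆ ζ ∈ Set.Ici γ, H ζ) h1
          rw [← hex γ x hx, ← Finset.add_sum_erase _ _ (Finset.min'_mem _ hT)]
          exact add_mem (le_iSup₂ (f := fun ζ (_ : ζ ∈ Set.Ici γ) => H ζ) μ hμ.2 ⟨x, hxμ, rfl⟩) (sum_mem hrest)
    refine ⟨H, (DirectSum.isInternal_submodule_iff_iSupIndep_and_iSup_eq_top H).mpr ⟨?_, eq_top_iff.mpr ?_⟩,
      fun γ => le_antisymm (hgen γ) (iSup₂_le fun η hη => (hHF η).trans (hF a hη))⟩
    · rw [iSupIndep_iff_dfinsupp_lsum_injective, injective_iff_map_eq_zero]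
      intro f hf
      by_contra hne
      have hsupp : f.support.Nonempty := Finset.nonempty_iff_ne_empty.mpr (mt DFinsupp.support_eq_empty.mp hne)
      set μ := f.support.min' hsupp
      rw [DFinsupp.lsum_apply_apply, DFinsupp.sumAddHom_apply, DFinsupp.sum] at hf
      have h1 := congrArg (e μ) hf
      rw [map_sum, map_zero, Finset.sum_eq_single μ (fun η hη hne => ?_) (fun h => absurd (Finset.min'_mem _ hsupp) h)] at h1
      · obtain ⟨y, hy, hyx⟩ := (f μ).2
        have hid := hidem μ y hy
        rw [hyx] at hid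
        exact DFinsupp.mem_support_iff.mp (Finset.min'_mem _ hsupp) (Subtype.ext (hid.symm.trans h1))
      · exact he0 μ η (lt_of_le_of_ne (Finset.min'_le _ η hη) (Ne.symm hne)) _ (hHF η (f η).2)
    · rintro x -
      rw [← hes x]
      refine sum_mem fun η _ => ?_
      exact (iSup₂_le fun ζ _ => le_iSup H ζ : (⨆ ζ ∈ Set.Ici η, H ζ) ≤ ⨆ ζ, H ζ) (hgen η (heF η x))
  · intro h
    choose G hG hFG using h
    let P : Γ → Submodule R (∀ a, M a) := fun γ => Submodule.pi Set.univ (fun a => G a γ)
    have hsingle : ∀ (a : A) γ, ∀ y ∈ G a γ, (LinearMap.single R M a y) ∈ P γ := fun a γ y hy b _ => by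
      by_cases hb : b = a
      · subst hb; simpa using hy
      · simp [Pi.single_eq_of_ne hb]
    have hbuild : ∀ (q : Γ → Prop) (x : ∀ a, M a), (∀ a, x a ∈ ⨆ η, ⨆ (_ : q η), G a η) → x ∈ ⨆ η, ⨆ (_ : q η), P η := by
      intro q x hx
      rw [show x = ∑ a, LinearMap.single R M a (x a) from (Finset.univ_sum_single x).symm]
      refine sum_mem fun a _ => ?_
      have := Submodule.mem_map_of_mem (f := LinearMap.single R M a) (hx a)
      simp only [Submodule.map_iSup] at this
      exact (iSup₂_le fun η hη => le_iSup₂_of_le η hη (Submodule.map_le_iff_le_comap.mpr fun y hy => hsingle a η y hy) :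
        (⨆ η, ⨆ (_ : q η), Submodule.map (LinearMap.single R M a) (G a η)) ≤ ⨆ η, ⨆ (_ : q η), P η) this
    refine ⟨P, (DirectSum.isInternal_submodule_iff_iSupIndep_and_iSup_eq_top P).mpr ⟨?_, eq_top_iff.mpr fun x _ => ?_⟩, fun γ => le_antisymm ?_ ?_⟩
    · intro γ
      rw [Submodule.disjoint_def]
      intro x hx hx'
      funext a
      have h1 : Submodule.map (LinearMap.proj a) (⨆ (j) (_ : j ≠ γ), P j) ≤ ⨆ (j) (_ : j ≠ γ), G a j := by
        simp only [Submodule.map_iSup]
        exact iSup₂_mono fun j _ => Submodule.map_le_iff_le_comap.mpr fun y hy => hy a trivial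
      exact Submodule.disjoint_def.mp ((hG a).submodule_iSupIndep γ) _ (hx a trivial) (h1 (Submodule.mem_map_of_mem hx'))
    · have h1 := hbuild (fun _ => True) x (fun a => by simp [(hG a).submodule_iSup_eq_top])
      simpa using h1
    · intro x hx
      refine hbuild (fun η => η ∈ Set.Ici γ) x fun a => ?_
      have := hx a trivial
      simp only [hFG a γ] at this
      exact this
    · refine iSup₂_le fun η hη x hx a _ => ?_
      show x a ∈ F a γ
      rw [hFG a γ]
      exact le_iSup₂ (f := fun ζ (_ : ζ ∈ Set.Ici γ) => G a ζ) η hη (hx a trivial)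

end Groth.Agent.S19158
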