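import Groth.Statements.S19161
import Groth.Agent.RootDLib.Dom
-- import your own Groth.Agent.* helpers here

set_option autoImplicit false
open RootPairing
open RootD

namespace Groth.Agent.S19161

/-- Let P be a root datum (root pairing over ℤ, finitely many roots), S a system of positive roots, W
the Weyl group, Γ a non-trivial totally ordered commutative group and f₁, f₂ : M → Γ additive maps
which are dominant (f_i(α) ≥ 0 for α ∈ S). Then f₁ ≤ f₂ in the weak dominance order (f₁(m) ≤ f₂(m)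
for every dominant weight m, i.e. every m with ⟨m, α∨⟩ ≥ 0 for all α ∈ S) if and only if, for every
non-empty finite W-stable subset X ⊆ M, the maximum of f₁ on X is at most the maximum of f₂ on X.
(The source phrases the right-hand side through W-invariant elements x of ℕ[M] and the largest
element of the support of f_i(x) in ℤ[Γ]; for ℕ-coefficients that largest element is the maximum of
f_i over the support of x.) -/
theorem result {ι M N : Type*} [AddCommGroup M] [AddCommGroup N]
    (P : RootPairing ι ℤ M N) [Finite ι] (S : Set ι) (hS : RootD.IsPosSys P S)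
    {Γ : Type*} [AddCommGroup Γ] [LinearOrder Γ] [IsOrderedAddMonoid Γ] [Nontrivial Γ] (f₁ f₂ : M →+ Γ)
    (hf₁ : ∀ i ∈ S, 0 ≤ f₁ (P.root i)) (hf₂ : ∀ i ∈ S, 0 ≤ f₂ (P.root i)) :
    (∀ m : M, (∀ i ∈ S, 0 ≤ P.coroot' i m) → f₁ m ≤ f₂ m) ↔
    ∀ (X : Finset M) (hX : X.Nonempty), (∀ g : P.Aut, g ∈ P.weylGroup → ∀ m ∈ X, RootPairing.Equiv.weightHom P g m ∈ X) →
      X.sup' hX f₁ ≤ X.sup' hX f₂ := by
  classical
  haveI := Fintype.ofFinite ι
  have hw : ∀ (g : P.Aut) (m : M), RootPairing.Equiv.weightHom P g m = g • m := fun _ _ => rfl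
  simp only [hw]
  constructor
  · intro h X hX hst
    refine Finset.sup'_le _ _ fun x hx => ?_
    obtain ⟨g, hg, hgx⟩ := Groth.Agent.RootDLib.exists_dominant_translate P hS x
    have h1 := Groth.Agent.RootDLib.dominant_le P hS f₁ hf₁ (inv_mem hg) hgx
    rw [inv_smul_smul] at h1
    exact (h1.trans (h _ hgx)).trans (Finset.le_sup' f₂ (hst g hg x hx))
  · intro h m hm
    haveI := Groth.Agent.RootDLib.finite_weylGroup P hS
    obtain ⟨X, hX⟩ : ∃ X : Finset M, ∀ x, x ∈ X ↔ ∃ g ∈ P.weylGroup, g • m = x :=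
      ⟨(Set.finite_range fun g : P.weylGroup => (g : P.Aut) • m).toFinset, fun x => by
        rw [Set.Finite.mem_toFinset, Set.mem_range]
        exact ⟨fun ⟨a, e⟩ => ⟨a.1, a.2, e⟩, fun ⟨a, ha, e⟩ => ⟨⟨a, ha⟩, e⟩⟩⟩
    have hmX : m ∈ X := (hX m).2 ⟨1, one_mem _, one_smul _ m⟩
    have h1 := h X ⟨m, hmX⟩ fun g hg x hx => by
      obtain ⟨a, ha, rfl⟩ := (hX x).1 hx
      exact (hX _).2 ⟨g * a, mul_mem hg ha, mul_smul g a m⟩
    refine ((Finset.le_sup' f₁ hmX).trans h1).trans (Finset.sup'_le _ _ fun x hx => ?_)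
    obtain ⟨a, ha, rfl⟩ := (hX x).1 hx
    exact Groth.Agent.RootDLib.dominant_le P hS f₂ hf₂ ha hm

end Groth.Agent.S19161
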