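import Groth.Statements.S1917
import Groth.Agent.CrossLib.Main

set_option autoImplicit false
universe u
open CategoryTheory CategoryTheory.Limits AlgebraicGeometry
open IntMult

namespace Groth.Agent.S1917

/-- Let X, Y be varieties over an algebraically closed field K (integral, separated, of finite type), α
an r-cycle on X and β an s-cycle on Y. If α or β is rationally equivalent to zero then so is the
exterior product α × β, an (r + s)-cycle on X ×_K Y (any cycle with the exterior-product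
coefficients). Dimension functions are transcendence degrees of residue fields over K. -/
theorem result (K : Type u) [Field K] [IsAlgClosed K] (X Y : Scheme.{u}) (f : X ⟶ Spec (CommRingCat.of K)) (g : Y ⟶ Spec (CommRingCat.of K)) [IsIntegral X] [IsIntegral Y] [IsSeparated f] [IsSeparated g] [LocallyOfFiniteType f] [LocallyOfFiniteType g] [QuasiCompact f] [QuasiCompact g] (δX : X → ℤ) (δY : Y → ℤ) (δ : ↥(pullback f g) → ℤ) (hX : Cyc.DeltaCompat f δX (fun _ => 0)) (hY : Cyc.DeltaCompat g δY (fun _ => 0)) (hXY : Cyc.DeltaCompat (pullback.fst f g ≫ f) δ (fun _ => 0)) (r s : ℤ) (α : AlgebraicCycle X ℤ) (β : AlgebraicCycle Y ℤ) (hα : α ∈ Cyc.Zk X δX r) (hβ : β ∈ Cyc.Zk Y δY s) (h0 : Cyc.RatEquivZero δX r α ∨ Cyc.RatEquivZero δY s β) (γ : AlgebraicCycle (pullback f g) ℤ) (hγ : ⇑γ = IntMult.extProd f g δX δY δ ⇑α ⇑β) : Cyc.RatEquivZero δ (r + s) γ := by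
  classical
  have key : ∀ {A B P : Scheme.{u}} (pA : A ⟶ Spec (CommRingCat.of K)) (pB : B ⟶ Spec (CommRingCat.of K))
      [LocallyOfFiniteType pA] [LocallyOfFiniteType pB] (q₁ : P ⟶ A) (q₂ : P ⟶ B), IsPullback q₁ q₂ pA pB →
      ∀ (dA : A → ℤ) (dB : B → ℤ) (dP : P → ℤ), Cyc.DeltaCompat pA dA (fun _ => 0) →
      Cyc.DeltaCompat pB dB (fun _ => 0) → Cyc.DeltaCompat q₁ dP dA →
      ∀ (a b : ℤ) (u : AlgebraicCycle A ℤ) (v : AlgebraicCycle B ℤ), Cyc.RatEquivZero dA a u → v ∈ Cyc.Zk B dB b →
      ∀ (ζ : AlgebraicCycle P ℤ), (∀ t, ζ t = if dP t = dA (q₁ t) + dB (q₂ t) then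
          u (q₁ t) * v (q₂ t) * ((Module.length (P.presheaf.stalk t) (P.presheaf.stalk t ⧸
            (Groth.Agent.CycLib.fibIdeal q₁ t ⊔ Groth.Agent.CycLib.fibIdeal q₂ t))).toNat : ℤ) else 0) →
      Cyc.RatEquivZero dP (a + b) ζ := by
    intro A B P pA pB _ _ q₁ q₂ hP dA dB dP hA hB hq a b u v hu hv ζ hζ
    haveI : LocallyOfFiniteType q₁ := MorphismProperty.of_isPullback hP.flip (inferInstance : LocallyOfFiniteType pB)
    have hsA := Groth.Agent.CycLib.isSetup_of_lft pA (Groth.Agent.CycLib.isSetup_spec_field K) hA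
    have hsB := Groth.Agent.CycLib.isSetup_of_lft pB (Groth.Agent.CycLib.isSetup_spec_field K) hB
    have hsP := Groth.Agent.CycLib.isSetup_of_lft q₁ hsA hq
    haveI := hsA.1
    haveI := hsB.1
    haveI := hsP.1
    rcases lt_or_ge b 0 with hneg | hnn
    · have hv0 : v = 0 := Function.locallyFinsuppWithin.ext fun y => by
        by_contra hy
        obtain ⟨n, -, hn⟩ := hB y
        exact hy (hv y (by simp at hn; omega))
      have hζ0 : ζ = 0 := Function.locallyFinsuppWithin.ext fun t => by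
        rw [hζ, hv0]
        split_ifs <;> simp
      rw [hζ0]
      exact Groth.Agent.CycLib.ratEquivZero_zero
    · obtain ⟨c, rfl⟩ : ∃ c : ℕ, b = c := ⟨b.toNat, (Int.toNat_of_nonneg hnn).symm⟩
      have pos : ∀ w : AlgebraicCycle B ℤ, w ∈ Cyc.Zk B dB c → (∀ y, 0 ≤ w y) → ∃ η : AlgebraicCycle P ℤ,
          Cyc.RatEquivZero dP (a + c) η ∧ ∀ t, η t = if dP t = dA (q₁ t) + dB (q₂ t) then
            u (q₁ t) * w (q₂ t) * ((Module.length (P.presheaf.stalk t) (P.presheaf.stalk t ⧸
              (Groth.Agent.CycLib.fibIdeal q₁ t ⊔ Groth.Agent.CycLib.fibIdeal q₂ t))).toNat : ℤ) else 0 := by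
        intro w hw hpos
        obtain ⟨D⟩ := Groth.Agent.CrossLib.exists_data pA pB q₁ q₂ hP dA dB dP hA hB hq w hw
        haveI := D.fin
        haveI := D.flat
        haveI := D.lft
        haveI := D.setup.1
        exact ⟨AlgebraicCycle.map D.h D.δ' dP (Groth.Agent.CycLib.pullHom D.shift D.setup.2.2 u),
          Groth.Agent.CycLib.ratEquivZero_map D.h D.setup hsP D.compat
            (Groth.Agent.CycLib.ratEquivZero_pull D.shift D.setup.2.2 hsA.2.2 hu _ rfl),
          Groth.Agent.CrossLib.map_pullCycle_apply pA pB q₁ q₂ hP dA dB dP hA hB hq w hw hpos D u _ rfl⟩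
      obtain ⟨η₁, h₁, e₁⟩ := pos (Groth.Agent.CrossLib.posCycle v)
        (fun y hy => by rw [Groth.Agent.CrossLib.posCycle_apply, hv y hy, max_self]) fun y => le_max_right _ _
      obtain ⟨η₂, h₂, e₂⟩ := pos (Groth.Agent.CrossLib.posCycle (-v)) (fun y hy => by
        show max (-(v y)) 0 = 0
        rw [hv y hy, neg_zero, max_self]) fun y => le_max_right _ _
      have hd : ζ = η₁ - η₂ := Function.locallyFinsuppWithin.ext fun t => by
        show ζ t = η₁ t - η₂ t
        rw [hζ, e₁, e₂]
        have hvd : v (q₂ t) = max (v (q₂ t)) 0 - max (-(v (q₂ t))) 0 := by omega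
        split_ifs
        · show _ = u (q₁ t) * max (v (q₂ t)) 0 * _ - u (q₁ t) * max (-(v (q₂ t))) 0 * _
          conv_lhs => rw [hvd]
          ring
        · rfl
      rw [hd]
      exact Groth.Agent.CycLib.ratEquivZero_sub hsP.2.2 h₁ h₂
  rcases h0 with h0 | h0
  · have hd₁ : Cyc.DeltaCompat (pullback.fst f g) δ δX :=
      Groth.Agent.BivarLib.deltaCompat_of_comp (pullback.fst f g) f hXY hX
    exact key f g _ _ (IsPullback.of_hasPullback f g) δX δY δ hX hY hd₁ r s α β h0 hβ γ fun t => congrFun hγ t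
  · have hd₂ : Cyc.DeltaCompat (pullback.snd f g) δ δY :=
      Groth.Agent.BivarLib.deltaCompat_of_comp (pullback.snd f g) g (pullback.condition (f := f) (g := g) ▸ hXY) hY
    rw [add_comm r s]
    refine key g f _ _ (IsPullback.of_hasPullback f g).flip δY δX δ hY hX hd₂ s r β α h0 hα γ fun t => ?_
    rw [congrFun hγ t, IntMult.extProd]
    have hI : ∀ I J : Ideal ((pullback f g).presheaf.stalk t), I = J →
        Module.length ((pullback f g).presheaf.stalk t) ((pullback f g).presheaf.stalk t ⧸ I) =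
          Module.length ((pullback f g).presheaf.stalk t) ((pullback f g).presheaf.stalk t ⧸ J) := by
      rintro I _ rfl
      rfl
    simp only [add_comm (δX (pullback.fst f g t)), mul_comm (α (pullback.fst f g t))]
    rw [hI _ _ (sup_comm _ _)]

end Groth.Agent.S1917
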