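import Groth.Statements.S19172
import Mathlib
import Groth.Agent.ProComplLib.Basic
-- import your own Groth.Agent.* helpers here

set_option autoImplicit false
universe u v w
open ProCompl

namespace Groth.Agent.S19172

open W4c61motalbduality in
/-- Let i : A → B and p : B → C be continuous homomorphisms of topological abelian groups with p
surjective and open and with the kernel of p equal to the image of i. Then the induced sequence of
completions with respect to open subgroups of finite index, A^∧ → B^∧ → C^∧ → 0, is exact: the map
B^∧ → C^∧ is surjective and its kernel is the image of A^∧. The completion is the group of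
compatible families of residues modulo all open subgroups of finite index. (The published statement
takes i injective, as the first map of an exact sequence 0 → A → B → C → 0 of topological abelian
groups; here it is only assumed that the image of i is the kernel of p, which is all the proof
uses.) -/
theorem result
    {A : Type u} {B : Type v} {C : Type w}
    [AddCommGroup A] [TopologicalSpace A] [IsTopologicalAddGroup A]
    [AddCommGroup B] [TopologicalSpace B] [IsTopologicalAddGroup B]
    [AddCommGroup C] [TopologicalSpace C] [IsTopologicalAddGroup C]
    (i : A →+ B) (hi : Continuous i) (p : B →+ C) (hp : Continuous p)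
    (hpo : IsOpenMap p) (hps : Function.Surjective p) (hex : p.ker = i.range) :
    Function.Surjective (FICompl.map p hp) ∧ (FICompl.map p hp).ker = (FICompl.map i hi).range := by
  constructor
  · intro z
    refine (Groth.Agent.ProComplLib.mem_range_map_iff p hp z).2 fun V => ?_
    obtain ⟨c, hc⟩ := QuotientAddGroup.mk_surjective (z.1 V)
    obtain ⟨b, rfl⟩ := hps c
    exact ⟨b, hc⟩
  · ext y
    rw [AddMonoidHom.mem_ker]
    constructor
    · intro hy
      refine (Groth.Agent.ProComplLib.mem_range_map_iff i hi y).2 fun V => ?_
      let W : W4c61motalbduality.OpenFI C :=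
        ⟨V.toAddSubgroup.map p, hpo _ V.isOpen', ⟨by
          have := V.finiteIndex'
          rw [AddSubgroup.index_map, AddMonoidHom.range_eq_top.2 hps, AddSubgroup.index_top,
            mul_one]
          exact (AddSubgroup.finiteIndex_of_le (H := V.toAddSubgroup) le_sup_left).index_ne_zero⟩⟩
      have hle : V.toAddSubgroup ≤ (W.comap p hp).toAddSubgroup := fun v hv => ⟨v, hv, rfl⟩
      have h0 : y.1 (W.comap p hp) = 0 := by
        apply Groth.Agent.ProComplLib.map_comap_injective p hp W
        rw [map_zero]
        exact congrArg (fun z : W4c61motalbduality.FICompl C => z.1 W) hy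
      obtain ⟨b, hb⟩ := QuotientAddGroup.mk_surjective (y.1 V)
      have hc := y.2 V (W.comap p hp) hle
      rw [h0, ← hb] at hc
      obtain ⟨v, hv, hvb⟩ : b ∈ (W.comap p hp).toAddSubgroup :=
        (QuotientAddGroup.eq_zero_iff b).1 hc
      obtain ⟨a, ha⟩ : b - v ∈ i.range := hex ▸ (show p (b - v) = 0 by rw [map_sub, hvb, sub_self])
      refine ⟨a, ?_⟩
      rw [← hb, ha, QuotientAddGroup.mk_sub, (QuotientAddGroup.eq_zero_iff v).2 hv, sub_zero]
    · rintro ⟨x, rfl⟩
      refine Subtype.ext (funext fun W => ?_)
      obtain ⟨a, ha⟩ := QuotientAddGroup.mk_surjective (x.1 ((W.comap p hp).comap i hi))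
      have hpi : p (i a) = 0 := (hex ▸ (⟨a, rfl⟩ : i a ∈ i.range) : i a ∈ p.ker)
      show QuotientAddGroup.map (W.comap p hp).toAddSubgroup W.toAddSubgroup p _
        (QuotientAddGroup.map ((W.comap p hp).comap i hi).toAddSubgroup _ i _ _) = 0
      rw [← ha]
      show ((p (i a) : C) : C ⧸ W.toAddSubgroup) = 0
      rw [hpi]
      rfl

end Groth.Agent.S19172
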