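import Groth.Statements.S19173
import Mathlib
import Groth.Agent.ProComplLib.Basic
-- import your own Groth.Agent.* helpers here

set_option autoImplicit false
universe u v
open ProCompl

namespace Groth.Agent.S19173

open W4c61motalbduality Topology in
/-- Let B be a Hausdorff, locally compact, totally disconnected topological abelian group generated as a
group by a compact subset, and let i : A → B be an injective continuous homomorphism inducing the
topology of A from that of B (a strict injection) with closed image. Then the map induced by i on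
completions with respect to open subgroups of finite index is injective; together with right
exactness for open surjections this makes 0 → A^∧ → B^∧ → C^∧ → 0 exact for a topological exact
sequence 0 → A → B → C → 0 with such B, strict closed i and open p. -/
theorem result
    {A : Type u} {B : Type v} [AddCommGroup A] [TopologicalSpace A] [IsTopologicalAddGroup A]
    [AddCommGroup B] [TopologicalSpace B] [IsTopologicalAddGroup B]
    [T2Space B] [LocallyCompactSpace B] [TotallyDisconnectedSpace B]
    (hcg : ∃ K : Set B, IsCompact K ∧ AddSubgroup.closure K = ⊤)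
    (i : A →+ B) (hi : Continuous i) (hinj : Function.Injective i) (hind : IsInducing i)
    (hcl : IsClosed (Set.range i)) :
    Function.Injective (FICompl.map i hi) := by
  refine (injective_iff_map_eq_zero _).2 fun x hx => Subtype.ext (funext fun V => ?_)
  refine CharacterModule.eq_zero_of_character_apply fun c => ?_
  let χ : A →+ ℚ ⧸ AddSubgroup.zmultiples (1 : ℚ) :=
    AddMonoidHom.comp c (QuotientAddGroup.mk' V.toAddSubgroup)
  have hVχ : V.toAddSubgroup ≤ χ.ker := fun a ha => by
    show c (a : A ⧸ V.toAddSubgroup) = 0
    rw [(QuotientAddGroup.eq_zero_iff a).2 ha, map_zero]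
  obtain ⟨U, hUo, hψ⟩ : ∃ ψ : B →+ ℚ ⧸ AddSubgroup.zmultiples (1 : ℚ),
      IsOpen (ψ.ker : Set B) ∧ ψ.comp i = χ := by
    obtain ⟨W, hWo, hW⟩ := hind.isOpen_iff.1 (AddSubgroup.isOpen_mono hVχ V.isOpen')
    obtain ⟨U, hUo, -, hUW⟩ := Groth.Agent.ProComplLib.exists_compact_open_subgroup (U := W) (hWo.mem_nhds (by
      have h0 : (0 : A) ∈ i ⁻¹' W := hW ▸ χ.ker.zero_mem
      simpa using h0))
    obtain ⟨ψ, hψU, hψ⟩ := Groth.Agent.ProComplLib.exists_extend_of_le i U χ fun a ha => by
      have : a ∈ i ⁻¹' W := hUW ha
      rw [hW] at this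
      exact this
    exact ⟨ψ, AddSubgroup.isOpen_mono hψU hUo, hψ⟩
  let Wf : W4c61motalbduality.OpenFI B :=
    ⟨U.ker, hUo, Groth.Agent.ProComplLib.finiteIndex_ker_of_isOpen hcg U hUo⟩
  have h0 : x.1 (Wf.comap i hi) = 0 := by
    apply Groth.Agent.ProComplLib.map_comap_injective i hi Wf
    rw [map_zero]
    exact congrArg (fun y : W4c61motalbduality.FICompl B => y.1 Wf) hx
  have hle : V.toAddSubgroup ≤ (Wf.comap i hi).toAddSubgroup := fun a ha => by
    show U (i a) = 0
    exact (DFunLike.congr_fun hψ a).trans (hVχ ha)
  have hc := x.2 V (Wf.comap i hi) hle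
  obtain ⟨a, ha⟩ := QuotientAddGroup.mk_surjective (x.1 V)
  rw [h0, ← ha] at hc
  rw [← ha]
  have : a ∈ (Wf.comap i hi).toAddSubgroup := (QuotientAddGroup.eq_zero_iff a).1 hc
  exact (DFunLike.congr_fun hψ a).symm.trans this

end Groth.Agent.S19173
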