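import Groth.Statements.S19174
import Groth.Agent.SubAdjLib.Contract
import Groth.Agent.SubAdjLib.Semistable

set_option autoImplicit false
universe u
open CategoryTheory CategoryTheory.Limits AlgebraicGeometry
open Curves

namespace Groth.Agent.S19174

open CategoryTheory CategoryTheory.Limits AlgebraicGeometry

set_option backward.isDefEq.respectTransparency false
set_option backward.isDefEq.respectTransparency.types false
set_option linter.style.haveILetI false
set_option maxHeartbeats 1000000
open Groth.Agent.SubAdjLib Groth.Agent.CliffCurveLib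
attribute [local instance] HasDerivedCategory.standard

/-- Let k be an algebraically closed field of characteristic zero and C a proper reduced connected
one-dimensional scheme over k with at-worst-nodal singularities and dim_k H^1(C, O_C) = 1 (a
connected nodal curve of arithmetic genus one). Let π : C → P^1_k be a morphism over k contracting
no connected subcurve of arithmetic genus one: for every reduced connected one-dimensional closed
subscheme Y of C on which π is constant, dim_k H^1(Y, O_Y) = 0. Then H^1(C, π^*O(1)) = 0 and H^1(C,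
π^*O(2)) = 0, where O(d) is the d-th twisting sheaf of P^1_k. -/
theorem result (k : Type u) [Field k] [IsAlgClosed k] [CharZero k]
    (C : Scheme.{u}) [C.Over (Spec (CommRingCat.of k))] [IsProper (C ↘ (Spec (CommRingCat.of k)))]
    [AlgebraicGeometry.IsReduced C] [ConnectedSpace C] (hdim : topologicalKrullDim C = 1)
    (hC : Curv2.AtWorstNodal k C) (hg : Curv2.genus k C = 1)
    (π : C ⟶ CohB1.ProjSpace 1 k) (hπ : π ≫ CohB1.ProjSpace.toSpec 1 k = C ↘ (Spec (CommRingCat.of k)))
    (hcontr : ∀ J : C.IdealSheafData, AlgebraicGeometry.IsReduced J.subscheme → ConnectedSpace J.subscheme →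
      topologicalKrullDim J.subscheme = 1 →
      (∀ x y : J.subscheme, (J.subschemeι ≫ π).base x = (J.subschemeι ≫ π).base y) →
      @Curv2.genus k _ J.subscheme ⟨J.subschemeι ≫ (C ↘ (Spec (CommRingCat.of k)))⟩ = 0) :
    Subsingleton (Coh.HH C ((Scheme.Modules.pullback π).obj (Twist.twistProjSpace 1 k 1)) 1) ∧
      Subsingleton (Coh.HH C ((Scheme.Modules.pullback π).obj (Twist.twistProjSpace 1 k 2)) 1) := by
  haveI := EulerIneqLib.isNoetherian_proper (X := C) k
  have h : ∀ d : ℕ, 0 < d → Subsingleton (Coh.HH C ((Scheme.Modules.pullback π).obj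
      (Twist.twistProjSpace 1 k d)) 1) := by
    intro d hd
    have ha : CohB1.IsAmple (Twist.twistProjSpace 1 k (d : ℤ)) :=
      (S10962.result k 1 le_rfl (d : ℤ)).2 (by exact_mod_cast hd)
    refine subsingleton_H1_of_degS k hdim (AmpleLib.isInvertible_pullback _ ha.1) fun S hS => ?_
    obtain ⟨h0, h1⟩ := degS_pullback k hdim.le (CohB1.ProjSpace.toSpec 1 k) hπ ha hS
    have hgS := gS_le_genus (k := k) hdim.le S
    rw [hg] at hgS
    by_contra hlt
    have hgS1 : gS k S = 1 := by omega
    have hmem : ∀ w, (vI S).subschemeι w ∈ S := fun w => mem_support_vI.1 (by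
      rw [← SetLike.mem_coe, ← Scheme.IdealSheafData.range_subschemeι]; exact Set.mem_range_self w)
    have := hcontr (vI S) (DVRCrit.isReduced_vanishingIdeal S) (connectedSpace_vI hS.1)
      (dim_vI_eq_one hdim.le hS.2) fun x y => h1 (by omega) _ (hmem x) _ (hmem y)
    rw [gS_eq] at hgS1
    omega
  exact ⟨h 1 one_pos, h 2 two_pos⟩

end Groth.Agent.S19174
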