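import Groth.Statements.S19476
import Groth.Agent.GenSeesawLib.Scheme
import Groth.Agent.VBLib.Point
-- import your own Groth.Agent.* helpers here

set_option autoImplicit false
set_option backward.isDefEq.respectTransparency false
set_option backward.isDefEq.respectTransparency.types false
set_option linter.style.haveILetI false
universe u
open CategoryTheory CategoryTheory.Limits AlgebraicGeometry
open PicF

namespace Groth.Agent.S19476

/-- Let S be a locally Noetherian scheme, f : X → S flat and proper with integral geometric fibres, and
L a line bundle on X (a locally free module of rank 1). Then there is a closed subscheme Z ⊆ S with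
the following universal property among locally Noetherian S-schemes: a morphism u : T → S with T
locally Noetherian factors through Z if and only if the pullback of L to X ×_S T is isomorphic to
the pullback along the projection X ×_S T → T of some line bundle on T, i.e. is trivial relative to
T. (Only the existence of such a closed subscheme is asserted.) -/
theorem result {X S : Scheme.{u}} (f : X ⟶ S)
    [IsProper f] [Flat f] [GeometricallyIntegral f] [IsLocallyNoetherian S]
    (L : X.Modules) (hL : FlatMod.IsFinLocFreeOfRank 1 L) :
    ∃ (Z : Scheme.{u}) (ι : Z ⟶ S), IsClosedImmersion ι ∧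
      ∀ (T : Scheme.{u}) (u : T ⟶ S), IsLocallyNoetherian T →
        ((∃ u' : T ⟶ Z, u' ≫ ι = u) ↔
          ∃ M : T.Modules, FlatMod.IsFinLocFreeOfRank 1 M ∧
            Nonempty ((Scheme.Modules.pullback (pullback.fst f u)).obj L ≅
              (Scheme.Modules.pullback (pullback.snd f u)).obj M)) := by
  haveI : LocallyOfFinitePresentation f := inferInstance
  obtain ⟨Z, ι, hι, -, hu⟩ := GenSeesawLib.exists_seesaw_subscheme f (VBLib.isInvertible_of_rank hL)
  refine ⟨Z, ι, hι, fun T u _ => (hu T u).trans ?_⟩
  exact ⟨fun ⟨M, hM, ⟨e⟩⟩ => ⟨M, CurveLib.isFinLocFreeOfRank_one hM, ⟨e.symm⟩⟩,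
    fun ⟨M, hM, ⟨e⟩⟩ => ⟨M, VBLib.isInvertible_of_rank hM, ⟨e.symm⟩⟩⟩

end Groth.Agent.S19476
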