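import Groth.Statements.S19175
import Groth.Agent.S13076
import Groth.Agent.S19476
import Groth.Agent.S14836
import Groth.Agent.S2553
import Groth.Agent.RuledPushLib.Basic
import Groth.Agent.AVLib.AmpleCrit
import Groth.Agent.PicTrivLib.Fiber
import Groth.Agent.CastLib.PicTors
import Groth.Agent.NumPullLib.Basic
import Groth.Agent.NakaiLib.ProperKleiman
import Groth.Agent.GeomRedDesc.Basic

set_option autoImplicit false
universe u
open CategoryTheory CategoryTheory.Limits AlgebraicGeometry
open Surf

namespace Groth.Agent.S19175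

section Num

open Groth.Agent Groth.Agent.TwistShriek Groth.Agent.Nakai Groth.Agent.IntLib

variable (k : Type u) [Field k] {X B : Scheme.{u}} [X.Over (Spec (CommRingCat.of k))] [B.Over (Spec (CommRingCat.of k))]
  [IsProper (X ↘ Spec (CommRingCat.of k))] [IsProper (B ↘ Spec (CommRingCat.of k))] [AlgebraicGeometry.IsIntegral B]

/-- The degree as a pairing. -/
theorem deg_eq_pairing {L : B.Modules} (hL : PicF.IsInvertible L) :
    Curv2.deg k B L 1 = IntLib.pairing k (Coh.structureModule B) (Nakai.cl hL) := by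
  haveI : Coh.IsQCoh (Coh.structureModule B) :=
    haveI := EulerIneqLib.isNoetherian_proper (X := B) k
    (DevLib.isCoh_structureModule B).1
  rw [Nakai.pairing_cl, CurveLib.euler_iso (K := k) (AmpleLib.unitL L)]
  unfold Curv2.deg
  rw [Nat.cast_one, one_mul]

theorem dim_supp_O (hB : topologicalKrullDim B = 1) :
    topologicalKrullDim (CohB1.support (Coh.structureModule B)) < ((2 : ℕ) : WithBot ℕ∞) :=
  lt_of_le_of_lt (Topology.IsInducing.subtypeVal.topologicalKrullDim_le.trans hB.le) (by norm_num)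

theorem pairing_sq (hB : topologicalKrullDim B = 1) {z : PicRing B} (hz : z ∈ Aug B ^ 2) :
    IntLib.pairing k (Coh.structureModule B) z = 0 := by
  haveI := EulerIneqLib.isNoetherian_proper (X := B) k
  exact Nakai.pairing_mem_eq_zero k (n := 2) hz (DevLib.isCoh_structureModule B) (dim_supp_O hB)

theorem deg_tensor (hB : topologicalKrullDim B = 1) {L M : B.Modules} (hL : PicF.IsInvertible L) (hM : PicF.IsInvertible M) :
    Curv2.deg k B (CohB1.tensorMod L M) 1 = Curv2.deg k B L 1 + Curv2.deg k B M 1 := by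
  rw [deg_eq_pairing k (AmpleLib.isInvertible_tensor hL hM), deg_eq_pairing k hL, deg_eq_pairing k hM,
    Nakai.cl_tensor hL hM, map_add, map_add, add_eq_left]
  exact pairing_sq k hB (by rw [pow_two]; exact Ideal.mul_mem_mul (Nakai.cl_mem _) (Nakai.cl_mem _))

theorem deg_pow (hB : topologicalKrullDim B = 1) {L : B.Modules} (hL : PicF.IsInvertible L) (n : ℕ) :
    Curv2.deg k B (CohB1.tensorPow L n) 1 = n * Curv2.deg k B L 1 := by
  have h := pairing_sq k hB (Nakai.cl_tensorPow_sub_mem hL n)
  rw [map_sub, sub_eq_zero, ← nsmul_eq_mul, map_nsmul, nsmul_eq_mul] at h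
  rwa [deg_eq_pairing k (AmpleLib.isInvertible_tensorPow hL n), deg_eq_pairing k hL]

/-- Pullbacks of modules of the same degree meet every module equally. -/
theorem form_pull_congr (hdim : topologicalKrullDim X = ((2 : ℕ) : WithBot ℕ∞)) (hB : topologicalKrullDim B = 1)
    (f : X ⟶ B) (hf : f ≫ (B ↘ Spec (CommRingCat.of k)) = X ↘ Spec (CommRingCat.of k))
    {A A' : B.Modules} (hA : PicF.IsInvertible A) (hA' : PicF.IsInvertible A')
    (hd : Curv2.deg k B A 1 = Curv2.deg k B A' 1) {N : X.Modules} (hN : PicF.IsInvertible N) :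
    form k (Nakai.cl (AmpleLib.isInvertible_pullback f hA)) (Nakai.cl hN) =
      form k (Nakai.cl (AmpleLib.isInvertible_pullback f hA')) (Nakai.cl hN) := by
  haveI := EulerIneqLib.isNoetherian_proper (X := X) k
  haveI := EulerIneqLib.isNoetherian_proper (X := B) k
  have hcd : ∀ (Y : Scheme.{u}) (ι : Y ⟶ B) [IsClosedImmersion ι], AlgebraicGeometry.IsIntegral Y → topologicalKrullDim Y = 1 →
      Pic13.curveDeg k (ι ≫ (B ↘ Spec (CommRingCat.of k))) ((Scheme.Modules.pullback ι).obj A) =
        Pic13.curveDeg k (ι ≫ (B ↘ Spec (CommRingCat.of k))) ((Scheme.Modules.pullback ι).obj A') := by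
    intro Y ι _ hY hYd
    have hY1 : topologicalKrullDim Y = ((1 : ℕ) : WithBot ℕ∞) := hYd.trans Nat.cast_one.symm
    have hcl : topologicalKrullDim (closure {ι (genericPoint Y)} : Set B) = ((1 : ℕ) : WithBot ℕ∞) := by
      rw [← Set.image_singleton, ι.isClosedEmbedding.closure_image_eq, genericPoint_closure, Set.image_univ, ← hY1]
      exact (ι.isEmbedding.toHomeomorph.isHomeomorph.topologicalKrullDim_eq).symm
    have hηd : topologicalKrullDim (closure {genericPoint B} : Set B) = ((1 : ℕ) : WithBot ℕ∞) := by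
      rw [genericPoint_closure, (Homeomorph.Set.univ B).isHomeomorph.topologicalKrullDim_eq, hB]; rfl
    have hgen : ι (genericPoint Y) = genericPoint B := by_contra fun hne =>
      IntLib.dim_closure_succ ((genericPoint_spec B).specializes trivial) (Ne.symm hne) hcl hηd.le
    have key : ∀ {L : B.Modules} (hL : PicF.IsInvertible L),
        IntLib.pairing k ((Scheme.Modules.pushforward ι).obj (Coh.structureModule Y)) (Nakai.cl hL) =
          Curv2.deg k B L 1 := fun {L} hL => by
      rw [deg_eq_pairing k hL]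
      haveI : IsLocallyNoetherian Y := LocallyOfFiniteType.isLocallyNoetherian ι
      exact Nakai.pairing_piece k (hgen ▸ DevLib.isPiece_pushUnit ι) (Nakai.isPiece_structureModule B) (d := 1)
        (by rw [hηd]; exact_mod_cast Nat.lt_succ_self 1) (by rw [pow_one]; exact Nakai.cl_mem hL)
    rw [Nakai.curveDeg_eq k hA ι hY1, Nakai.curveDeg_eq k hA' ι hY1, key hA, key hA', hd]
  have hP := AmpleLib.isInvertible_pullback f hA
  have hP' := AmpleLib.isInvertible_pullback f hA'
  have hk := IntLib.kills_prod_sub k ![(Scheme.Modules.pullback f).obj A, N] ![(Scheme.Modules.pullback f).obj A', N]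
    (fun i => by fin_cases i <;> assumption) (fun i => by fin_cases i <;> assumption)
    (fun i Y ι _ hY hYd => by
      fin_cases i
      · exact NumPullLib.curveDeg_pullback_eq k f hf A A' hA hA' hcd Y ι hY hYd
      · rfl)
    (Coh.structureModule X) (DevLib.isCoh_structureModule X)
    (lt_of_le_of_lt (Topology.IsInducing.subtypeVal.topologicalKrullDim_le.trans hdim.le)
      (by exact_mod_cast Nat.lt_succ_self 2))
  rw [map_sub, sub_eq_zero, Fin.prod_univ_two, Fin.prod_univ_two] at hk
  rw [form, form, Nakai.cl_eq_neg_dif, Nakai.cl_eq_neg_dif, Nakai.cl_eq_neg_dif, neg_mul_neg, neg_mul_neg]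
  exact hk

theorem form_sq (hdim : topologicalKrullDim X = ((2 : ℕ) : WithBot ℕ∞)) {u v : PicRing X} (hu : u ∈ Aug X ^ 2)
    (hv : v ∈ Aug X) : form k u v = 0 :=
  (Nakai.form_congr k hdim (w := 0) (by rwa [sub_zero]) hv).trans (by rw [form, zero_mul, map_zero])

/-- A pullback from the curve is numerically a multiple of the fibre class. -/
theorem form_pull_eq (hdim : topologicalKrullDim X = ((2 : ℕ) : WithBot ℕ∞)) (hB : topologicalKrullDim B = 1)
    (f : X ⟶ B) (hf : f ≫ (B ↘ Spec (CommRingCat.of k)) = X ↘ Spec (CommRingCat.of k))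
    {A M : B.Modules} (hA : PicF.IsInvertible A) (hM : PicF.IsInvertible M)
    (hd : Curv2.deg k B M 1 = 1) {N : X.Modules} (hN : PicF.IsInvertible N) :
    form k (Nakai.cl (AmpleLib.isInvertible_pullback f hA)) (Nakai.cl hN) =
      Curv2.deg k B A 1 * form k (Nakai.cl (AmpleLib.isInvertible_pullback f hM)) (Nakai.cl hN) := by
  set a := Curv2.deg k B A 1
  let p := (-a).toNat
  let q := a.toNat
  have hMp := AmpleLib.isInvertible_tensorPow hM p
  have hMq := AmpleLib.isInvertible_tensorPow hM q
  have hAp := AmpleLib.isInvertible_tensor hA hMp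
  have hd' : Curv2.deg k B (CohB1.tensorMod A (CohB1.tensorPow M p)) 1 = Curv2.deg k B (CohB1.tensorPow M q) 1 := by
    rw [deg_tensor k hB hA hMp, deg_pow k hB hM, deg_pow k hB hM, hd, mul_one, mul_one]
    omega
  have h := form_pull_congr k hdim hB f hf hAp hMq hd' hN
  rw [← Nakai.pullRing_cl f hAp, ← Nakai.pullRing_cl f hMq] at h
  have hv := Nakai.cl_mem hN
  have e1 : ∀ n : ℕ, form k (Nakai.pullRing f (Nakai.cl (AmpleLib.isInvertible_tensorPow hM n))) (Nakai.cl hN) =
      n * form k (Nakai.cl (AmpleLib.isInvertible_pullback f hM)) (Nakai.cl hN) := fun n => by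
    have hmem := Nakai.pullRing_mem f (Nakai.cl_tensorPow_sub_mem hM n)
    rw [map_sub, map_mul, map_natCast, Nakai.pullRing_cl f hM] at hmem
    rw [Nakai.form_congr k hdim hmem hv, form, form, mul_assoc, ← nsmul_eq_mul, map_nsmul, nsmul_eq_mul]
  have hsq : Nakai.pullRing f (Nakai.cl hA) * Nakai.pullRing f (Nakai.cl hMp) ∈ Aug X ^ 2 := by
    rw [Nakai.pullRing_cl f hA, Nakai.pullRing_cl f hMp, pow_two]
    exact Ideal.mul_mem_mul (Nakai.cl_mem _) (Nakai.cl_mem _)
  rw [e1, Nakai.cl_tensor hA hMp, map_add, map_add, map_mul, Nakai.form_add_left, Nakai.form_add_left, e1,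
    form_sq k hdim hsq hv, add_zero,
    Nakai.pullRing_cl f hA] at h
  have hpq : (q : ℤ) - p = a := by omega
  rw [← hpq, sub_mul]
  linarith

end Num


/-- Let k be an algebraically closed field of characteristic zero, X a smooth proper integral surface
over k and B a smooth proper integral curve over k, and f : X → B a k-morphism each of whose fibres
over a closed point is an integral one-dimensional scheme with at-worst-nodal singularities and
arithmetic genus one (an elliptic fibration all of whose fibres are smooth elliptic or irreducible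
nodal). Let s be a section of f and L_S an invertible O_X-module inverse to the ideal of the closed
immersion s (the class of the curve S = s(B)); let L_F be the pullback along f of an invertible
O_B-module inverse to the ideal of a closed point (the class of a fibre); and let L_C be an
invertible O_X-module whose restriction to the fibre over every closed point of some nonempty open
subset of B is isomorphic to the restriction of L_S (a class agreeing with S on the general fibre).
Then there is an integer m with 2m = (L_S·L_S) − (L_C·L_C) and (L_S·N) = (L_C·N) + m·(L_F·N) for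
every invertible O_X-module N: numerically S ≡ C + ((S² − C²)/2)·F. Here (L·N) = χ(O_X) − χ(L) −
χ(N) + χ(L ⊗ N) is the intersection number of invertible modules on the proper surface X. -/
theorem result (k : Type u) [Field k] [IsAlgClosed k] [CharZero k]
    (X B : Scheme.{u}) [X.Over (Spec (CommRingCat.of k))] [B.Over (Spec (CommRingCat.of k))]
    [IsProper (X ↘ (Spec (CommRingCat.of k)))] [Smooth (X ↘ (Spec (CommRingCat.of k)))] [AlgebraicGeometry.IsIntegral X] (hX2 : topologicalKrullDim X = 2)
    [IsProper (B ↘ (Spec (CommRingCat.of k)))] [Smooth (B ↘ (Spec (CommRingCat.of k)))] [AlgebraicGeometry.IsIntegral B] (hB1 : topologicalKrullDim B = 1)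
    (f : X ⟶ B) (hf : f ≫ (B ↘ (Spec (CommRingCat.of k))) = X ↘ (Spec (CommRingCat.of k)))
    (hfib : ∀ b : B, IsClosed ({b} : Set B) →
      AlgebraicGeometry.IsIntegral (f.fiber b) ∧ topologicalKrullDim (f.fiber b) = 1 ∧
        @Curv2.AtWorstNodal (B.residueField b) _ (f.fiber b) ⟨f.fiberToSpecResidueField b⟩ ∧
        @Curv2.genus (B.residueField b) _ (f.fiber b) ⟨f.fiberToSpecResidueField b⟩ = 1)
    (s : B ⟶ X) (hs : s ≫ f = 𝟙 B)
    (LS : X.Modules) (hLS : PicF.IsInvertible LS) (hLSinv : ClSub.IsInverseOf LS (ClSub.idealMod s.ker))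
    (b₀ : B) (hb₀ : IsClosed ({b₀} : Set B)) (M : B.Modules) (hM : PicF.IsInvertible M)
    (hMinv : ClSub.IsInverseOf M (ClSub.idealMod (Scheme.IdealSheafData.vanishingIdeal ⟨{b₀}, hb₀⟩)))
    (LC : X.Modules) (hLC : PicF.IsInvertible LC)
    (hgen : ∃ U : B.Opens, (U : Set B).Nonempty ∧ ∀ b ∈ U, IsClosed ({b} : Set B) →
      Nonempty ((Scheme.Modules.pullback (f.fiberι b)).obj LC ≅ (Scheme.Modules.pullback (f.fiberι b)).obj LS)) :
    ∃ m : ℤ, 2 * m = FGA.intNum k X 2 ![LS, LS] (Coh.structureModule X) - FGA.intNum k X 2 ![LC, LC] (Coh.structureModule X) ∧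
      ∀ N : X.Modules, PicF.IsInvertible N →
        FGA.intNum k X 2 ![LS, N] (Coh.structureModule X) =
          FGA.intNum k X 2 ![LC, N] (Coh.structureModule X) +
            m * FGA.intNum k X 2 ![(Scheme.Modules.pullback f).obj M, N] (Coh.structureModule X) := by
  haveI := EulerIneqLib.isNoetherian_proper (X := X) k
  haveI := EulerIneqLib.isNoetherian_proper (X := B) k
  haveI := VBLib.isRegCurve_of_smooth k (X := B) hB1.le
  have hd2 : topologicalKrullDim X = ((2 : ℕ) : WithBot ℕ∞) := by exact_mod_cast hX2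
  have hsf : Function.Surjective f := fun b => ⟨s b, by rw [← Scheme.Hom.comp_apply, hs]; rfl⟩
  haveI : IsDominant f := ⟨hsf.denseRange⟩
  haveI : Flat f := RuledPushLib.flat_of_dominant f
  haveI : IsProper (f ≫ (B ↘ Spec (CommRingCat.of k))) := by rw [hf]; infer_instance
  haveI : IsProper f := IsProper.of_comp f (B ↘ Spec (CommRingCat.of k))
  haveI : JacobsonSpace ↥B := LocallyOfFiniteType.jacobsonSpace (B ↘ Spec (CommRingCat.of k))
  -- geometrically integral fibres
  have hgi : ∀ b : B, IsClosed ({b} : Set B) → GeometricallyIntegral (f.fiberToSpecResidueField b) := fun b hb => by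
    haveI : IsAlgClosed (B.residueField b) := IsAlgClosed.of_ringEquiv k (B.residueField b)
      (residueFieldIsoBase (B ↘ Spec (CommRingCat.of k)) b hb).commRingCatIsoToRingEquiv.symm
    haveI := (hfib b hb).1
    exact AVLib.geometricallyIntegral_of_isIntegral (K := B.residueField b) (f.fiberToSpecResidueField b)
  have hW : {y : B | GeometricallyIntegral (f.fiberToSpecResidueField y)} = Set.univ := by
    by_contra hne
    obtain ⟨y, hy, hyc⟩ := nonempty_inter_closedPoints (Set.nonempty_compl.2 hne)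
      (Groth.Agent.S2553.result f).isClosed_compl.isLocallyClosed
    exact hy (hgi y hyc)
  haveI : GeometricallyIntegral f :=
    (GeometricallyIntegral.iff_geometricallyIntegral_fiber f).2 fun y => hW.ge (Set.mem_univ y)
  -- the difference class comes from the base
  obtain ⟨LC', hLC', hC1⟩ := CastLib.exists_inverse_of_isInvertible hLC
  obtain ⟨eC⟩ : Nonempty (CohB1.tensorMod LC LC' ≅ Coh.structureModule X) :=
    IntLib.mk_eq_mk.1 (by rw [IntLib.mk_tensor, hC1, IntLib.mk_structureModule])
  let D := CohB1.tensorMod LS LC'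
  have hD : PicF.IsInvertible D := AmpleLib.isInvertible_tensor hLS hLC'
  obtain ⟨Z, ι, hι, hZ⟩ := Groth.Agent.S19476.result f D (CurveLib.isFinLocFreeOfRank_one hD)
  haveI := hι
  obtain ⟨U, hUne, hU⟩ := hgen
  have hUZ : ∀ b ∈ U, IsClosed ({b} : Set B) → b ∈ Set.range ι := fun b hbU hb => by
    obtain ⟨e⟩ := hU b hbU hb
    obtain ⟨u', hu'⟩ := (hZ _ (B.fromSpecResidueField b) inferInstance).2 ⟨Coh.structureModule _,
      CurveLib.isFinLocFreeOfRank_one ParaFLib.isInvertible_structureModule, ⟨
        (AmpleLib.pullTensor (f.fiberι b) _ _) ≪≫ AmpleLib.tIso e.symm (Iso.refl _) ≪≫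
          (AmpleLib.pullTensor (f.fiberι b) _ _).symm ≪≫ (Scheme.Modules.pullback (f.fiberι b)).mapIso eC ≪≫
          AmpleLib.pullO _ ≪≫ (AmpleLib.pullO _).symm⟩⟩
    exact ⟨u' (show ↥(Spec (B.residueField b)) from IsLocalRing.closedPoint _), by
      rw [← Scheme.Hom.comp_apply, hu', Scheme.fromSpecResidueField_apply]⟩
  have hιs : Set.range ι = Set.univ := by
    by_contra hne
    have h1 : ((Set.range ι)ᶜ ∩ (U : Set B)).Nonempty :=
      nonempty_preirreducible_inter ι.isClosedEmbedding.isClosed_range.isOpen_compl U.isOpen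
        (Set.nonempty_compl.2 hne) hUne
    obtain ⟨y, hy, hyc⟩ := nonempty_inter_closedPoints h1
      (ι.isClosedEmbedding.isClosed_range.isOpen_compl.inter U.isOpen).isLocallyClosed
    exact hy.1 (hUZ y hy.2 hyc)
  haveI : Surjective ι := ⟨Set.range_eq_univ.1 hιs⟩
  haveI : IsIso ι := isIso_of_isClosedImmersion_of_surjective ι
  obtain ⟨A₀, hA₀, ⟨eD⟩⟩ := (hZ B (𝟙 B) inferInstance).1 ⟨inv ι, IsIso.inv_hom_id ι⟩
  let A := A₀
  have hA : PicF.IsInvertible A := VBLib.isInvertible_of_rank hA₀
  have eD' : D ≅ (Scheme.Modules.pullback f).obj A := by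
    let j := pullback.lift (𝟙 X) f (by simp) (f := f) (g := 𝟙 B)
    exact ((Scheme.Modules.pullbackId X).app D).symm ≪≫ eqToIso (by rw [← pullback.lift_fst (𝟙 X) f (by simp) (f := f) (g := 𝟙 B)]) ≪≫
      ((Scheme.Modules.pullbackComp j (pullback.fst f (𝟙 B))).app D).symm ≪≫ (Scheme.Modules.pullback j).mapIso eD ≪≫
      (Scheme.Modules.pullbackComp j (pullback.snd f (𝟙 B))).app A ≪≫ eqToIso (by rw [pullback.lift_snd])
  have hP := AmpleLib.isInvertible_pullback f hA
  have hF := AmpleLib.isInvertible_pullback f hM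
  -- the section
  haveI : IsClosedImmersion s := JacLib.isClosedImmersion_of_section f s hs
  have hsk : s ≫ (X ↘ Spec (CommRingCat.of k)) = B ↘ Spec (CommRingCat.of k) := by
    rw [← hf, ← Category.assoc, hs, Category.id_comp]
  have hI : PicF.IsInvertible (ClSub.idealMod s.ker) := (S8914.result _).2
    (TwistShriek.isEffCartierIdeal_curve (X ↘ Spec (CommRingCat.of k)) hX2
      (fun x => ASp.isRegularLocalRing_stalk_of_smooth_field (X ↘ Spec (CommRingCat.of k)) x) s hB1)
  obtain ⟨eS⟩ := hLSinv
  have hSA : ∀ {G : B.Modules} (hG : PicF.IsInvertible G),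
      Nakai.form k (Nakai.cl (AmpleLib.isInvertible_pullback f hG)) (Nakai.cl hLS) = Curv2.deg k B G 1 := fun {G} hG => by
    rw [Nakai.form_comm, TwistShriek.form_inverse k hd2 hLS hI eS (Nakai.cl_mem _),
      S13076.form_curve k s hsk hI (AmpleLib.isInvertible_pullback f hG), neg_neg]
    exact CurveLib.deg_iso (k := k) ((Scheme.Modules.pullbackComp s f).app G ≪≫ eqToIso (by rw [hs]) ≪≫
      (Scheme.Modules.pullbackId B).app G) 1
  -- the degree of the point class
  have hMd : Curv2.deg k B M 1 = 1 := by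
    obtain ⟨hPi, hPdeg, -⟩ := VBLib.point_ideal k hB1 hb₀
    obtain ⟨eM⟩ := hMinv
    have h0 : Curv2.deg k B (Coh.structureModule B) 1 = 0 := by
      unfold Curv2.deg; rw [Nat.cast_one, one_mul, sub_self]
    have h1 := deg_tensor k hB1 hM hPi
    rw [CurveLib.deg_iso (k := k) eM 1, h0, hPdeg] at h1
    linarith
  refine ⟨Curv2.deg k B A 1, ?_⟩
  have hsum : ∀ {v : IntLib.PicRing X}, v ∈ Nakai.Aug X → Nakai.form k (Nakai.cl hLS) v =
      Nakai.form k (Nakai.cl hLC) v + Nakai.form k (Nakai.cl hP) v := fun {v} hv => by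
    have e : CohB1.tensorMod LC ((Scheme.Modules.pullback f).obj A) ≅ LS :=
      AmpleLib.tIso (Iso.refl _) eD'.symm ≪≫ AmpleLib.comm _ _ ≪≫ AmpleLib.assoc _ _ _ ≪≫
        AmpleLib.tIso (Iso.refl _) (AmpleLib.comm _ _ ≪≫ eC) ≪≫ AmpleLib.unitR _
    rw [← Nakai.cl_congr (AmpleLib.isInvertible_tensor hLC hP) hLS e, Nakai.cl_tensor hLC hP, Nakai.form_add_left,
      Nakai.form_add_left, form_sq k hd2 (u := Nakai.cl hLC * Nakai.cl hP) (by rw [pow_two]; exact Ideal.mul_mem_mul (Nakai.cl_mem _) (Nakai.cl_mem _)) hv,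
      add_zero]
  refine ⟨?_, fun N hN => ?_⟩
  · rw [TwistShriek.intNum_eq_form k hd2.le hLS hLS, TwistShriek.intNum_eq_form k hd2.le hLC hLC]
    have h1 := hsum (Nakai.cl_mem hLS)
    have h2 := hsum (Nakai.cl_mem hLC)
    have h3 := hsum (Nakai.cl_mem hP)
    have h4 := TwistShriek.form_pullback_curve k hX2 hB1.le f hf hA hA
    have h5 := hSA hA
    rw [Nakai.form_comm k (Nakai.cl hLC) (Nakai.cl hLS)] at h1
    rw [Nakai.form_comm k (Nakai.cl hLC) (Nakai.cl hP)] at h3
    rw [Nakai.form_comm k (Nakai.cl hLS) (Nakai.cl hP), h5] at h3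
    rw [h5] at h1
    linarith
  · rw [TwistShriek.intNum_eq_form k hd2.le hLS hN, TwistShriek.intNum_eq_form k hd2.le hLC hN,
      TwistShriek.intNum_eq_form k hd2.le hF hN, hsum (Nakai.cl_mem hN), form_pull_eq k hd2 hB1 f hf hA hM hMd hN]

end Groth.Agent.S19175
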