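import Groth.Statements.S19176
import Mathlib
-- import your own Groth.Agent.* helpers here

set_option autoImplicit false
universe u
open PlaneCurve

namespace Groth.Agent.S19176

open MvPolynomial in
/-- Let k be a field of characteristic p (p = 0 allowed) and F = y² − x³ in k[x, y] (x the variable of
index 0, y of index 1). The singular subscheme of the plane curve F = 0, cut out by F and its two
partial derivatives, is finite over k of degree 4 when p = 2, of degree 3 when p = 3, and of degree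
2 otherwise: the k-dimension of k[x, y]/(F, ∂F/∂x, ∂F/∂y) is that number. (The source phrases this
through the complete local ring of a cusp; the row is the computation for the standard cusp y² =
x³.) -/
theorem result (k : Type u) [Field k] (p : ℕ) [CharP k p] :
    Module.finrank k (MvPolynomial (Fin 2) k ⧸ Ideal.span
      ({X 1 ^ 2 - X 0 ^ 3, pderiv 0 (X 1 ^ 2 - X 0 ^ 3), pderiv 1 (X 1 ^ 2 - X 0 ^ 3)} :
        Set (MvPolynomial (Fin 2) k))) = (if p = 2 then 4 else if p = 3 then 3 else 2) := by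
  classical
  open MvPolynomial in
  have key : ∀ a b : ℕ, 0 < a → Module.finrank k (MvPolynomial (Fin 2) k ⧸
      Ideal.span ({X 0 ^ a, X 1 ^ b} : Set (MvPolynomial (Fin 2) k))) = a * b := by
    intro a b ha
    let R := AdjoinRoot ((Polynomial.X : Polynomial k) ^ a)
    let S := AdjoinRoot ((Polynomial.X : Polynomial R) ^ b)
    let pa := AdjoinRoot.powerBasis' (Polynomial.monic_X_pow (R := k) a)
    let pb := AdjoinRoot.powerBasis' (Polynomial.monic_X_pow (R := R) b)
    let B := pa.basis.smulTower pb.basis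
    let φ : MvPolynomial (Fin 2) k →ₐ[k] S :=
      aeval ![algebraMap R S (AdjoinRoot.root _), AdjoinRoot.root _]
    have hroot : (AdjoinRoot.root ((Polynomial.X : Polynomial k) ^ a)) ^ a = 0 := by
      have := AdjoinRoot.eval₂_root ((Polynomial.X : Polynomial k) ^ a)
      simpa using this
    have hroot' : (AdjoinRoot.root ((Polynomial.X : Polynomial R) ^ b)) ^ b = 0 := by
      have := AdjoinRoot.eval₂_root ((Polynomial.X : Polynomial R) ^ b)
      simpa using this
    have hker : Ideal.span ({X 0 ^ a, X 1 ^ b} : Set (MvPolynomial (Fin 2) k)) ≤ RingHom.ker φ := by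
      rw [Ideal.span_le]
      rintro z (rfl | rfl)
      · show φ (X 0 ^ a) = 0
        rw [map_pow]
        simp only [φ, aeval_X, Matrix.cons_val_zero]
        rw [← map_pow, hroot, map_zero]
      · show φ (X 1 ^ b) = 0
        simp [φ, hroot']
    let I := Ideal.span ({X 0 ^ a, X 1 ^ b} : Set (MvPolynomial (Fin 2) k))
    let φ' : (MvPolynomial (Fin 2) k ⧸ I) →ₐ[k] S := Ideal.Quotient.liftₐ I φ (fun z hz => hker hz)
    let x : MvPolynomial (Fin 2) k ⧸ I := Ideal.Quotient.mk I (X 0)
    have hx : Polynomial.aeval x ((Polynomial.X : Polynomial k) ^ a) = 0 := by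
      rw [map_pow, Polynomial.aeval_X]
      exact Ideal.Quotient.eq_zero_iff_mem.mpr (Ideal.subset_span (Or.inl rfl))
    let ψ₀ : R →ₐ[k] (MvPolynomial (Fin 2) k ⧸ I) := AdjoinRoot.liftAlgHom _ (Algebra.ofId k _) x hx
    let ψ : S →+* (MvPolynomial (Fin 2) k ⧸ I) :=
      AdjoinRoot.lift ψ₀.toRingHom (Ideal.Quotient.mk I (X 1)) (by
        rw [Polynomial.eval₂_pow, Polynomial.eval₂_X, ← map_pow]
        exact Ideal.Quotient.eq_zero_iff_mem.mpr (Ideal.subset_span (Or.inr rfl)))
    have hψr : ∀ r : R, ψ (algebraMap R S r) = ψ₀ r := fun r => AdjoinRoot.lift_of _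
    have hleft : ψ.comp φ'.toRingHom = RingHom.id _ := by
      refine Ideal.Quotient.ringHom_ext (MvPolynomial.ringHom_ext (fun c => ?_) fun i => ?_)
      · show ψ (φ (C c)) = Ideal.Quotient.mk I (C c)
        rw [show φ (C c) = algebraMap R S (algebraMap k R c) by
          simp [φ, ← IsScalarTower.algebraMap_apply]]
        exact (hψr _).trans (ψ₀.commutes c)
      · show ψ (φ (X i)) = Ideal.Quotient.mk I (X i)
        fin_cases i
        · simp only [φ, aeval_X]
          exact (hψr _).trans (AdjoinRoot.liftAlgHom_root _ _ _ _)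
        · simp only [φ, aeval_X]
          exact AdjoinRoot.lift_root _
    have hinj : Function.Injective φ' := fun u v h => by
      have hu := RingHom.congr_fun hleft u
      have hv := RingHom.congr_fun hleft v
      exact hu.symm.trans ((congrArg ψ h).trans hv)
    have hsurj : Function.Surjective φ' := by
      intro z
      have hz : z ∈ Submodule.span k (Set.range B) := by rw [B.span_eq]; trivial
      have hle : Submodule.span k (Set.range B) ≤ LinearMap.range φ'.toLinearMap := by
        rw [Submodule.span_le]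
        rintro _ ⟨⟨i, j⟩, rfl⟩
        refine ⟨Ideal.Quotient.mk I (X 0 ^ (i : ℕ) * X 1 ^ (j : ℕ)), ?_⟩
        show φ (X 0 ^ (i : ℕ) * X 1 ^ (j : ℕ)) = _
        simp [φ, B, pa, pb, Module.Basis.smulTower_apply, Algebra.smul_def]
        rfl
      exact hle hz
    rw [(AlgEquiv.ofBijective φ' ⟨hinj, hsurj⟩).toLinearEquiv.finrank_eq, Module.finrank_eq_card_basis B]
    haveI : Nontrivial R := AdjoinRoot.nontrivial _ (by rw [Polynomial.degree_X_pow]; exact_mod_cast ha.ne')
    simp [pa, pb, Polynomial.natDegree_X_pow]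
  open MvPolynomial in
  have hpd0 : pderiv 0 (X 1 ^ 2 - X 0 ^ 3 : MvPolynomial (Fin 2) k) = - (C (3 : k) * X 0 ^ 2) := by
    simp [pderiv_pow, pderiv_X, Pi.single_apply, map_ofNat]
  open MvPolynomial in
  have hpd1 : pderiv 1 (X 1 ^ 2 - X 0 ^ 3 : MvPolynomial (Fin 2) k) = C (2 : k) * X 1 := by
    simp [pderiv_pow, pderiv_X, Pi.single_apply, map_ofNat]
  rw [hpd0, hpd1]
  have hcast : ∀ q : ℕ, q.Prime → ((q : k) = 0 ↔ p = q) := fun q hq => by
    rw [CharP.cast_eq_zero_iff k p]
    refine ⟨fun h => ?_, fun h => h ▸ dvd_rfl⟩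
    exact (hq.eq_one_or_self_of_dvd p h).resolve_left (CharP.char_ne_one k p)
  split_ifs with h2 h3
  · have e2 : (2 : k) = 0 := by exact_mod_cast (hcast 2 Nat.prime_two).mpr h2
    have e3 : (3 : k) = 1 := by rw [show (3 : k) = 2 + 1 by norm_num, e2, zero_add]
    rw [e2, e3]
    open MvPolynomial in
    rw [show Ideal.span ({X 1 ^ 2 - X 0 ^ 3, -(C (1 : k) * X 0 ^ 2), C (0 : k) * X 1} : Set (MvPolynomial (Fin 2) k)) =
      Ideal.span {X 0 ^ 2, X 1 ^ 2} from le_antisymm (Ideal.span_le.mpr (by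
        simp only [Set.subset_def, SetLike.mem_coe]
        rintro z (rfl | rfl | rfl)
        · exact Ideal.mem_span_pair.mpr ⟨-X 0, 1, by ring⟩
        · exact Ideal.mem_span_pair.mpr ⟨-1, 0, by rw [C_1]; ring⟩
        · rw [C_0, zero_mul]; exact zero_mem _)) (Ideal.span_le.mpr (by
        simp only [Set.subset_def, SetLike.mem_coe]
        rintro z (rfl | rfl)
        · have h := neg_mem (Ideal.subset_span (Set.mem_insert_of_mem _ (Set.mem_insert _ _)) :
            -(C (1 : k) * X 0 ^ 2) ∈ Ideal.span ({X 1 ^ 2 - X 0 ^ 3, -(C (1 : k) * X 0 ^ 2), C (0 : k) * X 1} : Set (MvPolynomial (Fin 2) k)))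
          rw [neg_neg, C_1, one_mul] at h
          rw [C_1, one_mul]
          exact h
        · exact (by
            have ha : X 1 ^ 2 - X 0 ^ 3 ∈ Ideal.span ({X 1 ^ 2 - X 0 ^ 3, -(C (1 : k) * X 0 ^ 2), C (0 : k) * X 1} : Set (MvPolynomial (Fin 2) k)) :=
              Ideal.subset_span (Set.mem_insert _ _)
            have hb : -(C (1 : k) * X 0 ^ 2) ∈ Ideal.span ({X 1 ^ 2 - X 0 ^ 3, -(C (1 : k) * X 0 ^ 2), C (0 : k) * X 1} : Set (MvPolynomial (Fin 2) k)) :=
              Ideal.subset_span (Set.mem_insert_of_mem _ (Set.mem_insert _ _))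
            have := add_mem ha (Ideal.mul_mem_left _ (-X 0) hb)
            convert this using 1
            rw [C_1]; ring)))]
    exact key 2 2 two_pos
  · have e3 : (3 : k) = 0 := by exact_mod_cast (hcast 3 Nat.prime_three).mpr h3
    have e2 : (2 : k) = -1 := by linear_combination e3
    rw [e2, e3]
    open MvPolynomial in
    rw [show Ideal.span ({X 1 ^ 2 - X 0 ^ 3, -(C (0 : k) * X 0 ^ 2), C (-1 : k) * X 1} : Set (MvPolynomial (Fin 2) k)) =
      Ideal.span {X 0 ^ 3, X 1 ^ 1} from le_antisymm (Ideal.span_le.mpr (by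
        simp only [Set.subset_def, SetLike.mem_coe]
        rintro z (rfl | rfl | rfl)
        · exact Ideal.mem_span_pair.mpr ⟨-1, X 1, by ring⟩
        · rw [C_0, zero_mul, neg_zero]; exact zero_mem _
        · exact Ideal.mem_span_pair.mpr ⟨0, -1, by rw [map_neg, C_1]; ring⟩)) (Ideal.span_le.mpr (by
        simp only [Set.subset_def, SetLike.mem_coe]
        have ha : X 1 ^ 2 - X 0 ^ 3 ∈ Ideal.span ({X 1 ^ 2 - X 0 ^ 3, -(C (0 : k) * X 0 ^ 2), C (-1 : k) * X 1} : Set (MvPolynomial (Fin 2) k)) :=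
          Ideal.subset_span (Set.mem_insert _ _)
        have hb : X 1 ∈ Ideal.span ({X 1 ^ 2 - X 0 ^ 3, -(C (0 : k) * X 0 ^ 2), C (-1 : k) * X 1} : Set (MvPolynomial (Fin 2) k)) := by
          convert Ideal.mul_mem_left _ (-1) (Ideal.subset_span (Set.mem_insert_of_mem _ (Set.mem_insert_of_mem _ rfl)) :
            C (-1 : k) * X 1 ∈ Ideal.span ({X 1 ^ 2 - X 0 ^ 3, -(C (0 : k) * X 0 ^ 2), C (-1 : k) * X 1} : Set (MvPolynomial (Fin 2) k))) using 1
          rw [map_neg, C_1]; ring
        rintro z (rfl | rfl)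
        · convert sub_mem (Ideal.mul_mem_left _ (X 1) hb) ha using 1; ring
        · rw [pow_one]; exact hb))]
    exact key 3 1 three_pos
  · have e2 : (2 : k) ≠ 0 := fun h => h2 ((hcast 2 Nat.prime_two).mp (by exact_mod_cast h))
    have e3 : (3 : k) ≠ 0 := fun h => h3 ((hcast 3 Nat.prime_three).mp (by exact_mod_cast h))
    open MvPolynomial in
    rw [show Ideal.span ({X 1 ^ 2 - X 0 ^ 3, -(C (3 : k) * X 0 ^ 2), C (2 : k) * X 1} : Set (MvPolynomial (Fin 2) k)) =
      Ideal.span {X 0 ^ 2, X 1 ^ 1} from le_antisymm (Ideal.span_le.mpr (by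
        simp only [Set.subset_def, SetLike.mem_coe]
        rintro z (rfl | rfl | rfl)
        · exact Ideal.mem_span_pair.mpr ⟨-X 0, X 1, by ring⟩
        · exact Ideal.mem_span_pair.mpr ⟨-C 3, 0, by ring⟩
        · exact Ideal.mem_span_pair.mpr ⟨0, C 2, by ring⟩)) (Ideal.span_le.mpr (by
        simp only [Set.subset_def, SetLike.mem_coe]
        have ha : -(C (3 : k) * X 0 ^ 2) ∈ Ideal.span ({X 1 ^ 2 - X 0 ^ 3, -(C (3 : k) * X 0 ^ 2), C (2 : k) * X 1} : Set (MvPolynomial (Fin 2) k)) :=
          Ideal.subset_span (Set.mem_insert_of_mem _ (Set.mem_insert _ _))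
        have hb : C (2 : k) * X 1 ∈ Ideal.span ({X 1 ^ 2 - X 0 ^ 3, -(C (3 : k) * X 0 ^ 2), C (2 : k) * X 1} : Set (MvPolynomial (Fin 2) k)) :=
          Ideal.subset_span (Set.mem_insert_of_mem _ (Set.mem_insert_of_mem _ rfl))
        rintro z (rfl | rfl)
        · convert Ideal.mul_mem_left _ (C (-(3 : k)⁻¹)) ha using 1
          rw [map_neg, neg_mul_neg, ← mul_assoc, ← map_mul, inv_mul_cancel₀ e3, C_1, one_mul]
        · convert Ideal.mul_mem_left _ (C ((2 : k)⁻¹)) hb using 1
          rw [← mul_assoc, ← map_mul, inv_mul_cancel₀ e2, C_1, one_mul, pow_one]))]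
    exact key 2 1 two_pos

end Groth.Agent.S19176
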