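import Groth.Statements.S19177
import Mathlib

set_option autoImplicit false
universe u
open CAlg

namespace Groth.Agent.S19177

/-- Let S → R be a homomorphism of commutative rings making R a finitely generated projective S-module
of rank 2 at every prime of S (the affine form of a finite locally free morphism of degree 2). Then
the cokernel of the (injective) structure map S → R, the S-module R/S, is a projective S-module of
rank 1 at every prime of S (locally free of rank 1). -/
theorem result
    (S R : Type u) [CommRing S] [CommRing R] [Algebra S R] [Module.Finite S R] [Module.Projective S R]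
    (h2 : ∀ p : PrimeSpectrum S, Module.rankAtStalk (R := S) R p = 2) :
    Module.Projective S (R ⧸ LinearMap.range (Algebra.linearMap S R)) ∧
      ∀ p : PrimeSpectrum S,
        Module.rankAtStalk (R := S) (R ⧸ LinearMap.range (Algebra.linearMap S R)) p = 1 := by
  classical
  obtain ⟨φ, hφ⟩ : ∃ φ : Module.Dual S R, φ 1 = 1 := by
    suffices h : LinearMap.range (Module.Dual.eval S R 1) = ⊤ by
      exact LinearMap.range_eq_top.mp h 1
    by_contra hne
    obtain ⟨m, hm, hle⟩ := Ideal.exists_le_maximal _ hne
    obtain ⟨n, g, s, -, -, hgs⟩ := Module.Finite.exists_comp_eq_id_of_projective S R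
    have h1 : (1 : R) ∈ m • (⊤ : Submodule S R) := by
      have e := LinearMap.congr_fun hgs (1 : R)
      rw [LinearMap.comp_apply, LinearMap.id_apply] at e
      rw [← e, ← Finset.univ_sum_single (s 1), map_sum]
      refine sum_mem fun i _ => ?_
      rw [show Pi.single i (s 1 i) = s 1 i • (Pi.single i (1:S) : Fin n → S) by rw [← Pi.single_smul, smul_eq_mul, mul_one], map_smul]
      exact Submodule.smul_mem_smul (hle ⟨(LinearMap.proj i).comp s, rfl⟩) Submodule.mem_top
    have htop : (⊤ : Submodule S R) ≤ m • (⊤ : Submodule S R) := by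
      intro x _
      have := Submodule.mem_map_of_mem (f := LinearMap.mulRight S x) h1
      rw [Submodule.map_smul''] at this
      simpa using Submodule.smul_mono le_rfl le_top this
    obtain ⟨t, ht1, ht0⟩ := Submodule.exists_sub_one_mem_and_smul_eq_zero_of_fg_of_le_smul m (⊤ : Submodule S R) Module.Finite.fg_top htop
    have hns : (⟨m, hm.isPrime⟩ : PrimeSpectrum S) ∉ Module.support S R := by
      rw [Module.notMem_support_iff']
      exact fun x => ⟨t, fun h => hm.ne_top ((Ideal.eq_top_iff_one _).mpr (by simpa using sub_mem h ht1)), ht0 x trivial⟩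
    have := h2 ⟨m, hm.isPrime⟩
    rw [(Module.rankAtStalk_eq_zero_iff_notMem_support _).mpr hns] at this
    omega
  set f := Algebra.linearMap S R
  let Q := R ⧸ LinearMap.range f
  have hφf : ∀ a, φ (f a) = a := fun a => by
    show φ (algebraMap S R a) = a
    rw [Algebra.algebraMap_eq_smul_one, map_smul, hφ, smul_eq_mul, mul_one]
  let e : R ≃ₗ[S] S × Q := LinearEquiv.ofBijective (φ.prod (LinearMap.range f).mkQ) (by
    constructor
    · rw [injective_iff_map_eq_zero]
      intro x hx
      obtain ⟨a, ha⟩ := (Submodule.Quotient.mk_eq_zero _).mp (congrArg Prod.snd hx)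
      have h0 : φ x = 0 := congrArg Prod.fst hx
      rw [← ha, hφf] at h0
      rw [← ha, h0, map_zero]
    · rintro ⟨a, q⟩
      obtain ⟨x, rfl⟩ := Submodule.Quotient.mk_surjective _ q
      refine ⟨x + f (a - φ x), Prod.ext ?_ ((Submodule.Quotient.eq _).mpr ⟨a - φ x, by simp⟩)⟩
      simp [hφf])
  have hQ : Module.Projective S Q := Module.Projective.of_split ((e.symm.toLinearMap).comp (LinearMap.inr S S Q)) ((LinearMap.snd S S Q).comp e.toLinearMap) (LinearMap.ext fun q => by simp)
  refine ⟨hQ, fun p => ?_⟩
  have h := h2 p
  have : Nontrivial S := ⟨0, 1, fun h => p.isPrime.ne_top ((Ideal.eq_top_iff_one _).mpr (h ▸ zero_mem _))⟩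
  rw [Module.rankAtStalk_eq_of_equiv e, Module.rankAtStalk_prod, Pi.add_apply, Module.rankAtStalk_self, Pi.one_apply] at h
  have h' : 1 + Module.rankAtStalk (R := S) Q p = 2 := h
  show Module.rankAtStalk (R := S) Q p = 1
  omega

end Groth.Agent.S19177
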