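import Groth.Statements.S19178
import Mathlib
import Groth.Agent.SmallAlgLib.HomogFactor

set_option autoImplicit false
universe u
open Curves

namespace Groth.Agent.S19178

open CategoryTheory CategoryTheory.Limits AlgebraicGeometry

open MvPolynomial in
/-- Dehomogenisation at the last variable. -/
noncomputable def dehom (k : Type u) [Field k] : MvPolynomial (Fin 3) k →ₐ[k] Polynomial (Polynomial k) :=
  aeval ![Polynomial.C Polynomial.X, Polynomial.X, 1]

open MvPolynomial in
lemma dehom_monomial {k : Type u} [Field k] (d : Fin 3 →₀ ℕ) (r : k) :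
    dehom k (monomial d r) = Polynomial.monomial (d 1) (Polynomial.monomial (d 0) r) := by
  rw [dehom, aeval_monomial, Finsupp.prod_fintype _ _ (fun _ => pow_zero _), Fin.prod_univ_three]
  simp only [Matrix.cons_val_zero, Matrix.cons_val_one, Matrix.cons_val, one_pow, mul_one]
  rw [show algebraMap k (Polynomial (Polynomial k)) r = Polynomial.C (Polynomial.C r) from rfl, ← map_pow,
    ← mul_assoc, ← map_mul, Polynomial.C_mul_X_pow_eq_monomial, Polynomial.C_mul_X_pow_eq_monomial]

open MvPolynomial in
lemma isUnit_of_dehom {k : Type u} [Field k] (W : WeierstrassCurve k) (P : MvPolynomial (Fin 3) k) (a : ℕ)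
    (hP : P.IsHomogeneous a) (hdvd : P ∣ WeierstrassCurve.Projective.polynomial W) (hu : IsUnit (dehom k P)) :
    IsUnit P := by
  classical
  obtain ⟨c, hc, hc'⟩ := Polynomial.isUnit_iff.1 hu
  obtain ⟨c0, hc0, rfl⟩ := Polynomial.isUnit_iff.1 hc
  have hdeg : ∀ d ∈ P.support, d 0 + d 1 + d 2 = a := fun d hd => by
    rw [hP.degree_eq_sum_deg_support hd]
    simp [Finsupp.degree, Finset.sum_subset (Finset.subset_univ d.support) (fun x _ hx => by simpa using hx),
      Fin.sum_univ_three]
  have h00 : ∀ d ∈ P.support, d 0 = 0 ∧ d 1 = 0 := by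
    intro d hd
    by_contra hne
    have hco : ((dehom k P).coeff (d 1)).coeff (d 0) = coeff d P := by
      conv_lhs => rw [P.as_sum, map_sum]
      simp only [dehom_monomial, Polynomial.finsetSum_coeff]
      rw [Finset.sum_eq_single d]
      · simp
      · intro e he hed
        rw [Polynomial.coeff_monomial]
        split_ifs with h1
        · rw [Polynomial.coeff_monomial, if_neg]
          intro h0
          refine hed (Finsupp.ext fun i => ?_)
          have h2 : e 2 = d 2 := by
            have := hdeg e he
            have := hdeg d hd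
            omega
          fin_cases i <;> assumption
        · simp
      · exact fun h => absurd hd h
    rw [← hc'] at hco
    rw [Polynomial.coeff_C] at hco
    have hne' := mem_support_iff.1 hd
    split_ifs at hco with h1
    · rw [Polynomial.coeff_C, if_neg (fun h0 => hne ⟨h0, h1⟩)] at hco
      exact hne' hco.symm
    · rw [Polynomial.coeff_zero] at hco
      exact hne' hco.symm
  have hmono : P = C (coeff (Finsupp.single 2 a) P) * X 2 ^ a := by
    rw [C_mul_X_pow_eq_monomial]
    ext d
    rw [coeff_monomial]
    split_ifs with h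
    · rw [h]
    · rw [← notMem_support_iff]
      intro hd
      obtain ⟨h0, h1⟩ := h00 d hd
      refine h (Finsupp.ext fun i => ?_)
      have := hdeg d hd
      fin_cases i <;> simp_all
  rcases Nat.eq_zero_or_pos a with rfl | ha
  · rw [hmono, pow_zero, mul_one]
    refine IsUnit.map C (isUnit_iff_ne_zero.2 fun h => ?_)
    rw [h, map_zero, zero_mul] at hmono
    rw [hmono, map_zero] at hu
    exact not_isUnit_zero hu
  · exfalso
    have := map_dvd (MvPolynomial.eval ![(1 : k), 0, 0]) hdvd
    rw [hmono, WeierstrassCurve.Projective.eval_polynomial] at this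
    simp [zero_pow ha.ne'] at this

open MvPolynomial in
lemma dehom_polynomial {k : Type u} [Field k] (W : WeierstrassCurve k) :
    dehom k (WeierstrassCurve.Projective.polynomial W) = W.toAffine.polynomial := by
  simp [dehom, WeierstrassCurve.Projective.polynomial, WeierstrassCurve.Affine.polynomial]
  ring

open MvPolynomial in
lemma isHomogeneous_polynomial {k : Type u} [Field k] (W : WeierstrassCurve k) :
    (WeierstrassCurve.Projective.polynomial W).IsHomogeneous 3 := by
  unfold WeierstrassCurve.Projective.polynomial
  refine ((((isHomogeneous_X _ _).pow 2).mul (isHomogeneous_X _ _)).add ?_ |>.add ?_).sub (((isHomogeneous_X _ _).pow 3).add ?_ |>.add ?_ |>.add ?_)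
  · exact (((isHomogeneous_X _ _).C_mul _).mul (isHomogeneous_X _ _)).mul (isHomogeneous_X _ _)
  · exact (((isHomogeneous_X _ _).C_mul _).mul ((isHomogeneous_X _ _).pow 2))
  · exact (((isHomogeneous_X _ _).pow 2).C_mul _).mul (isHomogeneous_X _ _)
  · exact ((isHomogeneous_X _ _).C_mul _).mul ((isHomogeneous_X _ _).pow 2)
  · exact ((isHomogeneous_X _ _).pow 3).C_mul _


/-- For every field k and every choice of coefficients a₁, a₂, a₃, a₄, a₆ in k, the homogeneous
Weierstrass cubic Y²Z + a₁XYZ + a₃YZ² − (X³ + a₂X²Z + a₄XZ² + a₆Z³) is an irreducible polynomial in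
k[X, Y, Z]. Applied to all fields, this says every fibre of the Weierstrass family over the affine
space of coefficients is geometrically integral. -/
theorem result (k : Type u) [Field k]
    (W : WeierstrassCurve k) :
    Irreducible (WeierstrassCurve.Projective.polynomial W) := by
  have hirr := W.toAffine.irreducible_polynomial
  have h0 : WeierstrassCurve.Projective.polynomial W ≠ 0 := fun h => by
    rw [← dehom_polynomial, h, map_zero] at hirr
    exact not_irreducible_zero hirr
  refine ⟨fun h => hirr.not_isUnit (dehom_polynomial W ▸ h.map (dehom k)), fun P Q hPQ => ?_⟩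
  rw [← dehom_polynomial, hPQ, map_mul] at hirr
  have hh := isHomogeneous_polynomial W
  rw [hPQ] at hh h0
  rcases hirr.isUnit_or_isUnit rfl with h | h
  · obtain ⟨a, ha⟩ := SmallAlgLib.isHomogeneous_of_mul hh h0
    exact Or.inl (isUnit_of_dehom W P a ha ⟨Q, hPQ⟩ h)
  · rw [mul_comm] at hh h0
    obtain ⟨a, ha⟩ := SmallAlgLib.isHomogeneous_of_mul hh h0
    exact Or.inr (isUnit_of_dehom W Q a ha ⟨P, hPQ.trans (mul_comm P Q)⟩ h)

end Groth.Agent.S19178
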