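import Groth.Statements.S19179
import Groth.Agent.PrinPartDegLib.Main
import Groth.Agent.S1612
import Groth.Agent.CurveLib.CurveVanish

set_option backward.isDefEq.respectTransparency false
set_option backward.isDefEq.respectTransparency.types false

set_option autoImplicit false
universe u
open CategoryTheory CategoryTheory.Limits AlgebraicGeometry
open PrinPart

open Groth.Agent
namespace Groth.Agent.S19179

/-- Degree of the jet module: this is the computation carried out in the proof. Let k be a field and X a
smooth proper integral scheme of dimension 1 over k whose space of global functions is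
one-dimensional, of genus g (the k-dimension of H¹(X, O_X)); let L be an invertible O_X-module of
degree d and m ≥ 0. The module of principal parts of order m of L relative to X → Spec k
(pushforward to the first factor of the pullback of L to the m-th infinitesimal neighbourhood of the
diagonal) is locally free of rank m + 1, and its degree, computed as for a locally free module of
rank m + 1, equals (m + 1) d + (2g − 2) · m (m + 1)/2. (The source uses this to count the inflection
points of a non-degenerate map to projective (m+1)−1-space given by m + 1 sections of L: when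
finite, the inflection subscheme has this degree.) -/
theorem result (k : Type u) [Field k] (X : Scheme.{u})
    [X.Over (Spec (CommRingCat.of k))] [IsIntegral X]
    [IsProper (X ↘ (Spec (CommRingCat.of k)))] [Smooth (X ↘ (Spec (CommRingCat.of k)))]
    (hdim : topologicalKrullDim X = 1)
    (h0 : Module.finrank k (Coh.HH X (Coh.structureModule X) 0) = 1)
    (L : X.Modules) (hL : PicF.IsInvertible L) (m : ℕ) :
    Curv2.deg k X (PrinPart.PMod (X ↘ (Spec (CommRingCat.of k))) m L) (m + 1) =
      (m + 1 : ℤ) * Curv2.deg k X L 1 +
        (2 * (Curv2.genus k X : ℤ) - 2) * ((m * (m + 1) / 2 : ℕ) : ℤ) := by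
  let f := X ↘ Spec (CommRingCat.of k)
  haveI : IsProper f := ‹IsProper (X ↘ Spec (CommRingCat.of k))›
  haveI : Smooth f := ‹Smooth (X ↘ Spec (CommRingCat.of k))›
  haveI := EulerIneqLib.isNoetherian_proper (X := X) k
  haveI := PrinPartDegLib.smoothOfRelativeDimension_one f hdim
  letI : (pullback f f).Over (Spec (CommRingCat.of k)) := ⟨pullback.fst f f ≫ f⟩
  haveI : IsProper ((pullback f f) ↘ Spec (CommRingCat.of k)) :=
    inferInstanceAs (IsProper (pullback.fst f f ≫ f))
  haveI := EtAlgEasy.PrinPartAff.isIso_ι_coborderRange (pullback.diagonal f)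
  haveI : IsClosedImmersion (PrinPart.infNbhdι (PrinPart.diagCl f) m) := by
    unfold PrinPart.infNbhdι; infer_instance
  haveI : IsClosedImmersion (PrinPart.nbhdι f m) := by
    unfold PrinPart.nbhdι; infer_instance
  letI : (PrinPart.nbhd f m).Over (Spec (CommRingCat.of k)) := ⟨PrinPart.pr1 f m ≫ f⟩
  haveI : IsProper (PrinPart.nbhd f m ↘ Spec (CommRingCat.of k)) :=
    inferInstanceAs (IsProper ((PrinPart.nbhdι f m ≫ pullback.fst f f) ≫ f))
  have hM : PicF.IsInvertible ((Scheme.Modules.pullback (pullback.snd f f)).obj L) := AmpleLib.isInvertible_pullback _ hL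
  haveI : Coh.IsQCoh ((Scheme.Modules.pullback (PrinPart.pr2 f m)).obj L) :=
    (haveI : IsLocallyNoetherian (PrinPart.nbhd f m) :=
      LocallyOfFiniteType.isLocallyNoetherian (PrinPart.nbhd f m ↘ Spec (CommRingCat.of k))
     (CurveLib.isCoh_of_isInvertible (AmpleLib.isInvertible_pullback _ hL)).1)
  have h1 : Curv2.euler k X (PrinPart.PMod f m L) =
      Curv2.euler k (PrinPart.nbhd f m) ((Scheme.Modules.pullback (PrinPart.pr2 f m)).obj L) :=
    IntLib.euler_push k (PrinPart.pr1 f m) rfl _
  have h2 : Curv2.euler k (PrinPart.nbhd f m) ((Scheme.Modules.pullback (PrinPart.pr2 f m)).obj L) =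
      Curv2.euler k (PrinPart.nbhd f m)
        ((Scheme.Modules.pullback (PrinPart.nbhdι f m)).obj ((Scheme.Modules.pullback (pullback.snd f f)).obj L)) :=
    (CurveLib.euler_iso (K := k) ((Scheme.Modules.pullbackComp (PrinPart.nbhdι f m) (pullback.snd f f)).app L)).symm
  have h3 := PrinPartDegLib.euler_thick (k := k) (P := pullback f f) (i := pullback.diagonal f)
    (show pullback.diagonal f ≫ pullback.fst f f ≫ f = f by rw [pullback.diagonal_fst_assoc])
    (JacLib.isInvertible_diag f) hM m (h := PrinPart.nbhdι f m) (Category.assoc _ _ _).symm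
    (PrinPartDegLib.ker_nbhdι f m)
  have hΩ : PicF.IsInvertible (Omega.sheaf f) := AmpleLib.isInvertible_pullback _ (JacLib.isInvertible_diag f)
  have hdΩ := (S1612.result k X ⟨inferInstance, inferInstance, inferInstance, hdim⟩ h0).2
  have hterm : ∀ j : ℕ, Curv2.euler k X (CohB1.tensorMod (CohB1.tensorPow
      ((Scheme.Modules.pullback (pullback.diagonal f)).obj (ClSub.idealMod (pullback.diagonal f).ker)) j)
      ((Scheme.Modules.pullback (pullback.diagonal f)).obj ((Scheme.Modules.pullback (pullback.snd f f)).obj L))) =
      (j : ℤ) * (2 * (Curv2.genus k X : ℤ) - 2) + (Curv2.deg k X L 1 + Curv2.euler k X (Coh.structureModule X)) := fun j => by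
    let e : (Scheme.Modules.pullback (pullback.diagonal f)).obj ((Scheme.Modules.pullback (pullback.snd f f)).obj L) ≅ L :=
      (Scheme.Modules.pullbackComp (pullback.diagonal f) (pullback.snd f f)).app L ≪≫
        (Scheme.Modules.pullbackCongr (pullback.diagonal_snd f)).app L ≪≫ (Scheme.Modules.pullbackId X).app L
    rw [CurveLib.euler_iso (K := k) (AmpleLib.tIso (Iso.refl _) e)]
    have h := CurveLib.deg_tensor_add (k := k) hdim.le (AmpleLib.isInvertible_tensorPow hΩ j) hL
    rw [CurveLib.deg_tensorPow (k := k) hdim.le hΩ j, hdΩ] at h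
    unfold Curv2.deg at h ⊢
    push_cast at h ⊢
    change Curv2.euler k X (CohB1.tensorMod (CohB1.tensorPow (Omega.sheaf f) j) L) = _
    linarith
  show Curv2.euler k X (PrinPart.PMod f m L) - ((m + 1 : ℕ) : ℤ) * Curv2.euler k X (Coh.structureModule X) = _
  rw [h1, h2, h3, Finset.sum_congr rfl (fun j _ => hterm j), Finset.sum_add_distrib, ← Finset.sum_mul,
    ← Nat.cast_sum, Finset.sum_range_id, Nat.add_sub_cancel, mul_comm (m + 1) m, Finset.sum_const, Finset.card_range, nsmul_eq_mul]
  push_cast
  ring

end Groth.Agent.S19179
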