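import Groth.Statements.S1918
import Groth.Agent.CycLib.Restrict

set_option autoImplicit false
universe u
open CategoryTheory AlgebraicGeometry
open CategoryTheory.Limits
open Cyc

namespace Groth.Agent.S1918

open CategoryTheory CategoryTheory.Limits AlgebraicGeometry

set_option backward.isDefEq.respectTransparency false
set_option backward.defeqAttrib.useBackward true
set_option linter.style.haveILetI false


/-- Mayer–Vietoris for Chow groups, exactness in the middle: let i₁ : X₁ → X, i₂ : X₂ → X be closed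
immersions covering X set-theoretically and X₁₂ = X₁ ×_X X₂ their scheme-theoretic intersection. If
k-cycles α₁ on X₁ and α₂ on X₂ have rationally equivalent pushforwards on X, then there is a k-cycle
β on X₁₂ with α₁ ∼_rat (pr₁)_*β on X₁ and α₂ ∼_rat (pr₂)_*β on X₂. (The published statement also
asserts that CH_k(X₁) ⊕ CH_k(X₂) → CH_k(X) is surjective; that is not asserted here.) Here a pair
(X, δ) with Cyc.IsSetup plays the role of a scheme locally of finite type over a fixed base with a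
dimension function (X locally Noetherian with universally catenary local rings, δ a dimension
function). -/
theorem result (X : Scheme.{u}) (δ : X → ℤ) (hX : Cyc.IsSetup X δ) (X₁ X₂ : Scheme.{u}) (i₁ : X₁ ⟶ X) (i₂ : X₂ ⟶ X) [IsClosedImmersion i₁] [IsClosedImmersion i₂] (hcov : Set.range ⇑i₁ ∪ Set.range ⇑i₂ = Set.univ) (k : ℤ) (α₁ : AlgebraicCycle X₁ ℤ) (α₂ : AlgebraicCycle X₂ ℤ) (h₁ : α₁ ∈ Cyc.Zk X₁ (fun x => δ (i₁ x)) k) (h₂ : α₂ ∈ Cyc.Zk X₂ (fun x => δ (i₂ x)) k) (h : Cyc.RatEquiv δ k (AlgebraicCycle.map i₁ (fun x => δ (i₁ x)) δ α₁) (AlgebraicCycle.map i₂ (fun x => δ (i₂ x)) δ α₂)) : ∃ β : AlgebraicCycle (pullback i₁ i₂) ℤ, β ∈ Cyc.Zk (pullback i₁ i₂) (fun z => δ (i₁ (pullback.fst i₁ i₂ z))) k ∧ Cyc.RatEquiv (fun x => δ (i₁ x)) k α₁ (AlgebraicCycle.map (pullback.fst i₁ i₂) (fun z => δ (i₁ (pullback.fst i₁ i₂ z))) (fun x => δ (i₁ x)) β) ∧ Cyc.RatEquiv (fun x => δ (i₂ x)) k α₂ (AlgebraicCycle.map (pullback.snd i₁ i₂) (fun z => δ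 (i₁ (pullback.fst i₁ i₂ z))) (fun x => δ (i₂ x)) β) := by
  classical
  obtain ⟨hXn, -, hδ⟩ := hX
  haveI := CycLib.isLocallyNoetherian_closed i₁
  haveI := CycLib.isLocallyNoetherian_closed i₂
  haveI := CycLib.isLocallyNoetherian_closed (pullback.fst i₁ i₂)
  obtain ⟨F, hF⟩ := (CycLib.ratEquivZero_iff _).1 h
  let P := F.part fun j => F.ξ j ∈ Set.range i₁
  let Q := F.part fun j => ¬ F.ξ j ∈ Set.range i₁
  have hP : ∀ j, P.ξ j ∈ Set.range i₁ := fun j => j.2
  have hQ : ∀ j, Q.ξ j ∈ Set.range i₂ := fun j =>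
    (Set.eq_univ_iff_forall.1 hcov (F.ξ j.1)).resolve_left j.2
  set m₁ := AlgebraicCycle.map i₁ (fun x => δ (i₁ x)) δ α₁
  set m₂ := AlgebraicCycle.map i₂ (fun x => δ (i₂ x)) δ α₂
  have hsum : ∀ x, m₁ x - m₂ x = P.cycle hδ x + Q.cycle hδ x := fun x =>
    (hF x).trans (CycLib.Fam.cycle_part_add hδ F _ x)
  let π₁ := pullback.fst i₁ i₂
  let π₂ := pullback.snd i₁ i₂
  have hc : ∀ z, i₁ (π₁ z) = i₂ (π₂ z) := fun z => by
    rw [← Scheme.Hom.comp_apply, ← Scheme.Hom.comp_apply, pullback.condition]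
  let cut : AlgebraicCycle X ℤ := m₁ - P.cycle hδ
  let ι := π₁ ≫ i₁
  let β : AlgebraicCycle (pullback i₁ i₂ : Scheme.{u}) ℤ :=
    { toFun := fun z => cut (ι z)
      supportWithinDomain' := Set.subset_univ _
      supportLocallyFiniteWithinDomain' := fun z _ => by
        obtain ⟨W, hW, hz⟩ := CycLib.exists_affine (ι z)
        refine ⟨ι ⁻¹ᵁ W, (ι ⁻¹ᵁ W).2.mem_nhds hz, ((cut.locallyFiniteSupport.finite_inter_support_of_isCompact
          hW.isCompact).preimage ι.isEmbedding.injective.injOn).subset fun y hy => hy⟩ }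
  have hzk : ∀ z, δ (i₁ (π₁ z)) ≠ k → β z = 0 := fun z hz => by
    show m₁ (i₁ (π₁ z)) - P.cycle hδ (i₁ (π₁ z)) = 0
    rw [CycLib.map_closed_apply, h₁ _ hz, zero_sub, neg_eq_zero]
    refine finsum_eq_zero_of_forall_eq_zero fun j => ?_
    by_contra hne
    have := (CycLib.specializes_of_divFun_ne_zero hne).2
    have := P.hξ j
    exact hz (by omega)
  refine ⟨β, hzk, ?_, ?_⟩
  · refine CycLib.Fam.ratEquivZero_restrict i₁ hδ P hP _ fun x => ?_
    show α₁ x - AlgebraicCycle.map π₁ (fun z => δ (i₁ (π₁ z))) (fun x => δ (i₁ x)) β x = _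
    by_cases hx : i₁ x ∈ Set.range i₂
    · obtain ⟨y, hy⟩ := hx
      obtain ⟨z, rfl, -⟩ := Scheme.Pullback.exists_preimage_pullback (f := i₁) (g := i₂) x y hy.symm
      rw [CycLib.map_closed_apply (δ := fun x => δ (i₁ x)) π₁ β z]
      show α₁ (π₁ z) - (m₁ (i₁ (π₁ z)) - P.cycle hδ (i₁ (π₁ z))) = P.cycle hδ (i₁ (π₁ z))
      rw [CycLib.map_closed_apply]
      ring
    · rw [CycLib.map_closed_apply_of_notMem (δ := fun x => δ (i₁ x)) π₁ β (fun ⟨z, hz⟩ => hx ⟨π₂ z, by rw [← hc, hz]⟩),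
        sub_zero]
      have := hsum (i₁ x)
      rw [CycLib.map_closed_apply, CycLib.map_closed_apply_of_notMem i₂ α₂ hx,
        CycLib.Fam.cycle_apply_eq_zero_of_notMem i₂ hδ Q hQ hx] at this
      omega
  · have e : (fun z => δ (i₁ (π₁ z))) = fun z => δ (i₂ (π₂ z)) := funext fun z => congrArg δ (hc z)
    have h0 : Cyc.RatEquivZero (fun x => δ (i₂ x)) k
        (-(α₂ - AlgebraicCycle.map π₂ (fun z => δ (i₁ (π₁ z))) (fun x => δ (i₂ x)) β)) := by
      refine CycLib.Fam.ratEquivZero_restrict i₂ hδ Q hQ _ fun x => ?_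
      show -(α₂ x - AlgebraicCycle.map π₂ (fun z => δ (i₁ (π₁ z))) (fun x => δ (i₂ x)) β x) = _
      rw [e]
      by_cases hx : i₂ x ∈ Set.range i₁
      · obtain ⟨y, hy⟩ := hx
        obtain ⟨z, -, rfl⟩ := Scheme.Pullback.exists_preimage_pullback (f := i₁) (g := i₂) y x hy
        rw [CycLib.map_closed_apply (δ := fun x => δ (i₂ x)) π₂ β z]
        show -(α₂ (π₂ z) - (m₁ (i₁ (π₁ z)) - P.cycle hδ (i₁ (π₁ z)))) = Q.cycle hδ (i₂ (π₂ z))
        have := hsum (i₂ (π₂ z))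
        rw [CycLib.map_closed_apply] at this
        rw [hc]
        omega
      · rw [CycLib.map_closed_apply_of_notMem (δ := fun x => δ (i₂ x)) π₂ β (fun ⟨z, hz⟩ => hx ⟨π₁ z, by rw [hc, hz]⟩),
          sub_zero]
        have := hsum (i₂ x)
        rw [CycLib.map_closed_apply, CycLib.map_closed_apply_of_notMem i₁ α₁ hx,
          CycLib.Fam.cycle_apply_eq_zero_of_notMem i₁ hδ P hP hx] at this
        omega
    have h1 := CycLib.ratEquivZero_neg (CycLib.isDimFun_closed i₂ hδ) h0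
    rwa [neg_neg] at h1

end Groth.Agent.S1918
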