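import Groth.Statements.S19180
import Groth.Agent.S0844
import Groth.Agent.SerreAff.Basic
import Groth.Agent.DCohLib.Restrict

set_option autoImplicit false
universe u
open Coherent

namespace Groth.Agent.S19180

open CategoryTheory CategoryTheory.Limits AlgebraicGeometry


open CategoryTheory CategoryTheory.Limits AlgebraicGeometry

theorem subsingleton_congr {Y : Scheme.{u}} {A B : Y.Modules} (e : A ≅ B) (n : ℕ) (h : Subsingleton (Coh.HH Y A n)) :
    Subsingleton (Coh.HH Y B n) :=
  @Equiv.subsingleton _ _ (((Sheaf.functorH _ n).mapIso ((Groth.Agent.QCohLib.toAbF Y).mapIso e)).addCommGroupIsoToAddEquiv.toEquiv).symm h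

open CategoryTheory AlgebraicGeometry in
/-- Let R be a local ring and m ≥ 1, and consider the projective line P¹_R with its structure sheaf O
and twisting sheaf O(m). For every O-module F and every short exact sequence 0 → O(m) → F → O → 0 of
O-modules, the surjection F → O admits a section; consequently F is isomorphic to O(m) ⊕ O. -/
theorem result (R : Type u) [CommRing R] [IsLocalRing R]
    (m : ℕ) (hm : 1 ≤ m) (F : (CohB1.ProjSpace 1 R).Modules)
    (i : Twist.twistProjSpace 1 R (m : ℤ) ⟶ F) (p : F ⟶ Coh.structureModule (CohB1.ProjSpace 1 R))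
    (w : i ≫ p = 0) (hex : (ShortComplex.mk i p w).ShortExact) :
    ∃ s : Coh.structureModule (CohB1.ProjSpace 1 R) ⟶ F, s ≫ p = 𝟙 _ := by
  haveI := hex.epi_g
  haveI : Epi p := hex.epi_g
  let X := CohB1.ProjSpace 1 R
  have hk : Subsingleton (Coh.HH X (kernel p) 1) :=
    subsingleton_congr (hex.fIsKernel.conePointUniqueUpToIso (kernelIsKernel p)) 1
      (Groth.Agent.S0844.result R 1 (m : ℤ) 1 (by omega) (by omega))
  obtain ⟨e, he⟩ := Groth.Agent.SerreAff.surjective_top p hk (1 : Γ(X, ⊤))
  refine ⟨Groth.Agent.DCohLib.secHom F e, Groth.Agent.DCohLib.hom_unit_ext ?_⟩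
  show p.app ⊤ ((Groth.Agent.DCohLib.secHom F e).app ⊤ (1 : Γ(X, ⊤))) = (1 : Γ(X, ⊤))
  rw [Groth.Agent.DCohLib.secHom_app_one]
  exact (congrArg (p.app ⊤) (Groth.Agent.CohBase.restr_self F _ e)).trans he

end Groth.Agent.S19180
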