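import Mathlib
import Mathlib
import Groth.Statements.S19181

set_option autoImplicit false
universe u
open CAlg

namespace Groth.Agent.S19181

open MvPolynomial in
/-- Let R be a commutative ring, a₁, a₂ ∈ R, and C ⊂ A²_R the curve y² + a₁xy = x³ + a₂x², blown up at
the section x = y = 0. In the chart where x = yα (variables y = X 0, α = X 1) the equation of C
becomes y²·g₁ with g₁ = 1 + a₁α − yα³ − a₂α², and the y-saturation of the ideal (y²g₁) is (g₁): for
s ∈ R[y, α], some yⁿs lies in (y²g₁) if and only if s ∈ (g₁). In the chart where y = xβ (variables x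
= X 0, β = X 1) the equation becomes x²·g₂ with g₂ = β² + a₁β − x − a₂, and some xⁿs lies in (x²g₂)
if and only if s ∈ (g₂). In other words the strict transform of C is cut out by g₁, resp. g₂, in the
two charts. -/
theorem result (R : Type u) [CommRing R] (a₁ a₂ : R) :
    (∀ s : MvPolynomial (Fin 2) R,
      (∃ n : ℕ, X 0 ^ n * s ∈ Ideal.span ({X 0 ^ 2 * (1 + C a₁ * X 1 - X 0 * X 1 ^ 3 - C a₂ * X 1 ^ 2)} :
        Set (MvPolynomial (Fin 2) R))) ↔
      s ∈ Ideal.span ({1 + C a₁ * X 1 - X 0 * X 1 ^ 3 - C a₂ * X 1 ^ 2} : Set (MvPolynomial (Fin 2) R))) ∧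
    (∀ s : MvPolynomial (Fin 2) R,
      (∃ n : ℕ, X 0 ^ n * s ∈ Ideal.span ({X 0 ^ 2 * (X 1 ^ 2 + C a₁ * X 1 - X 0 - C a₂)} :
        Set (MvPolynomial (Fin 2) R))) ↔
      s ∈ Ideal.span ({X 1 ^ 2 + C a₁ * X 1 - X 0 - C a₂} : Set (MvPolynomial (Fin 2) R))) := by
  let ψ : MvPolynomial (Fin 2) R →ₐ[R] Polynomial R := aeval ![0, Polynomial.X]
  let ι : Polynomial R →ₐ[R] MvPolynomial (Fin 2) R := Polynomial.aeval (X 1)
  have hdvd : ∀ c : MvPolynomial (Fin 2) R, X 0 ∣ c - ι (ψ c) := by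
    intro c
    induction c using MvPolynomial.induction_on with
    | C a => simp [ψ, ι]
    | add p q hp hq =>
      rw [map_add, map_add, show p + q - (ι (ψ p) + ι (ψ q)) = (p - ι (ψ p)) + (q - ι (ψ q)) by ring]
      exact dvd_add hp hq
    | mul_X p i hp =>
      fin_cases i
      · simp [ψ]
      · have h1 : ι (ψ (p * X 1)) = ι (ψ p) * X 1 := by simp [ψ, ι]
        show X 0 ∣ p * X 1 - ι (ψ (p * X 1))
        rw [h1, ← sub_mul]
        exact dvd_mul_of_dvd_left hp _
  have hψX : ψ (X 0) = 0 := by simp [ψ]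
  have hreg : ∀ a : MvPolynomial (Fin 2) R, X 0 * a = 0 → a = 0 := fun a ha => by
    refine MvPolynomial.ext _ _ fun m => ?_
    have h := MvPolynomial.coeff_X_mul m (0 : Fin 2) a
    rw [ha, MvPolynomial.coeff_zero] at h
    rw [← h, MvPolynomial.coeff_zero]
  have key : ∀ g : MvPolynomial (Fin 2) R, (∀ q : Polynomial R, ψ g * q = 0 → q = 0) →
      ∀ (n : ℕ) (s : MvPolynomial (Fin 2) R), g ∣ X 0 ^ n * s → g ∣ s := by
    intro g hg n
    induction n with
    | zero => intro s h; simpa using h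
    | succ n ih =>
      intro s ⟨c, hc⟩
      have hψc : ψ c = 0 := hg _ (by rw [← map_mul, ← hc, map_mul, map_pow, hψX, zero_pow (Nat.succ_ne_zero n), zero_mul])
      obtain ⟨c', hc'⟩ := hdvd c
      rw [hψc, map_zero, sub_zero] at hc'
      refine ih s ⟨c', sub_eq_zero.1 (hreg _ ?_)⟩
      rw [mul_sub, show X 0 * (X 0 ^ n * s) = X 0 ^ (n + 1) * s by ring, hc, hc']
      ring
  have main : ∀ g : MvPolynomial (Fin 2) R, (∀ q : Polynomial R, ψ g * q = 0 → q = 0) →
      ∀ s, (∃ n : ℕ, X 0 ^ n * s ∈ Ideal.span {X 0 ^ 2 * g}) ↔ s ∈ Ideal.span {g} := by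
    intro g hg s
    simp only [Ideal.mem_span_singleton]
    exact ⟨fun ⟨n, hn⟩ => key g hg n s ((dvd_mul_left g _).trans hn), fun h => ⟨2, mul_dvd_mul_left _ h⟩⟩
  refine ⟨fun s => main _ (fun q hq => ?_) s, fun s => main _ (fun q hq => ?_) s⟩
  · rw [← Polynomial.coe_eq_zero_iff]
    have hq' := congrArg (fun p : Polynomial R => (p : PowerSeries R)) hq
    simp only [Polynomial.coe_mul, Polynomial.coe_zero] at hq'
    refine (IsUnit.mul_right_eq_zero ?_).1 hq'
    rw [PowerSeries.isUnit_iff_constantCoeff, Polynomial.constantCoeff_coe]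
    simp [ψ]
  · have hm : (ψ (X 1 ^ 2 + C a₁ * X 1 - X 0 - C a₂)).Monic := by
      rw [show ψ (X 1 ^ 2 + C a₁ * X 1 - X 0 - C a₂) =
        Polynomial.X ^ 2 + (Polynomial.C a₁ * Polynomial.X - Polynomial.C a₂) by simp [ψ]; ring]
      refine Polynomial.monic_X_pow_add ?_
      refine lt_of_le_of_lt (Polynomial.degree_sub_le _ _) (max_lt (lt_of_le_of_lt (Polynomial.degree_C_mul_X_le a₁) ?_)
        (lt_of_le_of_lt Polynomial.degree_C_le ?_)) <;> decide
    exact hm.mul_right_eq_zero_iff.1 hq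

end Groth.Agent.S19181
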