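import Mathlib
import Mathlib
import Groth.Statements.S19182

set_option autoImplicit false
universe u
open CAlg

namespace Groth.Agent.S19182

open MvPolynomial in
/-- Let R be a commutative ring and a₁, a₂ ∈ R. The two affine charts of the blow-up of the plane curve
y² + a₁xy = x³ + a₂x² at the section x = y = 0, with coordinate rings R[y, α]/(1 + a₁α − yα³ − a₂α²)
and R[x, β]/(β² + a₁β − x − a₂) (variables indexed 0 and 1 in this order), are smooth R-algebras
(formally smooth of finite presentation). This is the local computation behind the statement that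
the blow-up of a Weierstrass curve along a section through its singular locus is a smooth proper
curve of genus 0. -/
theorem result (R : Type u) [CommRing R] (a₁ a₂ : R) :
    Algebra.Smooth R (MvPolynomial (Fin 2) R ⧸
      Ideal.span ({1 + C a₁ * X 1 - X 0 * X 1 ^ 3 - C a₂ * X 1 ^ 2} : Set (MvPolynomial (Fin 2) R))) ∧
    Algebra.Smooth R (MvPolynomial (Fin 2) R ⧸
      Ideal.span ({X 1 ^ 2 + C a₁ * X 1 - X 0 - C a₂} : Set (MvPolynomial (Fin 2) R))) := by
  haveI hRX : Algebra.Smooth R (Polynomial R) := ⟨inferInstance, inferInstance⟩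
  constructor
  · let I : Ideal (MvPolynomial (Fin 2) R) :=
      Ideal.span {1 + C a₁ * X 1 - X 0 * X 1 ^ 3 - C a₂ * X 1 ^ 2}
    let L := Localization.Away (Polynomial.X : Polynomial R)
    let xL : L := algebraMap (Polynomial R) L Polynomial.X
    let uL : L := IsLocalization.Away.invSelf (Polynomial.X : Polynomial R)
    have hxu : xL * uL = 1 := IsLocalization.Away.mul_invSelf _
    let f₀ : MvPolynomial (Fin 2) R →ₐ[R] L :=
      aeval ![(1 + algebraMap R L a₁ * xL - algebraMap R L a₂ * xL ^ 2) * uL ^ 3, xL]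
    have hf₀ : ∀ z ∈ I, f₀ z = 0 := fun z hz => by
      have hle : I ≤ RingHom.ker f₀ := (Ideal.span_singleton_le_iff_mem _).2 (by
        rw [RingHom.mem_ker]
        simp only [f₀, map_sub, map_add, map_one, map_mul, map_pow, aeval_X, aeval_C, Matrix.cons_val_zero,
          Matrix.cons_val_one]
        linear_combination (-(1 + algebraMap R L a₁ * xL - algebraMap R L a₂ * xL ^ 2) *
          (xL ^ 2 * uL ^ 2 + xL * uL + 1)) * hxu)
      exact hle hz
    let f : (MvPolynomial (Fin 2) R ⧸ I) →ₐ[R] L := Ideal.Quotient.liftₐ I f₀ hf₀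
    let αA : MvPolynomial (Fin 2) R ⧸ I := Ideal.Quotient.mkₐ R I (X 1)
    let yA : MvPolynomial (Fin 2) R ⧸ I := Ideal.Quotient.mkₐ R I (X 0)
    have hrel : 1 + algebraMap R _ a₁ * αA - yA * αA ^ 3 - algebraMap R _ a₂ * αA ^ 2 = 0 := by
      have h := Ideal.Quotient.eq_zero_iff_mem.2 (Ideal.mem_span_singleton_self
        (1 + C a₁ * X 1 - X 0 * X 1 ^ 3 - C a₂ * X 1 ^ 2 : MvPolynomial (Fin 2) R))
      rw [← h]
      simp only [map_sub, map_add, map_one, map_mul, map_pow]
      rfl
    have hunit : IsUnit αA := IsUnit.of_mul_eq_one (yA * αA ^ 2 + algebraMap R _ a₂ * αA - algebraMap R _ a₁)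
      (by linear_combination -hrel)
    have hunit' : ∀ y : Submonoid.powers (Polynomial.X : Polynomial R), IsUnit (Polynomial.aeval αA y.1) := by
      rintro ⟨_, n, rfl⟩
      simp only [map_pow, Polynomial.aeval_X]
      exact hunit.pow n
    let g : L →ₐ[R] (MvPolynomial (Fin 2) R ⧸ I) := IsLocalization.liftAlgHom (f := Polynomial.aeval αA) hunit'
    have hgx : g xL = αA := by
      show IsLocalization.lift _ (algebraMap (Polynomial R) L Polynomial.X) = αA
      rw [IsLocalization.lift_eq]
      simp
    have hgu : αA * g uL = 1 := by rw [← hgx, ← map_mul, hxu, map_one]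
    have h1 : g.comp f = AlgHom.id R _ := by
      refine Ideal.Quotient.algHom_ext R ?_
      refine MvPolynomial.algHom_ext fun i => ?_
      fin_cases i
      · show g (f₀ (X 0)) = yA
        simp only [f₀, aeval_X, Matrix.cons_val_zero, map_mul, map_sub, map_add, map_one, map_pow, AlgHom.commutes, hgx]
        linear_combination (g uL ^ 3) * hrel + (yA * (αA ^ 2 * g uL ^ 2 + αA * g uL + 1)) * hgu
      · show g (f₀ (X 1)) = αA
        simp only [f₀, aeval_X, Matrix.cons_val_one]
        exact hgx
    have h2 : f.comp g = AlgHom.id R L := by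
      refine IsLocalization.algHom_ext (Submonoid.powers (Polynomial.X : Polynomial R)) ?_
      refine Polynomial.algHom_ext ?_
      show f (g xL) = xL
      rw [hgx]
      show f₀ (X 1) = xL
      simp [f₀]
    let e : (MvPolynomial (Fin 2) R ⧸ I) ≃ₐ[R] L := AlgEquiv.ofAlgHom f g h2 h1
    haveI : Algebra.Smooth R L := Algebra.Smooth.comp R (Polynomial R) L
    exact Algebra.Smooth.of_equiv e.symm
  · let I : Ideal (MvPolynomial (Fin 2) R) := Ideal.span {X 1 ^ 2 + C a₁ * X 1 - X 0 - C a₂}
    let xP : Polynomial R := Polynomial.X ^ 2 + Polynomial.C a₁ * Polynomial.X - Polynomial.C a₂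
    let f₀ : MvPolynomial (Fin 2) R →ₐ[R] Polynomial R := aeval ![xP, Polynomial.X]
    have hf₀ : ∀ z ∈ I, f₀ z = 0 := fun z hz => by
      have hle : I ≤ RingHom.ker f₀ := (Ideal.span_singleton_le_iff_mem _).2 (by
        rw [RingHom.mem_ker]
        simp [f₀, xP])
      exact hle hz
    let f : (MvPolynomial (Fin 2) R ⧸ I) →ₐ[R] Polynomial R := Ideal.Quotient.liftₐ I f₀ hf₀
    let g : Polynomial R →ₐ[R] (MvPolynomial (Fin 2) R ⧸ I) := Polynomial.aeval (Ideal.Quotient.mkₐ R I (X 1))
    have h1 : g.comp f = AlgHom.id R _ := by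
      refine Ideal.Quotient.algHom_ext R ?_
      refine MvPolynomial.algHom_ext fun i => ?_
      fin_cases i
      · show g (f₀ (X 0)) = Ideal.Quotient.mkₐ R I (X 0)
        have h : (Ideal.Quotient.mkₐ R I) (X 1 ^ 2 + C a₁ * X 1 - X 0 - C a₂) = 0 :=
          Ideal.Quotient.eq_zero_iff_mem.2 (Ideal.mem_span_singleton_self _)
        simp only [map_sub, map_add, map_mul, map_pow] at h
        simp only [f₀, g, xP, aeval_X, Matrix.cons_val_zero, map_sub, map_add, map_mul, map_pow, Polynomial.aeval_X,
          Polynomial.aeval_C]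
        rw [show ∀ a : R, algebraMap R (MvPolynomial (Fin 2) R ⧸ I) a = Ideal.Quotient.mkₐ R I (C a) from fun a => rfl,
          show ∀ a : R, algebraMap R (MvPolynomial (Fin 2) R ⧸ I) a = Ideal.Quotient.mkₐ R I (C a) from fun a => rfl]
        linear_combination h
      · show g (f₀ (X 1)) = Ideal.Quotient.mkₐ R I (X 1)
        simp [f₀, g]
    have h2 : f.comp g = AlgHom.id R _ := by
      refine Polynomial.algHom_ext ?_
      show f (Polynomial.aeval _ Polynomial.X) = Polynomial.X
      rw [Polynomial.aeval_X]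
      show f₀ (X 1) = _
      simp [f₀]
    let e : (MvPolynomial (Fin 2) R ⧸ I) ≃ₐ[R] Polynomial R := AlgEquiv.ofAlgHom f g h2 h1
    exact Algebra.Smooth.of_equiv e.symm

end Groth.Agent.S19182
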