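import Groth.Statements.S19183
import Mathlib

set_option autoImplicit false
universe u
open CAlg

namespace Groth.Agent.S19183

/-- Let A be a non-zero commutative ring and f ∈ A a non-zero-divisor. The fibre product A ×_{A/(f)} A
of two copies of A over A/(f) — the A-submodule of A × A of pairs (x, y) with x − y ∈ (f), which is
the coordinate ring of two copies of Spec A glued along the Cartier divisor f = 0 — is a free
A-module of rank 2. (This is what makes the gluing of two copies of a curve along an effective
Cartier divisor finite locally free of degree 2 over the curve.) -/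
theorem result (A : Type u) [CommRing A] [Nontrivial A]
    (f : A) (hf : f ∈ nonZeroDivisors A) :
    Module.Free A (Submodule.comap (LinearMap.fst A A A - LinearMap.snd A A A) (Ideal.span ({f} : Set A))) ∧
      Module.finrank A (Submodule.comap (LinearMap.fst A A A - LinearMap.snd A A A) (Ideal.span ({f} : Set A))) = 2 := by
  set S := Submodule.comap (LinearMap.fst A A A - LinearMap.snd A A A) (Ideal.span ({f} : Set A))
  let g : A × A →ₗ[A] S := LinearMap.codRestrict S
    { toFun := fun x => (x.1, x.1 - x.2 * f), map_add' := fun x y => by ext <;> simp <;> ring,
      map_smul' := fun c x => by ext <;> simp <;> ring }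
    (fun x => Ideal.mem_span_singleton'.mpr ⟨x.2, by simp⟩)
  have hg : Function.Bijective g := by
    constructor
    · intro x y h
      have h1 := congrArg (fun z : S => (z : A × A).1) h
      have h2 := congrArg (fun z : S => (z : A × A).2) h
      simp [g] at h1 h2
      refine Prod.ext h1 ?_
      rw [h1, sub_right_inj] at h2
      exact mul_cancel_right_mem_nonZeroDivisors hf |>.mp h2
    · rintro ⟨⟨a, b⟩, h⟩
      obtain ⟨c, hc⟩ := Ideal.mem_span_singleton'.mp h
      refine ⟨(a, c), Subtype.ext (Prod.ext rfl ?_)⟩
      simp [g] at hc ⊢
      rw [hc]; ring
  let e := LinearEquiv.ofBijective g hg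
  exact ⟨Module.Free.of_equiv e, by rw [← e.finrank_eq, Module.finrank_prod, Module.finrank_self]⟩

end Groth.Agent.S19183
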