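import Groth.Statements.S19184
import Mathlib

set_option autoImplicit false
universe u
open CAlg

namespace Groth.Agent.S19184

open Polynomial in
/-- Let S be a commutative ring, a, b ∈ S, f = x² + ax + b ∈ S[x] and R = S[x]/(f), a free S-algebra of
rank 2. Let A ⊂ S[x] be the S-subalgebra of polynomials whose class in R lies in the image of S → R;
it is the fibre product S[x] ×_R S, the coordinate ring of the affine line over S with the degree-2
subscheme Spec R collapsed onto Spec S. Then A is a free S-module and S[x] is a finitely generated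
A-module. -/
theorem result (S : Type u) [CommRing S] (a b : S) :
    Module.Free S ((⊥ : Subalgebra S (S[X] ⧸ Ideal.span ({X ^ 2 + C a * X + C b} : Set S[X]))).comap
        (Ideal.Quotient.mkₐ S (Ideal.span ({X ^ 2 + C a * X + C b} : Set S[X])))) ∧
      Module.Finite ((⊥ : Subalgebra S (S[X] ⧸ Ideal.span ({X ^ 2 + C a * X + C b} : Set S[X]))).comap
        (Ideal.Quotient.mkₐ S (Ideal.span ({X ^ 2 + C a * X + C b} : Set S[X])))) S[X] := by
  classical
  rcases subsingleton_or_nontrivial S with hS | hS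
  · exact ⟨Module.Free.of_subsingleton' S _, ⟨⟨∅, Subsingleton.elim _ _⟩⟩⟩
  set f : S[X] := X ^ 2 + C a * X + C b
  have hd : (C a * X + C b : S[X]).degree < ((2 : ℕ) : WithBot ℕ) :=
    lt_of_le_of_lt degree_linear_le (by norm_num)
  have hf : f.Monic := by rw [show f = X ^ 2 + (C a * X + C b) by ring]; exact monic_X_pow_add hd
  have hdeg : f.natDegree = 2 := by
    rw [show f = X ^ 2 + (C a * X + C b) by ring]
    refine natDegree_eq_of_degree_eq_some ?_
    rw [degree_add_eq_left_of_degree_lt (by rw [degree_X_pow]; exact hd), degree_X_pow]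
  set B := (⊥ : Subalgebra S (S[X] ⧸ Ideal.span ({f} : Set S[X]))).comap (Ideal.Quotient.mkₐ S (Ideal.span ({f} : Set S[X])))
  have hB : ∀ p, p ∈ B ↔ ∃ c q, p = C c + q * f := by
    intro p
    constructor
    · intro hp
      obtain ⟨c, hc⟩ := Algebra.mem_bot.mp (show Ideal.Quotient.mkₐ S (Ideal.span ({f} : Set S[X])) p ∈ (⊥ : Subalgebra S _) from hp)
      have hc' : Ideal.Quotient.mk (Ideal.span ({f} : Set S[X])) p = Ideal.Quotient.mk _ (C c) := hc.symm
      obtain ⟨q, hq⟩ := Ideal.mem_span_singleton'.mp (Ideal.Quotient.eq.mp hc')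
      exact ⟨c, q, by linear_combination -hq⟩
    · rintro ⟨c, q, rfl⟩
      show Ideal.Quotient.mkₐ S (Ideal.span ({f} : Set S[X])) (C c + q * f) ∈ (⊥ : Subalgebra S _)
      refine Algebra.mem_bot.mpr ⟨c, ?_⟩
      show Ideal.Quotient.mk _ (C c) = Ideal.Quotient.mk _ (C c + q * f)
      rw [Ideal.Quotient.eq]
      exact Ideal.mem_span_singleton'.mpr ⟨-q, by ring⟩
  let g : S × S[X] →ₗ[S] B := LinearMap.codRestrict (Subalgebra.toSubmodule B)
    { toFun := fun x => C x.1 + x.2 * f, map_add' := fun x y => by simp; ring,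
      map_smul' := fun r x => by simp [smul_eq_C_mul]; ring }
    (fun x => (hB _).mpr ⟨x.1, x.2, rfl⟩)
  have hg : Function.Bijective g := by
    constructor
    · rw [injective_iff_map_eq_zero]
      rintro ⟨c, q⟩ h
      have h' : C c + q * f = 0 := congrArg Subtype.val h
      have hq : q = 0 := by
        by_contra hq0
        have h1 : (q * f).natDegree = q.natDegree + 2 := by rw [mul_comm, hf.natDegree_mul' hq0, hdeg, add_comm]
        have h2 : q * f = -C c := by linear_combination h'
        rw [h2, natDegree_neg, natDegree_C] at h1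
        omega
      rw [hq, zero_mul, add_zero, C_eq_zero] at h'
      exact Prod.ext h' hq
    · rintro ⟨p, hp⟩
      obtain ⟨c, q, rfl⟩ := (hB p).mp hp
      exact ⟨(c, q), rfl⟩
  refine ⟨Module.Free.of_equiv (LinearEquiv.ofBijective g hg), ⟨⟨{1, X}, eq_top_iff.mpr fun p _ => ?_⟩⟩⟩
  rw [Finset.coe_insert, Finset.coe_singleton, Submodule.mem_span_pair]
  have hr : (p %ₘ f).degree ≤ 1 := by
    have h1 := degree_modByMonic_lt p hf
    rw [degree_eq_natDegree hf.ne_zero, hdeg] at h1
    exact Order.le_of_lt_succ h1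
  have hlin := eq_X_add_C_of_degree_le_one hr
  refine ⟨⟨C ((p %ₘ f).coeff 0) + (p /ₘ f) * f, (hB _).mpr ⟨_, _, rfl⟩⟩, ⟨C ((p %ₘ f).coeff 1), (hB _).mpr ⟨_, 0, by rw [zero_mul, add_zero]⟩⟩, ?_⟩
  rw [Subalgebra.smul_def, Subalgebra.smul_def, smul_eq_mul, smul_eq_mul]
  linear_combination modByMonic_add_div p f - hlin

end Groth.Agent.S19184
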