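import Groth.Statements.S19185
import Mathlib

set_option autoImplicit false
universe u
open Curves

namespace Groth.Agent.S19185

noncomputable section
open MvPolynomial

variable {k : Type u} [Field k]

theorem taylor_sq {S : Type*} [CommRing S] [Algebra k S] (π : MvPolynomial (Fin 2) k →ₐ[k] S) (E : S)
    (hE : E * E = 0) (c : Fin 2 → S) (p : MvPolynomial (Fin 2) k) :
    aeval (fun i => π (X i) + E * c i) p = π p + E * ∑ i, c i * π (pderiv i p) := by
  induction p using MvPolynomial.induction_on with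
  | C a => simp [← MvPolynomial.algebraMap_eq, AlgHom.commutes]
  | add p q hp hq => simp only [map_add, hp, hq, mul_add, Finset.sum_add_distrib]; ring
  | mul_X p j hp =>
    simp only [map_mul, hp, aeval_X, Derivation.leibniz, pderiv_X, smul_eq_mul, map_add, Fin.sum_univ_two]
    fin_cases j <;> simp
    · linear_combination (c 0 * π (pderiv 0 p) + c 1 * π (pderiv 1 p)) * (c 0) * hE
    · linear_combination (c 0 * π (pderiv 0 p) + c 1 * π (pderiv 1 p)) * (c 1) * hE

/-- the Jacobian ideal -/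
abbrev Jac (F : MvPolynomial (Fin 2) k) : Ideal (MvPolynomial (Fin 2) k) :=
  Ideal.span {F, pderiv 0 F, pderiv 1 F}

theorem smooth_iff (F : MvPolynomial (Fin 2) k) (hF : F ≠ 0) :
    Algebra.Smooth k (MvPolynomial (Fin 2) k ⧸ Ideal.span {F}) ↔ Jac F = ⊤ := by
  let I : Ideal (MvPolynomial (Fin 2) k) := Ideal.span {F}
  let f : MvPolynomial (Fin 2) k →ₐ[k] MvPolynomial (Fin 2) k ⧸ I := Ideal.Quotient.mkₐ k I
  have hker : RingHom.ker f.toRingHom = I := Ideal.mk_ker
  let π : MvPolynomial (Fin 2) k →ₐ[k] MvPolynomial (Fin 2) k ⧸ RingHom.ker f.toRingHom ^ 2 :=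
    Ideal.Quotient.mkₐ k _
  have hsq : RingHom.ker f.toRingHom ^ 2 = Ideal.span {F * F} := by
    rw [hker, pow_two, Ideal.span_singleton_mul_span_singleton]
  have hπ : ∀ x, π x = 0 ↔ F * F ∣ x := fun x => by
    rw [Ideal.Quotient.mkₐ_eq_mk, Ideal.Quotient.eq_zero_iff_mem, hsq, Ideal.mem_span_singleton]
  have hE : π F * π F = 0 := by rw [← map_mul, hπ]
  have hlift : ∀ x, f.kerSquareLift (π x) = f x := fun x => rfl
  constructor
  · intro h
    obtain ⟨g, hg⟩ := (Algebra.FormallySmooth.iff_split_surjection f Ideal.Quotient.mk_surjective).mp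
      (inferInstance : Algebra.FormallySmooth k (MvPolynomial (Fin 2) k ⧸ I))
    have hh : ∀ i, ∃ h, g (f (X i)) = π (X i) + π F * π h := fun i => by
      obtain ⟨y, hy⟩ := Ideal.Quotient.mk_surjective (g (f (X i)))
      have h1 : f y = f (X i) := by
        rw [← hlift]; show f.kerSquareLift (Ideal.Quotient.mk _ y) = _
        rw [hy]; exact AlgHom.congr_fun hg _
      obtain ⟨h, hh⟩ := Ideal.mem_span_singleton.mp (Ideal.Quotient.eq.mp h1)
      refine ⟨h, ?_⟩
      rw [← hy, ← map_mul, ← map_add, ← hh, add_sub_cancel]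
      rfl
    choose h hh using hh
    have key : g.comp f = aeval (fun i => π (X i) + π F * π (h i)) := MvPolynomial.algHom_ext fun i => by
      rw [AlgHom.comp_apply, hh, aeval_X]
    have h0 : g (f F) = 0 := by
      rw [show f F = 0 from Ideal.Quotient.eq_zero_iff_mem.mpr (Ideal.mem_span_singleton_self F), map_zero]
    rw [← AlgHom.comp_apply, key, taylor_sq π _ hE, Fin.sum_univ_two, ← map_mul, ← map_mul, ← map_add,
      ← map_mul, ← map_add, hπ] at h0
    obtain ⟨w, hw⟩ := h0
    have : 1 + (h 0 * pderiv 0 F + h 1 * pderiv 1 F) = F * w := mul_left_cancel₀ hF (by linear_combination hw)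
    rw [Ideal.eq_top_iff_one, show (1 : MvPolynomial (Fin 2) k) = w * F - h 0 * pderiv 0 F - h 1 * pderiv 1 F by
      linear_combination this]
    exact sub_mem (sub_mem (Ideal.mul_mem_left _ _ (Ideal.subset_span (by simp))) (Ideal.mul_mem_left _ _ (Ideal.subset_span (by simp))))
      (Ideal.mul_mem_left _ _ (Ideal.subset_span (by simp)))
  · intro h
    obtain ⟨c, z, hz, h1⟩ := Ideal.mem_span_insert.mp (h.symm ▸ Submodule.mem_top (x := (1 : MvPolynomial (Fin 2) k)))
    obtain ⟨a, b, rfl⟩ := Ideal.mem_span_pair.mp hz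
    let cc : Fin 2 → MvPolynomial (Fin 2) k := ![-a, -b]
    let G : MvPolynomial (Fin 2) k →ₐ[k] _ := aeval (fun i => π (X i) + π F * π (cc i))
    have hG : G F = 0 := by
      show aeval _ F = 0
      rw [taylor_sq π _ hE, Fin.sum_univ_two, ← map_mul, ← map_mul, ← map_add, ← map_mul, ← map_add, hπ]
      refine ⟨c, ?_⟩
      simp only [cc, Matrix.cons_val_zero, Matrix.cons_val_one]
      linear_combination F * h1
    let g : (MvPolynomial (Fin 2) k ⧸ I) →ₐ[k] _ := Ideal.Quotient.liftₐ I G fun x hx => by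
      obtain ⟨r, rfl⟩ := Ideal.mem_span_singleton'.mp hx
      rw [map_mul, hG, mul_zero]
    haveI : Algebra.FormallySmooth k (MvPolynomial (Fin 2) k ⧸ I) := by
      refine Algebra.FormallySmooth.of_split f g (Ideal.Quotient.algHom_ext k (MvPolynomial.algHom_ext fun i => ?_))
      show f.kerSquareLift (G (X i)) = f (X i)
      simp only [G, aeval_X, map_add, map_mul, hlift]
      rw [show f F = 0 from Ideal.Quotient.eq_zero_iff_mem.mpr (Ideal.mem_span_singleton_self F), zero_mul, add_zero]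
    haveI : Algebra.FinitePresentation k (MvPolynomial (Fin 2) k ⧸ I) :=
      Algebra.FinitePresentation.quotient ⟨{F}, by simp [I]⟩
    exact ⟨inferInstance, inferInstance⟩

abbrev up (p : Polynomial k) : MvPolynomial (Fin 2) k := Polynomial.aeval (X 0) p

theorem pderiv_up (p : Polynomial k) : pderiv (0 : Fin 2) (up p) = up (Polynomial.derivative p) ∧ pderiv (1 : Fin 2) (up p) = 0 := by
  simp only [up, Derivation.map_aeval, pderiv_X, smul_eq_mul]
  simp

theorem up_injective : Function.Injective (up (k := k)) := fun p q h => by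
  have := congrArg (MvPolynomial.aeval (fun i : Fin 2 => if i = 0 then (Polynomial.X : Polynomial k) else 0)) h
  simpa [up, ← Polynomial.aeval_algHom_apply] using this

theorem jac_ne {L : Type*} [CommRing L] [Nontrivial L] [Algebra k L] (φ : MvPolynomial (Fin 2) k →ₐ[k] L)
    (F : MvPolynomial (Fin 2) k) (h0 : φ F = 0) (h1 : φ (pderiv 0 F) = 0) (h2 : φ (pderiv 1 F) = 0) : Jac F ≠ ⊤ := by
  intro hJ
  have hle : Jac F ≤ RingHom.ker φ := by
    refine Ideal.span_le.mpr ?_
    rintro x (rfl | rfl | rfl) <;> assumption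
  rw [hJ] at hle
  have h : φ 1 = 0 := hle Submodule.mem_top
  rw [map_one] at h
  exact one_ne_zero h

set_option maxHeartbeats 1000000 in
theorem charts (a b : Polynomial k) (hab : a ≠ 0 ∨ b ≠ 0) :
    (Algebra.Smooth k (MvPolynomial (Fin 2) k ⧸ Ideal.span {up a + up b * X 1}) ∧
      Algebra.Smooth k (MvPolynomial (Fin 2) k ⧸ Ideal.span {up a * X 1 + up b})) ↔ IsCoprime a b := by
  let e : MvPolynomial (Fin 2) k →ₐ[k] Polynomial k := aeval (fun i : Fin 2 => if i = 0 then (Polynomial.X : Polynomial k) else 0)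
  let e1 : MvPolynomial (Fin 2) k →ₐ[k] Polynomial k := aeval (fun i : Fin 2 => if i = 0 then (Polynomial.X : Polynomial k) else 1)
  have heu : ∀ p, e (up p) = p := fun p => by simp [e, up, ← Polynomial.aeval_algHom_apply]
  have h1u : ∀ p, e1 (up p) = p := fun p => by simp [e1, up, ← Polynomial.aeval_algHom_apply]
  have hF1 : up a + up b * X 1 ≠ 0 := fun h => by
    have h0 := congrArg e h
    have h1 := congrArg e1 h
    simp [heu, h1u, e, e1] at h0 h1
    rcases hab with h' | h'
    · exact h' h0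
    · exact h' (by rw [h0, zero_add] at h1; exact h1)
  have hF2 : up a * X 1 + up b ≠ 0 := fun h => by
    have h0 := congrArg e h
    have h1 := congrArg e1 h
    simp [heu, h1u, e, e1] at h0 h1
    rcases hab with h' | h'
    · exact h' (by rw [h0, add_zero] at h1; exact h1)
    · exact h' h0
  rw [smooth_iff _ hF1, smooth_iff _ hF2]
  have d10 : pderiv (0 : Fin 2) (up a + up b * X 1) = up (Polynomial.derivative a) + up (Polynomial.derivative b) * X 1 := by
    simp [Derivation.leibniz, (pderiv_up a).1, (pderiv_up b).1, mul_comm]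
  have d11 : pderiv (1 : Fin 2) (up a + up b * X 1) = up b := by
    simp [Derivation.leibniz, (pderiv_up a).2, (pderiv_up b).2]
  have d20 : pderiv (0 : Fin 2) (up a * X 1 + up b) = up (Polynomial.derivative a) * X 1 + up (Polynomial.derivative b) := by
    simp [Derivation.leibniz, (pderiv_up a).1, (pderiv_up b).1, mul_comm]
  have d21 : pderiv (1 : Fin 2) (up a * X 1 + up b) = up a := by
    simp [Derivation.leibniz, (pderiv_up a).2, (pderiv_up b).2]
  constructor
  · intro h
    by_contra hc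
    obtain ⟨t, ha, hb⟩ : ∃ t : AlgebraicClosure k, Polynomial.aeval t a = 0 ∧ Polynomial.aeval t b = 0 := by
      simp only [Polynomial.isCoprime_iff_aeval_ne_zero_of_isAlgClosed k (AlgebraicClosure k), not_forall, not_or, not_not] at hc
      exact hc
    have hev : ∀ (w : AlgebraicClosure k) (p : Polynomial k),
        aeval (fun i : Fin 2 => if i = 0 then t else w) (up p) = Polynomial.aeval t p := fun w p => by
      simp [up, ← Polynomial.aeval_algHom_apply]
    have hkill : ∀ (F : MvPolynomial (Fin 2) k) (w : AlgebraicClosure k), Jac F = ⊤ →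
        aeval (fun i : Fin 2 => if i = 0 then t else w) F = 0 →
        aeval (fun i : Fin 2 => if i = 0 then t else w) (pderiv 0 F) = 0 →
        aeval (fun i : Fin 2 => if i = 0 then t else w) (pderiv 1 F) = 0 → False := by
      intro F w hJ h0 h1 h2
      exact jac_ne _ F h0 h1 h2 hJ
    by_cases hb' : Polynomial.aeval t (Polynomial.derivative b) = 0
    · refine hkill _ 0 h.2 ?_ ?_ ?_
      · simp [hev, hb]
      · simp [d20, hev, hb']
      · simp [d21, hev, ha]
    · refine hkill _ (-(Polynomial.aeval t (Polynomial.derivative a)) / Polynomial.aeval t (Polynomial.derivative b)) h.1 ?_ ?_ ?_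
      · simp [hev, ha, hb]
      · simp [d10, hev]; field_simp; ring
      · simp [d11, hev, hb]
  · rintro ⟨u, v, huv⟩
    have h1 : up u * up a + up v * up b = 1 := by
      rw [← map_mul, ← map_mul, ← map_add, huv, map_one]
    constructor
    · rw [Ideal.eq_top_iff_one, show (1 : MvPolynomial (Fin 2) k) = up u * (up a + up b * X 1) + (up v - up u * X 1) * up b by
        linear_combination -h1]
      exact add_mem (Ideal.mul_mem_left _ _ (Ideal.subset_span (by simp)))
        (Ideal.mul_mem_left _ _ (Ideal.subset_span (by simp [d11])))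
    · rw [Ideal.eq_top_iff_one, show (1 : MvPolynomial (Fin 2) k) = up v * (up a * X 1 + up b) + (up u - up v * X 1) * up a by
        linear_combination -h1]
      exact add_mem (Ideal.mul_mem_left _ _ (Ideal.subset_span (by simp)))
        (Ideal.mul_mem_left _ _ (Ideal.subset_span (by simp [d21])))

theorem resultant_formal_eq_zero {f g : Polynomial k} {n : ℕ} (hf : f.natDegree ≤ 2) (hg : g.natDegree ≤ n) (hn : 0 < n)
    (hfg : f ≠ 0 ∨ g ≠ 0) :
    Polynomial.resultant f g 2 n = 0 ↔ (f.coeff 2 = 0 ∧ g.coeff n = 0) ∨ ¬ IsCoprime f g := by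
  by_cases hf2 : f.coeff 2 = 0
  · by_cases hgn : g.coeff n = 0
    · simp only [hf2, hgn, and_self, true_or, iff_true]
      have hf' : f.natDegree < 2 := lt_of_le_of_ne hf fun h => by
        have h0 : f.leadingCoeff = 0 := by rw [Polynomial.leadingCoeff, h]; exact hf2
        rw [Polynomial.leadingCoeff_eq_zero.mp h0] at h; simp at h
      have hg' : g.natDegree < n := lt_of_le_of_ne hg fun h => by
        have h0 : g.leadingCoeff = 0 := by rw [Polynomial.leadingCoeff, h]; exact hgn
        rw [Polynomial.leadingCoeff_eq_zero.mp h0] at h; simp at h; omega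
      exact Polynomial.resultant_eq_zero_of_lt_lt _ _ _ _ hf' hg'
    · obtain ⟨e, he⟩ := Nat.exists_eq_add_of_le hf
      have hgd : g.natDegree = n := le_antisymm hg (Polynomial.le_natDegree_of_ne_zero hgn)
      rw [he, Polynomial.resultant_add_left_deg _ _ _ _ _ le_rfl, ← hgd]
      rw [mul_eq_zero, mul_eq_zero]
      have : g.coeff g.natDegree ^ e ≠ 0 := pow_ne_zero _ (by rw [hgd]; exact hgn)
      simp only [this, pow_eq_zero_iff', neg_eq_zero, one_ne_zero, false_and, false_or,
        Polynomial.resultant_eq_zero_iff, hfg, true_and]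
      rw [← he, hgd]
      simp [hgn]
  · obtain ⟨e, he⟩ := Nat.exists_eq_add_of_le hg
    have hfd : f.natDegree = 2 := le_antisymm hf (Polynomial.le_natDegree_of_ne_zero hf2)
    rw [he, Polynomial.resultant_add_right_deg _ _ _ _ _ le_rfl, ← hfd, mul_eq_zero]
    have : f.coeff f.natDegree ^ e ≠ 0 := pow_ne_zero _ (by rw [hfd]; exact hf2)
    simp only [this, false_or, Polynomial.resultant_eq_zero_iff, hfg, true_and]
    simp [hfd, hf2]

theorem sum_rev {m : ℕ} (c : Fin (m + 1) → k) :
    ∑ i : Fin (m + 1), Polynomial.C (c i) * Polynomial.X ^ (m - (i : ℕ)) =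
      (∑ i : Fin (m + 1), Polynomial.C (c i) * Polynomial.X ^ (i : ℕ)).reflect m := by
  have hsum : ∀ (s : Finset (Fin (m + 1))) (f : Fin (m + 1) → Polynomial k),
      (∑ i ∈ s, f i).reflect m = ∑ i ∈ s, (f i).reflect m := by
    intro s f
    classical
    induction s using Finset.induction_on with
    | empty => simp
    | insert a s ha ih => rw [Finset.sum_insert ha, Finset.sum_insert ha, Polynomial.reflect_add, ih]
  rw [hsum]
  refine Finset.sum_congr rfl fun i _ => ?_
  rw [Polynomial.reflect_C_mul_X_pow, Polynomial.revAt_le (by omega)]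

theorem natDegree_sum_le {m : ℕ} (c : Fin (m + 1) → k) :
    (∑ i : Fin (m + 1), Polynomial.C (c i) * Polynomial.X ^ (i : ℕ)).natDegree ≤ m :=
  Polynomial.natDegree_sum_le_of_forall_le _ _ fun i _ => le_trans (Polynomial.natDegree_C_mul_X_pow_le _ _) (by omega)

theorem coeff_sum_eq {m : ℕ} (c : Fin (m + 1) → k) (i : Fin (m + 1)) :
    (∑ j : Fin (m + 1), Polynomial.C (c j) * Polynomial.X ^ (j : ℕ)).coeff i = c i := by
  simp [Polynomial.finsetSum_coeff, Polynomial.coeff_C_mul, Polynomial.coeff_X_pow, Fin.val_eq_val]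

theorem sum_ne_zero {m : ℕ} (c : Fin (m + 1) → k) (hc : c ≠ 0) :
    ∑ j : Fin (m + 1), Polynomial.C (c j) * Polynomial.X ^ (j : ℕ) ≠ 0 := fun h => hc (funext fun i => by
  rw [← coeff_sum_eq c i, h, Polynomial.coeff_zero]; rfl)

theorem common_root_reflect {f g : Polynomial k} {N M : ℕ} (hf : f.natDegree ≤ N) (hg : g.natDegree ≤ M) :
    ¬ IsCoprime (f.reflect N) (g.reflect M) → (f.coeff N = 0 ∧ g.coeff M = 0) ∨ ¬ IsCoprime f g := by
  intro hc
  simp only [Polynomial.isCoprime_iff_aeval_ne_zero_of_isAlgClosed k (AlgebraicClosure k), not_forall, not_or, not_not] at hc ⊢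
  obtain ⟨s, h1, h2⟩ := hc
  by_cases hs : s = 0
  · subst hs
    left
    rw [← Polynomial.coeff_zero_eq_aeval_zero', map_eq_zero, Polynomial.coeff_reflect, Polynomial.revAt_zero] at h1 h2
    exact ⟨h1, h2⟩
  · right
    refine ⟨s⁻¹, ?_, ?_⟩
    all_goals
      haveI : Invertible s⁻¹ := invertibleOfNonzero (inv_ne_zero hs)
      rw [Polynomial.aeval_def] at *
    · exact (Polynomial.eval₂_reflect_eq_zero_iff (algebraMap k _) s⁻¹ N f hf).mp (by simpa using h1)
    · exact (Polynomial.eval₂_reflect_eq_zero_iff (algebraMap k _) s⁻¹ M g hg).mp (by simpa using h2)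

theorem final_iff {n : ℕ} (hn : 3 ≤ n) (q : Fin 3 → k) (ξ : Fin (n + 1) → k) (hqξ : q ≠ 0 ∨ ξ ≠ 0) :
    IsCoprime (∑ i : Fin 3, Polynomial.C (q i) * Polynomial.X ^ (i : ℕ))
        (∑ j : Fin (n + 1), Polynomial.C (ξ j) * Polynomial.X ^ (j : ℕ)) ∧
      IsCoprime (∑ i : Fin 3, Polynomial.C (q i) * Polynomial.X ^ (2 - (i : ℕ)))
        (∑ j : Fin (n + 1), Polynomial.C (ξ j) * Polynomial.X ^ (n - (j : ℕ))) ↔
    Polynomial.resultant (∑ i : Fin 3, Polynomial.C (q i) * Polynomial.X ^ (i : ℕ))
      (∑ j : Fin (n + 1), Polynomial.C (ξ j) * Polynomial.X ^ (j : ℕ)) 2 n ≠ 0 := by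
  rw [sum_rev q, sum_rev ξ]
  set f := ∑ i : Fin 3, Polynomial.C (q i) * Polynomial.X ^ (i : ℕ) with hf
  set g := ∑ j : Fin (n + 1), Polynomial.C (ξ j) * Polynomial.X ^ (j : ℕ) with hg
  have hfd : f.natDegree ≤ 2 := natDegree_sum_le q
  have hgd : g.natDegree ≤ n := natDegree_sum_le ξ
  have hfg : f ≠ 0 ∨ g ≠ 0 := hqξ.imp (sum_ne_zero q) (sum_ne_zero ξ)
  rw [Ne, resultant_formal_eq_zero hfd hgd (by omega) hfg]
  constructor
  · rintro ⟨h1, h2⟩ (⟨hf2, hgn⟩ | h3)
    · rcases (Polynomial.isCoprime_iff_aeval_ne_zero_of_isAlgClosed k (AlgebraicClosure k) _ _).mp h2 (0 : AlgebraicClosure k) with h | h <;>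
        apply h <;> rw [← Polynomial.coeff_zero_eq_aeval_zero', Polynomial.coeff_reflect, Polynomial.revAt_zero] <;> simp [hf2, hgn]
    · exact h3 h1
  · intro h
    have h1 : IsCoprime f g := not_not.mp fun hc => h (Or.inr hc)
    exact ⟨h1, not_not.mp fun hc => h (common_root_reflect hfd hgd hc)⟩

end

/-- Let k be a field, n ≥ 3, q a binary quadratic form and ξ a binary form of degree n over k, given by
coefficient vectors (q_i the coefficient of x^i y^(2−i), ξ_j that of x^j y^(n−j)), not both zero.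
The pair (q, ξ) is a global section of O(2) ⊕ O(n) on P¹_k, i.e. of the line bundle of class e + nf
on the Hirzebruch surface F_{n−2} = P(O ⊕ O(n−2)) → P¹_k, and cuts out the curve W : q·u + ξ·v = 0
there ([u : v] the fibre coordinates). Over the two standard opens of P¹ (t = x/y, s = y/x) and the
two opens u ≠ 0, v ≠ 0 of the fibres, W is covered by four affine charts with coordinate rings k[t,
w]/(q(t,1) + ξ(t,1)·w), k[t, w]/(q(t,1)·w + ξ(t,1)), k[s, w]/(q(1,s) + ξ(1,s)·w) and k[s,
w]/(q(1,s)·w + ξ(1,s)) (variables indexed 0 for t or s and 1 for w). Then W is smooth over k — all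
four chart algebras are smooth k-algebras — if and only if the resultant of q and ξ (the Sylvester
determinant of the two coefficient vectors with size parameters 2 and n) is nonzero. (The published
statement is over a general base scheme B, for a section (q, ξ) vanishing on no fibre, with 'the
resultant is a unit on B' in place of 'nonzero'; its proof reduces at once to the statement over a
field given here, which is the case B = Spec k.) -/
theorem result (k : Type u) [Field k] (n : ℕ) (hn : 3 ≤ n)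
    (q : Fin 3 → k) (ξ : Fin (n + 1) → k) (hqξ : q ≠ 0 ∨ ξ ≠ 0) :
    (Algebra.Smooth k (MvPolynomial (Fin 2) k ⧸ Ideal.span ({(∑ i : Fin 3, MvPolynomial.C (q i) * MvPolynomial.X 0 ^ (i : ℕ)) + (∑ j : Fin (n + 1), MvPolynomial.C (ξ j) * MvPolynomial.X 0 ^ (j : ℕ)) * MvPolynomial.X 1} : Set (MvPolynomial (Fin 2) k))) ∧
      Algebra.Smooth k (MvPolynomial (Fin 2) k ⧸ Ideal.span ({(∑ i : Fin 3, MvPolynomial.C (q i) * MvPolynomial.X 0 ^ (i : ℕ)) * MvPolynomial.X 1 + (∑ j : Fin (n + 1), MvPolynomial.C (ξ j) * MvPolynomial.X 0 ^ (j : ℕ))} : Set (MvPolynomial (Fin 2) k))) ∧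
      Algebra.Smooth k (MvPolynomial (Fin 2) k ⧸ Ideal.span ({(∑ i : Fin 3, MvPolynomial.C (q i) * MvPolynomial.X 0 ^ (2 - (i : ℕ))) + (∑ j : Fin (n + 1), MvPolynomial.C (ξ j) * MvPolynomial.X 0 ^ (n - (j : ℕ))) * MvPolynomial.X 1} : Set (MvPolynomial (Fin 2) k))) ∧
      Algebra.Smooth k (MvPolynomial (Fin 2) k ⧸ Ideal.span ({(∑ i : Fin 3, MvPolynomial.C (q i) * MvPolynomial.X 0 ^ (2 - (i : ℕ))) * MvPolynomial.X 1 + (∑ j : Fin (n + 1), MvPolynomial.C (ξ j) * MvPolynomial.X 0 ^ (n - (j : ℕ)))} : Set (MvPolynomial (Fin 2) k)))) ↔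
    Polynomial.resultant (∑ i : Fin 3, Polynomial.C (q i) * Polynomial.X ^ (i : ℕ))
      (∑ j : Fin (n + 1), Polynomial.C (ξ j) * Polynomial.X ^ (j : ℕ)) 2 n ≠ 0 := by
  have hup : ∀ {m : ℕ} (c : Fin m → k) (e : Fin m → ℕ), (∑ i, MvPolynomial.C (c i) * MvPolynomial.X 0 ^ e i : MvPolynomial (Fin 2) k) =
      up (∑ i, Polynomial.C (c i) * Polynomial.X ^ e i) := fun c e => by simp [up, MvPolynomial.algebraMap_eq]
  have h1 : (∑ i : Fin 3, Polynomial.C (q i) * Polynomial.X ^ (i : ℕ)) ≠ 0 ∨
      (∑ j : Fin (n + 1), Polynomial.C (ξ j) * Polynomial.X ^ (j : ℕ)) ≠ 0 := hqξ.imp (sum_ne_zero q) (sum_ne_zero ξ)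
  have h2 : (∑ i : Fin 3, Polynomial.C (q i) * Polynomial.X ^ (2 - (i : ℕ))) ≠ 0 ∨
      (∑ j : Fin (n + 1), Polynomial.C (ξ j) * Polynomial.X ^ (n - (j : ℕ))) ≠ 0 := by
    rw [sum_rev q, sum_rev ξ]
    simpa [Polynomial.reflect_eq_zero_iff] using h1
  rw [hup q, hup ξ, hup q, hup ξ, ← final_iff hn q ξ hqξ, ← charts _ _ h1, ← charts _ _ h2, and_assoc]

end Groth.Agent.S19185
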