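import Groth.Statements.S19186
import Mathlib.Algebra.Group.Hom.Basic
import Mathlib.Data.Int.GCD
import Mathlib.RingTheory.Coprime.Lemmas
import Mathlib.Tactic.Module

set_option autoImplicit false
universe u
open OneMot

namespace Groth.Agent.S19186

/-- Let p and ℓ be distinct prime numbers, r and n natural numbers, and f : A → B a homomorphism of
abelian groups whose kernel and cokernel are annihilated by p^r (f a = 0 implies p^r • a = 0, and
every p^r • b lies in the image of f). Then f induces a bijection between the ℓ^n-torsion subgroups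
of A and B and a bijection A/ℓ^n A → B/ℓ^n B. Spelled out without quotients: every ℓ^n-torsion
element of B has exactly one ℓ^n-torsion preimage; an element of A whose image is an ℓ^n-multiple is
itself an ℓ^n-multiple; and every element of B is the sum of an image and an ℓ^n-multiple. -/
theorem result {A B : Type u} [AddCommGroup A] [AddCommGroup B] (f : A →+ B) (p ℓ r n : ℕ) (hp : p.Prime) (hl : ℓ.Prime) (hne : ℓ ≠ p) (hker : ∀ a : A, f a = 0 → p ^ r • a = 0) (hcoker : ∀ b : B, ∃ a : A, f a = p ^ r • b) : (∀ b : B, ℓ ^ n • b = 0 → ∃! a : A, ℓ ^ n • a = 0 ∧ f a = b) ∧ (∀ a : A, (∃ b' : B, f a = ℓ ^ n • b') → ∃ a' : A, a = ℓ ^ n • a') ∧ (∀ b : B, ∃ (a : A) (b' : B), b = f a + ℓ ^ n • b') := by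
  have hco : Nat.Coprime (p ^ r) (ℓ ^ n) := ((Nat.coprime_primes hp hl).2 (Ne.symm hne)).pow r n
  obtain ⟨u, v, huv⟩ := Int.isCoprime_iff_gcd_eq_one.2 (show Int.gcd ((p ^ r : ℕ) : ℤ) ((ℓ ^ n : ℕ) : ℤ) = 1 from by
    rw [Int.gcd_natCast_natCast]; exact hco)
  have hid : ∀ {C : Type u} [AddCommGroup C] (x : C), x = u • (p ^ r • x) + v • (ℓ ^ n • x) := fun x => by
    conv_lhs => rw [← one_zsmul x, ← huv, add_zsmul, mul_zsmul, mul_zsmul, natCast_zsmul, natCast_zsmul]
  refine ⟨fun b hb => ?_, fun a ⟨b', hb'⟩ => ?_, fun b => ?_⟩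
  · obtain ⟨a₀, ha₀⟩ := hcoker b
    have hk : p ^ r • (ℓ ^ n • a₀) = 0 := hker _ (by rw [map_nsmul, ha₀, smul_comm, hb, smul_zero])
    refine ⟨u • (p ^ r • (u • a₀)), ⟨?_, ?_⟩, ?_⟩
    · rw [smul_comm (ℓ ^ n) u, smul_comm (ℓ ^ n) (p ^ r), smul_comm (ℓ ^ n) u, smul_comm (p ^ r) u, hk, smul_zero, smul_zero]
    · have hb2 : b = u • (p ^ r • b) := by
        conv_lhs => rw [hid b, hb, smul_zero, add_zero]
      rw [map_zsmul, map_nsmul, map_zsmul, ha₀, ← hb2, ← hb2]
    · rintro a ⟨ha, hfa⟩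
      have hk2 : p ^ r • (p ^ r • a - a₀) = 0 := hker _ (by rw [map_sub, map_nsmul, hfa, ha₀, sub_self])
      rw [smul_sub, sub_eq_zero] at hk2
      have e : a = u • (p ^ r • a) := by
        conv_lhs => rw [hid a, ha, smul_zero, add_zero]
      conv_lhs => rw [e, e, smul_comm (p ^ r) u, hk2]
      rw [smul_comm (p ^ r) u a₀]
  · obtain ⟨a₁, ha₁⟩ := hcoker b'
    have hk : p ^ r • (p ^ r • a - ℓ ^ n • a₁) = 0 :=
      hker _ (by rw [map_sub, map_nsmul, map_nsmul, hb', ha₁, smul_comm, sub_self])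
    rw [smul_sub, sub_eq_zero] at hk
    refine ⟨u • u • (p ^ r • a₁) + (u • (p ^ r • (v • a))) + v • a, ?_⟩
    rw [smul_add, smul_add, smul_comm (ℓ ^ n) u, smul_comm (ℓ ^ n) u, smul_comm (ℓ ^ n) (p ^ r), ← hk]
    conv_lhs => rw [hid a, hid (p ^ r • a)]
    simp only [smul_add, smul_comm (ℓ ^ n) u, smul_comm (ℓ ^ n) v, smul_comm (ℓ ^ n) (p ^ r), smul_comm (p ^ r) v]
  · obtain ⟨a, ha⟩ := hcoker b
    refine ⟨u • a, v • b, ?_⟩
    rw [map_zsmul, ha, smul_comm (ℓ ^ n) v]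
    exact hid b

end Groth.Agent.S19186
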