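import Groth.Statements.S19188
import Groth.Agent.SteinEtLib.Etale
import Groth.Agent.ASp.PropDescend
import Groth.Agent.PushGmTorusLib.Fun
import Groth.Agent.PushGmTorusLib.Torus
-- import your own Groth.Agent.* helpers here

set_option autoImplicit false
universe u
open CGrpSh3

namespace Groth.Agent.S19188

section
open CategoryTheory CategoryTheory.Limits AlgebraicGeometry Opposite MonObj MonoidalCategory CartesianMonoidalCategory
open Groth.Agent Groth.Agent.PushGmTorusLib

set_option backward.isDefEq.respectTransparency false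
set_option backward.isDefEq.respectTransparency.types false
set_option linter.style.haveILetI false

theorem exists_torus (k : Type u) [Field k] (X : Scheme.{u}) (f : X ⟶ Spec (CommRingCat.of k)) [IsProper f] [Smooth f] :
    ∃ (T : Over (Spec (CommRingCat.of k))) (_ : GrpObj T) (_ : IsCommMonObj T), Red.IsTorus T ∧
      Nonempty (CGrpSh.pts Scheme.fppfPrecoverage T ≅ CGrpSh3.pushGm Scheme.fppfPrecoverage f) := by
  haveI : GeometricallyReduced f := ⟨fun K _ y P fst snd h => by
    haveI : Smooth snd := MorphismProperty.of_isPullback h inferInstance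
    exact ASp.isReduced_of_smooth snd⟩
  obtain ⟨hfin, het⟩ := SteinEtLib.finite_etale (f := f) (isAffineOpen_top (Spec (CommRingCat.of k)))
  let A : Type u := Γ(X, ⊤)
  let φ : CommRingCat.of k ⟶ CommRingCat.of A := (Scheme.ΓSpecIso (CommRingCat.of k)).inv ≫ f.appTop
  letI : Algebra k A := φ.hom.toAlgebra
  have hsurj : Function.Surjective (Scheme.ΓSpecIso (CommRingCat.of k)).inv.hom :=
    (ConcreteCategory.bijective_of_isIso (Scheme.ΓSpecIso (CommRingCat.of k)).inv).2
  haveI : Module.Finite k A :=
    RingHom.finite_algebraMap.1 (hfin.comp (RingHom.Finite.of_surjective _ hsurj))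
  haveI : Algebra.Etale k A := RingHom.etale_algebraMap.1
    (RingHom.Etale.stableUnderComposition _ _
      (RingHom.Etale.of_bijective (ConcreteCategory.bijective_of_isIso (Scheme.ΓSpecIso (CommRingCat.of k)).inv)) het)
  let π := piMap k A
  obtain ⟨D⟩ := exists_unitsRep k A
  refine ⟨D.R, inferInstance, inferInstance, isTorus_unitsRep D, ?_⟩
  let h : X ⟶ Spec (CommRingCat.of A) := X.toSpecΓ
  have hw : h ≫ π = f := by
    show X.toSpecΓ ≫ Spec.map ((Scheme.ΓSpecIso (CommRingCat.of k)).inv ≫ f.appTop) = f
    rw [Spec.map_comp, ← Category.assoc, ← Scheme.toSpecΓ_naturality, Category.assoc]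
    erw [AlgebraicGeometry.toSpecΓ_SpecMap_ΓSpecIso_inv]
    exact Category.comp_id _
  haveI : CompactSpace X := QuasiCompact.compactSpace_of_compactSpace f
  haveI : QuasiSeparated (h ≫ π) := hw ▸ inferInstance
  haveI : QuasiSeparated h := QuasiSeparated.of_comp h π
  haveI : QuasiCompact h := (quasiCompact_iff_compactSpace h).2 inferInstance
  have hbij : Function.Bijective h.appTop := by
    show Function.Bijective X.toSpecΓ.appTop
    rw [Scheme.toSpecΓ_appTop]
    exact ConcreteCategory.bijective_of_isIso (Scheme.ΓSpecIso Γ(X, ⊤)).hom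
  let m : ∀ T : Over (Spec (CommRingCat.of k)), (Red.bc f T).left ⟶ (Red.bc π T).left := fun T =>
    pullback.map T.hom f T.hom π (𝟙 _) h (𝟙 _) (by simp) (by rw [Category.comp_id, hw])
  have hm : ∀ T, Function.Bijective (m T).appTop := fun T => by
    have hbot : IsPullback (pullback.snd T.hom π) (pullback.fst T.hom π) π T.hom := (IsPullback.of_hasPullback _ _).flip
    haveI : Flat T.hom := inferInstance
    haveI : Flat (pullback.snd T.hom π) := MorphismProperty.pullback_snd _ _ inferInstance
    have hall : IsPullback (pullback.snd T.hom f) (m T ≫ pullback.fst T.hom π) (h ≫ π) T.hom := by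
      rw [hw, show m T ≫ pullback.fst T.hom π = pullback.fst T.hom f from
        (pullback.lift_fst _ _ _).trans (Category.comp_id _)]
      exact (IsPullback.of_hasPullback _ _).flip
    have sq : IsPullback (pullback.snd T.hom f) (m T) h (pullback.snd T.hom π) :=
      IsPullback.of_bot hall (pullback.lift_snd _ _ _).symm hbot
    exact appTop_bijective_of_isPullback sq hbij
  let μu : ∀ T, Γ((Red.bc π T).left, ⊤)ˣ ≃* Γ((Red.bc f T).left, ⊤)ˣ := fun T =>
    Units.mapEquiv (RingEquiv.ofBijective (m T).appTop.hom (hm T)).toMulEquiv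
  have hnat : ∀ {T T' : Over (Spec (CommRingCat.of k))} (t : T' ⟶ T) v,
      μu T' (Units.map (bcMap π t).appTop.hom.toMonoidHom v) =
        Units.map (bcMap f t).appTop.hom.toMonoidHom (μu T v) := fun {T T'} t v => by
    apply Units.ext
    have e : m T' ≫ bcMap π t = bcMap f t ≫ m T := by
      apply pullback.hom_ext
      · simp [m, bcMap]
      · simp [m, bcMap]
    exact ConcreteCategory.congr_hom (congrArg Scheme.Hom.appTop e) (v : Γ((Red.bc π T).left, ⊤))
  let E : ∀ T, (T ⟶ D.R) ≃* (Red.bc f T ⟶ Red.Gm X) := fun T =>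
    (D.pt T).trans ((μu T).trans (GmPts.equiv (S := X) (Red.bc f T)).symm)
  have hE : ∀ {T T' : Over (Spec (CommRingCat.of k))} (t : T' ⟶ T) x,
      E T' (t ≫ x) = (Over.pullback f).map t ≫ E T x := fun {T T'} t x => by
    show GmPts.ptOfUnit (μu T' (D.pt T' (t ≫ x))) = _ ≫ GmPts.ptOfUnit (μu T (D.pt T x))
    rw [D.nat, hnat, GmPts.ptOfUnit_comp]
  let pre : (CGrpSh.pts Scheme.fppfPrecoverage D.R).obj ≅ (CGrpSh3.pushGm Scheme.fppfPrecoverage f).obj :=
    NatIso.ofComponents (fun T => AddEquiv.toAddCommGrpIso
      ((CGrpSh.sectEquiv Scheme.fppfPrecoverage D.R (unop T)).trans ((MulEquiv.toAdditive (E (unop T))).trans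
        (CGrpSh.sectEquiv Scheme.fppfPrecoverage (Red.Gm X) (Red.bc f (unop T))).symm)))
      (fun {T T₁} t => AddCommGrpCat.ext fun x => ULift.ext _ _ (by
        change Additive.ofMul (E (unop T₁) (t.unop ≫ x.down.toMul)) =
          Additive.ofMul ((Over.pullback f).map t.unop ≫ E (unop T) x.down.toMul)
        rw [hE]))
  exact ⟨{ hom := ⟨pre.hom⟩, inv := ⟨pre.inv⟩, hom_inv_id := Sheaf.hom_ext pre.hom_inv_id,
           inv_hom_id := Sheaf.hom_ext pre.inv_hom_id }⟩

end

open CategoryTheory AlgebraicGeometry MonObj in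
/-- Let k be a field and f : X → Spec k a proper smooth morphism of schemes. Then the direct image f_*
𝔾_{m,X} on the big fppf site of Spec k, the abelian sheaf whose sections over a k-scheme T are the
invertible functions on X ×_k T, is representable by a torus: there is a commutative k-group scheme
which is a torus and whose sheaf of points is isomorphic to f_* 𝔾_{m,X} (representability is an
existence statement; no particular isomorphism is singled out). -/
theorem result (k : Type u) [Field k] (X : Scheme.{u}) (f : X ⟶ Spec (CommRingCat.of k)) [IsProper f] [Smooth f] : ∃ (T : Over (Spec (CommRingCat.of k))) (_ : GrpObj T) (_ : IsCommMonObj T), Red.IsTorus T ∧ Nonempty (CGrpSh.pts Scheme.fppfPrecoverage T ≅ CGrpSh3.pushGm Scheme.fppfPrecoverage f) := by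
  exact exists_torus k X f

end Groth.Agent.S19188
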