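import Groth.Statements.S1919
import Groth.Agent.InsepLenLib.Scheme
-- import your own Groth.Agent.* helpers here

set_option autoImplicit false
universe u
open CategoryTheory AlgebraicGeometry
open CategoryTheory.Limits
open RelCyc

namespace Groth.Agent.S1919

open Groth.Agent
set_option backward.isDefEq.respectTransparency false

theorem range_baseChange (k L : Type u) [Field k] [Field L] [Algebra k L] [IsPurelyInseparable k L] (p : ℕ)
    [Fact p.Prime] [ExpChar k p] (X : Scheme.{u}) (f : X ⟶ Spec (CommRingCat.of k)) [LocallyOfFiniteType f]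
    [QuasiCompact f] (g : Spec (CommRingCat.of L) ⟶ Spec (CommRingCat.of k))
    (hg : g = Spec.map (CommRingCat.ofHom (algebraMap k L))) (δ : X → ℤ) (hδ : Cyc.DeltaCompat f δ (fun _ => 0))
    (δ' : ↥(pullback f g) → ℤ) (hδ' : Cyc.DeltaCompat (pullback.snd f g) δ' (fun _ => 0)) (r : ℤ)
    (β : AlgebraicCycle (pullback f g) ℤ) (hβ : β ∈ Cyc.Zk _ δ' r) :
    ∃ (n : ℕ) (α : AlgebraicCycle X ℤ), α ∈ Cyc.Zk X δ r ∧
      (p : ℤ) ^ n • ⇑β = Cyc.pullFun (pullback.fst f g) δ' δ 0 ⇑α := by
  classical
  haveI : IsIntegralHom g := by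
    subst hg
    exact IsIntegralHom.SpecMap_iff.2 fun x => Algebra.IsIntegral.isIntegral (R := k) x
  haveI : IsIntegralHom (pullback.fst f g) := MorphismProperty.pullback_fst (P := @IsIntegralHom) _ _ inferInstance
  obtain ⟨hbij, hmult⟩ : Function.Bijective (pullback.fst f g) ∧ ∀ x' : ↥(pullback f g), ∃ m : ℕ,
      Module.length ((pullback f g).presheaf.stalk x') ((pullback f g).presheaf.stalk x' ⧸
        CycLib.fibIdeal (pullback.fst f g) x') = (p ^ m : ℕ) := by
    subst hg
    exact InsepLenLib.point_and_mult k L f p (Fact.out : p.Prime)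
  have hint : ∀ {P Q : Scheme.{u}} (h : P ⟶ Q) [IsIntegralHom h] (δQ : Q → ℤ),
      Cyc.DeltaCompat h (fun x => δQ (h x)) δQ := fun h _ δQ x =>
    ⟨0, by rw [Nat.cast_zero]; exact InsepLenLib.resTrdegAt_eq_zero_of_integral h x, by simp⟩
  have h1 := CycLib.deltaCompat_comp hδ (hint (pullback.fst f g) δ)
  have h2 := CycLib.deltaCompat_comp (hint g fun _ => 0) hδ'
  rw [← pullback.condition] at h2
  have hδeq : ∀ x', δ' x' = δ ((pullback.fst f g) x') := fun x' => by
    obtain ⟨a, ha, ea⟩ := h1 x'
    obtain ⟨b, hb, eb⟩ := h2 x'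
    have : a = b := by exact_mod_cast ha.symm.trans hb
    rw [eb, ← this, ← ea]
  choose m hm using hmult
  haveI : CompactSpace ↥(pullback f g) := QuasiCompact.compactSpace_of_compactSpace (pullback.snd f g)
  have hfin : (Function.support β).Finite := by
    simpa using β.locallyFiniteSupport.finite_inter_support_of_isCompact isCompact_univ
  let N : ℕ := hfin.toFinset.sup m
  let σ : X → ↥(pullback f g) := fun x => (Equiv.ofBijective (pullback.fst f g) hbij).symm x
  have hσ : ∀ x', σ ((pullback.fst f g) x') = x' := fun x' => (Equiv.ofBijective (pullback.fst f g) hbij).symm_apply_apply x'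
  let α : AlgebraicCycle X ℤ :=
    { toFun := fun x => (p : ℤ) ^ (N - m (σ x)) * β (σ x)
      supportWithinDomain' := by simp
      supportLocallyFiniteWithinDomain' := fun z _ => ⟨Set.univ, Filter.univ_mem, by
        refine (hfin.image (pullback.fst f g)).subset ?_
        rintro x ⟨-, hx⟩
        refine ⟨σ x, ?_, (Equiv.ofBijective (pullback.fst f g) hbij).apply_symm_apply x⟩
        exact right_ne_zero_of_mul hx⟩ }
  refine ⟨N, α, fun x hx => ?_, funext fun x' => ?_⟩
  · show (p : ℤ) ^ (N - m (σ x)) * β (σ x) = 0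
    rw [hβ (σ x) (by rw [hδeq, show (pullback.fst f g) (σ x) = x from (Equiv.ofBijective (pullback.fst f g) hbij).apply_symm_apply x]; exact hx), mul_zero]
  · rw [CycLib.pullFun_apply, if_pos (by rw [hδeq, add_zero]), Pi.smul_apply, smul_eq_mul]
    show _ = (p : ℤ) ^ (N - m (σ ((pullback.fst f g) x'))) * β (σ ((pullback.fst f g) x')) * _
    rw [hσ, hm x', ENat.toNat_coe, Nat.cast_pow]
    by_cases hx : β x' = 0
    · simp [hx]
    · have hle : m x' ≤ N := Finset.le_sup (hfin.mem_toFinset.2 hx)
      rw [mul_right_comm, ← pow_add, Nat.sub_add_cancel hle]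


/-- For a scheme X of finite type over a field k of characteristic p > 0, with base change X' = X ×_k k'
to the perfect closure k', the base change map Z_r(X) → Z_r(X') (flat pullback along the projection)
has p-power torsion cokernel: for every r-cycle β on X' some p^n β is the base change of an r-cycle
on X. Dimension functions are transcendence degrees of residue fields over the ground fields. -/
theorem result (k : Type u) [Field k] (p : ℕ) [Fact p.Prime] [CharP k p] (X : Scheme.{u}) (f : X ⟶ Spec (CommRingCat.of k)) [LocallyOfFiniteType f] [QuasiCompact f] (δ : X → ℤ) (hδ : Cyc.DeltaCompat f δ (fun _ => 0)) (δ' : ↥(pullback f (Spec.map (CommRingCat.ofHom (PerfectClosure.of k p)))) → ℤ) (hδ' : Cyc.DeltaCompat (pullback.snd f (Spec.map (CommRingCat.ofHom (PerfectClosure.of k p)))) δ' (fun _ => 0)) (r : ℤ) (β : AlgebraicCycle (pullback f (Spec.map (CommRingCat.ofHom (PerfectClosure.of k p)))) ℤ) (hβ : β ∈ Cyc.Zk _ δ' r) : ∃ (n : ℕ) (α : AlgebraicCycle X ℤ), α ∈ Cyc.Zk X δ r ∧ (p : ℤ) ^ n • ⇑β = Cyc.pullFun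 (pullback.fst f (Spec.map (CommRingCat.ofHom (PerfectClosure.of k p)))) δ' δ 0 ⇑α := by
  classical
  letI : Algebra k (PerfectClosure k p) := (PerfectClosure.of k p).toAlgebra
  haveI : ExpChar k p := ExpChar.prime (Fact.out : p.Prime)
  haveI : IsPurelyInseparable k (PerfectClosure k p) :=
    (isPurelyInseparable_iff_pow_mem (F := k) (E := PerfectClosure k p) p).2
      fun x => IsPRadical.pow_mem (PerfectClosure.of k p) p x
  exact range_baseChange k (PerfectClosure k p) p X f _ rfl δ hδ δ' hδ' r β hβ

end Groth.Agent.S1919
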