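import Groth.Statements.S19190
import Mathlib.CategoryTheory.Triangulated.Subcategory
import Mathlib.CategoryTheory.Localization.CalculusOfFractions
import Mathlib.CategoryTheory.Linear.LinearFunctor
import Mathlib.Algebra.Module.LocalizedModule.Basic

set_option autoImplicit false
universe w v u v' u'
open CategoryTheory CategoryTheory.Limits CategoryTheory.Pretriangulated CategoryTheory.Triangulated
open CohDer

namespace Groth.Agent.S19190

set_option backward.isDefEq.respectTransparency false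

namespace S19190Aux

variable {A : Type w} [CommRing A] (S : Submonoid A)
  {T : Type u} [Category.{v} T] [Preadditive T] [Linear A T] [HasZeroObject T] [HasShift T ℤ]
  [∀ n : ℤ, (shiftFunctor T n).Additive] [∀ n : ℤ, (shiftFunctor T n).Linear A]
  [Pretriangulated T]

/-- Objects killed by an element of `S`. -/
def torsion : ObjectProperty T := fun Z => ∃ s : A, s ∈ S ∧ s • 𝟙 Z = 0

lemma smul_comm' {X Y : T} (a : A) (f : X ⟶ Y) : f ≫ (a • 𝟙 Y) = (a • 𝟙 X) ≫ f := by simp

instance : (torsion S (T := T)).IsClosedUnderIsomorphisms where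
  of_iso {X Y} e := by
    rintro ⟨s, hs, h⟩
    refine ⟨s, hs, ?_⟩
    rw [← e.inv_hom_id, ← Category.id_comp e.hom, ← Linear.comp_smul, ← Linear.smul_comp, h,
      zero_comp, comp_zero]

instance : (torsion S (T := T)).IsStableUnderRetracts where
  of_retract {X Y} r := by
    rintro ⟨s, hs, h⟩
    refine ⟨s, hs, ?_⟩
    rw [← r.retract, ← Category.id_comp r.r, ← Linear.comp_smul, ← Linear.smul_comp, h,
      zero_comp, comp_zero]

instance : (torsion S (T := T)).IsTriangulated where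
  exists_zero := by
    open ZeroObject in exact ⟨0, isZero_zero T, 1, S.one_mem, (isZero_zero T).eq_of_src _ _⟩
  isStableUnderShiftBy n := ⟨by
    rintro X ⟨s, hs, h⟩
    exact ⟨s, hs, by
      rw [← (shiftFunctor T n).map_id, ← Functor.map_smul, h, Functor.map_zero]⟩⟩
  ext₂' Δ hΔ := by
    rintro ⟨s, hs, h⟩ ⟨t, ht, h'⟩
    refine ObjectProperty.le_isoClosure _ _ ⟨t * s, S.mul_mem ht hs, ?_⟩
    obtain ⟨p, hp⟩ := Triangle.coyoneda_exact₂ Δ hΔ (t • 𝟙 Δ.obj₂) (by
      rw [Linear.smul_comp, Category.id_comp, ← Category.comp_id Δ.mor₂, ← Linear.comp_smul, h',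
        comp_zero])
    have : (s • 𝟙 Δ.obj₁) ≫ Δ.mor₁ = 0 := by rw [h, zero_comp]
    rw [mul_comm, mul_smul, hp, ← Linear.comp_smul, ← Category.id_comp Δ.mor₁,
      ← Linear.smul_comp, this, comp_zero]

lemma cone_torsion (X : T) (f : A) (hf : f ∈ S) (Z : T) (g : X ⟶ Z) (h : Z ⟶ X⟦(1 : ℤ)⟧)
    (hT : Triangle.mk (f • 𝟙 X) g h ∈ distTriang T) : torsion S Z := by
  have h1 : f • g = 0 := by
    have e : (f • 𝟙 X) ≫ g = 0 := comp_distTriang_mor_zero₁₂ _ hT
    rwa [Linear.smul_comp, Category.id_comp] at e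
  have h2 : f • h = 0 := by
    have e : h ≫ (f • 𝟙 X)⟦(1 : ℤ)⟧' = 0 := comp_distTriang_mor_zero₃₁ _ hT
    rwa [Functor.map_smul, CategoryTheory.Functor.map_id, Linear.comp_smul, Category.comp_id] at e
  obtain ⟨p, hp⟩ := Triangle.yoneda_exact₃ _ hT (f • 𝟙 Z) (by
    change g ≫ (f • 𝟙 Z) = 0
    rw [Linear.comp_smul, Category.comp_id, h1])
  change f • 𝟙 Z = h ≫ p at hp
  exact ⟨f * f, S.mul_mem hf hf, by rw [mul_smul, hp, ← Linear.smul_comp, h2, zero_comp]⟩

end S19190Aux

open S19190Aux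

/-- Let `A` be a commutative ring, `S` a multiplicative subset of `A` and `T` an `A`-linear triangulated
category (octahedron axiom included; the shift functors are `A`-linear). Call an object of `T`
`S`-torsion when it lies in the smallest thick subcategory `U` of `T` (a property of objects
containing zero, stable under shifts, extensions, isomorphisms and direct factors) containing every
cone of an endomorphism `f • 𝟙 X` with `f ∈ S`. Let `Q : T ⥤ E` exhibit `E` as the localization of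
`T` at the morphisms whose cone lies in `U` (the Verdier quotient `T/U`), where `E` is preadditive
and `A`-linear and `Q` is `A`-linear. Then for all objects `X`, `Y` of `T` the `A`-linear map
`Hom_T(X, Y) → Hom_E(Q X, Q Y)` given by `Q` exhibits its target as the localization of `Hom_T(X,
Y)` at `S`. Since `Q` is essentially surjective, this says that the comparison functor from `T/U` to
the category having the objects of `T` and morphism modules `Hom_T(X, Y) ⊗_A S⁻¹A` is an
equivalence. -/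
theorem result
    {A : Type w} [CommRing A] (S : Submonoid A)
    {T : Type u} [Category.{v} T] [Preadditive T] [Linear A T] [HasZeroObject T] [HasShift T ℤ]
    [∀ n : ℤ, (shiftFunctor T n).Additive] [∀ n : ℤ, (shiftFunctor T n).Linear A]
    [Pretriangulated T] [IsTriangulated T]
    (U : ObjectProperty T) [U.IsTriangulated] [U.IsClosedUnderIsomorphisms] [U.IsStableUnderRetracts]
    (hU : ∀ (X : T) (f : A), f ∈ S → ∀ (Z : T) (g : X ⟶ Z) (h : Z ⟶ X⟦(1 : ℤ)⟧),
      Triangle.mk (f • 𝟙 X) g h ∈ distTriang T → U Z)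
    (hmin : ∀ (U' : ObjectProperty T) [U'.IsTriangulated] [U'.IsClosedUnderIsomorphisms]
      [U'.IsStableUnderRetracts],
      (∀ (X : T) (f : A), f ∈ S → ∀ (Z : T) (g : X ⟶ Z) (h : Z ⟶ X⟦(1 : ℤ)⟧),
        Triangle.mk (f • 𝟙 X) g h ∈ distTriang T → U' Z) → U ≤ U')
    {E : Type u'} [Category.{v'} E] [Preadditive E] [Linear A E]
    (Q : T ⥤ E) [Q.Additive] [Q.Linear A] [Q.IsLocalization U.trW] (X Y : T) :
    IsLocalizedModule S (Q.mapLinearMap A : (X ⟶ Y) →ₗ[A] (Q.obj X ⟶ Q.obj Y)) := by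
  have hle : U ≤ torsion S := hmin (torsion S) (fun X f hf Z g h hT => cone_torsion S X f hf Z g h hT)
  have hinv : ∀ (Z : T) (s : A), s ∈ S → IsIso (Q.map (s • 𝟙 Z)) := fun Z s hs => by
    obtain ⟨W, g, h, hT⟩ := distinguished_cocone_triangle (s • 𝟙 Z)
    exact Localization.inverts Q U.trW _ ⟨W, g, h, hT, hU Z s hs W g h hT⟩
  refine ⟨fun s => ?_, fun φ => ?_, fun {f₁ f₂} h => ?_⟩
  · rw [Module.End.isUnit_iff]
    haveI := hinv X s.1 s.2
    have e : ∀ φ : Q.obj X ⟶ Q.obj Y,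
        algebraMap A (Module.End A (Q.obj X ⟶ Q.obj Y)) s φ = Q.map (s.1 • 𝟙 X) ≫ φ := fun φ => by
      simp [Module.algebraMap_end_apply]
    refine ⟨fun a b hab => ?_, fun b => ⟨inv (Q.map (s.1 • 𝟙 X)) ≫ b, ?_⟩⟩
    · rw [e, e] at hab
      exact (cancel_epi _).1 hab
    · rw [e, IsIso.hom_inv_id_assoc]
  · obtain ⟨φ', hφ'⟩ := Localization.exists_leftFraction Q U.trW φ
    obtain ⟨Z, g, h, hT, hZ⟩ := φ'.hs
    obtain ⟨s, hs, hsZ⟩ := hle Z hZ
    obtain ⟨τ, hτ⟩ := Triangle.coyoneda_exact₂ _ hT (s • 𝟙 φ'.Y') (by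
      change (s • 𝟙 φ'.Y') ≫ g = 0
      rw [Linear.smul_comp, Category.id_comp, ← Category.comp_id g, ← Linear.comp_smul, hsZ,
        comp_zero])
    change φ'.Y' ⟶ Y at τ
    replace hτ : s • 𝟙 φ'.Y' = τ ≫ φ'.s := hτ
    refine ⟨(φ'.f ≫ τ, ⟨s, hs⟩), ?_⟩
    haveI := Localization.inverts Q U.trW φ'.s φ'.hs
    change s • φ = Q.map (φ'.f ≫ τ)
    rw [← cancel_mono (Q.map φ'.s), ← Q.map_comp, Category.assoc, ← hτ, Linear.smul_comp, hφ',
      φ'.map_comp_map_s]
    simp
  · obtain ⟨Y', σ, hσ, he⟩ := (MorphismProperty.map_eq_iff_postcomp Q U.trW f₁ f₂).1 h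
    obtain ⟨Z, g, w, hT, hZ⟩ := hσ
    obtain ⟨e, hd⟩ := Triangle.coyoneda_exact₁ _ hT ((f₁ - f₂)⟦(1 : ℤ)⟧') (by
      change (f₁ - f₂)⟦(1 : ℤ)⟧' ≫ σ⟦(1 : ℤ)⟧' = 0
      rw [← Functor.map_comp, Preadditive.sub_comp, he, sub_self, Functor.map_zero])
    change X⟦(1 : ℤ)⟧ ⟶ Z at e
    replace hd : (f₁ - f₂)⟦(1 : ℤ)⟧' = e ≫ w := hd
    obtain ⟨s', hs', hsZ'⟩ := hle Z hZ
    refine ⟨⟨s', hs'⟩, ?_⟩
    change s' • f₁ = s' • f₂
    apply (shiftFunctor T (1 : ℤ)).map_injective
    rw [← sub_eq_zero, ← Functor.map_sub, ← smul_sub, Functor.map_smul, hd, ← Linear.comp_smul,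
      ← Category.id_comp w, ← Linear.smul_comp, hsZ', zero_comp, comp_zero]

end Groth.Agent.S19190
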