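import Groth.Statements.S19191
import Mathlib
-- import your own Groth.Agent.* helpers here

set_option autoImplicit false
universe w v u v' u'
open CategoryTheory CategoryTheory.Limits CategoryTheory.Pretriangulated CategoryTheory.Triangulated
open CohDer

namespace Groth.Agent.S19191

/-- Let `A` be a commutative ring, `T` an `A`-linear triangulated category (octahedron axiom included;
shift functors `A`-linear), `U` a thick subcategory of `T` (a property of objects containing zero,
stable under shifts, extensions, isomorphisms and direct factors), and `Q : T ⥤ E` a localization of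
`T` at the morphisms whose cone lies in `U` (the Verdier quotient `T/U`), where `E` is preadditive
and `A`-linear and `Q` is `A`-linear. For an object `X` of `T` the following two conditions are
equivalent: (i) `X` lies in `U`; (ii) for every maximal ideal `m` of `A` the image of `X` in the
category obtained from `T/U` by tensoring the morphism modules with `A_m` is zero, i.e. some element
of `A` outside `m` annihilates the identity of `Q X`. (The published statement also lists a third
equivalent condition, phrased with idempotent completions of the localized categories; it is not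
asserted here.) -/
theorem result
    {A : Type w} [CommRing A]
    {T : Type u} [Category.{v} T] [Preadditive T] [Linear A T] [HasZeroObject T] [HasShift T ℤ]
    [∀ n : ℤ, (shiftFunctor T n).Additive] [∀ n : ℤ, (shiftFunctor T n).Linear A]
    [Pretriangulated T] [IsTriangulated T]
    (U : ObjectProperty T) [U.IsTriangulated] [U.IsClosedUnderIsomorphisms] [U.IsStableUnderRetracts]
    {E : Type u'} [Category.{v'} E] [Preadditive E] [Linear A E]
    (Q : T ⥤ E) [Q.Additive] [Q.Linear A] [Q.IsLocalization U.trW] (X : T) :
    U X ↔ ∀ m : Ideal A, m.IsMaximal → ∃ s : A, s ∉ m ∧ s • 𝟙 (Q.obj X) = 0 := by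
  open Limits ZeroObject in
  constructor
  · intro hX m hm
    refine ⟨1, (Ideal.ne_top_iff_one m).1 hm.ne_top, ?_⟩
    rw [one_smul]
    haveI : IsIso (Q.map (0 : X ⟶ 0)) :=
      Localization.inverts Q U.trW _ ((U.trW_iff' _).2 ⟨_, _, _, contractible_distinguished X, hX⟩)
    have h0 : Limits.IsZero (Q.obj (0 : T)) := Q.map_isZero (Limits.isZero_zero T)
    exact (h0.of_iso (asIso (Q.map (0 : X ⟶ 0)))).eq_of_src _ _
  · intro h
    let I : Ideal A :=
      { carrier := {s | s • 𝟙 (Q.obj X) = 0}
        add_mem' := fun {a b} (ha : a • _ = 0) (hb : b • _ = 0) => show (a + b) • _ = 0 by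
          rw [add_smul, ha, hb, add_zero]
        zero_mem' := zero_smul A _
        smul_mem' := fun c a (ha : a • _ = 0) => show (c • a) • _ = 0 by
          rw [smul_assoc, ha, smul_zero] }
    have hI : (1 : A) ∈ I := by
      rw [← Ideal.eq_top_iff_one]
      by_contra hne
      obtain ⟨m, hm, hle⟩ := Ideal.exists_le_maximal I hne
      obtain ⟨s, hs, hs0⟩ := h m hm
      exact hs (hle hs0)
    have h1 : Q.map (𝟙 X) = Q.map 0 := by
      rw [Q.map_id, Q.map_zero, ← one_smul A (𝟙 (Q.obj X))]
      exact hI
    obtain ⟨Z, s, hs, hfs⟩ := (MorphismProperty.map_eq_iff_precomp Q U.trW _ _).1 h1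
    have hs0 : s = 0 := by simpa using hfs
    obtain ⟨C, g, δ, hT, hC⟩ := (U.trW_iff s).1 hs
    obtain ⟨r, hr⟩ := Triangle.yoneda_exact₂ _ hT (𝟙 X) (by rw [hs0]; exact Limits.zero_comp)
    exact U.prop_of_retract ({ i := g, r := r, retract := hr.symm } : Retract X C) hC

end Groth.Agent.S19191
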