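import Groth.Statements.S19193
import Mathlib
-- import your own Groth.Agent.* helpers here

set_option autoImplicit false
universe u
open CategoryTheory Opposite TopologicalSpace
open CohTop

namespace Groth.Agent.S19193

open W4c6blochformula0cyc in
/-- Let `F` be a presheaf of abelian groups on a topological space `X`, `U` a family of opens of `X`
indexed by a finite type, and suppose given, for every open `V` and every index `α`, an additive map
`E V α : F(V ∩ U_α) → F(V)` such that for every nonempty tuple of indices `t`, with `V = U_{t_0} ∩ ⋯
∩ U_{t_m}`: (i) `∑_α E V α (f|_{V ∩ U_α}) = f` for all `f ∈ F(V)`, and (ii) `(E V α g)|_{V ∩ U_β} =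
E (V ∩ U_β) α (g|_{V ∩ U_β ∩ U_α})` for all indices `α, β` and all `g ∈ F(V ∩ U_α)`. Then the
operator `H` on ordered Čech cochains, `(H f)_t = ∑_α E (U_t) α (f_{(α, t)})`, satisfies `H (δ f) +
δ (H f) = f` for every Čech cochain `f` on tuples of length at least `2`, i.e. in every Čech degree
`≥ 1`. (The published statement takes a flasque sheaf on an open cover and extension maps attached
to pairs of finite intersections; this row takes any presheaf, any finite family of opens, and maps
that may depend on the index, none of which the printed argument needs. The published statement also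
asserts the identity in every degree of the Čech complex without augmentation term, and allows an
infinite index set with finitely supported sums; in Čech degree `0`, where that complex has no term
below and the identity reads `H (δ f) = f`, it fails in general — for the one-member cover of a
point and the constant presheaf `ℤ` with `E` the identity, `δ f` vanishes on the pair while `f` need
not — so it is stated here from degree `1` on, i.e. for cochains on tuples of length at least `2`
(the whole-space term on the empty tuple carried by the cochain groups used here plays no role), and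
for a finite index type.) -/
theorem result {X : Type u} [TopologicalSpace X]
    {ι : Type u} [Fintype ι] (F : (Opens X)ᵒᵖ ⥤ AddCommGrpCat.{u}) (U : ι → Opens X)
    (E : ∀ (V : Opens X) (α : ι), F.obj (op (V ⊓ U α)) →+ F.obj (op V))
    (h2 : ∀ (m : ℕ) (t : Fin (m + 1) → ι) (f : F.obj (op (cechOpen U t))),
      ∑ α, E (cechOpen U t) α (res F inf_le_left f) = f)
    (h3 : ∀ (m : ℕ) (t : Fin (m + 1) → ι) (α β : ι) (g : F.obj (op (cechOpen U t ⊓ U α))),
      res F inf_le_left (E (cechOpen U t) α g) =
        E (cechOpen U t ⊓ U β) α (res F (inf_le_inf_right (U α) inf_le_left) g))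
    (n : ℕ) (f : Cochain F U (n + 2)) :
    homotopy F U E (n + 2) (delta F U (n + 2) f) + delta F U (n + 1) (homotopy F U E (n + 1) f) = f := by
  have congrf : ∀ (s s' : Fin (n + 2) → ι) (W : Opens X) (hs : W ≤ cechOpen U s) (hs' : W ≤ cechOpen U s'),
      s = s' → res F hs (f s) = res F hs' (f s') := by
    intro s s' W hs hs' e
    subst e
    rfl
  have rr : ∀ (V V' W : Opens X) (h : V' ≤ V) (h' : W ≤ V') (x : F.obj (op V)),
      res F h' (res F h x) = res F (h'.trans h) x := by
    intro V V' W h h' x
    show (F.map _ ≫ F.map _) x = _
    rw [← F.map_comp]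
    rfl
  have rid : ∀ (V : Opens X) (x : F.obj (op V)), res F (le_refl V) x = x := by
    intro V x
    show F.map (𝟙 _) x = x
    rw [F.map_id]
    rfl
  have econgr : ∀ (V W : Opens X) (e : W = V) (α : ι) (g : F.obj (op (V ⊓ U α))),
      res F e.le (E V α g) = E W α (res F (inf_le_inf_right (U α) e.le) g) := by
    intro V W e α g
    subst e
    rw [rid, rid]
  funext t
  simp only [Pi.add_apply, homotopy, delta, AddMonoidHom.coe_mk, ZeroHom.coe_mk]
  have key : ∀ j : Fin (n + 2), res F (cechOpen_le_comp U t j)
      (∑ α, E (cechOpen U (t ∘ j.succAbove)) α (res F (inf_le_cechOpen_cons U (t ∘ j.succAbove) α)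
        (f (Fin.cons α (t ∘ j.succAbove))))) =
      ∑ α, E (cechOpen U t) α (res F ((inf_le_inf_right (U α) (cechOpen_le_comp U t j)).trans
        (inf_le_cechOpen_cons U (t ∘ j.succAbove) α)) (f (Fin.cons α (t ∘ j.succAbove)))) := by
    intro j
    rw [map_sum]
    refine Finset.sum_congr rfl fun α _ => ?_
    have e : cechOpen U t = cechOpen U (t ∘ j.succAbove) ⊓ U (t j) := by
      refine le_antisymm (le_inf (cechOpen_le_comp U t j) (iInf_le _ j)) (le_iInf fun i => ?_)
      rcases Fin.eq_self_or_eq_succAbove j i with h | ⟨k, h⟩
      · subst h; exact inf_le_right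
      · subst h; exact inf_le_left.trans (iInf_le (fun k => U ((t ∘ j.succAbove) k)) k)
    rw [← rr _ _ _ inf_le_left e.le, h3 n (t ∘ j.succAbove) α (t j), econgr _ _ e, rr, rr]
  simp only [key, Finset.smul_sum]
  rw [Finset.sum_comm, ← Finset.sum_add_distrib]
  refine Eq.trans (Finset.sum_congr rfl fun α _ => ?_) (h2 (n + 1) t (f t))
  simp only [← map_zsmul]
  rw [← map_sum, ← map_add]
  refine congrArg (E (cechOpen U t) α) ?_
  simp only [map_sum, map_zsmul, rr]
  rw [Fin.sum_univ_succ, add_assoc, ← Finset.sum_add_distrib, Finset.sum_eq_zero, add_zero]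
  · rw [Fin.val_zero, pow_zero, one_smul]
    exact congrf _ _ _ _ _ (funext fun i => by simp)
  · intro j _
    rw [congrf ((Fin.cons α t : Fin (n + 3) → ι) ∘ j.succ.succAbove) (Fin.cons α (t ∘ j.succAbove)) _ _
      ((inf_le_inf_right (U α) (cechOpen_le_comp U t j)).trans
        (inf_le_cechOpen_cons U (t ∘ j.succAbove) α)) (funext fun i => by
          refine Fin.cases ?_ (fun i => ?_) i <;> simp [Fin.succ_succAbove_succ]), Fin.val_succ,
      pow_succ, mul_neg, mul_one, neg_smul, neg_add_cancel]

end Groth.Agent.S19193
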