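import Groth.Statements.S19195
import Mathlib
import Groth.Agent.FlatSeqLib.FinPres
import Groth.Agent.FlatLocus.Gen

set_option autoImplicit false
universe u
open TensorProduct
open RelS1

namespace Groth.Agent.S19195

/-- Let A be a commutative ring, B a finitely presented A-algebra and M a finitely presented B-module
which is flat over A. Suppose that for every prime p of A, with residue field κ(p), the fibre module
(B ⊗_A κ(p)) ⊗_B M over the fibre ring B ⊗_A κ(p) satisfies Serre's condition (S_1) in the form:
each of its associated primes is a minimal prime of its annihilator. Let a be an element of B whose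
image a ⊗ 1 in every fibre ring B ⊗_A κ(p) lies in no minimal prime of the annihilator of the fibre
module. Then a is a non-zero-divisor on M. (Since all hypotheses are preserved by base change of A
and by passing to affine opens, this expresses that a flat finitely presented sheaf with (S_1)
fibres is pure relative to the base after every base change. The published statement is an
equivalence for sheaves on a locally finitely presented morphism, quantified over all base changes;
this row states its direct implication in affine form.) -/
theorem result (A B M : Type u) [CommRing A] [CommRing B] [Algebra A B]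
    [Algebra.FinitePresentation A B] [AddCommGroup M] [Module B M] [Module A M]
    [IsScalarTower A B M] [Module.FinitePresentation B M] [Module.Flat A M]
    (hS1 : ∀ (p : Ideal A) [p.IsPrime],
      associatedPrimes (B ⊗[A] p.ResidueField) ((B ⊗[A] p.ResidueField) ⊗[B] M) ⊆
        (Module.annihilator (B ⊗[A] p.ResidueField) ((B ⊗[A] p.ResidueField) ⊗[B] M)).minimalPrimes)
    (a : B)
    (ha : ∀ (p : Ideal A) [p.IsPrime],
      ∀ P ∈ (Module.annihilator (B ⊗[A] p.ResidueField) ((B ⊗[A] p.ResidueField) ⊗[B] M)).minimalPrimes,
        a ⊗ₜ[A] (1 : p.ResidueField) ∉ P) :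
    IsSMulRegular M a := by
  classical
  haveI : Module.Flat A M := inferInstance
  refine isSMulRegular_iff_right_eq_zero_of_smul.2 fun x hx => ?_
  refine Module.eq_zero_of_localization_maximal (R := B) (fun P _ => LocalizedModule P.primeCompl M)
    (fun P _ => LocalizedModule.mkLinearMap P.primeCompl M) x fun P hP => ?_
  by_cases haP : a ∈ P
  · let p := P.comap (algebraMap A B)
    haveI : IsLocalizedModule (⊥ : Submonoid B) (LinearMap.id : M →ₗ[B] M) :=
      { map_units := fun s => by
          rw [Module.End.isUnit_iff]
          have hs : (s : B) = 1 := Submonoid.mem_bot.1 s.2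
          exact ⟨fun u v h => by simpa [hs] using h, fun u => ⟨u, by simp [hs]⟩⟩
        surj := fun y => ⟨(y, 1), one_smul _ _⟩
        exists_of_eq := fun h => ⟨1, by simpa using h⟩ }
    haveI : Module.Flat A (LocalizedModule P.primeCompl M) :=
      Groth.Agent.FlatLocus.flat_localized_of_le (A := A) (⊥ : Submonoid B) P.primeCompl bot_le (LinearMap.id : M →ₗ[B] M)
        (LocalizedModule.mkLinearMap P.primeCompl M)
    -- regularity on the fibre module
    haveI : IsNoetherianRing (p.ResidueField ⊗[A] B) := Algebra.FiniteType.isNoetherianRing p.ResidueField _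
    haveI : IsNoetherianRing (B ⊗[A] p.ResidueField) :=
      isNoetherianRing_of_ringEquiv _ (Algebra.TensorProduct.comm A p.ResidueField B).toRingEquiv
    let ε : (B ⊗[A] p.ResidueField) ⊗[B] M ≃ₗ[B] M ⊗[A] p.ResidueField :=
      (TensorProduct.comm B _ M).trans (AlgebraTensorModule.cancelBaseChange A B B M p.ResidueField)
    have hfib : ∀ z : M ⊗[A] p.ResidueField, a • z = 0 → z = 0 := by
      intro z hz
      obtain ⟨w, rfl⟩ := ε.surjective z
      by_contra hw
      have hw0 : w ≠ 0 := fun h => hw (by rw [h, map_zero])
      rw [← map_smul, LinearEquiv.map_eq_zero_iff] at hz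
      have hz' : (a ⊗ₜ[A] (1 : p.ResidueField)) • w = 0 := by
        rw [← hz, ← algebraMap_smul (B ⊗[A] p.ResidueField) a w]
        rfl
      have hmem : a ⊗ₜ[A] (1 : p.ResidueField) ∈
          {r : B ⊗[A] p.ResidueField | ∃ x : (B ⊗[A] p.ResidueField) ⊗[B] M, x ≠ 0 ∧ r • x = 0} := ⟨w, hw0, hz'⟩
      rw [← biUnion_associatedPrimes_eq_zero_divisors, Set.mem_iUnion₂] at hmem
      obtain ⟨Q, hQ, haQ⟩ := hmem
      exact ha p Q (hS1 p hQ) haQ
    have hloc : RingTheory.Sequence.IsWeaklyRegular
        (LocalizedModule P.primeCompl (M ⊗[A] p.ResidueField)) [a] := by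
      refine (RingTheory.Sequence.isWeaklyRegular_cons_iff _ _ _).2 ⟨?_, RingTheory.Sequence.IsWeaklyRegular.nil _ _⟩
      refine isSMulRegular_iff_right_eq_zero_of_smul.2 fun y hy => ?_
      induction y using LocalizedModule.induction_on with
      | _ m s =>
        rw [LocalizedModule.smul'_mk, ← LocalizedModule.zero_mk 1, LocalizedModule.mk_eq] at hy
        obtain ⟨t, ht⟩ := hy
        rw [← LocalizedModule.zero_mk 1, LocalizedModule.mk_eq]
        refine ⟨t, ?_⟩
        simp only [one_smul, smul_zero] at ht ⊢
        refine hfib _ ?_
        rw [smul_comm] at ht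
        exact ht
    obtain ⟨e⟩ := Groth.Agent.FlatSeqLib.nonempty_fibreEquiv (A := A) P M
    obtain ⟨hw, -⟩ := Groth.Agent.FlatSeqLib.isWeaklyRegular_and_flat_fp (A := A) P [a] M (by simpa using haP)
      ((e.isWeaklyRegular_congr [a]).2 hloc)
    refine isSMulRegular_iff_right_eq_zero_of_smul.1 ((RingTheory.Sequence.isWeaklyRegular_cons_iff _ _ _).1 hw).1 _ ?_
    rw [← map_smul, hx, map_zero]
  · refine IsLocalizedModule.smul_injective (LocalizedModule.mkLinearMap P.primeCompl M) (⟨a, haP⟩ : P.primeCompl) ?_
    simp only [Submonoid.smul_def, smul_zero]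
    rw [← map_smul, hx, map_zero]


end Groth.Agent.S19195
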