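import Groth.Statements.S19196
import Mathlib

set_option autoImplicit false
universe u
open RelS1

namespace Groth.Agent.S19196

open Polynomial TensorProduct

/-- Let R be a Noetherian commutative ring and N a finitely generated R-module which fails Serre's
condition (S_1), in the sense that some associated prime of N is not a minimal prime of the
annihilator of N. Then there exist an element a of R lying in no minimal prime of the annihilator of
N and a nonzero element b of N with a • b = 0; thus the basic open set D(a) meets the support of N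
densely while restriction to it is not injective on N. -/
theorem result (R N : Type u) [CommRing R] [IsNoetherianRing R]
    [AddCommGroup N] [Module R N] [Module.Finite R N]
    (h : ¬ associatedPrimes R N ⊆ (Module.annihilator R N).minimalPrimes) :
    ∃ (a : R) (b : N), (∀ P ∈ (Module.annihilator R N).minimalPrimes, a ∉ P) ∧ b ≠ 0 ∧ a • b = 0 := by
  obtain ⟨Q, hQ, hQn⟩ := Set.not_subset.1 h
  have hann : Module.annihilator R N ≤ Q :=
    le_of_eq_of_le Submodule.annihilator_top.symm (IsAssociatedPrime.annihilator_le hQ)
  have : ¬ ((Q : Set R) ⊆ ⋃ P ∈ (Module.annihilator R N).minimalPrimes, (P : Set R)) := by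
    rw [Ideal.subset_union_prime_finite (Ideal.finite_minimalPrimes_of_isNoetherianRing R _) ⊥ ⊥
      (fun P hP _ _ => hP.1.1) (f := fun P => P)]
    rintro ⟨P, hP, hle : Q ≤ P⟩
    exact hQn ((le_antisymm hle (hP.2 ⟨hQ.isPrime, hann⟩ hle)) ▸ hP)
  obtain ⟨a, haQ, ha⟩ := Set.not_subset.1 this
  have : a ∈ {r : R | ∃ x : N, x ≠ 0 ∧ r • x = 0} := by
    rw [← biUnion_associatedPrimes_eq_zero_divisors]
    exact Set.mem_iUnion₂_of_mem hQ haQ
  obtain ⟨b, hb, hab⟩ := this
  exact ⟨a, b, fun P hP hm => ha (Set.mem_iUnion₂_of_mem hP hm), hb, hab⟩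

end Groth.Agent.S19196
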