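import Groth.Statements.S5094
import Mathlib
import Groth.Agent.BirNormal.Basic

set_option autoImplicit false
set_option linter.style.haveILetI false
universe u
open CategoryTheory CategoryTheory.Limits AlgebraicGeometry TopologicalSpace
open Lim8

namespace Groth.Agent.S5094

open CategoryTheory AlgebraicGeometry

theorem exists_away_bijective {A B : Type u} [CommRing A] [CommRing B] [Algebra A B]
    [Algebra.FiniteType A B] (p : Ideal B) [p.IsPrime] [Algebra.QuasiFiniteAt A p]
    (hint : ∀ b : B, IsIntegral A b → ∃ s : A, algebraMap A B s ∉ p ∧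
      ∃ a, algebraMap A B a = algebraMap A B s * b)
    (hinj : Function.Injective (algebraMap A B)) :
    ∃ a : A, algebraMap A B a ∉ p ∧
      Function.Bijective (Localization.awayMap (algebraMap A B) a) := by
  classical
  obtain ⟨r, hrp, hr, h⟩ := Algebra.zariskisMainProperty_iff.mp
    (Algebra.ZariskisMainProperty.of_finiteType (R := A) p)
  obtain ⟨sr, hsr, ar, har⟩ := hint r hr
  obtain ⟨T, hT⟩ := (‹Algebra.FiniteType A B›).out
  choose m hm using h
  choose s hs c hc using fun t => hint _ (hm t)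
  have hSp : algebraMap A B (∏ t ∈ T, s t) ∉ p := fun hmem => by
    rw [map_prod] at hmem
    obtain ⟨t, -, ht⟩ := (‹p.IsPrime›.prod_mem_iff).mp hmem
    exact hs t ht
  refine ⟨(∏ t ∈ T, s t) * ar, ?_, IsLocalization.map_injective_of_injective _ _ _ hinj, ?_⟩
  · rw [map_mul, har]
    exact ‹p.IsPrime›.mul_notMem hSp (‹p.IsPrime›.mul_notMem hsr hrp)
  rw [Localization.awayMap_surjective_iff]
  intro b
  have hb : b ∈ Algebra.adjoin A (T : Set B) := hT ▸ Algebra.mem_top
  induction hb using Algebra.adjoin_induction with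
  | algebraMap a => exact ⟨a, 0, by simp⟩
  | add x y _ _ hx hy =>
    obtain ⟨a₁, n₁, h₁⟩ := hx
    obtain ⟨a₂, n₂, h₂⟩ := hy
    refine ⟨a₁ * ((∏ t ∈ T, s t) * ar) ^ n₂ + a₂ * ((∏ t ∈ T, s t) * ar) ^ n₁, n₁ + n₂, ?_⟩
    simp only [map_add, map_mul, map_pow, h₁, h₂]
    ring
  | mul x y _ _ hx hy =>
    obtain ⟨a₁, n₁, h₁⟩ := hx
    obtain ⟨a₂, n₂, h₂⟩ := hy
    refine ⟨a₁ * a₂, n₁ + n₂, ?_⟩
    rw [map_mul, h₁, h₂]
    ring
  | mem t ht =>
    refine ⟨((∏ u ∈ T.erase t, s u) * ar) * (∏ u ∈ T, s u) ^ m t * sr ^ m t * c t, m t + 1, ?_⟩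
    rw [← Finset.mul_prod_erase T s ht]
    simp only [map_mul, map_pow, har, hc t]
    ring

theorem exists_isIso_resLE {X Y : Scheme.{u}} [IsIntegral X] [IsIntegral Y] (f : X ⟶ Y)
    [LocallyOfFiniteType f] (hgen : f (genericPoint X) = genericPoint Y)
    (hbir : IsIso (f.stalkMap (genericPoint X))) (x : X)
    (hy : IsIntegrallyClosed (Y.presheaf.stalk (f x))) (hx : f.QuasiFiniteAt x) :
    ∃ (U : X.Opens) (D : Y.Opens) (h : U ≤ f ⁻¹ᵁ D), x ∈ U ∧ IsIso (f.resLE D U h) := by
  obtain ⟨_, ⟨V : Y.Opens, (hV : IsAffineOpen V), rfl⟩, hxV, -⟩ :=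
    Y.isBasis_affineOpens.exists_subset_of_mem_open (Set.mem_univ (f x)) isOpen_univ
  obtain ⟨_, ⟨U : X.Opens, (hU : IsAffineOpen U), rfl⟩, hxU, (hUV : U ≤ f ⁻¹ᵁ V)⟩ :=
    X.isBasis_affineOpens.exists_subset_of_mem_open (show x ∈ (f ⁻¹ᵁ V : Set X) from hxV)
      (f ⁻¹ᵁ V).2
  haveI : Nonempty U := ⟨⟨x, hxU⟩⟩
  haveI : Nonempty V := ⟨⟨f x, hxV⟩⟩
  letI : Algebra Γ(Y, V) Γ(X, U) := (f.appLE V U hUV).hom.toAlgebra
  haveI : Algebra.FiniteType Γ(Y, V) Γ(X, U) := f.finiteType_appLE hV hU hUV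
  haveI : Algebra.QuasiFiniteAt Γ(Y, V) (hU.primeIdealOf ⟨x, hxU⟩).asIdeal :=
    hx.quasiFiniteAt hU hV hUV hxU
  have hηU : genericPoint X ∈ U := (genericPoint_specializes x).mem_open U.2 hxU
  have hηV : f (genericPoint X) ∈ V := hUV hηU
  have key : ∀ y, y = genericPoint Y → ∀ (hy : y ∈ V) (z : Y.presheaf.stalk y),
      (Y.presheaf.germ V y hy).hom.IsIntegralElem z →
      ∃ s : Γ(Y, V), s ∉ (hV.primeIdealOf ⟨f x, hxV⟩).asIdeal ∧
        ∃ a, Y.presheaf.germ V y hy a = Y.presheaf.germ V y hy s * z := by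
    rintro y rfl hgV z hz
    haveI : IsIntegrallyClosed (Y.presheaf.stalk (f x)) := hy
    letI := Y.presheaf.algebra_section_stalk (⟨f x, hxV⟩ : V)
    haveI := hV.isLocalization_stalk ⟨f x, hxV⟩
    haveI : IsScalarTower Γ(Y, V) (Y.presheaf.stalk (f x)) Y.functionField :=
      functionField_isScalarTower Y V ⟨f x, hxV⟩
    have hz' : IsIntegral Γ(Y, V) (show Y.functionField from z) := hz
    obtain ⟨w, hw⟩ := IsIntegrallyClosed.isIntegral_iff.mp (hz'.tower_top (A := Y.presheaf.stalk (f x)))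
    obtain ⟨⟨a, s⟩, has⟩ := IsLocalization.surj (hV.primeIdealOf ⟨f x, hxV⟩).asIdeal.primeCompl w
    refine ⟨s.1, s.2, a, ?_⟩
    have h := congrArg (algebraMap (Y.presheaf.stalk (f x)) Y.functionField) has
    rw [map_mul, hw, ← IsScalarTower.algebraMap_apply, ← IsScalarTower.algebraMap_apply, mul_comm] at h
    exact h.symm
  have hinjY : ∀ y, y = genericPoint Y → ∀ hy : y ∈ V,
      Function.Injective (Y.presheaf.germ V y hy) := by
    rintro y rfl hy
    exact Y.germToFunctionField_injective V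
  let σ := f.stalkMap (genericPoint X)
  have hσ := (ConcreteCategory.isIso_iff_bijective σ).1 hbir
  have hcomp : ∀ a : Γ(Y, V), X.presheaf.germ U (genericPoint X) hηU (f.appLE V U hUV a) =
      σ (Y.presheaf.germ V (f (genericPoint X)) hηV a) := fun a => by
    rw [← CommRingCat.comp_apply, ← CommRingCat.comp_apply, Scheme.Hom.appLE, Category.assoc,
      X.presheaf.germ_res, Scheme.Hom.germ_stalkMap]
  have hinjX : Function.Injective (X.presheaf.germ U (genericPoint X) hηU) :=
    X.germToFunctionField_injective U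
  have hinj : Function.Injective (algebraMap Γ(Y, V) Γ(X, U)) := fun a b h => by
    refine hinjY _ hgen hηV (hσ.1 ?_)
    rw [← hcomp, ← hcomp]
    exact congrArg _ h
  have hcomap : (hU.primeIdealOf ⟨x, hxU⟩).asIdeal.comap (f.appLE V U hUV).hom =
      (hV.primeIdealOf ⟨f x, hxV⟩).asIdeal :=
    congr($(IsAffineOpen.comap_primeIdealOf_appLE V hV U hU hUV hxU).1)
  have hint : ∀ b : Γ(X, U), IsIntegral Γ(Y, V) b → ∃ s : Γ(Y, V),
      algebraMap Γ(Y, V) Γ(X, U) s ∉ (hU.primeIdealOf ⟨x, hxU⟩).asIdeal ∧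
      ∃ a, algebraMap Γ(Y, V) Γ(X, U) a = algebraMap Γ(Y, V) Γ(X, U) s * b := by
    intro b hb
    obtain ⟨z, hz⟩ := hσ.2 (X.presheaf.germ U (genericPoint X) hηU b)
    obtain ⟨P, hP, hP0⟩ := hb
    obtain ⟨s, hs, a, ha⟩ := key _ hgen hηV z ⟨P, hP, hσ.1 (by
      rw [map_zero]
      show σ.hom (Polynomial.eval₂ _ z P) = 0
      rw [Polynomial.hom_eval₂, show σ.hom z = _ from hz,
        show σ.hom.comp (Y.presheaf.germ V (f (genericPoint X)) hηV).hom =
          (X.presheaf.germ U (genericPoint X) hηU).hom.comp (f.appLE V U hUV).hom from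
          RingHom.ext fun a => (hcomp a).symm,
        ← Polynomial.hom_eval₂]
      exact (congrArg _ hP0).trans (map_zero _))⟩
    refine ⟨s, fun h => hs (hcomap ▸ h), a, hinjX ?_⟩
    show X.presheaf.germ U (genericPoint X) hηU (f.appLE V U hUV a) =
      X.presheaf.germ U (genericPoint X) hηU (f.appLE V U hUV s * b)
    rw [map_mul, hcomp, hcomp, ha, map_mul, hz]
  obtain ⟨a, hap, hbij⟩ := exists_away_bijective (hU.primeIdealOf ⟨x, hxU⟩).asIdeal hint hinj
  have hle : X.basicOpen (f.appLE V U hUV a) ≤ f ⁻¹ᵁ Y.basicOpen a := by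
    rw [Scheme.basicOpen_appLE]
    exact inf_le_right
  refine ⟨X.basicOpen (f.appLE V U hUV a), Y.basicOpen a, hle, ?_, ?_⟩
  · rw [Scheme.mem_basicOpen _ _ _ hxU]
    by_contra hu
    letI := X.presheaf.algebra_section_stalk (⟨x, hxU⟩ : U)
    haveI := hU.isLocalization_stalk ⟨x, hxU⟩
    exact hap ((IsLocalization.AtPrime.to_map_mem_maximal_iff (X.presheaf.stalk x)
      (hU.primeIdealOf ⟨x, hxU⟩).asIdeal _).1 hu)
  haveI := hV.isLocalization_basicOpen a
  haveI := hU.isLocalization_basicOpen (f.appLE V U hUV a)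
  haveI : IsIso (f.appLE (Y.basicOpen a) (X.basicOpen (f.appLE V U hUV a)) hle) := by
    rw [ConcreteCategory.isIso_iff_bijective]
    let eA := IsLocalization.algEquiv (Submonoid.powers a) (Localization.Away a) Γ(Y, Y.basicOpen a)
    let eB := IsLocalization.algEquiv (Submonoid.powers (f.appLE V U hUV a))
      (Localization.Away (f.appLE V U hUV a)) Γ(X, X.basicOpen (f.appLE V U hUV a))
    have : (f.appLE (Y.basicOpen a) (X.basicOpen (f.appLE V U hUV a)) hle).hom.comp
        (eA : Localization.Away a →+* _) =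
        (eB : Localization.Away (f.appLE V U hUV a) →+* _).comp
          (Localization.awayMap (algebraMap Γ(Y, V) Γ(X, U)) a) := by
      refine IsLocalization.ringHom_ext (Submonoid.powers a) (RingHom.ext fun t => ?_)
      simp only [RingHom.comp_apply, RingHom.coe_coe, AlgEquiv.commutes, Localization.awayMap,
        IsLocalization.Away.map]
      erw [IsLocalization.map_eq]
      refine Eq.trans ?_ (eB.commutes _).symm
      show f.appLE _ _ hle (Y.presheaf.map (homOfLE (Y.basicOpen_le a)).op t) =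
        X.presheaf.map (homOfLE (X.basicOpen_le _)).op (f.appLE V U hUV t)
      rw [← CommRingCat.comp_apply, ← CommRingCat.comp_apply, Scheme.Hom.map_appLE,
        Scheme.Hom.appLE_map]
    have hb : Function.Bijective ((f.appLE (Y.basicOpen a)
        (X.basicOpen (f.appLE V U hUV a)) hle).hom ∘ eA) := by
      have h2 := congrArg DFunLike.coe this
      rw [RingHom.coe_comp, RingHom.coe_comp] at h2
      exact h2.symm ▸ eB.bijective.comp hbij
    exact (Function.Bijective.of_comp_iff _ eA.bijective).1 hb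
  have e : f.resLE (Y.basicOpen a) (X.basicOpen (f.appLE V U hUV a)) hle =
      (hU.basicOpen (f.appLE V U hUV a)).isoSpec.hom ≫
        Spec.map (f.appLE (Y.basicOpen a) (X.basicOpen (f.appLE V U hUV a)) hle) ≫
        (hV.basicOpen a).isoSpec.inv := by
    rw [← cancel_mono (Y.basicOpen a).ι, Scheme.Hom.resLE_comp_ι, Category.assoc, Category.assoc,
      IsAffineOpen.isoSpec_inv_ι, (hV.basicOpen a).SpecMap_appLE_fromSpec f (hU.basicOpen _) hle,
      ← IsAffineOpen.isoSpec_inv_ι, Category.assoc, Iso.hom_inv_id_assoc]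
  rw [e]
  infer_instance

/-- Let X and Y be integral schemes and f : X → Y a separated morphism, locally of finite type and
birational (f sends the generic point of X to the generic point of Y and its stalk map there, the
induced homomorphism of function fields, is an isomorphism). Let y be a normal point of Y (the local
ring O_{Y,y} is integrally closed) and suppose that some point of the fibre f⁻¹(y) is isolated in
that fibre. Then y has an open neighbourhood U such that the restriction f⁻¹(U) → U of f is an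
isomorphism. -/
theorem result {X Y : Scheme.{u}} [IsIntegral X]
    [IsIntegral Y] (f : X ⟶ Y) [IsSeparated f] [LocallyOfFiniteType f]
    (hgen : f (genericPoint X) = genericPoint Y) (hbir : IsIso (f.stalkMap (genericPoint X)))
    (y : ↥Y) (hy : IsIntegrallyClosed ↑(Y.presheaf.stalk y))
    (x : ↥(f.fiber y)) (hx : IsOpen ({x} : Set ↥(f.fiber y))) :
    ∃ U : Y.Opens, y ∈ U ∧ IsIso (f ∣_ U) := by
  classical
  let x₀ := f.fiberι y x
  have hxy : f x₀ = y := (f.fiberHomeo y x).2
  have hy' : IsIntegrallyClosed (Y.presheaf.stalk (f x₀)) := hxy ▸ hy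
  have hx' : f.QuasiFiniteAt x₀ := by
    refine Scheme.Hom.quasiFiniteAt_iff_isOpen_singleton_asFiber.mpr ?_
    let e : f.fiber y ≃ₜ f.fiber (f x₀) := ((f.fiberHomeo y).trans
      (Homeomorph.setCongr (by rw [hxy]))).trans (f.fiberHomeo (f x₀)).symm
    have he : e '' {x} = {f.asFiber x₀} := by rw [Set.image_singleton]; rfl
    rw [← he]
    exact e.isOpen_image.mpr hx
  obtain ⟨U₀, D, hU₀D, hxU₀, hiso⟩ := exists_isIso_resLE f hgen hbir x₀ hy' hx'
  refine ⟨D, hxy ▸ hU₀D hxU₀, ?_⟩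
  haveI := hiso
  haveI : IsSeparated (f ∣_ D) := IsZariskiLocalAtTarget.restrict ‹_› D
  have hfac : X.homOfLE hU₀D ≫ (f ∣_ D) = f.resLE D U₀ hU₀D := by
    rw [← cancel_mono D.ι, Category.assoc, morphismRestrict_ι, Scheme.Hom.resLE_comp_ι,
      Scheme.homOfLE_ι_assoc]
  haveI : IsIso (X.homOfLE hU₀D ≫ (f ∣_ D)) := hfac ▸ hiso
  haveI : UniversallyClosed (X.homOfLE hU₀D) :=
    UniversallyClosed.of_comp_of_isSeparated _ (f ∣_ D)
  have hξU : genericPoint X ∈ U₀ := (genericPoint_specializes x₀).mem_open U₀.2 hxU₀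
  have hsurj : Set.range (X.homOfLE hU₀D) = Set.univ := by
    refine Set.eq_univ_of_forall fun z => ?_
    have hξV : genericPoint X ∈ f ⁻¹ᵁ D := hU₀D hξU
    refine Specializes.mem_closed (x := (⟨genericPoint X, hξV⟩ : (f ⁻¹ᵁ D).toScheme))
      ((f ⁻¹ᵁ D).ι.isOpenEmbedding.isInducing.specializes_iff.mp (genericPoint_specializes z.1))
      (X.homOfLE hU₀D).isClosedMap.isClosed_range ⟨⟨genericPoint X, hξU⟩, ?_⟩
    refine (f ⁻¹ᵁ D).ι.isOpenEmbedding.injective ?_
    rw [← Scheme.Hom.comp_apply, Scheme.homOfLE_ι]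
    rfl
  haveI : IsIso (X.homOfLE hU₀D) := (isIso_iff_isOpenImmersion_and_surjective _).mpr
    ⟨inferInstance, ⟨fun z => Set.eq_univ_iff_forall.mp hsurj z⟩⟩
  exact IsIso.of_isIso_comp_left (X.homOfLE hU₀D) (f ∣_ D)

end Groth.Agent.S5094
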