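import Groth.Statements.S19198
import Mathlib
import Groth.Agent.S5094
import Groth.Agent.AffLim.Integral

set_option autoImplicit false
universe u
open CategoryTheory AlgebraicGeometry
open Models

namespace Groth.Agent.S19198

theorem domain_nzd {R A : Type u} [CommRing R] [IsDomain R] [CommRing A] (φ : R →+* A) (hφ : φ.Flat)
    {ϖ : R} (hϖ : ϖ ≠ 0) (a : A) (h : φ ϖ * a = 0) : a = 0 := by
  algebraize [φ]
  haveI : Module.IsTorsionFree R A := inferInstance
  have h2 : ϖ • a = ϖ • (0 : A) := by rw [smul_zero, Algebra.smul_def]; exact h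
  exact smul_right_injective A hϖ h2

theorem valuationRing_of_dim_one {R : Type u} [CommRing R] [IsDomain R] [IsLocalRing R] [IsNoetherianRing R]
    [IsIntegrallyClosed R] (hdim : ringKrullDim R = 1) : ValuationRing R := by
  have hiff : ValuationRing R ↔ (IsIntegrallyClosed R ∧ ∀ P : Ideal R, P ≠ ⊥ → P.IsPrime → P = IsLocalRing.maximalIdeal R) :=
    (tfae_of_isNoetherianRing_of_isLocalRing_of_isDomain (R := R)).out 1 3
  refine hiff.mpr ⟨inferInstance, fun P hP hP' => ?_⟩
  haveI : Ring.KrullDimLE 1 R := Ring.krullDimLE_iff.mpr (by simp [hdim])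
  exact IsLocalRing.eq_maximalIdeal (Ring.krullDimLE_one_iff_of_noZeroDivisors.mp ‹_› P hP hP')

/-- A scheme flat over a domain is integral if an open containing the generic fibre is. -/
theorem isIntegral_of_generic {R : Type u} [CommRing R] [IsDomain R] {Z : Scheme.{u}}
    (p : Z ⟶ Spec (CommRingCat.of R)) [Flat p] {ϖ : R} (hϖ : ϖ ≠ 0)
    [hI : IsIntegral ((p ⁻¹ᵁ (PrimeSpectrum.basicOpen ϖ : (Spec (CommRingCat.of R)).Opens)) : Scheme.{u})] :
    IsIntegral Z := by
  set B : (Spec (CommRingCat.of R)).Opens := PrimeSpectrum.basicOpen ϖ with hB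
  set D := p ⁻¹ᵁ B with hD
  have key : ∀ U : Z.Opens, IsAffineOpen U → (U : Set Z).Nonempty →
      IsDomain Γ(Z, U) ∧ ((U ⊓ D : Z.Opens) : Set Z).Nonempty := by
    intro U hU hne
    let φ : CommRingCat.of R ⟶ Γ(Z, U) := (Scheme.ΓSpecIso _).inv ≫ p.appLE ⊤ U (by simp)
    have hφ : φ.hom.Flat := by
      simp only [φ, CommRingCat.hom_comp]
      exact RingHom.Flat.comp (RingHom.Flat.of_bijective
        (ConcreteCategory.bijective_of_isIso (Scheme.ΓSpecIso (CommRingCat.of R)).inv))
        (p.flat_appLE (isAffineOpen_top _) hU (by simp))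
    have hbo : Z.basicOpen (φ ϖ) = U ⊓ D := by
      refine (Scheme.basicOpen_appLE p U ⊤ (by simp) ((Scheme.ΓSpecIso (CommRingCat.of R)).inv ϖ)).trans ?_
      rw [basicOpen_eq_of_affine]
    haveI : Nonempty U := hne.to_subtype
    haveI : Nontrivial Γ(Z, U) := inferInstance
    have hl : IsLocalization.Away (φ ϖ) Γ(Z, Z.basicOpen (φ ϖ)) := hU.isLocalization_basicOpen (φ ϖ)
    have hinj : Function.Injective (algebraMap Γ(Z, U) Γ(Z, Z.basicOpen (φ ϖ))) := by
      refine IsLocalization.injective (M := Submonoid.powers (φ ϖ)) _ ?_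
      rintro _ ⟨n, rfl⟩
      refine mem_nonZeroDivisors_iff_right.mpr fun a ha => ?_
      induction n generalizing a with
      | zero => simpa using ha
      | succ n ih =>
        refine ih a (domain_nzd φ.hom hφ hϖ _ ?_)
        simpa [pow_succ, mul_comm, mul_assoc, mul_left_comm] using ha
    haveI : Nontrivial Γ(Z, Z.basicOpen (φ ϖ)) := hinj.nontrivial
    have hne' : ((Z.basicOpen (φ ϖ) : Z.Opens) : Set Z).Nonempty := by
      by_contra h
      have h0 : Z.basicOpen (φ ϖ) = ⊥ := by
        ext1; exact Set.not_nonempty_iff_eq_empty.mp h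
      haveI : Subsingleton Γ(Z, Z.basicOpen (φ ϖ)) := by
        rw [h0]
        exact CommRingCat.subsingleton_of_isTerminal Z.sheaf.isTerminalOfEmpty
      exact false_of_nontrivial_of_subsingleton Γ(Z, Z.basicOpen (φ ϖ))
    refine ⟨?_, hbo ▸ hne'⟩
    haveI : IsDomain Γ(Z, Z.basicOpen (φ ϖ)) := by
      have hle : Z.basicOpen (φ ϖ) ≤ D := hbo ▸ inf_le_right
      have h1 : D.ι ''ᵁ (D.ι ⁻¹ᵁ Z.basicOpen (φ ϖ)) = Z.basicOpen (φ ϖ) := by
        rw [Scheme.Hom.image_preimage_eq_opensRange_inf, Scheme.Opens.opensRange_ι, inf_eq_right]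
        exact hle
      haveI : Nonempty (D.ι ⁻¹ᵁ Z.basicOpen (φ ϖ) : (D : Scheme.{u}).Opens) := by
        obtain ⟨z, hz⟩ := hne'
        exact ⟨⟨⟨z, hle hz⟩, hz⟩⟩
      have h2 := IsIntegral.component_integral (X := (D : Scheme.{u})) (D.ι ⁻¹ᵁ Z.basicOpen (φ ϖ))
      exact h1 ▸ (MulEquiv.isDomain Γ((D : Scheme.{u}), D.ι ⁻¹ᵁ Z.basicOpen (φ ϖ))
        ((D.ι.appIso _).commRingCatIsoToRingEquiv.toMulEquiv))
    exact hinj.isDomain _
  haveI : ∀ z : Z, _root_.IsReduced (Z.presheaf.stalk z) := fun z => by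
    obtain ⟨_, ⟨U, hU : IsAffineOpen U, rfl⟩, hzU, -⟩ :=
      Z.isBasis_affineOpens.exists_subset_of_mem_open (Set.mem_univ z) isOpen_univ
    haveI := (key U hU ⟨z, hzU⟩).1
    letI := TopCat.Presheaf.algebra_section_stalk Z.presheaf (⟨z, hzU⟩ : U)
    haveI := hU.isLocalization_stalk ⟨z, hzU⟩
    exact isReduced_localizationPreserves (hU.primeIdealOf ⟨z, hzU⟩).asIdeal.primeCompl (Z.presheaf.stalk z) inferInstance
  haveI : IsReduced Z := isReduced_of_isReduced_stalk Z
  haveI : Nonempty Z := ⟨(Classical.arbitrary (D : Scheme.{u})).1⟩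
  have hdense : Dense (D : Set Z) := dense_iff_inter_open.mpr fun O hO ⟨z, hz⟩ => by
    obtain ⟨_, ⟨U, hU : IsAffineOpen U, rfl⟩, hzU, hUO⟩ :=
      Z.isBasis_affineOpens.exists_subset_of_mem_open hz hO
    obtain ⟨w, hw1, hw2⟩ := (key U hU ⟨z, hzU⟩).2
    exact ⟨w, hUO hw1, hw2⟩
  haveI : IrreducibleSpace Z := by
    have h1 : IsIrreducible (D : Set Z) := by
      have h2 := (IrreducibleSpace.isIrreducible_univ (D : Scheme.{u})).image D.ι D.ι.continuous.continuousOn
      rwa [Set.image_univ, Scheme.Opens.range_ι] at h2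
    have h3 := h1.closure
    rw [hdense.closure_eq] at h3
    exact irreducibleSpace_def Z |>.mpr h3
  exact isIntegral_of_irreducibleSpace_of_isReduced Z

theorem core {R : Type u} [CommRing R] [IsDomain R] {C Z : Scheme.{u}} [IsIntegral C]
    (π : C ⟶ Spec (CommRingCat.of R)) [Flat π] (g : Z ⟶ C) [IsProper g] [Flat (g ≫ π)] {ϖ : R} (hϖ : ϖ ≠ 0)
    (hgen : IsIso (g ∣_ (π ⁻¹ᵁ (PrimeSpectrum.basicOpen ϖ : (Spec (CommRingCat.of R)).Opens))))
    (c : C) (hN : IsIntegrallyClosed (C.presheaf.stalk c)) (hV : ValuationRing (C.presheaf.stalk c)) :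
    ∃ V : C.Opens, c ∈ V ∧ IsIso (g ∣_ V) := by
  set B : (Spec (CommRingCat.of R)).Opens := PrimeSpectrum.basicOpen ϖ
  set D := π ⁻¹ᵁ B
  have hgenD : genericPoint C ∈ D := by
    let η : Spec (CommRingCat.of R) := ⟨⊥, Ideal.isPrime_bot⟩
    have hη : η ⤳ π (genericPoint C) := (PrimeSpectrum.le_iff_specializes _ _).mp bot_le
    obtain ⟨ξ, hξ, hπξ⟩ := (Flat.generalizingMap π) hη
    have he : ξ = genericPoint C := (hξ.antisymm (genericPoint_specializes ξ)).eq
    show π (genericPoint C) ∈ B
    rw [← he, hπξ]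
    show ϖ ∉ (⊥ : Ideal R)
    simpa using hϖ
  haveI : Nonempty D := ⟨⟨_, hgenD⟩⟩
  haveI : IsIso (g ∣_ D) := hgen
  haveI : IsIntegral ((g ≫ π) ⁻¹ᵁ B : Scheme.{u}) := by
    haveI : Nonempty ((g ⁻¹ᵁ D : Z.Opens) : Scheme.{u}) := ⟨(inv (g ∣_ D)) ⟨_, hgenD⟩⟩
    haveI hoi : IsOpenImmersion (g ∣_ D) := IsOpenImmersion.of_isIso _
    have hi := isIntegral_of_isOpenImmersion (g ∣_ D)
    exact hi
  haveI : IsIntegral Z := isIntegral_of_generic (g ≫ π) hϖ
  have hbij : Function.Bijective (g ∣_ D) := (g ∣_ D).homeomorph.bijective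
  obtain ⟨ξ, hξ⟩ := hbij.2 ⟨_, hgenD⟩
  have hξ' : g ξ.1 = genericPoint C := by
    rw [← morphismRestrict_base_coe g D ξ, hξ]
  have hgp : g (genericPoint Z) = genericPoint C := by
    have h1 : g (genericPoint Z) ⤳ g ξ.1 := (genericPoint_specializes ξ.1).map g.continuous
    rw [hξ'] at h1
    exact (h1.antisymm (genericPoint_specializes _)).eq
  have hgpD : genericPoint Z ∈ g ⁻¹ᵁ D := by
    show g (genericPoint Z) ∈ D
    rw [hgp]; exact hgenD
  haveI hbir : IsIso (g.stalkMap (genericPoint Z)) := by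
    rw [← MorphismProperty.isomorphisms.iff, ← (MorphismProperty.isomorphisms _).arrow_mk_iso_iff
      (morphismRestrictStalkMap g D ⟨_, hgpD⟩), MorphismProperty.isomorphisms.iff]
    haveI : IsOpenImmersion (g ∣_ D) := IsOpenImmersion.of_isIso _
    have h : ∀ w : (g ⁻¹ᵁ D : Z.Opens).toScheme, IsIso ((g ∣_ D).stalkMap w) := fun w => inferInstance
    exact h ⟨_, hgpD⟩
  have hbijz : ∀ z : Z, g z = c → IsIso (g.stalkMap z) := by
    intro z hz
    subst hz
    rw [ConcreteCategory.isIso_iff_bijective]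
    have hcomm : ∀ a : C.presheaf.stalk (g z), Z.presheaf.stalkSpecializes (genericPoint_specializes z) (g.stalkMap z a) =
        g.stalkMap (genericPoint Z) (C.presheaf.stalkSpecializes ((genericPoint_specializes z).map g.continuous) a) :=
      fun a => (g.stalkSpecializes_stalkMap_apply _ _ (genericPoint_specializes z) a).symm
    have hψ : Function.Injective (C.presheaf.stalkSpecializes ((genericPoint_specializes z).map g.continuous)) := by
      have h1 : Function.Injective (algebraMap (C.presheaf.stalk (g z)) C.functionField) :=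
        IsFractionRing.injective _ _
      have h2 : ∀ {p : C} (hp : p = genericPoint C) (hs : p ⤳ g z), Function.Injective (C.presheaf.stalkSpecializes hs) := by
        intro p hp hs; subst hp; exact h1
      exact h2 hgp _
    have hg : Function.Bijective (g.stalkMap (genericPoint Z)) := ConcreteCategory.bijective_of_isIso _
    have hinjZ : Function.Injective (Z.presheaf.stalkSpecializes (genericPoint_specializes z)) :=
      IsFractionRing.injective (Z.presheaf.stalk z) Z.functionField
    refine ⟨fun a b hab => hψ (hg.1 (by rw [← hcomm, ← hcomm, hab])), fun b => ?_⟩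
    obtain ⟨y, hy⟩ := hg.2 (Z.presheaf.stalkSpecializes (genericPoint_specializes z) b)
    have hfr : ∀ {p : C} (hp : p = genericPoint C) (hs : p ⤳ g z) (y : C.presheaf.stalk p),
        (∃ a, C.presheaf.stalkSpecializes hs a = y) ∨
          ∃ a, ¬ IsUnit a ∧ C.presheaf.stalkSpecializes hs a * y = 1 := by
      intro p hp hs y
      subst hp
      rcases ValuationRing.isInteger_or_isInteger (C.presheaf.stalk (g z)) (K := C.functionField) y with ⟨a, ha⟩ | ⟨a, ha⟩
      · exact Or.inl ⟨a, ha⟩
      · by_cases hy0 : y = 0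
        · exact Or.inl ⟨0, by rw [hy0, map_zero]⟩
        by_cases hu : IsUnit a
        · refine Or.inl ⟨hu.unit⁻¹.1, ?_⟩
          have h3 : algebraMap (C.presheaf.stalk (g z)) C.functionField a *
              algebraMap (C.presheaf.stalk (g z)) C.functionField hu.unit⁻¹.1 = 1 := by
            rw [← map_mul, IsUnit.mul_val_inv, map_one]
          rw [ha] at h3
          exact (eq_of_inv_mul_eq_one h3).symm
        · refine Or.inr ⟨a, hu, ?_⟩
          show algebraMap (C.presheaf.stalk (g z)) C.functionField a * y = 1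
          rw [ha]; exact inv_mul_cancel₀ hy0
    rcases hfr hgp ((genericPoint_specializes z).map g.continuous) y with ⟨a, ha⟩ | ⟨a, hau, ha⟩
    · exact ⟨a, hinjZ (by rw [hcomm, ha, hy])⟩
    · exfalso
      have h4 : g.stalkMap z a * b = 1 := hinjZ (by rw [map_mul, map_one, hcomm, ← hy, ← map_mul, ha, map_one])
      exact hau (isUnit_of_map_unit (g.stalkMap z).hom a (IsUnit.of_mul_eq_one _ h4))
  have hsurj : c ∈ Set.range g := by
    have h1 : closure ({genericPoint C} : Set C) ⊆ Set.range g :=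
      closure_minimal (Set.singleton_subset_iff.mpr ⟨_, hgp⟩) g.isClosedMap.isClosed_range
    exact h1 ((genericPoint_specializes c).mem_closure)
  obtain ⟨z, hz⟩ := hsurj
  have huniq : ∀ z' : Z, g z' = c → z' = z := by
    intro z' hz'
    haveI := hbijz z hz
    haveI := hbijz z' hz'
    haveI : IsDomain (C.presheaf.stalk c) := inferInstance
    let m : ∀ w : Z, g w = c → IsIso (g.stalkMap w) → (Spec (C.presheaf.stalk c) ⟶ Z) := fun w hw _ =>
      Spec.map (inv (g.stalkMap w) ≫ C.presheaf.stalkSpecializes (Inseparable.of_eq hw).symm.specializes) ≫ Z.fromSpecStalk w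
    have hm : ∀ w hw hi, m w hw hi ≫ g = C.fromSpecStalk c := by
      intro w hw hi
      subst hw
      simp only [m, Category.assoc, ← Scheme.SpecMap_stalkMap_fromSpecStalk, ← Spec.map_comp_assoc]
      simp
    let j : Spec C.functionField ⟶ Spec (C.presheaf.stalk c) :=
      Spec.map (C.presheaf.stalkSpecializes (genericPoint_specializes c))
    haveI : IsDominant j := by
      refine ⟨PrimeSpectrum.denseRange_comap_iff_ker_le_nilRadical _ |>.mpr ?_⟩
      exact ((RingHom.injective_iff_ker_eq_bot _).mp (IsFractionRing.injective (C.presheaf.stalk c) C.functionField)).le.trans bot_le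
    have hj : ∀ w hw hi, j ≫ m w hw hi =
        Spec.map (inv (g.stalkMap (genericPoint Z)) ≫ C.presheaf.stalkSpecializes (Inseparable.of_eq hgp).symm.specializes) ≫
          Z.fromSpecStalk (genericPoint Z) := by
      intro w hw hi
      haveI := hi
      rw [← Scheme.SpecMap_stalkSpecializes_fromSpecStalk (genericPoint_specializes w)]
      simp only [m, j, ← Category.assoc, ← Spec.map_comp]
      congr 2
      rw [← cancel_epi (g.stalkMap w)]
      simp only [Category.assoc, IsIso.hom_inv_id_assoc]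
      rw [← Scheme.Hom.stalkSpecializes_stalkMap_assoc, IsIso.hom_inv_id_assoc,
        TopCat.Presheaf.stalkSpecializes_comp, TopCat.Presheaf.stalkSpecializes_comp]
    have he : m z' hz' inferInstance = m z hz inferInstance :=
      ext_of_isDominant_of_isSeparated g ((hm z' hz' _).trans (hm z hz _).symm) j ((hj z' hz' _).trans (hj z hz _).symm)
    have hcl : ∀ w hw hi, m w hw hi (IsLocalRing.closedPoint _) = w := by
      intro w hw hi
      subst hw
      haveI := hi
      simp only [m, Scheme.Hom.comp_apply, TopCat.Presheaf.stalkSpecializes_refl, Category.comp_id]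
      haveI : IsLocalHom (inv (g.stalkMap w)).hom := isLocalHom_of_isIso _
      exact (congrArg (Z.fromSpecStalk w) (IsLocalRing.comap_closedPoint (inv (g.stalkMap w)).hom)).trans Scheme.fromSpecStalk_closedPoint
    rw [← hcl z' hz' inferInstance, he, hcl z hz inferInstance]
  haveI : Subsingleton (g.fiber c) := by
    exact ⟨fun a b => (g.fiberHomeo c).injective (Subtype.ext
      ((huniq _ (g.fiberHomeo c a).2).trans (huniq _ (g.fiberHomeo c b).2).symm))⟩
  exact S5094.result g hgp hbir c hN ((g.fiberHomeo c).symm ⟨z, hz⟩) (isOpen_discrete _)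

/-- Form over the valuation ring: let R be a discrete valuation ring with a uniformizer ϖ, let C → Spec
R be flat and locally of finite type, f : X → C proper, and Z → X a closed immersion with Z flat
over R such that the composite Z → C restricts to an isomorphism over the generic fibre, the
preimage of the open set D(ϖ) of Spec R. Then for every point c of C whose local ring is an
integrally closed domain of Krull dimension one (a codimension-one point at which C is normal, for
instance a generic point of the closed fibre lying in the smooth locus), there is an open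
neighbourhood V of c over which Z → C is an isomorphism. (The published statement, that the closed
fibre of such a Z maps isomorphically onto the closed fibre of C over every generic point of its
smooth locus, also after a finite extension of R, follows by restriction to the closed fibre and
flat descent.) -/
theorem result (R : Type u) [CommRing R] [IsDomain R]
    [IsDiscreteValuationRing R] {C X Z : Scheme.{u}} (πC : C ⟶ Spec (CommRingCat.of R)) [Flat πC]
    [LocallyOfFiniteType πC] (f : X ⟶ C) [IsProper f] (i : Z ⟶ X) [IsClosedImmersion i]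
    [Flat ((i ≫ f) ≫ πC)] (ϖ : R) (hϖ : Irreducible ϖ)
    (hgen : IsIso ((i ≫ f) ∣_ (πC ⁻¹ᵁ (PrimeSpectrum.basicOpen ϖ))))
    (c : C) (hdom : IsDomain (C.presheaf.stalk c)) (hnorm : IsIntegrallyClosed (C.presheaf.stalk c))
    (hdim : ringKrullDim (C.presheaf.stalk c) = 1) :
    ∃ V : C.Opens, c ∈ V ∧ IsIso ((i ≫ f) ∣_ V) := by
  haveI : IsLocallyNoetherian C := LocallyOfFiniteType.isLocallyNoetherian πC
  haveI := hdom
  obtain ⟨W, hcW, hWi⟩ := Groth.Agent.AffLim.exists_isIntegral_nhd c
  haveI := hWi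
  haveI : IsProper (i ≫ f) := inferInstance
  haveI : Flat ((i ≫ f) ∣_ W ≫ W.ι ≫ πC) := by
    rw [morphismRestrict_ι_assoc]; infer_instance
  set D := πC ⁻¹ᵁ PrimeSpectrum.basicOpen ϖ
  have hgen' : IsIso ((i ≫ f) ∣_ W ∣_ (W.ι ⁻¹ᵁ D)) := by
    haveI := hgen
    have h1 : IsIso ((i ≫ f) ∣_ D ∣_ (D.ι ⁻¹ᵁ W)) := inferInstance
    rw [← MorphismProperty.isomorphisms.iff, (MorphismProperty.isomorphisms _).arrow_mk_iso_iff
      (morphismRestrictRestrict (i ≫ f) D (D.ι ⁻¹ᵁ W))] at h1
    rw [← MorphismProperty.isomorphisms.iff, (MorphismProperty.isomorphisms _).arrow_mk_iso_iff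
      (morphismRestrictRestrict (i ≫ f) W (W.ι ⁻¹ᵁ D))]
    rw [Scheme.Hom.image_preimage_eq_opensRange_inf, Scheme.Opens.opensRange_ι] at h1 ⊢
    rwa [inf_comm]
  let e := (W.stalkIso ⟨c, hcW⟩).commRingCatIsoToRingEquiv
  haveI : IsDomain (W.toScheme.presheaf.stalk ⟨c, hcW⟩) := e.toMulEquiv.isDomain
  have hN : IsIntegrallyClosed (W.toScheme.presheaf.stalk ⟨c, hcW⟩) := by
    haveI := hnorm
    exact IsIntegrallyClosed.of_equiv e.symm
  haveI := hN
  haveI : IsNoetherianRing (C.presheaf.stalk c) := inferInstance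
  haveI : IsNoetherianRing (W.toScheme.presheaf.stalk ⟨c, hcW⟩) := isNoetherianRing_of_ringEquiv _ e.symm
  haveI : IsLocalRing (W.toScheme.presheaf.stalk ⟨c, hcW⟩) := W.toScheme.toLocallyRingedSpace.isLocalRing _
  have hV := valuationRing_of_dim_one (R := W.toScheme.presheaf.stalk ⟨c, hcW⟩) (by
    rw [ringKrullDim_eq_of_ringEquiv e]; exact hdim)
  obtain ⟨U, hcU, hU⟩ := core (W.ι ≫ πC) ((i ≫ f) ∣_ W) hϖ.ne_zero hgen' ⟨c, hcW⟩ hN hV
  refine ⟨W.ι ''ᵁ U, ⟨⟨c, hcW⟩, hcU, rfl⟩, ?_⟩
  rw [← MorphismProperty.isomorphisms.iff, ← (MorphismProperty.isomorphisms _).arrow_mk_iso_iff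
    (morphismRestrictRestrict (i ≫ f) W U)]
  exact hU

end Groth.Agent.S19198
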