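import Groth.Statements.S19202
import Mathlib
import Groth.Agent.SchDenseLib.Basic

set_option autoImplicit false
set_option backward.isDefEq.respectTransparency false
universe u
open CategoryTheory AlgebraicGeometry
open FlatMor

namespace Groth.Agent.S19202

open AlgebraicGeometry CategoryTheory Limits

theorem flat_of_dominant (R : Type u) [CommRing R] [IsDedekindDomain R] (B : CommRingCat.{u})
    (φ : CommRingCat.of R ⟶ B)
    (h : IsSchemeTheoreticallyDominant (pullback.snd
      (Spec.map (CommRingCat.ofHom (algebraMap R (FractionRing R)))) (Spec.map φ))) :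
    AlgebraicGeometry.Flat (Spec.map φ) := by
  let g := Spec.map (CommRingCat.ofHom (algebraMap R (FractionRing R)))
  let b := pullback.snd g (Spec.map φ)
  rw [HasRingHomProperty.Spec_iff (P := @AlgebraicGeometry.Flat)]
  letI : Algebra R B := φ.hom.toAlgebra
  refine (show Module.Flat R B from IsDedekindDomain.flat_iff_torsion_eq_bot.2
    (Submodule.eq_bot_iff _ |>.2 fun x hx => ?_))
  obtain ⟨⟨r, hr⟩, hrx⟩ := (Submodule.mem_torsion_iff x).1 hx
  have hr0 : r ≠ 0 := nonZeroDivisors.ne_zero hr
  let e := Scheme.ΓSpecIso B
  have hinj := b.app_injective ⊤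
  refine e.symm.commRingCatIsoToRingEquiv.injective (hinj ?_)
  show b.appTop (e.inv x) = b.appTop (e.inv 0)
  rw [map_zero, map_zero]
  have h1 : φ r * x = 0 := hrx
  have h2 : b.appTop (e.inv (φ r)) = (pullback.fst g (Spec.map φ)).appTop
      (g.appTop ((Scheme.ΓSpecIso (CommRingCat.of R)).inv r)) := by
    have hc : (pullback.fst g (Spec.map φ) ≫ g).appTop = (b ≫ Spec.map φ).appTop := by
      rw [pullback.condition]
    simp only [Scheme.Hom.comp_appTop] at hc
    refine ((congrArg (fun z => z ((Scheme.ΓSpecIso (CommRingCat.of R)).inv r)) hc).trans ?_).symm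
    show b.appTop ((Spec.map φ).appTop ((Scheme.ΓSpecIso (CommRingCat.of R)).inv r)) = _
    exact congrArg b.appTop (congrArg (fun z => z r) (Scheme.ΓSpecIso_inv_naturality φ).symm)
  have hu : IsUnit (b.appTop (e.inv (φ r))) := by
    rw [h2]
    refine IsUnit.map _ ?_
    have h3 : g.appTop ((Scheme.ΓSpecIso (CommRingCat.of R)).inv r) =
        (Scheme.ΓSpecIso (CommRingCat.of (FractionRing R))).inv (algebraMap R (FractionRing R) r) :=
      (congrArg (fun z => z r)
        (Scheme.ΓSpecIso_inv_naturality (CommRingCat.ofHom (algebraMap R (FractionRing R))))).symm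
    rw [h3]
    refine IsUnit.map _ (isUnit_iff_ne_zero.2 ?_)
    simpa using hr0
  refine hu.mul_right_eq_zero.1 ?_
  rw [← map_mul, ← map_mul, h1, map_zero, map_zero]

/-- Let R be a Dedekind domain, X and Y schemes over Spec R with X flat over Spec R, and f : X → Y a
morphism over Spec R. Then the scheme-theoretic image of f, i.e. the closed subscheme of Y cut out
by the kernel ideal sheaf of f, is flat over Spec R. (The published statement takes the base to be a
non-singular curve and f proper; this row takes the spectrum of any Dedekind domain and any morphism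
f over it.) -/
theorem result (R : Type u) [CommRing R] [IsDedekindDomain R]
    {X Y : Scheme.{u}} (p : X ⟶ Spec (CommRingCat.of R)) (q : Y ⟶ Spec (CommRingCat.of R))
    (f : X ⟶ Y) (w : f ≫ q = p) [Flat p] : Flat (f.imageι ≫ q) := by
  let g := Spec.map (CommRingCat.ofHom (algebraMap R (FractionRing R)))
  haveI : IsSchemeTheoreticallyDominant g := by
    haveI : IsDominant g := ⟨PrimeSpectrum.denseRange_comap_iff_ker_le_nilRadical _ |>.2 (by
      rw [CommRingCat.hom_ofHom, (RingHom.injective_iff_ker_eq_bot _).1 (IsFractionRing.injective R (FractionRing R))]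
      exact bot_le)⟩
    exact IsSchemeTheoreticallyDominant.of_isDominant g
  haveI : QuasiCompact g := inferInstance
  let q' := f.imageι ≫ q
  haveI hd : IsSchemeTheoreticallyDominant (pullback.snd g q') := by
    haveI := SchDenseLib.toImage_dominant f
    haveI : IsSchemeTheoreticallyDominant (pullback.snd g p ≫ f.toImage) := inferInstance
    refine ⟨le_bot_iff.1 ?_⟩
    rw [← (pullback.snd g p ≫ f.toImage).ker_eq_bot]
    have hfac : pullback.lift (pullback.fst g p) (pullback.snd g p ≫ f.toImage) (by
        rw [pullback.condition, Category.assoc, ← w]; simp [q']) ≫ pullback.snd g q' =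
        pullback.snd g p ≫ f.toImage := pullback.lift_snd _ _ _
    rw [← hfac, Scheme.Hom.ker_comp, ← Scheme.IdealSheafData.map_bot]
    exact Scheme.IdealSheafData.map_mono _ bot_le
  refine IsZariskiLocalAtSource.of_openCover (P := @AlgebraicGeometry.Flat) f.image.affineCover fun i => ?_
  obtain ⟨φ, hφ⟩ := Spec.map_surjective (f.image.affineCover.f i ≫ q')
  show AlgebraicGeometry.Flat (f.image.affineCover.f i ≫ q')
  rw [← hφ]
  refine flat_of_dominant R _ φ ?_
  rw [hφ]
  let ui := f.image.affineCover.f i
  let k : pullback g (ui ≫ q') ⟶ pullback g q' :=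
    pullback.lift (pullback.fst _ _) (pullback.snd _ _ ≫ ui) (by rw [pullback.condition, Category.assoc])
  have sq : IsPullback k (pullback.snd g (ui ≫ q')) (pullback.snd g q') ui :=
    IsPullback.of_right (by rw [pullback.lift_fst]; exact IsPullback.of_hasPullback g (ui ≫ q'))
      (pullback.lift_snd _ _ _) (IsPullback.of_hasPullback g q')
  exact IsSchemeTheoreticallyDominant.of_isPullback sq

end Groth.Agent.S19202
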