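import Groth.Statements.S19203
import Groth.Agent.VolLib.BaseLoc

set_option autoImplicit false
universe u
open CategoryTheory AlgebraicGeometry
open Coh

namespace Groth.Agent.S19203

open CategoryTheory CategoryTheory.Limits AlgebraicGeometry

set_option backward.isDefEq.respectTransparency false
set_option linter.style.haveILetI false
open Groth.Agent.HiGrowth Groth.Agent.AmpleLib

/-- Let X be a scheme proper over a field k with dim X = r, and L an invertible O_X-module generated by
its global sections. Then for each i ≥ 1 the dimensions dim_k H^i(X, L^{⊗n}) are O(n^{r-1}): there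
is a real constant C with dim_k H^i(X, L^{⊗n}) ≤ C·n^{r-1} for every n ≥ 1. (For r = 0 the exponent
r − 1 is read as 0; k is any field.) -/
theorem result (k : Type u) [Field k] (X : Scheme.{u})
    [X.Over (Spec (CommRingCat.of k))] [IsProper (X ↘ (Spec (CommRingCat.of k)))]
    (r : ℕ) (hdim : topologicalKrullDim X = r)
    (L : X.Modules) (hL : PicF.IsInvertible L) (hgen : Curv2.IsGloballyGenerated L)
    (i : ℕ) (hi : 1 ≤ i) :
    ∃ C : ℝ, ∀ n : ℕ, 1 ≤ n →
      (Module.finrank k (Coh.HH X (CohB1.tensorPow L n) i) : ℝ) ≤ C * (n : ℝ) ^ (r - 1) := by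
  haveI := EulerIneqLib.isNoetherian_proper (X := X) k
  have hempty : W4c5asymptcohfn.stableBaseLocus X L = ∅ := by
    refine Set.eq_empty_iff_forall_notMem.2 fun x hx => ?_
    have h0 := Set.mem_iInter.1 hx 0
    obtain ⟨ι, p, hp⟩ := hgen
    haveI := hp
    obtain ⟨t, ht⟩ := exists_genLocus_of_isGloballyGenerated (isInvertible_tensorPow hL 1)
      ⟨ι, p ≫ (powOne L).inv, inferInstance⟩ x
    exact h0 t ht
  obtain ⟨C, hC⟩ := bound_above k hL (d := 0) (by
    rw [hempty]
    haveI : IsEmpty (TopologicalSpace.IrreducibleCloseds (∅ : Set X)) :=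
      ⟨fun W => W.isIrreducible.1.elim fun x _ => x.2.elim⟩
    exact (Order.krullDim_eq_bot (α := TopologicalSpace.IrreducibleCloseds (∅ : Set X))).le.trans bot_le)
    r (Coh.structureModule X) (CurveLib.isCoh_of_isInvertible ParaFLib.isInvertible_structureModule)
    (lt_of_le_of_lt Topology.IsInducing.subtypeVal.topologicalKrullDim_le
      (by rw [hdim]; exact_mod_cast Nat.lt_succ_self r)) i hi
  refine ⟨(C : ℝ) * 2 ^ (r - 1), fun n hn => ?_⟩
  rw [← hh_congr k (unitL (CohB1.tensorPow L n)) i]
  refine le_trans (Nat.cast_le.2 (hC n)) ?_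
  have hn1 : (1 : ℝ) ≤ n := by exact_mod_cast hn
  rw [mul_assoc, Nat.cast_mul, ← mul_pow]
  refine mul_le_mul_of_nonneg_left ?_ (Nat.cast_nonneg _)
  cases r with
  | zero => simp [B]
  | succ r =>
    show (((n + 1) ^ r : ℕ) : ℝ) ≤ _
    push_cast
    exact pow_le_pow_left₀ (by positivity) (by linarith) r


end Groth.Agent.S19203
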