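import Groth.Statements.S19204
import Groth.Agent.CurveFF.Sections

set_option autoImplicit false
universe u
open CategoryTheory AlgebraicGeometry
open Curves

namespace Groth.Agent.S19204

/-- Let C be a smooth projective curve of genus g ≥ 1 over an algebraically closed field k (an integral
scheme, proper over k, of dimension one, all local rings regular) and d an integer with d > 2g. For
every invertible O_C-module M of degree d' ≤ d having at least m + 1 linearly independent global
sections with m ≥ 1, and with d' < d or m < d − g, one has d·m < d'·(d − g). Linear stability of C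
mapped to P^{d−g} by all sections of a line bundle of degree d, which is what the published
statement asserts, follows from this inequality: a projection of that image to P^m has image cycle
of degree d' = deg M for such an M, so its reduced degree d'/m exceeds d/(d − g); linear stability
itself (reduced degrees of projections of an embedded variety) is not formalized here. -/
theorem result (k : Type u) [Field k] [IsAlgClosed k] (X : Scheme.{u})
    [X.Over (Spec (CommRingCat.of k))] [IsIntegral X] [IsProper (X ↘ (Spec (CommRingCat.of k)))]
    (hdim : topologicalKrullDim X = 1) (hreg : ∀ x : X, IsRegularLocalRing (X.presheaf.stalk x))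
    (hg : 1 ≤ Curv2.genus k X) (d : ℤ) (hd : 2 * (Curv2.genus k X : ℤ) < d)
    (M : X.Modules) (hM : PicF.IsInvertible M) (m : ℕ) (hm : 1 ≤ m)
    (hsec : m + 1 ≤ Module.finrank k (Coh.HH X M 0)) (hdeg : Curv2.deg k X M 1 ≤ d)
    (hlt : Curv2.deg k X M 1 < d ∨ (m : ℤ) < d - Curv2.genus k X) :
    d * (m : ℤ) < Curv2.deg k X M 1 * (d - Curv2.genus k X) := by
  haveI := Groth.Agent.CurveFF.isRegCurve_of_regular hdim.le hreg
  have hM0 := Groth.Agent.CurveFF.deg_nonneg_of_section (k := k) hdim hM
    (Module.nontrivial_of_finrank_pos (R := k) (by omega))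
  set g : ℤ := (Curv2.genus k X : ℤ) with hgdef
  set e := Curv2.deg k X M 1 with hedef
  have hg0 : 0 ≤ g := Int.natCast_nonneg _
  have hm' : (1 : ℤ) ≤ m := by exact_mod_cast hm
  have hg1 : (1 : ℤ) ≤ g := by rw [hgdef]; exact_mod_cast hg
  rcases le_or_gt e (2 * g) with he | he
  · have hcl := Groth.Agent.CurveFF.clifford (k := k) hdim hM hM0 he
    have h1 : 2 * (m : ℤ) ≤ e := by omega
    have h3 : (0 : ℤ) < d - g := by omega
    nlinarith
  · have hz := Groth.Agent.CurveFF.subsingleton_H1 (k := k) hdim (Groth.Agent.CurveFF.h0_eq_one k hdim) hM (by omega)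
    have hh := Groth.Agent.CurveLib.euler_eq_sub (k := k) (M := M) hdim.le
    have hO := Groth.Agent.CurveLib.euler_eq_sub (k := k) (M := Coh.structureModule X) hdim.le
    rw [Groth.Agent.CurveFF.h0_eq_one k hdim,
      show Module.finrank k (Coh.HH X (Coh.structureModule X) 1) = Curv2.genus k X from rfl] at hO
    rw [show Module.finrank k (Coh.HH X M 1) = 0 from (haveI := hz; Module.finrank_zero_of_subsingleton)] at hh
    have hd' := hedef
    unfold Curv2.deg at hd'
    have h1 : (m : ℤ) ≤ e - g := by omega
    rcases hlt with hlt | hlt
    · nlinarith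
    · rcases lt_or_eq_of_le hdeg with h2 | h2
      · nlinarith
      · rw [h2] at h1 ⊢; nlinarith

end Groth.Agent.S19204
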