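import Groth.Statements.S19206
import Groth.Agent.LechLib.Field
import Groth.Agent.LechLib.InForm

set_option autoImplicit false
universe u
open Filter
open LocAlg

namespace Groth.Agent.S19206

/-- Let O be a Noetherian local ring of Krull dimension r which contains a field, with maximal ideal m,
and let I be an m-primary ideal (I ⊆ m and m^N ⊆ I for some N). Write e(I) for the Samuel
multiplicity of I, the limit of r!·length(O/I^n)/n^r, and e(O) for that of m. Then e(I) ≤
r!·e(O)·length(O/I); consequently the supremum of e(I)/(r!·length(O/I)) over such I is at most e(O).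
(Stated for real numbers e(I), e(O) equal to those limits; the hypothesis that O contains a field is
the standing equicharacteristic convention of the section and is not needed for the inequality.) -/
theorem result (O : Type u) [CommRing O] [IsNoetherianRing O] [IsLocalRing O]
    (K : Type u) [Field K] [Algebra K O] (r : ℕ) (hr : ringKrullDim O = r)
    (I : Ideal O) (hI : I ≤ IsLocalRing.maximalIdeal O) (hIN : ∃ N : ℕ, IsLocalRing.maximalIdeal O ^ N ≤ I)
    (eI eO : ℝ)
    (heI : Tendsto (fun n : ℕ => (r.factorial : ℝ) * ((Module.length O (O ⧸ I ^ n)).toNat : ℝ) / (n : ℝ) ^ r)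
      atTop (nhds eI))
    (heO : Tendsto (fun n : ℕ => (r.factorial : ℝ) *
        ((Module.length O (O ⧸ IsLocalRing.maximalIdeal O ^ n)).toNat : ℝ) / (n : ℝ) ^ r) atTop (nhds eO)) :
    eI ≤ (r.factorial : ℝ) * eO * ((Module.length O (O ⧸ I)).toNat : ℝ) := by
  classical
  obtain ⟨N, hN⟩ := hIN
  obtain ⟨m, x, hx⟩ := Submodule.fg_iff_exists_fin_generating_family.1
    (IsNoetherian.noetherian (IsLocalRing.maximalIdeal O))
  have hx' : Ideal.span (Set.range x) = IsLocalRing.maximalIdeal O := hx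
  obtain ⟨s, e, c, C, he, hlow, hup⟩ := LechLib.graded_bound' (LechLib.inForm x ⊥) (LechLib.inForm x I)
    (LechLib.homogeneous_inForm x hx' ⊥) (LechLib.inForm_ne_top x hx') (LechLib.inForm_mono x hx' bot_le)
    (LechLib.pow_le_inForm x hx' hN)
  set ℓ := (Module.length O (O ⧸ I)).toNat with hℓ
  have hlen : ∀ (L : Ideal O) (n : ℕ), IsLocalRing.maximalIdeal O ^ n ≤ L →
      (Module.length O (O ⧸ L)).toNat = Module.finrank (IsLocalRing.ResidueField O)
        (MvPolynomial (Fin m) (IsLocalRing.ResidueField O) ⧸ LechLib.inForm x L) := by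
    intro L n hn
    have h := LechLib.length_eq_finrank_inForm x hx' L n
    rw [sup_eq_left.2 hn, sup_eq_left.2 (LechLib.pow_le_inForm x hx' hn)] at h
    rw [h, ENat.toNat_natCast]
  have hbot : ∀ n, (Module.length O (O ⧸ IsLocalRing.maximalIdeal O ^ n)).toNat =
      Module.finrank (IsLocalRing.ResidueField O) (MvPolynomial (Fin m) (IsLocalRing.ResidueField O) ⧸
        (LechLib.inForm x ⊥ ⊔ MvPolynomial.idealOfVars (Fin m) (IsLocalRing.ResidueField O) ^ n)) := by
    intro n
    have h := LechLib.length_eq_finrank_inForm x hx' ⊥ n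
    rw [bot_sup_eq] at h
    rw [h, ENat.toNat_natCast]
  have hb : ∀ n : ℕ, 0 < n → ((Module.length O (O ⧸ I ^ n)).toNat : ℝ) * n ≤ e * (n : ℝ) ^ s * ℓ * n + C * (n : ℝ) ^ s := by
    intro n hn
    have hNn : IsLocalRing.maximalIdeal O ^ (N * n) ≤ I ^ n := (pow_mul _ N n).le.trans (Ideal.pow_right_mono hN n)
    have h1 : (Module.length O (O ⧸ I ^ n)).toNat * n ≤ e * (n ^ s * ℓ) * n + C * n ^ s := by
      refine le_trans (Nat.mul_le_mul_right n ?_) (by rw [hℓ, hlen I N hN]; exact hup n hn)
      haveI := LechLib.finite_quot_pow_idealOfVars (N * n)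
        (LechLib.inForm x ⊥ ⊔ LechLib.inForm x I ^ n)
        (((pow_mul _ N n).le.trans (Ideal.pow_right_mono (LechLib.pow_le_inForm x hx' hN) n)).trans le_sup_right)
      rw [hlen _ _ hNn]
      have hle : LechLib.inForm x ⊥ ⊔ LechLib.inForm x I ^ n ≤ LechLib.inForm x (I ^ n) :=
        sup_le (LechLib.inForm_mono x hx' bot_le) (LechLib.inForm_pow_le x hx' I hn)
      exact LinearMap.finrank_le_finrank_of_surjective
        (f := (Ideal.Quotient.factorₐ (IsLocalRing.ResidueField O) hle).toLinearMap) (Ideal.Quotient.factor_surjective hle)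
    calc ((Module.length O (O ⧸ I ^ n)).toNat : ℝ) * n ≤ ((e * (n ^ s * ℓ) * n + C * n ^ s : ℕ) : ℝ) := by exact_mod_cast h1
      _ = _ := by push_cast; ring
  set a : ℕ → ℝ := fun n => ((Module.length O (O ⧸ IsLocalRing.maximalIdeal O ^ n)).toNat : ℝ) with ha
  have hlo : ∀ n : ℕ, c < n → (e : ℝ) * ((n : ℝ) - c) ^ s ≤ s.factorial * a n := by
    intro n hn
    have h1 := hlow n hn
    rw [← hbot] at h1
    have h2 : ((e * (n - c) ^ s : ℕ) : ℝ) ≤ ((s.factorial * (Module.length O (O ⧸ IsLocalRing.maximalIdeal O ^ n)).toNat : ℕ) : ℝ) :=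
      Nat.cast_le.2 h1
    push_cast [Nat.cast_sub hn.le] at h2
    exact h2
  have hfr : (0 : ℝ) < r.factorial := by exact_mod_cast r.factorial_pos
  have hfs : (0 : ℝ) < s.factorial := by exact_mod_cast s.factorial_pos
  have he1 : (1 : ℝ) ≤ e := by exact_mod_cast he
  have hinv : Tendsto (fun n : ℕ => (1 : ℝ) / n) atTop (nhds 0) := tendsto_const_div_atTop_nhds_zero_nat 1
  rcases lt_trichotomy s r with hsr | rfl | hsr
  · have h0 : eI ≤ 0 := by
      have hbound : Tendsto (fun n : ℕ => (r.factorial : ℝ) * (e * ℓ + C) * (1 / n)) atTop (nhds 0) := by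
        simpa using hinv.const_mul ((r.factorial : ℝ) * (e * ℓ + C))
      refine le_of_tendsto_of_tendsto heI hbound (eventually_atTop.2 ⟨1, fun n hn => ?_⟩)
      have hn0 : (1 : ℝ) ≤ n := by exact_mod_cast hn
      have hr1 : (n : ℝ) ^ s * n ≤ (n : ℝ) ^ r := by rw [← pow_succ]; exact pow_le_pow_right₀ hn0 hsr
      have h1 := hb n (by omega)
      have h2 : ((Module.length O (O ⧸ I ^ n)).toNat : ℝ) * n ≤ (e * ℓ + C) * (n : ℝ) ^ r := by
        refine h1.trans ?_
        have hC : (C : ℝ) * (n : ℝ) ^ s ≤ C * (n : ℝ) ^ r :=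
          mul_le_mul_of_nonneg_left ((le_mul_of_one_le_right (by positivity) hn0).trans hr1) (by positivity)
        have hE : (e : ℝ) * ℓ * ((n : ℝ) ^ s * n) ≤ e * ℓ * (n : ℝ) ^ r :=
          mul_le_mul_of_nonneg_left hr1 (by positivity)
        nlinarith [hC, hE]
      show (r.factorial : ℝ) * _ / (n : ℝ) ^ r ≤ (r.factorial : ℝ) * (e * ℓ + C) * (1 / n)
      rw [mul_one_div, div_le_div_iff₀ (by positivity) (by positivity), mul_assoc, mul_assoc]
      exact mul_le_mul_of_nonneg_left h2 hfr.le
    refine h0.trans ?_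
    have : 0 ≤ eO := ge_of_tendsto heO (Eventually.of_forall fun n => by positivity)
    positivity
  · have h1 : (e : ℝ) ≤ eO := by
      have ht : Tendsto (fun n : ℕ => (e : ℝ) * (1 - c * (1 / n)) ^ s) atTop (nhds e) := by
        simpa using ((((hinv.const_mul (c : ℝ)).const_sub 1).pow s).const_mul (e : ℝ))
      refine le_of_tendsto_of_tendsto ht heO (eventually_atTop.2 ⟨c + 1, fun n hn => ?_⟩)
      have hn0 : (0 : ℝ) < n := by exact_mod_cast (show 0 < n by omega)
      show (e : ℝ) * (1 - c * (1 / n)) ^ s ≤ (s.factorial : ℝ) * a n / (n : ℝ) ^ s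
      rw [le_div_iff₀ (pow_pos hn0 _), mul_assoc, ← mul_pow, sub_mul, one_mul, mul_assoc, one_div_mul_cancel hn0.ne', mul_one]
      exact hlo n (by omega)
    have h2 : eI ≤ s.factorial * (e * ℓ) := by
      have ht : Tendsto (fun n : ℕ => (s.factorial : ℝ) * (e * ℓ + C * (1 / n))) atTop (nhds (s.factorial * (e * ℓ))) := by
        simpa using (((hinv.const_mul (C : ℝ)).const_add ((e : ℝ) * ℓ)).const_mul (s.factorial : ℝ))
      refine le_of_tendsto_of_tendsto heI ht (eventually_atTop.2 ⟨1, fun n hn => ?_⟩)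
      have hn0 : (0 : ℝ) < n := by exact_mod_cast hn
      have h1 := hb n (by omega)
      show (s.factorial : ℝ) * _ / (n : ℝ) ^ s ≤ (s.factorial : ℝ) * (e * ℓ + C * (1 / n))
      rw [div_le_iff₀ (pow_pos hn0 _), mul_assoc]
      refine mul_le_mul_of_nonneg_left ?_ hfs.le
      refine le_of_mul_le_mul_right (h1.trans (le_of_eq ?_)) hn0
      field_simp
      try ring
    refine h2.trans ?_
    rw [mul_assoc]
    exact mul_le_mul_of_nonneg_left (mul_le_mul_of_nonneg_right h1 (by positivity)) hfs.le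
  · exfalso
    refine not_tendsto_nhds_of_tendsto_atTop (tendsto_atTop_mono' atTop ?_
      ((tendsto_natCast_atTop_atTop (R := ℝ)).const_mul_atTop
        (show (0 : ℝ) < r.factorial / (s.factorial * 2 ^ s) by positivity))) eO heO
    refine eventually_atTop.2 ⟨2 * c + 1, fun n hn => ?_⟩
    have hn0 : (1 : ℝ) ≤ n := by exact_mod_cast (show 1 ≤ n by omega)
    have hc : (n : ℝ) ≤ 2 * ((n : ℝ) - c) := by
      have : (2 * c : ℝ) ≤ n := by exact_mod_cast (show 2 * c ≤ n by omega)
      linarith
    have h1 : (n : ℝ) ^ r * n ≤ 2 ^ s * (s.factorial * a n) := by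
      rw [← pow_succ]
      refine (pow_le_pow_right₀ hn0 hsr).trans ((pow_le_pow_left₀ (by linarith) hc s).trans ?_)
      rw [mul_pow]
      refine mul_le_mul_of_nonneg_left ?_ (by positivity)
      exact (le_mul_of_one_le_left (pow_nonneg (by linarith) _) he1).trans (hlo n (by omega))
    show (r.factorial : ℝ) / (s.factorial * 2 ^ s) * n ≤ r.factorial * a n / (n : ℝ) ^ r
    rw [div_mul_eq_mul_div, div_le_div_iff₀ (by positivity) (by positivity)]
    nlinarith [mul_le_mul_of_nonneg_left h1 hfr.le]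

end Groth.Agent.S19206
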