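import Groth.Statements.S19207
import Mathlib

set_option autoImplicit false
universe u
open Filter
open LocAlg

namespace Groth.Agent.S19207

noncomputable section
open MvPowerSeries

variable {k : Type u} [Field k]

theorem finrank_eq_length {R : Type u} [CommRing R] [IsLocalRing R] [Algebra k R]
    (hs : Function.Surjective (algebraMap k (R ⧸ IsLocalRing.maximalIdeal R)))
    {M : Type u} [AddCommGroup M] [Module R M] (hM : IsFiniteLength R M) :
    ∀ [Module k M] [IsScalarTower k R M] [Module.Finite k M], Module.finrank k M = (Module.length R M).toNat := by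
  induction hM with
  | of_subsingleton => intros; simp [Module.finrank_zero_of_subsingleton]
  | @of_simple_quotient M _ _ N _ hN ih =>
    intros
    haveI : Module.Finite k N := Module.Finite.of_injective (N.subtype.restrictScalars k) Subtype.val_injective
    obtain ⟨I, hI, ⟨e⟩⟩ := (isSimpleModule_iff_quot_maximal (R := R) (M := M ⧸ N)).1 inferInstance
    obtain rfl := IsLocalRing.eq_maximalIdeal hI
    have h1 := (N.restrictScalars k).finrank_quotient_add_finrank
    have h2 : Module.finrank k (M ⧸ N.restrictScalars k) = 1 := by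
      rw [((Submodule.Quotient.restrictScalarsEquiv k N) ≪≫ₗ e.restrictScalars k).finrank_eq]
      haveI : (IsLocalRing.maximalIdeal R).IsMaximal := inferInstance
      exact finrank_eq_one (1 : R ⧸ IsLocalRing.maximalIdeal R) one_ne_zero fun w => by
        obtain ⟨c, hc⟩ := hs w
        exact ⟨c, by rw [← hc, Algebra.algebraMap_eq_smul_one]⟩
    have h3 : Module.length R M = Module.length R N + 1 := by
      rw [Module.length_eq_add_of_exact N.subtype N.mkQ N.injective_subtype N.mkQ_surjective (LinearMap.exact_subtype_mkQ N),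
        Module.length_eq_one R (M ⧸ N)]
    have h4 : Module.length R N ≠ ⊤ := Module.length_ne_top_iff.2 hN
    rw [h3, ENat.toNat_add h4 ENat.one_ne_top, ENat.toNat_one, ← ih, ← h1, h2, add_comm]
    rfl

theorem isLocalHom_of_surjective_quot (n : ℕ)
    (hne : Ideal.span {(X 0 ^ 2 - X 1 ^ n : MvPowerSeries (Fin 3) k)} ≠ ⊤) :
    IsLocalHom (Ideal.Quotient.mk (Ideal.span {(X 0 ^ 2 - X 1 ^ n : MvPowerSeries (Fin 3) k)})) := by
  haveI : Nontrivial (MvPowerSeries (Fin 3) k ⧸ Ideal.span {(X 0 ^ 2 - X 1 ^ n : MvPowerSeries (Fin 3) k)}) :=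
    Ideal.Quotient.nontrivial_iff.mpr hne
  exact .of_surjective _ Ideal.Quotient.mk_surjective

variable (n : ℕ)

/-- the order of a monomial -/
def w (e : Fin 3 →₀ ℕ) : ℕ :=
  e 1 + n * (e 0 / 2) + if e 0 % 2 = 0 then e 2 / 2 else (e 2 + 1) / 2 + 1

theorem w_add (hn : 3 ≤ n) (e e' : Fin 3 →₀ ℕ) : w n e + w n e' ≤ w n (e + e') := by
  simp only [w, Finsupp.add_apply]
  rcases Nat.mod_two_eq_zero_or_one (e 0) with h | h <;> rcases Nat.mod_two_eq_zero_or_one (e' 0) with h' | h'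
  all_goals
    have h0 : (e 0 + e' 0) / 2 = e 0 / 2 + e' 0 / 2 + (if e 0 % 2 = 1 ∧ e' 0 % 2 = 1 then 1 else 0) := by
      simp [h, h']; omega
    have h1 : (e 0 + e' 0) % 2 = if e 0 % 2 = e' 0 % 2 then 0 else 1 := by simp [h, h']; omega
    simp [h, h'] at h0 h1 ⊢
    rw [h0]; simp only [h1]; simp only [Nat.mul_add, mul_one]
    simp
    omega

/-- series supported in weight `≥ j` -/
def J (hn : 3 ≤ n) (j : ℕ) : Ideal (MvPowerSeries (Fin 3) k) where
  carrier := {F | ∀ e, w n e < j → coeff e F = 0}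
  zero_mem' := fun e _ => map_zero _
  add_mem' := fun ha hb e he => by rw [map_add, ha e he, hb e he, add_zero]
  smul_mem' := fun c F hF e he => by
    classical
    rw [smul_eq_mul, coeff_mul]
    refine Finset.sum_eq_zero fun p hp => ?_
    rw [Finset.HasAntidiagonal.mem_antidiagonal] at hp
    rw [hF p.2 (lt_of_le_of_lt ((Nat.le_add_left _ _).trans (w_add n hn p.1 p.2)) (hp ▸ he)), mul_zero]

theorem J_mul (hn : 3 ≤ n) (i j : ℕ) : J (k := k) n hn i * J n hn j ≤ J n hn (i + j) := by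
  classical
  refine Ideal.mul_le.mpr fun F hF G hG e he => ?_
  rw [coeff_mul]
  refine Finset.sum_eq_zero fun p hp => ?_
  rw [Finset.HasAntidiagonal.mem_antidiagonal] at hp
  have := w_add n hn p.1 p.2
  rw [hp] at this
  rcases lt_or_ge (w n p.1) i with h | h
  · rw [hF p.1 h, zero_mul]
  · rw [hG p.2 (by omega), mul_zero]

/-- the ideal upstairs -/
def G : Ideal (MvPowerSeries (Fin 3) k) :=
  Ideal.span {(X 0 ^ 2 : MvPowerSeries (Fin 3) k), X 0 * X 1, X 1 ^ 2, X 0 * X 2, X 1 * X 2 ^ 2, X 2 ^ 4}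

theorem G_le_J (hn : 3 ≤ n) : G (k := k) ≤ J n hn 2 := by
  classical
  refine Ideal.span_le.mpr ?_
  rintro F (rfl | rfl | rfl | rfl | rfl | rfl) e he <;>
    simp only [X_pow_eq, X_def, monomial_mul_monomial, monomial_pow, one_pow, one_mul, coeff_monomial] <;>
    rw [if_neg] <;> rintro rfl <;> revert he <;> simp [w, Finsupp.single_apply] <;> omega

theorem Gpow_le_J (hn : 3 ≤ n) (m : ℕ) : G (k := k) ^ m ≤ J n hn (2 * m) := by
  induction m with
  | zero => intro F _ e he; simp at he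
  | succ m ih => rw [pow_succ, Nat.mul_succ]; exact (Ideal.mul_mono ih (G_le_J n hn)).trans (J_mul n hn _ _)

theorem mon_mem (m : ℕ) : ∀ (ε a b : ℕ), ε ≤ 1 → 2 * m ≤ a + (if ε = 0 then b / 2 else (b + 1) / 2 + 1) →
    (X 0 ^ ε * X 1 ^ a * X 2 ^ b : MvPowerSeries (Fin 3) k) ∈ G (k := k) ^ m := by
  induction m with
  | zero => intros; simp
  | succ m ih =>
    intro ε a b hε h
    have key : ∀ (g r : MvPowerSeries (Fin 3) k), g ∈ G (k := k) → r ∈ G (k := k) ^ m → r * g ∈ G (k := k) ^ (m + 1) :=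
      fun g r hg hr => by rw [pow_succ]; exact Ideal.mul_mem_mul hr hg
    have hg : ∀ g ∈ ({X 0 ^ 2, X 0 * X 1, X 1 ^ 2, X 0 * X 2, X 1 * X 2 ^ 2, X 2 ^ 4} : Set (MvPowerSeries (Fin 3) k)),
        g ∈ G (k := k) := fun g hg => Ideal.subset_span hg
    by_cases ha : 2 ≤ a
    · obtain ⟨a, rfl⟩ := Nat.exists_eq_add_of_le ha
      rw [show (X 0 ^ ε * X 1 ^ (2 + a) * X 2 ^ b : MvPowerSeries (Fin 3) k) = X 0 ^ ε * X 1 ^ a * X 2 ^ b * X 1 ^ 2 by ring]
      exact key _ _ (hg _ (by simp)) (ih ε a b hε (by split_ifs at h ⊢ <;> omega))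
    rcases (by omega : a = 0 ∨ a = 1) with rfl | rfl <;> rcases (by omega : ε = 0 ∨ ε = 1) with rfl | rfl <;>
      simp at h
    · obtain ⟨b, rfl⟩ := Nat.exists_eq_add_of_le (by omega : 4 ≤ b)
      rw [show (X 0 ^ 0 * X 1 ^ 0 * X 2 ^ (4 + b) : MvPowerSeries (Fin 3) k) = X 0 ^ 0 * X 1 ^ 0 * X 2 ^ b * X 2 ^ 4 by ring]
      exact key _ _ (hg _ (by simp)) (ih 0 0 b hε (by simp; omega))
    · by_cases hb : 4 ≤ b
      · obtain ⟨b, rfl⟩ := Nat.exists_eq_add_of_le hb
        rw [show (X 0 ^ 1 * X 1 ^ 0 * X 2 ^ (4 + b) : MvPowerSeries (Fin 3) k) = X 0 ^ 1 * X 1 ^ 0 * X 2 ^ b * X 2 ^ 4 by ring]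
        exact key _ _ (hg _ (by simp)) (ih 1 0 b hε (by simp; omega))
      · obtain rfl : m = 0 := by omega
        obtain ⟨b, rfl⟩ := Nat.exists_eq_add_of_le (by omega : 1 ≤ b)
        rw [show (X 0 ^ 1 * X 1 ^ 0 * X 2 ^ (1 + b) : MvPowerSeries (Fin 3) k) = X 2 ^ b * (X 0 * X 2) by ring]
        exact key _ _ (hg _ (by simp)) (by simp)
    · obtain ⟨b, rfl⟩ := Nat.exists_eq_add_of_le (by omega : 2 ≤ b)
      rw [show (X 0 ^ 0 * X 1 ^ 1 * X 2 ^ (2 + b) : MvPowerSeries (Fin 3) k) = X 0 ^ 0 * X 1 ^ 0 * X 2 ^ b * (X 1 * X 2 ^ 2) by ring]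
      exact key _ _ (hg _ (by simp)) (ih 0 0 b hε (by simp; omega))
    · by_cases hb : 2 ≤ b
      · obtain ⟨b, rfl⟩ := Nat.exists_eq_add_of_le hb
        rw [show (X 0 ^ 1 * X 1 ^ 1 * X 2 ^ (2 + b) : MvPowerSeries (Fin 3) k) = X 0 ^ 1 * X 1 ^ 0 * X 2 ^ b * (X 1 * X 2 ^ 2) by ring]
        exact key _ _ (hg _ (by simp)) (ih 1 0 b hε (by simp; omega))
      · obtain rfl : m = 0 := by omega
        rw [show (X 0 ^ 1 * X 1 ^ 1 * X 2 ^ b : MvPowerSeries (Fin 3) k) = X 2 ^ b * (X 0 * X 1) by ring]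
        exact key _ _ (hg _ (by simp)) (by simp)

/-- exponents -/
def ex (x y z : ℕ) : Fin 3 →₀ ℕ := Finsupp.single 0 x + Finsupp.single 1 y + Finsupp.single 2 z

@[simp] theorem ex0 (x y z : ℕ) : ex x y z 0 = x := by simp [ex, Finsupp.single_apply]
@[simp] theorem ex1 (x y z : ℕ) : ex x y z 1 = y := by simp [ex, Finsupp.single_apply]
@[simp] theorem ex2 (x y z : ℕ) : ex x y z 2 = z := by simp [ex, Finsupp.single_apply]

theorem eq_ex (e : Fin 3 →₀ ℕ) : e = ex (e 0) (e 1) (e 2) := by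
  ext i; fin_cases i <;> simp

theorem monomial_ex (x y z : ℕ) :
    monomial (ex x y z) (1 : k) = X 0 ^ x * X 1 ^ y * X 2 ^ z := by
  simp [ex, X_pow_eq, monomial_mul_monomial]

abbrev f : MvPowerSeries (Fin 3) k := X 0 ^ 2 - X 1 ^ n

def P (m : ℕ) : Ideal (MvPowerSeries (Fin 3) k) := Ideal.span {f n} ⊔ G ^ m

/-- index of the standard monomials -/
abbrev S (m : ℕ) := (Σ a : Fin (2 * m), Fin (2 * (2 * m - a.val))) ⊕ (Σ a : Fin (2 * m - 1), Fin (2 * (2 * m - 1 - a.val) - 1))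

theorem card_S (m : ℕ) : Fintype.card (S m) = 2 * m * (2 * m + 1) + (2 * m - 1) * (2 * m - 1) := by
  have h1 : ∀ N, ∑ a : Fin N, 2 * (N - a.val) = N * (N + 1) := by
    intro N
    induction N with
    | zero => simp
    | succ N ih => rw [Fin.sum_univ_succ]; simp [ih]; ring
  have h2 : ∀ N, ∑ a : Fin N, (2 * (N - a.val) - 1) = N * N := by
    intro N
    induction N with
    | zero => simp
    | succ N ih =>
      rw [Fin.sum_univ_succ]; simp [ih]
      rw [show 2 * (N + 1) - 1 = 2 * N + 1 by omega]; ring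
  simp [Fintype.card_sigma, h1, h2]

variable {m : ℕ}

def eε : S m → ℕ | .inl _ => 0 | .inr _ => 1
def ea : S m → ℕ | .inl p => p.1.val | .inr p => p.1.val
def eb : S m → ℕ | .inl p => p.2.val | .inr p => p.2.val

theorem S_spec (s : S m) : eε s ≤ 1 ∧ ea s + (if eε s = 0 then eb s / 2 else (eb s + 1) / 2 + 1) < 2 * m := by
  rcases s with ⟨⟨a, ha⟩, ⟨b, hb⟩⟩ | ⟨⟨a, ha⟩, ⟨b, hb⟩⟩ <;> simp [eε, ea, eb] at hb ⊢ <;> omega

theorem S_inj (s t : S m) (h1 : eε s = eε t) (h2 : ea s = ea t) (h3 : eb s = eb t) : s = t := by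
  rcases s with ⟨⟨a, ha⟩, ⟨b, hb⟩⟩ | ⟨⟨a, ha⟩, ⟨b, hb⟩⟩ <;> rcases t with ⟨⟨a', ha'⟩, ⟨b', hb'⟩⟩ | ⟨⟨a', ha'⟩, ⟨b', hb'⟩⟩ <;>
    simp [eε, ea, eb] at h1 h2 h3 <;> subst h2 <;> subst h3 <;> rfl

theorem S_surj (ε a b : ℕ) (hε : ε ≤ 1) (h : a + (if ε = 0 then b / 2 else (b + 1) / 2 + 1) < 2 * m) :
    ∃ s : S m, eε s = ε ∧ ea s = a ∧ eb s = b := by
  rcases (by omega : ε = 0 ∨ ε = 1) with rfl | rfl <;> simp at h
  · exact ⟨.inl ⟨⟨a, by omega⟩, ⟨b, by simp; omega⟩⟩, rfl, rfl, rfl⟩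
  · exact ⟨.inr ⟨⟨a, by omega⟩, ⟨b, by simp; omega⟩⟩, rfl, rfl, rfl⟩

variable (m)

/-- normal form -/
noncomputable def Φ : MvPowerSeries (Fin 3) k →ₗ[k] (S m → k) :=
  LinearMap.pi fun s => ∑ q ∈ Finset.range (2 * m), if n * q ≤ ea s then coeff (ex (eε s + 2 * q) (ea s - n * q) (eb s)) else 0

theorem Φ_apply (F : MvPowerSeries (Fin 3) k) (s : S m) : Φ n m F s =
    ∑ q ∈ Finset.range (2 * m), if n * q ≤ ea s then coeff (ex (eε s + 2 * q) (ea s - n * q) (eb s)) F else 0 := by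
  simp only [Φ, LinearMap.pi_apply, LinearMap.sum_apply]
  refine Finset.sum_congr rfl fun q _ => ?_
  split_ifs <;> rfl

theorem Φ_J (hn : 3 ≤ n) {F : MvPowerSeries (Fin 3) k} (hF : F ∈ J n hn (2 * m)) : Φ n m F = 0 := by
  funext s
  rw [Φ_apply]
  refine Finset.sum_eq_zero fun q _ => ?_
  split_ifs with hq
  · refine hF _ ?_
    obtain ⟨hε, hs⟩ := S_spec s
    simp only [w, ex0, ex1, ex2]
    rw [Nat.add_mul_mod_self_left, Nat.mod_eq_of_lt (by omega : eε s < 2),
      Nat.add_mul_div_left _ _ (by norm_num : 0 < 2), Nat.div_eq_of_lt (by omega : eε s < 2), zero_add]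
    rw [Nat.sub_add_cancel hq]; exact hs
  · rfl

theorem Φ_f (hn : 3 ≤ n) (H : MvPowerSeries (Fin 3) k) : Φ n m (H * f n) = 0 := by
  classical
  funext s
  obtain ⟨hε, hs⟩ := S_spec s
  rw [Φ_apply, Pi.zero_apply]
  let u : ℕ → k := fun q => if 1 ≤ q ∧ n * q ≤ ea s then coeff (ex (eε s + 2 * (q - 1)) (ea s - n * q) (eb s)) H else 0
  have hu : ∀ q, (if n * q ≤ ea s then coeff (ex (eε s + 2 * q) (ea s - n * q) (eb s)) (H * f n) else 0) = u q - u (q + 1) := by
    intro q
    by_cases hq : n * q ≤ ea s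
    · rw [if_pos hq, mul_comm H, f, sub_mul, map_sub, X_pow_eq, X_pow_eq, coeff_monomial_mul, coeff_monomial_mul]
      congr 1
      · simp only [u, one_mul]
        by_cases h1 : 1 ≤ q
        · rw [if_pos, if_pos ⟨h1, hq⟩]
          · congr 2; ext i; fin_cases i <;> simp [Finsupp.single_apply] <;> omega
          · intro i; fin_cases i <;> simp [Finsupp.single_apply] <;> omega
        · rw [if_neg, if_neg (fun h => h1 h.1)]
          intro h; have := h 0; simp [Finsupp.single_apply] at this; omega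
      · simp only [u, one_mul, Nat.le_add_left 1 q, true_and, Nat.add_sub_cancel]
        by_cases h2 : n * (q + 1) ≤ ea s
        · rw [if_pos, if_pos h2]
          · congr 2; ext i; fin_cases i <;> simp [Finsupp.single_apply, Nat.mul_succ] <;> omega
          · intro i; fin_cases i <;> simp [Finsupp.single_apply, Nat.mul_succ] at h2 ⊢ <;> omega
        · rw [if_neg, if_neg h2]
          intro h; have := h 1; simp [Finsupp.single_apply, Nat.mul_succ] at this h2; omega
    · have : ¬ n * (q + 1) ≤ ea s := fun h => hq (le_trans (Nat.mul_le_mul_left n (Nat.le_succ q)) h)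
      simp [u, hq, this]
  rw [Finset.sum_congr rfl fun q _ => hu q, Finset.sum_range_sub']
  have h0 : ¬ n * (2 * m) ≤ ea s := by
    have : 3 * (2 * m) ≤ n * (2 * m) := Nat.mul_le_mul_right _ hn
    omega
  simp [u, h0]

theorem P_le_ker (hn : 3 ≤ n) {F : MvPowerSeries (Fin 3) k} (hF : F ∈ P n m) : Φ n m F = 0 := by
  obtain ⟨a, ha, b, hb, rfl⟩ := Submodule.mem_sup.mp hF
  obtain ⟨H, rfl⟩ := Ideal.mem_span_singleton'.mp ha
  rw [map_add, Φ_f n m hn, Φ_J n m hn (Gpow_le_J n hn m hb), add_zero]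

/-- the standard monomials -/
noncomputable def Ψ : (S m → k) →ₗ[k] MvPowerSeries (Fin 3) k where
  toFun c := ∑ s, monomial (ex (eε s) (ea s) (eb s)) (c s)
  map_add' c d := by simp [Finset.sum_add_distrib]
  map_smul' r c := by simp [Finset.smul_sum, ← map_smul]

theorem ΦΨ (hn : 3 ≤ n) (c : S m → k) : Φ n m (Ψ m c) = c := by
  classical
  funext s
  obtain ⟨hε, hs⟩ := S_spec s
  rw [Φ_apply, Finset.sum_eq_single 0]
  · rw [if_pos (by simp)]
    simp only [Nat.mul_zero, add_zero, Nat.sub_zero, Ψ, LinearMap.coe_mk, AddHom.coe_mk, map_sum, coeff_monomial]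
    rw [Finset.sum_eq_single s, if_pos rfl]
    · intro t _ ht
      refine if_neg fun h => ht (S_inj t s ?_ ?_ ?_)
      · simpa using (congrArg (fun e => e 0) h).symm
      · simpa using (congrArg (fun e => e 1) h).symm
      · simpa using (congrArg (fun e => e 2) h).symm
    · simp
  · intro q _ hq
    split_ifs with h
    · simp only [Ψ, LinearMap.coe_mk, AddHom.coe_mk, map_sum, coeff_monomial]
      refine Finset.sum_eq_zero fun t _ => if_neg fun h' => ?_
      have h1 : eε s + 2 * q = eε t := by simpa using congrArg (fun e => e 0) h'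
      have := (S_spec t).1
      omega
    · rfl
  · intro h; simp at h; subst h; omega

theorem monomial_mem_range (hn : 3 ≤ n) (e : Fin 3 →₀ ℕ) (c : k) :
    ∃ d : S m → k, monomial e c - Ψ m d ∈ P n m := by
  classical
  set ε := e 0 % 2
  set q := e 0 / 2
  set a := e 1 + n * q
  have hred : monomial e c - monomial (ex ε a (e 2)) c ∈ P n m := by
    obtain ⟨r, hr⟩ : f n ∣ (X 0 ^ 2) ^ q - (X 1 ^ n : MvPowerSeries (Fin 3) k) ^ q := sub_dvd_pow_sub_pow _ _ _
    refine Ideal.mem_sup_left (Ideal.mem_span_singleton'.mpr ⟨(C c : MvPowerSeries (Fin 3) k) * (X 0 ^ ε * X 1 ^ e 1 * X 2 ^ e 2) * r, ?_⟩)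
    have hC : ∀ x : Fin 3 →₀ ℕ, monomial x c = C c * monomial x (1 : k) := fun x => by
      rw [← monomial_zero_eq_C_apply, monomial_mul_monomial, zero_add, mul_one]
    conv_rhs => rw [hC e, hC (ex ε a (e 2)), eq_ex e, monomial_ex, monomial_ex]
    simp only [ex0, ex1, ex2]
    rw [show e 0 = ε + 2 * q from (Nat.mod_add_div _ _).symm]
    linear_combination -(C c * (X 0 ^ ε * X 1 ^ e 1 * X 2 ^ e 2)) * hr
  by_cases h : a + (if ε = 0 then e 2 / 2 else (e 2 + 1) / 2 + 1) < 2 * m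
  · obtain ⟨s, h1, h2, h3⟩ := S_surj (m := m) ε a (e 2) (by omega) h
    refine ⟨Pi.single s c, ?_⟩
    rwa [show Ψ m (Pi.single s c) = monomial (ex ε a (e 2)) c from by
      simp only [Ψ, LinearMap.coe_mk, AddHom.coe_mk]
      rw [Finset.sum_eq_single s, Pi.single_eq_same, h1, h2, h3]
      · intro t _ ht; rw [Pi.single_eq_of_ne ht, map_zero]
      · simp]
  · refine ⟨0, ?_⟩
    rw [map_zero, sub_zero, ← sub_add_cancel (monomial e c) (monomial (ex ε a (e 2)) c)]
    refine add_mem hred ?_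
    rw [show monomial (ex ε a (e 2)) c = C c * monomial (ex ε a (e 2)) (1 : k) by
      rw [← monomial_zero_eq_C_apply, monomial_mul_monomial, zero_add, mul_one]]
    refine Ideal.mul_mem_left _ _ (Ideal.mem_sup_right ?_)
    rw [monomial_ex]
    exact mon_mem m ε a (e 2) (by omega) (by omega)

theorem X_pow_mem_P (hn : 3 ≤ n) (i : Fin 3) : (X i : MvPowerSeries (Fin 3) k) ^ (4 * m + 1) ∈ P n m := by
  obtain ⟨d, hd⟩ := monomial_mem_range n m hn (Finsupp.single i (4 * m + 1)) (1 : k)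
  have hΦ : Φ n m (monomial (Finsupp.single i (4 * m + 1)) (1 : k)) = 0 := Φ_J n m hn fun e he => by
    classical
    rw [coeff_monomial, if_neg]
    rintro rfl
    revert he
    fin_cases i <;> simp [w, Finsupp.single_apply]
    all_goals first | omega | (have : 3 * ((4 * m + 1) / 2) ≤ n * ((4 * m + 1) / 2) := Nat.mul_le_mul_right _ hn; omega)
  have h0 := P_le_ker n m hn hd
  rw [map_sub, hΦ, ΦΨ n m hn, zero_sub, neg_eq_zero] at h0
  rw [h0, map_zero, sub_zero] at hd
  rwa [X_pow_eq]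

theorem exists_standard (hn : 3 ≤ n) (F : MvPowerSeries (Fin 3) k) : ∃ d : S m → k, F - Ψ m d ∈ P n m := by
  classical
  let B := 4 * m + 1
  let H0 : MvPowerSeries (Fin 3) k := fun e => coeff (e + Finsupp.single 0 B) F
  let H1 : MvPowerSeries (Fin 3) k := fun e => if e 0 < B then coeff (e + Finsupp.single 1 B) F else 0
  let H2 : MvPowerSeries (Fin 3) k := fun e => if e 0 < B ∧ e 1 < B then coeff (e + Finsupp.single 2 B) F else 0
  let box : Finset (Fin 3 →₀ ℕ) := ((Finset.range B ×ˢ Finset.range B) ×ˢ Finset.range B).image fun p => ex p.1.1 p.1.2 p.2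
  have hbox : ∀ e, e ∈ box ↔ e 0 < B ∧ e 1 < B ∧ e 2 < B := fun e => by
    simp only [box, Finset.mem_image, Finset.mem_product, Finset.mem_range]
    constructor
    · rintro ⟨p, ⟨⟨a, b⟩, c⟩, rfl⟩; simpa using ⟨a, b, c⟩
    · rintro ⟨a, b, c⟩; exact ⟨((e 0, e 1), e 2), ⟨⟨a, b⟩, c⟩, (eq_ex e).symm⟩
  have hF : F = (∑ e ∈ box, monomial e (coeff e F)) + X 0 ^ B * H0 + X 1 ^ B * H1 + X 2 ^ B * H2 := by
    ext e
    simp only [map_add, map_sum, X_pow_eq, coeff_monomial_mul, one_mul, coeff_monomial]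
    rw [Finset.sum_ite_eq box e (fun x => coeff x F)]
    have hle : ∀ i : Fin 3, Finsupp.single i B ≤ e ↔ B ≤ e i := fun i => Finsupp.single_le_iff
    simp only [hle, hbox]
    have hsub : ∀ i : Fin 3, B ≤ e i → e - Finsupp.single i B + Finsupp.single i B = e := fun i h =>
      tsub_add_cancel_of_le ((hle i).mpr h)
    by_cases h0 : B ≤ e 0
    · rw [if_neg (by omega), if_pos h0]
      have h1 : (if B ≤ e 1 then coeff (e - Finsupp.single 1 B) H1 else 0) = 0 := by
        split_ifs with h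
        · show (if _ then _ else _) = (0 : k)
          rw [if_neg]; simp [Finsupp.single_apply]; omega
        · rfl
      have h2 : (if B ≤ e 2 then coeff (e - Finsupp.single 2 B) H2 else 0) = 0 := by
        split_ifs with h
        · show (if _ then _ else _) = (0 : k)
          rw [if_neg]; simp [Finsupp.single_apply]; omega
        · rfl
      rw [h1, h2, zero_add, add_zero, add_zero]
      show _ = coeff (e - Finsupp.single 0 B + Finsupp.single 0 B) F
      rw [hsub 0 h0]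
    by_cases h1 : B ≤ e 1
    · rw [if_neg (by omega), if_neg h0, if_pos h1]
      have h2 : (if B ≤ e 2 then coeff (e - Finsupp.single 2 B) H2 else 0) = 0 := by
        split_ifs with h
        · show (if _ then _ else _) = (0 : k)
          rw [if_neg]; simp [Finsupp.single_apply]; omega
        · rfl
      rw [h2, zero_add, zero_add, add_zero]
      show _ = if _ then coeff (e - Finsupp.single 1 B + Finsupp.single 1 B) F else 0
      rw [hsub 1 h1, if_pos]; simp [Finsupp.single_apply]; omega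
    by_cases h2 : B ≤ e 2
    · rw [if_neg (by omega), if_neg h0, if_neg h1, if_pos h2, zero_add, zero_add, zero_add]
      show _ = if _ then coeff (e - Finsupp.single 2 B + Finsupp.single 2 B) F else 0
      rw [hsub 2 h2, if_pos]; simp [Finsupp.single_apply]; omega
    · rw [if_pos (by omega), if_neg h0, if_neg h1, if_neg h2, add_zero, add_zero, add_zero]
  choose d hd using fun e => monomial_mem_range n m hn e (coeff e F)
  refine ⟨∑ e ∈ box, d e, ?_⟩
  rw [map_sum]
  nth_rewrite 1 [hF]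
  have e0 := Ideal.mul_mem_right H0 _ (X_pow_mem_P (k := k) n m hn 0)
  have e1 := Ideal.mul_mem_right H1 _ (X_pow_mem_P (k := k) n m hn 1)
  have e2 := Ideal.mul_mem_right H2 _ (X_pow_mem_P (k := k) n m hn 2)
  have e3 : ∑ e ∈ box, (monomial e (coeff e F) - Ψ m (d e)) ∈ P n m := sum_mem fun e _ => hd e
  rw [Finset.sum_sub_distrib] at e3
  convert add_mem (add_mem (add_mem e3 e0) e1) e2 using 1
  ring

theorem finrank_quot (hn : 3 ≤ n) :
    Module.finrank k (MvPowerSeries (Fin 3) k ⧸ (P (k := k) n m)) = 2 * m * (2 * m + 1) + (2 * m - 1) * (2 * m - 1)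
      ∧ Module.Finite k (MvPowerSeries (Fin 3) k ⧸ (P (k := k) n m)) := by
  let π : (S m → k) →ₗ[k] MvPowerSeries (Fin 3) k ⧸ (P (k := k) n m) :=
    ((Ideal.Quotient.mkₐ k (P (k := k) n m)).toLinearMap).comp (Ψ m)
  have hbij : Function.Bijective π := by
    refine ⟨(injective_iff_map_eq_zero π).mpr fun c hc => ?_, fun y => ?_⟩
    · rw [← ΦΨ n m hn c]
      exact P_le_ker n m hn (Ideal.Quotient.eq_zero_iff_mem.mp hc)
    · obtain ⟨F, rfl⟩ := Ideal.Quotient.mk_surjective y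
      obtain ⟨d, hd⟩ := exists_standard n m hn F
      exact ⟨d, (Ideal.Quotient.eq.mpr hd).symm⟩
  let eqv := LinearEquiv.ofBijective π hbij
  refine ⟨?_, Module.Finite.equiv eqv⟩
  rw [← eqv.finrank_eq, Module.finrank_fintype_fun_eq_card, card_S]

theorem length_abs {R : Type u} [CommRing R] [IsLocalRing R] [Algebra k R]
    (hs : ∀ x : R, ∃ c : k, x - algebraMap k R c ∈ IsLocalRing.maximalIdeal R)
    (a b : Ideal R) (ha : a ≠ ⊤) (hf : Module.Finite k (R ⧸ a ⊔ b)) :
    Module.length (R ⧸ a) ((R ⧸ a) ⧸ b.map (Ideal.Quotient.mk a)) = (Module.finrank k (R ⧸ a ⊔ b) : ℕ∞) := by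
  haveI : Nontrivial (R ⧸ a) := Ideal.Quotient.nontrivial_iff.mpr ha
  haveI : IsLocalRing (R ⧸ a) := IsLocalRing.of_surjective' (Ideal.Quotient.mk a) Ideal.Quotient.mk_surjective
  haveI : IsLocalHom (Ideal.Quotient.mk a) := .of_surjective _ Ideal.Quotient.mk_surjective
  have hsa : Function.Surjective (algebraMap k ((R ⧸ a) ⧸ IsLocalRing.maximalIdeal (R ⧸ a))) := fun y => by
    obtain ⟨z, rfl⟩ := Ideal.Quotient.mk_surjective y
    obtain ⟨x, rfl⟩ := Ideal.Quotient.mk_surjective z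
    obtain ⟨c, hc⟩ := hs x
    refine ⟨c, ?_⟩
    symm
    show Ideal.Quotient.mk _ (Ideal.Quotient.mk a x) = Ideal.Quotient.mk _ (Ideal.Quotient.mk a (algebraMap k R c))
    rw [Ideal.Quotient.eq, ← map_sub]
    exact map_nonunit (Ideal.Quotient.mk a) _ hc
  let e := DoubleQuot.quotQuotEquivQuotSupₐ k a b
  haveI : Module.Finite k ((R ⧸ a) ⧸ b.map (Ideal.Quotient.mkₐ k a)) := Module.Finite.equiv e.symm.toLinearEquiv
  have hfl : IsFiniteLength (R ⧸ a) ((R ⧸ a) ⧸ b.map (Ideal.Quotient.mkₐ k a)) := isFiniteLength_iff_isNoetherian_isArtinian.2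
    ⟨isNoetherian_of_tower k inferInstance, isArtinian_of_tower k inferInstance⟩
  show Module.length (R ⧸ a) ((R ⧸ a) ⧸ b.map (Ideal.Quotient.mkₐ k a)) = _
  rw [← ENat.natCast_toNat (Module.length_ne_top_iff.2 hfl), ← finrank_eq_length hsa hfl, e.toLinearEquiv.finrank_eq]

theorem length_pow (hn : 3 ≤ n) (I : Ideal (MvPowerSeries (Fin 3) k ⧸ Ideal.span {f (k := k) n}))
    (hI : I = G.map (Ideal.Quotient.mk (Ideal.span {f n}))) (m : ℕ) :
    Module.length (MvPowerSeries (Fin 3) k ⧸ Ideal.span {f (k := k) n})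
      ((MvPowerSeries (Fin 3) k ⧸ Ideal.span {f (k := k) n}) ⧸ I ^ m) =
      ((2 * m * (2 * m + 1) + (2 * m - 1) * (2 * m - 1) : ℕ) : ℕ∞) := by
  subst hI
  rw [← Ideal.map_pow, ← (finrank_quot (k := k) n m hn).1]
  refine length_abs (fun x => ⟨constantCoeff x, ?_⟩) _ _ ?_ (finrank_quot (k := k) n m hn).2
  · intro hu
    rw [MvPowerSeries.isUnit_iff_constantCoeff] at hu
    simp [MvPowerSeries.algebraMap_apply] at hu
  · rw [Ne, Ideal.span_singleton_eq_top, MvPowerSeries.isUnit_iff_constantCoeff]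
    simp [f, zero_pow (by omega : n ≠ 0)]

end

/-- Let k be a field and n ≥ 3, and let A = k[[x, y, t]]/(x^2 − y^n), the power-series ring in t over
the higher double point O = k[[x, y]]/(x^2 − y^n), a two-dimensional local ring. The ideal I = (x^2,
xy, y^2, xt, yt^2, t^4) of A has length(A/I) = 7 and Samuel multiplicity e(I) = 16, in the sense
that 2·length(A/I^m)/m^2 tends to 16. Hence e(I)/(2!·length(A/I)) = 8/7, which gives the bound
e_1(O) ≥ 8/7 for the first flat multiplicity of a higher double point (the supremum of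
e(I)/(2!·length(A/I)) over ideals of finite colength of A = O[[t]]). Here x, y, t are the
power-series variables indexed 0, 1, 2. -/
theorem result (k : Type u) [Field k] (n : ℕ) (hn : 3 ≤ n)
    (I : Ideal (MvPowerSeries (Fin 3) k ⧸ Ideal.span {(MvPowerSeries.X 0 ^ 2 - MvPowerSeries.X 1 ^ n : MvPowerSeries (Fin 3) k)}))
    (hI : I = Ideal.map (Ideal.Quotient.mk (Ideal.span {(MvPowerSeries.X 0 ^ 2 - MvPowerSeries.X 1 ^ n : MvPowerSeries (Fin 3) k)}))
      (Ideal.span {(MvPowerSeries.X 0 ^ 2 : MvPowerSeries (Fin 3) k), MvPowerSeries.X 0 * MvPowerSeries.X 1,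
        MvPowerSeries.X 1 ^ 2, MvPowerSeries.X 0 * MvPowerSeries.X 2,
        MvPowerSeries.X 1 * MvPowerSeries.X 2 ^ 2, MvPowerSeries.X 2 ^ 4})) :
    Module.length (MvPowerSeries (Fin 3) k ⧸ Ideal.span {(MvPowerSeries.X 0 ^ 2 - MvPowerSeries.X 1 ^ n : MvPowerSeries (Fin 3) k)}) ((MvPowerSeries (Fin 3) k ⧸ Ideal.span {(MvPowerSeries.X 0 ^ 2 - MvPowerSeries.X 1 ^ n : MvPowerSeries (Fin 3) k)}) ⧸ I) = 7 ∧
      Tendsto (fun m : ℕ => (2 : ℝ) * ((Module.length (MvPowerSeries (Fin 3) k ⧸ Ideal.span {(MvPowerSeries.X 0 ^ 2 - MvPowerSeries.X 1 ^ n : MvPowerSeries (Fin 3) k)}) ((MvPowerSeries (Fin 3) k ⧸ Ideal.span {(MvPowerSeries.X 0 ^ 2 - MvPowerSeries.X 1 ^ n : MvPowerSeries (Fin 3) k)}) ⧸ I ^ m)).toNat : ℝ) / (m : ℝ) ^ 2)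
        atTop (nhds 16) := by
  have h := length_pow (k := k) n hn I hI
  refine ⟨?_, ?_⟩
  · have := h 1
    simp only [f] at this
    rw [Submodule.pow_one] at this
    exact this
  · have hlim : Tendsto (fun m : ℕ => (16 : ℝ) - 4 * (1 / (m : ℝ)) + 2 * (1 / (m : ℝ)) ^ 2) atTop (nhds 16) := by
      simpa using ((tendsto_const_nhds (x := (16 : ℝ))).sub
        ((tendsto_one_div_atTop_nhds_zero_nat).const_mul (4 : ℝ))).add
        (((tendsto_one_div_atTop_nhds_zero_nat (𝕜 := ℝ)).pow 2).const_mul (2 : ℝ))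
    refine hlim.congr' ?_
    filter_upwards [eventually_ge_atTop 1] with m hm
    rw [h m, ENat.toNat_natCast]
    have : (1 : ℕ) ≤ 2 * m := by omega
    push_cast [Nat.cast_sub this]
    have : (m : ℝ) ≠ 0 := by positivity
    field_simp
    ring

end Groth.Agent.S19207
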