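import Groth.Statements.S19208
import Groth.Agent.HSLib.Mult

set_option autoImplicit false
universe u
open Filter
open LocAlg

namespace Groth.Agent.S19208

open Groth.Agent Polynomial

/-- Let O be a Noetherian local ring of Krull dimension r containing a field, with maximal ideal m. The
zeroth flat multiplicity e_0(O), the supremum over m-primary ideals I of e(I)/(r!·length(O/I)) with
e(I) the Samuel multiplicity, is at least 1: for every ε > 0 there is an m-primary ideal I (I ⊆ m,
m^N ⊆ I for some N) whose multiplicity e(I), the limit of r!·length(O/I^n)/n^r, satisfies e(I) ≥ (1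
− ε)·r!·length(O/I). (The same statement for the power-series rings O[[t_1, …, t_k]] is the bound
e_k(O) ≥ 1 for the k-th flat multiplicity.) -/
theorem result (O : Type u) [CommRing O] [IsNoetherianRing O]
    [IsLocalRing O] (K : Type u) [Field K] [Algebra K O] (r : ℕ) (hr : ringKrullDim O = r)
    (ε : ℝ) (hε : 0 < ε) :
    ∃ (I : Ideal O) (e : ℝ), I ≤ IsLocalRing.maximalIdeal O ∧
      (∃ N : ℕ, IsLocalRing.maximalIdeal O ^ N ≤ I) ∧
      Tendsto (fun n : ℕ => (r.factorial : ℝ) * ((Module.length O (O ⧸ I ^ n)).toNat : ℝ) / (n : ℝ) ^ r)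
        atTop (nhds e) ∧
      (1 - ε) * ((r.factorial : ℝ) * ((Module.length O (O ⧸ I)).toNat : ℝ)) ≤ e := by
  set m := IsLocalRing.maximalIdeal O
  have hfl : ∀ p ∈ Module.support O O, m ≤ p.asIdeal → p.asIdeal.IsMaximal := fun p _ h =>
    (IsLocalRing.maximalIdeal.isMaximal O).eq_of_le p.isPrime.ne_top h ▸ IsLocalRing.maximalIdeal.isMaximal O
  have hfin := HSLib.length_pow_ne_top (M := O) hfl
  obtain ⟨P, hP⟩ := HSLib.exists_isHSPoly (M := O) m hfin
  have hmj : m ≤ Ring.jacobson O := (IsLocalRing.ringJacobson_eq_maximalIdeal O).ge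
  have hdim : Module.supportDim O O = (r : WithBot ℕ∞) := (Module.supportDim_self_eq_ringKrullDim (R := O)).trans hr
  have hdeg : P.natDegree = r := le_antisymm (HSLib.natDegree_le_supportDim hmj hfl hP hdim.le) (by
    have := HSLib.supportDim_le_natDegree hmj O hfl P hP
    rwa [hdim, Nat.cast_le] at this)
  have hpos : 0 < P.coeff r := by
    rw [← hdeg, coeff_natDegree]
    rcases Nat.eq_zero_or_pos P.natDegree with h0 | h0
    · obtain ⟨n, hn, hn1⟩ := (hP.and (Filter.eventually_ge_atTop 1)).exists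
      rw [eq_C_of_natDegree_eq_zero h0] at hn ⊢
      rw [eval_C] at hn
      rw [leadingCoeff_C, ← hn, Nat.cast_pos]
      refine Nat.pos_of_ne_zero fun hc => ?_
      have hle : (⊤ : Submodule O O) ≤ m ^ n • ⊤ := HSLib.eq_of_colen_le le_top (hfin n) (by rw [hc]; exact Nat.zero_le _)
      rw [smul_eq_mul, Ideal.mul_top] at hle
      exact (IsLocalRing.maximalIdeal.isMaximal O).ne_top (top_le_iff.1 (hle.trans (Ideal.pow_le_self (by omega))))
    · exact HSLib.leadingCoeff_pos h0 hP.nonneg
  set e : ℝ := (r.factorial : ℝ) * ((P.coeff r : ℚ) : ℝ) with he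
  have hepos : 0 < e := by
    have : (0 : ℝ) < ((P.coeff r : ℚ) : ℝ) := by exact_mod_cast hpos
    positivity
  have hlim := HSLib.tendsto_eSeq_of_poly hP hdeg.le
  have hcol : ∀ n, ((Module.length O (O ⧸ m ^ n)).toNat : ℝ) = (HSLib.colen (m ^ n • (⊤ : Submodule O O)) : ℝ) := fun n => by
    rw [HSLib.colen, smul_eq_mul, Ideal.mul_top]
  obtain ⟨k, hk, hk1⟩ := ((hlim.eventually (eventually_lt_nhds (show e < e * (1 + ε) by nlinarith))).and
    (Filter.eventually_ge_atTop 1)).exists
  refine ⟨m ^ k, (k : ℝ) ^ r * e, Ideal.pow_le_self (by omega), ⟨k, le_rfl⟩, ?_, ?_⟩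
  · have h := (hlim.comp (Filter.tendsto_atTop_mono (f := fun n => n) (g := fun n => k * n)
      (fun n => Nat.le_mul_of_pos_left n hk1) Filter.tendsto_id)).const_mul ((k : ℝ) ^ r)
    refine h.congr fun n => ?_
    simp only [Function.comp_apply, HSLib.eSeq]
    rw [← pow_mul, hcol]
    push_cast
    rw [mul_pow]
    have hk0 : (k : ℝ) ^ r ≠ 0 := pow_ne_zero _ (Nat.cast_ne_zero.2 (by omega))
    rw [mul_div_assoc', mul_div_mul_left _ _ hk0]
  · have hk0 : (0 : ℝ) < (k : ℝ) ^ r := pow_pos (Nat.cast_pos.2 (by omega)) _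
    simp only [HSLib.eSeq] at hk
    rw [div_lt_iff₀ hk0, ← hcol] at hk
    rcases le_or_gt 1 ε with h1 | h1
    · exact (mul_nonpos_of_nonpos_of_nonneg (by linarith) (by positivity)).trans (by positivity)
    · calc (1 - ε) * ((r.factorial : ℝ) * ((Module.length O (O ⧸ m ^ k)).toNat : ℝ))
          ≤ (1 - ε) * (e * (1 + ε) * (k : ℝ) ^ r) := mul_le_mul_of_nonneg_left hk.le (by linarith)
        _ = (k : ℝ) ^ r * e * (1 - ε ^ 2) := by ring
        _ ≤ (k : ℝ) ^ r * e := mul_le_of_le_one_right (by positivity) (by nlinarith)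

end Groth.Agent.S19208
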