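import Groth.Statements.S19209
import Mathlib

set_option autoImplicit false
universe u
open Curves

namespace Groth.Agent.S19209

open CategoryTheory CategoryTheory.Limits AlgebraicGeometry

theorem key (n : ℕ) (p : ℕ → ℝ) (hpn : p n = 0) : ∀ m a : ℕ, a + m = n → ∃ (l : ℕ) (s : ℕ → ℕ), s 0 = a ∧ s l = n ∧
    (∀ k : ℕ, k < l → s k < s (k + 1)) ∧
    (∑ k ∈ Finset.range l, (p (s k) + p (s (k + 1))) * ((s (k + 1) : ℝ) - (s k : ℝ))) ≤
      2 * (∑ i ∈ Finset.range (m + 1), p (a + i)) - p a ∧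
    (∑ k ∈ Finset.range l, (p (s k) + p (s (k + 1))) * ((s (k + 1) : ℝ) - (s k : ℝ))) ≤ (m : ℝ) * p a := by
  intro m
  induction m using Nat.strong_induction_on with
  | _ m ih =>
    intro a ham
    rcases Nat.eq_zero_or_pos m with rfl | hm
    · refine ⟨0, fun _ => a, rfl, by omega, fun k hk => absurd hk (Nat.not_lt_zero k), ?_, by simp⟩
      obtain rfl : a = n := by omega
      simp [hpn]
    obtain ⟨j, hj, hmax⟩ := Finset.exists_max_image (Finset.Icc 1 m) (fun j => (p a - p (a + j)) / (j : ℝ)) ⟨m, by simp; omega⟩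
    rw [Finset.mem_Icc] at hj
    obtain ⟨l, s, hs0, hsl, hs, h1, h2⟩ := ih (m - j) (by omega) (a + j) (by omega)
    have hjR : (0 : ℝ) < j := by exact_mod_cast hj.1
    set σ := (p a - p (a + j)) / (j : ℝ) with hσ
    have hpj : p (a + j) = p a - σ * j := by rw [hσ, div_mul_cancel₀ _ hjR.ne', sub_sub_cancel]
    have hbelow : ∀ i, i ≤ m → p a - σ * i ≤ p (a + i) := fun i hi => by
      rcases Nat.eq_zero_or_pos i with rfl | h
      · simp
      · have := hmax i (Finset.mem_Icc.2 ⟨h, hi⟩)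
        rw [div_le_iff₀ (by exact_mod_cast h)] at this
        linarith
    have hline : ∀ i, 2 * ∑ x ∈ Finset.range (i + 1), (p a - σ * (x : ℝ)) = ((i : ℝ) + 1) * (2 * p a - σ * i) := fun i => by
      induction i with
      | zero => simp
      | succ i ihi => rw [Finset.sum_range_succ, mul_add, ihi]; push_cast; ring
    refine ⟨l + 1, fun k => if k = 0 then a else s (k - 1), rfl, by simpa using hsl, fun k hk => ?_, ?_, ?_⟩
    · rcases k with _ | k
      · simp [hs0]; omega
      · simpa using hs k (by omega)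
    all_goals rw [Finset.sum_range_succ']
    all_goals simp only [Nat.add_one_sub_one, Nat.add_eq_zero_iff, one_ne_zero, and_false, if_false, if_true, zero_add, hs0, Nat.sub_self]
    all_goals push_cast
    all_goals simp only [add_sub_cancel_left]
    · have hsplit : ∑ i ∈ Finset.range (m + 1), p (a + i) =
          (∑ i ∈ Finset.range j, p (a + i)) + ∑ i ∈ Finset.range (m - j + 1), p (a + j + i) := by
        rw [show m + 1 = j + (m - j + 1) by omega, Finset.sum_range_add]
        simp only [add_assoc]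
      have hge : 2 * ∑ x ∈ Finset.range (j + 1), (p a - σ * (x : ℝ)) ≤ 2 * ((∑ i ∈ Finset.range j, p (a + i)) + p (a + j)) := by
        rw [← Finset.sum_range_succ (fun i => p (a + i))]
        gcongr with x hx
        exact hbelow x (by have := Finset.mem_range.1 hx; omega)
      rw [hline] at hge
      rw [hsplit]
      have e : ((j : ℝ) + 1) * (2 * p a - σ * j) = (p a + p (a + j)) * j + p a + p (a + j) := by rw [hpj]; ring
      linarith
    · have hm0 := hbelow m le_rfl
      rw [show a + m = n by omega, hpn] at hm0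
      have hmj : ((m - j : ℕ) : ℝ) = (m : ℝ) - j := by rw [Nat.cast_sub hj.2]
      rw [hmj] at h2
      rw [hpj] at h2 ⊢
      nlinarith [mul_le_mul_of_nonneg_left hm0 hjR.le]


/-- Let n ≥ 1 and let p_0 ≥ p_1 ≥ … ≥ p_n = 0 be real numbers. Then some chain 0 = s_0 < s_1 < … < s_l =
n satisfies Σ_{k<l} (p_{s_k} − p_{s_{k+1}})·(s_k + s_{k+1}) ≤ (2n/(n+1))·(p_0 + p_1 + … + p_n).
Equivalently the minimum of these sums over all chains, which is twice the area under the Newton
polygon (lower convex hull) of the points (k, p_k), is at most 2n/(n+1) times the sum of the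
weights. -/
theorem result (n : ℕ) (hn : 1 ≤ n) (p : ℕ → ℝ)
    (hp : ∀ i j : ℕ, i ≤ j → j ≤ n → p j ≤ p i) (hpn : p n = 0) :
    ∃ (l : ℕ) (s : ℕ → ℕ), s 0 = 0 ∧ s l = n ∧ (∀ k : ℕ, k < l → s k < s (k + 1)) ∧
      (∑ k ∈ Finset.range l, (p (s k) - p (s (k + 1))) * ((s k : ℝ) + (s (k + 1) : ℝ))) ≤
        2 * (n : ℝ) / ((n : ℝ) + 1) * ∑ i ∈ Finset.range (n + 1), p i := by
  obtain ⟨l, s, hs0, hsl, hs, h1, h2⟩ := key n p hpn n 0 (zero_add n)
  refine ⟨l, s, hs0, hsl, hs, ?_⟩
  simp only [zero_add] at h1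
  have htel : ∑ k ∈ Finset.range l, (p (s (k + 1)) * (s (k + 1) : ℝ) - p (s k) * (s k : ℝ)) = 0 := by
    rw [Finset.sum_range_sub (fun k => p (s k) * (s k : ℝ)), hs0, hsl, hpn]
    simp
  have heq : ∑ k ∈ Finset.range l, (p (s k) - p (s (k + 1))) * ((s k : ℝ) + (s (k + 1) : ℝ)) =
      ∑ k ∈ Finset.range l, (p (s k) + p (s (k + 1))) * ((s (k + 1) : ℝ) - (s k : ℝ)) := by
    rw [← sub_eq_zero, ← Finset.sum_sub_distrib, ← neg_eq_zero, ← Finset.sum_neg_distrib]
    calc _ = ∑ k ∈ Finset.range l, 2 * (p (s (k + 1)) * (s (k + 1) : ℝ) - p (s k) * (s k : ℝ)) :=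
          Finset.sum_congr rfl fun k _ => by ring
      _ = 0 := by rw [← Finset.mul_sum, htel, mul_zero]
  rw [heq, div_mul_eq_mul_div, le_div_iff₀ (by positivity)]
  have hn' : (0 : ℝ) ≤ n := Nat.cast_nonneg n
  nlinarith [mul_le_mul_of_nonneg_left h1 hn']

end Groth.Agent.S19209
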