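import Groth.Statements.S19210
import Mathlib

set_option autoImplicit false
universe u
open LocAlg

namespace Groth.Agent.S19210

/-- For natural numbers j ≤ r, the sums Σ_{i=0}^{n−1} (n − i)^{r−j} i^j equal n^{r+1}·(r − j)!·j!/(r +
1)! up to O(n^r): there is a real constant C with |Σ_{i<n} (n − i)^{r−j} i^j − ((r − j)!·j!/(r +
1)!)·n^{r+1}| ≤ C·n^r for all n ≥ 1. -/
theorem result (r j : ℕ) (hj : j ≤ r) :
    ∃ C : ℝ, ∀ n : ℕ, 1 ≤ n →
      |(∑ i ∈ Finset.range n, ((n : ℝ) - (i : ℝ)) ^ (r - j) * (i : ℝ) ^ j) -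
          ((r - j).factorial : ℝ) * (j.factorial : ℝ) / ((r + 1).factorial : ℝ) * (n : ℝ) ^ (r + 1)| ≤
        C * (n : ℝ) ^ r := by
  have hsub : ∀ (k : ℕ) (n : ℝ), 0 ≤ n → (n + 1) ^ (k + 1) ≤ n ^ (k + 1) + (k + 1) * (n + 1) ^ k ∧ n ^ (k + 1) + (k + 1) * n ^ k ≤ (n + 1) ^ (k + 1) := by
    intro k n hn
    induction k with
    | zero => constructor <;> simp
    | succ k ih =>
      obtain ⟨h1, h2⟩ := ih
      have hmono : n ^ (k + 1) ≤ (n + 1) ^ (k + 1) := pow_le_pow_left₀ hn (by linarith) _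
      have hA := mul_le_mul_of_nonneg_right h1 (show (0:ℝ) ≤ n + 1 by linarith)
      have hB := mul_le_mul_of_nonneg_right h2 (show (0:ℝ) ≤ n + 1 by linarith)
      have hC : 0 ≤ ((k:ℝ) + 1) * n ^ k := by positivity
      push_cast
      constructor
      · rw [pow_succ (n+1) (k+1)]
        ring_nf at hA hmono ⊢
        linarith
      · rw [pow_succ (n+1) (k+1)]
        ring_nf at hB hC ⊢
        linarith
  have base : ∀ (j n : ℕ), |(∑ i ∈ Finset.range n, (i : ℝ) ^ j) - (n : ℝ) ^ (j + 1) / (j + 1)| ≤ (n : ℝ) ^ j := by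
    intro j n
    induction n with
    | zero => simp
    | succ n ih =>
      obtain ⟨h1, h2⟩ := hsub j n (by positivity)
      have hj1 : (0:ℝ) < j + 1 := by positivity
      have hmono : (n : ℝ) ^ j ≤ ((n:ℝ) + 1) ^ j := pow_le_pow_left₀ (by positivity) (by linarith) _
      have a1 : ((n:ℝ) + 1) ^ (j + 1) / (j + 1) ≤ (n:ℝ) ^ (j + 1) / (j + 1) + ((n:ℝ) + 1) ^ j := by
        rw [div_add' _ _ _ hj1.ne']; gcongr; linarith
      have a2 : (n:ℝ) ^ (j + 1) / (j + 1) + (n:ℝ) ^ j ≤ ((n:ℝ) + 1) ^ (j + 1) / (j + 1) := by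
        rw [div_add' _ _ _ hj1.ne']; gcongr; linarith
      rw [Finset.sum_range_succ]
      push_cast
      rw [abs_le] at ih ⊢
      constructor <;> linarith [ih.1, ih.2]
  suffices main : ∀ m j : ℕ, ∃ C : ℝ, ∀ n : ℕ, 1 ≤ n →
      |(∑ i ∈ Finset.range n, ((n : ℝ) - (i : ℝ)) ^ m * (i : ℝ) ^ j) - (m.factorial : ℝ) * (j.factorial : ℝ) / ((m + j + 1).factorial : ℝ) * (n : ℝ) ^ (m + j + 1)| ≤ C * (n : ℝ) ^ (m + j) by
    obtain ⟨C, hC⟩ := main (r - j) j
    rw [Nat.sub_add_cancel hj] at hC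
    exact ⟨C, hC⟩
  intro m
  induction m with
  | zero =>
    intro j
    refine ⟨1, fun n _ => ?_⟩
    have h := base j n
    simp only [pow_zero, one_mul, Nat.zero_add, Nat.factorial_zero, Nat.cast_one, Nat.factorial_succ]
    push_cast
    convert h using 3
    have hf : (j.factorial : ℝ) ≠ 0 := by positivity
    field_simp
  | succ m ih =>
    intro j
    obtain ⟨C₁, h₁⟩ := ih j
    obtain ⟨C₂, h₂⟩ := ih (j + 1)
    refine ⟨C₁ + C₂, fun n hn => ?_⟩
    have e : (∑ i ∈ Finset.range n, ((n : ℝ) - (i : ℝ)) ^ (m + 1) * (i : ℝ) ^ j) =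
        n * (∑ i ∈ Finset.range n, ((n : ℝ) - (i : ℝ)) ^ m * (i : ℝ) ^ j) - ∑ i ∈ Finset.range n, ((n : ℝ) - (i : ℝ)) ^ m * (i : ℝ) ^ (j + 1) := by
      rw [Finset.mul_sum, ← Finset.sum_sub_distrib]
      exact Finset.sum_congr rfl fun i _ => by ring
    have hc : ((m + 1).factorial : ℝ) * (j.factorial : ℝ) / ((m + 1 + j + 1).factorial : ℝ) =
        (m.factorial : ℝ) * (j.factorial : ℝ) / ((m + j + 1).factorial : ℝ) - (m.factorial : ℝ) * ((j + 1).factorial : ℝ) / ((m + (j + 1) + 1).factorial : ℝ) := by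
      rw [show m + (j + 1) + 1 = (m + j + 1) + 1 by ring, show m + 1 + j + 1 = (m + j + 1) + 1 by ring, Nat.factorial_succ m, Nat.factorial_succ j, Nat.factorial_succ (m + j + 1)]
      push_cast
      have : ((m + j + 1).factorial : ℝ) ≠ 0 := by positivity
      field_simp
      ring
    have b1 := h₁ n hn
    have b2 := h₂ n hn
    have hn0 : (0:ℝ) ≤ n := Nat.cast_nonneg n
    have b1' := mul_le_mul_of_nonneg_left b1 hn0
    rw [← abs_of_nonneg hn0, ← abs_mul, abs_of_nonneg hn0] at b1'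
    rw [e, hc]
    rw [show m + (j + 1) = m + j + 1 by ring] at b2
    rw [show m + 1 + j = m + j + 1 by ring]
    refine le_trans (le_trans (le_of_eq ?_) (abs_sub _ _)) (le_trans (add_le_add b1' b2) (le_of_eq (by ring)))
    congr 1
    ring

end Groth.Agent.S19210
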