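import Groth.Statements.S19212
import Groth.Agent.DiagIdealLib.Three
-- import your own Groth.Agent.* helpers here

set_option autoImplicit false
universe u v
open TensorProduct
open DiagIdeal

namespace Groth.Agent.S19212

/-- Let k be an algebraically closed field of characteristic zero and A a smooth k-algebra which is a
domain. Let the symmetric group on three letters permute the factors of A ⊗ A ⊗ A (it is generated
by the swap of the first two factors and the swap of the last two), let r : A ⊗ (A ⊗ A) → A ⊗ A be
the k-linear map a ⊗ b ⊗ c ↦ ab ⊗ c, and let D : A ⊗ A → Ω_{A/k} be the k-linear map a ⊗ b ↦ 2a·db −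
b·da. Then an element y of A ⊗ A satisfies D y = 0 if and only if y = r x for some x fixed by both
swaps, and D is surjective. (This is exactness at the last two places of the four-term right
resolution of the invariants of the ideal of the big diagonal on the symmetric cube of X = Spec A,
namely invariant functions on X³, then functions on X × X through restriction to a diagonal, then
one-forms on X; exactness at the first two places is immediate. The published statement is the sheaf
version on the symmetric cube of a smooth complex variety of any dimension; an algebraically closed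
field of characteristic zero is used here.) -/
theorem result (k : Type u) [Field k] [IsAlgClosed k] [CharZero k]
    (A : Type v) [CommRing A] [Algebra k A] [Algebra.Smooth k A] [IsDomain A]
    (r : A ⊗[k] (A ⊗[k] A) →ₗ[k] A ⊗[k] A)
    (hr : ∀ a b c : A, r (a ⊗ₜ[k] (b ⊗ₜ[k] c)) = (a * b) ⊗ₜ[k] c)
    (D : A ⊗[k] A →ₗ[k] Ω[A⁄k])
    (hD : ∀ a b : A, D (a ⊗ₜ[k] b) = (2 : A) • (a • KaehlerDifferential.D k A b) - b • KaehlerDifferential.D k A a) :
    (∀ y : A ⊗[k] A, D y = 0 ↔ ∃ x : A ⊗[k] (A ⊗[k] A),
        TensorProduct.leftComm k A A A x = x ∧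
        LinearMap.lTensor A (TensorProduct.comm k A A).toLinearMap x = x ∧ r x = y) ∧
    Function.Surjective D := by
  open Groth.Agent.DiagIdealLib in
  have hr' : ∀ x, r x = res₁₂ k A x := by
    have : r = (res₁₂ k A).toLinearMap := by
      ext a b c
      simp [hr, res₁₂_tmul]
    exact fun x => LinearMap.congr_fun this x
  open Groth.Agent.DiagIdealLib in
  have hD' : ∀ y, D y = (3 : k) • delta k A y -
      KaehlerDifferential.D k A (Algebra.TensorProduct.lmul' k (S := A) y) := by
    intro y
    have h2 : ∀ z : Ω[A⁄k], (2 : A) • z = (2 : k) • z := fun z => by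
      rw [← map_ofNat (algebraMap k A) 2, algebraMap_smul]
    induction y using TensorProduct.induction_on with
    | zero => simp
    | tmul a b =>
      rw [hD, delta_tmul, h2]
      simp [Derivation.leibniz]
      match_scalars <;> simp only [map_ofNat, map_one, map_neg] <;> ring
    | add x y hx hy => rw [map_add, hx, hy, map_add, map_add, map_add, smul_add]; abel
  open Groth.Agent.DiagIdealLib in
  have hker : ∀ y : A ⊗[k] A, y ∈ KaehlerDifferential.ideal k A →
      Algebra.TensorProduct.lmul' k (S := A) y = 0 := fun y hy => hy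
  open Groth.Agent.DiagIdealLib in
  refine ⟨fun y => ⟨fun hy => ?_, ?_⟩, fun ω => ?_⟩
  · set f := Algebra.TensorProduct.lmul' k (S := A) y with hf
    let x₀ : A ⊗[k] (A ⊗[k] A) := (3 : k)⁻¹ • (e₁ k A f + e₂ k A f + e₃ k A f)
    have hres : res₁₂ k A x₀ = (3 : k)⁻¹ • ((f ⊗ₜ[k] 1) + (f ⊗ₜ[k] 1) + (1 ⊗ₜ[k] f)) := by
      simp [x₀, e₁, e₂, e₃, res₁₂, Algebra.TensorProduct.one_def]
    set y' := y - res₁₂ k A x₀ with hy'
    have hmem : y' ∈ KaehlerDifferential.ideal k A := by
      show Algebra.TensorProduct.lmul' k (S := A) y' = 0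
      rw [hy', map_sub, ← hf, hres]
      simp only [map_smul, map_add, Algebra.TensorProduct.lmul'_apply_tmul, mul_one, one_mul]
      match_scalars
      norm_num
    have hdel : delta k A y' = 0 := by
      rw [hD', ← hf] at hy
      rw [hy', map_sub, hres]
      simp only [map_smul, map_add, delta_tmul, one_smul, Derivation.map_one_eq_zero, smul_zero,
        add_zero, zero_add]
      have h3 := congrArg (fun z : Ω[A⁄k] => (3 : k)⁻¹ • z) hy
      simp only [smul_sub, smul_smul, smul_zero] at h3
      rw [inv_mul_cancel₀ (by norm_num : (3 : k) ≠ 0), one_smul] at h3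
      exact h3
    obtain ⟨x₁, h1, h2, h3⟩ := exists_sym_lift_sq k A (mem_sq_of_delta_eq_zero k A hmem hdel)
    have hx₀ : swap₁₂ k A x₀ = x₀ ∧ swap₂₃ k A x₀ = x₀ := by
      constructor <;>
      · simp [x₀, swap₁₂, swap₂₃, pair, e₁, e₂, e₃, Algebra.TensorProduct.one_def]
        abel
    refine ⟨x₀ + (2 : k)⁻¹ • x₁, ?_, ?_, ?_⟩
    · show (TensorProduct.leftComm k A A A).toLinearMap _ = _
      rw [← swap₁₂_eq]
      simp [hx₀.1, h1]
    · rw [← swap₂₃_eq]
      simp [hx₀.2, h2]
    · rw [hr', map_add, map_smul (res₁₂ k A) (2 : k)⁻¹ x₁, h3, two_mul, ← two_smul k y', smul_smul,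
        inv_mul_cancel₀ (two_ne_zero : (2 : k) ≠ 0), one_smul, hy', add_sub_cancel]
  · rintro ⟨x, h1, h2, rfl⟩
    let L : A ⊗[k] (A ⊗[k] A) →ₗ[k] Ω[A⁄k] := D.comp r
    let s := (TensorProduct.leftComm k A A A).toLinearMap
    let t := LinearMap.lTensor A (TensorProduct.comm k A A).toLinearMap
    have hL : L + L.comp s + L.comp t + (L.comp s).comp t + (L.comp t).comp s +
        ((L.comp s).comp t).comp s = 0 := by
      ext a b c
      simp [L, s, t, hr', res₁₂_tmul, hD', delta_tmul, Derivation.leibniz, smul_smul]
      match_scalars <;> simp only [map_ofNat, map_one, map_neg] <;> ring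
    have hx := LinearMap.congr_fun hL x
    simp only [LinearMap.add_apply, LinearMap.comp_apply, LinearMap.zero_apply] at hx
    simp only [show s x = x from h1, show t x = x from h2] at hx
    have h6 : (6 : k) • L x = 0 := by rw [← hx]; module
    exact (smul_eq_zero.1 h6).resolve_left (by norm_num)
  · obtain ⟨z, hz⟩ := delta_surjective k A ((3 : k)⁻¹ • ω)
    refine ⟨z - diag k A z, ?_⟩
    rw [hD', hker _ (sub_diag_mem k A z), map_zero, sub_zero, map_sub, delta_diag, sub_zero, hz,
      smul_smul, mul_inv_cancel₀ (by norm_num : (3 : k) ≠ 0), one_smul]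

end Groth.Agent.S19212
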