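import Groth.Statements.S19213
import Groth.Agent.DiagIdealLib.Three
-- import your own Groth.Agent.* helpers here

set_option autoImplicit false
universe u v
open TensorProduct
open DiagIdeal

namespace Groth.Agent.S19213

/-- Let k be an algebraically closed field of characteristic zero and A a smooth k-algebra which is a
domain. Let r₁₂, r₂₃ : A ⊗ (A ⊗ A) → A ⊗ A be the k-linear maps a ⊗ u ⊗ v ↦ au ⊗ v and a ⊗ u ⊗ v ↦
uv ⊗ a (restriction to the diagonal of factors 1, 2, resp. 2, 3, the repeated coordinate written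
first), let m : A ⊗ A → A be multiplication, and let ψ : (A ⊗ A) × (A ⊗ A) → Ω_{A/k} be the k-linear
map with ψ(a ⊗ u, b ⊗ v) = 2a·du − v·db. Then for p, q in A ⊗ A with m p = m q one has ψ(p, q) = 0
if and only if (p, q) = (r₁₂ x, r₂₃ x) for some x fixed by the swap of the last two tensor factors;
and every element of Ω_{A/k} is ψ(p, q) for some pair with m p = m q. (This is exactness at the last
two places of the right resolution, on the symmetric cube of X = Spec A, of the invariants of the
ideal of the big diagonal under the transposition of the last two factors; exactness at the first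
two places is immediate. The published statement is the sheaf version for a smooth complex variety
of any dimension; an algebraically closed field of characteristic zero is used here.) -/
theorem result (k : Type u) [Field k] [IsAlgClosed k] [CharZero k]
    (A : Type v) [CommRing A] [Algebra k A] [Algebra.Smooth k A] [IsDomain A]
    (r₁₂ r₂₃ : A ⊗[k] (A ⊗[k] A) →ₗ[k] A ⊗[k] A)
    (h₁₂ : ∀ a u v : A, r₁₂ (a ⊗ₜ[k] (u ⊗ₜ[k] v)) = (a * u) ⊗ₜ[k] v)
    (h₂₃ : ∀ a u v : A, r₂₃ (a ⊗ₜ[k] (u ⊗ₜ[k] v)) = (u * v) ⊗ₜ[k] a)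
    (ψ : (A ⊗[k] A) × (A ⊗[k] A) →ₗ[k] Ω[A⁄k])
    (hψ : ∀ a u b v : A, ψ (a ⊗ₜ[k] u, b ⊗ₜ[k] v) =
      (2 : A) • (a • KaehlerDifferential.D k A u) - v • KaehlerDifferential.D k A b) :
    (∀ p q : A ⊗[k] A, LinearMap.mul' k A p = LinearMap.mul' k A q →
      (ψ (p, q) = 0 ↔ ∃ x : A ⊗[k] (A ⊗[k] A),
        LinearMap.lTensor A (TensorProduct.comm k A A).toLinearMap x = x ∧ r₁₂ x = p ∧ r₂₃ x = q)) ∧
    (∀ ω : Ω[A⁄k], ∃ p q : A ⊗[k] A, LinearMap.mul' k A p = LinearMap.mul' k A q ∧ ψ (p, q) = ω) := by
  open Groth.Agent.DiagIdealLib in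
  have h₁₂' : ∀ x, r₁₂ x = res₁₂ k A x := by
    have : r₁₂ = (res₁₂ k A).toLinearMap := by ext a b c; simp [h₁₂, res₁₂_tmul]
    exact fun x => LinearMap.congr_fun this x
  open Groth.Agent.DiagIdealLib in
  have h₂₃' : ∀ x, r₂₃ x = res₂₃ k A x := by
    have : r₂₃ = (res₂₃ k A).toLinearMap := by ext a b c; simp [h₂₃, res₂₃_tmul]
    exact fun x => LinearMap.congr_fun this x
  open Groth.Agent.DiagIdealLib in
  have hψ' : ∀ p q, ψ (p, q) = (2 : k) • delta k A p + delta k A q -
      KaehlerDifferential.D k A (Algebra.TensorProduct.lmul' k (S := A) q) := by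
    intro p q
    have h2 : ∀ z : Ω[A⁄k], (2 : A) • z = (2 : k) • z := fun z => by
      rw [← map_ofNat (algebraMap k A) 2, algebraMap_smul]
    have hp : ψ (p, 0) = (2 : k) • delta k A p := by
      have : ψ.comp (LinearMap.inl k (A ⊗[k] A) (A ⊗[k] A)) = (2 : k) • delta k A := by
        ext a b
        have := hψ a b 0 0
        simp [delta_tmul, h2] at this ⊢
        exact this
      exact LinearMap.congr_fun this p
    have hq : ψ (0, q) = delta k A q -
        KaehlerDifferential.D k A (Algebra.TensorProduct.lmul' k (S := A) q) := by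
      induction q using TensorProduct.induction_on with
      | zero => simp [← Prod.zero_eq_mk]
      | tmul a b =>
        have := hψ 0 0 a b
        simp [delta_tmul] at this ⊢
        rw [this]
      | add x y hx hy =>
        rw [show ((0 : A ⊗[k] A), x + y) = (0, x) + (0, y) by simp, map_add, hx, hy, map_add,
          map_add, map_add]
        abel
    rw [show (p, q) = (p, 0) + (0, q) by simp, map_add, hp, hq]
    abel
  open Groth.Agent.DiagIdealLib in
  refine ⟨fun p q hpq => ⟨fun h0 => ?_, ?_⟩, fun ω => ?_⟩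
  · have hpq' : Algebra.TensorProduct.lmul' k (S := A) p = Algebra.TensorProduct.lmul' k (S := A) q :=
      hpq
    set f := Algebra.TensorProduct.lmul' k (S := A) p with hf
    let x₀ : A ⊗[k] (A ⊗[k] A) := (2 : k)⁻¹ • (e₂ k A f + e₃ k A f)
    have hp₀ : res₁₂ k A x₀ = (2 : k)⁻¹ • ((f ⊗ₜ[k] 1) + (1 ⊗ₜ[k] f)) := by
      simp [x₀, e₂, e₃, res₁₂, Algebra.TensorProduct.one_def]
    have hq₀ : res₂₃ k A x₀ = f ⊗ₜ[k] 1 := by
      simp [x₀, e₂, e₃, res₂₃]
      match_scalars
      norm_num
    set p' := p - res₁₂ k A x₀ with hp'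
    have hp'mem : p' ∈ KaehlerDifferential.ideal k A := by
      show Algebra.TensorProduct.lmul' k (S := A) p' = 0
      rw [hp', map_sub, ← hf, hp₀]
      simp only [map_smul, map_add, Algebra.TensorProduct.lmul'_apply_tmul, mul_one, one_mul]
      match_scalars
      norm_num
    let x₁ : A ⊗[k] (A ⊗[k] A) := pair k A (e₁ k A) (e₂ k A) p' + pair k A (e₁ k A) (e₃ k A) p'
    have hp₁ : res₁₂ k A x₁ = p' := by
      rw [map_add, res_pair k A _ _ _ (diag k A) (fun a b => by simp [res₁₂, diag, e₁, e₂]),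
        res_pair k A _ _ _ (AlgHom.id k _) (fun a b => by simp [res₁₂, e₁, e₃]),
        diag_eq_zero k A hp'mem, zero_add, AlgHom.id_apply]
    have hq₁ : res₂₃ k A x₁ = TensorProduct.comm k A A p' + TensorProduct.comm k A A p' := by
      rw [map_add, res_pair k A _ _ _ (Algebra.TensorProduct.comm k A A).toAlgHom
          (fun a b => by simp [res₂₃, e₁, e₂]),
        res_pair k A _ _ _ (Algebra.TensorProduct.comm k A A).toAlgHom
          (fun a b => by simp [res₂₃, e₁, e₃])]
      rfl
    set q' := q - res₂₃ k A x₀ - res₂₃ k A x₁ with hq'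
    have hq'mem : q' ∈ KaehlerDifferential.ideal k A := by
      show Algebra.TensorProduct.lmul' k (S := A) q' = 0
      have : ∀ z : A ⊗[k] A, Algebra.TensorProduct.lmul' k (S := A) (TensorProduct.comm k A A z) =
          Algebra.TensorProduct.lmul' k (S := A) z := by
        intro z
        induction z using TensorProduct.induction_on with
        | zero => simp
        | tmul a b => simp [mul_comm]
        | add x y hx hy => simp [hx, hy]
      rw [hq', map_sub, map_sub, ← hpq', hq₀, hq₁, map_add, this,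
        show Algebra.TensorProduct.lmul' k (S := A) p' = 0 from hp'mem]
      simp
    have hdel : delta k A q' = 0 := by
      rw [hψ', ← hpq'] at h0
      rw [hq', map_sub, map_sub, hq₀, hq₁, map_add, delta_comm,
        show Algebra.TensorProduct.lmul' k (S := A) p' = 0 from hp'mem, hp', map_sub, hp₀]
      simp only [map_smul, map_add, map_zero, delta_tmul, one_smul, Derivation.map_one_eq_zero,
        smul_zero, zero_add]
      linear_combination (norm := module) h0
    obtain ⟨x₂, h1, h2, h3⟩ := exists_lift_sq k A (mem_sq_of_delta_eq_zero k A hq'mem hdel)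
    refine ⟨x₀ + x₁ + (2 : k)⁻¹ • x₂, ?_, ?_, ?_⟩
    · rw [← swap₂₃_eq]
      have hx₀ : swap₂₃ k A x₀ = x₀ := by
        simp [x₀, swap₂₃, pair, e₁, e₂, e₃, Algebra.TensorProduct.one_def]
        abel
      have a1 : ∀ a, swap₂₃ k A (e₁ k A a) = e₁ k A a := fun a => by
        simp [swap₂₃, pair, e₁, e₂, e₃, Algebra.TensorProduct.one_def]
      have a2 : ∀ a, swap₂₃ k A (e₂ k A a) = e₃ k A a := fun a => by
        simp [swap₂₃, pair, e₁, e₂, e₃, Algebra.TensorProduct.one_def]
      have a3 : ∀ a, swap₂₃ k A (e₃ k A a) = e₂ k A a := fun a => by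
        simp [swap₂₃, pair, e₁, e₂, e₃, Algebra.TensorProduct.one_def]
      have hx₁ : swap₂₃ k A x₁ = x₁ := by
        rw [map_add, comp_pair k A _ _ _ _ _ a1 a2, comp_pair k A _ _ _ _ _ a1 a3, add_comm]
      simp [hx₀, hx₁, h1]
    · rw [h₁₂', map_add, map_add, map_smul (res₁₂ k A) (2 : k)⁻¹ x₂, h2, smul_zero, add_zero, hp₁, hp', add_sub_cancel]
    · rw [h₂₃', map_add, map_add, map_smul (res₂₃ k A) (2 : k)⁻¹ x₂, h3, two_mul, ← two_smul k q', smul_smul,
        inv_mul_cancel₀ (two_ne_zero : (2 : k) ≠ 0), one_smul, hq']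
      abel
  · rintro ⟨x, hx, rfl, rfl⟩
    let L : A ⊗[k] (A ⊗[k] A) →ₗ[k] Ω[A⁄k] := ψ.comp (r₁₂.prod r₂₃)
    let t := LinearMap.lTensor A (TensorProduct.comm k A A).toLinearMap
    have hL : L + L.comp t = 0 := by
      ext a b c
      simp [L, t, h₁₂', h₂₃', res₁₂_tmul, res₂₃_tmul, hψ', delta_tmul, Derivation.leibniz, smul_smul]
      match_scalars <;> (try simp only [map_ofNat, map_one, map_neg]) <;> ring
    have hx' := LinearMap.congr_fun hL x
    simp only [LinearMap.add_apply, LinearMap.comp_apply, LinearMap.zero_apply,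
      show t x = x from hx] at hx'
    have h2 : (2 : k) • L x = 0 := by rw [← hx']; module
    exact (smul_eq_zero.1 h2).resolve_left two_ne_zero
  · obtain ⟨z, hz⟩ := delta_surjective k A ((2 : k)⁻¹ • ω)
    refine ⟨z - diag k A z, 0, ?_, ?_⟩
    · rw [map_zero]; exact sub_diag_mem k A z
    · rw [hψ', map_zero, map_zero, map_zero, map_sub, delta_diag, sub_zero, hz, add_zero, sub_zero,
        smul_smul, mul_inv_cancel₀ (two_ne_zero : (2 : k) ≠ 0), one_smul]

end Groth.Agent.S19213
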