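import Groth.Statements.S19217
import Groth.Agent.DiagPowLib.Basic
import Groth.Agent.LocCohLib.Depth
import Groth.Agent.LocCohLib.Basic
import Groth.Agent.S14359
import Groth.Agent.PurityLib.Normal
-- import your own Groth.Agent.* helpers here

set_option autoImplicit false
set_option backward.isDefEq.respectTransparency false
set_option linter.style.haveILetI false
set_option maxHeartbeats 1000000
set_option synthInstance.maxHeartbeats 100000
universe u
open TensorProduct CategoryTheory CategoryTheory.Limits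
open DiagIdeal Groth.Agent

namespace Groth.Agent.S19217

/-- Sections supported on a closed set of a submodule. -/
theorem h0_sub {R : Type u} [CommRing R] (J : Ideal R) {N N' : ModuleCat.{u} R} (g : N ⟶ N')
    (hg : Function.Injective g.hom) (h : Subsingleton ((localCohomology J 0).obj N' : Type u)) :
    Subsingleton ((localCohomology J 0).obj N : Type u) :=
  subsingleton_of_forall_eq 0 fun v => LocCohLib.h0_injective (hg (by
    rw [← LocCohLib.h0_map, Subsingleton.elim (((localCohomology J 0).map g).hom v) 0, map_zero, map_zero,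
      map_zero]))

/-- Let k be an algebraically closed field of characteristic zero and A a smooth k-algebra which is a
domain of Krull dimension 2 (an affine piece of a smooth surface). In the n-fold tensor power R of A
over k, indexed by Fin n, let I_p (p = (i, j), i < j) be the ideal generated by the a_i − a_j, a ∈
A, the ideal of the diagonal of factors i and j; let M be the intersection of the powers I_p ^ ℓ(p)
over all p with i < j, for arbitrary exponents ℓ; and let 𝔞 be the intersection, over all pairs of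
distinct index pairs p ≠ q, of I_p + I_q (an ideal cutting out the locus W where two distinct
pairwise diagonals meet, of codimension 4). Then the local cohomology modules of M with support in 𝔞
vanish in degrees 0 and 1; equivalently M, as a sheaf on Spec R, coincides with the direct image of
its restriction to the complement of W. (The source states this for the product of copies of a
smooth quasi-projective complex surface, as the equality of the direct image from the complement of
W of the restricted product of the powers of the diagonal ideals with the intersection of those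
powers; the two sheaves agree away from W, where the diagonals are pairwise disjoint.) -/
theorem result (k : Type u) [Field k] [IsAlgClosed k] [CharZero k]
    (A : Type u) [CommRing A] [Algebra k A] [Algebra.Smooth k A] [IsDomain A]
    (hdim : ringKrullDim A = 2) (n : ℕ) (ℓ : Fin n × Fin n → ℕ)
    (I : Fin n × Fin n → Ideal (⨂[k] _ : Fin n, A))
    (hI : ∀ p, I p = Ideal.span (Set.range fun a : A =>
        PiTensorProduct.singleAlgHom (R := k) (A := fun _ : Fin n => A) p.1 a -
        PiTensorProduct.singleAlgHom (R := k) (A := fun _ : Fin n => A) p.2 a))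
    (𝔞 : Ideal (⨂[k] _ : Fin n, A))
    (h𝔞 : 𝔞 = ⨅ pq ∈ Finset.univ.filter (fun pq : (Fin n × Fin n) × (Fin n × Fin n) =>
        pq.1.1 < pq.1.2 ∧ pq.2.1 < pq.2.2 ∧ pq.1 ≠ pq.2), I pq.1 ⊔ I pq.2)
    (M : Submodule (⨂[k] _ : Fin n, A) (⨂[k] _ : Fin n, A))
    (hM : M = ⨅ p ∈ Finset.univ.filter (fun p : Fin n × Fin n => p.1 < p.2), (I p) ^ (ℓ p)) :
    IsZero ((localCohomology 𝔞 0).obj (ModuleCat.of (⨂[k] _ : Fin n, A) M)) ∧
    IsZero ((localCohomology 𝔞 1).obj (ModuleCat.of (⨂[k] _ : Fin n, A) M)) := by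
  classical
  haveI := DiagPowLib.isDomain_pow k A n
  haveI := DiagPowLib.smooth_pow k A n
  haveI : IsNoetherianRing (⨂[k] _ : Fin n, A) := Algebra.FiniteType.isNoetherianRing k _
  haveI : IsIntegrallyClosed (⨂[k] _ : Fin n, A) := IsIntegrallyClosed.of_localization_maximal fun q _ hq => by
    haveI := DiagThreeLib.isRegularLocalRing_of_smooth k (⨂[k] _ : Fin n, A) q
    exact (PurityLib.isIntegrallyClosed_of_regular (Localization.AtPrime q)).2
  obtain ⟨x, hx⟩ := DiagPowLib.exists_points k A (by rw [hdim]; decide) n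
  have hID : ∀ p, I p = DiagPowLib.diag k A p.1 p.2 := hI
  -- the diagonals are smooth primes
  have hprime : ∀ p : Fin n × Fin n, p.1 < p.2 → (I p).IsPrime ∧ ∀ (z : ⨂[k] _ : Fin n, A) (l : ℕ) (y : ⨂[k] _ : Fin n, A),
      z ∉ I p → z * y ∈ I p ^ l → y ∈ I p ^ l := fun p hp => by
    rcases n with _ | m
    · exact p.1.elim0
    rw [hID]
    obtain ⟨e⟩ := DiagPowLib.exists_quot_equiv k A p.1 p.2 hp.ne
    haveI := DiagPowLib.isDomain_pow k A m
    haveI := DiagPowLib.smooth_pow k A m
    haveI : IsDomain ((⨂[k] _ : Fin (m + 1), A) ⧸ DiagPowLib.diag k A p.1 p.2) := e.toMulEquiv.isDomain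
    have hP : (DiagPowLib.diag k A p.1 p.2).IsPrime := (Ideal.Quotient.isDomain_iff_prime _).1 inferInstance
    exact ⟨hP, fun z l y hz hy => DiagPowLib.mem_pow_of_mul_mem k _ (DiagPowLib.Pow k A m) e hz l hy⟩
  -- points in general position
  have hpoint : ∀ p : Fin n × Fin n, p.1 < p.2 → ∀ q : Fin n × Fin n, q.1 < q.2 → q ≠ p → ¬ I q ≤ I p := by
    intro p hp q hq hqp hle
    let y : Fin n → (A →ₐ[k] k) := fun l => if l = p.2 then x p.1 else x l
    have h1 : I p ≤ RingHom.ker (DiagPowLib.liftN k A y) := by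
      rw [hID]
      exact DiagPowLib.diag_le_ker k A y _ _ (by simp [y, hp.ne])
    have h2 : y q.1 = y q.2 := by
      refine AlgHom.ext fun a => ?_
      have h3 : DiagPowLib.s k A q.1 a - DiagPowLib.s k A q.2 a ∈ I q := by
        rw [hID]; exact Ideal.subset_span ⟨a, rfl⟩
      have h4 := RingHom.mem_ker.1 (h1 (hle h3))
      simpa [sub_eq_zero] using h4
    refine hqp ?_
    simp only [y] at h2
    split_ifs at h2 with ha hb hb
    · exact absurd (ha.trans hb.symm) hq.ne
    · have h5 : p.1 = q.2 := hx h2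
      exfalso
      rw [ha, ← h5] at hq
      exact absurd hq (not_lt.2 hp.le)
    · exact Prod.ext (hx h2) hb
    · exact absurd (hx h2) hq.ne
  have hne : ∀ p : Fin n × Fin n, p.1 < p.2 → I p ≠ ⊥ := fun p hp h0 => by
    have h2 : x p.1 = x p.2 := AlgHom.ext fun a => by
      have h3 : DiagPowLib.s k A p.1 a - DiagPowLib.s k A p.2 a ∈ I p := by
        rw [hID]; exact Ideal.subset_span ⟨a, rfl⟩
      rw [h0, Ideal.mem_bot, sub_eq_zero] at h3
      simpa using congrArg (DiagPowLib.liftN k A x) h3
    exact hp.ne (hx h2)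
  have hout : ∀ P : Ideal (⨂[k] _ : Fin n, A), P.IsPrime →
      (∀ q r : Fin n × Fin n, q.1 < q.2 → r.1 < r.2 → q ≠ r → I q ⊔ I r ≤ P → False) → ¬ 𝔞 ≤ P := fun P hP hcon hle => by
    rw [h𝔞, ← Finset.inf_eq_iInf] at hle
    obtain ⟨⟨q, r⟩, hqr, hqr'⟩ := hP.inf_le'.1 hle
    simp only [Finset.mem_filter, Finset.mem_univ, true_and] at hqr
    exact hcon q r hqr.1 hqr.2.1 hqr.2.2 hqr'
  -- no torsion in the quotient
  have hQ : Subsingleton ((localCohomology 𝔞 0).obj (ModuleCat.of (⨂[k] _ : Fin n, A) ((⨂[k] _ : Fin n, A) ⧸ M)) : Type u) := by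
    haveI : Subsingleton (DRing.torsionSub 𝔞 ((⨂[k] _ : Fin n, A) ⧸ M)) := by
      refine subsingleton_of_forall_eq 0 fun w => Subtype.ext ?_
      obtain ⟨w, N, hN⟩ := w
      obtain ⟨w, rfl⟩ := Submodule.Quotient.mk_surjective M w
      refine (Submodule.Quotient.mk_eq_zero M).2 ?_
      rw [hM, Submodule.mem_iInf]
      intro p
      rw [Submodule.mem_iInf]
      intro hp
      simp only [Finset.mem_filter, Finset.mem_univ, true_and] at hp
      obtain ⟨hP, hreg⟩ := hprime p hp
      have hnot : ¬ 𝔞 ≤ I p := hout _ hP fun q r hq hr hqr hle => by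
        by_cases hqp : q = p
        · exact hpoint p hp r hr (fun h => hqr (hqp.trans h.symm)) (le_sup_right.trans hle)
        · exact hpoint p hp q hq hqp (le_sup_left.trans hle)
      obtain ⟨z, hz, hzp⟩ := SetLike.not_le_iff_exists.mp hnot
      have hzw := hN (z ^ N) (Ideal.pow_mem_pow hz N)
      rw [← Submodule.Quotient.mk_smul, Submodule.Quotient.mk_eq_zero, smul_eq_mul, hM, Submodule.mem_iInf] at hzw
      have hzw' := (Submodule.mem_iInf _).1 (hzw p) (by simp [hp])
      exact hreg _ _ _ (fun h => hzp (hP.mem_of_pow_mem N h)) hzw'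
    exact (LocCohLib.h0Equiv 𝔞 (ModuleCat.of (⨂[k] _ : Fin n, A) ((⨂[k] _ : Fin n, A) ⧸ M))).toEquiv.subsingleton
  -- a regular sequence of length two
  obtain ⟨z, hz, hz0⟩ : ∃ z ∈ 𝔞, z ≠ (0 : ⨂[k] _ : Fin n, A) := by
    by_contra! hcon
    exact hout ⊥ Ideal.isPrime_bot (fun q r hq _ _ hle => hne q hq (le_bot_iff.1 (le_sup_left.trans hle)))
      (fun w hw => hcon w hw)
  obtain ⟨w, hw, hwreg⟩ : ∃ w ∈ 𝔞, IsSMulRegular ((⨂[k] _ : Fin n, A) ⧸ Ideal.span {z}) w := by
    by_contra! hcon
    have hsub : (𝔞 : Set (⨂[k] _ : Fin n, A)) ⊆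
        ⋃ P ∈ associatedPrimes (⨂[k] _ : Fin n, A) ((⨂[k] _ : Fin n, A) ⧸ Ideal.span {z}), (P : Set _) := fun w hw => by
      rw [biUnion_associatedPrimes_eq_compl_regular (⨂[k] _ : Fin n, A) ((⨂[k] _ : Fin n, A) ⧸ Ideal.span {z})]
      exact hcon w hw
    obtain ⟨P, hP, hle⟩ := (Ideal.subset_union_prime_finite
      (associatedPrimes.finite (⨂[k] _ : Fin n, A) ((⨂[k] _ : Fin n, A) ⧸ Ideal.span {z})) ⊥ ⊥
      fun P hP _ _ => hP.isPrime).1 hsub
    have hPp : P.IsPrime := hP.isPrime
    have hh := S14359.result _ z hz0 P hP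
    refine hout P hPp (fun q r hq hr hqr hle' => ?_) hle
    obtain ⟨hqP, -⟩ := hprime q hq
    have h1 : (⊥ : Ideal (⨂[k] _ : Fin n, A)) < I q := bot_lt_iff_ne_bot.2 (hne q hq)
    have h2 : I q < P := lt_of_le_of_ne (le_sup_left.trans hle') fun h => hpoint q hq r hr (Ne.symm hqr)
      ((le_sup_right.trans hle').trans h.ge)
    haveI := hqP
    haveI : (⊥ : Ideal (⨂[k] _ : Fin n, A)).IsPrime := Ideal.isPrime_bot
    have h3 := Ideal.height_strict_mono_of_isPrime h1
    have h4 := Ideal.height_strict_mono_of_isPrime h2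
    rw [hh, ENat.lt_one_iff_eq_zero] at h4
    rw [h4] at h3
    exact not_lt_zero' h3
  have hreg : RingTheory.Sequence.IsWeaklyRegular (ModuleCat.of (⨂[k] _ : Fin n, A) (⨂[k] _ : Fin n, A)) [z, w] := by
    rw [RingTheory.Sequence.isWeaklyRegular_cons_iff, RingTheory.Sequence.isWeaklyRegular_singleton_iff]
    refine ⟨fun a b h => mul_left_cancel₀ hz0 h, ?_⟩
    have hU : Ideal.span {z} = (Ideal.span {z} : Ideal (⨂[k] _ : Fin n, A)) •
        (⊤ : Submodule (⨂[k] _ : Fin n, A) (⨂[k] _ : Fin n, A)) := by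
      simp
    rw [Submodule.ideal_span_singleton_smul] at hU
    exact (LinearEquiv.isSMulRegular_congr (Submodule.quotEquivOfEq _ _ hU) w).1 hwreg
  have hR : ∀ i, i < 2 → Subsingleton
      ((localCohomology 𝔞 i).obj (ModuleCat.of (⨂[k] _ : Fin n, A) (⨂[k] _ : Fin n, A)) : Type u) := fun i hi =>
    LocCohLib.subsingleton_of_isWeaklyRegular 𝔞 _ [z, w] hreg (by simp [hz, hw]) i hi
  let S : ShortComplex (ModuleCat.{u} (⨂[k] _ : Fin n, A)) :=
    ShortComplex.mk (ModuleCat.ofHom M.subtype) (ModuleCat.ofHom M.mkQ) (by ext v; exact (Submodule.Quotient.mk_eq_zero M).2 v.2)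
  have hS : S.ShortExact :=
    { exact := (ShortComplex.moduleCat_exact_iff_range_eq_ker S).2 (by simp [S])
      mono_f := (ModuleCat.mono_iff_injective _).2 M.injective_subtype
      epi_g := (ModuleCat.epi_iff_surjective _).2 M.mkQ_surjective }
  refine ⟨?_, ?_⟩
  · haveI : Subsingleton ((localCohomology 𝔞 0).obj (ModuleCat.of (⨂[k] _ : Fin n, A) M) : Type u) := by
      exact h0_sub 𝔞 S.f M.injective_subtype (hR 0 (by omega))
    exact ModuleCat.isZero_of_subsingleton _
  · haveI : Subsingleton ((localCohomology 𝔞 1).obj (ModuleCat.of (⨂[k] _ : Fin n, A) M) : Type u) :=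
      LocCohLib.subsingleton_left 𝔞 hS 0 hQ (hR 1 (by omega))
    exact ModuleCat.isZero_of_subsingleton _

end Groth.Agent.S19217
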