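import Groth.Statements.S19218
import Mathlib

set_option autoImplicit false
universe u v
open TensorProduct
open DiagIdeal

namespace Groth.Agent.S19218

open scoped BigOperators

theorem sign_congr {R : Type v} [CommRing R] (τ : R →+* R) (G : Set R)
    (hτ : ∀ r, τ r - r ∈ Ideal.span G) (hG : ∀ g ∈ G, τ g = -g) :
    ∀ s x, x ∈ (Ideal.span G) ^ s → τ x - (-1) ^ s * x ∈ (Ideal.span G) ^ (s + 1) := by
  set P := Ideal.span G
  have hP : ∀ b, b ∈ P → τ b + b ∈ P * P := by
    intro b hb
    refine Submodule.span_induction ?_ (by simp) ?_ ?_ hb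
    · intro g hg; simp [hG g hg]
    · intro a b _ _ ha hb
      rw [map_add, add_add_add_comm]; exact add_mem ha hb
    · intro r b hb ih
      have hτb : τ b ∈ P := by
        have := P.sub_mem (Ideal.mul_le_left ih) hb
        simpa using this
      show τ (r * b) + r * b ∈ _
      have e : τ (r * b) + r * b = (τ r - r) * τ b + r * (τ b + b) := by rw [map_mul]; ring
      rw [e]
      exact add_mem (Ideal.mul_mem_mul (hτ r) hτb) (Ideal.mul_mem_left _ _ ih)
  intro s
  induction s with
  | zero => intro x _; simpa using hτ x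
  | succ s ih =>
    intro x hx
    rw [pow_succ] at hx
    refine Submodule.mul_induction_on hx (fun a ha b hb => ?_) (fun a b ha hb => ?_)
    · have hτb : τ b ∈ P := by
        have := P.sub_mem (Ideal.mul_le_left (hP b hb)) hb
        simpa using this
      have e : τ (a * b) - (-1) ^ (s + 1) * (a * b) =
          (τ a - (-1) ^ s * a) * τ b + (-1) ^ s * (a * (τ b + b)) := by rw [map_mul, pow_succ]; ring
      rw [e]
      refine add_mem ?_ (Ideal.mul_mem_left _ _ ?_)
      · rw [pow_succ _ (s + 1)]; exact Ideal.mul_mem_mul (ih a ha) hτb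
      · rw [add_assoc, pow_add, pow_two]; exact Ideal.mul_mem_mul ha (hP b hb)
    · rw [map_add, mul_add, add_sub_add_comm]; exact add_mem ha hb

/-- Let k be an algebraically closed field of characteristic zero and A a smooth k-algebra which is a
domain of Krull dimension 2. In the n-fold tensor power R of A over k, indexed by Fin n, let I_p (p
= (i, j), i < j) be the ideal generated by the a_i − a_j, a ∈ A, and let I be the intersection of
the I_p, the ideal of the big diagonal. Assume that for every s ≥ 0 the power I ^ s is the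
intersection of the powers I_p ^ s (a property of the big diagonal of a smooth surface that the
source takes from the literature). Then for m ≥ 1 every element of R fixed by all permutations of
the n factors and lying in I ^ (2m − 1) lies in I ^ (2m): on the symmetric product the invariants of
the odd power and of the next even power of the ideal of the big diagonal coincide. (The source
states the sheaf version for a smooth quasi-projective complex surface, using the displayed property
of the powers without restating it as a hypothesis.) -/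
theorem result (k : Type u) [Field k] [IsAlgClosed k] [CharZero k]
    (A : Type v) [CommRing A] [Algebra k A] [Algebra.Smooth k A] [IsDomain A]
    (hdim : ringKrullDim A = 2) (n : ℕ)
    (I : Fin n × Fin n → Ideal (⨂[k] _ : Fin n, A))
    (hI : ∀ p, I p = Ideal.span (Set.range fun a : A =>
        PiTensorProduct.singleAlgHom (R := k) (A := fun _ : Fin n => A) p.1 a -
        PiTensorProduct.singleAlgHom (R := k) (A := fun _ : Fin n => A) p.2 a))
    (IΔ : Ideal (⨂[k] _ : Fin n, A))
    (hIΔ : IΔ = ⨅ p ∈ Finset.univ.filter (fun p : Fin n × Fin n => p.1 < p.2), I p)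
    (hpow : ∀ s : ℕ, IΔ ^ s = ⨅ p ∈ Finset.univ.filter (fun p : Fin n × Fin n => p.1 < p.2), (I p) ^ s)
    (m : ℕ) (hm : 1 ≤ m) (x : ⨂[k] _ : Fin n, A)
    (hx : ∀ σ : Equiv.Perm (Fin n), PiTensorProduct.reindex k (fun _ : Fin n => A) σ x = x)
    (hmem : x ∈ IΔ ^ (2 * m - 1)) :
    x ∈ IΔ ^ (2 * m) := by
  classical
  rw [hpow] at hmem ⊢
  simp only [Ideal.mem_iInf] at hmem ⊢
  intro p hp
  have hxp := hmem p hp
  obtain ⟨i, j⟩ := p
  let L : (⨂[k] _ : Fin n, A) →ₗ[k] ⨂[k] _ : Fin n, A :=
    (PiTensorProduct.reindex k (fun _ : Fin n => A) (Equiv.swap i j)).toLinearMap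
  have hone : L 1 = 1 := by
    show PiTensorProduct.reindex k (fun _ : Fin n => A) (Equiv.swap i j) (PiTensorProduct.tprod k 1) = _
    rw [PiTensorProduct.reindex_tprod]; rfl
  have hmul : ∀ a b, L (a * b) = L a * L b := LinearMap.map_mul_iff L |>.mpr <| by
    refine PiTensorProduct.ext (MultilinearMap.ext fun a => PiTensorProduct.ext (MultilinearMap.ext fun b => ?_))
    simp only [LinearMap.compMultilinearMap_apply, LinearMap.compr₂_apply, LinearMap.compl₂_apply,
      LinearMap.coe_comp, Function.comp_apply, LinearMap.mul_apply', PiTensorProduct.tprod_mul_tprod, L,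
      LinearEquiv.coe_coe, PiTensorProduct.reindex_tprod]
    rfl
  let τ : (⨂[k] _ : Fin n, A) →ₐ[k] ⨂[k] _ : Fin n, A := AlgHom.ofLinearMap L hone hmul
  let e : Fin n → A →ₐ[k] ⨂[k] _ : Fin n, A := fun l => PiTensorProduct.singleAlgHom (R := k) (A := fun _ : Fin n => A) l
  have hs : ∀ l a, τ (e l a) = e (Equiv.swap i j l) a := by
    intro l a
    show L (PiTensorProduct.tprod k (MonoidHom.mulSingle (fun _ : Fin n => A) l a)) = PiTensorProduct.tprod k (MonoidHom.mulSingle (fun _ : Fin n => A) (Equiv.swap i j l) a)
    simp only [L, LinearEquiv.coe_coe, PiTensorProduct.reindex_tprod, MonoidHom.mulSingle_apply]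
    congr 1
    funext q
    simp only [Pi.mulSingle_apply, Equiv.symm_swap, Equiv.apply_eq_iff_eq_symm_apply]
  have hτ : ∀ r, τ r - r ∈ I (i, j) := by
    have : ((Ideal.Quotient.mkₐ k (I (i, j))).comp τ) = Ideal.Quotient.mkₐ k (I (i, j)) := by
      refine PiTensorProduct.algHom_ext fun l => AlgHom.ext fun a => ?_
      show Ideal.Quotient.mk _ (τ (e l a)) = Ideal.Quotient.mk _ (e l a)
      rw [hs, Ideal.Quotient.mk_eq_mk_iff_sub_mem, hI]
      by_cases hl : l = i
      · subst hl; rw [Equiv.swap_apply_left, ← neg_sub]; exact neg_mem (Ideal.subset_span ⟨a, rfl⟩)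
      · by_cases hl' : l = j
        · subst hl'; rw [Equiv.swap_apply_right]; exact Ideal.subset_span ⟨a, rfl⟩
        · rw [Equiv.swap_apply_of_ne_of_ne hl hl', sub_self]; exact zero_mem _
    intro r
    exact (Ideal.Quotient.mk_eq_mk_iff_sub_mem _ _).1 (DFunLike.congr_fun this r)
  have key := sign_congr τ.toRingHom (Set.range fun a : A => e i a - e j a)
    (fun r => by have := hτ r; rwa [hI] at this) (by
      rintro _ ⟨a, rfl⟩
      show τ (e i a - e j a) = _
      rw [map_sub, hs, hs, Equiv.swap_apply_left, Equiv.swap_apply_right, neg_sub]) (2 * m - 1) x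
    (by rw [hI] at hxp; exact hxp)
  have hτx : τ x = x := hx _
  rw [AlgHom.toRingHom_eq_coe, RingHom.coe_coe, hτx, (Nat.Even.sub_odd (by omega) (even_two_mul m) odd_one).neg_one_pow,
    show 2 * m - 1 + 1 = 2 * m by omega] at key
  rw [hI]
  have h2 : IsUnit (algebraMap k (⨂[k] _ : Fin n, A) 2) := (isUnit_iff_ne_zero.2 (two_ne_zero' k)).map _
  rw [← Ideal.unit_mul_mem_iff_mem _ h2]
  convert key using 1
  rw [map_ofNat]; ring

end Groth.Agent.S19218
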