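import Groth.Statements.S19221
import Mathlib
-- import your own Groth.Agent.* helpers here

set_option autoImplicit false
universe u
open SymRep

namespace Groth.Agent.S19221

/-- Let k be a field of characteristic zero and F the k-space of functions Fin 2 → Fin 4 → Fin 4 → k,
with the symmetric group of Fin 4 acting through P σ f c a b = f c (σ⁻¹ a) (σ⁻¹ b). The signed edge
vectors of the complete graph on four vertices live in F as the functions antisymmetric in the two
vertex arguments, and for a colour c and an oriented 3-cycle i → j → l → i the cycle vector z c i j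
l is the function equal, in colour c, to +1 at (i,j), (j,l), (l,i), to −1 at (j,i), (l,j), (i,l) and
to 0 elsewhere (and 0 in the other colour); these cycle vectors span k² ⊗ (cycle space), the
representation written C² ⊗ q in the published text. Let Γ be the graph with edges 01, 02, 03, 12,
23 (a 4-cycle with one chord), whose cycle space is spanned by the cycles (0,1,2) and (0,2,3), and
let ω be the product in the exterior algebra of F of the four vectors z 0 0 1 2, z 1 0 1 2, z 0 0 2
3, z 1 0 2 3 (a generator of the top exterior power of k² ⊗ q_Γ). Then ω is fixed by the stabiliser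
of Γ in the symmetric group (generated by the transpositions (0 2) and (1 3)), and the sum over all
24 permutations σ of the images of ω under the maps induced by P σ is nonzero: the projection of ω
to the invariants of the fourth exterior power of k² ⊗ q_{K₄} does not vanish. (The published
statement is over the complex numbers; a field of characteristic zero is used here. The published
statement also asserts that this map is an isomorphism onto the one-dimensional space of
S₄-invariants of the fourth exterior power of k² ⊗ q_{K₄}; only its non-vanishing is stated here.) -/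
theorem result (k : Type u) [Field k] [CharZero k]
    (P : Equiv.Perm (Fin 4) → ((Fin 2 → Fin 4 → Fin 4 → k) →ₗ[k] (Fin 2 → Fin 4 → Fin 4 → k)))
    (hP : ∀ (σ : Equiv.Perm (Fin 4)) (f : Fin 2 → Fin 4 → Fin 4 → k) (c : Fin 2) (a b : Fin 4),
      P σ f c a b = f c (σ.symm a) (σ.symm b))
    (z : Fin 2 → Fin 4 → Fin 4 → Fin 4 → (Fin 2 → Fin 4 → Fin 4 → k))
    (hz : ∀ (c : Fin 2) (i j l : Fin 4) (c' : Fin 2) (a b : Fin 4), z c i j l c' a b =
      if c' = c then
        ((if a = i ∧ b = j then 1 else 0) + (if a = j ∧ b = l then 1 else 0) + (if a = l ∧ b = i then 1 else 0)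
          - (if a = j ∧ b = i then 1 else 0) - (if a = l ∧ b = j then 1 else 0) - (if a = i ∧ b = l then 1 else 0))
      else 0)
    (ω : ExteriorAlgebra k (Fin 2 → Fin 4 → Fin 4 → k))
    (hω : ω = ExteriorAlgebra.ι k (z 0 0 1 2) * ExteriorAlgebra.ι k (z 1 0 1 2) *
      ExteriorAlgebra.ι k (z 0 0 2 3) * ExteriorAlgebra.ι k (z 1 0 2 3)) :
    ExteriorAlgebra.map (P (Equiv.swap 0 2)) ω = ω ∧
    ExteriorAlgebra.map (P (Equiv.swap 1 3)) ω = ω ∧
    (∑ σ : Equiv.Perm (Fin 4), ExteriorAlgebra.map (P σ) ω) ≠ 0 := by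
  classical
  have hPz : ∀ (σ : Equiv.Perm (Fin 4)) (c : Fin 2) (i j l : Fin 4), P σ (z c i j l) = z c (σ i) (σ j) (σ l) := by
    intro σ c i j l
    funext c' a b
    rw [hP, hz, hz]
    simp only [Equiv.symm_apply_eq]
  have hrot : ∀ c i j l, z c i j l = z c j l i := by
    intro c i j l
    funext c' a b
    rw [hz, hz]
    split_ifs <;> ring
  have hneg : ∀ c i j l, z c j i l = -z c i j l := by
    intro c i j l
    funext c' a b
    simp only [Pi.neg_apply]
    rw [hz, hz]
    split_ifs <;> ring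
  have hω4 : ω = ExteriorAlgebra.ιMulti k 4 ![z 0 0 1 2, z 1 0 1 2, z 0 0 2 3, z 1 0 2 3] := by
    rw [hω, ExteriorAlgebra.ιMulti_apply]
    simp [List.ofFn_succ, mul_assoc]
  have hmap : ∀ σ : Equiv.Perm (Fin 4), ExteriorAlgebra.map (P σ) ω =
      ExteriorAlgebra.ι k (z 0 (σ 0) (σ 1) (σ 2)) * ExteriorAlgebra.ι k (z 1 (σ 0) (σ 1) (σ 2)) *
      ExteriorAlgebra.ι k (z 0 (σ 0) (σ 2) (σ 3)) * ExteriorAlgebra.ι k (z 1 (σ 0) (σ 2) (σ 3)) := by
    intro σ
    simp only [hω, map_mul, ExteriorAlgebra.map_apply_ι, hPz]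
  refine ⟨?_, ?_, ?_⟩
  · rw [hmap, hω]
    have e1 : ∀ c : Fin 2, z c 2 1 0 = -z c 0 1 2 := fun c => by rw [hrot c 2 1 0, hneg c 0 1 2]
    have e2 : ∀ c : Fin 2, z c 2 0 3 = -z c 0 2 3 := fun c => hneg c 0 2 3
    simp [Equiv.swap_apply_left, Equiv.swap_apply_right, Equiv.swap_apply_of_ne_of_ne, e1, e2]
  · rw [hmap, hω]
    have e1 : ∀ c : Fin 2, z c 0 3 2 = -z c 0 2 3 := fun c => by rw [hrot c 0 3 2, hneg c 2 3 0, ← hrot c 0 2 3, ]
    have e2 : ∀ c : Fin 2, z c 0 2 1 = -z c 0 1 2 := fun c => by rw [hrot c 0 2 1, hneg c 1 2 0, ← hrot c 0 1 2]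
    have hs : ∀ x y, ExteriorAlgebra.ι k (M := Fin 2 → Fin 4 → Fin 4 → k) x * ExteriorAlgebra.ι k y =
        -(ExteriorAlgebra.ι k y * ExteriorAlgebra.ι k x) :=
      fun x y => eq_neg_of_add_eq_zero_left (ExteriorAlgebra.ι_add_mul_swap x y)
    have hcomm : ∀ a b c, ExteriorAlgebra.ι k (M := Fin 2 → Fin 4 → Fin 4 → k) a *
        (ExteriorAlgebra.ι k b * ExteriorAlgebra.ι k c) =
        ExteriorAlgebra.ι k b * ExteriorAlgebra.ι k c * ExteriorAlgebra.ι k a := fun a b c => by
      rw [← mul_assoc, hs a b, neg_mul, mul_assoc, hs a c, mul_neg, neg_neg, mul_assoc]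
    simp [Equiv.swap_apply_left, Equiv.swap_apply_right, Equiv.swap_apply_of_ne_of_ne, e1, e2]
    rw [mul_assoc, mul_assoc, hcomm (z 1 0 2 3) (z 0 0 1 2) (z 1 0 1 2), ← mul_assoc, hcomm (z 0 0 2 3)]
  · intro h0
    let π : (Fin 2 → Fin 4 → Fin 4 → k) →ₗ[k] (Fin 4 → k) :=
      { toFun := fun f => ![f 0 0 1, f 1 0 1, f 0 1 2, f 1 1 2]
        map_add' := fun f g => by funext r; fin_cases r <;> rfl
        map_smul' := fun c f => by funext r; fin_cases r <;> rfl }
    let fam : ∀ i, (Fin 2 → Fin 4 → Fin 4 → k) [⋀^Fin i]→ₗ[k] k :=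
      fun i => if h : i = 4 then h ▸ (Matrix.detRowAlternating : (Fin 4 → k) [⋀^Fin 4]→ₗ[k] k).compLinearMap π else 0
    have h4 : fam 4 = (Matrix.detRowAlternating : (Fin 4 → k) [⋀^Fin 4]→ₗ[k] k).compLinearMap π := by
      simp [fam]
    let zi : Fin 2 → Fin 4 → Fin 4 → Fin 4 → Fin 2 → Fin 4 → Fin 4 → ℤ := fun c i j l c' a b =>
      if c' = c then
        ((if a = i ∧ b = j then 1 else 0) + (if a = j ∧ b = l then 1 else 0) + (if a = l ∧ b = i then 1 else 0)
          - (if a = j ∧ b = i then 1 else 0) - (if a = l ∧ b = j then 1 else 0) - (if a = i ∧ b = l then 1 else 0))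
      else 0
    have hcast : ∀ c i j l c' a b, (zi c i j l c' a b : k) = z c i j l c' a b := fun c i j l c' a b => by
      simp only [zi, hz]; split_ifs <;> simp <;> norm_num
    let Mi : Equiv.Perm (Fin 4) → Matrix (Fin 4) (Fin 4) ℤ := fun σ => Matrix.of fun r s =>
      (![zi 0 (σ 0) (σ 1) (σ 2), zi 1 (σ 0) (σ 1) (σ 2), zi 0 (σ 0) (σ 2) (σ 3), zi 1 (σ 0) (σ 2) (σ 3)] r)
        (![0, 1, 0, 1] s) (![0, 0, 1, 1] s) (![1, 1, 2, 2] s)
    have hval : ∀ σ, ExteriorAlgebra.liftAlternating (R := k) fam (ExteriorAlgebra.map (P σ) ω) = ((Mi σ).det : k) := by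
      intro σ
      rw [hω4, ExteriorAlgebra.map_apply_ιMulti, ExteriorAlgebra.liftAlternating_apply_ιMulti, h4, Int.cast_det]
      refine (AlternatingMap.compLinearMap_apply _ _ _).trans ?_
      refine congrArg (fun M : Matrix (Fin 4) (Fin 4) k => M.det) (?_ : _ = (Mi σ).map fun x => (x : k))
      ext r s
      fin_cases r <;> fin_cases s <;> simp [π, Mi, hcast, hPz]
    have hsum := congrArg (ExteriorAlgebra.liftAlternating (R := k) fam) h0
    rw [map_sum, map_zero, Finset.sum_congr rfl fun σ _ => hval σ, ← Int.cast_sum, Int.cast_eq_zero] at hsum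
    revert hsum
    simp only [Mi, zi, Matrix.det_succ_row_zero, Fin.sum_univ_succ]
    decide +kernel

end Groth.Agent.S19221
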