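import Groth.Statements.S19223
import Mathlib


set_option autoImplicit false
attribute [local instance] Units.mulDistribMulActionRight
open GalCoh

namespace Groth.Agent.S19223

universe u

open CategoryTheory

theorem contractNth_snoc {α : Type*} (op : α → α → α) {n : ℕ} (g : Fin (n + 1) → α) (c : α) (j : Fin n) :
    Fin.contractNth j.castSucc.castSucc op (Fin.snoc g c) = Fin.snoc (Fin.contractNth j.castSucc op g) c := by
  funext k
  refine Fin.lastCases ?_ (fun k => ?_) k
  · rw [Fin.snoc_last, Fin.contractNth_apply_of_gt _ _ _ _ (by simp), Fin.succ_last, Fin.snoc_last]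
  · rw [Fin.snoc_castSucc]
    rcases lt_trichotomy (k : ℕ) (j : ℕ) with h | h | h
    · rw [Fin.contractNth_apply_of_lt _ _ _ _ (by simpa using h), Fin.contractNth_apply_of_lt _ _ _ _ (by simpa using h),
        Fin.snoc_castSucc]
    · rw [Fin.contractNth_apply_of_eq _ _ _ _ (by simpa using h), Fin.contractNth_apply_of_eq _ _ _ _ (by simpa using h),
        Fin.snoc_castSucc, Fin.succ_castSucc, Fin.snoc_castSucc]
    · rw [Fin.contractNth_apply_of_gt _ _ _ _ (by simpa using h), Fin.contractNth_apply_of_gt _ _ _ _ (by simpa using h),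
        Fin.succ_castSucc, Fin.snoc_castSucc]

theorem contractNth_snoc_last {α : Type*} (op : α → α → α) {n : ℕ} (g : Fin (n + 1) → α) (c : α) :
    Fin.contractNth (Fin.last n).castSucc op (Fin.snoc g c) = Fin.snoc (Fin.init g) (op (g (Fin.last n)) c) := by
  funext k
  refine Fin.lastCases ?_ (fun k => ?_) k
  · rw [Fin.snoc_last, Fin.contractNth_apply_of_eq _ _ _ _ (by simp), Fin.succ_last, Fin.snoc_last, Fin.snoc_castSucc]
  · rw [Fin.snoc_castSucc, Fin.contractNth_apply_of_lt _ _ _ _ (by simp), Fin.snoc_castSucc]
    rfl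

theorem contractNth_last {α : Type*} (op : α → α → α) {n : ℕ} (g : Fin (n + 1) → α) :
    Fin.contractNth (Fin.last n) op g = Fin.init g := by
  funext k
  rw [Fin.contractNth_apply_of_lt _ _ _ _ (by simp)]; rfl

theorem tail_snoc {α : Type*} {n : ℕ} (g : Fin (n + 1) → α) (c : α) :
    (fun i : Fin (n + 1) => (Fin.snoc g c : Fin (n + 2) → α) i.succ) = Fin.snoc (fun i : Fin n => g i.succ) c := by
  funext i
  refine Fin.lastCases ?_ (fun i => ?_) i
  · rw [Fin.succ_last, Fin.snoc_last, Fin.snoc_last]
  · rw [Fin.succ_castSucc, Fin.snoc_castSucc, Fin.snoc_castSucc]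

variable {k G : Type u} [CommRing k] [Group G] [Fintype G]

/-- Averaging a cocycle over its last variable. -/
theorem card_smul_cocycle (A : Rep k G) {n : ℕ} (z : (Fin (n + 1) → G) → A)
    (hz : inhomogeneousCochains.d A (n + 1) z = 0) (g : Fin (n + 1) → G) :
    (Fintype.card G : k) • z g = (-1 : k) ^ (n + 1) • inhomogeneousCochains.d A n (fun g' => ∑ c : G, z (Fin.snoc g' c)) g := by
  have h0 : ∀ c : G, inhomogeneousCochains.d A (n + 1) z (Fin.snoc g c) = 0 := fun c => by rw [hz]; rfl
  have h1 := Finset.sum_congr (s₁ := (Finset.univ : Finset G)) rfl (fun c _ => h0 c)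
  simp only [inhomogeneousCochains.d_hom_apply, Fin.sum_univ_castSucc (n := n + 1),
    Fin.sum_univ_castSucc (n := n), contractNth_snoc, contractNth_snoc_last, contractNth_last, tail_snoc,
    Fin.init_snoc, Fin.val_castSucc, Fin.val_last, Finset.sum_add_distrib, Finset.sum_const_zero] at h1
  simp only [show ∀ c : G, (Fin.snoc g c : Fin (n + 2) → G) 0 = g 0 from fun c => by
      rw [show (0 : Fin (n + 2)) = (0 : Fin (n + 1)).castSucc from rfl, Fin.snoc_castSucc], ← map_sum,
    Finset.sum_comm (s := (Finset.univ : Finset G)) (t := (Finset.univ : Finset (Fin n))),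
    ← Finset.smul_sum, Finset.sum_const, Finset.card_univ] at h1
  rw [Fintype.sum_equiv (Equiv.mulLeft (g (Fin.last n))) (fun c => z (Fin.snoc (Fin.init g) (g (Fin.last n) * c)))
    (fun c => z (Fin.snoc (Fin.init g) c)) (fun c => rfl)] at h1
  simp only [inhomogeneousCochains.d_hom_apply, Fin.sum_univ_castSucc (n := n), contractNth_last,
    Fin.val_castSucc, Fin.val_last]
  rw [← Nat.cast_smul_eq_nsmul k] at h1
  have h2 : ((-1 : k) ^ (n + 1)) • ((-1 : k) ^ (n + 1 + 1) • (Fintype.card G : k) • z g) = -((Fintype.card G : k) • z g) := by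
    rw [smul_smul, ← pow_add, show n + 1 + (n + 1 + 1) = 2 * (n + 1) + 1 by ring, pow_succ, pow_mul, neg_one_sq,
      one_pow, one_mul, neg_one_smul]
  have h3 := congrArg (fun a => ((-1 : k) ^ (n + 1)) • a) h1
  simp only [smul_zero, smul_add, h2] at h3
  rw [← sub_eq_zero, ← neg_eq_zero, ← h3]
  simp only [smul_add]
  abel

variable {A B : Rep k G} (φ : A ⟶ B)

theorem d_comp (n : ℕ) (f : (Fin n → G) → A) (g : Fin (n + 1) → G) :
    inhomogeneousCochains.d B n (fun x => φ.hom (f x)) g = φ.hom (inhomogeneousCochains.d A n f g) := by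
  simp [inhomogeneousCochains.d_hom_apply, Rep.hom_comm_apply, map_sum, map_smul]

/-- A cocycle with values in a uniquely divisible kernel is a coboundary from the kernel. -/
theorem exists_kernel_bound (hdiv : ∀ x, φ.hom x = 0 → ∃ y, φ.hom y = 0 ∧ (Fintype.card G : k) • y = x)
    (htor : ∀ y, φ.hom y = 0 → (Fintype.card G : k) • y = 0 → y = 0) {n : ℕ} (z : (Fin (n + 1) → G) → A)
    (hzk : ∀ g, φ.hom (z g) = 0) (hz : inhomogeneousCochains.d A (n + 1) z = 0) :
    ∃ b : (Fin n → G) → A, (∀ g, φ.hom (b g) = 0) ∧ inhomogeneousCochains.d A n b = z := by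
  choose b hbk hb using fun g' => hdiv ((-1 : k) ^ (n + 1) • ∑ c : G, z (Fin.snoc g' c))
    (by simp [map_smul, map_sum, hzk])
  refine ⟨b, hbk, funext fun g => sub_eq_zero.1 (htor _ ?_ ?_)⟩
  · rw [map_sub, ← d_comp, hzk, sub_zero]
    simp only [hbk]
    exact congrFun (map_zero (inhomogeneousCochains.d B n).hom) g
  · rw [smul_sub, sub_eq_zero, card_smul_cocycle A z hz]
    have : (Fintype.card G : k) • b = (-1 : k) ^ (n + 1) • fun g' => ∑ c : G, z (Fin.snoc g' c) := funext hb
    have h4 := congrArg (fun f => inhomogeneousCochains.d A n f g) this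
    simp only [map_smul] at h4
    exact h4

theorem bijective_map (hsurj : Function.Surjective φ.hom)
    (hdiv : ∀ x, φ.hom x = 0 → ∃ y, φ.hom y = 0 ∧ (Fintype.card G : k) • y = x)
    (htor : ∀ y, φ.hom y = 0 → (Fintype.card G : k) • y = 0 → y = 0) (m : ℕ) :
    Function.Bijective ((groupCohomology.functor k G (m + 1)).map φ).hom := by
  have nat : ∀ z : groupCohomology.cocycles A (m + 1), ((groupCohomology.functor k G (m + 1)).map φ).hom (groupCohomology.π A (m + 1) z) =
      groupCohomology.π B (m + 1) (groupCohomology.cocyclesMap (MonoidHom.id G) φ (m + 1) z) := fun z =>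
    ConcreteCategory.congr_hom (HomologicalComplex.homologyπ_naturality (groupCohomology.cochainsMap (MonoidHom.id G) φ) (m + 1)) z
  have inat : ∀ z : groupCohomology.cocycles A (m + 1), ∀ g,
      groupCohomology.iCocycles B (m + 1) (groupCohomology.cocyclesMap (MonoidHom.id G) φ (m + 1) z) g =
        φ.hom (groupCohomology.iCocycles A (m + 1) z g) := fun z g =>
    congrFun (ConcreteCategory.congr_hom (HomologicalComplex.cyclesMap_i (groupCohomology.cochainsMap (MonoidHom.id G) φ) (m + 1)) z) g
  have hcyc : ∀ (C : Rep k G) (z : groupCohomology.cocycles C (m + 1)),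
      inhomogeneousCochains.d C (m + 1) (groupCohomology.iCocycles C (m + 1) z) = 0 := fun C z => by
    rw [← groupCohomology.inhomogeneousCochains.d_def]
    exact ConcreteCategory.congr_hom ((groupCohomology.inhomogeneousCochains C).iCycles_d (m + 1) ((m + 1) + 1)) z
  have hzero : ∀ (C : Rep k G) (z : groupCohomology.cocycles C (m + 1)), groupCohomology.π C (m + 1) z = 0 ↔
      ∃ b, inhomogeneousCochains.d C m b = groupCohomology.iCocycles C (m + 1) z := by
    intro C z
    have hti : ∀ b, groupCohomology.iCocycles C (m + 1) (groupCohomology.toCocycles C m (m + 1) b) = inhomogeneousCochains.d C m b := by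
      intro b
      rw [← groupCohomology.inhomogeneousCochains.d_def]
      exact ConcreteCategory.congr_hom ((groupCohomology.inhomogeneousCochains C).toCycles_i m (m + 1)) b
    have hex : (ShortComplex.mk ((groupCohomology.inhomogeneousCochains C).toCycles m (m + 1))
        ((groupCohomology.inhomogeneousCochains C).homologyπ (m + 1)) (HomologicalComplex.toCycles_comp_homologyπ _ _ _)).Exact :=
      ShortComplex.exact_of_g_is_cokernel _ ((groupCohomology.inhomogeneousCochains C).homologyIsCokernel m (m + 1) (by simp))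
    constructor
    · intro h
      obtain ⟨b, hb⟩ := (ShortComplex.moduleCat_exact_iff _).1 hex z h
      exact ⟨b, (hti b).symm.trans (congrArg _ hb)⟩
    · rintro ⟨b, hb⟩
      have : z = groupCohomology.toCocycles C m (m + 1) b :=
        (ModuleCat.mono_iff_injective (groupCohomology.iCocycles C (m + 1))).1 inferInstance (hb.symm.trans (hti b).symm)
      rw [this]
      exact ConcreteCategory.congr_hom ((groupCohomology.inhomogeneousCochains C).toCycles_comp_homologyπ m (m + 1)) b
  constructor
  · rw [injective_iff_map_eq_zero]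
    intro x
    induction x using groupCohomology_induction_on with
    | h z =>
      intro hx
      obtain ⟨w, hw⟩ := (hzero B _).1 ((nat z).symm.trans hx)
      choose w' hw' using fun g => hsurj (w g)
      let zA : (Fin (m + 1) → G) → A := groupCohomology.iCocycles A (m + 1) z - inhomogeneousCochains.d A m w'
      obtain ⟨b, -, hb⟩ := exists_kernel_bound φ hdiv htor zA (fun g => by
          show φ.hom (_ - _) = 0
          rw [map_sub, ← inat, ← d_comp]; simp only [hw']; rw [hw, sub_self]) (by
          simp only [zA, map_sub, hcyc, zero_sub, neg_eq_zero]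
          exact ConcreteCategory.congr_hom (groupCohomology.inhomogeneousCochains.d_comp_d m A) w')
      exact (hzero A z).2 ⟨b + w', by rw [map_add, hb, sub_add_cancel]⟩
  · intro x
    induction x using groupCohomology_induction_on with
    | h z =>
      choose c hc using fun g => hsurj (groupCohomology.iCocycles B (m + 1) z g)
      obtain ⟨b, hbk, hb⟩ := exists_kernel_bound φ hdiv htor (inhomogeneousCochains.d A (m + 1) c) (fun g => by
          rw [← d_comp]; simp only [hc, hcyc]; rfl)
        (ConcreteCategory.congr_hom (groupCohomology.inhomogeneousCochains.d_comp_d (m + 1) A) c)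
      refine ⟨groupCohomology.π A (m + 1) (groupCohomology.cocyclesMk (c - b) (by rw [map_sub, hb, sub_self])), ?_⟩
      refine (nat _).trans (congrArg _ ?_)
      refine (ModuleCat.mono_iff_injective (groupCohomology.iCocycles B (m + 1))).1 inferInstance (funext fun g => ?_)
      rw [inat, groupCohomology.iCocycles_mk, Pi.sub_apply, map_sub, hbk, sub_zero, hc]


/-- For a strictly henselian local ring R whose residue field k has characteristic p ≥ 0, and a finite
group G of order prime to p acting on R by ring automorphisms (hence on the unit groups R^× and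
k^×), consider the homomorphism H^n(G, R^×) → H^n(G, k^×) induced by the reduction map. It is
bijective for every n ≥ 2; it is also bijective for n = 1 provided that p = 0 or the only p-power
root of unity in R is 1. (The reduction map on cohomology is pinned by its values on units; groups,
rings and modules are taken in the lowest universe, as integral coefficients in the group-cohomology
library require.) -/
theorem result (R : Type) [CommRing R]
    [HenselianLocalRing R] [IsSepClosed (IsLocalRing.ResidueField R)] (p : ℕ) [CharP (IsLocalRing.ResidueField R) p]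
    (G : Type) [Group G] [Finite G] [MulSemiringAction G R] (hp : ¬ p ∣ Nat.card G)
    (φ : Rep.ofMulDistribMulAction G Rˣ ⟶ Rep.ofMulDistribMulAction G (IsLocalRing.ResidueField R)ˣ)
    (hφ : ∀ x : Rˣ, Additive.toMul (φ.hom (Additive.ofMul x)) = Units.map (IsLocalRing.residue R).toMonoidHom x)
    (n : ℕ) (hn : 1 ≤ n) (h1 : n = 1 → p ≠ 0 → ∀ (ζ : Rˣ) (m : ℕ), ζ ^ p ^ m = 1 → ζ = 1) :
    Function.Bijective ((groupCohomology.functor ℤ G n).map φ).hom := by
  obtain ⟨m, rfl⟩ := Nat.exists_eq_succ_of_ne_zero (Nat.one_le_iff_ne_zero.1 hn)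
  haveI := Fintype.ofFinite G
  have hN : IsUnit ((Fintype.card G : ℕ) : R) := by
    rw [← IsLocalRing.residue_ne_zero_iff_isUnit, map_natCast, ← Nat.card_eq_fintype_card]
    exact fun h => hp ((CharP.cast_eq_zero_iff _ p _).1 h)
  have hker : ∀ x, φ.hom x = 0 → IsLocalRing.residue R (Additive.toMul x : Rˣ) = 1 := fun x hx => by
    exact (congrArg Units.val ((hφ (Additive.toMul x)).symm.trans (congrArg Additive.toMul hx)))
  have hker' : ∀ v : Rˣ, IsLocalRing.residue R v = 1 → φ.hom (Additive.ofMul v) = 0 := fun v hv =>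
    Additive.toMul.injective ((hφ v).trans (Units.ext hv))
  refine bijective_map φ ?_ ?_ ?_ m
  · intro y
    obtain ⟨a, ha⟩ := IsLocalRing.residue_surjective ((Additive.toMul y : (IsLocalRing.ResidueField R)ˣ) : IsLocalRing.ResidueField R)
    have hu : IsUnit a := (IsLocalRing.residue_ne_zero_iff_isUnit a).1 (ha.symm ▸ Units.ne_zero _)
    exact ⟨Additive.ofMul hu.unit, Additive.toMul.injective ((hφ _).trans (Units.ext (show IsLocalRing.residue R (hu.unit : R) = _ from ha)))⟩
  · intro x hx
    obtain ⟨a, ha, ha1⟩ := HenselianLocalRing.is_henselian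
      ((Polynomial.X : Polynomial R) ^ Fintype.card G - Polynomial.C ((Additive.toMul x : Rˣ) : R))
      (Polynomial.monic_X_pow_sub_C _ Fintype.card_ne_zero) 1
      (by rw [← IsLocalRing.residue_eq_zero_iff]; simp [hker x hx])
      (by simpa [Polynomial.derivative_X_pow] using hN)
    rw [Polynomial.IsRoot, Polynomial.eval_sub, Polynomial.eval_pow, Polynomial.eval_X, Polynomial.eval_C, sub_eq_zero] at ha
    have hau : IsUnit a := (IsLocalRing.residue_ne_zero_iff_isUnit a).1 (by
      rw [← IsLocalRing.residue_eq_zero_iff, map_sub, map_one, sub_eq_zero] at ha1; simp [ha1])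
    refine ⟨Additive.ofMul hau.unit, hker' _ ?_, ?_⟩
    · rw [← IsLocalRing.residue_eq_zero_iff, map_sub, map_one, sub_eq_zero] at ha1; simpa using ha1
    · rw [Nat.cast_smul_eq_nsmul]
      exact Additive.toMul.injective (Units.ext ((Units.val_pow_eq_pow_val hau.unit _).trans ha))
  · intro y hy hy0
    rw [Nat.cast_smul_eq_nsmul] at hy0
    have h0 : (Additive.toMul y : Rˣ) ^ Fintype.card G = 1 := congrArg Additive.toMul hy0
    set v : R := ((Additive.toMul y : Rˣ) : R) with hv
    have h0' : v ^ Fintype.card G = 1 := by rw [hv, ← Units.val_pow_eq_pow_val, h0, Units.val_one]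
    have h5 := geom_sum_mul v (Fintype.card G)
    rw [h0', sub_self] at h5
    have hu : IsUnit (∑ i ∈ Finset.range (Fintype.card G), v ^ i) := by
      rw [← IsLocalRing.residue_ne_zero_iff_isUnit]
      simpa [hker y hy, hv] using (IsLocalRing.residue_ne_zero_iff_isUnit _).2 hN
    exact Additive.toMul.injective (Units.ext (sub_eq_zero.1 (hu.mul_right_eq_zero.1 h5)))

end Groth.Agent.S19223
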