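import Mathlib
import Groth.Statements.S19224
-- import your own Groth.Agent.* helpers here

set_option autoImplicit false
open GalCoh

namespace Groth.Agent.S19224

/-- Let Q be a finite group such that H^3(Q, ℤ) = 0 for the trivial action, and let k be a separably
closed field of characteristic p ≥ 0 with p not dividing the order of Q. Then H^2(Q, k^×) = 0, where
Q acts trivially on the units of k. (Groups and fields are taken in the lowest universe, as integral
coefficients in the group-cohomology library require.) -/
theorem result (Q : Type) [Group Q] [Finite Q]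
    (hQ : Subsingleton (groupCohomology (Rep.trivial ℤ Q ℤ) 3)) (k : Type) [Field k] [IsSepClosed k]
    (p : ℕ) [CharP k p] (hp : ¬ p ∣ Nat.card Q) :
    Subsingleton (groupCohomology (Rep.trivial ℤ Q (Additive kˣ)) 2) := by
  classical
  haveI := Fintype.ofFinite Q
  set n := Nat.card Q with hn
  have hnpos : 0 < n := Nat.card_pos
  have hncard : Fintype.card Q = n := by rw [hn, Nat.card_eq_fintype_card]
  haveI : NeZero n := ⟨hnpos.ne'⟩
  haveI : NeZero (n : k) := ⟨fun h => hp ((CharP.cast_eq_zero_iff k p n).mp h)⟩
  obtain ⟨η₀, hη₀⟩ := IsSepClosed.exists_root (Polynomial.cyclotomic n k)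
    (by rw [Polynomial.degree_cyclotomic]; exact_mod_cast (Nat.totient_pos.mpr hnpos).ne')
    (Polynomial.separable_cyclotomic n k)
  have hprim : IsPrimitiveRoot η₀ n := Polynomial.isRoot_cyclotomic_iff.mp hη₀
  let ζu : kˣ := (hprim.isUnit hnpos.ne').unit
  have hζu : IsPrimitiveRoot ζu n := by
    rw [← IsPrimitiveRoot.coe_units_iff]; exact hprim
  let M := Additive kˣ
  let ζ : M := Additive.ofMul ζu
  have hdiv : ∀ x : M, ∃ y : M, n • y = x := by
    intro x
    obtain ⟨z, hz⟩ := IsSepClosed.exists_pow_nat_eq ((Additive.toMul x : kˣ) : k) n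
    have hz0 : z ≠ 0 := by
      rintro rfl
      rw [zero_pow hnpos.ne'] at hz
      exact (Additive.toMul x).ne_zero hz.symm
    exact ⟨Additive.ofMul (Units.mk0 z hz0),
      congrArg Additive.ofMul (Units.ext (show z ^ n = _ from hz))⟩
  have hμ : ∀ x : M, n • x = 0 → ∃ i : ℤ, i • ζ = x := by
    intro x hx
    have h1 : (Additive.toMul x : kˣ) ^ n = 1 := congrArg Additive.toMul hx
    have h1' : ((Additive.toMul x : kˣ) : k) ^ n = 1 := by
      rw [← Units.val_pow_eq_pow_val, h1, Units.val_one]
    obtain ⟨i, -, hi⟩ := hprim.eq_pow_of_pow_eq_one h1'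
    have hi' : ζu ^ i = Additive.toMul x := Units.ext (by rw [Units.val_pow_eq_pow_val]; exact hi)
    exact ⟨i, by rw [natCast_zsmul]; exact congrArg Additive.ofMul hi'⟩
  have hord : ∀ i : ℤ, i • ζ = 0 → (n : ℤ) ∣ i := fun i hi =>
    (hζu.zpow_eq_one_iff_dvd i).mp (congrArg Additive.toMul hi)
  have key : ∀ u : Q → Q → M,
      (∀ g h j, u (g * h) j + u g h = u h j + u g (h * j)) →
      ∃ w : Q → M, ∀ a b, u a b = w a + w b - w (a * b) := by
    intro u hu
    let F : Q → M := fun a => ∑ c, u a c
    have hF : ∀ a b, n • u a b = F a + F b - F (a * b) := by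
      intro a b
      have h := Finset.sum_congr (s₁ := (Finset.univ : Finset Q)) rfl (fun j _ => hu a b j)
      rw [Finset.sum_add_distrib, Finset.sum_add_distrib, Finset.sum_const, Finset.card_univ,
        hncard, Fintype.sum_equiv (Equiv.mulLeft b) (fun j => u a (b * j)) (fun j => u a j)
          (fun j => rfl)] at h
      show n • u a b = (∑ c, u a c) + (∑ c, u b c) - ∑ c, u (a * b) c
      rw [eq_sub_iff_add_eq, add_comm, h, add_comm]
    choose v hv using fun a => hdiv (F a)
    choose i hi using fun a b => hμ (u a b - (v a + v b - v (a * b))) (by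
      rw [nsmul_sub, nsmul_sub, nsmul_add, hv, hv, hv, hF, sub_self])
    let ft : (Fin 2 → Q) → ℤ := fun t => i (t 0) (t 1)
    have hδ : ∀ t : Fin 3 → Q, (n : ℤ) ∣
        i (t 1) (t 2) - i (t 0 * t 1) (t 2) + i (t 0) (t 1 * t 2) - i (t 0) (t 1) := by
      intro t
      apply hord
      simp only [sub_smul, add_smul, hi]
      have := hu (t 0) (t 1) (t 2)
      rw [mul_assoc (t 0)]
      rw [← sub_eq_zero] at this
      rw [← neg_eq_zero, ← this]
      abel
    choose g hg using hδ
    let A := Rep.trivial ℤ Q ℤ
    have hd2 : ∀ (f : (Fin 2 → Q) → ℤ) (t : Fin 3 → Q),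
        (inhomogeneousCochains.d A 2).hom f t =
          f ![t 1, t 2] - f ![t 0 * t 1, t 2] + f ![t 0, t 1 * t 2] - f ![t 0, t 1] := by
      intro f t
      rw [inhomogeneousCochains.d_hom_apply]
      show _ + ∑ j : Fin 3, _ = _
      rw [Fin.sum_univ_three]
      have e0 : (fun j : Fin 2 => t j.succ) = ![t 1, t 2] := by ext j; fin_cases j <;> rfl
      have e1 : Fin.contractNth (0 : Fin 3) (· * ·) t = ![t 0 * t 1, t 2] := by
        ext j; fin_cases j <;> rfl
      have e2 : Fin.contractNth (1 : Fin 3) (· * ·) t = ![t 0, t 1 * t 2] := by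
        ext j; fin_cases j <;> rfl
      have e3 : Fin.contractNth (2 : Fin 3) (· * ·) t = ![t 0, t 1] := by
        ext j; fin_cases j <;> rfl
      rw [e0, e1, e2, e3]
      simp only [A, Rep.trivial, Representation.trivial, MonoidHom.one_apply, Module.End.one_apply]
      norm_num
      ring
    have hng : (inhomogeneousCochains.d A 2).hom ft = (n : ℤ) • g := by
      funext t
      rw [hd2, Pi.smul_apply, smul_eq_mul, ← hg]
      rfl
    have hdd : (inhomogeneousCochains.d A 3).hom g = 0 := by
      have h := (groupCohomology.inhomogeneousCochains A).d_comp_d 2 3 4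
      rw [show (groupCohomology.inhomogeneousCochains A).d 2 3 = inhomogeneousCochains.d A 2 from
        groupCohomology.inhomogeneousCochains.d_def (A := A) _, show (groupCohomology.inhomogeneousCochains A).d 3 4 =
        inhomogeneousCochains.d A 3 from groupCohomology.inhomogeneousCochains.d_def (A := A) _] at h
      have h' := congrArg (fun φ => φ.hom ft) h
      simp only [ModuleCat.hom_comp, LinearMap.comp_apply, ModuleCat.hom_zero,
        LinearMap.zero_apply] at h'
      rw [hng, map_smul] at h'
      funext t
      have ht := congrFun h' t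
      rw [Pi.smul_apply, smul_eq_mul] at ht
      exact (mul_eq_zero.mp ht).resolve_left (Int.natCast_ne_zero.mpr hnpos.ne')
    obtain ⟨h, hh⟩ : ∃ h : (Fin 2 → Q) → ℤ, (inhomogeneousCochains.d A 2).hom h = g := by
      have hex : (groupCohomology.inhomogeneousCochains A).ExactAt 3 := by
        rw [HomologicalComplex.exactAt_iff_isZero_homology]
        haveI := hQ
        exact @ModuleCat.isZero_of_subsingleton _ _ (groupCohomology A 3) hQ
      rw [HomologicalComplex.exactAt_iff' _ 2 3 4 (by simp) (by simp),
        CategoryTheory.ShortComplex.moduleCat_exact_iff] at hex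
      have hd3 : ((groupCohomology.inhomogeneousCochains A).d 3 4).hom g = 0 := by
        rw [show (groupCohomology.inhomogeneousCochains A).d 3 4 = inhomogeneousCochains.d A 3 from
          groupCohomology.inhomogeneousCochains.d_def (A := A) _]
        exact hdd
      obtain ⟨h, hh⟩ := hex g hd3
      change ((groupCohomology.inhomogeneousCochains A).d 2 3).hom h = g at hh
      rw [show (groupCohomology.inhomogeneousCochains A).d 2 3 = inhomogeneousCochains.d A 2 from
        groupCohomology.inhomogeneousCochains.d_def (A := A) _] at hh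
      exact ⟨h, hh⟩
    let z : Q → Q → ℤ := fun a b => i a b - n * h ![a, b]
    have hz : ∀ a b c, z (a * b) c + z a b = z b c + z a (b * c) := by
      intro a b c
      have h1 := congrFun hng ![a, b, c]
      have h2 := congrFun hh ![a, b, c]
      rw [hd2] at h1 h2
      simp only [Pi.smul_apply, smul_eq_mul, ft, Matrix.cons_val_zero, Matrix.cons_val_one,
        Matrix.cons_val_two, Matrix.head_cons, Matrix.tail_cons, Matrix.cons_val] at h1 h2
      simp only [z]
      linear_combination (n : ℤ) * h2 - h1
    let G : Q → ℤ := fun a => ∑ c, z a c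
    have hG : ∀ a b, (n : ℤ) * z a b = G a + G b - G (a * b) := by
      intro a b
      have h := Finset.sum_congr (s₁ := (Finset.univ : Finset Q)) rfl (fun j _ => hz a b j)
      rw [Finset.sum_add_distrib, Finset.sum_add_distrib, Finset.sum_const, Finset.card_univ,
        hncard, Fintype.sum_equiv (Equiv.mulLeft b) (fun j => z a (b * j)) (fun j => z a j)
          (fun j => rfl), nsmul_eq_mul] at h
      simp only [G]
      linear_combination h
    obtain ⟨η, hη⟩ := hdiv ζ
    have hnζ : n • ζ = 0 := congrArg Additive.ofMul hζu.pow_eq_one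
    refine ⟨fun a => v a + G a • η, fun a b => ?_⟩
    have hiz : i a b • ζ = z a b • ζ := by
      show _ = (i a b - (n : ℤ) * h ![a, b]) • ζ
      rw [sub_smul, mul_comm, mul_smul, natCast_zsmul, hnζ, smul_zero, sub_zero]
    have hiη : i a b • ζ = G a • η + G b • η - G (a * b) • η := by
      rw [hiz, ← hη, ← natCast_zsmul, smul_smul, mul_comm, hG, sub_smul, add_smul]
    have := hi a b
    rw [hiη, eq_sub_iff_add_eq] at this
    rw [← this]
    dsimp only
    generalize G a • η = p
    generalize G b • η = q
    generalize G (a * b) • η = r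
    abel
  refine subsingleton_of_forall_eq 0 fun x => ?_
  induction x using groupCohomology.H2_induction_on with
  | h x =>
    rw [groupCohomology.H2π_eq_zero_iff]
    have hx : ∀ g h j : Q, (x : Q × Q → M) (g * h, j) + (x : Q × Q → M) (g, h) =
        (x : Q × Q → M) (h, j) + (x : Q × Q → M) (g, h * j) := fun g h j =>
      (groupCohomology.mem_cocycles₂_iff x.1).mp x.2 g h j
    obtain ⟨w, hw⟩ := key (fun a b => (x : Q × Q → M) (a, b)) hx
    refine ⟨w, funext fun ab => ?_⟩
    obtain ⟨a, b⟩ := ab
    show w b - w (a * b) + w a = (x : Q × Q → M) (a, b)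
    rw [show (x : Q × Q → M) (a, b) = w a + w b - w (a * b) from hw a b]
    abel

end Groth.Agent.S19224
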