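import Groth.Statements.S19227
import Groth.Agent.EtNormLib.Rank
import Groth.Agent.FinLocFreeLib.Basic
import Groth.Agent.EtVanish.Henselian

set_option backward.isDefEq.respectTransparency false
set_option backward.isDefEq.respectTransparency.types false
set_option linter.style.haveILetI false
set_option maxHeartbeats 1000000

set_option autoImplicit false
universe u
open CategoryTheory AlgebraicGeometry
open Dix

namespace Groth.Agent.S19227

open CategoryTheory.Limits Opposite Abelian
open Groth.Agent.GmNormLib Groth.Agent.EtNormLib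

variable {X Y : Scheme.{u}} (f : X ⟶ Y) [IsFinite f] [Flat f] [LocallyOfFinitePresentation f]

theorem locFree (U : Y.Etale) : LocFree (pullback.fst U.hom f) :=
  fun x => Groth.Agent.NormAmpleLib.exists_nice
    (Groth.Agent.FinLocFreeLib.isFinLocFree_push (pullback.fst U.hom f) ⟨inferInstance, inferInstance, inferInstance⟩) x

/-- The norm map on the small étale site. -/
noncomputable def normEt : (EtCoh.push f).obj (EtCoh.Gm X) ⟶ EtCoh.Gm Y :=
  ObjectProperty.homMk
    { app := fun U => AddCommGrpCat.ofHom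
        ((AddEquiv.ulift.symm.toAddMonoidHom.comp
          (MonoidHom.toAdditive (Units.map (gnorm (locFree f U.unop))))).comp AddEquiv.ulift.toAddMonoidHom)
      naturality := fun U V j => AddCommGrpCat.hom_ext (AddMonoidHom.ext fun x =>
        ULift.ext _ _ (Additive.toMul.injective (Units.ext
          (gnorm_baseChange (EtCoh.isPullback_bc_map f j.unop) (locFree f U.unop) (locFree f V.unop)
            x.down.toMul.val)))) }

/-- Pullback of units. -/
noncomputable def resEt : EtCoh.Gm Y ⟶ (EtCoh.push f).obj (EtCoh.Gm X) :=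
  ObjectProperty.homMk
    { app := fun U => AddCommGrpCat.ofHom
        ((AddEquiv.ulift.symm.toAddMonoidHom.comp (MonoidHom.toAdditive (Units.map
          ((pullback.fst U.unop.hom f).appTop.hom.toMonoidHom)))).comp AddEquiv.ulift.toAddMonoidHom)
      naturality := fun U V j => AddCommGrpCat.hom_ext (AddMonoidHom.ext fun x =>
        ULift.ext _ _ (Additive.toMul.injective (Units.ext
          (by
            show (j.unop.left.appTop ≫ (pullback.fst V.unop.hom f).appTop) x.down.toMul.val =
              ((pullback.fst U.unop.hom f).appTop ≫ ((EtCoh.bc f).map j.unop).left.appTop) x.down.toMul.val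
            rw [← Scheme.Hom.comp_appTop, ← Scheme.Hom.comp_appTop]
            exact congrArg (fun k => Scheme.Hom.appTop k x.down.toMul.val)
              (EtCoh.isPullback_bc_map f j.unop).w.symm)))) }

theorem res_norm {d : ℕ} (hd : ∀ y, f.finrank y = d) : resEt f ≫ normEt f = d • 𝟙 (EtCoh.Gm Y) := by
  apply Sheaf.hom_ext
  refine NatTrans.ext (funext fun U => AddCommGrpCat.hom_ext (AddMonoidHom.ext fun x => ?_))
  refine Eq.trans ?_ (show d • x = _ from ?_)
  · refine ULift.ext _ _ (Additive.toMul.injective (Units.ext ?_))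
    refine Eq.trans ?_ ((Units.val_pow_eq_pow_val (x.down.toMul) d).symm)
    exact gnorm_appTop (pullback.fst U.unop.hom f) (locFree f U.unop)
      (fun z => by rw [Scheme.Hom.finrank_pullback_fst, hd]) _
  · rfl

/-- Let f : X → Y be a finite locally free morphism of schemes of constant degree d ≥ 1, so that f is
finite, flat, of finite presentation and surjective. If H²(X_et, G_m) is a torsion group, then
H²(Y_et, G_m) is a torsion group. (The source states this for a finite, flat, finitely presented
surjection of algebraic stacks and argues with multiplication by the degree of f; the case of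
schemes with f of constant degree is what is stated here.) -/
theorem result (X Y : Scheme.{u}) (f : X ⟶ Y) (d : ℕ) (hd : 1 ≤ d)
    (hf : Mor2.IsFinLocFreeOfDeg d f) (hX : IsAddTorsion (Dix.BrCoh X)) :
    IsAddTorsion (Dix.BrCoh Y) := by
  obtain ⟨⟨hfin, hflat, hfp⟩, hdeg⟩ := hf
  haveI := hfin
  haveI := hflat
  haveI := hfp
  intro ξ
  obtain ⟨e⟩ := Groth.Agent.EtVanish.nonempty_H_push_equiv f (EtCoh.Gm X) 2
  let η : EtCoh.H Y ((EtCoh.push f).obj (EtCoh.Gm X)) 2 := ξ.comp (Ext.mk₀ (resEt f)) (add_zero 2)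
  have hη : IsOfFinAddOrder η := by
    obtain ⟨m, hm, hm0⟩ := isOfFinAddOrder_iff_nsmul_eq_zero.1 (hX (e η))
    exact isOfFinAddOrder_iff_nsmul_eq_zero.2 ⟨m, hm, e.injective (by rw [map_nsmul, hm0, map_zero])⟩
  obtain ⟨m, hm, hm0⟩ := isOfFinAddOrder_iff_nsmul_eq_zero.1 hη
  refine isOfFinAddOrder_iff_nsmul_eq_zero.2 ⟨m * d, Nat.mul_pos hm hd, ?_⟩
  have h1 : η.comp (Ext.mk₀ (normEt f)) (add_zero 2) = d • ξ := by
    rw [Ext.comp_assoc_of_second_deg_zero, Ext.mk₀_comp_mk₀, res_norm f hdeg]
    let c : Ext (EtCoh.Gm Y) (EtCoh.Gm Y) 0 →+ EtCoh.H Y (EtCoh.Gm Y) 2 :=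
      AddMonoidHom.mk' (fun z => ξ.comp z (add_zero 2)) fun a b => Ext.comp_add _ _ _ _
    show c (Ext.addEquiv₀.symm (d • 𝟙 (EtCoh.Gm Y))) = _
    rw [map_nsmul, map_nsmul]
    exact congrArg (d • ·) (Ext.comp_mk₀_id ξ)
  rw [mul_nsmul', ← h1]
  let c' : EtCoh.H Y ((EtCoh.push f).obj (EtCoh.Gm X)) 2 →+ EtCoh.H Y (EtCoh.Gm Y) 2 :=
    AddMonoidHom.mk' (fun z => z.comp (Ext.mk₀ (normEt f)) (add_zero 2)) fun a b => Ext.add_comp _ _ _ _
  show m • c' η = 0
  rw [← map_nsmul, hm0, map_zero]

end Groth.Agent.S19227
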