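import Groth.Statements.S1925
import Groth.Agent.CycLib.C1
import Groth.Agent.CycLib.DivPull

set_option autoImplicit false
universe u
open CategoryTheory AlgebraicGeometry
open Cyc

namespace Groth.Agent.S1925

open CategoryTheory CategoryTheory.Limits AlgebraicGeometry

set_option backward.isDefEq.respectTransparency false
set_option backward.defeqAttrib.useBackward true
set_option linter.style.haveILetI false

open scoped Pointwise


/-- Let L be an invertible O_Y-module and s a global section of L; assume δ ≤ k + 1 on Y, δ ≤ k on the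
zero locus of s, and multiplication by the germ of s injective on O_{Y,ξ} at the points ξ of
δ-dimension k. Writing [Y]_{k+1} = Σ n_i[Y_i] over the irreducible components of δ-dimension k + 1,
one has [Z(s)]_k = Σ n_i [Z(s|_{Y_i})]_k as k-cycles on Y; here the right side is computed as c_1(L)
∩ [Y]_{k+1} with the rational sections induced by s. Here L(ξ) = L_ξ/𝔪_ξ L_ξ is the space of
rational sections of L on the closure of ξ, div_{L|W}(s) and c_1(L) ∩ α are computed as coefficient
functions from chosen nonzero rational sections (Cyc.secDivFun, Cyc.c1CapFun), and results are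
compared up to rational equivalence for any cycles with those coefficients. A pair (X, δ) with
Cyc.IsSetup plays the role of a scheme locally of finite type over a fixed base with a dimension
function (X locally Noetherian with universally catenary local rings, δ a dimension function), and
Cyc.DeltaCompat records that the dimension function upstairs is the induced one. -/
theorem result (Y : Scheme.{u}) (δ : Y → ℤ) (hY : Cyc.IsSetup Y δ) (L : Y.Modules) (hL : PicF.IsInvertible L) (k : ℤ) (hdim : ∀ y : Y, δ y ≤ k + 1) (s : L.presheaf.obj (Opposite.op ⊤)) (hZ : ∀ y : Y, (L.presheaf.germ ⊤ y trivial) s ∈ IsLocalRing.maximalIdeal (Y.presheaf.stalk y) • (⊤ : Submodule (Y.presheaf.stalk y) (L.presheaf.stalk y)) → δ y ≤ k) (hreg : ∀ y : Y, δ y = k → Function.Injective (fun a : Y.presheaf.stalk y => a • (L.presheaf.germ ⊤ y trivial) s)) : Cyc.zeroSectionFun δ k L s = Cyc.c1CapFun δ L (Cyc.subschemeFun δ (k + 1) (𝟙 Y)) (fun ξ => Submodule.Quotient.mk ((L.presheaf.germ ⊤ ξ trivial)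 s)) := by
  classical
  obtain ⟨hYn, -, hδ⟩ := hY
  funext y
  have hsub : ∀ ξ : Y, Cyc.subschemeFun δ (k + 1) (𝟙 Y) ξ = if δ ξ = k + 1 then
      ((Module.length (Y.presheaf.stalk ξ) (Y.presheaf.stalk ξ)).toNat : ℤ) else 0 := by
    intro ξ
    unfold Cyc.subschemeFun
    split_ifs
    · rw [show {z : Y | (𝟙 Y : Y ⟶ Y) z = ξ} = {ξ} from Set.ext fun z => Iff.rfl, finsum_mem_singleton]
    · rfl
  show Cyc.zeroSectionFun δ k L s y = ∑ᶠ ξ : Y, Cyc.subschemeFun δ (k + 1) (𝟙 Y) ξ *
    Cyc.secDivFun δ L ξ (Submodule.Quotient.mk (L.presheaf.germ ⊤ ξ trivial s)) y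
  by_cases hy : δ y = k
  swap
  · rw [Cyc.zeroSectionFun, if_neg hy, finsum_eq_zero_of_forall_eq_zero fun ξ => ?_]
    by_contra hne
    have h1 := (CycLib.specializes_of_secDivFun_ne_zero (right_ne_zero_of_mul hne)).2
    have h2 := left_ne_zero_of_mul hne
    rw [hsub] at h2
    split_ifs at h2 with h3
    · omega
    · exact h2 rfl
  obtain ⟨t₀, ht₀⟩ := CycLib.exists_genAt hL y
  have htx : Function.Bijective fun r : Y.presheaf.stalk y => r • t₀ := by
    have := ht₀ y specializes_rfl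
    rwa [TopCat.Presheaf.stalkSpecializes_refl] at this
  have hex : ∃ t : L.presheaf.stalk y, Submodule.span (Y.presheaf.stalk y) {t} = ⊤ :=
    ⟨t₀, Submodule.eq_top_iff'.2 fun m => Submodule.mem_span_singleton.2 (htx.2 m)⟩
  rw [Cyc.zeroSectionFun, if_pos hy, dif_pos hex]
  set t := Classical.choose hex
  have htt : Submodule.span (Y.presheaf.stalk y) {t} = ⊤ := Classical.choose_spec hex
  have hexf : ∃ f : Y.presheaf.stalk y, (L.presheaf.germ ⊤ y trivial) s = f • t := by
    obtain ⟨f, hf⟩ := Submodule.mem_span_singleton.1 (htt.ge (Submodule.mem_top (x := L.presheaf.germ ⊤ y trivial s)))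
    exact ⟨f, hf.symm⟩
  rw [dif_pos hexf]
  set f₀ := Classical.choose hexf
  have hf₀ : (L.presheaf.germ ⊤ y trivial) s = f₀ • t := Classical.choose_spec hexf
  obtain ⟨v, hv⟩ := htx.2 t
  change v • t₀ = t at hv
  obtain ⟨w, hw⟩ := Submodule.mem_span_singleton.1 (htt.ge (Submodule.mem_top (x := t₀)))
  have hwv : w * v = 1 := htx.1 (by
    show (w * v) • t₀ = (1 : Y.presheaf.stalk y) • t₀
    rw [one_smul, mul_smul, hv, hw])
  rw [← hv, ← mul_smul] at hf₀
  rw [← Ideal.span_singleton_mul_right_unit (IsUnit.of_mul_eq_one w (by rwa [mul_comm] at hwv) : IsUnit v) f₀]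
  set f := f₀ * v
  have hnzd : f ∈ nonZeroDivisors (Y.presheaf.stalk y) := by
    refine mem_nonZeroDivisors_iff_right.2 fun z hz => hreg y hy ?_
    show z • _ = (0 : Y.presheaf.stalk y) • _
    rw [hf₀, ← mul_smul, hz, zero_smul, zero_smul]
  have hprime : ∀ Q : PrimeSpectrum (Y.presheaf.stalk y), Q.asIdeal ≠ IsLocalRing.maximalIdeal _ →
      δ (Y.fromSpecStalk y Q) = k + 1 := by
    intro Q hQ
    have hne : Y.fromSpecStalk y Q ≠ y := fun e => hQ (congrArg PrimeSpectrum.asIdeal
      ((Y.fromSpecStalk y).isEmbedding.injective (e.trans Scheme.fromSpecStalk_closedPoint.symm)))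
    have := (hδ _ _ (CycLib.fromSpecStalk_specializes Q) hne).1
    have := hdim (Y.fromSpecStalk y Q)
    omega
  have hkmin : ∀ Q Q' : PrimeSpectrum (Y.presheaf.stalk y), Q < Q' → Q'.asIdeal = IsLocalRing.maximalIdeal _ := by
    intro Q Q' h
    by_contra h'
    have hQ : Q.asIdeal ≠ IsLocalRing.maximalIdeal _ := fun e =>
      (show Q.asIdeal < Q'.asIdeal from h).not_ge (e ▸ IsLocalRing.le_maximalIdeal Q'.2.ne_top)
    have h1 := (hδ _ _ ((CycLib.fromSpecStalk_specializes_iff Q Q').2 h.le)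
      ((Y.fromSpecStalk y).isEmbedding.injective.ne h.ne)).1
    rw [hprime Q hQ, hprime Q' h'] at h1
    omega
  haveI : Ring.KrullDimLE 1 (Y.presheaf.stalk y) := by
    rw [Ring.krullDimLE_iff]
    refine iSup_le fun l => ?_
    by_contra hl
    have hlen : 2 ≤ l.length := by
      by_contra h'
      exact hl (by exact_mod_cast (show l.length ≤ 1 by omega))
    have h01 : l ⟨0, by omega⟩ < l ⟨1, by omega⟩ := l.strictMono (Fin.mk_lt_mk.2 zero_lt_one)
    have h12 : l ⟨1, by omega⟩ < l ⟨2, by omega⟩ := l.strictMono (Fin.mk_lt_mk.2 one_lt_two)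
    exact (show (l ⟨1, by omega⟩).asIdeal < (l ⟨2, by omega⟩).asIdeal from h12).not_ge
      (hkmin _ _ h01 ▸ IsLocalRing.le_maximalIdeal (l ⟨2, by omega⟩).2.ne_top)
  have hfin : IsFiniteLength (Y.presheaf.stalk y) (Y.presheaf.stalk y ⧸ Ideal.span {f}) :=
    Module.length_ne_top_iff.1 (Ring.ord_ne_top hnzd)
  have hd1 : Module.supportDim (Y.presheaf.stalk y) (Y.presheaf.stalk y) ≤ 1 := by
    rw [Module.supportDim_self_eq_ringKrullDim]
    exact Ring.krullDimLE_iff.1 inferInstance
  have hspan : f • (⊤ : Submodule (Y.presheaf.stalk y) (Y.presheaf.stalk y)) = Ideal.span {f} := by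
    ext z
    rw [Submodule.mem_smul_pointwise_iff_exists, Ideal.mem_span_singleton]
    exact ⟨fun ⟨a, _, e⟩ => ⟨a, e.symm⟩, fun ⟨a, e⟩ => ⟨a, trivial, e.symm⟩⟩
  have hd0 : Module.supportDim (Y.presheaf.stalk y)
      (Y.presheaf.stalk y ⧸ f • (⊤ : Submodule (Y.presheaf.stalk y) (Y.presheaf.stalk y))) ≤ 0 := by
    rw [hspan]
    haveI : Subsingleton (Module.support (Y.presheaf.stalk y) (Y.presheaf.stalk y ⧸ Ideal.span {f})) := ⟨fun q q' =>
      Subtype.ext (PrimeSpectrum.ext ((IsLocalRing.eq_maximalIdeal ((S16234.result _ _).2 hfin q.1 q.2)).trans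
        (IsLocalRing.eq_maximalIdeal ((S16234.result _ _).2 hfin q'.1 q'.2)).symm))⟩
    exact Order.krullDim_nonpos_of_subsingleton
  have key := S1833.result (Y.presheaf.stalk y) (Y.presheaf.stalk y) f hd1 hd0
  rw [LinearMap.ker_eq_bot.2 (show Function.Injective (LinearMap.lsmul (Y.presheaf.stalk y) (Y.presheaf.stalk y) f) from
      fun a b e => (isRegular_iff_mem_nonZeroDivisors.2 hnzd).left e),
    show Module.length (Y.presheaf.stalk y) (⊥ : Submodule (Y.presheaf.stalk y) (Y.presheaf.stalk y)) = 0 from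
      Module.length_eq_zero, zero_add, hspan] at key
  rw [key]
  let P : PrimeSpectrum (Y.presheaf.stalk y) → Prop := fun Q =>
    Q ∈ Module.support (Y.presheaf.stalk y) (Y.presheaf.stalk y) ∧ Q.asIdeal ≠ IsLocalRing.maximalIdeal _
  let g : PrimeSpectrum (Y.presheaf.stalk y) → ℕ∞ := fun Q =>
    Ring.ord (Y.presheaf.stalk y ⧸ Q.asIdeal) (Ideal.Quotient.mk Q.asIdeal f) *
      Module.length (Localization.AtPrime Q.asIdeal) (LocalizedModule Q.asIdeal.primeCompl (Y.presheaf.stalk y))
  rw [show (∑ᶠ (Q : PrimeSpectrum (Y.presheaf.stalk y)) (_ : P Q), g Q) = ∑ᶠ Q : {Q // P Q}, g Q.1 from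
    (finsum_subtype_eq_finsum_cond (f := g) P).symm]
  haveI : Finite {Q // P Q} := by
    haveI : Finite (minimalPrimes (Y.presheaf.stalk y)) := (minimalPrimes.finite_of_isNoetherianRing _).to_subtype
    refine Finite.of_injective (β := minimalPrimes (Y.presheaf.stalk y)) (fun Q => ⟨Q.1.asIdeal, ?_⟩)
      fun Q Q' e => Subtype.ext (PrimeSpectrum.ext (congrArg (fun R : minimalPrimes (Y.presheaf.stalk y) => R.1) e))
    refine ⟨⟨Q.1.2, bot_le⟩, fun R hR hRQ => ?_⟩
    rcases hRQ.lt_or_eq with h | h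
    · exact absurd (hkmin ⟨R, hR.1⟩ Q.1 h) Q.2.2
    · exact h.ge
  haveI := Fintype.ofFinite {Q // P Q}
  rw [finsum_eq_sum_of_fintype, ENat.toNat_sum]
  swap
  · intro Q _ htop
    have h1 : (∑ᶠ (Q : PrimeSpectrum (Y.presheaf.stalk y)) (_ : P Q), g Q) ≠ ⊤ :=
      key ▸ Module.length_ne_top_iff.2 hfin
    refine h1 (top_le_iff.1 ?_)
    rw [← finsum_subtype_eq_finsum_cond (f := g) P, finsum_eq_sum_of_fintype]
    exact htop.symm.le.trans (Finset.single_le_sum (f := fun Q : {Q // P Q} => g Q.1) (fun _ _ => bot_le) (Finset.mem_univ Q))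
  let ι : {Q // P Q} ↪ Y := ⟨fun Q => Y.fromSpecStalk y Q.1, fun Q Q' e =>
    Subtype.ext ((Y.fromSpecStalk y).isEmbedding.injective e)⟩
  rw [finsum_eq_sum_of_support_subset (α := Y) _ (s := Finset.univ.map ι) ?_, Finset.sum_map]
  swap
  · intro ξ hξ
    obtain ⟨h1, h2⟩ := CycLib.specializes_of_secDivFun_ne_zero (right_ne_zero_of_mul hξ)
    obtain ⟨Q, rfl⟩ := CycLib.exists_fromSpecStalk h1
    refine Finset.mem_coe.2 (Finset.mem_map.2 ⟨⟨Q, Module.mem_support_iff_of_finite.2 ?_, fun e => ?_⟩, Finset.mem_univ _, rfl⟩)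
    · rw [Module.annihilator_eq_bot.2 inferInstance]
      exact bot_le
    · rw [show Q = IsLocalRing.closedPoint _ from PrimeSpectrum.ext e, Scheme.fromSpecStalk_closedPoint] at h2
      omega
  rw [Nat.cast_sum]
  refine Finset.sum_congr rfl fun Q _ => ?_
  show ((g Q.1).toNat : ℤ) = Cyc.subschemeFun δ (k + 1) (𝟙 Y) (Y.fromSpecStalk y Q.1) *
    Cyc.secDivFun δ L (Y.fromSpecStalk y Q.1) (Submodule.Quotient.mk (L.presheaf.germ ⊤ (Y.fromSpecStalk y Q.1) trivial s)) y
  have hd := hprime Q.1 Q.2.2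
  have hη := CycLib.fromSpecStalk_specializes Q.1
  have hker := CycLib.ker_specMap_eq Q.1 hη
  have hs' : (L.presheaf.germ ⊤ (Y.fromSpecStalk y Q.1) trivial) s =
      Y.presheaf.stalkSpecializes hη f • L.presheaf.stalkSpecializes hη t₀ := by
    rw [← RefOne.stalkSpecializes_smul, ← hf₀, TopCat.Presheaf.germ_stalkSpecializes_apply]
  have hne : Cyc.specMap y (Y.fromSpecStalk y Q.1) hη f ≠ 0 := fun e => by
    have h0 := (CycLib.smul_mkF_eq_zero_iff (ht₀ _ hη) _).2 e
    replace h0 : CycLib.mkF L _ (Y.presheaf.stalkSpecializes hη f • L.presheaf.stalkSpecializes hη t₀) = 0 := h0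
    rw [← hs', Submodule.Quotient.mk_eq_zero] at h0
    have := hZ _ h0
    omega
  rw [hsub, if_pos hd, hs', Submodule.Quotient.mk_smul, CycLib.secDivFun_of hη (by omega)]
  rw [show Cyc.secOrdAt L (Y.fromSpecStalk y Q.1) y hη (Y.presheaf.stalkSpecializes hη f •
      (Submodule.Quotient.mk (L.presheaf.stalkSpecializes hη t₀) : Cyc.secFibre L (Y.fromSpecStalk y Q.1))) =
    Cyc.ordAt y (Y.fromSpecStalk y Q.1) hη (Cyc.specMap y (Y.fromSpecStalk y Q.1) hη f) from
      CycLib.secOrdAt_eq hδ hη (by omega) htx (ht₀ _ hη) _, CycLib.ordAt_specMap hδ hη (by omega) hne,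
    show Ring.ord (Cyc.LocQuot y _ hη) (Ideal.Quotient.mk _ f) = Ring.ord (Y.presheaf.stalk y ⧸ Q.1.asIdeal) (Ideal.Quotient.mk _ f) from by
      rw [show Ideal.Quotient.mk Q.1.asIdeal f = Ideal.quotEquivOfEq hker (Ideal.Quotient.mk _ f) from
        (Ideal.quotEquivOfEq_mk hker f).symm, TameLib.ord_ringEquiv]]
  show ((g Q.1).toNat : ℤ) = _
  simp only [g]
  rw [ENat.toNat_mul]
  push_cast
  rw [mul_comm]
  congr 1
  letI := (Y.presheaf.stalkSpecializes hη).hom.toAlgebra
  haveI := S5090.isLocalization_stalkSpecializes hη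
  haveI : IsLocalization.AtPrime (Y.presheaf.stalk (Y.fromSpecStalk y Q.1)) Q.1.asIdeal := by
    have e : Q.1.asIdeal = (IsLocalRing.maximalIdeal _).comap (Y.presheaf.stalkSpecializes hη).hom := by
      rw [← hker]
      ext t
      exact IsLocalRing.residue_eq_zero_iff _
    have h' : Q.1.asIdeal.primeCompl =
        ((IsLocalRing.maximalIdeal _).comap (Y.presheaf.stalkSpecializes hη).hom).primeCompl := by
      ext t
      simp only [Ideal.primeCompl, Submonoid.mem_mk, Subsemigroup.mem_mk, Set.mem_compl_iff, SetLike.mem_coe, ← e]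
    show IsLocalization Q.1.asIdeal.primeCompl _
    rw [h']
    infer_instance
  have hloc := CycLib.length_localized_quot (S := Y.presheaf.stalk (Y.fromSpecStalk y Q.1)) Q.1.asIdeal
    (⊥ : Ideal (Y.presheaf.stalk y))
  rw [Ideal.map_bot, (Submodule.quotEquivOfEqBot (⊥ : Ideal (Y.presheaf.stalk (Y.fromSpecStalk y Q.1))) rfl).length_eq] at hloc
  rw [← hloc]
  congr 2
  let e := Submodule.quotEquivOfEqBot (⊥ : Ideal (Y.presheaf.stalk y)) rfl
  exact (LinearEquiv.ofBijective (LocalizedModule.map Q.1.asIdeal.primeCompl e.toLinearMap)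
    ⟨LocalizedModule.map_injective _ _ e.injective, LocalizedModule.map_surjective _ _ e.surjective⟩).length_eq.symm

end Groth.Agent.S1925
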