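import Groth.Statements.S1924
import Groth.Agent.CycLib.Closed
import Groth.Agent.S1925

set_option autoImplicit false
universe u
open CategoryTheory AlgebraicGeometry
open Cyc

namespace Groth.Agent.S1924

open CategoryTheory CategoryTheory.Limits AlgebraicGeometry

set_option backward.isDefEq.respectTransparency false
set_option backward.defeqAttrib.useBackward true
set_option linter.style.haveILetI false


/-- Let L be invertible on X, ι : Y → X a closed immersion with δ ≤ k + 1 on Y, and s a global section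
of L|_Y = ι^*L such that the points of its zero locus have δ ≤ k and, at every such point ξ with
δ(ξ) = k, multiplication by the germ of s is injective on O_{Y,ξ}. Then c_1(L) ∩ [Y]_{k+1} ∼_rat
ι_*[Z(s)]_k as k-cycles on X (for any nonzero rational sections used to compute the left side and
any cycle on Y with the coefficients of [Z(s)]_k). Here L(ξ) = L_ξ/𝔪_ξ L_ξ is the space of rational
sections of L on the closure of ξ, div_{L|W}(s) and c_1(L) ∩ α are computed as coefficient functions
from chosen nonzero rational sections (Cyc.secDivFun, Cyc.c1CapFun), and results are compared up to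
rational equivalence for any cycles with those coefficients. A pair (X, δ) with Cyc.IsSetup plays
the role of a scheme locally of finite type over a fixed base with a dimension function (X locally
Noetherian with universally catenary local rings, δ a dimension function), and Cyc.DeltaCompat
records that the dimension function upstairs is the induced one. -/
theorem result (X Y : Scheme.{u}) (δ : X → ℤ) (hX : Cyc.IsSetup X δ) (L : X.Modules) (hL : PicF.IsInvertible L) (ι : Y ⟶ X) [IsClosedImmersion ι] (k : ℤ) (hY : ∀ y : Y, δ (ι y) ≤ k + 1) (s : ((Scheme.Modules.pullback ι).obj L).presheaf.obj (Opposite.op ⊤)) (hZ : ∀ y : Y, (((Scheme.Modules.pullback ι).obj L).presheaf.germ ⊤ y trivial) s ∈ IsLocalRing.maximalIdeal (Y.presheaf.stalk y) • (⊤ : Submodule (Y.presheaf.stalk y) (((Scheme.Modules.pullback ι).obj L).presheaf.stalk y)) → δ (ι y) ≤ k) (hreg : ∀ y : Y, δ (ι y) = k → Function.Injective (fun a : Y.presheaf.stalk y => a • (((Scheme.Modules.pullback ι).obj L).presheaf.germ ⊤ y trivial) s)) (v : (ξ : X)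 → Cyc.secFibre L ξ) (hv : ∀ ξ, v ξ ≠ 0) (γ : AlgebraicCycle X ℤ) (hγ : ⇑γ = Cyc.c1CapFun δ L (Cyc.subschemeFun δ (k + 1) ι) v) (ζ : AlgebraicCycle Y ℤ) (hζ : ⇑ζ = Cyc.zeroSectionFun (fun y => δ (ι y)) k ((Scheme.Modules.pullback ι).obj L) s) : Cyc.RatEquiv δ k γ (AlgebraicCycle.map ι (fun y => δ (ι y)) δ ζ) := by
  classical
  obtain ⟨hXn, hcat, hδ⟩ := hX
  haveI := CycLib.isLocallyNoetherian_closed ι
  have hδY : Cyc.IsDimFun Y fun y => δ (ι y) := CycLib.isDimFun_closed ι hδ
  have hcatY : Cyc.IsSetup Y fun y => δ (ι y) := by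
    refine ⟨inferInstance, fun y => ?_, hδY⟩
    exact RatliffLib.isUniversallyCatenary_of_surjective (ι.stalkMap y).hom (ι.stalkMap_surjective y) (hcat (ι y))
  let δY : Y → ℤ := fun y => δ (ι y)
  let L' := (Scheme.Modules.pullback ι).obj L
  let a : AlgebraicCycle Y ℤ :=
    { toFun := Cyc.subschemeFun δY (k + 1) (𝟙 Y)
      supportWithinDomain' := Set.subset_univ _
      supportLocallyFiniteWithinDomain' := fun z _ => by
        obtain ⟨V, hV, hz⟩ := CycLib.exists_affine z
        haveI : IsNoetherianRing Γ(Y, V) := IsLocallyNoetherian.component_noetherian ⟨V, hV⟩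
        refine ⟨V, V.2.mem_nhds hz, ((((minimalPrimes.finite_of_isNoetherianRing Γ(Y, V))).preimage
          (f := PrimeSpectrum.asIdeal) (fun p _ q _ e => PrimeSpectrum.ext e)).image fun q => hV.fromSpec q).subset
          fun y hy => ?_⟩
        obtain ⟨hyV, hy⟩ := hy
        have hyk : δ (ι y) = k + 1 := by
          by_contra hne
          exact hy (if_neg hne)
        refine ⟨hV.primeIdealOf ⟨y, hyV⟩, ⟨⟨(hV.primeIdealOf ⟨y, hyV⟩).2, bot_le⟩, fun R hR hRQ => ?_⟩,
          hV.fromSpec_primeIdealOf ⟨y, hyV⟩⟩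
        have h1 := ((PrimeSpectrum.le_iff_specializes ⟨R, hR.1⟩ (hV.primeIdealOf ⟨y, hyV⟩)).1 hRQ).map hV.fromSpec.continuous
        rw [hV.fromSpec_primeIdealOf] at h1
        by_contra hne
        have hne' : hV.fromSpec ⟨R, hR.1⟩ ≠ y := fun e => hne (congrArg PrimeSpectrum.asIdeal
          (hV.fromSpec.isEmbedding.injective (e.trans (hV.fromSpec_primeIdealOf ⟨y, hyV⟩).symm))).ge
        have := (hδY _ _ h1 hne').1
        have := hY (hV.fromSpec ⟨R, hR.1⟩)
        change δ (ι y) < δ (ι _) at *
        omega }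
  have ha : a ∈ Cyc.Zk Y δY (k + 1) := fun y hy => if_neg hy
  let γ₀ : AlgebraicCycle Y ℤ :=
    { toFun := fun y => γ (ι y)
      supportWithinDomain' := Set.subset_univ _
      supportLocallyFiniteWithinDomain' := fun z _ => by
        obtain ⟨W, hW, hz⟩ := CycLib.exists_affine (ι z)
        refine ⟨ι ⁻¹ᵁ W, (ι ⁻¹ᵁ W).2.mem_nhds hz, ((γ.locallyFiniteSupport.finite_inter_support_of_isCompact
          hW.isCompact).preimage ι.isEmbedding.injective.injOn).subset fun y hy => hy⟩ }
  have hsub : ∀ y, Cyc.subschemeFun δ (k + 1) ι (ι y) = Cyc.subschemeFun δY (k + 1) (𝟙 Y) y := fun y => by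
    unfold Cyc.subschemeFun
    rw [show {z : Y | ι z = ι y} = {y} from Set.ext fun z => ⟨fun h => ι.isEmbedding.injective h, fun h => by rw [h]; rfl⟩,
      show {z : Y | (𝟙 Y : Y ⟶ Y) z = y} = {y} from Set.ext fun z => Iff.rfl]
  have hrange : ∀ x, Cyc.subschemeFun δ (k + 1) ι x ≠ 0 → x ∈ Set.range ι := fun x hx => by
    by_contra hn
    refine hx ?_
    unfold Cyc.subschemeFun
    rw [show {z : Y | ι z = x} = ∅ from Set.eq_empty_of_forall_notMem fun z hz => hn ⟨z, hz⟩, finsum_mem_empty, ite_self]
  have hfall : ∀ y, CycLib.pullFib ι L y (v (ι y)) ≠ 0 := fun y => CycLib.pullFib_ne_zero ι L hL (hv (ι y))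
  have hch : ∀ y, Cyc.gysinChoice L' s (fun y => CycLib.pullFib ι L y (v (ι y))) y ≠ 0 := fun y => by
    unfold Cyc.gysinChoice
    split_ifs with h
    exacts [h, hfall y]
  have h1 : Cyc.RatEquiv δY k γ₀ ζ := by
    refine CycLib.ratEquiv_c1Cap hδY (AmpleLib.isInvertible_pullback ι hL) ha hch hfall (γ := ζ) (γ' := γ₀) ?_ ?_
    · rw [hζ, S1925.result Y δY hcatY L' (AmpleLib.isInvertible_pullback ι hL) k hY s hZ hreg]
      funext y
      refine finsum_congr fun η => ?_
      show Cyc.subschemeFun δY (k + 1) (𝟙 Y) η * _ = Cyc.subschemeFun δY (k + 1) (𝟙 Y) η * _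
      by_cases h : δ (ι η) = k + 1
      · congr 2
        unfold Cyc.gysinChoice
        refine (if_pos fun e => ?_).symm
        have := hZ η ((Submodule.Quotient.mk_eq_zero _).1 e)
        omega
      · rw [show Cyc.subschemeFun δY (k + 1) (𝟙 Y) η = 0 from if_neg h, zero_mul, zero_mul]
    · funext y
      show γ (ι y) = _
      rw [hγ, CycLib.c1CapFun_closed ι hδ hL _ hrange]
      refine finsum_congr fun η => ?_
      beta_reduce
      rw [hsub]
      rfl
  have h2 := CycLib.ratEquiv_map_closed ι hδ h1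
  rwa [show AlgebraicCycle.map ι δY δ γ₀ = γ from by
    ext x
    by_cases hx : x ∈ Set.range ι
    · obtain ⟨y, rfl⟩ := hx
      exact CycLib.map_closed_apply ι γ₀ y
    · rw [CycLib.map_closed_apply_of_notMem ι γ₀ hx, hγ, CycLib.c1CapFun_eq_zero_of_notMem ι _ hrange v hx]] at h2

end Groth.Agent.S1924
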