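import Groth.Statements.S19240
import Groth.Agent.FrobFactLib.Main
import Groth.Agent.CurveFF.GenEtale

set_option autoImplicit false
universe u
open FrobSch

namespace Groth.Agent.S19240

open CategoryTheory CategoryTheory.Limits AlgebraicGeometry

set_option backward.isDefEq.respectTransparency false
set_option backward.defeqAttrib.useBackward true
set_option linter.style.haveILetI false

set_option maxHeartbeats 1000000
set_option backward.isDefEq.respectTransparency.types false

open CategoryTheory CategoryTheory.Limits AlgebraicGeometry in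
/-- Let k be a perfect field of characteristic p > 0 and let u : X ⟶ Y be a k-morphism between integral
k-schemes (separated, of finite type and quasi-projective over k) which is a universal
homeomorphism, and assume Y is normal. Then the degree of the function field of X over that of Y is
p ^ n for some natural number n, and for this n there is a universal homeomorphism v : Y ⟶ X^{(n)},
where X^{(n)} is the base change of X along the n-th power of the Frobenius of Spec k, such that v
is a k-morphism, u followed by v is the n-th relative Frobenius of X over k (its composite with the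
projection X^{(n)} ⟶ X is the n-th power of the absolute Frobenius of X) and v followed by the base
change of u is the n-th relative Frobenius of Y over k (the composite of v with the projection to X
and with u is the n-th power of the absolute Frobenius of Y). -/
theorem result
    (p : ℕ) [Fact p.Prime] (k : Type u) [Field k] [CharP k p] [PerfectField k]
    {X Y : Scheme.{u}} (fX : X ⟶ Spec (CommRingCat.of k)) (fY : Y ⟶ Spec (CommRingCat.of k))
    [IsIntegral X] [IsIntegral Y] [FrobSch.IsCharP X p] [FrobSch.IsCharP Y p]
    [IsSeparated fX] [IsSeparated fY] [LocallyOfFiniteType fX] [LocallyOfFiniteType fY]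
    (hqX : ∃ (N : ℕ) (i : X ⟶ CohB1.ProjSpace N k), IsImmersion i ∧ i ≫ CohB1.ProjSpace.toSpec N k = fX)
    (hqY : ∃ (N : ℕ) (i : Y ⟶ CohB1.ProjSpace N k), IsImmersion i ∧ i ≫ CohB1.ProjSpace.toSpec N k = fY)
    (hY : Pi1.IsNormalScheme Y)
    (u : X ⟶ Y) (hu : u ≫ fY = fX) (huniv : FlatMor.IsUnivHomeo u)
    (e : u (genericPoint X) = genericPoint Y) :
    ∃ n : ℕ,
      @Module.finrank Y.functionField X.functionField _ _
          (Y.presheaf.stalkSpecializes (specializes_of_eq e) ≫ u.stalkMap (genericPoint X)).hom.toAlgebra.toModule = p ^ n ∧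
      ∃ v : Y ⟶ pullback fX ((fun g : Spec (CommRingCat.of k) ⟶ Spec (CommRingCat.of k) => g ≫ FrobSch.frob (Spec (CommRingCat.of k)) p)^[n] (𝟙 (Spec (CommRingCat.of k)))),
        FlatMor.IsUnivHomeo v ∧
        v ≫ pullback.snd fX ((fun g : Spec (CommRingCat.of k) ⟶ Spec (CommRingCat.of k) => g ≫ FrobSch.frob (Spec (CommRingCat.of k)) p)^[n] (𝟙 (Spec (CommRingCat.of k)))) = fY ∧
        u ≫ v ≫ pullback.fst fX ((fun g : Spec (CommRingCat.of k) ⟶ Spec (CommRingCat.of k) => g ≫ FrobSch.frob (Spec (CommRingCat.of k)) p)^[n] (𝟙 (Spec (CommRingCat.of k)))) =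
          (fun g : X ⟶ X => g ≫ FrobSch.frob X p)^[n] (𝟙 X) ∧
        v ≫ pullback.fst fX ((fun g : Spec (CommRingCat.of k) ⟶ Spec (CommRingCat.of k) => g ≫ FrobSch.frob (Spec (CommRingCat.of k)) p)^[n] (𝟙 (Spec (CommRingCat.of k)))) ≫ u =
          (fun g : Y ⟶ Y => g ≫ FrobSch.frob Y p)^[n] (𝟙 Y) := by
  haveI : IsIntegralHom u := UnivHomeo.isIntegralHom huniv
  haveI : Surjective u := UnivHomeo.surjective huniv
  haveI : UniversallyInjective u := UnivHomeo.universallyInjective huniv
  haveI : LocallyOfFiniteType u := by
    haveI : LocallyOfFiniteType (u ≫ fY) := by rw [hu]; infer_instance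
    exact locallyOfFiniteType_of_comp u fY
  haveI : IsFinite u := (IsFinite.iff_isIntegralHom_and_locallyOfFiniteType u).2 ⟨inferInstance, inferInstance⟩
  letI := NormHomLib.ffAlg u
  haveI := NormHomLib.finite_functionField u
  haveI : CharP Y.functionField p := (CharP.charP_iff_prime_eq_zero Fact.out).2 (by
    rw [← map_natCast (Y.presheaf.germ ⊤ (genericPoint Y) trivial).hom, FrobSch.IsCharP.natCast_eq_zero, map_zero])
  haveI : ExpChar Y.functionField p := ExpChar.prime Fact.out
  haveI : IsPurelyInseparable Y.functionField X.functionField := by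
    have h := ((FrobSchLib.ui_iff' u).1 inferInstance).2 (genericPoint X)
    letI := (u.residueFieldMap (genericPoint X)).hom.toAlgebra
    haveI : IsPurelyInseparable (Y.residueField (u (genericPoint X))) (X.residueField (genericPoint X)) := h
    haveI := FrobSchLib.charP_residueField (S := Y) p (u (genericPoint X))
    haveI : ExpChar (Y.residueField (u (genericPoint X))) p := ExpChar.prime Fact.out
    refine (isPurelyInseparable_iff_pow_mem Y.functionField p).2 fun z => ?_
    obtain ⟨m, y, hy⟩ := (isPurelyInseparable_iff_pow_mem (Y.residueField (u (genericPoint X))) p).1 h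
      (CurveFF.GenEtale.topEquiv (X := X) z)
    obtain ⟨c, rfl⟩ := (CurveFF.GenEtale.baseEquiv u).surjective y
    refine ⟨m, c, (CurveFF.GenEtale.topEquiv (X := X)).injective ?_⟩
    rw [map_pow, ← hy]
    exact (CurveFF.GenEtale.equiv_comm u c).symm
  obtain ⟨n, hn⟩ := IsPurelyInseparable.finrank_eq_pow Y.functionField X.functionField p
  refine ⟨n, hn, ?_⟩
  have hpow : ∀ z : X.functionField, ∃ c, (NormHomLib.ffMap u).hom c = z ^ p ^ n := fun z => by
    have he : IsPurelyInseparable.elemExponent Y.functionField z ≤ n := by
      refine (Nat.pow_le_pow_iff_right (Fact.out : p.Prime).one_lt).1 ?_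
      rw [← IsPurelyInseparable.minpoly_natDegree_eq' Y.functionField p z, ← hn]
      exact minpoly.natDegree_le z
    obtain ⟨j, hj⟩ := Nat.exists_eq_add_of_le he
    have h := IsPurelyInseparable.algebraMap_elemReduct_eq' Y.functionField p z
    refine ⟨(IsPurelyInseparable.elemReduct Y.functionField z) ^ p ^ j, ?_⟩
    rw [hj, pow_add, pow_mul, map_pow]
    exact congrArg (· ^ p ^ j) h
  obtain ⟨w, hw⟩ := FrobFactLib.exists_factor p u n hY hpow huniv
  let FS := FrobFactLib.frobN p (Spec (CommRingCat.of k)) n
  have hwk : w ≫ fX = fY ≫ FS := FrobFactLib.comp_left_cancel u (by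
    rw [reassoc_of% hw, FrobFactLib.frobN_comp, reassoc_of% hu])
  have hwu : w ≫ u = FrobFactLib.frobN p Y n := FrobFactLib.comp_left_cancel u (by
    rw [reassoc_of% hw, FrobFactLib.frobN_comp])
  refine ⟨pullback.lift w fY hwk, ?_, pullback.lift_snd _ _ _, ?_, ?_⟩
  · have h1 : FlatMor.IsUnivHomeo w :=
      (S0416.result u w).1 (hw ▸ FrobFactLib.isUnivHomeo_frobN p X n) huniv
    have h2 : FlatMor.IsUnivHomeo (pullback.fst fX FS) :=
      (MorphismProperty.universally_isStableUnderBaseChange _).of_isPullback
        (IsPullback.of_hasPullback fX FS).flip (FrobFactLib.isUnivHomeo_frobN p _ n)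
    refine (S0416.result _ (pullback.fst fX FS)).2 ?_ h2
    exact (pullback.lift_fst w fY hwk).symm ▸ h1
  · rw [pullback.lift_fst]
    exact hw
  · rw [pullback.lift_fst_assoc]
    exact hwu

end Groth.Agent.S19240
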