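import Groth.Statements.S19243
import Groth.Agent.LimLib.RightLim
import Groth.Agent.LimLib.MittagLeffler
import Groth.Agent.RlimCrit.ModVanish
import Groth.Agent.RlimCrit.AbLimit

set_option autoImplicit false
universe u

set_option backward.isDefEq.respectTransparency false
open CohTop

namespace Groth.Agent.S19243

open CategoryTheory CategoryTheory.Limits TopologicalSpace Opposite in
/-- Let X be a topological space with a sheaf of (not necessarily commutative) rings R, E = (E_n)_{n ≥
0} an inverse system of R-modules indexed by the natural numbers and B a basis of the topology of X.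
Write R^i lim for the i-th right derived functor of the limit functor from ℕ-indexed inverse systems
of R-modules to R-modules (the limit functor is additive and the category of inverse systems has
injective resolutions; both facts are carried as instance hypotheses). (1) If H^i(U, E_n) = 0 for
every U in B, every n and every i ≥ 1, then R^i lim E = 0 for every i ≥ 2. (2) If in addition, for
every U in B, the inverse system of abelian groups (H^0(U, E_n))_n satisfies the Mittag-Leffler
condition, then R^i lim E = 0 for every i ≥ 1. (The source states this for a ringed space, with a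
commutative structure sheaf, and indexes the system by the integers n ≥ 1; commutativity plays no
role.) -/
theorem result
    (X : TopCat.{u}) (R : Sheaf (Opens.grothendieckTopology X) RingCat.{u})
    [(lim : (ℕᵒᵖ ⥤ SheafOfModules.{u} R) ⥤ SheafOfModules.{u} R).Additive]
    [HasInjectiveResolutions (ℕᵒᵖ ⥤ SheafOfModules.{u} R)]
    (E : ℕᵒᵖ ⥤ SheafOfModules.{u} R) (B : Set (Opens X)) (hB : Opens.IsBasis B)
    (ha : ∀ U ∈ B, ∀ (n i : ℕ), 1 ≤ i →
      Subsingleton (CohTop.HU ((SheafOfModules.toSheaf R).obj (E.obj (op n))) i U)) :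
    (∀ i : ℕ, 2 ≤ i →
      IsZero (((lim : (ℕᵒᵖ ⥤ SheafOfModules.{u} R) ⥤ SheafOfModules.{u} R).rightDerived i).obj E)) ∧
    ((∀ U ∈ B, (E ⋙ SheafOfModules.toSheaf R ⋙
        (sheafSections (Opens.grothendieckTopology X) AddCommGrpCat.{u}).obj (op U) ⋙
          forget AddCommGrpCat.{u}).IsMittagLeffler) →
      ∀ i : ℕ, 1 ≤ i →
        IsZero (((lim : (ℕᵒᵖ ⥤ SheafOfModules.{u} R) ⥤ SheafOfModules.{u} R).rightDerived i).obj E)) := by
  haveI : HasExt.{u} (SheafOfModules.{u} R) := CategoryTheory.hasExt_of_enoughInjectives.{u} _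
  letI : HasDerivedCategory.{u + 1} (Sheaf (Opens.grothendieckTopology X) AddCommGrpCat.{u}) := HasDerivedCategory.standard _
  have h1 : ∀ U ∈ B, ∀ (n k : ℕ), 0 < k →
      Subsingleton (Abelian.Ext.{u} ((RlimCrit.modP R).obj U) (E.obj (op n)) k) := fun U hU n k hk =>
    RlimCrit.subsingleton_ext_mod R U (E.obj (op n)) k (ha U hU n k hk)
  refine ⟨fun i hi => ?_, fun hML i hi => ?_⟩
  · obtain ⟨j, rfl⟩ : ∃ j, i = j + 1 := ⟨i - 1, by omega⟩
    exact LimLib.isZero_rightDerived_lim B (fun U => RlimCrit.exists_cover_of_isBasis hB U)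
      (RlimCrit.isLocGen_mod (R := R)) h1 j (fun U hU hj => absurd hj (by omega))
  · obtain ⟨j, rfl⟩ : ∃ j, i = j + 1 := ⟨i - 1, by omega⟩
    refine LimLib.isZero_rightDerived_lim B (fun U => RlimCrit.exists_cover_of_isBasis hB U)
      (RlimCrit.isLocGen_mod (R := R)) h1 j (fun U hU _ => ?_)
    let G := SheafOfModules.toSheaf R
    let e : ∀ n, ((RlimCrit.modP R).obj U ⟶ E.obj (op n)) ≃+ (G.obj (E.obj (op n))).obj.obj (op U) := fun n =>
      AddEquiv.mk' ((Equiv.ofBijective _ (RlimCrit.modEta_bijective R U (E.obj (op n)))).trans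
        (RlimCrit.abSec U (G.obj (E.obj (op n))))) fun φ ψ => by
          show RlimCrit.abSec U _ (_ ≫ G.map (φ + ψ)) = RlimCrit.abSec U _ (_ ≫ G.map φ) + RlimCrit.abSec U _ (_ ≫ G.map ψ)
          rw [G.map_add, Preadditive.comp_add]
          exact RlimCrit.abSec_add' U _ _
    have he : ∀ n φ, e n (φ ≫ E.map (homOfLE (Nat.le_succ n)).op) =
        (G.map (E.map (homOfLE (Nat.le_succ n)).op)).hom.app (op U) (e (n + 1) φ) := fun n φ => by
      refine Eq.trans ?_ (RlimCrit.abSec_comp U ((RlimCrit.modEta R).app U ≫ G.map φ) (G.map (E.map (homOfLE (Nat.le_succ n)).op)))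
      show RlimCrit.abSec U _ (_ ≫ G.map (φ ≫ _)) = RlimCrit.abSec U _ ((_ ≫ G.map φ) ≫ _)
      rw [G.map_comp, Category.assoc]
    intro η
    obtain ⟨a, hη⟩ := LimLib.limOneIsZero_of_isMittagLeffler
      (E ⋙ SheafOfModules.toSheaf R ⋙ (sheafSections (Opens.grothendieckTopology X) AddCommGrpCat.{u}).obj (op U))
      (hML U hU) (fun n => e n (η n))
    refine ⟨fun n => (e n).symm (a n), funext fun n => (e n).injective ?_⟩
    show e n ((e n).symm (a n) - (e (n + 1)).symm (a (n + 1)) ≫ E.map (homOfLE (Nat.le_succ n)).op) = e n (η n)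
    rw [map_sub, he, AddEquiv.apply_symm_apply, AddEquiv.apply_symm_apply]
    exact congrFun hη n

end Groth.Agent.S19243
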