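import Groth.Statements.S19244
import Mathlib.CategoryTheory.Abelian.SerreClass.Localization

set_option autoImplicit false
universe v v' u u'
open HomAlg3

namespace Groth.Agent.S19244

open CategoryTheory Limits in
theorem image_iff {A : Type u} [Category.{v} A] [Abelian A] (P : ObjectProperty A)
    (hP : ∀ X : A, P X ↔ ∃ n : ℤ, n ≠ 0 ∧ n • (𝟙 X) = 0) {X Y : A} (f : X ⟶ Y) :
    P (Abelian.image f) ↔ ∃ n : ℤ, n ≠ 0 ∧ n • f = 0 := by
  rw [hP]
  refine exists_congr fun n => and_congr_right fun _ => ⟨fun h => ?_, fun h => ?_⟩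
  · rw [← Abelian.image.fac f, ← Category.id_comp (Abelian.image.ι f), ← Preadditive.comp_zsmul, ← Preadditive.zsmul_comp, h,
      zero_comp, comp_zero]
  · rw [← cancel_mono (Abelian.image.ι f), ← cancel_epi (Abelian.factorThruImage f), Preadditive.zsmul_comp,
      Preadditive.comp_zsmul, Category.id_comp, Abelian.image.fac, h, zero_comp, comp_zero]

open CategoryTheory Limits in
theorem smul_iso {A : Type u} [Category.{v} A] [Abelian A] (P : ObjectProperty A) [P.IsSerreClass]
    (hP : ∀ X : A, P X ↔ ∃ n : ℤ, n ≠ 0 ∧ n • (𝟙 X) = 0) (X : A) (n : ℤ) (hn : n ≠ 0) :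
    P.isoModSerre (n • 𝟙 X) := by
  refine ⟨(hP _).2 ⟨n, hn, ?_⟩, (hP _).2 ⟨n, hn, ?_⟩⟩
  · rw [← cancel_mono (kernel.ι (n • 𝟙 X)), Preadditive.zsmul_comp, Category.id_comp, zero_comp]
    have h := kernel.condition (n • 𝟙 X)
    rwa [Preadditive.comp_zsmul, Category.comp_id] at h
  · rw [← cancel_epi (cokernel.π (n • 𝟙 X)), Preadditive.comp_zsmul, Category.comp_id, comp_zero]
    have h := cokernel.condition (n • 𝟙 X)
    rwa [Preadditive.zsmul_comp, Category.id_comp] at h

open CategoryTheory Limits in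
theorem exists_smul_inverse {A : Type u} [Category.{v} A] [Abelian A] (P : ObjectProperty A) [P.IsSerreClass]
    (hP : ∀ X : A, P X ↔ ∃ n : ℤ, n ≠ 0 ∧ n • (𝟙 X) = 0) {X' X : A} (s : X' ⟶ X) (hs : P.isoModSerre s) :
    ∃ (N : ℤ) (h : X ⟶ X'), N ≠ 0 ∧ h ≫ s = N • 𝟙 X := by
  obtain ⟨n, hn, hk⟩ := (hP _).1 hs.1
  obtain ⟨m, hm, hc⟩ := (hP _).1 hs.2
  let u : X ⟶ Abelian.image s := kernel.lift (cokernel.π s) (m • 𝟙 X) (by
    rw [Preadditive.zsmul_comp, Category.id_comp, ← Category.comp_id (cokernel.π s), ← Preadditive.comp_zsmul, hc, comp_zero])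
  have hu : u ≫ Abelian.image.ι s = m • 𝟙 X := kernel.lift_ι _ _ _
  let k : kernel (Abelian.factorThruImage s) ⟶ kernel s :=
    kernel.lift s (kernel.ι _) (by
      rw [show kernel.ι (Abelian.factorThruImage s) ≫ s = (kernel.ι (Abelian.factorThruImage s) ≫
        Abelian.factorThruImage s) ≫ Abelian.image.ι s by rw [Category.assoc, Abelian.image.fac],
        kernel.condition, zero_comp])
  have hv0 : kernel.ι (Abelian.factorThruImage s) ≫ (n • 𝟙 X') = 0 := by
    rw [show kernel.ι (Abelian.factorThruImage s) = k ≫ kernel.ι s from (kernel.lift_ι _ _ _).symm, Category.assoc, Preadditive.comp_zsmul,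
      Category.comp_id, show n • kernel.ι s = (n • 𝟙 _) ≫ kernel.ι s by rw [Preadditive.zsmul_comp, Category.id_comp],
      hk, zero_comp, comp_zero]
  obtain ⟨v, hv⟩ : ∃ v, Abelian.factorThruImage s ≫ v = n • 𝟙 X' :=
    ⟨Abelian.epiDesc (Abelian.factorThruImage s) _ hv0, Abelian.comp_epiDesc _ _ hv0⟩
  have hv' : v ≫ Abelian.factorThruImage s = n • 𝟙 _ := by
    rw [← cancel_epi (Abelian.factorThruImage s), ← Category.assoc, hv, Preadditive.zsmul_comp, Preadditive.comp_zsmul,
      Category.id_comp, Category.comp_id]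
  refine ⟨n * m, u ≫ v, mul_ne_zero hn hm, ?_⟩
  calc (u ≫ v) ≫ s = (u ≫ v) ≫ Abelian.factorThruImage s ≫ Abelian.image.ι s := by rw [Abelian.image.fac]
    _ = u ≫ (v ≫ Abelian.factorThruImage s) ≫ Abelian.image.ι s := by simp only [Category.assoc]
    _ = n • (m • 𝟙 X) := by rw [hv', Preadditive.zsmul_comp, Category.id_comp, Preadditive.comp_zsmul, hu]
    _ = _ := smul_smul n m _

open CategoryTheory in
/-- Let A be an abelian category and let P be the class of bounded-torsion objects of A, those X with n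
• 𝟙_X = 0 for some nonzero integer n; assume P is a Serre class. Let L : A ⥤ D be an additive
functor to a preadditive category exhibiting D as the localization of A at the morphisms whose
kernel and cokernel are in P (so D is the quotient category A_ℚ = A ⧸ A_{b-tor}; the source assumes
A well-powered, which guarantees that this quotient exists). Then for all objects X, Y of A: (1) for
every nonzero integer n, multiplication by n is bijective on Hom_D(L X, L Y), so that this group is
naturally a ℚ-vector space; (2) a morphism f : X ⟶ Y satisfies L f = 0 if and only if n • f = 0 for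
some nonzero integer n; (3) for every g : L X ⟶ L Y there are a nonzero integer n and f : X ⟶ Y with
n • g = L f. Equivalently, the natural map Hom_A(X, Y) ⊗_ℤ ℚ → Hom_D(L X, L Y) is an isomorphism. -/
theorem result
    {A : Type u} [Category.{v} A] [Abelian A] {D : Type u'} [Category.{v'} D] [Preadditive D]
    (P : ObjectProperty A) (hP : ∀ X : A, P X ↔ ∃ n : ℤ, n ≠ 0 ∧ n • (𝟙 X) = 0) [P.IsSerreClass]
    (L : A ⥤ D) [L.Additive] [L.IsLocalization P.isoModSerre] (X Y : A) :
    (∀ n : ℤ, n ≠ 0 → Function.Bijective (fun g : L.obj X ⟶ L.obj Y => n • g)) ∧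
    (∀ f : X ⟶ Y, L.map f = 0 ↔ ∃ n : ℤ, n ≠ 0 ∧ n • f = 0) ∧
    (∀ g : L.obj X ⟶ L.obj Y, ∃ (n : ℤ) (f : X ⟶ Y), n ≠ 0 ∧ n • g = L.map f) := by
  have hmap : ∀ f : X ⟶ Y, L.map f = 0 ↔ ∃ n : ℤ, n ≠ 0 ∧ n • f = 0 := fun f =>
    (ObjectProperty.SerreClassLocalization.map_eq_zero_iff L P f).trans (image_iff P hP f)
  refine ⟨fun n hn => ?_, hmap, fun g => ?_⟩
  · haveI : IsIso (L.map (n • 𝟙 X)) := Localization.inverts L P.isoModSerre _ (smul_iso P hP X n hn)
    have e : ∀ g : L.obj X ⟶ L.obj Y, n • g = L.map (n • 𝟙 X) ≫ g := fun g => by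
      rw [L.map_zsmul, L.map_id, Preadditive.zsmul_comp, Category.id_comp]
    simp only [e]
    exact ⟨fun g g' h => (cancel_epi _).1 h, fun g => ⟨inv (L.map (n • 𝟙 X)) ≫ g, IsIso.hom_inv_id_assoc _ _⟩⟩
  · obtain ⟨φ, rfl⟩ := Localization.exists_rightFraction L P.isoModSerre g
    obtain ⟨N, h, hN, hh⟩ := exists_smul_inverse P hP φ.s φ.hs
    haveI := Localization.inverts L P.isoModSerre _ φ.hs
    refine ⟨N, h ≫ φ.f, hN, ?_⟩
    have : L.map h = N • inv (L.map φ.s) := by
      rw [← cancel_mono (L.map φ.s), ← L.map_comp, hh, L.map_zsmul, L.map_id, Preadditive.zsmul_comp, IsIso.inv_hom_id]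
    rw [L.map_comp, this, Preadditive.zsmul_comp]
    rfl

end Groth.Agent.S19244
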