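import Groth.Statements.S19249
import Groth.Agent.UnbddLib.ModBC
import Groth.Agent.SmoothBCLib.KeyPlug
import Groth.Agent.SmoothBCLib.Smooth
set_option backward.isDefEq.respectTransparency false
set_option backward.isDefEq.respectTransparency.types false
set_option maxHeartbeats 1000000
attribute [local instance] Groth.Agent.S0101.result
-- import your own Groth.Agent.* helpers here

set_option autoImplicit false
universe u
open CategoryTheory CategoryTheory.Limits AlgebraicGeometry Opposite
attribute [local instance] HasDerivedCategory.standard
open EtBC

namespace Groth.Agent.S19249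

/-- Let X' = X ×_S S' be a cartesian square of locally Noetherian schemes with f : X ⟶ S of finite type
and g : S' ⟶ S smooth, separated and of finite type, with projections f' : X' ⟶ S' and g' : X' ⟶ X;
let Λ be a commutative ring in which some positive integer n, invertible on S, vanishes (positive
characteristic prime to the residue characteristics of S); and let K be any object of the unbounded
derived category D(X_et, Λ) of sheaves of Λ-modules on the small etale site. Assume that the
unbounded derived direct images Rf_* and Rf'_* preserve small direct sums. Then the base change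
morphism g^* Rf_* K ⟶ Rf'_* g'^* K in D(S'_et, Λ) (transpose of Rf_* K ⟶ Rg_* Rf'_* g'^* K under an
adjunction g^* ⊣ Rg_* of the derived functors, given as data; existence of the derived direct images
and left exactness of g^*, g'^* are instance hypotheses) is an isomorphism. (For finite-type
morphisms of locally Noetherian schemes the preservation of small direct sums holds by a bound on
etale cohomological dimension over strictly local bases; it is carried here as an explicit
hypothesis.) -/
theorem result {X S X' S' : Scheme.{u}}
    [IsLocallyNoetherian X] [IsLocallyNoetherian S] [IsLocallyNoetherian X'] [IsLocallyNoetherian S']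
    (f : X ⟶ S) (g : S' ⟶ S) (f' : X' ⟶ S') (g' : X' ⟶ X) (h : IsPullback g' f' f g)
    [LocallyOfFiniteType f] [QuasiCompact f] [Smooth g] [IsSeparated g] [QuasiCompact g]
    (Λ : Type (u + 1)) [CommRing Λ] (n : ℕ) (hn : 0 < n) (hΛ : (n : Λ) = 0) (hS : IsUnit (n : Γ(S, ⊤)))
    [PreservesFiniteLimits (EtModW.pull Λ g)] [PreservesFiniteLimits (EtModW.pull Λ g')]
    [EtBC.HasRpushMod Λ f] [EtBC.HasRpushMod Λ f'] [EtBC.HasRpushMod Λ g]
    [∀ (ι : Type (u + 1)), PreservesColimitsOfShape (Discrete ι) (EtBC.RpushModD Λ f)]
    [∀ (ι : Type (u + 1)), PreservesColimitsOfShape (Discrete ι) (EtBC.RpushModD Λ f')]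
    (adj : EtBC.pullModD Λ g ⊣ EtBC.RpushModD Λ g) (K : EtModD.D Λ X) :
    IsIso (EtBC.bcMapModD Λ f g f' g' h.w adj K) := by
  haveI : QuasiSeparated f := inferInstance
  exact Groth.Agent.UnbddLib.isIso_bcMapModD f g f' g' h.w hΛ
    (fun F hF q => Groth.Agent.SmoothBCLib.bcKilled_smooth_of_key Groth.Agent.SmoothBCLib.henLineKey hn g hS f f' g' h F hF q)
    adj K

end Groth.Agent.S19249
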