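import Groth.Statements.S19250
import Groth.Agent.UnbddLib.UnitIso
import Groth.Agent.LineAcycLib.Main
set_option backward.isDefEq.respectTransparency false
set_option backward.isDefEq.respectTransparency.types false
set_option maxHeartbeats 1000000
-- import your own Groth.Agent.* helpers here

set_option autoImplicit false
universe u
open CategoryTheory CategoryTheory.Limits AlgebraicGeometry Opposite
attribute [local instance] HasDerivedCategory.standard
open EtBC

namespace Groth.Agent.S19250

/-- For the affine line, let S be a locally Noetherian scheme, p : 𝔸¹_S ⟶ S the structure morphism of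
the affine line over S, and Λ a commutative ring in which some positive integer n, invertible on S,
vanishes. Assume that the unbounded derived direct image Rp_* on sheaves of Λ-modules preserves
small direct sums. Then the inverse image functor p^* : D(S_et, Λ) ⟶ D(𝔸¹_S,et, Λ) between unbounded
derived categories of sheaves of Λ-modules on the small etale sites is full and faithful. (The
statement for a vector bundle V ⟶ S reduces to this one Zariski-locally on S; the preservation of
direct sums by Rp_* holds over a locally Noetherian base by a cohomological-dimension bound and is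
carried here as a hypothesis. Left exactness of p^* and existence of Rp_* are instance hypotheses.) -/
theorem result (S : Scheme.{u}) [IsLocallyNoetherian S]
    (Λ : Type (u + 1)) [CommRing Λ] (n : ℕ) (hn : 0 < n) (hΛ : (n : Λ) = 0) (hS : IsUnit (n : Γ(S, ⊤)))
    [PreservesFiniteLimits (EtModW.pull Λ (𝔸(PUnit.{u + 1}; S) ↘ S))]
    [EtBC.HasRpushMod Λ (𝔸(PUnit.{u + 1}; S) ↘ S)]
    [∀ (ι : Type (u + 1)), PreservesColimitsOfShape (Discrete ι) (EtBC.RpushModD Λ (𝔸(PUnit.{u + 1}; S) ↘ S))] :
    (EtBC.pullModD Λ (𝔸(PUnit.{u + 1}; S) ↘ S)).Full ∧ (EtBC.pullModD Λ (𝔸(PUnit.{u + 1}; S) ↘ S)).Faithful := by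
  exact Groth.Agent.UnbddLib.full_faithful_pullModD (𝔸(PUnit.{u + 1}; S) ↘ S) hΛ
    (fun F _ => Groth.Agent.LineAcycLib.isIso_unit_line (Groth.Agent.SmoothBCLib.isLine_affineSpace S) F)
    (fun F hF q => Groth.Agent.LineAcycLib.isZero_Rpush_line (Groth.Agent.SmoothBCLib.isLine_affineSpace S) hS F hF q)

end Groth.Agent.S19250
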