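import Groth.Statements.S19252
import Groth.Agent.UnbddLib.Adjoint
set_option backward.isDefEq.respectTransparency false
set_option backward.isDefEq.respectTransparency.types false
set_option maxHeartbeats 1000000
set_option synthInstance.maxHeartbeats 400000
-- import your own Groth.Agent.* helpers here

set_option autoImplicit false
universe u
open CategoryTheory CategoryTheory.Limits AlgebraicGeometry Opposite
attribute [local instance] HasDerivedCategory.standard
open EtBC

namespace Groth.Agent.S19252

/-- Let f : X ⟶ S be a proper morphism of schemes and Λ a commutative ring in which some positive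
integer vanishes. Then the unbounded derived direct image Rf_* : D(X_et, Λ) ⟶ D(S_et, Λ) of sheaves
of Λ-modules admits a right adjoint (an exceptional inverse image f^!); stated as: Rf_* is a left
adjoint. (Existence of Rf_* is an instance hypothesis; existence of the adjoint only.) -/
theorem result {X S : Scheme.{u}} (f : X ⟶ S) [IsProper f]
    (Λ : Type (u + 1)) [CommRing Λ] (n : ℕ) (hn : 0 < n) (hΛ : (n : Λ) = 0) [EtBC.HasRpushMod Λ f] :
    (EtBC.RpushModD Λ f).IsLeftAdjoint := by
  haveI := fun ι : Type (u + 1) => Groth.Agent.UnbddLib.preservesCoproducts_RpushModD hn hΛ f ι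
  haveI : IsGrothendieckAbelian.{u + 1} (EtModW.Mod Λ X) := inferInstance
  haveI : IsGrothendieckAbelian.{u + 1} (EtModW.Mod Λ S) := inferInstance
  exact Groth.Agent.UnbddLib.isLeftAdjoint_of_preservesCoproducts (EtBC.RpushModD Λ f)

end Groth.Agent.S19252
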