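import Groth.Statements.S19258
import Mathlib.Topology.Instances.AddCircle.Defs
import Mathlib.GroupTheory.Torsion
import Mathlib.Algebra.Group.Subgroup.ZPowers.Lemmas
import Mathlib.GroupTheory.SpecificGroups.Cyclic
import Mathlib.GroupTheory.Archimedean
import Mathlib.Topology.Order
import Mathlib.Tactic.FieldSimp
import Mathlib.Tactic.LinearCombination
import Mathlib.RingTheory.Coprime.Lemmas

set_option autoImplicit false
universe u
open PontDual

namespace Groth.Agent.S19258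

lemma cyc {y z : AddCircle (1 : ℚ)} {n : ℕ} (hn : 0 < n) (hy : addOrderOf y = n) (hz : n • z = 0) :
    ∃ m : ℤ, z = m • y := by
  obtain ⟨a, -, ha⟩ := (AddCircle.nsmul_eq_zero_iff hn).1 (hy ▸ addOrderOf_nsmul_eq_zero y)
  obtain ⟨b, -, hb⟩ := (AddCircle.nsmul_eq_zero_iff hn).1 hz
  have hco : a.gcd n = 1 := by
    by_contra hne
    obtain ⟨a', ha'⟩ := Nat.gcd_dvd_left a n
    obtain ⟨n', hn'⟩ := Nat.gcd_dvd_right a n
    set g := a.gcd n
    have hg : 1 < g := by have : 0 < g := Nat.gcd_pos_of_pos_right a hn; omega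
    have hn'0 : 0 < n' := Nat.pos_of_ne_zero fun h => by rw [h, mul_zero] at hn'; omega
    have h0 : n' • y = 0 := by
      rw [← ha, ← AddCircle.coe_nsmul, mul_one, nsmul_eq_mul]
      rw [show ((n' : ℚ) * ((a : ℚ) / n)) = ((a' : ℕ) : ℚ) by
        rw [ha', hn']; push_cast; field_simp]
      rw [← nsmul_one a', AddCircle.coe_nsmul, AddCircle.coe_period, nsmul_zero]
    have h1 := Nat.le_of_dvd hn'0 (addOrderOf_dvd_iff_nsmul_eq_zero.2 h0)
    rw [hy, hn'] at h1
    nlinarith
  obtain ⟨u, v, huv⟩ := Int.isCoprime_iff_gcd_eq_one.2 (show Int.gcd (a : ℤ) (n : ℤ) = 1 by rwa [Int.gcd_natCast_natCast])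
  refine ⟨(b : ℤ) * u, ?_⟩
  rw [← ha, ← hb, ← AddCircle.coe_zsmul, mul_one, mul_one, zsmul_eq_mul, eq_comm, ← sub_eq_zero, ← AddCircle.coe_sub,
    AddCircle.coe_eq_zero_iff]
  refine ⟨-((b : ℤ) * v), ?_⟩
  rw [zsmul_one]
  have h : (u : ℚ) * a + v * n = 1 := by exact_mod_cast huv
  push_cast
  field_simp
  linear_combination -(b : ℚ) * h

/-- Let G and G' be abelian groups such that every element of G' has finite order, and let β : G' →
Hom(G, ℚ/ℤ) be an injective homomorphism (equivalently a pairing G' × G → ℚ/ℤ with no left kernel).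
Endow G with the weak topology defined by G': the coarsest topology for which every character β(f),
f ∈ G', is continuous when ℚ/ℤ carries the discrete topology. Then every homomorphism χ : G → ℚ/ℤ
that is continuous for this topology on G and the discrete topology on ℚ/ℤ equals β(f) for some f ∈
G', so that β is a bijection from G' onto the group of continuous characters of G. -/
theorem result
    (G : Type u) (G' : Type u) [AddCommGroup G] [AddCommGroup G'] (hG' : IsAddTorsion G')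
    (β : G' →+ (G →+ AddCircle (1 : ℚ))) (hβ : Function.Injective β)
    (χ : G →+ AddCircle (1 : ℚ))
    (hχ : @Continuous G (AddCircle (1 : ℚ)) (⨅ f' : G', TopologicalSpace.induced (fun x : G => β f' x) ⊥) ⊥ χ) :
    ∃ f' : G', β f' = χ := by
  classical
  letI : TopologicalSpace (AddCircle (1 : ℚ)) := ⊥
  haveI : DiscreteTopology (AddCircle (1 : ℚ)) := ⟨rfl⟩
  -- finitely many characters control `χ`
  have hfin : ∃ s : Finset G', ∀ x : G, (∀ f ∈ s, β f x = 0) → χ x = 0 := by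
    letI tG : TopologicalSpace G := ⨅ f' : G', TopologicalSpace.induced (fun x : G => β f' x) ⊥
    have hopen : IsOpen (χ ⁻¹' {0}) := (isOpen_discrete _).preimage hχ
    have h0 : χ ⁻¹' {0} ∈ nhds (0 : G) := hopen.mem_nhds (by simp)
    rw [nhds_iInf, Filter.mem_iInf] at h0
    obtain ⟨I, hI, V, hV, hU⟩ := h0
    refine ⟨hI.toFinset, fun x hx => ?_⟩
    have : x ∈ ⋂ i, V i := Set.mem_iInter.2 fun i => by
      have := hV i
      rw [nhds_induced, Filter.mem_comap] at this
      obtain ⟨t, ht, hts⟩ := this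
      refine hts ?_
      show β (i : G') x ∈ t
      rw [hx i (hI.mem_toFinset.2 i.2)]
      simpa using mem_of_mem_nhds ht
    rw [← hU] at this
    exact this
  obtain ⟨s, hs⟩ := hfin
  suffices key : ∀ (s : Finset G') (H : AddSubgroup G) (χ : G →+ AddCircle (1 : ℚ)),
      (∀ x ∈ H, (∀ f ∈ s, β f x = 0) → χ x = 0) → ∃ f' : G', ∀ x ∈ H, χ x = β f' x by
    obtain ⟨f', hf'⟩ := key s ⊤ χ fun x _ h => hs x h
    exact ⟨f', AddMonoidHom.ext fun x => (hf' x trivial).symm⟩
  clear hχ hs s χ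
  intro s
  induction s using Finset.induction_on with
  | empty => exact fun H χ h => ⟨0, fun x hx => by rw [h x hx (by simp)]; simp⟩
  | insert f s hf ih =>
    intro H χ h
    obtain ⟨f₁, hf₁⟩ := ih (H ⊓ (β f).ker) χ fun x hx hs' => h x hx.1 fun f' hf' => by
      rcases Finset.mem_insert.1 hf' with rfl | hf'
      · exact hx.2
      · exact hs' f' hf'
    set D := χ - β f₁
    have hD : ∀ x ∈ H, β f x = 0 → D x = 0 := fun x hx h0 => by
      rw [AddMonoidHom.sub_apply, hf₁ x ⟨hx, h0⟩, sub_self]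
    set N := addOrderOf f
    have hN : 0 < N := (hG' f).addOrderOf_pos
    have hdvd : ∀ x : G, N • β f x = 0 := fun x => by
      rw [← AddMonoidHom.nsmul_apply, ← map_nsmul, addOrderOf_nsmul_eq_zero, map_zero, AddMonoidHom.zero_apply]
    -- an element with image of largest order
    have hex : ∀ x : G, 0 < addOrderOf (β f x) ∧ addOrderOf (β f x) ≤ N := fun x =>
      ⟨IsOfFinAddOrder.addOrderOf_pos (isOfFinAddOrder_iff_nsmul_eq_zero.2 ⟨N, hN, hdvd x⟩),
        Nat.le_of_dvd hN (addOrderOf_dvd_iff_nsmul_eq_zero.2 (hdvd x))⟩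
    let S : AddSubgroup (AddCircle (1 : ℚ)) := H.map (β f)
    have hSfin : ∀ z ∈ S, ∃ m : ℤ, z = m • (((1 : ℕ) : ℚ) / N * 1 : ℚ) := by
      rintro _ ⟨x, -, rfl⟩
      obtain ⟨b, -, hb⟩ := (AddCircle.nsmul_eq_zero_iff hN).1 (hdvd x)
      refine ⟨(b : ℤ), ?_⟩
      rw [← hb, ← AddCircle.coe_zsmul]
      congr 1
      push_cast
      rw [zsmul_eq_mul]; push_cast; ring
    obtain ⟨x₀, hx₀, hgen⟩ : ∃ x₀ ∈ H, ∀ x ∈ H, ∃ m : ℤ, β f x = m • β f x₀ := by
      let T : AddSubgroup ℤ := S.comap (zmultiplesHom _ (((((1 : ℕ) : ℚ) / N * 1 : ℚ)) : AddCircle (1 : ℚ)))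
      obtain ⟨g, hg⟩ := Int.subgroup_cyclic T
      have hgT : g ∈ T := hg ▸ AddSubgroup.subset_closure rfl
      obtain ⟨x₀, hx₀, he⟩ := hgT
      refine ⟨x₀, hx₀, fun x hx => ?_⟩
      obtain ⟨m, hm⟩ := hSfin _ ⟨x, hx, rfl⟩
      have hmT : m ∈ T := by
        show zmultiplesHom _ _ m ∈ S
        rw [zmultiplesHom_apply, ← hm]
        exact ⟨x, hx, rfl⟩
      rw [hg, AddSubgroup.mem_closure_singleton] at hmT
      obtain ⟨j, rfl⟩ := hmT
      refine ⟨j, ?_⟩
      rw [hm, he, zmultiplesHom_apply, smul_eq_mul, mul_smul]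
    obtain ⟨m, hm⟩ := cyc (hex x₀).1 rfl (z := D x₀) (by
      rw [← map_nsmul, hD _ (H.nsmul_mem hx₀ _) (by rw [map_nsmul, addOrderOf_nsmul_eq_zero])])
    refine ⟨f₁ + m • f, fun x hx => ?_⟩
    obtain ⟨j, hj⟩ := hgen x hx
    have h2 : D x = j • D x₀ := by
      have := hD (x - j • x₀) (H.sub_mem hx (H.zsmul_mem hx₀ j)) (by rw [map_sub, map_zsmul, hj, sub_self])
      rwa [map_sub, map_zsmul, sub_eq_zero] at this
    rw [AddMonoidHom.sub_apply, sub_eq_iff_eq_add'] at h2
    rw [h2, map_add, AddMonoidHom.add_apply, map_zsmul, AddMonoidHom.zsmul_apply, hj, hm, smul_comm]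

end Groth.Agent.S19258
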