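import Groth.Statements.S19268
import Mathlib
import Groth.Agent.WittFilLib.Congr
-- import your own Groth.Agent.* helpers here

set_option autoImplicit false
universe u
open WittFil

namespace Groth.Agent.S19268

/-- Let S be an integral domain of characteristic p, A = S[[π]] the power series ring, B = A[1/π] with u
the unit of B given by π, and let m > s ≥ 0 and i be an integer with s = 0 or p ∤ i; put n = p ^
(m−1−s) · i. For e in B write fil(e) for the set of truncated p-typical Witt vectors of length m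
over B whose j-th coordinate y_j satisfies y_j ^ (p ^ (m−1−j)) · e ∈ A for all j, and for a Witt
vector c over S let Φ(c) ∈ W_m(B) be the length-m truncation of V^s(c · [u ^ i]) (V the
Verschiebung, [ ] the Teichmüller map, c mapped to B). Then Φ induces a bijection from the
length-(m−s) truncated Witt vectors of S onto the graded piece fil(u^(−n)) / fil(u^(−n−1)): (1) Φ(c)
lies in fil(u^(−n)) for every c; (2) Φ(c) lies in fil(u^(−n−1)) exactly when the length-(m−s)
truncation of c is zero; (3) every element of fil(u^(−n)) is congruent to some Φ(c) modulo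
fil(u^(−n−1)). (Published for S a regular local Noetherian F-finite F_p-algebra; the argument uses
only that S is a domain.) -/
theorem result (p : ℕ) [Fact p.Prime] {S B : Type u} [CommRing S]
    [IsDomain S] [CharP S p] [CommRing B] [Algebra (PowerSeries S) B] [Algebra S B]
    [IsScalarTower S (PowerSeries S) B] [IsLocalization.Away (PowerSeries.X : PowerSeries S) B]
    (u : Bˣ) (hu : (u : B) = algebraMap (PowerSeries S) B PowerSeries.X) (m s : ℕ) (hs : s < m)
    (i : ℤ) (hsi : s = 0 ∨ ¬ ((p : ℤ) ∣ i)) :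
    (∀ c : WittVector p S,
        WittFil.vShiftTeich p m s ((u ^ i : Bˣ) : B) c ∈
          WittFil.fil p m (A := PowerSeries S) ((u ^ (-((p : ℤ) ^ (m - 1 - s) * i)) : Bˣ) : B)) ∧
      (∀ c : WittVector p S,
        WittFil.vShiftTeich p m s ((u ^ i : Bˣ) : B) c ∈
            WittFil.fil p m (A := PowerSeries S) ((u ^ (-((p : ℤ) ^ (m - 1 - s) * i) - 1) : Bˣ) : B) ↔
          WittVector.truncate (m - s) c = 0) ∧
      (∀ y ∈ WittFil.fil p m (A := PowerSeries S) ((u ^ (-((p : ℤ) ^ (m - 1 - s) * i)) : Bˣ) : B),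
        ∃ c : WittVector p S,
          y - WittFil.vShiftTeich p m s ((u ^ i : Bˣ) : B) c ∈
            WittFil.fil p m (A := PowerSeries S)
              ((u ^ (-((p : ℤ) ^ (m - 1 - s) * i) - 1) : Bˣ) : B)) := by
  classical
  haveI : CharP (PowerSeries S) p := charP_of_injective_ringHom (PowerSeries.C_injective (R := S)) p
  have hM : Submonoid.powers (PowerSeries.X : PowerSeries S) ≤ nonZeroDivisors (PowerSeries S) :=
    powers_le_nonZeroDivisors_of_noZeroDivisors PowerSeries.X_ne_zero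
  have hinj : Function.Injective (algebraMap (PowerSeries S) B) := IsLocalization.injective B hM
  have hXp : Prime (PowerSeries.X : PowerSeries S) := PowerSeries.X_prime
  have hA := fun b : B => WittFilLib.mem_range_of_isIntegral_away (PowerSeries.X : PowerSeries S) hXp b
  have root : ∀ (z : B) (N : ℕ), N ≠ 0 → z ^ N ∈ (algebraMap (PowerSeries S) B).range →
      z ∈ (algebraMap (PowerSeries S) B).range := fun z N hN ⟨a, ha⟩ =>
    hA z (IsIntegral.of_pow (Nat.pos_of_ne_zero hN) (ha ▸ isIntegral_algebraMap))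
  obtain ⟨M, hMdef⟩ : ∃ M, M = m - 1 - s := ⟨_, rfl⟩
  rw [← hMdef]
  obtain ⟨n, hn⟩ : ∃ n, n = (p : ℤ) ^ M * i := ⟨_, rfl⟩
  rw [← hn]
  have hSB : ∀ c : S, algebraMap S B c = algebraMap (PowerSeries S) B (PowerSeries.C c) := fun c => by
    rw [IsScalarTower.algebraMap_apply S (PowerSeries S) B]; rfl
  have zp : ∀ (a : ℤ) (k : ℕ), (((u ^ a : Bˣ) : B)) ^ k = ((u ^ (a * k) : Bˣ) : B) := fun a k => by
    rw [← Units.val_pow_eq_pow_val, ← zpow_natCast, ← zpow_mul]
  have zm : ∀ a b : ℤ, ((u ^ a : Bˣ) : B) * ((u ^ b : Bˣ) : B) = ((u ^ (a + b) : Bˣ) : B) := fun a b => by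
    rw [← Units.val_mul, ← zpow_add]
  obtain ⟨Φ, hΦ⟩ : ∃ Φ : WittVector p S → TruncatedWittVector p m B,
      Φ = WittFil.vShiftTeich p m s ((u ^ i : Bˣ) : B) := ⟨_, rfl⟩
  rw [← hΦ]
  have clt : ∀ (c : WittVector p S) (j : Fin m), (j : ℕ) < s → TruncatedWittVector.coeff j (Φ c) = 0 :=
    fun c j hj => by
      rw [hΦ]; simp only [WittFil.vShiftTeich]
      rw [WittVector.coeff_truncate, WittFilLib.verschiebung_iterate_coeff_lt p _ _ _ hj]
  have cge : ∀ (c : WittVector p S) (j : Fin m) (k : ℕ), (j : ℕ) = k + s →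
      TruncatedWittVector.coeff j (Φ c) ^ p ^ (m - 1 - (j : ℕ)) * ((u ^ (-n) : Bˣ) : B) =
        algebraMap (PowerSeries S) B (PowerSeries.C (c.coeff k ^ p ^ (m - 1 - (j : ℕ)))) := by
    intro c j k hk
    rw [hΦ]; simp only [WittFil.vShiftTeich]
    rw [WittVector.coeff_truncate, hk, WittVector.iterate_verschiebung_coeff, mul_comm (WittVector.map (algebraMap S B) c),
      WittFilLib.teichmuller_mul]
    simp only [WittFilLib.scale, WittVector.coeff_mk, WittVector.map_coeff]
    rw [mul_pow, ← pow_mul, ← pow_add, zp, hSB]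
    have e : k + (m - 1 - (k + s)) = M := by have := j.2; omega
    rw [e, mul_right_comm, zm, show i * ((p ^ M : ℕ) : ℤ) + -n = 0 by rw [hn]; push_cast; ring, zpow_zero,
      Units.val_one, one_mul, map_pow, map_pow]
  have h1 : ∀ c, Φ c ∈ WittFil.fil p m (A := PowerSeries S) ((u ^ (-n) : Bˣ) : B) := fun c j => by
    by_cases hj : (j : ℕ) < s
    · rw [clt c j hj, zero_pow (pow_ne_zero _ (Fact.out : p.Prime).ne_zero), zero_mul]
      exact zero_mem _
    · rw [cge c j ((j : ℕ) - s) (by omega)]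
      exact ⟨_, rfl⟩
  have he : ((u ^ (-n - 1) : Bˣ) : B) * algebraMap (PowerSeries S) B PowerSeries.X = ((u ^ (-n) : Bˣ) : B) := by
    rw [← hu, ← Units.val_mul, ← zpow_add_one, sub_add_cancel]
  refine ⟨h1, fun c => ⟨fun h => ?_, fun h j => ?_⟩, fun y hy => ?_⟩
  · ext k
    obtain ⟨a, ha⟩ := h ⟨(k : ℕ) + s, by omega⟩
    have := cge c ⟨(k : ℕ) + s, by omega⟩ k rfl
    rw [← he, ← mul_assoc, ← ha, ← map_mul] at this
    have h' := congrArg PowerSeries.constantCoeff (hinj this)
    rw [map_mul, PowerSeries.constantCoeff_X, mul_zero, PowerSeries.constantCoeff_C] at h'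
    rw [WittVector.coeff_truncate, TruncatedWittVector.coeff_zero]
    exact eq_zero_of_pow_eq_zero h'.symm
  · by_cases hj : (j : ℕ) < s
    · rw [clt c j hj, zero_pow (pow_ne_zero _ (Fact.out : p.Prime).ne_zero), zero_mul]
      exact zero_mem _
    · have hk : c.coeff ((j : ℕ) - s) = 0 := by
        have := congrArg (TruncatedWittVector.coeff (⟨(j : ℕ) - s, by have := j.2; omega⟩ : Fin (m - s))) h
        rwa [WittVector.coeff_truncate, TruncatedWittVector.coeff_zero] at this
      refine ⟨0, ?_⟩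
      have := cge c j ((j : ℕ) - s) (by omega)
      rw [hk, zero_pow (pow_ne_zero _ (Fact.out : p.Prime).ne_zero), map_zero, map_zero] at this
      rw [map_zero]
      refine (u.isUnit.mul_left_inj).1 ?_
      rw [zero_mul, mul_assoc, show ((u ^ (-n - 1) : Bˣ) : B) * (u : B) = _ from hu ▸ he, this]
  · choose a ha using hy
    have hlt : ∀ j : Fin m, (j : ℕ) < s → PowerSeries.X ∣ a j := by
      intro j hj
      obtain ⟨d, hd⟩ : ∃ d, m - 1 - (j : ℕ) = d + 1 + M := ⟨s - (j : ℕ) - 1, by omega⟩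
      have hpi : ¬ ((p : ℤ) ∣ i) := hsi.resolve_left (by omega)
      have hp0 : (p : ℤ) ≠ 0 := by exact_mod_cast (Fact.out : p.Prime).ne_zero
      have hr0 := Int.emod_nonneg i hp0
      have hr1 := Int.emod_lt_of_pos i (by exact_mod_cast (Fact.out : p.Prime).pos : (0 : ℤ) < p)
      have hdm := Int.mul_ediv_add_emod i (p : ℤ)
      have hne : i % (p : ℤ) ≠ 0 := fun h => hpi (Int.dvd_of_emod_eq_zero h)
      obtain ⟨r, hr⟩ : ∃ r : ℕ, i % (p : ℤ) = r := ⟨_, (Int.toNat_of_nonneg hr0).symm⟩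
      obtain ⟨b, hb⟩ := root (TruncatedWittVector.coeff j y ^ p ^ (d + 1) * ((u ^ (-i) : Bˣ) : B)) (p ^ M)
        (pow_ne_zero _ (Fact.out : p.Prime).ne_zero) ⟨a j, by
          rw [ha, hd, mul_pow, ← pow_mul, ← pow_add, zp, hn]
          congr 3; push_cast; ring⟩
      have hab : a j = b ^ p ^ M := hinj (by
        rw [ha, map_pow, hb, hd, mul_pow, ← pow_mul, ← pow_add, zp, hn]
        congr 3; push_cast; ring)
      have hz : (TruncatedWittVector.coeff j y ^ p ^ d * ((u ^ (-(i / (p : ℤ))) : Bˣ) : B)) ^ p =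
          algebraMap (PowerSeries S) B (PowerSeries.X ^ r * b) := by
        rw [map_mul, map_pow, ← hu, hb, show (u : B) ^ r = ((u ^ (r : ℤ) : Bˣ) : B) by rw [zpow_natCast, Units.val_pow_eq_pow_val], mul_pow, ← pow_mul, ← pow_succ, zp, mul_left_comm, zm]
        congr 3
        linear_combination hr - hdm
      obtain ⟨z, hz'⟩ := root _ p (Fact.out : p.Prime).ne_zero ⟨_, hz.symm⟩
      rw [← hz', ← map_pow] at hz
      have hz2 := hinj hz
      obtain ⟨z', rfl⟩ := hXp.dvd_of_dvd_pow (hz2 ▸ dvd_mul_of_dvd_left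
        (dvd_pow_self PowerSeries.X (by omega : r ≠ 0)) b : PowerSeries.X ∣ z ^ p)
      obtain ⟨t, ht⟩ : ∃ t, p = r + (t + 1) := ⟨p - r - 1, by omega⟩
      rw [hab]
      refine dvd_pow ⟨PowerSeries.X ^ t * z' ^ p, mul_left_cancel₀ (pow_ne_zero r PowerSeries.X_ne_zero) ?_⟩
        (pow_ne_zero _ (Fact.out : p.Prime).ne_zero)
      rw [← hz2, mul_pow]
      nth_rewrite 1 [ht]
      ring
    have hge : ∀ k : Fin (m - s), ∃ c : S, ∀ j : Fin m, (j : ℕ) = (k : ℕ) + s →
        PowerSeries.constantCoeff (a j) = c ^ p ^ (m - 1 - (j : ℕ)) := by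
      intro k
      let j : Fin m := ⟨(k : ℕ) + s, by omega⟩
      obtain ⟨b, hb⟩ := root (TruncatedWittVector.coeff j y * ((u ^ (-(i * (p ^ (k : ℕ) : ℕ))) : Bˣ) : B))
        (p ^ (m - 1 - (j : ℕ))) (pow_ne_zero _ (Fact.out : p.Prime).ne_zero) ⟨a j, by
          rw [ha, mul_pow, zp, hn]
          congr 3
          have : M = (k : ℕ) + (m - 1 - (j : ℕ)) := by have := k.2; simp only [j]; omega
          rw [this, pow_add]; push_cast; ring⟩
      refine ⟨PowerSeries.constantCoeff b, fun j' hj' => ?_⟩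
      obtain rfl : j' = j := Fin.ext hj'
      rw [← map_pow]
      congr 1
      apply hinj
      rw [ha, map_pow, hb, mul_pow, zp, hn]
      congr 3
      have : M = (k : ℕ) + (m - 1 - (j : ℕ)) := by have := k.2; simp only [j]; omega
      rw [this, pow_add]; push_cast; ring
    choose c₀ hc₀ using hge
    let c : WittVector p S := WittVector.mk p fun k => if h : k < m - s then c₀ ⟨k, h⟩ else 0
    refine ⟨c, WittFilLib.sub_mem_fil_of_congr p hM hA PowerSeries.X hXp (hu ▸ u.isUnit) _ _ he m y (Φ c)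
      (fun j => ⟨a j, ha j⟩) (h1 c) fun j => ?_⟩
    by_cases hj : (j : ℕ) < s
    · refine ⟨a j, 0, ha j, ?_, by rw [sub_zero]; exact hlt j hj⟩
      rw [clt c j hj, zero_pow (pow_ne_zero _ (Fact.out : p.Prime).ne_zero), zero_mul, map_zero]
    · refine ⟨a j, _, ha j, (cge c j ((j : ℕ) - s) (by omega)).symm, ?_⟩
      have hk : (j : ℕ) - s < m - s := by have := j.2; omega
      rw [PowerSeries.X_dvd_iff, map_sub, PowerSeries.constantCoeff_C, hc₀ ⟨(j : ℕ) - s, hk⟩ j (by simp; omega)]
      simp [c, hk]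

end Groth.Agent.S19268
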