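import Mathlib
import Groth.Statements.S19269

set_option autoImplicit false
universe u
open CAlg

namespace Groth.Agent.S19269

open IsLocalRing in
/-- Let R be a Noetherian local ring with maximal ideal 𝔪, M a finitely generated R-module and M^ its
𝔪-adic completion, a module over the 𝔪-adic completion R^ of R. Let N' be an R^-submodule of M^ and
N an R-submodule of M whose image in M^ is contained in N' and is dense in N' for the 𝔪-adic
topology, in the sense that for every y in N' and every k there is x in N with y ≡ x modulo the
kernel of M^ → M/𝔪^k M. Then N' equals the image of the completion of N under the map induced by the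
inclusion N → M (so N' is the completion of N), and N is the set of elements of M whose image in M^
lies in N'. -/
theorem result {R : Type u} [CommRing R]
    [IsNoetherianRing R] [IsLocalRing R] {M : Type u} [AddCommGroup M] [Module R M]
    [Module.Finite R M] (N : Submodule R M)
    (N' : Submodule (AdicCompletion (maximalIdeal R) R) (AdicCompletion (maximalIdeal R) M))
    (hle : ∀ x ∈ N, AdicCompletion.of (maximalIdeal R) M x ∈ N')
    (hdense : ∀ y ∈ N', ∀ k : ℕ, ∃ x ∈ N,
      AdicCompletion.eval (maximalIdeal R) M k y = Submodule.Quotient.mk x) :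
    (N'.restrictScalars R =
        (LinearMap.range (AdicCompletion.map (maximalIdeal R) N.subtype)).restrictScalars R) ∧
      (∀ x : M, x ∈ N ↔ AdicCompletion.of (maximalIdeal R) M x ∈ N') := by
  have hcontr : ∀ x : M, AdicCompletion.of (maximalIdeal R) M x ∈ N' → x ∈ N := by
    intro x hx
    have h0 : N.mkQ x ∈ (⊥ : Submodule R (M ⧸ N)) := by
      rw [← Ideal.iInf_pow_smul_eq_bot_of_isLocalRing (R := R) (M := M ⧸ N) (maximalIdeal R)
        (IsLocalRing.maximalIdeal.isMaximal R).ne_top, Submodule.mem_iInf]
      intro k
      obtain ⟨z, hz, he⟩ := hdense _ hx k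
      rw [AdicCompletion.eval_of, Submodule.mkQ_apply, Submodule.Quotient.eq] at he
      have : N.mkQ (x - z) ∈ Submodule.map N.mkQ (maximalIdeal R ^ k • ⊤) := ⟨_, he, rfl⟩
      rw [Submodule.map_smul'', Submodule.map_top, Submodule.range_mkQ] at this
      rwa [map_sub, show N.mkQ z = 0 from (Submodule.Quotient.mk_eq_zero N).mpr hz, sub_zero] at this
    exact (Submodule.Quotient.mk_eq_zero N).mp h0
  refine ⟨le_antisymm (fun y hy => ?_) ?_, fun x => ⟨hle x, hcontr x⟩⟩
  · rw [Submodule.restrictScalars_mem] at hy ⊢
    refine (AdicCompletion.map_exact (I := maximalIdeal R) N.injective_subtype (LinearMap.exact_subtype_mkQ N)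
      N.mkQ_surjective y).mp ?_
    refine AdicCompletion.ext fun k => ?_
    obtain ⟨z, hz, he⟩ := hdense y hy k
    rw [AdicCompletion.eval_apply] at he
    rw [AdicCompletion.map_val_apply, he, AdicCompletion.val_zero_apply]
    show Submodule.Quotient.mk (N.mkQ z) = 0
    rw [show N.mkQ z = 0 from (Submodule.Quotient.mk_eq_zero N).mpr hz, Submodule.Quotient.mk_zero]
  · rintro _ ⟨w, rfl⟩
    rw [Submodule.restrictScalars_mem]
    obtain ⟨t, rfl⟩ := AdicCompletion.ofTensorProduct_surjective_of_finite (maximalIdeal R) N w
    induction t with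
    | zero => simp
    | tmul r x =>
      rw [AdicCompletion.ofTensorProduct_tmul, map_smul, AdicCompletion.map_of]
      exact N'.smul_mem r (hle _ x.2)
    | add a b ha hb => rw [map_add, map_add]; exact N'.add_mem ha hb

end Groth.Agent.S19269
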