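import Mathlib
import Groth.Agent.FieldExtLib.ResidueDiff
import Groth.Statements.S19270

set_option autoImplicit false
universe u
open CAlg TensorProduct

namespace Groth.Agent.S19270

open IsLocalRing in
/-- Let A be a regular local ring of prime characteristic p, of Krull dimension N, with maximal ideal
generated by x_1, …, x_N, and assume that the module Ω_A of absolute Kähler differentials of A
(differentials relative to ℤ, equivalently relative to the prime field) is a free A-module of finite
rank. Then dx_1, …, dx_N are part of a basis of Ω_A: there exist a basis b of Ω_A and an injection e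
of the indices 1, …, N into the index type of b with b (e i) = d(x_i) for all i. (In the published
statement A is a regular local F-finite algebra over the prime field and the freeness and finiteness
of Ω_A form the first assertion, taken there from the literature; here they are hypotheses.) -/
theorem result (p : ℕ) [Fact p.Prime]
    {A : Type u} [CommRing A] [IsRegularLocalRing A] [CharP A p]
    [Module.Free A (KaehlerDifferential ℤ A)] [Module.Finite A (KaehlerDifferential ℤ A)]
    {N : ℕ} (x : Fin N → A) (hx : Ideal.span (Set.range x) = maximalIdeal A)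
    (hN : ringKrullDim A = (N : WithBot ℕ∞)) :
    ∃ (ι : Type u) (b : Module.Basis ι A (KaehlerDifferential ℤ A)) (e : Fin N ↪ ι),
      ∀ i : Fin N, b (e i) = KaehlerDifferential.D ℤ A (x i) := by
  classical
  let Ω := KaehlerDifferential ℤ A
  let κ := ResidueField A
  have hmem : ∀ i, x i ∈ maximalIdeal A := fun i => hx ▸ Ideal.subset_span ⟨i, rfl⟩
  let v : Fin N → CotangentSpace A := fun i => (maximalIdeal A).toCotangent ⟨x i, hmem i⟩
  have hspan : (⊤ : Submodule κ (CotangentSpace A)) ≤ Submodule.span κ (Set.range v) := by
    intro z _
    obtain ⟨⟨y, hy⟩, rfl⟩ := (maximalIdeal A).toCotangent_surjective z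
    have hy' : y ∈ Ideal.span (Set.range x) := hx ▸ hy
    obtain ⟨c, hc⟩ := (Ideal.mem_span_range_iff_exists_fun).mp hy'
    have : (maximalIdeal A).toCotangent ⟨y, hy⟩ = ∑ i, c i • v i := by
      simp only [v, ← map_smul, ← map_sum]
      congr 1
      refine Subtype.ext ?_
      simp [← hc]
    rw [this]
    exact Submodule.sum_mem _ fun i _ => by
      rw [← algebraMap_smul κ (c i) (v i)]; exact Submodule.smul_mem _ _ (Submodule.subset_span ⟨i, rfl⟩)
  have hcard : Fintype.card (Fin N) = Module.finrank κ (CotangentSpace A) := by
    have h := (IsRegularLocalRing.iff_finrank_cotangentSpace A).mp inferInstance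
    rw [hN] at h
    rw [Fintype.card_fin]; exact_mod_cast h.symm
  have hli : LinearIndependent κ v := linearIndependent_of_top_le_span_of_card_eq_finrank hspan hcard
  let Φ := (FieldExtLib.conormal A).extendScalarsOfSurjective (S := κ) Ideal.Quotient.mk_surjective
  have hΦ : Function.Injective Φ := FieldExtLib.conormal_injective A p
  have hli2 : LinearIndependent κ (Φ ∘ v) := hli.map' Φ (LinearMap.ker_eq_bot.mpr hΦ)
  let B := Module.Basis.sumExtend hli2
  have hmk : Function.Surjective (TensorProduct.mk A κ Ω 1) := TensorProduct.mk_surjective A Ω κ Ideal.Quotient.mk_surjective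
  choose lift hlift using hmk
  let w : Fin N ⊕ Module.Basis.sumExtendIndex hli2 → Ω :=
    Sum.elim (fun i => KaehlerDifferential.D ℤ A (x i)) fun j => lift (B (Sum.inr j))
  have hw : TensorProduct.mk A κ Ω 1 ∘ w = B := by
    funext s
    rcases s with i | j
    · have h1 : B (Sum.inl i) = (Φ ∘ v) i := by
        simp [B, Module.Basis.sumExtend]
        rfl
      rw [h1]
      exact (FieldExtLib.conormal_toCotangent A ⟨x i, hmem i⟩).symm
    · simp only [Function.comp_apply, w, Sum.elim_inr]
      exact hlift _
  have : Module.FinitePresentation A Ω := Module.finitePresentation_of_projective A Ω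
  obtain ⟨b, hb⟩ := Module.exists_basis_of_basis_baseChange w (by rw [hw]; exact B.linearIndependent)
    (by rw [hw]; exact B.span_eq)
    (Module.Flat.rTensor_preserves_injective_linearMap (maximalIdeal A).subtype Subtype.val_injective)
  exact ⟨_, b, ⟨Sum.inl, Sum.inl_injective⟩, fun i => hb (Sum.inl i)⟩

end Groth.Agent.S19270
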