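import Groth.Statements.S19273
import Mathlib

set_option autoImplicit false
universe u
open CAlg

namespace Groth.Agent.S19273

open KaehlerDifferential in
/-- Let A be an integral domain of prime characteristic p, x_1, …, x_N elements of A, r ≤ N, B =
A[1/(x_1⋯x_r)] with u_i the unit of B defined by x_i for i ≤ r, and suppose that the module Ω_A of
absolute Kähler differentials of A is free with a basis b indexed by {1, …, N} ⊔ ι whose i-th vector
is d(x_i) for i ≤ N. Then the module of logarithmic 1-forms — the A-submodule of Ω_B spanned by the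
image of Ω_A and the forms u_i⁻¹ · d(x_i), i ≤ r — is a free A-module: it has a basis indexed by {1,
…, N} ⊔ ι whose vector at i ≤ r is u_i⁻¹ · d(x_i), at r < i ≤ N is d(x_i), and at k ∈ ι is the image
of b_k. (In the published statement A is a regular local F-finite algebra over the prime field with
maximal ideal (x_1, …, x_N), the basis of Ω_A comes from the preceding lemma, and the assertion
covers the logarithmic q-forms for all q together with their identification with the log de Rham
complex of the log ring; only the degree-one freeness is stated here, from the properties of A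
actually used.) -/
theorem result (p : ℕ) [Fact p.Prime]
    {A B : Type u} [CommRing A] [IsDomain A] [CharP A p] [CommRing B] [Algebra A B] {r N : ℕ}
    (hr : r ≤ N) (x : Fin N → A) [IsLocalization.Away (∏ i : Fin r, x (Fin.castLE hr i)) B]
    (u : Fin r → Bˣ) (hu : ∀ i, (u i : B) = algebraMap A B (x (Fin.castLE hr i)))
    {ι : Type u} (b : Module.Basis (Fin N ⊕ ι) A (Ω[A⁄ℤ])) (hb : ∀ i, b (Sum.inl i) = D ℤ A (x i)) :
    ∃ e : Module.Basis (Fin N ⊕ ι) A
        (W4c6katofilta.logForms1 (fun i : Fin r => x (Fin.castLE hr i)) u),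
      (∀ i : Fin r, (e (Sum.inl (Fin.castLE hr i)) : Ω[B⁄ℤ]) =
          ((u i)⁻¹ : Bˣ) • KaehlerDifferential.map ℤ ℤ A B (D ℤ A (x (Fin.castLE hr i)))) ∧
      (∀ i : Fin N, r ≤ (i : ℕ) →
          (e (Sum.inl i) : Ω[B⁄ℤ]) = KaehlerDifferential.map ℤ ℤ A B (D ℤ A (x i))) ∧
      (∀ k : ι, (e (Sum.inr k) : Ω[B⁄ℤ]) = KaehlerDifferential.map ℤ ℤ A B (b (Sum.inr k))) := by
  classical
  let v := fun i : Fin r => x (Fin.castLE hr i)
  have hx0 : ∏ i : Fin r, v i ≠ 0 := Finset.prod_ne_zero_iff.2 fun i _ h0 =>
    b.ne_zero (Sum.inl (Fin.castLE hr i)) (by rw [hb, show x (Fin.castLE hr i) = 0 from h0, map_zero])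
  have hinj : Function.Injective (algebraMap A B) :=
    IsLocalization.injective B (powers_le_nonZeroDivisors_of_noZeroDivisors hx0)
  haveI : Algebra.FormallyEtale A B := Algebra.FormallyEtale.of_isLocalization (Submonoid.powers (∏ i : Fin r, v i))
  let bB : Module.Basis (Fin N ⊕ ι) B (Ω[B⁄ℤ]) :=
    (b.baseChange B).map (KaehlerDifferential.tensorKaehlerEquivOfFormallyEtale ℤ A B)
  have hbB : ∀ j, bB j = KaehlerDifferential.map ℤ ℤ A B (b j) := fun j => by
    rw [Module.Basis.map_apply, Module.Basis.baseChange_apply,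
      KaehlerDifferential.tensorKaehlerEquivOfFormallyEtale_apply, KaehlerDifferential.mapBaseChange_tmul, one_smul]
  let w : Fin N ⊕ ι → Bˣ := Sum.elim (fun i => if h : (i : ℕ) < r then (u ⟨i, h⟩)⁻¹ else 1) (fun _ => 1)
  let e₀ : Fin N ⊕ ι → Ω[B⁄ℤ] := fun j => w j • bB j
  have hBli : LinearIndependent B e₀ := bB.linearIndependent.units_smul w
  have hli : LinearIndependent A e₀ := hBli.restrict_scalars (by
    intro a a' h
    exact hinj (by simpa [Algebra.smul_def] using h))
  have hcast : ∀ (i : Fin N) (h : (i : ℕ) < r), Fin.castLE hr ⟨i, h⟩ = i := fun i h => Fin.ext rfl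
  have hspan : Submodule.span A (Set.range e₀) = W4c6katofilta.logForms1 v u := by
    refine le_antisymm (Submodule.span_le.2 ?_) (Submodule.span_le.2 ?_)
    · rintro _ ⟨j, rfl⟩
      rcases j with i | c
      · by_cases h : (i : ℕ) < r
        · refine Submodule.subset_span (Or.inr ⟨⟨i, h⟩, ?_⟩)
          simp [e₀, w, h, hbB, hb, v, hcast]
        · exact Submodule.subset_span (Or.inl ⟨b (Sum.inl i), by simp [e₀, w, h, hbB]⟩)
      · exact Submodule.subset_span (Or.inl ⟨b (Sum.inr c), by simp [e₀, w, hbB]⟩)
    · rintro _ (⟨ω, rfl⟩ | ⟨i, rfl⟩)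
      · have hω : ω ∈ Submodule.span A (Set.range b) := b.span_eq ▸ Submodule.mem_top
        induction hω using Submodule.span_induction with
        | mem _ hj =>
          obtain ⟨j, rfl⟩ := hj
          rcases j with i | c
          · by_cases h : (i : ℕ) < r
            · have : KaehlerDifferential.map ℤ ℤ A B (b (Sum.inl i)) = x i • e₀ (Sum.inl i) := by
                have h2 : algebraMap A B (x i) * ((u ⟨i, h⟩)⁻¹ : Bˣ) = (1 : B) := by
                  have h3 := hu ⟨i, h⟩
                  rw [hcast i h] at h3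
                  rw [← h3]; exact Units.mul_inv _
                rw [← hbB, ← algebraMap_smul B (x i) (e₀ (Sum.inl i))]
                simp only [e₀, w, Sum.elim_inl, dif_pos h, Units.smul_def, smul_smul, h2, one_smul]
              rw [this]
              exact Submodule.smul_mem _ _ (Submodule.subset_span ⟨_, rfl⟩)
            · exact Submodule.subset_span ⟨Sum.inl i, by simp [e₀, w, h, hbB]⟩
          · exact Submodule.subset_span ⟨Sum.inr c, by simp [e₀, w, hbB]⟩
        | zero => rw [map_zero]; exact zero_mem _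
        | add a c _ _ ha hc => rw [map_add]; exact add_mem ha hc
        | smul a c _ hc => rw [map_smul]; exact Submodule.smul_mem _ _ hc
      · exact Submodule.subset_span ⟨Sum.inl (Fin.castLE hr i), by simp [e₀, w, hbB, hb, v]⟩
  let e := (Module.Basis.span hli).map (LinearEquiv.ofEq _ _ hspan)
  have he : ∀ j, (e j : Ω[B⁄ℤ]) = e₀ j := fun j => congrArg Subtype.val (Module.Basis.span_apply hli j)
  refine ⟨e, fun i => ?_, fun i hi => ?_, fun c => ?_⟩
  · rw [he]; simp [e₀, w, hbB, hb]
  · rw [he]; simp [e₀, w, not_lt.2 hi, hbB, hb]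
  · rw [he]; simp [e₀, w, hbB]

end Groth.Agent.S19273
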