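import Groth.Statements.S19274
import Mathlib.RingTheory.WittVector.InitTail
import Mathlib.RingTheory.WittVector.Teichmuller
import Mathlib.RingTheory.UniqueFactorizationDomain.Basic
import Mathlib.Tactic

set_option autoImplicit false
universe u
open WittFil

namespace Groth.Agent.S19274

/-- Let A be a unique factorisation domain of characteristic p, x a prime element of A, B = A[1/x] with
u the unit of B defined by x, m ≥ 1, and n an integer NOT divisible by p^m. For e in B and k ≥ 0
write fil_k(e) for the set of truncated p-typical Witt vectors of length k over B whose j-th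
coordinate y_j satisfies y_j ^ (p ^ (k−1−j)) · e ∈ A for all j < k (the filtered piece; fil_k(u^n)
is the piece of index n). Then fil_{m+1}(u^n) is contained in fil_{m+1}(u^(n−1)) + V(fil_m(u^n))
(the reverse inclusion is immediate): every a in fil_{m+1}(u^n) can be written a = b + V(y) with b
in fil_{m+1}(u^(n−1)) and y a Witt vector over B whose length-m truncation lies in fil_m(u^n), V(y)
being truncated to length m+1. (In the source A is a henselian discrete valuation ring, n = p^r·l >
1 with p not dividing l, and the condition reads m ≥ r + 1.) -/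
theorem result (p : ℕ) [Fact p.Prime]
    {A B : Type u} [CommRing A] [IsDomain A] [UniqueFactorizationMonoid A] [CharP A p]
    [CommRing B] [Algebra A B] (x : A) (hx : Prime x) [IsLocalization.Away x B] (u : Bˣ)
    (hu : (u : B) = algebraMap A B x) (m : ℕ) (hm : 0 < m) (n : ℤ) (hn : ¬ ((p : ℤ) ^ m ∣ n)) :
    ∀ a ∈ WittFil.fil p (m + 1) (A := A) ((u ^ n : Bˣ) : B),
      ∃ b ∈ WittFil.fil p (m + 1) (A := A) ((u ^ (n - 1) : Bˣ) : B),
        ∃ y : WittVector p B,
          WittVector.truncate m y ∈ WittFil.fil p m (A := A) ((u ^ n : Bˣ) : B) ∧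
            a = b + WittVector.truncate (m + 1) (WittVector.verschiebung y) := by
  intro a ha
  classical
  let a0 : B := a.coeff 0
  let t : WittVector p B := WittVector.teichmuller p a0
  let y : WittVector p B := WittVector.mk' fun i => if h : i + 1 < m + 1 then a.coeff ⟨i + 1, h⟩ else 0
  refine ⟨WittVector.truncate (m + 1) t, ?_, y, ?_, ?_⟩
  · intro j
    rw [WittVector.coeff_truncate]
    rcases Nat.eq_zero_or_pos (j : ℕ) with hj | hj
    · have h00 := ha 0
      rw [hj, WittVector.teichmuller_coeff_zero]
      simp only [Fin.val_zero, Nat.add_sub_cancel, Nat.sub_zero] at h00 ⊢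
      -- write a0 as c / x ^ i with reduced form
      obtain ⟨⟨c₀, s⟩, hs⟩ := IsLocalization.surj (Submonoid.powers x) a0
      obtain ⟨i, hi⟩ := s.2
      simp only at hi hs
      rw [← hi] at hs
      by_cases hc : c₀ = 0
      · refine ⟨0, ?_⟩
        have : a0 = 0 := by
          have hu' : IsUnit (algebraMap A B (x ^ i)) := hi ▸ IsLocalization.map_units B s
          rw [hc, map_zero] at hs
          exact hu'.mul_left_eq_zero.1 hs
        rw [map_zero, this, zero_pow (pow_ne_zero _ (Fact.out : p.Prime).ne_zero), zero_mul]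
      obtain ⟨r, c, hxc, hc'⟩ := WfDvdMonoid.max_power_factor hc hx.irreducible
      have hai : a0 = algebraMap A B c * ((u ^ ((r : ℤ) - i) : Bˣ) : B) := by
        apply ((u ^ i).isUnit).mul_left_inj.1
        rw [mul_assoc, ← zpow_natCast u i, ← Units.val_mul, ← zpow_add, sub_add_cancel,
          zpow_natCast, zpow_natCast, Units.val_pow_eq_pow_val, Units.val_pow_eq_pow_val, hu, ← map_pow,
          ← map_pow, ← map_mul, mul_comm c, ← hc']
        exact hs
      set N : ℕ := p ^ m with hN
      have key : ∀ l : ℤ, a0 ^ N * ((u ^ l : Bˣ) : B) =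
          algebraMap A B (c ^ N) * ((u ^ (((r : ℤ) - i) * N + l) : Bˣ) : B) := by
        intro l
        rw [hai, mul_pow, map_pow, mul_assoc, ← Units.val_pow_eq_pow_val, ← zpow_natCast (u ^ ((r : ℤ) - i)),
          ← zpow_mul, ← Units.val_mul, ← zpow_add]
      have hge : 0 ≤ ((r : ℤ) - i) * N + n := by
        by_contra hneg
        obtain ⟨d, hd⟩ := h00
        obtain ⟨e, he⟩ : ∃ e : ℕ, ((r : ℤ) - i) * N + n = -((e + 1 : ℕ) : ℤ) :=
          ⟨(-(((r : ℤ) - i) * N + n) - 1).toNat, by push_cast; omega⟩
        rw [key, he] at hd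
        have h1 : algebraMap A B (d * x ^ (e + 1)) = algebraMap A B (c ^ N) := by
          rw [map_mul, hd, map_pow, map_pow, ← hu, ← Units.val_pow_eq_pow_val, mul_assoc,
            ← zpow_natCast u (e + 1), ← Units.val_mul, ← zpow_add, neg_add_cancel, zpow_zero,
            Units.val_one, mul_one]
        have h2 := IsLocalization.injective B (powers_le_nonZeroDivisors_of_noZeroDivisors hx.ne_zero) h1
        exact hxc (hx.dvd_of_dvd_pow (h2 ▸ dvd_mul_of_dvd_right (dvd_pow_self x e.succ_ne_zero) d))
      have hne : ((r : ℤ) - i) * N + n ≠ 0 := by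
        intro h0
        refine hn ⟨-((r : ℤ) - i), ?_⟩
        have : ((N : ℕ) : ℤ) = (p : ℤ) ^ m := by rw [hN]; push_cast; rfl
        rw [← this]; linarith
      obtain ⟨e, he⟩ : ∃ e : ℕ, ((r : ℤ) - i) * N + (n - 1) = e :=
        ⟨(((r : ℤ) - i) * N + (n - 1)).toNat, by omega⟩
      refine ⟨c ^ N * x ^ e, ?_⟩
      rw [key, he, zpow_natCast, Units.val_pow_eq_pow_val, hu, ← map_pow, map_mul]
    · rw [WittVector.teichmuller_coeff_pos _ _ _ hj, zero_pow (pow_ne_zero _ (Fact.out : p.Prime).ne_zero), zero_mul]
      exact zero_mem _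
  · intro j
    rw [WittVector.coeff_truncate]
    have hj : (j : ℕ) + 1 < m + 1 := by omega
    have h := ha ⟨(j : ℕ) + 1, hj⟩
    simp only [y, WittVector.coeff_mk, dif_pos hj]
    convert h using 4
    simp only []
    omega
  · rw [← map_add]
    ext j
    rw [WittVector.coeff_truncate, WittVector.coeff_add_of_disjoint]
    · rcases Nat.eq_zero_or_pos (j : ℕ) with hj | hj
      · have : j = 0 := Fin.ext hj
        subst this
        rw [Fin.val_zero, WittVector.teichmuller_coeff_zero, WittVector.verschiebung_coeff_zero, add_zero]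
      · obtain ⟨i, hi⟩ : ∃ i, (j : ℕ) = i + 1 := ⟨(j : ℕ) - 1, by omega⟩
        rw [WittVector.teichmuller_coeff_pos _ _ _ hj, zero_add, hi, WittVector.verschiebung_coeff_succ]
        simp only [y, WittVector.coeff_mk]
        rw [dif_pos (by omega)]
        congr 1
        exact Fin.ext hi
    · intro i
      rcases Nat.eq_zero_or_pos i with hi | hi
      · right; subst hi; exact WittVector.verschiebung_coeff_zero _
      · left; exact WittVector.teichmuller_coeff_pos _ _ _ hi

end Groth.Agent.S19274
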