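import Groth.Statements.S19277
import Groth.Agent.GrpAlgCycLib.Basic

set_option autoImplicit false
universe u v
open GrpAlg

namespace Groth.Agent.S19277

/-- Let `M` be a commutative group, `B ≠ B'` subgroups of finite index with `M ⧸ B` and `M ⧸ B'` cyclic,
and `Λ` a commutative ring in which both indices are invertible. Then the localization of the
`Λ[M]`-module `Λ[M ⧸ B]/(Φ_{|M/B|})` at the multiplicative subset of `Λ[M]` of elements with image
`1` in `Λ[M ⧸ B']/(Φ_{|M/B'|})` is zero. (In terms of group schemes: for two distinct dual cyclic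
subgroups σ, σ' of the diagonalizable group with character group `M`, the ring R̃(σ) with
coefficients in `Λ` vanishes after localization at σ'. The published statement has a split torus,
i.e. `M` free of finite rank, and `Λ = ℤ[1/N]` for `N` the order of the subgroup generated by σ and
σ'; here `M` is any commutative group and `Λ` any commutative ring in which the orders of σ and σ'
are invertible.) -/
theorem result (Λ : Type u) [CommRing Λ] (M : Type v)
    [AddCommGroup M] (B B' : AddSubgroup M) [B.FiniteIndex] [B'.FiniteIndex]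
    [IsAddCyclic (M ⧸ B)] [IsAddCyclic (M ⧸ B')] (hne : B ≠ B')
    (hu : IsUnit ((B.index * B'.index : ℕ) : Λ)) :
    Subsingleton (LocalizedModule (W4c6equivkfinstab.locSubmonoid Λ M B')
      (W4c6equivkfinstab.CycQuot Λ (M ⧸ B))) := by
  rw [LocalizedModule.subsingleton_iff]
  intro y
  have h1 : IsUnit (Nat.card (M ⧸ B) : Λ) := isUnit_of_dvd_unit (Nat.cast_dvd_cast (dvd_mul_right B.index B'.index)) hu
  have h2 : IsUnit (Nat.card (M ⧸ B') : Λ) := isUnit_of_dvd_unit (Nat.cast_dvd_cast (dvd_mul_left B'.index B.index)) hu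
  obtain ⟨i, hi, j, hj, hij⟩ := Ideal.isCoprime_iff_exists.1 (GrpAlgCycLib.K_isCoprime (Λ := Λ) h1 h2 hne)
  refine ⟨i, ?_, ?_⟩
  · show W4c6equivkfinstab.cycQuotMap Λ M B' i = 1
    rw [show i = 1 - j by rw [← hij]; ring, map_sub, map_one, show W4c6equivkfinstab.cycQuotMap Λ M B' j = 0 from RingHom.mem_ker.1 hj, sub_zero]
  · obtain ⟨y, rfl⟩ := Ideal.Quotient.mk_surjective y
    show Ideal.Quotient.mk _ (algebraMap (AddMonoidAlgebra Λ M) (AddMonoidAlgebra Λ (M ⧸ B)) i * y) = 0
    rw [map_mul, show Ideal.Quotient.mk (W4c6equivkfinstab.cycIdeal Λ (M ⧸ B)) (algebraMap (AddMonoidAlgebra Λ M) (AddMonoidAlgebra Λ (M ⧸ B)) i) = 0 from RingHom.mem_ker.1 hi, zero_mul]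

end Groth.Agent.S19277
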