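import Groth.Statements.S19279
import Groth.Agent.GrpAlgCycLib.Basic

set_option autoImplicit false
universe u v
open GrpAlg

namespace Groth.Agent.S19279

/-- Let `M` be a commutative group, `B₀` a subgroup of finite index and `Λ` a commutative ring in which
the index of `B₀` is invertible. Then the `Λ[M]`-linear map from `Λ[M ⧸ B₀]` to the product, over
the subgroups `B ⊇ B₀` with `M ⧸ B` cyclic, of the localizations of `Λ[M ⧸ B₀]` at the
multiplicative subsets of `Λ[M]` of elements with image `1` in `Λ[M ⧸ B]/(Φ_{|M/B|})`, with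
components the localization maps, is bijective. (In terms of group schemes: for a finite closed
subgroup T' = D(M/B₀) of the diagonalizable group with character group `M`, the representation ring
of T' with coefficients in `Λ` is the product of its localizations at the dual cyclic subgroups of
T'. The published statement has a split torus and `Λ = ℤ[1/|T'|]`; here `M` is any commutative group
and `Λ` any commutative ring in which the order of T' is invertible.) -/
theorem result (Λ : Type u) [CommRing Λ]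
    (M : Type v) [AddCommGroup M] (B₀ : AddSubgroup M) [B₀.FiniteIndex]
    (hu : IsUnit ((B₀.index : ℕ) : Λ)) :
    Function.Bijective (LinearMap.pi (R := AddMonoidAlgebra Λ M)
      fun B : {B : AddSubgroup M // B₀ ≤ B ∧ IsAddCyclic (M ⧸ B)} =>
        LocalizedModule.mkLinearMap (W4c6equivkfinstab.locSubmonoid Λ M B.1)
          (AddMonoidAlgebra Λ (M ⧸ B₀))) := by
  classical
  have hu' : IsUnit (Nat.card (M ⧸ B₀) : Λ) := hu
  set π := QuotientAddGroup.mk' B₀
  have hπ := QuotientAddGroup.mk'_surjective B₀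
  have hbij := GrpAlgCycLib.bijective_pi (Λ := Λ) (A := M ⧸ B₀) hu'
  -- a subgroup of the quotient with cyclic quotient gives an index
  have hidx : ∀ B' : AddSubgroup (M ⧸ B₀), IsAddCyclic ((M ⧸ B₀) ⧸ B') →
      B₀ ≤ B'.comap π ∧ IsAddCyclic (M ⧸ B'.comap π) := by
    intro B' hB'
    refine ⟨fun b hb => by
      rw [AddSubgroup.mem_comap, show π b = 0 from (QuotientAddGroup.eq_zero_iff b).2 hb]; exact zero_mem _, ?_⟩
    let e := (QuotientAddGroup.quotientKerEquivOfSurjective ((QuotientAddGroup.mk' B').comp π)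
      ((QuotientAddGroup.mk'_surjective B').comp hπ)).symm.trans
      (QuotientAddGroup.quotientAddEquivOfEq
        (N := B'.comap π) (by rw [← AddMonoidHom.comap_ker, QuotientAddGroup.ker_mk']))
    exact isAddCyclic_of_surjective e.toAddMonoidHom e.surjective
  have hidx' : ∀ B : AddSubgroup M, B₀ ≤ B → IsAddCyclic (M ⧸ B) →
      (B.map π).comap π = B ∧ IsAddCyclic ((M ⧸ B₀) ⧸ B.map π) := by
    intro B hle hB
    refine ⟨by rw [AddSubgroup.comap_map_eq, QuotientAddGroup.ker_mk', sup_eq_left.2 hle], ?_⟩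
    exact isAddCyclic_of_surjective
      (QuotientAddGroup.map B (B.map π) π (AddSubgroup.le_comap_map _ _)) (by
        intro y
        obtain ⟨a, rfl⟩ := QuotientAddGroup.mk'_surjective _ y
        obtain ⟨m, rfl⟩ := hπ a
        exact ⟨(m : M ⧸ B), rfl⟩)
  have hone : ∀ (B' : AddSubgroup (M ⧸ B₀)) (s : AddMonoidAlgebra Λ M),
      s ∈ W4c6equivkfinstab.locSubmonoid Λ M (B'.comap π) ↔
        GrpAlgCycLib.qmap π s - 1 ∈ GrpAlgCycLib.K Λ B' := by
    intro B' s
    rw [← map_one (GrpAlgCycLib.qmap (Λ := Λ) π), ← map_sub, GrpAlgCycLib.K_comap hπ, GrpAlgCycLib.K, RingHom.mem_ker,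
      map_sub, map_one, sub_eq_zero, GrpAlgCycLib.mem_locSubmonoid]
  have hsmul : ∀ (s : AddMonoidAlgebra Λ M) (x : AddMonoidAlgebra Λ (M ⧸ B₀)), s • x = GrpAlgCycLib.qmap π s * x :=
    fun s x => Algebra.smul_def s x
  constructor
  · rw [injective_iff_map_eq_zero]
    intro x hx
    refine GrpAlgCycLib.injective_aux _ rfl hu' x fun B' hB' => ?_
    obtain ⟨h1, h2⟩ := hidx B' hB'
    have h3 : LocalizedModule.mk x 1 = LocalizedModule.mk (0 : AddMonoidAlgebra Λ (M ⧸ B₀))
        (1 : W4c6equivkfinstab.locSubmonoid Λ M (B'.comap π)) := by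
      rw [LocalizedModule.zero_mk]
      exact congrFun hx ⟨B'.comap π, h1, h2⟩
    obtain ⟨s, hs⟩ := LocalizedModule.mk_eq.1 h3
    simp only [Submonoid.smul_def, Submonoid.coe_one, one_smul, smul_zero] at hs
    rw [hsmul] at hs
    have : x = -((GrpAlgCycLib.qmap π (s : AddMonoidAlgebra Λ M) - 1) * x) := by rw [sub_mul, hs]; ring
    rw [this]
    exact neg_mem (Ideal.mul_mem_right _ _ ((hone B' _).1 s.2))
  · intro y
    choose m hm using fun B : {B : AddSubgroup M // B₀ ≤ B ∧ IsAddCyclic (M ⧸ B)} =>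
      LocalizedModule.induction_on (β := fun z => ∃ ms : AddMonoidAlgebra Λ (M ⧸ B₀) × W4c6equivkfinstab.locSubmonoid Λ M B.1,
        LocalizedModule.mk ms.1 ms.2 = z) (fun a b => ⟨(a, b), rfl⟩) (y B)
    obtain ⟨x, hx⟩ := hbij.2 fun B' => W4c6equivkfinstab.cycQuotMap Λ (M ⧸ B₀) B'.1
      (m ⟨B'.1.comap π, hidx B'.1 B'.2⟩).1
    refine ⟨x, funext fun B => ?_⟩
    obtain ⟨hcm, hcyc⟩ := hidx' B.1 B.2.1 B.2.2
    obtain ⟨z, hz⟩ := hbij.2 (Pi.single ⟨B.1.map π, hcyc⟩ 1)
    obtain ⟨u, rfl⟩ := GrpAlgCycLib.qmap_surjective hπ z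
    rw [← hm B]
    show LocalizedModule.mk x 1 = _
    have hu1 : u ∈ W4c6equivkfinstab.locSubmonoid Λ M B.1 := by
      rw [← hcm, hone, GrpAlgCycLib.K, RingHom.mem_ker, map_sub, map_one, sub_eq_zero]
      exact (congrFun hz ⟨B.1.map π, hcyc⟩).trans (by rw [Pi.single_eq_same])
    refine LocalizedModule.mk_eq.2 ⟨⟨u, hu1⟩, ?_⟩
    simp only [Submonoid.smul_def, Submonoid.coe_one, one_smul]
    rw [hsmul, hsmul, hsmul, ← sub_eq_zero, ← mul_sub]
    apply hbij.1
    rw [map_zero, map_mul, hz]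
    funext B'
    rcases eq_or_ne B' ⟨B.1.map π, hcyc⟩ with rfl | hne
    · rw [Pi.mul_apply, Pi.zero_apply, Pi.single_eq_same, one_mul]
      show W4c6equivkfinstab.cycQuotMap Λ (M ⧸ B₀) (B.1.map π) _ = 0
      have hs : W4c6equivkfinstab.cycQuotMap Λ (M ⧸ B₀) (B.1.map π) (GrpAlgCycLib.qmap π ((m B).2 : AddMonoidAlgebra Λ M)) = 1 := by
        rw [← sub_eq_zero, ← map_one (W4c6equivkfinstab.cycQuotMap Λ (M ⧸ B₀) (B.1.map π)), ← map_sub]
        exact RingHom.mem_ker.1 ((hone _ _).1 (by rw [hcm]; exact (m B).2.2))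
      rw [map_sub, map_mul, hs, one_mul, sub_eq_zero]
      have hB : (⟨(B.1.map π).comap π, hidx _ hcyc⟩ : {B : AddSubgroup M // B₀ ≤ B ∧ IsAddCyclic (M ⧸ B)}) = B :=
        Subtype.ext hcm
      exact (congrFun hx ⟨B.1.map π, hcyc⟩).trans (congrArg _ (congrArg (fun B => (m B).1) hB))
    · rw [Pi.mul_apply, Pi.zero_apply, Pi.single_eq_of_ne hne, zero_mul]

end Groth.Agent.S19279
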