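import Groth.Statements.S19284
import Groth.Agent.NFSplitLib.Basic

set_option autoImplicit false
universe u
open NumberField

namespace Groth.Agent.S19284

/-- Let L/K be a finite extension of number fields and Ω an algebraic closure of K. Suppose that L/K is
almost abelian in the non-abelian way: for some prime number p there is a bijection between the set
of K-embeddings L → Ω and Z/p under which every K-automorphism of Ω acts by an affine transformation
x ↦ a x + b with a ≠ 0, and L/K is not an abelian extension (it is not Galois with commutative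
automorphism group). Then there is an intermediate extension K ⊂ E ⊂ Ω contained in the normal
closure of L, Galois over K with nontrivial cyclic group, such that for every finite place w of K
which is unramified in L (every prime of the integers of L above w has ramification index 1), either
E admits a K-algebra embedding into the completion K_w (since E/K is Galois: w splits completely in
E) or L admits a K-algebra embedding into K_w (L has a place of degree 1 over w). (Only finite
places are treated here.) -/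
theorem result (K L Ω : Type u) [Field K] [NumberField K]
    [Field L] [NumberField L] [Algebra K L] [Field Ω] [Algebra K Ω] [IsAlgClosure K Ω]
    (p : ℕ) (hp : p.Prime) (e : (L →ₐ[K] Ω) ≃ ZMod p)
    (haff : ∀ σ : Ω ≃ₐ[K] Ω, ∃ a b : ZMod p, a ≠ 0 ∧
      ∀ φ : L →ₐ[K] Ω, e (σ.toAlgHom.comp φ) = a * e φ + b)
    (hnab : IsGalois K L → ∃ σ τ : L ≃ₐ[K] L, σ * τ ≠ τ * σ) :
    ∃ E : IntermediateField K Ω, E ≤ IntermediateField.normalClosure K L Ω ∧
      FiniteDimensional K E ∧ IsGalois K E ∧ IsCyclic (E ≃ₐ[K] E) ∧ 1 < Module.finrank K E ∧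
      ∀ w : IsDedekindDomain.HeightOneSpectrum (NumberField.RingOfIntegers K),
        (∀ P : Ideal (NumberField.RingOfIntegers L), P.IsPrime → P.LiesOver w.asIdeal →
          P.ramificationIdx (NumberField.RingOfIntegers K) = 1) →
        Nonempty (E →ₐ[K] w.adicCompletion K) ∨ Nonempty (L →ₐ[K] w.adicCompletion K) := by
  classical
  open Pointwise in
  haveI : Fact p.Prime := ⟨hp⟩
  haveI : Algebra.IsAlgebraic K Ω := IsAlgClosure.isAlgebraic
  haveI : IsAlgClosed Ω := IsAlgClosure.isAlgClosed K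
  haveI : Algebra.IsSeparable K Ω := Algebra.IsAlgebraic.isSeparable_of_perfectField
  haveI : IsGalois K Ω := {}
  let M : IntermediateField K Ω := IntermediateField.normalClosure K L Ω
  haveI : IsGalois K M := IsGalois.normalClosure K L Ω
  haveI : FiniteDimensional K M := inferInstanceAs (FiniteDimensional K (IntermediateField.normalClosure K L Ω))
  haveI : NumberField M := NumberField.of_module_finite K M
  have hrange : ∀ φ : L →ₐ[K] Ω, φ.fieldRange ≤ M := fun φ => φ.fieldRange_le_normalClosure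
  let emb : (L →ₐ[K] Ω) ≃ (L →ₐ[K] M) :=
    { toFun := fun φ => AlgHom.codRestrict φ M.toSubalgebra fun x => hrange φ ⟨x, rfl⟩
      invFun := fun ψ => M.val.comp ψ
      left_inv := fun φ => rfl
      right_inv := fun ψ => rfl }
  let e' : (L →ₐ[K] M) ≃ ZMod p := emb.symm.trans e
  have haff' : ∀ σ : M ≃ₐ[K] M, ∃ a b : ZMod p, a ≠ 0 ∧ ∀ φ : L →ₐ[K] M, e' (σ.toAlgHom.comp φ) = a * e' φ + b := by
    intro σ
    obtain ⟨σ', hσ'⟩ := AlgEquiv.restrictNormalHom_surjective (F := K) (K₁ := M) (E := Ω) σ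
    obtain ⟨a, b, ha, hab⟩ := haff σ'
    refine ⟨a, b, ha, fun φ => ?_⟩
    rw [show e' φ = e (emb.symm φ) from rfl, ← hab (emb.symm φ)]
    refine congrArg e (AlgHom.ext fun x => ?_)
    show ((σ (φ x) : M) : Ω) = σ' (φ x : Ω)
    rw [← hσ']
    exact AlgEquiv.restrictNormal_commutes σ' M (φ x)
  choose a b ha hab using haff'
  have hfix : ∀ σ : M ≃ₐ[K] M, (∀ φ : L →ₐ[K] M, σ.toAlgHom.comp φ = φ) → σ = 1 := by
    intro σ h
    have hle : M ≤ IntermediateField.lift (IntermediateField.fixedField (Subgroup.zpowers σ)) := by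
      refine iSup_le fun φ => ?_
      rintro _ ⟨x, rfl⟩
      refine (IntermediateField.mem_lift (emb φ x)).2 fun τ => ?_
      obtain ⟨τ, hτ⟩ := τ
      have : Subgroup.zpowers σ ≤ MulAction.stabilizer (M ≃ₐ[K] M) (emb φ x) :=
        Subgroup.zpowers_le.2 (DFunLike.congr_fun (h (emb φ)) x)
      exact this hτ
    refine AlgEquiv.ext fun m => ?_
    exact ((IntermediateField.mem_lift m).1 (hle m.2)) ⟨σ, Subgroup.mem_zpowers σ⟩
  have hmulc : ∀ σ τ : M ≃ₐ[K] M, a (σ * τ) = a σ * a τ ∧ b (σ * τ) = a σ * b τ + b σ := by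
    intro σ τ
    have key : ∀ i : ZMod p, a (σ * τ) * i + b (σ * τ) = a σ * (a τ * i + b τ) + b σ := fun i => by
      have h1 := hab (σ * τ) (e'.symm i)
      rw [Equiv.apply_symm_apply] at h1
      rw [← h1, show (σ * τ).toAlgHom.comp (e'.symm i) = σ.toAlgHom.comp (τ.toAlgHom.comp (e'.symm i)) from rfl, hab, hab,
        Equiv.apply_symm_apply]
    have h0 := key 0
    have h1 := key 1
    simp only [mul_zero, zero_add] at h0
    refine ⟨?_, h0⟩
    rw [h0] at h1
    linear_combination h1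
  have hone : a 1 = 1 ∧ b 1 = 0 := by
    obtain ⟨h1, h2⟩ := hmulc 1 1
    rw [one_mul] at h1 h2
    have h1' : a 1 = 1 := mul_right_cancel₀ (ha 1) ((one_mul (a 1)).trans h1).symm
    rw [h1', one_mul] at h2
    exact ⟨h1', by linear_combination -h2⟩
  let χ : (M ≃ₐ[K] M) →* (ZMod p)ˣ := MonoidHom.mk' (fun σ => Units.mk0 (a σ) (ha σ)) fun σ τ => Units.ext (hmulc σ τ).1
  have hχ : ∀ σ, χ σ = 1 ↔ a σ = 1 := fun σ => by simp [χ, Units.ext_iff]
  have hdet : ∀ σ τ : M ≃ₐ[K] M, a σ = a τ → b σ = b τ → σ = τ := by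
    intro σ τ h h'
    refine eq_of_div_eq_one ?_
    rw [div_eq_mul_inv]
    refine hfix _ fun φ => e'.injective ?_
    have h1 := hab (σ * τ⁻¹) φ
    have h2 := hmulc (σ * τ⁻¹) τ
    rw [inv_mul_cancel_right, h, h'] at h2
    have h3 : a (σ * τ⁻¹) = 1 := mul_right_cancel₀ (ha τ) ((one_mul (a τ)).trans h2.1).symm
    rw [h3, one_mul] at h2
    rw [h1, h3, one_mul]
    linear_combination -h2.2
  have hnt : ∃ σ, χ σ ≠ 1 := by
    by_contra hall
    push Not at hall
    have hcomm : ∀ σ τ : M ≃ₐ[K] M, σ * τ = τ * σ := by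
      intro σ τ
      obtain ⟨h1, h2⟩ := hmulc σ τ
      obtain ⟨h3, h4⟩ := hmulc τ σ
      refine hdet _ _ (by rw [h1, h3, mul_comm]) ?_
      rw [h2, h4, (hχ σ).1 (hall σ), (hχ τ).1 (hall τ)]
      ring
    let φ₀ : L →ₐ[K] M := e'.symm 0
    haveI : (φ₀.fieldRange.fixingSubgroup).Normal := ⟨fun n hn g => by rwa [hcomm g n, mul_inv_cancel_right]⟩
    haveI : IsGalois K φ₀.fieldRange := by
      have := IsGalois.of_fixedField_normal_subgroup φ₀.fieldRange.fixingSubgroup
      rwa [IsGalois.fixedField_fixingSubgroup] at this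
    let e1 : φ₀.fieldRange ≃ₐ[K] L := (AlgEquiv.ofInjectiveField φ₀).symm
    have hLG : IsGalois K L := IsGalois.of_algEquiv e1
    obtain ⟨s, t, hst⟩ := hnab hLG
    let : Algebra L M := φ₀.toRingHom.toAlgebra
    haveI : IsScalarTower K L M := .of_algebraMap_eq fun x => (φ₀.commutes x).symm
    obtain ⟨S, rfl⟩ := AlgEquiv.restrictNormalHom_surjective (F := K) (K₁ := L) (E := M) s
    obtain ⟨T, rfl⟩ := AlgEquiv.restrictNormalHom_surjective (F := K) (K₁ := L) (E := M) t
    exact hst (by rw [← map_mul, ← map_mul, hcomm S T])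
  let E₀ : IntermediateField K M := IntermediateField.fixedField χ.ker
  let ψ : ((M ≃ₐ[K] M) ⧸ χ.ker) ≃* (E₀ ≃ₐ[K] E₀) := IsGalois.normalAutEquivQuotient χ.ker
  haveI : IsGalois K E₀ := IsGalois.of_fixedField_normal_subgroup χ.ker
  let eE : E₀ ≃ₐ[K] IntermediateField.lift E₀ := IntermediateField.liftAlgEquiv E₀
  haveI : IsCyclic ((M ≃ₐ[K] M) ⧸ χ.ker) :=
    isCyclic_of_injective (QuotientGroup.kerLift χ) (QuotientGroup.kerLift_injective χ)
  haveI hcyc : IsCyclic (E₀ ≃ₐ[K] E₀) := isCyclic_of_surjective ψ.toMonoidHom ψ.surjective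
  refine ⟨IntermediateField.lift E₀, IntermediateField.lift_le E₀, eE.toLinearEquiv.finiteDimensional,
    IsGalois.of_algEquiv eE, isCyclic_of_surjective (AlgEquiv.autCongr eE).toMonoidHom (AlgEquiv.autCongr eE).surjective, ?_, ?_⟩
  · rw [← eE.toLinearEquiv.finrank_eq, ← IsGalois.card_aut_eq_finrank K E₀, ← Nat.card_congr ψ.toEquiv,
      Finite.one_lt_card_iff_nontrivial, QuotientGroup.nontrivial_iff]
    obtain ⟨σ, hσ⟩ := hnt
    exact fun h => hσ (MonoidHom.mem_ker.1 (h ▸ Subgroup.mem_top σ))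
  intro w hw
  haveI : w.asIdeal.IsMaximal := w.isMaximal
  obtain ⟨⟨Q, hQp, hQo⟩⟩ := (inferInstance : Nonempty (w.asIdeal.primesOver (NumberField.RingOfIntegers M)))
  haveI := hQp
  haveI := hQo
  haveI : Q.IsMaximal := Ideal.IsMaximal.of_liesOver_isMaximal Q w.asIdeal
  have hI : Q.inertia (M ≃ₐ[K] M) = ⊥ := by
    refine (Subgroup.eq_bot_iff_forall _).2 fun σ hσ => hfix σ fun φ => AlgHom.ext fun x => ?_
    let : Algebra L M := φ.toRingHom.toAlgebra
    haveI : IsScalarTower K L M := .of_algebraMap_eq fun x => (φ.commutes x).symm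
    exact Groth.Agent.NFSplitLib.inertia_fixes_of_unramified w.asIdeal Q
      (hw _ inferInstance inferInstance) hσ x
  let f : MulAction.stabilizer (M ≃ₐ[K] M) Q →*
      ((NumberField.RingOfIntegers M ⧸ Q) ≃ₐ[NumberField.RingOfIntegers K ⧸ w.asIdeal] (NumberField.RingOfIntegers M ⧸ Q)) :=
    Ideal.Quotient.stabilizerHom Q w.asIdeal (M ≃ₐ[K] M)
  have hf : Function.Injective f := by
    rw [← MonoidHom.ker_eq_bot_iff, ← (Subgroup.map_eq_bot_iff_of_injective _ (Subgroup.subtype_injective _)),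
      Ideal.Quotient.map_ker_stabilizer_subtype, hI]
  letI := Ideal.Quotient.field Q
  letI := Ideal.Quotient.field w.asIdeal
  haveI : Finite (NumberField.RingOfIntegers M ⧸ Q) := Ideal.finiteQuotientOfFreeOfNeBot Q (Ideal.ne_bot_of_liesOver_of_ne_bot w.ne_bot Q)
  haveI : IsCyclic (MulAction.stabilizer (M ≃ₐ[K] M) Q) := isCyclic_of_injective f hf
  obtain ⟨⟨σ, hσQ⟩, hgen⟩ := IsCyclic.exists_generator (α := MulAction.stabilizer (M ≃ₐ[K] M) Q)
  have hD : MulAction.stabilizer (M ≃ₐ[K] M) Q ≤ Subgroup.zpowers σ := fun τ hτ => by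
    obtain ⟨n, hn⟩ := Subgroup.mem_zpowers_iff.1 (hgen ⟨τ, hτ⟩)
    exact Subgroup.mem_zpowers_iff.2 ⟨n, congrArg Subtype.val hn⟩
  obtain ⟨g⟩ := Groth.Agent.NFSplitLib.exists_algHom_fixedField_stabilizer (K := K) w Q
  by_cases h1 : χ σ = 1
  · exact .inl ⟨(g.comp (IntermediateField.inclusion (IntermediateField.fixedField_le
      (hD.trans (Subgroup.zpowers_le.2 (MonoidHom.mem_ker.2 h1)))))).comp eE.symm.toAlgHom⟩
  · have hne : 1 - a σ ≠ 0 := fun h => h1 ((hχ σ).2 (sub_eq_zero.1 h).symm)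
    let φ : L →ₐ[K] M := e'.symm (b σ / (1 - a σ))
    have hφ : σ.toAlgHom.comp φ = φ := e'.injective (by
      rw [hab]; simp only [φ, Equiv.apply_symm_apply]; field_simp; ring)
    refine .inr ⟨g.comp (φ.codRestrict _ fun x => ?_)⟩
    rintro ⟨τ, hτ⟩
    have : Subgroup.zpowers σ ≤ MulAction.stabilizer (M ≃ₐ[K] M) (φ x) :=
      Subgroup.zpowers_le.2 (DFunLike.congr_fun hφ x)
    exact this (hD hτ)

end Groth.Agent.S19284
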