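import Groth.Statements.S19285
import Groth.Agent.SplitValueLib.Main

set_option autoImplicit false
set_option backward.isDefEq.respectTransparency false
universe u
open scoped TensorProduct
open NumberField

namespace Groth.Agent.S19285

/-- A conjectured statement on locally split values of the polynomials t − a_i holds unconditionally
when the degrees [k_i : k] sum to at most 2. Precisely: let k be a number field, n ≥ 1, and for each
i let k_i = k(a_i) be a finite extension generated by a_i, the minimal polynomials of the a_i over k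
being pairwise distinct and the degrees [k_i : k] summing to at most 2; let L_i/k_i be finite
extensions and b_i ∈ k_i nonzero. Let S_f, S_∞ be finite sets of finite and infinite places of k
such that S_∞ contains every real place and S_f contains every finite place of k below a finite
place of some k_i at which b_i is not a unit or below a prime of some L_i ramified over k_i. For v ∈
S_f ∪ S_∞ let t_v ∈ k_v, with an open neighbourhood U_v, be such that for every i the element b_i
(t_v − a_i) of k_v ⊗_k k_i is the norm of a unit of the (k_v ⊗_k k_i)-algebra k_v ⊗_k L_i. Then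
there is t_0 ∈ k whose image lies in U_v for all v ∈ S_f ∪ S_∞ and such that for every i and every
finite place w of k_i at which t_0 − a_i has positive valuation, either w lies above a place of S_f
or L_i admits a k_i-algebra embedding into the completion (k_i)_w (a place of L_i of degree 1 over
w). -/
theorem result (k : Type u) [Field k] [NumberField k]
    (n : ℕ) (hn : 1 ≤ n)
    (kf : Fin n → Type u) [∀ i, Field (kf i)] [∀ i, NumberField (kf i)] [∀ i, Algebra k (kf i)]
    (Lf : Fin n → Type u) [∀ i, Field (Lf i)] [∀ i, NumberField (Lf i)] [∀ i, Algebra (kf i) (Lf i)]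
    [∀ i, Algebra k (Lf i)] [∀ i, IsScalarTower k (kf i) (Lf i)]
    (a : (i : Fin n) → kf i) (ha : ∀ i, IntermediateField.adjoin k {a i} = ⊤)
    (hdist : ∀ i j, i ≠ j → minpoly k (a i) ≠ minpoly k (a j))
    (hdeg : ∑ i, Module.finrank k (kf i) ≤ 2)
    (b : (i : Fin n) → kf i) (hb : ∀ i, b i ≠ 0)
    (Sf : Finset (IsDedekindDomain.HeightOneSpectrum (NumberField.RingOfIntegers k)))
    (Si : Finset (NumberField.InfinitePlace k))
    (hSreal : ∀ w : NumberField.InfinitePlace k, w.IsReal → w ∈ Si)
    (hSb : ∀ i, ∀ W : IsDedekindDomain.HeightOneSpectrum (NumberField.RingOfIntegers (kf i)),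
      W.valuation (kf i) (b i) ≠ 1 → ∃ v ∈ Sf, W.asIdeal.LiesOver v.asIdeal)
    (hSram : ∀ i, ∀ Q : Ideal (NumberField.RingOfIntegers (Lf i)), Q.IsPrime → Q ≠ ⊥ →
      Q.ramificationIdx (NumberField.RingOfIntegers (kf i)) ≠ 1 → ∃ v ∈ Sf, Q.LiesOver v.asIdeal)
    (tf : (v : IsDedekindDomain.HeightOneSpectrum (NumberField.RingOfIntegers k)) → v.adicCompletion k)
    (ti : (w : NumberField.InfinitePlace k) → w.Completion)
    (htf : ∀ i, ∀ v ∈ Sf,
      letI := (Algebra.TensorProduct.map (AlgHom.id k (v.adicCompletion k))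
        (IsScalarTower.toAlgHom k (kf i) (Lf i))).toRingHom.toAlgebra
      ∃ x : (v.adicCompletion k) ⊗[k] Lf i, IsUnit x ∧
        Algebra.norm ((v.adicCompletion k) ⊗[k] kf i) x =
          (1 : v.adicCompletion k) ⊗ₜ[k] b i * (tf v ⊗ₜ[k] (1 : kf i) - (1 : v.adicCompletion k) ⊗ₜ[k] a i))
    (hti : ∀ i, ∀ w ∈ Si,
      letI := (Algebra.TensorProduct.map (AlgHom.id k w.Completion)
        (IsScalarTower.toAlgHom k (kf i) (Lf i))).toRingHom.toAlgebra
      ∃ x : w.Completion ⊗[k] Lf i, IsUnit x ∧
        Algebra.norm (w.Completion ⊗[k] kf i) x =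
          (1 : w.Completion) ⊗ₜ[k] b i * (ti w ⊗ₜ[k] (1 : kf i) - (1 : w.Completion) ⊗ₜ[k] a i))
    (Uf : (v : IsDedekindDomain.HeightOneSpectrum (NumberField.RingOfIntegers k)) → Set (v.adicCompletion k))
    (hUf : ∀ v ∈ Sf, IsOpen (Uf v) ∧ tf v ∈ Uf v)
    (Ui : (w : NumberField.InfinitePlace k) → Set w.Completion)
    (hUi : ∀ w ∈ Si, IsOpen (Ui w) ∧ ti w ∈ Ui w) :
    ∃ t₀ : k, (∀ v ∈ Sf, algebraMap k (v.adicCompletion k) t₀ ∈ Uf v) ∧
      (∀ w ∈ Si, algebraMap k w.Completion t₀ ∈ Ui w) ∧
      ∀ i, ∀ W : IsDedekindDomain.HeightOneSpectrum (NumberField.RingOfIntegers (kf i)),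
        W.valuation (kf i) (algebraMap k (kf i) t₀ - a i) < 1 →
          (∃ v ∈ Sf, W.asIdeal.LiesOver v.asIdeal) ∨ Nonempty (Lf i →ₐ[kf i] W.adicCompletion (kf i)) := by
  classical
  haveI : ∀ i, FiniteDimensional k (kf i) := fun i => Module.Finite.of_restrictScalars_finite ℚ k (kf i)
  suffices h : ∃ (f g : (i : Fin n) → kf i →ₗ[k] k) (c c' : k),
      (∀ (A : (i : Fin n) → kf i) i,
        algebraMap k (kf i) (∑ j, f j (A j) + c) - a i * algebraMap k (kf i) (∑ j, g j (A j) + c') = A i / b i) ∧
      ∀ t : k, ∑ j, f j (b j * (algebraMap k (kf j) t - a j)) + c = t ∧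
        ∑ j, g j (b j * (algebraMap k (kf j) t - a j)) + c' = 1 by
    obtain ⟨f, g, c, c', h1, h2⟩ := h
    exact SplitValueLib.core n kf Lf a b hb f g c c' h1 h2 Sf Si hSb hSram tf ti htf hti Uf hUf Ui hUi
  have hpos : ∀ i, 1 ≤ Module.finrank k (kf i) := fun i => Module.finrank_pos
  rcases eq_or_lt_of_le hdeg with h2 | hlt
  · -- the degrees sum to two
    let Ψ : k × k →ₗ[k] ((i : Fin n) → kf i) := LinearMap.pi fun i =>
      (LinearMap.mulLeft k (b i)) ∘ₗ ((Algebra.linearMap k (kf i)) ∘ₗ LinearMap.fst k k k -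
        (LinearMap.mulLeft k (a i)) ∘ₗ (Algebra.linearMap k (kf i)) ∘ₗ LinearMap.snd k k k)
    have hΨ : ∀ p i, Ψ p i = b i * (algebraMap k (kf i) p.1 - a i * algebraMap k (kf i) p.2) := fun p i => rfl
    have hinj : Function.Injective Ψ := by
      rw [injective_iff_map_eq_zero]
      rintro ⟨lam, μ⟩ h
      have h' : ∀ i, algebraMap k (kf i) lam = a i * algebraMap k (kf i) μ := fun i => by
        have := congrFun h i
        rw [hΨ] at this
        exact sub_eq_zero.mp ((mul_eq_zero.mp this).resolve_left (hb i))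
      let i0 : Fin n := ⟨0, hn⟩
      by_cases hμ : μ = 0
      · subst hμ
        have := h' i0
        rw [map_zero, mul_zero, map_eq_zero] at this
        rw [this]; rfl
      · exfalso
        have ha' : ∀ i, a i = algebraMap k (kf i) (lam / μ) := fun i => by
          rw [map_div₀, h' i, mul_div_cancel_right₀ _ ((map_ne_zero _).mpr hμ)]
        have huniv : ∀ i : Fin n, i = i0 := fun i => by_contra fun hne => hdist i i0 hne (by
          rw [ha' i, ha' i0, minpoly.eq_X_sub_C, minpoly.eq_X_sub_C])
        have hone : ∀ i, Module.finrank k (kf i) = 1 := fun i => by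
          refine IntermediateField.bot_eq_top_iff_finrank_eq_one.mp ?_
          rw [← ha i, eq_comm, IntermediateField.adjoin_simple_eq_bot_iff, IntermediateField.mem_bot]
          exact ⟨_, (ha' i).symm⟩
        rw [Finset.sum_eq_single i0 (fun i _ hne => absurd (huniv i) hne) (fun hh => absurd (Finset.mem_univ _) hh),
          hone] at h2
        omega
    have hrank : Module.finrank k (k × k) = Module.finrank k ((i : Fin n) → kf i) := by
      rw [Module.finrank_prod, Module.finrank_self, Module.finrank_pi_fintype, h2]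
    let R : (k × k) ≃ₗ[k] ((i : Fin n) → kf i) := LinearEquiv.ofInjectiveOfFinrankEq Ψ hinj hrank
    have hR : ∀ p, R p = Ψ p := fun p => rfl
    refine ⟨fun i => LinearMap.fst k k k ∘ₗ R.symm.toLinearMap ∘ₗ LinearMap.single k kf i,
      fun i => LinearMap.snd k k k ∘ₗ R.symm.toLinearMap ∘ₗ LinearMap.single k kf i, 0, 0, fun A i => ?_, fun t => ?_⟩
    · simp only [add_zero, LinearMap.comp_apply, LinearEquiv.coe_coe, LinearMap.fst_apply, LinearMap.snd_apply,
        LinearMap.coe_single, ← Prod.fst_sum, ← Prod.snd_sum, ← map_sum, Finset.univ_sum_single]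
      rw [eq_div_iff (hb i), mul_comm, ← hΨ, ← hR, LinearEquiv.apply_symm_apply]
    · simp only [add_zero, LinearMap.comp_apply, LinearEquiv.coe_coe, LinearMap.fst_apply, LinearMap.snd_apply,
        LinearMap.coe_single, ← Prod.fst_sum, ← Prod.snd_sum, ← map_sum, Finset.univ_sum_single]
      have h : R (t, 1) = fun j => b j * (algebraMap k (kf j) t - a j) := funext fun j => by
        rw [hR, hΨ, map_one, mul_one]
      rw [← h, LinearEquiv.symm_apply_apply]
      exact ⟨rfl, rfl⟩
  · -- a single factor, of degree one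
    have hsum : (Finset.univ : Finset (Fin n)).card • 1 ≤ ∑ i, Module.finrank k (kf i) :=
      Finset.card_nsmul_le_sum _ _ _ fun i _ => hpos i
    rw [Finset.card_univ, Fintype.card_fin, smul_eq_mul, mul_one] at hsum
    obtain rfl : n = 1 := by omega
    rw [Fin.sum_univ_one] at hlt
    have hbij : Function.Bijective (Algebra.linearMap k (kf 0)) := by
      refine ⟨(algebraMap k (kf 0)).injective, ?_⟩
      exact (LinearMap.injective_iff_surjective_of_finrank_eq_finrank (by
        rw [Module.finrank_self]; have := hpos 0; omega)).mp (algebraMap k (kf 0)).injective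
    let e := LinearEquiv.ofBijective _ hbij
    have he : ∀ x, algebraMap k (kf 0) (e.symm x) = x := fun x => e.apply_symm_apply x
    refine ⟨Fin.cases (e.symm.toLinearMap ∘ₗ LinearMap.mulLeft k (b 0)⁻¹) finZeroElim, fun _ => 0, e.symm (a 0), 1,
      fun A i => ?_, fun t => ?_⟩
    · obtain rfl : i = 0 := Subsingleton.elim i 0
      simp only [Fin.sum_univ_one, Fin.cases_zero, LinearMap.comp_apply, LinearEquiv.coe_coe, LinearMap.mulLeft_apply,
        LinearMap.zero_apply, zero_add, map_add, he, map_one, mul_one]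
      ring
    · simp only [Fin.sum_univ_one, Fin.cases_zero, LinearMap.comp_apply, LinearEquiv.coe_coe, LinearMap.mulLeft_apply,
        LinearMap.zero_apply, zero_add, and_true]
      apply (algebraMap k (kf 0)).injective
      rw [map_add, he, he, ← mul_assoc, inv_mul_cancel₀ (hb 0), one_mul, sub_add_cancel]

end Groth.Agent.S19285
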