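import Groth.Statements.S19286
import Groth.Agent.UnitNormLib.Local
-- import your own Groth.Agent.* helpers here

set_option autoImplicit false
universe u
open scoped TensorProduct
open NumberField
set_option backward.isDefEq.respectTransparency false
set_option backward.isDefEq.respectTransparency.types false

namespace Groth.Agent.S19286

section aux

variable {k K L A : Type u} [Field k] [Field K] [Field L] [Field A] [Algebra k K] [Algebra K L] [Algebra k L]
  [IsScalarTower k K L] [Algebra k A]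

lemma field_identity {F : Type*} [Field F] (a b α β γ δ : F) (h : γ * a + δ ≠ 0) :
    b * (γ * a + δ) * ((α * a + β) / (γ * a + δ)) = b * (α * a + β) := by
  field_simp

lemma moebius_sub {R : Type*} [CommRing R] (a b a' b' t t' α β γ δ q ι : R) (hq : q * ι = 1)
    (ht : t' = (α * t + β) * ι) (hqd : q = γ * t + δ) (hb : b' = b * (γ * a + δ)) (hab : b' * a' = b * (α * a + β)) :
    b' * (t' - a') = (b * (t - a)) * ((α * δ - β * γ) * ι) := by
  subst hqd
  rw [mul_sub, hab, hb, ht]
  linear_combination (b * (α * a + β)) * hq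

/-- The first conclusion at a place in `S`. -/
theorem norm_transform (a b a' b' : K) (α β γ δ : k) (t t' : A)
    (hia : algebraMap k K γ * a + algebraMap k K δ ≠ 0)
    (hit : algebraMap k A γ * t + algebraMap k A δ ≠ 0)
    (ha' : a' = (algebraMap k K α * a + algebraMap k K β) / (algebraMap k K γ * a + algebraMap k K δ))
    (hb' : b' = b * (algebraMap k K γ * a + algebraMap k K δ))
    (ht' : t' = (algebraMap k A α * t + algebraMap k A β) / (algebraMap k A γ * t + algebraMap k A δ))
    (h1 : letI := (Algebra.TensorProduct.map (AlgHom.id k A) (IsScalarTower.toAlgHom k K L)).toRingHom.toAlgebra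
      ∃ x : A ⊗[k] L, IsUnit x ∧
        Algebra.norm (A ⊗[k] K) x = (1 : A) ⊗ₜ[k] b * (t ⊗ₜ[k] (1 : K) - (1 : A) ⊗ₜ[k] a))
    (h2 : letI := (Algebra.TensorProduct.map (AlgHom.id k A) (IsScalarTower.toAlgHom k K L)).toRingHom.toAlgebra
      ∃ y : A ⊗[k] L, IsUnit y ∧
        Algebra.norm (A ⊗[k] K) y =
          (algebraMap k A (α * δ - β * γ) / (algebraMap k A γ * t + algebraMap k A δ)) ⊗ₜ[k] (1 : K)) :
    letI := (Algebra.TensorProduct.map (AlgHom.id k A) (IsScalarTower.toAlgHom k K L)).toRingHom.toAlgebra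
    ∃ x : A ⊗[k] L, IsUnit x ∧
      Algebra.norm (A ⊗[k] K) x = (1 : A) ⊗ₜ[k] b' * (t' ⊗ₜ[k] (1 : K) - (1 : A) ⊗ₜ[k] a') := by
  letI := (Algebra.TensorProduct.map (AlgHom.id k A) (IsScalarTower.toAlgHom k K L)).toRingHom.toAlgebra
  obtain ⟨x, hx, hNx⟩ := h1
  obtain ⟨y, hy, hNy⟩ := h2
  refine ⟨x * y, hx.mul hy, ?_⟩
  rw [map_mul, hNx, hNy]
  let iA : A →ₐ[k] A ⊗[k] K := Algebra.TensorProduct.includeLeft
  let iK : K →ₐ[k] A ⊗[k] K := Algebra.TensorProduct.includeRight
  let j : k →+* A ⊗[k] K := algebraMap k (A ⊗[k] K)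
  have e1 : ∀ c : k, iA (algebraMap k A c) = j c := fun c => iA.commutes c
  have e2 : ∀ c : k, iK (algebraMap k K c) = j c := fun c => iK.commutes c
  show iK b * (iA t - iK a) * iA (algebraMap k A (α * δ - β * γ) / (algebraMap k A γ * t + algebraMap k A δ)) =
    iK b' * (iA t' - iK a')
  rw [div_eq_mul_inv (algebraMap k A (α * δ - β * γ)), map_mul iA, e1]
  refine ((moebius_sub (iK a) (iK b) (iK a') (iK b') (iA t) (iA t') (j α) (j β) (j γ) (j δ)
    (iA (algebraMap k A γ * t + algebraMap k A δ)) (iA (algebraMap k A γ * t + algebraMap k A δ)⁻¹) ?_ ?_ ?_ ?_ ?_).trans ?_).symm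
  · rw [← map_mul, mul_inv_cancel₀ hit, map_one]
  · rw [ht', div_eq_mul_inv, map_mul, map_add, map_mul, e1, e1]
  · rw [map_add, map_mul, e1, e1]
  · rw [hb', map_mul, map_add, map_mul, e2, e2]
  · rw [← map_mul, ha', hb', field_identity a b _ _ _ _ hia, map_mul, map_add, map_mul, e2, e2]
  · rw [map_sub j, map_mul j, map_mul j]

/-- The inverse change of coordinate is continuous. -/
theorem inverse_nhd [TopologicalSpace A] [IsTopologicalRing A] [T1Space A] [ContinuousInv₀ A] (α β γ δ : k)
    (hdet : α * δ - β * γ ≠ 0) (t t' : A) (hit : algebraMap k A γ * t + algebraMap k A δ ≠ 0)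
    (ht' : t' = (algebraMap k A α * t + algebraMap k A β) / (algebraMap k A γ * t + algebraMap k A δ))
    (U : Set A) (hU : IsOpen U) (htU : t ∈ U) :
    ∃ U' : Set A, IsOpen U' ∧ t' ∈ U' ∧ ∀ t₀' : k, α ≠ γ * t₀' → algebraMap k A t₀' ∈ U' →
      algebraMap k A ((δ * t₀' - β) / (α - γ * t₀')) ∈ U := by
  let g : A → A := fun s => (algebraMap k A δ * s - algebraMap k A β) / (algebraMap k A α - algebraMap k A γ * s)
  let V : Set A := {s | algebraMap k A α - algebraMap k A γ * s ≠ 0}
  have hV : IsOpen V := isOpen_compl_singleton.preimage (by fun_prop)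
  have hd : algebraMap k A (α * δ - β * γ) ≠ 0 := (map_ne_zero _).mpr hdet
  have hden : algebraMap k A α - algebraMap k A γ * t' =
      algebraMap k A (α * δ - β * γ) / (algebraMap k A γ * t + algebraMap k A δ) := by
    rw [eq_div_iff hit, sub_mul, mul_assoc, ht', div_mul_cancel₀ _ hit]
    simp only [map_sub, map_mul]; ring
  have ht'V : t' ∈ V := by
    show _ ≠ 0
    rw [hden]; exact div_ne_zero hd hit
  have hg : g t' = t := by
    show _ / _ = t
    rw [div_eq_iff (show algebraMap k A α - algebraMap k A γ * t' ≠ 0 from ht'V), hden, mul_div_assoc', eq_div_iff hit,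
      sub_mul, mul_assoc, ht', div_mul_cancel₀ _ hit]
    simp only [map_sub, map_mul]; ring
  have hgc : ContinuousOn g V := ContinuousOn.div (by fun_prop) (by fun_prop) fun s hs => hs
  refine ⟨V ∩ g ⁻¹' U, hgc.isOpen_inter_preimage hV hU, ⟨ht'V, by show g t' ∈ U; rwa [hg]⟩, fun t₀ _ h => ?_⟩
  have := h.2
  simpa [g, map_div₀] using this

end aux

/-- Invariance, under a linear change of coordinate on the projective line, of the hypotheses (the data
listed next) of a conjecture on locally split values. Data: k a number field, n ≥ 1, k_i = k(a_i)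
with pairwise distinct minimal polynomials, L_i/k_i finite, b_i ∈ k_i nonzero, finite sets S_f ⊇
(finite places below a non-unit place of some b_i or a ramified prime of some L_i/k_i), S_∞ ⊇ real
places, t_v ∈ k_v for v ∈ S_f ∪ S_∞ with b_i(t_v − a_i) the norm of a unit of k_v ⊗_k L_i over k_v
⊗_k k_i. Let α, β, γ, δ ∈ k with αδ − βγ ≠ 0 satisfy: (i) γa_i + δ ≠ 0 for all i and γt_v + δ ≠ 0
for v ∈ S_f ∪ S_∞; (ii) α is a unit at every finite place outside S_f and αa_i + β is a unit at
every finite place of k_i not above S_f; (iii) for every i and v ∈ S_f ∪ S_∞, (αδ − βγ)/(γt_v + δ)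
is the norm of a unit of k_v ⊗_k L_i. Put a'_i = (αa_i + β)/(γa_i + δ), b'_i = b_i(γa_i + δ); let
S'_f ⊇ S_f be a finite set of finite places containing those where α or γ is not integral and those
below a place of some k_i where a'_i is not integral or b'_i is not a unit; put t'_v = (αt_v +
β)/(γt_v + δ) for v ∈ S_f ∪ S_∞ and t'_v = 0 for v ∈ S'_f ∖ S_f; for t'_0 ∈ k with α ≠ γt'_0 write
t_0 = (δt'_0 − β)/(α − γt'_0). Then: (1) for every i and v ∈ S'_f ∪ S_∞, b'_i(t'_v − a'_i) is the
norm of a unit of k_v ⊗_k L_i over k_v ⊗_k k_i; (2) for v ∈ S_f ∪ S_∞ and every neighbourhood U of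
t_v there is a neighbourhood U' of t'_v such that t'_0 ∈ U' forces t_0 ∈ U; (4) there are
neighbourhoods U'_v of 0 in k_v for v ∈ S'_f ∖ S_f such that whenever t'_0 ∈ U'_v for all such v,
every finite place w of some k_i with w(t_0 − a_i) > 0 either lies above S_f, or does not lie above
S'_f and satisfies w(t'_0 − a'_i) > 0. (The published statement's S' may also contain further
infinite places, and it has a further conclusion on signs at real places; both are omitted here.) -/
theorem result (k : Type u) [Field k] [NumberField k]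
    (n : ℕ) (hn : 1 ≤ n)
    (kf : Fin n → Type u) [∀ i, Field (kf i)] [∀ i, NumberField (kf i)] [∀ i, Algebra k (kf i)]
    (Lf : Fin n → Type u) [∀ i, Field (Lf i)] [∀ i, NumberField (Lf i)] [∀ i, Algebra (kf i) (Lf i)]
    [∀ i, Algebra k (Lf i)] [∀ i, IsScalarTower k (kf i) (Lf i)]
    (a : (i : Fin n) → kf i) (ha : ∀ i, IntermediateField.adjoin k {a i} = ⊤)
    (hdist : ∀ i j, i ≠ j → minpoly k (a i) ≠ minpoly k (a j))
    (b : (i : Fin n) → kf i) (hb : ∀ i, b i ≠ 0)
    (Sf : Finset (IsDedekindDomain.HeightOneSpectrum (NumberField.RingOfIntegers k)))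
    (Si : Finset (NumberField.InfinitePlace k))
    (hSreal : ∀ w : NumberField.InfinitePlace k, w.IsReal → w ∈ Si)
    (hSb : ∀ i, ∀ W : IsDedekindDomain.HeightOneSpectrum (NumberField.RingOfIntegers (kf i)),
      W.valuation (kf i) (b i) ≠ 1 → ∃ v ∈ Sf, W.asIdeal.LiesOver v.asIdeal)
    (hSram : ∀ i, ∀ Q : Ideal (NumberField.RingOfIntegers (Lf i)), Q.IsPrime → Q ≠ ⊥ →
      Q.ramificationIdx (NumberField.RingOfIntegers (kf i)) ≠ 1 → ∃ v ∈ Sf, Q.LiesOver v.asIdeal)
    (tf : (v : IsDedekindDomain.HeightOneSpectrum (NumberField.RingOfIntegers k)) → v.adicCompletion k)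
    (ti : (w : NumberField.InfinitePlace k) → w.Completion)
    (htf : ∀ i, ∀ v ∈ Sf,
      letI := (Algebra.TensorProduct.map (AlgHom.id k (v.adicCompletion k))
        (IsScalarTower.toAlgHom k (kf i) (Lf i))).toRingHom.toAlgebra
      ∃ x : (v.adicCompletion k) ⊗[k] Lf i, IsUnit x ∧
        Algebra.norm ((v.adicCompletion k) ⊗[k] kf i) x =
          (1 : v.adicCompletion k) ⊗ₜ[k] b i * (tf v ⊗ₜ[k] (1 : kf i) - (1 : v.adicCompletion k) ⊗ₜ[k] a i))
    (hti : ∀ i, ∀ w ∈ Si,
      letI := (Algebra.TensorProduct.map (AlgHom.id k w.Completion)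
        (IsScalarTower.toAlgHom k (kf i) (Lf i))).toRingHom.toAlgebra
      ∃ x : w.Completion ⊗[k] Lf i, IsUnit x ∧
        Algebra.norm (w.Completion ⊗[k] kf i) x =
          (1 : w.Completion) ⊗ₜ[k] b i * (ti w ⊗ₜ[k] (1 : kf i) - (1 : w.Completion) ⊗ₜ[k] a i))
    (α β γ δ : k) (hdet : α * δ - β * γ ≠ 0)
    (hia : ∀ i, algebraMap k (kf i) γ * a i + algebraMap k (kf i) δ ≠ 0)
    (hitf : ∀ v ∈ Sf, algebraMap k (v.adicCompletion k) γ * tf v + algebraMap k (v.adicCompletion k) δ ≠ 0)
    (hiti : ∀ w ∈ Si, algebraMap k w.Completion γ * ti w + algebraMap k w.Completion δ ≠ 0)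
    (hiiα : ∀ v : IsDedekindDomain.HeightOneSpectrum (NumberField.RingOfIntegers k), v ∉ Sf → v.valuation k α = 1)
    (hiia : ∀ i, ∀ W : IsDedekindDomain.HeightOneSpectrum (NumberField.RingOfIntegers (kf i)),
      (¬ ∃ v ∈ Sf, W.asIdeal.LiesOver v.asIdeal) →
        W.valuation (kf i) (algebraMap k (kf i) α * a i + algebraMap k (kf i) β) = 1)
    (hiiif : ∀ i, ∀ v ∈ Sf,
      letI := (Algebra.TensorProduct.map (AlgHom.id k (v.adicCompletion k))
        (IsScalarTower.toAlgHom k (kf i) (Lf i))).toRingHom.toAlgebra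
      ∃ y : (v.adicCompletion k) ⊗[k] Lf i, IsUnit y ∧
        Algebra.norm ((v.adicCompletion k) ⊗[k] kf i) y =
          (algebraMap k (v.adicCompletion k) (α * δ - β * γ) /
            (algebraMap k (v.adicCompletion k) γ * tf v + algebraMap k (v.adicCompletion k) δ)) ⊗ₜ[k] (1 : kf i))
    (hiiii : ∀ i, ∀ w ∈ Si,
      letI := (Algebra.TensorProduct.map (AlgHom.id k w.Completion)
        (IsScalarTower.toAlgHom k (kf i) (Lf i))).toRingHom.toAlgebra
      ∃ y : w.Completion ⊗[k] Lf i, IsUnit y ∧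
        Algebra.norm (w.Completion ⊗[k] kf i) y =
          (algebraMap k w.Completion (α * δ - β * γ) /
            (algebraMap k w.Completion γ * ti w + algebraMap k w.Completion δ)) ⊗ₜ[k] (1 : kf i))
    (a' b' : (i : Fin n) → kf i)
    (ha' : ∀ i, a' i = (algebraMap k (kf i) α * a i + algebraMap k (kf i) β) /
      (algebraMap k (kf i) γ * a i + algebraMap k (kf i) δ))
    (hb' : ∀ i, b' i = b i * (algebraMap k (kf i) γ * a i + algebraMap k (kf i) δ))
    (Sf' : Finset (IsDedekindDomain.HeightOneSpectrum (NumberField.RingOfIntegers k))) (hSS' : Sf ⊆ Sf')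
    (hS'αγ : ∀ v : IsDedekindDomain.HeightOneSpectrum (NumberField.RingOfIntegers k), v ∉ Sf' →
      v.valuation k α ≤ 1 ∧ v.valuation k γ ≤ 1)
    (hS'ab : ∀ i, ∀ W : IsDedekindDomain.HeightOneSpectrum (NumberField.RingOfIntegers (kf i)),
      (¬ ∃ v ∈ Sf', W.asIdeal.LiesOver v.asIdeal) → W.valuation (kf i) (a' i) ≤ 1 ∧ W.valuation (kf i) (b' i) = 1)
    (tf' : (v : IsDedekindDomain.HeightOneSpectrum (NumberField.RingOfIntegers k)) → v.adicCompletion k)
    (htf'S : ∀ v ∈ Sf, tf' v = (algebraMap k (v.adicCompletion k) α * tf v + algebraMap k (v.adicCompletion k) β) /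
      (algebraMap k (v.adicCompletion k) γ * tf v + algebraMap k (v.adicCompletion k) δ))
    (htf'S' : ∀ v ∈ Sf', v ∉ Sf → tf' v = 0)
    (ti' : (w : NumberField.InfinitePlace k) → w.Completion)
    (hti' : ∀ w ∈ Si, ti' w = (algebraMap k w.Completion α * ti w + algebraMap k w.Completion β) /
      (algebraMap k w.Completion γ * ti w + algebraMap k w.Completion δ)) :
    (∀ i, ∀ v ∈ Sf',
      letI := (Algebra.TensorProduct.map (AlgHom.id k (v.adicCompletion k))
        (IsScalarTower.toAlgHom k (kf i) (Lf i))).toRingHom.toAlgebra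
      ∃ x : (v.adicCompletion k) ⊗[k] Lf i, IsUnit x ∧
        Algebra.norm ((v.adicCompletion k) ⊗[k] kf i) x =
          (1 : v.adicCompletion k) ⊗ₜ[k] b' i * (tf' v ⊗ₜ[k] (1 : kf i) - (1 : v.adicCompletion k) ⊗ₜ[k] a' i)) ∧
    (∀ i, ∀ w ∈ Si,
      letI := (Algebra.TensorProduct.map (AlgHom.id k w.Completion)
        (IsScalarTower.toAlgHom k (kf i) (Lf i))).toRingHom.toAlgebra
      ∃ x : w.Completion ⊗[k] Lf i, IsUnit x ∧
        Algebra.norm (w.Completion ⊗[k] kf i) x =
          (1 : w.Completion) ⊗ₜ[k] b' i * (ti' w ⊗ₜ[k] (1 : kf i) - (1 : w.Completion) ⊗ₜ[k] a' i)) ∧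
    (∀ v ∈ Sf, ∀ U : Set (v.adicCompletion k), IsOpen U → tf v ∈ U →
      ∃ U' : Set (v.adicCompletion k), IsOpen U' ∧ tf' v ∈ U' ∧
        ∀ t₀' : k, α ≠ γ * t₀' → algebraMap k (v.adicCompletion k) t₀' ∈ U' →
          algebraMap k (v.adicCompletion k) ((δ * t₀' - β) / (α - γ * t₀')) ∈ U) ∧
    (∀ w ∈ Si, ∀ U : Set w.Completion, IsOpen U → ti w ∈ U →
      ∃ U' : Set w.Completion, IsOpen U' ∧ ti' w ∈ U' ∧
        ∀ t₀' : k, α ≠ γ * t₀' → algebraMap k w.Completion t₀' ∈ U' →
          algebraMap k w.Completion ((δ * t₀' - β) / (α - γ * t₀')) ∈ U) ∧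
    (∃ U' : (v : IsDedekindDomain.HeightOneSpectrum (NumberField.RingOfIntegers k)) → Set (v.adicCompletion k),
      (∀ v ∈ Sf', v ∉ Sf → IsOpen (U' v) ∧ (0 : v.adicCompletion k) ∈ U' v) ∧
      ∀ t₀' : k, α ≠ γ * t₀' → (∀ v ∈ Sf', v ∉ Sf → algebraMap k (v.adicCompletion k) t₀' ∈ U' v) →
        ∀ i, ∀ W : IsDedekindDomain.HeightOneSpectrum (NumberField.RingOfIntegers (kf i)),
          W.valuation (kf i) (algebraMap k (kf i) ((δ * t₀' - β) / (α - γ * t₀')) - a i) < 1 →
            (∃ v ∈ Sf, W.asIdeal.LiesOver v.asIdeal) ∨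
            ((¬ ∃ v ∈ Sf', W.asIdeal.LiesOver v.asIdeal) ∧
              W.valuation (kf i) (algebraMap k (kf i) t₀' - a' i) < 1)) := by
  refine ⟨fun i v hv => ?_, fun i w hw => ?_, fun v hv U hU htU => ?_, fun w hw U hU htU => ?_, ?_⟩
  · by_cases hvS : v ∈ Sf
    · exact norm_transform (a i) (b i) (a' i) (b' i) α β γ δ (tf v) (tf' v) (hia i) (hitf v hvS) (ha' i) (hb' i)
        (htf'S v hvS) (htf i v hvS) (hiiif i v hvS)
    · have hW : ∀ W : IsDedekindDomain.HeightOneSpectrum (NumberField.RingOfIntegers (kf i)),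
          W.asIdeal.LiesOver v.asIdeal → ¬ ∃ v' ∈ Sf, W.asIdeal.LiesOver v'.asIdeal := by
        rintro W hW ⟨v', hv', hW'⟩
        have : v' = v := IsDedekindDomain.HeightOneSpectrum.ext (hW'.over.trans hW.over.symm)
        exact hvS (this ▸ hv')
      obtain ⟨x, hx, hNx⟩ := Groth.Agent.UnitNormLib.exists_norm_eq v (K := kf i) (L := Lf i)
        (-(b i * (algebraMap k (kf i) α * a i + algebraMap k (kf i) β))) (fun W hWv => by
          have h1 : W.valuation (kf i) (b i) = 1 := by_contra fun h => hW W hWv (hSb i W h)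
          rw [Valuation.map_neg, map_mul, h1, hiia i W (hW W hWv), one_mul])
        (fun Q hQ hQ0 hQv => by_contra fun h => by
          obtain ⟨v', hv', hQv'⟩ := hSram i Q hQ hQ0 h
          have : v' = v := IsDedekindDomain.HeightOneSpectrum.ext (hQv'.over.trans hQv.over.symm)
          exact hvS (this ▸ hv'))
      refine ⟨x, hx, hNx.trans ?_⟩
      rw [htf'S' v hv hvS, TensorProduct.zero_tmul, zero_sub, mul_neg, Algebra.TensorProduct.tmul_mul_tmul, one_mul,
        ← TensorProduct.tmul_neg, ha', hb', field_identity (a i) (b i) _ _ _ _ (hia i)]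
  · exact norm_transform (a i) (b i) (a' i) (b' i) α β γ δ (ti w) (ti' w) (hia i) (hiti w hw) (ha' i) (hb' i)
      (hti' w hw) (hti i w hw) (hiiii i w hw)
  · exact inverse_nhd α β γ δ hdet (tf v) (tf' v) (hitf v hv) (htf'S v hv) U hU htU
  · exact inverse_nhd α β γ δ hdet (ti w) (ti' w) (hiti w hw) (hti' w hw) U hU htU
  · obtain ⟨⟨c, hc⟩, hint⟩ := IsLocalization.exist_integer_multiples_of_finite (nonZeroDivisors (RingOfIntegers k))
      (fun _ : Unit => γ)
    choose e he using fun i => IsLocalization.exist_integer_multiples_of_finite (nonZeroDivisors (RingOfIntegers (kf i)))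
      (fun _ : Unit => algebraMap k (kf i) γ * a i + algebraMap k (kf i) δ)
    have hnz : ∀ i, ∃ m : RingOfIntegers k, m ≠ 0 ∧ ∃ r : RingOfIntegers (kf i),
        algebraMap (RingOfIntegers k) (RingOfIntegers (kf i)) m = r * (e i : RingOfIntegers (kf i)) := by
      intro i
      have h0 : (Ideal.span {(e i : RingOfIntegers (kf i))}).comap (algebraMap (RingOfIntegers k) (RingOfIntegers (kf i))) ≠ ⊥ :=
        Ideal.comap_ne_bot_of_integral_mem (nonZeroDivisors.coe_ne_zero (e i)) (Ideal.mem_span_singleton_self _)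
          (Algebra.IsIntegral.isIntegral _)
      obtain ⟨m, hm, hm0⟩ := Submodule.exists_mem_ne_zero_of_ne_bot h0
      obtain ⟨r, hr⟩ := Ideal.mem_span_singleton'.mp (Ideal.mem_comap.mp hm)
      exact ⟨m, hm0, r, hr.symm⟩
    choose m hm0 r hr using hnz
    let M : RingOfIntegers k := c * ∏ i, m i
    have hM0 : M ≠ 0 := mul_ne_zero (nonZeroDivisors.ne_zero hc) (Finset.prod_ne_zero_iff.mpr fun i _ => hm0 i)
    let U' : (v : IsDedekindDomain.HeightOneSpectrum (RingOfIntegers k)) → Set (v.adicCompletion k) := fun v =>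
      {y | Valued.v y < v.valuation k (algebraMap (RingOfIntegers k) k M)}
    refine ⟨U', fun v _ _ => ⟨?_, ?_⟩, ?_⟩
    · refine isOpen_iff_mem_nhds.mpr fun y hy => ?_
      have hM : Valued.v.restrict (algebraMap k (v.adicCompletion k) (algebraMap (RingOfIntegers k) k M)) ≠ 0 :=
        (Valuation.ne_zero_iff _).mpr ((map_ne_zero _).mpr
          ((map_ne_zero_iff _ (IsFractionRing.injective (RingOfIntegers k) k)).mpr hM0))
      refine Valued.mem_nhds.mpr ⟨Units.mk0 _ hM, fun z hz => ?_⟩
      have hz' := (Valuation.restrict_lt_iff _).mp hz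
      rw [Groth.Agent.UnitNormLib.valued_algebraMap] at hz'
      show Valued.v z < _
      rw [show z = y + (z - y) by ring]
      exact Valuation.map_add_lt _ hy hz'
    · show Valued.v (0 : v.adicCompletion k) < _
      rw [map_zero]
      exact zero_lt_iff.mpr ((Valuation.ne_zero_iff _).mpr ((map_ne_zero_iff _ (IsFractionRing.injective (RingOfIntegers k) k)).mpr hM0))
    intro t hne hU i W hlt
    by_cases hWS : ∃ v ∈ Sf, W.asIdeal.LiesOver v.asIdeal
    · exact Or.inl hWS
    refine Or.inr ?_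
    let v : IsDedekindDomain.HeightOneSpectrum (RingOfIntegers k) := W.under (RingOfIntegers k)
    haveI hWv : W.asIdeal.LiesOver v.asIdeal := ⟨rfl⟩
    have hvS : v ∉ Sf := fun h => hWS ⟨v, h, hWv⟩
    have hval : ∀ x : k, W.valuation (kf i) (algebraMap k (kf i) x) =
        v.valuation k x ^ v.asIdeal.ramificationIdx' W.asIdeal := fun x =>
      (IsDedekindDomain.HeightOneSpectrum.valuation_liesOver (kf i) v W x).symm
    have hα : W.valuation (kf i) (algebraMap k (kf i) α) = 1 := by rw [hval, hiiα v hvS, one_pow]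
    have hden : α - γ * t ≠ 0 := sub_ne_zero.mpr hne
    have hformula : algebraMap k (kf i) ((δ * t - β) / (α - γ * t)) - a i =
        ((algebraMap k (kf i) γ * a i + algebraMap k (kf i) δ) * algebraMap k (kf i) t -
          (algebraMap k (kf i) α * a i + algebraMap k (kf i) β)) / algebraMap k (kf i) (α - γ * t) := by
      rw [map_div₀, eq_div_iff ((map_ne_zero _).mpr hden), sub_mul, div_mul_cancel₀ _ ((map_ne_zero _).mpr hden)]
      simp only [map_sub, map_mul]; ring
    rw [hformula, map_div₀, div_lt_one₀ (zero_lt_iff.mpr ((Valuation.ne_zero_iff _).mpr ((map_ne_zero _).mpr hden)))] at hlt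
    have hnot : ¬ ∃ v' ∈ Sf', W.asIdeal.LiesOver v'.asIdeal := by
      rintro ⟨v', hv', hW'⟩
      have hvv : v' = v := IsDedekindDomain.HeightOneSpectrum.ext (hW'.over.trans hWv.over.symm)
      have hvS' : v ∈ Sf' := hvv ▸ hv'
      have htv : v.valuation k t < v.valuation k (algebraMap (RingOfIntegers k) k M) :=
        (Groth.Agent.UnitNormLib.valued_algebraMap v t).symm.trans_lt (hU v hvS' hvS)
      have hx : W.valuation (kf i) (algebraMap k (kf i) t) <
          W.valuation (kf i) (algebraMap k (kf i) (algebraMap (RingOfIntegers k) k M)) := by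
        rw [hval, hval]
        exact pow_lt_pow_left₀ htv zero_le (Ideal.IsDedekindDomain.ramificationIdx'_ne_zero_of_liesOver W.asIdeal v.ne_bot)
      have hbnd : ∀ (x : kf i) (z : RingOfIntegers (kf i)),
          algebraMap k (kf i) (algebraMap (RingOfIntegers k) k M) * x = z →
            W.valuation (kf i) (algebraMap k (kf i) t * x) < 1 := by
        intro x z hz
        rcases eq_or_ne x 0 with rfl | hx0
        · simp
        calc W.valuation (kf i) (algebraMap k (kf i) t * x)
            < W.valuation (kf i) (algebraMap k (kf i) (algebraMap (RingOfIntegers k) k M) * x) := by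
              rw [map_mul, map_mul]
              exact mul_lt_mul_of_pos_right hx (zero_lt_iff.mpr ((Valuation.ne_zero_iff _).mpr hx0))
          _ ≤ 1 := by rw [hz]; exact W.valuation_le_one z
      obtain ⟨g, hg⟩ := hint ()
      obtain ⟨h, hh⟩ := he i ()
      have hg' : (algebraMap (RingOfIntegers k) k c) * γ = algebraMap (RingOfIntegers k) k g :=
        (Algebra.smul_def _ _).symm.trans hg.symm
      have hh' : algebraMap (RingOfIntegers (kf i)) (kf i) (e i : RingOfIntegers (kf i)) *
          (algebraMap k (kf i) γ * a i + algebraMap k (kf i) δ) = algebraMap (RingOfIntegers (kf i)) (kf i) h :=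
        (Algebra.smul_def _ _).symm.trans hh.symm
      have h1 := hbnd (algebraMap k (kf i) γ)
        (algebraMap (RingOfIntegers k) (RingOfIntegers (kf i)) (g * ∏ j, m j)) (by
          show _ = algebraMap (RingOfIntegers (kf i)) (kf i) _
          rw [← IsScalarTower.algebraMap_apply (RingOfIntegers k) (RingOfIntegers (kf i)) (kf i),
            IsScalarTower.algebraMap_apply (RingOfIntegers k) k (kf i), ← map_mul]
          refine congrArg _ ?_
          simp only [M, map_mul, ← hg']
          ring)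
      have hsplit : (∏ j, m j) = m i * ∏ j ∈ Finset.univ.erase i, m j :=
        (Finset.mul_prod_erase _ _ (Finset.mem_univ i)).symm
      have h2 := hbnd (algebraMap k (kf i) γ * a i + algebraMap k (kf i) δ)
        (algebraMap (RingOfIntegers k) (RingOfIntegers (kf i)) (c * ∏ j ∈ Finset.univ.erase i, m j) * (r i * h)) (by
          show _ = algebraMap (RingOfIntegers (kf i)) (kf i) _
          rw [← IsScalarTower.algebraMap_apply (RingOfIntegers k) k (kf i),
            IsScalarTower.algebraMap_apply (RingOfIntegers k) (RingOfIntegers (kf i)) (kf i)]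
          simp only [M, hsplit, map_mul, hr, ← hh']
          ring)
      have hnum : W.valuation (kf i) ((algebraMap k (kf i) γ * a i + algebraMap k (kf i) δ) * algebraMap k (kf i) t -
          (algebraMap k (kf i) α * a i + algebraMap k (kf i) β)) = 1 := by
        rw [Valuation.map_sub_eq_of_lt_right, hiia i W hWS]
        rw [hiia i W hWS, mul_comm]; exact h2
      have hde : W.valuation (kf i) (algebraMap k (kf i) (α - γ * t)) = 1 := by
        rw [map_sub, map_mul, Valuation.map_sub_eq_of_lt_left, hα]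
        rw [hα, mul_comm]; exact h1
      rw [hnum, hde] at hlt
      exact lt_irrefl _ hlt
    refine ⟨hnot, ?_⟩
    have hvS' : v ∉ Sf' := fun h => hnot ⟨v, h, hWv⟩
    obtain ⟨hα1, hγ1⟩ := hS'αγ v hvS'
    obtain ⟨ha1, hb1⟩ := hS'ab i W hnot
    have hb1' : W.valuation (kf i) (b i) = 1 := by_contra fun h => hWS (hSb i W h)
    have hq : W.valuation (kf i) (algebraMap k (kf i) γ * a i + algebraMap k (kf i) δ) = 1 := by
      rw [hb', map_mul, hb1', one_mul] at hb1
      exact hb1
    have hnum : (algebraMap k (kf i) γ * a i + algebraMap k (kf i) δ) * algebraMap k (kf i) t -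
        (algebraMap k (kf i) α * a i + algebraMap k (kf i) β) =
        (algebraMap k (kf i) γ * a i + algebraMap k (kf i) δ) * (algebraMap k (kf i) t - a' i) := by
      rw [mul_sub, ha', mul_div_cancel₀ _ (hia i)]
    rw [hnum, map_mul, hq, one_mul] at hlt
    have hγW : W.valuation (kf i) (algebraMap k (kf i) γ) ≤ 1 := by rw [hval]; exact pow_le_one₀ zero_le hγ1
    have hle : W.valuation (kf i) (algebraMap k (kf i) (α - γ * t)) ≤ max 1 (W.valuation (kf i) (algebraMap k (kf i) t)) := by
      rw [map_sub, map_mul]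
      refine (Valuation.map_sub _ _ _).trans (max_le_max hα.le ?_)
      rw [map_mul]
      exact mul_le_of_le_one_left' hγW
    rcases le_or_gt (W.valuation (kf i) (algebraMap k (kf i) t)) 1 with ht | ht
    · exact hlt.trans_le (hle.trans (by rw [max_eq_left ht]))
    · rw [Valuation.map_sub_eq_of_lt_left _ (ha1.trans_lt ht)] at hlt
      rw [max_eq_right ht.le] at hle
      exact absurd hlt (not_lt.mpr hle)

end Groth.Agent.S19286
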