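import Mathlib
import Mathlib
import Groth.Statements.S19306

set_option autoImplicit false
universe u
open PowerSeries
open CAlg

open TensorProduct CategoryTheory
set_option linter.style.haveILetI false

namespace Groth.Agent.S19306

variable {R : Type u} [CommRing R] {n M : ℕ}

/-- Truncation. -/
noncomputable def tr (ι : Type*) (M : ℕ) : (ι → R⟦X⟧) →ₗ[R] (ι → Fin M → R) where
  toFun f i j := coeff j.val (f i)
  map_add' f g := by ext i j; simp
  map_smul' r f := by ext i j; simp

/-- Low degree lift. -/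
noncomputable def low (ι : Type*) (M : ℕ) : (ι → Fin M → R) →ₗ[R] (ι → R⟦X⟧) where
  toFun v i := mk fun j => if h : j < M then v i ⟨j, h⟩ else 0
  map_add' v w := by
    ext i j
    simp only [Pi.add_apply, map_add, coeff_mk]
    split <;> simp
  map_smul' r v := by
    ext i j
    simp only [Pi.smul_apply, coeff_mk, RingHom.id_apply, map_smul]
    split <;> simp

/-- Division by `X ^ M`. -/
noncomputable def shift (ι : Type*) (M : ℕ) : (ι → R⟦X⟧) →ₗ[R] (ι → R⟦X⟧) where
  toFun f i := mk fun j => coeff (j + M) (f i)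
  map_add' f g := by ext i j; simp
  map_smul' r f := by ext i j; simp

theorem tr_low (ι : Type*) (v : ι → Fin M → R) : tr ι M (low ι M v) = v := by
  ext i j
  simp [tr, low]

theorem decomp (ι : Type*) (f : ι → R⟦X⟧) : f = low ι M (tr ι M f) + (X : R⟦X⟧) ^ M • shift ι M f := by
  ext i j
  simp only [Pi.add_apply, Pi.smul_apply, smul_eq_mul, map_add, coeff_X_pow_mul']
  by_cases h : j < M
  · simp [low, tr, h, not_le.mpr h]
  · simp [low, shift, h, not_lt.mp h, Nat.sub_add_cancel (not_lt.mp h)]

theorem shift_smul (ι : Type*) (f : ι → R⟦X⟧) : shift ι M ((X : R⟦X⟧) ^ M • f) = f := by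
  ext i j
  simp [shift, coeff_X_pow_mul]

theorem tr_smul (ι : Type*) (f : ι → R⟦X⟧) : tr ι M ((X : R⟦X⟧) ^ M • f) = 0 := by
  ext i j
  simp [tr, coeff_X_pow_mul', not_le.mpr j.2]

variable (Λ : Submodule R⟦X⟧ (Fin n → R⟦X⟧))

/-- The presentation of the quotient. -/
noncomputable def pr (M : ℕ) : (Fin n → Fin M → R) →ₗ[R] (Fin n → R⟦X⟧) ⧸ Λ :=
  (Λ.mkQ.restrictScalars R) ∘ₗ low (Fin n) M

variable {Λ}
variable (hΛ : ∀ v : Fin n → R⟦X⟧, ((PowerSeries.X : R⟦X⟧) ^ M) • v ∈ Λ)
include hΛ

theorem pr_tr (f : Fin n → R⟦X⟧) : pr Λ M (tr (Fin n) M f) = Submodule.Quotient.mk f := by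
  show Submodule.Quotient.mk _ = _
  rw [Submodule.Quotient.eq]
  have h := decomp (M := M) (Fin n) f
  have h2 := hΛ (shift (Fin n) M f)
  rw [show low (Fin n) M (tr (Fin n) M f) - f = -((X : R⟦X⟧) ^ M • shift (Fin n) M f) by
    nth_rewrite 2 [h]; abel]
  exact neg_mem h2

theorem pr_surjective : Function.Surjective (pr Λ M) := fun q => by
  obtain ⟨f, rfl⟩ := Submodule.Quotient.mk_surjective _ q
  exact ⟨_, pr_tr hΛ f⟩

theorem ker_pr : LinearMap.ker (pr Λ M) = (Λ.restrictScalars R).map (tr (Fin n) M) := by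
  ext v
  constructor
  · intro h
    exact ⟨low (Fin n) M v, (Submodule.Quotient.mk_eq_zero _).mp h, tr_low _ v⟩
  · rintro ⟨y, hy, rfl⟩
    exact (pr_tr hΛ y).trans ((Submodule.Quotient.mk_eq_zero _).mpr hy)

theorem projective_quot [Module.Finite R⟦X⟧ Λ] [Module.Projective R⟦X⟧ Λ] :
    Module.Projective R ((Fin n → R⟦X⟧) ⧸ Λ) := by
  obtain ⟨k, p, i, -, -, hpi⟩ := Module.Finite.exists_comp_eq_id_of_projective R⟦X⟧ Λ
  haveI : Module.FinitePresentation R ((Fin n → R⟦X⟧) ⧸ Λ) := by
    refine Module.finitePresentation_of_surjective (pr Λ M) (pr_surjective hΛ) ?_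
    let L : (Fin k → R⟦X⟧) →ₗ[R] (Fin n → Fin M → R) :=
      tr (Fin n) M ∘ₗ ((Λ.subtype ∘ₗ p).restrictScalars R)
    have hL : (Λ.restrictScalars R).map (tr (Fin n) M) = LinearMap.range (L ∘ₗ low (Fin k) M) := by
      refine le_antisymm ?_ ?_
      · rintro _ ⟨y, hy, rfl⟩
        refine ⟨tr (Fin k) M (i ⟨y, hy⟩), ?_⟩
        have h1 : L (i ⟨y, hy⟩) = tr (Fin n) M y := by
          show tr (Fin n) M ((p (i ⟨y, hy⟩) : Λ) : Fin n → R⟦X⟧) = _
          rw [show p (i ⟨y, hy⟩) = ⟨y, hy⟩ from DFunLike.congr_fun hpi _]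
        rw [← h1]
        conv_rhs => rw [decomp (M := M) (Fin k) (i ⟨y, hy⟩), map_add]
        have h2 : L ((X : R⟦X⟧) ^ M • shift (Fin k) M (i ⟨y, hy⟩)) = 0 := by
          show tr (Fin n) M ((p _ : Λ) : Fin n → R⟦X⟧) = 0
          rw [map_smul, Submodule.coe_smul, tr_smul]
        rw [h2, add_zero]
        rfl
      · rintro _ ⟨v, rfl⟩
        exact ⟨_, (p (low (Fin k) M v)).2, rfl⟩
    rw [ker_pr hΛ, hL, LinearMap.range_eq_map]
    exact Module.Finite.fg_top.map _
  haveI : Module.Flat R ((Fin n → R⟦X⟧) ⧸ Λ) := by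
    rw [Module.Flat.iff_rTensor_injective]
    intro I hI
    rw [injective_iff_map_eq_zero]
    intro z hz
    obtain ⟨w, rfl⟩ := LinearMap.lTensor_surjective I (pr_surjective hΛ) z
    set g := TensorProduct.lid R _ ((Submodule.subtype I).rTensor (Fin n → Fin M → R) w) with hg
    have hgker : g ∈ LinearMap.ker (pr Λ M) := by
      have hnat : ∀ w : I ⊗[R] (Fin n → Fin M → R),
          pr Λ M (TensorProduct.lid R _ ((Submodule.subtype I).rTensor _ w)) =
            TensorProduct.lid R _ ((Submodule.subtype I).rTensor _ ((pr Λ M).lTensor I w)) := fun w => by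
        induction w using TensorProduct.induction_on with
        | zero => simp
        | add a b ha hb => simp only [map_add, ha, hb]
        | tmul a b => simp
      rw [LinearMap.mem_ker, hg, hnat, hz, map_zero]
    have hgI : g ∈ I • (⊤ : Submodule R (Fin n → Fin M → R)) := by
      rw [hg]
      clear hz hgker hg g
      induction w using TensorProduct.induction_on with
      | zero => simp
      | add a b ha hb => simp only [map_add]; exact Submodule.add_mem _ ha hb
      | tmul a b => simpa using Submodule.smul_mem_smul a.2 (Submodule.mem_top (R := R) (x := b))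
    set y := low (Fin n) M g with hy
    have hyΛ : y ∈ Λ := (Submodule.Quotient.mk_eq_zero _).mp hgker
    have hyI : y ∈ I • (⊤ : Submodule R (Fin n → R⟦X⟧)) := by
      have := Submodule.mem_map_of_mem (f := low (Fin n) M) hgI
      rw [Submodule.map_smul''] at this
      exact Submodule.smul_mono le_rfl le_top this
    let h : (Fin n → R⟦X⟧) →ₗ[R⟦X⟧] Λ := ((X : R⟦X⟧) ^ M • LinearMap.id).codRestrict Λ hΛ
    have hc : i ⟨y, hyΛ⟩ ∈ I • (⊤ : Submodule R (Fin k → R⟦X⟧)) := by
      have h1 := Submodule.mem_map_of_mem (f := shift (Fin k) M ∘ₗ (i ∘ₗ h).restrictScalars R) hyI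
      rw [Submodule.map_smul''] at h1
      have h2 : (shift (Fin k) M ∘ₗ (i ∘ₗ h).restrictScalars R) y = i ⟨y, hyΛ⟩ := by
        show shift (Fin k) M (i (h y)) = _
        rw [show h y = (X : R⟦X⟧) ^ M • (⟨y, hyΛ⟩ : Λ) from Subtype.ext rfl, map_smul, shift_smul]
      rw [h2] at h1
      exact Submodule.smul_mono le_rfl le_top h1
    have hgK : g ∈ I • LinearMap.ker (pr Λ M) := by
      have h1 := Submodule.mem_map_of_mem (f := tr (Fin n) M ∘ₗ (Λ.subtype ∘ₗ p).restrictScalars R) hc
      rw [Submodule.map_smul''] at h1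
      have h2 : (tr (Fin n) M ∘ₗ (Λ.subtype ∘ₗ p).restrictScalars R) (i ⟨y, hyΛ⟩) = g := by
        show tr (Fin n) M ((p (i ⟨y, hyΛ⟩) : Λ) : Fin n → R⟦X⟧) = g
        rw [show p (i ⟨y, hyΛ⟩) = ⟨y, hyΛ⟩ from DFunLike.congr_fun hpi _]
        exact tr_low _ g
      rw [h2] at h1
      refine Submodule.smul_mono le_rfl ?_ h1
      rw [ker_pr hΛ]
      rintro _ ⟨c, -, rfl⟩
      exact ⟨_, (p c).2, rfl⟩
    let K := LinearMap.ker (pr Λ M)
    obtain ⟨u, hu⟩ : ∃ u : I ⊗[R] K, TensorProduct.lid R _ ((Submodule.subtype I).rTensor _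
        (K.subtype.lTensor I u)) = g := by
      clear_value g
      clear hc hyI hgI hgker hg hy hyΛ y
      induction hgK using Submodule.smul_induction_on' with
      | smul a ha b hb => exact ⟨⟨a, ha⟩ ⊗ₜ ⟨b, hb⟩, by simp⟩
      | add a _ b _ ha hb =>
        obtain ⟨u, hu⟩ := ha
        obtain ⟨v, hv⟩ := hb
        exact ⟨u + v, by simp only [map_add, hu, hv]⟩
    have hwu : K.subtype.lTensor I u = w :=
      Module.Flat.rTensor_preserves_injective_linearMap (M := Fin n → Fin M → R) (Submodule.subtype I)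
        Subtype.val_injective ((TensorProduct.lid R _).injective (hu.trans hg))
    rw [← hwu, ← LinearMap.comp_apply, ← LinearMap.lTensor_comp,
      show (pr Λ M) ∘ₗ K.subtype = 0 from LinearMap.ext fun x => x.2]
    simp
  exact Module.Flat.projective_of_finitePresentation

theorem finite_lattice [Module.Projective R ((Fin n → R⟦X⟧) ⧸ Λ)] : Module.Finite R⟦X⟧ Λ := by
  classical
  obtain ⟨s, hs⟩ := Module.projective_lifting_property (pr Λ M) LinearMap.id (pr_surjective hΛ)
  obtain ⟨T, hT⟩ : (LinearMap.ker (pr Λ M)).FG := by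
    rw [show LinearMap.ker (pr Λ M) = LinearMap.range (LinearMap.id - s ∘ₗ pr Λ M) from ?_, LinearMap.range_eq_map]
    · exact Module.Finite.fg_top.map _
    ext v
    constructor
    · intro h; exact ⟨v, by simp [LinearMap.mem_ker.mp h]⟩
    · rintro ⟨w, rfl⟩
      have := DFunLike.congr_fun hs (pr Λ M w)
      simp only [LinearMap.coe_comp, Function.comp_apply, LinearMap.id_coe, id_eq] at this
      simp [this]
  rw [Module.Finite.iff_fg]
  refine ⟨T.image (low (Fin n) M) ∪ Finset.univ.image (fun i => (X : R⟦X⟧) ^ M • Pi.single i 1), ?_⟩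
  refine le_antisymm (Submodule.span_le.mpr ?_) ?_
  · intro z hz
    simp only [Finset.coe_union, Finset.coe_image, Finset.coe_univ, Set.image_univ, Set.mem_union, Set.mem_image,
      Set.mem_range] at hz
    rcases hz with ⟨t, ht, rfl⟩ | ⟨i, rfl⟩
    · have : t ∈ LinearMap.ker (pr Λ M) := hT ▸ Submodule.subset_span ht
      exact (Submodule.Quotient.mk_eq_zero _).mp this
    · exact hΛ _
  · intro y hy
    rw [decomp (M := M) (Fin n) y]
    refine Submodule.add_mem _ ?_ ?_
    · have hk : tr (Fin n) M y ∈ Submodule.span R (T : Set (Fin n → Fin M → R)) := by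
        rw [hT, ker_pr hΛ]; exact ⟨y, hy, rfl⟩
      have h2 := Submodule.mem_map_of_mem (f := low (Fin n) M) hk
      rw [Submodule.map_span] at h2
      exact Submodule.span_subset_span R _ _ (Submodule.span_mono (by simp) h2)
    · rw [pi_eq_sum_univ' (shift (Fin n) M y), Finset.smul_sum]
      refine Submodule.sum_mem _ fun i _ => ?_
      rw [smul_comm]
      exact Submodule.smul_mem _ _ (Submodule.subset_span (by simp))

theorem projective_lattice [Module.Projective R ((Fin n → R⟦X⟧) ⧸ Λ)] : Module.Projective R⟦X⟧ Λ := by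
  let Q := (Fin n → R⟦X⟧) ⧸ Λ
  let P := R⟦X⟧ ⊗[R] Q
  let N : Q →ₗ[R] Q := ((X : R⟦X⟧) • (LinearMap.id : Q →ₗ[R⟦X⟧] Q)).restrictScalars R
  let ev : P →ₗ[R⟦X⟧] Q := (LinearMap.id : Q →ₗ[R] Q).liftBaseChange R⟦X⟧
  let B : Module.End R⟦X⟧ P := N.baseChange R⟦X⟧
  let A : Module.End R⟦X⟧ P := (X : R⟦X⟧) • 1
  let D : Module.End R⟦X⟧ P := A - B
  have hQM : ∀ q : Q, (X : R⟦X⟧) ^ M • q = 0 := fun q => by
    obtain ⟨f, rfl⟩ := Submodule.Quotient.mk_surjective _ q
    exact (Submodule.Quotient.mk_eq_zero _).mpr (hΛ f)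
  have hB : ∀ (j : ℕ) (a : R⟦X⟧) (q : Q), (B ^ j) (a ⊗ₜ q) = a ⊗ₜ (((X : R⟦X⟧) ^ j) • q) := by
    intro j
    induction j with
    | zero => simp
    | succ j ih =>
      intro a q
      rw [pow_succ', Module.End.mul_apply, ih, pow_succ', mul_smul]
      rfl
  have hBM : B ^ M = 0 := TensorProduct.AlgebraTensorModule.ext fun a q => by
    rw [hB, hQM, TensorProduct.tmul_zero]; rfl
  have hinj : Function.Injective D := by
    rw [injective_iff_map_eq_zero]
    intro v hv
    have h0 : B v = (X : R⟦X⟧) • v := (sub_eq_zero.mp hv).symm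
    have h1 : ∀ j : ℕ, (B ^ j) v = (X : R⟦X⟧) ^ j • v := by
      intro j
      induction j with
      | zero => simp
      | succ j ih => rw [pow_succ', Module.End.mul_apply, ih, map_smul, h0, ← mul_smul, ← pow_succ]
    have h1 : (X : R⟦X⟧) ^ M • v = 0 := by rw [← h1, hBM, LinearMap.zero_apply]
    haveI : Module.Projective R⟦X⟧ P := inferInstance
    obtain ⟨s, hs⟩ := (Module.projective_def (R := R⟦X⟧) (P := P)).mp inferInstance
    have h2 : (X : R⟦X⟧) ^ M • s v = 0 := by rw [← map_smul, h1, map_zero]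
    refine hs.injective ?_
    rw [map_zero]
    refine Finsupp.ext fun b => PowerSeries.ext fun j => ?_
    simpa [coeff_X_pow_mul] using congrArg (coeff (j + M)) (DFunLike.congr_fun h2 b)
  have hDj : ∀ (j : ℕ) (v : P), (X : R⟦X⟧) ^ j • v - (B ^ j) v ∈ LinearMap.range D := by
    intro j
    induction j with
    | zero => simp
    | succ j ih =>
      intro v
      have h : (X : R⟦X⟧) ^ (j + 1) • v - (B ^ (j + 1)) v =
          (X : R⟦X⟧) • ((X : R⟦X⟧) ^ j • v - (B ^ j) v) + D ((B ^ j) v) := by
        rw [pow_succ' B, Module.End.mul_apply, pow_succ', mul_smul, smul_sub]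
        show _ = _ + ((X : R⟦X⟧) • (B ^ j) v - B ((B ^ j) v))
        abel
      rw [h]
      exact Submodule.add_mem _ (Submodule.smul_mem _ _ (ih v)) (LinearMap.mem_range_self _ _)
  have hev : ∀ (a : R⟦X⟧) (q : Q), ev (a ⊗ₜ q) = a • q := fun a q => LinearMap.liftBaseChange_tmul _ _ _ _
  have hexact : Function.Exact D ev := by
    rw [LinearMap.exact_iff]
    refine le_antisymm ?_ ?_
    · intro v hv
      have key : ∀ v : P, v - (1 : R⟦X⟧) ⊗ₜ[R] ev v ∈ LinearMap.range D := by
        intro v
        induction v using TensorProduct.induction_on with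
        | zero => simp
        | add a b ha hb =>
          rw [map_add, TensorProduct.tmul_add, add_sub_add_comm]
          exact Submodule.add_mem _ ha hb
        | tmul a q =>
          rw [hev]
          have hlow : ∀ j : ℕ, ((X : R⟦X⟧) ^ j) ⊗ₜ[R] q - (1 : R⟦X⟧) ⊗ₜ[R] ((X : R⟦X⟧) ^ j • q) ∈ LinearMap.range D := by
            intro j
            have h := hDj j ((1 : R⟦X⟧) ⊗ₜ q)
            rw [hB, TensorProduct.smul_tmul', smul_eq_mul, mul_one] at h
            exact h
          have htail : ∀ b : R⟦X⟧, ((X : R⟦X⟧) ^ M * b) ⊗ₜ[R] q ∈ LinearMap.range D := by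
            intro b
            have h := hDj M (b ⊗ₜ q)
            rwa [hBM, LinearMap.zero_apply, sub_zero, TensorProduct.smul_tmul', smul_eq_mul] at h
          have ha : a = (∑ j ∈ Finset.range M, coeff j a • (X : R⟦X⟧) ^ j) + X ^ M * mk (fun j => coeff (j + M) a) := by
            ext j
            simp only [map_add, map_sum, map_smul, coeff_X_pow, coeff_X_pow_mul', coeff_mk]
            by_cases h : j < M
            · rw [Finset.sum_eq_single j] <;> simp +contextual [h, not_le.mpr h, eq_comm]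
            · rw [Finset.sum_eq_zero fun i hi => ?_]
              · simp [not_lt.mp h, Nat.sub_add_cancel (not_lt.mp h)]
              · have : j ≠ i := by have := Finset.mem_range.mp hi; omega
                simp [this]
          conv => arg 2; rw [ha, TensorProduct.add_tmul, add_smul, mul_smul, hQM, add_zero,
            TensorProduct.sum_tmul, Finset.sum_smul, TensorProduct.tmul_sum, add_sub_right_comm,
            ← Finset.sum_sub_distrib]
          refine Submodule.add_mem _ (Submodule.sum_mem _ fun j _ => ?_) (htail _)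
          have h := Submodule.smul_of_tower_mem (LinearMap.range D) (coeff j a) (hlow j)
          rw [smul_sub, TensorProduct.smul_tmul', ← TensorProduct.tmul_smul] at h
          rw [smul_assoc]
          exact h
      have := key v
      rwa [LinearMap.mem_ker.mp hv, TensorProduct.tmul_zero, sub_zero] at this
    · rintro _ ⟨v, rfl⟩
      rw [LinearMap.mem_ker]
      induction v using TensorProduct.induction_on with
      | zero => simp
      | add a b ha hb => rw [map_add, map_add, ha, hb, add_zero]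
      | tmul a q =>
        show ev ((A - B) (a ⊗ₜ q)) = 0
        rw [LinearMap.sub_apply, map_sub, sub_eq_zero]
        show ev ((X : R⟦X⟧) • (a ⊗ₜ q)) = ev (a ⊗ₜ ((X : R⟦X⟧) • q))
        rw [map_smul, hev, hev, ← mul_smul, ← mul_smul, mul_comm]
  let T := ModuleCat.shortComplexOfCompEqZero D ev hexact.linearMap_comp_eq_zero
  have hT : T.ShortExact :=
    { exact := ModuleCat.shortComplex_exact _ hexact
      mono_f := (ModuleCat.mono_iff_injective _).mpr hinj
      epi_g := (ModuleCat.epi_iff_surjective _).mpr fun q => ⟨(1 : R⟦X⟧) ⊗ₜ q, by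
        show ev _ = q; rw [hev, one_smul]⟩ }
  haveI : Projective T.X₁ := (IsProjective.iff_projective _).mp (inferInstance : Module.Projective R⟦X⟧ P)
  haveI : Projective T.X₂ := (IsProjective.iff_projective _).mp (inferInstance : Module.Projective R⟦X⟧ P)
  have h2 : HasProjectiveDimensionLT T.X₃ 2 :=
    hT.hasProjectiveDimensionLT_X₃ 1 inferInstance (hasProjectiveDimensionLT_of_ge T.X₂ 1 2 (by omega))
  let U := ModuleCat.shortComplexOfCompEqZero Λ.subtype Λ.mkQ (LinearMap.exact_subtype_mkQ Λ).linearMap_comp_eq_zero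
  have hU : U.ShortExact :=
    { exact := ModuleCat.shortComplex_exact _ (LinearMap.exact_subtype_mkQ Λ)
      mono_f := (ModuleCat.mono_iff_injective _).mpr Subtype.val_injective
      epi_g := (ModuleCat.epi_iff_surjective _).mpr (Submodule.mkQ_surjective _) }
  haveI : Projective U.X₂ := (IsProjective.iff_projective _).mp (inferInstance : Module.Projective R⟦X⟧ (Fin n → R⟦X⟧))
  haveI h1 : HasProjectiveDimensionLT U.X₁ 1 := hU.hasProjectiveDimensionLT_X₁ 1 inferInstance h2
  exact (IsProjective.iff_projective _).mpr (projective_iff_hasProjectiveDimensionLT_one.mpr h1)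

omit hΛ

/-- Let k be a field, R a commutative k-algebra, n, M natural numbers and Λ an R⟦X⟧-submodule of the
free module R⟦X⟧^n with X^M · R⟦X⟧^n ⊆ Λ. Then Λ is a finitely generated projective R⟦X⟧-module if
and only if the quotient R⟦X⟧^n / Λ is projective as an R-module. (The published statement
identifies, functorially in R, the families of lattices between t^N Λ₀ and t^{-N} Λ₀ in R((t))^n, Λ₀
the standard lattice, with the R⟦t⟧-submodules in that range whose quotient t^{-N} Λ₀ / Λ is
R-projective; after multiplying by t^N this is the pointwise statement here, with 2N replaced by any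
exponent M; a submodule containing X^M · R⟦X⟧^n automatically spans R((X))^n.) -/
theorem result
    (k : Type u) [Field k] (R : Type u) [CommRing R] [Algebra k R] (n M : ℕ)
    (Λ : Submodule R⟦X⟧ (Fin n → R⟦X⟧))
    (hΛ : ∀ v : Fin n → R⟦X⟧, ((PowerSeries.X : R⟦X⟧) ^ M) • v ∈ Λ) :
    (Module.Finite R⟦X⟧ Λ ∧ Module.Projective R⟦X⟧ Λ) ↔
      Module.Projective R ((Fin n → R⟦X⟧) ⧸ Λ) := by
  constructor
  · rintro ⟨hfin, hproj⟩
    exact projective_quot hΛ
  · intro h
    exact ⟨finite_lattice hΛ, projective_lattice hΛ⟩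

end Groth.Agent.S19306
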