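import Groth.Statements.S19307
import Groth.Agent.FpqcDesc.Basic
import Groth.Agent.PrincBundLib.Descends
import Groth.Agent.S0412
import Groth.Agent.Hensel.Lift
-- import your own Groth.Agent.* helpers here

set_option autoImplicit false
set_option backward.isDefEq.respectTransparency false
set_option maxHeartbeats 800000
set_option synthInstance.maxHeartbeats 200000
universe u
open CategoryTheory MonoidalCategory CartesianMonoidalCategory MonObj GrpObj AlgebraicGeometry PowerSeries
open NonAbH1

namespace Groth.Agent.S19307

/-- Let R be a commutative ring, G an affine smooth group scheme over the power series ring R⟦X⟧ and P a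
G-torsor over Spec R⟦X⟧ for the fpqc topology. Then there is an étale and faithfully flat R-algebra
R' such that P has a section over Spec R'⟦X⟧. (The published statement takes R an algebra over a
field and G the base change to R⟦X⟧ of a smooth affine group scheme over the power series ring of
that field; the statement here allows any affine smooth group scheme over R⟦X⟧, to which the
published proof applies unchanged.) -/
theorem result
    (R : Type u) [CommRing R]
    (G : Over (Spec (CommRingCat.of R⟦X⟧))) [GrpObj G] [IsAffine G.left] [Smooth G.hom]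
    (P : Over (Spec (CommRingCat.of R⟦X⟧))) (a : AlgGrp.Action G P)
    (hP : NonAbH1.IsTorsorFor Scheme.fpqcPrecoverage a) :
    ∃ (R' : Type u) (_ : CommRing R') (_ : Algebra R R'),
      Algebra.Etale R R' ∧ Module.FaithfullyFlat R R' ∧
      NonAbH1.HasSectionOver P (Spec.map (CommRingCat.ofHom (PowerSeries.map (algebraMap R R')))) := by
    classical
    haveI := Groth.Agent.FpqcDesc.isAffineHom_descends.{u}
    have hsurjG : Surjective G.hom := ⟨fun s => ⟨(MonObj.one (X := G)).left s, by
      rw [← Scheme.Hom.comp_apply, Over.w]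
      rfl⟩⟩
    haveI := Groth.Agent.PrincBundLib.property_of_torsor @IsAffineHom a hP inferInstance
    haveI := Groth.Agent.PrincBundLib.property_of_torsor @Smooth a hP inferInstance
    haveI := Groth.Agent.PrincBundLib.property_of_torsor @Surjective a hP hsurjG
    haveI : IsAffine P.left := isAffine_of_isAffineHom P.hom
    -- étale local sections of the special fibre
    let c0 := Spec.map (CommRingCat.ofHom (PowerSeries.constantCoeff (R := R)))
    let P₀ := Limits.pullback P.hom c0
    let p₀ : P₀ ⟶ Spec (CommRingCat.of R) := Limits.pullback.snd P.hom c0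
    have hpt : ∀ s : Spec (CommRingCat.of R), ∃ (V : Scheme.{u}) (g : V ⟶ Spec (CommRingCat.of R)) (h : V ⟶ P₀),
        IsAffine V ∧ Etale g ∧ s ∈ Set.range g ∧ h ≫ p₀ = g := by
      intro s
      obtain ⟨S', g, s', hg, hgs, h, hh⟩ := Groth.Agent.S0412.result p₀ s (p₀.surjective s)
      haveI := hg
      obtain ⟨V, hV, hsV, -⟩ := exists_isAffineOpen_mem_and_subset (X := S') (x := s') (U := ⊤) trivial
      exact ⟨V, V.ι ≫ g, V.ι ≫ h, hV, inferInstance, ⟨⟨s', hsV⟩, hgs⟩, by rw [Category.assoc, hh]⟩
    choose V g h hV hg hmem hh using hpt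
    haveI := hV
    haveI := hg
    obtain ⟨t, ht⟩ := isCompact_univ.elim_finite_subcover (fun s => Set.range (g s))
      (fun s => (g s).isOpenMap.isOpen_range) fun s _ => Set.mem_iUnion.2 ⟨s, hmem s⟩
    let VV : Scheme.{u} := ∐ fun i : t => V i.1
    let gg : VV ⟶ Spec (CommRingCat.of R) := Limits.Sigma.desc fun i : t => g i.1
    let hh' : VV ⟶ P₀ := Limits.Sigma.desc fun i : t => h i.1
    have hgg : hh' ≫ p₀ = gg := by
      refine Limits.Sigma.hom_ext _ _ fun i => ?_
      rw [Limits.Sigma.ι_desc_assoc, Limits.Sigma.ι_desc, hh]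
    haveI : Etale gg := IsZariskiLocalAtSource.sigmaDesc fun i : t => hg i.1
    haveI : Surjective gg := ⟨fun s => by
      obtain ⟨i, hi, z, hz⟩ := Set.mem_iUnion₂.1 (ht (Set.mem_univ s))
      exact ⟨Limits.Sigma.ι (fun i : t => V i.1) ⟨i, hi⟩ z, by
        rw [← Scheme.Hom.comp_apply, Limits.Sigma.ι_desc]
        exact hz⟩⟩
    haveI : IsAffine VV := inferInstance
    let R' : CommRingCat.{u} := Γ(VV, ⊤)
    let q : Spec R' ⟶ Spec (CommRingCat.of R) := VV.isoSpec.inv ≫ gg
    let φ : CommRingCat.of R ⟶ R' := Spec.preimage q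
    have hφ : Spec.map φ = q := Spec.map_preimage q
    letI : Algebra R R' := φ.hom.toAlgebra
    haveI : Algebra.Etale R R' := RingHom.etale_algebraMap.1
      ((HasRingHomProperty.Spec_iff (P := @Etale)).1 (show Etale (Spec.map φ) by rw [hφ]; infer_instance))
    haveI : Module.FaithfullyFlat R R' := by
      refine Module.FaithfullyFlat.of_comap_surjective fun p => ?_
      haveI : Surjective (Spec.map φ) := by rw [hφ]; infer_instance
      exact (Spec.map φ).surjective p
    refine ⟨R', inferInstance, inferInstance, inferInstance, inferInstance, ?_⟩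
    -- the coordinate ring of the torsor
    let B : CommRingCat.{u} := Γ(P.left, ⊤)
    let ψ : CommRingCat.of (PowerSeries R) ⟶ B := Spec.preimage (P.left.isoSpec.inv ≫ P.hom)
    have hψ : Spec.map ψ = P.left.isoSpec.inv ≫ P.hom := Spec.map_preimage _
    letI : Algebra (PowerSeries R) B := ψ.hom.toAlgebra
    haveI : Algebra.Smooth (PowerSeries R) B := RingHom.smooth_algebraMap.1
      ((HasRingHomProperty.Spec_iff (P := @Smooth)).1 (show Smooth (Spec.map ψ) by rw [hψ]; infer_instance))
    let σ₀ : B ⟶ R' := Spec.preimage (VV.isoSpec.inv ≫ hh' ≫ Limits.pullback.fst P.hom c0 ≫ P.left.isoSpec.hom)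
    have hσ₀ : ψ ≫ σ₀ = CommRingCat.ofHom (PowerSeries.constantCoeff (R := R)) ≫ φ := by
      apply Spec.map_injective
      rw [Spec.map_comp, Spec.map_comp, Spec.map_preimage, hψ, hφ]
      simp only [Category.assoc, Iso.hom_inv_id_assoc]
      rw [Limits.pullback.condition, ← Category.assoc hh']
      show VV.isoSpec.inv ≫ (hh' ≫ p₀) ≫ c0 = _
      rw [hgg]
      simp only [q, Category.assoc]
      rfl
    let I : Ideal (PowerSeries R') := Ideal.span {PowerSeries.X}
    haveI : HenselianRing (PowerSeries R') I := IsAdicComplete.henselianRing _ _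
    letI : Algebra (PowerSeries R) (PowerSeries R') := (PowerSeries.map (algebraMap R R')).toAlgebra
    let σ : B →ₐ[PowerSeries R] PowerSeries R' ⧸ I :=
      { toRingHom := (Ideal.Quotient.mk I).comp ((PowerSeries.C (R := R')).comp σ₀.hom)
        commutes' := fun r => by
          show Ideal.Quotient.mk I (PowerSeries.C (σ₀ (ψ r))) = Ideal.Quotient.mk I (PowerSeries.map φ.hom r)
          rw [show σ₀ (ψ r) = φ (PowerSeries.constantCoeff r) from congrArg (fun f => f r) hσ₀, Ideal.Quotient.eq,
            Ideal.mem_span_singleton, PowerSeries.X_dvd_iff]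
          simp [← PowerSeries.coeff_zero_eq_constantCoeff, PowerSeries.coeff_map] }
    obtain ⟨τ, -⟩ := Groth.Agent.Hensel.exists_algHom_of_smooth (I := I) σ
    refine ⟨Spec.map (CommRingCat.ofHom τ.toRingHom) ≫ P.left.isoSpec.inv, ?_⟩
    rw [Category.assoc, ← hψ, ← Spec.map_comp]
    exact congrArg Spec.map (CommRingCat.hom_ext (RingHom.ext fun r => τ.commutes r))

end Groth.Agent.S19307
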