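import Groth.Statements.S19309
import Mathlib

set_option autoImplicit false
universe u
open PowerSeries LaurentSeries
open CAlg

namespace Groth.Agent.S19309

/-- Let k be a field, R a commutative k-algebra, B a finitely presented R⟦X⟧-algebra (an affine scheme V
= Spec B of finite presentation over the disc D_R = Spec R⟦X⟧) and s : B → R((X)) an R⟦X⟧-algebra
map (a section of V over the punctured disc). Then there is an ideal I of R such that for every ring
map φ : R → R', writing θ : R((X)) → R'((X)) for the ring map compatible with R⟦X⟧ → R'⟦X⟧, the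
section s extends to a section over D_{R'} — an R⟦X⟧-algebra map s' : B → R'⟦X⟧ whose composite with
R'⟦X⟧ → R'((X)) is θ ∘ s — if and only if φ kills I. In other words the sub-presheaf of Spec R where
s extends over the disc is the closed subscheme defined by I. -/
theorem result
    (k : Type u) [Field k] (R : Type u) [CommRing R] [Algebra k R]
    (B : Type u) [CommRing B] [Algebra R⟦X⟧ B] [Algebra.FinitePresentation R⟦X⟧ B]
    (s : B →ₐ[R⟦X⟧] R⸨X⸩) :
    ∃ I : Ideal R, ∀ (R' : Type u) [CommRing R'] (φ : R →+* R') (θ : R⸨X⸩ →+* R'⸨X⸩),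
      θ.comp (algebraMap R⟦X⟧ R⸨X⸩) = (algebraMap R'⟦X⟧ R'⸨X⸩).comp (PowerSeries.map φ) →
      ((∃ s' : B →+* R'⟦X⟧, s'.comp (algebraMap R⟦X⟧ B) = PowerSeries.map φ ∧
          (algebraMap R'⟦X⟧ R'⸨X⸩).comp s' = θ.comp s.toRingHom) ↔ I ≤ RingHom.ker φ) := by
  refine ⟨Ideal.span {r | ∃ (b : B) (m : ℤ), m < 0 ∧ (s b).coeff m = r}, fun R' _ φ θ hθ => ?_⟩
  have hof : ∀ f : R⟦X⟧, θ (HahnSeries.ofPowerSeries ℤ R f) = HahnSeries.ofPowerSeries ℤ R' (PowerSeries.map φ f) :=
    fun f => RingHom.congr_fun hθ f
  have hsingle : ∀ n : ℕ, θ (HahnSeries.single (n : ℤ) 1) = HahnSeries.single (n : ℤ) 1 := by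
    intro n
    have := hof (PowerSeries.X ^ n)
    rwa [HahnSeries.ofPowerSeries_X_pow, map_pow, PowerSeries.map_X, HahnSeries.ofPowerSeries_X_pow] at this
  have hsingleZ : ∀ n : ℤ, θ (HahnSeries.single n 1) = HahnSeries.single n 1 := by
    intro n
    rcases Int.eq_nat_or_neg n with ⟨j, rfl | rfl⟩
    · exact hsingle j
    · have h1 : θ (HahnSeries.single (-(j : ℤ)) 1) * HahnSeries.single (j : ℤ) 1 = 1 := by
        rw [← hsingle j, ← map_mul, HahnSeries.single_mul_single, neg_add_cancel, one_mul, HahnSeries.single_zero_one, map_one]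
      have h2 : (HahnSeries.single (-(j : ℤ)) (1 : R')) * HahnSeries.single (j : ℤ) 1 = 1 := by
        rw [HahnSeries.single_mul_single, neg_add_cancel, one_mul, HahnSeries.single_zero_one]
      rw [mul_comm] at h2
      calc θ (HahnSeries.single (-(j : ℤ)) 1)
          = θ (HahnSeries.single (-(j : ℤ)) 1) * (HahnSeries.single (j : ℤ) 1 * HahnSeries.single (-(j : ℤ)) 1) := by
            rw [h2, mul_one]
        _ = HahnSeries.single (-(j : ℤ)) 1 := by rw [← mul_assoc, h1, one_mul]
  have hcoeff : ∀ (x : R⸨X⸩) (m : ℤ), (θ x).coeff m = φ (x.coeff m) := by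
    intro x m
    have hx := LaurentSeries.single_order_mul_powerSeriesPart x
    conv_lhs => rw [← hx, map_mul, hsingleZ, hof]
    conv_rhs => rw [← hx]
    obtain ⟨i, rfl⟩ : ∃ i : ℤ, m = i + x.order := ⟨m - x.order, by ring⟩
    rw [HahnSeries.coeff_single_mul_add, HahnSeries.coeff_single_mul_add, one_mul, one_mul]
    rcases lt_or_ge i 0 with hi | hi
    · rw [show (HahnSeries.ofPowerSeries ℤ R' (PowerSeries.map φ x.powerSeriesPart)).coeff i = 0 from
          HahnSeries.embDomain_notin_image_support (by rintro ⟨a, -, ha⟩; simp at ha; omega),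
        show (HahnSeries.ofPowerSeries ℤ R x.powerSeriesPart).coeff i = 0 from
          HahnSeries.embDomain_notin_image_support (by rintro ⟨a, -, ha⟩; simp at ha; omega), map_zero]
    · lift i to ℕ using hi
      rw [HahnSeries.ofPowerSeries_apply_coeff, HahnSeries.ofPowerSeries_apply_coeff, PowerSeries.coeff_map]
  constructor
  · rintro ⟨s', -, hs'⟩
    rw [Ideal.span_le]
    rintro r ⟨b, m, hm, rfl⟩
    rw [SetLike.mem_coe, RingHom.mem_ker, ← hcoeff]
    have : θ (s b) = HahnSeries.ofPowerSeries ℤ R' (s' b) := (RingHom.congr_fun hs' b).symm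
    rw [this]
    exact HahnSeries.embDomain_notin_image_support (by rintro ⟨a, -, ha⟩; simp at ha; omega)
  · intro hI
    let F : B → R'⟦X⟧ := fun b => PowerSeries.mk fun n => φ ((s b).coeff (n : ℤ))
    have hF : ∀ b, HahnSeries.ofPowerSeries ℤ R' (F b) = θ (s b) := by
      intro b
      ext m
      rw [hcoeff]
      rcases lt_or_ge m 0 with hm | hm
      · rw [RingHom.mem_ker.1 (hI (Ideal.subset_span ⟨b, m, hm, rfl⟩))]
        exact HahnSeries.embDomain_notin_image_support (by rintro ⟨a, -, ha⟩; simp at ha; omega)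
      · lift m to ℕ using hm
        rw [HahnSeries.ofPowerSeries_apply_coeff, PowerSeries.coeff_mk]
    have hinj : Function.Injective (HahnSeries.ofPowerSeries ℤ R') := HahnSeries.ofPowerSeries_injective
    let s' : B →+* R'⟦X⟧ :=
      { toFun := F
        map_one' := hinj (by rw [hF, map_one, map_one, map_one])
        map_mul' := fun a b => hinj (by rw [map_mul, hF, hF, hF, map_mul, map_mul])
        map_zero' := hinj (by rw [hF, map_zero, map_zero, map_zero])
        map_add' := fun a b => hinj (by rw [map_add, hF, hF, hF, map_add, map_add]) }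
    refine ⟨s', RingHom.ext fun f => hinj ?_, RingHom.ext fun b => hF b⟩
    show HahnSeries.ofPowerSeries ℤ R' (F (algebraMap R⟦X⟧ B f)) = _
    rw [hF, AlgHom.commutes]
    exact hof f

end Groth.Agent.S19309
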