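import Groth.Statements.S1931
import Groth.Agent.CycLib.GysinPull

set_option autoImplicit false
universe u
open CategoryTheory AlgebraicGeometry
open CategoryTheory.Limits
open Cyc

namespace Groth.Agent.S1931

open CategoryTheory CategoryTheory.Limits AlgebraicGeometry

open Groth.Agent Groth.Agent.CycLib

/-- Let (L, s, i : D → X) and (L', s', i' : D' → X) be two invertible modules with global sections and
their zero schemes, and D ∩ D' = D ×_X D' with projections j to D and j' to D' (the zero schemes of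
the restricted sections). For a k-cycle α on X, (j')^*(i^*α) ∼_rat j^*((i')^*α) as (k − 2)-cycles on
D ∩ D'. The Gysin maps on D and D' are computed from any global sections σ' of L'|_D and σ of
L|_{D'} whose zero schemes are j and j'. Here i : D → X is the zero scheme of a global section s of
the invertible module L (Cyc.IsZeroSchemeOf), the Gysin map i^* : Z_{k+1}(X) → CH_k(D) is computed
on coefficient functions as c_1(L) ∩ − with the rational sections taken to be s where it is nonzero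
(Cyc.gysinChoice) and restricted to the points of D, and classes on D are compared up to rational
equivalence on D for the restricted dimension function. A pair (X, δ) with Cyc.IsSetup plays the
role of a scheme locally of finite type over a base with a dimension function (X locally Noetherian
with universally catenary local rings, δ a dimension function), and Cyc.DeltaCompat records that the
dimension function upstairs is the induced one. -/
theorem result (X D D' : Scheme.{u}) (δ : X → ℤ) (hX : Cyc.IsSetup X δ) (L L' : X.Modules) (hL : PicF.IsInvertible L) (hL' : PicF.IsInvertible L') (s : L.presheaf.obj (Opposite.op ⊤)) (s' : L'.presheaf.obj (Opposite.op ⊤)) (i : D ⟶ X) (i' : D' ⟶ X) [IsClosedImmersion i] [IsClosedImmersion i'] (hD : Cyc.IsZeroSchemeOf i L s) (hD' : Cyc.IsZeroSchemeOf i' L' s') (σ' : ((Scheme.Modules.pullback i).obj L').presheaf.obj (Opposite.op ⊤)) (hσ' : Cyc.IsZeroSchemeOf (pullback.fst i i') ((Scheme.Modules.pullback i).obj L') σ')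 (σ : ((Scheme.Modules.pullback i').obj L).presheaf.obj (Opposite.op ⊤)) (hσ : Cyc.IsZeroSchemeOf (pullback.snd i i') ((Scheme.Modules.pullback i').obj L) σ) (k : ℤ) (α : AlgebraicCycle X ℤ) (hα : α ∈ Cyc.Zk X δ k) (w : (ξ : X) → Cyc.secFibre L ξ) (hw : ∀ ξ, w ξ ≠ 0) (w' : (ξ : X) → Cyc.secFibre L' ξ) (hw' : ∀ ξ, w' ξ ≠ 0) (w₁ : (d : D) → Cyc.secFibre ((Scheme.Modules.pullback i).obj L') d) (hw₁ : ∀ d, w₁ d ≠ 0) (w₂ : (d : D') → Cyc.secFibre ((Scheme.Modules.pullback i').obj L) d) (hw₂ : ∀ d, w₂ d ≠ 0) (γ : D → ℤ) (hγ : γ = fun d => Cyc.c1CapFun δ L ⇑α (Cyc.gysinChoice L s w) (i d)) (γ' : D' → ℤ) (hγ' : γ' = fun d => Cyc.c1CapFun δ L' ⇑α (Cyc.gysinChoice L' s' w') (i' d)) (ζ₁ ζ₂ : AlgebraicCycle (pullback i i') ℤ) (h₁ : ∀ z, ζ₁ z = Cyc.c1CapFun (fun d => δ (i d)) ((Scheme.Modules.pullback i).obj L') γ (Cyc.gysinChoice ((Scheme.Modules.pullback i).obj L') σ' w₁) (pullback.fst i i' z)) (h₂ : ∀ z, ζ₂ z = Cyc.c1CapFun (fun d => δ (i' d)) ((Scheme.Modules.pullback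 i').obj L) γ' (Cyc.gysinChoice ((Scheme.Modules.pullback i').obj L) σ w₂) (pullback.snd i i' z)) : Cyc.RatEquiv (fun z => δ (i (pullback.fst i i' z))) (k - 2) ζ₁ ζ₂ := by
  classical
  haveI := hX.1
  haveI := isLocallyNoetherian_closed i
  haveI := isLocallyNoetherian_closed i'
  have hδ := hX.2.2
  let ι := pullback.fst i i' ≫ i
  haveI := isLocallyNoetherian_closed ι
  have hsnd : ∀ z, i' (pullback.snd i i' z) = ι z := fun z => by
    rw [← Scheme.Hom.comp_apply, ← pullback.condition]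
  have hg := gysinChoice_ne_zero (L := L) (s := s) hw
  have hg' := gysinChoice_ne_zero (L := L') (s := s') hw'
  let A := c1Cycle hδ hL α (Cyc.gysinChoice L s w)
  let A' := c1Cycle hδ hL' α (Cyc.gysinChoice L' s' w')
  have hA : ∀ x, A x ≠ 0 → x ∈ Set.range i := fun x hx => by
    obtain ⟨ξ, hξ⟩ := exists_ne_zero_finsum hx
    exact mem_range_of_gysin hδ hL hD (right_ne_zero_of_mul hξ)
  have hA' : ∀ x, A' x ≠ 0 → x ∈ Set.range i' := fun x hx => by
    obtain ⟨ξ, hξ⟩ := exists_ne_zero_finsum hx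
    exact mem_range_of_gysin hδ hL' hD' (right_ne_zero_of_mul hξ)
  have hAk : restrictCycle i A ∈ Cyc.Zk D (fun d => δ (i d)) (k - 2 + 1) := fun d hd =>
    c1CapFun_eq_zero_of_ne (k := k - 2 + 1) (fun ξ hξ => hα ξ (by omega)) _ hd
  have hAk' : restrictCycle i' A' ∈ Cyc.Zk D' (fun d => δ (i' d)) (k - 2 + 1) := fun d hd =>
    c1CapFun_eq_zero_of_ne (k := k - 2 + 1) (fun ξ hξ => hα ξ (by omega)) _ hd
  let C₁ : AlgebraicCycle (pullback i i') ℤ := restrictCycle ι (c1Cycle hδ hL' A (Cyc.gysinChoice L' s' w'))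
  let C₂ : AlgebraicCycle (pullback i i') ℤ := restrictCycle ι (c1Cycle hδ hL A' (Cyc.gysinChoice L s w))
  have e₁ : Cyc.RatEquiv (fun z => δ (ι z)) (k - 2) ζ₁ C₁ := by
    refine ratEquiv_gysin_pull (δ' := fun d => δ (i d)) i (isDimFun_closed i hδ) hL' hD' (pullback.fst i i')
      (Iso.refl _) (Category.id_comp _) hσ' hw' w₁ hw₁ (restrictCycle i A) hAk C₁ ζ₁ (fun z => ?_) (fun z => ?_)
    · exact c1CapFun_closed i hδ hL' (⇑A) hA (Cyc.gysinChoice L' s' w') (pullback.fst i i' z)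
    · rw [h₁, hγ]
      rfl
  have e₂ : Cyc.RatEquiv (fun z => δ (ι z)) (k - 2) ζ₂ C₂ := by
    rw [show (fun z => δ (ι z)) = fun z => δ (i' (pullback.snd i i' z)) from funext fun z => by rw [hsnd]]
    refine ratEquiv_gysin_pull (δ' := fun d => δ (i' d)) i' (isDimFun_closed i' hδ) hL hD (pullback.snd i i')
      (pullbackSymmetry i i') (pullbackSymmetry_hom_comp_fst i i') hσ hw w₂ hw₂ (restrictCycle i' A') hAk' C₂ ζ₂
      (fun z => ?_) (fun z => ?_)
    · show Cyc.c1CapFun δ L (⇑A') (Cyc.gysinChoice L s w) (ι z) = _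
      rw [← hsnd z]
      exact c1CapFun_closed i' hδ hL (⇑A') hA' (Cyc.gysinChoice L s w) (pullback.snd i i' z)
    · rw [h₂, hγ']
      rfl
  have e₃ : Cyc.RatEquiv (fun z => δ (ι z)) (k - 2) C₁ C₂ := by
    have hk : ∀ j : {ξ : X // α ξ ≠ 0}, δ j.1 = k - 2 + 2 := fun j => by
      by_contra hne
      exact j.2 (hα j.1 (by omega))
    choose G hG hGn hsum using fun j : {ξ : X // α ξ ≠ 0} =>
      exists_fam_comm_point (k := k - 2) hX hL hL' j.1 (hk j) (Cyc.gysinChoice L s w j.1) (hg _)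
        (Cyc.gysinChoice L' s' w' j.1) (hg' _) (Cyc.gysinChoice L' s' w') hg' (Cyc.gysinChoice L s w) hg
    have hGD : ∀ j l, (G j).ξ l ∈ Set.range ι := fun j l => by
      obtain ⟨d, hd⟩ : (G j).ξ l ∈ Set.range i := by_contra fun hn => (hGn j l).2 (triv_gysin hL hD (hG j l) hn)
      have h' : (G j).ξ l ∈ Set.range i' := by_contra fun hn => (hGn j l).1 (triv_gysin hL' hD' (hG j l) hn)
      obtain ⟨z, hz⟩ : d ∈ Set.range (pullback.fst i i') := by
        rw [Scheme.Pullback.range_fst i i']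
        show i d ∈ Set.range i'
        rw [hd]
        exact h'
      exact ⟨z, by show (pullback.fst i i' ≫ i) z = _; rw [Scheme.Hom.comp_apply, hz, hd]⟩
    refine ratEquivZero_of_sum ι hδ (fun j : {ξ : X // α ξ ≠ 0} => j.1) (finite_mem_cycle α)
      (fun j => (G j).pow (α j.1)) (fun j l => hG j l) (fun j l => hGD j l) _ fun z => ?_
    show Cyc.c1CapFun δ L' (Cyc.c1CapFun δ L ⇑α (Cyc.gysinChoice L s w)) (Cyc.gysinChoice L' s' w') (ι z) -
      Cyc.c1CapFun δ L (Cyc.c1CapFun δ L' ⇑α (Cyc.gysinChoice L' s' w')) (Cyc.gysinChoice L s w) (ι z) = _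
    obtain ⟨p₁, f₁⟩ := c1Cap_c1Cap_apply (L := L') hδ hL α (Cyc.gysinChoice L' s' w') (Cyc.gysinChoice L s w) (ι z)
    obtain ⟨p₂, f₂⟩ := c1Cap_c1Cap_apply (L := L) hδ hL' α (Cyc.gysinChoice L s w) (Cyc.gysinChoice L' s' w') (ι z)
    rw [p₁, p₂, ← finsum_sub_distrib f₁ f₂, finsum_congr fun j => Fam.pow_sum hδ (G j) (α j.1) (ι z),
      finsum_congr fun j => congrArg (α j.1 * ·) (hsum j (ι z)).symm,
      finsum_subtype_eq_finsum_cond (f := fun ξ : X => α ξ *
        (Cyc.c1CapFun δ L' (Cyc.secDivFun δ L ξ (Cyc.gysinChoice L s w ξ)) (Cyc.gysinChoice L' s' w') (ι z) -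
          Cyc.c1CapFun δ L (Cyc.secDivFun δ L' ξ (Cyc.gysinChoice L' s' w' ξ)) (Cyc.gysinChoice L s w) (ι z)))
        (fun ξ => α ξ ≠ 0)]
    refine finsum_congr fun ξ => ?_
    rw [finsum_eq_if]
    split_ifs with h
    · rw [mul_sub]
    · rw [not_not.1 h, zero_mul, zero_mul, sub_zero]
  exact ratEquiv_trans e₁ (ratEquiv_trans e₃ (ratEquiv_symm (isDimFun_closed ι hδ) e₂))

end Groth.Agent.S1931
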