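import Mathlib
import Groth.Agent.GeomIrred.Basic
import Groth.Statements.S19310

set_option autoImplicit false
universe u
open TensorProduct
open CAlg

namespace Groth.Agent.S19310

section

open TensorProduct

variable {k : Type u} [Field k] {A : Type u} [CommRing A] [Algebra k A] {ι : Type u}
  (b : Module.Basis ι k A)

lemma repr_map {R R' : Type u} [CommRing R] [CommRing R'] [Algebra k R] [Algebra k R']
    (φ : R →ₐ[k] R') (x : R ⊗[k] A) (i : ι) :
    (Algebra.TensorProduct.basis R' b).repr (Algebra.TensorProduct.map φ (AlgHom.id k A) x) i =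
      φ ((Algebra.TensorProduct.basis R b).repr x i) := by
  induction x with
  | zero => simp
  | tmul r a =>
      rw [Algebra.TensorProduct.map_tmul, AlgHom.id_apply, Algebra.TensorProduct.basis_repr_tmul,
        Algebra.TensorProduct.basis_repr_tmul]
      simp
  | add p q hp hq => simp [hp, hq]

/-- A McCoy-type lemma over a Noetherian local ring. -/
lemma eq_zero_of_mul_eq_zero {L : Type u} [CommRing L] [IsLocalRing L] [IsNoetherianRing L]
    {S : Type u} [CommRing S] [Algebra L S] (bS : Module.Basis ι L S) (s f : S)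
    (hp : ∀ F : S, (∀ i, bS.repr (s * F) i ∈ IsLocalRing.maximalIdeal L) →
      ∀ i, bS.repr F i ∈ IsLocalRing.maximalIdeal L)
    (hsf : s * f = 0) : f = 0 := by
  classical
  set m := IsLocalRing.maximalIdeal L
  suffices h : ∀ n i, bS.repr f i ∈ m ^ n by
    refine bS.repr.map_eq_zero_iff.1 (Finsupp.ext fun i => ?_)
    exact (Submodule.mem_bot L).1 ((Ideal.iInf_pow_eq_bot_of_isLocalRing m
      (IsLocalRing.maximalIdeal.isMaximal L).ne_top).le ((Submodule.mem_iInf _).2 fun n => h n i))
  intro n
  induction n with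
  | zero => intro i; simp
  | succ n ih =>
      intro i
      letI := Ideal.Quotient.field m
      let G := ↥(m ^ n) ⧸ (m • (⊤ : Submodule L ↥(m ^ n)))
      let g : ι → G := fun i => Submodule.Quotient.mk ⟨bS.repr f i, ih i⟩
      suffices hg : g i = 0 by
        have h1 := Submodule.mem_map_of_mem (f := (m ^ n).subtype)
          ((Submodule.Quotient.mk_eq_zero _).1 hg)
        rw [Submodule.map_smul'', Submodule.map_subtype_top, smul_eq_mul, ← pow_succ'] at h1
        exact h1
      refine (Module.forall_dual_apply_eq_zero_iff (L ⧸ m) (g i)).1 fun φ => ?_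
      choose a ha using fun j => Ideal.Quotient.mk_surjective (I := m) (φ (g j))
      let T := (bS.repr f).support
      let F : S := ∑ j ∈ T, a j • bS j
      have hF : ∀ j, bS.repr F j = if j ∈ T then a j else 0 := by
        intro j
        simp [F, Finsupp.single_apply, Finset.sum_ite_eq']
      have hrel : ∀ l, ∑ j ∈ T, bS.repr f j * bS.repr (s * bS j) l = 0 := by
        intro l
        have h1 : bS.repr (s * f) l = 0 := by rw [hsf, map_zero, Finsupp.zero_apply]
        conv at h1 => lhs; rw [← bS.linearCombination_repr f]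
        simpa [Finsupp.linearCombination_apply, Finsupp.sum, Finset.mul_sum, T] using h1
      have hsF : ∀ l, bS.repr (s * F) l ∈ m := by
        intro l
        rw [← Ideal.Quotient.eq_zero_iff_mem]
        have e1 : bS.repr (s * F) l = ∑ j ∈ T, a j * bS.repr (s * bS j) l := by
          simp [F, Finset.mul_sum]
        have h0 : (∑ j ∈ T, Ideal.Quotient.mk m (bS.repr (s * bS j) l) • g j : G) = 0 := by
          have h2 : (∑ j ∈ T, bS.repr (s * bS j) l • (⟨bS.repr f j, ih j⟩ : ↥(m ^ n))) = 0 :=
            Subtype.ext (by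
              rw [Submodule.coe_sum]
              simpa [mul_comm] using hrel l)
          have h3 := congrArg (Submodule.mkQ (m • (⊤ : Submodule L ↥(m ^ n)))) h2
          rw [map_sum, map_zero] at h3
          refine Eq.trans (Finset.sum_congr rfl fun j _ => ?_) h3
          rw [map_smul]
          exact algebraMap_smul (L ⧸ m) (bS.repr (s * bS j) l) (g j)
        rw [e1, map_sum]
        have h4 := congrArg φ h0
        rw [map_sum, map_zero] at h4
        refine Eq.trans (Finset.sum_congr rfl fun j _ => ?_) h4
        rw [map_mul, ha, map_smul, smul_eq_mul, mul_comm]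
      have h5 := hp F hsF i
      rw [hF i] at h5
      by_cases hi : i ∈ T
      · rw [if_pos hi, ← Ideal.Quotient.eq_zero_iff_mem, ha] at h5
        exact h5
      · have : g i = 0 := (Submodule.Quotient.mk_eq_zero _).2 (by
          have h6 : bS.repr f i = 0 := Finsupp.notMem_support_iff.1 hi
          have h7 : (⟨bS.repr f i, ih i⟩ : ↥(m ^ n)) = 0 := Subtype.ext h6
          rw [h7]; exact zero_mem _)
        rw [this, map_zero]

end

/-- Let k be an algebraically closed field, A a finitely generated k-algebra which is an integral domain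
(X = Spec A an affine variety), R a commutative k-algebra, possibly non-reduced, and U an open
subset of X_R = Spec (R ⊗_k A) meeting every fibre of X_R → Spec R (a very dense open subset). Then
a regular function on X_R whose restriction to U vanishes is zero: if f ∈ R ⊗_k A maps to 0 in the
localisation (R ⊗_k A)[1/g] for every g with D(g) ⊆ U, then f = 0. (The published statement is that
automorphisms of a torsor under a smooth affine group scheme over X_R which are the identity over a
very dense open subset are the identity, for X a smooth projective curve; its proof reduces this to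
the present assertion about functions, for quasi-projective X; this row is the affine case.) -/
theorem result
    (k : Type u) [Field k] [IsAlgClosed k]
    (A : Type u) [CommRing A] [Algebra k A] [IsDomain A] [Algebra.FiniteType k A]
    (R : Type u) [CommRing R] [Algebra k R]
    (U : TopologicalSpace.Opens (PrimeSpectrum (TensorProduct k R A)))
    (hsurj : ∀ q : PrimeSpectrum R, ∃ P ∈ U,
      PrimeSpectrum.comap (Algebra.TensorProduct.includeLeftRingHom : R →+* TensorProduct k R A) P = q)
    (f : TensorProduct k R A)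
    (hf : ∀ g : TensorProduct k R A, (PrimeSpectrum.basicOpen g : Set (PrimeSpectrum (TensorProduct k R A))) ⊆ U →
      algebraMap (TensorProduct k R A) (Localization.Away g) f = 0) :
    f = 0 := by
  classical
  by_contra hf0
  let b := Module.Free.chooseBasis k A
  let bR := Algebra.TensorProduct.basis R b
  obtain ⟨i, hi⟩ : ∃ i, bR.repr f i ≠ 0 := by
    by_contra h
    push Not at h
    exact hf0 (bR.repr.map_eq_zero_iff.1 (Finsupp.ext h))
  obtain ⟨q, hqm, hq⟩ := Ideal.exists_le_maximal ((⊥ : Submodule R R).colon {bR.repr f i})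
    (by
      rw [Ne, Ideal.eq_top_iff_one, Submodule.mem_colon_singleton]
      simpa using hi)
  letI := Ideal.Quotient.field q
  haveI : IsDomain ((R ⧸ q) ⊗[k] A) := Groth.Agent.GeomIrred.isDomain_tensor
  let π : R ⊗[k] A →ₐ[k] (R ⧸ q) ⊗[k] A :=
    Algebra.TensorProduct.map (Ideal.Quotient.mkₐ k q) (AlgHom.id k A)
  obtain ⟨P, hPU, hPq⟩ := hsurj ⟨q, hqm.isPrime⟩
  have hker : RingHom.ker π.toRingHom ≤ P.asIdeal := by
    intro x hx
    rw [← bR.linearCombination_repr x, Finsupp.linearCombination_apply]
    refine sum_mem fun j _ => ?_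
    have hj : bR.repr x j ∈ q := by
      rw [← Ideal.Quotient.eq_zero_iff_mem, ← Ideal.Quotient.mkₐ_eq_mk k q, ← repr_map b,
        show Algebra.TensorProduct.map (Ideal.Quotient.mkₐ k q) (AlgHom.id k A) x = 0 from hx,
        map_zero, Finsupp.zero_apply]
    simp only [Algebra.smul_def]
    refine Ideal.mul_mem_right _ _ ?_
    have h1 : bR.repr x j ∈ (PrimeSpectrum.comap
        (Algebra.TensorProduct.includeLeftRingHom : R →+* TensorProduct k R A) P).asIdeal := by
      rw [hPq]; exact hj
    exact h1
  haveI : (RingHom.ker π.toRingHom).IsPrime := RingHom.ker_isPrime _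
  have hη : (⟨RingHom.ker π.toRingHom, inferInstance⟩ : PrimeSpectrum (TensorProduct k R A)) ∈ U := by
    refine Specializes.mem_open ?_ U.2 hPU
    exact (PrimeSpectrum.le_iff_specializes _ _).1 hker
  obtain ⟨_, ⟨g, rfl⟩, hgη, hgU⟩ :=
    PrimeSpectrum.isTopologicalBasis_basic_opens.exists_subset_of_mem_open hη U.2
  obtain ⟨⟨_, e, rfl⟩, he⟩ :=
    (IsLocalization.map_eq_zero_iff (Submonoid.powers g) (Localization.Away g) f).1 (hf g hgU)
  simp only at he
  have hge : π (g ^ e) ≠ 0 := by
    rw [map_pow]
    exact pow_ne_zero _ hgη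
  -- descend
  let c : Finset R := (bR.repr f).support.image (bR.repr f) ∪
    (bR.repr (g ^ e)).support.image (bR.repr (g ^ e))
  let R₀ : Subalgebra k R := Algebra.adjoin k (c : Set R)
  haveI : Algebra.FiniteType k R₀ :=
    (Subalgebra.fg_iff_finiteType R₀).1 (Subalgebra.fg_adjoin_finset _)
  haveI : IsNoetherianRing R₀ := Algebra.FiniteType.isNoetherianRing k R₀
  let b₀ := Algebra.TensorProduct.basis R₀ b
  let ι₀ : R₀ ⊗[k] A →ₐ[k] R ⊗[k] A := Algebra.TensorProduct.map R₀.val (AlgHom.id k A)
  have hι₀ : Function.Injective ι₀ :=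
    Module.Flat.rTensor_preserves_injective_linearMap (M := A) R₀.val.toLinearMap
      Subtype.val_injective
  have hlift : ∀ x : R ⊗[k] A, (∀ j, bR.repr x j ∈ R₀) → ∃ y, ι₀ y = x := by
    intro x hx
    refine ⟨b₀.repr.symm (Finsupp.onFinset (bR.repr x).support (fun j => ⟨bR.repr x j, hx j⟩)
      fun j hj => Finsupp.mem_support_iff.2 fun h => hj (Subtype.ext h)), ?_⟩
    refine bR.repr.injective (Finsupp.ext fun j => ?_)
    rw [repr_map b, LinearEquiv.apply_symm_apply]
    rfl
  have hmem : ∀ x : R ⊗[k] A, (bR.repr x).support.image (bR.repr x) ⊆ c → ∀ j, bR.repr x j ∈ R₀ := by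
    intro x hx j
    by_cases hj : j ∈ (bR.repr x).support
    · exact Algebra.subset_adjoin (hx (Finset.mem_image_of_mem _ hj))
    · rw [Finsupp.notMem_support_iff.1 hj]; exact zero_mem _
  obtain ⟨f₀, hf₀⟩ := hlift f (hmem f Finset.subset_union_left)
  obtain ⟨s₀, hs₀⟩ := hlift (g ^ e) (hmem _ Finset.subset_union_right)
  let q₀ : Ideal R₀ := q.comap R₀.val
  haveI : q₀.IsPrime := Ideal.IsPrime.comap _
  let L := Localization.AtPrime q₀
  let ℓ : R₀ →ₐ[k] L := IsScalarTower.toAlgHom k R₀ L
  let ψ : R₀ ⊗[k] A →ₐ[k] L ⊗[k] A := Algebra.TensorProduct.map ℓ (AlgHom.id k A)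
  let bL := Algebra.TensorProduct.basis L b
  haveI : IsNoetherianRing L := IsLocalization.isNoetherianRing q₀.primeCompl L inferInstance
  let K := IsLocalRing.ResidueField L
  let ρ : L ⊗[k] A →ₐ[k] K ⊗[k] A :=
    Algebra.TensorProduct.map (IsScalarTower.toAlgHom k L K) (AlgHom.id k A)
  haveI : IsDomain (K ⊗[k] A) := Groth.Agent.GeomIrred.isDomain_tensor
  have hres : ∀ x, (∀ j, bL.repr x j ∈ IsLocalRing.maximalIdeal L) ↔ ρ x = 0 := by
    intro x
    rw [← (Algebra.TensorProduct.basis K b).repr.map_eq_zero_iff, Finsupp.ext_iff]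
    refine forall_congr' fun j => ?_
    rw [repr_map b, Finsupp.zero_apply]
    exact (IsLocalRing.residue_eq_zero_iff _).symm
  have hρs : ρ (ψ s₀) ≠ 0 := by
    intro h
    refine hge ((Algebra.TensorProduct.basis (R ⧸ q) b).repr.map_eq_zero_iff.1
      (Finsupp.ext fun j => ?_))
    rw [repr_map b, Finsupp.zero_apply, Ideal.Quotient.mkₐ_eq_mk, Ideal.Quotient.eq_zero_iff_mem]
    have h1 := (hres _).2 h j
    rw [repr_map b] at h1
    have h2 : b₀.repr s₀ j ∈ q₀ := (IsLocalization.AtPrime.to_map_mem_maximal_iff L q₀ _).1 h1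
    rw [← hs₀, repr_map b]
    exact h2
  have hz : ψ f₀ = 0 := by
    refine eq_zero_of_mul_eq_zero bL (ψ s₀) (ψ f₀) (fun F hF j => ?_) ?_
    · have hF' := (hres _).1 hF
      rw [map_mul] at hF'
      exact (hres F).2 ((mul_eq_zero.1 hF').resolve_left hρs) j
    · rw [← map_mul, show s₀ * f₀ = 0 from hι₀ (by rw [map_mul, hs₀, hf₀, he, map_zero]), map_zero]
  have h3 : algebraMap R₀ L (b₀.repr f₀ i) = 0 := by
    have := repr_map b ℓ f₀ i
    rw [show Algebra.TensorProduct.map ℓ (AlgHom.id k A) f₀ = 0 from hz, map_zero,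
      Finsupp.zero_apply] at this
    exact this.symm
  obtain ⟨⟨t, ht⟩, ht'⟩ := (IsLocalization.map_eq_zero_iff q₀.primeCompl L _).1 h3
  refine ht (hq ?_)
  rw [Submodule.mem_colon_singleton, Submodule.mem_bot, smul_eq_mul]
  have h4 := congrArg R₀.val ht'
  rw [map_mul, map_zero, ← repr_map b, hf₀] at h4
  exact h4

end Groth.Agent.S19310
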