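import Groth.Statements.S19314
import Groth.Agent.CurveBddLib.Bounded
import Groth.Agent.S19313
-- import your own Groth.Agent.* helpers here

set_option autoImplicit false
set_option backward.isDefEq.respectTransparency false
set_option maxHeartbeats 1600000
set_option backward.isDefEq.respectTransparency.types false
set_option linter.style.haveILetI false
set_option synthInstance.maxHeartbeats 200000
universe u
open CategoryTheory CategoryTheory.Limits AlgebraicGeometry
open DecSh

namespace Groth.Agent.S19314

open Groth.Agent CategoryTheory

/-- Let k be an algebraically closed field of characteristic zero, X a reduced proper k-scheme of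
dimension one without isolated points, L an ample invertible O_X-module, χ the Euler characteristic
over k and α(M) = χ(M ⊗ L) − χ(M) the multiplicity. Fix δ > 0, integers α and e, natural numbers a
and b and an O_X-module D. Then the family of coherent O_X-modules F with torsion free stalks, α(F)
= α and χ(F) = e (fixed Hilbert polynomial) for which there is a δ-semistable tensor field of type
(a, b) on F with values in D is bounded: there are a k-scheme T of finite type and a coherent module
on X ×_k T among whose fibres at k-points every member occurs up to isomorphism. (The published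
corollary is for a reduced projective curve with D locally free, in a section whose polarisation is
very ample. The bound on the maximal slope that drives the proof uses none of these, and boundedness
for an ample L follows from the very ample case by passing to a power of L, which rescales all
multiplicities.) -/
theorem result
    (k : Type u) [Field k] [IsAlgClosed k] [CharZero k]
    (X : Scheme.{u}) [X.Over (Spec (CommRingCat.of k))] [IsProper (X ↘ Spec (CommRingCat.of k))]
    [AlgebraicGeometry.IsReduced X] (hdim : topologicalKrullDim X = 1)
    (hpure : ∀ x : X, ¬ IsOpen ({x} : Set X))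
    (L : X.Modules) (hL : CohB1.IsAmple L)
    (δ : ℚ) (hδ : 0 < δ) (α e : ℤ) (a b : ℕ) (D : X.Modules) :
    Pic13.IsBounded k X (fun F => Coh.IsCoh F ∧ TorSh.IsTorsionFree F ∧ DecSh.mult k X L F = α ∧
      Curv2.euler k X F = e ∧ ∃ T : DecSh.TF F a b D, T.IsSemistable k L δ) := by
    haveI := EulerIneqLib.isNoetherian_proper (X := X) k
    obtain ⟨j₀, hj⟩ := CurveBddLib.exists_uniform_vanish (k := k) hdim hL α e ((e : ℚ) / (α : ℚ) + δ * (a : ℚ))
    obtain ⟨T, t, h1, h2, U, hU, hb⟩ := CurveBddLib.isBounded_of_uniform k hdim hL
      (Polynomial.C (α : ℚ) * Polynomial.X + Polynomial.C (e : ℚ)) j₀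
    refine ⟨T, t, h1, h2, U, hU, fun F ⟨hF, htf, hα, he, T', hT⟩ => hb F ⟨hF, fun m => ?_, ?_⟩⟩
    · rw [show (Curv2.euler k X (ShStab.twist X L F m) : ℚ) = _ from CurveBddLib.euler_twistL hdim hL hF m, hα, he]
      simp only [Polynomial.eval_add, Polynomial.eval_mul, Polynomial.eval_C, Polynomial.eval_X]
    · have hp := DecShCurveLib.isPure_of_torsionFree hdim hpure hF htf
      refine hj F hF hp hα he fun G ι hι hG hG0 => ?_
      haveI := hι
      obtain ⟨hm1, hm2⟩ := DecShCurveLib.mult_bounds k hdim hL hF hp ι hG hG0
      rw [hα] at hm2
      have hm1' : (1 : ℚ) ≤ (DecSh.mult k X L G : ℚ) := by exact_mod_cast hm1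
      have hαpos : (0 : ℚ) < (α : ℚ) := by exact_mod_cast lt_of_lt_of_le one_pos (hm1.trans hm2)
      have hm2' : (DecSh.mult k X L G : ℚ) ≤ (α : ℚ) := by exact_mod_cast hm2
      have hδa : 0 ≤ δ * (a : ℚ) := mul_nonneg hδ.le (Nat.cast_nonneg a)
      have key : (α : ℚ) * (Curv2.euler k X G : ℚ) - (DecSh.mult k X L G : ℚ) * (e : ℚ) ≤
          δ * (a : ℚ) * ((α : ℚ) - (DecSh.mult k X L G : ℚ)) := by
        by_cases hiso : IsIso ι
        · haveI := hiso
          rw [CurveLib.euler_iso (K := k) (asIso ι), DecShCurveLib.mult_iso k (asIso ι), hα, he]
          simp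
        · have h := Groth.Agent.S19313.result k X hdim hpure L hL F hF htf T' δ hδ hT G ι hG hG0 hiso
          rwa [hα, he] at h
      rw [div_add' _ _ _ hαpos.ne', div_mul_eq_mul_div, le_div_iff₀ hαpos]
      nlinarith [mul_le_mul_of_nonneg_left hm1' (mul_nonneg hδa hαpos.le), mul_nonneg hδa (le_trans zero_le_one hm1')]

end Groth.Agent.S19314
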