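import Groth.Statements.S19316
import Groth.Agent.CurveBddLib.GG
import Groth.Agent.S19315
-- import your own Groth.Agent.* helpers here

set_option autoImplicit false
set_option backward.isDefEq.respectTransparency false
set_option maxHeartbeats 1600000
set_option backward.isDefEq.respectTransparency.types false
set_option linter.style.haveILetI false
set_option synthInstance.maxHeartbeats 200000
universe u
open CategoryTheory CategoryTheory.Limits AlgebraicGeometry
open DecSh

namespace Groth.Agent.S19316

open Groth.Agent CategoryTheory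

/-- Let k be an algebraically closed field of characteristic zero, Y a smooth proper k-scheme of
dimension one without isolated points (possibly disconnected) and L an ample invertible O_Y-module.
Fix finitely many effective Cartier ideal sheaves I_1, …, I_ν on Y (the divisors D_i), rational
weights κ_i with 0 < κ_i < 1, δ > 0, natural numbers r, a, b and an integer d. Consider the locally
free O_Y-modules E of rank r and degree d (χ(E) − r·χ(O_Y) = d) for which there exist k-subspaces
K_i ⊂ H⁰(E ⊗ O_{D_i}) with quotients of dimension r and a tensor field of type (a, b) on E with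
values in some O_Y-module, (κ, δ)-semistable with respect to L. This family is bounded: there is n₀
such that for every such E and every n ≥ n₀, H¹(Y, E ⊗ L^{⊗n}) = 0 and E ⊗ L^{⊗n} is globally
generated. (The published statement fixes the target det(E)^{⊗c} ⊗ L' of the tensor field and takes
the D_i to be the pairs of points over the nodes; allowing any target and any effective divisors
gives a larger family, bounded by the same argument.) -/
theorem result
    (k : Type u) [Field k] [IsAlgClosed k] [CharZero k]
    (Y : Scheme.{u}) [Y.Over (Spec (CommRingCat.of k))] [IsProper (Y ↘ Spec (CommRingCat.of k))]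
    [Smooth (Y ↘ Spec (CommRingCat.of k))] (hdim : topologicalKrullDim Y = 1)
    (hpure : ∀ y : Y, ¬ IsOpen ({y} : Set Y))
    (L : Y.Modules) (hL : CohB1.IsAmple L)
    {ν : ℕ} (I : Fin ν → Y.IdealSheafData) (hI : ∀ i, FGA.IsEffCartier (I i))
    (κ : Fin ν → ℚ) (hκ : ∀ i, 0 < κ i ∧ κ i < 1) (δ : ℚ) (hδ : 0 < δ)
    (r a b : ℕ) (d : ℤ) :
    ∃ n₀ : ℕ, ∀ n : ℕ, n₀ ≤ n → ∀ E : Y.Modules,
      (FlatMod.IsFinLocFreeOfRank r E ∧ Curv2.deg k Y E r = d ∧
        ∃ (K : ∀ i, Submodule k (ParSh.fibD Y (I i) E)),
          (∀ i, Module.finrank k (ParSh.fibD Y (I i) E ⧸ K i) = r) ∧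
          ∃ (D : Y.Modules) (T : DecSh.TF E a b D), T.IsParSemistable k I K κ L δ) →
      Subsingleton (Coh.HH Y (CohB1.tensorMod E (CohB1.tensorPow L n)) 1) ∧
        Curv2.IsGloballyGenerated (CohB1.tensorMod E (CohB1.tensorPow L n)) := by
    haveI := EulerIneqLib.isNoetherian_proper (X := Y) k
    haveI : AlgebraicGeometry.IsReduced Y := ASp.isReduced_of_smooth (Y ↘ Spec (CommRingCat.of k))
    obtain ⟨α, hαdef⟩ : ∃ α : ℤ, α = (r : ℤ) * DecSh.mult k Y L (Coh.structureModule Y) := ⟨_, rfl⟩
    obtain ⟨e, hedef⟩ : ∃ e : ℤ, e = d + (r : ℤ) * Curv2.euler k Y (Coh.structureModule Y) := ⟨_, rfl⟩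
    obtain ⟨j₀, hj⟩ := CurveBddLib.exists_uniform_vanish (k := k) hdim hL α e
      ((e : ℚ) / (α : ℚ) + ((a : ℚ) * δ + (r : ℚ) * (ν : ℚ)))
    obtain ⟨n₀, hn⟩ := CurveBddLib.exists_gg k hdim hL j₀
    refine ⟨max n₀ j₀, fun n hn' E ⟨hE, hd, K, hK, D, T, hT⟩ => ?_⟩
    have hEc : Coh.IsCoh E := DegDevLib.isCoh_of_rank hE
    have htf : TorSh.IsTorsionFree E := fun y => by
      haveI := (DCohLib.free_finite_stalk_of_flf (fun x => (hE x).imp fun U h => ⟨r, h⟩) y).1
      infer_instance
    have hp := DecShCurveLib.isPure_of_torsionFree hdim hpure hEc htf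
    have hα : DecSh.mult k Y L E = α := (CurveBddLib.mult_locFree k hdim hL.1 hE).trans hαdef.symm
    have he : Curv2.euler k Y E = e := by
      rw [hedef, ← hd, Curv2.deg]
      ring
    have hv := hj E hEc hp hα he fun G ι hι hG hG0 => by
      haveI := hι
      have hm1 := (DecShCurveLib.mult_bounds k hdim hL hEc hp ι hG hG0).1
      have hm1' : (1 : ℚ) ≤ (DecSh.mult k Y L G : ℚ) := by exact_mod_cast hm1
      have hs : 0 ≤ (a : ℚ) * δ + (r : ℚ) * (ν : ℚ) := by positivity
      rw [← div_le_iff₀ (lt_of_lt_of_le one_pos hm1')]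
      by_cases hiso : IsIso ι
      · haveI := hiso
        rw [CurveLib.euler_iso (K := k) (asIso ι), DecShCurveLib.mult_iso k (asIso ι), hα, he]
        linarith
      · have h := Groth.Agent.S19315.result k Y hdim hpure L hL E r hE I hI K hK κ hκ T δ hδ hT G ι hG hG0 hiso
        rwa [hα, he] at h
    exact ⟨hv n (le_trans (le_max_right _ _) hn'), hn E hEc hv n (le_trans (le_max_left _ _) hn')⟩

end Groth.Agent.S19316
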