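import Groth.Statements.S19317
import Groth.Agent.CurveBddLib.Final
-- import your own Groth.Agent.* helpers here

set_option autoImplicit false
set_option backward.isDefEq.respectTransparency false
set_option maxHeartbeats 1600000
set_option backward.isDefEq.respectTransparency.types false
set_option linter.style.haveILetI false
set_option synthInstance.maxHeartbeats 200000
universe u
open CategoryTheory CategoryTheory.Limits AlgebraicGeometry
open DecSh

namespace Groth.Agent.S19317

open Groth.Agent CategoryTheory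

/-- Let k be an algebraically closed field of characteristic zero, X a reduced proper k-scheme of
dimension one without isolated points, and L an ample invertible O_X-module which is moreover very
ample relative to some projective space over k (the pull-back of O(1) along an immersion). Write χ
for the Euler characteristic over k, M(m) = M ⊗ L^{⊗m}, h⁰(M) = dim_k H⁰(X, M) and α(M) = χ(M ⊗ L) −
χ(M). Fix δ > 0, integers α and e, natural numbers a, b and a finite locally free O_X-module D. Then
there is N₀ such that for every m ≥ N₀, every coherent O_X-module E with torsion free stalks, α(E) =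
α and χ(E) = e, and every tensor field T of type (a, b) on E with values in D, the following hold,
all weighted filtrations (F•, m•) being by coherent subsheaves F_i with weights m_i and μ denoting
μ(F•, m•, φ): (1) T is δ-semistable with respect to L if and only if Σ_i m_i (α · h⁰(F_i(m)) −
α(F_i) · χ(E(m))) + δ μ ≤ 0 for every weighted filtration; (2) T is δ-semistable if and only if Σ_i
m_i (α(E/F_i) · χ(E(m)) − α · h⁰((E/F_i)(m))) + δ μ ≤ 0 for every weighted filtration; (3) if T is
δ-semistable then H¹(X, E(m)) = 0. (Only the semistable version of the published equivalence is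
stated; the published setting is a reduced projective curve with a very ample polarisation and a
locally free D, as here.) -/
theorem result
    (k : Type u) [Field k] [IsAlgClosed k] [CharZero k]
    (X : Scheme.{u}) [X.Over (Spec (CommRingCat.of k))] [IsProper (X ↘ Spec (CommRingCat.of k))]
    [AlgebraicGeometry.IsReduced X] (hdim : topologicalKrullDim X = 1)
    (hpure : ∀ x : X, ¬ IsOpen ({x} : Set X))
    (L : X.Modules) (hL : CohB1.IsAmple L) (hva : RelAmple.IsRelVeryAmplePn (X ↘ Spec (CommRingCat.of k)) L)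
    (δ : ℚ) (hδ : 0 < δ) (α e : ℤ) (a b : ℕ) (D : X.Modules) (hD : FlatMod.IsFinLocFree D) :
    ∃ N₀ : ℕ, ∀ m : ℕ, N₀ ≤ m → ∀ (E : X.Modules), Coh.IsCoh E → TorSh.IsTorsionFree E →
      DecSh.mult k X L E = α → Curv2.euler k X E = e → ∀ T : DecSh.TF E a b D,
        (T.IsSemistable k L δ ↔
          ∀ 𝓕 : DecSh.WFilt E, (∀ i, Coh.IsCoh ((𝓕.piece i : Subobject E) : X.Modules)) →
            (∑ i, 𝓕.wt i * ((α : ℚ) *
                (Module.finrank k (Coh.HH X (ShStab.twist X L ((𝓕.piece i : Subobject E) : X.Modules) m) 0) : ℚ) -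
              (DecSh.mult k X L ((𝓕.piece i : Subobject E) : X.Modules) : ℚ) *
                (Curv2.euler k X (ShStab.twist X L E m) : ℚ))) + δ * T.mu k L 𝓕 ≤ 0) ∧
        (T.IsSemistable k L δ ↔
          ∀ 𝓕 : DecSh.WFilt E, (∀ i, Coh.IsCoh ((𝓕.piece i : Subobject E) : X.Modules)) →
            (∑ i, 𝓕.wt i * ((DecSh.mult k X L (cokernel (𝓕.piece i).arrow) : ℚ) *
                (Curv2.euler k X (ShStab.twist X L E m) : ℚ) -
              (α : ℚ) * (Module.finrank k (Coh.HH X (ShStab.twist X L (cokernel (𝓕.piece i).arrow) m) 0) : ℚ))) +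
              δ * T.mu k L 𝓕 ≤ 0) ∧
        (T.IsSemistable k L δ → Subsingleton (Coh.HH X (ShStab.twist X L E m) 1)) := by
    classical
    haveI := EulerIneqLib.isNoetherian_proper (X := X) k
    obtain ⟨Nb, hNb⟩ := CurveBddLib.exists_piece_bound k hdim hL α e ((e : ℚ) / (α : ℚ) + δ * (a : ℚ))
      (δ * (a : ℚ) * (α : ℚ) + 1)
    obtain ⟨Nq, hNq⟩ := CurveBddLib.exists_slopeBdd_of_quot k hdim hL α e δ hδ.le a
    obtain ⟨j₁, hj₁⟩ := CurveBddLib.exists_uniform_vanish (k := k) hdim hL α e ((e : ℚ) / (α : ℚ) + δ * (a : ℚ))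
    obtain ⟨j₂, hj₂⟩ := CurveBddLib.exists_uniform_vanish (k := k) hdim hL α e
      (|(e : ℚ)| + |((e : ℚ) - δ * a) / α| * |(α : ℚ)|)
    refine ⟨max (max Nb Nq) (max j₁ j₂), fun m hm E hE htf hα he T => ?_⟩
    have hp := DecShCurveLib.isPure_of_torsionFree hdim hpure hE htf
    simp only [max_le_iff] at hm
    have hEm : (Curv2.euler k X (ShStab.twist X L E m) : ℚ) = (α : ℚ) * m + e := by
      rw [← hα, ← he]
      exact CurveBddLib.euler_twistL hdim hL hE m
    have hTF : T.IsSemistable k L δ → ∀ 𝓕 : DecSh.WFilt E, (∀ i, Coh.IsCoh ((𝓕.piece i : Subobject E) : X.Modules)) →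
        (∑ i, 𝓕.wt i * ((α : ℚ) *
            (Module.finrank k (Coh.HH X (ShStab.twist X L ((𝓕.piece i : Subobject E) : X.Modules) m) 0) : ℚ) -
          (DecSh.mult k X L ((𝓕.piece i : Subobject E) : X.Modules) : ℚ) *
            (Curv2.euler k X (ShStab.twist X L E m) : ℚ))) + δ * T.mu k L 𝓕 ≤ 0 := fun hT 𝓕 h𝓕 => by
      have hc := CurveBddLib.slopeBdd_of_tf k hdim hL hpure hE htf T hδ hT hα he
      have hb : ∀ i, 1 ≤ DecSh.mult k X L ((𝓕.piece i : Subobject E) : X.Modules) ∧
          DecSh.mult k X L ((𝓕.piece i : Subobject E) : X.Modules) ≤ α :=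
        fun i => hα ▸ DecShCurveLib.mult_piece k hdim hL hE hp 𝓕 h𝓕 i
      have hT' : DecSh.IsDeltaSS (fun P : Subobject E => Coh.IsCoh (P : X.Modules)) α
          (fun P => DecSh.mult k X L (P : X.Modules)) (e : ℚ) (fun P => (Curv2.euler k X (P : X.Modules) : ℚ)) T.nv δ := by
        rw [← hα, ← he]; exact hT
      have h := CurveBddLib.sectional_le 𝓕 α (fun P => DecSh.mult k X L (P : X.Modules)) T.nv hδ.le hb
        (fun P : Subobject E => Coh.IsCoh (P : X.Modules)) h𝓕 (e : ℚ) _ hT'
        (fun i => (α : ℚ) *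
            (Module.finrank k (Coh.HH X (ShStab.twist X L ((𝓕.piece i : Subobject E) : X.Modules) m) 0) : ℚ) -
          (DecSh.mult k X L ((𝓕.piece i : Subobject E) : X.Modules) : ℚ) *
            (Curv2.euler k X (ShStab.twist X L E m) : ℚ))
        (fun i => Subsingleton (Coh.HH X (ShStab.twist X L ((𝓕.piece i : Subobject E) : X.Modules) m) 1))
        (fun i hi => by
          show _ - _ = _
          rw [CurveBddLib.h0_eq_of_vanish k hdim hL _ m (h𝓕 i) hi, hEm]
          ring)
        (fun i hi => by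
          show _ - _ ≤ _
          rw [hEm]
          exact (hNb E hE hp hα he hc m hm.1.1 _ (𝓕.piece i).arrow inferInstance (h𝓕 i) (𝓕.piece_nonzero i)).resolve_left hi)
      rw [DecSh.TF.mu, hα]
      exact h.trans (neg_nonpos.2 (Finset.sum_nonneg fun i _ => (𝓕.wt_pos i).le))
    refine ⟨⟨hTF, fun h 𝓕 h𝓕 => le_trans (add_le_add ?_ le_rfl) (h 𝓕 h𝓕)⟩, ⟨fun hT 𝓕 h𝓕 => ?_, fun h 𝓕 h𝓕 => ?_⟩,
      fun hT => hj₁ E hE hp hα he (CurveBddLib.slopeBdd_of_tf k hdim hL hpure hE htf T hδ hT hα he) m hm.2.1⟩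
    · refine Finset.sum_le_sum fun i _ => mul_le_mul_of_nonneg_left ?_ (𝓕.wt_pos i).le
      have h0 := CurveBddLib.euler_le_h0 k hdim hL ((𝓕.piece i : Subobject E) : X.Modules) m (h𝓕 i)
      have hα0 : (0 : ℚ) ≤ (α : ℚ) := by
        exact_mod_cast hα ▸ CurveBddLib.mult_nonneg' k hdim hL hE
      show (DecSh.mult k X L E : ℚ) * _ - _ * (Curv2.euler k X E : ℚ) ≤ _
      rw [hEm, hα, he]
      nlinarith [mul_le_mul_of_nonneg_left h0 hα0]
    · refine le_trans (add_le_add ?_ le_rfl) (hT 𝓕 h𝓕)
      refine Finset.sum_le_sum fun i _ => mul_le_mul_of_nonneg_left ?_ (𝓕.wt_pos i).le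
      obtain ⟨hQ, hmQ, heQ⟩ := CurveBddLib.coker_facts k hdim hL (𝓕.piece i).arrow (h𝓕 i) hE
      rw [hα] at hmQ
      rw [he] at heQ
      have hmQ' : (α : ℚ) = (DecSh.mult k X L ((𝓕.piece i : Subobject E) : X.Modules) : ℚ) +
          (DecSh.mult k X L (cokernel (𝓕.piece i).arrow) : ℚ) := by exact_mod_cast hmQ
      have heQ' : (e : ℚ) = (Curv2.euler k X ((𝓕.piece i : Subobject E) : X.Modules) : ℚ) +
          (Curv2.euler k X (cokernel (𝓕.piece i).arrow) : ℚ) := by exact_mod_cast heQ
      have h0 := CurveBddLib.euler_le_h0 k hdim hL (cokernel (𝓕.piece i).arrow) m hQ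
      have hα0 : (0 : ℚ) ≤ (α : ℚ) := by
        exact_mod_cast hα ▸ CurveBddLib.mult_nonneg' k hdim hL hE
      show _ ≤ (DecSh.mult k X L E : ℚ) * _ - _ * (Curv2.euler k X E : ℚ)
      rw [hEm, hα, he]
      have h1 := mul_le_mul_of_nonneg_left h0 hα0
      rw [hmQ'] at h1 ⊢; rw [heQ']
      linarith
    · have hc := hNq E hE hp hα he m hm.1.2 (CurveBddLib.quot_single k hdim hL T hδ.le hE hp hα he h)
      have hv := hj₂ E hE hp hα he hc m hm.2.2
      refine le_trans (add_le_add (le_of_eq ?_) le_rfl) (h 𝓕 h𝓕)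
      refine Finset.sum_congr rfl fun i _ => ?_
      obtain ⟨hQ, hmQ, heQ⟩ := CurveBddLib.coker_facts k hdim hL (𝓕.piece i).arrow (h𝓕 i) hE
      rw [hα] at hmQ
      rw [he] at heQ
      have hmQ' : (α : ℚ) = (DecSh.mult k X L ((𝓕.piece i : Subobject E) : X.Modules) : ℚ) +
          (DecSh.mult k X L (cokernel (𝓕.piece i).arrow) : ℚ) := by exact_mod_cast hmQ
      have heQ' : (e : ℚ) = (Curv2.euler k X ((𝓕.piece i : Subobject E) : X.Modules) : ℚ) +
          (Curv2.euler k X (cokernel (𝓕.piece i).arrow) : ℚ) := by exact_mod_cast heQ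
      show _ * ((DecSh.mult k X L E : ℚ) * _ - _ * (Curv2.euler k X E : ℚ)) = _
      rw [CurveBddLib.h0_eq_of_vanish k hdim hL _ m hQ
        (CurveBddLib.vanish_quot k hdim (cokernel.π (𝓕.piece i).arrow) m hv), hEm, hα, he, hmQ', heQ']
      ring

end Groth.Agent.S19317
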