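import Groth.Statements.S19318
import Groth.Agent.CurveBddLib.Final
-- import your own Groth.Agent.* helpers here

set_option autoImplicit false
set_option backward.isDefEq.respectTransparency false
set_option maxHeartbeats 1600000
set_option backward.isDefEq.respectTransparency.types false
set_option linter.style.haveILetI false
set_option synthInstance.maxHeartbeats 200000
universe u
open CategoryTheory CategoryTheory.Limits AlgebraicGeometry
open DecSh

namespace Groth.Agent.S19318

open Groth.Agent CategoryTheory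

/-- Let k be an algebraically closed field of characteristic zero, Y a smooth proper k-scheme of
dimension one without isolated points (possibly disconnected) and L an ample invertible O_Y-module;
write χ for the Euler characteristic over k, M(n) = M ⊗ L^{⊗n}, h⁰(M) = dim_k H⁰(Y, M), α(M) = χ(M ⊗
L) − χ(M). Fix effective Cartier ideal sheaves I_1, …, I_ν (divisors D_j), rational weights 0 < κ_j
< 1, δ > 0, natural numbers r, a, b and an integer d. Then there is n₁ such that for every n > n₁
the following holds. Let E be locally free of rank r and degree d (χ(E) − r χ(O_Y) = d) with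
k-subspaces K_j ⊂ H⁰(E ⊗ O_{D_j}) whose quotients q_j have dimension r, let T be a tensor field of
type (a, b) on E with values in an O_Y-module D such that (E, K, T) is (κ, δ)-semistable with
respect to L, and let (E•, m•) be a weighted filtration of E by coherent subsheaves E_i with weights
m_i. For a subsheaf P ⊆ E put c(P) = Σ_j κ_j · dim q_j(image of H⁰(P ⊗ O_{D_j})), so that the
κ-parabolic Euler characteristic is parχ(P) = χ(P) − c(P); put parh⁰(E_i(n)) = h⁰(E_i(n)) − c(E_i)
and parχ(E(n)) = χ(E(n)) − c(E). Then Σ_i m_i (α(E) · parh⁰(E_i(n)) − α(E_i) · parχ(E(n))) + δ ·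
μ(E•, m•, φ) ≤ 0, with μ taken in the sign convention where δ-semistability reads 'linear part + δ μ
≤ 0' (the source writes this chapter with the opposite signs). (Only the semistable version is
stated; the published target of the tensor field is det(E)^{⊗c} ⊗ L' and the D_j are the pairs of
points over the nodes of the curve being normalised — the argument uses neither.) -/
theorem result
    (k : Type u) [Field k] [IsAlgClosed k] [CharZero k]
    (Y : Scheme.{u}) [Y.Over (Spec (CommRingCat.of k))] [IsProper (Y ↘ Spec (CommRingCat.of k))]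
    [Smooth (Y ↘ Spec (CommRingCat.of k))] (hdim : topologicalKrullDim Y = 1)
    (hpure : ∀ y : Y, ¬ IsOpen ({y} : Set Y))
    (L : Y.Modules) (hL : CohB1.IsAmple L)
    {ν : ℕ} (I : Fin ν → Y.IdealSheafData) (hI : ∀ i, FGA.IsEffCartier (I i))
    (κ : Fin ν → ℚ) (hκ : ∀ i, 0 < κ i ∧ κ i < 1) (δ : ℚ) (hδ : 0 < δ)
    (r a b : ℕ) (d : ℤ) :
    ∃ n₁ : ℕ, ∀ n : ℕ, n₁ < n → ∀ (E : Y.Modules), FlatMod.IsFinLocFreeOfRank r E → Curv2.deg k Y E r = d →
      ∀ (K : ∀ i, Submodule k (ParSh.fibD Y (I i) E)),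
        (∀ i, Module.finrank k (ParSh.fibD Y (I i) E ⧸ K i) = r) →
        ∀ (D : Y.Modules) (T : DecSh.TF E a b D), T.IsParSemistable k I K κ L δ →
          ∀ 𝓕 : DecSh.WFilt E, (∀ i, Coh.IsCoh ((𝓕.piece i : Subobject E) : Y.Modules)) →
            (∑ i, 𝓕.wt i *
              ((DecSh.mult k Y L E : ℚ) *
                  ((Module.finrank k (Coh.HH Y (ShStab.twist Y L ((𝓕.piece i : Subobject E) : Y.Modules) n) 0) : ℚ) -
                    ((Curv2.euler k Y ((𝓕.piece i : Subobject E) : Y.Modules) : ℚ) -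
                      DecSh.parChi k I K κ (𝓕.piece i).arrow)) -
                (DecSh.mult k Y L ((𝓕.piece i : Subobject E) : Y.Modules) : ℚ) *
                  ((Curv2.euler k Y (ShStab.twist Y L E n) : ℚ) -
                    ((Curv2.euler k Y E : ℚ) - DecSh.parChi k I K κ (𝟙 E))))) +
              δ * T.mu k L 𝓕 ≤ 0 := by
    classical
    haveI := EulerIneqLib.isNoetherian_proper (X := Y) k
    haveI : AlgebraicGeometry.IsReduced Y := ASp.isReduced_of_smooth (Y ↘ Spec (CommRingCat.of k))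
    obtain ⟨α, hαdef⟩ : ∃ α : ℤ, α = (r : ℤ) * DecSh.mult k Y L (Coh.structureModule Y) := ⟨_, rfl⟩
    obtain ⟨e, hedef⟩ : ∃ e : ℤ, e = d + (r : ℤ) * Curv2.euler k Y (Coh.structureModule Y) := ⟨_, rfl⟩
    obtain ⟨Nb, hNb⟩ := CurveBddLib.exists_piece_bound k hdim hL α e
      ((e : ℚ) / (α : ℚ) + ((a : ℚ) * δ + (r : ℚ) * (ν : ℚ)))
      (δ * (a : ℚ) * (α : ℚ) + 1 + |(α : ℚ)| * ((r : ℚ) * (ν : ℚ)))
    refine ⟨Nb, fun n hn E hE hd K hK D T hT 𝓕 h𝓕 => ?_⟩
    have hEc : Coh.IsCoh E := DegDevLib.isCoh_of_rank hE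
    have htf : TorSh.IsTorsionFree E := fun y => by
      haveI := (DCohLib.free_finite_stalk_of_flf (fun x => (hE x).imp fun U h => ⟨r, h⟩) y).1
      infer_instance
    have hp := DecShCurveLib.isPure_of_torsionFree hdim hpure hEc htf
    have hα : DecSh.mult k Y L E = α := (CurveBddLib.mult_locFree k hdim hL.1 hE).trans hαdef.symm
    have he : Curv2.euler k Y E = e := by
      rw [hedef, ← hd, Curv2.deg]
      ring
    have hr : 0 < r := by
      by_contra hr
      push Not at hr
      obtain rfl : r = 0 := by omega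
      exact 𝓕.piece_nonzero ⟨0, 𝓕.t_pos⟩ ((IsZero.iff_id_eq_zero _).2 ((cancel_mono (𝓕.piece ⟨0, 𝓕.t_pos⟩).arrow).1
        ((CycLib.isZero_of_rank_zero hE).eq_of_tgt _ _)))
    have hcor : ∀ {P : Y.Modules} (ι : P ⟶ E), 0 ≤ (Curv2.euler k Y P : ℚ) - DecSh.parChi k I K κ ι ∧
        (Curv2.euler k Y P : ℚ) - DecSh.parChi k I K κ ι ≤ (r : ℚ) * (ν : ℚ) := fun {P} ι => by
      rw [DecSh.parChi, sub_sub_cancel]
      refine ⟨Finset.sum_nonneg fun i _ => mul_nonneg (hκ i).1.le (Nat.cast_nonneg _), ?_⟩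
      refine (Finset.sum_le_sum (g := fun _ : Fin ν => (r : ℚ)) fun i _ => ?_).trans ?_
      · haveI : Module.Finite k (ParSh.fibD Y (I i) E ⧸ K i) := Module.finite_of_finrank_pos ((hK i).symm ▸ hr)
        exact (mul_le_of_le_one_left (Nat.cast_nonneg _) (hκ i).2.le).trans
          (Nat.cast_le.2 ((Submodule.finrank_le _).trans (hK i).le))
      · rw [Finset.sum_const, Finset.card_fin, nsmul_eq_mul, mul_comm]
    have hc : CurveBddLib.SlopeBdd (k := k) L E ((e : ℚ) / (α : ℚ) + ((a : ℚ) * δ + (r : ℚ) * (ν : ℚ))) :=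
        fun G ι hι hG hG0 => by
      haveI := hι
      have hm1 := (DecShCurveLib.mult_bounds k hdim hL hEc hp ι hG hG0).1
      have hm1' : (1 : ℚ) ≤ (DecSh.mult k Y L G : ℚ) := by exact_mod_cast hm1
      have hs : 0 ≤ (a : ℚ) * δ + (r : ℚ) * (ν : ℚ) := by positivity
      rw [← div_le_iff₀ (lt_of_lt_of_le one_pos hm1')]
      by_cases hiso : IsIso ι
      · haveI := hiso
        rw [CurveLib.euler_iso (K := k) (asIso ι), DecShCurveLib.mult_iso k (asIso ι), hα, he]
        linarith
      · have h := Groth.Agent.S19315.result k Y hdim hpure L hL E r hE I hI K hK κ hκ T δ hδ hT G ι hG hG0 hiso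
        rwa [hα, he] at h
    have hEm : (Curv2.euler k Y (ShStab.twist Y L E n) : ℚ) = (α : ℚ) * n + e := by
      rw [← hα, ← he]
      exact CurveBddLib.euler_twistL hdim hL hEc n
    have hb : ∀ i, 1 ≤ DecSh.mult k Y L ((𝓕.piece i : Subobject E) : Y.Modules) ∧
        DecSh.mult k Y L ((𝓕.piece i : Subobject E) : Y.Modules) ≤ α :=
      fun i => hα ▸ DecShCurveLib.mult_piece k hdim hL hEc hp 𝓕 h𝓕 i
    have hT' : DecSh.IsDeltaSS (fun P : Subobject E => Coh.IsCoh (P : Y.Modules)) α
        (fun P => DecSh.mult k Y L (P : Y.Modules)) (DecSh.parChi k I K κ (𝟙 E))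
        (fun P => DecSh.parChi k I K κ P.arrow) T.nv δ := by
      rw [← hα]; exact hT
    have hcE := (hcor (𝟙 E)).2
    have h := CurveBddLib.sectional_le 𝓕 α (fun P => DecSh.mult k Y L (P : Y.Modules)) T.nv hδ.le hb
      (fun P : Subobject E => Coh.IsCoh (P : Y.Modules)) h𝓕 (DecSh.parChi k I K κ (𝟙 E)) _ hT'
      (fun i => (DecSh.mult k Y L E : ℚ) *
          ((Module.finrank k (Coh.HH Y (ShStab.twist Y L ((𝓕.piece i : Subobject E) : Y.Modules) n) 0) : ℚ) -
            ((Curv2.euler k Y ((𝓕.piece i : Subobject E) : Y.Modules) : ℚ) -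
              DecSh.parChi k I K κ (𝓕.piece i).arrow)) -
        (DecSh.mult k Y L ((𝓕.piece i : Subobject E) : Y.Modules) : ℚ) *
          ((Curv2.euler k Y (ShStab.twist Y L E n) : ℚ) -
            ((Curv2.euler k Y E : ℚ) - DecSh.parChi k I K κ (𝟙 E))))
      (fun i => Subsingleton (Coh.HH Y (ShStab.twist Y L ((𝓕.piece i : Subobject E) : Y.Modules) n) 1))
      (fun i hi => by
        show _ - _ = _
        rw [CurveBddLib.h0_eq_of_vanish k hdim hL _ n (h𝓕 i) hi, hEm, hα, he]
        ring)
      (fun i hi => by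
        show _ - _ ≤ _
        have hn' := (hNb E hEc hp hα he hc n hn.le _ (𝓕.piece i).arrow inferInstance (h𝓕 i)
          (𝓕.piece_nonzero i)).resolve_left hi
        have h1 : (0 : ℚ) ≤ (DecSh.mult k Y L ((𝓕.piece i : Subobject E) : Y.Modules) : ℚ) := by
          exact_mod_cast le_trans zero_le_one (hb i).1
        have h2 : (DecSh.mult k Y L ((𝓕.piece i : Subobject E) : Y.Modules) : ℚ) ≤ |(α : ℚ)| :=
          le_trans (by exact_mod_cast (hb i).2) (le_abs_self _)
        rw [he] at hcE
        have h3 : (DecSh.mult k Y L ((𝓕.piece i : Subobject E) : Y.Modules) : ℚ) *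
            ((e : ℚ) - DecSh.parChi k I K κ (𝟙 E)) ≤ |(α : ℚ)| * ((r : ℚ) * (ν : ℚ)) :=
          (mul_le_mul_of_nonneg_left hcE h1).trans (mul_le_mul_of_nonneg_right h2 (by positivity))
        have h4 : 0 ≤ (α : ℚ) * ((Curv2.euler k Y ((𝓕.piece i : Subobject E) : Y.Modules) : ℚ) -
            DecSh.parChi k I K κ (𝓕.piece i).arrow) :=
          mul_nonneg (le_trans h1 (by exact_mod_cast (hb i).2)) (hcor _).1
        rw [hEm, hα, he]
        linarith)
    rw [DecSh.TF.mu, hα]
    rw [hα] at h
    exact h.trans (neg_nonpos.2 (Finset.sum_nonneg fun i _ => (𝓕.wt_pos i).le))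

end Groth.Agent.S19318
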