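import Groth.Statements.S19319
import Groth.Agent.CurveBddLib.Final
-- import your own Groth.Agent.* helpers here

set_option autoImplicit false
set_option backward.isDefEq.respectTransparency false
set_option maxHeartbeats 1600000
set_option backward.isDefEq.respectTransparency.types false
set_option linter.style.haveILetI false
set_option synthInstance.maxHeartbeats 200000
universe u
open CategoryTheory CategoryTheory.Limits AlgebraicGeometry
open DecSh

namespace Groth.Agent.S19319

open Groth.Agent CategoryTheory

/-- Let k be an algebraically closed field of characteristic zero, X a reduced proper k-scheme of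
dimension one without isolated points, and L an ample invertible O_X-module which is very ample
relative to some projective space over k; write χ for the Euler characteristic over k, M(m) = M ⊗
L^{⊗m}, h⁰(M) = dim_k H⁰(X, M), α(M) = χ(M ⊗ L) − χ(M). Fix δ > 0, integers α and e, natural numbers
a, b and a finite locally free O_X-module D. Then there is N₀ such that for every m ≥ N₀, every
coherent O_X-module E with torsion free stalks, α(E) = α and χ(E) = e, every tensor field T of type
(a, b) on E with values in D which is δ-semistable with respect to L, and every saturated weighted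
filtration (F•, m•) of E (coherent subsheaves F_i with torsion free quotients E/F_i, weights m_i)
for which the sectional expression vanishes, Σ_i m_i (α · h⁰(F_i(m)) − α(F_i) · χ(E(m))) + δ μ(F•,
m•, φ) = 0, every piece satisfies h⁰(F_i(m)) = χ(F_i(m)). (The published corollary is stated for any
weighted filtration and also places each F_i in an auxiliary bounded family of saturated subsheaves
defined through constants of the proof; the published proof treats saturated filtrations, which is
the case stated here, and the membership clause is not restated. N₀ is the threshold of the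
sectional characterisation of δ-semistability; the published setting is a reduced projective curve
with a very ample polarisation and a locally free D, as here.) -/
theorem result
    (k : Type u) [Field k] [IsAlgClosed k] [CharZero k]
    (X : Scheme.{u}) [X.Over (Spec (CommRingCat.of k))] [IsProper (X ↘ Spec (CommRingCat.of k))]
    [AlgebraicGeometry.IsReduced X] (hdim : topologicalKrullDim X = 1)
    (hpure : ∀ x : X, ¬ IsOpen ({x} : Set X))
    (L : X.Modules) (hL : CohB1.IsAmple L) (hva : RelAmple.IsRelVeryAmplePn (X ↘ Spec (CommRingCat.of k)) L)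
    (δ : ℚ) (hδ : 0 < δ) (α e : ℤ) (a b : ℕ) (D : X.Modules) (hD : FlatMod.IsFinLocFree D) :
    ∃ N₀ : ℕ, ∀ m : ℕ, N₀ ≤ m → ∀ (E : X.Modules), Coh.IsCoh E → TorSh.IsTorsionFree E →
      DecSh.mult k X L E = α → Curv2.euler k X E = e → ∀ T : DecSh.TF E a b D, T.IsSemistable k L δ →
        ∀ 𝓕 : DecSh.WFilt E, (∀ i, Coh.IsCoh ((𝓕.piece i : Subobject E) : X.Modules)) →
          (∀ i, TorSh.IsTorsionFree (cokernel (𝓕.piece i).arrow)) →
          (∑ i, 𝓕.wt i * ((α : ℚ) *
              (Module.finrank k (Coh.HH X (ShStab.twist X L ((𝓕.piece i : Subobject E) : X.Modules) m) 0) : ℚ) -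
            (DecSh.mult k X L ((𝓕.piece i : Subobject E) : X.Modules) : ℚ) *
              (Curv2.euler k X (ShStab.twist X L E m) : ℚ))) + δ * T.mu k L 𝓕 = 0 →
          ∀ i, (Module.finrank k (Coh.HH X (ShStab.twist X L ((𝓕.piece i : Subobject E) : X.Modules) m) 0) : ℤ) =
            Curv2.euler k X (ShStab.twist X L ((𝓕.piece i : Subobject E) : X.Modules) m) := by
    classical
    haveI := EulerIneqLib.isNoetherian_proper (X := X) k
    obtain ⟨Nb, hNb⟩ := CurveBddLib.exists_piece_bound k hdim hL α e ((e : ℚ) / (α : ℚ) + δ * (a : ℚ))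
      (δ * (a : ℚ) * (α : ℚ) + 1)
    refine ⟨Nb, fun m hm E hE htf hα he T hT 𝓕 h𝓕 _ h0 i => ?_⟩
    have hp := DecShCurveLib.isPure_of_torsionFree hdim hpure hE htf
    have hEm : (Curv2.euler k X (ShStab.twist X L E m) : ℚ) = (α : ℚ) * m + e := by
      rw [← hα, ← he]
      exact CurveBddLib.euler_twistL hdim hL hE m
    have hc := CurveBddLib.slopeBdd_of_tf k hdim hL hpure hE htf T hδ hT hα he
    have hb : ∀ i, 1 ≤ DecSh.mult k X L ((𝓕.piece i : Subobject E) : X.Modules) ∧
        DecSh.mult k X L ((𝓕.piece i : Subobject E) : X.Modules) ≤ α :=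
      fun i => hα ▸ DecShCurveLib.mult_piece k hdim hL hE hp 𝓕 h𝓕 i
    have hT' : DecSh.IsDeltaSS (fun P : Subobject E => Coh.IsCoh (P : X.Modules)) α
        (fun P => DecSh.mult k X L (P : X.Modules)) (e : ℚ) (fun P => (Curv2.euler k X (P : X.Modules) : ℚ)) T.nv δ := by
      rw [← hα, ← he]; exact hT
    have h := CurveBddLib.sectional_le 𝓕 α (fun P => DecSh.mult k X L (P : X.Modules)) T.nv hδ.le hb
      (fun P : Subobject E => Coh.IsCoh (P : X.Modules)) h𝓕 (e : ℚ) _ hT'
      (fun i => (α : ℚ) *
          (Module.finrank k (Coh.HH X (ShStab.twist X L ((𝓕.piece i : Subobject E) : X.Modules) m) 0) : ℚ) -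
        (DecSh.mult k X L ((𝓕.piece i : Subobject E) : X.Modules) : ℚ) *
          (Curv2.euler k X (ShStab.twist X L E m) : ℚ))
      (fun i => Subsingleton (Coh.HH X (ShStab.twist X L ((𝓕.piece i : Subobject E) : X.Modules) m) 1))
      (fun i hi => by
        show _ - _ = _
        rw [CurveBddLib.h0_eq_of_vanish k hdim hL _ m (h𝓕 i) hi, hEm]
        ring)
      (fun i hi => by
        show _ - _ ≤ _
        rw [hEm]
        exact (hNb E hE hp hα he hc m hm _ (𝓕.piece i).arrow inferInstance (h𝓕 i) (𝓕.piece_nonzero i)).resolve_left hi)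
    rw [DecSh.TF.mu, hα] at h0
    rw [h0] at h
    by_cases hi : Subsingleton (Coh.HH X (ShStab.twist X L ((𝓕.piece i : Subobject E) : X.Modules) m) 1)
    · haveI := hi
      rw [CurveBddLib.euler_two (k := k) hdim, Module.finrank_zero_of_subsingleton (R := k)
        (M := Coh.HH X (ShStab.twist X L ((𝓕.piece i : Subobject E) : X.Modules) m) 1)]
      simp
    · refine absurd h (not_le.2 (neg_lt_zero.2 ?_))
      exact Finset.sum_pos' (fun j _ => (𝓕.wt_pos j).le) ⟨i, Finset.mem_filter.2 ⟨Finset.mem_univ i, hi⟩, 𝓕.wt_pos i⟩

end Groth.Agent.S19319
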