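import Groth.Statements.S1932
import Groth.Agent.CycLib.GysinPull

set_option autoImplicit false
universe u
open CategoryTheory AlgebraicGeometry
open CategoryTheory.Limits
open Cyc

namespace Groth.Agent.S1932

open CategoryTheory CategoryTheory.Limits AlgebraicGeometry

open Groth.Agent Groth.Agent.CycLib

variable {X X' D : Scheme.{u}} (f : X' ⟶ X) {δ' : X' → ℤ}

/-- Push forward commutes with restriction to the zero scheme. -/
theorem map_restrict [IsProper f] {δ : X → ℤ} (i : D ⟶ X) [IsClosedImmersion i] (γ : AlgebraicCycle X' ℤ)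
    (hγ : ∀ x, γ x ≠ 0 → x ∈ Set.range (pullback.fst f i)) (d : D) :
    AlgebraicCycle.map (pullback.snd f i) (fun z => δ' (pullback.fst f i z)) (fun d => δ (i d))
        (restrictCycle (pullback.fst f i) γ) d = AlgebraicCycle.map f δ' δ γ (i d) := by
  classical
  have he : ∀ z, f (pullback.fst f i z) = i (pullback.snd f i z) := fun z => by
    rw [← Scheme.Hom.comp_apply, pullback.condition, Scheme.Hom.comp_apply]
  let W := (finite_window (pullback.snd f i) (restrictCycle (pullback.fst f i) γ) d).toFinset
  rw [map_apply_eq_sum _ _ d W fun z hz h => (finite_window _ _ d).mem_toFinset.2 ⟨hz, h⟩,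
    map_apply_eq_sum f γ (i d) (W.image (pullback.fst f i)) fun x hx h => by
      obtain ⟨z, rfl⟩ := hγ x h
      exact Finset.mem_image_of_mem _ ((finite_window _ _ d).mem_toFinset.2
        ⟨i.isEmbedding.injective ((he z).symm.trans hx), h⟩),
    Finset.sum_image (pullback.fst f i).isEmbedding.injective.injOn]
  refine Finset.sum_congr rfl fun z _ => ?_
  by_cases hz : pullback.snd f i z = d
  · rw [Set.indicator_of_mem (show z ∈ pullback.snd f i ⁻¹' {d} from hz),
      Set.indicator_of_mem (show pullback.fst f i z ∈ f ⁻¹' {i d} from (he z).trans (congrArg i hz)),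
      mapCoeff_square (δX := δ') (δY := δ) pullback.condition.symm z]
    rfl
  · rw [Set.indicator_of_notMem (show z ∉ pullback.snd f i ⁻¹' {d} from hz),
      Set.indicator_of_notMem (show pullback.fst f i z ∉ f ⁻¹' {i d} from
        fun h => hz (i.isEmbedding.injective ((he z).symm.trans h)))]

/-- Gysin maps commute with proper push-forward: let f : X' → X be a proper morphism, L an invertible
O_X-module with a global section s whose zero scheme is the closed immersion i : D → X
(Cyc.IsZeroSchemeOf), and D' = X' ×_X D with projections i' : D' → X' and g : D' → D, where i' is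
the zero scheme of some global section s' of f^*L. For a (k + 1)-cycle α' on X', i^*(f_*α') ∼_rat
g_*((i')^*α') as k-cycles on D. Here the Gysin map i^* : Z_{k+1}(X) → CH_k(D) is computed on
coefficient functions as c_1(L) ∩ − with the rational sections taken to be s where it is nonzero
(Cyc.gysinChoice, completed by arbitrary nonzero choices elsewhere) and restricted to the points of
D, likewise for (i')^* with f^*L and s', and classes on D are compared up to rational equivalence on
D for the restricted dimension function. A pair (X, δ) with Cyc.IsSetup (X locally Noetherian with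
universally catenary local rings, δ a dimension function) plays the role of a scheme locally of
finite type over a base equipped with a dimension function, and Cyc.DeltaCompat records that the
dimension function δ' on X' is the one induced from δ along f. -/
theorem result (X X' D : Scheme.{u}) (δ : X → ℤ) (δ' : X' → ℤ) (hX : Cyc.IsSetup X δ) (hX' : Cyc.IsSetup X' δ') (f : X' ⟶ X) [IsProper f] (hδ : Cyc.DeltaCompat f δ' δ) (L : X.Modules) (hL : PicF.IsInvertible L) (s : L.presheaf.obj (Opposite.op ⊤)) (i : D ⟶ X) [IsClosedImmersion i] (hD : Cyc.IsZeroSchemeOf i L s) (s' : ((Scheme.Modules.pullback f).obj L).presheaf.obj (Opposite.op ⊤)) (hD' : Cyc.IsZeroSchemeOf (pullback.fst f i) ((Scheme.Modules.pullback f).obj L) s') (k : ℤ) (α' : AlgebraicCycle X' ℤ) (hα' : α' ∈ Cyc.Zk X' δ' (k + 1)) (w : (ξ : X) → Cyc.secFibre L ξ) (hw : ∀ ξ, w ξ ≠ 0) (w' : (ξ : X') → Cyc.secFibre ((Scheme.Modules.pullback f).obj L) ξ) (hw' : ∀ ξ, w' ξ ≠ 0) (γ : AlgebraicCycle D ℤ) (hγ : ∀ d, γ d = Cyc.c1CapFun δ L ⇑(AlgebraicCycle.map f δ' δ α') (Cyc.gysinChoice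 L s w) (i d)) (γ' : AlgebraicCycle (pullback f i) ℤ) (hγ' : ∀ z, γ' z = Cyc.c1CapFun δ' ((Scheme.Modules.pullback f).obj L) ⇑α' (Cyc.gysinChoice ((Scheme.Modules.pullback f).obj L) s' w') (pullback.fst f i z)) : Cyc.RatEquiv (fun d => δ (i d)) k γ (AlgebraicCycle.map (pullback.snd f i) (fun z => δ' (pullback.fst f i z)) (fun d => δ (i d)) γ') := by
  classical
  haveI := hX.1
  haveI := hX'.1
  haveI := isLocallyNoetherian_closed i
  haveI := isLocallyNoetherian_closed (pullback.fst f i)
  have hL' : PicF.IsInvertible ((Scheme.Modules.pullback f).obj L) := AmpleLib.isInvertible_pullback f hL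
  have hv : ∀ η, Cyc.gysinChoice L s w η ≠ 0 := gysinChoice_ne_zero hw
  have hu : ∀ ξ, pullFib f L ξ (Cyc.gysinChoice L s w (f ξ)) ≠ 0 := fun ξ => pullFib_ne_zero f L hL (hv _)
  let γ₀ := c1Cycle hX'.2.2 hL' α' fun ξ => pullFib f L ξ (Cyc.gysinChoice L s w (f ξ))
  have hrange : Set.range (pullback.fst f i) = f ⁻¹' Set.range i := Scheme.Pullback.range_fst f i
  have hsupp : ∀ x, γ₀ x ≠ 0 → x ∈ Set.range (pullback.fst f i) := fun x hx => by
    obtain ⟨ξ, hξ⟩ := exists_ne_zero_finsum hx
    rw [hrange]
    exact mem_range_pull f hX'.2.2 hL hD (right_ne_zero_of_mul hξ)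
  have h1 : Cyc.RatEquiv (fun z => δ' (pullback.fst f i z)) k (restrictCycle (pullback.fst f i) γ₀) γ' :=
    ratEquiv_symm (isDimFun_closed _ hX'.2.2) (ratEquiv_gysin_pull f hX'.2.2 hL hD (pullback.fst f i) (Iso.refl _)
      (Category.id_comp _) hD' hw w' hw' α' hα' _ γ' (fun _ => rfl) hγ')
  have h2 : AlgebraicCycle.map (pullback.snd f i) (fun z => δ' (pullback.fst f i z)) (fun d => δ (i d))
      (restrictCycle (pullback.fst f i) γ₀) = γ := by
    ext d
    rw [hγ, ← map_c1Cap_pullFib f hX' hX hδ hL α' _ hv γ₀ (fun _ => rfl) (i d)]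
    exact map_restrict f i γ₀ hsupp d
  rw [← h2]
  exact ratEquiv_map (pullback.snd f i) (isSetup_closed (pullback.fst f i) hX') (isSetup_closed i hX)
    (deltaCompat_square hδ pullback.condition.symm) h1

end Groth.Agent.S1932
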