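import Groth.Statements.S19321
import Groth.Agent.CurveBddLib.Final
-- import your own Groth.Agent.* helpers here

set_option autoImplicit false
set_option backward.isDefEq.respectTransparency false
set_option maxHeartbeats 1600000
set_option backward.isDefEq.respectTransparency.types false
set_option linter.style.haveILetI false
set_option synthInstance.maxHeartbeats 200000
universe u
open CategoryTheory CategoryTheory.Limits AlgebraicGeometry
open DecSh

namespace Groth.Agent.S19321

open Groth.Agent CategoryTheory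

/-- Let k be an algebraically closed field of characteristic zero, X a reduced proper k-scheme of
dimension one without isolated points, and L an ample invertible O_X-module which is very ample
relative to some projective space over k; write χ for the Euler characteristic over k, M(m) = M ⊗
L^{⊗m}, h⁰(M) = dim_k H⁰(X, M), α(M) = χ(M ⊗ L) − χ(M). Fix δ > 0, integers α and e, natural numbers
a, b and a finite locally free O_X-module D. Then there is N₁ such that for every rational number C
the following family of coherent O_X-modules F′ is bounded: F′ admits a monomorphism with torsion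
free cokernel (a saturated subsheaf) into some coherent F with torsion free stalks, α(F) = α, χ(F) =
e, which carries a tensor field T of type (a, b) with values in D that is δ-semistable with respect
to L or satisfies for some m ≥ N₁ the quotient sectional condition Σ_i m_i (α(F/F_i) · χ(F(m)) − α ·
h⁰((F/F_i)(m))) + δ μ ≤ 0 for all weighted filtrations of F by coherent subsheaves; and |χ(F′) −
α(F′) · (e − aδ)/α| ≤ C. (The last condition is the source's |deg F′ − α(F′) μ_s| ≤ C with μ_s =
(deg F − aδ)/α, rewritten through χ: the correction terms by the rational rank cancel. The published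
setting is a reduced projective curve with a very ample polarisation and a locally free D, as here.) -/
theorem result
    (k : Type u) [Field k] [IsAlgClosed k] [CharZero k]
    (X : Scheme.{u}) [X.Over (Spec (CommRingCat.of k))] [IsProper (X ↘ Spec (CommRingCat.of k))]
    [AlgebraicGeometry.IsReduced X] (hdim : topologicalKrullDim X = 1)
    (hpure : ∀ x : X, ¬ IsOpen ({x} : Set X))
    (L : X.Modules) (hL : CohB1.IsAmple L) (hva : RelAmple.IsRelVeryAmplePn (X ↘ Spec (CommRingCat.of k)) L)
    (δ : ℚ) (hδ : 0 < δ) (α e : ℤ) (a b : ℕ) (D : X.Modules) (hD : FlatMod.IsFinLocFree D) :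
    ∃ N₁ : ℕ, ∀ C : ℚ, Pic13.IsBounded k X (fun F' => Coh.IsCoh F' ∧
      (∃ (F : X.Modules) (ι : F' ⟶ F), Mono ι ∧ TorSh.IsTorsionFree (cokernel ι) ∧
        Coh.IsCoh F ∧ TorSh.IsTorsionFree F ∧ DecSh.mult k X L F = α ∧ Curv2.euler k X F = e ∧
          ∃ T : DecSh.TF F a b D, (T.IsSemistable k L δ ∨ ∃ m : ℕ, N₁ ≤ m ∧
            ∀ 𝓕 : DecSh.WFilt F, (∀ i, Coh.IsCoh ((𝓕.piece i : Subobject F) : X.Modules)) →
              (∑ i, 𝓕.wt i * ((DecSh.mult k X L (cokernel (𝓕.piece i).arrow) : ℚ) *
                  (Curv2.euler k X (ShStab.twist X L F m) : ℚ) -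
                (α : ℚ) * (Module.finrank k (Coh.HH X (ShStab.twist X L (cokernel (𝓕.piece i).arrow) m) 0) : ℚ))) +
                δ * T.mu k L 𝓕 ≤ 0)) ∧
      |(Curv2.euler k X F' : ℚ) - (DecSh.mult k X L F' : ℚ) * (((e : ℚ) - (a : ℚ) * δ) / (α : ℚ))| ≤ C) := by
    classical
    haveI := EulerIneqLib.isNoetherian_proper (X := X) k
    obtain ⟨Nq, hNq⟩ := CurveBddLib.exists_slopeBdd_of_quot k hdim hL α e δ hδ.le a
    refine ⟨Nq, fun C => ?_⟩
    obtain ⟨B, hB⟩ : ∃ B : ℤ, B = ⌈C + |(α : ℚ)| * |((e : ℚ) - (a : ℚ) * δ) / (α : ℚ)|⌉ := ⟨_, rfl⟩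
    obtain ⟨S, t, h1, h2, U, hU, hb⟩ := CurveBddLib.isBounded_finset k hdim hL
      (Finset.Icc 0 α ×ˢ Finset.Icc (-B) B)
      (max ((e : ℚ) / (α : ℚ) + δ * (a : ℚ)) (|(e : ℚ)| + |((e : ℚ) - δ * a) / α| * |(α : ℚ)|))
    refine ⟨S, t, h1, h2, U, hU, fun F' ⟨hF', ⟨F, ι, hι, _, hF, htf, hα, he, T, hT⟩, hC⟩ => hb F' ?_⟩
    haveI := hι
    have hp := DecShCurveLib.isPure_of_torsionFree hdim hpure hF htf
    obtain ⟨hQ, hmQ, -⟩ := CurveBddLib.coker_facts k hdim hL ι hF' hF
    have h0 := CurveBddLib.mult_nonneg' k hdim hL hF'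
    have h0Q := CurveBddLib.mult_nonneg' k hdim hL hQ
    rw [hα] at hmQ
    refine ⟨hF', ShStabLib.isPure_of_mono hp ι,
      Finset.mem_product.2 ⟨Finset.mem_Icc.2 ⟨h0, by omega⟩, ?_⟩, fun G j hj hG hG0 => ?_⟩
    · have h3 : |(Curv2.euler k X F' : ℚ)| ≤ (B : ℚ) := by
        refine le_trans ?_ (hB ▸ Int.le_ceil _)
        have h4 : |(DecSh.mult k X L F' : ℚ) * (((e : ℚ) - (a : ℚ) * δ) / (α : ℚ))| ≤
            |(α : ℚ)| * |((e : ℚ) - (a : ℚ) * δ) / (α : ℚ)| := by
          rw [abs_mul]
          refine mul_le_mul_of_nonneg_right ?_ (abs_nonneg _)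
          rw [abs_of_nonneg (show (0 : ℚ) ≤ (DecSh.mult k X L F' : ℚ) by exact_mod_cast h0)]
          exact le_trans (by exact_mod_cast (show DecSh.mult k X L F' ≤ α by omega)) (le_abs_self _)
        have h5 := abs_sub_abs_le_abs_sub (Curv2.euler k X F' : ℚ)
          ((DecSh.mult k X L F' : ℚ) * (((e : ℚ) - (a : ℚ) * δ) / (α : ℚ)))
        linarith
      have h6 := abs_le.1 h3
      exact Finset.mem_Icc.2 ⟨by exact_mod_cast h6.1, by exact_mod_cast h6.2⟩
    · haveI := hj
      have hm : (0 : ℚ) ≤ (DecSh.mult k X L G : ℚ) := by exact_mod_cast CurveBddLib.mult_nonneg' k hdim hL hG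
      rcases hT with hT | ⟨m, hm', hT⟩
      · exact (CurveBddLib.slopeBdd_of_tf k hdim hL hpure hF htf T hδ hT hα he G (j ≫ ι) (mono_comp _ _) hG hG0).trans
          (mul_le_mul_of_nonneg_right (le_max_left _ _) hm)
      · exact (hNq F hF hp hα he m hm' (CurveBddLib.quot_single k hdim hL T hδ.le hF hp hα he hT) G (j ≫ ι)
          (mono_comp _ _) hG hG0).trans (mul_le_mul_of_nonneg_right (le_max_right _ _) hm)

end Groth.Agent.S19321
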