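import Groth.Statements.S19322
import Mathlib
import Groth.Agent.SpPageLib.Basic
-- import your own Groth.Agent.* helpers here

set_option autoImplicit false
universe v u
open CategoryTheory CategoryTheory.Limits
open SpSeq

namespace Groth.Agent.S19322

/-- Let K be a field and E a cohomological spectral sequence of K-vector spaces, pages from r₀,
concentrated in the first quadrant on page r₀ and with all terms of page r₀ finite-dimensional, and
let H be abutment data for E whose filtration in degree n is finite, H n finite-dimensional. If the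
dimensions of the page-r₀ terms E^{s, n-s}, 0 ≤ s ≤ n, add up to the dimension of H n, then every
position of total degree n is stationary from page r₀ on: all differentials into and out of it
vanish on every page. (The printed statement takes r₀ a positive integer and n ≥ 0; neither
restriction is needed.) -/
theorem result
    {K : Type u} [Field K] {r₀ : ℤ}
    (E : CohomologicalSpectralSequence (ModuleCat.{v} K) r₀) (H : ℤ → ModuleCat.{v} K)
    (a : SpSeq.Abutment E H) (n : ℤ) (hfin : a.IsFinite n)
    (hquad : ∀ pq : ℤ × ℤ, pq.1 < 0 ∨ pq.2 < 0 → IsZero ((E.page r₀ le_rfl).X pq))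
    (hfd : ∀ pq : ℤ × ℤ, Module.Finite K ((E.page r₀ le_rfl).X pq))
    (hH : Module.Finite K (H n))
    (hsum : ∑ s ∈ Finset.Icc (0 : ℤ) n, Module.finrank K ((E.page r₀ le_rfl).X (s, n - s)) =
      Module.finrank K (H n)) :
    ∀ s : ℤ, SpSeq.StationaryAt E (s, n - s) r₀ := by
  classical
  have hfin' : ∀ (r : ℤ) (hr : r₀ ≤ r) (pq : ℤ × ℤ), Module.Finite K ((E.page r hr).X pq) →
      Module.Finite K ((E.page (r + 1) (Int.le_add_one hr)).X pq) ∧
      Module.finrank K ((E.page (r + 1) (Int.le_add_one hr)).X pq) ≤ Module.finrank K ((E.page r hr).X pq) ∧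
      (Module.finrank K ((E.page (r + 1) (Int.le_add_one hr)).X pq) = Module.finrank K ((E.page r hr).X pq) →
        (E.page r hr).d (pq - (r, 1 - r)) pq = 0 ∧ (E.page r hr).d pq (pq + (r, 1 - r)) = 0) := by
    intro r hr pq hf
    let P := E.page r hr
    have hi : Function.Injective (P.iCycles pq).hom := (ModuleCat.mono_iff_injective _).1 inferInstance
    have hp : Function.Surjective (P.homologyπ pq).hom := (ModuleCat.epi_iff_surjective _).1 inferInstance
    haveI : Module.Finite K (P.cycles pq) := FiniteDimensional.of_injective (P.iCycles pq).hom hi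
    haveI : Module.Finite K (P.homology pq) := Module.Finite.of_surjective _ hp
    let e := (E.iso r (r + 1) pq rfl hr).toLinearEquiv
    haveI : Module.Finite K ((E.page (r + 1) (Int.le_add_one hr)).X pq) := Module.Finite.equiv e
    have l1 : Module.finrank K (P.cycles pq) ≤ Module.finrank K (P.X pq) :=
      LinearMap.finrank_le_finrank_of_injective hi
    have l2 : Module.finrank K (P.homology pq) ≤ Module.finrank K (P.cycles pq) :=
      LinearMap.finrank_le_finrank_of_surjective hp
    refine ⟨inferInstance, e.finrank_eq ▸ l2.trans l1, fun he => ?_⟩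
    rw [← e.finrank_eq] at he
    change Module.finrank K (P.homology pq) = Module.finrank K (P.X pq) at he
    have b1 : Function.Surjective (P.iCycles pq).hom :=
      (LinearMap.injective_iff_surjective_of_finrank_eq_finrank (le_antisymm l1 (he ▸ l2))).1 hi
    have b2 : Function.Injective (P.homologyπ pq).hom :=
      (LinearMap.injective_iff_surjective_of_finrank_eq_finrank (le_antisymm (he ▸ l1) l2)).2 hp
    haveI : Epi (P.iCycles pq) := (ModuleCat.epi_iff_surjective _).2 b1
    haveI : Mono (P.homologyπ pq) := (ModuleCat.mono_iff_injective _).2 b2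
    constructor
    · have h0 : P.toCycles (pq - (r, 1 - r)) pq = 0 := by
        rw [← cancel_mono (P.homologyπ pq), HomologicalComplex.toCycles_comp_homologyπ, zero_comp]
      rw [← HomologicalComplex.toCycles_i P (pq - (r, 1 - r)) pq, h0, zero_comp]
    · rw [← cancel_epi (P.iCycles pq), HomologicalComplex.iCycles_d, comp_zero]
  have hchain : ∀ (pq : ℤ × ℤ) (k : ℕ),
      Module.Finite K ((E.page (r₀ + k) (by omega)).X pq) ∧
      Module.finrank K ((E.page (r₀ + k) (by omega)).X pq) ≤ Module.finrank K ((E.page r₀ le_rfl).X pq) ∧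
      (Module.finrank K ((E.page (r₀ + k) (by omega)).X pq) = Module.finrank K ((E.page r₀ le_rfl).X pq) →
        ∀ j : ℕ, j < k → (E.page (r₀ + j) (by omega)).d (pq - (r₀ + j, 1 - (r₀ + j))) pq = 0 ∧
          (E.page (r₀ + j) (by omega)).d pq (pq + (r₀ + j, 1 - (r₀ + j))) = 0) := by
    intro pq k
    induction k with
    | zero =>
      let e := (E.pageXIsoOfEq pq (r₀ + (0 : ℕ)) r₀ (by simp) (by omega)).toLinearEquiv
      haveI := hfd pq
      exact ⟨Module.Finite.equiv e.symm, e.finrank_eq.le, fun _ j hj => absurd hj (by omega)⟩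
    | succ k ih =>
      obtain ⟨h1, h2, h3⟩ := ih
      obtain ⟨g1, g2, g3⟩ := hfin' (r₀ + k) (by omega) pq h1
      let e := (E.pageXIsoOfEq pq (r₀ + (k + 1 : ℕ)) (r₀ + k + 1) (by push_cast; ring) (by omega)).toLinearEquiv
      haveI := g1
      refine ⟨Module.Finite.equiv e.symm, e.finrank_eq ▸ g2.trans h2, fun he j hj => ?_⟩
      rw [e.finrank_eq] at he
      rcases Nat.lt_succ_iff_lt_or_eq.1 hj with hj | rfl
      · exact h3 (by omega) j hj
      · exact g3 (by omega)
  let k : ℤ → ℕ := fun s => (max r₀ (a.rk (s, n - s)) - r₀).toNat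
  let g : ℤ → ℕ := fun s => Module.finrank K ((E.page (r₀ + k s) (by omega)).X (s, n - s))
  have hgr : ∀ s, Module.finrank K (SpSeq.grPiece (a.fil n) (a.anti n) s : ModuleCat.{v} K) = g s := by
    intro s
    have key : ∀ m, m = n → Module.finrank K (SpSeq.grPiece (a.fil m) (a.anti m) s : ModuleCat.{v} K) =
        Module.finrank K (SpSeq.grPiece (a.fil n) (a.anti n) s : ModuleCat.{v} K) := fun m hm => by subst hm; rfl
    rw [← key (((s, n - s) : ℤ × ℤ).1 + ((s, n - s) : ℤ × ℤ).2) (by simp)]
    obtain ⟨e⟩ := Groth.Agent.SpPageLib.stationary_iso' E (a.stat (s, n - s))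
      (r' := r₀ + k s) (by have := (a.stat (s, n - s)).1; simp only [k]; omega)
    exact ((a.β (s, n - s)).symm ≪≫ e.symm).toLinearEquiv.finrank_eq
  have hfH : ∀ p, Module.Finite K (a.fil n p : ModuleCat.{v} K) := fun p =>
    FiniteDimensional.of_injective (a.fil n p).arrow.hom ((ModuleCat.mono_iff_injective _).1 inferInstance)
  let dd : ℤ → ℕ := fun p => Module.finrank K (a.fil n p : ModuleCat.{v} K)
  have hstep : ∀ p, dd p = dd (p + 1) + Module.finrank K (SpSeq.grPiece (a.fil n) (a.anti n) p : ModuleCat.{v} K) := by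
    intro p
    let f := Subobject.ofLE _ _ (a.anti n (Int.le_add_one (le_refl p)))
    have hf : Function.Injective f.hom := (ModuleCat.mono_iff_injective f).1 inferInstance
    haveI := hfH p
    have e1 : Module.finrank K (SpSeq.grPiece (a.fil n) (a.anti n) p : ModuleCat.{v} K) =
        Module.finrank K ((a.fil n p : ModuleCat.{v} K) ⧸ LinearMap.range f.hom) :=
      (ModuleCat.cokernelIsoRangeQuotient f).toLinearEquiv.finrank_eq
    rw [e1]
    have e2 := Submodule.finrank_quotient_add_finrank (LinearMap.range f.hom)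
    rw [LinearMap.finrank_range_of_inj hf] at e2
    simp only [dd]; omega
  obtain ⟨⟨A, hA⟩, ⟨B, hB⟩⟩ := hfin
  change a.fil n A = ⊤ at hA
  change a.fil n B = ⊥ at hB
  have hzero : ∀ s, s < 0 ∨ n < s → g s = 0 := fun s hs => by
    have hle := (hchain (s, n - s) (k s)).2.1
    have h0 := hquad (s, n - s) (by rcases hs with h | h <;> [left; right] <;> simp only <;> omega)
    haveI := ModuleCat.subsingleton_of_isZero h0
    rw [Module.finrank_zero_of_subsingleton (M := (E.page r₀ le_rfl).X (s, n - s))] at hle
    exact Nat.le_zero.1 hle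
  let A' := min A 0
  let B' := max B (n + 1)
  have hA' : dd A' = Module.finrank K (H n) := by
    have : a.fil n A' = ⊤ := eq_top_iff.2 (hA ▸ a.anti n (min_le_left _ _))
    exact ((Subobject.isoOfEq _ _ this ≪≫ asIso (⊤ : Subobject (H n)).arrow).toLinearEquiv).finrank_eq
  have hB' : dd B' = 0 := by
    have : a.fil n B' = ⊥ := eq_bot_iff.2 (hB ▸ a.anti n (le_max_left _ _))
    haveI := ModuleCat.subsingleton_of_isZero ((isZero_zero _).of_iso
      (Subobject.isoOfEq _ _ this ≪≫ Subobject.botCoeIsoZero))
    exact Module.finrank_zero_of_subsingleton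
  have htel : ∀ m : ℕ, dd A' = dd (A' + m) + ∑ s ∈ Finset.Ico A' (A' + m), g s := by
    intro m
    induction m with
    | zero => simp
    | succ m ih =>
      have e : Finset.Ico A' (A' + (m + 1 : ℕ)) = insert (A' + m) (Finset.Ico A' (A' + m)) := by
        ext x; simp only [Finset.mem_Ico, Finset.mem_insert]; omega
      rw [ih, e, Finset.sum_insert (by simp), hstep (A' + m), hgr,
        show A' + (m + 1 : ℕ) = A' + m + 1 by push_cast; ring]
      ring
  have hH' : Module.finrank K (H n) = ∑ s ∈ Finset.Icc (0 : ℤ) n, g s := by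
    rcases lt_or_ge A' (B' + 1) with hab | hab
    · have := htel (B' - A').toNat
      have hle : A' ≤ B' := by omega
      rw [show A' + ((B' - A').toNat : ℤ) = B' by omega, hB', zero_add, hA'] at this
      rw [this]
      refine (Finset.sum_subset (fun x hx => ?_) fun x _ hx => hzero x ?_).symm
      · simp only [Finset.mem_Icc, Finset.mem_Ico] at hx ⊢; omega
      · simp only [Finset.mem_Icc] at hx; omega
    · have hne : Finset.Icc (0 : ℤ) n = ∅ := Finset.Icc_eq_empty (by omega)
      rw [hne] at hsum
      simp [hne, ← hsum]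
  rw [hH'] at hsum
  intro s
  have heq : g s = Module.finrank K ((E.page r₀ le_rfl).X (s, n - s)) := by
    by_cases hs : 0 ≤ s ∧ s ≤ n
    · refine (Finset.sum_eq_sum_iff_of_le fun i _ => (hchain (i, n - i) (k i)).2.1).1 hsum.symm s ?_
      simpa using hs
    · have hs' : s < 0 ∨ n < s := by omega
      have h0 := hquad (s, n - s) (by rcases hs' with h | h <;> [left; right] <;> simp only <;> omega)
      haveI := ModuleCat.subsingleton_of_isZero h0
      rw [hzero s hs', Module.finrank_zero_of_subsingleton]
  refine ⟨le_rfl, fun r' h₀ _ => ?_⟩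
  by_cases hr' : a.rk (s, n - s) ≤ r'
  · exact (a.stat (s, n - s)).2 r' h₀ hr'
  · obtain ⟨j, rfl⟩ : ∃ j : ℕ, r' = r₀ + j := ⟨(r' - r₀).toNat, by omega⟩
    exact (hchain (s, n - s) (k s)).2.2 heq j (by simp only [k]; omega)

end Groth.Agent.S19322
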