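import Groth.Statements.S19323
import Mathlib
import Groth.Agent.SpPageLib.Basic
-- import your own Groth.Agent.* helpers here

set_option autoImplicit false
universe v u
open CategoryTheory CategoryTheory.Limits
open SpSeq

namespace Groth.Agent.S19323

/-- In an abelian category let E and E' be first-quadrant E₂ cohomological spectral sequences and φ : E
⟶ E' a morphism of spectral sequences such that (i) every differential of E' leaving a position
whose first coordinate is nonzero vanishes, (ii) on every page the map φ at each position followed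
by the outgoing differential of E' is zero, and (iii) φ is a monomorphism at every position of page
2. Then E degenerates at page 2. -/
theorem result
    {C : Type u} [Category.{v} C] [Abelian C]
    (E E' : E₂CohomologicalSpectralSequence C) (φ : E ⟶ E')
    (hE : ∀ pq : ℤ × ℤ, pq.1 < 0 ∨ pq.2 < 0 → IsZero ((E.page 2 le_rfl).X pq))
    (hE' : ∀ pq : ℤ × ℤ, pq.1 < 0 ∨ pq.2 < 0 → IsZero ((E'.page 2 le_rfl).X pq))
    (hd' : ∀ (r : ℤ) (hr : 2 ≤ r) (pq : ℤ × ℤ), pq.1 ≠ 0 →
      (E'.page r hr).d pq (pq + (r, 1 - r)) = 0)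
    (hφd : ∀ (r : ℤ) (hr : 2 ≤ r) (pq : ℤ × ℤ),
      (φ.hom r hr).f pq ≫ (E'.page r hr).d pq (pq + (r, 1 - r)) = 0)
    (hmono : ∀ pq : ℤ × ℤ, Mono ((φ.hom 2 le_rfl).f pq)) :
    SpSeq.Degenerates E 2 := by
  have hZ : ∀ (r : ℤ) (hr : 2 ≤ r) (pq : ℤ × ℤ), pq.1 < 0 ∨ pq.2 < 0 → IsZero ((E.page r hr).X pq) :=
    fun r hr pq h => Groth.Agent.SpPageLib.isZero_later E 2 le_rfl pq (hE pq h) r hr
  have hd : ∀ (r : ℤ) (hr : 2 ≤ r), (∀ pq : ℤ × ℤ, r ≤ pq.1 → Mono ((φ.hom r hr).f pq)) →
      ∀ pq pq' : ℤ × ℤ, (E.page r hr).d pq pq' = 0 := by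
    intro r hr hm pq pq'
    by_cases hrel : pq + (r, 1 - r) = pq'
    · subst hrel
      rcases lt_or_ge pq.1 0 with h0 | h0
      · exact (hZ r hr pq (Or.inl h0)).eq_of_src _ _
      · haveI := hm (pq + (r, 1 - r)) (by simp only [Prod.fst_add]; omega)
        rw [← cancel_mono ((φ.hom r hr).f (pq + (r, 1 - r))), zero_comp, ← (φ.hom r hr).comm, hφd r hr pq]
    · exact (E.page r hr).shape _ _ hrel
  have hm : ∀ (k : ℕ) (pq : ℤ × ℤ), (2 : ℤ) + k ≤ pq.1 → Mono ((φ.hom (2 + k) (by omega)).f pq) := by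
    intro k
    induction k with
    | zero =>
      intro pq _
      have : ∀ r (hr : 2 ≤ r), r = 2 → Mono ((φ.hom r hr).f pq) := fun r hr h => by subst h; exact hmono pq
      exact this _ _ (by simp)
    | succ k ih =>
      intro pq hpq
      let r : ℤ := 2 + k
      have hr : 2 ≤ r := by omega
      have hr1 : r + 1 ≤ pq.1 := by push_cast at hpq; omega
      have e1 := hd r hr ih
      haveI : Mono ((φ.hom r hr).f pq) := ih pq (by omega)
      have h1' : (E'.page r hr).d (pq - (r, 1 - r)) pq = 0 := by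
        have := hd' r hr (pq - (r, 1 - r)) (by simp only [Prod.fst_sub]; omega)
        rwa [sub_add_cancel] at this
      haveI i1 := (E.page r hr).isIso_homologyπ _ pq (Groth.Agent.SpPageLib.prev_eq E r pq) (e1 _ _)
      haveI i2 := (E'.page r hr).isIso_homologyπ _ pq (Groth.Agent.SpPageLib.prev_eq E' r pq) h1'
      haveI : Mono (HomologicalComplex.cyclesMap (φ.hom r hr) pq) := by
        haveI : Mono (HomologicalComplex.cyclesMap (φ.hom r hr) pq ≫ (E'.page r hr).iCycles pq) := by
          rw [HomologicalComplex.cyclesMap_i]; infer_instance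
        exact mono_of_mono _ ((E'.page r hr).iCycles pq)
      haveI : Mono (HomologicalComplex.homologyMap (φ.hom r hr) pq) := by
        have : HomologicalComplex.homologyMap (φ.hom r hr) pq = inv ((E.page r hr).homologyπ pq) ≫
            HomologicalComplex.cyclesMap (φ.hom r hr) pq ≫ (E'.page r hr).homologyπ pq := by
          rw [IsIso.eq_inv_comp, HomologicalComplex.homologyπ_naturality]
        rw [this]; infer_instance
      have : (φ.hom (r + 1) (by omega)).f pq = (E.iso r (r + 1) pq rfl hr).inv ≫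
          HomologicalComplex.homologyMap (φ.hom r hr) pq ≫ (E'.iso r (r + 1) pq rfl hr).hom := by
        rw [φ.comm r (r + 1) pq rfl hr, Iso.inv_hom_id_assoc]
      have key : ∀ r' (h' : 2 ≤ r'), r' = r + 1 → Mono ((φ.hom r' h').f pq) := fun r' h' h => by
        subst h; rw [this]; infer_instance
      exact key _ _ (by simp only [r]; push_cast; ring)
  refine ⟨le_rfl, fun r' h₀ _ pq pq' => ?_⟩
  obtain ⟨k, rfl⟩ : ∃ k : ℕ, r' = 2 + k := ⟨(r' - 2).toNat, by omega⟩
  exact hd _ h₀ (hm k) pq pq'

end Groth.Agent.S19323
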