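import Groth.Statements.S19326
import Groth.Agent.Comodule.Basic

set_option autoImplicit false
universe u
open TensorProduct
open GLin

namespace Groth.Agent.S19326

/-- Let k be a field, M a finite abelian group and D = Spec k[M] the finite diagonalizable group scheme
it defines, acting on an affine k-scheme U = Spec R through a multiplicative coaction R → R ⊗ k[M];
write R_a for the weight space of a ∈ M (elements with coaction f ⊗ a). For an ideal J of R the
induced action of D on the closed subscheme V(J) is trivial, meaning that the coaction followed by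
reduction modulo J equals f ↦ (f mod J) ⊗ 1, exactly when J contains the ideal generated by the
weight spaces R_a for a ≠ 0; in other words that ideal defines the largest closed subscheme of U on
which D acts trivially. (The printed setting has U smooth, which plays no role here and is not
assumed; the further assertion that the construction commutes with flat base change on U/D is not
part of this statement.) -/
theorem result
    {k : Type u} [Field k] {M : Type u} [AddCommGroup M] [Finite M]
    {R : Type u} [CommRing R] [Algebra k R] [HopfRep.Comod k (AddMonoidAlgebra k M) R]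
    [GLin.IsCoactAlg k (AddMonoidAlgebra k M) R] (J : Ideal R) :
    (∀ f : R, LinearMap.rTensor (AddMonoidAlgebra k M) (Ideal.Quotient.mkₐ k J).toLinearMap
        (HopfRep.Comod.coact (k := k) (A := AddMonoidAlgebra k M) f) =
        (Ideal.Quotient.mk J f) ⊗ₜ[k] (1 : AddMonoidAlgebra k M)) ↔
      Ideal.span (⋃ (a : M) (_ : a ≠ 0),
        (HopfRep.eigenspace k (AddMonoidAlgebra k M) R (AddMonoidAlgebra.single a 1) : Set R)) ≤ J := by
  classical
  haveI := Fintype.ofFinite M
  let ρ := HopfRep.Comod.coact (k := k) (A := AddMonoidAlgebra k M) (V := R)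
  let c : M → (AddMonoidAlgebra k M →ₗ[k] k) := fun a => Finsupp.lapply a ∘ₗ (AddMonoidAlgebra.coeffLinearEquiv k).toLinearMap
  have hc : ∀ a b, c a (AddMonoidAlgebra.single b (1 : k)) = if b = a then 1 else 0 := fun a b => by
    simp [c, Finsupp.single_apply]
  constructor
  · intro h
    rw [Ideal.span_le]
    intro f hf
    simp only [Set.mem_iUnion] at hf
    obtain ⟨a, ha, hf⟩ := hf
    have h1 := h f
    rw [show HopfRep.Comod.coact (k := k) (A := AddMonoidAlgebra k M) f = f ⊗ₜ[k] AddMonoidAlgebra.single a 1 from hf,
      LinearMap.rTensor_tmul] at h1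
    have h2 := congrArg (Groth.Agent.Comodule.rcon (c a)) h1
    rw [Groth.Agent.Comodule.rcon_tmul, Groth.Agent.Comodule.rcon_tmul, hc, if_pos rfl,
      show c a (1 : AddMonoidAlgebra k M) = 0 from (hc a 0).trans (if_neg ha.symm), one_smul, zero_smul] at h2
    exact Ideal.Quotient.eq_zero_iff_mem.1 h2
  · intro h f
    have hsum : f = ∑ a : M, Groth.Agent.Comodule.dact (c a) f := by
      have he : (1 : WithConv (AddMonoidAlgebra k M →ₗ[k] k)).ofConv = ∑ a : M, c a := by
        refine AddMonoidAlgebra.lhom_ext' fun b => LinearMap.ext fun r => ?_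
        simp [c, LinearMap.convOne_def, Finsupp.single_apply]
      conv_lhs => rw [← Groth.Agent.Comodule.dact_one (k := k) (C := AddMonoidAlgebra k M) f, he]
      exact map_sum (AddMonoidHom.mk' (fun φ : AddMonoidAlgebra k M →ₗ[k] k => Groth.Agent.Comodule.dact (k := k) φ f)
        fun p q => Groth.Agent.Comodule.dact_add (k := k) p q f) c Finset.univ
    have hw : ∀ a, ρ (Groth.Agent.Comodule.dact (c a) f) =
        Groth.Agent.Comodule.dact (c a) f ⊗ₜ[k] AddMonoidAlgebra.single a 1 := by
      intro a
      refine Groth.Agent.Comodule.ext_rcon fun g => ?_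
      rw [Groth.Agent.Comodule.rcon_tmul, ← Groth.Agent.Comodule.dact_smul]
      refine (Groth.Agent.Comodule.dact_mul g (c a) f).symm.trans
        (congrArg (fun φ : AddMonoidAlgebra k M →ₗ[k] k => Groth.Agent.Comodule.dact φ f) ?_)
      refine AddMonoidAlgebra.lhom_ext' fun b => LinearMap.ext fun r => ?_
      simp only [LinearMap.comp_apply, AddMonoidAlgebra.lsingle_apply]
      rw [show AddMonoidAlgebra.single b r = r • AddMonoidAlgebra.single b (1 : k) by simp, map_smul, map_smul]
      congr 1
      rw [LinearMap.convMul_apply]
      simp only [LinearMap.smul_apply, hc]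
      by_cases hb : b = a
      · subst hb; simp [hc]
      · simp [hc, hb]
    rw [hsum]
    simp only [map_sum, TensorProduct.sum_tmul]
    refine Finset.sum_congr rfl fun a _ => ?_
    rw [show HopfRep.Comod.coact (k := k) (A := AddMonoidAlgebra k M) (Groth.Agent.Comodule.dact (c a) f) = _ from hw a,
      LinearMap.rTensor_tmul]
    by_cases ha : a = 0
    · subst ha; rfl
    · have hmem : Groth.Agent.Comodule.dact (c a) f ∈ J := h (Ideal.subset_span (Set.mem_iUnion₂.2 ⟨a, ha, hw a⟩))
      rw [AlgHom.toLinearMap_apply, Ideal.Quotient.mkₐ_eq_mk, Ideal.Quotient.eq_zero_iff_mem.2 hmem,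
        TensorProduct.zero_tmul, TensorProduct.zero_tmul]

end Groth.Agent.S19326
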