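import Groth.Statements.S19328
import Mathlib.AlgebraicGeometry.Sites.MorphismProperty
import Mathlib.AlgebraicGeometry.Morphisms.Flat
import Mathlib.AlgebraicGeometry.Morphisms.FinitePresentation
import Mathlib.RingTheory.Polynomial.ScaleRoots
import Mathlib.RingTheory.AdjoinRoot
import Mathlib.FieldTheory.IsAlgClosed.Basic
import Mathlib.RingTheory.Flat.FaithfullyFlat.Algebra

set_option autoImplicit false
universe u
open CategoryTheory CategoryTheory.Limits AlgebraicGeometry
open ModPair

namespace Groth.Agent.S19328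

open Polynomial in
lemma exists_root_of_monic (A : Type u) [CommRing A] [Nontrivial A]
    (hloc : ∀ (X : Scheme.{u}) (R : Presieve X),
      R ∈ Scheme.precoverage (@Flat ⊓ @LocallyOfFinitePresentation ⊓ @QuasiCompact ⊓ @QuasiSeparated) X →
      ∀ g : Spec (CommRingCat.of A) ⟶ X,
        ∃ (Y : Scheme.{u}) (v : Y ⟶ X) (h : Spec (CommRingCat.of A) ⟶ Y), R v ∧ h ≫ v = g)
    (F : Polynomial A) (hF : F.Monic) (hd : 0 < F.natDegree) : ∃ x : A, F.eval x = 0 := by
  haveI : Module.Free A (AdjoinRoot F) := hF.free_adjoinRoot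
  haveI : Nontrivial (AdjoinRoot F) := by
    have := (AdjoinRoot.powerBasis' hF)
    exact (AdjoinRoot.powerBasis' hF).basis.repr.toEquiv.nontrivial_congr.mpr (by
      haveI : Nonempty (Fin (AdjoinRoot.powerBasis' hF).dim) := ⟨⟨0, by simpa using hd⟩⟩
      infer_instance)
  haveI : Module.FaithfullyFlat A (AdjoinRoot F) := inferInstance
  let v : Spec (CommRingCat.of (AdjoinRoot F)) ⟶ Spec (CommRingCat.of A) :=
    Spec.map (CommRingCat.ofHom (algebraMap A (AdjoinRoot F)))
  have hflat : Flat v := by
    rw [HasRingHomProperty.Spec_iff (P := @Flat)]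
    exact RingHom.flat_algebraMap_iff.mpr inferInstance
  have hfp : LocallyOfFinitePresentation v := by
    rw [HasRingHomProperty.Spec_iff (P := @LocallyOfFinitePresentation)]
    exact RingHom.finitePresentation_algebraMap.mpr (AdjoinRoot.finitePresentation F)
  have hsurj : Function.Surjective v := PrimeSpectrum.comap_surjective_of_faithfullyFlat
  have hmem : Presieve.singleton v ∈
      Scheme.precoverage (@Flat ⊓ @LocallyOfFinitePresentation ⊓ @QuasiCompact ⊓ @QuasiSeparated)
        (Spec (CommRingCat.of A)) := by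
    rw [Scheme.singleton_mem_precoverage_iff]
    exact ⟨hsurj, ⟨⟨⟨hflat, hfp⟩, inferInstanceAs (QuasiCompact v)⟩, inferInstanceAs (QuasiSeparated v)⟩⟩
  obtain ⟨Y, w, h, hw, hh⟩ := hloc _ _ hmem (𝟙 _)
  obtain ⟨⟩ := hw
  obtain ⟨ψ, rfl⟩ := Spec.map_surjective h
  have hc : CommRingCat.ofHom (algebraMap A (AdjoinRoot F)) ≫ ψ = 𝟙 _ := by
    apply Spec.map_injective
    rw [Spec.map_comp, Spec.map_id]
    exact hh
  refine ⟨ψ.hom (AdjoinRoot.root F), ?_⟩
  have hc' : ψ.hom.comp (algebraMap A (AdjoinRoot F)) = RingHom.id A :=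
    congrArg CommRingCat.Hom.hom hc
  have hr := congrArg ψ.hom (AdjoinRoot.eval₂_root F)
  rw [AdjoinRoot.algebraMap_eq] at hc'
  rw [Polynomial.hom_eval₂, map_zero, hc'] at hr
  exact hr

lemma exists_scaleRoots_lift (A : Type u) [CommRing A] (p : Ideal A) [p.IsPrime]
    (f : Polynomial p.ResidueField) (hf : f.Monic) :
    ∃ s : p.ResidueField, s ≠ 0 ∧ ∃ F : Polynomial A, F.Monic ∧ F.natDegree = f.natDegree ∧
      F.map (algebraMap A p.ResidueField) = f.scaleRoots s := by
  classical
  obtain ⟨b, hb⟩ := IsLocalization.exist_integer_multiples_of_finset (nonZeroDivisors (A ⧸ p))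
    (f.support.image f.coeff : Finset p.ResidueField)
  obtain ⟨b₀, hb₀⟩ := Ideal.Quotient.mk_surjective (b : A ⧸ p)
  refine ⟨algebraMap (A ⧸ p) p.ResidueField b, ?_, ?_⟩
  · intro h0
    exact nonZeroDivisors.coe_ne_zero b
      (IsFractionRing.injective (A ⧸ p) p.ResidueField (by rw [h0, map_zero]))
  set s := algebraMap (A ⧸ p) p.ResidueField b with hs
  have hl : f.scaleRoots s ∈ Polynomial.lifts (algebraMap A p.ResidueField) := by
    rw [Polynomial.lifts_iff_coeff_lifts]
    intro k
    by_cases hk : k ∈ f.support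
    · rcases Nat.lt_or_ge k f.natDegree with hlt | hge
      · obtain ⟨a, ha⟩ := hb (f.coeff k) (Finset.mem_image_of_mem _ hk)
        obtain ⟨a₀, rfl⟩ := Ideal.Quotient.mk_surjective a
        refine ⟨a₀ * b₀ ^ (f.natDegree - k - 1), ?_⟩
        rw [Polynomial.coeff_scaleRoots, map_mul, map_pow]
        have e1 : algebraMap A p.ResidueField a₀ = s * f.coeff k := by
          rw [IsScalarTower.algebraMap_apply A (A ⧸ p) p.ResidueField]
          rw [Algebra.smul_def] at ha
          exact ha
        have e2 : algebraMap A p.ResidueField b₀ = s := by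
          rw [IsScalarTower.algebraMap_apply A (A ⧸ p) p.ResidueField, hs, ← hb₀]
          rfl
        rw [e1, e2]
        obtain ⟨d, hd⟩ : ∃ d, f.natDegree - k = d + 1 := ⟨f.natDegree - k - 1, by omega⟩
        rw [hd, Nat.add_sub_cancel]
        ring
      · refine ⟨1, ?_⟩
        have : k = f.natDegree := le_antisymm (Polynomial.le_natDegree_of_mem_supp k hk) hge
        subst this
        simp [Polynomial.coeff_scaleRoots, hf.coeff_natDegree]
    · refine ⟨0, ?_⟩
      simp [Polynomial.coeff_scaleRoots, Polynomial.notMem_support_iff.mp hk]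
  have hne : Nontrivial p.ResidueField := inferInstance
  obtain ⟨F, hFmap, hFdeg, hFm⟩ := Polynomial.lifts_and_natDegree_eq_and_monic hl
    ((Polynomial.monic_scaleRoots_iff s).mpr hf)
  exact ⟨F, hFm, hFdeg.trans (Polynomial.natDegree_scaleRoots f s), hFmap⟩

/-- Let A be a commutative ring such that Spec A is local for fppf coverings, in the sense that for
every scheme X, every jointly surjective family of morphisms to X each of which is flat and of
finite presentation (locally of finite presentation, quasi-compact and quasi-separated), and every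
morphism Spec A ⟶ X, the morphism factors through a member of the family. Then the residue field of
A at every prime ideal is algebraically closed. -/
theorem result (A : Type u) [CommRing A]
    (hloc : ∀ (X : Scheme.{u}) (R : Presieve X),
      R ∈ Scheme.precoverage (@Flat ⊓ @LocallyOfFinitePresentation ⊓ @QuasiCompact ⊓ @QuasiSeparated) X →
      ∀ g : Spec (CommRingCat.of A) ⟶ X,
        ∃ (Y : Scheme.{u}) (v : Y ⟶ X) (h : Spec (CommRingCat.of A) ⟶ Y), R v ∧ h ≫ v = g)
    (p : Ideal A) [p.IsPrime] : IsAlgClosed p.ResidueField := by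
  haveI : Nontrivial A := p.ne_top_iff_one.mp Ideal.IsPrime.ne_top' |> fun h =>
    ⟨0, 1, fun e => h (e ▸ p.zero_mem)⟩
  refine IsAlgClosed.of_exists_root _ fun f hf hirr => ?_
  obtain ⟨s, hs, F, hF, hdeg, hmap⟩ := exists_scaleRoots_lift A p f hf
  obtain ⟨x, hx⟩ := exists_root_of_monic A hloc F hF (hdeg ▸ hirr.natDegree_pos)
  refine ⟨s⁻¹ * algebraMap A p.ResidueField x, ?_⟩
  have h0 : (f.scaleRoots s).eval (s * (s⁻¹ * algebraMap A p.ResidueField x)) = 0 := by
    rw [mul_inv_cancel_left₀ hs, ← hmap, Polynomial.eval_map, Polynomial.eval₂_hom, hx, map_zero]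
  rw [Polynomial.scaleRoots_eval_mul] at h0
  exact (mul_eq_zero.mp h0).resolve_left (pow_ne_zero _ hs)

end Groth.Agent.S19328
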