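import Groth.Statements.S19329
import Groth.Agent.ModPairLib.Pair

set_option autoImplicit false
universe u
open CategoryTheory CategoryTheory.Limits AlgebraicGeometry TopologicalSpace
open ModPair

namespace Groth.Agent.S19329

/-- Let (X, I), (Y, J), (Z, K) be modulus pairs, i.e. schemes with quasi-coherent ideal sheaves of
effective Cartier divisors, and let f : X ⟶ Y and g : Y ⟶ Z satisfy the modulus conditions I ≤
J.comap f and J ≤ K.comap g. Suppose the composite X ⟶ Z is minimal, I = K.comap (f ≫ g). Then f is
minimal, and there is an open subset U of Y whose inclusion is quasi-compact, which contains the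
image of f, and such that U ⟶ Z is minimal for the modulus of Y restricted to U. -/
theorem result {X Y Z : Scheme.{u}}
    (I : X.IdealSheafData) (J : Y.IdealSheafData) (K : Z.IdealSheafData)
    (hI : BlowUp.IsEffCartierIdeal I) (hJ : BlowUp.IsEffCartierIdeal J)
    (hK : BlowUp.IsEffCartierIdeal K) (f : X ⟶ Y) (g : Y ⟶ Z)
    (hf : ModPair.IsAmbient I J f) (hg : ModPair.IsAmbient J K g)
    (hfg : ModPair.IsMinimal I K (f ≫ g)) :
    ModPair.IsMinimal I J f ∧
      ∃ U : Y.Opens, QuasiCompact U.ι ∧ Set.range f.base ⊆ (U : Set Y) ∧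
        ModPair.IsMinimal (J.comap U.ι) K (U.ι ≫ g) := by
  have hKl := (Groth.Agent.ModPairLib.isLP_of_cart hK).comap g
  have hKc : BlowUp.IsEffCartierIdeal (K.comap g) := Groth.Agent.ModPairLib.cart_of_le hJ hKl hg
  obtain ⟨R, hR, hRe⟩ := Groth.Agent.ModPairLib.exists_residual hJ (Groth.Agent.ModPairLib.isLP_of_cart hKc) hg
  have hmin : ModPair.IsMinimal I J f := le_antisymm hf (by
    rw [show I = K.comap (f ≫ g) from hfg, Scheme.IdealSheafData.comap_comp]
    exact Scheme.IdealSheafData.comap_mono f hg)
  refine ⟨hmin, ModPair.interior R, ?_, ?_, ?_⟩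
  · haveI := Groth.Agent.ModPairLib.isAffineHom_interior (Groth.Agent.ModPairLib.isLP_of_cart hR)
    infer_instance
  · have htop : R.comap f = ⊤ := Groth.Agent.ModPairLib.mul_right_cancel' (D := I) hI (by
      rw [Scheme.IdealSheafData.top_mul]
      conv_rhs => rw [show I = J.comap f from hmin, ← hRe, Groth.Agent.BlowCompLib.comap_mul]
      rw [show I = K.comap (f ≫ g) from hfg, Scheme.IdealSheafData.comap_comp])
    rintro _ ⟨x, rfl⟩
    have h1 : x ∈ ModPair.interior (R.comap f) := by
      rw [htop]
      intro h
      rw [Scheme.IdealSheafData.support_top] at h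
      exact h
    rw [Groth.Agent.ModPairLib.interior_comap] at h1
    exact h1
  · show _ = _
    rw [← hRe, Groth.Agent.BlowCompLib.comap_mul, Groth.Agent.ModPairLib.comap_interior_ι,
      Scheme.IdealSheafData.top_mul, ← Scheme.IdealSheafData.comap_comp]

end Groth.Agent.S19329
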