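import Groth.Statements.S1933
import Groth.Agent.CycLib.GysinPull

set_option autoImplicit false
universe u
open CategoryTheory AlgebraicGeometry
open CategoryTheory.Limits
open Cyc

namespace Groth.Agent.S1933

open CategoryTheory CategoryTheory.Limits AlgebraicGeometry

open Groth.Agent Groth.Agent.CycLib

theorem map_maximalIdeal_of_surjective {R S : Type u} [CommRing R] [CommRing S] [IsLocalRing R] [IsLocalRing S]
    (φ : R →+* S) (hφ : Function.Surjective φ) :
    (IsLocalRing.maximalIdeal R).map φ = IsLocalRing.maximalIdeal S := by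
  haveI := hφ.isLocalHom φ
  rw [← IsLocalRing.maximalIdeal_comap φ, Ideal.map_comap_of_surjective φ hφ]

theorem length_quot_map {R S : Type u} [CommRing R] [CommRing S] (φ : R →+* S) (hφ : Function.Surjective φ)
    {I : Ideal R} (hI : RingHom.ker φ ≤ I) : Module.length R (R ⧸ I) = Module.length S (S ⧸ I.map φ) := by
  letI := φ.toAlgebra
  let g : R →ₗ[R] S ⧸ I.map φ := ((Submodule.mkQ (I.map φ)).restrictScalars R).comp (Algebra.linearMap R S)
  have hg : LinearMap.ker g = I := by
    ext a
    show Submodule.Quotient.mk (φ a) = (0 : S ⧸ I.map φ) ↔ _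
    rw [Submodule.Quotient.mk_eq_zero]
    show a ∈ (I.map φ).comap φ ↔ _
    rw [Ideal.comap_map_of_surjective' _ hφ, sup_eq_left.2 hI]
  have hs : Function.Surjective g := fun q => Submodule.Quotient.induction_on _ q fun b => (hφ b).elim fun a ha =>
    ⟨a, by show Submodule.Quotient.mk (φ a) = _; rw [ha]⟩
  exact ((Submodule.quotEquivOfEq _ _ hg.symm) ≪≫ₗ g.quotKerEquivOfSurjective hs).length_eq.trans
    (Module.length_eq_of_surjective hφ)

variable {X X' D : Scheme.{u}} (f : X' ⟶ X) (i : D ⟶ X) [IsClosedImmersion i]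

theorem length_fibre {b : (d : D) → X.presheaf.stalk (i d)}
    (hker : ∀ d, RingHom.ker (i.stalkMap d).hom = Ideal.span {b d}) (z : ↥(pullback f i)) :
    Module.length (X'.presheaf.stalk (pullback.fst f i z)) (X'.presheaf.stalk (pullback.fst f i z) ⧸
        fibIdeal f (pullback.fst f i z)) =
      Module.length ((pullback f i).presheaf.stalk z) ((pullback f i).presheaf.stalk z ⧸
        fibIdeal (pullback.snd f i) z) := by
  have he : f (pullback.fst f i z) = i (pullback.snd f i z) := by
    rw [← Scheme.Hom.comp_apply, pullback.condition, Scheme.Hom.comp_apply]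
  have hsp := specializes_of_eq he
  have hk := ker_stalkMap_fst f i z (hker _) hsp
  have hI : RingHom.ker ((pullback.fst f i).stalkMap z).hom ≤ fibIdeal f (pullback.fst f i z) := by
    rw [hk, Ideal.span_singleton_le_iff_mem]
    refine Ideal.mem_map_of_mem _ fun hu => RingHom.ker_ne_top ((pullback.fst f i).stalkMap z).hom ?_
    rw [hk]
    exact Ideal.span_singleton_eq_top.2 (hu.map (f.stalkMap (pullback.fst f i z)).hom)
  rw [length_quot_map _ ((pullback.fst f i).stalkMap_surjective z) hI]
  refine congrArg (fun J => Module.length ((pullback f i).presheaf.stalk z) ((pullback f i).presheaf.stalk z ⧸ J)) ?_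
  have hcomm : ((pullback.fst f i).stalkMap z).hom.comp (f.stalkMap (pullback.fst f i z)).hom =
      (((pullback.snd f i).stalkMap z).hom.comp (i.stalkMap (pullback.snd f i z)).hom).comp
        (X.presheaf.stalkSpecializes (specializes_of_eq he.symm)).hom := by
    rw [← CommRingCat.hom_comp, ← Scheme.Hom.stalkMap_comp,
      Scheme.Hom.stalkMap_congr_hom _ _ (pullback.condition (f := f) (g := i)), Scheme.Hom.stalkMap_comp]
    rfl
  rw [fibIdeal, fibIdeal, Ideal.map_map, hcomm, ← Ideal.map_map, ← Ideal.map_map]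
  refine congrArg (Ideal.map _) ?_
  rw [Ideal.map_map]
  exact map_maximalIdeal_of_surjective _ (((i.stalkMap_surjective _).comp
    (ConcreteCategory.bijective_of_isIso (X.presheaf.stalkCongr (.of_eq he)).hom).2))

/-- Gysin maps commute with flat pullback. Let f : X' → X be flat, locally of finite type, of relative
dimension r, (L, s, i : D → X) as in the Gysin construction and D' = X' ×_X D with i' : D' → X' (the
zero scheme of a section of f^*L) and g : D' → D. For a (k + 1)-cycle α on X, (i')^*(f^*α) ∼_rat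
g^*(i^*α) as (k + r)-cycles on D', flat pullbacks being taken coefficientwise. Here i : D → X is the
zero scheme of a global section s of the invertible module L (Cyc.IsZeroSchemeOf), the Gysin map i^*
: Z_{k+1}(X) → CH_k(D) is computed on coefficient functions as c_1(L) ∩ − with the rational sections
taken to be s where it is nonzero (Cyc.gysinChoice) and restricted to the points of D, and classes
on D are compared up to rational equivalence on D for the restricted dimension function. A pair (X,
δ) with Cyc.IsSetup plays the role of a scheme locally of finite type over a base (S, δ) (X locally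
Noetherian with universally catenary local rings, δ a dimension function), and Cyc.DeltaCompat
records that the dimension function upstairs is the induced one. -/
theorem result (X X' D : Scheme.{u}) (δ : X → ℤ) (δ' : X' → ℤ) (hX : Cyc.IsSetup X δ) (hX' : Cyc.IsSetup X' δ') (f : X' ⟶ X) [Flat f] [LocallyOfFiniteType f] (r : ℕ) (hr : Cyc.HasRelDim f r) (hδ : Cyc.DeltaCompat f δ' δ) (L : X.Modules) (hL : PicF.IsInvertible L) (s : L.presheaf.obj (Opposite.op ⊤)) (i : D ⟶ X) [IsClosedImmersion i] (hD : Cyc.IsZeroSchemeOf i L s) (s' : ((Scheme.Modules.pullback f).obj L).presheaf.obj (Opposite.op ⊤)) (hD' : Cyc.IsZeroSchemeOf (pullback.fst f i) ((Scheme.Modules.pullback f).obj L) s') (k : ℤ) (α : AlgebraicCycle X ℤ) (hα : α ∈ Cyc.Zk X δ (k + 1)) (w : (ξ : X) → Cyc.secFibre L ξ) (hw : ∀ ξ, w ξ ≠ 0) (w' : (ξ : X') → Cyc.secFibre ((Scheme.Modules.pullback f).obj L) ξ) (hw' : ∀ ξ, w' ξ ≠ 0) (ζ₁ ζ₂ : AlgebraicCycle (pullback f i) ℤ) (h₁ : ∀ z, ζ₁ z = Cyc.c1CapFun δ' ((Scheme.Modules.pullback f).obj L) (Cyc.pullFun f δ' δ r ⇑α)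 (Cyc.gysinChoice ((Scheme.Modules.pullback f).obj L) s' w') (pullback.fst f i z)) (h₂ : ⇑ζ₂ = Cyc.pullFun (pullback.snd f i) (fun z => δ' (pullback.fst f i z)) (fun d => δ (i d)) r (fun d => Cyc.c1CapFun δ L ⇑α (Cyc.gysinChoice L s w) (i d))) : Cyc.RatEquiv (fun z => δ' (pullback.fst f i z)) (k + r) ζ₁ ζ₂ := by
  haveI := hX.1
  haveI := hX'.1
  haveI := isLocallyNoetherian_closed (pullback.fst f i)
  have hs := IsShift.of_relDim hX' hX r hr hδ
  have hL' : PicF.IsInvertible ((Scheme.Modules.pullback f).obj L) := AmpleLib.isInvertible_pullback f hL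
  let αp := pullCycle hs hX'.2.2 α
  have hαp : αp ∈ Cyc.Zk X' δ' (k + r + 1) := fun x hx => by
    show Cyc.pullFun f δ' δ r (⇑α) x = 0
    rw [pullFun_apply]
    split_ifs with hd
    · rw [hα (f x) (fun e => hx (by omega)), zero_mul]
    · rfl
  let γ₀ : AlgebraicCycle (pullback f i) ℤ := restrictCycle (pullback.fst f i)
    (c1Cycle hX'.2.2 hL' αp fun ξ => pullFib f L ξ (Cyc.gysinChoice L s w (f ξ)))
  have h : Cyc.RatEquiv (fun z => δ' (pullback.fst f i z)) (k + r) ζ₁ γ₀ :=
    ratEquiv_gysin_pull f hX'.2.2 hL hD (pullback.fst f i) (Iso.refl _) (Category.id_comp _) hD' hw w' hw' αp hαp γ₀ ζ₁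
      (fun _ => rfl) h₁
  have e : γ₀ = ζ₂ := by
    ext z
    show Cyc.c1CapFun δ' _ ⇑αp _ (pullback.fst f i z) = _
    rw [h₂, ← pullFun_c1Cap hs hX'.2.2 hX.2.2 hL (Cyc.gysinChoice L s w) (gysinChoice_ne_zero hw) α,
      pullFun_apply, pullFun_apply]
    have he : f (pullback.fst f i z) = i (pullback.snd f i z) := by
      rw [← Scheme.Hom.comp_apply, pullback.condition, Scheme.Hom.comp_apply]
    choose tb b _ _ hker using hD.2
    rw [length_fibre f i hker z]
    exact if_congr (by rw [he]) (congrArg (fun a : X => Cyc.c1CapFun δ L (⇑α) (Cyc.gysinChoice L s w) a * _) he) rfl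
  rw [← e]
  exact h

end Groth.Agent.S1933
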