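import Groth.Statements.S19330
import Groth.Agent.ModPairLib.Pair

set_option autoImplicit false
universe u
open CategoryTheory CategoryTheory.Limits AlgebraicGeometry TopologicalSpace
open ModPair

namespace Groth.Agent.S19330

/-- Every point has a generization in the interior of an effective Cartier divisor. -/
theorem exists_generization {S : Scheme.{u}} (I : S.IdealSheafData) (hI : BlowUp.IsEffCartierIdeal I) (s : S) :
    ∃ u ∈ ModPair.interior I, u ⤳ s := by
  obtain ⟨V, hs, f, hf, hfI⟩ := hI s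
  obtain ⟨q, hq, hle⟩ := Ideal.exists_minimalPrimes_le (I := (⊥ : Ideal Γ(S, V.1)))
    (J := (V.2.primeIdealOf ⟨s, hs⟩).asIdeal) bot_le
  haveI := hq.1.1
  let q' : Spec Γ(S, V.1) := ⟨q, hq.1.1⟩
  have hspec : q' ⤳ V.2.primeIdealOf ⟨s, hs⟩ := (PrimeSpectrum.le_iff_specializes _ _).1 hle
  refine ⟨V.2.fromSpec q', fun hmem => ?_, ?_⟩
  · have hV : V.2.fromSpec q' ∈ V.1 := by
      rw [← SetLike.mem_coe, ← V.2.range_fromSpec]
      exact ⟨q', rfl⟩
    have h1 := (Scheme.IdealSheafData.mem_support_iff_of_mem hV).1 hmem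
    rw [hfI, Scheme.zeroLocus_span, Scheme.mem_zeroLocus_iff] at h1
    have h2 := h1 f rfl
    have h3 : q' ∈ V.2.fromSpec ⁻¹ᵁ S.basicOpen f := by
      rw [V.2.fromSpec_preimage_basicOpen]
      exact fun hfq => Set.disjoint_left.1 (Ideal.disjoint_nonZeroDivisors_of_mem_minimalPrimes hq) hfq hf
    exact h2 h3
  · have h := hspec.map V.2.fromSpec.continuous
    rwa [V.2.fromSpec_primeIdealOf ⟨s, hs⟩] at h

/-- A closed subscheme of an open is open in its scheme-theoretic closure. -/
theorem image_open {X V : Scheme.{u}} (U : X.Opens) [QuasiCompact U.ι] (g : V ⟶ U.toScheme) [IsClosedImmersion g] :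
    IsOpenImmersion (g ≫ U.ι).toImage ∧
      Set.range (g ≫ U.ι).toImage.base = (g ≫ U.ι).imageι.base ⁻¹' (U : Set X) := by
  let m := g ≫ U.ι
  have hmem : ∀ v, m.imageι (m.toImage v) ∈ U := fun v => by
    rw [← Scheme.Hom.comp_apply, Scheme.Hom.toImage_imageι, Scheme.Hom.comp_apply]
    exact (g v).2
  let t : V ⟶ (m.imageι ⁻¹ᵁ U).toScheme := IsOpenImmersion.lift (m.imageι ⁻¹ᵁ U).ι m.toImage (by
    rw [Scheme.Opens.range_ι]
    rintro _ ⟨v, rfl⟩
    exact hmem v)
  have ht : t ≫ (m.imageι ⁻¹ᵁ U).ι = m.toImage := IsOpenImmersion.lift_fac _ _ _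
  have htg : t ≫ (m.imageι ∣_ U) = g := by
    rw [← cancel_mono U.ι, Category.assoc, morphismRestrict_ι, reassoc_of% ht, Scheme.Hom.toImage_imageι]
  haveI : IsClosedImmersion t := by
    haveI : IsClosedImmersion (t ≫ (m.imageι ∣_ U)) := by rw [htg]; infer_instance
    exact IsClosedImmersion.of_comp t (m.imageι ∣_ U)
  have hsq : IsPullback t (𝟙 V) (m.imageι ⁻¹ᵁ U).ι m.toImage := by
    refine IsOpenImmersion.isPullback _ _ _ _ (by rw [Category.id_comp, ht]) ?_
    rw [Scheme.Opens.opensRange_ι, Scheme.Hom.opensRange_of_isIso (𝟙 V)]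
    ext v
    exact ⟨fun _ => by first | exact trivial | exact hmem v, fun _ => by first | exact trivial | exact hmem v⟩
  haveI : IsSchemeTheoreticallyDominant t := IsSchemeTheoreticallyDominant.of_isPullback hsq.flip
  haveI : IsIso t := by
    have h := IsClosedImmersion.isIso_of_ker_eq t (𝟙 (m.imageι ⁻¹ᵁ U).toScheme) t (Category.comp_id _)
      (by rw [Scheme.Hom.ker_eq_bot, Scheme.Hom.ker_eq_bot_of_isIso])
    exact h
  refine ⟨by rw [← ht]; infer_instance, ?_⟩
  ext x
  constructor
  · rintro ⟨v, rfl⟩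
    exact hmem v
  · intro hx
    obtain ⟨v, hv⟩ := (inferInstance : Surjective t).surj ⟨x, hx⟩
    refine ⟨v, ?_⟩
    rw [← ht]
    show (t ≫ (m.imageι ⁻¹ᵁ U).ι) v = x
    rw [Scheme.Hom.comp_apply, hv]
    rfl

/-- Let (S, I) be a modulus pair, i.e. a scheme with the quasi-coherent ideal sheaf of an effective
Cartier divisor, with interior U, and let g_i : V_i ⟶ U be a jointly surjective family of closed
immersions into the interior. Let V̄_i be the scheme-theoretic image of V_i ⟶ U ⟶ S. Then the closed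
immersions V̄_i ⟶ S are jointly surjective, the modulus restricted to each V̄_i is again the ideal
sheaf of an effective Cartier divisor (so that V̄_i ⟶ S is a minimal morphism of modulus pairs), and
the interior of V̄_i is V_i: the canonical morphism V_i ⟶ V̄_i is an open immersion whose image is
the preimage of U. -/
theorem result {S : Scheme.{u}} (I : S.IdealSheafData)
    (hI : BlowUp.IsEffCartierIdeal I) {ι : Type u} (V : ι → Scheme.{u})
    (g : ∀ i, V i ⟶ (ModPair.interior I : Scheme.{u})) [∀ i, IsClosedImmersion (g i)]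
    (hsurj : ∀ u : (ModPair.interior I : Scheme.{u}), ∃ (i : ι) (v : V i), (g i).base v = u) :
    (∀ s : S, ∃ (i : ι) (v : (g i ≫ (ModPair.interior I).ι).image),
        (g i ≫ (ModPair.interior I).ι).imageι.base v = s) ∧
      (∀ i, BlowUp.IsEffCartierIdeal (I.comap (g i ≫ (ModPair.interior I).ι).imageι)) ∧
      ∀ i, IsOpenImmersion (g i ≫ (ModPair.interior I).ι).toImage ∧
        Set.range (g i ≫ (ModPair.interior I).ι).toImage.base =
          (g i ≫ (ModPair.interior I).ι).imageι.base ⁻¹' (ModPair.interior I : Set S) := by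
  haveI := Groth.Agent.ModPairLib.isAffineHom_interior (Groth.Agent.ModPairLib.isLP_of_cart hI)
  have hmem : ∀ i v, (g i ≫ (ModPair.interior I).ι).imageι ((g i ≫ (ModPair.interior I).ι).toImage v) ∈ ModPair.interior I :=
    fun i v => by
      rw [← Scheme.Hom.comp_apply, Scheme.Hom.toImage_imageι, Scheme.Hom.comp_apply]
      exact (g i v).2
  refine ⟨fun s => ?_, fun i => ?_, fun i => ?_⟩
  · obtain ⟨u, hu, hus⟩ := exists_generization I hI s
    obtain ⟨i, v, hv⟩ := hsurj ⟨u, hu⟩
    have hmemu : u ∈ Set.range (g i ≫ (ModPair.interior I).ι).imageι := by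
      refine ⟨(g i ≫ (ModPair.interior I).ι).toImage v, ?_⟩
      rw [← Scheme.Hom.comp_apply, Scheme.Hom.toImage_imageι, Scheme.Hom.comp_apply]
      exact congrArg Subtype.val hv
    obtain ⟨w, hw⟩ := hus.mem_closed (g i ≫ (ModPair.interior I).ι).imageι.isClosedEmbedding.isClosed_range hmemu
    exact ⟨i, w, hw⟩
  · refine Groth.Agent.ModPairLib.cart_of_dominant ((Groth.Agent.ModPairLib.isLP_of_cart hI).comap _)
      (g i ≫ (ModPair.interior I).ι).toImage fun v => ?_
    rw [Groth.Agent.ModPairLib.interior_comap]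
    exact hmem i v
  · exact image_open (ModPair.interior I) (g i)

end Groth.Agent.S19330
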