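import Groth.Statements.S19333
import Mathlib.RingTheory.Valuation.LocalSubring
import Mathlib.RingTheory.Localization.FractionRing
import Mathlib.RingTheory.Ideal.Maximal
import Mathlib.RingTheory.Polynomial.IntegralNormalization

set_option autoImplicit false
universe u
open ModPair

namespace Groth.Agent.S19333

/-- Let A → B be any homomorphism of commutative rings. An element x of B is integral over A if and only
if for every field K, every valuation subring R of K and every ring homomorphism φ : B → K which
sends the image of A into R, the element φ(x) lies in R. In other words the integral closure of A in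
B is the intersection of the subrings R ×_K B taken over all commutative squares A → R ⊆ K ← B with
R a valuation ring of the field K. -/
theorem result {A B : Type u} [CommRing A]
    [CommRing B] [Algebra A B] (x : B) :
    x ∈ integralClosure A B ↔
      ∀ (K : Type u) [Field K] (R : ValuationSubring K) (φ : B →+* K),
        (∀ a : A, φ (algebraMap A B a) ∈ R) → φ x ∈ R := by
  classical
  constructor
  · intro hx K _ R φ hA
    obtain ⟨p, hp, hpx⟩ := hx
    let ψ : A →+* R.toSubring := (φ.comp (algebraMap A B)).codRestrict R.toSubring hA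
    haveI : IsIntegrallyClosedIn R.toSubring K := inferInstanceAs (IsIntegrallyClosedIn R K)
    refine Subring.isIntegrallyClosedIn_iff.1 this ⟨p.map ψ, hp.map ψ, ?_⟩
    rw [Polynomial.eval₂_map, show (algebraMap R.toSubring K).comp ψ = φ.comp (algebraMap A B) from rfl,
      ← Polynomial.hom_eval₂, hpx, map_zero]
  · intro h
    by_contra hx
    let S : Submonoid B :=
      { carrier := {b | ∃ p : Polynomial A, p.Monic ∧ Polynomial.aeval x p = b}
        one_mem' := ⟨1, Polynomial.monic_one, map_one _⟩
        mul_mem' := by
          rintro _ _ ⟨p, hp, rfl⟩ ⟨p', hp', rfl⟩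
          exact ⟨p * p', hp.mul hp', map_mul _ _ _⟩ }
    obtain ⟨q, hq, -, hqS⟩ := Ideal.exists_le_prime_disjoint ⊥ S (Set.disjoint_left.2 fun b hb hb' => by
      obtain ⟨p, hp, rfl⟩ := hb'
      exact hx ⟨p, hp, hb⟩)
    haveI := hq
    let φ : B →+* FractionRing (B ⧸ q) := (algebraMap (B ⧸ q) (FractionRing (B ⧸ q))).comp (Ideal.Quotient.mk q)
    let ρ := φ.comp (algebraMap A B)
    have hmem : φ x ∈ ⨅ V : {V : ValuationSubring (FractionRing (B ⧸ q)) // (ρ.range : Set (FractionRing (B ⧸ q))) ⊆ V.toSubring}, V.1.toSubring := by
      rw [Subring.mem_iInf]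
      exact fun V => h _ V.1 φ fun a => V.2 ⟨a, rfl⟩
    rw [iInf_valuationSubring_superset] at hmem
    obtain ⟨p, hp, hpx⟩ := hmem
    have hlift : p.map (algebraMap _ (FractionRing (B ⧸ q))) ∈ Polynomial.lifts ρ := by
      rw [Polynomial.lifts_iff_coeff_lifts]
      intro i
      rw [Polynomial.coeff_map]
      have hcl := (p.coeff i).2
      simp only [Subring.closure_eq] at hcl
      exact hcl
    obtain ⟨p₀, hp₀, -, hp₀m⟩ := Polynomial.lifts_and_degree_eq_and_monic hlift (hp.map _)
    have h2 : φ (Polynomial.aeval x p₀) = 0 := by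
      rw [Polynomial.aeval_def, Polynomial.hom_eval₂, Polynomial.eval₂_eq_eval_map]
      show Polynomial.eval (φ x) (p₀.map ρ) = 0
      rw [hp₀, ← Polynomial.eval₂_eq_eval_map]
      exact hpx
    exact Set.disjoint_left.1 hqS (Ideal.Quotient.eq_zero_iff_mem.1 ((IsFractionRing.injective (B ⧸ q) (FractionRing (B ⧸ q))) (h2.trans (map_zero _).symm))) ⟨p₀, hp₀m, rfl⟩

end Groth.Agent.S19333
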