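import Groth.Statements.S19334
import Groth.Agent.ModPairLib.ValTest

set_option autoImplicit false
universe u
open CategoryTheory CategoryTheory.Limits AlgebraicGeometry TopologicalSpace
open ModPair

namespace Groth.Agent.S19334

/-- Let (X, I) be a modulus pair, i.e. a scheme X with the quasi-coherent ideal sheaf I of an effective
Cartier divisor. Suppose that for every valuation ring R and every morphism p : Spec R ⟶ X along
which the divisor of I pulls back to an effective Cartier divisor on Spec R (so that p is a minimal
morphism of modulus pairs for the pulled-back modulus), the pulled-back divisor is empty, I.comap p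
= ⊤. Then the divisor of I is empty: I = ⊤. -/
theorem result {X : Scheme.{u}}
    (I : X.IdealSheafData) (hI : BlowUp.IsEffCartierIdeal I)
    (h : ∀ (R : Type u) [CommRing R] [IsDomain R] [ValuationRing R]
      (p : Spec (CommRingCat.of R) ⟶ X), BlowUp.IsEffCartierIdeal (I.comap p) → I.comap p = ⊤) :
    I = ⊤ := by
  rw [← Scheme.IdealSheafData.support_eq_bot_iff]
  refine SetLike.ext fun x => ⟨fun hx => ?_, fun h => (Set.notMem_empty x h).elim⟩
  obtain ⟨u, hu, hux⟩ := Groth.Agent.ModPairLib.exists_generization_interior hI x
  obtain ⟨A, p, hp, hgen⟩ := Groth.Agent.ModPairLib.exists_valuation_specialization hux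
  let z : Spec (CommRingCat.of A) := ⟨⊥, Ideal.isPrime_bot⟩
  have hz : z ∈ ModPair.interior (I.comap p) := by
    rw [Groth.Agent.ModPairLib.interior_comap]
    show p z ∈ ModPair.interior I
    rw [hgen z rfl]
    exact hu
  have h1 := h A p (Groth.Agent.ModPairLib.cart_of_generic ((Groth.Agent.ModPairLib.isLP_of_cart hI).comap p) z rfl hz)
  have hk : (IsLocalRing.closedPoint A : Spec (CommRingCat.of A)) ∈ (I.comap p).support := by
    rw [Scheme.IdealSheafData.support_comap]
    show p (IsLocalRing.closedPoint A) ∈ I.support
    rw [hp]
    exact hx
  rw [h1, Scheme.IdealSheafData.support_top] at hk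
  exact (Set.notMem_empty _ hk).elim

end Groth.Agent.S19334
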