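import Groth.Statements.S19335
import Groth.Agent.ModPairLib.ValTest

set_option autoImplicit false
universe u
open CategoryTheory CategoryTheory.Limits AlgebraicGeometry TopologicalSpace
open ModPair

namespace Groth.Agent.S19335

theorem exists_prime_split {V : Type u} [CommRing V] [IsDomain V] [ValuationRing V] {c : V} (hc : c ≠ 0) :
    ∃ P : Ideal V, P.IsPrime ∧ c ∉ P ∧ ∀ Q : Ideal V, Q.IsPrime → c ∉ Q → Q ≤ P := by
  let s : Set (Ideal V) := {Q | Q.IsPrime ∧ c ∉ Q}
  have hne : s.Nonempty := ⟨⊥, Ideal.isPrime_bot, hc⟩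
  have htot : Std.Total (α := Ideal V) (· ≤ ·) := ValuationRing.iff_ideal_total.1 inferInstance
  have hdir : DirectedOn (· ≤ ·) s := fun a ha b hb => by
    rcases htot.total a b with h | h
    · exact ⟨b, hb, h, le_rfl⟩
    · exact ⟨a, ha, le_rfl, h⟩
  refine ⟨sSup s, ⟨fun h => ?_, fun {a b} hab => ?_⟩, fun h => ?_, fun Q hQ hcQ => le_sSup ⟨hQ, hcQ⟩⟩
  · obtain ⟨Q, hQ, h1⟩ := (Submodule.mem_sSup_of_directed hne hdir).1 ((Ideal.eq_top_iff_one _).1 h)
    exact hQ.1.ne_top ((Ideal.eq_top_iff_one _).2 h1)
  · obtain ⟨Q, hQ, h1⟩ := (Submodule.mem_sSup_of_directed hne hdir).1 hab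
    exact (hQ.1.mem_or_mem h1).imp (fun h => Submodule.mem_sSup_of_mem hQ h) (fun h => Submodule.mem_sSup_of_mem hQ h)
  · obtain ⟨Q, hQ, h1⟩ := (Submodule.mem_sSup_of_directed hne hdir).1 h
    exact hQ.2 h1

/-- Let X be a scheme and I, J quasi-coherent ideal sheaves of effective Cartier divisors D_I ≤ D_J on
X, i.e. J ≤ I. Suppose that for every valuation ring R and every morphism p : Spec R ⟶ X such that
I.comap p is the ideal sheaf of an effective Cartier divisor on Spec R (so p is a minimal morphism
of modulus pairs for (X, I)) whose open complement consists of the generic point of Spec R only, the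
two divisors agree after pull-back, I.comap p = J.comap p. Then I = J. -/
theorem result {X : Scheme.{u}} (I J : X.IdealSheafData)
    (hI : BlowUp.IsEffCartierIdeal I) (hJ : BlowUp.IsEffCartierIdeal J) (hJI : J ≤ I)
    (h : ∀ (R : Type u) [CommRing R] [IsDomain R] [ValuationRing R]
      (p : Spec (CommRingCat.of R) ⟶ X), BlowUp.IsEffCartierIdeal (I.comap p) →
        (∀ x : Spec (CommRingCat.of R),
          x ∈ (ModPair.interior (I.comap p) : Set (Spec (CommRingCat.of R))) ↔ x.asIdeal = ⊥) →
        I.comap p = J.comap p) :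
    I = J := by
  have hIl := Groth.Agent.ModPairLib.isLP_of_cart hI
  obtain ⟨R, hR, hRe⟩ := Groth.Agent.ModPairLib.exists_residual hJ hIl hJI
  suffices hRtop : R = ⊤ by rw [← hRe, hRtop, Scheme.IdealSheafData.top_mul]
  rw [← Scheme.IdealSheafData.support_eq_bot_iff]
  refine SetLike.ext fun x => ⟨fun hx => ?_, fun h => (Set.notMem_empty x h).elim⟩
  have hxJ : x ∈ J.support := by rw [← hRe, Scheme.IdealSheafData.support_mul]; exact Or.inl hx
  by_cases hxI : x ∈ I.support
  · obtain ⟨u, hu, hux⟩ := Groth.Agent.ModPairLib.exists_generization_interior hJ x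
    obtain ⟨A, p, hp, hgen⟩ := Groth.Agent.ModPairLib.exists_valuation_specialization hux
    obtain ⟨c, hc⟩ := Groth.Agent.ModPairLib.topIdeal_eq_span (hIl.comap p)
    have huI : u ∈ ModPair.interior I := Groth.Agent.ModPairLib.interior_mono hJI hu
    have hc0 : c ≠ 0 := fun h0 => by
      let z : Spec (CommRingCat.of A) := ⟨⊥, Ideal.isPrime_bot⟩
      have h1 : z ∈ ModPair.interior (I.comap p) := by
        rw [Groth.Agent.ModPairLib.interior_comap]
        show p _ ∈ ModPair.interior I
        rw [hgen _ rfl]
        exact huI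
      rw [Groth.Agent.ModPairLib.mem_interior_iff, hc, h0] at h1
      exact h1 (by simp)
    obtain ⟨P, hP, hcP, hmax⟩ := exists_prime_split hc0
    haveI := hP
    haveI : ValuationRing (A ⧸ P) := Function.Surjective.valuationRing (Ideal.Quotient.mk P) Ideal.Quotient.mk_surjective
    let mk : A →+* A ⧸ P := Ideal.Quotient.mk P
    let q : Spec (CommRingCat.of (A ⧸ P)) ⟶ X := Spec.map (CommRingCat.ofHom mk) ≫ p
    have hq : Groth.Agent.ModPairLib.topIdeal (I.comap q) = Ideal.span {mk c} := by
      rw [Scheme.IdealSheafData.comap_comp, Groth.Agent.ModPairLib.topIdeal_comap, hc, Ideal.map_span, Set.image_singleton]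
    have hint : ∀ y : Spec (CommRingCat.of (A ⧸ P)), y ∈ ModPair.interior (I.comap q) ↔ y.asIdeal = ⊥ := fun y => by
      rw [Groth.Agent.ModPairLib.mem_interior_iff, hq, Ideal.span_singleton_le_iff_mem]
      constructor
      · intro hy
        refine le_bot_iff.1 fun z hz => ?_
        obtain ⟨z, rfl⟩ := Ideal.Quotient.mk_surjective z
        haveI := y.2
        exact Ideal.mem_bot.2 (Ideal.Quotient.eq_zero_iff_mem.2
          (hmax (y.asIdeal.comap mk) inferInstance hy hz))
      · intro hy hcy
        rw [hy] at hcy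
        exact hcP (Ideal.Quotient.eq_zero_iff_mem.1 (Ideal.mem_bot.1 hcy))
    have hcart := Groth.Agent.ModPairLib.cart_of_generic (hIl.comap q) ⟨⊥, Ideal.isPrime_bot⟩ rfl ((hint _).2 rfl)
    have h1 := h (A ⧸ P) q hcart hint
    have h2 : R.comap q = ⊤ := Groth.Agent.ModPairLib.mul_right_cancel' hcart (by
      rw [Scheme.IdealSheafData.top_mul, ← Groth.Agent.BlowCompLib.comap_mul, hRe, h1])
    have hk : (IsLocalRing.closedPoint (A ⧸ P) : Spec (CommRingCat.of (A ⧸ P))) ∈ (R.comap q).support := by
      rw [Scheme.IdealSheafData.support_comap]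
      show q _ ∈ R.support
      rw [Scheme.Hom.comp_apply]
      have : Spec.map (CommRingCat.ofHom mk) (IsLocalRing.closedPoint (A ⧸ P)) = IsLocalRing.closedPoint A := by
        refine PrimeSpectrum.ext ?_
        show (IsLocalRing.maximalIdeal (A ⧸ P)).comap mk = IsLocalRing.maximalIdeal A
        haveI := Ideal.comap_isMaximal_of_surjective mk Ideal.Quotient.mk_surjective (K := IsLocalRing.maximalIdeal (A ⧸ P))
        exact IsLocalRing.eq_maximalIdeal inferInstance
      rw [this, hp]
      exact hx
    rw [h2, Scheme.IdealSheafData.support_top] at hk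
    exact (Set.notMem_empty _ hk).elim
  · have h0 : ∀ y, X.fromSpecResidueField x y = x := fun y => Scheme.fromSpecResidueField_apply x y
    have htop : I.comap (X.fromSpecResidueField x) = ⊤ :=
      Groth.Agent.BlowCompLib.comap_eq_top _ _ fun y => by rw [h0]; exact hxI
    letI : Field (↑(X.residueField x) : Type u) := inferInstance
    have hcart : BlowUp.IsEffCartierIdeal (I.comap (X.fromSpecResidueField x)) :=
      htop ▸ Groth.Agent.BlowCompLib.isEffCartier_top
    have h1 := @h (↑(X.residueField x) : Type u) _ (Field.isDomain) inferInstance (X.fromSpecResidueField x)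
      hcart (fun y => by
        refine iff_of_true ?_ ?_
        · show y ∉ (I.comap (X.fromSpecResidueField x)).support
          rw [htop, Scheme.IdealSheafData.support_top]
          exact Set.notMem_empty y
        · exact (Ideal.eq_bot_or_top y.asIdeal).resolve_right y.2.ne_top)
    have hk : (IsLocalRing.closedPoint (X.residueField x) : Spec (X.residueField x)) ∈
        (J.comap (X.fromSpecResidueField x)).support := by
      rw [Scheme.IdealSheafData.support_comap]
      show X.fromSpecResidueField x _ ∈ J.support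
      rw [h0]
      exact hxJ
    erw [← h1, htop, Scheme.IdealSheafData.support_top] at hk
    exact (Set.notMem_empty _ hk).elim

end Groth.Agent.S19335
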