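import Groth.Statements.S19338
import Groth.Agent.ModPairLib.Frac

set_option autoImplicit false
universe w v u
open CategoryTheory
open ModPair

namespace Groth.Agent.S19338

theorem bij_of_isIso {A B : Type w} (f : A ⟶ B) [IsIso f] : Function.Bijective f :=
  (isIso_iff_bijective f).1 inferInstance

/-- Let C be a category and S a class of morphisms which contains the identities, is closed under
composition, admits a right calculus of fractions, and consists of monomorphisms. Then the sieves
containing a morphism of S are the covering sieves of a Grothendieck topology on C, and for every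
such topology J a presheaf of types F on C is a J-sheaf if and only if it is S-local, i.e. F sends
every morphism of S to a bijection. -/
theorem result {C : Type u} [Category.{v} C]
    (S : MorphismProperty C) [S.HasRightCalculusOfFractions]
    (hmono : ∀ ⦃X Y : C⦄ (s : X ⟶ Y), S s → Mono s) :
    (∃ J : GrothendieckTopology C, ∀ (X : C) (T : Sieve X),
        T ∈ J X ↔ ∃ (Y : C) (s : Y ⟶ X), S s ∧ T s) ∧
      ∀ J : GrothendieckTopology C, (∀ (X : C) (T : Sieve X),
          T ∈ J X ↔ ∃ (Y : C) (s : Y ⟶ X), S s ∧ T s) →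
        ∀ F : Cᵒᵖ ⥤ Type w,
          Presheaf.IsSheaf J F ↔ ∀ ⦃X Y : C⦄ (s : X ⟶ Y), S s → IsIso (F.map s.op) := by
  refine ⟨⟨{ sieves := fun X => {T | ∃ (Y : C) (s : Y ⟶ X), S s ∧ T s}
             top_mem' := fun X => ⟨X, 𝟙 X, S.id_mem X, trivial⟩
             pullback_stable' := ?_
             transitive' := ?_ }, fun X T => Iff.rfl⟩, fun J hJ F => ?_⟩
  · rintro X Y T f ⟨Z, s, hs, hTs⟩
    obtain ⟨ψ, hψ⟩ := MorphismProperty.HasRightCalculusOfFractions.exists_rightFraction
      (W := S) (MorphismProperty.LeftFraction.mk f s hs)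
    refine ⟨_, ψ.s, ψ.hs, ?_⟩
    show T (ψ.s ≫ f)
    dsimp at hψ
    rw [hψ]
    exact T.downward_closed hTs _
  · rintro X T ⟨Y, s, hs, hTs⟩ R hR
    obtain ⟨Z, t, ht, hRt⟩ := hR hTs
    exact ⟨Z, t ≫ s, S.comp_mem _ _ ht hs, hRt⟩
  · rw [CategoryTheory.isSheaf_iff_isSheaf_of_type]
    constructor
    · intro hF X Y s hs
      haveI := hmono s hs
      have h := hF (Sieve.generate (Presieve.singleton s))
        ((hJ Y _).2 ⟨X, s, hs, Sieve.le_generate _ _ _ (Presieve.singleton_self s)⟩)
      rw [← Presieve.isSheafFor_iff_generate, Presieve.isSheafFor_singleton] at h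
      rw [isIso_iff_bijective]
      refine ⟨fun y₁ y₂ e => ?_, fun x => ?_⟩
      · obtain ⟨y, -, hy⟩ := h (F.map s.op y₂) fun {Z} p₁ p₂ e' => by rw [(cancel_mono s).1 e']
        exact (hy y₁ e).trans (hy y₂ rfl).symm
      · obtain ⟨y, hy, -⟩ := h x fun {Z} p₁ p₂ e' => by rw [(cancel_mono s).1 e']
        exact ⟨y, hy⟩
    · intro hF X T hT x hx
      obtain ⟨Y, s, hs, hTs⟩ := (hJ X T).1 hT
      haveI := hF s hs
      obtain ⟨y, hy⟩ := (bij_of_isIso (F.map s.op)).2 (x s hTs)
      refine ⟨y, fun Z f hf => ?_, fun y' hy' => (bij_of_isIso (F.map s.op)).1 ((hy' s hTs).trans hy.symm)⟩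
      obtain ⟨ψ, hψ⟩ := MorphismProperty.HasRightCalculusOfFractions.exists_rightFraction
        (W := S) (MorphismProperty.LeftFraction.mk f s hs)
      dsimp at hψ
      haveI := hF ψ.s ψ.hs
      refine (bij_of_isIso (F.map ψ.s.op)).1 ?_
      have h1 := hx ψ.f ψ.s hTs hf hψ.symm
      rw [← h1, ← hy, ← Functor.map_comp_apply, ← Functor.map_comp_apply, ← op_comp, ← op_comp, hψ]

end Groth.Agent.S19338
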