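import Groth.Statements.S19340
import Groth.Agent.ModPairLib.Frac

set_option autoImplicit false
universe v v' u u'
open CategoryTheory
open ModPair

namespace Groth.Agent.S19340

/-- Let C be a category, S a class of morphisms of C containing the identities, closed under composition
and admitting a right calculus of fractions, and L : C ⥤ D a localization functor for S. Then for
every object X of C the comma category of L under X, whose objects are pairs (Y, L(X) ⟶ L(Y)) and
whose morphisms are morphisms Y ⟶ Y' of C compatible with the structure maps, is cofiltered. The
published statement calls this category filtered; its proof verifies, and this row states,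
cofilteredness. -/
theorem result {C : Type u}
    [Category.{v} C] {D : Type u'} [Category.{v'} D] (S : MorphismProperty C)
    [S.HasRightCalculusOfFractions] (L : C ⥤ D) [L.IsLocalization S] (X : C) :
    IsCofiltered (StructuredArrow (L.obj X) L) := by
  haveI : Nonempty (StructuredArrow (L.obj X) L) := ⟨StructuredArrow.mk (𝟙 _)⟩
  haveI : IsCofilteredOrEmpty (StructuredArrow (L.obj X) L) :=
    { cone_objs := fun A B => by
        obtain ⟨X', s, a, b, hs, ha, hb⟩ := Groth.Agent.ModPairLib.Frac.exists_common S L A.hom B.hom
        haveI := Localization.inverts L S s hs
        exact ⟨StructuredArrow.mk (inv (L.map s)), StructuredArrow.homMk a (by simp [← ha]),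
          StructuredArrow.homMk b (by simp [← hb]), trivial⟩
      cone_maps := fun A B f g => by
        obtain ⟨X', s, a, hs, ha⟩ := Groth.Agent.ModPairLib.Frac.exists_frac S L A.hom
        have h : L.map (a ≫ f.right) = L.map (a ≫ g.right) := by
          rw [L.map_comp, L.map_comp, ← ha, Category.assoc, Category.assoc, StructuredArrow.w, StructuredArrow.w]
        obtain ⟨X'', t, ht, htfg⟩ := (MorphismProperty.map_eq_iff_precomp L S _ _).1 h
        haveI := Localization.inverts L S s hs
        haveI := Localization.inverts L S (t ≫ s) (S.comp_mem _ _ ht hs)
        refine ⟨StructuredArrow.mk (inv (L.map (t ≫ s))), StructuredArrow.homMk (t ≫ a) ?_, ?_⟩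
        · show inv (L.map (t ≫ s)) ≫ L.map (t ≫ a) = A.hom
          rw [L.map_comp t a, ← ha, IsIso.inv_comp_eq, L.map_comp, Category.assoc]
        · ext
          simp only [StructuredArrow.comp_right, StructuredArrow.homMk_right, Category.assoc]
          exact htfg }
  exact ⟨⟩

end Groth.Agent.S19340
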