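import Groth.Statements.S19344
import Groth.Agent.S19343
import Groth.Agent.S19339
import Groth.Agent.ModPairLib.LocalFinite
import Mathlib

set_option autoImplicit false
universe u
open CategoryTheory CategoryTheory.Limits AlgebraicGeometry TopologicalSpace
open ModPair

namespace Groth.Agent.S19344

set_option backward.isDefEq.respectTransparency false
set_option backward.isDefEq.respectTransparency.types false
set_option backward.defeqAttrib.useBackward true
set_option maxHeartbeats 1000000

open Groth.Agent.ModPairLib IsLocalRing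

abbrev fppfProp : MorphismProperty Scheme.{u} := @Flat ⊓ @LocallyOfFinitePresentation ⊓ @QuasiCompact ⊓ @QuasiSeparated

/-- A scheme is local for fppf coverings. -/
def FppfLocalSch (T : Scheme.{u}) : Prop :=
  ∀ (X : Scheme.{u}) (R : Presieve X), R ∈ Scheme.precoverage fppfProp X →
    ∀ g : T ⟶ X, ∃ (Y : Scheme.{u}) (w : Y ⟶ X) (h : T ⟶ Y), R w ∧ h ≫ w = g

/-- `P` is local for fppf coverings of modulus pairs. -/
def FppfLocal (P : ModPair.Pair.{u}) : Prop :=
  ∀ (X : ModPair.Pair.{u}) (ι : Type u) (U : ι → ModPair.Pair.{u}) (v : ∀ i, U i ⟶ X),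
    (∀ i, ModPair.IsMinimal (U i).mod X.mod (v i).hom ∧ Flat (v i).hom ∧
      LocallyOfFinitePresentation (v i).hom ∧ QuasiCompact (v i).hom ∧
      QuasiSeparated (v i).hom) →
    (∀ x : X.total, ∃ (i : ι) (y : (U i).total), (v i).hom.base y = x) →
    ∀ g : P ⟶ X, ∃ (i : ι) (h : P ⟶ U i), h ≫ v i = g

theorem etLocal_of_fppfLocal {P : ModPair.Pair.{u}} (h : FppfLocal P) : S19343.EtLocal P := by
  intro X ι U v hv
  refine h X ι U v fun i => ?_
  haveI := (hv i).2.1
  exact ⟨(hv i).1, inferInstance, inferInstance, (hv i).2.2.1, (hv i).2.2.2⟩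

/-- A member of a covering over each point, pulled back along `g`. -/
theorem exists_small_cover {T X : Scheme.{u}} {R : Presieve X} (hR : R ∈ Scheme.precoverage fppfProp X)
    (g : T ⟶ X) : ∃ (W : T → Scheme.{u}) (w : ∀ t, W t ⟶ T),
      (∀ t, fppfProp (w t)) ∧ (∀ t, t ∈ Set.range (w t).base) ∧
      ∀ t, ∃ (Y : Scheme.{u}) (v : Y ⟶ X) (r : W t ⟶ Y), R v ∧ r ≫ v = w t ≫ g := by
  have key : ∀ t : T, ∃ (Y : Scheme.{u}) (v : Y ⟶ X), R v ∧ g t ∈ Set.range v.base := fun t => by
    obtain ⟨Y, v, hv, y, hy⟩ := (Presieve.mem_comap_jointlySurjectivePrecoverage_iff (F := Scheme.forget)).mp hR.1 (g t)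
    exact ⟨Y, v, hv, y, hy⟩
  choose Y v hv y hy using key
  refine ⟨fun t => pullback (v t) g, fun t => pullback.snd (v t) g, fun t => ?_, fun t => ?_,
    fun t => ⟨Y t, v t, pullback.fst _ _, hv t, pullback.condition⟩⟩
  · obtain ⟨⟨⟨h1, h2⟩, h3⟩, h4⟩ := hR.2 (hv t)
    haveI := h1; haveI := h2; haveI := h3; haveI := h4
    exact ⟨⟨⟨inferInstance, inferInstance⟩, inferInstance⟩, inferInstance⟩
  · obtain ⟨z, -, hz⟩ := Scheme.Pullback.exists_preimage_pullback (f := v t) (g := g) (y t) t (hy t)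
    exact ⟨z, hz⟩

theorem fppfLocalSch_total {P : ModPair.Pair.{u}} (h : FppfLocal P) : FppfLocalSch P.total := by
  intro X R hR g
  obtain ⟨W, w, hw, hcov, hfac⟩ := exists_small_cover hR g
  let U : P.total → ModPair.Pair.{u} := fun t =>
    haveI : Flat (w t) := (hw t).1.1.1
    ⟨W t, P.mod.comap (w t), BlowCompLib.isEffCartier_comap_flat P.isEffCartier (w t)⟩
  obtain ⟨t, s, hs⟩ := h P P.total U (fun t => ⟨w t, le_refl _⟩)
    (fun t => ⟨rfl, (hw t).1.1.1, (hw t).1.1.2, (hw t).1.2, (hw t).2⟩) (fun x => ⟨x, hcov x⟩) (𝟙 P)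
  obtain ⟨Y, v, r, hv, hr⟩ := hfac t
  refine ⟨Y, v, s.hom ≫ r, hv, ?_⟩
  rw [Category.assoc, hr, ← Category.assoc, show s.hom ≫ w t = 𝟙 _ from hom_eq hs, Category.id_comp]

theorem fppfLocal_of_total {P : ModPair.Pair.{u}} (h : FppfLocalSch P.total) : FppfLocal P := by
  intro X ι U v hv hcov g
  have hR : Presieve.ofArrows (fun i => (U i).total) (fun i => (v i).hom) ∈
      Scheme.precoverage fppfProp X.total := by
    rw [Scheme.ofArrows_mem_precoverage_iff]
    exact ⟨hcov, fun i => ⟨⟨⟨(hv i).2.1, (hv i).2.2.1⟩, (hv i).2.2.2.1⟩, (hv i).2.2.2.2⟩⟩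
  obtain ⟨Y, w, k, hw, hk⟩ := h _ _ hR g.hom
  obtain ⟨i⟩ := hw
  refine ⟨i, ⟨k, ?_⟩, ModPair.Pair.Hom.ext hk⟩
  show P.mod ≤ (U i).mod.comap _
  rw [(hv i).1, ← Scheme.IdealSheafData.comap_comp, hk]
  exact g.cond

theorem affine_local_of_fppfLocalSch {T : Scheme.{u}} (h : FppfLocalSch T) [QuasiSeparatedSpace T] :
    IsAffine T ∧ ∀ _ : IsAffine T, IsLocalRing Γ(T, ⊤) := by
  have key : ∀ (ι : Type u) (U : ι → T.Opens), (∀ i, IsCompact (U i : Set T)) → ⨆ i, U i = ⊤ →
      ∃ i, U i = ⊤ := by
    intro ι U hc hU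
    have hR : Presieve.ofArrows (fun i => (U i).toScheme) (fun i => (U i).ι) ∈
        Scheme.precoverage fppfProp T := by
      rw [Scheme.ofArrows_mem_precoverage_iff]
      refine ⟨fun x => ?_, fun i => ?_⟩
      · obtain ⟨i, hi⟩ := TopologicalSpace.Opens.mem_iSup.mp (hU ▸ (show x ∈ (⊤ : T.Opens) from trivial))
        exact ⟨i, ⟨x, hi⟩, rfl⟩
      · haveI : CompactSpace (U i).toScheme := isCompact_iff_compactSpace.mp (hc i)
        haveI : QuasiCompact (U i).ι := inferInstance
        exact ⟨⟨⟨inferInstance, inferInstance⟩, inferInstance⟩, inferInstance⟩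
    obtain ⟨Y, w, k, hw, hk⟩ := h _ _ hR (𝟙 T)
    obtain ⟨i⟩ := hw
    refine ⟨i, top_le_iff.mp fun x _ => ?_⟩
    have h1 : (k ≫ (U i).ι) x = x := by rw [hk]; rfl
    exact h1 ▸ (k x).2
  refine ⟨?_, fun _ => isLocalRing_of_cover key⟩
  obtain ⟨V, hV⟩ := key _ (fun V : T.affineOpens => V.1) (fun V => V.2.isCompact) (iSup_affineOpens_eq_top _)
  have h1 := V.2
  rw [hV] at h1
  haveI : IsAffine ((⊤ : T.Opens) : Scheme.{u}) := h1
  exact IsAffine.of_isIso T.topIso.inv

theorem retraction_of_fppfLocalSch {T : Scheme.{u}} [IsAffine T] (h : FppfLocalSch T) (B : Type u)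
    [CommRing B] [Algebra Γ(T, ⊤) B] [Module.Free Γ(T, ⊤) B] [Module.Finite Γ(T, ⊤) B] [Nontrivial B] :
    ∃ ψ : B →+* Γ(T, ⊤), ψ.comp (algebraMap Γ(T, ⊤) B) = RingHom.id _ := by
  let φ := algebraMap Γ(T, ⊤) B
  haveI : Module.FinitePresentation Γ(T, ⊤) B := Module.finitePresentation_of_projective _ _
  haveI : Algebra.FinitePresentation Γ(T, ⊤) B := Algebra.FinitePresentation.of_finitePresentation _ _
  haveI : IsFinite (Spec.map (CommRingCat.ofHom φ)) := by
    rw [IsFinite.SpecMap_iff]
    exact RingHom.finite_algebraMap.mpr inferInstance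
  haveI : Flat (Spec.map (CommRingCat.ofHom φ)) := by
    rw [HasRingHomProperty.Spec_iff (P := @Flat)]
    exact RingHom.flat_algebraMap_iff.mpr inferInstance
  haveI : LocallyOfFinitePresentation (Spec.map (CommRingCat.ofHom φ)) := by
    rw [HasRingHomProperty.Spec_iff (P := @LocallyOfFinitePresentation)]
    exact RingHom.finitePresentation_algebraMap.mpr inferInstance
  let w : Spec (CommRingCat.of B) ⟶ T := Spec.map (CommRingCat.ofHom φ) ≫ T.isoSpec.inv
  have hs : Function.Surjective w.base := by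
    intro x
    obtain ⟨y, hy⟩ := PrimeSpectrum.comap_surjective_of_faithfullyFlat (A := Γ(T, ⊤)) (B := B) (T.isoSpec.hom x)
    refine ⟨y, ?_⟩
    show (Spec.map (CommRingCat.ofHom φ) ≫ T.isoSpec.inv) y = x
    rw [Scheme.Hom.comp_apply, show Spec.map (CommRingCat.ofHom φ) y = T.isoSpec.hom x from hy]
    exact (Scheme.Hom.comp_apply T.isoSpec.hom T.isoSpec.inv x).symm.trans (by rw [Iso.hom_inv_id]; rfl)
  have hR : Presieve.singleton w ∈ Scheme.precoverage fppfProp T := by
    rw [Scheme.singleton_mem_precoverage_iff]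
    exact ⟨hs, ⟨⟨⟨inferInstance, inferInstance⟩, inferInstance⟩, inferInstance⟩⟩
  obtain ⟨Y, v, s, hv, hk⟩ := h _ _ hR (𝟙 T)
  obtain ⟨⟩ := hv
  exact exists_retraction φ s hk

/-- A finite free algebra over a localization has a multiplicatively closed lattice. -/
theorem retraction_descend {A L : Type u} [CommRing A] [CommRing L] [IsLocalRing L] [Algebra A L]
    (S : Submonoid A) [IsLocalization S L] (hinj : Function.Injective (algebraMap A L))
    (hsec : ∀ (C : Type u) [CommRing C] [Algebra A C] [Module.Free A C] [Module.Finite A C] [Nontrivial C],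
      ∃ ψ : C →+* A, ψ.comp (algebraMap A C) = RingHom.id A)
    (B : Type u) [CommRing B] [Algebra L B] [Module.Free L B] [Module.Finite L B] [Nontrivial B] :
    ∃ ψ : B →+* L, ψ.comp (algebraMap L B) = RingHom.id L := by
  classical
  haveI : FaithfulSMul A L := (faithfulSMul_iff_algebraMap_injective A L).mpr hinj
  letI : Algebra A B := ((algebraMap L B).comp (algebraMap A L)).toAlgebra
  haveI : IsScalarTower A L B := IsScalarTower.of_algebraMap_eq fun _ => rfl
  obtain ⟨⟨ι, c⟩⟩ := Module.Free.exists_basis (R := L) (M := B)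
  haveI : Finite ι := Module.Finite.finite_basis c
  haveI : Fintype ι := Fintype.ofFinite ι
  obtain ⟨k₀, hk₀⟩ : ∃ k, IsUnit (c.repr 1 k) := by
    by_contra hno
    push Not at hno
    obtain ⟨j⟩ := c.index_nonempty
    have h1 : c.repr (c j * 1) j ∈ maximalIdeal L := by
      rw [← c.sum_repr (1 : B), Finset.mul_sum, map_sum, Finsupp.finsetSum_apply]
      refine sum_mem fun k _ => ?_
      rw [mul_smul_comm, map_smul, Finsupp.smul_apply, smul_eq_mul]
      exact Ideal.mul_mem_right _ _ (hno k)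
    rw [mul_one, c.repr_self, Finsupp.single_eq_same] at h1
    exact (maximalIdeal L).ne_top_iff_one.mp (Ideal.IsPrime.ne_top inferInstance) h1
  have hli : LinearIndependent L (Function.update c k₀ 1) := by
    rw [Fintype.linearIndependent_iff]
    intro g hg
    have h1 : ∀ k, (if k = k₀ then 0 else g k) + g k₀ * c.repr 1 k = 0 := fun k => by
      have h2 := congrArg (fun x => c.repr x k) hg
      simp only [map_sum, map_smul, map_zero, Finsupp.finsetSum_apply, Finsupp.smul_apply, smul_eq_mul,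
        Finsupp.coe_zero, Pi.zero_apply] at h2
      rw [Finset.sum_eq_add_sum_sdiff_singleton_of_mem (Finset.mem_univ k₀), Function.update_self] at h2
      have h3 : ∑ x ∈ Finset.univ \ {k₀}, g x * c.repr (Function.update c k₀ 1 x) k =
          if k = k₀ then 0 else g k := by
        have hr : ∀ x ∈ Finset.univ \ {k₀}, g x * c.repr (Function.update c k₀ 1 x) k =
            if x = k then g x else 0 := fun x hx => by
          rw [Function.update_of_ne (show x ≠ k₀ by simpa using hx), c.repr_self, Finsupp.single_apply]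
          split_ifs <;> simp
        rw [Finset.sum_congr rfl hr, Finset.sum_ite_eq']
        by_cases hk : k = k₀ <;> simp [hk]
      rw [← h3, add_comm, ← h2]
    have h0 : g k₀ = 0 := hk₀.mul_left_eq_zero.mp (by simpa using h1 k₀)
    intro k
    by_cases hk : k = k₀
    · exact hk ▸ h0
    · simpa [hk, h0] using h1 k
  have hspan : (⊤ : Submodule L B) ≤ Submodule.span L (Set.range (Function.update c k₀ 1)) := by
    rw [← c.span_eq, Submodule.span_le]
    rintro _ ⟨k, rfl⟩
    have hmem : ∀ x, x ≠ k₀ → c x ∈ Submodule.span L (Set.range (Function.update c k₀ 1)) := fun x hx =>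
      Submodule.subset_span ⟨x, Function.update_of_ne hx _ _⟩
    by_cases hk : k = k₀
    · subst hk
      have h1 : c.repr 1 k • c k ∈ Submodule.span L (Set.range (Function.update c k 1)) := by
        have h2 := c.sum_repr (1 : B)
        rw [Finset.sum_eq_add_sum_sdiff_singleton_of_mem (Finset.mem_univ k)] at h2
        rw [eq_sub_of_add_eq h2]
        refine sub_mem (Submodule.subset_span ⟨k, Function.update_self _ _ _⟩)
          (sum_mem fun x hx => Submodule.smul_mem _ _ (hmem x (by simpa using hx)))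
      have h3 := Submodule.smul_mem _ ((hk₀.unit⁻¹ : Lˣ) : L) h1
      rwa [smul_smul, IsUnit.val_inv_mul, one_smul] at h3
    · exact hmem k hk
  let c₁ := Module.Basis.mk hli hspan
  have hc₁ : c₁ k₀ = 1 := by rw [Module.Basis.mk_apply, Function.update_self]
  obtain ⟨s, hs⟩ := IsLocalization.exist_integer_multiples S (Finset.univ : Finset (ι × ι × ι))
    (fun x => c₁.repr (c₁ x.1 * c₁ x.2.1) x.2.2)
  let t := algebraMap A L s
  have ht : IsUnit t := IsLocalization.map_units L s
  let b := c₁.unitsSMul fun k => if k = k₀ then 1 else ht.unit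
  have hb₀ : b k₀ = 1 := by simp [b, Module.Basis.unitsSMul_apply, hc₁]
  have hmul : ∀ i j, b i * b j ∈ Submodule.span A (Set.range b) := by
    intro i j
    by_cases hi : i = k₀
    · rw [hi, hb₀, one_mul]; exact Submodule.subset_span ⟨j, rfl⟩
    by_cases hj : j = k₀
    · rw [hj, hb₀, mul_one]; exact Submodule.subset_span ⟨i, rfl⟩
    rw [← c₁.sum_repr (b i * b j)]
    refine sum_mem fun k _ => ?_
    obtain ⟨a, ha⟩ := hs (i, j, k) (Finset.mem_univ _)
    have e : c₁.repr (b i * b j) k = t * algebraMap A L a := by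
      simp only [b, Module.Basis.unitsSMul_apply, if_neg hi, if_neg hj, Units.smul_def, IsUnit.unit_spec,
        smul_mul_smul_comm, map_smul, Finsupp.smul_apply, smul_eq_mul]
      rw [ha, Algebra.smul_def, ← mul_assoc]
    by_cases hk : k = k₀
    · have e2 : c₁.repr (b i * b j) k • c₁ k = ((s : A) * a) • b k := by
        rw [e, ← algebraMap_smul L ((s : A) * a) (b k), map_mul]
        simp [b, Module.Basis.unitsSMul_apply, hk, t]
      rw [e2]
      exact Submodule.smul_mem _ _ (Submodule.subset_span ⟨k, rfl⟩)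
    · have e2 : c₁.repr (b i * b j) k • c₁ k = a • b k := by
        rw [e, ← algebraMap_smul L a (b k)]
        simp only [b, Module.Basis.unitsSMul_apply, if_neg hk, Units.smul_def, IsUnit.unit_spec, smul_smul]
        rw [mul_comm]
      rw [e2]
      exact Submodule.smul_mem _ _ (Submodule.subset_span ⟨k, rfl⟩)
  have h1mem : (1 : B) ∈ Submodule.span A (Set.range b) := Submodule.subset_span ⟨k₀, hb₀⟩
  have hmul' : ∀ x y, x ∈ Submodule.span A (Set.range b) → y ∈ Submodule.span A (Set.range b) →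
      x * y ∈ Submodule.span A (Set.range b) := by
    intro x y hx hy
    have h := Submodule.mul_mem_mul hx hy
    rw [Submodule.span_mul_span] at h
    refine Submodule.span_le.mpr ?_ h
    rintro _ ⟨_, ⟨i, rfl⟩, _, ⟨j, rfl⟩, rfl⟩
    exact hmul i j
  let C : Subalgebra A B := (Submodule.span A (Set.range b)).toSubalgebra h1mem hmul'
  let bC : Module.Basis ι A C := Module.Basis.span (b.linearIndependent.restrict_scalars
    (by simpa [Algebra.smul_def] using hinj))
  haveI : Module.Free A C := Module.Free.of_basis bC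
  haveI : Module.Finite A C := Module.Finite.of_basis bC
  haveI : Nontrivial C := ⟨⟨0, 1, fun h => zero_ne_one (congrArg Subtype.val h : (0 : B) = 1)⟩⟩
  obtain ⟨ψ, hψ⟩ := hsec C
  let ψl : C →ₗ[A] A :=
    { toFun := ψ
      map_add' := map_add ψ
      map_smul' := fun a x => by
        show ψ (a • x) = a * ψ x
        rw [Algebra.smul_def, map_mul, ← RingHom.comp_apply, hψ, RingHom.id_apply] }
  let Φ : B →ₗ[L] L := b.constr L fun k => algebraMap A L (ψ (⟨b k, Submodule.subset_span ⟨k, rfl⟩⟩ : C))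
  have hΦ : ∀ x : C, Φ (x : B) = algebraMap A L (ψ x) := by
    have h : (Φ.restrictScalars A).comp C.val.toLinearMap = (Algebra.linearMap A L).comp ψl := by
      refine bC.ext fun k => ?_
      have e : bC k = (⟨b k, Submodule.subset_span ⟨k, rfl⟩⟩ : C) :=
        Module.Basis.span_apply _ k
      rw [e]
      exact b.constr_basis L _ k
    exact fun x => LinearMap.congr_fun h x
  have h1 : Φ 1 = 1 := by
    have := hΦ 1
    rw [map_one, map_one] at this
    exact this
  have h2 : ∀ x y, Φ (x * y) = Φ x * Φ y := by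
    rw [LinearMap.map_mul_iff]
    refine b.ext fun i => b.ext fun j => ?_
    show Φ (b i * b j) = Φ (b i) * Φ (b j)
    have h3 := hΦ ((⟨b i, Submodule.subset_span ⟨i, rfl⟩⟩ : C) * ⟨b j, Submodule.subset_span ⟨j, rfl⟩⟩)
    rw [map_mul, map_mul, ← hΦ, ← hΦ] at h3
    exact h3
  exact ⟨(AlgHom.ofLinearMap Φ h1 h2).toRingHom, RingHom.ext fun a => (AlgHom.ofLinearMap Φ h1 h2).commutes a⟩

theorem interior_isLocalization {P : ModPair.Pair.{u}} [IsAffine P.total]
    [IsAffine (ModPair.interior P.mod : Scheme.{u})]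
    [IsLocalRing Γ((ModPair.interior P.mod : Scheme.{u}), ⊤)]
    {p : (ModPair.interior P.mod : Scheme.{u})} (hp : IsClosed ({p} : Set (ModPair.interior P.mod : Scheme.{u}))) :
    letI := ((ModPair.interior P.mod).ι.app ⊤).hom.toAlgebra
    IsLocalization (primeOf p).primeCompl Γ((ModPair.interior P.mod : Scheme.{u}), ⊤) := by
  haveI := S19343.isIso_germ_top hp
  letI := ((ModPair.interior P.mod).ι.app ⊤).hom.toAlgebra
  letI : Algebra Γ(P.total, ⊤) (P.total.presheaf.stalk p.1) :=
    (P.total.presheaf.germ ⊤ p.1 trivial).hom.toAlgebra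
  haveI : IsLocalization (primeOf p).primeCompl (P.total.presheaf.stalk p.1) := by
    have h := (isAffineOpen_top P.total).isLocalization_stalk ⟨p.1, trivial⟩
    have e : ((isAffineOpen_top P.total).primeIdealOf ⟨p.1, trivial⟩).asIdeal = primeOf p := by
      rw [IsAffineOpen.primeIdealOf_eq_map_closedPoint]
      rfl
    have e2 : ((isAffineOpen_top P.total).primeIdealOf ⟨p.1, trivial⟩).asIdeal.primeCompl =
        (primeOf p).primeCompl := SetLike.ext fun a => not_congr (SetLike.ext_iff.mp e a)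
    rw [← e2]
    exact h
  let G := (ModPair.interior P.mod : Scheme.{u}).presheaf.germ ⊤ p trivial
  let e := (((ModPair.interior P.mod).stalkIso p).symm ≪≫ (asIso G).symm).commRingCatIsoToRingEquiv
  refine IsLocalization.isLocalization_of_algEquiv (primeOf p).primeCompl
    (AlgEquiv.ofRingEquiv (f := e) fun a => ?_)
  show (P.total.presheaf.germ ⊤ p.1 trivial ≫ ((ModPair.interior P.mod).stalkIso p).inv ≫ inv G).hom a =
    ((ModPair.interior P.mod).ι.app ⊤).hom a
  congr 2
  rw [← Category.assoc, IsIso.comp_inv_eq, Iso.comp_inv_eq, Category.assoc]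
  erw [Scheme.Opens.germ_stalkIso_hom (ModPair.interior P.mod) (V := ⊤) p trivial]
  rw [Scheme.Opens.ι_app]
  exact (P.total.presheaf.germ_res _ _ _).symm

theorem interior_retraction {P : ModPair.Pair.{u}} [IsAffine P.total] (hT : FppfLocalSch P.total)
    [IsAffine (ModPair.interior P.mod : Scheme.{u})]
    [IsLocalRing Γ((ModPair.interior P.mod : Scheme.{u}), ⊤)]
    {p : (ModPair.interior P.mod : Scheme.{u})} (hp : IsClosed ({p} : Set (ModPair.interior P.mod : Scheme.{u})))
    (B : Type u) [CommRing B] [Algebra Γ((ModPair.interior P.mod : Scheme.{u}), ⊤) B]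
    [Module.Free Γ((ModPair.interior P.mod : Scheme.{u}), ⊤) B]
    [Module.Finite Γ((ModPair.interior P.mod : Scheme.{u}), ⊤) B] [Nontrivial B] :
    ∃ ψ : B →+* Γ((ModPair.interior P.mod : Scheme.{u}), ⊤),
      ψ.comp (algebraMap _ B) = RingHom.id _ := by
  letI := ((ModPair.interior P.mod).ι.app ⊤).hom.toAlgebra
  haveI := interior_isLocalization hp
  haveI := isAffineHom_interior (isLP_of_cart P.isEffCartier)
  haveI := dominant_interior P.isEffCartier
  exact retraction_descend (L := Γ((ModPair.interior P.mod : Scheme.{u}), ⊤)) (primeOf p).primeCompl ((ModPair.interior P.mod).ι.app_injective ⊤)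
    (fun C _ _ _ _ _ => retraction_of_fppfLocalSch hT C) B

/-- A scheme affine with henselian local ring and retractions for finite free algebras is fppf-local. -/
theorem fppfLocalSch_of_retraction {T : Scheme.{u}} [IsAffine T] [HenselianLocalRing Γ(T, ⊤)]
    (hret : ∀ (B : Type u) [CommRing B] [Algebra Γ(T, ⊤) B] [Module.Free Γ(T, ⊤) B] [Module.Finite Γ(T, ⊤) B]
      [Nontrivial B], ∃ ψ : B →+* Γ(T, ⊤), ψ.comp (algebraMap Γ(T, ⊤) B) = RingHom.id _) : FppfLocalSch T := by
  intro X R hR g
  obtain ⟨W, w, hw, hcov, hfac⟩ := exists_small_cover hR g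
  have hRT : Presieve.ofArrows W w ∈
      Scheme.precoverage (@Flat ⊓ @LocallyOfFinitePresentation ⊓ @QuasiCompact ⊓ @QuasiSeparated) T := by
    rw [Scheme.ofArrows_mem_precoverage_iff]
    exact ⟨fun x => ⟨x, hcov x⟩, hw⟩
  obtain ⟨κ, U, V, eu, ev, heu, hpt, hev, hr⟩ := Groth.Agent.S19339.result W w hRT
  obtain ⟨k, y, hy, hiso⟩ := hpt (T.isoSpec.inv (closedPoint Γ(T, ⊤)))
  haveI := heu k
  haveI := hiso
  let f := eu k ≫ T.isoSpec.hom
  haveI : Smooth f := inferInstance
  have hfy : f y = closedPoint Γ(T, ⊤) := by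
    show T.isoSpec.hom (eu k y) = _
    rw [hy, ← Scheme.Hom.comp_apply, Iso.inv_hom_id]
    rfl
  haveI : IsIso (f.residueFieldMap y) := by
    rw [Scheme.residueFieldMap_comp]
    infer_instance
  obtain ⟨u₀, hu₀⟩ : ∃ u₀ : Spec (CommRingCat.of (ResidueField Γ(T, ⊤))) ⟶ U k,
      u₀ ≫ f = Spec.map (CommRingCat.ofHom (residue Γ(T, ⊤))) := by
    let c := Spec.map (CommRingCat.ofHom (residue Γ(T, ⊤)))
    have hc : f y = c (closedPoint _) := by
      rw [hfy]
      exact (IsLocalRing.comap_closedPoint (residue Γ(T, ⊤))).symm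
    refine ⟨Spec.map (inv (f.residueFieldMap y) ≫ ((Spec Γ(T, ⊤)).residueFieldCongr hc).hom ≫
        Scheme.descResidueField (Scheme.stalkClosedPointTo c)) ≫ (U k).fromSpecResidueField y, ?_⟩
    rw [Category.assoc, ← Scheme.Hom.SpecMap_residueFieldMap_fromSpecResidueField, ← Spec.map_comp_assoc,
      IsIso.hom_inv_id_assoc, Spec.map_comp_assoc, Scheme.residueFieldCongr_fromSpecResidueField]
    exact Scheme.descResidueField_stalkClosedPointTo_fromSpecResidueField _ _ c
  obtain ⟨σ, hσ, -⟩ := Hensel.exists_section_of_smooth f u₀ hu₀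
  obtain ⟨hfin, hflat, hsurj⟩ := hev k
  haveI := hfin; haveI := hflat; haveI := hsurj
  let q : pullback (ev k) σ ⟶ Spec Γ(T, ⊤) := pullback.snd (ev k) σ
  haveI : IsAffine (pullback (ev k) σ) := isAffine_of_isAffineHom q
  haveI : Surjective q := inferInstance
  let D := Γ(pullback (ev k) σ, ⊤)
  let φ : Γ(T, ⊤) ⟶ D := (Scheme.ΓSpecIso _).inv ≫ q.appTop
  have hq : q = (pullback (ev k) σ).isoSpec.hom ≫ Spec.map φ := by
    rw [Spec.map_comp, ← Category.assoc, Scheme.isoSpec_hom]
    erw [← Scheme.toSpecΓ_naturality]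
    rw [Category.assoc]
    simp
  have hSφ : Spec.map φ = (pullback (ev k) σ).isoSpec.inv ≫ q := by rw [hq, Iso.inv_hom_id_assoc]
  haveI : IsFinite (Spec.map φ) := hSφ ▸ inferInstance
  haveI : Flat (Spec.map φ) := hSφ ▸ inferInstance
  letI : Algebra Γ(T, ⊤) D := φ.hom.toAlgebra
  haveI : Module.Finite Γ(T, ⊤) D := (IsFinite.SpecMap_iff _).mp ‹IsFinite (Spec.map φ)›
  haveI : Module.Flat Γ(T, ⊤) D := (HasRingHomProperty.Spec_iff (P := @Flat)).mp ‹Flat (Spec.map φ)›
  haveI : Module.Free Γ(T, ⊤) D := Module.free_of_flat_of_isLocalRing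
  haveI : Nontrivial D := by
    obtain ⟨z, -⟩ := q.surjective (closedPoint Γ(T, ⊤))
    exact PrimeSpectrum.nonempty_iff_nontrivial.mp ⟨(pullback (ev k) σ).isoSpec.hom z⟩
  obtain ⟨ψ, hψ⟩ := hret D
  let s : Spec Γ(T, ⊤) ⟶ pullback (ev k) σ :=
    Spec.map (CommRingCat.ofHom ψ) ≫ (pullback (ev k) σ).isoSpec.inv
  have hs : s ≫ q = 𝟙 _ := by
    rw [Category.assoc, ← hSφ, ← Spec.map_comp, ← Spec.map_id]
    exact congrArg Spec.map (CommRingCat.hom_ext hψ)
  obtain ⟨j, r, hrj⟩ := hr k
  obtain ⟨Y, v, r', hv, hr'⟩ := hfac j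
  refine ⟨Y, v, T.isoSpec.hom ≫ s ≫ pullback.fst (ev k) σ ≫ r ≫ r', hv, ?_⟩
  simp only [Category.assoc]
  rw [hr', reassoc_of% hrj, reassoc_of% (pullback.condition (f := ev k) (g := σ)), reassoc_of% hs]
  have h1 : σ ≫ eu k = T.isoSpec.inv := by
    rw [← Iso.comp_hom_eq_id, Category.assoc]
    exact hσ
  rw [reassoc_of% h1, Iso.hom_inv_id_assoc]

open Polynomial in
theorem isAlgClosed_quotient {A L : Type u} [CommRing A] [CommRing L] [IsLocalRing L] [Algebra A L]
    (q : Ideal A) [q.IsPrime] [IsLocalization.AtPrime L q]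
    (hret : ∀ (B : Type u) [CommRing B] [Algebra L B] [Module.Free L B] [Module.Finite L B] [Nontrivial B],
      ∃ ψ : B →+* L, ψ.comp (algebraMap L B) = RingHom.id L) :
    IsAlgClosed (FractionRing (A ⧸ q)) := by
  let K := FractionRing (A ⧸ q)
  let ρ : L →+* K := IsLocalization.lift (M := q.primeCompl) (g := (algebraMap (A ⧸ q) K).comp (Ideal.Quotient.mk q))
    fun s => by
      rw [isUnit_iff_ne_zero, RingHom.comp_apply, map_ne_zero_iff _ (IsFractionRing.injective (A ⧸ q) K)]
      exact fun h => s.2 (Ideal.Quotient.eq_zero_iff_mem.mp h)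
  have hρ' : ∀ a, ρ (algebraMap A L a) = algebraMap (A ⧸ q) K (Ideal.Quotient.mk q a) :=
    fun a => IsLocalization.lift_eq _ a
  have hρ : Function.Surjective ρ := fun z => by
    obtain ⟨a, b, hb, rfl⟩ := IsFractionRing.div_surjective (A := A ⧸ q) z
    obtain ⟨a, rfl⟩ := Ideal.Quotient.mk_surjective a
    obtain ⟨b, rfl⟩ := Ideal.Quotient.mk_surjective b
    have hb' : b ∉ q := fun h => nonZeroDivisors.ne_zero hb (Ideal.Quotient.eq_zero_iff_mem.mpr h)
    refine ⟨IsLocalization.mk' L a (⟨b, hb'⟩ : q.primeCompl), ?_⟩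
    rw [eq_div_iff (by simpa using fun h => hb' (Ideal.Quotient.eq_zero_iff_mem.mp h)),
      ← hρ' b,
      ← map_mul, IsLocalization.mk'_spec L a (⟨b, hb'⟩ : q.primeCompl)]
    exact hρ' a
  refine IsAlgClosed.of_exists_root K fun p hp hirr => ?_
  have hl : p ∈ lifts ρ := by
    rw [lifts_iff_coeff_lifts]; exact fun n => hρ _
  obtain ⟨F, hF, hdeg, hFm⟩ := lifts_and_natDegree_eq_and_monic hl hp
  haveI : Module.Free L (AdjoinRoot F) := hFm.free_adjoinRoot
  haveI : Module.Finite L (AdjoinRoot F) := hFm.finite_adjoinRoot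
  haveI := adjoinRoot_nontrivial hFm (by rw [hdeg]; exact hirr.natDegree_pos)
  obtain ⟨ψ, hψ⟩ := hret (AdjoinRoot F)
  obtain ⟨r, hr⟩ := root_of_retraction ψ hψ
  exact ⟨ρ r, by rw [← hF, eval_map_apply, hr, map_zero]⟩

/-- Let P be a modulus pair (a scheme P̄ with the quasi-coherent ideal sheaf of an effective Cartier
divisor) whose total space P̄ is quasi-compact and quasi-separated. Call a scheme T fppf-local when
for every scheme X, every jointly surjective family of morphisms to X that are flat and of finite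
presentation (locally of finite presentation, quasi-compact, quasi-separated) and every T ⟶ X, the
latter factors through a member of the family. Then P is local both for fppf coverings of modulus
pairs (families of minimal morphisms U_i ⟶ X whose underlying morphisms form such a family, with the
same factorisation property for morphisms of pairs P ⟶ X) and for abstract admissible blow-ups
(every P ⟶ X lifts along every abstract admissible blow-up Q ⟶ X) if and only if (1) P̄ is
fppf-local, (2) the interior P° is fppf-local, (3) P° is affine with local ring of global sections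
and, writing p for its closed point and 𝔮 ⊂ A = Γ(P̄) for the prime ideal of p, the ring A/𝔮 is a
valuation ring with algebraically closed fraction field, and (4) the localisation map sends 𝔮
bijectively onto the maximal ideal of A_𝔮, i.e. A = A/𝔮 ×_{k(𝔮)} A_𝔮 and P̄ is the gluing of the
closure of p to P° along p. (The affine-local clause in (3) is a consequence of (2) and only serves
to name p.) The published statement allows any modulus pair P; this row assumes the total space P̄
quasi-compact and quasi-separated. -/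
theorem result (P : ModPair.Pair.{u})
    [CompactSpace P.total] [QuasiSeparatedSpace P.total] :
    ((∀ (X : ModPair.Pair.{u}) (ι : Type u) (U : ι → ModPair.Pair.{u}) (v : ∀ i, U i ⟶ X),
        (∀ i, ModPair.IsMinimal (U i).mod X.mod (v i).hom ∧ Flat (v i).hom ∧
          LocallyOfFinitePresentation (v i).hom ∧ QuasiCompact (v i).hom ∧
          QuasiSeparated (v i).hom) →
        (∀ x : X.total, ∃ (i : ι) (y : (U i).total), (v i).hom.base y = x) →
        ∀ g : P ⟶ X, ∃ (i : ι) (h : P ⟶ U i), h ≫ v i = g) ∧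
      (∀ (Q X : ModPair.Pair.{u}) (q : Q ⟶ X), ModPair.Pair.admBlowup q →
        ∀ g : P ⟶ X, ∃ h : P ⟶ Q, h ≫ q = g)) ↔
    ((∀ (X : Scheme.{u}) (R : Presieve X), R ∈ Scheme.precoverage (@Flat ⊓ @LocallyOfFinitePresentation ⊓ @QuasiCompact ⊓ @QuasiSeparated) X →
        ∀ g : P.total ⟶ X, ∃ (Y : Scheme.{u}) (w : Y ⟶ X) (h : P.total ⟶ Y), R w ∧ h ≫ w = g) ∧
      (∀ (X : Scheme.{u}) (R : Presieve X), R ∈ Scheme.precoverage (@Flat ⊓ @LocallyOfFinitePresentation ⊓ @QuasiCompact ⊓ @QuasiSeparated) X →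
        ∀ g : (ModPair.interior P.mod : Scheme.{u}) ⟶ X, ∃ (Y : Scheme.{u}) (w : Y ⟶ X) (h : (ModPair.interior P.mod : Scheme.{u}) ⟶ Y), R w ∧ h ≫ w = g) ∧
      IsAffine (ModPair.interior P.mod : Scheme.{u}) ∧
      IsLocalRing Γ((ModPair.interior P.mod : Scheme.{u}), ⊤) ∧
      ∀ p : (ModPair.interior P.mod : Scheme.{u}),
        IsClosed ({p} : Set (ModPair.interior P.mod : Scheme.{u})) →
          ValuationRing (Γ(P.total, ⊤) ⧸ (P.total.toSpecΓ.base ((ModPair.interior P.mod).ι.base p)).asIdeal) ∧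
          IsAlgClosed (FractionRing (Γ(P.total, ⊤) ⧸ (P.total.toSpecΓ.base ((ModPair.interior P.mod).ι.base p)).asIdeal)) ∧
          Set.BijOn (algebraMap Γ(P.total, ⊤) (Localization.AtPrime (P.total.toSpecΓ.base ((ModPair.interior P.mod).ι.base p)).asIdeal))
            ((P.total.toSpecΓ.base ((ModPair.interior P.mod).ι.base p)).asIdeal : Set Γ(P.total, ⊤))
            (IsLocalRing.maximalIdeal (Localization.AtPrime (P.total.toSpecΓ.base ((ModPair.interior P.mod).ι.base p)).asIdeal) :
              Set (Localization.AtPrime (P.total.toSpecΓ.base ((ModPair.interior P.mod).ι.base p)).asIdeal))) := by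
  change (FppfLocal P ∧ BlowLocal P) ↔ (FppfLocalSch P.total ∧ FppfLocalSch (ModPair.interior P.mod : Scheme.{u}) ∧ _)
  constructor
  · rintro ⟨hF, hB⟩
    have hT := fppfLocalSch_total hF
    have hE := etLocal_of_fppfLocal hF
    obtain ⟨h1, h2, h3, h4, h5⟩ := (S19342.main_local P).mp ⟨S19343.zarLocal_of_etLocal hE, hB⟩
    haveI := h1; haveI := h2; haveI := h3; haveI := h4
    obtain ⟨hh, -⟩ := S19343.strict_of_etLocal hE
    haveI := hh
    obtain ⟨p₀, hp₀⟩ := exists_closed_point (X := (ModPair.interior P.mod : Scheme.{u}))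
    haveI := S19343.interior_henselian hp₀ (h5 p₀ hp₀).2
    refine ⟨hT, fppfLocalSch_of_retraction fun B _ _ _ _ _ => interior_retraction hT hp₀ B, h3, h4,
      fun p hp => ⟨(h5 p hp).1, ?_, (h5 p hp).2⟩⟩
    letI := ((ModPair.interior P.mod).ι.app ⊤).hom.toAlgebra
    haveI := interior_isLocalization hp
    exact isAlgClosed_quotient (primeOf p) fun B _ _ _ _ _ => interior_retraction hT hp B
  · rintro ⟨hT, -, h3, h4, h5⟩
    obtain ⟨h1, h2⟩ := affine_local_of_fppfLocalSch hT
    haveI := h1; haveI := h2 h1; haveI := h3; haveI := h4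
    exact ⟨fppfLocal_of_total hT, ((S19342.main_local P).mpr
      ⟨h1, inferInstance, h3, h4, fun p hp => ⟨(h5 p hp).1, (h5 p hp).2.2⟩⟩).2⟩

end Groth.Agent.S19344
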