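import Groth.Statements.S19347
import Groth.Agent.RGBlowLib.ExtendBundle
import Groth.Agent.QCohLib.Push
import Groth.Agent.DCohMore.DescFPPF
import Groth.Agent.DCohLib.SPerf
import Groth.Agent.S4812

set_option autoImplicit false
set_option linter.style.haveILetI false
set_option backward.isDefEq.respectTransparency false
set_option maxHeartbeats 1000000
universe u
open RigCh CategoryTheory CategoryTheory.Limits AlgebraicGeometry

namespace Groth.Agent.S19347

open AlgebraicGeometry CategoryTheory in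
/-- Let k be a field, X a separated k-scheme of finite type and 0 → F₁ → F₂ → F₃ → 0 a short exact
sequence of finite locally free O_X-modules. Then there are an open immersion j of X, over k, into a
scheme proper over k, such that the complement of the image of j is the support of an effective
Cartier divisor (a quasi-coherent ideal sheaf which near every point is generated on some affine
open by a single nonzerodivisor), and a short exact sequence 0 → G₁ → G₂ → G₃ → 0 of finite locally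
free modules on that scheme whose pullback along j is isomorphic to the given sequence (isomorphisms
on the three terms commuting with the maps). (In the source, compactifications have divisor boundary
by a standing convention, so the divisor clause is part of the published statement, although the
published proof does not re-verify it for the compactification it constructs. The source assumes k
of positive characteristic; this plays no role in the statement or its proof.) -/
theorem result (k : Type u) [Field k]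
    (X : Scheme.{u}) (f : X ⟶ Spec (CommRingCat.of k)) [IsSeparated f] [QuasiCompact f] [LocallyOfFiniteType f]
    (S : ShortComplex X.Modules) (hS : S.ShortExact)
    (h₁ : FlatMod.IsFinLocFree S.X₁) (h₂ : FlatMod.IsFinLocFree S.X₂) (h₃ : FlatMod.IsFinLocFree S.X₃) :
    ∃ (Xb : Scheme.{u}) (j : X ⟶ Xb) (g : Xb ⟶ Spec (CommRingCat.of k)) (E : Xb.IdealSheafData),
      IsOpenImmersion j ∧ IsProper g ∧ j ≫ g = f ∧
      BlowUp.IsEffCartierIdeal E ∧ (E.support : Set Xb) = (Set.range j.base)ᶜ ∧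
      ∃ (T : ShortComplex Xb.Modules), T.ShortExact ∧
        FlatMod.IsFinLocFree T.X₁ ∧ FlatMod.IsFinLocFree T.X₂ ∧ FlatMod.IsFinLocFree T.X₃ ∧
        ∃ (e₁ : (Scheme.Modules.pullback j).obj T.X₁ ≅ S.X₁) (e₂ : (Scheme.Modules.pullback j).obj T.X₂ ≅ S.X₂)
          (e₃ : (Scheme.Modules.pullback j).obj T.X₃ ≅ S.X₃),
          (Scheme.Modules.pullback j).map T.f ≫ e₂.hom = e₁.hom ≫ S.f ∧
          (Scheme.Modules.pullback j).map T.g ≫ e₃.hom = e₂.hom ≫ S.g := by
  obtain ⟨Y₀, j₀, g₀, hj₀, hj₀c, hg₀, hjg₀⟩ := RGBlowLib.compactifiable_of_noetherian f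
  haveI := hj₀
  haveI := hg₀
  haveI : IsNoetherian Y₀ := RGBlowLib.Union.isNoetherian_of_ft g₀
  haveI : IsNoetherian X := RGBlowLib.Union.isNoetherian_of_ft f
  -- the middle term
  obtain ⟨X₁, j₁, b₁, hj₁, hb₁, hjb₁, G₂, hG₂, ⟨e⟩⟩ := RGBlowLib.exists_extend_one j₀ S.X₂ h₂
  haveI := hj₁
  haveI := hb₁
  haveI : IsNoetherian X₁ := RGBlowLib.Union.isNoetherian_of_ft b₁
  haveI : PreservesFiniteLimits (Scheme.Modules.pullback j₁) :=
    DCohMore.preservesFiniteLimits_pullback_of_flat j₁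
  -- the coherent quotient
  obtain ⟨hq₃, -⟩ := PullbackMod.isQCoh_and_isFP_of_isFinLocFree S.X₃ h₃
  haveI := hq₃
  obtain ⟨hq₂, hfp₂⟩ := PullbackMod.isQCoh_and_isFP_of_isFinLocFree G₂ hG₂
  haveI := hq₂
  haveI := hfp₂
  let adj := Scheme.Modules.pullbackPushforwardAdjunction j₁
  let ψ : G₂ ⟶ (Scheme.Modules.pushforward j₁).obj S.X₃ := adj.homEquiv _ _ (e.hom ≫ S.g)
  let π := Abelian.factorThruImage ψ
  haveI hQq : Coh.IsQCoh (Abelian.image ψ) :=
    (QCohLib.isQCoh_image (cokernel.π ψ) (QCohLib.isQCoh_pushforward S.X₃ j₁)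
      (QCohLib.isQCoh_image ψ hq₂ (QCohLib.isQCoh_pushforward S.X₃ j₁)).2).1
  have hQt : CohB1.IsFT (Abelian.image ψ) := S4812.isFT_of_epi (show CohB1.IsFT G₂ from inferInstance) π
  let Pj := Scheme.Modules.pullback j₁
  let v : Pj.obj (Abelian.image ψ) ⟶ S.X₃ :=
    Pj.map (Abelian.image.ι ψ) ≫ adj.counit.app S.X₃
  have hv : Pj.map π ≫ v = e.hom ≫ S.g := by
    rw [← Functor.map_comp_assoc, Abelian.image.fac, ← adj.homEquiv_counit]
    exact Equiv.symm_apply_apply _ _
  haveI : IsIso v := by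
    haveI : IsIso (adj.counit.app S.X₃) := inferInstance
    haveI : Mono v := mono_comp _ _
    haveI := hS.epi_g
    haveI : Epi (Pj.map π ≫ v) := by rw [hv]; infer_instance
    haveI : Epi v := epi_of_epi (Pj.map π) v
    exact isIso_of_mono_of_epi v
  -- flatten the quotient
  obtain ⟨X₂, j₂, b₂, G₃, π', hj₂, hb₂, hjb₂, hG₃, hπ', hiso⟩ :=
    RGBlowLib.exists_flatten j₁ (Abelian.image ψ) hQt (RGBlowLib.isFinLocFree_congr (asIso v).symm h₃)
  haveI := hj₂
  haveI := hb₂
  haveI := hπ'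
  haveI : IsNoetherian X₂ := RGBlowLib.Union.isNoetherian_of_ft b₂
  -- divisorial boundary
  obtain ⟨X₃, j₃, b₃, D, hj₃, hb₃, hjb₃, hD, hDs⟩ := RGBlowLib.exists_cartier_boundary j₂ (b₂ ≫ b₁ ≫ g₀)
  haveI := hj₃
  haveI := hb₃
  let P₂ := Scheme.Modules.pullback b₂
  let P₃ := Scheme.Modules.pullback b₃
  let J := Scheme.Modules.pullback j₃
  let T₂ := P₃.obj (P₂.obj G₂)
  let T₃ := P₃.obj G₃
  let τ : T₂ ⟶ T₃ := P₃.map (P₂.map π ≫ π')
  haveI : P₂.PreservesEpimorphisms :=
    Functor.preservesEpimorphisms_of_adjunction (Scheme.Modules.pullbackPushforwardAdjunction b₂)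
  haveI : P₃.PreservesEpimorphisms :=
    Functor.preservesEpimorphisms_of_adjunction (Scheme.Modules.pullbackPushforwardAdjunction b₃)
  haveI : Epi τ := inferInstance
  let T : ShortComplex X₃.Modules := ShortComplex.mk (kernel.ι τ) τ (kernel.condition τ)
  have hT : T.ShortExact := ShortComplex.ShortExact.mk' (ShortComplex.exact_of_f_is_kernel _ (kernelIsKernel τ))
    inferInstance inferInstance
  have hT₂ : FlatMod.IsFinLocFree T₂ :=
    PullbackMod.isFinLocFree_pullback b₃ _ (PullbackMod.isFinLocFree_pullback b₂ G₂ hG₂)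
  have hT₃ : FlatMod.IsFinLocFree T₃ := PullbackMod.isFinLocFree_pullback b₃ G₃ hG₃
  have hT₁ : FlatMod.IsFinLocFree T.X₁ := DCohLib.isFinLocFree_of_shortExact hT hT₂ hT₃
  -- compare with the given sequence
  let θ : P₂ ⋙ P₃ ⋙ J ≅ Pj :=
    Functor.isoWhiskerLeft P₂ (Scheme.Modules.pullbackComp j₃ b₃ ≪≫ Scheme.Modules.pullbackCongr hjb₃) ≪≫
      Scheme.Modules.pullbackComp j₂ b₂ ≪≫ Scheme.Modules.pullbackCongr hjb₂
  haveI : IsIso (J.map (P₃.map π')) :=
    (NatIso.isIso_map_iff (Scheme.Modules.pullbackComp j₃ b₃ ≪≫ Scheme.Modules.pullbackCongr hjb₃) π').2 hiso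
  let u₂ : J.obj T₂ ≅ S.X₂ := θ.app G₂ ≪≫ e
  let u₃ : J.obj T₃ ≅ S.X₃ := (asIso (J.map (P₃.map π'))).symm ≪≫ θ.app _ ≪≫ asIso v
  have hsq : J.map τ ≫ u₃.hom = u₂.hom ≫ S.g := by
    have h : J.map (P₃.map (P₂.map π)) ≫ θ.hom.app (Abelian.image ψ) = θ.hom.app G₂ ≫ Pj.map π :=
      θ.hom.naturality π
    simp only [τ, u₂, u₃, Functor.map_comp, Iso.trans_hom, Iso.symm_hom, asIso_inv, asIso_hom, Iso.app_hom,
      Category.assoc, IsIso.hom_inv_id_assoc]
    rw [reassoc_of% h, hv]
  haveI : PreservesFiniteLimits J := DCohMore.preservesFiniteLimits_pullback_of_flat j₃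
  haveI := hS.mono_f
  haveI : Mono (J.map T.f) := inferInstanceAs (Mono (J.map (kernel.ι τ)))
  have hTJ : (J.map T.f) ≫ J.map τ = 0 := by rw [← Functor.map_comp, T.zero, Functor.map_zero]
  have hker : (ShortComplex.mk (J.map T.f) (J.map τ) hTJ).Exact := by
    haveI : PreservesColimitsOfSize.{u, u} J :=
      (Scheme.Modules.pullbackPushforwardAdjunction j₃).leftAdjoint_preservesColimits
    haveI : PreservesColimitsOfSize.{0, 0} J := preservesColimitsOfSize_shrink.{0, u, 0, u} _
    haveI : PreservesFiniteColimits J := PreservesColimitsOfSize.preservesFiniteColimits _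
    exact (hT.map_of_exact J).exact
  let a : J.obj T.X₁ ⟶ S.X₁ := hS.exact.lift (J.map T.f ≫ u₂.hom)
    (by rw [Category.assoc, ← hsq, reassoc_of% hTJ, zero_comp])
  let a' : S.X₁ ⟶ J.obj T.X₁ := hker.lift (S.f ≫ u₂.inv) (by
    show (S.f ≫ u₂.inv) ≫ J.map τ = 0
    rw [← cancel_mono u₃.hom, Category.assoc, Category.assoc, hsq, zero_comp, Iso.inv_hom_id_assoc, S.zero])
  have ha : a ≫ S.f = J.map T.f ≫ u₂.hom := hS.exact.lift_f _ _
  have ha' : a' ≫ J.map T.f = S.f ≫ u₂.inv := hker.lift_f _ _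
  refine ⟨X₃, j₃, b₃ ≫ b₂ ≫ b₁ ≫ g₀, D, hj₃, inferInstance, ?_, hD, hDs, T, hT, hT₁, hT₂, hT₃,
    ⟨a, a', ?_, ?_⟩, u₂, u₃, ?_, hsq⟩
  · rw [reassoc_of% hjb₃, reassoc_of% hjb₂, reassoc_of% hjb₁, hjg₀]
  · rw [← cancel_mono (J.map T.f), Category.assoc, ha', reassoc_of% ha, Iso.hom_inv_id, Category.comp_id,
      Category.id_comp]
  · rw [← cancel_mono S.f, Category.assoc, ha, reassoc_of% ha', Iso.inv_hom_id, Category.comp_id, Category.id_comp]
  · exact ha.symm

end Groth.Agent.S19347
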