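import Groth.Statements.S19348
import Mathlib

set_option autoImplicit false
universe u
open RigCh

namespace Groth.Agent.S19348

open Polynomial TensorProduct

/-- Let p be a prime and m a natural number, P a commutative ring complete and separated for the p-adic
topology, and I an ideal of P with a divided power structure of level m, that is a sub-ideal J of I
endowed with divided powers such that x ^ (p ^ m) and p * x lie in J for all x in I. Then an element
of P whose class in P / I is invertible is invertible in P. (The source states this for a lift of a
unit to the p-adically completed level-m divided power envelope of a closed immersion; the statement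
here keeps exactly what its argument uses: completeness for p and the level-m divided powers on the
kernel.) -/
theorem result (p : ℕ) [Fact p.Prime] (m : ℕ)
    (P : Type u) [CommRing P] [IsAdicComplete (Ideal.span {(p : P)}) P]
    (I J : Ideal P) (hJ : DividedPowers J) (hJI : J ≤ I)
    (hpow : ∀ x ∈ I, x ^ (p ^ m) ∈ J) (hmul : ∀ x ∈ I, (p : P) * x ∈ J)
    (u : P) (hu : IsUnit (Ideal.Quotient.mk I u)) : IsUnit u := by
  obtain ⟨v', hv⟩ := hu.exists_right_inv
  obtain ⟨v, rfl⟩ := Ideal.Quotient.mk_surjective v'
  rw [← map_mul, ← map_one (Ideal.Quotient.mk I), Ideal.Quotient.eq] at hv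
  refine isUnit_of_mul_isUnit_left (y := v) (Ideal.isUnit_of_sub_one_mem_jacobson_bot _ ?_)
  suffices h : (u * v - 1) ^ (p ^ m * p) ∈ Ideal.jacobson (⊥ : Ideal P) from
    Ideal.isRadical_jacobson _ ⟨_, h⟩
  rw [pow_mul, ← hJ.factorial_mul_dpow_eq_pow (hpow _ hv)]
  exact IsAdicComplete.le_jacobson_bot (Ideal.span {(p:P)}) (Ideal.mem_span_singleton.2
    ((Nat.cast_dvd_cast (Nat.dvd_factorial (Fact.out : p.Prime).pos le_rfl)).mul_right _))

end Groth.Agent.S19348
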