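import Groth.Statements.S19350
import Groth.Agent.S1696
import Groth.Agent.PullbackMod.LocFree

set_option autoImplicit false
universe u
open RigCh

namespace Groth.Agent.S19350

open CategoryTheory CategoryTheory.Limits AlgebraicGeometry

open Groth.Agent CategoryTheory AlgebraicGeometry
set_option backward.isDefEq.respectTransparency false

open AlgebraicGeometry CategoryTheory in
/-- Let X be a separated scheme of finite type over a field k, I a quasi-coherent ideal sheaf on X, b :
X' → X a blowing up of X in I and F a finite locally free O_X-module. Then for any strict transform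
G of F along b (an epimorphism π from the pullback of F onto G whose kernel consists,
affine-locally, of the sections annihilated by a power of the exceptional ideal), π is an
isomorphism and G is finite locally free. (The published statement asserts only that the strict
transform is locally free. The source assumes k of positive characteristic, which plays no role
here.) -/
theorem result (k : Type u) [Field k]
    (X : Scheme.{u}) (f : X ⟶ Spec (CommRingCat.of k)) [IsSeparated f] [QuasiCompact f] [LocallyOfFiniteType f]
    (I : X.IdealSheafData) {X' : Scheme.{u}} (b : X' ⟶ X) (hb : BlowUp.IsBlowUp b I)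
    (F : X.Modules) (hF : FlatMod.IsFinLocFree F) (G : X'.Modules) (π : (Scheme.Modules.pullback b).obj F ⟶ G)
    (hG : BlowUp.IsStrictTransform b I F G π) : IsIso π ∧ FlatMod.IsFinLocFree G := by
  obtain ⟨hq, -⟩ := PullbackMod.isQCoh_and_isFP_of_isFinLocFree F hF
  have hid := Groth.Agent.S1696.result I b hb F hq (fun s _ => PullbackMod.isFlat_of_isFinLocFree F hF s)
  let P := (Scheme.Modules.pullback b).obj F
  haveI := hG.1
  have h0 : ∀ (V : X'.affineOpens) (m : Γ(P, V.1)), π.app V.1 m = 0 → m = 0 := fun V m hm =>
    (hid.2 V m).2 ((hG.2 V m).1 hm)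
  haveI : Mono π.mapPresheaf := by
    rw [NatTrans.mono_iff_mono_app]
    intro W
    rw [AddCommGrpCat.mono_iff_injective]
    refine (injective_iff_map_eq_zero _).2 fun s hs => ?_
    refine TopCat.Presheaf.section_ext (⟨P.presheaf, P.isSheaf⟩ : TopCat.Sheaf Ab X') W.unop s 0 fun x hx => ?_
    obtain ⟨V, hV, hxV, hVW⟩ := exists_isAffineOpen_mem_and_subset hx
    refine Eq.trans ?_ (map_zero _).symm
    show P.presheaf.germ W.unop x hx s = 0
    rw [← TopCat.Presheaf.germ_res_apply P.presheaf (homOfLE hVW) x hxV s]
    refine (congrArg _ (h0 ⟨V, hV⟩ (P.presheaf.map (homOfLE hVW).op s) ?_)).trans (map_zero _)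
    have := ConcreteCategory.congr_hom (π.mapPresheaf.naturality (homOfLE hVW).op) s
    refine this.trans ?_
    show G.presheaf.map (homOfLE hVW).op (π.mapPresheaf.app W s) = 0
    rw [hs, map_zero]
  haveI : Mono π := (Scheme.Modules.toPresheaf X').mono_of_mono_map (f := π) ‹_›
  haveI : IsIso π := isIso_of_mono_of_epi π
  refine ⟨inferInstance, fun x => ?_⟩
  obtain ⟨U, n, hxU, ⟨e⟩⟩ := PullbackMod.isFinLocFree_pullback b F hF x
  exact ⟨U, n, hxU, ⟨(Scheme.Modules.restrictFunctor U.ι).mapIso (asIso π).symm ≪≫ e⟩⟩


end Groth.Agent.S19350
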