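import Groth.Statements.S19352
import Groth.Agent.TwistShriek.SurfSmooth
import Groth.Agent.FundLocIsoLib.Regular
-- import your own Groth.Agent.* helpers here

set_option autoImplicit false
set_option backward.isDefEq.respectTransparency false
set_option maxHeartbeats 800000
set_option synthInstance.maxHeartbeats 200000
universe u
open CategoryTheory CategoryTheory.Limits AlgebraicGeometry
open Surf
open Groth.Agent Groth.Agent.TwistShriek

namespace Groth.Agent.S19352

/-- Let k be an algebraically closed field and X a nonsingular projective surface over k, namely an
integral scheme, smooth over k, of dimension two, given with a closed immersion ι into a projective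
space P^n_k over k, and let H = ι^* O(1) be the invertible module of a hyperplane section. If L is
an invertible O_X-module (the module of a divisor D) with dim_k H^0(X, L) > 1, then (L·H) > 0. Here
(A·B) denotes the intersection number of two invertible modules, the alternating sum χ(O_X) − χ(A) −
χ(B) + χ(A ⊗ B) of Euler characteristics (cohomology in degrees at most two); for two invertible
modules this agrees with the same sum formed from their inverses. -/
theorem result (k : Type u) [Field k] [IsAlgClosed k]
    (X : Scheme.{u}) [X.Over (Spec (CommRingCat.of k))] [AlgebraicGeometry.IsIntegral X]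
    [Smooth (X ↘ Spec (CommRingCat.of k))] (hdim : topologicalKrullDim X = 2)
    (n : ℕ) (ι : X ⟶ CohB1.ProjSpace n k) [IsClosedImmersion ι]
    (hι : ι ≫ CohB1.ProjSpace.toSpec n k = X ↘ Spec (CommRingCat.of k))
    (L : X.Modules) (hL : PicF.IsInvertible L)
    (hsec : 1 < Module.finrank k (Coh.HH X L 0)) :
    0 < FGA.intNum k X 2 ![L, (Scheme.Modules.pullback ι).obj (Twist.twistProjSpace n k 1)] (Coh.structureModule X) := by
    haveI := ProjSerreLib.isProper_over ι hι
    haveI := EulerIneqLib.isNoetherian_proper (X := X) k
    haveI : CompactSpace X := QuasiCompact.compactSpace_of_compactSpace (X ↘ Spec (CommRingCat.of k))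
    haveI : SmoothOfRelativeDimension 2 (X ↘ Spec (CommRingCat.of k)) :=
      smoothOfRelativeDimension_of_smooth (X ↘ Spec (CommRingCat.of k)) hdim
    have hH : CohB1.IsAmple ((Scheme.Modules.pullback ι).obj (Twist.twistProjSpace n k 1)) :=
      AmpleLib.isAmple_pullback ι (AmpleEmb.isAmple_twistOne n k)
    haveI : Nontrivial (Coh.HH X L 0) := Module.nontrivial_of_finrank_pos (R := k) (by omega)
    obtain ⟨h1, h2⟩ := form_of_section k hdim hH hL this
    rw [intNum_eq_form k hdim.le hL hH.1]
    rcases h1.lt_or_eq with h | h
    · exact h
    · obtain ⟨e⟩ := h2 (two_le_depth_closed ι hι) h.symm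
      have h3 := CurveLib.hMap_bijective_finrank (k := k) e 0
      rw [CurveLib.finrank_H0_structure] at h3
      omega

end Groth.Agent.S19352
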