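import Groth.Statements.S19355
import Groth.Agent.S13076

set_option backward.isDefEq.respectTransparency false
set_option maxHeartbeats 1000000
set_option synthInstance.maxHeartbeats 200000
set_option linter.style.haveILetI false

set_option autoImplicit false
universe u
open CategoryTheory AlgebraicGeometry Limits
open Zeta

namespace Groth.Agent.S19355

theorem arith {A B C : ℤ} (h : ∀ n m : ℤ, 0 ≤ n ^ 2 * A + 2 * n * m * B + m ^ 2 * C) : B ^ 2 ≤ A * C := by
  have hC : 0 ≤ C := by have := h 0 1; linarith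
  rcases hC.eq_or_lt with hC0 | hC0
  · subst hC0
    by_contra hh
    push Not at hh
    rw [mul_zero] at hh
    have hB : B ≠ 0 := by rintro rfl; norm_num at hh
    have h1 := h 1 (-(A + 1) * B)
    have hA : 0 ≤ A := by have := h 1 0; linarith
    have hB2 : 1 ≤ B ^ 2 := hh
    nlinarith [mul_le_mul_of_nonneg_left hB2 (by linarith : (0:ℤ) ≤ A + 1)]
  · by_contra hh
    push Not at hh
    have h1 := h C (-B)
    nlinarith [mul_lt_mul_of_pos_left hh hC0]

section
open TopologicalSpace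
open Groth.Agent Groth.Agent.TwistShriek
open Groth.Agent.Nakai (cl Aug cl_mem form)

variable (k : Type u) [Field k] {X : Scheme.{u}} [X.Over (Spec (CommRingCat.of k))]
  [IsProper (X ↘ Spec (CommRingCat.of k))] [IsIntegral X]

/-- The Cauchy-Schwarz inequality for the equivalence defect. -/
theorem cauchy [IsAlgClosed k] [Smooth (X ↘ Spec (CommRingCat.of k))] (hdim : topologicalKrullDim X = 2)
    {A B : Scheme.{u}} [A.Over (Spec (CommRingCat.of k))] [IsProper (A ↘ Spec (CommRingCat.of k))] [IsIntegral A] [Smooth (A ↘ Spec (CommRingCat.of k))]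
    (hA : topologicalKrullDim A = 1)
    [B.Over (Spec (CommRingCat.of k))] [IsProper (B ↘ Spec (CommRingCat.of k))] [IsIntegral B] [Smooth (B ↘ Spec (CommRingCat.of k))]
    (hB : topologicalKrullDim B = 1) (p : X ⟶ A) (q : X ⟶ B)
    (hp : p ≫ (A ↘ Spec (CommRingCat.of k)) = X ↘ Spec (CommRingCat.of k))
    (hq : q ≫ (B ↘ Spec (CommRingCat.of k)) = X ↘ Spec (CommRingCat.of k))
    (a : A ⟶ X) [IsClosedImmersion a] (b : B ⟶ X) [IsClosedImmersion b]
    (hap : a ≫ p = 𝟙 A) (hbq : b ≫ q = 𝟙 B)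
    (x : Spec (CommRingCat.of k) ⟶ A) (hx : x ≫ (A ↘ Spec (CommRingCat.of k)) = 𝟙 _)
    (y : Spec (CommRingCat.of k) ⟶ B) (hy : y ≫ (B ↘ Spec (CommRingCat.of k)) = 𝟙 _)
    (sqb : IsPullback b (B ↘ Spec (CommRingCat.of k)) p x) (sqa : IsPullback a (A ↘ Spec (CommRingCat.of k)) q y)
    {L L' : X.Modules} (hL : PicF.IsInvertible L) (hL' : PicF.IsInvertible L') :
    (form k (cl hL) (cl hL') - Curv2.deg k A ((Scheme.Modules.pullback a).obj L) 1 *
          Curv2.deg k B ((Scheme.Modules.pullback b).obj L') 1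
        - Curv2.deg k B ((Scheme.Modules.pullback b).obj L) 1 *
          Curv2.deg k A ((Scheme.Modules.pullback a).obj L') 1) ^ 2 ≤
      (2 * Curv2.deg k A ((Scheme.Modules.pullback a).obj L) 1 *
          Curv2.deg k B ((Scheme.Modules.pullback b).obj L) 1 - form k (cl hL) (cl hL)) *
      (2 * Curv2.deg k A ((Scheme.Modules.pullback a).obj L') 1 *
          Curv2.deg k B ((Scheme.Modules.pullback b).obj L') 1 - form k (cl hL') (cl hL')) := by
  haveI := EulerIneqLib.isNoetherian_proper (X := X) k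
  have hd2 : topologicalKrullDim X = ((2 : ℕ) : WithBot ℕ∞) := by exact_mod_cast hdim
  have hbk : b ≫ (X ↘ Spec (CommRingCat.of k)) = B ↘ Spec (CommRingCat.of k) := by
    rw [← hq, ← Category.assoc, hbq, Category.id_comp]
  have hak : a ≫ (X ↘ Spec (CommRingCat.of k)) = A ↘ Spec (CommRingCat.of k) := by
    rw [← hp, ← Category.assoc, hap, Category.id_comp]
  obtain ⟨P, hP, hV, hPd, ⟨eV⟩⟩ := S13076.fibre_class k hdim hB hA p b x hx _ sqb
  obtain ⟨Q, hQ, hW, hQd, ⟨eW⟩⟩ := S13076.fibre_class k hdim hA hB q a y hy _ sqa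
  have key : ∀ n m : ℤ, 0 ≤ n ^ 2 *
      (2 * form k (cl hW) (cl hL) * form k (cl hV) (cl hL) - form k (cl hL) (cl hL)) +
      2 * n * m * (form k (cl hW) (cl hL) * form k (cl hV) (cl hL') +
        form k (cl hV) (cl hL) * form k (cl hW) (cl hL') - form k (cl hL) (cl hL')) +
      m ^ 2 * (2 * form k (cl hW) (cl hL') * form k (cl hV) (cl hL') - form k (cl hL') (cl hL')) := fun n m => by
    have hu : n • cl hL + m • cl hL' ∈ Aug X := Ideal.add_mem _ (Submodule.smul_of_tower_mem _ _ (cl_mem hL))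
      (Submodule.smul_of_tower_mem _ _ (cl_mem hL'))
    obtain ⟨N, hN, hNu⟩ := Nakai.mem_clsSub hu
    have h := S13076.castelnuovo k hdim hA hB p q hp hq a b hap hbq x hx y hy sqb sqa hN
    have ha := S13076.form_curve k a hak hW hN
    have hb := S13076.form_curve k b hbk hV hN
    rw [Nakai.form_comm k, Nakai.form_congr k hd2 hNu (cl_mem hW)] at ha
    rw [Nakai.form_comm k, Nakai.form_congr k hd2 hNu (cl_mem hV)] at hb
    rw [Nakai.form_congr k hd2 hNu (cl_mem hN), Nakai.form_comm k, Nakai.form_congr k hd2 hNu hu] at h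
    simp only [Nakai.form_add_left, Nakai.form_smul_left, Nakai.form_add_right, Nakai.form_smul_right] at h ha hb
    rw [Nakai.form_comm k (cl hL) (cl hW), Nakai.form_comm k (cl hL') (cl hW)] at ha
    rw [Nakai.form_comm k (cl hL) (cl hV), Nakai.form_comm k (cl hL') (cl hV)] at hb
    rw [Nakai.form_comm k (cl hL') (cl hL)] at h
    have e1 : Curv2.deg k A ((Scheme.Modules.pullback a).obj N) 1 = -(n * form k (cl hW) (cl hL) + m * form k (cl hW) (cl hL')) := by
      linarith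
    have e2 : Curv2.deg k B ((Scheme.Modules.pullback b).obj N) 1 = -(n * form k (cl hV) (cl hL) + m * form k (cl hV) (cl hL')) := by
      linarith
    rw [e1, e2] at h
    linarith
  have e1 : Curv2.deg k A ((Scheme.Modules.pullback a).obj L) 1 = - form k (cl hW) (cl hL) := by
    rw [S13076.form_curve k a hak hW hL, neg_neg]
  have e2 : Curv2.deg k B ((Scheme.Modules.pullback b).obj L) 1 = - form k (cl hV) (cl hL) := by
    rw [S13076.form_curve k b hbk hV hL, neg_neg]
  have e3 : Curv2.deg k A ((Scheme.Modules.pullback a).obj L') 1 = - form k (cl hW) (cl hL') := by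
    rw [S13076.form_curve k a hak hW hL', neg_neg]
  have e4 : Curv2.deg k B ((Scheme.Modules.pullback b).obj L') 1 = - form k (cl hV) (cl hL') := by
    rw [S13076.form_curve k b hbk hV hL', neg_neg]
  rw [e1, e2, e3, e4]
  have := arith key
  linarith

end


/-- Let C₁ and C₂ be smooth proper integral curves over an algebraically closed field k and S = C₁ × C₂,
with the curves C₁ × pt and pt × C₂ realised as sections i₁ : C₁ → S and i₂ : C₂ → S through
k-rational points, pinned by their composites with the two projections. For divisors D, D' on S,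
given as invertible modules L, L' with inverses M, M', write d₁, d₂ for the degrees of L along i₁,
i₂ (and d₁', d₂' for L'), (D·D') for the intersection number of M, M' with O_S (alternating sum of
Euler characteristics, cohomology up to degree two) and def(D) = 2 d₁ d₂ − (D·D) for the equivalence
defect. Then ((D·D') − d₁ d₂' − d₂ d₁')² ≤ def(D)·def(D'), i.e. the absolute value of (D·D') − d₁
d₂' − d₂ d₁' is at most the square root of def(D) def(D') (both defects being non-negative by the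
Castelnuovo–Severi inequality). -/
theorem result (k : Type u) [Field k]
    [IsAlgClosed k] (C₁ C₂ : Scheme.{u}) [C₁.Over (Spec (CommRingCat.of k))]
    [C₂.Over (Spec (CommRingCat.of k))]
    (h₁ : Curve.IsSmoothProperCurve k C₁ (C₁ ↘ Spec (CommRingCat.of k)))
    (h₂ : Curve.IsSmoothProperCurve k C₂ (C₂ ↘ Spec (CommRingCat.of k)))
    (x : Spec (CommRingCat.of k) ⟶ C₁) (hx : x ≫ (C₁ ↘ Spec (CommRingCat.of k)) = 𝟙 _)
    (y : Spec (CommRingCat.of k) ⟶ C₂) (hy : y ≫ (C₂ ↘ Spec (CommRingCat.of k)) = 𝟙 _)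
    (i₁ : C₁ ⟶ pullback (C₁ ↘ Spec (CommRingCat.of k)) (C₂ ↘ Spec (CommRingCat.of k)))
    (hi₁ : i₁ ≫ pullback.fst _ _ = 𝟙 C₁ ∧ i₁ ≫ pullback.snd _ _ = (C₁ ↘ Spec (CommRingCat.of k)) ≫ y)
    (i₂ : C₂ ⟶ pullback (C₁ ↘ Spec (CommRingCat.of k)) (C₂ ↘ Spec (CommRingCat.of k)))
    (hi₂ : i₂ ≫ pullback.snd _ _ = 𝟙 C₂ ∧ i₂ ≫ pullback.fst _ _ = (C₂ ↘ Spec (CommRingCat.of k)) ≫ x)
    (L M L' M' : (pullback (C₁ ↘ Spec (CommRingCat.of k)) (C₂ ↘ Spec (CommRingCat.of k))).Modules)
    (hL : PicF.IsInvertible L) (hM : Nonempty (CohB1.tensorMod L M ≅ Coh.structureModule _))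
    (hL' : PicF.IsInvertible L') (hM' : Nonempty (CohB1.tensorMod L' M' ≅ Coh.structureModule _)) :
    letI : (pullback (C₁ ↘ Spec (CommRingCat.of k)) (C₂ ↘ Spec (CommRingCat.of k))).Over
        (Spec (CommRingCat.of k)) := ⟨pullback.fst _ _ ≫ (C₁ ↘ Spec (CommRingCat.of k))⟩
    (FGA.intNum k (pullback (C₁ ↘ Spec (CommRingCat.of k)) (C₂ ↘ Spec (CommRingCat.of k))) 2 ![M, M'] (Coh.structureModule _)
        - Curv2.deg k C₁ ((Scheme.Modules.pullback i₁).obj L) 1
            * Curv2.deg k C₂ ((Scheme.Modules.pullback i₂).obj L') 1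
        - Curv2.deg k C₂ ((Scheme.Modules.pullback i₂).obj L) 1
            * Curv2.deg k C₁ ((Scheme.Modules.pullback i₁).obj L') 1) ^ 2 ≤
      (2 * Curv2.deg k C₁ ((Scheme.Modules.pullback i₁).obj L) 1
            * Curv2.deg k C₂ ((Scheme.Modules.pullback i₂).obj L) 1
          - FGA.intNum k (pullback (C₁ ↘ Spec (CommRingCat.of k)) (C₂ ↘ Spec (CommRingCat.of k))) 2 ![M, M] (Coh.structureModule _))
        * (2 * Curv2.deg k C₁ ((Scheme.Modules.pullback i₁).obj L') 1
            * Curv2.deg k C₂ ((Scheme.Modules.pullback i₂).obj L') 1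
          - FGA.intNum k (pullback (C₁ ↘ Spec (CommRingCat.of k)) (C₂ ↘ Spec (CommRingCat.of k))) 2 ![M', M'] (Coh.structureModule _)) := by
  letI : (pullback (C₁ ↘ Spec (CommRingCat.of k)) (C₂ ↘ Spec (CommRingCat.of k))).Over
      (Spec (CommRingCat.of k)) := ⟨pullback.fst _ _ ≫ (C₁ ↘ Spec (CommRingCat.of k))⟩
  obtain ⟨hp₁, hs₁, hi₁', hd₁⟩ := h₁
  obtain ⟨hp₂, hs₂, hi₂', hd₂⟩ := h₂
  haveI : IsProper (pullback (C₁ ↘ Spec (CommRingCat.of k)) (C₂ ↘ Spec (CommRingCat.of k)) ↘ Spec (CommRingCat.of k)) :=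
    inferInstanceAs (IsProper (pullback.fst _ _ ≫ (C₁ ↘ Spec (CommRingCat.of k))))
  haveI : Smooth (pullback (C₁ ↘ Spec (CommRingCat.of k)) (C₂ ↘ Spec (CommRingCat.of k)) ↘ Spec (CommRingCat.of k)) :=
    inferInstanceAs (Smooth (pullback.fst _ _ ≫ (C₁ ↘ Spec (CommRingCat.of k))))
  haveI := Groth.Agent.S1582.result k C₁ C₂ (C₁ ↘ Spec (CommRingCat.of k)) (C₂ ↘ Spec (CommRingCat.of k))
  have hdim : topologicalKrullDim ↥(pullback (C₁ ↘ Spec (CommRingCat.of k)) (C₂ ↘ Spec (CommRingCat.of k))) = 2 := by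
    rw [Groth.Agent.ProdDim.topologicalKrullDim_pullback, hd₁, hd₂]; exact one_add_one_eq_two
  haveI : IsClosedImmersion i₁ := Groth.Agent.JacLib.isClosedImmersion_of_section (pullback.fst _ _) i₁ hi₁.1
  haveI : IsClosedImmersion i₂ := Groth.Agent.JacLib.isClosedImmersion_of_section (pullback.snd _ _) i₂ hi₂.1
  haveI := EulerIneqLib.isNoetherian_proper
    (X := pullback (C₁ ↘ Spec (CommRingCat.of k)) (C₂ ↘ Spec (CommRingCat.of k))) k
  obtain ⟨eM⟩ := hM
  obtain ⟨eM'⟩ := hM'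
  have hMi : PicF.IsInvertible M := Groth.Agent.AmpleLib.isInvertible_of_tensor_iso (Groth.Agent.AmpleLib.comm _ _ ≪≫ eM)
  have hsnd : pullback.snd (C₁ ↘ Spec (CommRingCat.of k)) (C₂ ↘ Spec (CommRingCat.of k)) ≫ (C₂ ↘ Spec (CommRingCat.of k)) =
      pullback.fst _ _ ≫ (C₁ ↘ Spec (CommRingCat.of k)) := pullback.condition.symm
  have sqb : IsPullback i₂ (C₂ ↘ Spec (CommRingCat.of k)) (pullback.fst _ _) x :=
    IsPullback.of_right (by rw [hi₂.1, hx]; exact IsPullback.of_horiz_isIso ⟨by simp⟩) hi₂.2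
      (IsPullback.of_hasPullback (C₁ ↘ Spec (CommRingCat.of k)) (C₂ ↘ Spec (CommRingCat.of k))).flip
  have sqa : IsPullback i₁ (C₁ ↘ Spec (CommRingCat.of k)) (pullback.snd _ _) y :=
    IsPullback.of_right (by rw [hi₁.1, hy]; exact IsPullback.of_horiz_isIso ⟨by simp⟩) hi₁.2
      (IsPullback.of_hasPullback (C₁ ↘ Spec (CommRingCat.of k)) (C₂ ↘ Spec (CommRingCat.of k)))
  have hMi' : PicF.IsInvertible M' := Groth.Agent.AmpleLib.isInvertible_of_tensor_iso (Groth.Agent.AmpleLib.comm _ _ ≪≫ eM')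
  have h := cauchy k hdim hd₁ hd₂ (pullback.fst _ _) (pullback.snd _ _) rfl hsnd i₁ i₂ hi₁.1 hi₂.1 x hx y hy
    sqb sqa hL hL'
  have hinv : ∀ {U V : (pullback (C₁ ↘ Spec (CommRingCat.of k)) (C₂ ↘ Spec (CommRingCat.of k))).Modules}
      {U' V' : (pullback (C₁ ↘ Spec (CommRingCat.of k)) (C₂ ↘ Spec (CommRingCat.of k))).Modules}
      (hU : PicF.IsInvertible U) (hV : PicF.IsInvertible V) (hU' : PicF.IsInvertible U') (hV' : PicF.IsInvertible V')
      (eU : CohB1.tensorMod U U' ≅ Coh.structureModule _) (eV : CohB1.tensorMod V V' ≅ Coh.structureModule _),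
      Groth.Agent.Nakai.form k (Groth.Agent.Nakai.cl hU') (Groth.Agent.Nakai.cl hV') =
        Groth.Agent.Nakai.form k (Groth.Agent.Nakai.cl hU) (Groth.Agent.Nakai.cl hV) :=
    fun {U V U' V'} hU hV hU' hV' eU eV => by
      rw [Groth.Agent.TwistShriek.form_inverse k hdim hU' hU (Groth.Agent.AmpleLib.comm _ _ ≪≫ eU) (Groth.Agent.Nakai.cl_mem _),
        Groth.Agent.Nakai.form_comm k, Groth.Agent.TwistShriek.form_inverse k hdim hV' hV (Groth.Agent.AmpleLib.comm _ _ ≪≫ eV) (Groth.Agent.Nakai.cl_mem _),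
        neg_neg, Groth.Agent.Nakai.form_comm k]
  rw [Groth.Agent.TwistShriek.intNum_eq_form k (by exact_mod_cast hdim.le) hMi hMi',
    Groth.Agent.TwistShriek.intNum_eq_form k (by exact_mod_cast hdim.le) hMi hMi,
    Groth.Agent.TwistShriek.intNum_eq_form k (by exact_mod_cast hdim.le) hMi' hMi',
    hinv hL hL' hMi hMi' eM eM', hinv hL hL hMi hMi eM eM, hinv hL' hL' hMi' hMi' eM' eM']
  exact h

end Groth.Agent.S19355
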