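import Groth.Statements.S19356
import Mathlib.LinearAlgebra.QuadraticForm.Basic
import Mathlib.Analysis.Complex.Basic
import Mathlib.Algebra.Star.Module

set_option autoImplicit false
universe u
open AbVar

namespace Groth.Agent.S19356

open ComplexConjugate

lemma star_mem_of_scalar {R : Type*} [Ring R] [Algebra ℚ R] [Module.Finite ℚ R] [Star R] {α : R} {q : ℚ}
    (hq : q ≠ 0) (hα : α * star α = algebraMap ℚ R q) : star α ∈ Algebra.adjoin ℚ ({α} : Set R) := by
  set A := Algebra.adjoin ℚ ({α} : Set R)
  let a : A := ⟨α, Algebra.self_mem_adjoin_singleton ℚ α⟩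
  set b := q⁻¹ • star α
  have hab : α * b = 1 := by rw [mul_smul_comm, hα, Algebra.algebraMap_eq_smul_one, smul_smul, inv_mul_cancel₀ hq, one_smul]
  have hba : b * α = 1 := by
    have hsurj : Function.Surjective (LinearMap.mulLeft ℚ α) := fun y => ⟨b * y, by simp [← mul_assoc, hab]⟩
    apply LinearMap.injective_iff_surjective.2 hsurj
    show α * (b * α) = α * 1
    rw [← mul_assoc, hab, one_mul, mul_one]
  have hinj : Function.Injective (LinearMap.mulLeft ℚ a) := fun x y hxy => Subtype.ext (by
    have h := congrArg (fun z : A => b * (z : R)) hxy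
    simpa [a, ← mul_assoc, hba] using h)
  obtain ⟨c, hc⟩ := (LinearMap.injective_iff_surjective.1 hinj) 1
  have hcb : (c : R) = b := by
    have h : α * (c : R) = 1 := congrArg Subtype.val hc
    rw [← one_mul (c : R), ← hba, mul_assoc, h, mul_one]
  rw [show star α = q • b by rw [smul_smul, mul_inv_cancel₀ hq, one_smul], ← hcb]
  exact A.smul_mem c.2 q

/-- Let R be a finite-dimensional ℚ-algebra with a ℚ-linear involution x ↦ x† (an anti-automorphism of
order two) and a ℚ-linear functional σ with σ(x x†) > 0 for every x ≠ 0; this is the positivity of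
the involution, σ being the trace of R over ℚ in the case of the endomorphism algebra of an abelian
variety with a Rosati involution, and the trace on a cohomology group in the case of an algebra of
correspondences with the adjoint for a Weil form. Let α ∈ R with α α† = q for a rational number q.
Then α† lies in the subalgebra ℚ[α], and for every ℚ-algebra homomorphism ρ : ℚ[α] → ℂ one has ρ(α†)
= the complex conjugate of ρ(α) and |ρ(α)|² = q. (The published statement is for the endomorphism
algebra of an abelian variety with a Rosati involution, with σ its trace over ℚ and q an integer;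
the form given here, for an arbitrary ℚ-linear functional σ positive on every x x† with x ≠ 0 and
rational q, is what its proof establishes.) -/
theorem result (R : Type u) [Ring R] [Algebra ℚ R]
    [Module.Finite ℚ R] [StarRing R] [StarModule ℚ R]
    (σ : R →ₗ[ℚ] ℚ) (hpos : ∀ x : R, x ≠ 0 → 0 < σ (x * star x))
    (α : R) (q : ℚ) (hα : α * star α = algebraMap ℚ R q) :
    ∃ hmem : star α ∈ Algebra.adjoin ℚ ({α} : Set R),
      ∀ ρ : Algebra.adjoin ℚ ({α} : Set R) →ₐ[ℚ] ℂ,
        ρ ⟨star α, hmem⟩ = starRingEnd ℂ (ρ ⟨α, Algebra.self_mem_adjoin_singleton ℚ α⟩) ∧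
          ‖ρ ⟨α, Algebra.self_mem_adjoin_singleton ℚ α⟩‖ ^ 2 = (q : ℝ) := by
  classical
  have hmem : star α ∈ Algebra.adjoin ℚ ({α} : Set R) := by
    rcases eq_or_ne α 0 with h0 | h0
    · rw [h0, star_zero]; exact zero_mem _
    · refine star_mem_of_scalar (fun hq => ?_) hα
      have := hpos α h0
      rw [hα, hq, map_zero, map_zero] at this
      exact lt_irrefl _ this
  refine ⟨hmem, ?_⟩
  set A := Algebra.adjoin ℚ ({α} : Set R)
  intro ρ
  have hcommA : ∀ a b : A, (a : R) * b = b * a := fun a b =>
    (Algebra.commute_of_mem_adjoin_singleton_of_commute b.2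
      (Algebra.commute_of_mem_adjoin_singleton_of_commute a.2 (Commute.refl α)).symm).eq
  have hst : ∀ a ∈ A, star a ∈ A := fun a ha => by
    induction ha using Algebra.adjoin_induction with
    | mem a h => rw [Set.mem_singleton_iff.1 h]; exact hmem
    | algebraMap r =>
      rw [Algebra.algebraMap_eq_smul_one, star_smul, star_one, star_trivial, ← Algebra.algebraMap_eq_smul_one]
      exact A.algebraMap_mem r
    | add a b _ _ ha hb => rw [star_add]; exact A.add_mem ha hb
    | mul a b _ _ ha hb => rw [star_mul]; exact A.mul_mem hb ha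
  let B : LinearMap.BilinForm ℚ A := LinearMap.mk₂ ℚ
    (fun a b => σ ((a : R) * star (b : R)) + σ ((b : R) * star (a : R)))
    (fun a b c => by simp [add_mul, mul_add, star_add]; ring)
    (fun r a b => by simp [star_smul, mul_add])
    (fun a b c => by simp [add_mul, mul_add, star_add]; ring)
    (fun r a b => by simp [star_smul, mul_add])
  have hB : B.IsSymm := ⟨fun a b => add_comm _ _⟩
  haveI : Invertible (2 : ℚ) := invertibleOfNonzero two_ne_zero
  haveI : Module.Finite ℚ A := FiniteDimensional.finiteDimensional_submodule (Subalgebra.toSubmodule A)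
  obtain ⟨e, he⟩ := LinearMap.BilinForm.exists_orthogonal_basis hB
  have hBpos : ∀ a : A, a ≠ 0 → 0 < B a a := fun a ha => by
    have := hpos (a : R) (fun h => ha (Subtype.ext h))
    show (0 : ℚ) < σ ((a : R) * star (a : R)) + σ ((a : R) * star (a : R))
    linarith
  set w := fun i => B (e i) (e i)
  have hw : ∀ i, 0 < w i := fun i => hBpos _ (e.ne_zero i)
  have hexp : ∀ a : A, a = ∑ i, (B a (e i) / w i) • e i := fun a => by
    conv_lhs => rw [← e.sum_repr a]
    refine Finset.sum_congr rfl fun j _ => ?_
    congr 1
    rw [eq_div_iff (hw j).ne']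
    conv_rhs => rw [← e.sum_repr a]
    rw [map_sum, LinearMap.sum_apply, Finset.sum_eq_single j]
    · rw [map_smul, LinearMap.smul_apply, smul_eq_mul]
    · intro i _ hij
      rw [map_smul, LinearMap.smul_apply, show B (e i) (e j) = 0 from he hij, smul_zero]
    · exact fun h => absurd (Finset.mem_univ j) h
  let S : ℂ := ∑ i, ρ (e i) * conj (ρ (e i)) / (w i : ℂ)
  have hS : S ≠ 0 := by
    have hS' : S = ((∑ i, Complex.normSq (ρ (e i)) / (w i : ℝ) : ℝ) : ℂ) := by
      push_cast [S]
      exact Finset.sum_congr rfl fun i _ => by rw [Complex.mul_conj]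
    rw [hS', Complex.ofReal_ne_zero]
    intro h0
    have hz := (Finset.sum_eq_zero_iff_of_nonneg fun i _ =>
      div_nonneg (Complex.normSq_nonneg _) (Rat.cast_nonneg.2 (hw i).le)).1 h0
    have h1 : ρ 1 = 0 := by
      rw [hexp 1, map_sum]
      refine Finset.sum_eq_zero fun i hi => ?_
      have := hz i hi
      rw [div_eq_zero_iff] at this
      rcases this with h | h
      · rw [map_smul, Complex.normSq_eq_zero.1 h, smul_zero]
      · exact absurd (Rat.cast_eq_zero.1 h) (hw i).ne'
    rw [map_one] at h1
    exact one_ne_zero h1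
  have key : ∀ a : A, ρ ⟨star (a : R), hst _ a.2⟩ = conj (ρ a) := by
    intro a
    set a' : A := ⟨star (a : R), hst _ a.2⟩
    have hadj : ∀ u v : A, B (a' * u) v = B (a * v) u := fun u v => by
      show σ (((a' : R) * u) * star (v : R)) + σ ((v : R) * star ((a' : R) * u)) =
        σ (((a : R) * v) * star (u : R)) + σ ((u : R) * star ((a : R) * v))
      have h1 : ((a' : R) * u) * star (v : R) = (u : R) * star ((a : R) * v) := by
        rw [star_mul, hcommA a' u, mul_assoc, show star (v : R) * star (a : R) = (a' : R) * star (v : R) from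
          hcommA ⟨_, hst _ v.2⟩ a']
      have h2 : (v : R) * star ((a' : R) * u) = ((a : R) * v) * star (u : R) := by
        rw [star_mul, show star (a' : R) = a from star_star _, ← mul_assoc,
          hcommA a v, mul_assoc, mul_assoc, show star (u : R) * (a : R) = (a : R) * star (u : R) from
          hcommA ⟨_, hst _ u.2⟩ a]
      rw [h1, h2, add_comm]
    have hsum : ∀ c : A, ρ c * S = ∑ i, ∑ j, ((B (c * e i) (e j) / w j / w i : ℚ) : ℂ) * (ρ (e j) * conj (ρ (e i))) :=
      fun c => by
        rw [Finset.mul_sum]
        refine Finset.sum_congr rfl fun i _ => ?_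
        rw [mul_div_assoc', ← mul_assoc, ← map_mul, hexp (c * e i), map_sum, Finset.sum_mul, div_eq_mul_inv, Finset.sum_mul]
        refine Finset.sum_congr rfl fun j _ => ?_
        rw [map_smul, Algebra.smul_def]
        push_cast [eq_ratCast]
        rw [← hexp]
        ring
    have h1 : ρ a' * S = conj (ρ a) * S := by
      have hconjS : conj S = S := by
        simp only [S, map_sum, map_div₀, map_mul, Complex.conj_conj, map_ratCast, mul_comm]
      conv_rhs => rw [← hconjS, ← map_mul, hsum, map_sum]
      rw [hsum]
      simp only [map_sum, map_mul, Complex.conj_conj, map_ratCast]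
      rw [Finset.sum_comm]
      refine Finset.sum_congr rfl fun i _ => Finset.sum_congr rfl fun j _ => ?_
      rw [hadj]
      push_cast
      ring
    exact mul_right_cancel₀ hS h1
  have hk := key ⟨α, Algebra.self_mem_adjoin_singleton ℚ α⟩
  refine ⟨hk, ?_⟩
  have hprod : (⟨α, Algebra.self_mem_adjoin_singleton ℚ α⟩ : A) * ⟨star α, hmem⟩ = algebraMap ℚ A q := Subtype.ext hα
  have h2 := congrArg ρ hprod
  rw [map_mul, AlgHom.commutes, hk, Complex.mul_conj'] at h2
  have h3 : ((‖ρ ⟨α, Algebra.self_mem_adjoin_singleton ℚ α⟩‖ ^ 2 : ℝ) : ℂ) = ((q : ℝ) : ℂ) := by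
    push_cast
    rw [h2, eq_ratCast]
  exact Complex.ofReal_injective h3

end Groth.Agent.S19356
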