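import Groth.Statements.S19359
import Groth.Agent.FanLib.Closed
import Mathlib

set_option autoImplicit false
universe u
open CategoryTheory Opposite Instab
open Instab Instab.Fan

namespace Groth.Agent.S19359

set_option backward.isDefEq.respectTransparency false
set_option backward.isDefEq.respectTransparency.types false

open Groth.Agent.FanLib

/-- A formal fan G is quasi-separated (the fibre product of any two of its cones is a bounded fan) if
and only if, for every bounded formal fan F, every map of fans F ⟶ G is bounded (its base change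
along each cone of G is a bounded fan). -/
theorem result (G : Fan.{u}) :
    G.IsQuasiSeparated ↔
      ∀ (F : Fan.{u}) (f : F ⟶ G), F.IsBounded → Fan.IsBoundedMap f := by
  classical
  refine ⟨fun hG F f hF => ?_, fun h n₀ n₁ σ₀ σ₁ => h _ (Fan.coneMap σ₀) (isBounded_yoneda n₀) n₁ σ₁⟩
  intro n σ
  obtain ⟨s, hs⟩ := hF
  have hw : ∀ e : (Σ m : ICone, F.obj (op m)), Fan.coneMap e.2 ≫ f = Fan.coneMap (f.app _ e.2) := fun e => by
    apply uliftYonedaEquiv.{u}.injective
    rw [uliftYonedaEquiv_comp]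
    simp only [Fan.coneMap, Equiv.apply_symm_apply]
  have Q : ∀ e : (Σ m : ICone, F.obj (op m)), ∃ t : Finset (Σ k : ICone, (Limits.pullback f (Fan.coneMap σ)).obj (op k)),
      ∀ z : Fan.P (Limits.pullback f (Fan.coneMap σ)), Fan.P.map (Limits.pullback.fst _ _) z ∈ Fan.P.cell e.2 →
        ∃ d ∈ t, z ∈ Fan.P.cell d.2 := fun e => by
    let r : Limits.pullback (Fan.coneMap (f.app _ e.2)) (Fan.coneMap σ) ⟶ Limits.pullback f (Fan.coneMap σ) :=
      Limits.pullback.map _ _ _ _ (Fan.coneMap e.2) (𝟙 _) (𝟙 _) (by rw [Category.comp_id, hw]) (by simp)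
    obtain ⟨t, ht⟩ := hG _ _ (f.app _ e.2) σ
    refine ⟨t.image fun d => ⟨d.1, r.app _ d.2⟩, fun z hz => ?_⟩
    obtain ⟨v, hv⟩ := hz
    obtain ⟨m, ξ, u, rfl⟩ := mk_surjective z
    rw [map_mk, mk_eq_iff] at hv
    obtain ⟨l, φ, φ', w, a, b, he, ha, hb, h1, h2⟩ := hv
    have hc : (Fan.coneMap (f.app _ e.2)).app _ ⟨φ⟩ = (Fan.coneMap σ).app _
        ((Limits.pullback.snd f (Fan.coneMap σ)).app _ ((Limits.pullback f (Fan.coneMap σ)).map φ'.op ξ)) := by
      have hcond := ConcreteCategory.congr_hom (NatTrans.congr_app (Limits.pullback.condition (f := f) (g := Fan.coneMap σ)) (op l))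
        ((Limits.pullback f (Fan.coneMap σ)).map φ'.op ξ)
      refine Eq.trans ?_ hcond
      show G.map φ.op (f.app _ e.2) = f.app _ ((Limits.pullback.fst f (Fan.coneMap σ)).app _ _)
      rw [← NatTrans.naturality_apply, NatTrans.naturality_apply (Limits.pullback.fst f (Fan.coneMap σ))]
      exact congrArg _ he
    obtain ⟨c, hc1, hc2⟩ := exists_pullback_elem _ _ _ _ hc
    have e1 : r ≫ Limits.pullback.fst f (Fan.coneMap σ) =
        Limits.pullback.fst (Fan.coneMap (f.app _ e.2)) (Fan.coneMap σ) ≫ Fan.coneMap e.2 := Limits.pullback.lift_fst _ _ _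
    have e2 : r ≫ Limits.pullback.snd f (Fan.coneMap σ) =
        Limits.pullback.snd (Fan.coneMap (f.app _ e.2)) (Fan.coneMap σ) :=
      (Limits.pullback.lift_snd _ _ _).trans (Category.comp_id _)
    have hrc : r.app _ c = (Limits.pullback f (Fan.coneMap σ)).map φ'.op ξ := by
      apply uliftYonedaEquiv.{u}.symm.injective
      apply Limits.pullback.hom_ext <;> apply uliftYonedaEquiv.{u}.injective <;>
        simp only [uliftYonedaEquiv_comp, Equiv.apply_symm_apply]
      · rw [show (Limits.pullback.fst f (Fan.coneMap σ)).app _ (r.app _ c) =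
            (Fan.coneMap e.2).app _ ((Limits.pullback.fst (Fan.coneMap (f.app _ e.2)) (Fan.coneMap σ)).app _ c) from
          ConcreteCategory.congr_hom (NatTrans.congr_app e1 (op l)) c, hc1,
          NatTrans.naturality_apply]
        exact he
      · rw [show (Limits.pullback.snd f (Fan.coneMap σ)).app _ (r.app _ c) =
            (Limits.pullback.snd (Fan.coneMap (f.app _ e.2)) (Fan.coneMap σ)).app _ c from
          ConcreteCategory.congr_hom (NatTrans.congr_app e2 (op l)) c, hc2]
    obtain ⟨d, hd, y, hy⟩ := ht (Fan.P.mk c w)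
    refine ⟨_, Finset.mem_image_of_mem _ hd, y, ?_⟩
    rw [← mk_glue φ' ξ w u b hb h2, ← hrc, ← map_mk r d.2 y, ← map_mk r c w, hy]
  choose t ht using Q
  refine ⟨s.biUnion t, fun z => ?_⟩
  obtain ⟨e, he, hz⟩ := hs (Fan.P.map (Limits.pullback.fst _ _) z)
  obtain ⟨d, hd, hzd⟩ := ht e z hz
  exact ⟨d, Finset.mem_biUnion.mpr ⟨e, he, hd⟩, hzd⟩

end Groth.Agent.S19359
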