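import Groth.Statements.S1936
import Groth.Agent.CMFlatLib.Groupoid
-- import your own Groth.Agent.* helpers here

set_option autoImplicit false
universe u
open CategoryTheory CategoryTheory.Limits AlgebraicGeometry
open Grpd

namespace Groth.Agent.S1936

/-- Let (U, R, s, t, c) be a groupoid scheme over S with s, t flat and locally of finite presentation.
There is an open U' ⊆ U such that t⁻¹(U') is exactly the set of points of R at which s is
Cohen–Macaulay, s⁻¹(U') is exactly the set of points at which t is Cohen–Macaulay, and both t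
restricted to s⁻¹(U') and s restricted to t⁻¹(U') are surjective onto U. (Part (5), that the
restriction of R to U' is a groupoid with Cohen–Macaulay s', t', then follows and is not restated.)
Cohen–Macaulay at a point: flat there with Cohen–Macaulay fibre local ring (Grpd.IsCMAt). (A
groupoid scheme carries U, R, s, t, c, e, i over S with the groupoid axioms on T-points; 'finite
locally free' is finite, flat and locally of finite presentation; C ⊂ Γ(U) is the ring of functions
a with s♯(a) = t♯(a) and M = Spec C.) -/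
theorem result (S : Scheme.{u}) (G : Grpd.GroupoidScheme S) [Flat G.s] [LocallyOfFinitePresentation G.s] [Flat G.t] [LocallyOfFinitePresentation G.t] : ∃ U' : G.U.Opens, (G.t ⁻¹ᵁ U' : Set G.R) = {r | Grpd.IsCMAt G.s r} ∧ (G.s ⁻¹ᵁ U' : Set G.R) = {r | Grpd.IsCMAt G.t r} ∧ ⇑G.t '' (G.s ⁻¹ᵁ U' : Set G.R) = Set.univ ∧ ⇑G.s '' (G.t ⁻¹ᵁ U' : Set G.R) = Set.univ := by
  refine ⟨⟨G.e ⁻¹' {r | MoreMor.IsCMAt G.s r}, (CMFlatLib.isOpen_isCMAt G.s).preimage G.e.continuous⟩, ?_, ?_, ?_, ?_⟩
  · ext r
    exact ((CMFlatLib.grpd_isCMAt_iff G.s r).trans (CMFlatLib.isCMAt_s_iff G r)).symm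
  · ext r
    have h : G.t (G.i r) = G.s r := by rw [← Scheme.Hom.comp_apply, G.i_t]
    have h2 := (CMFlatLib.grpd_isCMAt_iff G.t r).trans
      ((CMFlatLib.isCMAt_t_iff G r).trans (CMFlatLib.isCMAt_s_iff G (G.i r)))
    rw [h] at h2
    exact h2.symm
  · refine Set.eq_univ_of_forall fun u => ?_
    obtain ⟨z, hz, hcm⟩ := CMFlatLib.exists_isCMAt_over G.t (G.e u)
    refine ⟨z, ?_, by rw [hz, ← Scheme.Hom.comp_apply, G.e_t]; rfl⟩
    have h : G.t (G.i z) = G.s z := by rw [← Scheme.Hom.comp_apply, G.i_t]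
    have h2 := (CMFlatLib.isCMAt_t_iff G z).trans (CMFlatLib.isCMAt_s_iff G (G.i z))
    rw [h] at h2
    exact h2.1 hcm
  · refine Set.eq_univ_of_forall fun u => ?_
    obtain ⟨z, hz, hcm⟩ := CMFlatLib.exists_isCMAt_over G.s (G.e u)
    exact ⟨z, (CMFlatLib.isCMAt_s_iff G z).1 hcm, by rw [hz, ← Scheme.Hom.comp_apply, G.e_s]; rfl⟩

end Groth.Agent.S1936
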