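import Groth.Statements.S19362
import Groth.Agent.FanLib.Closed
import Mathlib

set_option autoImplicit false
universe u
open CategoryTheory Opposite Instab
open Instab Instab.Fan

namespace Groth.Agent.S19362

set_option backward.isDefEq.respectTransparency false
set_option backward.isDefEq.respectTransparency.types false

open Groth.Agent.FanLib

/-- Let f : F ⟶ G be a map of formal fans. (1) The image of the induced map P F → P G is the image of
the projective realization of the image sub-fan of f. (2) For a map g : G' ⟶ G, the image of the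
projective realization of the base change F ×_G G' ⟶ G' is the preimage, under P G' → P G, of the
image of P F → P G. -/
theorem result {F G G' : Fan.{u}} (f : F ⟶ G) (g : G' ⟶ G) :
    Set.range (Fan.P.map f) = Set.range (Fan.P.map (Subfunctor.range f).ι) ∧
    Set.range (Fan.P.map (Limits.pullback.snd f g)) = Fan.P.map g ⁻¹' Set.range (Fan.P.map f) := by
  refine ⟨Set.ext fun x => ⟨?_, ?_⟩, Set.ext fun x => ⟨?_, fun ⟨z, hz⟩ => ?_⟩⟩
  · rintro ⟨z, rfl⟩
    obtain ⟨n, ξ, v, rfl⟩ := mk_surjective z
    exact ⟨Fan.P.mk (F := (Subfunctor.range f).toFunctor) ⟨f.app _ ξ, ⟨ξ, rfl⟩⟩ v, rfl⟩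
  · rintro ⟨z, rfl⟩
    obtain ⟨n, ⟨η, ξ, hξ⟩, v, rfl⟩ := mk_surjective z
    subst hξ
    exact ⟨Fan.P.mk ξ v, rfl⟩
  · rintro ⟨z, rfl⟩
    refine ⟨Fan.P.map (Limits.pullback.fst f g) z, ?_⟩
    rw [← map_map, ← map_map, Limits.pullback.condition]
  · obtain ⟨y, -, hy⟩ := exists_pullback_point f g z x hz
    exact ⟨y, hy⟩

end Groth.Agent.S19362
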