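import Groth.Statements.S19363
import Groth.Agent.FanLib.Closed
import Mathlib

set_option autoImplicit false
universe u
open CategoryTheory Opposite Instab
open Instab Instab.Fan

namespace Groth.Agent.S19363

set_option backward.isDefEq.respectTransparency false
set_option backward.isDefEq.respectTransparency.types false

open Groth.Agent.FanLib

/-- Let ψ : F ⟶ G be a bounded map of formal fans. Then the induced map P F → P G is a closed map whose
fibres are finite, and its image meets each rational simplex of P G in a finite union of closed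
rational sub-simplices: for every n-cone ξ of G there are finitely many cone morphisms φ into [n]
such that a nonzero nonnegative vector v of ℝ^n gives a point of the image exactly when v is a
positive multiple of φ y for one of these φ and some nonzero nonnegative y. -/
theorem result {F G : Fan.{u}} (ψ : F ⟶ G)
    (hψ : Fan.IsBoundedMap ψ) :
    IsClosedMap (Fan.P.map ψ) ∧ (∀ y : Fan.P G, (Fan.P.map ψ ⁻¹' {y}).Finite) ∧
    ∀ (n : ICone) (ξ : G.obj (op n)), ∃ s : Finset (Σ k : ICone, k ⟶ n),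
      {v : Fan.Orth n | Fan.P.mk ξ v ∈ Set.range (Fan.P.map ψ)} =
        ⋃ e ∈ s, {v : Fan.Orth n | ∃ (y : Fan.Orth e.1) (c : ℝ), 0 < c ∧ v.1 = c • e.2.realMap y.1} := by
  classical
  refine ⟨isClosedMap_of_bounded hψ, fun y => ?_, fun n ξ => ?_⟩
  · obtain ⟨n, σ, v, rfl⟩ := mk_surjective y
    obtain ⟨s, -, hs2⟩ := exists_finite_lifts (hψ n σ)
    refine (s.finite_toSet.biUnion (t := fun e => {x | ∃ (y : Fan.Orth e.1) (c : ℝ), 0 < c ∧
      x = Fan.P.mk e.2.1 y ∧ v.1 = c • e.2.2.realMap y.1}) fun e _ => Set.Subsingleton.finite ?_).subset fun x hx => ?_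
    · rintro _ ⟨y, c, hc, rfl, hy⟩ _ ⟨y', c', hc', rfl, hy'⟩
      refine mk_smul _ y y' (c'⁻¹ * c) (mul_pos (inv_pos.mpr hc') hc) (realMap_injective e.2.2 ?_)
      rw [realMap_smul, mul_smul, ← hy, hy', inv_smul_smul₀ hc'.ne']
    · obtain ⟨e, he, h⟩ := hs2 x v hx
      exact Set.mem_iUnion₂.mpr ⟨e, he, h⟩
  · obtain ⟨s, hs1, hs2⟩ := exists_finite_lifts (hψ n ξ)
    refine ⟨s.image fun e => ⟨e.1, e.2.2⟩, ?_⟩
    ext v
    simp only [Set.mem_setOf_eq, Set.mem_iUnion, Set.mem_range, Finset.mem_image]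
    constructor
    · rintro ⟨x, hx⟩
      obtain ⟨e, he, y, c, hc, -, hv⟩ := hs2 x v hx
      exact ⟨_, ⟨e, he, rfl⟩, y, c, hc, hv⟩
    · rintro ⟨_, ⟨e, he, rfl⟩, y, c, hc, hv⟩
      exact ⟨Fan.P.mk e.2.1 y, by rw [map_mk, hs1 e he]; exact mk_glue e.2.2 ξ y v c hc hv⟩

end Groth.Agent.S19363
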