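import Groth.Statements.S19367
import Groth.Agent.FanLib.Closed
import Mathlib

set_option autoImplicit false
universe u
open CategoryTheory Opposite Instab
open Instab Instab.Fan

namespace Groth.Agent.S19367

set_option backward.isDefEq.respectTransparency false
set_option backward.isDefEq.respectTransparency.types false

open Groth.Agent.FanLib

/-- Let ψ : F ⟶ G be a map of formal fans with F quasi-separated. Then injectivity of the induced map P
F → P G is equivalent to its injectivity on the rational points of P F. -/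
theorem result {F G : Fan.{u}} (ψ : F ⟶ G)
    (hF : F.IsQuasiSeparated) :
    Function.Injective (Fan.P.map ψ) ↔
      ∀ x y : Fan.P F, x.IsRational → y.IsRational → Fan.P.map ψ x = Fan.P.map ψ y → x = y := by
  refine ⟨fun h x y _ _ hxy => h hxy, fun h x x' hxx => ?_⟩
  obtain ⟨n, ξ, v, rfl⟩ := mk_surjective x
  obtain ⟨n', ξ', v', rfl⟩ := mk_surjective x'
  rw [map_mk, map_mk, mk_eq_iff] at hxx
  obtain ⟨l, φ, φ', z, a, b, he, ha, hb, h1, h2⟩ := hxx
  rw [← mk_glue φ ξ z v a ha h1, ← mk_glue φ' ξ' z v' b hb h2]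
  obtain ⟨s, -, hs⟩ := exists_finite_pairs hF (F.map φ.op ξ) (F.map φ'.op ξ')
  let E : Set (Fan.Orth l) := {w | Fan.P.mk (F.map φ.op ξ) w = Fan.P.mk (F.map φ'.op ξ') w}
  have hE : E = ⋃ e ∈ s, {w : Fan.Orth l | ∃ (y : Fan.Orth e.1) (c : ℝ),
      y ∈ {y : Fan.Orth e.1 | (∑ i, e.2.2.realMap y.1 i) • e.2.1.realMap y.1 =
        (∑ i, e.2.1.realMap y.1 i) • e.2.2.realMap y.1} ∧ 0 < c ∧ w.1 = c • e.2.1.realMap y.1} := by
    ext w
    simp only [E, Set.mem_setOf_eq, Set.mem_iUnion, hs]
    constructor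
    · rintro ⟨e, he, y, c, c', hc, hc', hw, hw'⟩
      refine ⟨e, he, y, c, ?_, hc, hw⟩
      have key : e.2.2.realMap y.1 = (c'⁻¹ * c) • e.2.1.realMap y.1 := by
        rw [mul_smul, ← hw, hw', inv_smul_smul₀ hc'.ne']
      rw [key, smul_smul]
      congr 1
      simp [Finset.mul_sum, mul_comm]
    · rintro ⟨e, he, y, c, hy, hc, hw⟩
      have hp : ∀ φ : e.1 ⟶ l, 0 < ∑ i, φ.realMap y.1 i := fun φ => by
        refine lt_of_le_of_ne (Finset.sum_nonneg fun i _ => realMap_nonneg φ y.2.1 i) fun h0 => ?_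
        exact (push φ y).2.2 (funext fun i =>
          (Finset.sum_eq_zero_iff_of_nonneg fun i _ => realMap_nonneg φ y.2.1 i).mp h0.symm i (Finset.mem_univ i))
      refine ⟨e, he, y, c, c * ((∑ i, e.2.1.realMap y.1 i) / ∑ i, e.2.2.realMap y.1 i), hc,
        mul_pos hc (div_pos (hp _) (hp _)), hw, ?_⟩
      rw [hw, mul_smul, div_eq_inv_mul, mul_smul, ← hy, inv_smul_smul₀ (hp _).ne']
  have hcl : IsClosed E := by
    rw [hE]
    refine s.finite_toSet.isClosed_biUnion fun e _ => isClosed_rays _ ?_ ?_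
    · have c1 : ∀ φ : e.1 ⟶ l, Continuous fun y : Fan.Orth e.1 => φ.realMap y.1 := fun φ =>
        (toR φ.toLin).continuous_of_finiteDimensional.comp continuous_subtype_val
      exact isClosed_eq ((continuous_finsetSum _ fun i _ => (continuous_apply i).comp (c1 _)).smul (c1 _))
        ((continuous_finsetSum _ fun i _ => (continuous_apply i).comp (c1 _)).smul (c1 _))
    · intro y y' hy c hc hyy
      simp only [Set.mem_setOf_eq] at hy ⊢
      rw [hyy, realMap_smul, realMap_smul]
      simp only [Pi.smul_apply, smul_eq_mul, ← Finset.mul_sum, mul_smul]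
      rw [smul_comm _ c, hy, smul_comm (∑ i, e.2.1.realMap y.1 i) c]
  refine (hcl.closure_subset_iff.mpr ?_) (dense_rational l z)
  rintro w ⟨χ, c, hc, hw⟩
  exact h _ _ (isRational_mk _ w χ c hc hw) (isRational_mk _ w χ c hc hw) (by
    rw [map_mk, map_mk, NatTrans.naturality_apply, NatTrans.naturality_apply, he])

end Groth.Agent.S19367
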