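import Groth.Statements.S19368
import Groth.Agent.FanLib.Closed
import Mathlib

set_option autoImplicit false
universe u
open CategoryTheory Opposite Instab
open Instab Instab.Fan

namespace Groth.Agent.S19368

set_option backward.isDefEq.respectTransparency false
set_option backward.isDefEq.respectTransparency.types false

open Groth.Agent.FanLib

/-- Let F be a formal fan; a subset of P F is realizable when it is the image of the projective
realization of some sub-fan of F. The intersection of two realizable subsets is realizable, and the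
union of an arbitrary family of realizable subsets is realizable. -/
theorem result (F : Fan.{u}) :
    (∀ U V : Set (Fan.P F), Fan.IsRealizable U → Fan.IsRealizable V → Fan.IsRealizable (U ∩ V)) ∧
    ∀ (ι : Type u) (U : ι → Set (Fan.P F)), (∀ i, Fan.IsRealizable (U i)) →
      Fan.IsRealizable (Set.iUnion U) := by
  constructor
  · rintro U V ⟨S, rfl⟩ ⟨T, rfl⟩
    refine ⟨S ⊓ T, Set.ext fun x => ⟨?_, ?_⟩⟩
    · rintro ⟨⟨a, rfl⟩, b, hb⟩
      obtain ⟨n, ⟨ξ, hξ⟩, v, rfl⟩ := mk_surjective a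
      obtain ⟨n', ⟨ξ', hξ'⟩, v', rfl⟩ := mk_surjective b
      obtain ⟨l, φ, φ', z, a, b, he, ha, hb, h1, h2⟩ := (mk_eq_iff ξ' ξ v' v).mp hb
      refine ⟨Fan.P.mk (F := (S ⊓ T).toFunctor) ⟨F.map φ'.op ξ, S.map φ'.op hξ, he ▸ T.map φ.op hξ'⟩ z, ?_⟩
      exact mk_glue φ' ξ z v b hb h2
    · rintro ⟨a, rfl⟩
      obtain ⟨n, ⟨ξ, h1, h2⟩, v, rfl⟩ := mk_surjective a
      exact ⟨⟨Fan.P.mk (F := S.toFunctor) ⟨ξ, h1⟩ v, rfl⟩, ⟨Fan.P.mk (F := T.toFunctor) ⟨ξ, h2⟩ v, rfl⟩⟩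
  · intro ι U hU
    choose S hS using hU
    refine ⟨⨆ i, S i, Set.ext fun x => ⟨?_, ?_⟩⟩
    · intro hx
      obtain ⟨i, hi⟩ := Set.mem_iUnion.mp hx
      rw [hS i] at hi
      obtain ⟨a, rfl⟩ := hi
      obtain ⟨n, ⟨ξ, hξ⟩, v, rfl⟩ := mk_surjective a
      exact ⟨Fan.P.mk (F := (⨆ i, S i).toFunctor) ⟨ξ, by simp only [Subfunctor.iSup_obj, Set.mem_iUnion]; exact ⟨i, hξ⟩⟩ v, rfl⟩
    · rintro ⟨a, rfl⟩
      obtain ⟨n, ⟨ξ, hξ⟩, v, rfl⟩ := mk_surjective a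
      simp only [Subfunctor.iSup_obj, Set.mem_iUnion] at hξ
      obtain ⟨i, hi⟩ := hξ
      exact Set.mem_iUnion.mpr ⟨i, (hS i).symm ▸ ⟨Fan.P.mk (F := (S i).toFunctor) ⟨ξ, hi⟩ v, rfl⟩⟩

end Groth.Agent.S19368
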