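import Groth.Statements.S19369
import Groth.Agent.FanLib.Closed
import Mathlib

set_option autoImplicit false
universe u
open CategoryTheory Opposite Instab
open Instab Instab.Fan

namespace Groth.Agent.S19369

set_option backward.isDefEq.respectTransparency false
set_option backward.isDefEq.respectTransparency.types false

open Groth.Agent.FanLib Filter Topology

theorem sum_pos {n : ICone} (v : Fan.Orth n) : 0 < ∑ i, v.1 i :=
  lt_of_le_of_ne (Finset.sum_nonneg fun i _ => v.2.1 i) fun h => v.2.2 (funext fun i =>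
    (Finset.sum_eq_zero_iff_of_nonneg fun i _ => v.2.1 i).mp h.symm i (Finset.mem_univ i))

noncomputable def nrm {n : ICone} (v : Fan.Orth n) : Fan.Orth n := scale v (inv_pos.mpr (sum_pos v))

theorem continuous_nrm (n : ICone) : Continuous (nrm : Fan.Orth n → Fan.Orth n) := by
  refine Continuous.subtype_mk ((Continuous.inv₀ ?_ fun v => (sum_pos v).ne').smul continuous_subtype_val) _
  exact continuous_finsetSum _ fun i _ => (continuous_apply i).comp continuous_subtype_val

theorem mk_nrm {F : Fan.{u}} {n : ICone} (ξ : F.obj (op n)) (v : Fan.Orth n) : Fan.P.mk ξ (nrm v) = Fan.P.mk ξ v :=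
  (mk_smul ξ v (nrm v) _ (inv_pos.mpr (sum_pos v)) rfl).symm

theorem sum_nrm {n : ICone} (v : Fan.Orth n) : ∑ i, (nrm v).1 i = 1 := by
  show ∑ i, (∑ j, v.1 j)⁻¹ * v.1 i = 1
  rw [← Finset.mul_sum, inv_mul_cancel₀ (sum_pos v).ne']

theorem isClosed_singleton {F : Fan.{u}} (hF : F.IsQuasiSeparated) (x : Fan.P F) : IsClosed ({x} : Set (Fan.P F)) := by
  obtain ⟨n, ξ, v, rfl⟩ := mk_surjective x
  have h : ({Fan.P.mk ξ v} : Set (Fan.P F)) =
      Fan.P.mk ξ '' {w : Fan.Orth n | (∑ i, v.1 i) • w.1 = (∑ i, w.1 i) • v.1} := by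
    refine Set.Subset.antisymm (by rintro _ rfl; exact ⟨v, rfl, rfl⟩) ?_
    rintro _ ⟨w, hw, rfl⟩
    refine (mk_smul ξ v w ((∑ i, w.1 i) / ∑ i, v.1 i) (div_pos (sum_pos w) (sum_pos v)) ?_).symm
    rw [div_eq_inv_mul, mul_smul, ← hw, inv_smul_smul₀ (sum_pos v).ne']
  rw [h]
  refine isClosed_image_mk hF ξ ?_ ?_
  · have hval : Continuous (fun w : Fan.Orth n => w.1) := continuous_subtype_val
    exact isClosed_eq ((continuous_const (y := ∑ i, v.1 i)).smul hval)
      ((continuous_finsetSum _ fun i _ => (continuous_apply i).comp hval).smul continuous_const)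
  · intro a b ha c hc hb
    show _ • b.1 = _
    simp only [hb, Pi.smul_apply, smul_eq_mul, ← Finset.mul_sum]
    rw [smul_comm, (ha : _ • a.1 = _), mul_smul]

/-- Let F be a quasi-separated formal fan and let (x i) be a sequence in P F converging to a point x.
Then there are an n-cone σ of F and a subsequence of (x i) whose terms lift to nonzero nonnegative
vectors of ℝ^n, mapping to them under the rational simplex of σ, such that the lifts converge to a
vector that lifts x. -/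
theorem result (F : Fan.{u}) (hF : F.IsQuasiSeparated)
    (x : ℕ → Fan.P F) (x₀ : Fan.P F) (hx : Filter.Tendsto x Filter.atTop (nhds x₀)) :
    ∃ (n : ICone) (σ : F.obj (op n)) (r : ℕ → ℕ) (v : ℕ → Fan.Orth n) (v₀ : Fan.Orth n),
      StrictMono r ∧ (∀ j, Fan.P.mk σ (v j) = x (r j)) ∧ Fan.P.mk σ v₀ = x₀ ∧
        Filter.Tendsto v Filter.atTop (nhds v₀) := by
  obtain ⟨n, σ, hinf⟩ : ∃ (n : ICone) (σ : F.obj (op n)), {i | x i ∈ Fan.P.cell σ}.Infinite := by
    by_contra hno
    push Not at hno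
    have hA : IsClosed {z : Fan.P F | ∃ i, x i = z ∧ z ≠ x₀} := by
      rw [isClosed_iff]
      intro n σ
      have hfin : ({z : Fan.P F | ∃ i, x i = z ∧ z ≠ x₀} ∩ Fan.P.cell σ).Finite := by
        refine ((hno n σ).image x).subset ?_
        rintro _ ⟨⟨i, rfl, -⟩, hi⟩
        exact ⟨i, hi, rfl⟩
      have h := (hfin.isClosed_biUnion (f := fun z => ({z} : Set (Fan.P F))) fun z _ => isClosed_singleton hF z).preimage
        (continuous_mk σ)
      rw [Set.biUnion_of_singleton, Set.preimage_inter, Fan.P.cell, Set.preimage_range, Set.inter_univ] at h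
      exact h
    have hev := hx.eventually (hA.isOpen_compl.mem_nhds (show x₀ ∈ _ from fun ⟨_, _, h⟩ => h rfl))
    obtain ⟨m, η, v, hv⟩ := mk_surjective x₀
    obtain ⟨N, hN⟩ := eventually_atTop.mp hev
    refine (hno m η).not_infinite ((Set.Ici_infinite N).mono fun i hi => ?_)
    have : x i = x₀ := by
      by_contra hne
      exact hN i hi ⟨i, rfl, hne⟩
    exact ⟨v, (this.trans hv).symm⟩
  let r₀ : ℕ → ℕ := Nat.nth (fun i => x i ∈ Fan.P.cell σ)
  have hr₀ : StrictMono r₀ := Nat.nth_strictMono hinf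
  choose w hw using fun j => Nat.nth_mem_of_infinite hinf j
  have hK : ∀ j, (nrm (w j)).1 ∈ stdSimplex ℝ (Fin n.dim) := fun j => ⟨(nrm (w j)).2.1, sum_nrm _⟩
  obtain ⟨a, ha, φ, hφ, hlim⟩ := (isCompact_stdSimplex ℝ (Fin n.dim)).tendsto_subseq hK
  have ha0 : a ≠ 0 := fun h => by have := ha.2; simp [h] at this
  let v₀ : Fan.Orth n := ⟨a, ha.1, ha0⟩
  let v : ℕ → Fan.Orth n := fun j => nrm (w (φ j))
  have hv : Tendsto v atTop (𝓝 v₀) := by
    rw [Topology.IsInducing.subtypeVal.tendsto_nhds_iff]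
    exact hlim
  have hmk : ∀ j, Fan.P.mk σ (v j) = x (r₀ (φ j)) := fun j => by rw [mk_nrm]; exact hw (φ j)
  have hsub : Tendsto (fun j => Fan.P.mk σ (v j)) atTop (𝓝 x₀) := by
    simp only [hmk]
    exact hx.comp (hr₀.comp hφ).tendsto_atTop
  refine ⟨n, σ, r₀ ∘ φ, v, v₀, hr₀.comp hφ, hmk, ?_, hv⟩
  by_contra hne
  have hev : ∀ᶠ j in atTop, Fan.P.mk σ (v j) ≠ x₀ :=
    hv.eventually (((isClosed_singleton hF x₀).preimage (continuous_mk σ)).isOpen_compl.mem_nhds hne)
  obtain ⟨J, hJ⟩ := eventually_atTop.mp hev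
  have hKc : IsCompact (insert v₀ (Set.range fun j => v (j + J))) :=
    (hv.comp (tendsto_add_atTop_nat J)).isCompact_insert_range
  haveI : T2Space (Fan.Orth n) := inferInstanceAs (T2Space {v : Fin n.dim → ℝ // (∀ i, 0 ≤ v i) ∧ v ≠ 0})
  have hS : IsClosed (Fan.P.mk σ '' (nrm ⁻¹' insert v₀ (Set.range fun j => v (j + J)))) := by
    refine isClosed_image_mk hF σ (hKc.isClosed.preimage (continuous_nrm n)) fun p q hp c hc hq => ?_
    have : nrm q = nrm p := Subtype.ext (by
      show (∑ i, q.1 i)⁻¹ • q.1 = (∑ i, p.1 i)⁻¹ • p.1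
      simp only [hq, Pi.smul_apply, smul_eq_mul, ← Finset.mul_sum]
      rw [smul_smul, mul_inv, mul_assoc, mul_comm _ c, ← mul_assoc, inv_mul_cancel₀ hc.ne', one_mul])
    show nrm q ∈ insert v₀ (Set.range fun j => v (j + J))
    rw [this]
    exact hp
  have hnn : ∀ p : Fan.Orth n, (∑ i, p.1 i = 1) → nrm p = p := fun p hp => Subtype.ext (by
    show (∑ i, p.1 i)⁻¹ • p.1 = p.1
    rw [hp, inv_one, one_smul])
  obtain ⟨p, hp, hpx⟩ := hS.mem_of_tendsto hsub (eventually_atTop.mpr ⟨J, fun j hj => ⟨v j, by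
    show nrm (v j) ∈ insert v₀ (Set.range fun j => v (j + J))
    rw [hnn _ (sum_nrm _)]
    exact Set.mem_insert_of_mem _ ⟨j - J, by simp [v, Nat.sub_add_cancel hj]⟩, rfl⟩⟩)
  rcases hp with hp | ⟨j, hj⟩
  · exact hne (by rw [← hp, mk_nrm]; exact hpx)
  · exact hJ (j + J) (Nat.le_add_left _ _) (by rw [show v (j + J) = nrm p from hj, mk_nrm]; exact hpx)

end Groth.Agent.S19369
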