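import Groth.Statements.S19370
import Groth.Agent.FanLib.Closed
import Mathlib

set_option autoImplicit false
universe u v
open CategoryTheory Opposite Instab
open Instab Instab.Fan

namespace Groth.Agent.S19370

set_option backward.isDefEq.respectTransparency false
set_option backward.isDefEq.respectTransparency.types false

open Groth.Agent.FanLib Filter Topology

theorem exists_near {F : Fan.{u}} {U : Set (Fan.P F)} (hU : Fan.IsConvex U) {Γ : Type v} [LinearOrder Γ] (Φ : U → Γ)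
    (x y : U) (hx : (x : Fan.P F).IsRational) (hy : (y : Fan.P F).IsRational) (hne : x ≠ y) (hmax : IsLocalMax Φ x) :
    ∃ (n : ICone) (ξ : F.obj (op n)) (v₀ v₁ v₂ : Fan.Orth n) (h₀ : Fan.P.mk ξ v₀ ∈ U) (h₁ : Fan.P.mk ξ v₁ ∈ U)
      (h₂ : Fan.P.mk ξ v₂ ∈ U), (⟨_, h₀⟩ : U) = x ∧ (⟨_, h₂⟩ : U) = y ∧ (¬ ∃ c : ℝ, v₂.1 = c • v₀.1) ∧
      (∃ a b : ℝ, 0 < a ∧ 0 < b ∧ v₁.1 = a • v₀.1 + b • v₂.1) ∧ Φ ⟨_, h₁⟩ ≤ Φ x := by
  obtain ⟨τ, hτ, h0, h1⟩ := hU.2.2 _ _ x.2 y.2 hx hy (fun h => hne (Subtype.ext h))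
  let p : ℕ → Fan.Orth Fan.two := fun m => ⟨(Fan.Orth.basis Fan.two 0).1 + (1 / (m + 1 : ℝ)) • (Fan.Orth.basis Fan.two 1).1,
    fun j => add_nonneg ((Fan.Orth.basis _ _).2.1 j) (mul_nonneg (by positivity) ((Fan.Orth.basis _ _).2.1 j)),
    fun h => by have := congrFun h (0 : Fin 2); simp [Fan.Orth.basis] at this⟩
  have hp : Tendsto p atTop (𝓝 (Fan.Orth.basis Fan.two 0)) := by
    rw [Topology.IsInducing.subtypeVal.tendsto_nhds_iff]
    simpa [p, Function.comp_def] using (tendsto_const_nhds (x := (Fan.Orth.basis Fan.two 0).1)).add ((tendsto_one_div_add_atTop_nhds_zero_nat (𝕜 := ℝ)).smul_const (Fan.Orth.basis Fan.two 1).1)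
  let g : Fan.Orth Fan.two → U := fun v => ⟨Fan.P.mk τ v, hτ ⟨v, rfl⟩⟩
  have hg : Continuous g := (continuous_mk τ).subtype_mk _
  have hgx : g (Fan.Orth.basis Fan.two 0) = x := Subtype.ext h0
  obtain ⟨m, hm⟩ := ((hg.tendsto _).comp hp).eventually (hgx ▸ hmax) |>.exists
  refine ⟨_, τ, Fan.Orth.basis Fan.two 0, p m, Fan.Orth.basis Fan.two 1, hτ ⟨_, rfl⟩, hτ ⟨_, rfl⟩, hτ ⟨_, rfl⟩,
    Subtype.ext h0, Subtype.ext h1, ?_, ⟨1, 1 / (m + 1 : ℝ), one_pos, by positivity, by rw [one_smul]⟩, (congrArg Φ hgx) ▸ hm⟩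
  rintro ⟨c, hc⟩
  have := congrFun hc (1 : Fin 2)
  simp [Fan.Orth.basis] at this

/-- Let F be a formal fan, U ⊆ P F a convex subset, Γ a totally ordered set and Φ : U → Γ a
quasi-concave function that is lower semicontinuous in the sense that every sublevel set {Φ ≤ c} is
closed in U. Then every rational point of U at which Φ has a local maximum is a global maximum of Φ,
and if Φ is strictly quasi-concave there is at most one such rational point. -/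
theorem result (F : Fan.{u}) (U : Set (Fan.P F))
    (hU : Fan.IsConvex U) {Γ : Type v} [LinearOrder Γ] (Φ : U → Γ) (hΦ : Fan.IsQuasiConcaveOn U Φ)
    (hlsc : ∀ c : Γ, IsClosed {x : U | Φ x ≤ c}) :
    (∀ x : U, (x : Fan.P F).IsRational → IsLocalMax Φ x → ∀ y : U, Φ y ≤ Φ x) ∧
    (Fan.IsStrictQuasiConcaveOn U Φ → ∀ x y : U, (x : Fan.P F).IsRational → (y : Fan.P F).IsRational →
      IsLocalMax Φ x → IsLocalMax Φ y → x = y) := by
  have part1 : ∀ x : U, (x : Fan.P F).IsRational → IsLocalMax Φ x → ∀ y : U, Φ y ≤ Φ x := by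
    intro x hxr hmax y
    by_contra hlt
    push Not at hlt
    obtain ⟨S, hS⟩ := hU.2.1
    obtain ⟨a, ha⟩ := (hS ▸ y.2 : (y : Fan.P F) ∈ Set.range (Fan.P.map S.ι))
    obtain ⟨n, ⟨ξ, hξ⟩, v, rfl⟩ := mk_surjective a
    have hcell : ∀ w, Fan.P.mk ξ w ∈ U := fun w => hS.symm ▸ ⟨Fan.P.mk (F := S.toFunctor) ⟨ξ, hξ⟩ w, rfl⟩
    let g : Fan.Orth n → U := fun w => ⟨Fan.P.mk ξ w, hcell w⟩
    have hg : Continuous g := (continuous_mk ξ).subtype_mk _
    have hopen : IsOpen {w | Φ x < Φ (g w)} := by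
      have h : {w | Φ x < Φ (g w)} = (g ⁻¹' {z | Φ z ≤ Φ x})ᶜ := by ext w; simp
      rw [h]
      exact ((hlsc (Φ x)).preimage hg).isOpen_compl
    have hv : Φ x < Φ (g v) := by
      rw [show g v = y from Subtype.ext ha]
      exact hlt
    obtain ⟨w, hw, φ, c, hc, hwv⟩ := (dense_rational n).inter_open_nonempty _ hopen ⟨v, hv⟩
    simp only [Set.mem_setOf_eq] at hw
    obtain ⟨m, η, v₀, v₁, v₂, k₀, k₁, k₂, e0, e2, hind, hbet, hle⟩ :=
      exists_near hU Φ x (g w) hxr (isRational_mk ξ w φ c hc hwv) (fun h => (h ▸ hw).false) hmax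
    obtain ⟨h1, h2⟩ := hΦ m η v₀ v₁ v₂ k₀ k₁ k₂ hind hbet
    rw [e0, e2, min_eq_left hw.le] at h1 h2
    exact hw.ne (h2 (le_antisymm hle h1))
  refine ⟨part1, fun hs x y hxr hyr hx hy => ?_⟩
  by_contra hne
  obtain ⟨m, η, v₀, v₁, v₂, k₀, k₁, k₂, e0, e2, hind, hbet, hle⟩ := exists_near hU Φ x y hxr hyr hne hx
  have h := hs m η v₀ v₁ v₂ k₀ k₁ k₂ hind hbet
  rw [e0, e2, min_eq_left (part1 y hyr hy x)] at h
  exact (h.trans_le hle).false

end Groth.Agent.S19370
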