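import Groth.Statements.S19371
import Groth.Agent.FanLib.Closed
import Mathlib

set_option autoImplicit false
universe u v
open CategoryTheory Opposite Instab
open Instab Instab.Fan

namespace Groth.Agent.S19371

set_option backward.isDefEq.respectTransparency false
set_option backward.isDefEq.respectTransparency.types false

open Groth.Agent.FanLib Filter Topology

theorem preconnectedSpace_orth (n : ICone) : PreconnectedSpace (Fan.Orth n) := by
  have hc : Convex ℝ {v : Fin n.dim → ℝ | (∀ i, 0 ≤ v i) ∧ v ≠ 0} := by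
    intro v hv w hw a b ha hb hab
    refine ⟨fun i => add_nonneg (mul_nonneg ha (hv.1 i)) (mul_nonneg hb (hw.1 i)), fun h0 => ?_⟩
    have h : ∀ i, a * v i = 0 ∧ b * w i = 0 := fun i =>
      (add_eq_zero_iff_of_nonneg (mul_nonneg ha (hv.1 i)) (mul_nonneg hb (hw.1 i))).mp (congrFun h0 i)
    rcases eq_or_ne a 0 with rfl | ha'
    · rw [zero_add] at hab
      exact hw.2 (funext fun i => by simpa [hab] using (h i).2)
    · exact hv.2 (funext fun i => (mul_eq_zero.mp (h i).1).resolve_left ha')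
  exact isPreconnected_iff_preconnectedSpace.mp hc.isPreconnected

theorem seg_ge {F : Fan.{u}} {U : Set (Fan.P F)} {Γ : Type v} [LinearOrder Γ] {Φ : U → Γ}
    (hΦ : Fan.IsStrictQuasiConcaveOn U Φ) (τ : F.obj (op Fan.two)) (hτ : Fan.P.cell τ ⊆ U) (v : Fan.Orth Fan.two) :
    min (Φ ⟨_, hτ ⟨Fan.Orth.basis Fan.two 0, rfl⟩⟩) (Φ ⟨_, hτ ⟨Fan.Orth.basis Fan.two 1, rfl⟩⟩) ≤ Φ ⟨_, hτ ⟨v, rfl⟩⟩ := by
  rcases (v.2.1 (1 : Fin 2)).eq_or_lt with h1 | h1
  · have h0 : 0 < v.1 (0 : Fin 2) := (v.2.1 _).lt_of_ne fun h0 => v.2.2 (funext fun j => by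
      fin_cases j
      · exact h0.symm
      · exact h1.symm)
    refine (min_le_left _ _).trans_eq (congrArg Φ (Subtype.ext (mk_smul τ _ v _ h0 (funext fun j => ?_))))
    fin_cases j
    · simp [Fan.Orth.basis]
    · simpa [Fan.Orth.basis] using h1.symm
  rcases (v.2.1 (0 : Fin 2)).eq_or_lt with h0 | h0
  · refine (min_le_right _ _).trans_eq (congrArg Φ (Subtype.ext (mk_smul τ _ v _ h1 (funext fun j => ?_))))
    fin_cases j
    · simpa [Fan.Orth.basis] using h0.symm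
    · simp [Fan.Orth.basis]
  refine (hΦ _ τ _ v _ _ _ _ ?_ ⟨v.1 (0 : Fin 2), v.1 (1 : Fin 2), h0, h1, funext fun j => ?_⟩).le
  · rintro ⟨c, hc⟩
    have := congrFun hc (1 : Fin 2)
    simp [Fan.Orth.basis] at this
  · fin_cases j <;> simp [Fan.Orth.basis]

/-- Let F be a quasi-separated formal fan whose projective realization P F is a Hausdorff space, U ⊆ P F
a compact convex subset, Γ a totally ordered set with the order topology, and Φ : U → Γ continuous
and strictly quasi-concave. Then any two local maxima of Φ coincide, so the global maximum of Φ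
(which exists when U is nonempty, by the extreme value property of upper semicontinuous functions on
compact sets) is its unique local maximum. (The published lemma assumes only that F is
quasi-separated and derives the Hausdorff property of P F from that; this derivation does not hold
in general, and the Hausdorff property, which the published proof uses, is assumed here.) -/
theorem result (F : Fan.{u})
    (hF : F.IsQuasiSeparated) (hT2 : T2Space (Fan.P F)) (U : Set (Fan.P F)) (hUc : IsCompact U)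
    (hU : Fan.IsConvex U) {Γ : Type v} [LinearOrder Γ] [TopologicalSpace Γ] [OrderTopology Γ]
    (Φ : U → Γ) (hΦc : Continuous Φ) (hΦ : Fan.IsStrictQuasiConcaveOn U Φ) (x y : U)
    (hx : IsLocalMax Φ x) (hy : IsLocalMax Φ y) : x = y := by
  wlog hle : Φ x ≤ Φ y generalizing x y
  · exact (this y x hy hx (le_of_not_ge hle)).symm
  haveI := hT2
  haveI : CompactSpace U := isCompact_iff_compactSpace.mp hUc
  let T : Set U := {z | Φ x ≤ Φ z}
  have hT : IsClosed T := isClosed_le continuous_const hΦc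
  haveI : CompactSpace T := isCompact_iff_compactSpace.mp hT.isCompact
  let x' : T := ⟨x, le_refl (Φ x)⟩
  let y' : T := ⟨y, hle⟩
  -- rational points near any point of `U`
  have hrat : ∀ (z : U) (O : Set U), IsOpen O → z ∈ O → ∃ w ∈ O, (w : Fan.P F).IsRational := by
    intro z O hO hz
    obtain ⟨S, hS⟩ := hU.2.1
    obtain ⟨a, ha⟩ := (hS ▸ z.2 : (z : Fan.P F) ∈ Set.range (Fan.P.map S.ι))
    obtain ⟨n, ⟨ξ, hξ⟩, v, rfl⟩ := mk_surjective a
    have hcell : ∀ w, Fan.P.mk ξ w ∈ U := fun w => hS.symm ▸ ⟨Fan.P.mk (F := S.toFunctor) ⟨ξ, hξ⟩ w, rfl⟩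
    let g : Fan.Orth n → U := fun w => ⟨Fan.P.mk ξ w, hcell w⟩
    have hg : Continuous g := (continuous_mk ξ).subtype_mk _
    obtain ⟨w, hw, φ, c, hc, hwv⟩ := (dense_rational n).inter_open_nonempty _ (hO.preimage hg)
      ⟨v, show g v ∈ O by rwa [show g v = z from Subtype.ext ha]⟩
    exact ⟨g w, hw, isRational_mk ξ w φ c hc hwv⟩
  have hconn : y' ∈ connectedComponent x' := by
    rw [connectedComponent_eq_iInter_isClopen, Set.mem_iInter]
    rintro ⟨Z, hZ, hxZ⟩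
    by_contra hyZ
    have hcl : Topology.IsClosedEmbedding (Subtype.val : T → U) := hT.isClosedEmbedding_subtypeVal
    obtain ⟨U₁, U₂, hU₁, hU₂, hZ₁, hZ₂, hd⟩ := normal_separation (hcl.isClosedMap _ hZ.1)
      (hcl.isClosedMap _ hZ.compl.1) (Set.disjoint_image_of_injective Subtype.val_injective disjoint_compl_right)
    let K : Set U := (U₁ ∪ U₂)ᶜ
    have hK : IsCompact K := (hU₁.union hU₂).isClosed_compl.isCompact
    have hKlt : ∀ z ∈ K, Φ z < Φ x := fun z hz => by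
      by_contra hc
      push Not at hc
      by_cases hzZ : (⟨z, hc⟩ : T) ∈ Z
      · exact hz (Or.inl (hZ₁ ⟨_, hzZ, rfl⟩))
      · exact hz (Or.inr (hZ₂ ⟨_, hzZ, rfl⟩))
    obtain ⟨O, hO, hxO, hyO, hOK⟩ : ∃ O : Set U, IsOpen O ∧ x ∈ O ∧ y ∈ O ∧ ∀ z ∈ O, ∀ k ∈ K, Φ k < Φ z := by
      rcases K.eq_empty_or_nonempty with hK0 | hK0
      · exact ⟨Set.univ, isOpen_univ, trivial, trivial, fun z _ k hk => absurd hk (by simp [hK0])⟩
      · obtain ⟨m, hm, hmax⟩ := hK.exists_isMaxOn hK0 hΦc.continuousOn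
        exact ⟨{z | Φ m < Φ z}, isOpen_lt continuous_const hΦc, hKlt m hm, (hKlt m hm).trans_le hle,
          fun z hz k hk => (hmax hk).trans_lt hz⟩
    obtain ⟨p, ⟨hp, hpO⟩, hpr⟩ := hrat x (U₁ ∩ O) (hU₁.inter hO) ⟨hZ₁ ⟨x', hxZ, rfl⟩, hxO⟩
    obtain ⟨q, ⟨hq, hqO⟩, hqr⟩ := hrat y (U₂ ∩ O) (hU₂.inter hO) ⟨hZ₂ ⟨y', hyZ, rfl⟩, hyO⟩
    obtain ⟨τ, hτ, h0, h1⟩ := hU.2.2 _ _ p.2 q.2 hpr hqr
      (fun h => Set.disjoint_left.mp hd hp ((Subtype.ext h : p = q) ▸ hq))
    haveI := preconnectedSpace_orth Fan.two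
    let g : Fan.Orth Fan.two → U := fun v => ⟨Fan.P.mk τ v, hτ ⟨v, rfl⟩⟩
    have hg : Continuous g := (continuous_mk τ).subtype_mk _
    have hsub : Set.range g ⊆ U₁ ∪ U₂ := by
      rintro _ ⟨v, rfl⟩
      by_contra hc
      have h2 := seg_ge hΦ τ hτ v
      rw [show (⟨_, hτ ⟨Fan.Orth.basis Fan.two 0, rfl⟩⟩ : U) = p from Subtype.ext h0,
        show (⟨_, hτ ⟨Fan.Orth.basis Fan.two 1, rfl⟩⟩ : U) = q from Subtype.ext h1] at h2
      exact absurd (lt_min (hOK p hpO _ hc) (hOK q hqO _ hc)) (not_lt.mpr h2)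
    obtain ⟨z, -, hz₁, hz₂⟩ := (isPreconnected_range hg) U₁ U₂ hU₁ hU₂ hsub
      ⟨p, ⟨_, Subtype.ext h0⟩, hp⟩ ⟨q, ⟨_, Subtype.ext h1⟩, hq⟩
    exact Set.disjoint_left.mp hd hz₁ hz₂
  by_contra hne
  let L : Set (Fan.P F) := (fun t : T => ((t : U) : Fan.P F)) '' connectedComponent x'
  have hval : Continuous fun t : T => ((t : U) : Fan.P F) := continuous_subtype_val.comp continuous_subtype_val
  have hL : IsClosed L := (isClosed_connectedComponent.isCompact.image hval).isClosed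
  have hLc : IsPreconnected L := isPreconnected_connectedComponent.image _ hval.continuousOn
  have hxL : (x : Fan.P F) ∈ L := ⟨x', mem_connectedComponent, rfl⟩
  have hLx : ¬ IsClosed (L \ {(x : Fan.P F)}) := fun hc => by
    obtain ⟨z, -, hz1, hz2⟩ := (isPreconnected_closed_iff.mp hLc) {(x : Fan.P F)} (L \ {(x : Fan.P F)}) isClosed_singleton hc
      (fun z hz => (em (z = (x : Fan.P F))).imp id fun h => ⟨hz, h⟩) ⟨_, hxL, rfl⟩
      ⟨(y : Fan.P F), ⟨y', hconn, rfl⟩, ⟨y', hconn, rfl⟩, fun h => hne (Subtype.ext h).symm⟩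
    exact hz2.2 hz1
  rw [isClosed_iff] at hLx
  push Not at hLx
  obtain ⟨n, ξ, hξ⟩ := hLx
  obtain ⟨v₀, hv₀cl, hv₀⟩ := Set.not_subset.mp fun h => hξ (closure_subset_iff_isClosed.mp h)
  have hv₀L : Fan.P.mk ξ v₀ ∈ L :=
    (hL.preimage (continuous_mk ξ)).closure_subset (closure_mono (fun w hw => hw.1) hv₀cl)
  have hv₀x : Fan.P.mk ξ v₀ = x := by
    by_contra h
    exact hv₀ ⟨hv₀L, h⟩
  obtain ⟨N, hN, hNmax⟩ : ∃ N : Set (Fan.P F), N ∈ 𝓝 (x : Fan.P F) ∧ ∀ z : U, (z : Fan.P F) ∈ N → Φ z ≤ Φ x := by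
    have h := hx
    rw [IsLocalMax, IsMaxFilter, nhds_subtype, eventually_comap] at h
    obtain ⟨N, hN, hN'⟩ := h.exists_mem
    exact ⟨N, hN, fun z hz => hN' _ hz z rfl⟩
  obtain ⟨O', hO', hO'eq⟩ := isOpen_induced_iff.mp ((isOpen_interior (s := N)).preimage (continuous_mk ξ))
  have hv₀O : v₀.1 ∈ O' := by
    have : v₀ ∈ Fan.P.mk ξ ⁻¹' interior N := by
      show Fan.P.mk ξ v₀ ∈ interior N
      rw [hv₀x]
      exact mem_interior_iff_mem_nhds.mpr hN
    rwa [← hO'eq] at this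
  obtain ⟨ε, hε, hball⟩ := Metric.isOpen_iff.mp hO' _ hv₀O
  obtain ⟨v, hvε, hvL, hvx⟩ := mem_closure_iff_nhds.mp hv₀cl (Subtype.val ⁻¹' Metric.ball v₀.1 ε)
    ((continuous_subtype_val.isOpen_preimage _ Metric.isOpen_ball).mem_nhds (Metric.mem_ball_self hε))
  let v₁ : Fan.Orth n := ⟨(1 / 2 : ℝ) • v₀.1 + (1 / 2 : ℝ) • v.1,
    fun i => add_nonneg (mul_nonneg (by norm_num) (v₀.2.1 i)) (mul_nonneg (by norm_num) (v.2.1 i)),
    fun h => v₀.2.2 (funext fun i => by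
      have h' := congrFun h i
      simp only [Pi.add_apply, Pi.smul_apply, smul_eq_mul, Pi.zero_apply] at h' ⊢
      linarith [v₀.2.1 i, v.2.1 i])⟩
  have hv₁N : Fan.P.mk ξ v₁ ∈ N := by
    have h1 : v₁.1 ∈ O' := hball ((convex_ball v₀.1 ε) (Metric.mem_ball_self hε) hvε (by norm_num) (by norm_num) (by norm_num))
    have h2 : v₁ ∈ Fan.P.mk ξ ⁻¹' interior N := hO'eq ▸ h1
    exact interior_subset h2
  have hbet : ∃ a b : ℝ, 0 < a ∧ 0 < b ∧ v₁.1 = a • v₀.1 + b • v.1 := ⟨1 / 2, 1 / 2, by norm_num, by norm_num, rfl⟩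
  obtain ⟨t, -, ht⟩ := hvL
  have h0 : Fan.P.mk ξ v₀ ∈ U := hv₀x ▸ x.2
  have h2 : Fan.P.mk ξ v ∈ U := ht ▸ t.1.2
  have h1 : Fan.P.mk ξ v₁ ∈ U := hU.1 n ξ v₀ v₁ v h0 h2 hbet
  have hind : ¬ ∃ c : ℝ, v.1 = c • v₀.1 := by
    rintro ⟨c, hc⟩
    refine hvx (Set.mem_singleton_iff.mpr ?_)
    rw [← hv₀x]
    refine (mk_smul ξ v₀ v c ?_ hc).symm
    by_contra hc0
    push Not at hc0
    exact v.2.2 (funext fun i => le_antisymm (by rw [hc]; exact mul_nonpos_of_nonpos_of_nonneg hc0 (v₀.2.1 i)) (v.2.1 i))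
  have key := hΦ n ξ v₀ v₁ v h0 h1 h2 hind hbet
  rw [show (⟨_, h0⟩ : U) = x from Subtype.ext hv₀x, show (⟨_, h2⟩ : U) = t.1 from Subtype.ext ht.symm,
    min_eq_left t.2] at key
  exact (key.trans_le (hNmax _ hv₁N)).false

end Groth.Agent.S19371
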