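import Groth.Statements.S19372
import Groth.Agent.FanLib.Closed
import Mathlib

set_option autoImplicit false
open CategoryTheory Opposite Instab
open Instab Instab.Fan

namespace Groth.Agent.S19372

set_option backward.isDefEq.respectTransparency false
set_option backward.isDefEq.respectTransparency.types false
set_option maxHeartbeats 800000

open Groth.Agent.FanLib Topology

theorem exists_indep_comb {N : ℕ} (T : Finset (Fin N → ℤ)) (c : (Fin N → ℤ) → ℝ) (hc : ∀ g, 0 ≤ c g) :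
    ∃ (S : Finset (Fin N → ℤ)) (c' : (Fin N → ℤ) → ℝ), S ⊆ T ∧ (∀ g, 0 ≤ c' g) ∧
      LinearIndependent ℤ (Subtype.val : S → Fin N → ℤ) ∧
      ∑ g ∈ T, c g • (fun j => (g j : ℝ)) = ∑ g ∈ S, c' g • (fun j => (g j : ℝ)) := by
  classical
  induction T using Finset.strongInduction generalizing c with
  | H T ih =>
    by_cases hz : ∃ g ∈ T, c g = 0
    · obtain ⟨g, hg, hg0⟩ := hz
      obtain ⟨S, c', h1, h2, h3, h4⟩ := ih (T.erase g) (Finset.erase_ssubset hg) c hc
      refine ⟨S, c', h1.trans (Finset.erase_subset _ _), h2, h3, ?_⟩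
      rw [← h4, ← Finset.add_sum_erase T _ hg, hg0, zero_smul, zero_add]
    push Not at hz
    by_cases hli : LinearIndependent ℤ (Subtype.val : T → Fin N → ℤ)
    · exact ⟨T, c, subset_rfl, hc, hli, rfl⟩
    obtain ⟨d, hd, g₁, hg₁⟩ : ∃ d : (Fin N → ℤ) → ℤ, ∑ g ∈ T, d g • g = 0 ∧ ∃ g ∈ T, 0 < d g := by
      obtain ⟨d, hd, i, hi⟩ := Fintype.not_linearIndependent_iff.mp hli
      let d' : (Fin N → ℤ) → ℤ := fun g => if h : g ∈ T then d ⟨g, h⟩ else 0
      have hd' : ∑ g ∈ T, d' g • g = 0 := by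
        rw [← Finset.sum_coe_sort, ← hd]
        exact Finset.sum_congr rfl fun g _ => by simp [d', g.2]
      rcases lt_or_gt_of_ne hi with h | h
      · exact ⟨fun g => - d' g, by simp only [neg_smul, Finset.sum_neg_distrib, hd', neg_zero], i.1, i.2, by simp [d', i.2, h]⟩
      · exact ⟨d', hd', i.1, i.2, by simp [d', i.2, h]⟩
    obtain ⟨g₀, hg₀, hmin⟩ := (T.filter fun g => 0 < d g).exists_min_image (fun g => c g / d g)
      ⟨g₁, Finset.mem_filter.mpr hg₁⟩
    obtain ⟨hg₀T, hg₀d⟩ := Finset.mem_filter.mp hg₀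
    set s := c g₀ / d g₀ with hs
    have hs0 : 0 ≤ s := div_nonneg (hc _) (by exact_mod_cast hg₀d.le)
    let c₁ : (Fin N → ℤ) → ℝ := fun g => if g ∈ T then c g - s * d g else 0
    have hc₁ : ∀ g, 0 ≤ c₁ g := fun g => by
      simp only [c₁]
      split_ifs with hg
      · rcases le_or_gt (d g) 0 with h | h
        · have : (d g : ℝ) ≤ 0 := by exact_mod_cast h
          nlinarith [hc g, mul_nonpos_of_nonneg_of_nonpos hs0 this]
        · have := hmin g (Finset.mem_filter.mpr ⟨hg, h⟩)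
          rw [le_div_iff₀ (by exact_mod_cast h)] at this
          linarith
      · exact le_rfl
    obtain ⟨S, c', h1, h2, h3, h4⟩ := ih (T.erase g₀) (Finset.erase_ssubset hg₀T) c₁ hc₁
    refine ⟨S, c', h1.trans (Finset.erase_subset _ _), h2, h3, ?_⟩
    rw [← h4]
    have hc₀ : c₁ g₀ = 0 := by
      simp only [c₁, if_pos hg₀T, hs]
      rw [div_mul_cancel₀ _ (by exact_mod_cast hg₀d.ne'), sub_self]
    have e : ∑ g ∈ T.erase g₀, c₁ g • (fun j => (g j : ℝ)) = ∑ g ∈ T, c₁ g • (fun j => (g j : ℝ)) := by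
      rw [← Finset.add_sum_erase T _ hg₀T, hc₀, zero_smul, zero_add]
    rw [e]
    funext j
    have hdj : ∑ g ∈ T, (d g : ℝ) * (g j : ℝ) = 0 := by
      have := congrArg (Int.cast : ℤ → ℝ) (congrFun hd j)
      simpa [Finset.sum_apply] using this
    simp only [Finset.sum_apply, Pi.smul_apply, smul_eq_mul]
    calc ∑ g ∈ T, c g * (g j : ℝ) = ∑ g ∈ T, c g * (g j : ℝ) - s * ∑ g ∈ T, (d g : ℝ) * (g j : ℝ) := by
          rw [hdj, mul_zero, sub_zero]
      _ = ∑ g ∈ T, c₁ g * (g j : ℝ) := by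
          rw [Finset.mul_sum, ← Finset.sum_sub_distrib]
          exact Finset.sum_congr rfl fun g hg => by simp only [c₁, if_pos hg]; ring

abbrev NZ (N : ℕ) : Type := {v : Fin N → ℝ // v ≠ 0}

theorem rays_eq {N : ℕ} (v w : NZ N) (c : ℝ) (hc : 0 < c) (h : w.1 = c • v.1) :
    (Quot.mk _ v : Fan.Rays N) = Quot.mk _ w := Quot.sound ⟨c, hc, h⟩

theorem rays_exact {N : ℕ} {v w : NZ N} (h : (Quot.mk _ v : Fan.Rays N) = Quot.mk _ w) :
    ∃ c : ℝ, 0 < c ∧ w.1 = c • v.1 := by
  have h' := Quot.eqvGen_exact h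
  clear h
  induction h' with
  | rel x y hxy => exact hxy
  | refl x => exact ⟨1, one_pos, (one_smul _ _).symm⟩
  | symm x y _ ih =>
    obtain ⟨c, hc, h⟩ := ih
    exact ⟨c⁻¹, inv_pos.mpr hc, by rw [h, inv_smul_smul₀ hc.ne']⟩
  | trans x y z _ _ ih₁ ih₂ =>
    obtain ⟨a, ha, h⟩ := ih₁
    obtain ⟨b, hb, h'⟩ := ih₂
    exact ⟨b * a, mul_pos hb ha, by rw [h', h, mul_smul]⟩

instance t2_rays (N : ℕ) : T2Space (Fan.Rays N) := by
  let f : Fan.Rays N → (Fin N → ℝ) := Quot.lift (fun v : NZ N => ‖v.1‖⁻¹ • v.1) (by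
    rintro v w ⟨c, hc, h⟩
    show ‖v.1‖⁻¹ • v.1 = ‖w.1‖⁻¹ • w.1
    rw [h, norm_smul, Real.norm_of_nonneg hc.le, smul_smul, mul_inv, mul_comm _ c, ← mul_assoc,
      mul_inv_cancel₀ hc.ne', one_mul])
  refine T2Space.of_injective_continuous (f := f) ?_ (continuous_quot_lift _ ?_)
  · intro a b h
    induction a using Quot.inductionOn with
    | h v =>
      induction b using Quot.inductionOn with
      | h w =>
        have h' : ‖v.1‖⁻¹ • v.1 = ‖w.1‖⁻¹ • w.1 := h
        refine rays_eq v w (‖w.1‖ * ‖v.1‖⁻¹) (mul_pos (norm_pos_iff.mpr w.2) (inv_pos.mpr (norm_pos_iff.mpr v.2))) ?_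
        rw [mul_smul, h', smul_inv_smul₀ (norm_ne_zero_iff.mpr w.2)]
  · exact (Continuous.inv₀ continuous_subtype_val.norm fun v => norm_ne_zero_iff.mpr v.2).smul continuous_subtype_val

theorem isClosed_cone {N : ℕ} (T : Finset (Fin N → ℤ)) :
    IsClosed {x : Fin N → ℝ | ∃ c : (Fin N → ℤ) → ℝ, (∀ g, 0 ≤ c g) ∧
      x = ∑ g ∈ T, c g • fun j => (g j : ℝ)} := by
  classical
  let L : ∀ S : Finset (Fin N → ℤ), (Fin S.card → ℤ) →ₗ[ℤ] (Fin N → ℤ) := fun S =>
    Fintype.linearCombination ℤ fun q => (S.equivFin.symm q).1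
  have hL : ∀ S (c : (Fin N → ℤ) → ℝ), toR (L S) (fun q => c (S.equivFin.symm q).1) = ∑ g ∈ S, c g • fun j => (g j : ℝ) := by
    intro S c
    funext j
    rw [Finset.sum_apply, ← Finset.sum_coe_sort S, ← S.equivFin.symm.sum_comp]
    show ∑ q, (L S (Pi.single q 1) j : ℝ) * c (S.equivFin.symm q).1 = _
    refine Finset.sum_congr rfl fun q _ => ?_
    · simp only [L, Fintype.linearCombination_apply_single, one_smul, Pi.smul_apply, smul_eq_mul]
      simp [mul_comm]
  let A := T.powerset.filter fun S : Finset (Fin N → ℤ) => LinearIndependent ℤ (Subtype.val : S → Fin N → ℤ)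
  have h : {x : Fin N → ℝ | ∃ c : (Fin N → ℤ) → ℝ, (∀ g, 0 ≤ c g) ∧ x = ∑ g ∈ T, c g • fun j => (g j : ℝ)} =
      ⋃ S ∈ A, toR (L S) '' {u | ∀ q, 0 ≤ u q} := by
    ext x
    simp only [Set.mem_setOf_eq, Set.mem_iUnion, Set.mem_image]
    constructor
    · rintro ⟨c, hc, rfl⟩
      obtain ⟨S, c', h1, h2, h3, h4⟩ := exists_indep_comb T c hc
      exact ⟨S, Finset.mem_filter.mpr ⟨Finset.mem_powerset.mpr h1, h3⟩, fun q => c' (S.equivFin.symm q).1,
        fun q => h2 _, (hL S c').trans h4.symm⟩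
    · rintro ⟨S, hS, u, hu, rfl⟩
      refine ⟨fun g => if h : g ∈ S then u (S.equivFin ⟨g, h⟩) else 0, fun g => ?_, ?_⟩
      · dsimp only
        split_ifs
        · exact hu _
        · exact le_rfl
      · rw [← Finset.sum_subset (Finset.mem_powerset.mp (Finset.mem_filter.mp hS).1) fun g _ hg => by simp [hg], ← hL]
        congr 1
        funext q
        simp
  rw [h]
  refine A.finite_toSet.isClosed_biUnion fun S hS => ?_
  have hi : Function.Injective (L S) := linearIndependent_iff_injective_fintypeLinearCombination.mp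
    ((Finset.mem_filter.mp hS).2.comp S.equivFin.symm S.equivFin.symm.injective)
  refine (LinearMap.isClosedEmbedding_of_injective (LinearMap.ker_eq_bot.mpr (toR_injective hi))).isClosedMap _ ?_
  simp only [Set.setOf_forall]
  exact isClosed_iInter fun q => isClosed_le continuous_const (continuous_apply q)

theorem toVec_ne {N : ℕ} {ι : Type} (K : ι → Set (Fin N → ℝ)) {n : ICone} (φ : RFan.Cone K n) (v : Fan.Orth n) :
    RFan.toVec K n φ v.1 ≠ 0 :=
  fun h => v.2.2 (toR_injective φ.2.1 ((show toR φ.1 v.1 = 0 from h).trans (map_zero (toR φ.1)).symm))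

/-- Let K a ⊆ ℝ^N, for a in a finite index type, be cones, each expressible as finitely many rational
polyhedral cones put together (nonnegative real spans of finite sets of integer vectors). Then the
canonical map from the projective realization of the formal fan R(K) to the space of rays of ℝ^N (a
model of the sphere), sending the point given by a cone φ and a vector v to the ray of φ v, is a
homeomorphism onto the rays through ⋃ K a: it is a topological embedding with that image. (The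
published lemma also asserts that the affine realization of R(K), defined as a colimit over the
category of cones of R(K), maps homeomorphically onto ⋃ K a; that fails at the cone point, since for
the pair of coordinate rays of ℝ^2 the colimit has two origins and for ⋃ K a = 0 it is empty, and it
is not stated here.) -/
theorem result {N : ℕ} {ι : Type} [Finite ι] (K : ι → Set (Fin N → ℝ))
    (hK : ∀ a, ∃ (m : ℕ) (gen : Fin m → Finset (Fin N → ℤ)),
      K a = Set.iUnion fun l => {x | ∃ c : (Fin N → ℤ) → ℝ, (∀ g, 0 ≤ c g) ∧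
        x = Finset.sum (gen l) fun g => c g • fun j => (g j : ℝ)}) :
    ∃ g : Fan.P (RFan K) → Fan.Rays N,
      (∀ (n : ICone) (φ : (RFan K).obj (op n)) (v : Fan.Orth n) (h : RFan.toVec K n φ v.1 ≠ 0),
        g (Fan.P.mk φ v) = Quot.mk _ ⟨RFan.toVec K n φ v.1, h⟩) ∧
      Topology.IsEmbedding g ∧
      Set.range g = {r | ∃ w : {w : Fin N → ℝ // w ≠ 0}, r = Quot.mk _ w ∧ w.1 ∈ Set.iUnion K} := by
  classical
  let γ : Fan.Pt (RFan K) → Fan.Rays N := fun p => Quot.mk _ ⟨RFan.toVec K p.1.1 p.1.2 p.2.1, toVec_ne K p.1.2 p.2⟩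
  let g : Fan.P (RFan K) → Fan.Rays N := Quot.lift γ (by
    rintro _ _ ⟨φ, ξ, v, w, c, hc, h⟩
    refine rays_eq _ _ c hc ?_
    show toR ξ.1 w.1 = c • toR (ξ.1.comp φ.toLin) v.1
    rw [h, map_smul, toR_comp]
    rfl)
  have hg : ∀ (n : ICone) (φ : (RFan K).obj (op n)) (v : Fan.Orth n),
      g (Fan.P.mk φ v) = Quot.mk _ ⟨RFan.toVec K n φ v.1, toVec_ne K φ v⟩ := fun n φ v => rfl
  have hinj : Function.Injective g := by
    intro x y h
    obtain ⟨n, φ, v, rfl⟩ := mk_surjective x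
    obtain ⟨n', φ', v', rfl⟩ := mk_surjective y
    obtain ⟨c, hc, hcv⟩ := rays_exact h
    obtain ⟨l, ψ, ψ', z, e, h1, h2⟩ := exists_common_refinement' φ'.1 φ.1 φ'.2.1 φ.2.1 v' v c hc hcv
    symm
    rw [← mk_glue ψ φ' z v' 1 one_pos (by rw [one_smul, h1]),
      ← mk_glue ψ' φ z v c⁻¹ (inv_pos.mpr hc) (by rw [h2, inv_smul_smul₀ hc.ne'])]
    exact congrArg (fun a => Fan.P.mk (F := RFan K) a z) (Subtype.ext e)
  choose m gen hgen using hK
  let Idx := Σ a, Σ l : Fin (m a), {S : Finset (Fin N → ℤ) //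
    S ∈ (gen a l).powerset ∧ LinearIndependent ℤ (Subtype.val : S → Fin N → ℤ) ∧ S.Nonempty}
  haveI : ∀ a (l : Fin (m a)), Finite {S : Finset (Fin N → ℤ) //
      S ∈ (gen a l).powerset ∧ LinearIndependent ℤ (Subtype.val : S → Fin N → ℤ) ∧ S.Nonempty} := fun a l =>
    Finite.of_injective (fun S => (⟨S.1, S.2.1⟩ : (gen a l).powerset)) fun x y h => Subtype.ext (congrArg (fun t => t.1) h)
  haveI : Finite Idx := inferInstance
  have hcone : ∀ i : Idx, ∃ (k : ICone) (φ : (RFan K).obj (op k)),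
      ∀ (c : (Fin N → ℤ) → ℝ), (∀ g, 0 ≤ c g) → ∑ g ∈ i.2.2.1, c g • (fun j => (g j : ℝ)) ≠ 0 →
        ∃ v : Fan.Orth k, RFan.toVec K k φ v.1 = ∑ g ∈ i.2.2.1, c g • (fun j => (g j : ℝ)) := by
    rintro ⟨a, l, S, hS, hli, hne⟩
    let k : ICone := ⟨⟨S.card, Finset.card_pos.mpr hne⟩⟩
    let e : Fin S.card ≃ S := S.equivFin.symm
    let L : (Fin S.card → ℤ) →ₗ[ℤ] (Fin N → ℤ) := Fintype.linearCombination ℤ fun q => (e q).1
    have hL : Function.Injective L :=
      linearIndependent_iff_injective_fintypeLinearCombination.mp (hli.comp e e.injective)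
    have hLv : ∀ (v : Fin S.card → ℤ) j, (L v j : ℝ) = ∑ q, (v q : ℝ) * ((e q).1 j : ℝ) := fun v j => by
      simp [L, Fintype.linearCombination_apply, Finset.sum_apply]
    refine ⟨k, ⟨L, hL, a, fun v hv => ?_⟩, fun c hc hc0 => ?_⟩
    · rw [hgen a]
      refine Set.mem_iUnion.mpr ⟨l, fun g => if h : g ∈ S then (v (e.symm ⟨g, h⟩) : ℝ) else 0, fun g => ?_, ?_⟩
      · dsimp only
        split_ifs with h
        · exact Int.cast_nonneg (hv _)
        · exact le_rfl
      · funext j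
        show (L v j : ℝ) = _
        rw [hLv, Finset.sum_apply, ← Finset.sum_subset (Finset.mem_powerset.mp hS) fun g _ hg => by simp [hg],
          ← Finset.sum_coe_sort S, ← e.sum_comp]
        exact Finset.sum_congr rfl fun q _ => by simp [(e q).2]
    · have e1 : ∀ q j, (L (Pi.single q 1) j : ℝ) = ((e q).1 j : ℝ) := fun q j => by
        simp [L, Fintype.linearCombination_apply_single]
      have hv : (fun j => ∑ q, (L (Pi.single q 1) j : ℝ) * c (e q).1) = ∑ g ∈ S, c g • (fun j => (g j : ℝ)) := by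
        funext j
        rw [Finset.sum_apply, ← Finset.sum_coe_sort S, ← e.sum_comp]
        exact Finset.sum_congr rfl fun q _ => by rw [e1, mul_comm]; rfl
      exact ⟨⟨fun q => c (e q).1, fun q => hc _, fun h => hc0 (by
        rw [← hv]; funext j; exact Finset.sum_eq_zero fun q _ => by simp [show c (e q).1 = 0 from congrFun h q])⟩, hv⟩
  choose k φ hφ using hcone
  have hrep : ∀ w : NZ N, w.1 ∈ Set.iUnion K → ∃ (i : Idx) (v : Fan.Orth (k i)), g (Fan.P.mk (φ i) v) = Quot.mk _ w := by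
    intro w hw
    obtain ⟨a, ha⟩ := Set.mem_iUnion.mp hw
    rw [hgen a] at ha
    obtain ⟨l, c, hc, hwc⟩ := Set.mem_iUnion.mp ha
    obtain ⟨S, c', hS, hc', hli, he⟩ := exists_indep_comb (gen a l) c hc
    have hne : S.Nonempty := Finset.nonempty_iff_ne_empty.mpr fun h => w.2 (by rw [hwc, he, h, Finset.sum_empty])
    obtain ⟨v, hv⟩ := hφ ⟨a, l, S, Finset.mem_powerset.mpr hS, hli, hne⟩ c' hc' (by rw [← he, ← hwc]; exact w.2)
    refine ⟨_, v, ?_⟩
    rw [hg]
    exact congrArg (Quot.mk _) (Subtype.ext (hv.trans (he.symm.trans hwc.symm)))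
  have hmem : ∀ x, ∃ w : NZ N, g x = Quot.mk _ w ∧ w.1 ∈ Set.iUnion K := fun x => by
    obtain ⟨n, ψ, v, rfl⟩ := mk_surjective x
    refine ⟨⟨_, toVec_ne K ψ v⟩, hg n ψ v, ?_⟩
    obtain ⟨a, ha⟩ := ψ.2.2
    refine Set.mem_iUnion.mpr ⟨a, ?_⟩
    -- the closed cone `K a` contains the real orthant
    have hclosed : IsClosed {u : Fan.Orth n | RFan.toVec K n ψ u.1 ∈ K a} ∧
        ∀ (u u' : Fan.Orth n) (t : ℝ), 0 ≤ t → u'.1 = t • u.1 → RFan.toVec K n ψ u.1 ∈ K a → RFan.toVec K n ψ u'.1 ∈ K a := by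
      rw [hgen a]
      refine ⟨?_, fun u u' t ht h hu => ?_⟩
      · have hK' : IsClosed (Set.iUnion fun l => {x | ∃ c : (Fin N → ℤ) → ℝ, (∀ g, 0 ≤ c g) ∧
            x = Finset.sum (gen a l) fun g => c g • fun j => (g j : ℝ)}) := by
          exact isClosed_iUnion_of_finite fun l => isClosed_cone (gen a l)
        exact hK'.preimage ((toR ψ.1).continuous_of_finiteDimensional.comp continuous_subtype_val)
      · obtain ⟨l, c, hc, hcu⟩ := Set.mem_iUnion.mp hu
        refine Set.mem_iUnion.mpr ⟨l, fun g => t * c g, fun g => mul_nonneg ht (hc g), ?_⟩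
        show toR ψ.1 u'.1 = _
        rw [h, map_smul, show toR ψ.1 u.1 = _ from hcu, Finset.smul_sum]
        exact Finset.sum_congr rfl fun g _ => smul_smul t (c g) _
    refine (hclosed.1.closure_subset_iff.mpr ?_) (dense_rational n v)
    rintro u ⟨χ, t, ht, hu⟩
    refine hclosed.2 ⟨χ.realMap (Fan.Orth.ones Fan.one).1, (push χ _).2⟩ u t ht.le hu ?_
    have h1 := ha (χ.toLin fun _ => 1) (χ.nonneg _ fun _ => zero_le_one)
    show toR ψ.1 (toR χ.toLin fun _ => ((1 : ℤ) : ℝ)) ∈ K a |> fun p => RFan.toVec K n ψ (χ.realMap (Fan.Orth.ones Fan.one).1) ∈ K a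
    have h2 : χ.realMap (Fan.Orth.ones Fan.one).1 = fun i => (χ.toLin (fun _ => 1) i : ℝ) := by
      rw [← toR_int]; simp [Fan.Orth.ones, realMap_eq]
    show toR ψ.1 (χ.realMap (Fan.Orth.ones Fan.one).1) ∈ K a
    rw [h2, toR_int]
    exact h1
  refine ⟨g, fun n φ v h => hg n φ v, ?_, Set.ext fun r => ⟨?_, ?_⟩⟩
  · haveI : CompactSpace (Fan.P (RFan K)) := by
      have hc : ∀ i : Idx, IsCompact (Fan.P.mk (φ i) '' {v : Fan.Orth (k i) | ∑ q, v.1 q = 1}) := fun i => by
        refine IsCompact.image ?_ (continuous_mk _)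
        rw [Topology.IsInducing.subtypeVal.isCompact_iff]
        convert isCompact_stdSimplex ℝ (Fin (k i).dim) using 1
        ext x
        constructor
        · rintro ⟨v, hv, rfl⟩; exact ⟨v.2.1, hv⟩
        · exact fun hx => ⟨⟨x, hx.1, fun h => by have := hx.2; simp [h] at this⟩, hx.2, rfl⟩
      refine ⟨?_⟩
      convert isCompact_iUnion hc
      refine (Set.eq_univ_of_forall fun x => ?_).symm
      obtain ⟨w, hw, hwK⟩ := hmem x
      obtain ⟨i, v, hv⟩ := hrep w hwK
      have hs : 0 < ∑ q, v.1 q := lt_of_le_of_ne (Finset.sum_nonneg fun q _ => v.2.1 q) fun h => v.2.2 (funext fun q =>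
        (Finset.sum_eq_zero_iff_of_nonneg fun q _ => v.2.1 q).mp h.symm q (Finset.mem_univ q))
      refine Set.mem_iUnion.mpr ⟨i, scale v (inv_pos.mpr hs), ?_, hinj ?_⟩
      · show ∑ q, (∑ r, v.1 r)⁻¹ * v.1 q = 1
        rw [← Finset.mul_sum, inv_mul_cancel₀ hs.ne']
      · rw [← mk_smul (φ i) v _ _ (inv_pos.mpr hs) rfl, hv, hw]
    have hcont : Continuous g := by
      refine continuous_quot_lift _ (continuous_sigma fun e => ?_)
      exact continuous_quot_mk.comp (Continuous.subtype_mk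
        ((toR e.2.1).continuous_of_finiteDimensional.comp continuous_subtype_val) _)
    exact (hcont.isClosedEmbedding hinj).isEmbedding
  · rintro ⟨x, rfl⟩
    exact hmem x
  · rintro ⟨w, rfl, hw⟩
    obtain ⟨i, v, hv⟩ := hrep w hw
    exact ⟨Fan.P.mk (φ i) v, hv⟩

end Groth.Agent.S19372
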