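import Groth.Statements.S19374
import Groth.Agent.FanLib.Closed
import Mathlib

set_option autoImplicit false
universe u
open CategoryTheory Opposite Instab
open Instab Instab.Fan

namespace Groth.Agent.S19374

set_option backward.isDefEq.respectTransparency false
set_option backward.isDefEq.respectTransparency.types false

open Groth.Agent.FanLib

/-- Let F be a formal fan and U ⊆ P F. Then U is locally convex in the simplex-wise sense — for every
rational simplex, a ray lying strictly between two rays that map into U also maps into U — if and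
only if, for every n-cone ξ of F, the set of nonzero nonnegative vectors v of ℝ^n whose point of the
rational simplex of ξ lies in U is a convex subset of ℝ^n (convexity of the preimage of U in each
punctured cone of the affine realization). -/
theorem result (F : Fan.{u}) (U : Set (Fan.P F)) :
    Fan.IsLocallyConvex U ↔
      ∀ (n : ICone) (ξ : F.obj (op n)),
        Convex ℝ {v : Fin n.dim → ℝ | ∃ h : (∀ i, 0 ≤ v i) ∧ v ≠ 0, Fan.P.mk ξ (⟨v, h⟩ : Fan.Orth n) ∈ U} := by
  constructor
  · intro h n ξ v ⟨hv, hvU⟩ w ⟨hw, hwU⟩ a b ha hb hab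
    rcases ha.eq_or_lt with rfl | ha
    · rw [zero_add] at hab; subst hab; simp; exact ⟨hw, hwU⟩
    rcases hb.eq_or_lt with rfl | hb
    · rw [add_zero] at hab; subst hab; simp; exact ⟨hv, hvU⟩
    have hne : a • v + b • w ≠ 0 := fun h0 => hv.2 (funext fun i => by
      have := congrFun h0 i
      simp only [Pi.add_apply, Pi.smul_apply, smul_eq_mul, Pi.zero_apply] at this ⊢
      have h1 : a * v i = 0 := by linarith [mul_nonneg ha.le (hv.1 i), mul_nonneg hb.le (hw.1 i)]
      exact (mul_eq_zero.mp h1).resolve_left ha.ne')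
    exact ⟨⟨fun i => add_nonneg (mul_nonneg ha.le (hv.1 i)) (mul_nonneg hb.le (hw.1 i)), hne⟩,
      h n ξ ⟨v, hv⟩ _ ⟨w, hw⟩ hvU hwU ⟨a, b, ha, hb, rfl⟩⟩
  · rintro h n ξ v₀ v₁ v₂ h0 h2 ⟨a, b, ha, hb, he⟩
    have hab : 0 < a + b := add_pos ha hb
    obtain ⟨hu, huU⟩ := h n ξ ⟨v₀.2, h0⟩ ⟨v₂.2, h2⟩ (le_of_lt (div_pos ha hab)) (le_of_lt (div_pos hb hab))
      (by rw [← add_div, div_self hab.ne'])
    rw [mk_smul ξ v₁ ⟨_, hu⟩ (a + b)⁻¹ (inv_pos.mpr hab) (by
      show (a / (a + b)) • v₀.1 + (b / (a + b)) • v₂.1 = _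
      rw [he, smul_add, smul_smul, smul_smul, div_eq_inv_mul, div_eq_inv_mul])]
    exact huU

end Groth.Agent.S19374
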