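import Groth.Statements.S19378
import Groth.Agent.NormalTensor.Hom
import Groth.Agent.RegLocal.Completion
-- import your own Groth.Agent.* helpers here

set_option autoImplicit false
universe u
open EGA4

namespace Groth.Agent.S19378

open TensorProduct

theorem exists_faithfullyFlat (A : Type u) [CommRing A] [IsNoetherianRing A] (J : Ideal A)
    (hf : EGA4.IsNormalHom A (AdicCompletion J A))
    (T : Submonoid A) (hT : T = MonoidHom.mker (Ideal.Quotient.mk J)) :
    ∃ (g : Localization T →+* AdicCompletion J A), g.comp (algebraMap A (Localization T)) = algebraMap A _ ∧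
      @Module.FaithfullyFlat (Localization T) (AdicCompletion J A) _ _ g.toAlgebra.toModule := by
  let B := AdicCompletion J A
  have fg : J.FG := J.fg_of_isNoetherianRing
  haveI : IsAdicComplete (J.map (algebraMap A B)) B :=
    (IsAdicComplete.map_algebraMap_iff _ _).mpr (AdicCompletion.isAdicComplete fg)
  have hu : ∀ t : T, IsUnit (algebraMap A B t) := by
    rintro ⟨t, ht⟩
    subst hT
    have h1 : t - 1 ∈ J := Ideal.Quotient.eq.mp (by rw [map_one]; exact ht)
    have h2 := Ideal.mem_jacobson_bot.mp (IsAdicComplete.le_jacobson_bot (J.map (algebraMap A B))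
      (Ideal.mem_map_of_mem (algebraMap A B) h1)) 1
    simpa [map_sub] using h2
  letI : Algebra (Localization T) B := (IsLocalization.lift hu).toAlgebra
  haveI : IsScalarTower A (Localization T) B := IsScalarTower.of_algebraMap_eq fun a =>
    (IsLocalization.lift_eq hu a).symm
  haveI : Module.Flat A B := hf.1
  haveI : Module.Flat (Localization T) B :=
    (Module.flat_iff_of_isLocalization (Localization T) T B).mpr inferInstance
  haveI : Module.FaithfullyFlat (Localization T) B := ⟨fun m' hm' => by
    let p := m'.under A
    have hp : p.IsPrime := inferInstance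
    have hpJ : p ⊔ J ≠ ⊤ := fun h => by
      obtain ⟨a, ha, j, hj, haj⟩ := Submodule.mem_sup.mp (h ▸ Submodule.mem_top : (1 : A) ∈ p ⊔ J)
      have haT : a ∈ T := by
        rw [hT, MonoidHom.mem_mker]
        refine (Ideal.Quotient.mk J).map_one ▸ Ideal.Quotient.eq.mpr ?_
        rw [← haj]
        simpa using J.neg_mem hj
      exact hm'.ne_top (Ideal.eq_top_of_isUnit_mem _ ha (IsLocalization.map_units _ (⟨a, haT⟩ : T)))
    obtain ⟨m, hm, hle⟩ := Ideal.exists_le_maximal _ hpJ
    have hdis : Disjoint (T : Set A) (m : Set A) := by
      rw [Set.disjoint_left]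
      intro t ht htm
      rw [hT] at ht
      have h1 : t - 1 ∈ J := Ideal.Quotient.eq.mp (by rw [map_one]; exact ht)
      exact hm.ne_top ((Ideal.eq_top_iff_one m).mpr (by
        simpa using m.sub_mem htm (hle (Ideal.mem_sup_right h1))))
    have heq : m' = m.map (algebraMap A (Localization T)) := by
      refine hm'.eq_of_le (IsLocalization.isPrime_of_isPrime_disjoint T _ m hm.isPrime hdis).ne_top ?_
      rw [← IsLocalization.map_under T (Localization T) m']
      exact Ideal.map_mono (le_sup_left.trans hle)
    haveI := hm
    rw [Ideal.smul_top_eq_map, heq, Ideal.map_map, ← IsScalarTower.algebraMap_eq]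
    intro htop
    rw [Submodule.restrictScalars_eq_top_iff] at htop
    exact (AdicCompletion.isMaximal_map_of_le J m (le_sup_right.trans hle) fg).ne_top htop⟩
  exact ⟨IsLocalization.lift hu, IsLocalization.lift_comp hu, inferInstance⟩

theorem exists_injective_hom (A : Type u) [CommRing A] [IsNoetherianRing A] (J : Ideal A)
    (hf : EGA4.IsNormalHom A (AdicCompletion J A))
    (T : Submonoid A) (hT : T = MonoidHom.mker (Ideal.Quotient.mk J)) :
    ∃ (g : Localization T →+* AdicCompletion J A), Function.Injective g := by
  obtain ⟨g, -, hg⟩ := exists_faithfullyFlat A J hf T hT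
  letI := g.toAlgebra
  haveI := hg
  exact ⟨g, FaithfulSMul.algebraMap_injective (Localization T) (AdicCompletion J A)⟩


/-- Let A be a Noetherian ring, J a proper ideal of A, Â the J-adic completion and A_T the localization
of A at T = 1 + J. If the canonical map A → Â is a normal homomorphism (flat with geometrically
normal fibres), then A_T is a normal ring (all local rings integrally closed domains) if and only if
Â is. (The case of the henselization of the pair and of the weak completion is not stated here.) -/
theorem result
    (A : Type u) [CommRing A] [IsNoetherianRing A] (J : Ideal A) (hJ : J ≠ ⊤)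
    (hf : EGA4.IsNormalHom A (AdicCompletion J A))
    (T : Submonoid A) (hT : T = MonoidHom.mker (Ideal.Quotient.mk J)) :
    EGA4.IsNormalRing (Localization T) ↔ EGA4.IsNormalRing (AdicCompletion J A) := by
  let B := AdicCompletion J A
  have fg : J.FG := J.fg_of_isNoetherianRing
  haveI : IsAdicComplete (J.map (algebraMap A B)) B :=
    (IsAdicComplete.map_algebraMap_iff _ _).mpr (AdicCompletion.isAdicComplete fg)
  have hu : ∀ t : T, IsUnit (algebraMap A B t) := by
    rintro ⟨t, ht⟩
    subst hT
    have h1 : t - 1 ∈ J := Ideal.Quotient.eq.mp (by rw [map_one]; exact ht)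
    have h2 := Ideal.mem_jacobson_bot.mp (IsAdicComplete.le_jacobson_bot (J.map (algebraMap A B))
      (Ideal.mem_map_of_mem (algebraMap A B) h1)) 1
    simpa [map_sub] using h2
  letI : Algebra (Localization T) B := (IsLocalization.lift hu).toAlgebra
  haveI : IsScalarTower A (Localization T) B := IsScalarTower.of_algebraMap_eq fun a =>
    (IsLocalization.lift_eq hu a).symm
  haveI : Module.Flat A B := hf.1
  haveI : Module.Flat (Localization T) B :=
    (Module.flat_iff_of_isLocalization (Localization T) T B).mpr inferInstance
  haveI : Module.FaithfullyFlat (Localization T) B := ⟨fun m' hm' => by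
    let p := m'.under A
    have hp : p.IsPrime := inferInstance
    have hpJ : p ⊔ J ≠ ⊤ := fun h => by
      obtain ⟨a, ha, j, hj, haj⟩ := Submodule.mem_sup.mp (h ▸ Submodule.mem_top : (1 : A) ∈ p ⊔ J)
      have haT : a ∈ T := by
        rw [hT, MonoidHom.mem_mker]
        refine (Ideal.Quotient.mk J).map_one ▸ Ideal.Quotient.eq.mpr ?_
        rw [← haj]
        simpa using J.neg_mem hj
      exact hm'.ne_top (Ideal.eq_top_of_isUnit_mem _ ha (IsLocalization.map_units _ (⟨a, haT⟩ : T)))
    obtain ⟨m, hm, hle⟩ := Ideal.exists_le_maximal _ hpJ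
    have hdis : Disjoint (T : Set A) (m : Set A) := by
      rw [Set.disjoint_left]
      intro t ht htm
      rw [hT] at ht
      have h1 : t - 1 ∈ J := Ideal.Quotient.eq.mp (by rw [map_one]; exact ht)
      exact hm.ne_top ((Ideal.eq_top_iff_one m).mpr (by
        simpa using m.sub_mem htm (hle (Ideal.mem_sup_right h1))))
    have heq : m' = m.map (algebraMap A (Localization T)) := by
      refine hm'.eq_of_le (IsLocalization.isPrime_of_isPrime_disjoint T _ m hm.isPrime hdis).ne_top ?_
      rw [← IsLocalization.map_under T (Localization T) m']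
      exact Ideal.map_mono (le_sup_left.trans hle)
    haveI := hm
    rw [Ideal.smul_top_eq_map, heq, Ideal.map_map, ← IsScalarTower.algebraMap_eq]
    intro htop
    rw [Submodule.restrictScalars_eq_top_iff] at htop
    exact (AdicCompletion.isMaximal_map_of_le J m (le_sup_right.trans hle) fg).ne_top htop⟩
  haveI : IsNoetherianRing (Localization T) := IsLocalization.isNoetherianRing T _ inferInstance
  haveI : IsNoetherianRing B := Groth.Agent.RegLocal.isNoetherianRing_completion A J
  refine ⟨fun h => ?_, fun h => Groth.Agent.NormalTensor.isNormalRing_of_faithfullyFlat (Localization T) B h⟩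
  have h1 := Groth.Agent.NormalTensor.isNormalRing_tensor_of_fieldNormal A B (Groth.Agent.NormalTensor.fieldNormal_of_isNormalHom hf) (Localization T) h
  letI : Algebra (B ⊗[A] A) (B ⊗[A] Localization T) :=
    (Algebra.TensorProduct.map (AlgHom.id A B) (IsScalarTower.toAlgHom A A (Localization T))).toRingHom.toAlgebra
  haveI := Groth.Agent.NormalTensor.isLocalization_tensor A B A (Localization T) T
  let e : (B ⊗[A] A) ≃ₐ[B ⊗[A] A] (B ⊗[A] Localization T) :=
    IsLocalization.atUnits (B ⊗[A] A) (T.map (Algebra.TensorProduct.includeRight (R := A) (A := B))) (by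
      rintro _ ⟨t, ht, rfl⟩
      have : (Algebra.TensorProduct.includeRight (R := A) (A := B) (B := A)) t = algebraMap A B t ⊗ₜ 1 := by
        rw [Algebra.TensorProduct.includeRight_apply, Algebra.algebraMap_eq_smul_one (A := B),
          TensorProduct.smul_tmul, smul_eq_mul, mul_one]
      show IsUnit _
      rw [this]
      exact (hu ⟨t, ht⟩).map (Algebra.TensorProduct.includeLeftRingHom (R := A) (A := B) (B := A)))
  exact Groth.Agent.NormalTensor.isNormalRing_of_ringEquiv ((e.toRingEquiv.symm).trans (Algebra.TensorProduct.rid A A B).toRingEquiv) h1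

end Groth.Agent.S19378
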