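import Groth.Statements.S19375
import Groth.Agent.S19378
-- import your own Groth.Agent.* helpers here

set_option autoImplicit false
universe u
open EGA4

namespace Groth.Agent.S19375

/-- Let A be a Noetherian ring, J a proper ideal of A, Â the J-adic completion of A and A_T the
localization of A at the multiplicative set T = 1 + J (the elements congruent to 1 modulo J). Assume
that the canonical map A → Â is a normal homomorphism (flat, with geometrically normal fibres), as
happens when A is excellent. Then Â is an integrally closed domain if and only if A_T is an
integrally closed domain and the spectrum of A/J is connected. (The published statement asserts the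
equivalence of the first two conditions alone; for A = ℤ and J = 6ℤ the localization A_T is an
integrally closed domain while Â ≅ ℤ_2 × ℤ_3 is not a domain, and the published proof tacitly uses
that Spec Â, whose connected components correspond to those of Spec(A/J), is connected. The case of
the henselization of the pair and of the weak completion is not stated here.) -/
theorem result
    (A : Type u) [CommRing A] [IsNoetherianRing A] (J : Ideal A) (hJ : J ≠ ⊤)
    (hf : EGA4.IsNormalHom A (AdicCompletion J A))
    (T : Submonoid A) (hT : T = MonoidHom.mker (Ideal.Quotient.mk J)) :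
    (IsDomain (AdicCompletion J A) ∧ IsIntegrallyClosed (AdicCompletion J A)) ↔
      ((IsDomain (Localization T) ∧ IsIntegrallyClosed (Localization T)) ∧
        ConnectedSpace (PrimeSpectrum (A ⧸ J))) := by
  let B := AdicCompletion J A
  have fg : J.FG := J.fg_of_isNoetherianRing
  haveI : IsAdicComplete (J.map (algebraMap A B)) B :=
    (IsAdicComplete.map_algebraMap_iff _ _).mpr (AdicCompletion.isAdicComplete fg)
  haveI : IsNoetherianRing B := Groth.Agent.RegLocal.isNoetherianRing_completion A J
  haveI : IsNoetherianRing (Localization T) := IsLocalization.isNoetherianRing T _ inferInstance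
  haveI : Nontrivial (A ⧸ J) := Ideal.Quotient.nontrivial_iff.mpr hJ
  have hiff := Groth.Agent.S19378.result A J hJ hf T hT
  have hsurj := AdicCompletion.evalOneₐ_surjective J
  let ev := (AdicCompletion.evalOneₐ J).toRingHom
  have hker : RingHom.ker ev = J.map (algebraMap A B) := AdicCompletion.ker_evalOneₐ_eq_map J fg
  constructor
  · rintro ⟨hd, hic⟩
    haveI := hd
    haveI := hic
    have hN := hiff.mpr (Groth.Agent.NormalTensor.isNormalRing_of_domain B)
    -- the localisation is a domain
    have hconn : ∀ e : A ⧸ J, IsIdempotentElem e → e = 0 ∨ e = 1 := by
      intro e he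
      obtain ⟨a, rfl⟩ := hsurj e
      obtain ⟨b, hb, hba⟩ := HenselianRing.is_henselian (I := J.map (algebraMap A B))
        (Polynomial.X * (Polynomial.X - Polynomial.C 1) : Polynomial B)
        (Polynomial.monic_X.mul (Polynomial.monic_X_sub_C 1)) a (by
          rw [← hker, RingHom.mem_ker]
          show ev _ = 0
          simp only [map_one, Polynomial.eval_one, Polynomial.eval_mul, Polynomial.eval_X, Polynomial.eval_sub, map_mul,
            map_sub, map_one]
          show ev a * (ev a - 1) = 0
          rw [mul_sub, mul_one, sub_eq_zero]
          exact he) (by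
          have h2 : Ideal.Quotient.mk (J.map (algebraMap A B)) (a * a) =
              Ideal.Quotient.mk (J.map (algebraMap A B)) a := by
            rw [Ideal.Quotient.eq, ← hker, RingHom.mem_ker, map_sub, map_mul, sub_eq_zero]
            exact he
          refine IsUnit.of_mul_eq_one (2 * Ideal.Quotient.mk _ a - 1) ?_
          simp only [map_mul] at h2
          simp only [map_one, Polynomial.derivative_one, Polynomial.derivative_mul, Polynomial.derivative_X, Polynomial.derivative_sub,
             Polynomial.eval_add, Polynomial.eval_mul, Polynomial.eval_one,
            Polynomial.eval_sub, Polynomial.eval_X, Polynomial.eval_zero, map_add,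
            map_mul, map_sub, map_one, map_zero]
          linear_combination 4 * h2)
      rw [← hker, RingHom.mem_ker, map_sub, sub_eq_zero] at hba
      simp only [Polynomial.IsRoot, map_one, Polynomial.eval_one, Polynomial.eval_mul, Polynomial.eval_X,
        Polynomial.eval_sub, mul_eq_zero, sub_eq_zero] at hb
      rcases hb with rfl | rfl
      · exact Or.inl (hba.symm.trans (map_zero _))
      · exact Or.inr (hba.symm.trans (map_one _))
    haveI hdT : IsDomain (Localization T) := by
      obtain ⟨g, hg⟩ := Groth.Agent.S19378.exists_injective_hom A J hf T hT
      exact hg.isDomain g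
    refine ⟨⟨hdT, Groth.Agent.NormalTensor.isIntegrallyClosed_of_isNormalRing hN⟩, ?_⟩
    refine connectedSpace_iff_clopen.mpr ⟨inferInstance, fun s hs => ?_⟩
    obtain ⟨e, he, rfl⟩ := PrimeSpectrum.isClopen_iff_zeroLocus.mp hs
    rcases hconn e he with rfl | rfl
    · exact Or.inr (by simp)
    · exact Or.inl (by simp)
  · rintro ⟨⟨hd, hic⟩, hconn⟩
    haveI := hd
    haveI := hic
    have hB : EGA4.IsNormalRing B := hiff.mp (Groth.Agent.NormalTensor.isNormalRing_of_domain (Localization T))
    haveI : Nontrivial B := ev.domain_nontrivial
    haveI hdB : IsDomain B := Groth.Agent.NormalTensor.isDomain_of_idempotent hB fun e he => by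
      have key : ∀ f : B, IsIdempotentElem f → ev f = 0 → f = 0 := fun f hf0 h0 => by
        have hfJ : f ∈ J.map (algebraMap A B) := hker ▸ RingHom.mem_ker.mpr h0
        have hu := Ideal.mem_jacobson_bot.mp (IsAdicComplete.le_jacobson_bot _ hfJ) (-1)
        have h1 : (f * -1 + 1) * f = 0 := by
          rw [mul_neg, mul_one, add_mul, neg_mul, one_mul, hf0.eq, neg_add_cancel]
        exact hu.mul_right_eq_zero.mp h1
      have h1 := (connectedSpace_iff_clopen.mp hconn).2 _ (PrimeSpectrum.isClopen_iff_zeroLocus.mpr
        ⟨ev e, he.map ev, rfl⟩)
      rcases h1 with h1 | h1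
      · right
        have hu : IsUnit (ev e) := by
          by_contra hu
          obtain ⟨m, hm, hle⟩ := exists_max_ideal_of_mem_nonunits hu
          exact (Set.eq_empty_iff_forall_notMem.mp h1) ⟨m, hm.isPrime⟩ (by simpa using hle)
        have h2 : ev e = 1 := (hu.mul_eq_left).mp (he.map ev)
        exact (sub_eq_zero.mp (key (1 - e) he.one_sub (by rw [map_sub, h2, map_one, sub_self]))).symm
      · left
        apply key e he
        have : IsNilpotent (ev e) := by
          rw [nilpotent_iff_mem_prime]
          intro p hp
          exact ((Set.eq_univ_iff_forall.mp h1) ⟨p, hp⟩) rfl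
        exact (he.map ev).eq_zero_of_isNilpotent this
    exact ⟨hdB, Groth.Agent.NormalTensor.isIntegrallyClosed_of_isNormalRing hB⟩

end Groth.Agent.S19375
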