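import Mathlib
import Groth.Agent.CMCat.ComplQuot
import Groth.Agent.AdicLemmas.Basic
import Groth.Statements.S19376

set_option autoImplicit false
universe u
open EGA4

namespace Groth.Agent.S19376

/-- Let V be an excellent normal ring with no additive torsion, I an ideal of V such that (V, I) is a
henselian pair, A and C smooth V-algebras, and φ₀ a V-algebra homomorphism from A/IA to C/IC which
is finite. Then φ₀ lifts to a finite V-algebra homomorphism φ from the IA-adic completion of A to
the IC-adic completion of C: composing φ with the projection onto C/IC equals the projection onto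
A/IA followed by φ₀. (The published statement also treats finite flat, finite faithfully flat and
finite étale maps, whose proofs are referred elsewhere; only the finite case is stated.) -/
theorem result
    (V : Type u) [CommRing V] [IsAddTorsionFree V]
    (hexc : EGA4.IsExcellent V) (hV : EGA4.IsNormalRing V)
    (I : Ideal V) [HenselianRing V I]
    (A C : Type u) [CommRing A] [Algebra V A] [Algebra.Smooth V A]
    [CommRing C] [Algebra V C] [Algebra.Smooth V C]
    (φ₀ : (A ⧸ I.map (algebraMap V A)) →ₐ[V] (C ⧸ I.map (algebraMap V C)))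
    (hφ₀ : φ₀.toRingHom.Finite) :
    ∃ φ : AdicCompletion (I.map (algebraMap V A)) A →ₐ[V]
        AdicCompletion (I.map (algebraMap V C)) C,
      φ.toRingHom.Finite ∧
      (AdicCompletion.evalOneₐ (I.map (algebraMap V C))).toRingHom.comp φ.toRingHom =
        φ₀.toRingHom.comp (AdicCompletion.evalOneₐ (I.map (algebraMap V A))).toRingHom := by
  classical
  haveI : IsNoetherianRing V := hexc.1
  haveI : IsNoetherianRing C := Algebra.FiniteType.isNoetherianRing V C
  haveI : IsNoetherianRing A := Algebra.FiniteType.isNoetherianRing V A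
  let KA : Ideal A := I.map (algebraMap V A)
  let KC : Ideal C := I.map (algebraMap V C)
  let q : ∀ {m n : ℕ}, m ≤ n → (C ⧸ KC ^ n) →ₐ[V] C ⧸ KC ^ m := fun hle =>
    Ideal.Quotient.factorₐ V (Ideal.pow_le_pow_right hle)
  have hqs : ∀ {m n : ℕ} (hle : m ≤ n), Function.Surjective (q hle) := fun hle =>
    Ideal.Quotient.factor_surjective (Ideal.pow_le_pow_right hle)
  have hqn : ∀ n : ℕ, IsNilpotent (RingHom.ker (q (show n + 1 ≤ n + 2 by omega) : (C ⧸ KC ^ (n + 2)) →+* C ⧸ KC ^ (n + 1))) := by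
    intro n
    refine ⟨2, ?_⟩
    rw [Ideal.zero_eq_bot, eq_bot_iff]
    have hk : RingHom.ker (q (show n + 1 ≤ n + 2 by omega) : (C ⧸ KC ^ (n + 2)) →+* C ⧸ KC ^ (n + 1)) ≤
        (KC ^ (n + 1)).map (Ideal.Quotient.mk (KC ^ (n + 2))) := by
      intro z hz
      obtain ⟨z, rfl⟩ := Ideal.Quotient.mk_surjective z
      exact Ideal.mem_map_of_mem _ (Ideal.Quotient.eq_zero_iff_mem.1 hz)
    refine (Ideal.pow_right_mono hk 2).trans ?_
    rw [← Ideal.map_pow (Ideal.Quotient.mk (KC ^ (n + 2))), Ideal.map_le_iff_le_comap, ← RingHom.ker_eq_comap_bot, Ideal.mk_ker, ← pow_mul]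
    exact Ideal.pow_le_pow_right (by omega)
  let f₁ : A →ₐ[V] C ⧸ KC ^ 1 :=
    ((Ideal.quotientEquivAlgOfEq V (pow_one KC).symm).toAlgHom.comp φ₀).comp (Ideal.Quotient.mkₐ V KA)
  let g : ∀ n : ℕ, A →ₐ[V] C ⧸ KC ^ (n + 1) := fun n => Nat.rec (motive := fun n => A →ₐ[V] C ⧸ KC ^ (n + 1)) f₁
    (fun n gn => Algebra.FormallySmooth.liftOfSurjective gn (q (show n + 1 ≤ n + 2 by omega)) (hqs (show n + 1 ≤ n + 2 by omega)) (hqn n)) n
  have hg : ∀ n, (q (show n + 1 ≤ n + 2 by omega)).comp (g (n + 1)) = g n := fun n =>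
    AlgHom.ext fun x => Algebra.FormallySmooth.liftOfSurjective_apply (g n) (q (show n + 1 ≤ n + 2 by omega)) (hqs (show n + 1 ≤ n + 2 by omega)) (hqn n) x
  let f : ∀ n : ℕ, A →ₐ[V] C ⧸ KC ^ n := fun n => (q (Nat.le_succ n)).comp (g n)
  have hqq : ∀ {a b c : ℕ} (h₁ : a ≤ b) (h₂ : b ≤ c), (q h₁).comp (q h₂) = q (h₁.trans h₂) := fun h₁ h₂ =>
    Ideal.Quotient.algHom_ext _ rfl
  have hgm : ∀ {m n : ℕ} (hle : m ≤ n), (q (Nat.succ_le_succ hle)).comp (g n) = g m := by
    intro m n hle
    induction n, hle using Nat.le_induction with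
    | base =>
      refine AlgHom.ext fun x => ?_
      obtain ⟨c, hc⟩ := Ideal.Quotient.mk_surjective (g m x)
      rw [AlgHom.comp_apply, ← hc]
      rfl
    | succ n hle ih => rw [← hqq (Nat.succ_le_succ hle) (show n + 1 ≤ n + 2 by omega), AlgHom.comp_assoc, hg, ih]
  have hf : ∀ {m n : ℕ} (hle : m ≤ n), (q hle).comp (f n) = f m := fun {m n} hle => by
    show (q hle).comp ((q (Nat.le_succ n)).comp (g n)) = (q (Nat.le_succ m)).comp (g m)
    rw [← hgm hle, ← AlgHom.comp_assoc, ← AlgHom.comp_assoc, hqq hle (Nat.le_succ n), hqq (Nat.le_succ m) (Nat.succ_le_succ hle)]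
  have hfI : ∀ n, KA ^ n ≤ RingHom.ker (f n).toRingHom := by
    intro n
    rw [show KA = I.map (algebraMap V A) from rfl, ← Ideal.map_pow, Ideal.map_le_iff_le_comap]
    intro v hv
    show f n (algebraMap V A v) = 0
    rw [AlgHom.commutes, IsScalarTower.algebraMap_apply V C (C ⧸ KC ^ n), Ideal.Quotient.algebraMap_eq,
      Ideal.Quotient.eq_zero_iff_mem, show KC = I.map (algebraMap V C) from rfl, ← Ideal.map_pow]
    exact Ideal.mem_map_of_mem _ hv
  let h : ∀ n : ℕ, AdicCompletion KA A →ₐ[V] C ⧸ KC ^ n := fun n =>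
    (Ideal.Quotient.liftₐ (KA ^ n) (f n) fun a ha => hfI n ha).comp ((AdicCompletion.evalₐ KA n).restrictScalars V)
  have hh : ∀ {m n : ℕ} (hle : m ≤ n), (Ideal.Quotient.factorₐ V (Ideal.pow_le_pow_right hle)).comp (h n) = h m := by
    intro m n hle
    refine AlgHom.ext fun x => ?_
    induction x using AdicCompletion.induction_on with
    | h s =>
      simp only [h, AlgHom.comp_apply, AlgHom.restrictScalars_apply]
      rw [AdicCompletion.evalₐ_mk, AdicCompletion.evalₐ_mk]
      show ((q hle).comp (f n)) (s.val n) = f m (s.val m)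
      rw [hf hle, ← sub_eq_zero, ← map_sub]
      exact hfI m (CMCat.cauchy_sub_mem KA s hle)
  let φ : AdicCompletion KA A →ₐ[V] AdicCompletion KC C := AdicCompletion.liftAlgHom KC h hh
  have hone : (AdicCompletion.evalOneₐ KC).toRingHom.comp φ.toRingHom =
      φ₀.toRingHom.comp (AdicCompletion.evalOneₐ KA).toRingHom := by
    refine RingHom.ext fun x => ?_
    induction x using AdicCompletion.induction_on with
    | h s =>
      show AdicCompletion.evalOneₐ KC (AdicCompletion.liftAlgHom KC h hh (AdicCompletion.mk KA A s)) =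
        φ₀ (AdicCompletion.evalOneₐ KA (AdicCompletion.mk KA A s))
      rw [AdicCompletion.evalOneₐ_liftAlgHom, ← AdicCompletion.factorₐ_evalₐ_one (I := KA) (AdicCompletion.mk KA A s)]
      simp only [h, AlgHom.comp_apply, AlgHom.restrictScalars_apply]
      rw [AdicCompletion.evalₐ_mk]
      show Ideal.Quotient.factorₐ V _ (f 1 (s.val 1)) = φ₀ (Ideal.Quotient.mk KA (s.val 1))
      rw [show f 1 = g 0 from hg 0]
      show Ideal.Quotient.factorₐ V _ (Ideal.quotientEquivAlgOfEq V (pow_one KC).symm (φ₀ (Ideal.Quotient.mk KA (s.val 1)))) = _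
      obtain ⟨c, hc⟩ := Ideal.Quotient.mk_surjective (φ₀ (Ideal.Quotient.mk KA (s.val 1)))
      rw [← hc]
      rfl
  refine ⟨φ, ?_, hone⟩
  letI : Algebra (AdicCompletion KA A) (AdicCompletion KC C) := φ.toRingHom.toAlgebra
  haveI : IsScalarTower V (AdicCompletion KA A) (AdicCompletion KC C) :=
    IsScalarTower.of_algebraMap_eq fun v => (φ.commutes v).symm
  let J : Ideal (AdicCompletion KA A) := KA.map (algebraMap A (AdicCompletion KA A))
  have hKA : KA.FG := KA.fg_of_isNoetherianRing
  have hKC : KC.FG := KC.fg_of_isNoetherianRing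
  haveI : IsAdicComplete J (AdicCompletion KA A) := AdicCompletion.isAdicComplete_self KA hKA
  have hJn : ∀ n : ℕ, (J ^ n).map φ.toRingHom = (KC ^ n).map (algebraMap C (AdicCompletion KC C)) := by
    intro n
    have e1 : J = I.map (algebraMap V (AdicCompletion KA A)) :=
      (Ideal.map_map _ _).trans (by rw [← IsScalarTower.algebraMap_eq])
    have e2 : KC.map (algebraMap C (AdicCompletion KC C)) = I.map (algebraMap V (AdicCompletion KC C)) :=
      (Ideal.map_map _ _).trans (by rw [← IsScalarTower.algebraMap_eq])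
    rw [Ideal.map_pow, Ideal.map_pow, e1, e2, Ideal.map_map,
      show φ.toRingHom.comp (algebraMap V _) = algebraMap V (AdicCompletion KC C) from RingHom.ext φ.commutes]
  haveI : IsHausdorff J (AdicCompletion KC C) := ⟨fun x hx => AdicCompletion.ext_evalₐ fun n => by
    have h1 := SModEq.zero.1 (hx n)
    rw [Ideal.smul_top_eq_map, Submodule.restrictScalars_mem, RingHom.algebraMap_toAlgebra, hJn,
      ← CMCat.evalₐ_eq_zero_iff hKC] at h1
    rw [h1, map_zero]⟩
  show Module.Finite (AdicCompletion KA A) (AdicCompletion KC C)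
  refine AdicLemmas.module_finite_of_quotient_finite J _ ?_
  have hker : ∀ x, AdicCompletion.evalOneₐ KC x = 0 → x ∈ (J • ⊤ : Submodule (AdicCompletion KA A) (AdicCompletion KC C)) := by
    intro x hx
    rw [Ideal.smul_top_eq_map, Submodule.restrictScalars_mem, RingHom.algebraMap_toAlgebra, ← pow_one J, hJn, pow_one,
      ← AdicCompletion.ker_evalOneₐ_eq_map KC hKC]
    exact hx
  letI : Algebra (A ⧸ KA) (C ⧸ KC) := φ₀.toRingHom.toAlgebra
  obtain ⟨t, ht⟩ := (show Module.Finite (A ⧸ KA) (C ⧸ KC) from hφ₀).fg_top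
  choose lft hlft using fun z : C ⧸ KC => AdicCompletion.evalOneₐ_surjective KC z
  refine ⟨⟨t.image (fun z => Submodule.Quotient.mk (lft z)), ?_⟩⟩
  rw [eq_top_iff]
  rintro x -
  obtain ⟨x, rfl⟩ := Submodule.Quotient.mk_surjective _ x
  suffices ∀ z ∈ Submodule.span (A ⧸ KA) (t : Set (C ⧸ KC)), ∃ y ∈ Submodule.span (AdicCompletion KA A) (lft '' (t : Set (C ⧸ KC))),
      AdicCompletion.evalOneₐ KC y = z by
    obtain ⟨y, hy, hyx⟩ := this (AdicCompletion.evalOneₐ KC x) (by rw [ht]; trivial)
    have h1 : (Submodule.Quotient.mk x : (AdicCompletion KC C) ⧸ (J • ⊤ : Submodule (AdicCompletion KA A) (AdicCompletion KC C))) =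
        Submodule.Quotient.mk y := by
      rw [Submodule.Quotient.eq]
      exact hker _ (by rw [map_sub, hyx, sub_self])
    rw [h1, Finset.coe_image]
    have h2 := Submodule.mem_map_of_mem (f := (J • ⊤ : Submodule (AdicCompletion KA A) (AdicCompletion KC C)).mkQ) hy
    rw [Submodule.map_span, ← Set.image_comp] at h2
    exact h2
  intro z hz
  induction hz using Submodule.span_induction with
  | mem z hz => exact ⟨lft z, Submodule.subset_span ⟨z, hz, rfl⟩, hlft z⟩
  | zero => exact ⟨0, zero_mem _, map_zero _⟩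
  | add z w _ _ hz hw =>
    obtain ⟨a, ha, rfl⟩ := hz
    obtain ⟨b, hb, rfl⟩ := hw
    exact ⟨a + b, add_mem ha hb, map_add _ a b⟩
  | smul r z _ hz =>
    obtain ⟨a, ha, rfl⟩ := hz
    obtain ⟨r', hr'⟩ := AdicCompletion.evalOneₐ_surjective KA r
    refine ⟨r' • a, Submodule.smul_mem _ _ ha, ?_⟩
    rw [Algebra.smul_def, map_mul, Algebra.smul_def, ← hr']
    exact congrArg (· * _) (RingHom.congr_fun hone r')

end Groth.Agent.S19376
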