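import Groth.Statements.S19377
import Groth.Agent.ProjBundleLib.OpenDense
import Groth.Agent.ProjBundleLib.OpenImm
import Groth.Agent.ProjBundleLib.Ample
import Groth.Agent.ProjBundleLib.RelAmpleVA
import Groth.Agent.AmpleEmb.ComposeRel
import Groth.Agent.SmoothSecLib.Irred
import Groth.Agent.EtAlgEasy.SmoothStalkProps
import Groth.Agent.RegLocal.Basic
import Groth.Agent.GenIrredLib.SectionNear
-- import your own Groth.Agent.* helpers here

set_option autoImplicit false
universe u
open CategoryTheory AlgebraicGeometry
open RelProj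

namespace Groth.Agent.S19377

/-- Let k be a field, S a smooth, separated and quasi-compact k-scheme and f : X → S a proper smooth
morphism. The following two conditions are equivalent. (P): there is a dense open subscheme U of X,
quasi-projective over S, such that every connected component of S has a point not lying in the image
f(X ∖ U). Generic projectivity: there is a dense open subscheme V of S such that the restriction
f⁻¹(V) → V of f is projective. (The source works over the residue field of a complete discrete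
valuation ring of mixed characteristic and adds that the restriction over V is smooth, which is
automatic; the base field plays no role and is arbitrary here.) -/
theorem result
    {k : Type u} [Field k] {X S : Scheme.{u}} (f : X ⟶ S) (g : S ⟶ Spec (.of k))
    [Smooth g] [IsSeparated g] [QuasiCompact g] [IsProper f] [Smooth f] :
    (∃ U : X.Opens, Dense (U : Set X) ∧ RelProj.IsQuasiProjective (U.ι ≫ f) ∧
        ∀ s : S, ∃ s' : S, s' ∈ connectedComponent s ∧ s' ∉ ⇑f.base '' (U : Set X)ᶜ) ↔
      ∃ V : S.Opens, Dense (V : Set S) ∧ RelProj.IsProjective (f ∣_ V) := by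
  haveI : IsLocallyNoetherian S := LocallyOfFiniteType.isLocallyNoetherian g
  haveI : CompactSpace S := QuasiCompact.compactSpace_of_compactSpace g
  haveI : IsNoetherian S := {}
  haveI : IsNoetherian (Spec (CommRingCat.of k)) := {}
  haveI : IsLocallyNoetherian X := LocallyOfFiniteType.isLocallyNoetherian f
  haveI : CompactSpace X := QuasiCompact.compactSpace_of_compactSpace f
  haveI : IsNoetherian X := {}
  have hdom : ∀ s : S, IsDomain (S.presheaf.stalk s) := fun s => by
    haveI : IsRegularLocalRing (S.presheaf.stalk s) :=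
      (Groth.Agent.EtAlgEasy.SmoothStalk.isRegularLocalRing_iff g (x := s)
        (by rw [Scheme.Hom.smoothLocus_eq_top]; trivial)).2 (by
          haveI hF : IsField ↥((Spec (CommRingCat.of k)).presheaf.stalk (g s)) := by
            rw [Subsingleton.elim (g s) (genericPoint (Spec (CommRingCat.of k)))]
            exact Field.toIsField (Spec (CommRingCat.of k)).functionField
          letI := hF.toField
          infer_instance)
    exact Groth.Agent.RegLocal.isDomain _
  have hirr := Groth.Agent.SmoothSecLib.isIrreducible_connectedComponent_of_domain hdom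
  have hcc : ∀ (s : S) (V : S.Opens), (∃ s', s' ∈ connectedComponent s ∧ s' ∈ V) →
      s ∈ closure (V : Set S) := fun s V ⟨s', hs', hsV⟩ =>
    closure_mono Set.inter_subset_right ((subset_closure_inter_of_isPreirreducible_of_isOpen
      (hirr s).2 V.2 ⟨s', hs', hsV⟩) mem_connectedComponent)
  constructor
  · rintro ⟨U, hUd, hUq, hP⟩
    let V : S.Opens := ⟨(f '' (U : Set X)ᶜ)ᶜ, (f.isClosedMap _ U.2.isClosed_compl).isOpen_compl⟩
    have hVd : Dense (V : Set S) := fun s => by
      obtain ⟨s', hs', hn⟩ := hP s
      exact hcc s V ⟨s', hs', hn⟩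
    refine ⟨V, hVd, ?_⟩
    have hsub : f ⁻¹ᵁ V ≤ U := fun x hx => by
      by_contra hn
      exact hx ⟨x, hn, rfl⟩
    obtain ⟨E, P, p, O1, φ, D, j, hE, hj, hjp⟩ := Groth.Agent.ProjBundleLib.exists_immersion_ft hUq
    haveI := hj
    have hp : RelProj.IsProjective p := D.isProjective_of_isClosedImmersion hE (𝟙 P) (Category.id_comp p)
    have hpV : RelProj.IsProjective (p ∣_ V) :=
      Groth.Agent.ProjBundleLib.isProjective_baseChange (isPullback_morphismRestrict p V).flip hp
    let i₀ : ((f ⁻¹ᵁ V : X.Opens) : Scheme.{u}) ⟶ P := X.homOfLE hsub ≫ j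
    have hi₀ : i₀ ≫ p = (f ∣_ V) ≫ V.ι := by
      rw [morphismRestrict_ι, Category.assoc, hjp, ← Category.assoc, Scheme.homOfLE_ι]
    let i : ((f ⁻¹ᵁ V : X.Opens) : Scheme.{u}) ⟶ ((p ⁻¹ᵁ V : P.Opens) : Scheme.{u}) :=
      (isPullback_morphismRestrict p V).lift (f ∣_ V) i₀ hi₀.symm
    have hi : i ≫ (p ⁻¹ᵁ V).ι = i₀ := (isPullback_morphismRestrict p V).lift_snd _ _ _
    haveI : IsImmersion (i ≫ (p ⁻¹ᵁ V).ι) := by rw [hi]; infer_instance
    haveI : IsImmersion i := IsImmersion.of_comp i (p ⁻¹ᵁ V).ι
    haveI : CompactSpace ((f ⁻¹ᵁ V : X.Opens) : Scheme.{u}) := isCompact_iff_compactSpace.1 (TopologicalSpace.NoetherianSpace.isCompact _)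
    haveI : IsNoetherian ((f ⁻¹ᵁ V : X.Opens) : Scheme.{u}) := {}
    have hq : RelProj.IsQuasiProjective (f ∣_ V) :=
      Groth.Agent.ProjBundleLib.isQuasiProjective_of_immersion hpV i
        ((isPullback_morphismRestrict p V).lift_fst _ _ _)
    haveI : CompactSpace (V : Scheme.{u}) := isCompact_iff_compactSpace.1 (TopologicalSpace.NoetherianSpace.isCompact _)
    haveI : IsNoetherian (V : Scheme.{u}) := {}
    exact Groth.Agent.ProjBundleLib.isProjective_of_isProper hq
  · rintro ⟨V, hVd, hV⟩
    refine ⟨f ⁻¹ᵁ V, hVd.preimage f.isOpenMap, ?_, fun s => ?_⟩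
    · obtain ⟨hft, hqc, L, hL⟩ := (Groth.Agent.ProjBundleLib.isProper_of_isProjective hV).2
      haveI := hqc
      haveI : CompactSpace (V : Scheme.{u}) := isCompact_iff_compactSpace.1 (TopologicalSpace.NoetherianSpace.isCompact _)
      haveI : IsNoetherian (V : Scheme.{u}) := {}
      have hK : RelAmple.IsRelAmple V.ι (Coh.structureModule (V : Scheme.{u})) :=
        Groth.Agent.ProjBundleLib.isRelAmple_of_isRelVeryAmple
          (Groth.Agent.ProjBundleLib.isRelVeryAmple_of_isOpenImmersion V.ι Groth.Agent.ParaFLib.isInvertible_structureModule)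
      obtain ⟨N, hN⟩ := Groth.Agent.AmpleEmb.eventually_isRelAmple_comp (f ∣_ V) V.ι hL hK
      rw [← morphismRestrict_ι]
      exact ⟨inferInstance, inferInstance, _, hN N le_rfl⟩
    · obtain ⟨s', hs', hsV⟩ : ∃ s', s' ∈ connectedComponent s ∧ s' ∈ V := by
        have ho : IsOpen (connectedComponent s) := Groth.Agent.GenIrredLib.isOpen_connectedComponent_of_noetherian _
        obtain ⟨s', h1, h2⟩ := hVd.inter_open_nonempty _ ho ⟨s, mem_connectedComponent⟩
        exact ⟨s', h1, h2⟩
      exact ⟨s', hs', fun ⟨x, hx, hxs⟩ => hx (show f x ∈ V from hxs.symm ▸ hsV)⟩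


end Groth.Agent.S19377
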