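import Mathlib
import Groth.Agent.AdicFS.Regular
import Groth.Agent.JacobianLib.Adic
import Groth.Statements.S19379

set_option autoImplicit false
universe u
open CAlg

namespace Groth.Agent.S19379

/-- Let A and B be Noetherian rings and let B be an A-algebra which is formally smooth for the discrete
topologies. Then A → B is a regular homomorphism, that is, flat with (Noetherian) geometrically
regular fibres. -/
theorem result
    (A B : Type u) [CommRing A] [CommRing B] [Algebra A B]
    [IsNoetherianRing A] [IsNoetherianRing B] [Algebra.FormallySmooth A B] :
    CAlg.IsRegularHom A B := by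
  refine Groth.Agent.AdicFS.isRegularHom_of_adic fun q _ => ?_
  letI := (Localization.localRingHom (Ideal.comap (algebraMap A B) q) q (algebraMap A B) rfl).toAlgebra
  haveI : IsScalarTower A (Localization.AtPrime (Ideal.comap (algebraMap A B) q))
      (Localization.AtPrime q) := .of_algebraMap_eq fun a => by
    rw [RingHom.algebraMap_toAlgebra, Localization.localRingHom_to_map]
    exact IsScalarTower.algebraMap_apply A B _ a
  haveI : Algebra.FormallySmooth B (Localization.AtPrime q) :=
    Algebra.FormallySmooth.of_isLocalization q.primeCompl
  haveI : Algebra.FormallySmooth A (Localization.AtPrime q) :=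
    Algebra.FormallySmooth.comp A B (Localization.AtPrime q)
  rw [Groth.Agent.JacobianLib.adic_iff_of_localization (A := A)
    (Ideal.comap (algebraMap A B) q).primeCompl]
  intro D _ _ J hJ ψ _
  exact Algebra.FormallySmooth.comp_surjective A (Localization.AtPrime q) J hJ ψ

end Groth.Agent.S19379
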