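import Groth.Statements.S1938
import Groth.Agent.GrpOmega.Basic

set_option backward.isDefEq.respectTransparency false
set_option linter.style.haveILetI false

set_option autoImplicit false
universe u
open CategoryTheory CategoryTheory.Limits AlgebraicGeometry
open Grpd

namespace Groth.Agent.S1938

open CategoryTheory CategoryTheory.Limits AlgebraicGeometry

/-- Differentials of the target map are pulled back from the identity section along the source map. -/
theorem omega_iso {S : Scheme.{u}} (G : Grpd.GroupoidScheme S) [QuasiSeparated G.t] :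
    Nonempty ((Scheme.Modules.pullback G.s).obj (Omega.conormal G.e) ≅ Omega.sheaf G.t) := by
  haveI : IsImmersion G.e := by
    haveI : IsImmersion (G.e ≫ G.t) := by rw [G.e_t]; infer_instance
    exact IsImmersion.of_comp G.e G.t
  haveI : QuasiCompact G.e := by
    haveI : QuasiCompact (G.e ≫ G.t) := by rw [G.e_t]; infer_instance
    exact QuasiCompact.of_comp G.e G.t
  obtain ⟨ce⟩ := GrpOmega.conormal_section_iso (f := G.t) G.e G.e_t
  let a := pullback.fst G.t G.t
  let b := pullback.snd G.t G.t
  have hab : a ≫ G.t = b ≫ G.t := pullback.condition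
  have hm : (a ≫ G.i) ≫ G.s = b ≫ G.t := by rw [Category.assoc, G.i_s, hab]
  let m := pullback.lift (a ≫ G.i) b hm ≫ G.c
  have hmt : m ≫ G.t = a ≫ G.s := by rw [G.comp_t, Category.assoc, G.i_t]
  let x := pullback.fst G.t G.s
  let y := pullback.snd G.t G.s
  have hxy : y ≫ G.s = x ≫ G.t := pullback.condition.symm
  let n := pullback.lift y x hxy ≫ G.c
  have hnt : y ≫ G.t = n ≫ G.t := (G.comp_t y x hxy).symm
  have cl : ∀ {T : Scheme.{u}} {α α' β β' : T ⟶ G.R} (h : α ≫ G.s = β ≫ G.t) (h' : α' ≫ G.s = β' ≫ G.t),
      α = α' → β = β' → pullback.lift α β h ≫ G.c = pullback.lift α' β' h' ≫ G.c := by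
    rintro T α α' β β' h h' rfl rfl; rfl
  have cc : ∀ {T T' : Scheme.{u}} (q : T' ⟶ T) (α β : T ⟶ G.R) (h : α ≫ G.s = β ≫ G.t),
      q ≫ pullback.lift α β h ≫ G.c =
        pullback.lift (q ≫ α) (q ≫ β) (by rw [Category.assoc, Category.assoc, h]) ≫ G.c := by
    intro T T' q α β h
    rw [← Category.assoc]
    congr 1
    apply pullback.hom_ext <;> simp
  let φ : pullback G.t G.t ≅ pullback G.t G.s :=
    { hom := pullback.lift m a hmt
      inv := pullback.lift y n hnt
      hom_inv_id := by
        apply pullback.hom_ext
        · rw [Category.assoc, pullback.lift_fst, pullback.lift_snd, Category.id_comp]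
        · rw [Category.assoc, pullback.lift_snd, Category.id_comp, cc]
          refine (cl _ (show a ≫ G.s = m ≫ G.t from hmt.symm) (pullback.lift_snd _ _ _)
            (pullback.lift_fst _ _ _)).trans ?_
          rw [← G.assoc a (a ≫ G.i) b (by rw [Category.assoc, G.i_t]) hm]
          refine (cl _ (by rw [Category.assoc, Category.assoc, G.e_s, Category.comp_id]) ((G.comp_i a).trans
            (by rw [← Category.assoc, hab, Category.assoc])) rfl).trans (G.e_comp b)
      inv_hom_id := by
        apply pullback.hom_ext
        · rw [Category.assoc, pullback.lift_fst, Category.id_comp, cc]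
          refine (cl _ (show (y ≫ G.i) ≫ G.s = n ≫ G.t by rw [Category.assoc, G.i_s, hnt]) ?_
            (pullback.lift_snd _ _ _)).trans ?_
          · rw [← Category.assoc, pullback.lift_fst]
          rw [← G.assoc (y ≫ G.i) y x (by rw [Category.assoc, G.i_s]) hxy]
          refine (cl _ (by rw [Category.assoc, Category.assoc, G.e_s, Category.comp_id]) ((G.i_comp y).trans
            (by rw [← Category.assoc, hxy, Category.assoc])) rfl).trans (G.e_comp x)
        · rw [Category.assoc, pullback.lift_snd, pullback.lift_fst, Category.id_comp] }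
  have sq : IsPullback m a G.t G.s := IsPullback.of_iso (IsPullback.of_hasPullback G.t G.s) φ.symm
    (Iso.refl _) (Iso.refl _) (Iso.refl _)
    (by
      simp only [Iso.refl_hom, Category.comp_id, Iso.symm_hom]
      rw [show m = φ.hom ≫ x from (pullback.lift_fst _ _ _).symm, Iso.inv_hom_id_assoc])
    (by
      simp only [Iso.refl_hom, Category.comp_id, Iso.symm_hom]
      rw [show a = φ.hom ≫ y from (pullback.lift_snd _ _ _).symm, Iso.inv_hom_id_assoc])
    (by simp) (by simp)
  haveI : QuasiSeparated a := MorphismProperty.of_isPullback (IsPullback.of_hasPullback G.t G.t).flip ‹_›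
  obtain ⟨u₁⟩ := GrpOmega.omega_baseChange (IsPullback.of_hasPullback G.t G.t).flip
  obtain ⟨u₂⟩ := GrpOmega.omega_baseChange sq
  let d : G.R ⟶ pullback G.t G.t := pullback.lift (𝟙 G.R) (𝟙 G.R) rfl
  have hdq : d ≫ b = 𝟙 G.R := pullback.lift_snd _ _ _
  have hdm : d ≫ m = G.s ≫ G.e := by
    rw [cc]
    refine (cl _ (show G.i ≫ G.s = 𝟙 G.R ≫ G.t by rw [Category.id_comp, G.i_s]) ?_ hdq).trans ?_
    · rw [← Category.assoc, pullback.lift_fst, Category.id_comp]
    · refine (cl _ _ (Category.id_comp G.i).symm rfl).trans ((G.i_comp (𝟙 G.R)).trans (Category.id_comp _))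
  let Ω := Omega.sheaf G.t
  exact ⟨(Scheme.Modules.pullback G.s).mapIso ce ≪≫ (Scheme.Modules.pullbackComp G.s G.e).app Ω ≪≫
    ((Scheme.Modules.pullbackCongr hdm).app Ω).symm ≪≫
    ((Scheme.Modules.pullbackComp d m).app Ω).symm ≪≫ (Scheme.Modules.pullback d).mapIso (u₂ ≪≫ u₁.symm) ≪≫
    (Scheme.Modules.pullbackComp d b).app Ω ≪≫ (Scheme.Modules.pullbackCongr hdq).app Ω ≪≫
    (Scheme.Modules.pullbackId G.R).app Ω⟩

/-- Let (U, R, s, t, c) be a groupoid scheme over S, e : U → R its identity and C_{U/R} the conormal
sheaf of the immersion e. View R as a scheme over U via t. Then there is an epimorphism of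
O_R-modules s^*C_{U/R} → Ω_{R/U}, and if s is flat there is an isomorphism s^*C_{U/R} ≅ Ω_{R/U}.
(The published statement has t^*C_{U/R} here; with R over U via t that version is false — for the
pair groupoid of the disjoint union of a point and the affine line over ℚ the two sheaves have
different supports — and the statement given here has s^*C_{U/R} instead.) Stated for t
quasi-separated, where the shared prelude's Ω_{R/U} (conormal sheaf of the diagonal of t through
Mathlib's kernel ideal sheaf) and conormal sheaf of the section e are the usual ones. (A groupoid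
scheme carries U, R, s, t, c, e, i over S with the groupoid axioms on T-points.) -/
theorem result (S : Scheme.{u}) (G : Grpd.GroupoidScheme S) [QuasiSeparated G.t] : (∃ φ : (Scheme.Modules.pullback G.s).obj (Omega.conormal G.e) ⟶ Omega.sheaf G.t, Epi φ) ∧ (Flat G.s → Nonempty ((Scheme.Modules.pullback G.s).obj (Omega.conormal G.e) ≅ Omega.sheaf G.t)) := by
  obtain ⟨t⟩ := omega_iso G
  exact ⟨⟨t.hom, inferInstance⟩, fun _ => ⟨t⟩⟩

end Groth.Agent.S1938
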