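import Groth.Statements.S19380

set_option autoImplicit false
universe u
open CAlg

namespace Groth.Agent.S19380

/-- Let L be a commutative ring, σ a ring automorphism of L of finite order dividing d (σ^d = 1), and C
an r × r matrix over L. The reverse characteristic polynomial det(1 − T·N) of the twisted product N
= C·σ(C)·σ²(C)⋯σ^(d−1)(C), with σ applied to the entries, is fixed by σ acting on coefficients. (In
the source this is phrased for the fibre at a closed point x of degree d of a convergent F-module
with Frobenius matrix C: the d-th iterate of the semilinear Frobenius of the fibre is the linear map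
with matrix N, so its characteristic polynomial has coefficients in the subfield fixed by the
Frobenius of K(x), namely K, and likewise with the valuation ring in place of K for an integral
F-module; only this linear-algebra statement, over any commutative ring, is given here.) -/
theorem result
    (L : Type u) [CommRing L] (σ : L ≃+* L) (d : ℕ) (hσ : σ ^ d = 1)
    (r : ℕ) (C : Matrix (Fin r) (Fin r) L) :
    (Matrix.charpolyRev (((List.range d).map fun i => C.map ⇑(σ ^ i)).prod)).map (σ : L →+* L) =
      Matrix.charpolyRev (((List.range d).map fun i => C.map ⇑(σ ^ i)).prod) := by
  cases d with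
  | zero => simp [Matrix.charpolyRev, ← Polynomial.coe_mapRingHom, RingHom.map_det, map_sub, Matrix.map_smul]; congr 1; ext a b; by_cases hab : a = b <;> simp [hab]
  | succ d =>
    set P := ((List.range d).map fun i => C.map ⇑(σ ^ (i+1))).prod
    have hp : ((List.range (d+1)).map fun i => C.map ⇑(σ ^ i)).prod = C * P := by
      rw [List.range_succ_eq_map]; simp [P, List.map_map, Function.comp_def]
    rw [hp]
    have hmap : (C * P).map ⇑σ = P * C := by
      rw [← hp, ← RingEquiv.coe_toRingHom σ, ← RingHom.mapMatrix_apply, map_list_prod, List.map_map]
      rw [List.range_succ]
      simp only [List.map_append, List.prod_append, List.map_singleton, List.prod_singleton]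
      congr 1
      · congr 1
        refine List.map_congr_left fun i _ => ?_
        ext a b; simp [pow_succ']
      · ext a b
        have h' : (σ * σ ^ d) (C a b) = C a b := by rw [← pow_succ', hσ]; rfl
        simpa [RingAut.mul_apply] using h'
    have hrev : (Matrix.charpolyRev (C * P)).map (σ : L →+* L) = Matrix.charpolyRev ((C * P).map ⇑σ) := by
      rw [Matrix.charpolyRev, Matrix.charpolyRev, ← Polynomial.coe_mapRingHom, RingHom.map_det]
      congr 1; rw [map_sub, map_one]; congr 1
      ext a b; simp [Matrix.mul_apply, Polynomial.map_sum]
    rw [hrev, hmap, Matrix.charpolyRev, Matrix.charpolyRev, Matrix.map_mul, Matrix.map_mul, ← smul_mul_assoc, Matrix.det_one_sub_mul_comm, Matrix.mul_smul]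

end Groth.Agent.S19380
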