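import Mathlib
import Mathlib
import Groth.Statements.S19383

set_option autoImplicit false
universe u
open CAlg

namespace Groth.Agent.S19383

/-- Over a discrete valuation ring, let V be a henselian discrete valuation ring with maximal ideal 𝔪
and B a Noetherian V-algebra, B̂ its 𝔪B-adic completion. Then B is flat over V if and only if B̂ is
flat over V. (The published lemma takes V an excellent normal ring with an ideal I such that (V,
V/I) is a henselian pair and B of finite type; in that generality it fails: for V = ℤ_p[[x]], I =
(p) and B = V[y]/(x, py − 1) ≅ ℚ_p one has IB = B, so B̂ = 0 is flat while B is not flat over V.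
Over a discrete valuation ring flatness is torsion-freeness and the statement holds for every
Noetherian B.) -/
theorem result
    (V : Type u) [CommRing V] [IsDomain V] [IsDiscreteValuationRing V] [HenselianLocalRing V]
    (B : Type u) [CommRing B] [Algebra V B] [IsNoetherianRing B] :
    Module.Flat V B ↔
      Module.Flat V (AdicCompletion ((IsLocalRing.maximalIdeal V).map (algebraMap V B)) B) := by
  classical
  let I := (IsLocalRing.maximalIdeal V).map (algebraMap V B)
  haveI : Module.Flat B (AdicCompletion I B) := AdicCompletion.flat_of_isNoetherian I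
  refine ⟨fun h => Module.Flat.trans V B (AdicCompletion I B), fun h => ?_⟩
  obtain ⟨π, hπ⟩ := IsDiscreteValuationRing.exists_irreducible V
  have hmax : IsLocalRing.maximalIdeal V = Ideal.span {π} := (IsDiscreteValuationRing.irreducible_iff_uniformizer π).mp hπ
  have hI : I = Ideal.span {algebraMap V B π} := by
    show Ideal.map _ _ = _
    rw [hmax, Ideal.map_span, Set.image_singleton]
  have key : ∀ b : B, π • b = 0 → b = 0 := by
    intro b hb
    have h1 : algebraMap B (AdicCompletion I B) b = 0 := by
      have h2 : π • algebraMap B (AdicCompletion I B) b = 0 := by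
        rw [Algebra.smul_def, IsScalarTower.algebraMap_apply V B (AdicCompletion I B), ← map_mul, ← Algebra.smul_def, hb, map_zero]
      exact (Module.Flat.isSMulRegular_of_isRegular (M := AdicCompletion I B) (IsRegular.of_ne_zero hπ.ne_zero)) (h2.trans (smul_zero π).symm)
    have h3 : ∀ n : ℕ, b ∈ I ^ n := fun n => by
      have := congrArg (AdicCompletion.evalₐ I n) h1
      rw [map_zero, AlgHom.commutes] at this
      exact Ideal.Quotient.eq_zero_iff_mem.mp this
    have h4 : b ∈ (⨅ i : ℕ, I ^ i • (⊤ : Submodule B B)) := Submodule.mem_iInf _ |>.mpr fun n => by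
      rw [smul_eq_mul, Ideal.mul_top]; exact h3 n
    obtain ⟨⟨r, hr⟩, hrb⟩ := (Ideal.mem_iInf_smul_pow_eq_bot_iff I b).mp h4
    rw [hI] at hr
    obtain ⟨e, rfl⟩ := Ideal.mem_span_singleton'.mp hr
    rw [← hrb]
    show (e * algebraMap V B π) • b = 0
    rw [smul_eq_mul, mul_assoc, ← Algebra.smul_def, hb, mul_zero]
  rw [IsDedekindDomain.flat_iff_torsion_eq_bot, eq_bot_iff]
  rintro b ⟨⟨v, hv⟩, hvb⟩
  obtain ⟨n, u, rfl⟩ := IsDiscreteValuationRing.eq_unit_mul_pow_irreducible (mem_nonZeroDivisors_iff_ne_zero.mp hv) hπ
  have hpow : π ^ n • b = 0 := by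
    have : (u : V) • (π ^ n • b) = 0 := by rw [← mul_smul]; exact hvb
    exact (IsUnit.smul_eq_zero u.isUnit).mp this
  clear hvb hv
  induction n generalizing b with
  | zero => simpa using hpow
  | succ n ih =>
    rw [pow_succ', mul_smul] at hpow
    exact ih (key _ hpow)

end Groth.Agent.S19383
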