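import Groth.Statements.S1939
import Groth.Agent.LocDimBC.Scheme
import Groth.Agent.FlatDim.BaseChange

set_option autoImplicit false
universe u
open CategoryTheory AlgebraicGeometry
open CategoryTheory.Limits
open Cyc

namespace Groth.Agent.S1939

open CategoryTheory CategoryTheory.Limits AlgebraicGeometry

open Groth.Agent

/-- Let (S, δS) and (S', δS') be two pairs satisfying Cyc.IsSetup, g : S' → S flat with δS'(s') = δS(g
s') + c for every s' generic in an irreducible component of its fibre g⁻¹(g s'), a : X → S locally
of finite type with X integral of δ-dimension k (δX induced from δS), and X' = X ×_S S' with δX'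
induced from δS'. Then every generic point x' of an irreducible component of X' has δX'(x') = k + c.
A pair (X, δ) with Cyc.IsSetup plays the role of a scheme locally of finite type over a fixed base
with a dimension function (X locally Noetherian with universally catenary local rings, δ a dimension
function), and Cyc.DeltaCompat records that the dimension function upstairs is the induced one. -/
theorem result (S S' X : Scheme.{u}) (δS : S → ℤ) (δS' : S' → ℤ) (hS : Cyc.IsSetup S δS) (hS' : Cyc.IsSetup S' δS') (g : S' ⟶ S) [Flat g] (c : ℤ) (hc : ∀ s' : S', (∀ y, g y = g s' → y ⤳ s' → y = s') → δS' s' = δS (g s') + c) (a : X ⟶ S) [LocallyOfFiniteType a] [IsIntegral X] (δX : X → ℤ) (hX : Cyc.DeltaCompat a δX δS) (δX' : ↥(pullback a g) → ℤ) (hX' : Cyc.DeltaCompat (pullback.snd a g) δX' δS') (k : ℤ) (hk : δX (genericPoint X) = k) (x' : ↥(pullback a g)) (hx' : ∀ y : ↥(pullback a g), y ⤳ x' → y = x') : δX' x' = k + c := by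
  haveI := hS.1
  haveI := hS'.1
  have hmax : ∀ w, pullback.fst a g w = pullback.fst a g x' → w ⤳ x' → x' ⤳ w :=
    fun w _ h => specializes_of_eq (hx' w h).symm
  have hη : pullback.fst a g x' = genericPoint X := by
    obtain ⟨w, hw, e⟩ := Flat.generalizingMap (pullback.fst a g) (genericPoint_specializes (pullback.fst a g x'))
    rw [← e, hx' w hw]
  have hs' : ∀ y, g y = g (pullback.snd a g x') → y ⤳ pullback.snd a g x' → y = pullback.snd a g x' := fun y h1 h2 =>
    (h2.antisymm (FlatDim.maximal_of_baseChange (IsPullback.of_hasPullback a g).flip x' hmax y h1 h2)).eq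
  obtain ⟨n', hn', e'⟩ := hX' x'
  obtain ⟨n, hn, e⟩ := hX (pullback.fst a g x')
  obtain ⟨t, ht, hdt⟩ := FlatDim.fibreDimAt_maximal a (x := pullback.fst a g x') fun w _ hw =>
    (hη.symm ▸ genericPoint_specializes w : pullback.fst a g x' ⤳ w)
  obtain ⟨t', ht', hdt'⟩ := FlatDim.fibreDimAt_maximal (pullback.snd a g) (x := x') fun w _ hw =>
    specializes_of_eq (hx' w hw).symm
  rw [LocDimBC.fibreDimAt_baseChange (IsPullback.of_hasPullback a g) x', hdt] at hdt'
  have h1 : t = t' := by exact_mod_cast hdt'
  have h2 : n = t := Nat.cast_injective (R := Cardinal.{u}) (hn.symm.trans ht)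
  have h3 : n' = t' := Nat.cast_injective (R := Cardinal.{u}) (hn'.symm.trans ht')
  have hga : g (pullback.snd a g x') = a (pullback.fst a g x') := by
    rw [← Scheme.Hom.comp_apply, ← pullback.condition, Scheme.Hom.comp_apply]
  rw [e', hc _ hs', hga]
  rw [hη, hk] at e
  rw [hη]
  omega


end Groth.Agent.S1939
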