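import Groth.Statements.S19390
import Mathlib
-- import your own Groth.Agent.* helpers here

set_option autoImplicit false
set_option backward.isDefEq.respectTransparency false
universe u
open GIT

namespace Groth.Agent.S19390

/-- Let e ≥ 1, n = 2e + 1, and let x_1, …, x_n be points such that no point occurs more than e times
among them (the stability condition for n ordered points on a line, n odd). Then there are index
sequences i_1, …, i_n and j_1, …, j_n in which every index between 1 and n occurs exactly twice in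
total, such that x_{i_k} ≠ x_{j_k} for every k and (i_1, i_2, i_3) = (j_3, j_1, j_2). Indices are
written 0, …, n − 1 here. -/
theorem result {α : Type u} [DecidableEq α] (e : ℕ) (he : 1 ≤ e)
    (x : Fin (2 * e + 1) → α)
    (hx : ∀ a : α, (Finset.univ.filter fun k => x k = a).card ≤ e) :
    ∃ i j : Fin (2 * e + 1) → Fin (2 * e + 1),
      (∀ m : Fin (2 * e + 1),
        (Finset.univ.filter fun k => i k = m).card + (Finset.univ.filter fun k => j k = m).card = 2) ∧
      (∀ k, x (i k) ≠ x (j k)) ∧
      i 0 = j 2 ∧ i 1 = j 0 ∧ i 2 = j 1 := by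
  classical
  let cnt : α → ℕ := fun a => (Finset.univ.filter fun k => x k = a).card
  -- three indices with the most frequent values
  obtain ⟨A, -, hA⟩ := Finset.exists_max_image (Finset.univ : Finset (Fin (2 * e + 1))) (fun k => cnt (x k)) ⟨⟨0, by omega⟩, Finset.mem_univ _⟩
  have hB0 : (Finset.univ.filter fun k => x k ≠ x A).Nonempty := by
    by_contra h
    rw [Finset.not_nonempty_iff_eq_empty, Finset.filter_eq_empty_iff] at h
    have : (Finset.univ.filter fun k => x k = x A) = (Finset.univ : Finset (Fin (2 * e + 1))) := Finset.filter_true_of_mem fun k hk => not_not.1 (h hk)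
    have := (congrArg Finset.card this).symm.trans_le (hx (x A))
    simp at this; omega
  obtain ⟨B, hB', hB⟩ := Finset.exists_max_image _ (fun k => cnt (x k)) hB0
  have hC0 : (Finset.univ.filter fun k => x k ≠ x A ∧ x k ≠ x B).Nonempty := by
    by_contra h
    rw [Finset.not_nonempty_iff_eq_empty, Finset.filter_eq_empty_iff] at h
    have h2 : (Finset.univ : Finset (Fin (2 * e + 1))) ⊆ (Finset.univ.filter fun k => x k = x A) ∪ (Finset.univ.filter fun k => x k = x B) := fun k hk => by
      have := h hk; simp only [not_and_or, not_not] at this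
      simpa using this
    have := (Finset.card_le_card h2).trans ((Finset.card_union_le _ _).trans (Nat.add_le_add (hx (x A)) (hx (x B))))
    simp at this; omega
  obtain ⟨C, hC', hC⟩ := Finset.exists_max_image _ (fun k => cnt (x k)) hC0
  simp only [Finset.mem_filter, Finset.mem_univ, true_and] at hB' hC' hB hC
  have hAB : A ≠ B := fun h => hB' (h ▸ rfl)
  have hAC : A ≠ C := fun h => hC'.1 (h ▸ rfl)
  have hBC : B ≠ C := fun h => hC'.2 (h ▸ rfl)
  let R : Finset (Fin (2 * e + 1)) := ((Finset.univ.erase A).erase B).erase C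
  have hR : R.card = 2 * (e - 1) := by
    simp [R, hAB.symm, hAC.symm, hBC.symm]; omega
  have hRx : ∀ a : α, (R.filter fun k => x k = a).card ≤ e - 1 := fun a => by
    by_contra hlt
    push Not at hlt
    have hsub : (R.filter fun k => x k = a) ⊆ Finset.univ.filter fun k => x k = a :=
      fun k hk => by simp at hk ⊢; exact hk.2
    have hlt' : ∀ z : Fin (2 * e + 1), z ∉ R → x z = a → (R.filter fun k => x k = a).card < cnt a := fun z hz hza =>
      Finset.card_lt_card ⟨hsub, fun h => hz (Finset.mem_filter.1 (h (by simp [hza] : z ∈ _))).1⟩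
    have hle : e ≤ (R.filter fun k => x k = a).card := by omega
    by_cases h1 : x A = a
    · have := hlt' A (by simp [R]) h1; have := hx a; simp only [cnt] at *; omega
    by_cases h2 : x B = a
    · have := hlt' B (by simp [R]) h2; have := hx a; simp only [cnt] at *; omega
    by_cases h3 : x C = a
    · have := hlt' C (by simp [R]) h3; have := hx a; simp only [cnt] at *; omega
    obtain ⟨z, hz⟩ := Finset.card_pos.1 (by omega : 0 < (R.filter fun k => x k = a).card)
    have hza := (Finset.mem_filter.1 hz).2
    have hcnt : e ≤ cnt a := hle.trans (Finset.card_le_card hsub)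
    have hcC := hC z ⟨by rw [hza]; exact Ne.symm h1, by rw [hza]; exact Ne.symm h2⟩
    have hcB := hB C hC'.1
    have hcA := hA B (Finset.mem_univ _)
    rw [hza] at hcC
    let T : Finset α := {x A, x B, x C, a}
    have hT : T.card = 4 := by
      simp [T, Ne.symm hB', Ne.symm hC'.1, Ne.symm hC'.2, h1, h2, h3]
    have hsum : ∑ b ∈ T, cnt b ≤ (2 * e + 1) := by
      rw [← Fintype.card_fin (2 * e + 1), ← Finset.card_univ, ← Finset.card_biUnion]
      · exact Finset.card_le_univ _
      · intro b _ c _ hbc
        simp only [Function.onFun, Finset.disjoint_filter]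
        exact fun k _ h h' => hbc (h.symm.trans h')
    have : T.card * e ≤ ∑ b ∈ T, cnt b := by
      rw [← smul_eq_mul]
      refine Finset.card_nsmul_le_sum _ _ _ fun b hb => ?_
      simp only [T, Finset.mem_insert, Finset.mem_singleton] at hb
      rcases hb with rfl | rfl | rfl | rfl <;> omega
    rw [hT] at this; omega
  -- sort the rest by value
  obtain ⟨code, hcode⟩ : ∃ code : Fin (2 * e + 1) → Fin (2 * e + 1), ∀ k l, code k = code l ↔ x k = x l := by
    let r : α → Fin (2 * e + 1) := fun a => if h : ∃ k, x k = a then h.choose else A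
    have hr : ∀ k, x (r (x k)) = x k := fun k => by
      have h : ∃ l, x l = x k := ⟨k, rfl⟩
      simp only [r, dif_pos h]; exact h.choose_spec
    exact ⟨fun k => r (x k), fun k l => ⟨fun h => by rw [← hr k, ← hr l]; exact congrArg x h, fun h => congrArg r h⟩⟩
  let g₀ : Fin (2 * (e - 1)) ≃ R := (finCongr hR.symm).trans R.equivFin.symm
  obtain ⟨g, hmono⟩ : ∃ g : Fin (2 * (e - 1)) ≃ R, Monotone fun k => code (g k).1 :=
    ⟨(Tuple.sort fun k => code (g₀ k).1).trans g₀, Tuple.monotone_sort fun k => code (g₀ k).1⟩
  let lo : Fin (e - 1) → Fin (2 * (e - 1)) := fun k => ⟨k, by omega⟩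
  let hi : Fin (e - 1) → Fin (2 * (e - 1)) := fun k => ⟨k + (e - 1), by omega⟩
  have hne : ∀ k, x (g (lo k)).1 ≠ x (g (hi k)).1 := fun k h => by
    have hsub : (Finset.Icc (lo k) (hi k)).image (fun l => ((g l).1 : Fin (2 * e + 1))) ⊆ R.filter fun l => x l = x (g (lo k)).1 := by
      intro z hz
      obtain ⟨l, hl, rfl⟩ := Finset.mem_image.1 hz
      rw [Finset.mem_Icc] at hl
      refine Finset.mem_filter.2 ⟨(g l).2, (hcode _ _).1 (le_antisymm ?_ (hmono hl.1))⟩
      rw [(hcode _ _).2 h]
      exact hmono hl.2
    have := (Finset.card_le_card hsub).trans (hRx _)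
    rw [Finset.card_image_of_injective _ (fun a b hab => g.injective (Subtype.ext hab)), Fin.card_Icc] at this
    simp only [lo, hi] at this; omega
  -- the three kinds of positions and of indices
  let P := Fin 3 ⊕ (Fin (e - 1) ⊕ Fin (e - 1))
  let pos : P ≃ Fin (2 * e + 1) := ((Equiv.refl _).sumCongr finSumFinEquiv).trans (finSumFinEquiv.trans (finCongr (by omega)))
  let idx : P → Fin (2 * e + 1) := Sum.elim ![A, B, C] (Sum.elim (fun k => (g (lo k)).1) fun k => (g (hi k)).1)
  have hidx : Function.Bijective idx := by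
    refine (Fintype.bijective_iff_injective_and_card idx).2 ⟨?_, by
      rw [Fintype.card_sum, Fintype.card_sum, Fintype.card_fin, Fintype.card_fin, Fintype.card_fin]; omega⟩
    have hg : ∀ l, (g l).1 ≠ A ∧ (g l).1 ≠ B ∧ (g l).1 ≠ C := fun l => by
      have := (g l).2
      simp only [R, Finset.mem_erase, Finset.mem_univ] at this
      exact ⟨this.2.2.1, this.2.1, this.1⟩
    refine Function.Injective.sumElim ?_ (Function.Injective.sumElim ?_ ?_ ?_) ?_
    · intro a b hab
      fin_cases a <;> fin_cases b <;> simp [hAB, hAC, hBC, Ne.symm hAB, Ne.symm hAC, Ne.symm hBC] at hab ⊢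
    · intro a b hab
      have := g.injective (Subtype.ext hab)
      simp only [lo, Fin.mk.injEq] at this
      exact Fin.ext this
    · intro a b hab
      have := g.injective (Subtype.ext hab)
      simp only [hi, Fin.mk.injEq] at this
      exact Fin.ext (by omega)
    · intro a b hab
      have := g.injective (Subtype.ext hab)
      simp only [lo, hi, Fin.mk.injEq] at this
      omega
    · intro a c
      obtain ⟨l, hl⟩ : ∃ l, Sum.elim (fun k => (g (lo k)).1) (fun k => (g (hi k)).1) c = (g l).1 := by
        rcases c with k | k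
        · exact ⟨lo k, rfl⟩
        · exact ⟨hi k, rfl⟩
      rw [hl]
      obtain ⟨h1, h2, h3⟩ := hg l
      fin_cases a
      · exact h1.symm
      · exact h2.symm
      · exact h3.symm
  let u : P → P := Sum.elim Sum.inl fun z => Sum.inr (Sum.inl (Sum.elim id id z))
  let v : P → P := Sum.elim (fun a => Sum.inl (a + 1)) fun z => Sum.inr (Sum.inr (Sum.elim id id z))
  refine ⟨fun k => idx (u (pos.symm k)), fun k => idx (v (pos.symm k)), fun m => ?_, fun k => ?_, ?_⟩
  · obtain ⟨z, rfl⟩ := hidx.2 m
    have hcard : ∀ w : P → P, (Finset.univ.filter fun k => idx (w (pos.symm k)) = idx z).card =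
        ∑ c : P, if w c = z then 1 else 0 := fun w => by
      rw [Finset.card_filter, ← pos.sum_comp]
      simp [hidx.1.eq_iff]
    rw [hcard, hcard]
    rcases z with a | b | b
    · simp only [P, Fintype.sum_sum_type, Fin.sum_univ_three, u, v, Sum.elim_inl, Sum.elim_inr]
      fin_cases a <;> simp
    · simp only [P, Fintype.sum_sum_type, Fin.sum_univ_three, u, v, Sum.elim_inl, Sum.elim_inr]
      simp
    · simp only [P, Fintype.sum_sum_type, Fin.sum_univ_three, u, v, Sum.elim_inl, Sum.elim_inr]
      simp
  · show x (idx (u (pos.symm k))) ≠ x (idx (v (pos.symm k)))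
    generalize pos.symm k = c
    rcases c with a | b | b
    · fin_cases a <;> simp [idx, u, v, Ne.symm hB', Ne.symm hC'.2, hC'.1]
    · simpa [idx, u, v] using hne b
    · simpa [idx, u, v] using hne b
  · have hp : ∀ (a : Fin 3) (h : a.1 < (2 * e + 1)), pos.symm ⟨a.1, h⟩ = Sum.inl a := fun a h => by
      rw [Equiv.symm_apply_eq]; exact Fin.ext (by simp [pos, Equiv.sumCongr, finSumFinEquiv_apply_left])
    have v0 : ((0 : Fin (2 * e + 1)) : ℕ) = 0 := rfl
    have v1 : ((1 : Fin (2 * e + 1)) : ℕ) = 1 := by rw [Fin.val_one']; exact Nat.mod_eq_of_lt (by omega)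
    have v2 : ((2 : Fin (2 * e + 1)) : ℕ) = 2 := Nat.mod_eq_of_lt (show 2 < 2 * e + 1 by omega)
    have e0 : pos.symm (0 : Fin (2 * e + 1)) = Sum.inl 0 := hp 0 (by omega)
    have e1 : pos.symm (1 : Fin (2 * e + 1)) = Sum.inl 1 := by
      rw [show (1 : Fin (2 * e + 1)) = ⟨1, by omega⟩ from Fin.ext v1]; exact hp 1 (by omega)
    have e2 : pos.symm (2 : Fin (2 * e + 1)) = Sum.inl 2 := by
      rw [show (2 : Fin (2 * e + 1)) = ⟨2, by omega⟩ from Fin.ext v2]; exact hp 2 (by omega)
    refine ⟨?_, ?_, ?_⟩ <;> simp [e0, e1, e2, idx, u, v]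

end Groth.Agent.S19390
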