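import Groth.Statements.S19391
import Mathlib

set_option autoImplicit false
universe u
open InvQ

namespace Groth.Agent.S19391

open Polynomial

theorem coefs {R : Type u} [CommRing R] (la mu : Fin 4 → R) :
    W4c6intromoduli.coef la mu 0 = mu 0 * mu 1 * mu 2 * mu 3 ∧
    W4c6intromoduli.coef la mu 1 = -(la 0 * mu 1 * mu 2 * mu 3 + mu 0 * la 1 * mu 2 * mu 3 + mu 0 * mu 1 * la 2 * mu 3 + mu 0 * mu 1 * mu 2 * la 3) ∧
    W4c6intromoduli.coef la mu 2 = la 0 * la 1 * mu 2 * mu 3 + la 0 * mu 1 * la 2 * mu 3 + la 0 * mu 1 * mu 2 * la 3 + mu 0 * la 1 * la 2 * mu 3 + mu 0 * la 1 * mu 2 * la 3 + mu 0 * mu 1 * la 2 * la 3 ∧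
    W4c6intromoduli.coef la mu 3 = -(mu 0 * la 1 * la 2 * la 3 + la 0 * mu 1 * la 2 * la 3 + la 0 * la 1 * mu 2 * la 3 + la 0 * la 1 * la 2 * mu 3) ∧
    W4c6intromoduli.coef la mu 4 = la 0 * la 1 * la 2 * la 3 := by
  have e : W4c6intromoduli.rootPoly la mu = C (mu 0 * mu 1 * mu 2 * mu 3) +
    C (-(la 0 * mu 1 * mu 2 * mu 3 + mu 0 * la 1 * mu 2 * mu 3 + mu 0 * mu 1 * la 2 * mu 3 + mu 0 * mu 1 * mu 2 * la 3)) * X +
    C (la 0 * la 1 * mu 2 * mu 3 + la 0 * mu 1 * la 2 * mu 3 + la 0 * mu 1 * mu 2 * la 3 + mu 0 * la 1 * la 2 * mu 3 + mu 0 * la 1 * mu 2 * la 3 + mu 0 * mu 1 * la 2 * la 3) * X ^ 2 +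
    C (-(mu 0 * la 1 * la 2 * la 3 + la 0 * mu 1 * la 2 * la 3 + la 0 * la 1 * mu 2 * la 3 + la 0 * la 1 * la 2 * mu 3)) * X ^ 3 +
    C (la 0 * la 1 * la 2 * la 3) * X ^ 4 := by
    simp only [W4c6intromoduli.rootPoly, Fin.prod_univ_four, map_add, map_mul, map_neg]
    ring
  simp only [W4c6intromoduli.coef, e, coeff_add, coeff_C, coeff_C_mul, coeff_X_pow, coeff_X]
  refine ⟨?_, ?_, ?_, ?_, ?_⟩ <;> norm_num

theorem invs {R : Type u} [CommRing R] (la mu : Fin 4 → R) :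
    27 * W4c6intromoduli.disc la mu =
      4 * W4c6intromoduli.invI (W4c6intromoduli.coef la mu) ^ 3
        - W4c6intromoduli.invJ (W4c6intromoduli.coef la mu) ^ 2 := by
  obtain ⟨h0, h1, h2, h3, h4⟩ := coefs la mu
  have hs : (Finset.univ : Finset (Fin 4 × Fin 4)).filter (fun p => p.1 < p.2) =
      {(0, 1), (0, 2), (0, 3), (1, 2), (1, 3), (2, 3)} := by decide
  simp only [W4c6intromoduli.disc, hs, W4c6intromoduli.invI, W4c6intromoduli.invJ, h0, h1, h2, h3, h4]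
  repeat rw [Finset.prod_insert (by decide)]
  rw [Finset.prod_singleton]
  ring

/-- For a binary quartic written as a product of four linear forms μ_i X₀ − λ_i X₁, with coefficients
a_0, …, a_4, the discriminant D = ∏_{i<j} (λ_j μ_i − λ_i μ_j)² is a constant multiple of P³ − 6Q²
for the two basic invariants P, Q. With the integral normalisation I = 6P = 12a₀a₄ − 3a₁a₃ + a₂², J
= 72Q = 72a₀a₂a₄ + 9a₁a₂a₃ − 27a₀a₃² − 27a₁²a₄ − 2a₂³ used here, the identity reads 27 D = 4 I³ − J²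
(so the constant is 32: D = 32 (P³ − 6Q²)); it is stated over an arbitrary commutative ring. -/
theorem result (R : Type u) [CommRing R] (la mu : Fin 4 → R) :
    27 * W4c6intromoduli.disc la mu =
      4 * W4c6intromoduli.invI (W4c6intromoduli.coef la mu) ^ 3
        - W4c6intromoduli.invJ (W4c6intromoduli.coef la mu) ^ 2 := by
  exact invs la mu

end Groth.Agent.S19391
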