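import Groth.Statements.S19392
import Groth.Agent.S19391
import Mathlib

set_option autoImplicit false
universe u
open InvQ

namespace Groth.Agent.S19392

open W4c6intromoduli

theorem coef_perm {R : Type u} [CommRing R] (la mu : Fin 4 → R) (σ : Equiv.Perm (Fin 4)) :
    coef (la ∘ σ) (mu ∘ σ) = coef la mu := by
  funext i
  show (rootPoly (la ∘ σ) (mu ∘ σ)).coeff i = (rootPoly la mu).coeff i
  congr 1
  exact Fintype.prod_equiv σ _ _ fun j => rfl

theorem double_root {R : Type u} [CommRing R] (la mu : Fin 4 → R) (t : R) (h0 : la 1 = t * la 0) (h1 : mu 1 = t * mu 0) :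
    invI (coef la mu) = (t * (la 0 * mu 2 - la 2 * mu 0) * (la 0 * mu 3 - la 3 * mu 0)) ^ 2 ∧
    invJ (coef la mu) = -2 * (t * (la 0 * mu 2 - la 2 * mu 0) * (la 0 * mu 3 - la 3 * mu 0)) ^ 3 := by
  obtain ⟨a0, a1, a2, a3, a4⟩ := Groth.Agent.S19391.coefs la mu
  simp only [invI, invJ, a0, a1, a2, a3, a4, h0, h1]
  constructor <;> ring

theorem exists_scalar {k : Type u} [Field k] {a b c d : k} (hab : a ≠ 0 ∨ b ≠ 0) (h : a * d = c * b) :
    ∃ t, c = t * a ∧ d = t * b := by
  rcases hab with ha | hb
  · exact ⟨c / a, by field_simp, by field_simp; linear_combination h⟩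
  · exact ⟨d / b, by field_simp; linear_combination -h, by field_simp⟩

theorem exists_perm2 : ∀ i j : Fin 4, i ≠ j → ∃ σ : Equiv.Perm (Fin 4), σ 0 = i ∧ σ 1 = j := by decide

theorem exists_perm3 : ∀ i j l : Fin 4, i ≠ j → j ≠ l → i ≠ l →
    ∃ σ : Equiv.Perm (Fin 4), σ 0 = i ∧ σ 1 = j ∧ σ 2 = l := by decide

/-- Over a field of characteristic different from 2 and 3, a nonzero binary quartic f has P(f) = Q(f) =
0 for the two basic invariants P, Q if and only if f has a triple zero. Stated for f = ∏_i (μ_i X₀ −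
λ_i X₁) given by four root points (λ_i, μ_i) ≠ (0, 0) (over an algebraically closed field every
nonzero quartic form is of this shape), with the integral invariants I = 6P and J = 72Q of the
coefficients of f; a triple zero means that three of the four root points are pairwise proportional. -/
theorem result (k : Type u) [Field k]
    (h2 : (2 : k) ≠ 0) (h3 : (3 : k) ≠ 0) (la mu : Fin 4 → k) (hne : ∀ i, la i ≠ 0 ∨ mu i ≠ 0) :
    (W4c6intromoduli.invI (W4c6intromoduli.coef la mu) = 0 ∧
        W4c6intromoduli.invJ (W4c6intromoduli.coef la mu) = 0) ↔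
      ∃ i j l : Fin 4, i ≠ j ∧ j ≠ l ∧ i ≠ l ∧
        la i * mu j = la j * mu i ∧ la j * mu l = la l * mu j := by
  constructor
  · rintro ⟨hI, hJ⟩
    have h27 : (27 : k) ≠ 0 := by
      rw [show (27 : k) = 3 ^ 3 by norm_num]
      exact pow_ne_zero _ h3
    have hD : disc la mu = 0 := by
      have := Groth.Agent.S19391.invs la mu
      rw [hI, hJ] at this
      simpa [h27] using this
    obtain ⟨⟨i, j⟩, hij, hd⟩ := Finset.prod_eq_zero_iff.mp hD
    simp only [Finset.mem_filter, Finset.mem_univ, true_and] at hij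
    have hd' : la i * mu j = la j * mu i := by
      have h0 := pow_eq_zero_iff (two_ne_zero) |>.mp hd
      linear_combination -h0
    obtain ⟨σ, hσ0, hσ1⟩ := exists_perm2 i j hij.ne
    obtain ⟨t, ht0, ht1⟩ := exists_scalar (hne i) hd'
    obtain ⟨eI, -⟩ := double_root (la ∘ σ) (mu ∘ σ) t (by simp [hσ0, hσ1, ht0]) (by simp [hσ0, hσ1, ht1])
    rw [coef_perm, hI] at eI
    have ht : t ≠ 0 := by
      rintro rfl
      simp only [zero_mul] at ht0 ht1
      rcases hne j with h | h
      · exact h ht0
      · exact h ht1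
    have h2' := pow_eq_zero_iff (two_ne_zero) |>.mp eI.symm
    simp only [mul_eq_zero, ht, false_or, sub_eq_zero, Function.comp, hσ0] at h2'
    have key : ∀ l, la i * mu l = la l * mu i → la j * mu l = la l * mu j := fun l hl => by
      rw [ht0, ht1]; linear_combination t * hl
    rcases h2' with h | h
    · exact ⟨i, j, σ 2, hij.ne, by rw [← hσ1]; exact σ.injective.ne (by decide),
        by rw [← hσ0]; exact σ.injective.ne (by decide), hd', key _ h⟩
    · exact ⟨i, j, σ 3, hij.ne, by rw [← hσ1]; exact σ.injective.ne (by decide),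
        by rw [← hσ0]; exact σ.injective.ne (by decide), hd', key _ h⟩
  · rintro ⟨i, j, l, hij, hjl, hil, h, h'⟩
    obtain ⟨σ, hσ0, hσ1, hσ2⟩ := exists_perm3 i j l hij hjl hil
    obtain ⟨t, ht0, ht1⟩ := exists_scalar (hne i) h
    obtain ⟨eI, eJ⟩ := double_root (la ∘ σ) (mu ∘ σ) t (by simp [hσ0, hσ1, ht0]) (by simp [hσ0, hσ1, ht1])
    rw [coef_perm] at eI eJ
    simp only [Function.comp, hσ0, hσ2] at eI eJ
    have : t * (la i * mu l - la l * mu i) = 0 := by
      rw [ht0, ht1] at h'; linear_combination h'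
    rw [eI, eJ, this]
    simp

end Groth.Agent.S19392
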