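import Groth.Statements.S19393
import Groth.Prelude.Def_W4c6intromoduliQuartic
import Mathlib

set_option autoImplicit false
universe u
open InvQ

namespace Groth.Agent.S19393

open MvPolynomial
set_option maxHeartbeats 1600000

variable {k : Type u} [Field k]

def br (la mu : Fin 4 → k) (i j : Fin 4) : k := la j * mu i - la i * mu j

def uu (la mu : Fin 4 → k) : k := br la mu 0 1 * br la mu 2 3
def ww (la mu : Fin 4 → k) : k := br la mu 0 3 * br la mu 1 2

lemma coeff_five (a b c d e : k) :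
    ∀ n, (Polynomial.C a - Polynomial.C b * Polynomial.X + Polynomial.C c * Polynomial.X ^ 2
      - Polynomial.C d * Polynomial.X ^ 3 + Polynomial.C e * Polynomial.X ^ 4).coeff n =
    if n = 0 then a else if n = 1 then -b else if n = 2 then c else if n = 3 then -d else
      if n = 4 then e else 0 := by
  intro n
  simp only [Polynomial.coeff_add, Polynomial.coeff_sub, Polynomial.coeff_C_mul, Polynomial.coeff_X_pow,
    Polynomial.coeff_C, Polynomial.coeff_X]
  split_ifs <;> first | omega | simp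

lemma coef_eq (la mu : Fin 4 → k) :
    W4c6intromoduli.coef la mu 0 = mu 0 * mu 1 * mu 2 * mu 3 ∧
    W4c6intromoduli.coef la mu 1 =
      -(la 0*mu 1*mu 2*mu 3 + mu 0*la 1*mu 2*mu 3 + mu 0*mu 1*la 2*mu 3 + mu 0*mu 1*mu 2*la 3) ∧
    W4c6intromoduli.coef la mu 2 =
      la 0*la 1*mu 2*mu 3 + la 0*mu 1*la 2*mu 3 + la 0*mu 1*mu 2*la 3 + mu 0*la 1*la 2*mu 3
          + mu 0*la 1*mu 2*la 3 + mu 0*mu 1*la 2*la 3 ∧
    W4c6intromoduli.coef la mu 3 =
      -(la 0*la 1*la 2*mu 3 + la 0*la 1*mu 2*la 3 + la 0*mu 1*la 2*la 3 + mu 0*la 1*la 2*la 3) ∧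
    W4c6intromoduli.coef la mu 4 = la 0 * la 1 * la 2 * la 3 := by
  have h : W4c6intromoduli.rootPoly la mu =
      Polynomial.C (mu 0 * mu 1 * mu 2 * mu 3)
      - Polynomial.C (la 0*mu 1*mu 2*mu 3 + mu 0*la 1*mu 2*mu 3 + mu 0*mu 1*la 2*mu 3 + mu 0*mu 1*mu 2*la 3)
          * Polynomial.X
      + Polynomial.C (la 0*la 1*mu 2*mu 3 + la 0*mu 1*la 2*mu 3 + la 0*mu 1*mu 2*la 3 + mu 0*la 1*la 2*mu 3
          + mu 0*la 1*mu 2*la 3 + mu 0*mu 1*la 2*la 3) * Polynomial.X ^ 2
      - Polynomial.C (la 0*la 1*la 2*mu 3 + la 0*la 1*mu 2*la 3 + la 0*mu 1*la 2*la 3 + mu 0*la 1*la 2*la 3)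
          * Polynomial.X ^ 3
      + Polynomial.C (la 0 * la 1 * la 2 * la 3) * Polynomial.X ^ 4 := by
    simp only [W4c6intromoduli.rootPoly, Fin.prod_univ_four, map_add, map_mul]
    ring
  simp only [W4c6intromoduli.coef, h, coeff_five]
  simp

lemma invI_eq (la mu : Fin 4 → k) : W4c6intromoduli.invI (W4c6intromoduli.coef la mu) =
    uu la mu ^ 2 + uu la mu * ww la mu + ww la mu ^ 2 := by
  obtain ⟨e0, e1, e2, e3, e4⟩ := coef_eq la mu
  simp only [W4c6intromoduli.invI, e0, e1, e2, e3, e4, uu, ww, br]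
  ring

lemma invJ_eq (la mu : Fin 4 → k) : W4c6intromoduli.invJ (W4c6intromoduli.coef la mu) =
    (uu la mu - ww la mu) * (2 * uu la mu + ww la mu) * (uu la mu + 2 * ww la mu) := by
  obtain ⟨e0, e1, e2, e3, e4⟩ := coef_eq la mu
  simp only [W4c6intromoduli.invJ, e0, e1, e2, e3, e4, uu, ww, br]
  ring

lemma key_factor (u w U W : k) :
    (u^2+u*w+w^2)^3 * ((U-W)*(2*U+W)*(U+2*W))^2 - (U^2+U*W+W^2)^3 * ((u-w)*(2*u+w)*(u+2*w))^2 =
      -27 * ((U*w - W*u) * (U*(u+w) + W*u) * (-U*w - W*(u+w)) * (U*u + W*(u+w)) *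
        (-U*(u+w) - W*w) * (-U*u + W*w)) := by
  ring

lemma equiv_of_cross (la mu la' mu' : Fin 4 → k) (hb : ∀ i j, i ≠ j → br la mu i j ≠ 0)
    (hb' : ∀ i j, i ≠ j → br la' mu' i j ≠ 0) (h : uu la' mu' * ww la mu = ww la' mu' * uu la mu) :
    ∃ (M : Matrix (Fin 2) (Fin 2) k) (c : k), IsUnit M.det ∧ c ≠ 0 ∧
      W4c6intromoduli.binForm la' mu' =
        MvPolynomial.C c * W4c6intromoduli.subst M (W4c6intromoduli.binForm la mu) := by
  simp only [uu, ww, br] at h
  obtain ⟨A, hA⟩ : ∃ A, A = br la' mu' 2 1 * br la mu 0 2 := ⟨_, rfl⟩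
  obtain ⟨B, hB⟩ : ∃ B, B = br la' mu' 0 2 * br la mu 2 1 := ⟨_, rfl⟩
  have hA0 : A ≠ 0 := hA ▸ mul_ne_zero (hb' _ _ (by decide)) (hb _ _ (by decide))
  have hB0 : B ≠ 0 := hB ▸ mul_ne_zero (hb' _ _ (by decide)) (hb _ _ (by decide))
  obtain ⟨M, hM⟩ : ∃ M : Matrix (Fin 2) (Fin 2) k, M =
      !![la 1 * A * mu' 0 - la 0 * B * mu' 1, -(la 1 * A * la' 0 - la 0 * B * la' 1);
         mu 1 * A * mu' 0 - mu 0 * B * mu' 1, -(mu 1 * A * la' 0 - mu 0 * B * la' 1)] := ⟨_, rfl⟩
  let L := fun (l m : Fin 4 → k) (i : Fin 4) =>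
    (C (m i) * X 0 - C (l i) * X 1 : MvPolynomial (Fin 2) k)
  have step : ∀ i s, mu i * M 0 0 - la i * M 1 0 = s * mu' i →
      mu i * M 0 1 - la i * M 1 1 = -(s * la' i) →
      W4c6intromoduli.subst M (L la mu i) = C s * L la' mu' i := by
    intro i s h1 h2
    have e1 := congrArg (C : k →+* MvPolynomial (Fin 2) k) h1
    have e2 := congrArg (C : k →+* MvPolynomial (Fin 2) k) h2
    simp only [map_sub, map_mul, map_neg] at e1 e2
    simp only [L, W4c6intromoduli.subst, map_sub, map_mul, aeval_C, aeval_X, Fin.sum_univ_two,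
      MvPolynomial.algebraMap_eq]
    linear_combination (X 0 : MvPolynomial (Fin 2) k) * e1 + (X 1 : MvPolynomial (Fin 2) k) * e2
  have h0 := step 0 (br la mu 0 1 * A) (by rw [hM]; simp [br]; ring) (by rw [hM]; simp [br]; ring)
  have h1 := step 1 (br la mu 0 1 * B) (by rw [hM]; simp [br]; ring) (by rw [hM]; simp [br]; ring)
  have h2 := step 2 (br la mu 2 1 * br la mu 0 2 * br la' mu' 0 1)
    (by rw [hM, hA, hB]; simp [br]; ring) (by rw [hM, hA, hB]; simp [br]; ring)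
  have hc : br la' mu' 0 3 * (br la mu 3 1 * A) = br la' mu' 3 1 * (br la mu 0 3 * B) := by
    rw [hA, hB]; simp only [br]; linear_combination -h
  have hd3 : br la' mu' 3 1 ≠ 0 := hb' _ _ (by decide)
  have h3 := step 3 (br la mu 3 1 * A * br la' mu' 0 1 / br la' mu' 3 1) (by
      rw [div_mul_eq_mul_div, eq_div_iff hd3, hM]
      simp [br] at hc ⊢
      linear_combination (-mu' 1) * hc) (by
      rw [div_mul_eq_mul_div, ← neg_div, eq_div_iff hd3, hM]
      simp [br] at hc ⊢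
      linear_combination (la' 1) * hc)
  set s3 := br la mu 3 1 * A * br la' mu' 0 1 / br la' mu' 3 1
  set s0 := br la mu 0 1 * A
  set s1 := br la mu 0 1 * B
  set s2 := br la mu 2 1 * br la mu 0 2 * br la' mu' 0 1
  have hs : s0 * s1 * s2 * s3 ≠ 0 := by
    simp only [s0, s1, s2, s3, mul_ne_zero_iff, div_ne_zero_iff]
    exact ⟨⟨⟨⟨hb _ _ (by decide), hA0⟩, hb _ _ (by decide), hB0⟩, ⟨hb _ _ (by decide), hb _ _ (by decide)⟩,
      hb' _ _ (by decide)⟩, ⟨⟨hb _ _ (by decide), hA0⟩, hb' _ _ (by decide)⟩, hd3⟩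
  refine ⟨M, (s0 * s1 * s2 * s3)⁻¹, Ne.isUnit ?_, inv_ne_zero hs, ?_⟩
  · have : M.det = br la mu 0 1 * (A * B) * br la' mu' 0 1 := by
      rw [hM, Matrix.det_fin_two_of]; simp only [br]; ring
    rw [this]
    exact mul_ne_zero (mul_ne_zero (hb _ _ (by decide)) (mul_ne_zero hA0 hB0)) (hb' _ _ (by decide))
  · simp only [W4c6intromoduli.binForm, Fin.prod_univ_four, map_mul]
    simp only [L] at h0 h1 h2 h3
    rw [h0, h1, h2, h3]
    have : (C (s0 * s1 * s2 * s3)⁻¹ : MvPolynomial (Fin 2) k) * (C s0 * C s1 * C s2 * C s3) = 1 := by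
      rw [← map_mul, ← map_mul, ← map_mul, ← map_mul, inv_mul_cancel₀ hs, map_one]
    linear_combination -(((C (mu' 0) * X 0 - C (la' 0) * X 1) * (C (mu' 1) * X 0 - C (la' 1) * X 1) *
      (C (mu' 2) * X 0 - C (la' 2) * X 1) * (C (mu' 3) * X 0 - C (la' 3) * X 1)
        : MvPolynomial (Fin 2) k)) * this

lemma br_ne_zero (la mu : Fin 4 → k) (hd : W4c6intromoduli.disc la mu ≠ 0) :
    ∀ i j, i ≠ j → br la mu i j ≠ 0 := by
  intro i j hij h0
  rw [W4c6intromoduli.disc, Finset.prod_ne_zero_iff] at hd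
  rcases lt_or_gt_of_ne hij with h | h
  · exact hd (i, j) (Finset.mem_filter.2 ⟨Finset.mem_univ _, h⟩) (pow_eq_zero_iff two_ne_zero |>.2 h0)
  · exact hd (j, i) (Finset.mem_filter.2 ⟨Finset.mem_univ _, h⟩)
      (pow_eq_zero_iff two_ne_zero |>.2 (by simp only [br] at h0; linear_combination -h0))

lemma equiv_of_perm (la mu la' mu' : Fin 4 → k) (hb : ∀ i j, i ≠ j → br la mu i j ≠ 0)
    (hb' : ∀ i j, i ≠ j → br la' mu' i j ≠ 0) (π : Equiv.Perm (Fin 4))
    (h : uu la' mu' * ww (la ∘ π) (mu ∘ π) = ww la' mu' * uu (la ∘ π) (mu ∘ π)) :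
    ∃ (M : Matrix (Fin 2) (Fin 2) k) (c : k), IsUnit M.det ∧ c ≠ 0 ∧
      W4c6intromoduli.binForm la' mu' =
        MvPolynomial.C c * W4c6intromoduli.subst M (W4c6intromoduli.binForm la mu) := by
  have e : W4c6intromoduli.binForm (la ∘ π) (mu ∘ π) = W4c6intromoduli.binForm la mu :=
    Equiv.prod_comp π (fun i => (C (mu i) * X 0 - C (la i) * X 1 : MvPolynomial (Fin 2) k))
  rw [← e]
  exact equiv_of_cross _ _ _ _ (fun i j hij => hb _ _ (π.injective.ne hij)) hb' h

/-- Over a field of characteristic different from 2 and 3, two binary quartics without double zeros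
lying in the same fibre of the map to the projective line given by the invariants, i.e. with
proportional (P³, Q²), are equivalent under a linear substitution of the variables up to a nonzero
constant factor. Stated for split quartics f = ∏_i (μ_i X₀ − λ_i X₁) given by root points (λ_i, μ_i)
≠ (0, 0), with the integral invariants I = 6P, J = 72Q and the discriminant ∏_{i<j} (λ_j μ_i − λ_i
μ_j)²; only the assertion that such a fibre is a single orbit is stated (not its closedness). -/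
theorem result (k : Type u) [Field k]
    (h2 : (2 : k) ≠ 0) (h3 : (3 : k) ≠ 0) (la mu la' mu' : Fin 4 → k)
    (hne : ∀ i, la i ≠ 0 ∨ mu i ≠ 0) (hne' : ∀ i, la' i ≠ 0 ∨ mu' i ≠ 0)
    (hd : W4c6intromoduli.disc la mu ≠ 0) (hd' : W4c6intromoduli.disc la' mu' ≠ 0)
    (h : W4c6intromoduli.invI (W4c6intromoduli.coef la mu) ^ 3
          * W4c6intromoduli.invJ (W4c6intromoduli.coef la' mu') ^ 2 =
        W4c6intromoduli.invI (W4c6intromoduli.coef la' mu') ^ 3
          * W4c6intromoduli.invJ (W4c6intromoduli.coef la mu) ^ 2) :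
    ∃ (M : Matrix (Fin 2) (Fin 2) k) (c : k), IsUnit M.det ∧ c ≠ 0 ∧
      W4c6intromoduli.binForm la' mu' =
        MvPolynomial.C c * W4c6intromoduli.subst M (W4c6intromoduli.binForm la mu) := by
  have hb := br_ne_zero la mu hd
  have hb' := br_ne_zero la' mu' hd'
  rw [invI_eq, invJ_eq, invI_eq, invJ_eq, ← sub_eq_zero, key_factor] at h
  have h27 : (-27 : k) ≠ 0 := by
    rw [neg_ne_zero, show (27 : k) = 3 ^ 3 by norm_num]; exact pow_ne_zero _ h3
  simp only [mul_eq_zero, h27, false_or] at h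
  rcases h with ((((h | h) | h) | h) | h) | h
  · refine equiv_of_perm la mu la' mu' hb hb' 1 ?_
    simp [uu, ww, br] at h ⊢; linear_combination h
  · refine equiv_of_perm la mu la' mu' hb hb' (Equiv.swap 2 3) ?_
    simp [uu, ww, br, Equiv.swap_apply_def] at h ⊢; linear_combination h
  · refine equiv_of_perm la mu la' mu' hb hb' (Equiv.swap 1 2) ?_
    simp [uu, ww, br, Equiv.swap_apply_def] at h ⊢; linear_combination h
  · refine equiv_of_perm la mu la' mu' hb hb' (Equiv.swap 2 3 * Equiv.swap 1 3) ?_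
    simp [uu, ww, br, Equiv.swap_apply_def] at h ⊢; linear_combination h
  · refine equiv_of_perm la mu la' mu' hb hb' (Equiv.swap 2 3 * Equiv.swap 1 2) ?_
    simp [uu, ww, br, Equiv.swap_apply_def] at h ⊢; linear_combination h
  · refine equiv_of_perm la mu la' mu' hb hb' (Equiv.swap 1 3) ?_
    simp [uu, ww, br, Equiv.swap_apply_def] at h ⊢; linear_combination h

end Groth.Agent.S19393
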