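import Groth.Statements.S19394
import Mathlib

set_option autoImplicit false
universe u
open InvQ

namespace Groth.Agent.S19394

section
open Finset
variable {k V : Type*} [Field k] [AddCommGroup V] [Module k V]

lemma graded_idems (S N : Module.End k V) (hS : S.IsSemisimple) (hSN : Commute S N) (n : ℕ)
    (hN : N ^ n = 0) : ∃ e : ℕ → Module.End k V, (∀ i, Commute S (e i)) ∧
      (∑ i ∈ range n, e i) = 1 ∧ (∀ i j, e i * e j = if i = j then e i else 0) ∧
      (∀ l i, i ≤ l → e l * N * e i = 0) := by
  classical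
  have key : ∀ i, ∃ ρ : Module.End k V, Commute S ρ ∧ (∀ v, (N ^ i) (ρ v) = 0) ∧
      ∀ v, (N ^ i) v = 0 → ρ v = v := by
    intro i
    have hp : LinearMap.ker (N ^ i) ∈ S.invtSubmodule := by
      rw [Module.End.mem_invtSubmodule]
      intro v hv
      rw [Submodule.mem_comap, LinearMap.mem_ker]
      rw [LinearMap.mem_ker] at hv
      have := LinearMap.congr_fun (hSN.pow_right i).eq v
      simp only [Module.End.mul_apply] at this
      rw [← this, hv, map_zero]
    obtain ⟨q, hq, hc⟩ := Module.End.isSemisimple_iff.1 hS _ hp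
    refine ⟨(LinearMap.ker (N ^ i)).subtype ∘ₗ (LinearMap.ker (N ^ i)).projectionOnto q hc, ?_, ?_, ?_⟩
    · refine LinearMap.ext fun v => ?_
      show S (((LinearMap.ker (N ^ i)).projectionOnto q hc v : LinearMap.ker (N ^ i)) : V) =
        (((LinearMap.ker (N ^ i)).projectionOnto q hc (S v) : LinearMap.ker (N ^ i)) : V)
      obtain ⟨a, b, ha, hb, rfl⟩ : ∃ a b, a ∈ LinearMap.ker (N ^ i) ∧ b ∈ q ∧ a + b = v := by
        have : v ∈ LinearMap.ker (N ^ i) ⊔ q := by rw [hc.sup_eq_top]; exact Submodule.mem_top
        obtain ⟨a, ha, b, hb, e⟩ := Submodule.mem_sup.1 this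
        exact ⟨a, b, ha, hb, e⟩
      have hSa : S a ∈ LinearMap.ker (N ^ i) := hp ha
      have hSb : S b ∈ q := hq hb
      have e1 := Submodule.projectionOnto_apply_left hc ⟨a, ha⟩
      have e2 := Submodule.projectionOnto_apply_left hc ⟨S a, hSa⟩
      have e3 := Submodule.projectionOnto_apply_right hc ⟨b, hb⟩
      have e4 := Submodule.projectionOnto_apply_right hc ⟨S b, hSb⟩
      rw [map_add S, map_add, map_add, e1, e2, e3, e4]
      simp
    · intro v
      exact ((LinearMap.ker (N ^ i)).projectionOnto q hc v).2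
    · intro v hv
      simp [Submodule.projectionOnto_apply_left hc ⟨v, hv⟩]
  choose ρ hρS hρK hρfix using key
  let q : ℕ → Module.End k V := fun d => Nat.rec 1 (fun d r => ρ (n - (d + 1)) * r) d
  have q0 : q 0 = 1 := rfl
  have qs : ∀ d, q (d + 1) = ρ (n - (d + 1)) * q d := fun d => rfl
  have mono : ∀ i j, i ≤ j → ∀ v, (N ^ i) v = 0 → (N ^ j) v = 0 := by
    intro i j h v hv
    obtain ⟨c, rfl⟩ := Nat.exists_eq_add_of_le h
    rw [add_comm, pow_add, Module.End.mul_apply, hv, map_zero]
  have qS : ∀ d, Commute S (q d) := by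
    intro d; induction d with
    | zero => exact Commute.one_right _
    | succ d ih => rw [qs]; exact (hρS _).mul_right ih
  have qK : ∀ d, ∀ v, (N ^ (n - d)) (q d v) = 0 := by
    intro d; cases d with
    | zero => intro v; simp [hN]
    | succ d => intro v; rw [qs, Module.End.mul_apply]; exact hρK _ _
  have qfix : ∀ d i, i ≤ n - d → ∀ v, (N ^ i) v = 0 → q d v = v := by
    intro d; induction d with
    | zero => intros; simp [q0]
    | succ d ih =>
      intro i hi v hv
      rw [qs, Module.End.mul_apply, ih i (by omega) v hv]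
      exact hρfix _ _ (mono _ _ hi _ hv)
  have qidem : ∀ d, q d * q d = q d := fun d => LinearMap.ext fun v =>
    qfix d _ le_rfl _ (qK d v)
  let π : ℕ → Module.End k V := fun i => q (n - i)
  have πfix : ∀ i j, i ≤ j → i ≤ n → ∀ v, (N ^ i) v = 0 → π j v = v := fun i j hij hin v hv =>
    qfix _ i (by omega) v hv
  have πK : ∀ i, i ≤ n → ∀ v, (N ^ i) (π i v) = 0 := fun i hi v => by
    have := qK (n - i) v
    rwa [Nat.sub_sub_self hi] at this
  have ple : ∀ i j, i ≤ j → π i * π j = π i ∧ π j * π i = π i := by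
    intro i j hij
    constructor
    · have : ∀ d e, d ≤ e → q e * q d = q e := by
        intro d e he
        induction e, he using Nat.le_induction with
        | base => exact qidem d
        | succ e _ ih => rw [qs, mul_assoc, ih]
      exact this _ _ (by omega)
    · refine LinearMap.ext fun v => ?_
      rcases le_or_gt i n with hi | hi
      · exact πfix i j hij hi _ (πK i hi v)
      · simp [π, Nat.sub_eq_zero_of_le hi.le, Nat.sub_eq_zero_of_le (hi.le.trans hij), q0]
  have pm : ∀ i j, π i * π j = π (min i j) := fun i j => by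
    rcases le_total i j with h | h
    · rw [min_eq_left h, (ple i j h).1]
    · rw [min_eq_right h, (ple j i h).2]
  refine ⟨fun i => π (i + 1) - π i, fun i => (qS _).sub_right (qS _), ?_, ?_, ?_⟩
  · rw [sum_range_sub π n]
    have h1 : π n = 1 := by simp [π, q0]
    have h0 : π 0 = 0 := LinearMap.ext fun v => by simpa using πK 0 (Nat.zero_le _) v
    rw [h1, h0, sub_zero]
  · intro i j
    simp only [sub_mul, mul_sub, pm]
    rcases lt_trichotomy i j with h | rfl | h
    · simp [h.ne, min_eq_left (show i + 1 ≤ j by omega), min_eq_left (show i + 1 ≤ j + 1 by omega),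
        min_eq_left h.le, min_eq_left (show i ≤ j + 1 by omega)]
    · simp
    · simp [h.ne', min_eq_right (show j + 1 ≤ i by omega), min_eq_right (show j + 1 ≤ i + 1 by omega),
        min_eq_right h.le, min_eq_right (show j ≤ i + 1 by omega)]
  · intro l i hil
    refine LinearMap.ext fun v => ?_
    simp only [Module.End.mul_apply, LinearMap.zero_apply]
    rcases lt_or_ge i n with hi | hi
    · have hu : (N ^ (i + 1)) ((π (i + 1) - π i) v) = 0 := by
        rw [LinearMap.sub_apply, map_sub, πK (i + 1) hi, mono i (i + 1) (by omega) _ (πK i hi.le v),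
          sub_zero]
      have hu' : (N ^ i) (N ((π (i + 1) - π i) v)) = 0 := by
        rw [← Module.End.mul_apply, ← pow_succ]; exact hu
      rw [LinearMap.sub_apply (π (l + 1)), πfix i (l + 1) (by omega) hi.le _ hu',
        πfix i l hil hi.le _ hu', sub_self]
    · simp [π, Nat.sub_eq_zero_of_le hi, Nat.sub_eq_zero_of_le (Nat.le_succ_of_le hi), q0]

lemma conj_family (S N : Module.End k V) (hS : S.IsSemisimple) (hSN : Commute S N) (n : ℕ)
    (hN : N ^ n = 0) : ∃ c : ℕ → ℕ → Module.End k V,
      (∀ l i, i ≤ l → c l i = 0) ∧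
      ∀ t : k, t ≠ 0 → ∃ A A' : Module.End k V, A * A' = 1 ∧ A' * A = 1 ∧
        A * (S + N) * A' = S + ∑ l ∈ range n, ∑ i ∈ range n, t ^ (i - l) • c l i := by
  obtain ⟨e, heS, hsum, horth, hz⟩ := graded_idems S N hS hSN n hN
  refine ⟨fun l i => e l * N * e i, hz, fun t ht => ?_⟩
  refine ⟨∑ i ∈ range n, (t⁻¹) ^ i • e i, ∑ i ∈ range n, t ^ i • e i, ?_, ?_, ?_⟩
  · rw [sum_mul, ← hsum]
    refine sum_congr rfl fun i hi => ?_
    rw [mul_sum, sum_eq_single i]
    · simp [smul_smul, ← mul_pow, ht, horth]
    · intro j _ hj; simp [horth, Ne.symm hj]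
    · simp_all
  · rw [sum_mul, ← hsum]
    refine sum_congr rfl fun i hi => ?_
    rw [mul_sum, sum_eq_single i]
    · simp [smul_smul, ← mul_pow, ht, horth]
    · intro j _ hj; simp [horth, Ne.symm hj]
    · simp_all
  · have hAS : Commute S (∑ i ∈ range n, (t⁻¹) ^ i • e i) :=
      Commute.sum_right _ _ _ fun i _ => (heS i).smul_right _
    have hone : (∑ i ∈ range n, (t⁻¹) ^ i • e i) * (∑ i ∈ range n, t ^ i • e i) = 1 := by
      rw [sum_mul, ← hsum]
      refine sum_congr rfl fun i hi => ?_
      rw [mul_sum, sum_eq_single i]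
      · simp [smul_smul, ← mul_pow, ht, horth]
      · intro j _ hj; simp [horth, Ne.symm hj]
      · simp_all
    rw [mul_add, add_mul, ← hAS.eq, mul_assoc S, hone, mul_one]
    congr 1
    rw [sum_mul, sum_mul]
    refine sum_congr rfl fun l _ => ?_
    rw [mul_sum]
    refine sum_congr rfl fun i _ => ?_
    rcases le_or_gt i l with h | h
    · simp [hz l i h]
    · simp only [smul_mul_assoc, mul_smul_comm, smul_smul]
      congr 1
      rw [pow_sub₀ _ ht h.le, inv_pow, mul_comm]

end

/-- Over an algebraically closed field, the semisimple part of a square matrix B lies in the Zariski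
closure of the orbit of B under conjugation by the general linear group. The semisimple part is
given as S with B = S + N, S semisimple, N nilpotent and SN = NS; membership in the Zariski closure
is spelled out as: every polynomial in the n² matrix entries vanishing at all conjugates A B A⁻¹ (A
invertible) vanishes at S. -/
theorem result (k : Type u) [Field k] [IsAlgClosed k] (n : ℕ)
    (B S N : Matrix (Fin n) (Fin n) k) (hS : Module.End.IsSemisimple (Matrix.toLin' S))
    (hN : IsNilpotent N) (hSN : Commute S N) (hB : B = S + N)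
    (F : MvPolynomial (Fin n × Fin n) k)
    (hF : ∀ A : Matrix (Fin n) (Fin n) k, IsUnit A.det →
      MvPolynomial.eval (fun p => (A * B * A⁻¹) p.1 p.2) F = 0) :
    MvPolynomial.eval (fun p => S p.1 p.2) F = 0 := by
  classical
  let φ : Matrix (Fin n) (Fin n) k ≃ₐ[k] Module.End k (Fin n → k) := Matrix.toLinAlgEquiv'
  have hNn : (φ N) ^ n = 0 := by
    obtain ⟨m, hm⟩ : IsNilpotent (φ N) := hN.map φ
    refine LinearMap.ker_eq_top.1 (top_le_iff.1 ?_)
    have := Module.End.ker_pow_le_ker_pow_finrank (φ N) m
    rwa [hm, LinearMap.ker_zero, Module.finrank_fin_fun] at this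
  obtain ⟨c, hc0, hc⟩ := conj_family (φ S) (φ N) hS (hSN.map φ) n hNn
  let C : Fin n × Fin n → Polynomial k := fun p =>
    Polynomial.C (S p.1 p.2) + ∑ l ∈ Finset.range n, ∑ i ∈ Finset.range n,
      Polynomial.X ^ (i - l) * Polynomial.C (φ.symm (c l i) p.1 p.2)
  have hG : ∀ t, (MvPolynomial.aeval C F).eval t = MvPolynomial.eval (fun p => (C p).eval t) F := by
    intro t
    rw [← Polynomial.coe_aeval_eq_eval, ← AlgHom.comp_apply, MvPolynomial.comp_aeval,
      MvPolynomial.aeval_eq_eval]
  have hzero : MvPolynomial.aeval C F = 0 := by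
    refine Polynomial.eq_zero_of_infinite_isRoot _ ?_
    refine (Set.finite_singleton (0 : k)).infinite_compl.mono fun t ht => ?_
    have ht' : t ≠ 0 := ht
    obtain ⟨A, A', h1, h2, h3⟩ := hc t ht'
    have e1 : φ.symm A * φ.symm A' = 1 := by rw [← map_mul, h1, map_one]
    have e2 : φ.symm A * B * φ.symm A' = S + ∑ l ∈ Finset.range n, ∑ i ∈ Finset.range n, t ^ (i - l) • φ.symm (c l i) := by
      have := congrArg φ.symm h3
      rw [← map_add, ← hB] at this
      simpa [map_sum] using this
    have hdet : IsUnit (φ.symm A).det := (φ.symm A).isUnit_det_of_right_inverse e1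
    have := hF (φ.symm A) hdet
    rw [Matrix.inv_eq_right_inv e1, e2] at this
    show (MvPolynomial.aeval C F).eval t = 0
    rw [hG]
    refine Eq.trans ?_ this
    congr 2
    funext p
    simp only [C, Polynomial.eval_add, Polynomial.eval_C, Polynomial.eval_finsetSum, Polynomial.eval_mul,
      Polynomial.eval_pow, Polynomial.eval_X, Matrix.add_apply, Matrix.sum_apply, Matrix.smul_apply, smul_eq_mul]
  have h0 := hG 0
  rw [hzero, Polynomial.eval_zero] at h0
  rw [h0]
  congr 2
  funext p
  simp only [C, Polynomial.eval_add, Polynomial.eval_C, Polynomial.eval_finsetSum, Polynomial.eval_mul,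
    Polynomial.eval_pow, Polynomial.eval_X]
  rw [Finset.sum_eq_zero fun l _ => Finset.sum_eq_zero fun i _ => ?_, add_zero]
  rcases le_or_gt i l with h | h
  · simp [hc0 l i h]
  · simp [zero_pow (show i - l ≠ 0 by omega)]

end Groth.Agent.S19394
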