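import Groth.Statements.S19396
import Mathlib
import Groth.Agent.FF.Misc

set_option autoImplicit false
universe u v
open FunFld
open Groth.Agent.FF

namespace Groth.Agent.S19396

/-- On an elliptic curve with base point 0, if f has a double pole at 0 and no other pole and g a triple
pole at 0 and no other pole, then for n ≥ 2 the functions 1, f, …, f^[n/2], g, fg, …, f^[(n−3)/2] g
form a basis of the space of functions with at most an n-fold pole at 0. Stated for a function field
K/k of one variable of genus 1 with a place P of degree 1 in the role of the curve and its base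
point: the family indexed by Fin (n/2 + 1) ⊕ Fin ((n − 1)/2), sending i on the left to f^i and i on
the right to f^i g, is linearly independent over k and spans L(nP). -/
theorem result (k : Type u) (K : Type v) [Field k] [Field K]
    [Algebra k K] (hK : FunFld.IsFunctionField k K) (hgen : FunFld.genus k K = 1)
    (P : FunFld.Place k K) (hP : P.deg = 1) (f g : K)
    (hf : f ∈ FunFld.L (Finsupp.single P 2)) (hf2 : P.ord f = -2)
    (hg : g ∈ FunFld.L (Finsupp.single P 3)) (hg3 : P.ord g = -3) (n : ℕ) (hn : 2 ≤ n) :
    LinearIndependent k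
        (Sum.elim (fun i : Fin (n / 2 + 1) => f ^ (i : ℕ)) (fun i : Fin ((n - 1) / 2) => f ^ (i : ℕ) * g)) ∧
      Submodule.span k (Set.range
        (Sum.elim (fun i : Fin (n / 2 + 1) => f ^ (i : ℕ)) (fun i : Fin ((n - 1) / 2) => f ^ (i : ℕ) * g))) =
        FunFld.L (Finsupp.single P (n : ℤ)) := by
  classical
  have hdeg : ∀ j : ℤ, Divisor.deg (Finsupp.single P j : Divisor k K) = j := fun j => by
    rw [deg_single, hP]; simp
  have hf0 : f ≠ 0 := fun h => by rw [h, ord_zero] at hf2; omega
  have hg0 : g ≠ 0 := fun h => by rw [h, ord_zero] at hg3; omega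
  set v := Sum.elim (fun i : Fin (n / 2 + 1) => f ^ (i : ℕ)) (fun i : Fin ((n - 1) / 2) => f ^ (i : ℕ) * g) with hv
  have hv0 : ∀ i, v i ≠ 0 := by
    rintro (i | i)
    exacts [pow_ne_zero _ hf0, mul_ne_zero (pow_ne_zero _ hf0) hg0]
  have hord : ∀ i, P.ord (v i) = Sum.elim (fun i : Fin (n / 2 + 1) => -2 * (i : ℤ))
      (fun i : Fin ((n - 1) / 2) => -2 * (i : ℤ) - 3) i := by
    rintro (i | i)
    · simp [v, ord_pow, hf2]; ring
    · simp [v, ord_mul P (pow_ne_zero _ hf0) hg0, ord_pow, hf2, hg3]; ring
  have hinj : Function.Injective fun i => P.ord (v i) := by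
    rintro (i | i) (j | j) h <;> simp only [hord, Sum.elim_inl, Sum.elim_inr] at h
    · exact congrArg Sum.inl (Fin.ext (by omega))
    · omega
    · omega
    · exact congrArg Sum.inr (Fin.ext (by omega))
  have hli : LinearIndependent k v := linearIndependent_of_ord P v hv0 hinj
  have hmem : ∀ i, v i ∈ L (Finsupp.single P (n : ℤ) : Divisor k K) := fun i => by
    refine (mem_L_iff_ord (hv0 i)).2 fun R => ?_
    rcases eq_or_ne R P with rfl | hR
    · rw [hord, Finsupp.single_eq_same]
      rcases i with i | i <;> simp <;> omega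
    · have a := (mem_L_iff_ord hf0).1 hf R
      have b := (mem_L_iff_ord hg0).1 hg R
      rw [Finsupp.single_eq_of_ne hR] at a b ⊢
      have hnn : ∀ e : ℕ, 0 ≤ (e : ℤ) * R.ord f := fun e => mul_nonneg (Int.natCast_nonneg e) (by omega)
      rcases i with i | i
      · have := hnn i; simp [v, ord_pow]; omega
      · have := hnn i; simp [v, ord_mul R (pow_ne_zero _ hf0) hg0, ord_pow]; omega
  refine ⟨hli, ?_⟩
  haveI := finite_L hK (Finsupp.single P (n : ℤ) : Divisor k K)
  refine Submodule.eq_of_le_of_finrank_eq (Submodule.span_le.2 (by rintro _ ⟨i, rfl⟩; exact hmem i)) ?_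
  rw [finrank_span_eq_card hli]
  have := ell_of_deg_large hK (D := (Finsupp.single P (n : ℤ) : Divisor k K)) (by rw [hgen, hdeg]; omega)
  rw [hgen, hdeg, ell] at this
  simp only [Fintype.card_sum, Fintype.card_fin]
  omega

end Groth.Agent.S19396
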