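import Groth.Statements.S19397
import Groth.Agent.FF.Weierstrass
import Groth.Agent.FF.RatPlaces

set_option autoImplicit false
universe u v
open FunFld

namespace Groth.Agent.S19397

open FunFld Groth.Agent.FF Groth.Agent.FF.Rat
open scoped WithZero

universe p q

variable {k : Type p} {K : Type q} [Field k] [Field K] [Algebra k K]

lemma mem_ker {P : Place k K} {a b : k} {x y : K} (hx : P.ord x = -2) (hy : P.ord y = -3)
    (he : y ^ 2 = x ^ 3 + algebraMap k K a * x + algebraMap k K b) (g : MvPolynomial (Fin 2) k) :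
    MvPolynomial.aeval ![x, y] g = 0 ↔ g ∈ Ideal.span {MvPolynomial.X 1 ^ 2 -
      (MvPolynomial.X 0 ^ 3 + MvPolynomial.C a * MvPolynomial.X 0 + MvPolynomial.C b : MvPolynomial (Fin 2) k)} := by
  set W : MvPolynomial (Fin 2) k := MvPolynomial.X 1 ^ 2 -
      (MvPolynomial.X 0 ^ 3 + MvPolynomial.C a * MvPolynomial.X 0 + MvPolynomial.C b) with hW
  have hW0 : MvPolynomial.aeval ![x, y] W = 0 := by
    simp [hW, he]
  have hred : ∀ g : MvPolynomial (Fin 2) k, ∃ A B : Polynomial k,
      g - (Polynomial.aeval (MvPolynomial.X 0) A + Polynomial.aeval (MvPolynomial.X 0) B * MvPolynomial.X 1) ∈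
        Ideal.span {W} := fun g => by
    induction g using MvPolynomial.induction_on with
    | C c => exact ⟨Polynomial.C c, 0, by simp [MvPolynomial.algebraMap_eq]⟩
    | add g₁ g₂ h₁ h₂ =>
      obtain ⟨A₁, B₁, h₁⟩ := h₁
      obtain ⟨A₂, B₂, h₂⟩ := h₂
      refine ⟨A₁ + A₂, B₁ + B₂, ?_⟩
      convert Ideal.add_mem _ h₁ h₂ using 1
      simp only [map_add]; ring
    | mul_X g i h =>
      obtain ⟨A, B, h⟩ := h
      match i with
      | 0 =>
        refine ⟨A * Polynomial.X, B * Polynomial.X, ?_⟩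
        convert Ideal.mul_mem_right (MvPolynomial.X 0) _ h using 1
        simp only [map_mul, Polynomial.aeval_X]; ring
      | 1 =>
        refine ⟨B * (Polynomial.X ^ 3 + Polynomial.C a * Polynomial.X + Polynomial.C b), A, ?_⟩
        convert Ideal.add_mem _ (Ideal.mul_mem_right (MvPolynomial.X 1) _ h)
          (Ideal.mul_mem_left _ (Polynomial.aeval (MvPolynomial.X 0) B) (Ideal.mem_span_singleton_self W)) using 1
        simp only [map_mul, map_add, map_pow, Polynomial.aeval_X, Polynomial.aeval_C, MvPolynomial.algebraMap_eq, hW]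
        ring
  constructor
  · intro hg
    obtain ⟨A, B, h⟩ := hred g
    obtain ⟨w, hw⟩ := Ideal.mem_span_singleton'.1 h
    have h0 := congrArg (MvPolynomial.aeval ![x, y]) hw
    simp only [map_mul, map_sub, map_add, hW0, mul_zero, hg, ← Polynomial.aeval_algHom_apply,
      MvPolynomial.aeval_X, Matrix.cons_val_zero, Matrix.cons_val_one] at h0
    have hsum : Polynomial.aeval x A + Polynomial.aeval x B * y = 0 := by linear_combination h0
    have hneg : P.ord x < 0 := by omega
    have hy0 : y ≠ 0 := fun h => by simp [h, ord_zero] at hy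
    by_cases hB : B = 0
    · rw [hB, map_zero, zero_mul, add_zero] at hsum
      by_cases hA : A = 0
      · simpa [hA, hB] using h
      · exact absurd hsum (ord_aeval_of_pole hneg hA).1
    · exfalso
      have hBy := ord_mul P (ord_aeval_of_pole hneg hB).1 hy0
      by_cases hA : A = 0
      · rw [hA, map_zero, zero_add] at hsum
        exact mul_ne_zero (ord_aeval_of_pole hneg hB).1 hy0 hsum
      · rw [eq_neg_of_add_eq_zero_right hsum, show P.ord (-(Polynomial.aeval x A)) = P.ord (Polynomial.aeval x A) from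
          congrArg (fun v => -WithZero.log v) (P.1.map_neg _), (ord_aeval_of_pole hneg hA).2,
          (ord_aeval_of_pole hneg hB).2, hx, hy] at hBy
        omega
  · intro h
    obtain ⟨w, rfl⟩ := Ideal.mem_span_singleton'.1 h
    rw [map_mul, hW0, mul_zero]

lemma exists_aut {P P' : Place k K} {a b : k} {x y x' y' : K} (hx : P.ord x = -2) (hy : P.ord y = -3)
    (he : y ^ 2 = x ^ 3 + algebraMap k K a * x + algebraMap k K b)
    (hx' : P'.ord x' = -2) (hy' : P'.ord y' = -3)
    (he' : y' ^ 2 = x' ^ 3 + algebraMap k K a * x' + algebraMap k K b)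
    (hxy : IntermediateField.adjoin k ({x, y} : Set K) = ⊤)
    (hxy' : IntermediateField.adjoin k ({x', y'} : Set K) = ⊤) :
    ∃ σ : K ≃ₐ[k] K, σ x = x' ∧ σ y = y' := by
  let φ : MvPolynomial (Fin 2) k →ₐ[k] K := MvPolynomial.aeval ![x, y]
  let φ' : MvPolynomial (Fin 2) k →ₐ[k] K := MvPolynomial.aeval ![x', y']
  haveI : (RingHom.ker φ).IsPrime := RingHom.ker_isPrime _
  have hker : ∀ g, φ g = 0 ↔ φ' g = 0 := fun g => (mem_ker hx hy he g).trans (mem_ker hx' hy' he' g).symm
  let g₁ := Ideal.kerLiftAlg φ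
  let g₂ : (MvPolynomial (Fin 2) k ⧸ RingHom.ker φ) →ₐ[k] K := Ideal.Quotient.liftₐ _ φ' fun g hg => (hker g).1 hg
  have hg₁ : Function.Injective g₁ := Ideal.kerLiftAlg_injective φ
  have hg₂ : Function.Injective g₂ := (injective_iff_map_eq_zero g₂).2 fun z hz => by
    obtain ⟨g, rfl⟩ := Ideal.Quotient.mk_surjective z
    exact Ideal.Quotient.eq_zero_iff_mem.2 ((hker g).2 hz)
  let e₁ : FractionRing (MvPolynomial (Fin 2) k ⧸ RingHom.ker φ) →ₐ[k] K := IsFractionRing.liftAlgHom hg₁
  let e₂ : FractionRing (MvPolynomial (Fin 2) k ⧸ RingHom.ker φ) →ₐ[k] K := IsFractionRing.liftAlgHom hg₂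
  have h₁ : ∀ z, e₁ (algebraMap _ _ z) = g₁ z := fun z => IsFractionRing.lift_algebraMap hg₁ z
  have h₂ : ∀ z, e₂ (algebraMap _ _ z) = g₂ z := fun z => IsFractionRing.lift_algebraMap hg₂ z
  let mk := fun i : Fin 2 => algebraMap _ (FractionRing (MvPolynomial (Fin 2) k ⧸ RingHom.ker φ))
    (Ideal.Quotient.mk (RingHom.ker φ) (MvPolynomial.X i))
  have hX : ∀ i, e₁ (mk i) = ![x, y] i := fun i => (h₁ _).trans (MvPolynomial.aeval_X _ i)
  have hX' : ∀ i, e₂ (mk i) = ![x', y'] i := fun i => (h₂ _).trans (MvPolynomial.aeval_X _ i)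
  have hb₁ : Function.Bijective e₁ := ⟨e₁.injective, fun z => by
    have hle : IntermediateField.adjoin k ({x, y} : Set K) ≤ e₁.fieldRange :=
      IntermediateField.adjoin_le_iff.2 (by rintro w (rfl | rfl); exacts [⟨_, hX 0⟩, ⟨_, hX 1⟩])
    exact hle (hxy ▸ IntermediateField.mem_top)⟩
  have hb₂ : Function.Bijective e₂ := ⟨e₂.injective, fun z => by
    have hle : IntermediateField.adjoin k ({x', y'} : Set K) ≤ e₂.fieldRange :=
      IntermediateField.adjoin_le_iff.2 (by rintro w (rfl | rfl); exacts [⟨_, hX' 0⟩, ⟨_, hX' 1⟩])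
    exact hle (hxy' ▸ IntermediateField.mem_top)⟩
  refine ⟨(AlgEquiv.ofBijective e₁ hb₁).symm.trans (AlgEquiv.ofBijective e₂ hb₂), ?_, ?_⟩
  · rw [AlgEquiv.trans_apply, show (AlgEquiv.ofBijective e₁ hb₁).symm x = mk 0 from
      (AlgEquiv.symm_apply_eq _).2 (hX 0).symm]
    exact hX' 0
  · rw [AlgEquiv.trans_apply, show (AlgEquiv.ofBijective e₁ hb₁).symm y = mk 1 from
      (AlgEquiv.symm_apply_eq _).2 (hX 1).symm]
    exact hX' 1

lemma aut_ext {x y : K} (hxy : IntermediateField.adjoin k ({x, y} : Set K) = ⊤) {σ τ : K ≃ₐ[k] K}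
    (hx : σ x = τ x) (hy : σ y = τ y) : σ = τ := by
  refine AlgEquiv.ext fun z => ?_
  have hz : z ∈ IntermediateField.adjoin k ({x, y} : Set K) := hxy ▸ IntermediateField.mem_top
  induction hz using IntermediateField.adjoin_induction with
  | mem w hw => rcases hw with rfl | rfl <;> assumption
  | algebraMap c => simp
  | add _ _ _ _ h₁ h₂ => simp [h₁, h₂]
  | inv _ _ h => simp [h]
  | mul _ _ _ _ h₁ h₂ => simp [h₁, h₂]

lemma card_roots_one [IsAlgClosed k] (n : ℕ) (hn : (n : k) ≠ 0) : Nat.card {u : k // u ^ n = 1} = n := by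
  have hn0 : n ≠ 0 := fun h => hn (by simp [h])
  have h := Polynomial.card_rootSet_eq_natDegree (K := k) (p := Polynomial.X ^ n - Polynomial.C (1 : k))
    ((Polynomial.separable_X_pow_sub_C (1 : k) hn one_ne_zero)) (IsAlgClosed.splits _)
  rw [Polynomial.natDegree_X_pow_sub_C, ← Nat.card_eq_fintype_card] at h
  conv_rhs => rw [← h]
  refine Nat.card_congr (Equiv.subtypeEquivRight fun u => ?_)
  rw [Polynomial.mem_rootSet_of_ne (Polynomial.X_pow_sub_C_ne_zero (Nat.pos_of_ne_zero hn0) _)]
  simp [sub_eq_zero]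

open Classical in
/-- Over an algebraically closed field of characteristic different from 2 and 3, the automorphism group
of an elliptic curve (automorphisms fixing the base point) with invariant j has order 2 if j ≠ 0,
12³, order 4 if j = 12³ and order 6 if j = 0. Stated for the function field K/k of the curve: K of
genus 1 generated by x, y with y² = x³ + a x + b and 4a³ + 27b² ≠ 0, P the place where x has its
double and y its triple pole (and no other poles), so that j = 12³ · 4a³/(4a³ + 27b²) and the three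
cases are a, b ≠ 0; b = 0; a = 0; the automorphisms are the k-algebra automorphisms of K preserving
the valuation of P. -/
theorem result (k : Type u) (K : Type v) [Field k]
    [IsAlgClosed k] [Field K] [Algebra k K] (h2 : (2 : k) ≠ 0) (h3 : (3 : k) ≠ 0)
    (hK : FunFld.IsFunctionField k K) (hgen : FunFld.genus k K = 1) (P : FunFld.Place k K)
    (a b : k) (hdisc : 4 * a ^ 3 + 27 * b ^ 2 ≠ 0) (x y : K)
    (heq : y ^ 2 = x ^ 3 + algebraMap k K a * x + algebraMap k K b)
    (hxy : IntermediateField.adjoin k ({x, y} : Set K) = ⊤)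
    (hx : x ∈ FunFld.L (Finsupp.single P 2)) (hx2 : P.ord x = -2)
    (hy : y ∈ FunFld.L (Finsupp.single P 3)) (hy3 : P.ord y = -3) :
    Nat.card {σ : K ≃ₐ[k] K // ∀ z : K, P.1 (σ z) = P.1 z} =
      if a = 0 then 6 else if b = 0 then 4 else 2 := by
  classical
  have hx0 : x ≠ 0 := fun h => by simp [h, Groth.Agent.FF.ord_zero] at hx2
  have hy0 : y ≠ 0 := fun h => by simp [h, Groth.Agent.FF.ord_zero] at hy3
  have hxx : ∀ n, x ^ n ≠ 0 := fun n => pow_ne_zero n hx0
  haveI := Groth.Agent.FF.finite_L hK (Finsupp.single P (2 : ℤ))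
  haveI := Groth.Agent.FF.finite_L hK (Finsupp.single P (3 : ℤ))
  have hcomap : ∀ (σ : K ≃ₐ[k] K), (∀ z, P.1 (σ z) = P.1 z) → ∀ (n : ℤ) (z : K),
      z ∈ FunFld.L (Finsupp.single P n) → σ z ∈ FunFld.L (Finsupp.single P n) := fun σ hσ n z hz Q => by
    have h := hz (Groth.Agent.FF.comapPlace σ Q)
    rw [Groth.Agent.FF.comapPlace_apply] at h
    rcases eq_or_ne Q P with rfl | hQ
    · have h2 := hz Q
      rwa [hσ z]
    · have hne : Groth.Agent.FF.comapPlace σ Q ≠ P := fun he => hQ (Subtype.ext (Valuation.ext fun w => by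
        have h1 : P.1 (σ.symm w) = Q.1 w := by
          conv_lhs => rw [← he]
          simp
        rw [← h1]
        conv_rhs => rw [← σ.apply_symm_apply w]
        rw [hσ]))
      rwa [Finsupp.single_eq_of_ne hne, ← Finsupp.single_eq_of_ne (b := n) hQ] at h
  have hL2 : FunFld.L (Finsupp.single P (2 : ℤ)) = Submodule.span k (Set.range ![(1 : K), x]) := by
    refine (Submodule.eq_of_le_of_finrank_eq ?_ ?_).symm
    · rw [Submodule.span_le]
      rintro _ ⟨i, rfl⟩
      fin_cases i
      · intro Q; simp only [Fin.zero_eta, Matrix.cons_val_zero, map_one]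
        rw [← WithZero.exp_zero, WithZero.exp_le_exp]
        rcases eq_or_ne Q P with rfl | hQ
        · simp
        · simp [Finsupp.single_eq_of_ne hQ]
      · exact hx
    · rw [finrank_span_eq_card (Groth.Agent.FF.linearIndependent_of_ord P _ (fun i => by fin_cases i <;> simp [hx0])
        (fun i j h => by fin_cases i <;> fin_cases j <;> simp_all [Groth.Agent.FF.ord_one]))]
      have h := Groth.Agent.FF.ell_of_deg_large hK (D := Finsupp.single P (2 : ℤ))
        (by rw [Groth.Agent.FF.deg_single_ac hK, hgen]; norm_num)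
      rw [Groth.Agent.FF.deg_single_ac hK, hgen] at h
      simp only [FunFld.ell] at h
      simp only [Fintype.card_fin]
      omega
  have hL3 : FunFld.L (Finsupp.single P (3 : ℤ)) = Submodule.span k (Set.range ![(1 : K), x, y]) := by
    refine (Submodule.eq_of_le_of_finrank_eq ?_ ?_).symm
    · rw [Submodule.span_le]
      rintro _ ⟨i, rfl⟩
      fin_cases i
      · intro Q; simp only [Fin.zero_eta, Matrix.cons_val_zero, map_one]
        rw [← WithZero.exp_zero, WithZero.exp_le_exp]
        rcases eq_or_ne Q P with rfl | hQ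
        · simp
        · simp [Finsupp.single_eq_of_ne hQ]
      · intro Q
        refine (hx Q).trans ?_
        rw [WithZero.exp_le_exp]
        rcases eq_or_ne Q P with rfl | hQ
        · simp
        · simp [Finsupp.single_eq_of_ne hQ]
      · exact hy
    · rw [finrank_span_eq_card (Groth.Agent.FF.linearIndependent_of_ord P _ (fun i => by fin_cases i <;> simp [hx0, hy0])
        (fun i j h => by fin_cases i <;> fin_cases j <;> simp_all [Groth.Agent.FF.ord_one]))]
      have h := Groth.Agent.FF.ell_of_deg_large hK (D := Finsupp.single P (3 : ℤ))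
        (by rw [Groth.Agent.FF.deg_single_ac hK, hgen]; norm_num)
      rw [Groth.Agent.FF.deg_single_ac hK, hgen] at h
      simp only [FunFld.ell] at h
      simp only [Fintype.card_fin]
      omega
  have hLI : LinearIndependent k ![(1 : K), x, x ^ 2, x ^ 3, y, x * y] := by
    refine Groth.Agent.FF.linearIndependent_of_ord P _
      (fun i => by fin_cases i <;> simp [hx0, hy0, hxx]) (fun i j h => ?_)
    have e : ∀ l, P.ord (![(1 : K), x, x ^ 2, x ^ 3, y, x * y] l) = ![(0 : ℤ), -2, -4, -6, -3, -5] l := fun l => by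
      fin_cases l <;> simp [Groth.Agent.FF.ord_one, Groth.Agent.FF.ord_pow, Groth.Agent.FF.ord_mul P hx0 hy0, hx2, hy3]
    simp only [e] at h
    fin_cases i <;> fin_cases j <;> simp_all
  have hshape : ∀ (σ : K ≃ₐ[k] K), (∀ z, P.1 (σ z) = P.1 z) → ∃ u : k,
      (u ≠ 0 ∧ a * (u ^ 4 - 1) = 0 ∧ b * (u ^ 6 - 1) = 0) ∧
        σ x = algebraMap k K (u ^ 2) * x ∧ σ y = algebraMap k K (u ^ 3) * y := by
    intro σ hσ
    have h2m := hcomap σ hσ 2 x hx
    have h3m := hcomap σ hσ 3 y hy
    rw [hL2, Submodule.mem_span_range_iff_exists_fun] at h2m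
    rw [hL3, Submodule.mem_span_range_iff_exists_fun] at h3m
    obtain ⟨c, hc⟩ := h2m
    obtain ⟨d, hd⟩ := h3m
    simp only [Fin.sum_univ_two, Matrix.cons_val_zero, Matrix.cons_val_one, Algebra.smul_def, mul_one] at hc
    simp only [Fin.sum_univ_three, Matrix.cons_val_zero, Matrix.cons_val_one, Matrix.cons_val, Algebra.smul_def,
      mul_one] at hd
    have hcne : c 1 ≠ 0 := fun h0 => by
      rw [h0, map_zero, zero_mul, add_zero] at hc
      have := σ.injective ((σ.commutes (c 0)).trans hc)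
      rw [← this, Groth.Agent.FF.ord_algebraMap] at hx2
      omega
    have hdne : d 2 ≠ 0 := fun h0 => by
      have hm : σ y ∈ FunFld.L (Finsupp.single P (2 : ℤ)) := by
        rw [hL2, Submodule.mem_span_range_iff_exists_fun]
        exact ⟨![d 0, d 1], by simp [← hd, h0, Algebra.smul_def]⟩
      have h4 := hm P
      rw [hσ, Groth.Agent.FF.v_eq_exp P hy0, hy3, Finsupp.single_eq_same, WithZero.exp_le_exp] at h4
      omega
    have hco := Fintype.linearIndependent_iff.1 hLI
      ![d 0 ^ 2 - c 0 ^ 3 - a * c 0 - b + d 2 ^ 2 * b,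
        d 2 ^ 2 * a + 2 * d 1 * d 0 - 3 * c 1 * c 0 ^ 2 - a * c 1,
        d 1 ^ 2 - 3 * c 1 ^ 2 * c 0, d 2 ^ 2 - c 1 ^ 3, 2 * d 2 * d 0, 2 * d 2 * d 1] (by
      have e := congrArg σ heq
      simp only [map_add, map_mul, map_pow, σ.commutes, ← hc, ← hd] at e
      simp only [Fin.sum_univ_six, Matrix.cons_val_zero, Matrix.cons_val_one, Matrix.cons_val, Algebra.smul_def,
        map_sub, map_add, map_mul, map_pow, map_ofNat]
      linear_combination e - algebraMap k K (d 2) ^ 2 * heq)
    have hd0 : d 0 = 0 := by simpa [h2, hdne] using hco 4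
    have hd1 : d 1 = 0 := by simpa [h2, hdne] using hco 5
    have hc0 : c 0 = 0 := by simpa [h3, hcne, hd1] using hco 2
    have e3 : d 2 ^ 2 = c 1 ^ 3 := by simpa [sub_eq_zero] using hco 3
    have e1 : d 2 ^ 2 * a = a * c 1 := by simpa [hd0, hd1, hc0, sub_eq_zero] using hco 1
    have e0 : d 2 ^ 2 * b = b := by
      have := hco 0
      simp only [Matrix.cons_val_zero, hd0, hc0] at this
      linear_combination this
    have hu2 : (d 2 / c 1) ^ 2 = c 1 := by
      rw [_root_.div_pow, e3]; field_simp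
    have hu3 : (d 2 / c 1) ^ 3 = d 2 := by
      rw [pow_succ, hu2, mul_div_cancel₀ _ hcne]
    refine ⟨d 2 / c 1, ⟨div_ne_zero hdne hcne, ?_, ?_⟩, ?_, ?_⟩
    · rw [show (d 2 / c 1) ^ 4 = ((d 2 / c 1) ^ 2) ^ 2 by ring, hu2]
      refine mul_left_cancel₀ hcne ?_
      linear_combination e1 - a * e3
    · rw [show (d 2 / c 1) ^ 6 = ((d 2 / c 1) ^ 2) ^ 3 by ring, hu2]
      linear_combination e0 - b * e3
    · rw [hu2, ← hc, hc0, map_zero, zero_add]
    · rw [hu3, ← hd, hd0, hd1, map_zero, zero_mul, add_zero, zero_add]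
  have hex : ∀ u : {u : k // u ≠ 0 ∧ a * (u ^ 4 - 1) = 0 ∧ b * (u ^ 6 - 1) = 0},
      ∃ σ : {σ : K ≃ₐ[k] K // ∀ z : K, P.1 (σ z) = P.1 z},
        σ.1 x = algebraMap k K (u.1 ^ 2) * x ∧ σ.1 y = algebraMap k K (u.1 ^ 3) * y := by
    rintro ⟨u, hu, hua, hub⟩
    have ha' : ∀ n, algebraMap k K (u ^ n) ≠ 0 := fun n => (map_ne_zero _).2 (pow_ne_zero n hu)
    have hox : P.ord (algebraMap k K (u ^ 2) * x) = -2 := by
      rw [Groth.Agent.FF.ord_mul P (ha' 2) hx0, Groth.Agent.FF.ord_algebraMap, hx2]; rfl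
    have hoy : P.ord (algebraMap k K (u ^ 3) * y) = -3 := by
      rw [Groth.Agent.FF.ord_mul P (ha' 3) hy0, Groth.Agent.FF.ord_algebraMap, hy3]; rfl
    obtain ⟨σ, hσx, hσy⟩ := exists_aut (a := a) (b := b) hx2 hy3 heq hox hoy (by
      have e1 := congrArg (algebraMap k K) (show u ^ 6 * a = u ^ 2 * a by linear_combination u ^ 2 * hua)
      have e2 := congrArg (algebraMap k K) (show u ^ 6 * b = b by linear_combination hub)
      simp only [map_mul, map_pow] at e1 e2 ⊢
      linear_combination algebraMap k K u ^ 6 * heq + x * e1 + e2) hxy (by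
      refine top_le_iff.1 (hxy ▸ IntermediateField.adjoin_le_iff.2 ?_)
      rintro z (rfl | rfl)
      · have h := mul_mem ((IntermediateField.adjoin k _).algebraMap_mem (u ^ 2)⁻¹)
          (IntermediateField.subset_adjoin k {algebraMap k K (u ^ 2) * z, algebraMap k K (u ^ 3) * y} (Set.mem_insert _ _))
        rwa [map_inv₀, inv_mul_cancel_left₀ (ha' 2)] at h
      · have h := mul_mem ((IntermediateField.adjoin k _).algebraMap_mem (u ^ 3)⁻¹)
          (IntermediateField.subset_adjoin k {algebraMap k K (u ^ 2) * x, algebraMap k K (u ^ 3) * z} (Set.mem_insert_of_mem _ rfl))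
        rwa [map_inv₀, inv_mul_cancel_left₀ (ha' 3)] at h)
    refine ⟨⟨σ, fun z => ?_⟩, hσx, hσy⟩
    have hP : Groth.Agent.FF.comapPlace σ P = P := by
      by_contra hne
      have h1 := hx (Groth.Agent.FF.comapPlace σ P)
      rw [Groth.Agent.FF.comapPlace_apply, hσx, Finsupp.single_eq_of_ne hne, Groth.Agent.FF.v_eq_exp P
        (mul_ne_zero (ha' 2) hx0), hox, WithZero.exp_le_exp] at h1
      omega
    conv_rhs => rw [← hP]
    rfl
  choose Φ hΦ using hex
  have hbij : Function.Bijective Φ := by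
    constructor
    · intro u v huv
      have e2 : algebraMap k K (u.1 ^ 2) = algebraMap k K (v.1 ^ 2) :=
        mul_right_cancel₀ hx0 (by rw [← (hΦ u).1, huv, (hΦ v).1])
      have e3 : algebraMap k K (u.1 ^ 3) = algebraMap k K (v.1 ^ 3) :=
        mul_right_cancel₀ hy0 (by rw [← (hΦ u).2, huv, (hΦ v).2])
      have e2' := (algebraMap k K).injective e2
      have e3' := (algebraMap k K).injective e3
      refine Subtype.ext (mul_left_cancel₀ (pow_ne_zero 2 u.2.1) ?_)
      linear_combination e3' - v.1 * e2'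
    · rintro ⟨σ, hσ⟩
      obtain ⟨u, hu, h1, h2⟩ := hshape σ hσ
      exact ⟨⟨u, hu⟩, Subtype.ext (aut_ext hxy ((hΦ ⟨u, hu⟩).1.trans h1.symm) ((hΦ ⟨u, hu⟩).2.trans h2.symm))⟩
  rw [← Nat.card_congr (Equiv.ofBijective Φ hbij)]
  have h6 : ((6 : ℕ) : k) ≠ 0 := by
    rw [show ((6 : ℕ) : k) = 2 * 3 by norm_num]; exact mul_ne_zero h2 h3
  have h4 : ((4 : ℕ) : k) ≠ 0 := by
    rw [show ((4 : ℕ) : k) = 2 * 2 by norm_num]; exact mul_ne_zero h2 h2
  split_ifs with ha hb
  · subst ha
    have hb : b ≠ 0 := fun h => hdisc (by simp [h])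
    conv_rhs => rw [← card_roots_one 6 h6]
    refine Nat.card_congr (Equiv.subtypeEquivRight fun u => ?_)
    simp only [zero_mul, true_and, mul_eq_zero, hb, false_or, sub_eq_zero]
    exact ⟨And.right, fun h => ⟨fun h0 => by simp [h0] at h, h⟩⟩
  · subst hb
    conv_rhs => rw [← card_roots_one 4 h4]
    refine Nat.card_congr (Equiv.subtypeEquivRight fun u => ?_)
    simp only [zero_mul, and_true, mul_eq_zero, ha, false_or, sub_eq_zero]
    exact ⟨And.right, fun h => ⟨fun h0 => by simp [h0] at h, h⟩⟩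
  · conv_rhs => rw [← card_roots_one 2 (show ((2 : ℕ) : k) ≠ 0 by exact_mod_cast h2)]
    refine Nat.card_congr (Equiv.subtypeEquivRight fun u => ?_)
    simp only [mul_eq_zero, ha, hb, false_or, sub_eq_zero]
    refine ⟨fun h => ?_, fun h => ⟨fun h0 => by simp [h0] at h, ?_, ?_⟩⟩
    · linear_combination h.2.2 - u ^ 2 * h.2.1
    · linear_combination (u ^ 2 + 1) * h
    · linear_combination (u ^ 4 + u ^ 2 + 1) * h

end Groth.Agent.S19397
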