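import Groth.Statements.S19408
import Groth.Agent.Comodule.ReynoldsOp

set_option autoImplicit false
universe u
open TensorProduct
open GLin

namespace Groth.Agent.S19408

set_option backward.isDefEq.respectTransparency false
set_option linter.style.haveILetI false
set_option maxHeartbeats 1000000

attribute [local instance] Algebra.TensorProduct.rightAlgebra in
theorem isPushout_of_productMap {A B C D : Type u} [CommRing A] [CommRing B] [CommRing C] [CommRing D]
    [Algebra A B] [Algebra A C] [Algebra A D] [Algebra B D] [Algebra C D] [IsScalarTower A B D] [IsScalarTower A C D]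
    (h : Function.Bijective (Algebra.TensorProduct.productMap (IsScalarTower.toAlgHom A B D)
      (IsScalarTower.toAlgHom A C D))) : Algebra.IsPushout A B C D :=
  Algebra.IsPushout.of_equiv (h := TensorProduct.isPushout)
    (AlgEquiv.ofBijective (Algebra.TensorProduct.lift (Algebra.ofId B D) (IsScalarTower.toAlgHom A C D)
      fun _ _ => mul_comm _ _) h)
    (RingHom.ext fun x => by simp [RingHom.algebraMap_toAlgebra])

attribute [local instance] Algebra.TensorProduct.rightAlgebra in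
theorem isPushout_quot {S R : Type u} [CommRing S] [CommRing R] [Algebra S R] (J : Ideal S) :
    Algebra.IsPushout S (S ⧸ J) R (R ⧸ J.map (algebraMap S R)) :=
  (Algebra.IsPushout.of_equiv (h := TensorProduct.isPushout)
    (Algebra.TensorProduct.quotIdealMapEquivTensorQuot R J).symm
    (Ideal.Quotient.ringHom_ext (RingHom.ext fun a => by
      simp [RingHom.algebraMap_toAlgebra]; erw [Algebra.TensorProduct.quotIdealMapEquivTensorQuot_symm_tmul]; rw [Algebra.smul_def, mul_one]; rfl))).symm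

/-- Invariants lift along surjections of representations of a linearly reductive group. -/
theorem exists_inv_lift {k : Type u} [Field k] {A : Type u} [CommRing A] [HopfAlgebra k A]
    (hG : HopfRep.IsLinearlyReductive k A) {V W : Type u} [CommRing V] [Algebra k V] [HopfRep.Comod k A V]
    [GLin.IsCoactAlg k A V] [CommRing W] [Algebra k W] [HopfRep.Comod k A W] [GLin.IsCoactAlg k A W]
    (q : V →ₐ[k] W) (hq : Function.Surjective q)
    (hc : ∀ v, HopfRep.Comod.coact (k := k) (A := A) (q v) =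
      Algebra.TensorProduct.map q (AlgHom.id k A) (HopfRep.Comod.coact (k := k) (A := A) v))
    {w : W} (hw : w ∈ GLin.invariants k A W) : ∃ v ∈ GLin.invariants k A V, q v = w := by
  obtain ⟨l, h1, -, hmem, -⟩ := Comodule.ReynoldsOp.avg_mem (V := V) hG
  obtain ⟨v, rfl⟩ := hq w
  exact ⟨_, hmem v, (Comodule.ReynoldsOp.avg_natural l q.toLinearMap (LinearMap.ext fun x => hc x) v).trans
    (Comodule.ReynoldsOp.avg_fixed l h1 hw)⟩

theorem mem_inv_map {k : Type u} [Field k] {A : Type u} [CommRing A] [HopfAlgebra k A]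
    {V W : Type u} [CommRing V] [Algebra k V] [HopfRep.Comod k A V]
    [GLin.IsCoactAlg k A V] [CommRing W] [Algebra k W] [HopfRep.Comod k A W] [GLin.IsCoactAlg k A W]
    (q : V →ₐ[k] W)
    (hc : ∀ v, HopfRep.Comod.coact (k := k) (A := A) (q v) =
      Algebra.TensorProduct.map q (AlgHom.id k A) (HopfRep.Comod.coact (k := k) (A := A) v))
    {v : V} (hv : v ∈ GLin.invariants k A V) : q v ∈ GLin.invariants k A W := by
  rw [GLin.mem_invariants_iff] at hv ⊢
  rw [hc, hv, Algebra.TensorProduct.map_tmul, AlgHom.id_apply]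

/-- Let k be an algebraically closed field of characteristic zero, A a finitely generated commutative
Hopf algebra over k all of whose finite-dimensional comodules are semisimple (a reductive group G),
S and R finitely generated commutative k-algebras with multiplicative A-coactions (G acting on
affine Y = Spec S and X = Spec R), S → R an algebra map compatible with the coactions (a G-morphism
θ : X → Y), S₀ → S and R₀ → R injective k-algebra maps whose images are the subrings of invariants,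
and S₀ → R₀ an algebra map with S₀ → R₀ → R equal to S₀ → S → R (θ/G). Suppose R is étale over S, R₀
is étale over S₀, and the canonical map S ⊗_{S₀} R₀ → R is bijective (θ and θ/G étale and X ≅ Y
×_{Y//G} X//G). Let J be an ideal of S which is a subcomodule (Y' = V(J) a closed G-invariant
subscheme), let S/J and R/JR carry A-coactions for which the quotient maps are compatible with the
coactions (the induced actions on Y' and X' = Y' ×_Y X), and let S₁ → S/J and R₁ → R/JR be injective
k-algebra maps whose images are the subrings of invariants, with S₁ → R₁ an algebra map such that S₁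
→ R₁ → R/JR equals S₁ → S/J → R/JR. Then R/JR is étale over S/J, R₁ is étale over S₁, and the
canonical map (S/J) ⊗_{S₁} R₁ → R/JR is bijective (θ' : X' → Y' and θ'/G are étale and X' ≅ Y'
×_{Y'//G} X'//G). -/
theorem result (k : Type u) [Field k] [IsAlgClosed k] [CharZero k]
    (A : Type u) [CommRing A] [HopfAlgebra k A] [Algebra.FiniteType k A] (hG : HopfRep.IsLinearlyReductive k A)
    (S : Type u) [CommRing S] [Algebra k S] [Algebra.FiniteType k S] [HopfRep.Comod k A S] [GLin.IsCoactAlg k A S]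
    (R : Type u) [CommRing R] [Algebra k R] [Algebra.FiniteType k R] [HopfRep.Comod k A R] [GLin.IsCoactAlg k A R]
    [Algebra S R] [IsScalarTower k S R]
    (hequiv : (∀ s : S, HopfRep.Comod.coact (k := k) (A := A) (algebraMap S R s) =
      Algebra.TensorProduct.map (IsScalarTower.toAlgHom k S R) (AlgHom.id k A) (HopfRep.Comod.coact (k := k) (A := A) s)))
    (S₀ : Type u) [CommRing S₀] [Algebra k S₀] [Algebra S₀ S] [IsScalarTower k S₀ S]
    (hS₀i : Function.Injective (algebraMap S₀ S)) (hS₀ : (IsScalarTower.toAlgHom k S₀ S).range = GLin.invariants k A S)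
    (R₀ : Type u) [CommRing R₀] [Algebra k R₀] [Algebra R₀ R] [IsScalarTower k R₀ R]
    (hR₀i : Function.Injective (algebraMap R₀ R)) (hR₀ : (IsScalarTower.toAlgHom k R₀ R).range = GLin.invariants k A R)
    [Algebra S₀ R₀] [Algebra S₀ R] [IsScalarTower S₀ S R] [IsScalarTower S₀ R₀ R]
    (het : Algebra.Etale S R) (het₀ : Algebra.Etale S₀ R₀)
    (hcart : Function.Bijective (Algebra.TensorProduct.productMap (IsScalarTower.toAlgHom S₀ S R) (IsScalarTower.toAlgHom S₀ R₀ R)))
    (J : Ideal S) (hJ : HopfRep.IsSubcomod (k := k) (A := A) (J.restrictScalars k))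
    [HopfRep.Comod k A (S ⧸ J)] [GLin.IsCoactAlg k A (S ⧸ J)]
    (hqS : (∀ s : S, HopfRep.Comod.coact (k := k) (A := A) ((Ideal.Quotient.mkₐ k J) s) =
        Algebra.TensorProduct.map (Ideal.Quotient.mkₐ k J) (AlgHom.id k A) (HopfRep.Comod.coact (k := k) (A := A) s)))
    [HopfRep.Comod k A (R ⧸ J.map (algebraMap S R))] [GLin.IsCoactAlg k A (R ⧸ J.map (algebraMap S R))]
    (hqR : (∀ s : R, HopfRep.Comod.coact (k := k) (A := A) ((Ideal.Quotient.mkₐ k (J.map (algebraMap S R))) s) =
        Algebra.TensorProduct.map (Ideal.Quotient.mkₐ k (J.map (algebraMap S R))) (AlgHom.id k A) (HopfRep.Comod.coact (k := k) (A := A) s)))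
    (S₁ : Type u) [CommRing S₁] [Algebra k S₁] [Algebra S₁ (S ⧸ J)] [IsScalarTower k S₁ (S ⧸ J)]
    (hS₁i : Function.Injective (algebraMap S₁ (S ⧸ J)))
    (hS₁ : (IsScalarTower.toAlgHom k S₁ (S ⧸ J)).range = GLin.invariants k A (S ⧸ J))
    (R₁ : Type u) [CommRing R₁] [Algebra k R₁] [Algebra R₁ (R ⧸ J.map (algebraMap S R))] [IsScalarTower k R₁ (R ⧸ J.map (algebraMap S R))]
    (hR₁i : Function.Injective (algebraMap R₁ (R ⧸ J.map (algebraMap S R))))
    (hR₁ : (IsScalarTower.toAlgHom k R₁ (R ⧸ J.map (algebraMap S R))).range = GLin.invariants k A (R ⧸ J.map (algebraMap S R)))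
    [Algebra S₁ R₁] [Algebra S₁ (R ⧸ J.map (algebraMap S R))]
    [IsScalarTower S₁ (S ⧸ J) (R ⧸ J.map (algebraMap S R))] [IsScalarTower S₁ R₁ (R ⧸ J.map (algebraMap S R))] :
    Algebra.Etale (S ⧸ J) (R ⧸ J.map (algebraMap S R)) ∧ Algebra.Etale S₁ R₁ ∧
      Function.Bijective (Algebra.TensorProduct.productMap
        (IsScalarTower.toAlgHom S₁ (S ⧸ J) (R ⧸ J.map (algebraMap S R)))
        (IsScalarTower.toAlgHom S₁ R₁ (R ⧸ J.map (algebraMap S R)))) := by
  classical
  haveI := het
  haveI := het₀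
  let qS := Ideal.Quotient.mkₐ k J
  let qR := Ideal.Quotient.mkₐ k (J.map (algebraMap S R))
  have hmS : ∀ x : S₀, qS (algebraMap S₀ S x) ∈ (IsScalarTower.toAlgHom k S₁ (S ⧸ J)).range := fun x =>
    hS₁ ▸ mem_inv_map qS hqS (hS₀ ▸ ⟨x, rfl⟩)
  have hmR : ∀ x : R₀, qR (algebraMap R₀ R x) ∈ (IsScalarTower.toAlgHom k R₁ (R ⧸ (J.map (algebraMap S R)))).range := fun x =>
    hR₁ ▸ mem_inv_map qR hqR (hR₀ ▸ ⟨x, rfl⟩)
  let eS := AlgEquiv.ofInjective (IsScalarTower.toAlgHom k S₁ (S ⧸ J)) hS₁i
  let eR := AlgEquiv.ofInjective (IsScalarTower.toAlgHom k R₁ (R ⧸ (J.map (algebraMap S R)))) hR₁i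
  let ψ : S₀ →ₐ[k] S₁ := eS.symm.toAlgHom.comp ((qS.comp (IsScalarTower.toAlgHom k S₀ S)).codRestrict _ hmS)
  let φ : R₀ →ₐ[k] R₁ := eR.symm.toAlgHom.comp ((qR.comp (IsScalarTower.toAlgHom k R₀ R)).codRestrict _ hmR)
  have hψ : ∀ x, algebraMap S₁ (S ⧸ J) (ψ x) = qS (algebraMap S₀ S x) := fun x =>
    congrArg Subtype.val (eS.apply_symm_apply ⟨qS (algebraMap S₀ S x), hmS x⟩)
  have hφ : ∀ x, algebraMap R₁ (R ⧸ (J.map (algebraMap S R))) (φ x) = qR (algebraMap R₀ R x) := fun x =>
    congrArg Subtype.val (eR.apply_symm_apply ⟨qR (algebraMap R₀ R x), hmR x⟩)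
  have hψs : Function.Surjective ψ := fun y => by
    obtain ⟨s, hs, hsy⟩ := exists_inv_lift hG qS Ideal.Quotient.mk_surjective hqS
      (show algebraMap S₁ (S ⧸ J) y ∈ GLin.invariants k A (S ⧸ J) from hS₁ ▸ ⟨y, rfl⟩)
    obtain ⟨x, rfl⟩ : s ∈ (IsScalarTower.toAlgHom k S₀ S).range := hS₀ ▸ hs
    exact ⟨x, hS₁i ((hψ x).trans hsy)⟩
  have hφs : Function.Surjective φ := fun y => by
    obtain ⟨s, hs, hsy⟩ := exists_inv_lift hG qR Ideal.Quotient.mk_surjective hqR
      (show algebraMap R₁ (R ⧸ (J.map (algebraMap S R))) y ∈ GLin.invariants k A (R ⧸ (J.map (algebraMap S R))) from hR₁ ▸ ⟨y, rfl⟩)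
    obtain ⟨x, rfl⟩ : s ∈ (IsScalarTower.toAlgHom k R₀ R).range := hR₀ ▸ hs
    exact ⟨x, hR₁i ((hφ x).trans hsy)⟩
  letI : Algebra S₀ S₁ := ψ.toRingHom.toAlgebra
  letI : Algebra R₀ R₁ := φ.toRingHom.toAlgebra
  letI : Algebra S₀ R₁ := ((algebraMap S₁ R₁).comp ψ.toRingHom).toAlgebra
  haveI : IsScalarTower S₀ S₁ R₁ := .of_algebraMap_eq fun _ => rfl
  haveI : IsScalarTower S₀ S₁ (S ⧸ J) := .of_algebraMap_eq fun x => (hψ x).symm
  haveI : IsScalarTower R₀ R₁ (R ⧸ (J.map (algebraMap S R))) := .of_algebraMap_eq fun x => (hφ x).symm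
  haveI : IsScalarTower S₀ R₁ (R ⧸ (J.map (algebraMap S R))) := .of_algebraMap_eq fun x => by
    rw [RingHom.algebraMap_toAlgebra, RingHom.comp_apply, ← IsScalarTower.algebraMap_apply S₁ R₁ (R ⧸ (J.map (algebraMap S R))),
      IsScalarTower.algebraMap_apply S₁ (S ⧸ J) (R ⧸ (J.map (algebraMap S R))), show algebraMap S₁ (S ⧸ J) (ψ.toRingHom x) = _ from hψ x,
      IsScalarTower.algebraMap_apply S₀ S (R ⧸ (J.map (algebraMap S R))), IsScalarTower.algebraMap_apply S (S ⧸ J) (R ⧸ (J.map (algebraMap S R)))]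
    rfl
  haveI : IsScalarTower S₀ R₀ R₁ := .of_algebraMap_eq fun x => hR₁i (by
    rw [← IsScalarTower.algebraMap_apply S₀ R₁ (R ⧸ (J.map (algebraMap S R))), show algebraMap R₀ R₁ _ = φ _ from rfl, hφ,
      ← IsScalarTower.algebraMap_apply S₀ R₀ R, IsScalarTower.algebraMap_apply S₀ R (R ⧸ (J.map (algebraMap S R)))]
    rfl)
  haveI : IsScalarTower S₀ (S ⧸ J) (R ⧸ (J.map (algebraMap S R))) := .of_algebraMap_eq fun x => by
    rw [IsScalarTower.algebraMap_apply S₀ S (R ⧸ (J.map (algebraMap S R))), IsScalarTower.algebraMap_apply S (S ⧸ J) (R ⧸ (J.map (algebraMap S R)))]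
    rfl
  haveI P1 : Algebra.IsPushout S₀ S R₀ R := isPushout_of_productMap hcart
  haveI P2 : Algebra.IsPushout S (S ⧸ J) R (R ⧸ (J.map (algebraMap S R))) := isPushout_quot J
  haveI P3 : Algebra.IsPushout S₀ (S ⧸ J) R₀ (R ⧸ (J.map (algebraMap S R))) :=
    (Algebra.IsPushout.comp_iff S₀ S R₀ R (T := S ⧸ J) (T' := R ⧸ (J.map (algebraMap S R)))).2 P2
  let u : TensorProduct S₀ S₁ R₀ →ₐ[S₁] R₁ :=
    Algebra.TensorProduct.lift (Algebra.ofId S₁ R₁) (IsScalarTower.toAlgHom S₀ R₀ R₁) fun _ _ => mul_comm _ _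
  have hu : Function.Bijective u := by
    refine ⟨fun a b h => ?_, fun y => ?_⟩
    · have hf : Function.Injective (LinearMap.rTensor R₀ (IsScalarTower.toAlgHom S₀ S₁ (S ⧸ J)).toLinearMap) :=
        Module.Flat.rTensor_preserves_injective_linearMap _ hS₁i
      have key : ∀ z, Algebra.IsPushout.equiv S₀ (S ⧸ J) R₀ (R ⧸ (J.map (algebraMap S R)))
          (LinearMap.rTensor R₀ (IsScalarTower.toAlgHom S₀ S₁ (S ⧸ J)).toLinearMap z) = algebraMap R₁ (R ⧸ (J.map (algebraMap S R))) (u z) := by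
        intro z
        induction z with
        | zero => simp
        | add p q hp hq => simp only [map_add, hp, hq]
        | tmul p q =>
          simp only [LinearMap.rTensor_tmul, Algebra.IsPushout.equiv_tmul, u, Algebra.TensorProduct.lift_tmul, map_mul,
            AlgHom.toLinearMap_apply, IsScalarTower.toAlgHom_apply, Algebra.ofId_apply,
            ← IsScalarTower.algebraMap_apply]
      apply hf
      apply (Algebra.IsPushout.equiv S₀ (S ⧸ J) R₀ (R ⧸ (J.map (algebraMap S R)))).injective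
      rw [key, key, h]
    · obtain ⟨x, rfl⟩ := hφs y
      refine ⟨1 ⊗ₜ[S₀] x, ?_⟩
      simp [u, RingHom.algebraMap_toAlgebra]
  haveI P4 : Algebra.IsPushout S₀ S₁ R₀ R₁ := isPushout_of_productMap hu
  have P5 : Algebra.IsPushout S₁ (S ⧸ J) R₁ (R ⧸ (J.map (algebraMap S R))) :=
    (Algebra.IsPushout.comp_iff S₀ S₁ R₀ R₁ (T := S ⧸ J) (T' := R ⧸ (J.map (algebraMap S R)))).1 P3
  refine ⟨Algebra.Etale.of_equiv (Algebra.IsPushout.equiv S (S ⧸ J) R (R ⧸ (J.map (algebraMap S R)))),
    Algebra.Etale.of_equiv (AlgEquiv.ofBijective u hu), ?_⟩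
  convert (Algebra.IsPushout.equiv S₁ (S ⧸ J) R₁ (R ⧸ (J.map (algebraMap S R)))).bijective using 1
  funext z
  induction z with
  | zero => simp
  | add p q hp hq => simp only [map_add, hp, hq]
  | tmul p q => simp [Algebra.IsPushout.equiv_tmul]

end Groth.Agent.S19408
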