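import Groth.Statements.S19409
import Groth.Agent.GoodQuotLib.Orbit

set_option autoImplicit false
universe u
open CategoryTheory MonoidalCategory CartesianMonoidalCategory MonObj AlgebraicGeometry Topology
open NRQuot

namespace Groth.Agent.S19409

open CategoryTheory CategoryTheory.Limits AlgebraicGeometry

open CategoryTheory CategoryTheory.Limits MonoidalCategory CartesianMonoidalCategory MonObj AlgebraicGeometry
open Groth.Agent

variable {k : Type u} [Field k] {G X : Over (Spec (CommRingCat.of k))} [GrpObj G]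

theorem exists_restrictAction (a : AlgGrp.Action G X) (W : X.left.Opens) (hW : NRQuot.IsInvariantSet a (W : Set ↥X.left)) :
    ∃ a' : AlgGrp.Action G (Over.mk (W.ι ≫ X.hom)),
      a'.act ≫ (Over.homMk W.ι rfl : Over.mk (W.ι ≫ X.hom) ⟶ X) = (G ◁ (Over.homMk W.ι rfl : Over.mk (W.ι ≫ X.hom) ⟶ X)) ≫ a.act := by
  let j : Over.mk (W.ι ≫ X.hom) ⟶ X := Over.homMk W.ι rfl
  haveI : Mono j.left := inferInstanceAs (Mono W.ι)
  haveI : Mono j := Over.mono_of_mono_left j
  have hr : Set.range ((G ◁ j) ≫ a.act).left ⊆ Set.range W.ι := by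
    rintro _ ⟨p, rfl⟩
    rw [Scheme.Opens.range_ι, Over.comp_left, Scheme.Hom.comp_apply]
    refine hW _ ?_
    rw [← Scheme.Hom.comp_apply, ← Over.comp_left, whiskerLeft_snd, Over.comp_left, Scheme.Hom.comp_apply]
    exact ((snd G (Over.mk (W.ι ≫ X.hom))).left p).2
  let act' : G ⊗ Over.mk (W.ι ≫ X.hom) ⟶ Over.mk (W.ι ≫ X.hom) :=
    Over.homMk (IsOpenImmersion.lift W.ι _ hr) (by
      show IsOpenImmersion.lift W.ι _ hr ≫ W.ι ≫ X.hom = _
      rw [← Category.assoc, IsOpenImmersion.lift_fac, Over.w])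
  have hact : act' ≫ j = (G ◁ j) ≫ a.act := Over.OverMorphism.ext (IsOpenImmersion.lift_fac _ _ _)
  refine ⟨{ act := act', one_act := ?_, mul_act := ?_ }, hact⟩
  · rw [← cancel_mono j, Category.assoc, hact, ← Category.assoc, ← whisker_exchange, Category.assoc, a.one_act,
      leftUnitor_naturality]
  · rw [← cancel_mono j, Category.assoc, hact, Category.assoc, Category.assoc, hact, ← Category.assoc, ← whisker_exchange,
      Category.assoc, a.mul_act, ← MonoidalCategory.whiskerLeft_comp_assoc, hact, MonoidalCategory.whiskerLeft_comp,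
      Category.assoc]
    simp


/-- Suppose k is a field that is algebraically closed (its characteristic is arbitrary, since
characteristic zero plays no role in the argument). Consider an algebraic group G over k, i.e. an
affine group scheme of finite type over k, together with an action of G on a k-scheme X that is
locally of finite type, and assume φ : X → Y is a good quotient (meaning φ is affine and invariant,
on each open of Y the functions are precisely the invariant functions on its preimage, closed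
invariant subsets are sent to closed subsets, and taking images commutes with intersecting families
of closed invariant subsets). Given any k-point y of Y, one can find a k-point x of X lying over y
whose orbit (the image of the orbit morphism G → X) is a closed subset of X; moreover, whenever x'
is a k-point of X over y with closed orbit, x' is obtained from x by acting with some k-point of G.
In other words, each fibre of φ over a k-point contains a unique closed orbit. -/
theorem result
    (k : Type u) [Field k] [IsAlgClosed k]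
    (G X Y : Over (Spec (CommRingCat.of k))) [GrpObj G] [IsAffine G.left] [LocallyOfFiniteType G.hom]
    [LocallyOfFiniteType X.hom]
    (a : AlgGrp.Action G X) (φ : X ⟶ Y) (h : NRQuot.IsGoodQuot a φ)
    (y : 𝟙_ (Over (Spec (CommRingCat.of k))) ⟶ Y) :
    ∃ x : 𝟙_ (Over (Spec (CommRingCat.of k))) ⟶ X, x ≫ φ = y ∧ IsClosed (Set.range (a.orbitMap x).left.base) ∧
      ∀ x' : 𝟙_ (Over (Spec (CommRingCat.of k))) ⟶ X, x' ≫ φ = y → IsClosed (Set.range (a.orbitMap x').left.base) →
        ∃ g : 𝟙_ (Over (Spec (CommRingCat.of k))) ⟶ G, lift g x ≫ a.act = x' := by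
  let t : ↥(𝟙_ (Over (Spec (CommRingCat.of k)))).left := IsLocalRing.closedPoint k
  haveI : IsAffineHom φ.left := h.affine
  haveI : Subsingleton ↥(𝟙_ (Over (Spec (CommRingCat.of k)))).left := inferInstanceAs (Subsingleton (Spec (CommRingCat.of k)))
  have hsurj : Function.Surjective φ.left.base := fun z => by
    have e := h.inter PEmpty.{u + 1} PEmpty.elim (fun i => i.elim) fun i => i.elim
    rw [Set.iInter_of_empty, Set.iInter_of_empty] at e
    obtain ⟨x, -, hx⟩ := e.ge (Set.mem_univ z)
    exact ⟨x, hx⟩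
  have hinv : ∀ s : Set ↥Y.left, NRQuot.IsInvariantSet a (φ.left.base ⁻¹' s) := fun s p hp => by
    show φ.left (a.act.left p) ∈ s
    rw [← Scheme.Hom.comp_apply, h.inv.left]
    exact hp
  obtain ⟨V, hV, hyV, -⟩ := exists_isAffineOpen_mem_and_subset (U := (⊤ : Y.left.Opens)) (x := y.left t) trivial
  let W : X.left.Opens := φ.left ⁻¹ᵁ V
  have hW : IsAffineOpen W := hV.preimage φ.left
  obtain ⟨a', ha'⟩ := exists_restrictAction a W (hinv V)
  let X' := Over.mk (W.ι ≫ X.hom)
  let j : X' ⟶ X := Over.homMk W.ι rfl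
  haveI : IsAffine X'.left := hW
  haveI : LocallyOfFiniteType X'.hom := inferInstanceAs (LocallyOfFiniteType (W.ι ≫ X.hom))
  haveI : QuasiCompact X'.hom := inferInstance
  haveI : QuasiCompact G.hom := inferInstance
  haveI : IsLocallyNoetherian X'.left := LocallyOfFiniteType.isLocallyNoetherian X'.hom
  haveI : IsNoetherian X'.left := ⟨⟩
  haveI : JacobsonSpace X.left := LocallyOfFiniteType.jacobsonSpace X.hom
  let F : Set ↥X.left := φ.left ⁻¹' {y.left t}
  have hF : IsClosed F := (GoodQuotLib.isClosed_point y t).preimage φ.left.continuous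
  have hFW : F ⊆ (W : Set ↥X.left) := fun z (hz : φ.left z = y.left t) => by
    show φ.left z ∈ V
    rw [hz]; exact hyV
  -- a minimal invariant closed subset of the fibre
  let P : TopologicalSpace.Closeds ↥X'.left → Prop := fun C =>
    (C : Set ↥X'.left).Nonempty ∧ (C : Set ↥X'.left) ⊆ W.ι ⁻¹' F ∧ NRQuot.IsInvariantSet a (W.ι '' (C : Set ↥X'.left))
  have hP : P ⟨W.ι ⁻¹' F, hF.preimage W.ι.continuous⟩ := by
    refine ⟨?_, subset_rfl, ?_⟩
    · obtain ⟨z, hz⟩ := hsurj (y.left t)
      exact ⟨⟨z, hFW hz⟩, hz⟩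
    · show NRQuot.IsInvariantSet a (W.ι '' (W.ι ⁻¹' F))
      rw [Set.image_preimage_eq_of_subset (by rw [Scheme.Opens.range_ι]; exact hFW)]
      exact hinv _
  obtain ⟨C, ⟨hCne, hCF, hCi⟩, hmin⟩ := exists_minimal_of_wellFoundedLT P ⟨_, hP⟩
  have hCcl : IsClosed (W.ι '' (C : Set ↥X'.left)) := by
    refine isClosed_of_closure_subset fun z hz => ?_
    have hzF : z ∈ F := hF.closure_subset_iff.mpr (Set.image_subset_iff.mpr hCF) hz
    refine ⟨⟨z, hFW hzF⟩, ?_, rfl⟩
    have : (⟨z, hFW hzF⟩ : ↥X'.left) ∈ W.ι ⁻¹' closure (W.ι '' (C : Set ↥X'.left)) := hz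
    rw [W.ι.isOpenMap.preimage_closure_eq_closure_preimage W.ι.continuous,
      Set.preimage_image_eq _ W.ι.isOpenEmbedding.injective, C.isClosed.closure_eq] at this
    exact this
  obtain ⟨p, hpC, hp⟩ := nonempty_inter_closedPoints (X := X.left) (hCne.image W.ι) hCcl.isLocallyClosed
  let x : 𝟙_ (Over (Spec (CommRingCat.of k))) ⟶ X :=
    Over.homMk (pointOfClosedPoint X.hom p (mem_closedPoints_iff.1 hp)) (pointOfClosedPoint_comp _ _ _)
  have hxt : ∀ s, x.left s = p := fun s => pointOfClosedPoint_apply X.hom p (mem_closedPoints_iff.1 hp) s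
  have hxy : x ≫ φ = y := by
    refine GoodQuotLib.ext_point t ?_
    rw [Over.comp_left, Scheme.Hom.comp_apply, hxt]
    obtain ⟨c, hc, rfl⟩ := hpC
    exact hCF hc
  have hOC : Set.range (a.orbitMap x).left.base ⊆ W.ι '' (C : Set ↥X'.left) :=
    GoodQuotLib.orbit_subset a hCi x fun s => by rw [hxt]; exact hpC
  -- the orbit is open in its closure
  have hxW : Set.range x.left ⊆ Set.range W.ι := by
    rintro _ ⟨s, rfl⟩
    rw [hxt]
    exact Set.image_subset_range _ _ hpC
  let x' : 𝟙_ (Over (Spec (CommRingCat.of k))) ⟶ X' := Over.homMk (IsOpenImmersion.lift W.ι x.left hxW) (by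
    show IsOpenImmersion.lift W.ι x.left hxW ≫ W.ι ≫ X.hom = _
    rw [← Category.assoc, IsOpenImmersion.lift_fac, Over.w])
  have hx' : x' ≫ j = x := Over.OverMorphism.ext (IsOpenImmersion.lift_fac _ _ _)
  have ho : a'.orbitMap x' ≫ j = a.orbitMap x := by
    rw [AlgGrp.Action.orbitMap, Category.assoc, ha', ← Category.assoc, lift_whiskerLeft, Category.assoc, hx']
    rfl
  obtain ⟨V', hV', hO'⟩ := S7984.orbit_open_in_closure a' x'
  have hO : Set.range (a.orbitMap x).left.base = W.ι '' V' ∩ closure (Set.range (a.orbitMap x).left.base) := by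
    have e : Set.range (a.orbitMap x).left.base = W.ι '' Set.range (a'.orbitMap x').left := by
      rw [← ho, Over.comp_left, Scheme.Hom.comp_base, TopCat.coe_comp, Set.range_comp]
      rfl
    have e2 : closure (Set.range (a'.orbitMap x').left) = W.ι ⁻¹' closure (Set.range (a.orbitMap x).left.base) := by
      rw [W.ι.isOpenMap.preimage_closure_eq_closure_preimage W.ι.continuous, e,
        Set.preimage_image_eq _ W.ι.isOpenEmbedding.injective]
    conv_lhs => rw [e, hO', e2, Set.image_inter_preimage]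
  have hclosed : IsClosed (Set.range (a.orbitMap x).left.base) := by
    let D : TopologicalSpace.Closeds ↥X'.left :=
      ⟨W.ι ⁻¹' (closure (Set.range (a.orbitMap x).left.base) \ W.ι '' V'),
        (isClosed_closure.sdiff (W.ι.isOpenMap _ hV')).preimage W.ι.continuous⟩
    have hclC := hCcl.closure_subset_iff.mpr hOC
    have hDeq : closure (Set.range (a.orbitMap x).left.base) \ W.ι '' V' =
        closure (Set.range (a.orbitMap x).left.base) \ Set.range (a.orbitMap x).left.base := by
      ext z
      constructor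
      · exact fun ⟨h1, h2⟩ => ⟨h1, fun h3 => h2 (hO.le h3).1⟩
      · exact fun ⟨h1, h2⟩ => ⟨h1, fun h3 => h2 (hO.ge ⟨h3, h1⟩)⟩
    by_contra hnc
    obtain ⟨z, hz1, hz2⟩ := Set.not_subset.mp fun hs => hnc (isClosed_of_closure_subset hs)
    obtain ⟨c, hc, rfl⟩ := hclC hz1
    have hDC : D ≤ C := fun d hd => by
      obtain ⟨d', hd', e⟩ := hclC hd.1
      exact W.ι.isOpenEmbedding.injective e ▸ hd'
    have hDP : P D := by
      refine ⟨⟨c, show W.ι c ∈ closure (Set.range (a.orbitMap x).left.base) \ W.ι '' V' by rw [hDeq]; exact ⟨hz1, hz2⟩⟩, (show (D : Set ↥X'.left) ⊆ _ from hDC).trans hCF, ?_⟩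
      show NRQuot.IsInvariantSet a (W.ι '' (W.ι ⁻¹' (closure (Set.range (a.orbitMap x).left.base) \ W.ι '' V')))
      rw [Set.image_preimage_eq_of_subset (Set.sdiff_subset.trans (hclC.trans (Set.image_subset_range _ _))), hDeq]
      intro q hq
      exact ⟨GoodQuotLib.isInvariantSet_closure_orbit a x q hq.1,
        GoodQuotLib.isInvariantSet_compl a (GoodQuotLib.isInvariantSet_orbit a x) q hq.2⟩
    obtain ⟨c', hc', e⟩ := hpC
    have hcD : c' ∈ D := hmin hDP hDC hc'
    have hcD2 : W.ι c' ∈ closure (Set.range (a.orbitMap x).left.base) \ W.ι '' V' := hcD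
    rw [hDeq, e, ← hxt t] at hcD2
    exact hcD2.2 (GoodQuotLib.point_mem_orbit a x t)
  refine ⟨x, hxy, hclosed, fun x₂ hx₂ hcl₂ => GoodQuotLib.exists_smul_eq_of_inter a x x₂ hclosed hcl₂ ?_⟩
  let Cs : ULift.{u} Bool → Set ↥X.left := fun i => Set.range (a.orbitMap (cond i.down x x₂)).left.base
  have hi := h.inter _ Cs (fun ⟨i⟩ => by cases i <;> assumption) fun i => GoodQuotLib.isInvariantSet_orbit a _
  have hy : φ.left (x.left t) ∈ ⋂ i, φ.left '' Cs i := by
    refine Set.mem_iInter.mpr fun ⟨i⟩ => ?_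
    cases i
    · refine ⟨x₂.left t, GoodQuotLib.point_mem_orbit a x₂ t, ?_⟩
      rw [← Scheme.Hom.comp_apply, ← Scheme.Hom.comp_apply, ← Over.comp_left, ← Over.comp_left, hx₂, hxy]
    · exact ⟨x.left t, GoodQuotLib.point_mem_orbit a x t, rfl⟩
  obtain ⟨q, hq, -⟩ := hi.ge hy
  exact ⟨q, Set.mem_iInter.mp hq ⟨true⟩, Set.mem_iInter.mp hq ⟨false⟩⟩


end Groth.Agent.S19409
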