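import Groth.Statements.S19411
import Groth.Agent.GLinTrivLib.Main

set_option autoImplicit false
universe u
open TensorProduct
open GLin

namespace Groth.Agent.S19411

/-- Let k be an uncountable algebraically closed field of characteristic zero, A a finitely generated
commutative Hopf algebra over k all of whose finite-dimensional comodules are semisimple (a
reductive group G), and R a reduced finitely generated commutative k-algebra whose prime spectrum is
connected, with a multiplicative A-coaction ρ (G acting on the connected affine scheme X = Spec R).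
Let θ ∈ R ⊗ A be such that the map r ↦ ρ(r)·θ from R to R ⊗ A is coassociative and counital (a
structure of G-line bundle on the trivial line bundle of X, θ being the corresponding invertible
function on X × G). Suppose that either every unit of A is a scalar multiple of a group-like element
(every invertible function on G is a constant times a character), or every unit of R is a scalar
(every invertible function on X is constant). Then θ = 1 ⊗ χ for some group-like element χ of A: the
G-line bundle is the one attached to the character χ. (Stated for G-line bundle structures on the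
trivial bundle, the case to which the hypothesis of a trivial Picard group reduces the source's
statement; uncountability of k is what the argument uses in the first case.) -/
theorem result (k : Type u) [Field k] [IsAlgClosed k] [CharZero k] [Uncountable k]
    (A : Type u) [CommRing A] [HopfAlgebra k A] [Algebra.FiniteType k A] (hG : HopfRep.IsLinearlyReductive k A)
    (R : Type u) [CommRing R] [IsReduced R] [Algebra k R] [Algebra.FiniteType k R] [HopfRep.Comod k A R] [GLin.IsCoactAlg k A R]
    [ConnectedSpace (PrimeSpectrum R)]
    (θ : R ⊗[k] A)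
    (hassoc : (TensorProduct.assoc k R A A).toLinearMap ∘ₗ
        ((LinearMap.mulRight k θ) ∘ₗ HopfRep.Comod.coact (k := k) (A := A) (V := R)).rTensor A ∘ₗ
          ((LinearMap.mulRight k θ) ∘ₗ HopfRep.Comod.coact (k := k) (A := A) (V := R)) =
      (CoalgebraStruct.comul (R := k) (A := A)).lTensor R ∘ₗ
        ((LinearMap.mulRight k θ) ∘ₗ HopfRep.Comod.coact (k := k) (A := A) (V := R)))
    (hcounit : (CoalgebraStruct.counit (R := k) (A := A)).lTensor R ∘ₗ
        ((LinearMap.mulRight k θ) ∘ₗ HopfRep.Comod.coact (k := k) (A := A) (V := R)) =
      (TensorProduct.mk k R k).flip 1)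
    (h : (∀ u : Aˣ, ∃ (c : k) (χ : A), IsGroupLikeElem k χ ∧ (u : A) = c • χ) ∨
      (∀ u : Rˣ, (u : R) ∈ Set.range (algebraMap k R))) :
    ∃ χ : A, IsGroupLikeElem k χ ∧ θ = (1 : R) ⊗ₜ[k] χ := by
  have hc := Groth.Agent.GLinTrivLib.cocycle hassoc
  have hε := Groth.Agent.GLinTrivLib.counit_eq hcounit
  have hu := Groth.Agent.GLinTrivLib.isUnit_theta hc hε
  have hε' : ∀ x : R →ₐ[k] k, Bialgebra.counitAlgHom k A (Groth.Agent.GLinTrivLib.evL A x θ) = 1 := fun x => by
    rw [Groth.Agent.GLinTrivLib.apply_evL, hε, map_one]
  rcases h with h | h
  · refine Groth.Agent.GLinTrivLib.exists_grouplike_eq θ fun x => ?_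
    obtain ⟨c, χ, hχ, hcχ⟩ := h (hu.map (Groth.Agent.GLinTrivLib.evL A x)).unit
    rw [IsUnit.unit_spec] at hcχ
    have hc1 : c = 1 := by
      have := hε' x
      rw [hcχ, map_smul, Bialgebra.counitAlgHom_apply, hχ.counit_eq_one, smul_eq_mul, mul_one] at this
      exact this
    rw [hcχ, hc1, one_smul]
    exact hχ
  · haveI : IsReduced A := Groth.Agent.HopfGr.isReduced_charZero (k := k)
    haveI : Nontrivial R := by
      obtain ⟨p⟩ := (inferInstance : ConnectedSpace (PrimeSpectrum R)).toNonempty
      exact ⟨⟨1, 0, fun h10 => p.2.ne_top ((Ideal.eq_top_iff_one _).2 (by rw [h10]; exact p.asIdeal.zero_mem))⟩⟩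
    obtain ⟨x₀, -⟩ := Groth.Agent.RedTensor.exists_algHom_ne_zero (k := k) (one_ne_zero (α := R))
    have hθ : θ = (1 : R) ⊗ₜ[k] Groth.Agent.GLinTrivLib.evL A x₀ θ := by
      refine Groth.Agent.GLinTrivLib.eq_of_evL fun x => ?_
      rw [Groth.Agent.GLinTrivLib.evL_tmul, map_one, one_smul]
      refine Groth.Agent.GLinTrivLib.eq_of_pts (k := k) (R := A) fun g => ?_
      rw [Groth.Agent.GLinTrivLib.apply_evL, Groth.Agent.GLinTrivLib.apply_evL]
      have hgu : IsUnit (Groth.Agent.GLinTrivLib.evR (R := R) g.toLinearMap θ) := by
        have he : ∀ s, Algebra.TensorProduct.lift (AlgHom.id k R) ((Algebra.ofId k R).comp g) (fun _ _ => Commute.all _ _) s =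
            Groth.Agent.GLinTrivLib.evR (R := R) g.toLinearMap s := fun s => by
          induction s using TensorProduct.induction_on with
          | zero => simp
          | tmul r a => simp [Groth.Agent.GLinTrivLib.evR_tmul, Algebra.smul_def, Algebra.ofId_apply, mul_comm]
          | add a b ha hb => simp only [map_add, ha, hb]
        rw [← he]
        exact hu.map _
      obtain ⟨c, hc'⟩ := h hgu.unit
      rw [IsUnit.unit_spec] at hc'
      rw [← hc', AlgHom.commutes, AlgHom.commutes]
    refine ⟨_, ?_, hθ⟩
    rw [hθ] at hc hε
    exact Groth.Agent.GLinTrivLib.isGroupLike_of_const hc hε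

end Groth.Agent.S19411
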