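import Groth.Statements.S19412
-- import your own Groth.Agent.* helpers here

set_option autoImplicit false
set_option backward.isDefEq.respectTransparency false
universe u
open TensorProduct
open GLin

namespace Groth.Agent.S19412

/-- Let k be an algebraically closed field of characteristic zero, A a finitely generated commutative
Hopf algebra over k (an algebraic group G), S and R finitely generated commutative k-algebras with
multiplicative A-coactions (G acting on affine Y = Spec S, X = Spec R), S → R an algebra map
compatible with the coactions (a G-morphism φ : X → Y), S₀ → S and R₀ → R injective k-algebra maps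
whose images are the subrings of invariants, and S₀ → R₀ an algebra map with S₀ → R₀ → R equal to S₀
→ S → R (φ/G). Suppose R₀ is étale over S₀ and the canonical map S ⊗_{S₀} R₀ → R is bijective (φ is
strongly étale: φ/G étale and X ≅ Y ×_{Y//G} X//G). Then R is étale over S (φ étale), and for every
k-point x of X: every k-point of G fixing the image point φ(x) fixes x (φ restricted to the orbit of
x is injective), and the orbit of x is closed if and only if the orbit of φ(x) is closed. (The
published item also asserts that φ is surjective; that fails when φ is the inclusion of a proper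
saturated open subset, which is strongly étale, so surjectivity is not asserted here.) -/
theorem result (k : Type u) [Field k] [IsAlgClosed k] [CharZero k]
    (A : Type u) [CommRing A] [HopfAlgebra k A] [Algebra.FiniteType k A]
    (S : Type u) [CommRing S] [Algebra k S] [Algebra.FiniteType k S] [HopfRep.Comod k A S] [GLin.IsCoactAlg k A S]
    (R : Type u) [CommRing R] [Algebra k R] [Algebra.FiniteType k R] [HopfRep.Comod k A R] [GLin.IsCoactAlg k A R]
    [Algebra S R] [IsScalarTower k S R]
    (hequiv : (∀ s : S, HopfRep.Comod.coact (k := k) (A := A) (algebraMap S R s) =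
      Algebra.TensorProduct.map (IsScalarTower.toAlgHom k S R) (AlgHom.id k A) (HopfRep.Comod.coact (k := k) (A := A) s)))
    (S₀ : Type u) [CommRing S₀] [Algebra k S₀] [Algebra S₀ S] [IsScalarTower k S₀ S]
    (hS₀i : Function.Injective (algebraMap S₀ S)) (hS₀ : (IsScalarTower.toAlgHom k S₀ S).range = GLin.invariants k A S)
    (R₀ : Type u) [CommRing R₀] [Algebra k R₀] [Algebra R₀ R] [IsScalarTower k R₀ R]
    (hR₀i : Function.Injective (algebraMap R₀ R)) (hR₀ : (IsScalarTower.toAlgHom k R₀ R).range = GLin.invariants k A R)
    [Algebra S₀ R₀] [Algebra S₀ R] [IsScalarTower S₀ S R] [IsScalarTower S₀ R₀ R]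
    (het₀ : Algebra.Etale S₀ R₀)
    (hcart : Function.Bijective (Algebra.TensorProduct.productMap (IsScalarTower.toAlgHom S₀ S R) (IsScalarTower.toAlgHom S₀ R₀ R))) :
    Algebra.Etale S R ∧
      ∀ x : R →ₐ[k] k,
        (∀ g : A →ₐ[k] k, GLin.actPt k g (x.comp (IsScalarTower.toAlgHom k S R)) = x.comp (IsScalarTower.toAlgHom k S R) →
          GLin.actPt k g x = x) ∧
        (GLin.IsClosedOrbit k A x ↔ GLin.IsClosedOrbit k A (x.comp (IsScalarTower.toAlgHom k S R))) := by
  haveI := het₀
  let pm := Algebra.TensorProduct.productMap (IsScalarTower.toAlgHom S₀ S R) (IsScalarTower.toAlgHom S₀ R₀ R)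
  let pmS : TensorProduct S₀ S R₀ →ₐ[S] R :=
    { pm.toRingHom with
      commutes' := fun s => by
        show pm (s ⊗ₜ[S₀] (1 : R₀)) = algebraMap S R s
        simp [pm] }
  refine ⟨Algebra.Etale.of_equiv (AlgEquiv.ofBijective pmS hcart), fun x => ?_⟩
  have hgen : ∀ {C : Type u} [CommRing C] (f g : R →+* C), f.comp (algebraMap S R) = g.comp (algebraMap S R) →
      f.comp (algebraMap R₀ R) = g.comp (algebraMap R₀ R) → f = g := by
    intro C _ f g h1 h2
    refine RingHom.ext fun r => ?_
    obtain ⟨z, rfl⟩ := hcart.2 r
    induction z with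
    | zero => simp
    | add a b ha hb => simp only [map_add, ha, hb]
    | tmul s t =>
      simp only [Algebra.TensorProduct.productMap_apply_tmul, IsScalarTower.coe_toAlgHom', map_mul]
      exact congrArg₂ (· * ·) (RingHom.congr_fun h1 s) (RingHom.congr_fun h2 t)
  have hinvR : ∀ (y : R →ₐ[k] k) (t : R₀),
      GLin.orbitHom k A y (algebraMap R₀ R t) = y (algebraMap R₀ R t) • (1 : A) := fun y t => by
    have hmem : algebraMap R₀ R t ∈ GLin.invariants k A R := hR₀ ▸ ⟨t, rfl⟩
    simp [GLin.orbitHom, (GLin.mem_invariants_iff _ _ _ _).1 hmem]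
  have horb : ∀ s : S, GLin.orbitHom k A (x.comp (IsScalarTower.toAlgHom k S R)) s =
      GLin.orbitHom k A x (algebraMap S R s) := fun s => by
    simp only [GLin.orbitHom, AlgHom.comp_apply, GLin.coactAlgHom_apply, hequiv]
    induction HopfRep.Comod.coact (k := k) (A := A) s with
    | zero => simp
    | add p q hp hq => simp only [map_add, hp, hq]
    | tmul p q => simp
  refine ⟨fun g hg => ?_, ?_⟩
  · refine AlgHom.ext (RingHom.congr_fun (hgen (GLin.actPt k g x).toRingHom x.toRingHom (RingHom.ext fun s => ?_)
      (RingHom.ext fun t => ?_)))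
    · have := DFunLike.congr_fun hg s
      simp only [GLin.actPt, AlgHom.comp_apply, horb] at this
      simpa [GLin.actPt] using this
    · simp [GLin.actPt, hinvR]
  · let I : Ideal R := Ideal.span (Set.range fun t : R₀ => algebraMap R₀ R t - algebraMap k R (x (algebraMap R₀ R t)))
    let ψ : S →+* R ⧸ I := (Ideal.Quotient.mk I).comp (algebraMap S R)
    have hψ : Function.Surjective ψ := by
      intro q
      obtain ⟨r, rfl⟩ := Ideal.Quotient.mk_surjective q
      obtain ⟨z, rfl⟩ := hcart.2 r
      induction z with
      | zero => exact ⟨0, by simp⟩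
      | add a b ha hb =>
        obtain ⟨a', ha⟩ := ha
        obtain ⟨b', hb⟩ := hb
        exact ⟨a' + b', by simp only [map_add, ha, hb]⟩
      | tmul s t =>
        refine ⟨s * algebraMap k S (x (algebraMap R₀ R t)), ?_⟩
        simp only [ψ, RingHom.comp_apply, map_mul, Algebra.TensorProduct.productMap_apply_tmul,
          IsScalarTower.coe_toAlgHom', ← IsScalarTower.algebraMap_apply]
        congr 1
        symm
        exact Ideal.Quotient.eq.2 (Ideal.subset_span ⟨t, rfl⟩)
    have hI : I ≤ RingHom.ker (GLin.orbitHom k A x) := by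
      rw [Ideal.span_le]
      rintro _ ⟨t, rfl⟩
      rw [SetLike.mem_coe, RingHom.mem_ker, map_sub, hinvR, AlgHom.commutes, sub_eq_zero, Algebra.algebraMap_eq_smul_one (A := A)]
    let θ : R ⧸ I →+* A := Ideal.Quotient.lift I (GLin.orbitHom k A x).toRingHom fun a ha => hI ha
    have h1 : Set.range (PrimeSpectrum.comap (GLin.orbitHom k A x).toRingHom) =
        PrimeSpectrum.comap (Ideal.Quotient.mk I) '' Set.range (PrimeSpectrum.comap θ) := by
      rw [← Set.range_comp]; rfl
    have h2 : Set.range (PrimeSpectrum.comap (GLin.orbitHom k A (x.comp (IsScalarTower.toAlgHom k S R))).toRingHom) =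
        PrimeSpectrum.comap ψ '' Set.range (PrimeSpectrum.comap θ) := by
      rw [← Set.range_comp]
      have hθ : (GLin.orbitHom k A (x.comp (IsScalarTower.toAlgHom k S R))).toRingHom = θ.comp ψ :=
        RingHom.ext fun s => horb s
      rw [hθ]
      rfl
    show IsClosed _ ↔ IsClosed _
    rw [h1, h2, ← (PrimeSpectrum.isClosedEmbedding_comap_of_surjective _ (Ideal.Quotient.mk I)
      Ideal.Quotient.mk_surjective).isClosed_iff_image_isClosed,
      ← (PrimeSpectrum.isClosedEmbedding_comap_of_surjective _ ψ hψ).isClosed_iff_image_isClosed]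

end Groth.Agent.S19412
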