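import Groth.Statements.S19415
import Groth.Agent.WeilCohLib.Graph

set_option autoImplicit false
universe u v
open CategoryTheory AlgebraicGeometry
open WeilCoh

namespace Groth.Agent.S19415

/-- Let H be a Weil cohomology theory with coefficients in a field K of characteristic zero on
nonsingular connected projective varieties over an algebraically closed field k, X such a variety of
dimension n, P = X × X with its projections p, q, and F : X → X an endomorphism such that the
characteristic polynomials of F^* on the cohomology groups H^i(X), i ∈ ℤ, are pairwise coprime in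
K[T]. Then for every i the i-th Künneth projector of X is given by an algebraic correspondence with
coefficients in K: there is a class u in H^{2n}(P), lying in the K-linear span of the classes of
closed irreducible subsets of P, whose action β ↦ q_*(p^*(β) · u) is the identity on H^i(X) and zero
on H^j(X) for every j ≠ i (push-forward q_* taken on the homogeneous piece of degree j + 2n). The
published statement has rational coefficients, X defined over a finite field and F its Frobenius
endomorphism, the coprimality of the characteristic polynomials being deduced there from the Riemann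
hypothesis over finite fields and from the independence of these polynomials of the cohomology
theory; here that coprimality is the hypothesis and F is any endomorphism. -/
theorem result (k : Type u) [Field k]
    [IsAlgClosed k] (K : Type v) [Field K] [CharZero K] (T : WeilCoh.Theory k K)
    (X P : WeilCoh.Var k) (p q : P ⟶ X) (hP : WeilCoh.IsProd p q) (F : X ⟶ X)
    (hF : ∀ i j : ℤ, i ≠ j → IsCoprime (T.pullDeg F i).charpoly (T.pullDeg F j).charpoly)
    (i : ℤ) :
    ∃ u : ↥(T.gr P (2 * (WeilCoh.dim X.obj.left : ℤ))),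
      (u : T.H P) ∈ Submodule.span K (Set.range (T.cl P)) ∧
        ∀ (j : ℤ) (b : ↥(T.gr X j)),
          (T.push q (j + 2 * (WeilCoh.dim X.obj.left : ℤ))
              ⟨T.pull p (b : T.H X) * (u : T.H P),
                SetLike.mul_mem_graded (T.pull_mem p j b b.2) u.2⟩ : T.H X) =
            if j = i then (b : T.H X) else 0 := by
  classical
  have hd := Groth.Agent.WeilCohLib.dim_prod T p q hP
  let Fn : ℕ → (X ⟶ X) := fun n => Nat.rec (𝟙 X) (fun _ g => g ≫ F) n
  have hFn : ∀ (n : ℕ) (j : ℤ), T.pullDeg (Fn n) j = (T.pullDeg F j) ^ n := by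
    intro n j
    induction n with
    | zero => refine LinearMap.ext fun b => Subtype.ext ?_; change T.pull (𝟙 X) _ = _; rw [T.pull_id]; rfl
    | succ n ih =>
      rw [pow_succ, ← ih]
      refine LinearMap.ext fun b => Subtype.ext ?_
      change T.pull (Fn n ≫ F) _ = _
      rw [T.pull_comp]; rfl
  have key : ∀ g : Polynomial K, ∃ u : ↥(T.gr P (2 * (WeilCoh.dim X.obj.left : ℤ))),
      (u : T.H P) ∈ Submodule.span K (Set.range (T.cl P)) ∧ ∀ (j : ℤ) (b : ↥(T.gr X j)),
        (Groth.Agent.WeilCohLib.corr T p q _ u j b : T.H X) = (Polynomial.aeval (T.pullDeg F j) g b : T.H X) := by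
    intro g
    induction g using Polynomial.induction_on' with
    | add g g' hg hg' =>
      obtain ⟨u, hu, h⟩ := hg
      obtain ⟨u', hu', h'⟩ := hg'
      exact ⟨u + u', Submodule.add_mem _ hu hu', fun j b => by
        simp only [Groth.Agent.WeilCohLib.corr_add, LinearMap.add_apply, Submodule.coe_add, map_add, h, h']⟩
    | monomial n c =>
      obtain ⟨jn, hjp, hjq⟩ := Groth.Agent.WeilCohLib.exists_lift hP (Fn n) (𝟙 X)
      have hp := Groth.Agent.WeilCohLib.pdim_section hjq (genericPoint X.obj.left)
      rw [← Groth.Agent.WeilCohLib.dim_eq_pdim_genericPoint X.obj.hom] at hp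
      have hmem : T.cl P (WeilCoh.sm jn (genericPoint X.obj.left)) ∈ T.gr P (2 * (WeilCoh.dim X.obj.left : ℤ)) :=
        (show (WeilCoh.codim P.obj.left (WeilCoh.sm jn (genericPoint X.obj.left)) : ℤ) = WeilCoh.dim X.obj.left by
          rw [WeilCoh.codim, hp]; omega) ▸ T.cl_mem P _
      refine ⟨c • ⟨_, hmem⟩, Submodule.smul_mem _ c (Submodule.subset_span ⟨_, rfl⟩), fun j b => ?_⟩
      rw [Groth.Agent.WeilCohLib.corr_smul, LinearMap.smul_apply, Submodule.coe_smul,
        Groth.Agent.WeilCohLib.corr_transposeGraph T hP (Fn n) hjq hjp ⟨_, hmem⟩ rfl j b, Polynomial.aeval_monomial,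
        ← hFn n j, Module.algebraMap_end_eq_smul_id]
      rfl
  by_cases hi : 0 ≤ i ∧ i ≤ 2 * (WeilCoh.dim X.obj.left : ℤ)
  · set S : Finset ℤ := (Finset.Icc (0 : ℤ) (2 * (WeilCoh.dim X.obj.left : ℤ))).erase i with hS
    obtain ⟨a, c, hac⟩ : IsCoprime (T.pullDeg F i).charpoly (∏ j ∈ S, (T.pullDeg F j).charpoly) :=
      IsCoprime.prod_right fun j hj => hF i j (Finset.ne_of_mem_erase hj).symm
    obtain ⟨u, hu, h⟩ := key (c * ∏ j ∈ S, (T.pullDeg F j).charpoly)
    refine ⟨u, hu, fun j b => ?_⟩
    refine (h j b).trans ?_
    by_cases hj : j = i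
    · subst hj
      rw [if_pos rfl, show c * ∏ x ∈ S, (T.pullDeg F x).charpoly = 1 - a * (T.pullDeg F j).charpoly by
        linear_combination hac, map_sub, map_mul, LinearMap.aeval_self_charpoly, mul_zero, map_one]
      simp
    · rw [if_neg hj]
      by_cases hjr : 0 ≤ j ∧ j ≤ 2 * (WeilCoh.dim X.obj.left : ℤ)
      · obtain ⟨q', hq'⟩ : (T.pullDeg F j).charpoly ∣ ∏ x ∈ S, (T.pullDeg F x).charpoly :=
          Finset.dvd_prod_of_mem (fun x => (T.pullDeg F x).charpoly) (Finset.mem_erase.2 ⟨hj, Finset.mem_Icc.2 hjr⟩)
        rw [hq', map_mul, map_mul, LinearMap.aeval_self_charpoly, zero_mul, mul_zero]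
        rfl
      · exact Groth.Agent.WeilCohLib.eq_zero_of_mem_of_lt T X (Subtype.coe_prop _) (by omega)
  · refine ⟨0, Submodule.zero_mem _, fun j b => ?_⟩
    change ((Groth.Agent.WeilCohLib.corr T p q (2 * (WeilCoh.dim X.obj.left : ℤ)) 0 j b : T.H X)) = _
    rw [Groth.Agent.WeilCohLib.corr_zero]
    split_ifs with hj
    · subst hj
      exact (Groth.Agent.WeilCohLib.eq_zero_of_mem_of_lt T X b.2 (by omega)).symm
    · rfl

end Groth.Agent.S19415
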