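import Groth.Statements.S19419
import Groth.Agent.CycLib.ClosedPull
import Groth.Agent.CycLib.Shift
import Groth.Agent.BivarLib.Basic
import Groth.Agent.CycLib.FieldSetup
import Groth.Agent.CycLib.SetupLft
import Groth.Agent.CycLib.GysinBC

set_option autoImplicit false
universe u
open CategoryTheory CategoryTheory.Limits AlgebraicGeometry
open Cyc

namespace Groth.Agent.S19419

/-- Let X be a smooth proper integral curve over an algebraically closed field k, with generic point η,
and ψ : X → X a flat endomorphism over k. Let Y = X ×_k X with its two projections, m = ψ × id : Y →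
Y (first projection intertwines ψ, second projection unchanged), d : X → Y the diagonal and g = (id,
ψ) : X → Y the graph of ψ. For the dimension function δ on Y induced from weight 0 on Spec k, the
flat pull-back of cycles along m in relative dimension 0 takes the diagonal divisor [Δ], the cycle
equal to 1 at d(η) and 0 elsewhere, to the graph divisor [Γ_ψ], the cycle equal to 1 at g(η) and 0
elsewhere: (ψ × id)^*[Δ] = [Γ_ψ]. The published statement allows any endomorphism ψ and reads the
pull-back on divisors; flatness of ψ is what the flat pull-back of cycles requires (the intended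
case is the Frobenius endomorphism), and iterating gives [Γ_{ψ^n}] = ((ψ × id)^*)^n [Δ]. -/
theorem result (k : Type u) [Field k]
    [IsAlgClosed k] (X : Scheme.{u}) (f : X ⟶ Spec (CommRingCat.of k)) [Smooth f] [IsProper f]
    [IsIntegral X] (hdim : topologicalKrullDim ↥X = 1) (ψ : X ⟶ X) (hψ : ψ ≫ f = f) [Flat ψ]
    (m : pullback f f ⟶ pullback f f) (hm₁ : m ≫ pullback.fst f f = pullback.fst f f ≫ ψ)
    (hm₂ : m ≫ pullback.snd f f = pullback.snd f f) (g : X ⟶ pullback f f)
    (hg₁ : g ≫ pullback.fst f f = 𝟙 X) (hg₂ : g ≫ pullback.snd f f = ψ)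
    (δ : ↥(pullback f f) → ℤ) (hδ : Cyc.DeltaCompat (pullback.fst f f ≫ f) δ (fun _ => 0)) :
    Cyc.pullFun m δ δ 0
        (Set.indicator ({pullback.diagonal f (genericPoint ↥X)} : Set ↥(pullback f f)) (fun _ => (1 : ℤ))) =
      Set.indicator ({g (genericPoint ↥X)} : Set ↥(pullback f f)) (fun _ => (1 : ℤ)) := by
  classical
  haveI : IsClosedImmersion (pullback.diagonal f) := inferInstance
  let d := pullback.diagonal f
  let η := genericPoint X
  haveI : IsClosedImmersion d := inferInstanceAs (IsClosedImmersion (pullback.diagonal f))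
  obtain ⟨δX, hX⟩ := Groth.Agent.BivarLib.exists_delta f (fun _ => (0 : ℤ))
  have hsX := Groth.Agent.CycLib.isSetup_of_lft f (Groth.Agent.CycLib.isSetup_spec_field k) hX
  haveI : LocallyOfFiniteType (ψ ≫ f) := by rw [hψ]; infer_instance
  haveI := locallyOfFiniteType_of_comp ψ f
  have hψd : Cyc.DeltaCompat ψ δX δX :=
    Groth.Agent.BivarLib.deltaCompat_of_comp ψ f (by rw [hψ]; exact hX) hX
  have hψη : ψ η = η := by
    obtain ⟨a, -, ha⟩ := Flat.generalizingMap (f := ψ) (genericPoint_specializes (ψ η))
    obtain ⟨b, hb, hb'⟩ := Flat.generalizingMap (f := ψ) (show η ⤳ ψ η from genericPoint_specializes (ψ η))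
    have : b = η := (hb.antisymm (genericPoint_specializes b)).eq
    exact (congrArg ψ this).symm.trans hb'
  have honly : ∀ x, ψ x = η → x = η := fun x hx => by
    by_contra hne
    have h1 : δX x < δX η := (hsX.2.2 _ _ (genericPoint_specializes x) (fun e => hne e.symm)).1
    obtain ⟨n, -, hn⟩ := hψd x
    rw [hx] at hn
    omega
  -- the graph is the pull back of the diagonal
  have hc : ψ ≫ d = g ≫ m := by
    apply pullback.hom_ext
    · rw [Category.assoc, Category.assoc, hm₁, ← Category.assoc g, hg₁, Category.id_comp,
        pullback.diagonal_fst, Category.comp_id]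
    · rw [Category.assoc, Category.assoc, hm₂, hg₂, pullback.diagonal_snd, Category.comp_id]
  let e : X ≅ pullback d m :=
    { hom := pullback.lift ψ g hc
      inv := pullback.snd d m ≫ pullback.fst f f
      hom_inv_id := by rw [pullback.lift_snd_assoc, hg₁]
      inv_hom_id := by
        have h1 := pullback.condition (f := d) (g := m)
        have ha : pullback.fst d m = pullback.snd d m ≫ pullback.fst f f ≫ ψ := by
          have := congrArg (fun φ => φ ≫ pullback.fst f f) h1
          rwa [Category.assoc, pullback.diagonal_fst, Category.comp_id, Category.assoc, hm₁] at this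
        have hb : pullback.fst d m = pullback.snd d m ≫ pullback.snd f f := by
          have := congrArg (fun φ => φ ≫ pullback.snd f f) h1
          rwa [Category.assoc, pullback.diagonal_snd, Category.comp_id, Category.assoc, hm₂] at this
        apply pullback.hom_ext
        · rw [Category.assoc, pullback.lift_fst, Category.id_comp, Category.assoc, ← ha]
        · rw [Category.assoc, pullback.lift_snd, Category.id_comp]
          apply pullback.hom_ext
          · rw [Category.assoc, hg₁, Category.comp_id]
          · rw [Category.assoc, hg₂, Category.assoc, ← ha, hb] }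
  haveI : IsIso e.hom := e.isIso_hom
  haveI : IsClosedImmersion g := by
    rw [show g = e.hom ≫ pullback.snd d m from (pullback.lift_snd _ _ _).symm]
    infer_instance
  let z := e.hom η
  have hz₁ : pullback.fst d m z = η := by
    rw [← Scheme.Hom.comp_apply, show e.hom ≫ pullback.fst d m = ψ from pullback.lift_fst _ _ _, hψη]
  have hz₂ : pullback.snd d m z = g η := by
    rw [← Scheme.Hom.comp_apply, show e.hom ≫ pullback.snd d m = g from pullback.lift_snd _ _ _]
  have hsq : ∀ w, d (pullback.fst d m w) = m (pullback.snd d m w) := fun w => by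
    rw [← Scheme.Hom.comp_apply, pullback.condition, Scheme.Hom.comp_apply]
  have hmg : m (g η) = d η := by rw [← hz₂, ← hsq, hz₁]
  have hfib : ∀ y : ↥(pullback f f), m y = d η → y = g η := fun y hy => by
    obtain ⟨w, hw₁, hw₂⟩ := Scheme.Pullback.exists_preimage_pullback (f := d) (g := m) η y hy.symm
    have h1 : ψ (e.inv w) = η := by
      rw [← hw₁, ← Scheme.Hom.comp_apply, ← show e.hom ≫ pullback.fst d m = ψ from pullback.lift_fst _ _ _,
        e.inv_hom_id_assoc]
    have h2 := honly _ h1
    rw [← hw₂, ← hz₂]
    show _ = pullback.snd d m (e.hom η)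
    rw [← h2, ← Scheme.Hom.comp_apply e.inv e.hom, e.inv_hom_id]
    rfl
  -- dimensions
  have hdd : ∀ (i : X ⟶ pullback f f) [IsClosedImmersion i], i ≫ pullback.fst f f = 𝟙 X → δ (i η) = δX η := by
    intro i _ hi
    have h1 : Cyc.DeltaCompat i δX δ := Groth.Agent.BivarLib.deltaCompat_of_comp i (pullback.fst f f ≫ f)
      (by rw [← Category.assoc, hi, Category.id_comp]; exact hX) hδ
    exact (congrFun (Groth.Agent.BivarLib.delta_unique h1 (Groth.Agent.CycLib.deltaCompat_preimmersion i δ)) η).symm
  -- the multiplicity
  haveI : (Groth.Agent.CycLib.fibIdeal m (g η)).IsMaximal := by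
    suffices H : (Groth.Agent.CycLib.fibIdeal m (pullback.snd d m z)).IsMaximal by rwa [hz₂] at H
    have hfX : ∀ x : X, x = η → IsField (X.presheaf.stalk x) := by
      rintro _ rfl
      exact Field.toIsField X.functionField
    have hker : RingHom.ker (d.stalkMap (pullback.fst d m z)).hom = IsLocalRing.maximalIdeal _ := by
      letI := (hfX _ hz₁).toField
      exact IsLocalRing.eq_maximalIdeal (RingHom.ker_isMaximal_of_surjective _ (d.stalkMap_surjective _))
    have hspec : ∀ {a b : ↥(pullback f f)} (h : a = b) (sp : a ⤳ b),
        (IsLocalRing.maximalIdeal ((pullback f f).presheaf.stalk b)).map ((pullback f f).presheaf.stalkSpecializes sp).hom =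
          IsLocalRing.maximalIdeal ((pullback f f).presheaf.stalk a) := by
      rintro a _ rfl sp
      rw [TopCat.Presheaf.stalkSpecializes_refl, CommRingCat.hom_id, Ideal.map_id]
    have h1 := Groth.Agent.CycLib.ker_stalkMap_snd m d z (specializes_of_eq (hsq z).symm)
    rw [hker, CommRingCat.hom_comp, ← Ideal.map_map, hspec (hsq z).symm] at h1
    rw [Groth.Agent.CycLib.fibIdeal, ← h1]
    have hfz : IsField ((pullback d m).presheaf.stalk z) :=
      MulEquiv.isField (hfX η rfl) (asIso (e.hom.stalkMap η)).commRingCatIsoToRingEquiv.toMulEquiv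
    letI := hfz.toField
    exact RingHom.ker_isMaximal_of_surjective _ ((pullback.snd d m).stalkMap_surjective z)
  funext y
  rw [Groth.Agent.CycLib.pullFun_apply]
  by_cases hy : y = g η
  · subst hy
    rw [if_pos (by rw [hmg, add_zero, hdd g hg₁, hdd d (pullback.diagonal_fst f)]), hmg,
      Set.indicator_of_mem (Set.mem_singleton _), Set.indicator_of_mem (Set.mem_singleton _), one_mul,
      Module.length_eq_one_iff.2 (isSimpleModule_iff_isCoatom.2 (inferInstance :
        (Groth.Agent.CycLib.fibIdeal m (g η)).IsMaximal).out)]
    rfl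
  · rw [Set.indicator_of_notMem (fun h : m y ∈ ({d η} : Set _) => hy (hfib y h)),
      Set.indicator_of_notMem (fun h : y ∈ ({g η} : Set _) => hy h)]
    split_ifs <;> simp

end Groth.Agent.S19419
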