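import Groth.Statements.S19424
import Groth.Agent.GrpQuotLib.Orbit

set_option autoImplicit false
universe u
open CategoryTheory MonoidalCategory CartesianMonoidalCategory MonObj AlgebraicGeometry Topology
open NRQuot

namespace Groth.Agent.S19424

open CategoryTheory CategoryTheory.Limits AlgebraicGeometry

open CategoryTheory CategoryTheory.Limits MonoidalCategory CartesianMonoidalCategory MonObj AlgebraicGeometry

theorem isPullback_whiskerLeft_left {S : Scheme.{u}} (A : Over S) {T' T : Over S} (t : T' ⟶ T) :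
    IsPullback (A ◁ t).left (snd A T').left (snd A T).left t.left := by
  refine IsPullback.of_right (h₁₂ := (fst A T).left) (v₁₃ := A.hom) (h₂₂ := T.hom) ?_ ?_
    (IsPullback.of_hasPullback A.hom T.hom)
  · rw [← Over.comp_left, whiskerLeft_fst, Over.w t]
    exact IsPullback.of_hasPullback A.hom T'.hom
  · rw [← Over.comp_left, whiskerLeft_snd, Over.comp_left]

variable {k : Type u} [Field k] {G X : Over (Spec (CommRingCat.of k))} [GrpObj G]

theorem isInvariantSet_closure_orbit [LocallyOfFiniteType G.hom] (a : AlgGrp.Action G X)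
    (x : 𝟙_ (Over (Spec (CommRingCat.of k))) ⟶ X) :
    NRQuot.IsInvariantSet a (closure (Set.range (a.orbitMap x).left.base)) := by
  intro p hp
  haveI : UniversallyOpen (snd G X).left := inferInstanceAs (UniversallyOpen (pullback.snd G.hom X.hom))
  let o := a.orbitMap x
  have e : (G ◁ o) ≫ a.act = (fst G G * snd G G) ≫ o := by
    rw [Groth.Agent.GrpQuotLib.comp_orbitMap, Groth.Agent.GrpQuotLib.mul_smul,
      show toUnit (G ⊗ G) = snd G G ≫ toUnit G from toUnit_unique _ _]
    have h1 : lift (snd G G) ((snd G G ≫ toUnit G) ≫ x) ≫ a.act = snd G G ≫ o := by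
      rw [Groth.Agent.GrpQuotLib.comp_orbitMap, show toUnit (G ⊗ G) = snd G G ≫ toUnit G from toUnit_unique _ _]
    rw [h1]
    congr 1
  have hsub : a.act.left '' ((snd G X).left ⁻¹' Set.range o.left.base) ⊆ Set.range o.left.base := by
    rintro _ ⟨q, ⟨g, hg⟩, rfl⟩
    obtain ⟨r, hr, -⟩ := Scheme.exists_preimage_of_isPullback (isPullback_whiskerLeft_left G o) q g hg.symm
    refine ⟨(fst G G * snd G G).left r, ?_⟩
    rw [← hr, ← Scheme.Hom.comp_apply, ← Scheme.Hom.comp_apply, ← Over.comp_left, ← Over.comp_left, e]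
  exact closure_mono hsub (image_closure_subset_closure_image a.act.left.continuous
    ⟨p, (snd G X).left.isOpenMap.preimage_closure_subset_closure_preimage hp, rfl⟩)

theorem point_mem_orbit (a : AlgGrp.Action G X) (x : 𝟙_ (Over (Spec (CommRingCat.of k))) ⟶ X)
    (t : ↥(𝟙_ (Over (Spec (CommRingCat.of k)))).left) : x.left t ∈ Set.range (a.orbitMap x).left.base := by
  refine ⟨(1 : 𝟙_ (Over (Spec (CommRingCat.of k))) ⟶ G).left t, ?_⟩
  rw [← Scheme.Hom.comp_apply, ← Over.comp_left, Groth.Agent.GrpQuotLib.comp_orbitMap,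
    toUnit_unique (toUnit (𝟙_ (Over (Spec (CommRingCat.of k))))) (𝟙 _), Category.id_comp, Groth.Agent.GrpQuotLib.one_smul]

/-- Rational points with the same image are equal. -/
theorem ext_section {Y : Scheme.{u}} (h : Y ⟶ Spec (CommRingCat.of k)) {f g : Spec (CommRingCat.of k) ⟶ Y}
    (hf : f ≫ h = 𝟙 _) (hg : g ≫ h = 𝟙 _) (H : f (IsLocalRing.closedPoint k) = g (IsLocalRing.closedPoint k)) :
    f = g := by
  obtain ⟨V, hV, hyV, -⟩ := exists_isAffineOpen_mem_and_subset (U := (⊤ : Y.Opens))
    (x := f (IsLocalRing.closedPoint k)) trivial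
  have hr : ∀ u : Spec (CommRingCat.of k) ⟶ Y, u (IsLocalRing.closedPoint k) ∈ V → Set.range u ⊆ Set.range hV.fromSpec := by
    rintro u hu _ ⟨z, rfl⟩
    rw [hV.range_fromSpec, Subsingleton.elim z (IsLocalRing.closedPoint k)]
    exact hu
  obtain ⟨φ, hφ⟩ : ∃ φ, Spec.map φ ≫ hV.fromSpec = f := ⟨Spec.preimage (IsOpenImmersion.lift hV.fromSpec f (hr f hyV)),
    by rw [Spec.map_preimage, IsOpenImmersion.lift_fac]⟩
  obtain ⟨ψ, hψ⟩ : ∃ ψ, Spec.map ψ ≫ hV.fromSpec = g := ⟨Spec.preimage (IsOpenImmersion.lift hV.fromSpec g (hr g (H ▸ hyV))),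
    by rw [Spec.map_preimage, IsOpenImmersion.lift_fac]⟩
  let jV := Spec.preimage (hV.fromSpec ≫ h)
  have hjV : Spec.map jV = hV.fromSpec ≫ h := Spec.map_preimage _
  have h1 : ∀ c, φ (jV c) = c := fun c => congr($(Spec.map_injective (show Spec.map (jV ≫ φ) = Spec.map (𝟙 _) by
    rw [Spec.map_comp, hjV, ← Category.assoc, hφ, hf, Spec.map_id])) c)
  have h2 : ∀ c, ψ (jV c) = c := fun c => congr($(Spec.map_injective (show Spec.map (jV ≫ ψ) = Spec.map (𝟙 _) by
    rw [Spec.map_comp, hjV, ← Category.assoc, hψ, hg, Spec.map_id])) c)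
  have h3 : Spec.map φ (IsLocalRing.closedPoint k) = Spec.map ψ (IsLocalRing.closedPoint k) :=
    hV.fromSpec.isOpenEmbedding.injective (by rw [← Scheme.Hom.comp_apply, ← Scheme.Hom.comp_apply, hφ, hψ, H])
  have h4 : ∀ b, φ b = 0 → ψ b = 0 := fun b hb => by
    have hb1 : b ∈ (Spec.map φ (IsLocalRing.closedPoint k)).asIdeal := by
      show φ b ∈ IsLocalRing.maximalIdeal k
      rw [hb]
      exact zero_mem _
    rw [h3] at hb1
    have hb2 : ψ b ∈ IsLocalRing.maximalIdeal k := hb1
    rw [IsLocalRing.maximalIdeal_eq_bot] at hb2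
    exact hb2
  rw [← hφ, ← hψ, show φ = ψ from ?_]
  ext b
  have h5 := h4 (b - jV (φ b)) (by rw [map_sub, h1, sub_self])
  rw [map_sub, h2, sub_eq_zero] at h5
  exact h5.symm


/-- Let k be an algebraically closed field, G an affine group scheme of finite type over k acting on a
k-scheme X locally of finite type, and φ : X → Y a good quotient (affine and invariant, functions on
every open of Y are exactly the invariant functions on its preimage, invariant closed subsets have
closed images, and images commute with intersections of families of invariant closed subsets). Then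
for two k-points x₁, x₂ of X, the closures of their orbits (the images of the orbit morphisms G → X)
have a common point if and only if x₁ and x₂ have the same image in Y. -/
theorem result
    (k : Type u) [Field k] [IsAlgClosed k]
    (G X Y : Over (Spec (CommRingCat.of k))) [GrpObj G] [IsAffine G.left] [LocallyOfFiniteType G.hom]
    [LocallyOfFiniteType X.hom]
    (a : AlgGrp.Action G X) (φ : X ⟶ Y) (h : NRQuot.IsGoodQuot a φ)
    (x₁ x₂ : 𝟙_ (Over (Spec (CommRingCat.of k))) ⟶ X) :
    (closure (Set.range (a.orbitMap x₁).left.base) ∩ closure (Set.range (a.orbitMap x₂).left.base)).Nonempty ↔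
      x₁ ≫ φ = x₂ ≫ φ := by
  let t₀ : ↥(𝟙_ (Over (Spec (CommRingCat.of k)))).left := IsLocalRing.closedPoint k
  haveI : Subsingleton ↥(𝟙_ (Over (Spec (CommRingCat.of k)))).left := inferInstanceAs (Subsingleton (Spec (CommRingCat.of k)))
  have hsub : ∀ x : 𝟙_ (Over (Spec (CommRingCat.of k))) ⟶ X,
      closure (Set.range (a.orbitMap x).left.base) ⊆ φ.left ⁻¹' {(x ≫ φ).left t₀} := by
    intro x
    have hcl : IsClosed ({(x ≫ φ).left t₀} : Set ↥Y.left) := by
      haveI : Subsingleton (Spec (CommRingCat.of k)) := inferInstance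
      haveI : Nonempty ↥(𝟙_ (Over (Spec (CommRingCat.of k)))).left := ⟨t₀⟩
      haveI : IsClosedImmersion (x ≫ φ).left := isClosedImmersion_of_comp_eq_id Y.hom (x ≫ φ).left (Over.w (x ≫ φ))
      have h2 := (x ≫ φ).left.isClosedEmbedding.isClosed_range
      rwa [Set.range_eq_singleton_iff.mpr fun s => by rw [Subsingleton.elim s t₀]] at h2
    refine closure_minimal ?_ (hcl.preimage φ.left.continuous)
    rintro _ ⟨g, rfl⟩
    show φ.left ((a.orbitMap x).left g) = _
    have e : a.orbitMap x ≫ φ = toUnit G ≫ x ≫ φ := by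
      rw [AlgGrp.Action.orbitMap, Category.assoc, h.inv, lift_snd_assoc, Category.assoc]
    rw [← Scheme.Hom.comp_apply, ← Over.comp_left, e, Over.comp_left, Scheme.Hom.comp_apply,
      Subsingleton.elim ((toUnit G).left g) t₀]
  constructor
  · rintro ⟨p, h1, h2⟩
    refine Over.OverMorphism.ext (ext_section Y.hom (Over.w (x₁ ≫ φ)) (Over.w (x₂ ≫ φ)) ?_)
    exact (hsub x₁ h1).symm.trans (hsub x₂ h2)
  · intro he
    let C : ULift.{u} Bool → Set ↥X.left := fun i =>
      closure (Set.range (a.orbitMap (cond i.down x₁ x₂)).left.base)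
    have hi := h.inter _ C (fun i => isClosed_closure) fun i => isInvariantSet_closure_orbit a _
    have hy : φ.left (x₁.left t₀) ∈ ⋂ i, φ.left '' C i := by
      refine Set.mem_iInter.mpr fun ⟨i⟩ => ?_
      cases i
      · refine ⟨x₂.left t₀, subset_closure (point_mem_orbit a x₂ t₀), ?_⟩
        rw [← Scheme.Hom.comp_apply, ← Scheme.Hom.comp_apply, ← Over.comp_left, ← Over.comp_left, he]
      · exact ⟨x₁.left t₀, subset_closure (point_mem_orbit a x₁ t₀), rfl⟩
    obtain ⟨p, hp, -⟩ := hi.ge hy
    exact ⟨p, Set.mem_iInter.mp hp ⟨true⟩, Set.mem_iInter.mp hp ⟨false⟩⟩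


end Groth.Agent.S19424
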