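import Groth.Statements.S19425


set_option autoImplicit false
universe u
open CategoryTheory MonoidalCategory CartesianMonoidalCategory MonObj AlgebraicGeometry Topology
open NRQuot

namespace Groth.Agent.S19425

open CategoryTheory CategoryTheory.Limits AlgebraicGeometry

open CategoryTheory CategoryTheory.Limits MonoidalCategory CartesianMonoidalCategory AlgebraicGeometry

theorem isPullback_whiskerLeft_left {S : Scheme.{u}} (A : Over S) {T' T : Over S} (t : T' ⟶ T) :
    IsPullback (A ◁ t).left (snd A T').left (snd A T).left t.left := by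
  refine IsPullback.of_right (h₁₂ := (fst A T).left) (v₁₃ := A.hom) (h₂₂ := T.hom) ?_ ?_
    (IsPullback.of_hasPullback A.hom T.hom)
  · rw [← Over.comp_left, whiskerLeft_fst, Over.w t]
    exact IsPullback.of_hasPullback A.hom T'.hom
  · rw [← Over.comp_left, whiskerLeft_snd, Over.comp_left]

theorem appLE_congr_hom' {X Y : Scheme.{u}} {f g : X ⟶ Y} (h : f = g) {U : Y.Opens} {V : X.Opens}
    (e : V ≤ f ⁻¹ᵁ U) (e' : V ≤ g ⁻¹ᵁ U) : f.appLE U V e = g.appLE U V e' := by
  subst h; rfl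

theorem bijective_appLE {X Y : Scheme.{u}} (g : X ⟶ Y) [IsOpenImmersion g] {U : Y.Opens} (hU : U ≤ g.opensRange)
    {V : X.Opens} (hV : V = g ⁻¹ᵁ U) : Function.Bijective (g.appLE U V hV.le) := by
  subst hV
  haveI := g.isIso_app U hU
  rw [← Scheme.Hom.app_eq_appLE]
  exact ConcreteCategory.bijective_of_isIso (g.app U)


/-- Let k be an algebraically closed field, G an affine group scheme of finite type over k acting on a
k-scheme X locally of finite type, φ : X → Y a good quotient (affine and invariant, functions on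
every open of Y are exactly the invariant functions on its preimage, invariant closed subsets have
closed images, and images commute with intersections of families of invariant closed subsets), and U
an open subset of Y. Equip the open subscheme φ⁻¹(U) of X with the restricted action, given here as
an action compatible with the inclusion into X, and let φ_U : φ⁻¹(U) → U be the restriction of φ.
Then φ_U is a good quotient for the restricted action. -/
theorem result
    (k : Type u) [Field k] [IsAlgClosed k]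
    (G X Y : Over (Spec (CommRingCat.of k))) [GrpObj G] [IsAffine G.left] [LocallyOfFiniteType G.hom]
    [LocallyOfFiniteType X.hom]
    (a : AlgGrp.Action G X) (φ : X ⟶ Y) (h : NRQuot.IsGoodQuot a φ)
    (U : Y.left.Opens)
    (aU : AlgGrp.Action G (Over.mk ((φ.left ⁻¹ᵁ U).ι ≫ X.hom)))
    (jU : Over.mk ((φ.left ⁻¹ᵁ U).ι ≫ X.hom) ⟶ X) (hjU : jU.left = (φ.left ⁻¹ᵁ U).ι)
    (haU : aU.act ≫ jU = (G ◁ jU) ≫ a.act)
    (φU : Over.mk ((φ.left ⁻¹ᵁ U).ι ≫ X.hom) ⟶ Over.mk (U.ι ≫ Y.hom))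
    (hφU : φU.left ≫ U.ι = (φ.left ⁻¹ᵁ U).ι ≫ φ.left) :
    NRQuot.IsGoodQuot aU φU := by
  let XU := Over.mk ((φ.left ⁻¹ᵁ U).ι ≫ X.hom)
  let j := jU.left
  haveI : IsOpenImmersion jU.left := by rw [hjU]; exact inferInstanceAs (IsOpenImmersion (φ.left ⁻¹ᵁ U).ι)
  let m := (G ◁ jU).left
  have hm : IsPullback m (snd G XU).left (snd G X).left jU.left := isPullback_whiskerLeft_left G jU
  haveI : IsOpenImmersion m := MorphismProperty.of_isPullback hm.flip ‹_›
  have hjr : ∀ x, x ∈ Set.range j ↔ φ.left x ∈ U := fun x => by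
    show x ∈ Set.range jU.left ↔ _
    rw [hjU]
    exact (Set.ext_iff.mp (Scheme.Opens.range_ι _) x).trans Iff.rfl
  have hφj : φU.left ≫ U.ι = j ≫ φ.left := hφU.trans (congrArg (· ≫ φ.left) hjU.symm)
  have hact : aU.act.left ≫ j = m ≫ a.act.left := by rw [← Over.comp_left, ← Over.comp_left, haU]
  have hsnd : (snd G XU).left ≫ j = m ≫ (snd G X).left := hm.w.symm
  have hinv : GIT.IsInvariant aU φU := by
    refine Over.OverMorphism.ext ?_
    rw [Over.comp_left, Over.comp_left, ← cancel_mono U.ι, Category.assoc, Category.assoc, hφj, reassoc_of% hact,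
      h.inv.left, ← Category.assoc, ← Category.assoc]
    rw [hsnd]
  have haff : IsAffineHom φU.left := by
    haveI := h.affine
    have hp : IsPullback φU.left (φ.left ⁻¹ᵁ U).ι U.ι φ.left := by
      refine IsOpenImmersion.isPullback _ _ _ _ hφU.symm ?_
      rw [Scheme.Opens.opensRange_ι, Scheme.Opens.opensRange_ι]
    exact MorphismProperty.of_isPullback hp.flip h.affine
  -- invariant closed subsets extend by the complement of the open
  have key : ∀ W : Set ↥XU.left, IsClosed W → NRQuot.IsInvariantSet aU W →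
      IsClosed (j '' W ∪ φ.left ⁻¹' (U : Set ↥Y.left)ᶜ) ∧
        NRQuot.IsInvariantSet a (j '' W ∪ φ.left ⁻¹' (U : Set ↥Y.left)ᶜ) := by
    intro W hW hWi
    constructor
    · rw [← isOpen_compl_iff]
      have : (j '' W ∪ φ.left ⁻¹' (U : Set ↥Y.left)ᶜ)ᶜ = j '' Wᶜ := by
        ext x
        simp only [Set.mem_compl_iff, Set.mem_union, Set.mem_image, Set.mem_preimage, SetLike.mem_coe, not_or, not_not]
        constructor
        · rintro ⟨h1, h2⟩
          obtain ⟨z, rfl⟩ := (hjr x).mpr h2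
          exact ⟨z, fun hz => h1 ⟨z, hz, rfl⟩, rfl⟩
        · rintro ⟨z, hz, rfl⟩
          exact ⟨fun ⟨z', hz', e⟩ => hz (jU.left.isOpenEmbedding.injective e ▸ hz'), (hjr _).mp ⟨z, rfl⟩⟩
      rw [this]
      exact jU.left.isOpenEmbedding.isOpenMap _ hW.isOpen_compl
    · intro p hp
      rcases hp with ⟨z, hz, hzp⟩ | hp
      · obtain ⟨q, hq1, hq2⟩ := Scheme.exists_preimage_of_isPullback hm p z hzp.symm
        refine Or.inl ⟨aU.act.left q, hWi q ?_, ?_⟩
        · show (snd G XU).left q ∈ W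
          rw [hq2]; exact hz
        · rw [← Scheme.Hom.comp_apply, hact, Scheme.Hom.comp_apply, hq1]
      · refine Or.inr ?_
        show φ.left (a.act.left p) ∈ (U : Set ↥Y.left)ᶜ
        rw [← Scheme.Hom.comp_apply, h.inv.left]
        exact hp
  have himg : ∀ (W : Set ↥XU.left) (y : ↥(U : Scheme.{u})),
      y ∈ φU.left '' W ↔ U.ι y ∈ φ.left '' (j '' W ∪ φ.left ⁻¹' (U : Set ↥Y.left)ᶜ) := by
    intro W y
    constructor
    · rintro ⟨z, hz, rfl⟩
      exact ⟨j z, Or.inl ⟨z, hz, rfl⟩, by rw [← Scheme.Hom.comp_apply, ← hφj]; rfl⟩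
    · rintro ⟨x, (⟨z, hz, rfl⟩ | hx), hxy⟩
      · refine ⟨z, hz, U.ι.isOpenEmbedding.injective ?_⟩
        rw [← hxy, ← Scheme.Hom.comp_apply, ← Scheme.Hom.comp_apply, hφj]
      · exact absurd (hxy ▸ y.2 : φ.left x ∈ U) hx
  refine ⟨haff, hinv, fun V => ?_, fun W hW hWi => ?_, fun J W hW hWi => ?_⟩
  · let W := U.ι ''ᵁ V
    let O := φ.left ⁻¹ᵁ W
    let O' := φU.left ⁻¹ᵁ V
    have hO' : O' = jU.left ⁻¹ᵁ O := by
      show φU.left ⁻¹ᵁ V = jU.left ⁻¹ᵁ (φ.left ⁻¹ᵁ (U.ι ''ᵁ V))
      rw [← Scheme.Hom.comp_preimage, ← hφj, Scheme.Hom.comp_preimage, Scheme.Hom.preimage_image_eq]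
    have hOr : O ≤ jU.left.opensRange := fun x hx => by
      refine (hjr x).mpr ?_
      obtain ⟨v, -, hv⟩ := hx
      exact hv ▸ v.2
    have hr := bijective_appLE jU.left hOr hO'
    have hs : Function.Bijective (U.ι.appLE W V (U.ι.preimage_image_eq V).ge) :=
      bijective_appLE U.ι (U.ι.image_le_opensRange V) (U.ι.preimage_image_eq V).symm
    have hcomm : ∀ s, φU.left.app V (U.ι.appLE W V (U.ι.preimage_image_eq V).ge s) =
        jU.left.appLE O O' hO'.le (φ.left.app W s) := fun s => by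
      rw [Scheme.Hom.app_eq_appLE, Scheme.Hom.app_eq_appLE, ← CommRingCat.comp_apply, ← CommRingCat.comp_apply,
        Scheme.Hom.appLE_comp_appLE, Scheme.Hom.appLE_comp_appLE]
      exact congr($(appLE_congr_hom' hφj _ _) s)
    let P := a.act.left ⁻¹ᵁ O ⊓ (snd G X).left ⁻¹ᵁ O
    let P' := aU.act.left ⁻¹ᵁ O' ⊓ (snd G XU).left ⁻¹ᵁ O'
    have hP' : P' = m ⁻¹ᵁ P := by
      show aU.act.left ⁻¹ᵁ O' ⊓ (snd G XU).left ⁻¹ᵁ O' = m ⁻¹ᵁ (a.act.left ⁻¹ᵁ O) ⊓ m ⁻¹ᵁ ((snd G X).left ⁻¹ᵁ O)
      rw [hO']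
      refine congrArg₂ (· ⊓ ·) ?_ ?_
      · show (aU.act.left ≫ j) ⁻¹ᵁ O = (m ≫ a.act.left) ⁻¹ᵁ O
        rw [hact]
      · show ((snd G XU).left ≫ j) ⁻¹ᵁ O = (m ≫ (snd G X).left) ⁻¹ᵁ O
        rw [hsnd]
    have hPr : P ≤ m.opensRange := fun p hp => by
      obtain ⟨z, hz⟩ := hOr hp.2
      obtain ⟨q, hq, -⟩ := Scheme.exists_preimage_of_isPullback hm p z hz.symm
      exact ⟨q, hq⟩
    have hq := bijective_appLE m hPr hP'
    have hiff : ∀ f, GIT.IsInvSection aU φU V (jU.left.appLE O O' hO'.le f) ↔ GIT.IsInvSection a φ W f := fun f => by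
      have e1 : aU.act.left.appLE O' P' inf_le_left (jU.left.appLE O O' hO'.le f) =
          m.appLE P P' hP'.le (a.act.left.appLE O P inf_le_left f) := by
        rw [← CommRingCat.comp_apply, ← CommRingCat.comp_apply, Scheme.Hom.appLE_comp_appLE, Scheme.Hom.appLE_comp_appLE]
        exact congr($(appLE_congr_hom' hact _ _) f)
      have e2 : (snd G XU).left.appLE O' P' inf_le_right (jU.left.appLE O O' hO'.le f) =
          m.appLE P P' hP'.le ((snd G X).left.appLE O P inf_le_right f) := by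
        rw [← CommRingCat.comp_apply, ← CommRingCat.comp_apply, Scheme.Hom.appLE_comp_appLE, Scheme.Hom.appLE_comp_appLE]
        exact congr($(appLE_congr_hom' hsnd _ _) f)
      show aU.act.left.appLE O' P' _ _ = (snd G XU).left.appLE O' P' _ _ ↔ _
      rw [e1, e2]
      exact hq.1.eq_iff
    obtain ⟨hinj, hrange⟩ := h.sections W
    refine ⟨fun s t hst => ?_, ?_⟩
    · obtain ⟨s, rfl⟩ := hs.2 s
      obtain ⟨t, rfl⟩ := hs.2 t
      rw [hcomm, hcomm] at hst
      rw [hinj (hr.1 hst)]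
    · ext g
      constructor
      · rintro ⟨s, rfl⟩
        obtain ⟨s, rfl⟩ := hs.2 s
        rw [hcomm]
        exact (hiff _).mpr (hrange.le ⟨s, rfl⟩)
      · intro hg
        obtain ⟨f, rfl⟩ := hr.2 g
        obtain ⟨s, rfl⟩ := hrange.ge ((hiff f).mp hg)
        exact ⟨_, hcomm s⟩
  · have := (h.closed _ (key W hW hWi).1 (key W hW hWi).2).preimage U.ι.continuous
    rwa [show U.ι ⁻¹' (φ.left '' (j '' W ∪ φ.left ⁻¹' (U : Set ↥Y.left)ᶜ)) = φU.left '' W from
      Set.ext fun y => (himg W y).symm] at this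
  · refine (Set.image_iInter_subset W _).antisymm fun y hy => ?_
    let C : Set ↥X.left := φ.left ⁻¹' (U : Set ↥Y.left)ᶜ
    have hi := h.inter J (fun i => j '' W i ∪ C) (fun i => (key _ (hW i) (hWi i)).1) fun i => (key _ (hW i) (hWi i)).2
    obtain ⟨x, hx, hxy⟩ := hi.ge (Set.mem_iInter.mpr fun i => (himg _ y).mp (Set.mem_iInter.mp hy i))
    have hxU : φ.left x ∈ U := hxy ▸ y.2
    obtain ⟨z, rfl⟩ := (hjr x).mpr hxU
    refine ⟨z, Set.mem_iInter.mpr fun i => ?_, U.ι.isOpenEmbedding.injective ?_⟩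
    · rcases Set.mem_iInter.mp hx i with ⟨z', hz', e⟩ | h'
      · exact jU.left.isOpenEmbedding.injective e ▸ hz'
      · exact absurd hxU h'
    · rw [← hxy, ← Scheme.Hom.comp_apply, ← Scheme.Hom.comp_apply, hφj]


end Groth.Agent.S19425
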