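import Groth.Statements.S19427
import Groth.Agent.MilnorK.Rep


set_option autoImplicit false
universe u
open MilnorK

namespace Groth.Agent.S19427

/-- For a field F and nonzero b, c with b + c ≠ 0, in the Milnor K-group K_2(F) one has {b, c} + {b + c,
-b/c} = 0, that is {b, c} = -{b + c, -b/c} = {b + c, -c/b}. (The identity as displayed in the source
is {b, c} = {b + c, -b/c}, which differs from this by a sign and fails in general: for b = 3, c = 5
over the rationals the tame symbol at 5 takes the values 3 and 1/3 on the two sides; the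
accompanying derivation from the Steinberg relation b/(b+c) + c/(b+c) = 1 gives exactly the identity
stated here.) -/
theorem result (F : Type u) [Field F] (b c : Fˣ)
    (h : (b : F) + (c : F) ≠ 0) :
    (MilK.symbol ![b, c] : MilK.K F 2) + MilK.symbol ![Units.mk0 ((b : F) + (c : F)) h, -(b / c)] = 0 := by
  have hs := MilnorK.sym_isSym F
  refine MilnorK.ρ_injective _ ?_
  rw [map_add, MilnorK.ρ_symbol_two, MilnorK.ρ_symbol_two, map_zero]
  set s := Units.mk0 ((b : F) + (c : F)) h with hsdef
  have h1 := hs (b * s⁻¹) (c * s⁻¹) (by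
    rw [Units.val_mul, Units.val_mul, ← add_mul, ← Units.val_mk0 h, ← hsdef, Units.mul_inv])
  have hm : (-(b / c)) = -1 * (b * c⁻¹) := by simp [div_eq_mul_inv]
  rw [hm, ofMul_mul (-1 : Fˣ)]
  simp only [ofMul_mul, ofMul_inv, map_add, map_neg, mul_add, add_mul, mul_neg, neg_mul (α := Module.End ℤ (MilnorK.Tot F)), neg_neg] at h1 ⊢
  rw [hs.self_mul s, hs.anticomm b s] at h1
  linear_combination (norm := abel) h1

end Groth.Agent.S19427
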