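import Groth.Statements.S19436
import Mathlib

set_option autoImplicit false
universe u
open CAlg

namespace Groth.Agent.S19436

/-- For a Noetherian local commutative algebra R over a field k, with maximal ideal M, and an ideal I of
R whose quotient R/I is finite-dimensional over k of dimension n, the power M^n lies in I. -/
theorem result (k : Type u) [Field k] (R : Type u) [CommRing R]
    [Algebra k R] [IsNoetherianRing R] [IsLocalRing R] (I : Ideal R) [Module.Finite k (R ⧸ I)] (n : ℕ)
    (hn : Module.finrank k (R ⧸ I) = n) : IsLocalRing.maximalIdeal R ^ n ≤ I := by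
  rcases eq_or_ne I ⊤ with rfl | hI
  · exact le_top
  set M := IsLocalRing.maximalIdeal R
  have hIM : I ≤ M := IsLocalRing.le_maximalIdeal hI
  let W : ℕ → Submodule k (R ⧸ I) := fun j => ((M ^ j).map (Ideal.Quotient.mk I)).restrictScalars k
  by_contra hle
  have key : ∀ j, j < n + 1 → j + Module.finrank k (W j) ≤ n := by
    intro j
    induction j with
    | zero => intro _; simpa [hn] using Submodule.finrank_le (W 0)
    | succ j ih =>
      intro hj
      have := ih (by omega)
      have hlt : W (j+1) < W j := by
        have hle' : W (j+1) ≤ W j := fun x hx => Ideal.map_mono (Ideal.pow_le_pow_right (by omega)) hx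
        refine lt_of_le_of_ne hle' fun heq => hle ?_
        have h1 : M ^ j ≤ M * M ^ j ⊔ I := by
          intro x hx
          have : Ideal.Quotient.mk I x ∈ W (j+1) := heq ▸ Ideal.mem_map_of_mem _ hx
          obtain ⟨y, hy, hxy⟩ := (Ideal.mem_map_iff_of_surjective _ Ideal.Quotient.mk_surjective).mp this
          rw [Ideal.Quotient.eq] at hxy
          rw [show x = y - (y - x) by ring]
          exact sub_mem (Submodule.mem_sup_left (by rwa [← pow_succ'])) (Submodule.mem_sup_right hxy)
        have h2 : M ^ j ≤ I := by
          refine Submodule.le_of_le_smul_of_le_jacobson_bot (IsNoetherian.noetherian _) (IsLocalRing.maximalIdeal_le_jacobson _) ?_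
          rw [smul_eq_mul]
          exact h1.trans (sup_comm _ _).le
        exact (Ideal.pow_le_pow_right (by omega)).trans h2
      have := Submodule.finrank_lt_finrank_of_lt hlt
      omega
  have h0 := key n (by omega)
  apply hle
  intro x hx
  have hW : W n = ⊥ := Submodule.finrank_eq_zero.mp (by omega)
  have : Ideal.Quotient.mk I x ∈ W n := Ideal.mem_map_of_mem _ hx
  rw [hW, Submodule.mem_bot] at this
  exact Ideal.Quotient.eq_zero_iff_mem.mp this

end Groth.Agent.S19436
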