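import Mathlib
import Groth.Statements.S19437
-- import your own Groth.Agent.* helpers here

set_option autoImplicit false
universe u
open CAlg

namespace Groth.Agent.S19437

open MvPowerSeries

variable {k : Type u} [Field k]

/-- The exponent `(i, j)`. -/
noncomputable def E (i j : ℕ) : Fin 2 →₀ ℕ := Finsupp.equivFunOnFinite.symm ![i, j]

@[simp] theorem E_zero (i j : ℕ) : E i j 0 = i := rfl
@[simp] theorem E_one (i j : ℕ) : E i j 1 = j := rfl

theorem E_eq (d : Fin 2 →₀ ℕ) : d = E (d 0) (d 1) := by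
  ext t; fin_cases t <;> simp

theorem E_le {i j p q : ℕ} : E i j ≤ E p q ↔ i ≤ p ∧ j ≤ q := by
  simp [Finsupp.le_def, Fin.forall_fin_two]

theorem E_sub (i j p q : ℕ) : E p q - E i j = E (p - i) (q - j) := by
  ext t; fin_cases t <;> simp

/-- The coefficient at `(i, j)`. -/
noncomputable def c (f : MvPowerSeries (Fin 2) k) (i j : ℕ) : k := coeff (E i j) f

theorem ext_c {f g : MvPowerSeries (Fin 2) k} (h : ∀ i j, c f i j = c g i j) : f = g := by
  ext d; rw [E_eq d]; exact h _ _

theorem monomial_eq (i j : ℕ) :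
    (X 0 ^ i * X 1 ^ j : MvPowerSeries (Fin 2) k) = monomial (E i j) 1 := by
  rw [X_pow_eq, X_pow_eq, monomial_mul_monomial, one_mul]
  rw [show Finsupp.single (0 : Fin 2) i + Finsupp.single 1 j = E i j by
    ext t; fin_cases t <;> simp]

theorem c_mul (i j p q : ℕ) (f : MvPowerSeries (Fin 2) k) :
    c (X 0 ^ i * X 1 ^ j * f) p q = if i ≤ p ∧ j ≤ q then c f (p - i) (q - j) else 0 := by
  simp only [c, monomial_eq, coeff_monomial_mul, E_le, E_sub, one_mul]

theorem c_mul0 (i p q : ℕ) (f : MvPowerSeries (Fin 2) k) :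
    c (X 0 ^ i * f) p q = if i ≤ p then c f (p - i) q else 0 := by
  simpa using c_mul i 0 p q f

theorem c_mul1 (j p q : ℕ) (f : MvPowerSeries (Fin 2) k) :
    c (X 1 ^ j * f) p q = if j ≤ q then c f p (q - j) else 0 := by
  simpa using c_mul 0 j p q f

theorem c_add (f g : MvPowerSeries (Fin 2) k) (i j : ℕ) : c (f + g) i j = c f i j + c g i j := by
  simp [c]

theorem c_sub (f g : MvPowerSeries (Fin 2) k) (i j : ℕ) : c (f - g) i j = c f i j - c g i j := by
  simp [c]

theorem c_C_mul (r : k) (f : MvPowerSeries (Fin 2) k) (i j : ℕ) : c (C r * f) i j = r * c f i j := by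
  simp [c]

theorem c_smul (r : k) (f : MvPowerSeries (Fin 2) k) (i j : ℕ) : c (r • f) i j = r * c f i j := by
  simp [c]

theorem c_xy (u : MvPowerSeries (Fin 2) k) (p q : ℕ) (h : p = 0 ∨ q = 0) :
    c (X 0 * X 1 * u) p q = 0 := by
  have := c_mul 1 1 p q u
  rw [pow_one, pow_one] at this
  rw [this, if_neg]
  omega

theorem axis {f : MvPowerSeries (Fin 2) k} (h0 : ∀ i, c f i 0 = 0) (h1 : ∀ j, c f 0 j = 0) :
    f ∈ Ideal.span {(X 0 * X 1 : MvPowerSeries (Fin 2) k)} := by
  rw [Ideal.mem_span_singleton]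
  let h : MvPowerSeries (Fin 2) k := fun d => c f (d 0 + 1) (d 1 + 1)
  refine ⟨h, ext_c fun i j => ?_⟩
  have := c_mul 1 1 i j h
  rw [pow_one, pow_one] at this
  rw [this]
  split_ifs with hij
  · show c f i j = c f (E (i - 1) (j - 1) 0 + 1) (E (i - 1) (j - 1) 1 + 1)
    rw [E_zero, E_one, Nat.sub_add_cancel hij.1, Nat.sub_add_cancel hij.2]
  · rcases Nat.eq_zero_or_pos i with rfl | hi
    · exact h1 j
    · rcases Nat.eq_zero_or_pos j with rfl | hj
      · exact h0 i
      · exact absurd ⟨hi, hj⟩ hij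

/-- The `x`-axis part, divided by `x ^ a`. -/
noncomputable def px (a : ℕ) (f : MvPowerSeries (Fin 2) k) : MvPowerSeries (Fin 2) k :=
  fun d => if d 1 = 0 then c f (d 0 + a) 0 else 0

/-- The `y`-axis part, divided by `y ^ b`. -/
noncomputable def py (b : ℕ) (f : MvPowerSeries (Fin 2) k) : MvPowerSeries (Fin 2) k :=
  fun d => if d 0 = 0 then c f 0 (d 1 + b) else 0

theorem c_px (a : ℕ) (f : MvPowerSeries (Fin 2) k) (i j : ℕ) :
    c (px a f) i j = if j = 0 then c f (i + a) 0 else 0 := rfl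

theorem c_py (b : ℕ) (f : MvPowerSeries (Fin 2) k) (i j : ℕ) :
    c (py b f) i j = if i = 0 then c f 0 (j + b) else 0 := rfl

theorem decomp (a b : ℕ) (ha : 1 ≤ a) (hb : 1 ≤ b) (f : MvPowerSeries (Fin 2) k)
    (h0 : ∀ i < a, c f i 0 = 0) (h1 : ∀ j < b, c f 0 j = 0) :
    f ∈ Ideal.span {X 0 * X 1, (X 0 : MvPowerSeries (Fin 2) k) ^ a, X 1 ^ b} := by
  have h : f - X 0 ^ a * px a f - X 1 ^ b * py b f ∈
      Ideal.span {(X 0 * X 1 : MvPowerSeries (Fin 2) k)} := by
    apply axis
    · intro i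
      rw [c_sub, c_sub, c_mul0, c_mul1, if_neg (by omega : ¬ b ≤ 0)]
      split_ifs with hi
      · rw [c_px, if_pos rfl, Nat.sub_add_cancel hi, sub_self, sub_zero]
      · rw [sub_zero, sub_zero]; exact h0 i (by omega)
    · intro j
      rw [c_sub, c_sub, c_mul0, c_mul1, if_neg (by omega : ¬ a ≤ 0), sub_zero]
      split_ifs with hj
      · rw [c_py, if_pos rfl, Nat.sub_add_cancel hj, sub_self]
      · rw [sub_zero]; exact h1 j (by omega)
  have e : f = (f - X 0 ^ a * px a f - X 1 ^ b * py b f) + X 0 ^ a * px a f + X 1 ^ b * py b f := by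
    ring
  rw [e]
  refine add_mem (add_mem (Ideal.span_mono (by simp) h) ?_) ?_
  · exact Ideal.mul_mem_right _ _ (Ideal.subset_span (by simp))
  · exact Ideal.mul_mem_right _ _ (Ideal.subset_span (by simp))

theorem pow_X_mem {J : Ideal (MvPowerSeries (Fin 2) k)}
    [Module.Finite k (MvPowerSeries (Fin 2) k ⧸ J)] (t : Fin 2) : ∃ N, X t ^ N ∈ J := by
  obtain ⟨p, hp, hpz⟩ := Algebra.IsIntegral.isIntegral (R := k) (Ideal.Quotient.mk J (X t))
  obtain ⟨p₀, hp₀, hp₀z⟩ := Polynomial.exists_eq_pow_rootMultiplicity_mul_and_not_dvd p hp.ne_zero 0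
  rw [map_zero, sub_zero, Polynomial.X_dvd_iff] at hp₀z
  refine ⟨p.rootMultiplicity 0, ?_⟩
  have hmem : (X t : MvPowerSeries (Fin 2) k) ^ p.rootMultiplicity 0 * Polynomial.aeval (X t) p₀ ∈ J := by
    have : Polynomial.aeval (X t : MvPowerSeries (Fin 2) k) p ∈ J := by
      rw [← Ideal.Quotient.eq_zero_iff_mem, ← Ideal.Quotient.mkₐ_eq_mk k, ← Polynomial.aeval_algHom_apply]
      exact hpz
    rw [hp₀, map_zero, sub_zero, map_mul, map_pow, Polynomial.aeval_X] at this
    exact this
  refine (Ideal.mul_unit_mem_iff_mem J ?_).mp hmem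
  rw [MvPowerSeries.isUnit_iff_constantCoeff, Polynomial.aeval_def, Polynomial.hom_eval₂,
    constantCoeff_X, Polynomial.eval₂_at_zero]
  exact (Ne.isUnit hp₀z).map _

theorem finrank_quot {m : ℕ} (I : Ideal (MvPowerSeries (Fin 2) k))
    (Φ : MvPowerSeries (Fin 2) k →ₗ[k] (Fin m → k)) (hs : Function.Surjective Φ)
    (hk : ∀ f, Φ f = 0 ↔ f ∈ I) :
    Module.finrank k (MvPowerSeries (Fin 2) k ⧸ I) = m := by
  have e : LinearMap.ker Φ = I.restrictScalars k := by ext f; exact hk f
  have := ((Submodule.quotEquivOfEq _ _ e.symm).trans (Φ.quotKerEquivOfSurjective hs)).finrank_eq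
  rw [Module.finrank_fin_fun] at this
  rw [← this]
  exact ((Submodule.Quotient.restrictScalarsEquiv k I).finrank_eq).symm

/-- Coefficients on the two axes below `(a, b)`, and a final functional. -/
noncomputable def axes (a b : ℕ) : MvPowerSeries (Fin 2) k →ₗ[k] (Fin a ⊕ Fin (b - 1) → k) where
  toFun f := Sum.elim (fun i => c f i 0) (fun j => c f 0 (j + 1))
  map_add' f g := by funext t; rcases t with i | j <;> simp [c_add]
  map_smul' r f := by funext t; rcases t with i | j <;> simp [c_smul]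

theorem finrank_span3 (a b : ℕ) (ha : 1 ≤ a) (hb : 1 ≤ b) :
    Module.finrank k (MvPowerSeries (Fin 2) k ⧸
      Ideal.span {X 0 * X 1, (X 0 : MvPowerSeries (Fin 2) k) ^ a, X 1 ^ b}) + 1 = a + b := by
  classical
  let e : (Fin a ⊕ Fin (b - 1) → k) ≃ₗ[k] (Fin (a + (b - 1)) → k) :=
    LinearEquiv.funCongrLeft k k finSumFinEquiv.symm
  rw [finrank_quot (m := a + (b - 1)) _ (e.toLinearMap ∘ₗ axes a b) ?_ ?_]
  · omega
  · refine e.surjective.comp fun v => ?_
    let f : MvPowerSeries (Fin 2) k := fun d =>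
      if h : d 0 < a ∧ d 1 = 0 then v (Sum.inl ⟨d 0, h.1⟩)
      else if h' : d 0 = 0 ∧ 1 ≤ d 1 ∧ d 1 < b then v (Sum.inr ⟨d 1 - 1, by omega⟩) else 0
    refine ⟨f, funext fun t => ?_⟩
    rcases t with i | j
    · show (if h : E i 0 0 < a ∧ E (i : ℕ) 0 1 = 0 then _ else _) = _
      rw [dif_pos (by simp)]
      rfl
    · show (if h : E 0 ((j : ℕ) + 1) 0 < a ∧ E 0 ((j : ℕ) + 1) 1 = 0 then _ else _) = _
      rw [dif_neg (by simp), dif_pos (by have := j.2; simp <;> omega)]
      rfl
  · intro f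
    rw [LinearMap.comp_apply, LinearEquiv.coe_coe, map_eq_zero_iff _ e.injective]
    constructor
    · intro h
      refine decomp a b ha hb f (fun i hi => congrFun h (Sum.inl ⟨i, hi⟩)) fun j hj => ?_
      rcases j with _ | j
      · exact congrFun h (Sum.inl ⟨0, ha⟩)
      · exact congrFun h (Sum.inr ⟨j, by omega⟩)
    · intro h
      obtain ⟨u, w, hw, rfl⟩ := Ideal.mem_span_insert.mp h
      obtain ⟨v, z, hz, rfl⟩ := Ideal.mem_span_insert.mp hw
      obtain ⟨w', rfl⟩ := Ideal.mem_span_singleton.mp hz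
      funext t
      rcases t with i | j
      · simp only [axes, LinearMap.coe_mk, AddHom.coe_mk, Sum.elim_inl, Pi.zero_apply]
        rw [c_add, c_add, mul_comm u, c_xy _ _ _ (Or.inr rfl), mul_comm v, c_mul0, c_mul1,
          if_neg (by omega : ¬ b ≤ 0), if_neg (by have := i.2; omega)]
        simp
      · simp only [axes, LinearMap.coe_mk, AddHom.coe_mk, Sum.elim_inr, Pi.zero_apply]
        rw [c_add, c_add, mul_comm u, c_xy _ _ _ (Or.inl rfl), mul_comm v, c_mul0, c_mul1,
          if_neg (by omega : ¬ a ≤ 0), if_neg (by have := j.2; omega)]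
        simp

/-- Ideals of colength n of the complete local ring of a node. Let k be a field and J an ideal of the
power series ring k[[x,y]] in two variables x, y which contains xy and whose quotient is
finite-dimensional over k of dimension n ≥ 2. Then there are integers a, b ≥ 1 such that either a +
b = n + 1 and J is generated by xy, x^a, y^b, or a + b = n and J is generated by xy and x^a + α y^b
for some nonzero scalar α. -/
theorem result (k : Type u) [Field k]
    (J : Ideal (MvPowerSeries (Fin 2) k))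
    (hxy : (MvPowerSeries.X 0 * MvPowerSeries.X 1 : MvPowerSeries (Fin 2) k) ∈ J)
    [Module.Finite k (MvPowerSeries (Fin 2) k ⧸ J)] (n : ℕ) (hn : Module.finrank k (MvPowerSeries (Fin 2) k ⧸ J) = n)
    (h2 : 2 ≤ n) :
    ∃ a b : ℕ, 1 ≤ a ∧ 1 ≤ b ∧
      ((a + b = n + 1 ∧
        J = Ideal.span {MvPowerSeries.X 0 * MvPowerSeries.X 1, MvPowerSeries.X 0 ^ a, MvPowerSeries.X 1 ^ b}) ∨
       (a + b = n ∧ ∃ α : k, α ≠ 0 ∧
        J = Ideal.span {MvPowerSeries.X 0 * MvPowerSeries.X 1,
          MvPowerSeries.X 0 ^ a + MvPowerSeries.C α * MvPowerSeries.X 1 ^ b})) := by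
  classical
  have hJtop : J ≠ ⊤ := by
    rintro rfl
    rw [Module.finrank_zero_of_subsingleton] at hn
    omega
  obtain ⟨a₀, ha₀, hamin⟩ : ∃ a₀, MvPowerSeries.X 0 ^ a₀ ∈ J ∧
      ∀ i < a₀, (MvPowerSeries.X 0 : MvPowerSeries (Fin 2) k) ^ i ∉ J :=
    ⟨Nat.find (pow_X_mem (J := J) 0), Nat.find_spec (pow_X_mem (J := J) 0), fun i hi => Nat.find_min (pow_X_mem (J := J) 0) hi⟩
  obtain ⟨b₀, hb₀, hbmin⟩ : ∃ b₀, MvPowerSeries.X 1 ^ b₀ ∈ J ∧
      ∀ i < b₀, (MvPowerSeries.X 1 : MvPowerSeries (Fin 2) k) ^ i ∉ J :=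
    ⟨Nat.find (pow_X_mem (J := J) 1), Nat.find_spec (pow_X_mem (J := J) 1), fun i hi => Nat.find_min (pow_X_mem (J := J) 1) hi⟩
  have hpos : ∀ (t : Fin 2) (N : ℕ), MvPowerSeries.X t ^ N ∈ J → 1 ≤ N := by
    intro t N h
    rcases Nat.eq_zero_or_pos N with rfl | hN
    · exact absurd ((Ideal.eq_top_iff_one J).mpr (by simpa using h)) hJtop
    · exact hN
  have ha1 := hpos 0 a₀ ha₀
  have hb1 := hpos 1 b₀ hb₀
  have hunit : ∀ g : MvPowerSeries (Fin 2) k, c g 0 0 ≠ 0 → IsUnit g := by
    intro g hg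
    rw [MvPowerSeries.isUnit_iff_constantCoeff, isUnit_iff_ne_zero]
    rw [← MvPowerSeries.coeff_zero_eq_constantCoeff_apply]
    have h0 : E 0 0 = (0 : Fin 2 →₀ ℕ) := by ext t; fin_cases t <;> rfl
    rw [← h0]; exact hg
  have h00 : ∀ f ∈ J, c f 0 0 = 0 := by
    intro f hf
    by_contra hne
    exact hJtop (J.eq_top_of_isUnit_mem hf (hunit f hne))
  have hspanxy : Ideal.span {(MvPowerSeries.X 0 * MvPowerSeries.X 1 : MvPowerSeries (Fin 2) k)} ≤ J :=
    Ideal.span_le.mpr (by simpa using hxy)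
  have hlowx : ∀ f ∈ J, ∀ i, i + 1 < a₀ → c f i 0 = 0 := by
    intro f hf
    by_contra hc
    push Not at hc
    obtain ⟨p, ⟨hp, hpne⟩, hpmin⟩ : ∃ p, (p + 1 < a₀ ∧ c f p 0 ≠ 0) ∧
        ∀ q < p, ¬ (q + 1 < a₀ ∧ c f q 0 ≠ 0) :=
      ⟨Nat.find hc, Nat.find_spec hc, fun q hq => Nat.find_min hc hq⟩
    have hmem : MvPowerSeries.X 0 * f - MvPowerSeries.X 0 ^ (p + 1) * px p f ∈
        Ideal.span {(MvPowerSeries.X 0 * MvPowerSeries.X 1 : MvPowerSeries (Fin 2) k)} := by
      apply axis
      · intro i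
        rw [c_sub, ← pow_one (MvPowerSeries.X 0), c_mul0, pow_one, c_mul0]
        rcases Nat.eq_zero_or_pos i with rfl | hi
        · simp
        rw [if_pos (show 1 ≤ i by omega)]
        split_ifs with h
        · rw [c_px, if_pos rfl, show i - (p + 1) + p = i - 1 by omega, sub_self]
        · rw [sub_zero]
          by_contra hne
          exact hpmin (i - 1) (by omega) ⟨by omega, hne⟩
      · intro j
        rw [c_sub, ← pow_one (MvPowerSeries.X 0), c_mul0, pow_one, c_mul0, if_neg (by omega),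
          if_neg (by omega), sub_self]
    have h2 : MvPowerSeries.X 0 ^ (p + 1) * px p f ∈ J := by
      have := J.sub_mem (J.mul_mem_left (MvPowerSeries.X 0) hf) (hspanxy hmem)
      rwa [sub_sub_cancel] at this
    have hu : IsUnit (px p f) := hunit _ (by rw [c_px, if_pos rfl, zero_add]; exact hpne)
    exact hamin _ hp ((Ideal.mul_unit_mem_iff_mem J hu).mp h2)
  have hlowy : ∀ f ∈ J, ∀ j, j + 1 < b₀ → c f 0 j = 0 := by
    intro f hf
    by_contra hc
    push Not at hc
    obtain ⟨p, ⟨hp, hpne⟩, hpmin⟩ : ∃ p, (p + 1 < b₀ ∧ c f 0 p ≠ 0) ∧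
        ∀ q < p, ¬ (q + 1 < b₀ ∧ c f 0 q ≠ 0) :=
      ⟨Nat.find hc, Nat.find_spec hc, fun q hq => Nat.find_min hc hq⟩
    have hmem : MvPowerSeries.X 1 * f - MvPowerSeries.X 1 ^ (p + 1) * py p f ∈
        Ideal.span {(MvPowerSeries.X 0 * MvPowerSeries.X 1 : MvPowerSeries (Fin 2) k)} := by
      apply axis
      · intro j
        rw [c_sub, ← pow_one (MvPowerSeries.X 1), c_mul1, pow_one, c_mul1, if_neg (by omega),
          if_neg (by omega), sub_self]
      · intro i
        rw [c_sub, ← pow_one (MvPowerSeries.X 1), c_mul1, pow_one, c_mul1]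
        rcases Nat.eq_zero_or_pos i with rfl | hi
        · simp
        rw [if_pos (show 1 ≤ i by omega)]
        split_ifs with h
        · rw [c_py, if_pos rfl, show i - (p + 1) + p = i - 1 by omega, sub_self]
        · rw [sub_zero]
          by_contra hne
          exact hpmin (i - 1) (by omega) ⟨by omega, hne⟩
    have h2 : MvPowerSeries.X 1 ^ (p + 1) * py p f ∈ J := by
      have := J.sub_mem (J.mul_mem_left (MvPowerSeries.X 1) hf) (hspanxy hmem)
      rwa [sub_sub_cancel] at this
    have hu : IsUnit (py p f) := hunit _ (by rw [c_py, if_pos rfl, zero_add]; exact hpne)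
    exact hbmin _ hp ((Ideal.mul_unit_mem_iff_mem J hu).mp h2)
  have hI₀ : Ideal.span {MvPowerSeries.X 0 * MvPowerSeries.X 1,
      (MvPowerSeries.X 0 : MvPowerSeries (Fin 2) k) ^ a₀, MvPowerSeries.X 1 ^ b₀} ≤ J := by
    rw [Ideal.span_le]; intro z hz
    rcases hz with rfl | rfl | rfl <;> assumption
  by_cases hline : ∃ f ∈ J, c f (a₀ - 1) 0 ≠ 0 ∨ c f 0 (b₀ - 1) ≠ 0
  · obtain ⟨f, hf, hf0⟩ := hline
    set α := c f (a₀ - 1) 0 with hα
    set β := c f 0 (b₀ - 1) with hβ
    let h₀ : MvPowerSeries (Fin 2) k := MvPowerSeries.C α * MvPowerSeries.X 0 ^ (a₀ - 1) +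
      MvPowerSeries.C β * MvPowerSeries.X 1 ^ (b₀ - 1)
    have hc0 : ∀ p i j, c (MvPowerSeries.X 0 ^ p : MvPowerSeries (Fin 2) k) i j =
        if i = p ∧ j = 0 then 1 else 0 := by
      intro p i j
      have := monomial_eq (k := k) p 0
      rw [pow_zero, mul_one] at this
      rw [this, c, MvPowerSeries.coeff_monomial]
      refine if_congr ⟨fun h => ?_, fun h => ?_⟩ rfl rfl
      · exact ⟨by simpa using DFunLike.congr_fun h 0, by simpa using DFunLike.congr_fun h 1⟩
      · rw [h.1, h.2]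
    have hc1 : ∀ p i j, c (MvPowerSeries.X 1 ^ p : MvPowerSeries (Fin 2) k) i j =
        if i = 0 ∧ j = p then 1 else 0 := by
      intro p i j
      have := monomial_eq (k := k) 0 p
      rw [pow_zero, one_mul] at this
      rw [this, c, MvPowerSeries.coeff_monomial]
      refine if_congr ⟨fun h => ?_, fun h => ?_⟩ rfl rfl
      · exact ⟨by simpa using DFunLike.congr_fun h 0, by simpa using DFunLike.congr_fun h 1⟩
      · rw [h.1, h.2]
    have ha2 : α ≠ 0 → 2 ≤ a₀ := by
      intro h
      by_contra h2'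
      exact h (by rw [hα, show a₀ - 1 = 0 by omega]; exact h00 f hf)
    have hb2 : β ≠ 0 → 2 ≤ b₀ := by
      intro h
      by_contra h2'
      exact h (by rw [hβ, show b₀ - 1 = 0 by omega]; exact h00 f hf)
    have key : ∀ g ∈ J, ∀ r s : k, c g (a₀ - 1) 0 = r → c g 0 (b₀ - 1) = s →
        MvPowerSeries.C r * MvPowerSeries.X 0 ^ (a₀ - 1) +
          MvPowerSeries.C s * MvPowerSeries.X 1 ^ (b₀ - 1) ∈ J := by
      intro g hg r s hr hs
      have hrs : g - (MvPowerSeries.C r * MvPowerSeries.X 0 ^ (a₀ - 1) +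
          MvPowerSeries.C s * MvPowerSeries.X 1 ^ (b₀ - 1)) ∈
          Ideal.span {MvPowerSeries.X 0 * MvPowerSeries.X 1,
            (MvPowerSeries.X 0 : MvPowerSeries (Fin 2) k) ^ a₀, MvPowerSeries.X 1 ^ b₀} := by
        refine decomp a₀ b₀ ha1 hb1 _ (fun i hi => ?_) (fun j hj => ?_)
        · rw [c_sub, c_add, c_C_mul, c_C_mul, hc0, hc1]
          by_cases hi' : i + 1 < a₀
          · rw [hlowx g hg i hi', if_neg (by omega)]
            by_cases hh : i = 0 ∧ 0 = b₀ - 1
            · rw [if_pos hh, ← hs, ← hh.2, h00 g hg]; simp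
            · rw [if_neg hh]; simp
          · obtain rfl : i = a₀ - 1 := by omega
            rw [if_pos ⟨rfl, rfl⟩, hr]
            by_cases hh : a₀ - 1 = 0 ∧ 0 = b₀ - 1
            · rw [if_pos hh, ← hs, ← hh.2, h00 g hg]; simp
            · rw [if_neg hh]; simp
        · rw [c_sub, c_add, c_C_mul, c_C_mul, hc0, hc1]
          by_cases hj' : j + 1 < b₀
          · rw [hlowy g hg j hj', if_neg (c := 0 = 0 ∧ j = b₀ - 1) (by omega)]
            by_cases hh : 0 = a₀ - 1 ∧ j = 0
            · rw [if_pos hh, ← hr, ← hh.1, h00 g hg]; simp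
            · rw [if_neg hh]; simp
          · obtain rfl : j = b₀ - 1 := by omega
            rw [if_pos (c := 0 = 0 ∧ b₀ - 1 = b₀ - 1) ⟨rfl, rfl⟩, hs]
            by_cases hh : 0 = a₀ - 1 ∧ b₀ - 1 = 0
            · rw [if_pos hh, ← hr, ← hh.1, h00 g hg]; simp
            · rw [if_neg hh]; simp
      have := J.sub_mem hg (hI₀ hrs)
      rwa [sub_sub_cancel] at this
    have hboth : α ≠ 0 ∧ β ≠ 0 := by
      by_contra hcon
      rcases not_and_or.mp hcon with hz | hz
      · rw [not_not] at hz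
        have hb' := hf0.resolve_left (fun h => h hz)
        have := key f hf _ _ rfl rfl
        rw [← hα, hz, map_zero, zero_mul, zero_add] at this
        exact hbmin (b₀ - 1) (by omega)
          ((Ideal.unit_mul_mem_iff_mem J ((Ne.isUnit hb').map MvPowerSeries.C)).mp this)
      · rw [not_not] at hz
        have ha' := hf0.resolve_right (fun h => h hz)
        have := key f hf _ _ rfl rfl
        rw [← hβ, hz, map_zero, zero_mul, add_zero] at this
        exact hamin (a₀ - 1) (by omega)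
          ((Ideal.unit_mul_mem_iff_mem J ((Ne.isUnit ha').map MvPowerSeries.C)).mp this)
    obtain ⟨a, rfl⟩ : ∃ a, a₀ = a + 1 := ⟨a₀ - 1, by omega⟩
    obtain ⟨b, rfl⟩ : ∃ b, b₀ = b + 1 := ⟨b₀ - 1, by omega⟩
    simp only [Nat.add_sub_cancel] at *
    set γ := β / α with hγ
    have hγ0 : γ ≠ 0 := div_ne_zero hboth.2 hboth.1
    have hgen : MvPowerSeries.X 0 ^ a + MvPowerSeries.C γ * MvPowerSeries.X 1 ^ b ∈ J := by
      have := J.mul_mem_left (MvPowerSeries.C α⁻¹) (key f hf α β hα.symm hβ.symm)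
      rwa [mul_add, ← mul_assoc, ← mul_assoc, ← map_mul, ← map_mul, inv_mul_cancel₀ hboth.1,
        map_one, one_mul, ← div_eq_inv_mul] at this
    have ha' : 1 ≤ a := by have := ha2 hboth.1; omega
    have hb' : 1 ≤ b := by have := hb2 hboth.2; omega
    have hJeq : J = Ideal.span {(MvPowerSeries.X 0 : MvPowerSeries (Fin 2) k) * (MvPowerSeries.X 1 : MvPowerSeries (Fin 2) k),
        (MvPowerSeries.X 0 : MvPowerSeries (Fin 2) k) ^ a + MvPowerSeries.C γ * (MvPowerSeries.X 1 : MvPowerSeries (Fin 2) k) ^ b} := by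
      set Q := Ideal.span {(MvPowerSeries.X 0 : MvPowerSeries (Fin 2) k) * (MvPowerSeries.X 1 : MvPowerSeries (Fin 2) k),
        (MvPowerSeries.X 0 : MvPowerSeries (Fin 2) k) ^ a + MvPowerSeries.C γ * (MvPowerSeries.X 1 : MvPowerSeries (Fin 2) k) ^ b}
      have hxyQ : (MvPowerSeries.X 0 : MvPowerSeries (Fin 2) k) * (MvPowerSeries.X 1 : MvPowerSeries (Fin 2) k) ∈ Q := Ideal.subset_span (by simp)
      have hgQ : (MvPowerSeries.X 0 : MvPowerSeries (Fin 2) k) ^ a + MvPowerSeries.C γ * (MvPowerSeries.X 1 : MvPowerSeries (Fin 2) k) ^ b ∈ Q :=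
        Ideal.subset_span (by simp)
      have hxQ : (MvPowerSeries.X 0 : MvPowerSeries (Fin 2) k) ^ (a + 1) ∈ Q := by
        have e : (MvPowerSeries.X 0 : MvPowerSeries (Fin 2) k) ^ (a + 1) =
            (MvPowerSeries.X 0 : MvPowerSeries (Fin 2) k) * ((MvPowerSeries.X 0 : MvPowerSeries (Fin 2) k) ^ a + MvPowerSeries.C γ * (MvPowerSeries.X 1 : MvPowerSeries (Fin 2) k) ^ b) -
            MvPowerSeries.C γ * (MvPowerSeries.X 1 : MvPowerSeries (Fin 2) k) ^ (b - 1) * ((MvPowerSeries.X 0 : MvPowerSeries (Fin 2) k) * (MvPowerSeries.X 1 : MvPowerSeries (Fin 2) k)) := by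
          conv_rhs => rw [show b = (b - 1) + 1 by omega]
          simp only [Nat.add_sub_cancel]
          ring
        rw [e]
        exact Q.sub_mem (Q.mul_mem_left _ hgQ) (Q.mul_mem_left _ hxyQ)
      have hyQ : (MvPowerSeries.X 1 : MvPowerSeries (Fin 2) k) ^ (b + 1) ∈ Q := by
        have h : MvPowerSeries.C γ * (MvPowerSeries.X 1 : MvPowerSeries (Fin 2) k) ^ (b + 1) ∈ Q := by
          have e : MvPowerSeries.C γ * (MvPowerSeries.X 1 : MvPowerSeries (Fin 2) k) ^ (b + 1) =
              (MvPowerSeries.X 1 : MvPowerSeries (Fin 2) k) * ((MvPowerSeries.X 0 : MvPowerSeries (Fin 2) k) ^ a + MvPowerSeries.C γ * (MvPowerSeries.X 1 : MvPowerSeries (Fin 2) k) ^ b) -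
              (MvPowerSeries.X 0 : MvPowerSeries (Fin 2) k) ^ (a - 1) * ((MvPowerSeries.X 0 : MvPowerSeries (Fin 2) k) * (MvPowerSeries.X 1 : MvPowerSeries (Fin 2) k)) := by
            conv_rhs => rw [show a = (a - 1) + 1 by omega]
            simp only [Nat.add_sub_cancel]
            ring
          rw [e]
          exact Q.sub_mem (Q.mul_mem_left _ hgQ) (Q.mul_mem_left _ hxyQ)
        exact (Ideal.unit_mul_mem_iff_mem Q ((Ne.isUnit hγ0).map MvPowerSeries.C)).mp h
      refine le_antisymm (fun g hg => ?_) (Ideal.span_le.mpr ?_)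
      · set r := c g a 0
        have hrel : c g 0 b = γ * r := by
          have hd := J.sub_mem hg (J.mul_mem_left (MvPowerSeries.C r) hgen)
          have h := key _ hd _ _ rfl rfl
          rw [show c (g - MvPowerSeries.C r *
              ((MvPowerSeries.X 0 : MvPowerSeries (Fin 2) k) ^ a + MvPowerSeries.C γ * (MvPowerSeries.X 1 : MvPowerSeries (Fin 2) k) ^ b)) a 0 = 0 by
            rw [c_sub, c_C_mul, c_add, c_C_mul, hc0, hc1, if_pos ⟨rfl, rfl⟩, if_neg (by omega)]
            simp [r], map_zero, zero_mul, zero_add] at h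
          by_contra hne
          refine hbmin b (by omega)
            ((Ideal.unit_mul_mem_iff_mem J ((Ne.isUnit ?_).map MvPowerSeries.C)).mp h)
          rw [c_sub, c_C_mul, c_add, c_C_mul, hc0, hc1, if_neg (by omega), if_pos ⟨rfl, rfl⟩]
          intro h0
          exact hne (by linear_combination h0)
        have hd : g - MvPowerSeries.C r *
            ((MvPowerSeries.X 0 : MvPowerSeries (Fin 2) k) ^ a + MvPowerSeries.C γ * (MvPowerSeries.X 1 : MvPowerSeries (Fin 2) k) ^ b) ∈ Q := by
          refine (Ideal.span_le.mpr ?_) (decomp (a + 1) (b + 1) (by omega) (by omega) _ ?_ ?_)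
          · intro z hz
            rcases hz with rfl | rfl | rfl <;> assumption
          · intro i hi
            rw [c_sub, c_C_mul, c_add, c_C_mul, hc0, hc1]
            by_cases hia : i = a
            · subst hia
              rw [if_pos ⟨rfl, rfl⟩, if_neg (by omega)]; simp [r]
            · rw [if_neg (by omega), if_neg (by omega), hlowx g hg i (by omega)]; simp
          · intro j hj
            rw [c_sub, c_C_mul, c_add, c_C_mul, hc0, hc1]
            by_cases hjb : j = b
            · subst hjb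
              rw [if_neg (by omega), if_pos ⟨rfl, rfl⟩, hrel]; ring
            · rw [if_neg (by omega), if_neg (by omega), hlowy g hg j (by omega)]; simp
        have := Q.add_mem hd (Q.mul_mem_left (MvPowerSeries.C r) hgQ)
        rwa [sub_add_cancel] at this
      · intro z hz
        rcases hz with rfl | rfl <;> assumption
    refine ⟨a, b, ha', hb', Or.inr ⟨?_, γ, hγ0, hJeq⟩⟩
    let Φ : MvPowerSeries (Fin 2) k →ₗ[k] (Fin a ⊕ Fin b → k) :=
      { toFun := fun g => Sum.elim (fun i => c g i 0)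
          (fun j => if (j : ℕ) + 1 = b then c g 0 b - γ * c g a 0 else c g 0 ((j : ℕ) + 1))
        map_add' := fun g g' => by
          funext t; rcases t with i | j
          · simp [c_add]
          · simp only [Sum.elim_inr, Pi.add_apply, c_add]; split_ifs <;> ring
        map_smul' := fun r g => by
          funext t; rcases t with i | j
          · simp [c_smul]
          · simp only [Sum.elim_inr, Pi.smul_apply, c_smul, RingHom.id_apply, smul_eq_mul]
            split_ifs <;> ring }
    let e : (Fin a ⊕ Fin b → k) ≃ₗ[k] (Fin (a + b) → k) :=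
      LinearEquiv.funCongrLeft k k finSumFinEquiv.symm
    rw [← hn, finrank_quot (m := a + b) J (e.toLinearMap ∘ₗ Φ) ?_ ?_]
    · refine e.surjective.comp fun v => ?_
      let g : MvPowerSeries (Fin 2) k := fun d =>
        if h : d 0 < a ∧ d 1 = 0 then v (Sum.inl ⟨d 0, h.1⟩)
        else if h' : d 0 = 0 ∧ 1 ≤ d 1 ∧ d 1 ≤ b then v (Sum.inr ⟨d 1 - 1, by omega⟩) else 0
      refine ⟨g, funext fun t => ?_⟩
      rcases t with i | j
      · show (if h : E i 0 0 < a ∧ E (i : ℕ) 0 1 = 0 then _ else _) = _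
        rw [dif_pos (by simp)]
        rfl
      · have hg0 : c g a 0 = 0 := by
          show (if h : E a 0 0 < a ∧ E a 0 1 = 0 then _ else _) = _
          rw [dif_neg (by simp), dif_neg (by simp <;> omega)]
        have hgj : c g 0 ((j : ℕ) + 1) = v (Sum.inr j) := by
          show (if h : E 0 ((j : ℕ) + 1) 0 < a ∧ E 0 ((j : ℕ) + 1) 1 = 0 then _ else _) = _
          rw [dif_neg (by simp), dif_pos (by have := j.2; simp <;> omega)]
          rfl
        show (if (j : ℕ) + 1 = b then c g 0 b - γ * c g a 0 else c g 0 ((j : ℕ) + 1)) = _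
        split_ifs with hjb
        · rw [hg0, mul_zero, sub_zero, show c g 0 b = c g 0 ((j : ℕ) + 1) by rw [hjb], hgj]
        · exact hgj
    · intro g
      rw [LinearMap.comp_apply, LinearEquiv.coe_coe, map_eq_zero_iff _ e.injective]
      constructor
      · intro h
        have h0 : ∀ i < a, c g i 0 = 0 := fun i hi => congrFun h (Sum.inl ⟨i, hi⟩)
        have hb0 : c g 0 b = γ * c g a 0 := by
          have := congrFun h (Sum.inr ⟨b - 1, by omega⟩)
          change (if b - 1 + 1 = b then c g 0 b - γ * c g a 0 else _) = 0 at this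
          rw [if_pos (by omega)] at this
          exact sub_eq_zero.mp this
        have hd : g - MvPowerSeries.C (c g a 0) *
            (MvPowerSeries.X 0 ^ a + MvPowerSeries.C γ * MvPowerSeries.X 1 ^ b) ∈ J := by
          refine hI₀ (decomp (a + 1) (b + 1) (by omega) (by omega) _ ?_ ?_)
          · intro i hi
            rw [c_sub, c_C_mul, c_add, c_C_mul, hc0, hc1]
            by_cases hia : i = a
            · subst hia
              rw [if_pos ⟨rfl, rfl⟩, if_neg (by omega)]; simp
            · rw [if_neg (by omega), if_neg (by omega), h0 i (by omega)]; simp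
          · intro j hj
            rw [c_sub, c_C_mul, c_add, c_C_mul, hc0, hc1]
            by_cases hjb : j = b
            · subst hjb
              rw [if_neg (by omega), if_pos ⟨rfl, rfl⟩, hb0]; ring
            · rw [if_neg (by omega), if_neg (by omega)]
              rcases j with _ | j
              · rw [h0 0 (by omega)]; simp
              · have := congrFun h (Sum.inr ⟨j, by omega⟩)
                change (if j + 1 = b then _ else c g 0 (j + 1)) = 0 at this
                rw [if_neg hjb] at this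
                rw [this]; simp
        have := J.add_mem hd (J.mul_mem_left (MvPowerSeries.C (c g a 0)) hgen)
        rwa [sub_add_cancel] at this
      · intro hg
        rw [hJeq] at hg
        obtain ⟨u, w, hw, rfl⟩ := Ideal.mem_span_insert.mp hg
        obtain ⟨v, rfl⟩ := Ideal.mem_span_singleton.mp hw
        funext t
        rcases t with i | j
        · simp only [Φ, LinearMap.coe_mk, AddHom.coe_mk, Sum.elim_inl, Pi.zero_apply]
          rw [c_add, mul_comm u, c_xy _ _ _ (Or.inr rfl), add_mul, c_add, c_mul0, mul_assoc, c_C_mul,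
            c_mul1, if_neg (by have := i.2; omega), if_neg (by omega)]
          simp
        · show (if (j : ℕ) + 1 = b then _ else _) = (0 : k)
          have hxy' : ∀ p q, p = 0 ∨ q = 0 → c (u * (MvPowerSeries.X 0 * MvPowerSeries.X 1)) p q = 0 :=
            fun p q h => by rw [mul_comm]; exact c_xy _ _ _ h
          simp only [c_add, add_mul, mul_assoc (MvPowerSeries.C γ), c_C_mul, c_mul0, c_mul1,
            hxy' 0 b (Or.inl rfl), hxy' a 0 (Or.inr rfl), hxy' 0 ((j : ℕ) + 1) (Or.inl rfl)]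
          have := j.2
          split_ifs <;> first | omega | (simp; ring) | simp
  · push Not at hline
    refine ⟨a₀, b₀, ha1, hb1, Or.inl ⟨?_, ?_⟩⟩
    · have hle : J ≤ Ideal.span {MvPowerSeries.X 0 * MvPowerSeries.X 1,
          (MvPowerSeries.X 0 : MvPowerSeries (Fin 2) k) ^ a₀, MvPowerSeries.X 1 ^ b₀} := by
        intro g hg
        refine decomp a₀ b₀ ha1 hb1 g (fun i hi => ?_) (fun j hj => ?_)
        · by_cases h : i + 1 < a₀
          · exact hlowx g hg i h
          · obtain rfl : i = a₀ - 1 := by omega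
            exact (hline g hg).1
        · by_cases h : j + 1 < b₀
          · exact hlowy g hg j h
          · obtain rfl : j = b₀ - 1 := by omega
            exact (hline g hg).2
      rw [← hn, le_antisymm hle hI₀]
      exact (finrank_span3 a₀ b₀ ha1 hb1).symm
    · refine le_antisymm (fun g hg => ?_) hI₀
      refine decomp a₀ b₀ ha1 hb1 g (fun i hi => ?_) (fun j hj => ?_)
      · by_cases h : i + 1 < a₀
        · exact hlowx g hg i h
        · obtain rfl : i = a₀ - 1 := by omega
          exact (hline g hg).1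
      · by_cases h : j + 1 < b₀
        · exact hlowy g hg j h
        · obtain rfl : j = b₀ - 1 := by omega
          exact (hline g hg).2

end Groth.Agent.S19437
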