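import Mathlib
import Mathlib
import Groth.Statements.S19438

set_option autoImplicit false
universe u
open CAlg

namespace Groth.Agent.S19438

/-- First assertion: let A be a Noetherian local commutative algebra over a field k with maximal ideal
M, residue field k (the map from k to A/M is onto) and embedding dimension dim M/M^2 at least 2, and
let I be a proper ideal with A/I finite-dimensional over k. If A/I is generated as a k-algebra by
one element, then some element of I does not lie in M^2; that is, the finite closed subscheme
defined by I lies on a smooth hypersurface germ (it is curvilinear). (The published statement is for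
the local ring of a smooth surface at a closed point; only a Noetherian local algebra with residue
field k and embedding dimension at least 2 is assumed here, which is what the published argument
uses.) -/
theorem result (k : Type u) [Field k]
    (A : Type u) [CommRing A] [Algebra k A] [IsNoetherianRing A] [IsLocalRing A]
    (hres : Function.Surjective (algebraMap k (IsLocalRing.ResidueField A)))
    (hemb : 2 ≤ Module.finrank (IsLocalRing.ResidueField A) (IsLocalRing.CotangentSpace A))
    (I : Ideal A) (hI : I ≠ ⊤) [Module.Finite k (A ⧸ I)]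
    (f : A ⧸ I) (hf : Algebra.adjoin k {f} = ⊤) :
    ∃ g ∈ I, g ∉ IsLocalRing.maximalIdeal A ^ 2 := by
  by_contra hno
  push Not at hno
  obtain ⟨a, ha⟩ := Ideal.Quotient.mk_surjective f
  obtain ⟨c, hc⟩ := hres (IsLocalRing.residue A a)
  let M := IsLocalRing.maximalIdeal A
  let m : A := a - algebraMap k A c
  have hm : m ∈ M := by
    rw [← IsLocalRing.residue_eq_zero_iff, map_sub, ← hc]
    exact sub_self _
  have key : ∀ x ∈ M, ∃ r : A, x - r * m ∈ M ^ 2 := by
    intro x hx
    obtain ⟨p, hp⟩ : ∃ p : Polynomial k, Polynomial.aeval f p = Ideal.Quotient.mk I x := by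
      have h : Ideal.Quotient.mk I x ∈ Algebra.adjoin k {f} := hf ▸ trivial
      rw [Algebra.adjoin_singleton_eq_range_aeval] at h
      exact h
    let q : Polynomial k := p.comp (Polynomial.X + Polynomial.C c)
    have hq : x - Polynomial.aeval m q ∈ I := by
      rw [← Ideal.Quotient.eq, ← hp, ← Ideal.Quotient.mkₐ_eq_mk k, ← Polynomial.aeval_algHom_apply,
        Polynomial.aeval_comp]
      congr 2
      simp only [map_add, Polynomial.aeval_X, Polynomial.aeval_C, m, map_sub, AlgHom.commutes, sub_add_cancel]
      exact ha.symm
    have hexp : Polynomial.aeval m q = Polynomial.aeval m q.divX.divX * m ^ 2 +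
        algebraMap k A (q.divX.coeff 0) * m + algebraMap k A (q.coeff 0) := by
      conv_lhs => rw [← Polynomial.divX_mul_X_add q, ← Polynomial.divX_mul_X_add q.divX]
      simp only [map_add, map_mul, Polynomial.aeval_X, Polynomial.aeval_C]
      ring
    have h2 : x - Polynomial.aeval m q ∈ M ^ 2 := hno _ hq
    have hm2 : Polynomial.aeval m q.divX.divX * m ^ 2 ∈ M ^ 2 := Ideal.mul_mem_left _ _ (Ideal.pow_mem_pow hm 2)
    have h0 : q.coeff 0 = 0 := by
      by_contra h0
      refine (IsLocalRing.maximalIdeal.isMaximal A).ne_top (Ideal.eq_top_of_isUnit_mem _ ?_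
        ((isUnit_iff_ne_zero.2 h0).map (algebraMap k A)))
      have := sub_mem hx (Ideal.pow_le_self two_ne_zero h2)
      rw [sub_sub_cancel, hexp] at this
      have h3 : Polynomial.aeval m q.divX.divX * m ^ 2 + algebraMap k A (q.divX.coeff 0) * m ∈ M :=
        add_mem (Ideal.pow_le_self two_ne_zero hm2) (Ideal.mul_mem_left _ _ hm)
      convert sub_mem this h3 using 1
      ring
    refine ⟨algebraMap k A (q.divX.coeff 0), ?_⟩
    rw [show x - algebraMap k A (q.divX.coeff 0) * m =
      (x - Polynomial.aeval m q) + Polynomial.aeval m q.divX.divX * m ^ 2 by rw [hexp, h0, map_zero]; ring]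
    exact add_mem h2 hm2
  have hle : Module.finrank (IsLocalRing.ResidueField A) (IsLocalRing.CotangentSpace A) ≤ 1 := by
    refine finrank_le_one (M.toCotangent ⟨m, hm⟩) fun w => ?_
    obtain ⟨⟨x, hx⟩, rfl⟩ := M.toCotangent_surjective w
    obtain ⟨r, hr⟩ := key x hx
    refine ⟨IsLocalRing.residue A r, ?_⟩
    show algebraMap A (IsLocalRing.ResidueField A) r • M.toCotangent ⟨m, hm⟩ = _
    rw [algebraMap_smul, ← map_smul]
    exact ((Ideal.toCotangent_eq M).2 hr).symm
  omega

end Groth.Agent.S19438
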