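import Mathlib
import Mathlib
import Groth.Statements.S19439

set_option autoImplicit false
universe u
open CAlg

namespace Groth.Agent.S19439

/-- Affine form: for all n and N there is an integer d, that depends only on n and N, such that for
every algebraically closed field k and every ideal I of the polynomial ring in N variables over k
whose quotient has finite dimension n over k, the polynomials of total degree at most d map onto the
quotient. -/
theorem result (n N : ℕ) :
    ∃ d : ℕ, ∀ (k : Type u) [Field k] [IsAlgClosed k] (I : Ideal (MvPolynomial (Fin N) k))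
      [Module.Finite k (MvPolynomial (Fin N) k ⧸ I)],
      Module.finrank k (MvPolynomial (Fin N) k ⧸ I) = n →
      Submodule.map (Ideal.Quotient.mkₐ k I).toLinearMap (MvPolynomial.restrictTotalDegree (Fin N) k d) = ⊤ := by
  refine ⟨n, fun k _ _ I _ hn => ?_⟩
  let π := Ideal.Quotient.mkₐ k I
  let V : ℕ → Submodule k (MvPolynomial (Fin N) k ⧸ I) := fun d =>
    Submodule.map π.toLinearMap (MvPolynomial.restrictTotalDegree (Fin N) k d)
  have hmono : Monotone V := fun a b hab => Submodule.map_mono fun p hp => by
    rw [MvPolynomial.mem_restrictTotalDegree] at hp ⊢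
    exact hp.trans hab
  have h1 : ∀ d, (1 : MvPolynomial (Fin N) k ⧸ I) ∈ V d := fun d =>
    ⟨1, by rw [SetLike.mem_coe, MvPolynomial.mem_restrictTotalDegree, MvPolynomial.totalDegree_one]; omega, map_one π⟩
  have hX : ∀ d i, ∀ v ∈ V d, v * π (MvPolynomial.X i) ∈ V (d + 1) := by
    rintro d i _ ⟨p, hp, rfl⟩
    refine ⟨p * MvPolynomial.X i, ?_, map_mul π p _⟩
    rw [SetLike.mem_coe, MvPolynomial.mem_restrictTotalDegree] at hp ⊢
    refine (MvPolynomial.totalDegree_mul _ _).trans ?_
    rw [MvPolynomial.totalDegree_X]
    omega
  have hstab : ∀ d, V d = V (d + 1) → V d = ⊤ := by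
    intro d hd
    rw [eq_top_iff]
    intro v hv
    clear hv
    obtain ⟨p, rfl⟩ := Ideal.Quotient.mk_surjective v
    induction p using MvPolynomial.induction_on with
    | C a =>
      exact ⟨MvPolynomial.C a, by
        rw [SetLike.mem_coe, MvPolynomial.mem_restrictTotalDegree, MvPolynomial.totalDegree_C]; omega, rfl⟩
    | add p q hp hq => rw [map_add]; exact add_mem hp hq
    | mul_X p i hp =>
      rw [map_mul, hd]
      exact hX d i _ hp
  have hgrow : ∀ d, V d = ⊤ ∨ d + 1 ≤ Module.finrank k (V d) := by
    intro d
    induction d with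
    | zero =>
      rcases eq_or_ne (1 : MvPolynomial (Fin N) k ⧸ I) 0 with h | h
      · exact Or.inl (eq_top_iff.2 fun v _ => by rw [← mul_one v, h, mul_zero]; exact zero_mem _)
      · exact Or.inr (Submodule.one_le_finrank_iff.2 fun hb => h (by simpa [hb] using h1 0))
    | succ d ih =>
      rcases ih with ih | ih
      · exact Or.inl (top_le_iff.1 (ih.ge.trans (hmono (Nat.le_succ d))))
      rcases (hmono (Nat.le_succ d)).eq_or_lt with he | hlt
      · exact Or.inl (he.symm.trans (hstab d he))
      · exact Or.inr (Nat.succ_le_of_lt (lt_of_le_of_lt ih (Submodule.finrank_lt_finrank_of_lt hlt)))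
  rcases hgrow n with h | h
  · exact h
  · have := Submodule.finrank_le (V n)
    omega

end Groth.Agent.S19439
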