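import Groth.Statements.S19441
import Groth.Agent.HilbConnLib.Main

set_option autoImplicit false
universe u
open CategoryTheory CategoryTheory.Limits AlgebraicGeometry
open HilbD

namespace Groth.Agent.S19441

open CategoryTheory AlgebraicGeometry TensorProduct Module
open HilbRepLib HilbDescLib HilbConnLib

/-- Two fields over a field embed into a third one. -/
theorem common_field (k : Type u) [Field k] (B C : CommAlgCat.{u} k) (hB : IsField B) (hC : IsField C) :
    ∃ K : CommAlgCat.{u} k, IsField K ∧ Nonempty (B ⟶ K) ∧ Nonempty (C ⟶ K) := by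
  letI := hB.toField
  letI := hC.toField
  haveI : Nontrivial (B ⊗[k] C) :=
    (Algebra.TensorProduct.includeLeft_injective (S := k) (algebraMap k C).injective).nontrivial
  obtain ⟨M, hM⟩ := Ideal.exists_maximal (B ⊗[k] C)
  exact ⟨CommAlgCat.of k ((B ⊗[k] C) ⧸ M), (Ideal.Quotient.maximal_ideal_iff_isField_quotient M).mp hM,
    ⟨CommAlgCat.ofHom ((Ideal.Quotient.mkₐ k M).comp Algebra.TensorProduct.includeLeft)⟩,
    ⟨CommAlgCat.ofHom ((Ideal.Quotient.mkₐ k M).comp Algebra.TensorProduct.includeRight)⟩⟩

/-- Two field valued points over one field have images in one connected component. -/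
theorem points_connected (k : Type u) [Field k] [IsAlgClosed k]
    (R : Type u) [CommRing R] [Algebra k R] [IsLocalRing R] [Module.Finite k R] (n : ℕ)
    (H : Over (Spec (CommRingCat.of k)))
    (Z : HilbD.Obj (str k R) n H) (hH : HilbD.IsUniversal (str k R) n H Z)
    (K : CommAlgCat.{u} k) (hK : IsField K) (g g' : test K ⟶ H) (z z' : ↥(Spec (CommRingCat.of K))) :
    g'.left z' ∈ connectedComponent (g.left z) := by
  classical
  letI : Field K := hK.toField
  -- the ideals of points
  let obj : ∀ {A : CommAlgCat.{u} k}, (test A ⟶ H) → HilbD.Obj (str k R) n (test A) := fun g =>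
    ⟨HilbD.pull (str k R) g Z.1, HilbCurveLib.pull_deg (str k R) g Z.2⟩
  have hinj : ∀ {A : CommAlgCat.{u} k} (p q : test A ⟶ H), idealOf (obj p) = idealOf (obj q) → p = q := by
    intro A p q h
    have h' : obj p = obj q := grOf_injective (Grassmannian.ext (congrArg (Submodule.restrictScalars A) h))
    exact (hH (test A) (obj q)).unique (congrArg Subtype.val h') rfl
  have hfr : ∀ p : test K ⟶ H,
      finrank K ((K ⊗[k] R) ⧸ (idealOf (obj p)).restrictScalars K) = n := by
    intro p
    have h := (grOf (obj p)).rankAtStalk_eq (IsLocalRing.closedPoint K)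
    rw [Module.rankAtStalk_eq_finrank_of_free] at h
    exact h
  -- the algebra
  haveI : Module.Finite K (K ⊗[k] R) := inferInstance
  haveI : IsArtinianRing R := IsArtinianRing.of_finite k R
  let m : Ideal (K ⊗[k] R) := (IsLocalRing.maximalIdeal R).map
    (Algebra.TensorProduct.includeRight (R := k) (A := (K : Type u)) (B := R)).toRingHom
  have hm : IsNilpotent m := by
    obtain ⟨l, hl⟩ := IsArtinianRing.isNilpotent_jacobson_bot (R := R)
    rw [IsLocalRing.jacobson_eq_maximalIdeal ⊥ bot_ne_top] at hl
    exact ⟨l, by rw [← Ideal.map_pow, hl, Ideal.zero_eq_bot, Ideal.map_bot]; rfl⟩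
  haveI : Module.Finite k (IsLocalRing.ResidueField R) := Module.Finite.of_surjective
    (IsScalarTower.toAlgHom k R (IsLocalRing.ResidueField R)).toLinearMap IsLocalRing.residue_surjective
  have hres := IsAlgClosed.algebraMap_bijective_of_isIntegral (k := k) (K := IsLocalRing.ResidueField R)
  have hdec : ∀ c : K ⊗[k] R, ∃ a : K, c - algebraMap K (K ⊗[k] R) a ∈ m := by
    intro c
    induction c using TensorProduct.induction_on with
    | zero => exact ⟨0, by simp⟩
    | tmul a r =>
      obtain ⟨lam, hlam⟩ := hres.2 (IsLocalRing.residue R r)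
      have hr : r - algebraMap k R lam ∈ IsLocalRing.maximalIdeal R := by
        rw [← IsLocalRing.residue_eq_zero_iff, map_sub, ← hlam, sub_eq_zero]
        rfl
      refine ⟨lam • a, ?_⟩
      have : a ⊗ₜ[k] r - algebraMap K (K ⊗[k] R) (lam • a) = (a ⊗ₜ[k] 1) * ((1 : K) ⊗ₜ[k] (r - algebraMap k R lam)) := by
        rw [Algebra.TensorProduct.algebraMap_apply, Algebra.TensorProduct.tmul_mul_tmul, mul_one, one_mul,
          TensorProduct.tmul_sub, Algebra.algebraMap_eq_smul_one lam, TensorProduct.tmul_smul, TensorProduct.smul_tmul']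
        rfl
      rw [this]
      exact Ideal.mul_mem_left _ _ (Ideal.mem_map_of_mem _ hr)
    | add x y hx hy =>
      obtain ⟨a, ha⟩ := hx
      obtain ⟨b, hb⟩ := hy
      exact ⟨a + b, by rw [map_add, add_sub_add_comm]; exact m.add_mem ha hb⟩
  haveI : Subsingleton ↥(Spec (CommRingCat.of K)) := inferInstanceAs (Subsingleton (PrimeSpectrum K))
  let C : Ideal (K ⊗[k] R) → Set ↥H.left := fun I => {h | ∃ p : test K ⟶ H, idealOf (obj p) = I ∧ h = p.left z}
  let P : Ideal (K ⊗[k] R) → Ideal (K ⊗[k] R) → Prop := fun I I' =>
    finrank K (I.restrictScalars K) + n = finrank K (K ⊗[k] R) →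
      finrank K (I'.restrictScalars K) + n = finrank K (K ⊗[k] R) ∧
        ∀ h ∈ C I, ∀ h' ∈ C I', h' ∈ connectedComponent h
  have hlift : ∀ (A : CommAlgCat.{u} k) (J : Ideal ((A : Type u) ⊗[k] R)),
      Nonempty ((((A : Type u) ⊗[k] R) ⧸ J.restrictScalars A) ≃ₗ[A] (Fin n → A)) → Nontrivial A →
      ∃ p : test A ⟶ H, idealOf (obj p) = J := by
    rintro A J ⟨e⟩ hA
    let N : Grassmannian A ((A : Type u) ⊗[k] R) n :=
      { toSubmodule := J.restrictScalars A
        finite_quotient := Module.Finite.equiv e.symm
        projective_quotient := Module.Projective.of_equiv e.symm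
        rankAtStalk_eq := fun p => by
          rw [Module.rankAtStalk_eq_of_equiv e, Module.rankAtStalk_eq_finrank_of_free, Pi.natCast_def]
          simp }
    obtain ⟨W, hW⟩ := exists_grOf (R := k) (B := R) (N := N) (fun b _ hx => Ideal.mul_mem_left J _ hx)
    obtain ⟨p, hp, -⟩ := hH (test A) W
    refine ⟨p, ?_⟩
    rw [show obj p = W from Subtype.ext hp]
    exact Submodule.restrictScalars_injective A _ _ (congrArg Grassmannian.toSubmodule hW)
  have hexists : ∀ I : Ideal (K ⊗[k] R), finrank K (I.restrictScalars K) + n = finrank K (K ⊗[k] R) → (C I).Nonempty := by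
    intro I hI
    have h := Submodule.finrank_quotient_add_finrank (I.restrictScalars K)
    obtain ⟨p, hp⟩ := hlift K I ⟨(Module.finBasisOfFinrankEq K _ (by omega)).equivFun⟩ inferInstance
    exact ⟨_, p, hp, rfl⟩
  have hC : ∀ I h, h ∈ C I → ∀ h', h' ∈ C I → h' = h := by
    rintro I _ ⟨p, hp, rfl⟩ _ ⟨q, hq, rfl⟩
    rw [hinj p q (hp.trans hq.symm)]
  have hconn : ∀ I J : Ideal (K ⊗[k] R), finrank K (I.restrictScalars K) = finrank K (K ⊗[k] R) - n →
      finrank K (J.restrictScalars K) = finrank K (K ⊗[k] R) - n → P I J := by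
    refine connected_of_steps hm hdec P (fun I hI => ⟨hI, fun h hh h' hh' => hC I h hh h' hh' ▸ mem_connectedComponent⟩)
      (fun {I I' I''} h1 h2 hI => ?_) _ (fun I I' hI hstep hI' => ?_)
    · obtain ⟨hI', h1⟩ := h1 hI
      obtain ⟨hI'', h2⟩ := h2 hI'
      refine ⟨hI'', fun h hh h'' hh'' => ?_⟩
      obtain ⟨h', hh'⟩ := hexists I' hI'
      rw [connectedComponent_eq (h1 h hh h' hh')]
      exact h2 h' hh' h'' hh''
    · have hq : finrank K ((K ⊗[k] R) ⧸ I.restrictScalars K) = n := by
        have := Submodule.finrank_quotient_add_finrank (I.restrictScalars K)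
        omega
      have hf : finrank K (I'.restrictScalars K) = finrank K (I.restrictScalars K) := by
        obtain ⟨N, s, t, hs1, ht1, hs, ht, rfl, rfl⟩ := hstep
        rw [finrank_sup_span hdec hs1 hs, finrank_sup_span hdec ht1 ht]
      refine ⟨by omega, ?_⟩
      rcases exists_line_family (P := Polynomial K) hdec n Polynomial.X (Polynomial.aeval 0) (Polynomial.aeval 1)
        (Polynomial.aeval_X 0) (Polynomial.aeval_X 1) hq hstep with rfl | ⟨J, hJ, hJ0, hJ1⟩
      · exact fun h hh h' hh' => hC _ h hh h' hh' ▸ mem_connectedComponent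
      · let A : CommAlgCat.{u} k := CommAlgCat.of k (Polynomial K)
        obtain ⟨G, hG⟩ := hlift A J hJ (inferInstanceAs (Nontrivial (Polynomial K)))
        have hrange : _root_.IsPreconnected (Set.range G.left.base) := by
          haveI : PreconnectedSpace ↥(test A).left := inferInstanceAs (PreconnectedSpace (PrimeSpectrum (Polynomial K)))
          exact isPreconnected_range G.left.continuous
        have key : ∀ (e : Polynomial K →ₐ[K] K) (I₀ : Ideal (K ⊗[k] R)), J.map (atPoint e) = I₀ →
            ∀ h ∈ C I₀, h ∈ Set.range G.left.base := by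
          rintro e I₀ he _ ⟨p, hp, rfl⟩
          let i : test K ⟶ test A := Over.homMk (Spec.map (CommRingCat.ofHom (e.restrictScalars k).toRingHom)) (by
            show Spec.map _ ≫ Spec.map _ = Spec.map _
            rw [← Spec.map_comp, ← CommRingCat.ofHom_comp]
            congr 2
            exact (e.restrictScalars k).comp_algebraMap)
          have hi : (testHom i).hom = e.restrictScalars k := by
            have h := testHom_left i
            exact AlgHom.ext fun x => (congrArg (fun f : CommRingCat.of A ⟶ CommRingCat.of K => f.hom x)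
              (Spec.map_injective h)).symm
          have hid : idealOf (obj (i ≫ G)) = I₀ := by
            rw [idealOf_pull i (obj G) (obj (i ≫ G)) (HilbCurveLib.pull_comp (str k R) G i Z.1), hG, hi]
            exact he
          refine ⟨i.left z, ?_⟩
          rw [hinj p (i ≫ G) (hp.trans hid.symm)]
          rfl
        exact fun h hh h' hh' =>
          hrange.subset_connectedComponent (key _ _ hJ0 h hh) (key _ _ hJ1 h' hh')
  have hh : ∀ p : test K ⟶ H, finrank K ((idealOf (obj p)).restrictScalars K) + n = finrank K (K ⊗[k] R) := fun p => by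
    have := Submodule.finrank_quotient_add_finrank ((idealOf (obj p)).restrictScalars K)
    have := hfr p
    omega
  obtain ⟨-, h⟩ := hconn (idealOf (obj g)) (idealOf (obj g')) (by have := hh g; omega) (by have := hh g'; omega) (hh g)
  rw [Subsingleton.elim z' z]
  exact h _ ⟨g, rfl, rfl⟩ _ ⟨g', rfl, rfl⟩

/-- Let k be an algebraically closed field and R a local commutative k-algebra, finite-dimensional over
k. For every n, if (H, Z) represents the Hilbert functor of n points of Spec R over Spec k (Z a
closed subscheme of Spec R ×_k H finite locally free of degree n over H, every such family over a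
k-scheme T being the pullback of Z along a unique k-morphism T → H), then H — the punctual Hilbert
scheme of ideals of colength n of R — has preconnected underlying space (connected when non-empty). -/
theorem result (k : Type u) [Field k] [IsAlgClosed k]
    (R : Type u) [CommRing R] [Algebra k R] [IsLocalRing R] [Module.Finite k R] (n : ℕ)
    (H : Over (Spec (CommRingCat.of k)))
    (Z : HilbD.Obj (Spec.map (CommRingCat.ofHom (algebraMap k R))) n H)
    (hH : HilbD.IsUniversal (Spec.map (CommRingCat.ofHom (algebraMap k R))) n H Z) :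
    PreconnectedSpace H.left := by
  classical
  let A : ↥H.left → CommAlgCat.{u} k := fun x =>
    letI := ((Spec.preimage (H.left.fromSpecResidueField x ≫ H.hom)).hom).toAlgebra
    CommAlgCat.of k (H.left.residueField x)
  let pt : ∀ x, test (A x) ⟶ H := fun x =>
    Over.homMk (H.left.fromSpecResidueField x) (Spec.map_preimage _).symm
  suffices h : ∀ x y : ↥H.left, y ∈ connectedComponent x by
    rw [preconnectedSpace_iff_connectedComponent]
    exact fun x => Set.eq_univ_of_forall (h x)
  intro x y
  -- a common field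
  obtain ⟨K, hK, ⟨φx⟩, ⟨φy⟩⟩ := common_field k (A x) (A y) (Field.toIsField (H.left.residueField x)) (Field.toIsField (H.left.residueField y))
  have mk : ∀ (B : CommAlgCat.{u} k) (φ : B ⟶ K), ∃ g : test K ⟶ test B,
      g.left = Spec.map (CommRingCat.ofHom φ.hom.toRingHom) := fun B φ =>
    ⟨Over.homMk (Spec.map (CommRingCat.ofHom φ.hom.toRingHom)) (by
      show Spec.map _ ≫ Spec.map _ = Spec.map _
      rw [← Spec.map_comp, ← CommRingCat.ofHom_comp]
      congr 2
      exact φ.hom.comp_algebraMap), rfl⟩
  obtain ⟨gx, -⟩ := mk (A x) φx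
  obtain ⟨gy, -⟩ := mk (A y) φy
  obtain ⟨z⟩ : Nonempty ↥(Spec (CommRingCat.of K)) := by
    haveI : Nontrivial K := hK.nontrivial
    exact inferInstanceAs (Nonempty (PrimeSpectrum K))
  have e : ∀ (w : ↥H.left) (g : test K ⟶ test (A w)), (g ≫ pt w).left z = w := fun w g =>
    H.left.fromSpecResidueField_apply w (g.left z)
  have := points_connected k R n H Z hH K hK (gx ≫ pt x) (gy ≫ pt y) z z
  rwa [e, e] at this

end Groth.Agent.S19441
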