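import Groth.Statements.S19443
import Mathlib

set_option autoImplicit false
universe u
open LinAlg

namespace Groth.Agent.S19443

/-- Algebraic form: let G be a finite group with order invertible in the field k, ρ a linear
representation of G on a k-vector space V, and ω a nondegenerate bilinear form on V invariant under
G. Then ω restricted to the fixed subspace V^G is nondegenerate (for a finite group of symplectic
automorphisms, the fixed subspace is a symplectic subspace). -/
theorem result (k : Type u) [Field k]
    (G : Type u) [Group G] [Finite G] (hG : (Nat.card G : k) ≠ 0)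
    (V : Type u) [AddCommGroup V] [Module k V] (ρ : Representation k G V)
    (ω : LinearMap.BilinForm k V) (hω : ω.Nondegenerate)
    (hinv : ∀ (g : G) (v w : V), ω (ρ g v) (ρ g w) = ω v w) :
    (ω.restrict ρ.invariants).Nondegenerate := by
  classical
  cases nonempty_fintype G
  rw [Nat.card_eq_fintype_card] at hG
  let av : V → V := fun w => (Fintype.card G : k)⁻¹ • ∑ g : G, ρ g w
  have hav : ∀ w, av w ∈ ρ.invariants := by
    intro w g
    simp only [av, map_smul, map_sum, ← Module.End.mul_apply, ← map_mul]
    congr 1
    exact Fintype.sum_equiv (Equiv.mulLeft g) _ _ fun h => rfl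
  have hl : ∀ v ∈ ρ.invariants, ∀ w, ω v (av w) = ω v w := by
    intro v hv w
    have : ∀ g, ω v (ρ g w) = ω v w := fun g => by
      conv_lhs => rw [← hv g, hinv]
    simp [av, this, Finset.sum_const, ← mul_assoc, hG]
  have hr : ∀ v ∈ ρ.invariants, ∀ w, ω (av w) v = ω w v := by
    intro v hv w
    have : ∀ g, ω (ρ g w) v = ω w v := fun g => by
      conv_lhs => rw [← hv g, hinv]
    simp [av, this, Finset.sum_const, ← mul_assoc, hG, LinearMap.sum_apply]
  refine ⟨fun v hv => Subtype.ext (hω.1 v.1 fun w => ?_), fun v hv => Subtype.ext (hω.2 v.1 fun w => ?_)⟩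
  · rw [← hl v.1 v.2 w]; exact hv ⟨av w, hav w⟩
  · rw [← hr v.1 v.2 w]; exact hv ⟨av w, hav w⟩

end Groth.Agent.S19443
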