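import Groth.Statements.S19444
import Groth.Agent.SymTenLib.TopAction
import Mathlib.GroupTheory.Perm.Basic
import Mathlib.Data.Fintype.Perm

set_option autoImplicit false
universe u
open SymTen
open scoped TensorProduct

namespace Groth.Agent.S19444

/-- Linearised norm: let A be a commutative ring in which n! is invertible and R a commutative
A-algebra, free of rank n as an A-module. There is a unique A-algebra homomorphism from the
symmetric tensors TS^n_A(R) to A taking r ⊗ ⋯ ⊗ r to the norm of r for every r in R. (The published
corollary is stated for any free algebra of rank n; the construction printed for it divides by n!,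
and n! invertible is assumed here.) -/
theorem result (A : Type u) [CommRing A] (R : Type u) [CommRing R]
    [Algebra A R] [Module.Free A R] [Module.Finite A R] (n : ℕ) (hn : Module.finrank A R = n)
    (hfact : IsUnit ((Nat.factorial n : ℕ) : A)) :
    ∃! φ : SymTen.TS A R n →ₐ[A] A, ∀ r : R, φ (SymTen.tpow A R n r) = Algebra.norm A r := by
  classical
  rcases subsingleton_or_nontrivial A with hA | hA
  · haveI : Subsingleton A := hA
    refine ⟨Algebra.ofId A A |>.comp ?_, fun r => Subsingleton.elim _ _, fun ψ _ => AlgHom.ext fun _ => Subsingleton.elim _ _⟩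
    exact
      { toFun := fun _ => 0
        map_one' := Subsingleton.elim _ _
        map_mul' := fun _ _ => Subsingleton.elim _ _
        map_zero' := rfl
        map_add' := fun _ _ => Subsingleton.elim _ _
        commutes' := fun _ => Subsingleton.elim _ _ }
  let b : Module.Basis (Fin n) A R := Module.finBasisOfFinrankEq A R hn
  let D := Groth.Agent.SymTenLib.detT b
  let e := PiTensorProduct.tprod A b
  have hDe : D e = 1 := (Groth.Agent.SymTenLib.detT_tprod b b).trans b.det_self
  have htp : ∀ r : R, D (SymTen.tpowAct A R R n (PiTensorProduct.tprod A fun _ : Fin n => r) e) =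
      Algebra.norm A r := by
    intro r
    rw [SymTen.tpowAct, PiTensorProduct.lift.tprod, MultilinearMap.compLinearMap_apply,
      PiTensorProduct.mapMultilinear_apply, PiTensorProduct.map_tprod]
    refine (Groth.Agent.SymTenLib.detT_tprod b _).trans ?_
    show b.det (LinearMap.mulLeft A r ∘ b) = _
    rw [Module.Basis.det_comp, b.det_self, mul_one, Algebra.norm_apply]
    rfl
  let L : SymTen.TS A R n →ₗ[A] A :=
    (D ∘ₗ (LinearMap.applyₗ e) ∘ₗ SymTen.tpowAct A R R n) ∘ₗ (SymTen.TS A R n).val.toLinearMap
  have hone : L 1 = 1 := by
    have h := htp 1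
    rw [map_one] at h
    show D (SymTen.tpowAct A R R n (1 : ⨂[A] _ : Fin n, R) e) = 1
    rw [PiTensorProduct.one_def]
    exact h
  refine ⟨AlgHom.ofLinearMap L hone fun x y => ?_, fun r => htp r, fun ψ hψ => ?_⟩
  · show D (SymTen.tpowAct A R R n (x.1 * y.1) e) = _
    rw [Groth.Agent.SymTenLib.tpowAct_mul, Module.End.mul_apply,
      Groth.Agent.SymTenLib.detT_act b x.2]
    rfl
  refine AlgHom.ext fun a => ?_
  -- symmetrisation
  let sym : (⨂[A] _ : Fin n, R) →ₗ[A] ⨂[A] _ : Fin n, R :=
    ∑ σ : Equiv.Perm (Fin n), (PiTensorProduct.reindex A (fun _ : Fin n => R) σ).toLinearMap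
  have hspan : ∀ z, sym z ∈ Submodule.span A (Set.range fun r : R => PiTensorProduct.tprod A fun _ : Fin n => r) := by
    intro z
    induction z using PiTensorProduct.induction_on with
    | add x y hx hy => rw [map_add]; exact add_mem hx hy
    | smul_tprod c v =>
      rw [map_smul]
      refine Submodule.smul_mem _ c ?_
      have hexp : ∑ S : Finset (Fin n), ((-1 : A) ^ Sᶜ.card) •
          PiTensorProduct.tprod A (fun _ : Fin n => ∑ i ∈ S, v i) = sym (PiTensorProduct.tprod A v) := by
        have h1 : ∀ S : Finset (Fin n), PiTensorProduct.tprod A (fun _ : Fin n => ∑ i ∈ S, v i) =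
            ∑ f : Fin n → Fin n, if (∀ j, f j ∈ S) then PiTensorProduct.tprod A (fun j => v (f j)) else 0 := by
          intro S
          rw [MultilinearMap.map_sum_finset, ← Finset.sum_filter]
          refine Finset.sum_congr ?_ fun _ _ => rfl
          ext f; simp [Fintype.mem_piFinset]
        simp only [h1]
        rw [Finset.sum_congr rfl fun S _ => Finset.smul_sum]
        simp only [smul_ite, smul_zero]
        rw [Finset.sum_comm]
        have h2 : ∀ f : Fin n → Fin n, (∑ S : Finset (Fin n),
            if (∀ j, f j ∈ S) then ((-1 : A) ^ Sᶜ.card) • PiTensorProduct.tprod A (fun j => v (f j)) else 0) =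
            if Function.Bijective f then PiTensorProduct.tprod A (fun j => v (f j)) else 0 := by
          intro f
          rw [← Finset.sum_filter, ← Finset.sum_smul]
          let T : Finset (Fin n) := (Finset.univ.image f)ᶜ
          have h3 : ∑ S ∈ (Finset.univ : Finset (Finset (Fin n))).filter (fun S => ∀ j, f j ∈ S),
              ((-1 : A) ^ Sᶜ.card) = ∑ U ∈ T.powerset, (-1 : A) ^ U.card := by
            refine Finset.sum_nbij' (fun S => Sᶜ) (fun U => Uᶜ) ?_ ?_ ?_ ?_ ?_
            · intro S hS
              simp only [Finset.coe_filter, Finset.mem_coe, Finset.mem_filter, Finset.mem_univ, true_and,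
                Set.mem_setOf_eq] at hS
              simp only [Finset.mem_coe, Finset.mem_powerset, T]
              intro x hx
              simp only [Finset.mem_compl, Finset.mem_image, Finset.mem_univ, true_and, not_exists] at hx ⊢
              exact fun j hj => hx (hj ▸ hS j)
            · intro U hU
              simp only [Finset.mem_coe, Finset.mem_powerset, T] at hU
              simp only [Finset.coe_filter, Finset.mem_coe, Finset.mem_filter, Finset.mem_univ, true_and,
                Set.mem_setOf_eq, Finset.mem_compl]
              intro j hj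
              exact (Finset.mem_compl.1 (hU hj)) (Finset.mem_image_of_mem f (Finset.mem_univ j))
            · intro S _; simp
            · intro U _; simp
            · intro S _; rfl
          rw [h3]
          have h4 : ∑ U ∈ T.powerset, (-1 : A) ^ U.card = (0 : A) ^ T.card := by
            have := Finset.prod_sub (fun _ : Fin n => (1 : A)) (fun _ => (1 : A)) T
            simpa using this.symm
          rw [h4]
          have hT : T.card = 0 ↔ Function.Bijective f := by
            rw [Finset.card_eq_zero, ← Finite.surjective_iff_bijective]
            simp [T, Finset.eq_univ_iff_forall, Function.Surjective]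
          by_cases hb : Function.Bijective f
          · rw [if_pos hb, hT.2 hb, pow_zero, one_smul]
          · rw [if_neg hb, zero_pow (fun h => hb (hT.1 h)), zero_smul]
        simp only [h2]
        rw [← Finset.sum_filter, show sym (PiTensorProduct.tprod A v) =
          ∑ σ : Equiv.Perm (Fin n), PiTensorProduct.tprod A (fun j => v (σ.symm j)) by
            simp [sym, PiTensorProduct.reindex_tprod]]
        refine Finset.sum_bij (fun f hf => (Equiv.ofBijective f (Finset.mem_filter.1 hf).2).symm)
          (fun _ _ => Finset.mem_univ _) (fun f hf g hg h => ?_) (fun σ _ => ?_) (fun f hf => ?_)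
        · have := congrArg Equiv.symm h
          simp only [Equiv.symm_symm] at this
          exact congrArg (fun e : Equiv.Perm (Fin n) => ⇑e) this
        · exact ⟨σ.symm, Finset.mem_filter.2 ⟨Finset.mem_univ _, σ.symm.bijective⟩, by ext; simp⟩
        · simp
      rw [← hexp]
      exact sum_mem fun S _ => Submodule.smul_mem _ _ (Submodule.subset_span (Set.mem_range_self (∑ i ∈ S, v i)))
  obtain ⟨u, hu⟩ := hfact
  have ha : a.1 = (↑u⁻¹ : A) • sym a.1 := by
    have : sym a.1 = (u : A) • a.1 := by
      simp only [sym, LinearMap.sum_apply, LinearEquiv.coe_coe]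
      rw [Finset.sum_congr rfl fun σ _ => a.2 σ, Finset.sum_const, Finset.card_univ, Fintype.card_perm,
        Fintype.card_fin, hu, Nat.cast_smul_eq_nsmul]
    rw [this, smul_smul, Units.inv_mul, one_smul]
  have hmem : a ∈ Submodule.span A (Set.range fun r : R => SymTen.tpow A R n r) := by
    have h1 : a.1 ∈ (Submodule.span A (Set.range fun r : R => SymTen.tpow A R n r)).map
        (SymTen.TS A R n).val.toLinearMap := by
      rw [Submodule.map_span, ← Set.range_comp]
      rw [ha]
      exact Submodule.smul_mem _ _ (hspan a.1)
    obtain ⟨w, hw, hwa⟩ := h1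
    rwa [← Subtype.ext hwa]
  clear ha
  induction hmem using Submodule.span_induction with
  | mem x hx => obtain ⟨r, rfl⟩ := hx; exact (hψ r).trans (htp r).symm
  | zero => rw [map_zero, map_zero]
  | add x y _ _ hx hy => rw [map_add, hx, hy, map_add]
  | smul c x _ hx => rw [map_smul, hx, map_smul]

end Groth.Agent.S19444
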