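import Mathlib
import Mathlib
import Groth.Agent.RegLocal.Basic
import Groth.Statements.S19445

set_option autoImplicit false
universe u
open CAlg

namespace Groth.Agent.S19445

theorem smul_mem_pow {A G : Type*} [CommRing A] [IsLocalRing A] [Group G] [MulSemiringAction G A]
    (g : G) {x : A} : ∀ {n : ℕ}, x ∈ IsLocalRing.maximalIdeal A ^ n → g • x ∈ IsLocalRing.maximalIdeal A ^ n := by
  intro n
  induction n generalizing x with
  | zero => simp
  | succ n ih =>
    rw [pow_succ]
    intro hx
    refine Submodule.mul_induction_on hx (fun a ha b hb => ?_) (fun a b ha hb => by rw [smul_add]; exact add_mem ha hb)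
    rw [smul_mul']
    refine Ideal.mul_mem_mul (ih ha) ?_
    rw [IsLocalRing.mem_maximalIdeal, mem_nonunits_iff] at hb ⊢
    intro h
    apply hb
    simpa using h.map (MulSemiringAction.toRingHom G A g⁻¹)

/-- Local form: let k be a field and A a regular local k-algebra with maximal ideal M and residue field
k (k maps onto A/M); let a finite group G whose order is invertible in k act on A by k-algebra
automorphisms. Then A/J is a regular local ring, where J is the ideal generated by the elements g·a
− a (J defines the fixed-point subscheme, so the fixed locus of G is smooth at the point). The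
accompanying identification of its tangent space with the G-invariants of the tangent space of A is
not restated here. -/
theorem result (k : Type u) [Field k] (A : Type u) [CommRing A]
    [Algebra k A] [IsRegularLocalRing A]
    (hres : Function.Surjective (algebraMap k (IsLocalRing.ResidueField A)))
    (G : Type u) [Group G] [Finite G] [MulSemiringAction G A] [SMulCommClass G k A]
    (hG : (Nat.card G : k) ≠ 0) :
    IsRegularLocalRing (A ⧸ Ideal.span {x : A | ∃ (g : G) (a : A), x = g • a - a}) := by
  classical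
  cases nonempty_fintype G
  rw [Nat.card_eq_fintype_card] at hG
  set M := IsLocalRing.maximalIdeal A with hM
  -- scalars
  have hdec : ∀ a : A, ∃ c : k, a - algebraMap k A c ∈ M := fun a => by
    obtain ⟨c, hc⟩ := hres (IsLocalRing.residue A a)
    refine ⟨c, ?_⟩
    rw [hM, ← IsLocalRing.residue_eq_zero_iff, map_sub, ← hc]
    exact sub_eq_zero.mpr rfl
  have hgk : ∀ (g : G) (c : k), g • algebraMap k A c = algebraMap k A c := fun g c => smul_algebraMap g c
  -- equivariant projection onto M ^ 2
  set M2 : Submodule k A := (M ^ 2).restrictScalars k with hM2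
  obtain ⟨C, hC⟩ := Submodule.exists_isCompl M2
  let p0 : A →ₗ[k] A := M2.subtype ∘ₗ M2.projectionOnto C hC
  have hp0 : ∀ a, p0 a ∈ M2 := fun a => (M2.projectionOnto C hC a).2
  have hp0' : ∀ a ∈ M2, p0 a = a := fun a ha => by
    simp only [p0, LinearMap.comp_apply]
    rw [Submodule.projectionOnto_apply_left hC ⟨a, ha⟩]
    rfl
  let ρ : G → A →ₗ[k] A := fun g => DistribSMul.toLinearMap k A g
  let q : A →ₗ[k] A := (Fintype.card G : k)⁻¹ • ∑ h : G, ρ h ∘ₗ p0 ∘ₗ ρ h⁻¹
  have hq : ∀ a, q a = (Fintype.card G : k)⁻¹ • ∑ h : G, h • p0 (h⁻¹ • a) := fun a => by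
    simp [q, ρ, LinearMap.sum_apply]
  have hqmem : ∀ a, q a ∈ M2 := fun a => by
    rw [hq]
    exact M2.smul_mem _ (sum_mem fun h _ => smul_mem_pow h (hp0 _))
  have hqid : ∀ a ∈ M2, q a = a := fun a ha => by
    rw [hq, Finset.sum_congr rfl (fun h _ => ?_), Finset.sum_const, Finset.card_univ, ← Nat.cast_smul_eq_nsmul k,
      smul_smul, inv_mul_cancel₀ hG, one_smul]
    rw [hp0' _ (smul_mem_pow h⁻¹ ha), smul_inv_smul]
  have hqg : ∀ (g : G) a, q (g • a) = g • q a := fun g a => by
    rw [hq, hq, smul_comm g, Finset.smul_sum (r := g)]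
    congr 1
    refine Fintype.sum_equiv (Equiv.mulLeft g⁻¹) _ _ fun h => ?_
    simp [smul_smul, mul_assoc]
  let W : Submodule k A := M.restrictScalars k ⊓ LinearMap.ker q
  have hM2M : ∀ a ∈ M2, a ∈ M := fun a ha => Ideal.pow_le_self two_ne_zero ha
  have hWg : ∀ (g : G), ∀ w ∈ W, g • w ∈ W := fun g w hw => by
    refine ⟨?_, ?_⟩
    · show g • w ∈ M
      have := smul_mem_pow g (n := 1) (x := w) ((pow_one M).symm ▸ hw.1 : w ∈ M ^ 1)
      rwa [pow_one] at this
    simp only [SetLike.mem_coe, LinearMap.mem_ker, hqg]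
    rw [LinearMap.mem_ker.mp hw.2, smul_zero]
  obtain ⟨n, x, hx, hn⟩ : ∃ (n : ℕ) (x : Fin n → A), Ideal.span (Set.range x) = M ∧ n = M.spanFinrank := by
    obtain ⟨x, hx⟩ := RegLocal.exists_generators A
    exact ⟨_, x, hx, rfl⟩
  let y := fun i => x i - q (x i)
  have hyW : ∀ i, y i ∈ W := fun i =>
    ⟨sub_mem (show x i ∈ M by rw [← hx]; exact Ideal.subset_span ⟨i, rfl⟩) (hM2M _ (hqmem _)), by
      simp [y, hqid _ (hqmem (x i))]⟩
  have hy : Ideal.span (Set.range y) = M := by
    refine le_antisymm (Ideal.span_le.mpr (by rintro _ ⟨i, rfl⟩; exact (hyW i).1)) ?_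
    refine Submodule.le_of_le_smul_of_le_jacobson_bot (I := M) M.fg_of_isNoetherianRing
      (IsLocalRing.maximalIdeal_le_jacobson _) ?_
    rw [smul_eq_mul, ← sq]
    rw [show M = Ideal.span (Set.range x) from hx.symm]
    nth_rw 2 [show Ideal.span (Set.range x) = M from hx]
    rw [Ideal.span_le]
    rintro _ ⟨i, rfl⟩
    exact Submodule.mem_sup.mpr ⟨y i, Ideal.subset_span ⟨i, rfl⟩, q (x i), hqmem _, by simp [y]⟩
  have hWspan : W ≤ Submodule.span k (Set.range y) := fun w hw => by
    have hw1 : w ∈ Ideal.span (Set.range y) := hy ▸ hw.1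
    rw [Ideal.mem_span_range_iff_exists_fun] at hw1
    obtain ⟨a, ha⟩ := hw1
    choose c hc using fun i => hdec (a i)
    have hmem : ∑ i, c i • y i ∈ W := sum_mem fun i _ => W.smul_mem _ (hyW i)
    have h2 : w - ∑ i, c i • y i ∈ M2 := by
      rw [← ha, ← Finset.sum_sub_distrib]
      refine sum_mem fun i _ => ?_
      rw [Algebra.smul_def, ← sub_mul]
      show _ ∈ M ^ 2
      rw [sq]
      exact Ideal.mul_mem_mul (hc i) (hyW i).1
    have h3 := (hqid _ h2).symm.trans (LinearMap.mem_ker.mp (sub_mem hw hmem).2)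
    rw [sub_eq_zero.mp h3]
    exact sum_mem fun i _ => Submodule.smul_mem _ _ (Submodule.subset_span ⟨i, rfl⟩)
  -- the ideal is generated by `g • y i - y i`
  set T : Set A := Set.range (fun z : G × _ => z.1 • y z.2 - y z.2) with hT
  set J' := Ideal.span T
  have hJ : Ideal.span {x : A | ∃ (g : G) (a : A), x = g • a - a} = J' := by
    refine le_antisymm (Ideal.span_le.mpr ?_)
      (Ideal.span_mono (by rintro _ ⟨z, rfl⟩; exact ⟨z.1, y z.2, rfl⟩))
    have hTM : J' ≤ M := Ideal.span_le.mpr (by
      rintro _ ⟨z, rfl⟩; exact sub_mem (hWg z.1 _ (hyW z.2)).1 (hyW z.2).1)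
    have key : ∀ n (g : G) (a : A), g • a - a ∈ J' ⊔ M ^ n := by
      intro n
      induction n with
      | zero => intro g a; simp
      | succ n ih =>
        intro g a
        obtain ⟨c, hc⟩ := hdec a
        rw [← hy, Ideal.mem_span_range_iff_exists_fun] at hc
        obtain ⟨b, hb⟩ := hc
        rw [eq_sub_iff_add_eq] at hb
        rw [← hb, smul_add, hgk, add_sub_add_right_eq_sub, Finset.smul_sum, ← Finset.sum_sub_distrib]
        refine sum_mem fun i _ => ?_
        rw [smul_mul', show g • b i * g • y i - b i * y i = g • b i * (g • y i - y i) + (g • b i - b i) * y i by ring]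
        refine add_mem (Submodule.mem_sup_left (Ideal.mul_mem_left _ _ (Ideal.subset_span ⟨(g, i), rfl⟩))) ?_
        have : (J' ⊔ M ^ n) * M ≤ J' ⊔ M ^ (n + 1) := by
          rw [Ideal.sup_mul, pow_succ]
          exact sup_le_sup_right Ideal.mul_le_left _
        exact this (Ideal.mul_mem_mul (ih g (b i)) (hyW i).1)
    rintro _ ⟨g, a, rfl⟩
    have hne : J' ≠ ⊤ := fun h => (IsLocalRing.maximalIdeal.isMaximal A).ne_top (top_le_iff.mp (h ▸ hTM))
    have := RegLocal.isLocalRing_quot hne
    rw [SetLike.mem_coe, ← Ideal.Quotient.eq_zero_iff_mem]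
    have h0 : Ideal.Quotient.mk J' (g • a - a) ∈ ⨅ n : ℕ, IsLocalRing.maximalIdeal (A ⧸ J') ^ n := by
      refine Ideal.mem_iInf.mpr fun n => ?_
      rw [RegLocal.maximalIdeal_quot hne, ← Ideal.map_pow]
      have := Ideal.mem_map_of_mem (Ideal.Quotient.mk J') (key n g a)
      rwa [Ideal.map_sup, Ideal.map_quotient_self, bot_sup_eq] at this
    rw [Ideal.iInf_pow_eq_bot_of_isLocalRing _ (IsLocalRing.maximalIdeal.isMaximal _).ne_top] at h0
    simpa using h0
  rw [hJ]
  -- a basis of `W` adapted to `T`
  obtain ⟨b, hbT, hbspan, hbli⟩ := exists_linearIndependent k T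
  have hbW : b ⊆ W := hbT.trans (by rintro _ ⟨z, rfl⟩; exact sub_mem (hWg z.1 _ (hyW z.2)) (hyW z.2))
  obtain ⟨B, hB1, hbB, hBspan, hBli⟩ :=
    exists_linearIndepOn_id_extension (K := k) hbli (Set.subset_union_left (s := b) (t := Set.range y))
  have hBW : B ⊆ W := hB1.trans (Set.union_subset hbW (by rintro _ ⟨i, rfl⟩; exact hyW i))
  have hBfin : B.Finite ∧ B.ncard ≤ n := by
    have hBy : B ⊆ Submodule.span k (Set.range y) := hBW.trans hWspan
    haveI : FiniteDimensional k (Submodule.span k (Set.range y)) := FiniteDimensional.span_of_finite k (Set.finite_range y)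
    let f : B → Submodule.span k (Set.range y) := fun v => ⟨v, hBy v.2⟩
    have hf : LinearIndependent k f := LinearIndependent.of_comp (Submodule.span k (Set.range y)).subtype hBli
    haveI := hf.finite
    haveI := Fintype.ofFinite B
    refine ⟨Set.toFinite B, ?_⟩
    rw [Set.ncard_eq_toFinset_card', Set.toFinset_card]
    exact hf.fintype_card_le_finrank.trans ((finrank_range_le_card y).trans (by simp [hn]))
  have hBgen : Ideal.span B = M := by
    refine le_antisymm (Ideal.span_le.mpr fun v hv => (hBW hv).1) ?_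
    rw [← hy, Ideal.span_le]
    intro v hv
    exact Submodule.span_le_restrictScalars k A B (hBspan (Set.mem_union_right _ hv))
  have hBn : B.ncard = n := le_antisymm hBfin.2 <| by
    rw [hn, ← hBgen]; exact Submodule.spanFinrank_span_le_ncard_of_finite hBfin.1
  haveI := hBfin.1.to_subtype
  let e : Fin n ≃ B := ((Finite.equivFin B).trans (finCongr (by rw [Nat.card_coe_set_eq, hBn]))).symm
  have hrange : Set.range (fun i => (e i : A)) = B := by
    ext v; exact ⟨fun ⟨i, hi⟩ => hi ▸ (e i).2, fun hv => ⟨e.symm ⟨v, hv⟩, by simp⟩⟩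
  obtain ⟨d, hd⟩ := RegLocal.exists_nat_ringKrullDim A
  have hnd : n = d := by
    have := IsRegularLocalRing.spanFinrank_maximalIdeal (R := A)
    rw [hd, ← hM, ← hn] at this; exact_mod_cast this
  subst hnd
  have hreg := (RegLocal.quot_span_image hd (fun i => (e i : A)) (by rw [hrange, hBgen])
    (Finset.univ.filter fun i => (e i : A) ∈ b)).1
  have hset : (fun i => (e i : A)) '' ((Finset.univ.filter fun i => (e i : A) ∈ b : Finset (Fin n)) : Set (Fin n)) = b := by
    ext v
    simp only [Finset.coe_filter, Finset.mem_univ, true_and, Set.mem_image, Set.mem_setOf_eq]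
    exact ⟨fun ⟨i, hi, hv⟩ => hv ▸ hi, fun hv => ⟨e.symm ⟨v, hbB hv⟩, by simpa using hv, by simp⟩⟩
  have hJb : J' = Ideal.span b := by
    refine le_antisymm (Ideal.span_le.mpr fun v hv => ?_) (Ideal.span_mono hbT)
    exact Submodule.span_le_restrictScalars k A b (hbspan ▸ Submodule.subset_span hv)
  rw [hJb]
  rwa [hset] at hreg

end Groth.Agent.S19445
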