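import Groth.Statements.S19446
import Groth.Agent.CastLib.InterFibreClass
import Groth.Agent.CastLib.InterForm
import Groth.Agent.CastLib.InterLinAlg
import Groth.Agent.CastLib.NegDef
import Groth.Agent.FinBirLib.Iso
import Groth.Agent.S18879

set_option autoImplicit false
universe u
open CategoryTheory CategoryTheory.Limits AlgebraicGeometry
open Resolve

namespace Groth.Agent.S19446

noncomputable section

set_option backward.isDefEq.respectTransparency false
set_option linter.style.haveILetI false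
set_option maxHeartbeats 1000000

open TopologicalSpace IsLocalRing IntMult Groth.Agent.CastLib Groth.Agent.SurfPtBlow Groth.Agent.DivisorialLib

/-- A Cartier divisor on a regular integral Noetherian scheme is a sum of its prime divisors. -/
theorem exists_decomp {Y : Scheme.{u}} [IsIntegral Y] [AlgebraicGeometry.IsNoetherian Y]
    (hreg : ∀ x : Y, IsRegularLocalRing (Y.presheaf.stalk x)) {I : Y.IdealSheafData}
    (hI : BlowUp.IsEffCartierIdeal I) :
    ∃ (n : ℕ) (ξ : Fin n → Y) (a : Fin n → ℕ), (∀ i, Order.coheight (ξ i) = 1) ∧ Function.Injective ξ ∧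
      (∀ η ∈ I.support, Order.coheight η = 1 → ∃ i, ξ i = η) ∧ (∀ i, 0 < a i) ∧
      I = ∏ i, cl (ξ i) ^ a i ∧ ∀ x ∈ I.support, ∃ i, ξ i ⤳ x := by
  classical
  let F : Set Y := {η | η ∈ I.support ∧ Order.coheight η = 1}
  have hF : F.Finite := by
    obtain ⟨S, hS, hSc, hSi, hSe⟩ :=
      NoetherianSpace.exists_finite_set_isClosed_irreducible (α := Y) I.support.isClosed
    refine (hS.biUnion fun T hT => Set.Subsingleton.finite (s := {η | IsGenericPoint η T})
      fun a ha b hb => IsGenericPoint.eq ha hb).subset fun η hη => ?_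
    have hmem : η ∈ (I.support : Set Y) := hη.1
    obtain ⟨T, hT, hηT⟩ := Set.mem_sUnion.1 (hSe ▸ hmem)
    obtain ⟨g, hg⟩ := QuasiSober.sober (hSi T hT) (hSc T hT)
    refine Set.mem_biUnion hT ?_
    suffices g = η by exact this ▸ hg
    by_contra hne
    have h3 := S8909.succ_le (hg.specializes hηT) hne
    have hgF : g ∈ I.support := by
      rw [← SetLike.mem_coe, hSe]
      exact Set.mem_sUnion_of_mem hg.mem hT
    rw [hη.2] at h3
    exact absurd (h3.trans' (add_le_add (Order.one_le_iff_pos.2 (pos_iff_ne_zero.2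
      (S8909.coheight_ne_zero hI hgF))) le_rfl)) (by decide)
  let e := hF.toFinset.equivFin.symm
  let ξ : Fin hF.toFinset.card → Y := fun i => (e i).1
  have hξ : ∀ i, ξ i ∈ F := fun i => hF.mem_toFinset.1 (e i).2
  have hinj : Function.Injective ξ := fun i j hij => e.injective (Subtype.ext hij)
  have hall : ∀ η ∈ I.support, Order.coheight η = 1 → ∃ i, ξ i = η := fun η h1 h2 =>
    ⟨e.symm ⟨η, hF.mem_toFinset.2 ⟨h1, h2⟩⟩, by simp [ξ]⟩
  have hexp : ∀ i, ∃ m, stalkIdeal I (ξ i) = maximalIdeal (Y.presheaf.stalk (ξ i)) ^ m :=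
    fun i => by
      haveI : IsDiscreteValuationRing (Y.presheaf.stalk (ξ i)) :=
        CDivLib.isDVR_stalk (fun x => by haveI := hreg x; exact PurityLib.isIntegrallyClosed_of_regular _) (hξ i).2
      obtain ⟨ϖ, hϖ⟩ := IsDiscreteValuationRing.exists_irreducible (Y.presheaf.stalk (ξ i))
      obtain ⟨f, hf, hfI⟩ := exists_gen hI (ξ i)
      refine S8909.exists_eq_pow hϖ.maximalIdeal_eq fun hbot => nonZeroDivisors.ne_zero hf ?_
      exact Ideal.span_singleton_eq_bot.1 (hfI.symm.trans hbot)
  choose a ha using hexp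
  have heq := eq_prod_cl hreg ξ (fun i => (hξ i).2) hinj _ a rfl I hI hall ha
  refine ⟨_, ξ, a, fun i => (hξ i).2, hinj, hall, fun i => ?_, heq, fun x hx => ?_⟩
  · refine Nat.pos_of_ne_zero fun h0 => (IsLocalRing.maximalIdeal.isMaximal (Y.presheaf.stalk (ξ i))).ne_top ?_
    have := IdealStalkLib.stalkIdeal_le_maximal I (hξ i).1
    rw [ha, h0, pow_zero, Ideal.one_eq_top, top_le_iff] at this
    exact this
  · by_contra hno
    push Not at hno
    have h1 := IdealStalkLib.stalkIdeal_le_maximal I hx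
    rw [heq, stalkIdeal_prod', Finset.prod_eq_one (fun i _ => by
      rw [IdealMulLib.stalkIdeal_eq_top _ (fun hm => hno i (mem_support_cl.1 hm)), ← Ideal.one_eq_top, one_pow]),
      Ideal.one_eq_top, top_le_iff] at h1
    exact (IsLocalRing.maximalIdeal.isMaximal _).ne_top h1

section Curve

variable {R : Type u} [CommRing R] [IsLocalRing R] {Y : Scheme.{u}} (π : Y ⟶ Spec (CommRingCat.of R)) [IsProper π]
  {E : Scheme.{u}} (e : E ⟶ Y) [IsClosedImmersion e] (s : E ⟶ Spec (CommRingCat.of (ResidueField R)))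

/-- The degree on a contracted curve. -/
def dg (L : Y.Modules) : ℤ :=
  @Curv2.deg (ResidueField R) _ E ⟨s⟩ ((Scheme.Modules.pullback e).obj L) 1

variable (w : e ≫ π = s ≫ Spec.map (CommRingCat.ofHom (IsLocalRing.residue R)))
include w

theorem isProper_s : IsProper s := by
  haveI : IsClosedImmersion (Spec.map (CommRingCat.ofHom (IsLocalRing.residue R))) :=
    IsClosedImmersion.spec_of_surjective _ Ideal.Quotient.mk_surjective
  haveI : IsProper (s ≫ Spec.map (CommRingCat.ofHom (IsLocalRing.residue R))) := w ▸ inferInstance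
  exact IsProper.of_comp s (Spec.map (CommRingCat.ofHom (IsLocalRing.residue R)))

omit [IsProper π] [IsClosedImmersion e] in
theorem map_closed (c : E) : π (e c) = closedPoint R := by
  rw [← Scheme.Hom.comp_apply, w, Scheme.Hom.comp_apply,
    Subsingleton.elim (α := PrimeSpectrum (ResidueField R)) (s c) (closedPoint _)]
  exact IsLocalRing.comap_closedPoint (IsLocalRing.residue R)

variable [IsIntegral E] (hE : topologicalKrullDim E = 1)
include hE

theorem dg_congr {L M : Y.Modules} (i : L ≅ M) : dg e s L = dg e s M := by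
  letI : E.Over (Spec (CommRingCat.of (ResidueField R))) := ⟨s⟩
  haveI : IsProper (E ↘ Spec (CommRingCat.of (ResidueField R))) := isProper_s π e s w
  exact CurveLib.deg_iso ((Scheme.Modules.pullback e).mapIso i) 1

theorem dg_one : dg e s (Coh.structureModule Y) = 0 := by
  letI : E.Over (Spec (CommRingCat.of (ResidueField R))) := ⟨s⟩
  haveI : IsProper (E ↘ Spec (CommRingCat.of (ResidueField R))) := isProper_s π e s w
  show Curv2.deg _ _ _ 1 = 0
  rw [← curveDeg_eq_deg hE.le, curveDeg_iso hE.le (AmpleLib.pullO e)]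
  exact curveDeg_one

theorem dg_tensor {L M : Y.Modules} (hL : PicF.IsInvertible L) (hM : PicF.IsInvertible M) :
    dg e s (CohB1.tensorMod L M) = dg e s L + dg e s M := by
  letI : E.Over (Spec (CommRingCat.of (ResidueField R))) := ⟨s⟩
  haveI : IsProper (E ↘ Spec (CommRingCat.of (ResidueField R))) := isProper_s π e s w
  show Curv2.deg _ _ _ 1 = Curv2.deg _ _ _ 1 + Curv2.deg _ _ _ 1
  rw [← curveDeg_eq_deg hE.le, ← curveDeg_eq_deg hE.le, ← curveDeg_eq_deg hE.le,
    curveDeg_iso hE.le (AmpleLib.pullTensor e L M)]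
  exact curveDeg_tensor hE.le (AmpleLib.isInvertible_pullback e hL) (AmpleLib.isInvertible_pullback e hM)

theorem dg_multiTwist {n : ℕ} (L : Fin n → Y.Modules) (hL : ∀ i, PicF.IsInvertible (L i)) (a : Fin n → ℕ) :
    dg e s (FGA.multiTwist L a) = ∑ i, (a i : ℤ) * dg e s (L i) := by
  have hpow : ∀ {M : Y.Modules}, PicF.IsInvertible M → ∀ m : ℕ, PicF.IsInvertible (CohB1.tensorPow M m) ∧
      dg e s (CohB1.tensorPow M m) = m * dg e s M := by
    intro M hM m
    induction m with
    | zero => exact ⟨ParaFLib.isInvertible_structureModule, by simpa [CohB1.tensorPow] using dg_one π e s w hE⟩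
    | succ m ih =>
      refine ⟨AmpleLib.isInvertible_tensor ih.1 hM, ?_⟩
      show dg e s (CohB1.tensorMod (CohB1.tensorPow M m) M) = _
      rw [dg_tensor π e s w hE ih.1 hM, ih.2]
      push_cast
      ring
  have hlist : ∀ l : List (Fin n), PicF.IsInvertible (FGA.tensorList (l.map fun i => CohB1.tensorPow (L i) (a i))) ∧
      dg e s (FGA.tensorList (l.map fun i => CohB1.tensorPow (L i) (a i))) =
        (l.map fun i => (a i : ℤ) * dg e s (L i)).sum := by
    intro l
    induction l with
    | nil => exact ⟨ParaFLib.isInvertible_structureModule, dg_one π e s w hE⟩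
    | cons i l ih =>
      refine ⟨AmpleLib.isInvertible_tensor (hpow (hL i) (a i)).1 ih.1, ?_⟩
      show dg e s (CohB1.tensorMod (CohB1.tensorPow (L i) (a i))
        (FGA.tensorList (l.map fun i => CohB1.tensorPow (L i) (a i)))) = _
      rw [dg_tensor π e s w hE (hpow (hL i) (a i)).1 ih.1, (hpow (hL i) (a i)).2, ih.2, List.map_cons, List.sum_cons]
  refine (hlist _).2.trans ?_
  rw [Fin.sum_univ_def]

theorem dg_eq_finrank {D : Y.IdealSheafData} (hD : BlowUp.IsEffCartierIdeal D)
    (hgen : e (genericPoint E) ∉ D.support) {L : Y.Modules} (hL : ClSub.IsInverseOf L (ClSub.idealMod D)) :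
    letI : E.Over (Spec (CommRingCat.of (ResidueField R))) := ⟨s⟩
    dg e s L = (Module.finrank (ResidueField R) (Coh.HH E (ClSub.quotMod (D.comap e)) 0) : ℤ) := by
  letI : E.Over (Spec (CommRingCat.of (ResidueField R))) := ⟨s⟩
  haveI : IsProper (E ↘ Spec (CommRingCat.of (ResidueField R))) := isProper_s π e s w
  have hD' := isEffCartier_comap_integral e hD hgen
  obtain ⟨i⟩ := JacLib.nonempty_iso_pullback_idealMod e D hD hD'
  have hI : dg e s (ClSub.idealMod D) = -(Module.finrank (ResidueField R) (Coh.HH E (ClSub.quotMod (D.comap e)) 0) : ℤ) := by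
    show Curv2.deg _ _ _ 1 = _
    rw [← curveDeg_eq_deg hE.le, curveDeg_iso hE.le i, curveDeg_idealMod hE.le hD']
  obtain ⟨j⟩ := hL
  have h := dg_tensor π e s w hE (isInvertible_inverse_ideal ⟨j⟩) (CastLib.isInvertible_idealMod hD)
  rw [dg_congr π e s w hE j, dg_one π e s w hE, hI] at h
  omega

theorem dg_nonneg {D : Y.IdealSheafData} (hD : BlowUp.IsEffCartierIdeal D)
    (hgen : e (genericPoint E) ∉ D.support) {L : Y.Modules} (hL : ClSub.IsInverseOf L (ClSub.idealMod D)) :
    0 ≤ dg e s L ∧ ∀ c : E, e c ∈ D.support → 0 < dg e s L := by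
  letI : E.Over (Spec (CommRingCat.of (ResidueField R))) := ⟨s⟩
  haveI : IsProper (E ↘ Spec (CommRingCat.of (ResidueField R))) := isProper_s π e s w
  rw [dg_eq_finrank π e s w hE hD hgen hL]
  refine ⟨Int.natCast_nonneg _, fun c hc => ?_⟩
  have h0 : Module.finrank (ResidueField R) (Coh.HH E (ClSub.quotMod (D.comap e)) 0) ≠ 0 := by
    rw [Ne, finrank_quotMod_eq_zero_iff, Scheme.IdealSheafData.support_comap]
    exact fun h => Set.eq_empty_iff_forall_notMem.1 h c hc
  exact_mod_cast Nat.pos_of_ne_zero h0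

omit hE in
theorem ker_eq_cl : e.ker = cl (e (genericPoint E)) := by
  have hr : Set.range e = closure {e (genericPoint E)} := by
    have h := (genericPoint_spec E).image e.continuous
    rw [Set.image_univ, e.isClosedEmbedding.isClosed_range.closure_eq] at h
    exact h.def.symm
  have h1 : e.ker = Scheme.IdealSheafData.vanishingIdeal e.ker.support := by
    rw [Scheme.IdealSheafData.vanishingIdeal_support]
    refine le_antisymm (Scheme.IdealSheafData.le_radical _) fun U a ha ↦ ?_
    rw [Scheme.Hom.ker_apply, RingHom.mem_ker]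
    obtain ⟨n, hn⟩ := ha
    rw [Scheme.Hom.ker_apply, RingHom.mem_ker, map_pow] at hn
    exact IsReduced.eq_zero _ ⟨n, hn⟩
  have h2 : e.ker.support = (⟨closure {e (genericPoint E)}, isClosed_closure⟩ : Closeds Y) := by
    apply Closeds.ext
    rw [Scheme.Hom.support_ker, hr, closure_closure]
    rfl
  rw [h1, h2]
  rfl

theorem dg_eq_length {D : Y.IdealSheafData} (hD : BlowUp.IsEffCartierIdeal D)
    (hgen : e (genericPoint E) ∉ D.support) {L : Y.Modules} (hL : ClSub.IsInverseOf L (ClSub.idealMod D)) :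
    letI : Y.Over (Spec (CommRingCat.of R)) := ⟨π⟩
    dg e s L = ((Module.length R (Coh.HH Y (ClSub.quotMod (D ⊔ e.ker)) 0)).toNat : ℤ) := by
  letI : Y.Over (Spec (CommRingCat.of R)) := ⟨π⟩
  letI : E.Over (Spec (CommRingCat.of (ResidueField R))) := ⟨s⟩
  haveI : IsProper (E ↘ Spec (CommRingCat.of (ResidueField R))) := isProper_s π e s w
  rw [dg_eq_finrank π e s w hE hD hgen hL, Nat.cast_inj]
  let T := (D.comap e).subscheme
  let jT : T ⟶ E := (D.comap e).subschemeι
  let W := (D ⊔ e.ker).subscheme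
  let jW : W ⟶ Y := (D ⊔ e.ker).subschemeι
  have h1 : jW.ker ≤ (jT ≫ e).ker := by
    rw [Scheme.IdealSheafData.ker_subschemeι, ← Scheme.IdealSheafData.map_ker,
      Scheme.IdealSheafData.ker_subschemeι]
    refine sup_le (Scheme.IdealSheafData.le_map_comap _ _) ?_
    rw [← Scheme.IdealSheafData.map_bot]
    exact Scheme.IdealSheafData.map_mono _ bot_le
  let a : T ⟶ W := IsClosedImmersion.lift jW (jT ≫ e) h1
  have ha : a ≫ jW = jT ≫ e := IsClosedImmersion.lift_fac _ _ _
  have h2 : e.ker ≤ jW.ker := by rw [Scheme.IdealSheafData.ker_subschemeι]; exact le_sup_right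
  let c : W ⟶ E := IsClosedImmersion.lift e jW h2
  have hc : c ≫ e = jW := IsClosedImmersion.lift_fac _ _ _
  have h3 : jT.ker ≤ c.ker := by
    rw [Scheme.IdealSheafData.ker_subschemeι, ← Scheme.IdealSheafData.le_map_iff_comap_le,
      Scheme.IdealSheafData.map_ker, hc, Scheme.IdealSheafData.ker_subschemeι]
    exact le_sup_left
  let b : W ⟶ T := IsClosedImmersion.lift jT c h3
  have hb : b ≫ jT = c := IsClosedImmersion.lift_fac _ _ _
  haveI : IsIso a := ⟨b, by
      rw [← cancel_mono jT, ← cancel_mono e, Category.assoc, Category.assoc, reassoc_of% hb, hc, ha,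
        Category.id_comp],
    by rw [← cancel_mono jW, Category.assoc, ha, reassoc_of% hb, hc, Category.id_comp]⟩
  let e₁ : Coh.HH Y (ClSub.quotMod (D ⊔ e.ker)) 0 ≃+ Γ(W, ⊤) := CurveLib.secOf (ClSub.quotMod (D ⊔ e.ker))
  let e₂ : Coh.HH E (ClSub.quotMod (D.comap e)) 0 ≃+ Γ(T, ⊤) := CurveLib.secOf (ClSub.quotMod (D.comap e))
  let ev : Γ(W, ⊤) ≃+ Γ(T, ⊤) := (asIso a.appTop).commRingCatIsoToRingEquiv.toAddEquiv
  let σ := IsLocalRing.residue R
  letI : Module R (Coh.HH E (ClSub.quotMod (D.comap e)) 0) := Module.compHom _ σ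
  haveI : IsScalarTower R (ResidueField R) (Coh.HH E (ClSub.quotMod (D.comap e)) 0) :=
    IsScalarTower.of_algebraMap_smul fun r m => rfl
  have hlen : Module.length R (Coh.HH Y (ClSub.quotMod (D ⊔ e.ker)) 0) =
      Module.length R (Coh.HH E (ClSub.quotMod (D.comap e)) 0) := by
    refine LinearEquiv.length_eq
      { (e₁.trans (ev.trans e₂.symm)) with map_smul' := fun r m => e₂.injective ?_ }
    show e₂ (e₂.symm (ev (e₁ (r • m)))) = e₂ (σ r • e₂.symm (ev (e₁ m)))
    rw [AddEquiv.apply_symm_apply]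
    have h4 : e₁ (r • m) = jW.appTop (Coh.toGlobal π r) * e₁ m :=
      ModelDual.secOf_smulAb (ClSub.quotMod (D ⊔ e.ker)) _ m
    have h5 : e₂ (σ r • e₂.symm (ev (e₁ m))) = jT.appTop (Coh.toGlobal s (σ r)) * e₂ (e₂.symm (ev (e₁ m))) :=
      ModelDual.secOf_smulAb (ClSub.quotMod (D.comap e)) _ _
    rw [h4, h5, AddEquiv.apply_symm_apply]
    show a.appTop (_ * _) = _ * a.appTop (e₁ m)
    rw [map_mul, ← ConcreteCategory.comp_apply, ← Scheme.Hom.comp_appTop, ha, Scheme.Hom.comp_appTop]
    congr 1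
    show jT.appTop (e.appTop (Coh.toGlobal π r)) = _
    congr 1
    exact toGlobal_w w r
  rw [hlen, Module.length_eq_of_surjective (R := ResidueField R) Ideal.Quotient.mk_surjective]
  haveI := EulerIneqLib.isNoetherian_proper (X := E) (ResidueField R)
  haveI := EulerIneqLib.finite_HH (k := ResidueField R) (IntLib.isCoh_quotMod (D.comap e)) 0
  rw [Module.length_eq_finrank, ENat.toNat_natCast]

end Curve

theorem negDef_main (R : Type u) [CommRing R] [IsDomain R] [IsNoetherianRing R] [IsLocalRing R]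
    (hdimR : ringKrullDim R = 2)
    (Y : Scheme.{u}) (π : Y ⟶ Spec (CommRingCat.of R)) [IsProper π] [IsIntegral Y]
    (hreg : ∀ y : Y, IsRegularLocalRing (Y.presheaf.stalk y))
    (U : (Spec (CommRingCat.of R)).Opens)
    (hU : ∀ p : Spec (CommRingCat.of R), p ∈ U ↔ p ≠ IsLocalRing.closedPoint R) (hbir : IsIso (π ∣_ U))
    (r : ℕ) (E : Fin r → Scheme.{u}) (e : ∀ i, E i ⟶ Y) [∀ i, IsClosedImmersion (e i)]
    [∀ i, IsIntegral (E i)] (hE : ∀ i, topologicalKrullDim (E i) = 1)
    (s : ∀ i, E i ⟶ Spec (CommRingCat.of (IsLocalRing.ResidueField R)))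
    (hs : ∀ i, e i ≫ π = s i ≫ Spec.map (CommRingCat.ofHom (IsLocalRing.residue R)))
    (hdist : ∀ i j, i ≠ j → Set.range (e i).base ≠ Set.range (e j).base)
    (hcov : ∀ y : Y, π.base y ∉ U → ∃ i, y ∈ Set.range (e i).base)
    (L : Fin r → Y.Modules) (hL : ∀ j, ClSub.IsInverseOf (L j) (ClSub.idealMod (e j).ker))
    (x : Fin r → ℤ) (hx : x ≠ 0) :
    ∑ i, ∑ j, x i * x j * dg (e i) (s i) (L j) < 0 := by
  classical
  haveI : IsNoetherianRing (CommRingCat.of R) := inferInstanceAs (IsNoetherianRing R)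
  haveI : IsLocallyNoetherian Y := LocallyOfFiniteType.isLocallyNoetherian π
  haveI : CompactSpace Y := QuasiCompact.compactSpace_of_compactSpace π
  haveI : AlgebraicGeometry.IsNoetherian Y := {}
  haveI : AlgebraicGeometry.IsNoetherian (Spec (CommRingCat.of R)) := inferInstance
  haveI : Y.IsSeparated := ⟨by rw [← terminal.comp_from π]; infer_instance⟩
  let η := genericPoint Y
  let b : ↥(Spec (CommRingCat.of R)) := (⟨⊥, Ideal.isPrime_bot⟩ : PrimeSpectrum R)
  have hbm : maximalIdeal R ≠ ⊥ := fun h => by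
    have h1 := IsLocalRing.maximalIdeal_height_eq_ringKrullDim (R := R)
    rw [h, Ideal.height_bot, hdimR] at h1
    exact absurd h1 (by decide)
  have hbU : b ∈ U := (hU b).2 fun h => hbm (congrArg PrimeSpectrum.asIdeal h).symm
  -- the morphism is birational
  obtain ⟨w₀, hw₀⟩ : ∃ w, π w = b := by
    obtain ⟨w, hw⟩ := (π ∣_ U).surjective ⟨b, hbU⟩
    exact ⟨(π ⁻¹ᵁ U).ι w, by rw [← Scheme.Hom.comp_apply, ← morphismRestrict_ι, Scheme.Hom.comp_apply, hw]; rfl⟩
  have hηb : π η = b := by
    have h := (genericPoint_specializes w₀).map π.continuous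
    rw [hw₀] at h
    exact PrimeSpectrum.ext (le_bot_iff.1 ((PrimeSpectrum.le_iff_specializes _ _).2 h))
  have hb_uniq : ∀ z, π z = b → z = η := fun z hz => by
    have hzU : z ∈ π ⁻¹ᵁ U := by show π z ∈ U; rw [hz]; exact hbU
    have hηU : η ∈ π ⁻¹ᵁ U := by show π η ∈ U; rw [hηb]; exact hbU
    exact congrArg Subtype.val ((π ∣_ U).homeomorph.injective (a₁ := ⟨z, hzU⟩) (a₂ := ⟨η, hηU⟩)
      (U.ι.isOpenEmbedding.injective (by
        show U.ι ((π ∣_ U) ⟨z, hzU⟩) = U.ι ((π ∣_ U) ⟨η, hηU⟩)
        rw [← Scheme.Hom.comp_apply, ← Scheme.Hom.comp_apply, morphismRestrict_ι]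
        exact hz.trans hηb.symm)))
  have hgenb : genericPoint (Spec (CommRingCat.of R)) = b := by
    refine ((genericPoint_specializes b).antisymm ?_).eq
    exact (PrimeSpectrum.le_iff_specializes _ _).1 bot_le
  have hbirat : RadPt.IsBirational π := by
    rw [RadPt.IsBirational, genericPoints_eq_singleton, genericPoints_eq_singleton, hgenb]
    refine ⟨⟨fun z hz => ?_, Set.injOn_singleton _ _, fun z hz => ⟨η, rfl, hηb.trans (Set.mem_singleton_iff.1 hz).symm⟩⟩,
      fun z hz => ⟨fun u v hu hv => ?_, fun u hu => ?_⟩⟩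
    · rw [Set.mem_singleton_iff.1 hz]; exact hηb
    · rw [hb_uniq u (hu.trans hz), hb_uniq v (hv.trans hz)]
    · haveI := FinBirLib.isIso_stalkMap_of_restrict π U hbir u (by rw [hu, hz]; exact hbU)
      refine ⟨RingHom.injective _, fun t => ?_⟩
      obtain ⟨t', rfl⟩ := Scheme.residue_surjective _ u t
      obtain ⟨t'', rfl⟩ := (ConcreteCategory.bijective_of_isIso (π.stalkMap u)).2 t'
      exact ⟨(Spec (CommRingCat.of R)).residue (π u) t'', ConcreteCategory.congr_hom (Scheme.residue_residueFieldMap π u) t''⟩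
  have hdim2 : ∀ y : Y, Order.coheight y ≤ 2 := fun y => by
    have h1 := S18879.result π hbirat y
    rw [ringKrullDim_stalk_eq_coheight, ringKrullDim_stalk_eq_coheight] at h1
    have h2 : Order.krullDim ↥(Spec (CommRingCat.of R)) = 2 := by
      rw [← ASp.topologicalKrullDim_eq_krullDim]
      exact (PrimeSpectrum.topologicalKrullDim_eq_ringKrullDim R).trans hdimR
    exact WithBot.coe_le_coe.1 ((h1.trans ((Order.coheight_le_krullDim _).trans h2.le)).trans_eq rfl)
  -- the curves
  let ξ : Fin r → Y := fun i => e i (genericPoint (E i))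
  have hcl : ∀ i z, π (e i z) = closedPoint R := fun i z => map_closed π (e i) (s i) (hs i) z
  have lt : ∀ {p q : Y}, p ⤳ q → q ≠ p → q < p := fun {p q} h hne => lt_of_le_not_ge
    (Scheme.le_iff_specializes.2 h) fun h' => hne ((Scheme.le_iff_specializes.1 h').antisymm h).eq
  have hchain : ∀ i, ∃ c : E i, ξ i ⤳ e i c ∧ e i c ≠ ξ i := fun i => by
    have h1 : Order.krullDim (E i) = 1 := by rw [← ASp.topologicalKrullDim_eq_krullDim]; exact hE i
    obtain ⟨l, hl⟩ := Order.le_krullDim_iff.1 (show ((1 : ℕ) : WithBot ℕ∞) ≤ Order.krullDim (E i) from h1.ge)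
    refine ⟨l.head, (genericPoint_specializes _).map (e i).continuous, fun he => ?_⟩
    have hh : l.head < l.last := LTSeries.strictMono l (show (0 : Fin (l.length + 1)) < Fin.last _ from
      Fin.pos_iff_ne_zero.2 fun e => by simp [Fin.ext_iff] at e; omega)
    rw [(e i).isClosedEmbedding.injective he] at hh
    exact hh.not_ge (Scheme.le_iff_specializes.2 (genericPoint_specializes _))
  have hco : ∀ i, Order.coheight (ξ i) = 1 := fun i => by
    obtain ⟨c, hsp, hne⟩ := hchain i
    have hη : ξ i ≠ η := fun h => by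
      have h' := hcl i (genericPoint (E i))
      rw [show e i (genericPoint (E i)) = η from h, hηb] at h'
      exact hbm (congrArg PrimeSpectrum.asIdeal h').symm
    have e1 := Order.coheight_add_one_le (lt (genericPoint_specializes (ξ i)) hη)
    have h' := (Order.coheight_add_one_le (lt hsp hne)).trans (hdim2 _)
    refine le_antisymm ?_ (le_trans (by simp) e1)
    revert h'
    cases Order.coheight (ξ i) with
    | top => intro h; simp at h
    | coe n => intro h; norm_cast at h ⊢; omega
  have hker : ∀ i, (e i).ker = cl (ξ i) := fun i => ker_eq_cl π (e i) (s i) (hs i)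
  have hξinj : Function.Injective ξ := fun i j h => by
    by_contra hij
    refine hdist i j hij ?_
    have hr : ∀ i, Set.range (e i) = closure {ξ i} := fun i => by
      have h := (genericPoint_spec (E i)).image (e i).continuous
      rw [Set.image_univ, (e i).isClosedEmbedding.isClosed_range.closure_eq] at h
      exact h.def.symm
    show Set.range (e i) = Set.range (e j)
    rw [hr, hr, h]
  have hC : ∀ i, BlowUp.IsEffCartierIdeal (cl (ξ i)) := fun i => isEffCartier_closure hreg _ (hco i)
  -- the function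
  obtain ⟨g, hgm, hg0⟩ := Submodule.exists_mem_ne_zero_of_ne_bot hbm
  have hpre : ∀ a : R, π ⁻¹ᵁ PrimeSpectrum.basicOpen a = Y.basicOpen (Coh.toGlobal π a) := fun a => by
    rw [← basicOpen_eq_of_affine (R := CommRingCat.of R) a, Scheme.preimage_basicOpen_top]
    rfl
  have hunit : ∀ (a : R) (z : Y), a ∈ (π z).asIdeal ↔ ¬ IsUnit (Y.presheaf.germ ⊤ z trivial (Coh.toGlobal π a)) :=
    fun a z => by
      rw [← Scheme.mem_basicOpen_top, ← hpre]
      exact not_not.symm
  have hgz : ∀ a : R, a ≠ 0 → Y.presheaf.germ ⊤ η trivial (Coh.toGlobal π a) ≠ 0 := fun a ha h0 => by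
    refine (hunit a η).not.1 ?_ (by rw [h0]; exact not_isUnit_zero)
    rw [hηb]
    exact ha
  have hgne : ∀ (a : R), a ≠ 0 → ∀ z : Y, Y.presheaf.germ ⊤ z trivial (Coh.toGlobal π a) ≠ 0 := fun a ha z h0 => by
    refine hgz a ha ?_
    rw [germ_injective_of_isIntegral Y (U := ⊤) z trivial (h0.trans (map_zero _).symm), map_zero]
  have hhor : ∀ j, ∃ (c : E j) (z : Y), z ⤳ e j c ∧ π z ≠ closedPoint R ∧ π z ≠ b := fun j => by
    obtain ⟨c, hsp, hne⟩ := hchain j
    let A := Y.presheaf.stalk (e j c)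
    haveI : IsDomain A := inferInstance
    have hdimA : 1 < (maximalIdeal A).height := by
      have h3 : ((maximalIdeal A).height : WithBot ℕ∞) = (Order.coheight (e j c) : WithBot ℕ∞) := by
        rw [IsLocalRing.maximalIdeal_height_eq_ringKrullDim, ringKrullDim_stalk_eq_coheight]
      rw [WithBot.coe_inj] at h3
      rw [h3]
      have h4 := Order.coheight_add_one_le (lt hsp hne)
      rw [hco] at h4
      exact lt_of_lt_of_le (by decide) h4
    obtain ⟨q, hq, hq0, hgq⟩ := exists_prime_avoiding hdimA (hgne g hg0 (e j c))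
    let z := Y.fromSpecStalk (e j c) ⟨q, hq⟩
    refine ⟨c, z, ?_, fun hz => hgq ?_, fun hz => ?_⟩
    · exact Scheme.range_fromSpecStalk.le ⟨_, rfl⟩
    · have hnot : z ∉ Y.basicOpen (Coh.toGlobal π g) := by
        rw [← hpre]
        show ¬ g ∉ (π z).asIdeal
        rw [hz]
        exact not_not.2 hgm
      by_contra hn
      refine hnot ?_
      show (⟨q, hq⟩ : PrimeSpectrum A) ∈ (Y.fromSpecStalk (e j c)) ⁻¹ᵁ Y.basicOpen (Coh.toGlobal π g)
      have he : (Y.fromSpecStalk (e j c)).appTop (Coh.toGlobal π g) =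
          (Scheme.ΓSpecIso (Y.presheaf.stalk (e j c))).inv (Y.presheaf.germ ⊤ (e j c) trivial (Coh.toGlobal π g)) := by
        rw [Scheme.fromSpecStalk_appTop]
        simp
        exact (ConcreteCategory.congr_hom (Scheme.ΓSpecIso_inv_naturality (Y.presheaf.germ ⊤ (e j c) trivial)) _).symm
      rw [Scheme.preimage_basicOpen_top, he, basicOpen_eq_of_affine]
      exact hn
    · have hzη := hb_uniq z hz
      have h4 : z ⤳ Y.fromSpecStalk (e j c) ⟨⊥, Ideal.isPrime_bot⟩ := hzη ▸ genericPoint_specializes _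
      have h5 := (Y.fromSpecStalk (e j c)).isEmbedding.isInducing.specializes_iff.1 h4
      exact hq0 (le_bot_iff.1 ((PrimeSpectrum.le_iff_specializes _ _).2 h5))
  choose c z hzc hzcl hzb using hhor
  have hfj : ∀ j, ∃ a ∈ (π (z j)).asIdeal, a ≠ 0 := fun j =>
    Submodule.exists_mem_ne_zero_of_ne_bot fun h => hzb j (PrimeSpectrum.ext h)
  choose fj hfjmem hfj0 using hfj
  let f := g * ∏ j, fj j
  have hf0 : f ≠ 0 := mul_ne_zero hg0 (Finset.prod_ne_zero_iff.2 fun j _ => hfj0 j)
  have hfcl : f ∈ maximalIdeal R := Ideal.mul_mem_right _ _ hgm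
  have hfz : ∀ j, f ∈ (π (z j)).asIdeal := fun j =>
    Ideal.mul_mem_left _ _ (Ideal.prod_mem _ (Finset.mem_univ j) (hfjmem j))
  -- its divisor
  let I : Y.IdealSheafData := (Curv2.idealSheaf R (Ideal.span {f})).comap π
  have hst : ∀ z, stalkIdeal I z = Ideal.span {(Y.presheaf.germ ⊤ z trivial).hom (Coh.toGlobal π f)} := fun z =>
    stalkIdeal_comap_principal π f z
  have hsupp : ∀ z, z ∈ I.support ↔ f ∈ (π z).asIdeal := fun z => by
    rw [hunit]
    constructor
    · intro hz hu
      have h1 := IdealStalkLib.stalkIdeal_le_maximal I hz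
      rw [hst, Ideal.span_singleton_le_iff_mem] at h1
      exact h1 hu
    · intro hu
      exact mem_support_of_ne_top fun h => hu (Ideal.span_singleton_eq_top.1 ((hst z).symm.trans h))
  have hI : BlowUp.IsEffCartierIdeal I := by
    refine isEffCartier_comap_integral π (fun q => ?_) ?_
    · let ε := (Scheme.ΓSpecIso (CommRingCat.of R)).symm.commRingCatIsoToRingEquiv
      haveI : IsDomain Γ(Spec (CommRingCat.of R), ⊤) := ε.symm.toMulEquiv.isDomain _
      refine ⟨⟨⊤, isAffineOpen_top _⟩, trivial, ε f, mem_nonZeroDivisors_of_ne_zero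
        (fun h => hf0 (ε.injective (h.trans (map_zero ε).symm))), ?_⟩
      rw [Curv2.idealSheaf, Scheme.IdealSheafData.ofIdealTop_ideal, Ideal.map_span, Set.image_singleton, Ideal.map_span,
        Set.image_singleton]
      congr 2
    · intro hmem
      have h1 : η ∈ I.support := by
        rw [← SetLike.mem_coe, Scheme.IdealSheafData.support_comap]
        exact hmem
      rw [hsupp, hηb] at h1
      exact hf0 h1
  have hOI : Nonempty (ClSub.idealMod I ≅ Coh.structureModule Y) := by
    obtain ⟨w, hw⟩ := shortExact_smul (fun h0 => hgz f hf0 (by rw [h0, map_zero])) hst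
    exact ⟨((hw.fIsKernel).conePointUniqueUpToIso (kernelIsKernel (ClSub.toSubscheme I))).symm⟩
  obtain ⟨n, ζ, a, hζco, hζinj, hζall, hapos, hIeq, hζsp⟩ := exists_decomp hreg hI
  have hJ : ∀ l, BlowUp.IsEffCartierIdeal (cl (ζ l)) := fun l => isEffCartier_closure hreg _ (hζco l)
  choose M hM using fun l => CastLib.exists_inverse_idealMod (hJ l)
  choose σ hσ using fun i => hζall (ξ i) ((hsupp _).2 (by
    show f ∈ (π (e i (genericPoint (E i)))).asIdeal
    rw [hcl]
    exact hfcl)) (hco i)
  have hσinj : Function.Injective σ := fun i j h => hξinj (by rw [← hσ i, ← hσ j, h])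
  have htriv : Nonempty (FGA.multiTwist M a ≅ Coh.structureModule Y) := by
    obtain ⟨e'⟩ := hOI
    have h1 : ∀ i, IntLib.mk (M i) * IntLib.mk (ClSub.idealMod (cl (ζ i))) = 1 := fun i => by
      obtain ⟨e''⟩ := hM i
      exact (IntLib.mk_tensor _ _).symm.trans ((IntLib.mk_congr e'').trans IntLib.mk_structureModule)
    have h2 : ∏ i, IntLib.mk (ClSub.idealMod (cl (ζ i))) ^ a i = 1 := by
      rw [← (mk_idealMod_prod _ hJ a Finset.univ).2, ← hIeq]
      exact (IntLib.mk_congr e').trans IntLib.mk_structureModule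
    refine IntLib.mk_eq_mk.1 ?_
    rw [IntLib.mk_structureModule, mk_multiTwist]
    calc ∏ i, IntLib.mk (M i) ^ a i
        = (∏ i, IntLib.mk (M i) ^ a i) * ∏ i, IntLib.mk (ClSub.idealMod (cl (ζ i))) ^ a i := by rw [h2, mul_one]
      _ = 1 := by
        rw [← Finset.prod_mul_distrib]
        exact Finset.prod_eq_one fun i _ => by rw [← mul_pow, h1, one_pow]
  obtain ⟨htriv⟩ := htriv
  let A : Fin r → Fin r → ℤ := fun i j => dg (e i) (s i) (L j)
  let m : Fin r → ℕ := fun i => a (σ i)
  have hML : ∀ i j, dg (e j) (s j) (M (σ i)) = A j i := fun i j => by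
    obtain ⟨e'⟩ := nonempty_iso_inverse (hM (σ i)) (show ClSub.IsInverseOf (L i) (ClSub.idealMod (cl (ζ (σ i)))) by
      rw [hσ, ← hker]; exact hL i)
    exact dg_congr π (e j) (s j) (hs j) (hE j) e'
  have hnm : ∀ i j, i ≠ j → ξ i ∉ (cl (ξ j)).support := fun i j hij hm => by
    have h3 := S8909.succ_le (mem_support_cl.1 hm) (fun h => hij (hξinj h).symm)
    rw [hco, hco] at h3
    exact absurd h3 (by decide)
  have hoff : ∀ i j, i ≠ j → 0 ≤ A i j := fun i j hij =>
    (dg_nonneg π (e i) (s i) (hs i) (hE i) (hC j) (hnm i j hij) (hker j ▸ hL j)).1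
  have hsymm : ∀ i j, i ≠ j → A i j = A j i := fun i j hij => by
    show dg (e i) (s i) (L j) = dg (e j) (s j) (L i)
    rw [dg_eq_length π (e i) (s i) (hs i) (hE i) (hC j) (hnm i j hij) (hker j ▸ hL j),
      dg_eq_length π (e j) (s j) (hs j) (hE j) (hC i) (hnm j i (Ne.symm hij)) (hker i ▸ hL i), hker i, hker j, sup_comm]
  have hrow : ∀ i, ∑ j, (m j : ℤ) * A i j < 0 := fun i => by
    have htot := dg_multiTwist π (e i) (s i) (hs i) (hE i) M (fun l => isInvertible_inverse_ideal (hM l)) a
    rw [dg_congr π (e i) (s i) (hs i) (hE i) htriv, dg_one π (e i) (s i) (hs i) (hE i),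
      ← Finset.sum_add_sum_compl (Finset.univ.image σ), Finset.sum_image hσinj.injOn] at htot
    simp only [hML] at htot
    have hpart : ∀ l, l ∉ Finset.univ.image σ → ξ i ∉ (cl (ζ l)).support := fun l hl hm => by
      have hne : ζ l ≠ ξ i := fun h => hl (Finset.mem_image.2 ⟨i, Finset.mem_univ _, hζinj ((hσ i).trans h.symm)⟩)
      have h3 := S8909.succ_le (mem_support_cl.1 hm) hne
      rw [hco, hζco] at h3
      exact absurd h3 (by decide)
    obtain ⟨l, hl⟩ := hζsp (z i) ((hsupp _).2 (hfz i))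
    have hlim : l ∉ Finset.univ.image σ := fun hm => by
      obtain ⟨k, -, rfl⟩ := Finset.mem_image.1 hm
      rw [hσ] at hl
      have h7 := hl.map π.continuous
      rw [show π (ξ k) = closedPoint R from hcl k _] at h7
      exact hzcl i ((IsLocalRing.specializes_closedPoint _).antisymm h7).eq
    have hpos : 0 < ∑ x ∈ (Finset.univ.image σ)ᶜ, (a x : ℤ) * dg (e i) (s i) (M x) := by
      refine Finset.sum_pos' (fun x hxm => mul_nonneg (Int.natCast_nonneg _)
        (dg_nonneg π (e i) (s i) (hs i) (hE i) (hJ x) (hpart x (Finset.mem_compl.1 hxm)) (hM x)).1)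
        ⟨l, Finset.mem_compl.2 hlim, mul_pos (by exact_mod_cast hapos l)
          ((dg_nonneg π (e i) (s i) (hs i) (hE i) (hJ l) (hpart l hlim) (hM l)).2 (c i)
            (mem_support_cl.2 (hl.trans (hzc i))))⟩
    show ∑ j, (a (σ j) : ℤ) * A i j < 0
    linarith
  have hm : ∀ i, 0 < m i := fun i => hapos _
  have h := two_mul_form_eq A m hsymm hm x
  have h2 : 0 ≤ ∑ i, ∑ j, (A i j : ℚ) * m i * m j * ((x i : ℚ) / m i - (x j : ℚ) / m j) ^ 2 := by
    refine Finset.sum_nonneg fun i _ => Finset.sum_nonneg fun j _ => ?_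
    by_cases hij : i = j
    · subst hij; simp
    · have : (0 : ℚ) ≤ (A i j : ℚ) := by exact_mod_cast hoff i j hij
      positivity
  obtain ⟨i₀, hi₀⟩ := Function.ne_iff.1 hx
  have h1 : ∑ i, ((x i : ℚ) / m i) ^ 2 * (m i : ℚ) * (∑ j, ((m j * A i j : ℤ) : ℚ)) < 0 := by
    refine Finset.sum_neg' (fun i _ => mul_nonpos_of_nonneg_of_nonpos (by positivity) ?_)
      ⟨i₀, Finset.mem_univ _, mul_neg_of_pos_of_neg ?_ ?_⟩
    · exact_mod_cast (hrow i).le
    · have : (x i₀ : ℚ) ≠ 0 := by exact_mod_cast hi₀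
      have : (0 : ℚ) < m i₀ := by exact_mod_cast hm i₀
      positivity
    · exact_mod_cast hrow i₀
  have h3 : ((∑ i, ∑ j, x i * x j * A i j : ℤ) : ℚ) < 0 := by
    push_cast
    push_cast at h h1
    linarith
  exact_mod_cast h3



/-- Let R be a Noetherian normal local domain of dimension 2 with residue field κ and π : Y → Spec R a
proper morphism from an integral scheme with regular local rings which is an isomorphism over the
complement of the closed point (a resolution of the surface singularity). Let E_1, …, E_r be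
pairwise distinct integral closed subschemes of Y of dimension one, each mapping to the closed point
(given with its structure morphism to Spec κ), which together cover the fibre over the closed point,
and for each j let L_j be an O_Y-module with L_j ⊗ I_{E_j} ≅ O_Y, i.e. L_j = O_Y(E_j). With a_ij the
degree over κ of the restriction of L_j to E_i (the intersection number E_i·E_j), the quadratic form
Σ x_i x_j a_ij is negative for every nonzero integer vector x: the intersection matrix of the
exceptional curves is negative definite. -/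
theorem result (R : Type u) [CommRing R] [IsDomain R]
    [IsNoetherianRing R] [IsLocalRing R] [IsIntegrallyClosed R] (hdimR : ringKrullDim R = 2)
    (Y : Scheme.{u}) (π : Y ⟶ Spec (CommRingCat.of R)) [IsProper π] [IsIntegral Y]
    (hreg : ∀ y : Y, IsRegularLocalRing (Y.presheaf.stalk y))
    (U : (Spec (CommRingCat.of R)).Opens)
    (hU : ∀ p : Spec (CommRingCat.of R), p ∈ U ↔ p ≠ IsLocalRing.closedPoint R) (hbir : IsIso (π ∣_ U))
    (r : ℕ) (E : Fin r → Scheme.{u}) (e : ∀ i, E i ⟶ Y) [∀ i, IsClosedImmersion (e i)]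
    [∀ i, IsIntegral (E i)] (hE : ∀ i, topologicalKrullDim (E i) = 1)
    (s : ∀ i, E i ⟶ Spec (CommRingCat.of (IsLocalRing.ResidueField R)))
    (hs : ∀ i, e i ≫ π = s i ≫ Spec.map (CommRingCat.ofHom (IsLocalRing.residue R)))
    (hdist : ∀ i j, i ≠ j → Set.range (e i).base ≠ Set.range (e j).base)
    (hcov : ∀ y : Y, π.base y ∉ U → ∃ i, y ∈ Set.range (e i).base)
    (L : Fin r → Y.Modules) (hL : ∀ j, ClSub.IsInverseOf (L j) (ClSub.idealMod (e j).ker))
    (x : Fin r → ℤ) (hx : x ≠ 0) :
    ∑ i, ∑ j, x i * x j *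
      @Curv2.deg (IsLocalRing.ResidueField R) _ (E i) ⟨s i⟩ ((Scheme.Modules.pullback (e i)).obj (L j)) 1 < 0 := by
  exact negDef_main R hdimR Y π hreg U hU hbir r E e hE s hs hdist hcov L hL x hx

end

end Groth.Agent.S19446
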