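import Groth.Statements.S19447
import Groth.Agent.PseudoReflLib.Flat
import Groth.Agent.WildQuotLib.PSReg
-- import your own Groth.Agent.* helpers here

set_option autoImplicit false
set_option backward.isDefEq.respectTransparency false
universe u
open ConstAct

namespace Groth.Agent.S19447

/-- Let k be an algebraically closed field, A the power series ring in n variables over k with maximal
ideal M, and G a finite group of order invertible in k acting faithfully on A by k-algebra
automorphisms, A being finite over the ring of invariants A^G. Say g is a pseudo-reflection or acts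
trivially on the cotangent space when A modulo M^2 and the elements g·a − a has dimension at least n
over k. If G is generated by such elements, then A is flat over A^G and A^G is a regular local ring:
generation by pseudo-reflections implies the other two conditions of the published criterion (only
this sufficiency half is stated; the converse implication is not part of this statement). -/
theorem result (k : Type u) [Field k]
    [IsAlgClosed k] (n : ℕ) (G : Type u) [Group G] [Finite G] [MulSemiringAction G (MvPowerSeries (Fin n) k)]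
    [SMulCommClass G k (MvPowerSeries (Fin n) k)] [FaithfulSMul G (MvPowerSeries (Fin n) k)]
    (hG : (Nat.card G : k) ≠ 0)
    [Module.Finite (ConstAct.inv k (MvPowerSeries (Fin n) k) G) (MvPowerSeries (Fin n) k)]
    (hgen : Subgroup.closure {g : G | n ≤ Module.finrank k (MvPowerSeries (Fin n) k ⧸
        (Ideal.span {x : MvPowerSeries (Fin n) k | ∃ a, x = g • a - a} ⊔
          IsLocalRing.maximalIdeal (MvPowerSeries (Fin n) k) ^ 2))} = ⊤) :
    Module.Flat (ConstAct.inv k (MvPowerSeries (Fin n) k) G) (MvPowerSeries (Fin n) k) ∧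
      IsRegularLocalRing (ConstAct.inv k (MvPowerSeries (Fin n) k) G) := by
  classical
  haveI := Fintype.ofFinite G
  haveI : IsRegularLocalRing (MvPowerSeries (Fin n) k) := Groth.Agent.WildQuotLib.isRegularLocalRing (k := k) n
  haveI : IsDomain (MvPowerSeries (Fin n) k) := NoZeroDivisors.to_isDomain _
  have hG' : (Fintype.card G : k) ≠ 0 := by rwa [← Nat.card_eq_fintype_card]
  have hmax : IsLocalRing.maximalIdeal (MvPowerSeries (Fin n) k) = Ideal.span (Set.range (MvPowerSeries.X : Fin n → (MvPowerSeries (Fin n) k))) := by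
    rw [← Groth.Agent.WildQuotLib.ker_constantCoeff_eq]
    ext x
    rw [IsLocalRing.mem_maximalIdeal, RingHom.mem_ker, mem_nonunits_iff, MvPowerSeries.isUnit_iff_constantCoeff,
      isUnit_iff_ne_zero, ne_eq, not_not]
  have hres : ∀ x : (MvPowerSeries (Fin n) k), ∃ c : k, x - algebraMap k (MvPowerSeries (Fin n) k) c ∈ IsLocalRing.maximalIdeal (MvPowerSeries (Fin n) k) := fun x =>
    ⟨MvPowerSeries.constantCoeff x, by
      rw [IsLocalRing.mem_maximalIdeal, mem_nonunits_iff, MvPowerSeries.isUnit_iff_constantCoeff, map_sub]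
      simp [MvPowerSeries.algebraMap_apply]⟩
  set M := IsLocalRing.maximalIdeal (MvPowerSeries (Fin n) k) with hM
  -- `A/M²` has dimension at most `n + 1`
  let gen : Option (Fin n) → (MvPowerSeries (Fin n) k) ⧸ M ^ 2 := fun o => Ideal.Quotient.mk _ (o.elim 1 MvPowerSeries.X)
  have hgen' : ⊤ ≤ Submodule.span k (Set.range gen) := by
    rintro z -
    obtain ⟨x, rfl⟩ := Ideal.Quotient.mk_surjective z
    obtain ⟨c, hc⟩ := hres x
    rw [hmax, Ideal.mem_span_range_iff_exists_fun] at hc
    obtain ⟨r, hr⟩ := hc
    choose cr hcr using fun i => hres (r i)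
    have e : Ideal.Quotient.mk (M ^ 2) x = c • gen none + ∑ i, cr i • gen (some i) := by
      show _ = c • Ideal.Quotient.mk _ 1 + ∑ i, cr i • Ideal.Quotient.mk _ (MvPowerSeries.X i)
      simp only [← Ideal.Quotient.mkₐ_eq_mk k, ← map_smul, ← map_sum, ← map_add]
      simp only [Ideal.Quotient.mkₐ_eq_mk, Algebra.smul_def]
      rw [Ideal.Quotient.eq, show x - (algebraMap k (MvPowerSeries (Fin n) k) c * 1 + ∑ i, algebraMap k (MvPowerSeries (Fin n) k) (cr i) * MvPowerSeries.X i) =
        ∑ i, (r i - algebraMap k (MvPowerSeries (Fin n) k) (cr i)) * MvPowerSeries.X i by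
          simp only [sub_mul, Finset.sum_sub_distrib]; rw [hr]; ring]
      refine Ideal.sum_mem _ fun i _ => ?_
      rw [pow_two]
      exact Ideal.mul_mem_mul (hcr i) (hmax ▸ Ideal.subset_span ⟨i, rfl⟩)
    rw [e]
    exact add_mem (Submodule.smul_mem _ _ (Submodule.subset_span ⟨_, rfl⟩))
      (Submodule.sum_mem _ fun i _ => Submodule.smul_mem _ _ (Submodule.subset_span ⟨_, rfl⟩))
  haveI : Module.Finite k ((MvPowerSeries (Fin n) k) ⧸ M ^ 2) :=
    Module.Finite.of_surjective (Fintype.linearCombination k gen) (LinearMap.range_eq_top.1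
      (top_le_iff.1 (hgen'.trans (Fintype.range_linearCombination k gen).ge)))
  have hdim : Module.finrank k ((MvPowerSeries (Fin n) k) ⧸ M ^ 2) ≤ n + 1 := by
    have h := finrank_range_le_card (R := k) gen
    rw [Set.finrank, top_le_iff.1 hgen', finrank_top, Fintype.card_option, Fintype.card_fin] at h
    exact h
  haveI hflat : Module.Flat (ConstAct.inv k (MvPowerSeries (Fin n) k) G) (MvPowerSeries (Fin n) k) := by
    refine Groth.Agent.PseudoReflLib.flat_of_principalDispl hG' _ (fun g hg => ?_) hgen
    set J := Ideal.span {x : (MvPowerSeries (Fin n) k) | ∃ a, x = g • a - a} with hJ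
    let q : ((MvPowerSeries (Fin n) k) ⧸ M ^ 2) →ₗ[k] (MvPowerSeries (Fin n) k) ⧸ (J ⊔ M ^ 2) := (Ideal.Quotient.factorₐ k le_sup_right).toLinearMap
    have hq : Function.Surjective q := Ideal.Quotient.factor_surjective le_sup_right
    have hker : Module.finrank k (LinearMap.ker q) ≤ 1 := by
      have h1 := LinearMap.finrank_range_add_finrank_ker q
      rw [LinearMap.range_eq_top.2 hq, finrank_top] at h1
      have h2 : n ≤ Module.finrank k ((MvPowerSeries (Fin n) k) ⧸ (J ⊔ M ^ 2)) := hg
      omega
    obtain ⟨⟨w', hw'⟩, hspan⟩ := finrank_le_one_iff.1 hker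
    obtain ⟨w, rfl⟩ := Ideal.Quotient.mk_surjective w'
    refine Groth.Agent.PseudoReflLib.isPrincipalDispl_of_rank hG' hres g w fun x => ?_
    obtain ⟨c, hc⟩ := hspan ⟨Ideal.Quotient.mk (M ^ 2) (g • x - x), (Ideal.Quotient.eq_zero_iff_mem.2
      (Submodule.mem_sup_left (Ideal.subset_span ⟨x, rfl⟩)) : Ideal.Quotient.mk (J ⊔ M ^ 2) (g • x - x) = 0)⟩
    refine ⟨c, ?_⟩
    have h3 : c • Ideal.Quotient.mk (M ^ 2) w = Ideal.Quotient.mk (M ^ 2) (g • x - x) := congrArg Subtype.val hc
    rw [← Ideal.Quotient.mkₐ_eq_mk k, ← map_smul, Ideal.Quotient.mkₐ_eq_mk, Algebra.smul_def] at h3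
    exact Ideal.Quotient.eq.1 h3.symm
  haveI := Groth.Agent.PseudoReflLib.isNoetherianRing_inv (k := k) (A := MvPowerSeries (Fin n) k) (G := G) hG'
  haveI := Groth.Agent.PseudoReflLib.isLocalRing_inv (k := k) (A := MvPowerSeries (Fin n) k) (G := G)
  haveI := Groth.Agent.PseudoReflLib.isLocalHom_inv (k := k) (A := MvPowerSeries (Fin n) k) (G := G)
  exact ⟨hflat, Groth.Agent.RegLocal.isRegularLocalRing_of_flat (ConstAct.inv k (MvPowerSeries (Fin n) k) G) (MvPowerSeries (Fin n) k)⟩

end Groth.Agent.S19447
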