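import Mathlib
import Groth.Agent.TameActLib.Basic
import Groth.Statements.S19448

set_option autoImplicit false
universe u
open CAlg

namespace Groth.Agent.S19448

/-- Let k be a field, A a Noetherian local k-algebra with maximal ideal M and residue field k, and G a
finite group with |G| ≠ 0 in k acting on A by k-algebra automorphisms. An element of G which acts
trivially on M/M^2 acts trivially on A; in other words the stabilizer acts faithfully on the
cotangent space whenever it acts faithfully on the local ring. -/
theorem result (k : Type u) [Field k] (A : Type u) [CommRing A]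
    [Algebra k A] [IsLocalRing A] [IsNoetherianRing A]
    (hres : Function.Surjective (algebraMap k (IsLocalRing.ResidueField A)))
    (G : Type u) [Group G] [Finite G] [MulSemiringAction G A] [SMulCommClass G k A]
    (hG : (Nat.card G : k) ≠ 0) (g : G)
    (hg : ∀ a ∈ IsLocalRing.maximalIdeal A, g • a - a ∈ IsLocalRing.maximalIdeal A ^ 2) (a : A) :
    g • a = a := by
  have hres' : ∀ b : A, ∃ c : k, b - algebraMap k A c ∈ IsLocalRing.maximalIdeal A := fun b => by
    obtain ⟨c, hc⟩ := hres (IsLocalRing.residue A b)
    refine ⟨c, (IsLocalRing.residue_eq_zero_iff _).mp ?_⟩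
    rw [map_sub, ← IsLocalRing.ResidueField.algebraMap_eq, ← IsScalarTower.algebraMap_apply k A, hc,
      IsLocalRing.ResidueField.algebraMap_eq, sub_self]
  refine Groth.Agent.TameActLib.smul_eq_self g ?_ (fun b => ?_) hg a
  · rw [← map_natCast (algebraMap k A)]
    exact (IsUnit.mk0 _ hG).map _
  · obtain ⟨c, hc⟩ := hres' b
    have h := Ideal.pow_le_self (n := 2) (by norm_num) (hg _ hc)
    have hfix : g • algebraMap k A c = algebraMap k A c := smul_algebraMap g c
    rwa [smul_sub, hfix, sub_sub_sub_cancel_right] at h

end Groth.Agent.S19448
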