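import Mathlib
import Groth.Statements.S19453

set_option autoImplicit false
universe u
open CAlg

namespace Groth.Agent.S19453

/-- Converse direction: let k be a field, A a regular local k-algebra of Krull dimension 2 with maximal
ideal M and residue field k, and I an ideal with A/I of finite dimension n ≥ 1 over k. If some
element of I does not lie in M^2, then A/I is isomorphic as a k-algebra to k[x]/(x^n): a cluster
lying on a smooth curve germ of a smooth surface is curvilinear, with coordinate ring generated by
one element. -/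
theorem result (k : Type u) [Field k]
    (A : Type u) [CommRing A] [Algebra k A] [IsRegularLocalRing A] (hdim : ringKrullDim A = 2)
    (hres : Function.Surjective (algebraMap k (IsLocalRing.ResidueField A)))
    (I : Ideal A) [Module.Finite k (A ⧸ I)] (n : ℕ) (hn : Module.finrank k (A ⧸ I) = n) (h1 : 1 ≤ n)
    (g : A) (hgI : g ∈ I) (hg : g ∉ IsLocalRing.maximalIdeal A ^ 2) :
    Nonempty ((A ⧸ I) ≃ₐ[k] (Polynomial k ⧸ Ideal.span {(Polynomial.X : Polynomial k) ^ n})) := by
  classical
  let m := IsLocalRing.maximalIdeal A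
  let κ := IsLocalRing.ResidueField A
  have hItop : I ≠ ⊤ := by
    intro h
    have : Subsingleton (A ⧸ I) := Ideal.Quotient.subsingleton_iff.2 h
    have := Module.finrank_zero_of_subsingleton (R := k) (M := A ⧸ I)
    omega
  have hIm : I ≤ m := IsLocalRing.le_maximalIdeal hItop
  -- `m = (g, h)`
  have h2 : Module.finrank κ (IsLocalRing.CotangentSpace A) = 2 := by
    have h := (IsRegularLocalRing.iff_finrank_cotangentSpace A).1 inferInstance
    rw [hdim] at h
    exact_mod_cast h
  let v : IsLocalRing.CotangentSpace A := m.toCotangent ⟨g, hIm hgI⟩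
  have hv : v ≠ 0 := fun h => hg ((m.toCotangent_eq_zero _).1 h)
  obtain ⟨h, hm⟩ : ∃ h : A, m = Ideal.span {g, h} := by
    let L := Submodule.span κ {v}
    have hq : Module.finrank κ (IsLocalRing.CotangentSpace A ⧸ L) = 1 := by
      have := L.finrank_quotient_add_finrank
      rw [finrank_span_singleton hv, h2] at this
      omega
    obtain ⟨w, -, hw⟩ := finrank_eq_one_iff'.1 hq
    obtain ⟨w', rfl⟩ := L.mkQ_surjective w
    obtain ⟨⟨h, hh⟩, rfl⟩ := m.toCotangent_surjective w'
    refine ⟨h, ?_⟩
    let s : Set m := {⟨g, hIm hgI⟩, ⟨h, hh⟩}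
    have hs : Submodule.span A s = ⊤ := by
      rw [← IsLocalRing.CotangentSpace.span_image_eq_top_iff, eq_top_iff]
      intro z _
      obtain ⟨c, hc⟩ := hw (L.mkQ z)
      rw [← map_smul, Submodule.mkQ_apply, Submodule.mkQ_apply, Submodule.Quotient.eq,
        Submodule.mem_span_singleton] at hc
      obtain ⟨a, ha⟩ := hc
      have hz : z = c • m.toCotangent ⟨h, hh⟩ - a • v := by rw [ha]; abel
      rw [hz]
      exact Submodule.sub_mem _
        (Submodule.smul_mem _ _ (Submodule.subset_span ⟨_, Or.inr rfl, rfl⟩))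
        (Submodule.smul_mem _ _ (Submodule.subset_span ⟨_, Or.inl rfl, rfl⟩))
    have := congrArg (Submodule.map m.subtype) hs
    rw [Submodule.map_span, Submodule.map_top, Submodule.range_subtype, Set.image_pair] at this
    exact this.symm
  -- the quotient
  let B := A ⧸ I
  let t : B := Ideal.Quotient.mk I h
  let φ : Polynomial k →ₐ[k] B := Polynomial.aeval t
  have hstep : ∀ b : B, ∃ (c : k) (b' : B), b = algebraMap k B c + t * b' := by
    intro b
    obtain ⟨a, rfl⟩ := Ideal.Quotient.mk_surjective b
    obtain ⟨c, hc⟩ := hres (IsLocalRing.residue A a)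
    rw [IsScalarTower.algebraMap_apply k A κ] at hc
    change IsLocalRing.residue A (algebraMap k A c) = IsLocalRing.residue A a at hc
    have hmem : a - algebraMap k A c ∈ m := by
      rw [← IsLocalRing.residue_eq_zero_iff, map_sub, hc, sub_self]
    rw [hm, Ideal.mem_span_pair] at hmem
    obtain ⟨p, q, hpq⟩ := hmem
    refine ⟨c, Ideal.Quotient.mk I q, ?_⟩
    rw [Ideal.Quotient.mk_eq_mk_iff_sub_mem .. |>.2 (show a - (algebraMap k A c + h * q) ∈ I from ?_)]
    · rw [map_add, map_mul]; rfl
    · have : a - (algebraMap k A c + h * q) = p * g := by linear_combination -hpq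
      rw [this]
      exact I.mul_mem_left _ hgI
  have hnil : IsNilpotent t := by
    have : IsArtinianRing B := isArtinian_of_tower k inferInstance
    have : Nontrivial B := Ideal.Quotient.nontrivial_iff.2 hItop
    have : IsLocalRing B := .of_surjective' (Ideal.Quotient.mk I) Ideal.Quotient.mk_surjective
    have : IsLocalHom (Ideal.Quotient.mk I) :=
      IsLocalHom.of_surjective _ Ideal.Quotient.mk_surjective
    have ht : t ∈ IsLocalRing.maximalIdeal B := by
      rw [IsLocalRing.mem_maximalIdeal, mem_nonunits_iff]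
      intro hu
      have h1 : h ∈ m := by rw [hm]; exact Ideal.subset_span (Or.inr rfl)
      exact h1 (isUnit_of_map_unit (Ideal.Quotient.mk I) h hu)
    obtain ⟨N, hN⟩ := IsArtinianRing.isNilpotent_jacobson_bot (R := B)
    rw [IsLocalRing.jacobson_eq_maximalIdeal ⊥ bot_ne_top] at hN
    exact ⟨N, by
      have := Ideal.pow_mem_pow ht N
      rw [hN] at this
      exact this⟩
  obtain ⟨e, he⟩ := hnil
  have hsurj : Function.Surjective φ := by
    have : ∀ j : ℕ, ∀ b : B, ∃ (P : Polynomial k) (b' : B), b = φ P + t ^ j * b' := by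
      intro j
      induction j with
      | zero => exact fun b => ⟨0, b, by simp⟩
      | succ j ih =>
        intro b
        obtain ⟨P, b', rfl⟩ := ih b
        obtain ⟨c, b'', rfl⟩ := hstep b'
        refine ⟨P + Polynomial.C c * Polynomial.X ^ j, b'', ?_⟩
        simp [φ, pow_succ]
        ring
    intro b
    obtain ⟨P, b', rfl⟩ := this e b
    exact ⟨P, by rw [he, zero_mul, add_zero]⟩
  obtain ⟨f, hf⟩ := (IsPrincipalIdealRing.principal (RingHom.ker φ)).1
  have hmem : (Polynomial.X : Polynomial k) ^ e ∈ RingHom.ker φ := by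
    change φ (Polynomial.X ^ e) = 0
    rw [map_pow, show φ Polynomial.X = t from Polynomial.aeval_X t, he]
  rw [hf, Submodule.mem_span_singleton] at hmem
  obtain ⟨c, hc⟩ := hmem
  obtain ⟨i, -, hi⟩ := (dvd_prime_pow Polynomial.prime_X e).1 ⟨c, by rw [← hc, smul_eq_mul, mul_comm]⟩
  have hker : RingHom.ker φ = Ideal.span {(Polynomial.X : Polynomial k) ^ i} := by
    rw [hf]
    exact Ideal.span_singleton_eq_span_singleton.2 hi
  let E : (Polynomial k ⧸ Ideal.span {(Polynomial.X : Polynomial k) ^ i}) ≃ₐ[k] B :=
    (Ideal.quotientEquivAlgOfEq k hker.symm).trans (Ideal.quotientKerAlgEquivOfSurjective hsurj)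
  have hin : i = n := by
    rw [← hn, ← E.toLinearEquiv.finrank_eq, finrank_quotient_span_eq_natDegree,
      Polynomial.natDegree_X_pow]
  subst hin
  exact ⟨E.symm⟩

end Groth.Agent.S19453
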