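import Groth.Statements.S19454
import Groth.Agent.S16494
import Groth.Agent.S1689
import Groth.Agent.S2652


set_option autoImplicit false
universe u
open CategoryTheory CategoryTheory.Limits AlgebraicGeometry
open Resolve

namespace Groth.Agent.S19454

set_option backward.isDefEq.respectTransparency false
set_option maxHeartbeats 1000000
set_option synthInstance.maxHeartbeats 200000
open Groth.Agent Groth.Agent.RefOne

/-- Let (A, m) be a complete normal Noetherian local domain of dimension two with a rational singularity
(every proper birational modification X → Spec A with X integral and normal has H^1(X, O_X) = 0), f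
: X' → Spec A a resolution of singularities (proper, X' integral with regular local rings, an
isomorphism over a nonempty open subset), L a coherent reflexive module on Spec A, and M the strict
transform of L: a coherent torsion-free module on X' with an epimorphism q : f^*L → M injective on
stalks at the generic point. Then M is finite locally free and generated by global sections, and
moreover H^1(X', M) = 0 (the vanishing of the first higher direct image of M, proved alongside).
(The published statement takes the resolution to be the minimal one; its proof does not use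
minimality, and any resolution is allowed here.) -/
theorem result (A : Type u) [CommRing A]
    [IsDomain A] [IsLocalRing A] [IsNoetherianRing A] [IsIntegrallyClosed A]
    [IsAdicComplete (IsLocalRing.maximalIdeal A) A] (hdim : ringKrullDim A = 2) (hA : Curv2.IsRationalSing A)
    (X' : Scheme.{u}) (f : X' ⟶ Spec (CommRingCat.of A)) [IsProper f] [IsIntegral X']
    (hreg : ∀ x : X', IsRegularLocalRing (X'.presheaf.stalk x))
    (hbir : ∃ U : (Spec (CommRingCat.of A)).Opens, (U : Set (Spec (CommRingCat.of A))).Nonempty ∧ IsIso (f ∣_ U))
    (L : (Spec (CommRingCat.of A)).Modules) (hLc : Coh.IsCoh L) (hLr : RefHull.IsReflexive L)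
    (M : X'.Modules) (hMc : Coh.IsCoh M) (hMt : TorSh.IsTorsionFree M)
    (q : (Scheme.Modules.pullback f).obj L ⟶ M) [Epi q]
    (hq : Function.Injective (RefHull.stalkMapₗ q (genericPoint X'))) :
    FlatMod.IsFinLocFree M ∧ Curv2.IsGloballyGenerated M ∧ Subsingleton (Coh.HH X' M 1) := by
  haveI : IsDomain (CommRingCat.of A) := inferInstanceAs (IsDomain A)
  haveI : IsNoetherianRing (CommRingCat.of A) := inferInstanceAs (IsNoetherianRing A)
  haveI : IsLocallyNoetherian X' := LocallyOfFiniteType.isLocallyNoetherian f
  haveI : CompactSpace X' := QuasiCompact.compactSpace_of_compactSpace f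
  haveI : AlgebraicGeometry.IsNoetherian X' := { }
  haveI : AlgebraicGeometry.IsNoetherian (Spec (CommRingCat.of A)) := { }
  haveI : X'.IsSeparated := ⟨by rw [← Limits.terminal.comp_from f]; infer_instance⟩
  haveI := hMc.1
  haveI := hLc.1
  have hexc := S2652.result A
  have hXn : Pi1.IsNormalScheme X' := NormalRefLib.normal_of_regular hreg
  have hr : RefHull.IsReflexive M := S16494.result A hexc hdim hA X' f hXn hbir L hLc hLr M hMc hMt q hq
  obtain ⟨U₀, hU₀, hU₀i⟩ := hbir
  have hdim2 : ∀ x : X', ringKrullDim (X'.presheaf.stalk x) ≤ 2 := fun x =>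
    (S18879.result f (ModifDimLib.isBirational_of_isIso f hU₀ hU₀i) x).trans
      ((S1688.dim_le (f x)).trans (le_of_eq ((PrimeSpectrum.topologicalKrullDim_eq_ringKrullDim A).trans hdim)))
  have hgg : Curv2.IsGloballyGenerated M := by
    obtain ⟨ι, p, hp⟩ := GGDescLib.isGloballyGenerated_pullback f L (AmpleLib.isGloballyGenerated_of_isQuasiAffine L)
    exact ⟨ι, p ≫ q, @epi_comp X'.Modules _ _ _ _ p hp q inferInstance⟩
  refine ⟨S1689.isFinLocFree_of_free hMc fun x => ?_, hgg, ?_⟩
  · haveI := hreg x
    haveI : Module.IsReflexive (X'.presheaf.stalk x) (M.presheaf.stalk x) := (isReflexive_iff hMc).1 hr x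
    haveI := PullbackMod.finite_stalk_of_isFT hMc.2 x
    haveI := RegLocLib.isRegularRing_of_isRegularLocalRing (X'.presheaf.stalk x)
    haveI := RegDual.projective_dual (hdim2 x) (Module.Dual (X'.presheaf.stalk x) (M.presheaf.stalk x))
    haveI : Module.Projective (X'.presheaf.stalk x) (M.presheaf.stalk x) :=
      Module.Projective.of_equiv (Module.evalEquiv (X'.presheaf.stalk x) (M.presheaf.stalk x)).symm
    exact Module.free_of_flat_of_isLocalRing
  · exact S7298.result A (S2654.result A ⟨hexc.1, hexc.2.2.1, hexc.2.2.2⟩) hdim hA X' f hXn
      ⟨U₀, hU₀, hU₀i⟩ M hMc.1 hgg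

end Groth.Agent.S19454
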