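import Groth.Statements.S19456
import Mathlib
import Groth.Agent.MeroLib.ZeroDiv

set_option autoImplicit false
universe u
open CategoryTheory CategoryTheory.Limits AlgebraicGeometry TopologicalSpace Opposite
open Mero

namespace Groth.Agent.S19456

open CategoryTheory CategoryTheory.Limits AlgebraicGeometry

open Groth.Agent.AmpleLib Groth.Agent.ParaFLib Groth.Agent.MeroLib Groth.Agent.ZeroSchemeLib
/-- With the preceding paragraph: let X be an integral scheme, L an invertible O_X-module and s a
nonzero global section of L, given as a nonzero morphism O_X → L. Then the zero scheme Z(s) of s is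
an effective Cartier divisor: there is a divisor D on X (a global section of the sheaf of units of
K_X modulo units of O_X) which, around every point of X, on some affine open neighbourhood, is the
class of a regular function generating the ideal of Z(s) there; and there is an isomorphism of
O_X-modules L ≅ O_X(D) which carries s to the element 1 of Γ(X, O_X(D)) ⊆ K(X). (The published
statement is for an irreducible variety over an algebraically closed field; this row states it for
an arbitrary integral scheme.) -/
theorem result (X : Scheme.{u}) [AlgebraicGeometry.IsIntegral X]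
    (L : X.Modules) (hL : PicF.IsInvertible L) (s : Coh.structureModule X ⟶ L) (hs : s ≠ 0) :
    ∃ D : Mero.Divisor X, Mero.IsDivOfIdeal D (PicF2.zeroScheme L s) ∧
      ∃ e : L ≅ Mero.divMod D,
        (Mero.divModι D).app ⊤ (e.hom.app ⊤ (SecTwist.val s ⊤)) = 1 := by
  have hσ : sec s ≠ 0 := fun h0 => hs (by
    rw [← secHom_sec s, h0, ← secHom_sec (0 : Coh.structureModule X ⟶ L)]
    rfl)
  let d := fun x => Classical.choice (exists_localEq hL hσ x)
  refine ⟨divisor d, fun x => ?_, ?_⟩
  · obtain ⟨V, hV, hxV, hVW⟩ := exists_isAffineOpen_mem_and_subset (d x).mem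
    have hle : V ≤ (d x).W := hVW
    refine ⟨⟨V, hV⟩, hxV, X.presheaf.map (homOfLE hle).op (d x).c, Mero.regSub_res _ (d x).reg, ?_, fun y => ?_⟩
    · rw [zeroScheme_ideal hL]
      refine colonIdeal_of_gen s ((d x).gen.res hle) ?_
      rw [← ClSubLib.res_smul', (d x).eq]
      exact ParaFLib.res_res le_top hle (sec s)
    · rw [divisor_spec d (x := x) ⟨y.1, hle y.2⟩]
      refine congrArg _ (Units.ext ?_)
      refine (evalK_regUnit (d x).c (d x).reg ⟨y.1, hle y.2⟩).trans ?_
      exact congrArg (algebraMap (X.presheaf.stalk y.1) (Mero.KStalk X y.1))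
        (TopCat.Presheaf.germ_res_apply X.presheaf (homOfLE hle) y.1 y.2 (d x).c).symm
  · haveI := isIso_ratio d
    refine ⟨asIso (ratio d), Subtype.ext (funext fun x => ?_)⟩
    have hval : (SecTwist.val s ⊤ : Γ(L, ⊤)) = sec s :=
      (SecTwistBridge.val_eq s ⊤).trans (res_self _ _)
    show ((ratio d).app ⊤ (SecTwist.val s ⊤)).1 x = 1
    exact (congrArg (fun t : Γ(L, ⊤) => ((ratio d).app ⊤ t).1 x) hval).trans (ratio_self d x)


end Groth.Agent.S19456
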