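import Groth.Statements.S19457
import Mathlib
import Groth.Agent.ZeroSchemeLib.Basic

set_option autoImplicit false
universe u
open CategoryTheory CategoryTheory.Limits AlgebraicGeometry TopologicalSpace Opposite
open PicF2

namespace Groth.Agent.S19457

open CategoryTheory CategoryTheory.Limits AlgebraicGeometry

open Groth.Agent.AmpleLib

lemma resT_top {X : Scheme.{u}} {L : X.Modules} (σ : Γ(L, ⊤)) : resT σ (O := ⊤) = σ :=
  ConcreteCategory.congr_hom (L.presheaf.map_id _) σ
/-- Let X be an integral scheme, L an invertible O_X-module and s, s' two nonzero global sections of L,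
given as nonzero morphisms O_X → L. Then the zero schemes Z(s') and Z(s) are equal (as
quasi-coherent ideal sheaves of O_X, that is, as effective Cartier divisors) if and only if s' = h ·
s for some unit h of the ring of global functions Γ(X, O_X). (The published statement is for an
irreducible variety over an algebraically closed field; this row states it for an arbitrary integral
scheme.) -/
theorem result (X : Scheme.{u}) [AlgebraicGeometry.IsIntegral X]
    (L : X.Modules) (hL : PicF.IsInvertible L) (s s' : Coh.structureModule X ⟶ L) (hs : s ≠ 0) (hs' : s' ≠ 0) :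
    PicF2.zeroScheme L s' = PicF2.zeroScheme L s ↔
      ∃ h : Γ(X, ⊤), IsUnit h ∧ (SecTwist.val s' ⊤ : Γ(L, ⊤)) = h • (SecTwist.val s ⊤ : Γ(L, ⊤)) := by
  rw [SecTwistBridge.val_eq, SecTwistBridge.val_eq, resT_top, resT_top]
  refine ⟨fun h => ?_, fun ⟨a, ha, h⟩ => ZeroSchemeLib.zeroScheme_eq_of_unit hL s s' a ha h⟩
  exact ZeroSchemeLib.exists_unit_of_zeroScheme_eq hL s s' hs h


end Groth.Agent.S19457
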