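import Groth.Statements.S19459
import Mathlib
import Groth.Agent.ZeroSchemeLib.Basic

set_option autoImplicit false
universe u
open CategoryTheory CategoryTheory.Limits AlgebraicGeometry TopologicalSpace Opposite
open Mero

namespace Groth.Agent.S19459

open CategoryTheory CategoryTheory.Limits AlgebraicGeometry

open Groth.Agent.AmpleLib Groth.Agent.ParaFLib Groth.Agent.ZeroSchemeLib Groth.Agent.DCohLib

variable {X : Scheme.{u}}

lemma mul_regGerm {U : X.Opens} (y : U) (a b : Γ(X, U)) (ha : a ∈ Mero.regSub X U) (hb : b ∈ Mero.regSub X U) :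
    (QuotientGroup.mk (IsLocalization.map_units (Mero.KStalk X y.1) (Mero.regGerm y ⟨a, ha⟩)).unit :
      Mero.Germ X y.1) *
      QuotientGroup.mk (IsLocalization.map_units (Mero.KStalk X y.1) (Mero.regGerm y ⟨b, hb⟩)).unit =
      QuotientGroup.mk (IsLocalization.map_units (Mero.KStalk X y.1)
        (Mero.regGerm y ⟨a * b, Submonoid.mul_mem _ ha hb⟩)).unit := by
  rw [← QuotientGroup.mk_mul]
  refine congrArg _ (Units.ext ?_)
  rw [Units.val_mul, IsUnit.unit_spec, IsUnit.unit_spec, IsUnit.unit_spec, ← map_mul]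
  exact congrArg _ (map_mul (X.presheaf.germ U y.1 y.2).hom a b).symm
lemma regGerm_res {U W : X.Opens} (h : W ≤ U) (y : W) (f : Γ(X, U)) (hf : f ∈ Mero.regSub X U)
    (hr : X.presheaf.map (homOfLE h).op f ∈ Mero.regSub X W) :
    (QuotientGroup.mk (IsLocalization.map_units (Mero.KStalk X y.1)
        (Mero.regGerm (⟨y.1, h y.2⟩ : U) ⟨f, hf⟩)).unit : Mero.Germ X y.1) =
      QuotientGroup.mk (IsLocalization.map_units (Mero.KStalk X y.1)
        (Mero.regGerm y ⟨X.presheaf.map (homOfLE h).op f, hr⟩)).unit := by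
  have e : Mero.regGerm (⟨y.1, h y.2⟩ : U) ⟨f, hf⟩ =
      Mero.regGerm y ⟨X.presheaf.map (homOfLE h).op f, hr⟩ :=
    Subtype.ext (TopCat.Presheaf.germ_res_apply X.presheaf (homOfLE h) y.1 y.2 f).symm
  exact congrArg _ (Units.ext (congrArg (fun z : Mero.regStalk X y.1 =>
    algebraMap (X.presheaf.stalk y.1) (Mero.KStalk X y.1) z.1) e))

/-- Let X be an integral scheme, L₁ and L₂ invertible O_X-modules with nonzero global sections s₁ and s₂
(nonzero morphisms O_X → L₁ and O_X → L₂), and let D₁, D₂ be the effective Cartier divisors of the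
zero schemes Z(s₁), Z(s₂): divisors on X (global sections of the sheaf of units of K_X modulo units
of O_X) which around every point, on some affine open neighbourhood, are the class of a regular
function generating the ideal of the zero scheme. Then the divisor D₁ · D₂ (multiplicative notation
for the sum D₁ + D₂) is in the same sense the effective Cartier divisor of the zero scheme of the
global section s₁ ⊗ s₂ of the tensor product L₁ ⊗ L₂; that is, Z(s₁ ⊗ s₂) = Z(s₁) + Z(s₂). (The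
published statement is for an irreducible variety over an algebraically closed field; this row
states it for an arbitrary integral scheme.) -/
theorem result (X : Scheme.{u}) [AlgebraicGeometry.IsIntegral X]
    (L₁ L₂ : X.Modules) (hL₁ : PicF.IsInvertible L₁) (hL₂ : PicF.IsInvertible L₂)
    (s₁ : Coh.structureModule X ⟶ L₁) (s₂ : Coh.structureModule X ⟶ L₂) (hs₁ : s₁ ≠ 0) (hs₂ : s₂ ≠ 0)
    (D₁ D₂ : Mero.Divisor X) (hD₁ : Mero.IsDivOfIdeal D₁ (PicF2.zeroScheme L₁ s₁))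
    (hD₂ : Mero.IsDivOfIdeal D₂ (PicF2.zeroScheme L₂ s₂)) :
    Mero.IsDivOfIdeal (D₁ * D₂) (PicF2.zeroScheme (CohB1.tensorMod L₁ L₂) (SecTwist.tmulHom s₁ s₂)) := by
  intro x
  obtain ⟨U₁, hx₁, f₁, hf₁, hI₁, hG₁⟩ := hD₁ x
  obtain ⟨U₂, hx₂, f₂, hf₂, hI₂, hG₂⟩ := hD₂ x
  obtain ⟨V₁, e₁, hxV₁, he₁⟩ := exists_gen_nhd hL₁ x
  obtain ⟨V₂, e₂, hxV₂, he₂⟩ := exists_gen_nhd hL₂ x
  obtain ⟨W, hW, hxW, hWle⟩ := exists_isAffineOpen_mem_and_subset
    (U := U₁.1 ⊓ U₂.1 ⊓ (V₁ ⊓ V₂)) (x := x) ⟨⟨hx₁, hx₂⟩, hxV₁, hxV₂⟩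
  have h₁ : W ≤ U₁.1 := fun y hy => (hWle hy).1.1
  have h₂ : W ≤ U₂.1 := fun y hy => (hWle hy).1.2
  have g₁ := he₁.res (fun y hy => (hWle hy).2.1 : W ≤ V₁)
  have g₂ := he₂.res (fun y hy => (hWle hy).2.2 : W ≤ V₂)
  let r₁ := X.presheaf.map (homOfLE h₁).op f₁
  let r₂ := X.presheaf.map (homOfLE h₂).op f₂
  have hr₁ : r₁ ∈ Mero.regSub X W := Mero.regSub_res _ hf₁
  have hr₂ : r₂ ∈ Mero.regSub X W := Mero.regSub_res _ hf₂
  refine ⟨⟨W, hW⟩, hxW, r₁ * r₂, Submonoid.mul_mem _ hr₁ hr₂, ?_, fun y => ?_⟩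
  · have hid : ∀ {L : X.Modules} (e : Γ(L, W)), L.presheaf.map (homOfLE (le_refl W)).op e = e :=
      fun {L} e => ConcreteCategory.congr_hom (L.presheaf.map_id _) e
    obtain ⟨c₁, hc₁⟩ := (g₁ W le_rfl).2 (resT (sec s₁) (O := W))
    obtain ⟨c₂, hc₂⟩ := (g₂ W le_rfl).2 (resT (sec s₂) (O := W))
    simp only [hid] at hc₁ hc₂
    have e1 : Ideal.span {c₁} = Ideal.span {r₁} := by
      rw [← colonIdeal_of_gen s₁ g₁ hc₁, ← zeroScheme_ideal hL₁ s₁ ⟨W, hW⟩,
        ← Scheme.IdealSheafData.map_ideal _ (U := ⟨W, hW⟩) (V := U₁) h₁, hI₁, Ideal.map_span,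
        Set.image_singleton]
      rfl
    have e2 : Ideal.span {c₂} = Ideal.span {r₂} := by
      rw [← colonIdeal_of_gen s₂ g₂ hc₂, ← zeroScheme_ideal hL₂ s₂ ⟨W, hW⟩,
        ← Scheme.IdealSheafData.map_ideal _ (U := ⟨W, hW⟩) (V := U₂) h₂, hI₂, Ideal.map_span,
        Set.image_singleton]
      rfl
    have hc : (c₁ * c₂) • pairS L₁ L₂ (L₁.presheaf.map (homOfLE (fun y hy => (hWle hy).2.1 : W ≤ V₁)).op e₁)
        (L₂.presheaf.map (homOfLE (fun y hy => (hWle hy).2.2 : W ≤ V₂)).op e₂) =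
        resT (sec (SecTwist.tmulHom s₁ s₂)) (O := W) := by
      refine Eq.trans ?_ (SecTwistBridge.val_eq (SecTwist.tmulHom s₁ s₂) W)
      rw [SecTwist.val_tmulHom, SecTwistBridge.tmul_eq, SecTwistBridge.val_eq, SecTwistBridge.val_eq,
        ← hc₁, ← hc₂, pairS_smul_left, pairS_smul_right, smul_smul]
    erw [zeroScheme_ideal (isInvertible_tensor hL₁ hL₂) _ ⟨W, hW⟩,
      colonIdeal_of_gen _ (gen_pairS g₁ g₂) hc, ← Ideal.span_singleton_mul_span_singleton, e1, e2,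
      Ideal.span_singleton_mul_span_singleton]
  · show D₁.1 y.1 * D₂.1 y.1 = _
    rw [hG₁ ⟨y.1, h₁ y.2⟩, hG₂ ⟨y.1, h₂ y.2⟩, ← mul_regGerm y r₁ r₂ hr₁ hr₂]
    rw [← regGerm_res h₁ y f₁ hf₁ hr₁, ← regGerm_res h₂ y f₂ hf₂ hr₂]

end Groth.Agent.S19459
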