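import Mathlib
import Groth.Statements.S19462

set_option autoImplicit false
universe u
open GrNak

namespace Groth.Agent.S19462

/-- Let k be a field and R a commutative ℤ-graded k-algebra whose pieces of negative degree vanish and
whose degree-zero piece is the image of k, and let M be a finitely generated ℤ-graded R-module,
graded compatibly with R. Then M is a projective R-module if and only if M has an R-basis consisting
of homogeneous elements, i.e. M is a free graded module. (The published statement takes R a graded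
quotient of a polynomial ring k[x_0, …, x_n] with its standard grading; stated here for any
commutative graded k-algebra concentrated in non-negative degrees with degree-zero part k, to which
the same graded-Nakayama argument applies.) -/
theorem result {k : Type u} [Field k] {R : Type u} [CommRing R] [Algebra k R]
    {σ : Type u} [SetLike σ R] [AddSubmonoidClass σ R] (𝒜 : ℤ → σ) [GradedRing 𝒜]
    (hneg : ∀ i : ℤ, i < 0 → ∀ x ∈ 𝒜 i, x = 0)
    (hk : ∀ c : k, algebraMap k R c ∈ 𝒜 0) (h0 : ∀ x ∈ 𝒜 0, ∃ c : k, algebraMap k R c = x)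
    {M : Type u} [AddCommGroup M] [Module R M] [Module.Finite R M]
    {τ : Type u} [SetLike τ M] [AddSubmonoidClass τ M] (ℳ : ℤ → τ) [DirectSum.Decomposition ℳ]
    [SetLike.GradedSMul 𝒜 ℳ] :
    Module.Projective R M ↔
      ∃ (ι : Type u) (b : Module.Basis ι R M), ∀ i : ι, SetLike.IsHomogeneousElem ℳ (b i) := by
  classical
  constructor
  swap
  · rintro ⟨ι, b, -⟩
    exact Module.Projective.of_basis b
  intro hproj
  have key : ∀ (r : R) (j : ℤ) (x : M), x ∈ ℳ j → ∀ n,
      (DirectSum.decompose ℳ (r • x) n : M) = (DirectSum.decompose 𝒜 r (n - j) : R) • x := by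
    intro r j x hx n
    induction r using DirectSum.Decomposition.inductionOn 𝒜 with
    | zero => simp
    | @homogeneous i a =>
      have hax : (a : R) • x ∈ ℳ (i + j) := by
        simpa using SetLike.GradedSMul.smul_mem (A := 𝒜) (B := ℳ) a.2 hx
      by_cases h : i + j = n
      · subst h
        rw [DirectSum.decompose_of_mem_same ℳ hax, show i + j - j = i by omega,
          DirectSum.decompose_of_mem_same 𝒜 a.2]
      · rw [DirectSum.decompose_of_mem_ne ℳ hax h, DirectSum.decompose_of_mem_ne 𝒜 a.2 (by omega),
          zero_smul]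
    | add a b ha hb => simp [add_smul, DirectSum.decompose_add, ha, hb]
  -- a least set of homogeneous generators
  have hex : ∃ l : ℕ, ∃ m : Fin l → M, (∀ i, SetLike.IsHomogeneousElem ℳ (m i)) ∧
      Submodule.span R (Set.range m) = ⊤ := by
    obtain ⟨G, hG⟩ := (Module.Finite.fg_top : (⊤ : Submodule R M).FG)
    let P : Finset M := G.biUnion fun x =>
      ((DirectSum.decompose ℳ x).support).image fun n => (DirectSum.decompose ℳ x n : M)
    refine ⟨P.card, fun i => (P.equivFin.symm i).1, fun i => ?_, ?_⟩
    · obtain ⟨x, -, hx⟩ := Finset.mem_biUnion.mp (P.equivFin.symm i).2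
      obtain ⟨n, -, hn⟩ := Finset.mem_image.mp hx
      refine ⟨n, ?_⟩
      simp only [← hn]
      exact (DirectSum.decompose ℳ x n).2
    · rw [eq_top_iff, ← hG, Submodule.span_le]
      intro x hx
      rw [← DirectSum.sum_support_decompose ℳ x]
      refine Submodule.sum_mem _ fun n hn => Submodule.subset_span ?_
      exact ⟨P.equivFin ⟨_, Finset.mem_biUnion.mpr ⟨x, hx, Finset.mem_image.mpr ⟨n, hn, rfl⟩⟩⟩, by simp⟩
  obtain ⟨m, hm, hspan⟩ := Nat.find_spec hex
  choose d hd using hm
  let I : Ideal R :=
    { carrier := {r | ∀ n ≤ 0, (DirectSum.decompose 𝒜 r n : R) = 0}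
      zero_mem' := fun n _ => by simp
      add_mem' := fun {a b} ha hb n hn => by simp [DirectSum.decompose_add, ha n hn, hb n hn]
      smul_mem' := fun c a ha n hn => by
        rw [smul_eq_mul, ← DirectSum.sum_support_decompose 𝒜 c, ← DirectSum.sum_support_decompose 𝒜 a,
          Finset.sum_mul_sum, DirectSum.decompose_sum, DFinsupp.finsetSum_apply,
          AddSubmonoidClass.coe_finsetSum]
        refine Finset.sum_eq_zero fun i _ => ?_
        rw [DirectSum.decompose_sum, DFinsupp.finsetSum_apply, AddSubmonoidClass.coe_finsetSum]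
        refine Finset.sum_eq_zero fun j _ => ?_
        rcases lt_or_ge i 0 with hi | hi
        · rw [hneg i hi _ (DirectSum.decompose 𝒜 c i).2]; simp
        · rcases le_or_gt j 0 with hj | hj
          · rw [ha j hj]; simp
          · exact DirectSum.decompose_of_mem_ne 𝒜 (SetLike.mul_mem_graded
              (DirectSum.decompose 𝒜 c i).2 (DirectSum.decompose 𝒜 a j).2) (by omega) }
  let π : (Fin (Nat.find hex) → R) →ₗ[R] M := Fintype.linearCombination R m
  have hπ : Function.Surjective π := by
    rw [← LinearMap.range_eq_top, Fintype.range_linearCombination, hspan]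
  have hker : ∀ c, π c = 0 → ∀ i, c i ∈ I := by
    intro c hc i n hn
    rcases lt_or_eq_of_le hn with hlt | rfl
    · exact hneg n hlt _ (DirectSum.decompose 𝒜 (c i) n).2
    by_contra hne
    obtain ⟨a, ha⟩ := h0 _ (DirectSum.decompose 𝒜 (c i) 0).2
    have ha0 : a ≠ 0 := fun h => hne (by rw [← ha, h, map_zero])
    have hmi : m i ∈ Submodule.span R (m '' {j | j ≠ i}) := by
      have hzero : ∑ j, (DirectSum.decompose 𝒜 (c j) (d i - d j) : R) • m j = 0 := by
        have h := congrArg (fun z => (DirectSum.decompose ℳ z (d i) : M)) hc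
        simp only [π, Fintype.linearCombination_apply, DirectSum.decompose_sum,
          DFinsupp.finsetSum_apply, AddSubmonoidClass.coe_finsetSum,
          DirectSum.decompose_zero, DirectSum.zero_apply, ZeroMemClass.coe_zero] at h
        rw [← h, DFinsupp.finsetSum_apply, AddSubmonoidClass.coe_finsetSum]
        exact Finset.sum_congr rfl fun j _ => (key (c j) (d j) (m j) (hd j) (d i)).symm
      rw [← Finset.add_sum_erase _ _ (Finset.mem_univ i), sub_self, ← ha, add_eq_zero_iff_eq_neg]
        at hzero
      have : m i = algebraMap k R a⁻¹ • algebraMap k R a • m i := by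
        rw [← mul_smul, ← map_mul, inv_mul_cancel₀ ha0, map_one, one_smul]
      rw [this, hzero]
      exact Submodule.smul_mem _ _ (Submodule.neg_mem _ (Submodule.sum_mem _ fun j hj =>
        Submodule.smul_mem _ _ (Submodule.subset_span ⟨j, (Finset.mem_erase.mp hj).1, rfl⟩)))
    obtain ⟨l', hl'⟩ := Nat.exists_eq_succ_of_ne_zero (Nat.pos_iff_ne_zero.mp i.pos)
    refine Nat.find_min hex (m := l') (by omega)
      ⟨fun j => m (Fin.cast hl'.symm ((Fin.cast hl' i).succAbove j)), fun j => ⟨_, hd _⟩, ?_⟩
    refine top_le_iff.mp (hspan.symm.le.trans (Submodule.span_le.mpr ?_))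
    have hsub : m '' {j | j ≠ i} ⊆
        Set.range fun j => m (Fin.cast hl'.symm ((Fin.cast hl' i).succAbove j)) := by
      rintro _ ⟨j, hj, rfl⟩
      obtain ⟨j', hj'⟩ := Fin.exists_succAbove_eq (x := Fin.cast hl' j) (y := Fin.cast hl' i)
        (fun h => hj (Fin.cast_injective _ h))
      exact ⟨j', by simp [hj']⟩
    rintro _ ⟨j, rfl⟩
    by_cases hj : j = i
    · subst hj; exact Submodule.span_mono hsub hmi
    · exact Submodule.subset_span (hsub ⟨j, hj, rfl⟩)
  obtain ⟨s, hs⟩ := Module.projective_lifting_property π LinearMap.id hπ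
  let p : (Fin (Nat.find hex) → R) →ₗ[R] (Fin (Nat.find hex) → R) := LinearMap.id - s ∘ₗ π
  have hπp : ∀ c, π (p c) = 0 := fun c => by
    have h : π (s (π c)) = π c := LinearMap.congr_fun hs (π c)
    simp [p, h]
  have hfix : ∀ c, π c = 0 → p c = c := fun c hc => by simp [p, hc]
  have hle : LinearMap.range p ≤ I • LinearMap.range p := by
    rintro _ ⟨c, rfl⟩
    have h2 : p c = ∑ i, (p c) i • p (Pi.single i 1) :=
      calc p c = p (p c) := (hfix _ (hπp c)).symm
      _ = p (∑ i, (p c) i • (Pi.single i 1 : Fin (Nat.find hex) → R)) := by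
        congr 1; ext j; simp [Finset.sum_apply, Pi.single_apply]
      _ = _ := by simp only [map_sum, map_smul]
    rw [h2]
    exact Submodule.sum_mem _ fun i _ =>
      Submodule.smul_mem_smul (hker _ (hπp c) i) ⟨_, rfl⟩
  obtain ⟨r, hr, hr0⟩ := Submodule.exists_sub_one_mem_and_smul_eq_zero_of_fg_of_le_smul I
    (LinearMap.range p) (Module.Finite.fg_top.map p |> fun h => by simpa [Submodule.map_top] using h) hle
  have hnzd : ∀ c : R, r * c = 0 → c = 0 := by
    intro c hc
    by_contra hc0
    have hne : (DirectSum.decompose 𝒜 c).support.Nonempty := by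
      rw [Finset.nonempty_iff_ne_empty]
      intro h
      exact hc0 (by rw [← DirectSum.sum_support_decompose 𝒜 c, h, Finset.sum_empty])
    let m₀ := (DirectSum.decompose 𝒜 c).support.min' hne
    have h1 : (DirectSum.decompose 𝒜 ((r - 1) * c) m₀ : R) = 0 := by
      rw [← DirectSum.sum_support_decompose 𝒜 c, ← DirectSum.sum_support_decompose 𝒜 (r - 1),
          Finset.sum_mul_sum, DirectSum.decompose_sum, DFinsupp.finsetSum_apply,
          AddSubmonoidClass.coe_finsetSum]
      refine Finset.sum_eq_zero fun i _ => ?_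
      rw [DirectSum.decompose_sum, DFinsupp.finsetSum_apply, AddSubmonoidClass.coe_finsetSum]
      refine Finset.sum_eq_zero fun j hj => ?_
      rcases le_or_gt i 0 with hi | hi
      · rw [hr i hi]; simp
      · exact DirectSum.decompose_of_mem_ne 𝒜 (SetLike.mul_mem_graded
          (DirectSum.decompose 𝒜 (r - 1) i).2 (DirectSum.decompose 𝒜 c j).2)
          (by have := Finset.min'_le _ j hj; omega)
    have h4 : (DirectSum.decompose 𝒜 ((r - 1) * c + c) m₀ : R) = 0 := by
      rw [sub_mul, hc, one_mul, zero_sub, neg_add_cancel]; simp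
    rw [DirectSum.decompose_add, DirectSum.add_apply, AddMemClass.coe_add, h1, zero_add] at h4
    have h3 : (DirectSum.decompose 𝒜 c m₀ : R) = 0 := h4
    exact (DFinsupp.mem_support_iff.mp (Finset.min'_mem _ hne)) (Subtype.ext h3)
  have hinj : Function.Injective π := by
    rw [injective_iff_map_eq_zero]
    intro c hc
    funext i
    exact hnzd _ (congrFun (hr0 c ⟨c, hfix c hc⟩) i)
  let b : Module.Basis (Fin (Nat.find hex)) R M :=
    (Pi.basisFun R _).map (LinearEquiv.ofBijective π ⟨hinj, hπ⟩)
  refine ⟨ULift.{u} (Fin (Nat.find hex)), b.reindex Equiv.ulift.symm, fun i => ?_⟩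
  have hb : b i.down = m i.down := by
    simp [b, π, Fintype.linearCombination_apply_single]
  simpa [hb] using ⟨d i.down, hd i.down⟩

end Groth.Agent.S19462
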