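import Groth.Statements.S19464
import Groth.Agent.SurfPtBlow.Factor
-- import your own Groth.Agent.* helpers here

set_option autoImplicit false
set_option backward.isDefEq.respectTransparency false
set_option maxHeartbeats 800000
set_option synthInstance.maxHeartbeats 200000
universe u
open CategoryTheory CategoryTheory.Limits AlgebraicGeometry
open Surf

namespace Groth.Agent.S19464

/-- Let k be an algebraically closed field, X and Y smooth surfaces over k (integral, separated, of
finite type and smooth over k, of dimension two), f : X → Y a proper k-morphism which is an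
isomorphism over some nonempty open subset of Y (birational), and y a closed point of Y over no open
neighbourhood of which f is an isomorphism (y is not in the domain of the inverse rational map).
Then f factors through the blow-up of Y at y: for every π : Y' → Y having the universal property of
the blowing up of Y in the ideal of the reduced closed point y, there is g : X → Y' with g ≫ π = f. -/
theorem result (k : Type u) [Field k] [IsAlgClosed k]
    (X Y : Scheme.{u}) [X.Over (Spec (CommRingCat.of k))] [Y.Over (Spec (CommRingCat.of k))]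
    [IsIntegral X] [IsSeparated (X ↘ (Spec (CommRingCat.of k)))] [LocallyOfFiniteType (X ↘ (Spec (CommRingCat.of k)))]
    [QuasiCompact (X ↘ (Spec (CommRingCat.of k)))] [Smooth (X ↘ (Spec (CommRingCat.of k)))] (hdimX : topologicalKrullDim X = 2)
    [IsIntegral Y] [IsSeparated (Y ↘ (Spec (CommRingCat.of k)))] [LocallyOfFiniteType (Y ↘ (Spec (CommRingCat.of k)))]
    [QuasiCompact (Y ↘ (Spec (CommRingCat.of k)))] [Smooth (Y ↘ (Spec (CommRingCat.of k)))] (hdimY : topologicalKrullDim Y = 2)
    (f : X ⟶ Y) (hf : f ≫ (Y ↘ (Spec (CommRingCat.of k))) = X ↘ (Spec (CommRingCat.of k))) [IsProper f]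
    (hbir : ∃ U : Y.Opens, (U : Set Y).Nonempty ∧ IsIso (f ∣_ U))
    (y : Y) (hy : IsClosed ({y} : Set Y)) (hP : ∀ V : Y.Opens, y ∈ V → ¬ IsIso (f ∣_ V))
    (Y' : Scheme.{u}) (π : Y' ⟶ Y) (hπ : BlowUp.IsBlowUp π (Scheme.IdealSheafData.vanishingIdeal ⟨{y}, hy⟩)) :
    ∃ g : X ⟶ Y', g ≫ π = f := by
    haveI : IsLocallyNoetherian X := LocallyOfFiniteType.isLocallyNoetherian (X ↘ (Spec (CommRingCat.of k)))
    haveI : IsLocallyNoetherian Y := LocallyOfFiniteType.isLocallyNoetherian (Y ↘ (Spec (CommRingCat.of k)))
    haveI : CompactSpace X := QuasiCompact.compactSpace_of_compactSpace (X ↘ (Spec (CommRingCat.of k)))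
    haveI : CompactSpace Y := QuasiCompact.compactSpace_of_compactSpace (Y ↘ (Spec (CommRingCat.of k)))
    haveI : AlgebraicGeometry.IsNoetherian X := { }
    haveI : AlgebraicGeometry.IsNoetherian Y := { }
    have hk : ∀ p : Spec (CommRingCat.of k), IsRegularLocalRing ((Spec (CommRingCat.of k)).presheaf.stalk p) := fun p => by
      rw [Subsingleton.elim (α := PrimeSpectrum k) p (genericPoint (Spec (CommRingCat.of k)))]
      exact inferInstanceAs (IsRegularLocalRing (Spec (CommRingCat.of k)).functionField)
    have hX : ∀ x : X, IsRegularLocalRing (X.presheaf.stalk x) := fun x =>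
      BlowChartLib.regular_stalk_of_smooth (X ↘ (Spec (CommRingCat.of k))) x (hk _)
    have hY : ∀ z : Y, IsRegularLocalRing (Y.presheaf.stalk z) := fun z =>
      BlowChartLib.regular_stalk_of_smooth (Y ↘ (Spec (CommRingCat.of k))) z (hk _)
    obtain ⟨-, hd⟩ := SurfPtBlow.closed_of_not_iso hY hdimY.le f hbir y hP
    obtain ⟨g, hg, -⟩ := hπ.2 X f (SurfPtBlow.isEffCartier_comap_point hX hdimX.le f hbir y hy (hY y) hd hP)
    exact ⟨g, hg⟩

end Groth.Agent.S19464
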