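import Groth.Statements.S19466
import Groth.Agent.GenBCLib.Deg0

set_option autoImplicit false
universe u
open Coherent

namespace Groth.Agent.S19466

set_option backward.isDefEq.respectTransparency false
set_option linter.style.haveILetI false

open AlgebraicGeometry CategoryTheory CategoryTheory.Limits in
/-- Let f : X → S be proper and of finite presentation, F an O_X-module of finite presentation which is
flat over S, and s a point of S such that the degree-0 base change map of the fibre square at s,
from the pullback of f_* F to Spec κ(s) to the direct image of the restriction of F to the fibre X_s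
(on global sections: f_* F ⊗ κ(s) → H^0(X_s, F_s)), is an epimorphism. Then there is an open
neighbourhood U of s such that f_* F restricted to U is finite locally free and, for every cartesian
square on a morphism g : T → S whose image lies in U, with projections f' : X' → T and g' : X' → X,
the base change map g^* f_* F → f'_* g'^* F is an isomorphism. (In degree 0 the surjectivity
condition on the comparison map one degree lower is empty, so both conclusions of the published
statement hold; the statement for higher degrees is not part of this row.) -/
theorem result {X S : Scheme.{u}} (f : X ⟶ S)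
    [IsProper f] [LocallyOfFinitePresentation f]
    (F : X.Modules) (hF : CohB1.IsFP F) (hfl : FlatMod.IsFlatOver f F) (s : S)
    (hs : Epi (CohBC.bc0 f (S.fromSpecResidueField s) (f.fiberToSpecResidueField s) (f.fiberι s)
      (f.fiber_fac s) F)) :
    ∃ U : S.Opens, s ∈ U ∧ FlatMod.IsFinLocFree (((Coh.push f).obj F).restrict U.ι) ∧
      ∀ (T X' : Scheme.{u}) (g : T ⟶ S) (f' : X' ⟶ T) (g' : X' ⟶ X) (hsq : IsPullback g' f' f g),
        Set.range g.base ⊆ (U : Set S) → IsIso (CohBC.bc0 f g f' g' hsq.w F) := by
  haveI : Coh.IsQCoh F := by
    haveI := hF
    exact (inferInstance : SheafOfModules.IsQuasicoherent (R := X.ringCatSheaf) F)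
  haveI : HasInjectiveResolutions X.Modules := inferInstance
  obtain ⟨V, D, hsV⟩ := GenBCLib.exists_dat_at hF hfl s
  obtain ⟨a, ha, hg⟩ := D.exists_good hsV ((D.epi_bc0_iff_surjAt hsV).1 hs)
  refine ⟨S.basicOpen a, ha,
    GenBCLib.isFinLocFree_push_of_rpush f F (D.isFinLocFree_basicOpen hg (D.L.split_zero a)),
    fun T X' g f' g' hsq hU => ?_⟩
  haveI : IsSeparated f' := MorphismProperty.of_isPullback (P := @IsSeparated) hsq inferInstance
  haveI : QuasiCompact f' := MorphismProperty.of_isPullback (P := @QuasiCompact) hsq inferInstance
  haveI : Coh.IsQCoh ((Scheme.Modules.pullback g').obj F) := PullbackMod.isQCoh_pullback _ F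
  exact GenBCLib.isIso_bc0 hsq F fun z => ⟨V, D, a, hU ⟨z, rfl⟩, hg⟩

end Groth.Agent.S19466
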