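import Groth.Statements.S19469
import Groth.Agent.CurveFamLib.Omega
import Groth.Agent.GenBCLib.Main
import Groth.Agent.GenBCLib.Deg0
import Groth.Agent.BCLib.SteinFlat
-- import your own Groth.Agent.* helpers here

set_option autoImplicit false
set_option backward.isDefEq.respectTransparency false
set_option linter.style.haveILetI false
universe u
open Curves

namespace Groth.Agent.S19469

open AlgebraicGeometry CategoryTheory CategoryTheory.Limits in
/-- Let f : C → S be a proper smooth morphism of schemes whose fibres are geometrically connected, of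
dimension one and of genus g ≥ 2 (g the dimension of H¹ of the structure sheaf of each fibre over
its residue field) — a family of smooth curves of genus g — and let n ≥ 2 be an integer. Then the
formation of f_*(Ω_{C/S}^{⊗n}) commutes with arbitrary base change: for every cartesian square on a
morphism b : T → S, with projections f' : C' → T and b' : C' → C, the degree-0 base change map b^*
f_*(Ω_{C/S}^{⊗n}) → f'_* b'^*(Ω_{C/S}^{⊗n}) is an isomorphism. (The local-freeness, rank and
higher-direct-image clauses of the published item, and the corresponding base-change statement for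
Ω_{C/S} itself, are separate results.) -/
theorem result {C S : Scheme.{u}} (f : C ⟶ S)
    [IsProper f] [Smooth f] [GeometricallyConnected f]
    (hdim : ∀ s : S, topologicalKrullDim ↥(f.fiber s) = 1) (g : ℕ) (hg : 2 ≤ g)
    (hgen : ∀ s : S, letI : (f.fiber s).Over (Spec (S.residueField s)) := ⟨f.fiberToSpecResidueField s⟩
      Curv2.genus (S.residueField s) (f.fiber s) = g)
    (n : ℕ) (hn : 2 ≤ n)
    (T C' : Scheme.{u}) (b : T ⟶ S) (f' : C' ⟶ T) (b' : C' ⟶ C) (hsq : IsPullback b' f' f b) :
    IsIso (CohBC.bc0 f b f' b' hsq.w (CohB1.tensorPow (Omega.sheaf f) n)) := by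
  let F := CohB1.tensorPow (Omega.sheaf f) n
  have hinv := Groth.Agent.AmpleLib.isInvertible_tensorPow (Groth.Agent.CurveFamLib.isInvertible_omega f hdim) n
  have hlf := Groth.Agent.CurveLib.isFinLocFree_of_isInvertible hinv
  obtain ⟨hq, hfp⟩ := Groth.Agent.PullbackMod.isQCoh_and_isFP_of_isFinLocFree _ hlf
  haveI : Coh.IsQCoh F := hq
  have hfl : FlatMod.IsFlatOver f F := Groth.Agent.TildePerf.isFlatOver_of_isFinLocFree _ hlf
  have key : ∀ s : S, ∃ (V : S.Opens) (D : Groth.Agent.GenBCLib.Dat f F V) (a : Γ(S, V)),
      s ∈ S.basicOpen a ∧ D.L.Good a 0 ∧ ∀ x : ↥(LinearMap.ker (D.L.d 1)), a • x.1 ∈ D.L.bd 1 := fun s => by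
    obtain ⟨V, D, hs⟩ := Groth.Agent.GenBCLib.exists_dat_at hfp hfl s
    obtain ⟨a, ha, -, hsa, hka⟩ := D.exists_vanish hs (n := 1)
      (Groth.Agent.CurveFamLib.fibre_tensorPow f hdim g hgen hg n hn s).1
    exact ⟨V, D, a, ha, hsa, hka⟩
  haveI : IsSeparated f' := MorphismProperty.of_isPullback (P := @IsSeparated) hsq inferInstance
  haveI : QuasiCompact f' := MorphismProperty.of_isPullback (P := @QuasiCompact) hsq inferInstance
  haveI : Coh.IsQCoh ((Scheme.Modules.pullback b').obj F) := Groth.Agent.PullbackMod.isQCoh_pullback _ F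
  exact Groth.Agent.GenBCLib.isIso_bc0 hsq F fun z => by
    obtain ⟨V, D, a, ha, hga, -⟩ := key (b z)
    exact ⟨V, D, a, ha, hga⟩

end Groth.Agent.S19469
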