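import Groth.Statements.S1947
import Groth.Agent.K0Fam.ThickEquiv

set_option autoImplicit false
universe u
open CategoryTheory AlgebraicGeometry
open Cyc

namespace Groth.Agent.S1947

open CategoryTheory CategoryTheory.Limits AlgebraicGeometry

open Groth.Agent
set_option backward.isDefEq.respectTransparency false

/-- Let X be locally Noetherian and i : Z → X a closed immersion. Pushforward of coherent modules along
i induces an isomorphism K_0(Coh(Z)) → K_0(Coh_Z(X)), where Coh_Z(X) consists of those coherent
O_X-modules supported inside (the image of) Z. Here K_0 of a full subcategory of the abelian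
category of O-modules is the shared prelude's KZero.K0sub (free abelian group on the objects modulo
the relations of short exact sequences with all terms in the subcategory), and the isomorphism is
asserted to exist compatibly with classes of objects. -/
theorem result (X Z : Scheme.{u}) [IsLocallyNoetherian X] (i : Z ⟶ X) [IsClosedImmersion i] : ∃ φ : KZero.K0sub (fun F : Z.Modules => Coh.IsCoh F) ≃+ KZero.K0sub (fun G : X.Modules => Coh.IsCoh G ∧ ∀ x : X, Nontrivial (G.presheaf.stalk x) → x ∈ Set.range ⇑i), ∀ F : Z.Modules, Coh.IsCoh F → φ (KZero.clSub (fun F : Z.Modules => Coh.IsCoh F) F) = KZero.clSub (fun G : X.Modules => Coh.IsCoh G ∧ ∀ x : X, Nontrivial (G.presheaf.stalk x) → x ∈ Set.range ⇑i) ((Coh.push i).obj F) := by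
  haveI : Limits.PreservesFiniteColimits (Scheme.Modules.pushforward i) := DCohLib.preservesFiniteColimits_pushforward i
  haveI : Limits.PreservesLimitsOfSize.{0, 0} (Scheme.Modules.pushforward i) :=
    (Scheme.Modules.pullbackPushforwardAdjunction i).rightAdjoint_preservesLimits
  haveI : (Scheme.Modules.pushforward i).Additive := Functor.additive_of_preserves_binary_products _
  refine ⟨AddEquiv.ofBijective
    ((K0Fam.incl i).comp (SGA6.mapSub (Scheme.Modules.pushforward i) _ (K0Fam.P1 i) fun _ h => K0Fam.p1_push i h))
    ((K0Fam.bijective_incl i).comp (K0Fam.bijective_push1 i)), fun F hF => ?_⟩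
  show (K0Fam.incl i) (SGA6.mapSub (Scheme.Modules.pushforward i) _ (K0Fam.P1 i) (fun _ h => K0Fam.p1_push i h)
    (KZero.clSub (fun F : Z.Modules => Coh.IsCoh F) F)) = _
  rw [K0ResLib.clSub_of hF]
  refine Eq.trans ?_ (K0Fam.incl_cl i (K0Fam.p1_push i hF))
  rw [K0ResLib.clSub_of (K0Fam.p1_push i hF)]
  rfl


end Groth.Agent.S1947
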