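import Mathlib
import Groth.Statements.S19475

set_option autoImplicit false
universe u
open CAlg

namespace Groth.Agent.S19475

open IsLocalRing in
/-- Let A be a Noetherian ring, B an A-algebra, q a prime ideal of B and p its preimage in A; let A_p
and B_q be the local rings at p and q and Â_p the completion of A_p at its maximal ideal pA_p. Then
the ideal generated by qB_q in B_q ⊗ Â_p is maximal. (The tensor product is formed over A; since A_p
is a localization of A it agrees with the tensor product over A_p used in the published statement.) -/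
theorem result (A B : Type u) [CommRing A] [CommRing B]
    [Algebra A B] [IsNoetherianRing A] (q : Ideal B) [q.IsPrime] :
    ((maximalIdeal (Localization.AtPrime q)).map
      (Algebra.TensorProduct.includeLeftRingHom :
        Localization.AtPrime q →+* TensorProduct A (Localization.AtPrime q)
          (AdicCompletion (maximalIdeal (Localization.AtPrime (q.under A)))
            (Localization.AtPrime (q.under A))))).IsMaximal := by
  classical
  let P := q.under A
  let R := Localization.AtPrime P
  let C := Localization.AtPrime q
  let H := AdicCompletion (maximalIdeal R) R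
  have hψc : ∀ a : A, Localization.localRingHom P q (algebraMap A B) rfl (algebraMap A R a) =
      algebraMap A C a := by
    intro a
    rw [Localization.localRingHom_to_map]
    exact (IsScalarTower.algebraMap_apply A B C a).symm
  have : IsLocalHom (Localization.localRingHom P q (algebraMap A B) rfl) :=
    Localization.isLocalHom_localRingHom _ _ _ _
  let ψ : R →+* C := Localization.localRingHom P q (algebraMap A B) rfl
  have hloc : maximalIdeal R ≤ (maximalIdeal C).comap ψ := fun r hr h =>
    hr (isUnit_of_map_unit ψ r h)
  let κ := C ⧸ maximalIdeal C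
  let ev : H →ₐ[A] κ :=
    { toRingHom := (Ideal.quotientMap (maximalIdeal C) ψ hloc).comp
        (AdicCompletion.evalOneₐ (maximalIdeal R)).toRingHom
      commutes' := fun a => by
        have h1 : AdicCompletion.evalOneₐ (maximalIdeal R) (algebraMap A H a) =
            Ideal.Quotient.mk _ (algebraMap A R a) := by
          rw [IsScalarTower.algebraMap_apply A R H, AlgHom.commutes]
          rfl
        change Ideal.quotientMap (maximalIdeal C) ψ hloc
          (AdicCompletion.evalOneₐ (maximalIdeal R) (algebraMap A H a)) = _
        rw [h1, Ideal.quotientMap_mk]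
        exact congrArg _ (hψc a) }
  let φ : TensorProduct A C H →ₐ[A] κ :=
    Algebra.TensorProduct.lift (Ideal.Quotient.mkₐ A (maximalIdeal C)) ev fun _ _ => Commute.all _ _
  let inl : C →+* TensorProduct A C H := Algebra.TensorProduct.includeLeftRingHom
  let J : Ideal (TensorProduct A C H) := (maximalIdeal C).map inl
  have hφl : ∀ c : C, φ (inl c) = Ideal.Quotient.mk _ c := fun c => by
    change Algebra.TensorProduct.lift (Ideal.Quotient.mkₐ A (maximalIdeal C)) ev
      (fun _ _ => Commute.all _ _) (c ⊗ₜ[A] (1 : H)) = _
    rw [Algebra.TensorProduct.lift_tmul, map_one, mul_one]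
    rfl
  have hJle : J ≤ RingHom.ker φ := Ideal.map_le_iff_le_comap.2 fun c hc => by
    rw [Ideal.mem_comap, RingHom.mem_ker, hφl]
    exact Ideal.Quotient.eq_zero_iff_mem.2 hc
  let inr : H →+* TensorProduct A C H :=
    (Algebra.TensorProduct.includeRight : H →ₐ[A] TensorProduct A C H).toRingHom
  have hagree : inr.comp (algebraMap R H) = inl.comp ψ := by
    refine IsLocalization.ringHom_ext P.primeCompl ?_
    ext a
    simp only [RingHom.comp_apply]
    rw [← IsScalarTower.algebraMap_apply, show ψ (algebraMap A R a) = algebraMap A C a from hψc a]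
    change (1 : C) ⊗ₜ[A] algebraMap A H a = algebraMap A C a ⊗ₜ[A] (1 : H)
    rw [Algebra.algebraMap_eq_smul_one, Algebra.algebraMap_eq_smul_one, TensorProduct.smul_tmul]
  have hH : ∀ y : H, ∃ c : C, inr y - inl c ∈ J := by
    intro y
    obtain ⟨x, hx⟩ := Ideal.Quotient.mk_surjective (AdicCompletion.evalOneₐ (maximalIdeal R) y)
    refine ⟨ψ x, ?_⟩
    have hd : y - algebraMap R H x ∈ (maximalIdeal R).map (algebraMap R H) := by
      rw [← AdicCompletion.ker_evalOneₐ_eq_map _ (maximalIdeal R).fg_of_isNoetherianRing,
        RingHom.mem_ker, map_sub]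
      change AdicCompletion.evalOneₐ (maximalIdeal R) y -
        AdicCompletion.evalOneₐ (maximalIdeal R) (algebraMap R H x) = 0
      rw [AlgHom.commutes, ← hx]
      exact sub_self _
    have h2 : inr (y - algebraMap R H x) ∈ J := by
      have := Ideal.mem_map_of_mem inr hd
      rw [Ideal.map_map, hagree, ← Ideal.map_map] at this
      refine Ideal.map_mono ?_ this
      exact Ideal.map_le_iff_le_comap.2 hloc
    rw [map_sub, show inr (algebraMap R H x) = inl (ψ x) from RingHom.congr_fun hagree x] at h2
    exact h2
  have hall : ∀ z : TensorProduct A C H, ∃ c : C, z - inl c ∈ J := by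
    intro z
    induction z using TensorProduct.induction_on with
    | zero => exact ⟨0, by simp⟩
    | tmul c y =>
      obtain ⟨c', hc'⟩ := hH y
      refine ⟨c * c', ?_⟩
      have he : c ⊗ₜ[A] y = inl c * inr y := by
        change _ = (c ⊗ₜ[A] (1 : H)) * ((1 : C) ⊗ₜ[A] y)
        rw [Algebra.TensorProduct.tmul_mul_tmul, mul_one, one_mul]
      rw [he, map_mul, ← mul_sub]
      exact J.mul_mem_left _ hc'
    | add u v hu hv =>
      obtain ⟨a, ha⟩ := hu
      obtain ⟨b, hb⟩ := hv
      exact ⟨a + b, by rw [map_add, add_sub_add_comm]; exact J.add_mem ha hb⟩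
  have hsurj : Function.Surjective φ := fun k => by
    obtain ⟨c, rfl⟩ := Ideal.Quotient.mk_surjective k
    exact ⟨_, hφl c⟩
  have heq : J = RingHom.ker φ := le_antisymm hJle fun z hz => by
    obtain ⟨c, hc⟩ := hall z
    have h3 := hJle hc
    rw [RingHom.mem_ker] at h3 hz
    rw [map_sub, hz, hφl, zero_sub, neg_eq_zero] at h3
    have h4 : inl c ∈ J := Ideal.mem_map_of_mem inl (Ideal.Quotient.eq_zero_iff_mem.1 h3)
    simpa using J.add_mem hc h4
  let _ : Field κ := Ideal.Quotient.field _
  change J.IsMaximal
  rw [heq]
  exact RingHom.ker_isMaximal_of_surjective φ hsurj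

end Groth.Agent.S19475
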