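import Groth.Statements.S19477
import Mathlib
import Groth.Agent.TensorPrimes.Galois
import Groth.Agent.S6333

set_option autoImplicit false
universe u
open Variety

namespace Groth.Agent.S19477

/-- Let K be a field, B an integral K-algebra of finite type with fraction field F, and L a Galois
extension of K with group Γ = Aut_K(L). Then F ⊗_K L has only finitely many prime ideals and Γ,
acting through the second factor, permutes them transitively: for prime ideals P, Q there is γ ∈ Γ
with Q the preimage of P under id ⊗ γ. (The published statement is the geometric one, that the
points of an algebraic K-scheme X correspond to the Γ-orbits of points of X_L and that these orbits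
are finite; it reduces to this algebraic statement by passing to the fibre over a point, and the
algebraic statement is what is proved.) -/
theorem result (K B L : Type u) [Field K]
    [CommRing B] [IsDomain B] [Algebra K B] [Algebra.FiniteType K B] [Field L] [Algebra K L] [IsGalois K L] :
    Finite (PrimeSpectrum (TensorProduct K (FractionRing B) L)) ∧
      ∀ P Q : PrimeSpectrum (TensorProduct K (FractionRing B) L), ∃ γ : L ≃ₐ[K] L,
        Q.asIdeal = P.asIdeal.comap
          (Algebra.TensorProduct.map (AlgHom.id K (FractionRing B)) (γ : L →ₐ[K] L)) := by
  haveI : Algebra.EssFiniteType B (FractionRing B) :=
    Algebra.EssFiniteType.of_isLocalization _ (nonZeroDivisors B)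
  haveI : Algebra.EssFiniteType K (FractionRing B) := Algebra.EssFiniteType.comp K B (FractionRing B)
  haveI : FiniteDimensional K (algebraicClosure K (FractionRing B)) :=
    Groth.Agent.S6333.result (IntermediateField.fg_top_iff.mpr inferInstance)
  exact Groth.Agent.TensorPrimes.finite_and_transitive

end Groth.Agent.S19477
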