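import Groth.Statements.S19478
import Groth.Agent.AVExtLib.PointShriek
import Groth.Agent.AVExtLib.Trivial
-- import your own Groth.Agent.* helpers here

set_option autoImplicit false
set_option backward.isDefEq.respectTransparency false
set_option maxHeartbeats 1000000
universe u
open CategoryTheory CategoryTheory.Limits MonoidalCategory CartesianMonoidalCategory MonObj GrpObj AlgebraicGeometry
attribute [local instance] HasDerivedCategory.standard
open AbVar

namespace Groth.Agent.S19478

/-- Let k be an algebraically closed field of characteristic zero and A an abelian variety over k (a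
proper smooth k-group scheme with geometrically connected fibres) of dimension g, with unit section
e : Spec k → A, and let k(0) = e_*O_{Spec k} be the skyscraper sheaf at the unit point. Regard k(0)
as a complex in degree 0 and form RHom(k(0), O_A) in the derived category of O_A-modules (the
derived functors involved are assumed to exist); its cohomology sheaves are the sheaves Ext^p(k(0),
O_A). Then Ext^p(k(0), O_A) = 0 for every natural number p < g, and Ext^g(k(0), O_A) is isomorphic
to k(0) (existence of an isomorphism). -/
theorem result (k : Type u) [Field k] [IsAlgClosed k] [CharZero k]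
    (A : Over (Spec (CommRingCat.of k))) [GrpObj A] [IsProper A.hom] [Smooth A.hom] [GeometricallyConnected A.hom]
    (g : ℕ) (hg : topologicalKrullDim ↥A.left = g)
    [DCoh.HasLTensorCx ((HomologicalComplex.single A.left.Modules (ComplexShape.up ℤ) 0).obj ((Scheme.Modules.pushforward η[A].left).obj (Coh.structureModule (Spec (CommRingCat.of k)))))] [DCoh.HasRSheafHom ((HomologicalComplex.single A.left.Modules (ComplexShape.up ℤ) 0).obj ((Scheme.Modules.pushforward η[A].left).obj (Coh.structureModule (Spec (CommRingCat.of k)))))] :
    (∀ p : ℕ, p < g → IsZero (DCoh.HD ((DCoh.RSheafHom ((HomologicalComplex.single A.left.Modules (ComplexShape.up ℤ) 0).obj ((Scheme.Modules.pushforward η[A].left).obj (Coh.structureModule (Spec (CommRingCat.of k)))))).obj (DCoh.inD A.left (Coh.structureModule A.left))) (p : ℤ))) ∧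
      Nonempty ((DCoh.HD ((DCoh.RSheafHom ((HomologicalComplex.single A.left.Modules (ComplexShape.up ℤ) 0).obj ((Scheme.Modules.pushforward η[A].left).obj (Coh.structureModule (Spec (CommRingCat.of k)))))).obj (DCoh.inD A.left (Coh.structureModule A.left))) (g : ℤ)) ≅ ((Scheme.Modules.pushforward η[A].left).obj (Coh.structureModule (Spec (CommRingCat.of k))))) := by
  obtain ⟨L, hL, ⟨eL⟩⟩ := AVExtLib.exists_topForms_trivial A g hg
  haveI : GeometricallyIntegral A.hom := AbDualLib.geometricallyIntegral_of_smooth A
  haveI : IsIntegral A.left := GeometricallyIntegral.isIntegral_of_subsingleton A.hom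
  haveI : SmoothOfRelativeDimension g A.hom := TwistShriek.smoothOfRelativeDimension_of_smooth A.hom hg
  have key := AVExtLib.exists_iso_HD_rSheafHom_point k g A.hom η[A].left (Over.w η[A]) L hL eL
    ((HomologicalComplex.single A.left.Modules (ComplexShape.up ℤ) 0).obj
      ((Scheme.Modules.pushforward η[A].left).obj (Coh.structureModule (Spec (CommRingCat.of k)))))
    ⟨((DerivedCategory.singleFunctorIsoCompQ A.left.Modules 0).app _).symm⟩
  refine ⟨fun p hp => ?_, ?_⟩
  · obtain ⟨i⟩ := key (p : ℤ)
    refine ((Scheme.Modules.pushforward η[A].left).map_isZero ?_).of_iso i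
    exact DerivedCategory.isZero_of_isGE
      ((DerivedCategory.singleFunctor (Spec (CommRingCat.of k)).Modules 0).obj _) 0 _ (by omega)
  · obtain ⟨i⟩ := key (g : ℤ)
    exact ⟨i ≪≫ (Scheme.Modules.pushforward η[A].left).mapIso
      ((eqToIso (congrArg (DCoh.HD _) (sub_self (g : ℤ)))) ≪≫
        (DerivedCategory.singleFunctorCompHomologyFunctorIso (Spec (CommRingCat.of k)).Modules 0).app _)⟩

end Groth.Agent.S19478
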