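import Groth.Statements.S19480
import Groth.Agent.FrobAlgLib.RootTower
import Groth.Agent.QuietLib.Root
import Groth.Agent.AdicEasyLib.RegPow

set_option autoImplicit false
open CategoryTheory AlgebraicGeometry MvPolynomial
universe u
open Quiet

namespace Groth.Agent.S19480

/-- Faithful flatness and root towers pass to quotients. -/
theorem quotientMap_aux {R S : Type u} [CommRing R] [CommRing S] (f : R →+* S) (I : Ideal R) :
    (f.FaithfullyFlat → (Ideal.quotientMap (I.map f) f Ideal.le_comap_map).FaithfullyFlat) ∧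
      ∀ p : ℕ, Quiet.IsPthRoot p (Spec.map (CommRingCat.ofHom f)) →
        Quiet.IsPthRoot p (Spec.map (CommRingCat.ofHom (Ideal.quotientMap (I.map f) f Ideal.le_comap_map))) := by
  letI := f.toAlgebra
  letI : Algebra (R ⧸ I) (S ⧸ I.map f) := (Ideal.quotientMap (I.map f) f Ideal.le_comap_map).toAlgebra
  haveI : IsScalarTower R (R ⧸ I) (S ⧸ I.map f) := .of_algebraMap_eq fun r => (Ideal.quotientMap_mk).symm
  letI : Algebra (R ⧸ I) (TensorProduct R S (R ⧸ I)) := Algebra.TensorProduct.rightAlgebra
  haveI : Algebra.IsPushout R S (R ⧸ I) (S ⧸ I.map f) :=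
    Algebra.IsPushout.of_equiv (h := TensorProduct.isPushout)
      (Algebra.TensorProduct.quotIdealMapEquivTensorQuot S I).symm
      (Ideal.Quotient.ringHom_ext (RingHom.ext fun a => by
        simp [RingHom.algebraMap_toAlgebra]; erw [Algebra.TensorProduct.quotIdealMapEquivTensorQuot_symm_tmul]; rw [Algebra.smul_def, mul_one]; rfl))
  exact ⟨fun h => RingHom.FaithfullyFlat.isStableUnderBaseChange R S (R ⧸ I) (S ⧸ I.map f) h,
    fun p h => QuietLib.isPthRoot_of_isPullback
      (isPullback_SpecMap_of_isPushout _ _ _ _ (CommRingCat.isPushout_of_isPushout R S (R ⧸ I) (S ⧸ I.map f))) h⟩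

theorem isRegular_map {R S : Type u} [CommRing R] [CommRing S] {f : R →+* S} (hf : f.FaithfullyFlat)
    {l : List R} (h : RingTheory.Sequence.IsRegular R l) : RingTheory.Sequence.IsRegular S (l.map f) := by
  algebraize [f]
  exact h.of_faithfullyFlat

/-- Let k be a perfect field of prime characteristic p, A a smooth k-algebra of characteristic p and
t_1, …, t_n a regular sequence in A, so that A₀ = A/(t_1^p, …, t_n^p) is a p-good algebra when A has
a system of parameters; let v_1, …, v_m ∈ A[Y_1, …, Y_r] have images forming a regular sequence in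
A₀[Y_1, …, Y_r], and put B_0 = A[Y]/(t_1^p, …, t_n^p, v_1, …, v_m). Identify A^{1/p} with A as a
ring, so that u_i = t_i^p and the Frobenius x ↦ x^p of A[Y] carries the ideal (t_i^p, v_j) into
(u_i^p, v_j^p) = (t_i^{p²}, v_j^p). Then: (ii) (t_1^{p²}, …, t_n^{p²}, v_1^p, …, v_m^p) is a regular
sequence in A[Y]; (iii) the induced ring map β : B_0 → B = A[Y]/(t_i^{p²}, v_j^p) is faithfully flat
and Spec β is an extraction of p-th roots, i.e. every point of Spec B_0 has an affine open
neighbourhood with affine preimage over which the ring map is a tower of finitely many elementary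
extractions R → R[x]/(x^p − a). (The published statement also assumes B_0 faithfully flat and
syntomic over A₀ and A good; these are not used for (ii) and (iii) and are not assumed here. The v_j
are taken in A[Y] rather than in A₀[Y], which is how their p-th powers in A^{1/p}[Y] are meant.) -/
theorem result (p : ℕ) [Fact p.Prime]
    (k : Type u) [Field k] [CharP k p] [PerfectRing k p] (A : Type u) [CommRing A] [Algebra k A]
    [CharP A p] [Algebra.Smooth k A] (n : ℕ) (t : Fin n → A) (ht : RingTheory.Sequence.IsRegular A (List.ofFn t))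
    (r m : ℕ) (v : Fin m → MvPolynomial (Fin r) A)
    (hv : RingTheory.Sequence.IsRegular
      (MvPolynomial (Fin r) A ⧸ Ideal.span (Set.range fun i => C (t i) ^ p))
      (List.ofFn fun j => Ideal.Quotient.mk (Ideal.span (Set.range fun i => C (t i) ^ p)) (v j))) :
    RingTheory.Sequence.IsRegular (MvPolynomial (Fin r) A)
        (List.ofFn (fun i => C (t i) ^ (p ^ 2)) ++ List.ofFn (fun j => v j ^ p)) ∧
      (Ideal.quotientMap ((Ideal.span (Set.range (fun i => C (t i) ^ p) ∪ Set.range v)).map (frobenius (MvPolynomial (Fin r) A) p)) (frobenius (MvPolynomial (Fin r) A) p) Ideal.le_comap_map).FaithfullyFlat ∧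
      Quiet.IsPthRoot p (Spec.map (CommRingCat.ofHom (Ideal.quotientMap ((Ideal.span (Set.range (fun i => C (t i) ^ p) ∪ Set.range v)).map (frobenius (MvPolynomial (Fin r) A) p)) (frobenius (MvPolynomial (Fin r) A) p) Ideal.le_comap_map))) := by
  classical
  haveI : Algebra.Smooth A (MvPolynomial (Fin r) A) := ⟨inferInstance, inferInstance⟩
  haveI : Algebra.Smooth k (MvPolynomial (Fin r) A) := Algebra.Smooth.comp k A _
  have hF := FrobAlgLib.faithfullyFlat_frobenius_of_smooth p k (MvPolynomial (Fin r) A)
  have hR := FrobAlgLib.isPthRoot_frobenius p k (MvPolynomial (Fin r) A)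
  obtain ⟨h2, h3⟩ := quotientMap_aux (frobenius (MvPolynomial (Fin r) A) p)
    (Ideal.span (Set.range (fun i => C (t i) ^ p) ∪ Set.range v))
  refine ⟨?_, h2 hF, h3 p hR⟩
  set J := Ideal.span (Set.range fun i => C (t i) ^ p) with hJ
  have hJl : Ideal.ofList (List.ofFn fun i => (C (t i) : MvPolynomial (Fin r) A) ^ p) = J := by
    rw [hJ, Ideal.ofList]
    congr 1
    ext x
    simp [List.mem_ofFn]
  have h1 : RingTheory.Sequence.IsWeaklyRegular (MvPolynomial (Fin r) A)
      (List.ofFn fun i => (C (t i) : MvPolynomial (Fin r) A) ^ p) := by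
    have := (AdicEasyLib.isWeaklyRegular_pow n t (fun _ => p) (fun _ => (Fact.out : p.Prime).one_le)
      ht.toIsWeaklyRegular).of_flat (S := MvPolynomial (Fin r) A)
    rw [List.map_ofFn] at this
    simpa [Function.comp_def] using this
  have hmap : List.ofFn (fun j => Ideal.Quotient.mk J (v j)) =
      (List.ofFn v).map (algebraMap (MvPolynomial (Fin r) A) (MvPolynomial (Fin r) A ⧸ J)) := by
    rw [List.map_ofFn]; rfl
  rw [hmap] at hv
  have hreg : RingTheory.Sequence.IsRegular (MvPolynomial (Fin r) A)
      ((List.ofFn fun i => (C (t i) : MvPolynomial (Fin r) A) ^ p) ++ List.ofFn v) := by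
    refine ⟨(RingTheory.Sequence.isWeaklyRegular_append_iff _ _ _).2 ⟨h1, ?_⟩, ?_⟩
    · refine ((Submodule.quotEquivOfEq _ _ ?_).isWeaklyRegular_congr _).1
        ((RingTheory.Sequence.isWeaklyRegular_map_algebraMap_iff _ _ _).1 hv.toIsWeaklyRegular)
      rw [hJl]
      simp
    · intro h
      refine hv.top_ne_smul ?_
      rw [eq_comm, smul_eq_mul, Ideal.mul_top, ← Ideal.map_ofList]
      rw [eq_comm, Ideal.ofList_append, hJl, smul_eq_mul, Ideal.mul_top] at h
      have := congrArg (Ideal.map (Ideal.Quotient.mk J)) h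
      rwa [Ideal.map_sup, Ideal.map_quotient_self, bot_sup_eq, Ideal.map_top] at this
  have := isRegular_map hF hreg
  rw [List.map_append, List.map_ofFn, List.map_ofFn] at this
  simpa [Function.comp_def, frobenius_def, ← pow_mul, sq] using this

end Groth.Agent.S19480
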