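import Groth.Statements.S19485
import Groth.Agent.RootDiskLib.Basic

set_option autoImplicit false
universe u
open Crimp

namespace Groth.Agent.S19485

open Groth.Agent.RootDiskLib
set_option backward.isDefEq.respectTransparency false

/-- The criterion for closedness under multiplication on which the description of the stratum rests.
Over R = k⟦t⟧ with k an algebraically closed field of characteristic zero, let S̃ = k⟦x⟧ regarded as
an R-algebra through t ↦ x ^ 3, that is S̃ = R[x] / (x ^ 3 - t). Let m, n be natural numbers with m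
not divisible by 3, and let g be a power series with nonzero constant term. Then the R-submodule of
S̃ spanned by 1 and x ^ m g together with the ideal x ^ n S̃ is closed under multiplication if and
only if n ≤ 2m. (The published proposition goes on to describe the stratum of crimps with these
invariants as irreducible of dimension ⌊(n - m)/3⌋ with a normal form for g; only the closedness
criterion is stated here.) -/
theorem result {k : Type u} [Field k] [IsAlgClosed k] [CharZero k]
    (m n : ℕ) (hm : ¬ 3 ∣ m) (x g : W4c1hurwitzcpt.RootDisk 3 k)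
    (hx : W4c1hurwitzcpt.RootDisk.val x = PowerSeries.X) (hg : PowerSeries.order (W4c1hurwitzcpt.RootDisk.val g) = 0)
    (M : Submodule (PowerSeries k) (W4c1hurwitzcpt.RootDisk 3 k))
    (hM : M = Submodule.span (PowerSeries k) {1, x ^ m * g} ⊔
      (Ideal.span {x ^ n} : Ideal (W4c1hurwitzcpt.RootDisk 3 k)).restrictScalars (PowerSeries k)) :
    (∀ a ∈ M, ∀ b ∈ M, a * b ∈ M) ↔ n ≤ 2 * m := by
  subst hM
  have hmem : ∀ z, z ∈ Submodule.span (PowerSeries k) {1, x ^ m * g} ⊔
      (Ideal.span {x ^ n} : Ideal (W4c1hurwitzcpt.RootDisk 3 k)).restrictScalars (PowerSeries k) ↔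
      ∃ (a b : PowerSeries k) (h : W4c1hurwitzcpt.RootDisk 3 k),
        z = a • (1 : W4c1hurwitzcpt.RootDisk 3 k) + b • (x ^ m * g) + h * x ^ n := by
    intro z
    simp only [Submodule.mem_sup, Submodule.mem_span_pair, Submodule.restrictScalars_mem,
      Ideal.mem_span_singleton']
    constructor
    · rintro ⟨_, ⟨a, b, rfl⟩, _, ⟨h, rfl⟩, rfl⟩; exact ⟨a, b, h, rfl⟩
    · rintro ⟨a, b, h, rfl⟩; exact ⟨_, ⟨a, b, rfl⟩, _, ⟨h, rfl⟩, rfl⟩
  constructor
  · intro hcl
    by_contra hnm
    rw [not_le] at hnm
    have hy : x ^ m * g ∈ Submodule.span (PowerSeries k) {1, x ^ m * g} ⊔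
        (Ideal.span {x ^ n} : Ideal (W4c1hurwitzcpt.RootDisk 3 k)).restrictScalars (PowerSeries k) :=
      Submodule.mem_sup_left (Submodule.subset_span (by simp))
    obtain ⟨a, b, h, he⟩ := (hmem _).1 (hcl _ hy _ hy)
    apply_fun W4c1hurwitzcpt.RootDisk.val at he
    simp only [map_add, map_mul, map_pow, smul_val, map_one, mul_one, hx] at he
    set G := W4c1hurwitzcpt.RootDisk.val g
    set U := PowerSeries.expand 3 (NeZero.ne 3) a
    set V := PowerSeries.expand 3 (NeZero.ne 3) b * (PowerSeries.X ^ m * G)
    set H := W4c1hurwitzcpt.RootDisk.val h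
    have hW : (PowerSeries.order (PowerSeries.X ^ m * G * (PowerSeries.X ^ m * G))) = ((2 * m : ℕ) : ℕ∞) := by
      rw [PowerSeries.order_mul, PowerSeries.order_mul, PowerSeries.order_X_pow, hg, add_zero]
      norm_cast; omega
    have hH : ((n : ℕ) : ℕ∞) ≤ PowerSeries.order (-(H * PowerSeries.X ^ n)) := by
      rw [PowerSeries.order_neg, PowerSeries.order_mul, PowerSeries.order_X_pow]
      exact le_add_self
    have hUV : PowerSeries.order (U + V) = ((2 * m : ℕ) : ℕ∞) := by
      have e1 : U + V = PowerSeries.X ^ m * G * (PowerSeries.X ^ m * G) +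
          -(H * PowerSeries.X ^ n) := by rw [he]; ring
      have hlt : ((2 * m : ℕ) : ℕ∞) < PowerSeries.order (-(H * PowerSeries.X ^ n)) :=
        lt_of_lt_of_le (by exact_mod_cast hnm) hH
      rw [e1, PowerSeries.order_add_of_order_ne _ _ (by rw [hW]; exact ne_of_lt hlt), hW]
      exact inf_eq_left.2 hlt.le
    have hU : PowerSeries.order U = 3 • PowerSeries.order a := PowerSeries.order_expand 3 _ a
    have hV : PowerSeries.order V = 3 • PowerSeries.order b + m := by
      rw [PowerSeries.order_mul, PowerSeries.order_mul, PowerSeries.order_X_pow, hg, add_zero,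
        PowerSeries.order_expand]
    by_cases hne : PowerSeries.order U = PowerSeries.order V
    · have h2 := PowerSeries.min_order_le_order_add U V
      rw [hUV, ← hne, min_self, hU] at h2
      obtain ⟨A, hA⟩ := ENat.ne_top_iff_exists.1 (show PowerSeries.order a ≠ ⊤ from fun h => by
        rw [h, nsmul_top_enat, top_le_iff] at h2; exact ENat.coe_ne_top _ h2)
      rw [hU, hV, ← hA] at hne
      obtain ⟨B, hB⟩ := ENat.ne_top_iff_exists.1 (show PowerSeries.order b ≠ ⊤ from fun h => by
        rw [h, nsmul_top_enat, top_add, nsmul_eq_mul, ← Nat.cast_mul] at hne; exact ENat.coe_ne_top _ hne)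
      rw [← hB, nsmul_eq_mul, nsmul_eq_mul] at hne
      norm_cast at hne
      omega
    · rw [PowerSeries.order_add_of_order_ne _ _ hne, hU, hV] at hUV
      rcases le_total (3 • PowerSeries.order a) (3 • PowerSeries.order b + (m : ℕ∞)) with hle | hle
      · rw [inf_eq_left.2 hle] at hUV
        obtain ⟨A, hA⟩ := ENat.ne_top_iff_exists.1 (show PowerSeries.order a ≠ ⊤ from fun h => by
          rw [h, nsmul_top_enat] at hUV; (try rw [top_add] at hUV); exact ENat.coe_ne_top _ hUV.symm)
        rw [← hA, nsmul_eq_mul] at hUV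
        norm_cast at hUV
        omega
      · rw [inf_eq_right.2 hle] at hUV
        obtain ⟨B, hB⟩ := ENat.ne_top_iff_exists.1 (show PowerSeries.order b ≠ ⊤ from fun h => by
          rw [h, nsmul_top_enat] at hUV; (try rw [top_add] at hUV); exact ENat.coe_ne_top _ hUV.symm)
        rw [← hB, nsmul_eq_mul] at hUV
        norm_cast at hUV
        omega
  · intro hnm z hz w hw
    obtain ⟨a, b, h, rfl⟩ := (hmem z).1 hz
    obtain ⟨c, d, h', rfl⟩ := (hmem w).1 hw
    obtain ⟨e, he⟩ := Nat.exists_eq_add_of_le hnm
    refine (hmem _).2 ⟨a * c, a * d + b * c, algebraMap _ _ (b * d) * (x ^ e * g * g) +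
      (a • (1 : W4c1hurwitzcpt.RootDisk 3 k) + b • (x ^ m * g)) * h' +
      h * (c • (1 : W4c1hurwitzcpt.RootDisk 3 k) + d • (x ^ m * g) + h' * x ^ n), ?_⟩
    have : x ^ (m + m) = x ^ n * x ^ e := by rw [← pow_add]; congr 1; omega
    rw [pow_add] at this
    simp only [Algebra.smul_def, map_mul, map_add, mul_one]
    linear_combination (algebraMap (PowerSeries k) (W4c1hurwitzcpt.RootDisk 3 k) b *
      algebraMap (PowerSeries k) (W4c1hurwitzcpt.RootDisk 3 k) d * g * g) * this

end Groth.Agent.S19485
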