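import Groth.Statements.S19486
import Groth.Agent.RootDiskLib.Basic

set_option autoImplicit false
universe u
open Crimp

namespace Groth.Agent.S19486

open Groth.Agent.RootDiskLib
set_option backward.isDefEq.respectTransparency false

/-- The emptiness of the stratum rests on the following computation. Over R = k⟦t⟧ with k an
algebraically closed field of characteristic zero, let S̃ = S̃₁ × R where S̃₁ = k⟦x⟧ is regarded as
an R-algebra through t ↦ x ^ 2, that is S̃₁ = R[x] / (x ^ 2 - t), with R embedded diagonally in the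
product. Let m be odd, n > 2m, and let g be a power series with nonzero constant term. Then the
R-submodule of S̃ spanned by 1 = (1, 1) and (x ^ m g, 0) together with the ideal x ^ n S̃₁ × 0 is
not closed under multiplication. (The published item concludes that the corresponding stratum of
crimps is empty; only this computation is stated here, with the ideal read as x ^ n S̃₁ × 0.) -/
theorem result {k : Type u} [Field k] [IsAlgClosed k] [CharZero k]
    (m n : ℕ) (hm : Odd m) (hmn : 2 * m < n) (x g : W4c1hurwitzcpt.RootDisk 2 k)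
    (hx : W4c1hurwitzcpt.RootDisk.val x = PowerSeries.X) (hg : PowerSeries.order (W4c1hurwitzcpt.RootDisk.val g) = 0)
    (M : Submodule (PowerSeries k) (W4c1hurwitzcpt.RootDisk 2 k × PowerSeries k))
    (hM : M = Submodule.span (PowerSeries k) {(1 : W4c1hurwitzcpt.RootDisk 2 k × PowerSeries k), (x ^ m * g, 0)} ⊔
      ((Ideal.span {x ^ n} : Ideal (W4c1hurwitzcpt.RootDisk 2 k)).restrictScalars (PowerSeries k)).prod ⊥) :
    ∃ a ∈ M, ∃ b ∈ M, a * b ∉ M := by
  subst hM
  refine ⟨(x ^ m * g, 0), Submodule.mem_sup_left (Submodule.subset_span (by simp)), (x ^ m * g, 0),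
    Submodule.mem_sup_left (Submodule.subset_span (by simp)), fun hmem => ?_⟩
  simp only [Submodule.mem_sup, Submodule.mem_span_pair] at hmem
  obtain ⟨_, ⟨a, b, rfl⟩, i, hi, he⟩ := hmem
  rw [Submodule.mem_prod, Submodule.restrictScalars_mem, Ideal.mem_span_singleton',
    Submodule.mem_bot] at hi
  obtain ⟨⟨h, hi1⟩, hi2⟩ := hi
  have he2 := congrArg Prod.snd he
  simp [hi2] at he2
  subst he2
  have he1 := congrArg Prod.fst he
  simp [← hi1] at he1
  apply_fun W4c1hurwitzcpt.RootDisk.val at he1
  simp only [map_add, map_mul, map_pow, smul_val, hx] at he1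
  set G := W4c1hurwitzcpt.RootDisk.val g
  set V := PowerSeries.expand 2 (NeZero.ne 2) b * (PowerSeries.X ^ m * G)
  set H := W4c1hurwitzcpt.RootDisk.val h
  have hW : (PowerSeries.order (PowerSeries.X ^ m * G * (PowerSeries.X ^ m * G))) = ((2 * m : ℕ) : ℕ∞) := by
    rw [PowerSeries.order_mul, PowerSeries.order_mul, PowerSeries.order_X_pow, hg, add_zero]
    norm_cast; omega
  have hH : ((n : ℕ) : ℕ∞) ≤ PowerSeries.order (-(H * PowerSeries.X ^ n)) := by
    rw [PowerSeries.order_neg, PowerSeries.order_mul, PowerSeries.order_X_pow]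
    exact le_add_self
  have e1 : V = PowerSeries.X ^ m * G * (PowerSeries.X ^ m * G) + -(H * PowerSeries.X ^ n) := by
    rw [← he1]; ring
  have hlt : ((2 * m : ℕ) : ℕ∞) < PowerSeries.order (-(H * PowerSeries.X ^ n)) :=
    lt_of_lt_of_le (by exact_mod_cast hmn) hH
  have hV : PowerSeries.order V = ((2 * m : ℕ) : ℕ∞) := by
    rw [e1, PowerSeries.order_add_of_order_ne _ _ (by rw [hW]; exact ne_of_lt hlt), hW]
    exact inf_eq_left.2 hlt.le
  rw [PowerSeries.order_mul, PowerSeries.order_mul, PowerSeries.order_X_pow, hg, add_zero,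
    PowerSeries.order_expand] at hV
  obtain ⟨B, hB⟩ := ENat.ne_top_iff_exists.1 (show PowerSeries.order b ≠ ⊤ from fun h => by
    rw [h, nsmul_top_enat, top_add] at hV; exact ENat.coe_ne_top _ hV.symm)
  rw [← hB, nsmul_eq_mul] at hV
  norm_cast at hV
  obtain ⟨r, rfl⟩ := hm
  omega

end Groth.Agent.S19486
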