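import Groth.Statements.S19487
import Mathlib

set_option autoImplicit false
open W4c1frobunstiva

namespace Groth.Agent.S19487

set_option maxHeartbeats 800000

lemma exists_split {n D : ℕ} (S : Finset (Fin n)) (hS : S.card = D) :
    ∃ ε : Fin D ⊕ Fin (n - D) ≃ Fin n, ∀ x, ε x ∈ S ↔ x.isLeft = true := by
  classical
  have h2 : Sᶜ.card = n - D := by rw [Finset.card_compl, hS, Fintype.card_fin]
  let ε : Fin D ⊕ Fin (n - D) ≃ Fin n :=
    (Equiv.sumCongr (S.equivFinOfCardEq hS).symm
      ((Sᶜ.equivFinOfCardEq h2).symm.trans (Equiv.subtypeEquivRight fun x => Finset.mem_compl))).trans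
      (Equiv.sumCompl (· ∈ S))
  refine ⟨ε, fun x => ?_⟩
  cases x with
  | inl a => simp [ε]
  | inr b =>
    have := (((Sᶜ.equivFinOfCardEq h2).symm b)).2
    have hm := Finset.mem_compl.1 this
    simp only [Sum.isLeft_inr, Bool.false_eq_true, iff_false]
    exact hm

lemma card_split (q n D s : ℕ) :
    Fintype.card {e : Fin n → Fin (2 * q + 1) // (∀ i, 1 ≤ (e i : ℕ)) ∧ ∑ i, (e i : ℕ) = s ∧
        (Finset.univ.filter fun i => 2 * (e i : ℕ) < 2 * q + 1).card = D} =
      n.choose D * Fintype.card {fg : (Fin D → Fin (q + 1)) × (Fin (n - D) → Fin (q + 1)) //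
        (∀ i, 1 ≤ (fg.1 i : ℕ)) ∧ (∀ i, 1 ≤ (fg.2 i : ℕ)) ∧
          ∑ i, (fg.1 i : ℕ) + ∑ i, (fg.2 i : ℕ) + (n - D) * q = s} := by
  classical
  choose ε hε using fun S : {S : Finset (Fin n) // S.card = D} => exists_split S.1 S.2
  let mk : {S : Finset (Fin n) // S.card = D} × {fg : (Fin D → Fin (q + 1)) × (Fin (n - D) → Fin (q + 1)) //
        (∀ i, 1 ≤ (fg.1 i : ℕ)) ∧ (∀ i, 1 ≤ (fg.2 i : ℕ)) ∧
          ∑ i, (fg.1 i : ℕ) + ∑ i, (fg.2 i : ℕ) + (n - D) * q = s} → (Fin n → Fin (2 * q + 1)) := fun z i =>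
    Sum.elim (fun a => (⟨(z.2.1.1 a : ℕ), by omega⟩ : Fin (2 * q + 1)))
      (fun b => (⟨(z.2.1.2 b : ℕ) + q, by omega⟩ : Fin (2 * q + 1))) ((ε z.1).symm i)
  have hfilter : ∀ z, (Finset.univ.filter fun i => 2 * (mk z i : ℕ) < 2 * q + 1) = z.1.1 := by
    intro z
    ext i
    obtain ⟨x, rfl⟩ := (ε z.1).surjective i
    rw [hε]
    cases x with
    | inl a => have := (z.2.1.1 a).isLt; simp [mk]; omega
    | inr b =>
      have := z.2.2.2.1 b
      simp only [mk, Equiv.symm_apply_apply, Sum.elim_inr, Sum.isLeft_inr, Bool.false_eq_true, iff_false,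
        Finset.mem_filter, Finset.mem_univ, true_and]
      omega
  have hmem : ∀ z, (∀ i, 1 ≤ (mk z i : ℕ)) ∧ ∑ i, (mk z i : ℕ) = s ∧
      (Finset.univ.filter fun i => 2 * (mk z i : ℕ) < 2 * q + 1).card = D := by
    intro z
    refine ⟨fun i => ?_, ?_, by rw [hfilter]; exact z.1.2⟩
    · obtain ⟨x, rfl⟩ := (ε z.1).surjective i
      cases x with
      | inl a => simpa [mk] using z.2.2.1 a
      | inr b => have := z.2.2.2.1 b; simp [mk]; omega
    · rw [← (ε z.1).sum_comp, Fintype.sum_sum_type]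
      simp only [mk, Equiv.symm_apply_apply, Sum.elim_inl, Sum.elim_inr, Finset.sum_add_distrib,
        Finset.sum_const, Finset.card_univ, Fintype.card_fin, smul_eq_mul]
      have := z.2.2.2.2
      omega
  rw [← Fintype.card_congr (Equiv.ofBijective (fun z => ⟨mk z, hmem z⟩) ⟨?_, ?_⟩), Fintype.card_prod]
  · congr 1
    simp [Fintype.card_finset_len]
  · intro z w h
    have h1 : mk z = mk w := congrArg Subtype.val h
    obtain ⟨S, fg⟩ := z
    obtain ⟨S', fg'⟩ := w
    have hS : S = S' := Subtype.ext (by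
      have := hfilter (S, fg); rw [h1, hfilter] at this; exact this.symm)
    subst hS
    refine Prod.ext rfl (Subtype.ext (Prod.ext (funext fun a => Fin.ext ?_) (funext fun b => Fin.ext ?_)))
    · simpa [mk] using congrArg Fin.val (congrFun h1 (ε S (Sum.inl a)))
    · simpa [mk] using congrArg Fin.val (congrFun h1 (ε S (Sum.inr b)))
  · rintro ⟨e, he, hs, hD⟩
    let S : {S : Finset (Fin n) // S.card = D} := ⟨_, hD⟩
    have hl : ∀ a, 2 * (e (ε S (Sum.inl a)) : ℕ) < 2 * q + 1 := fun a =>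
      (Finset.mem_filter.1 ((hε S (Sum.inl a)).2 rfl)).2
    have hr : ∀ b, ¬ 2 * (e (ε S (Sum.inr b)) : ℕ) < 2 * q + 1 := fun b h =>
      Bool.false_ne_true ((hε S (Sum.inr b)).1 (Finset.mem_filter.2 ⟨Finset.mem_univ _, h⟩))
    let f : Fin D → Fin (q + 1) := fun a => ⟨e (ε S (Sum.inl a)), by have := hl a; omega⟩
    let g : Fin (n - D) → Fin (q + 1) := fun b => ⟨(e (ε S (Sum.inr b)) : ℕ) - q, by
      have := (e (ε S (Sum.inr b))).isLt; omega⟩
    have hg : ∀ b, (g b : ℕ) + q = e (ε S (Sum.inr b)) := fun b => by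
      have := hr b; simp only [g]; omega
    refine ⟨(S, ⟨(f, g), fun a => he _, fun b => ?_, ?_⟩), ?_⟩
    · have := hr b; show 1 ≤ _ - q; omega
    · rw [← hs, ← (ε S).sum_comp, Fintype.sum_sum_type]
      simp only [← hg, Finset.sum_add_distrib, Finset.sum_const, Finset.card_univ, Fintype.card_fin, smul_eq_mul, f]
      omega
    · apply Subtype.ext
      funext i
      obtain ⟨x, rfl⟩ := (ε S).surjective i
      cases x with
      | inl a => simp [mk, f]
      | inr b => exact Fin.ext (by simpa [mk] using hg b)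

/-- The second formula. For p odd and natural numbers n, s, write N_p(n, s) for the number of monomials
of degree s in n variables in which every variable occurs with a positive exponent strictly less
than p, that is of exponent vectors (e_1, …, e_n) with sum s and 1 ≤ e_i ≤ p − 1, and N_p^D(n, s)
for the number of those in which exactly D variables occur with exponent less than p/2. Then
N_p^D(n, s) = C(n, D) · Σ_j N_{(p+1)/2}(D, j) · N_{(p+1)/2}(n − D, s − j − (n − D)(p − 1)/2), the
sum running over 0 ≤ j ≤ s. (Natural-number subtraction is used in the last argument; when it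
truncates and n > D the factor vanishes, as it should. The published setting has p an odd prime;
only p odd is used. The companion inclusion–exclusion expression for N_p(n, s) itself is a separate
statement.) -/
theorem result (p n s D : ℕ) (hp : Odd p) :
    Fintype.card {e : Fin n → Fin p // (∀ i, 1 ≤ (e i : ℕ)) ∧ ∑ i, (e i : ℕ) = s ∧
        (Finset.univ.filter fun i => 2 * (e i : ℕ) < p).card = D} =
      n.choose D * ∑ j ∈ Finset.range (s + 1),
        Fintype.card {e : Fin D → Fin ((p + 1) / 2) // (∀ i, 1 ≤ (e i : ℕ)) ∧ ∑ i, (e i : ℕ) = j} *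
          Fintype.card {e : Fin (n - D) → Fin ((p + 1) / 2) // (∀ i, 1 ≤ (e i : ℕ)) ∧ ∑ i, (e i : ℕ) = (s - j - (n - D) * ((p - 1) / 2))} := by
  classical
  obtain ⟨q, rfl⟩ := hp
  have e1 : (2 * q + 1 + 1) / 2 = q + 1 := by omega
  have e2 : (2 * q + 1 - 1) / 2 = q := by omega
  rw [card_split, e1, e2]
  congr 1
  rw [Fintype.card_subtype, Finset.card_eq_sum_card_fiberwise (t := Finset.range (s + 1))
    (f := fun fg => ∑ i, (fg.1 i : ℕ)) (fun fg hfg => Finset.mem_range.2 (by
      have := (Finset.mem_filter.1 hfg).2.2.2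
      show ∑ i, (fg.1 i : ℕ) < s + 1
      rw [e2] at *
      omega))]
  refine Finset.sum_congr rfl fun j hj => ?_
  rw [Fintype.card_subtype, Fintype.card_subtype, ← Finset.card_product]
  congr 1
  ext ⟨f, g⟩
  simp only [Finset.mem_filter, Finset.mem_univ, true_and, Finset.mem_product]
  have hj' := Finset.mem_range.1 hj
  constructor
  · rintro ⟨⟨hf, hg, hsum⟩, hfj⟩
    exact ⟨⟨hf, hfj⟩, hg, by omega⟩
  · rintro ⟨⟨hf, hfj⟩, hg, hgs⟩
    refine ⟨⟨hf, hg, ?_⟩, hfj⟩
    have hlow : n - D ≤ ∑ i, (g i : ℕ) := by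
      simpa using Finset.card_nsmul_le_sum Finset.univ (fun i => (g i : ℕ)) 1 fun i _ => hg i
    rcases Nat.eq_zero_or_pos (n - D) with h0 | h0
    · have hgu : ∑ i, (g i : ℕ) = 0 := Finset.sum_eq_zero fun i _ => absurd i.isLt (by omega)
      simp only [h0, zero_mul] at hgs ⊢; omega
    · omega

end Groth.Agent.S19487
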