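import Groth.Statements.S19488
import Groth.Agent.DCohLib.ClosedPush
import Mathlib

set_option autoImplicit false
universe u
open CategoryTheory CategoryTheory.Limits AlgebraicGeometry
open W4c1frobunstiva

namespace Groth.Agent.S19488

open CategoryTheory Limits AlgebraicGeometry

lemma epi_kernelComparison {A B : Type*} [Category A] [Category B] [Abelian A] [Abelian B]
    (F : A ⥤ B) [F.Additive] [PreservesFiniteColimits F] {X Y : A} (g : X ⟶ Y) [Epi g] :
    Epi (kernelComparison g F) := by
  let S := ShortComplex.mk (kernel.ι g) g (kernel.condition g)
  have hS : S.Exact := S.exact_of_f_is_kernel (kernelIsKernel g)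
  haveI : Epi S.g := inferInstanceAs (Epi g)
  haveI : Mono S.f := inferInstanceAs (Mono (kernel.ι g))
  have h := ((F.preservesFiniteColimits_iff_forall_exact_map_and_epi.1 inferInstance) S (ShortComplex.ShortExact.mk hS)).1
  exact h.epi_kernelLift

/-- Fix a closed immersion of schemes f : S → T, an O_T-module G, an O_S-module E and an epimorphism ψ :
G → f_*E. Then the morphism ψ′ : f^*G → E that corresponds to ψ under the adjunction between
pullback and pushforward (it is the pullback f^*ψ followed by the counit f^*f_*E → E, an isomorphism
for a closed immersion) is an epimorphism, and the canonical map f^*(ker ψ) → ker(f^*ψ) is an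
epimorphism. (The published statement takes G and E locally free, which these two assertions do not
use.) -/
theorem result
    {S T : Scheme.{u}} (f : S ⟶ T) [IsClosedImmersion f] (G : T.Modules) (E : S.Modules)
    (ψ : G ⟶ (Scheme.Modules.pushforward f).obj E) [Epi ψ] :
    Epi (((Scheme.Modules.pullbackPushforwardAdjunction f).homEquiv G E).symm ψ) ∧
      Epi (kernelComparison ψ (Scheme.Modules.pullback f)) := by
  haveI := Groth.Agent.DCohLib.isIso_counit_closedImmersion f E
  haveI : (Scheme.Modules.pullback f).IsLeftAdjoint :=
    (Scheme.Modules.pullbackPushforwardAdjunction f).isLeftAdjoint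
  haveI : PreservesFiniteColimits (Scheme.Modules.pullback f) := inferInstance
  refine ⟨?_, epi_kernelComparison _ ψ⟩
  rw [Adjunction.homEquiv_counit]
  infer_instance

end Groth.Agent.S19488
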