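import Groth.Statements.S1952
import Groth.Agent.ChiCycLib.Pull
import Groth.Agent.ChiCycLib.Diag
import Groth.Agent.IMultLib.Chi
import Groth.Agent.CycLib.P1Rat
import Groth.Agent.ProjSmoothLib.Basic

set_option autoImplicit false
set_option backward.isDefEq.respectTransparency false
set_option linter.style.haveILetI false
universe u
open CategoryTheory CategoryTheory.Limits AlgebraicGeometry
attribute [local instance] HasDerivedCategory.standard
open IntMult

namespace Groth.Agent.S1952

open Groth.Agent Groth.Agent.CycLib Groth.Agent.ChiCycLib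

theorem length_ringEquiv {R S : Type u} [CommRing R] [CommRing S] (e : R ≃+* S) :
    Module.length R R = Module.length S S := by
  letI := e.toRingHom.toAlgebra
  rw [← Module.length_eq_of_surjective (M := S) (R := S) (show Function.Surjective (algebraMap R S) from e.surjective)]
  exact (LinearEquiv.ofBijective (Algebra.linearMap R S) e.bijective).length_eq

theorem ord_quot_eq {A : Type u} [CommRing A] (Q : Ideal A) (f : A) :
    Ring.ord (A ⧸ Q) (Ideal.Quotient.mk Q f) = Module.length A (A ⧸ (Q ⊔ Ideal.span {f})) := by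
  rw [Ring.ord, ← Set.image_singleton, ← Ideal.map_span,
    Module.length_eq_of_surjective (M := A ⧸ (Q ⊔ Ideal.span {f})) (R := A ⧸ (Q ⊔ Ideal.span {f})) Ideal.Quotient.mk_surjective,
    Module.length_eq_of_surjective (M := (A ⧸ Q) ⧸ (Ideal.span {f}).map (Ideal.Quotient.mk Q))
      (R := (A ⧸ Q) ⧸ (Ideal.span {f}).map (Ideal.Quotient.mk Q)) Ideal.Quotient.mk_surjective]
  exact length_ringEquiv (DoubleQuot.quotQuotEquivQuotSup Q (Ideal.span {f}))

/-- Let α be a (k + 1)-cycle on P^1_X (X a nonsingular variety, P^1_X of dimension n + 1 with dimension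
function δP) intersecting the divisors X × 0 and X × ∞ (the images of the two sections, as prime
cycles) properly. Then pr_{X,*}(α · [X × 0] − α · [X × ∞]) ∼_rat 0 as a k-cycle on X (the source's
two distinct closed points a, b of P^1 are taken to be 0 and ∞), for any cycle on P^1_X with the
coefficients of α · [X × 0] − α · [X × ∞]. Here X is a nonsingular variety over the algebraically
closed field K (smooth, separated, quasi-compact, integral) with dimension function δ (transcendence
degree) and n = dim X; cycles are Mathlib AlgebraicCycles with Cyc.Zk membership, proper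
intersection is IntMult.IntersectProperly and α · β is the Tor-formula intersection product on
coefficient functions (IntMult.interProd), bundled where needed as 'any cycle with these
coefficients'. -/
theorem result (K : Type u) [Field K] [IsAlgClosed K] (X : Scheme.{u}) (f : X ⟶ Spec (CommRingCat.of K)) [Smooth f] [IsSeparated f] [QuasiCompact f] [IsIntegral X] (δ : X → ℤ) (hX : Cyc.IsSetup X δ) (hδ : Cyc.DeltaCompat f δ (fun _ => 0)) (n : ℤ) (hn : δ (genericPoint X) = n) (δP : ↥(CohB1.ProjSpaceOver 1 X) → ℤ) (hPX : Cyc.IsSetup (CohB1.ProjSpaceOver 1 X) δP) (hP : Cyc.DeltaCompat (CohB1.ProjSpaceOver.toBase 1 X) δP δ) [QuasiCompact (CohB1.ProjSpaceOver.toBase 1 X)] (k : ℤ) (α : AlgebraicCycle (CohB1.ProjSpaceOver 1 X) ℤ) (hα : α ∈ Cyc.Zk _ δP (k + 1)) (h0 : IntMult.IntersectProperly δP (n + 1) ⇑α (Set.indicator {P1.sect X 0 (genericPoint X)} 1)) (h1 : IntMult.IntersectProperly δP (n + 1) ⇑α (Set.indicator {P1.sect X 1 (genericPoint X)} 1)) (γ : AlgebraicCycle (CohB1.ProjSpaceOver 1 X) ℤ) (hγ : ⇑γ = IntMult.interProd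 δP (n + 1) ⇑α (Set.indicator {P1.sect X 0 (genericPoint X)} 1) - IntMult.interProd δP (n + 1) ⇑α (Set.indicator {P1.sect X 1 (genericPoint X)} 1)) : Cyc.RatEquivZero δ k (AlgebraicCycle.map (CohB1.ProjSpaceOver.toBase 1 X) δP δ γ) := by
  classical
  haveI := hX.1
  haveI := hPX.1
  haveI : IsProper (CohB1.ProjSpaceOver.toBase 1 X) := MorphismProperty.pullback_snd _ _ inferInstance
  haveI := ProjSmoothLib.smooth_toSpec 1 (ULift.{u} ℤ)
  haveI : Smooth (CohB1.ProjSpaceOver.toBase 1 X) := MorphismProperty.pullback_snd _ _ inferInstance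
  have hδP := hPX.2.2
  have hL := P1Sect.isInvertible_lineBundle X
  have hw : ∀ ξ, ∃ w : Cyc.secFibre (P1Sect.lineBundle X) ξ, w ≠ 0 := fun ξ => by
    obtain ⟨t, ht⟩ := exists_genAt hL ξ
    have ht' : Function.Bijective fun r : (CohB1.ProjSpaceOver 1 X).presheaf.stalk ξ => r • t := by
      have := ht ξ specializes_rfl
      rwa [TopCat.Presheaf.stalkSpecializes_refl] at this
    exact ⟨mkF _ ξ t, fun e => one_ne_zero (α := (CohB1.ProjSpaceOver 1 X).residueField ξ) (by
      rw [← map_one ((CohB1.ProjSpaceOver 1 X).residue ξ).hom]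
      exact (smul_mkF_eq_zero_iff ht' 1).1 (by rw [one_smul]; exact e))⟩
  choose w hw using hw
  have hgen : ∀ j : Fin (1 + 1), δP (P1.sect X j (genericPoint X)) = n := fun j => by
    rw [(P1Rat.delta_sect hP j _).1, hn]
  -- the product with a section is the cap product
  have main : ∀ j : Fin (1 + 1), IntMult.IntersectProperly δP (n + 1) ⇑α (Set.indicator {P1.sect X j (genericPoint X)} 1) →
      ∀ x, Cyc.c1CapFun δP (P1Sect.lineBundle X) ⇑α (Cyc.gysinChoice (P1Sect.lineBundle X) (P1Sect.sectEq j X) w) x =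
        IntMult.interProd δP (n + 1) ⇑α (Set.indicator {P1.sect X j (genericPoint X)} 1) x := by
    intro j hj x
    have hD := P1Sect.isZeroSchemeOf_sect j X
    have hind : ∀ {z}, Set.indicator {P1.sect X j (genericPoint X)} (1 : ↥(CohB1.ProjSpaceOver 1 X) → ℤ) z ≠ 0 →
        z = P1.sect X j (genericPoint X) := fun {z} h => Set.mem_singleton_iff.1 (Set.mem_of_indicator_ne_zero h)
    have hnotmem : ∀ η, α η ≠ 0 → η ∉ Set.range (P1.sect X j) := by
      rintro η hη ⟨τ, rfl⟩
      have h1 := hj _ (P1.sect X j (genericPoint X)) (P1.sect X j τ) hη (by simp)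
        specializes_rfl ((genericPoint_specializes τ).map (P1.sect X j).continuous)
      rw [hgen j] at h1
      omega
    by_cases hx : δP x = k ∧ x ∈ Set.range (P1.sect X j)
    swap
    · rw [show IntMult.interProd δP (n + 1) ⇑α (Set.indicator {P1.sect X j (genericPoint X)} 1) x = 0 from ?_]
      · refine finsum_eq_zero_of_forall_eq_zero fun η => by_contra fun hne => hx ?_
        have h1 := (specializes_of_secDivFun_ne_zero (right_ne_zero_of_mul hne)).2
        have h2 : δP η = k + 1 := by_contra fun e => left_ne_zero_of_mul hne (hα _ e)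
        exact ⟨by omega, mem_range_of_gysin hδP hL hD (right_ne_zero_of_mul hne)⟩
      · refine finsum_eq_zero_of_forall_eq_zero fun p => by_contra fun hne => hx ?_
        have h1 := hind (right_ne_zero_of_mul (left_ne_zero_of_mul hne))
        have h2 : δP p.1.1 = k + 1 := by_contra fun e => left_ne_zero_of_mul (left_ne_zero_of_mul hne) (hα _ e)
        have h3 := p.2.2.2
        have h4 := p.2.2.1
        rw [h1] at h3 h4
        rw [hgen j] at h3
        exact ⟨by omega, h4.mem_closed (P1.sect X j).isClosedEmbedding.isClosed_range ⟨_, rfl⟩⟩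
    obtain ⟨hxk, d, rfl⟩ := hx
    haveI := Groth.Agent.ASp.isRegularLocalRing_stalk_of_smooth_field (CohB1.ProjSpaceOver.toBase 1 X ≫ f) (P1.sect X j d)
    let A := (CohB1.ProjSpaceOver 1 X).presheaf.stalk (P1.sect X j d)
    haveI : IsDomain A := RegLocal.isDomain _
    let pt : PrimeSpectrum A → ↥(CohB1.ProjSpaceOver 1 X) := fun P => (CohB1.ProjSpaceOver 1 X).fromSpecStalk (P1.sect X j d) P
    have hinj : Function.Injective pt := ((CohB1.ProjSpaceOver 1 X).fromSpecStalk (P1.sect X j d)).isEmbedding.injective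
    obtain ⟨t₀, ht₀⟩ := exists_genAt hL (P1.sect X j d)
    have htx : Function.Bijective fun a : A => a • t₀ := by
      have := ht₀ _ specializes_rfl
      rwa [TopCat.Presheaf.stalkSpecializes_refl] at this
    obtain ⟨g, hg⟩ := htx.2 ((P1Sect.lineBundle X).presheaf.germ ⊤ _ trivial (P1Sect.sectEq j X))
    change g • t₀ = _ at hg
    obtain ⟨t', g', ht', hg', hker⟩ := hD.2 d
    rw [← span_coeff_eq htx ht' hg.symm hg'] at hker
    obtain ⟨D, hDker, hDpt⟩ : ∃ D : PrimeSpectrum A, D.asIdeal = Ideal.span {g} ∧ pt D = P1.sect X j (genericPoint X) := by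
      let b : PrimeSpectrum (X.presheaf.stalk d) := ⟨⊥, Ideal.isPrime_bot⟩
      refine ⟨PrimeSpectrum.comap ((P1.sect X j).stalkMap d).hom b, (RingHom.ker_eq_comap_bot _).symm.trans hker, ?_⟩
      have hb : X.fromSpecStalk d b = genericPoint X := by
        obtain ⟨p, hp⟩ := exists_fromSpecStalk (genericPoint_specializes d)
        have h1 : X.fromSpecStalk d b ⤳ genericPoint X := hp ▸ (fromSpecStalk_specializes_iff b p).2 bot_le
        exact (h1.antisymm (genericPoint_specializes _)).eq
      rw [← hb]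
      exact congrArg (fun φ : Spec (X.presheaf.stalk d) ⟶ CohB1.ProjSpaceOver 1 X => φ b)
        (Scheme.SpecMap_stalkMap_fromSpecStalk (f := P1.sect X j) (x := d))
    let S := (finite_cycle α (P1.sect X j d)).toFinset
    have hS : ∀ {P}, P ∈ S → α (pt P) ≠ 0 := fun {P} h => (finite_cycle α _).mem_toFinset.1 h
    have hSk : ∀ {P}, P ∈ S → δP (pt P) = k + 1 := fun {P} h => by_contra fun e => hS h (hα _ e)
    rw [interProd_eq_sum (δ := δP) (r := k + 1) (s := n) _ _ (P1.sect X j d) (by omega) S {D} (fun P hP => hSk hP)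
      (fun P hP => by
        rw [Finset.mem_singleton.1 hP]
        show δP (pt D) = n
        rw [hDpt, hgen j])
      (fun P hP => (finite_cycle α _).mem_toFinset.2 hP)
      (fun P hP => Finset.mem_singleton.2 (hinj ((hind hP).trans hDpt.symm)))]
    show ∑ᶠ η, α η * Cyc.secDivFun δP (P1Sect.lineBundle X) η
      (Cyc.gysinChoice (P1Sect.lineBundle X) (P1Sect.sectEq j X) w η) (P1.sect X j d) = _
    rw [finsum_eq_sum_of_support_subset _ (s := S.map ⟨pt, hinj⟩) fun η hη => ?_, Finset.sum_map]
    swap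
    · obtain ⟨P, hP⟩ := exists_fromSpecStalk (specializes_of_secDivFun_ne_zero (right_ne_zero_of_mul hη)).1
      exact Finset.mem_coe.2 (Finset.mem_map.2 ⟨P, (finite_cycle α _).mem_toFinset.2
        (by show α ((CohB1.ProjSpaceOver 1 X).fromSpecStalk (P1.sect X j d) P) ≠ 0
            rw [hP]; exact left_ne_zero_of_mul hη), hP⟩)
    refine Finset.sum_congr rfl fun P hP => ?_
    rw [Finset.sum_singleton, show Set.indicator {P1.sect X j (genericPoint X)} (1 : ↥(CohB1.ProjSpaceOver 1 X) → ℤ)
      ((CohB1.ProjSpaceOver 1 X).fromSpecStalk (P1.sect X j d) D) = 1 by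
        rw [show (CohB1.ProjSpaceOver 1 X).fromSpecStalk (P1.sect X j d) D = P1.sect X j (genericPoint X) from hDpt,
          Set.indicator_of_mem (Set.mem_singleton _), Pi.one_apply], mul_one]
    show α (pt P) * _ = α (pt P) * _
    congr 1
    show Cyc.secDivFun δP (P1Sect.lineBundle X) (pt P)
      (Cyc.gysinChoice (P1Sect.lineBundle X) (P1Sect.sectEq j X) w (pt P)) (P1.sect X j d) = chiQ P D
    have hη := fromSpecStalk_specializes P
    have hkerP := ker_specMap_eq P hη
    have hdk : δP (P1.sect X j d) + 1 = δP (pt P) := by rw [hxk, hSk hP]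
    have hnotD : pt P ∉ Set.range (P1.sect X j) := hnotmem _ (hS hP)
    have hs' : ((P1Sect.lineBundle X).presheaf.germ ⊤ (pt P) trivial) (P1Sect.sectEq j X) =
        (CohB1.ProjSpaceOver 1 X).presheaf.stalkSpecializes hη g • (P1Sect.lineBundle X).presheaf.stalkSpecializes hη t₀ := by
      rw [← RefOne.stalkSpecializes_smul, hg, TopCat.Presheaf.germ_stalkSpecializes_apply]
    have hgP : g ∉ P.asIdeal := fun hm => hnotD (by
      have h1 : D.asIdeal ≤ P.asIdeal := by rw [hDker, Ideal.span_singleton_le_iff_mem]; exact hm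
      exact ((fromSpecStalk_specializes_iff D P).2 h1).mem_closed
        (P1.sect X j).isClosedEmbedding.isClosed_range ⟨_, hDpt.symm⟩)
    have hne : Cyc.specMap (P1.sect X j d) (pt P) hη g ≠ 0 := fun e => hgP (by rw [← hkerP]; exact e)
    have hg0 : g ≠ 0 := fun e => hgP (e ▸ P.asIdeal.zero_mem)
    have hgm : g ∈ IsLocalRing.maximalIdeal A :=
      IsLocalRing.le_maximalIdeal D.2.ne_top (hDker ▸ Ideal.mem_span_singleton_self g)
    rw [(germ_gen hL hD hnotD).2, hs', mkF, Submodule.Quotient.mk_smul, secDivFun_of hη hdk,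
      show Cyc.secOrdAt (P1Sect.lineBundle X) (pt P) (P1.sect X j d) hη
          ((CohB1.ProjSpaceOver 1 X).presheaf.stalkSpecializes hη g •
          (Submodule.Quotient.mk ((P1Sect.lineBundle X).presheaf.stalkSpecializes hη t₀) :
            Cyc.secFibre (P1Sect.lineBundle X) (pt P))) =
        Cyc.ordAt (P1.sect X j d) (pt P) hη (Cyc.specMap (P1.sect X j d) (pt P) hη g) from
        secOrdAt_eq hδP hη hdk htx (ht₀ _ hη) _, ordAt_specMap hδP hη hdk hne,
      show Ring.ord (Cyc.LocQuot (P1.sect X j d) _ hη) (Ideal.Quotient.mk _ g) =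
          Ring.ord (A ⧸ P.asIdeal) (Ideal.Quotient.mk _ g) from by
        rw [show Ideal.Quotient.mk P.asIdeal g = Ideal.quotEquivOfEq hkerP (Ideal.Quotient.mk _ g) from
          (Ideal.quotEquivOfEq_mk hkerP g).symm, TameLib.ord_ringEquiv],
      ord_quot_eq]
    unfold chiQ
    rw [hDker, ← Ideal.ofList_singleton g]
    refine (IMultLib.chi_eq_length P.asIdeal [g] (fun y hy => (List.mem_singleton.1 hy) ▸ hgm) ?_ ?_).symm
    · exact (RingTheory.Sequence.isWeaklyRegular_singleton_iff A g).2 fun a b h => mul_left_cancel₀ hg0 h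
    · refine (RingTheory.Sequence.isWeaklyRegular_singleton_iff _ g).2 fun a b h => ?_
      haveI : IsDomain (A ⧸ P.asIdeal) := Ideal.Quotient.isDomain P.asIdeal
      have hg1 : Ideal.Quotient.mk P.asIdeal g ≠ 0 := fun e => hgP (Ideal.Quotient.eq_zero_iff_mem.1 e)
      refine mul_left_cancel₀ hg1 ?_
      simpa only [Algebra.smul_def, Ideal.Quotient.algebraMap_eq] using h
  let γc : Fin (1 + 1) → AlgebraicCycle (CohB1.ProjSpaceOver 1 X) ℤ := fun j =>
    c1Cycle hδP hL α (Cyc.gysinChoice (P1Sect.lineBundle X) (P1Sect.sectEq j X) w)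
  have hrat : Cyc.RatEquiv δP k (γc 0) (γc 1) :=
    ratEquiv_c1Cap hδP hL hα (gysinChoice_ne_zero hw) (gysinChoice_ne_zero hw) rfl rfl
  have hγ' : γ = γc 0 - γc 1 := Function.locallyFinsuppWithin.ext fun x => by
    show γ x = Cyc.c1CapFun δP _ _ _ x - Cyc.c1CapFun δP _ _ _ x
    rw [hγ, main 0 h0, main 1 h1]
    rfl
  rw [hγ']
  exact ratEquivZero_map (CohB1.ProjSpaceOver.toBase 1 X) hPX hX hP hrat

end Groth.Agent.S1952
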