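import Groth.Statements.S1949
import Groth.Agent.ChiCycLib.Sect
import Groth.Agent.CycLib.PB.FibCycle
import Groth.Agent.S1952

set_option autoImplicit false
set_option linter.style.haveILetI false
set_option maxHeartbeats 800000
set_option backward.isDefEq.respectTransparency false
universe u
open CategoryTheory CategoryTheory.Limits AlgebraicGeometry
attribute [local instance] HasDerivedCategory.standard
open IntMult

namespace Groth.Agent.S1949

theorem sect_toP1 {X Y : Scheme.{u}} (f : X ⟶ Y) (i : Fin (1 + 1)) :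
    P1.sect X i ≫ P1.toP1 f = f ≫ P1.sect Y i := by
  apply pullback.hom_ext
  · erw [Category.assoc, Category.assoc, pullback.lift_fst, pullback.lift_fst_assoc, Category.comp_id,
      pullback.lift_fst]
    rw [show specULiftZIsTerminal.from X = f ≫ specULiftZIsTerminal.from Y from specULiftZIsTerminal.hom_ext _ _,
      Category.assoc]
  · erw [Category.assoc, Category.assoc, pullback.lift_snd, pullback.lift_snd_assoc, Category.id_comp,
      pullback.lift_snd, Category.comp_id]

/-- Let W → P^1_X be a closed immersion with W integral of dimension s + 1 (for the dimension function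
δP on P^1_X induced from δ) dominating P^1_K (dense image under P^1_X → P^1_K), W_0, W_∞ → X its
pullbacks along the sections at 0 and ∞, and V ⊆ X the closure of a point v with δ(v) = r, such that
[V] intersects [W_0]_s and [W_∞]_s properly. Then [V]·[W_0]_s ∼_rat [V]·[W_∞]_s as (r + s −
n)-cycles on X. (The source allows any two closed points a, b of P^1; they are taken to be 0 and ∞,
to which any two distinct closed points are carried by an automorphism of P^1 over the algebraically
closed K.) Here X is a nonsingular variety over the algebraically closed field K (smooth, separated,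
quasi-compact, integral) with dimension function δ (transcendence degree) and n = dim X; cycles are
Mathlib AlgebraicCycles with Cyc.Zk membership, proper intersection is IntMult.IntersectProperly and
α · β is the Tor-formula intersection product on coefficient functions (IntMult.interProd), bundled
where needed as 'any cycle with these coefficients'. -/
theorem result (K : Type u) [Field K] [IsAlgClosed K] (X : Scheme.{u}) (f : X ⟶ Spec (CommRingCat.of K)) [Smooth f] [IsSeparated f] [QuasiCompact f] [IsIntegral X] (δ : X → ℤ) (hX : Cyc.IsSetup X δ) (hδ : Cyc.DeltaCompat f δ (fun _ => 0)) (n : ℤ) (hn : δ (genericPoint X) = n) (δP : ↥(CohB1.ProjSpaceOver 1 X) → ℤ) (hP : Cyc.DeltaCompat (CohB1.ProjSpaceOver.toBase 1 X) δP δ) (r s : ℤ) (W : Scheme.{u}) [IsIntegral W] (ιW : W ⟶ CohB1.ProjSpaceOver 1 X) [IsClosedImmersion ιW] (hW : δP (ιW (genericPoint W)) = s + 1) (hdom : ∀ U : (CohB1.ProjSpaceOver 1 (Spec (CommRingCat.of K))).Opens, (U : Set ↥(CohB1.ProjSpaceOver 1 (Spec (CommRingCat.of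 K)))).Nonempty → ∃ w : W, (ιW ≫ P1.toP1 f) w ∈ U) (v : X) (hv : δ v = r) (h0 : IntMult.IntersectProperly δ n (Set.indicator {v} 1) (Cyc.subschemeFun δ s (pullback.snd ιW (P1.sect X 0)))) (h1 : IntMult.IntersectProperly δ n (Set.indicator {v} 1) (Cyc.subschemeFun δ s (pullback.snd ιW (P1.sect X 1)))) (γ₀ γ₁ : AlgebraicCycle X ℤ) (hγ₀ : ⇑γ₀ = IntMult.interProd δ n (Set.indicator {v} 1) (Cyc.subschemeFun δ s (pullback.snd ιW (P1.sect X 0)))) (hγ₁ : ⇑γ₁ = IntMult.interProd δ n (Set.indicator {v} 1) (Cyc.subschemeFun δ s (pullback.snd ιW (P1.sect X 1)))) : Cyc.RatEquiv δ (r + s - n) γ₀ γ₁ := by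
  classical
  haveI := hX.1
  haveI : CompactSpace X := QuasiCompact.compactSpace_of_compactSpace f
  haveI : IsNoetherian X := {}
  have H : ChiCycLib.Base f δ δP n := ⟨‹_›, ‹_›, ‹_›, hX, hδ, hn, hP⟩
  haveI := ChiCycLib.smooth_pr (X := X)
  haveI : IsProper (CohB1.ProjSpaceOver.toBase 1 X) := MorphismProperty.pullback_snd _ _ inferInstance
  haveI := H.intP
  have hPX := H.setupP
  haveI := hPX.1
  haveI : CompactSpace ↥(CohB1.ProjSpaceOver 1 X) :=
    QuasiCompact.compactSpace_of_compactSpace (CohB1.ProjSpaceOver.toBase 1 X)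
  haveI : IsNoetherian (CohB1.ProjSpaceOver 1 X) := {}
  set c := ιW (genericPoint W) with hc
  set η := H.gen v with hη
  have hηδ : δP η = r + 1 := by rw [hη, H.delta_gen, hv]
  have hηv : CohB1.ProjSpaceOver.toBase 1 X η = v := H.pr_gen v
  let D : Fin (1 + 1) → ↥(CohB1.ProjSpaceOver 1 X) := fun j => P1.sect X j (genericPoint X)
  have hDδ : ∀ j, δP (D j) = n := fun j => (H.delta_sect j _).trans hn
  have hDrange : ∀ {j} {t}, D j ⤳ t → t ∈ Set.range (P1.sect X j) := fun {j t} h =>
    h.mem_closed (P1.sect X j).isClosedEmbedding.isClosed_range ⟨_, rfl⟩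
  have hone : ∀ {Z : Scheme.{u}} (a : Z), Set.indicator {a} (1 : Z → ℤ) a ≠ 0 := fun {Z} a => by
    rw [Set.indicator_of_mem (Set.mem_singleton a)]
    exact one_ne_zero
  have hmem : ∀ {Z : Scheme.{u}} {a b : Z}, Set.indicator {a} (1 : Z → ℤ) b ≠ 0 → b = a := fun {Z a b} h =>
    Set.mem_singleton_iff.1 (Set.mem_of_indicator_ne_zero h)
  have hnot : ∀ j, c ∉ Set.range (P1.sect X j) := by
    rintro j ⟨x, hx⟩
    have hsm : ∀ i, IsClosedImmersion (P1.sect (Spec (CommRingCat.of K)) i) := fun i => inferInstance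
    let U : (CohB1.ProjSpaceOver 1 (Spec (CommRingCat.of K))).Opens :=
      ⟨(Set.range (P1.sect (Spec (CommRingCat.of K)) j))ᶜ,
        (P1.sect (Spec (CommRingCat.of K)) j).isClosedEmbedding.isClosed_range.isOpen_compl⟩
    let p : Spec (CommRingCat.of K) := Classical.arbitrary _
    obtain ⟨w, hw⟩ := hdom U ⟨P1.sect (Spec (CommRingCat.of K)) (1 - j) p, fun ⟨q, hq⟩ => by
      rw [Subsingleton.elim q p] at hq
      rcases (show ∀ a : Fin (1 + 1), a = 0 ∨ a = 1 by decide) j with rfl | rfl
      · exact ChiCycLib.sect_ne p hq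
      · exact ChiCycLib.sect_ne p hq.symm⟩
    obtain ⟨x', hx'⟩ := ((genericPoint_specializes w).map ιW.continuous).mem_closed
      (P1.sect X j).isClosedEmbedding.isClosed_range ⟨x, hx⟩
    refine hw ⟨f x', ?_⟩
    rw [Scheme.Hom.comp_apply, ← hx', ← Scheme.Hom.comp_apply, ← Scheme.Hom.comp_apply, sect_toP1]
  have hWle : ∀ j x, c ⤳ P1.sect X j x → δ x ≤ s := fun j x h => by
    have h1 := (hPX.2.2 _ _ h fun e => hnot j ⟨x, e.symm⟩).1
    rw [H.delta_sect, hW] at h1
    omega
  have hj : ∀ j : Fin (1 + 1), IntMult.IntersectProperly δ n (Set.indicator {v} 1)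
      (Cyc.subschemeFun δ s (pullback.snd ιW (P1.sect X j))) := by
    intro j
    fin_cases j
    · exact h0
    · exact h1
  have hk : ∀ j x, η ⤳ P1.sect X j x → c ⤳ P1.sect X j x → δ x ≤ r + s - n := by
    intro j x hηx hcx
    obtain ⟨x', hx', hcx', hd'⟩ := H.exists_component j hcx (hnot j)
    have hx's : δ x' = s := by omega
    have hne := (H.interProd_sect j ιW hW (hnot j) x' hx's).2 hcx'
    have hvx := hηx.map (CohB1.ProjSpaceOver.toBase 1 X).continuous
    rw [hηv, show CohB1.ProjSpaceOver.toBase 1 X (P1.sect X j x) = x from ChiCycLib.pr_sect j x] at hvx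
    have := hj j v x' x (hone v) hne hvx hx'
    omega
  have hnear : ∀ t j d, η ⤳ t → c ⤳ t → t ⤳ P1.sect X j d → δP t ≤ r + s - n + 1 := by
    intro t j d h1t h2t h3t
    by_cases ht : t ∈ Set.range (P1.sect X j)
    · obtain ⟨x, rfl⟩ := ht
      rw [H.delta_sect]
      have := hk j x h1t h2t
      omega
    · obtain ⟨x, -, hx, hd'⟩ := H.exists_component j h3t ht
      have := hk j x (h1t.trans hx) (h2t.trans hx)
      omega
  let Z : Set ↥(CohB1.ProjSpaceOver 1 X) := closure {η} ∩ closure {c}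
  have hZ : IsClosed Z := isClosed_closure.inter isClosed_closure
  have hZi : ∀ {t}, t ∈ Z ↔ η ⤳ t ∧ c ⤳ t := fun {t} =>
    and_congr specializes_iff_mem_closure.symm specializes_iff_mem_closure.symm
  let Good : Set ↥(CohB1.ProjSpaceOver 1 X) :=
    {τ | η ⤳ τ ∧ c ⤳ τ ∧ δP τ = r + s - n + 1 ∧ ∃ j d, τ ⤳ P1.sect X j d}
  have hGood : Good.Finite := ChiCycLib.finite_maximal hZ _ (fun τ h => hZi.2 ⟨h.1, h.2.1⟩)
    fun τ ⟨_, _, hτ, j, d, hd⟩ τ' hτ' h => by
      by_contra hne
      have h1 := (hPX.2.2 _ _ h hne).1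
      have h2 := hnear τ' j d (hZi.1 hτ').1 (hZi.1 hτ').2 (h.trans hd)
      omega
  let g := IntMult.interProd δP (n + 1) (Set.indicator {η} 1) (Set.indicator {c} 1)
  let αg : AlgebraicCycle (CohB1.ProjSpaceOver 1 X) ℤ :=
    CycLib.PB.cycleOfFinite (fun τ => if τ ∈ Good then g τ else 0) (hGood.subset fun τ hτ => by
      by_contra h
      exact hτ (if_neg h))
  have hαg : ∀ {τ}, αg τ ≠ 0 → τ ∈ Good := fun {τ} h => by
    by_contra hne
    exact h (if_neg hne)
  have hαgk : αg ∈ Cyc.Zk _ δP (r + s - n + 1) := fun τ hτ => if_neg fun h => hτ h.2.2.1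
  have hproper : ∀ j, IntMult.IntersectProperly δP (n + 1) ⇑αg (Set.indicator {D j} 1) := by
    intro j a b t ha hb hat hbt
    obtain ⟨h1', h2', h3', -⟩ := hαg ha
    rw [hmem hb] at hbt ⊢
    obtain ⟨x, rfl⟩ := hDrange hbt
    have h4 := hk j x (h1'.trans hat) (h2'.trans hat)
    rw [H.delta_sect, hDδ, h3']
    omega
  let Γj : Fin (1 + 1) → ↥(CohB1.ProjSpaceOver 1 X) → ℤ := fun j =>
    IntMult.interProd δP (n + 1) ⇑αg (Set.indicator {D j} 1)
  have hΓ : ∀ {j} {t}, Γj j t ≠ 0 → t ∈ Z ∧ t ∈ Set.range (P1.sect X j) ∧ δP t = r + s - n := fun {j t} h => by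
    obtain ⟨a, b, ha, hb, hat, hbt, hab⟩ := ChiCycLib.interProd_ne_zero h
    obtain ⟨h1', h2', h3', -⟩ := hαg ha
    rw [hmem hb] at hbt hab
    rw [hDδ] at hab
    exact ⟨hZi.2 ⟨h1'.trans hat, h2'.trans hat⟩, hDrange hbt, by omega⟩
  have hΓfin : ∀ j, (Function.support (Γj j)).Finite := fun j =>
    ChiCycLib.finite_maximal (hZ.inter (P1.sect X j).isClosedEmbedding.isClosed_range) _
      (fun t ht => ⟨(hΓ ht).1, (hΓ ht).2.1⟩) fun t ht t' ht' h => by
      by_contra hne
      have h1' := (hPX.2.2 _ _ h hne).1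
      obtain ⟨x, rfl⟩ := ht'.2
      have h2' := hk j x (hZi.1 ht'.1).1 (hZi.1 ht'.1).2
      have h3' := H.delta_sect j x
      have h4' := (hΓ ht).2.2
      omega
  let Γ : AlgebraicCycle (CohB1.ProjSpaceOver 1 X) ℤ :=
    CycLib.PB.cycleOfFinite (fun t => Γj 0 t - Γj 1 t) (((hΓfin 0).union (hΓfin 1)).subset fun t ht => by
      by_contra h
      simp only [Set.mem_union, Function.mem_support, not_or, not_not] at h
      exact ht (by simp only [h.1, h.2, sub_self]))
  have hrat := S1952.result K X f δ hX hδ n hn δP hPX hP (r + s - n) αg hαgk (hproper 0) (hproper 1) Γ rfl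
  -- the value on each section
  have hval : ∀ j d, Γj j (P1.sect X j d) = IntMult.interProd δ n (Set.indicator {v} 1)
      (Cyc.subschemeFun δ s (pullback.snd ιW (P1.sect X j))) d := by
    intro j d
    by_cases hd : δ d = r + s - n
    swap
    · have e1 : Γj j (P1.sect X j d) = 0 := by_contra fun h => hd (by rw [← H.delta_sect j d]; exact (hΓ h).2.2)
      have e2 : IntMult.interProd δ n (Set.indicator {v} 1)
          (Cyc.subschemeFun δ s (pullback.snd ιW (P1.sect X j))) d = 0 := by_contra fun h => by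
        obtain ⟨a, b, ha, hb, -, -, hab⟩ := ChiCycLib.interProd_ne_zero h
        rw [hmem ha, hv, (IMultLib.mem_of_subschemeFun_ne_zero _ hb).1] at hab
        exact hd hab.symm
      rw [e1, e2]
    have e1 : Γj j (P1.sect X j d) = IntMult.interProd δP (n + 1) g (Set.indicator {D j} 1) (P1.sect X j d) := by
      refine finsum_congr fun p => ?_
      by_cases hp : Set.indicator {D j} (1 : ↥(CohB1.ProjSpaceOver 1 X) → ℤ) p.1.2 = 0
      · rw [hp, mul_zero, mul_zero, zero_mul]
      congr 2
      show (if p.1.1 ∈ Good then g p.1.1 else 0) = g p.1.1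
      by_cases hG : p.1.1 ∈ Good
      · exact if_pos hG
      rw [if_neg hG]
      by_contra hne
      obtain ⟨a, b, ha, hb, hat, hbt, hab⟩ := ChiCycLib.interProd_ne_zero (Ne.symm hne)
      rw [hmem ha] at hat hab
      rw [hmem hb] at hbt hab
      exact hG ⟨hat, hbt, by omega, j, d, p.2.1⟩
    rw [e1, ← ChiCycLib.interProd_assoc_at (CohB1.ProjSpaceOver.toBase 1 X ≫ f) hPX H.hδP H.delta_genP η c (D j)
      (by rw [H.delta_sect, hηδ, hW, hDδ]; omega)
      (fun t h1' h2' h3' => by
        have := hnear t j d h1' h2' h3'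
        rw [hηδ, hW]
        omega)
      (fun t h1' h2' _ => by
        obtain ⟨x, rfl⟩ := hDrange h2'
        have := hWle j x h1'
        rw [H.delta_sect, hW, hDδ]
        omega)
      (fun t h1' h2' h3' _ => by
        obtain ⟨x, rfl⟩ := hDrange h3'
        have := hk j x h1' h2'
        rw [H.delta_sect, H.delta_sect]
        omega),
      ChiCycLib.interProd_comm (Set.indicator {c} 1), ChiCycLib.interProd_comm (Set.indicator {η} 1)]
    have hαfin : (Function.support (Cyc.subschemeFun δ s (pullback.snd ιW (P1.sect X j)))).Finite := by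
      refine ChiCycLib.finite_maximal (pullback.snd ιW (P1.sect X j)).isClosedEmbedding.isClosed_range _
        (fun x hx => (IMultLib.mem_of_subschemeFun_ne_zero _ hx).2) fun x hx x' hx' hxx' => ?_
      by_contra hne
      have h2' := (hX.2.2 _ _ hxx' hne).1
      obtain ⟨z, rfl⟩ := hx'
      have h4' := hWle j (pullback.snd ιW (P1.sect X j) z) (by
        rw [show P1.sect X j (pullback.snd ιW (P1.sect X j) z) = ιW (pullback.fst ιW (P1.sect X j) z) from
          (congr($(pullback.condition (f := ιW) (g := P1.sect X j)) z)).symm]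
        exact (genericPoint_specializes _).map ιW.continuous)
      have h3' := (IMultLib.mem_of_subschemeFun_ne_zero _ hx).1
      omega
    let α : AlgebraicCycle X ℤ := CycLib.PB.cycleOfFinite _ hαfin
    have hGr : ∀ {t}, IntMult.interProd δP (n + 1) (Set.indicator {D j} 1) (Set.indicator {c} 1) t ≠ 0 →
        t ∈ Set.range (P1.sect X j) ∧ δP t = s := fun {t} h => by
      obtain ⟨a, b, ha, hb, hat, -, hab⟩ := ChiCycLib.interProd_ne_zero h
      rw [hmem ha] at hat hab
      rw [hmem hb, hDδ, hW] at hab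
      exact ⟨hDrange hat, by omega⟩
    rw [H.interProd_sect_gen j α (fun x hx => if_neg hx) (fun x => ?_)
      (fun t ht => by_contra fun h => ht (hGr h).1) η (by
        show δP η = δ (CohB1.ProjSpaceOver.toBase 1 X η) + 1
        rw [hηv, hv, hηδ]) d (by
        show δ d = s + δ (CohB1.ProjSpaceOver.toBase 1 X η) - n
        rw [hηv, hv, hd]
        ring),
      show ChiCycLib.pr X η = v from hηv, ChiCycLib.interProd_comm]
    · rfl
    · show _ = Cyc.subschemeFun δ s (pullback.snd ιW (P1.sect X j)) x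
      by_cases hx : δ x = s
      · exact (H.interProd_sect j ιW hW (hnot j) x hx).1
      · rw [Cyc.subschemeFun, if_neg hx]
        by_contra hne
        exact hx (by rw [← H.delta_sect j x]; exact (hGr hne).2)
  have hcross : ∀ {i j : Fin (1 + 1)} {d}, i ≠ j → Γj i (P1.sect X j d) = 0 := fun {i j d} hij => by
    by_contra h
    obtain ⟨y, hy⟩ := (hΓ h).2.1
    have hyd : y = d := by rw [← ChiCycLib.pr_sect i y, hy, ChiCycLib.pr_sect]
    rw [hyd] at hy
    rcases (show ∀ a b : Fin (1 + 1), a ≠ b → (a = 0 ∧ b = 1) ∨ (a = 1 ∧ b = 0) by decide) i j hij with ⟨rfl, rfl⟩ | ⟨rfl, rfl⟩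
    · exact ChiCycLib.sect_ne d hy
    · exact ChiCycLib.sect_ne d hy.symm
  unfold Cyc.RatEquiv
  convert hrat using 1
  refine Function.locallyFinsuppWithin.ext fun d => ?_
  rw [CycLib.map_apply_eq_sum _ _ d {P1.sect X 0 d, P1.sect X 1 d} fun x hx hne => by
      have hr' : x ∈ Set.range (P1.sect X 0) ∨ x ∈ Set.range (P1.sect X 1) := by
        by_contra h
        rw [not_or] at h
        refine hne (sub_eq_zero.2 ?_)
        rw [show Γj 0 x = 0 from by_contra fun h' => h.1 (hΓ h').2.1,
          show Γj 1 x = 0 from by_contra fun h' => h.2 (hΓ h').2.1]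
      rcases hr' with ⟨x', rfl⟩ | ⟨x', rfl⟩
      · rw [show CohB1.ProjSpaceOver.toBase 1 X (P1.sect X 0 x') = x' from ChiCycLib.pr_sect 0 x'] at hx
        rw [hx]
        exact Finset.mem_insert_self _ _
      · rw [show CohB1.ProjSpaceOver.toBase 1 X (P1.sect X 1 x') = x' from ChiCycLib.pr_sect 1 x'] at hx
        rw [hx]
        exact Finset.mem_insert_of_mem (Finset.mem_singleton_self _),
    Finset.sum_pair (ChiCycLib.sect_ne d)]
  obtain ⟨-, hp0, hc0⟩ := CycLib.P1Rat.delta_sect hP 0 d
  obtain ⟨-, hp1, hc1⟩ := CycLib.P1Rat.delta_sect hP 1 d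
  rw [Set.indicator_of_mem (show P1.sect X 0 d ∈ CohB1.ProjSpaceOver.toBase 1 X ⁻¹' {d} from hp0),
    Set.indicator_of_mem (show P1.sect X 1 d ∈ CohB1.ProjSpaceOver.toBase 1 X ⁻¹' {d} from hp1), hc0, hc1,
    Nat.cast_one, mul_one, mul_one]
  show γ₀ d - γ₁ d = (Γj 0 (P1.sect X 0 d) - Γj 1 (P1.sect X 0 d)) + (Γj 0 (P1.sect X 1 d) - Γj 1 (P1.sect X 1 d))
  rw [hcross (show (1 : Fin (1 + 1)) ≠ 0 by decide), hcross (show (0 : Fin (1 + 1)) ≠ 1 by decide), hval 0 d, hval 1 d,
    hγ₀, hγ₁]
  ring

end Groth.Agent.S1949
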