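import Groth.Statements.S19492
import Groth.Agent.BoundaryConn.Projective
import Groth.Agent.ProperFin.Chow

set_option backward.isDefEq.respectTransparency false
set_option backward.isDefEq.respectTransparency.types false
set_option linter.style.haveILetI false

set_option autoImplicit false
universe u
open CategoryTheory AlgebraicGeometry
open Variety

namespace Groth.Agent.S19492

/-- Over an algebraically closed field k, let X be an irreducible affine variety (an integral affine
k-scheme of finite type). Then X is an open subvariety of an irreducible projective variety: there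
are an integral k-scheme Y admitting a closed immersion over k into a projective space Pⁿ_k and an
open immersion j : X → Y over k. If X is normal (every local ring an integrally closed domain), then
Y can be chosen normal as well. -/
theorem result (k : Type u) [Field k]
    [IsAlgClosed k] (X : Scheme.{u}) (f : X ⟶ Spec (CommRingCat.of k)) [IsAffine X]
    [AlgebraicGeometry.IsIntegral X] [LocallyOfFiniteType f] :
    ∃ (Y : Scheme.{u}) (g : Y ⟶ Spec (CommRingCat.of k)) (n : ℕ) (c : Y ⟶ CohB1.ProjSpace n k)
      (j : X ⟶ Y), AlgebraicGeometry.IsIntegral Y ∧ IsClosedImmersion c ∧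
      c ≫ CohB1.ProjSpace.toSpec n k = g ∧ IsOpenImmersion j ∧ j ≫ g = f ∧
      (Pi1.IsNormalScheme X → Pi1.IsNormalScheme Y) := by
  obtain ⟨n, c, hc, hcp⟩ := Groth.Agent.ProperFin.exists_chartEmb f (isAffineOpen_top X)
  let i : X ⟶ CohB1.ProjSpace n k := (X.topIso.inv ≫ c) ≫ Groth.Agent.ProjMap.chart 0
  haveI := hc
  haveI : QuasiCompact (i ≫ CohB1.ProjSpace.toSpec n k) :=
    (HasAffineProperty.iff_of_isAffine (P := @QuasiCompact)).2 inferInstance
  haveI : QuasiCompact i := QuasiCompact.of_comp i (CohB1.ProjSpace.toSpec n k)
  haveI : IsImmersion i := inferInstance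
  have hi : i ≫ CohB1.ProjSpace.toSpec n k = f := by
    simp only [i, Category.assoc, hcp]
    rw [← Category.assoc]
    exact (congrArg (· ≫ f) (Scheme.topIso X).inv_hom_id).trans (Category.id_comp _)
  by_cases hX : Pi1.IsNormalScheme X
  · obtain ⟨Y, g, m, d, j, h1, h2, h3, h4, h5, h6, -⟩ :=
      Groth.Agent.BoundaryConn.exists_normal_projective_completion k f hX i hi
    exact ⟨Y, g, m, d, j, h1, h2, h3, h4, h5, fun _ => h6⟩
  · refine ⟨i.image, i.imageι ≫ CohB1.ProjSpace.toSpec n k, n, i.imageι, i.toImage,
      Groth.Agent.ProperFin.isIntegral_image i, inferInstance, rfl, inferInstance, ?_, fun h => absurd h hX⟩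
    rw [← Category.assoc, i.toImage_imageι, hi]

end Groth.Agent.S19492
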