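import Groth.Statements.S19493
import Groth.Statements.S19493
import Groth.Agent.EtHullLib.Birational


set_option autoImplicit false
universe u
open CategoryTheory AlgebraicGeometry
open EtHull
open Groth.Agent

namespace Groth.Agent.S19493

open Topology CategoryTheory CategoryTheory.Limits AlgebraicGeometry

/-- The associated points of a scheme étale over another are the points over its associated points. -/
theorem mem_ass_iff {T S : Scheme.{u}} [IsLocallyNoetherian S] (g : T ⟶ S) [Etale g] (z : T) :
    z ∈ AssSch.Ass (Coh.structureModule T) ↔ g z ∈ AssSch.Ass (Coh.structureModule S) := by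
  haveI : IsLocallyNoetherian T := LocallyOfFiniteType.isLocallyNoetherian g
  refine (AssLib.isAssPoint_structureModule_iff z).trans (Iff.trans ?_ (AssLib.isAssPoint_structureModule_iff (g z)).symm)
  algebraize [(g.stalkMap z).hom]
  haveI : IsLocalHom (algebraMap (S.presheaf.stalk (g z)) (T.presheaf.stalk z)) := g.toLRSHom.prop z
  haveI : Module.Flat (S.presheaf.stalk (g z)) (T.presheaf.stalk z) := Flat.stalkMap g z
  refine ⟨EtHullLib.isAssociatedPrime_of_flat _ _, fun h => ?_⟩
  haveI : Algebra.EssFiniteType (S.presheaf.stalk (g z)) (T.presheaf.stalk z) := by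
    rw [← RingHom.essFiniteType_algebraMap, RingHom.algebraMap_toAlgebra]
    exact LocallyOfFiniteType.stalkMap g z
  haveI : Algebra.FormallyUnramified (S.presheaf.stalk (g z)) (T.presheaf.stalk z) := by
    rw [← RingHom.formallyUnramified_algebraMap, RingHom.algebraMap_toAlgebra]
    exact FormallyUnramified.stalkMap g z
  haveI := Module.FaithfullyFlat.of_flat_of_isLocalHom (A := S.presheaf.stalk (g z)) (B := T.presheaf.stalk z)
  obtain ⟨hp, b, hb⟩ := isAssociatedPrime_iff.mp h
  refine isAssociatedPrime_iff.mpr ⟨inferInstance, algebraMap _ (T.presheaf.stalk z) b, ?_⟩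
  refine (IsLocalRing.maximalIdeal.isMaximal _).eq_of_le (fun htop => ?_) ?_
  · have h1 : (1 : T.presheaf.stalk z) ∈ Submodule.colon (⊥ : Submodule (T.presheaf.stalk z) (T.presheaf.stalk z))
        {algebraMap (S.presheaf.stalk (g z)) (T.presheaf.stalk z) b} := htop ▸ Submodule.mem_top
    rw [Submodule.mem_colon_singleton, Submodule.mem_bot, one_smul] at h1
    have hb0 : b = 0 := FaithfulSMul.algebraMap_injective (S.presheaf.stalk (g z)) (T.presheaf.stalk z) (by rw [h1, map_zero])
    exact hp.ne_top (hb.trans (by rw [hb0]; ext; simp))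
  · rw [← Algebra.FormallyUnramified.map_maximalIdeal (R := S.presheaf.stalk (g z)), Ideal.map_le_iff_le_comap]
    intro r hr
    rw [hb, Submodule.mem_colon_singleton, Submodule.mem_bot, smul_eq_mul] at hr
    rw [Ideal.mem_comap, Submodule.mem_colon_singleton, Submodule.mem_bot, smul_eq_mul, ← map_mul, hr, map_zero]

/-- A flat map is schematically dominant iff its image contains the associated points. -/
theorem dominant_iff {X T : Scheme.{u}} [IsLocallyNoetherian T] (u : X ⟶ T) [Flat u] :
    IsSchemeTheoreticallyDominant u ↔ AssSch.Ass (Coh.structureModule T) ⊆ Set.range u := by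
  refine ⟨fun _ ξ hξ => by_contra fun hn => ?_, fun h => ⟨le_bot_iff.mp fun A a ha => ?_⟩⟩
  · let V : T.Opens := ⟨(closure {ξ})ᶜ, isClosed_closure.isOpen_compl⟩
    have hr : Set.range u ⊆ Set.range V.ι := by
      rw [Scheme.Opens.range_ι]
      rintro _ ⟨x, rfl⟩ hx
      obtain ⟨x', -, hx'⟩ := Flat.generalizingMap u (specializes_iff_mem_closure.mpr hx)
      exact hn ⟨x', hx'⟩
    have hker : V.ι.ker = ⊥ := by
      refine le_bot_iff.mp (le_of_le_of_eq ?_ u.ker_eq_bot)
      rw [← IsOpenImmersion.lift_fac V.ι u hr]
      exact Scheme.Hom.le_ker_comp _ _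
    haveI : QuasiCompact V.ι := inferInstance
    haveI : IsSchemeTheoreticallyDominant V.ι := ⟨hker⟩
    have hd : CInt.IsSchematicallyDense V := by
      refine RatDense.of_forall_affine fun x O hx => ?_
      obtain ⟨_, ⟨A : T.Opens, hA, rfl⟩, hxA, hAO⟩ := T.isBasis_affineOpens.exists_subset_of_mem_open hx O.2
      refine ⟨A, hxA, hAO, fun s hs => V.ι.app_injective A ?_⟩
      rw [map_zero, Scheme.Opens.ι_app]
      exact RatDense.res_eq_zero_mono _ (by
        rw [Scheme.Hom.image_preimage_eq_opensRange_inf, Scheme.Opens.opensRange_ι, inf_comm]) hs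
    exact (S1699.result T V).mp hd ξ ((AssLib.isAssPoint_structureModule_iff ξ).mp hξ) (subset_closure rfl)
  · rw [Scheme.IdealSheafData.ideal_bot]
    refine (Ideal.mem_bot).mpr (AssLib.eq_zero_of_germ_ass (M := Coh.structureModule T) (V := A.1) a fun y hy hya => ?_)
    obtain ⟨x, rfl⟩ := h hya
    have h0 : u.app A.1 a = 0 := u.ideal_ker_le A ha
    algebraize [(u.stalkMap x).hom]
    haveI : IsLocalHom (algebraMap (T.presheaf.stalk (u x)) (X.presheaf.stalk x)) := u.toLRSHom.prop x
    haveI : Module.Flat (T.presheaf.stalk (u x)) (X.presheaf.stalk x) := Flat.stalkMap u x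
    haveI := Module.FaithfullyFlat.of_flat_of_isLocalHom (A := T.presheaf.stalk (u x)) (B := X.presheaf.stalk x)
    have hinj : Function.Injective (u.stalkMap x).hom :=
      FaithfulSMul.algebraMap_injective (T.presheaf.stalk (u x)) (X.presheaf.stalk x)
    have h1 : (u.stalkMap x).hom (T.presheaf.germ A.1 (u x) hy a) = 0 :=
      (u.germ_stalkMap_apply A.1 x hy a).trans (by rw [h0]; exact map_zero _)
    have h2 : T.presheaf.germ A.1 (u x) hy a = 0 := hinj (h1.trans (map_zero _).symm)
    letI := TopCat.Presheaf.algebra_section_stalk T.presheaf (⟨u x, hy⟩ : A.1)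
    haveI := A.2.isLocalization_stalk ⟨u x, hy⟩
    obtain ⟨c, hc⟩ := (IsLocalization.map_eq_zero_iff (A.2.primeIdealOf ⟨u x, hy⟩).asIdeal.primeCompl
      (T.presheaf.stalk (u x)) a).1 h2
    exact (AssLib.germ_eq_zero_iff (M := Coh.structureModule T) A.2 hy a).mpr ⟨c.1, c.2, hc⟩

/-- Maximal points are associated. -/
theorem mem_ass_of_isMx {T : Scheme.{u}} [IsLocallyNoetherian T] {η : T} (h : EtHullLib.IsMx η) :
    η ∈ AssSch.Ass (Coh.structureModule T) := by
  refine AssLib.isAssPoint_of_minimal (M := Coh.structureModule T) ?_ fun y _ hy => h y hy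
  refine (subsingleton_or_nontrivial _).resolve_left fun hsub => ?_
  obtain ⟨W, hW, hyW, -⟩ := AssLib.exists_affine_mem η (U := ⊤) trivial
  obtain ⟨a, ha, ha0⟩ := (AssLib.germ_eq_zero_iff (M := Coh.structureModule T) hW hyW
    (1 : Γ(T, W))).mp (Subsingleton.elim _ _)
  have ha0' : a * 1 = (0 : Γ(T, W)) := ha0
  rw [mul_one] at ha0'
  exact ha (ha0' ▸ Submodule.zero_mem _)

/-- Let f : S' → S be a morphism of locally Noetherian schemes which is integral, radicial (universally
injective) and surjective, and which matches embedded points: a point s' of S' is an embedded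
associated point of O_{S'} (an associated point that is a proper specialization of another
associated point) if and only if f(s') is an embedded associated point of O_S. Let a : X → S be
faithfully flat, g : E → S étale and u : X → E a morphism with u ≫ g = a, so that X → E → S is a
factorization of a through an étale S-scheme. Let E' → S' be the base change of g along f, with
projection φ : E' → E, and u' : X' → E' the base change of u along φ (so X' = X ×_S S'). Then u is
scheme-theoretically dominant if and only if u' is. (The source allows algebraic spaces; schemes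
here.) -/
theorem result {X E S S' E' X' : Scheme.{u}}
    [IsLocallyNoetherian S] [IsLocallyNoetherian S'] (f : S' ⟶ S) [IsIntegralHom f]
    [UniversallyInjective f] [Surjective f]
    (hemb : ∀ s' : S', (s' ∈ AssSch.Ass (Coh.structureModule S') ∧ ∃ t ∈ AssSch.Ass (Coh.structureModule S'), t ⤳ s' ∧ t ≠ s') ↔
      (f.base s' ∈ AssSch.Ass (Coh.structureModule S) ∧ ∃ t ∈ AssSch.Ass (Coh.structureModule S), t ⤳ f.base s' ∧ t ≠ f.base s'))
    (a : X ⟶ S) [Flat a] [Surjective a] (g : E ⟶ S) [Etale g] (u : X ⟶ E) (hu : u ≫ g = a)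
    (g' : E' ⟶ S') (φ : E' ⟶ E) (hE : IsPullback φ g' g f)
    (u' : X' ⟶ E') (ψ : X' ⟶ X) (hX : IsPullback ψ u' u φ) :
    IsSchemeTheoreticallyDominant u ↔ IsSchemeTheoreticallyDominant u' := by
  haveI : Flat u := EtHullLib.flat_of_comp_etale u g (by rw [hu]; infer_instance)
  haveI : Etale g' := MorphismProperty.of_isPullback (P := @Etale) hE inferInstance
  haveI : Flat u' := MorphismProperty.of_isPullback (P := @Flat) hX inferInstance
  haveI : UniversallyInjective φ := MorphismProperty.of_isPullback (P := @UniversallyInjective) hE.flip inferInstance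
  haveI : Surjective φ := MorphismProperty.of_isPullback (P := @Surjective) hE.flip inferInstance
  haveI : IsLocallyNoetherian E := LocallyOfFiniteType.isLocallyNoetherian g
  haveI : IsLocallyNoetherian E' := LocallyOfFiniteType.isLocallyNoetherian g'
  have hφi : Function.Injective φ := φ.injective
  have hfi : Function.Injective f := f.injective
  -- associated points of the bases correspond
  have hbase : ∀ s' : S', s' ∈ AssSch.Ass (Coh.structureModule S') ↔ f s' ∈ AssSch.Ass (Coh.structureModule S) := by
    intro s'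
    constructor
    · intro h
      by_cases he : ∃ t ∈ AssSch.Ass (Coh.structureModule S'), t ⤳ s' ∧ t ≠ s'
      · exact ((hemb s').mp ⟨h, he⟩).1
      · refine mem_ass_of_isMx fun y hy => ?_
        obtain ⟨y', rfl⟩ := f.surjective y
        obtain ⟨η, hη, hm⟩ := Unibranch.exists_max_specializes y'
        have hys : y' ⤳ s' := by
          have h1 : f s' ∈ f '' closure {y'} := (f.isClosedMap _ isClosed_closure).closure_subset_iff.mpr
            (by rintro _ rfl; exact ⟨y', subset_closure rfl, rfl⟩) (specializes_iff_mem_closure.mp hy)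
          obtain ⟨z, hz, hzs⟩ := h1
          exact specializes_iff_mem_closure.mpr (hfi hzs ▸ hz)
        by_contra hne
        refine he ⟨η, mem_ass_of_isMx hm, hη.trans hys, fun e => hne ?_⟩
        exact congrArg f ((hys.antisymm (e ▸ hη)).eq)
    · intro h
      by_cases he : ∃ t ∈ AssSch.Ass (Coh.structureModule S), t ⤳ f s' ∧ t ≠ f s'
      · exact ((hemb s').mpr ⟨h, he⟩).1
      · refine mem_ass_of_isMx fun y hy => hfi ?_
        by_contra hne
        obtain ⟨η, hη, hm⟩ := Unibranch.exists_max_specializes (f y)
        refine he ⟨η, mem_ass_of_isMx hm, hη.trans (hy.map f.continuous), fun e => hne ?_⟩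
        exact ((hy.map f.continuous).antisymm (e ▸ hη)).eq
  have hassE : ∀ e' : E', e' ∈ AssSch.Ass (Coh.structureModule E') ↔ φ e' ∈ AssSch.Ass (Coh.structureModule E) := by
    intro e'
    rw [mem_ass_iff g', mem_ass_iff g, hbase]
    have : f (g' e') = g (φ e') := by rw [← Scheme.Hom.comp_apply, ← hE.w, Scheme.Hom.comp_apply]
    rw [this]
  have hrange : ∀ e' : E', e' ∈ Set.range u' ↔ φ e' ∈ Set.range u := by
    intro e'
    constructor
    · rintro ⟨x', rfl⟩
      exact ⟨ψ x', by rw [← Scheme.Hom.comp_apply, hX.w, Scheme.Hom.comp_apply]⟩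
    · rintro ⟨x, hx⟩
      obtain ⟨z, -, hz⟩ := Scheme.Pullback.exists_preimage_pullback (f := u) (g := φ) x e' hx
      exact ⟨hX.isoPullback.inv z, by rw [← Scheme.Hom.comp_apply, hX.isoPullback_inv_snd, hz]⟩
  rw [dominant_iff u, dominant_iff u']
  constructor
  · intro h e' he'
    exact (hrange e').mpr (h ((hassE e').mp he'))
  · intro h e he
    obtain ⟨e', rfl⟩ := φ.surjective e
    exact (hrange e').mp (h ((hassE e').mpr he))

end Groth.Agent.S19493
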