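import Groth.Statements.S19494
import Groth.Statements.S19494
import Groth.Agent.EtHullLib.Sup


set_option autoImplicit false
open CategoryTheory AlgebraicGeometry
universe u
open EtHull

namespace Groth.Agent.S19494

/-- Let S be a Noetherian scheme all of whose local rings are geometrically unibranch and whose
structure sheaf has no embedded associated points, and let f : X → S be flat, surjective and of
finite presentation. Call an admissible factorization a factorization X → E → S of f with E → S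
étale and affine and X → E scheme-theoretically dominant. Then any two admissible factorizations X →
E₁ → S and X → E₂ → S have an infimum: an admissible factorization X → E → S together with
compatible S-morphisms E₁ → E and E₂ → E, such that every admissible factorization X → E' → S
receiving compatible S-morphisms E₁ → E' and E₂ → E' admits a compatible morphism E → E'. (The
source allows X to be an algebraic space; X is a scheme here.) -/
theorem result {X S : Scheme.{u}} [IsNoetherian S]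
    (hS : ∀ s : S, CAlg2.IsGeomUnibranch (S.presheaf.stalk s))
    (hemb : AssSch.NoEmbedded (Coh.structureModule S))
    (f : X ⟶ S) [Flat f] [Surjective f] [LocallyOfFinitePresentation f] [QuasiCompact f]
    [QuasiSeparated f]
    (E₁ E₂ : Scheme.{u}) (g₁ : E₁ ⟶ S) (g₂ : E₂ ⟶ S) (u₁ : X ⟶ E₁) (u₂ : X ⟶ E₂)
    [Etale g₁] [Etale g₂] [IsAffineHom g₁] [IsAffineHom g₂]
    [IsSchemeTheoreticallyDominant u₁] [IsSchemeTheoreticallyDominant u₂]
    (h₁ : u₁ ≫ g₁ = f) (h₂ : u₂ ≫ g₂ = f) :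
    ∃ (E : Scheme.{u}) (g : E ⟶ S) (u : X ⟶ E) (v₁ : E₁ ⟶ E) (v₂ : E₂ ⟶ E),
      Etale g ∧ IsAffineHom g ∧ IsSchemeTheoreticallyDominant u ∧ u ≫ g = f ∧
      u₁ ≫ v₁ = u ∧ u₂ ≫ v₂ = u ∧ v₁ ≫ g = g₁ ∧ v₂ ≫ g = g₂ ∧
      ∀ (E' : Scheme.{u}) (g' : E' ⟶ S) (u' : X ⟶ E') (w₁ : E₁ ⟶ E') (w₂ : E₂ ⟶ E'),
        Etale g' → IsAffineHom g' → IsSchemeTheoreticallyDominant u' → u' ≫ g' = f →
        u₁ ≫ w₁ = u' → u₂ ≫ w₂ = u' → w₁ ≫ g' = g₁ → w₂ ≫ g' = g₂ →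
        ∃ w : E ⟶ E', u ≫ w = u' ∧ v₁ ≫ w = w₁ ∧ v₂ ≫ w = w₂ := by
  haveI : IsSchemeTheoreticallyDominant f := Groth.Agent.EtHullLib.isSchemeTheoreticallyDominant_of_flat f
  let F₁ : Groth.Agent.EtHullLib.Fac f := ⟨E₁, g₁, u₁, inferInstance, inferInstance, inferInstance, h₁⟩
  let F₂ : Groth.Agent.EtHullLib.Fac f := ⟨E₂, g₂, u₂, inferInstance, inferInstance, inferInstance, h₂⟩
  obtain ⟨M, ⟨⟨v₁, hu₁, hg₁⟩, ⟨v₂, hu₂, hg₂⟩⟩, hM⟩ :=
    Groth.Agent.EtHullLib.exists_greatest (fun A : Groth.Agent.EtHullLib.Fac f => F₁.Maps A ∧ F₂.Maps A)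
    ⟨⟨S, 𝟙 S, f, inferInstance, inferInstance, inferInstance, Category.comp_id f⟩,
      ⟨g₁, h₁, Category.comp_id g₁⟩, ⟨g₂, h₂, Category.comp_id g₂⟩⟩
    (fun A B hA hB => by
      obtain ⟨C, hCA, hCB, hC⟩ := Groth.Agent.EtHullLib.exists_sup hS hemb f A B
      exact ⟨C, ⟨hC F₁ hA.1 hB.1, hC F₂ hA.2 hB.2⟩, hCA, hCB⟩)
  refine ⟨M.E, M.g, M.u, v₁, v₂, M.et, M.aff, M.dom, M.w, hu₁, hu₂, hg₁, hg₂, ?_⟩
  intro E' g' u' w₁ w₂ he ha hd hf hw₁ hw₂ hg₁' hg₂'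
  obtain ⟨w, hwu, hwg⟩ := hM ⟨E', g', u', he, ha, hd, hf⟩ ⟨⟨w₁, hw₁, hg₁'⟩, ⟨w₂, hw₂, hg₂'⟩⟩
  change M.u ≫ w = u' at hwu
  change w ≫ g' = M.g at hwg
  change u₁ ≫ v₁ = M.u at hu₁
  change u₂ ≫ v₂ = M.u at hu₂
  change v₁ ≫ M.g = g₁ at hg₁
  change v₂ ≫ M.g = g₂ at hg₂
  haveI : IsSeparated g' := inferInstance
  refine ⟨w, hwu, ?_, ?_⟩
  · exact Groth.Agent.EtHullLib.eq_of_dominant u₁ (v₁ ≫ w) w₁ g'
      (by rw [Category.assoc, hwg, hg₁, hg₁']) (by rw [reassoc_of% hu₁, hwu, hw₁])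
  · exact Groth.Agent.EtHullLib.eq_of_dominant u₂ (v₂ ≫ w) w₂ g'
      (by rw [Category.assoc, hwg, hg₂, hg₂']) (by rw [reassoc_of% hu₂, hwu, hw₂])

end Groth.Agent.S19494
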