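import Groth.Statements.S5071
import Mathlib
import Groth.Agent.QRegLib.Basic
import Groth.Agent.CAlgBasics.FlatAux
import Groth.Agent.FlatValLib.Fibre


set_option autoImplicit false
universe u
open CInt

namespace Groth.Agent.S5071

open CategoryTheory CategoryTheory.Limits AlgebraicGeometry

open MvPolynomial in
/-- The graded pieces of a quasi-regular ideal are flat when the quotient is. -/
theorem flat_succ {A B : Type u} [CommRing A] [CommRing B] [Algebra A B] {c : ℕ} (f : Fin c → B)
    (hq : CAlgX.IsQuasiRegular f) (J : Ideal B) (hJ : J = Ideal.span (Set.range f)) [Module.Flat A (B ⧸ J)] (k : ℕ) :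
    Module.Flat A (↥(J ^ k) ⧸ (Submodule.comap (J ^ k).subtype (J ^ (k + 1)))) := by
  classical
  subst hJ
  let J := Ideal.span (Set.range f)
  let D := {d : Fin c →₀ ℕ // d.degree = k}
  have hmem : ∀ d : D, (d.1.prod fun i e => f i ^ e) ∈ J ^ k := fun d => by
    have h := QRegLib.eval_mem_mul_pow f ⊤ Set.univ k (monomial d.1 1) (isHomogeneous_monomial 1 d.2)
      (QRegLib.suppIn_univ _) (fun _ => Submodule.mem_top)
    rw [Ideal.top_mul, Set.image_univ, eval_monomial, one_mul] at h
    exact h
  let φ : (D →₀ B) →ₗ[B] ↥(J ^ k) := Finsupp.linearCombination B fun d => (⟨_, hmem d⟩ : ↥(J ^ k))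
  let ψ : (D →₀ B) →ₗ[B] ↥(J ^ k) ⧸ (Submodule.comap (J ^ k).subtype (J ^ (k + 1))) := (Submodule.mkQ _).comp φ
  let P : (D →₀ B) →ₗ[B] MvPolynomial (Fin c) B := Finsupp.linearCombination B fun d => monomial d.1 (1 : B)
  have hφ : ∀ a, ((φ a : ↥(J ^ k)) : B) = eval f (P a) := fun a => by
    induction a using Finsupp.induction_linear with
    | zero => simp
    | add a b ha hb => rw [map_add, map_add, map_add, Submodule.coe_add, ha, hb]
    | single d r => simp [φ, P, Finsupp.linearCombination_single, eval_monomial, smul_monomial]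
  have hPh : ∀ a, (P a).IsHomogeneous k := fun a => by
    induction a using Finsupp.induction_linear with
    | zero => rw [map_zero]; exact isHomogeneous_zero _ _ _
    | add a b ha hb => rw [map_add]; exact ha.add hb
    | single d r =>
      simp only [P, Finsupp.linearCombination_single, smul_monomial, smul_eq_mul, mul_one]
      exact isHomogeneous_monomial r d.2
  have hPc : ∀ (a : D →₀ B) (d : D), (P a).coeff d.1 = a d := fun a d => by
    induction a using Finsupp.induction_linear with
    | zero => simp
    | add a b ha hb => rw [map_add, coeff_add, ha, hb, Finsupp.add_apply]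
    | single d' r =>
      simp [P, Finsupp.linearCombination_single, smul_monomial, coeff_monomial, Finsupp.single_apply]
      congr 1
      exact propext Subtype.ext_iff.symm
  let μ : (D →₀ B) →ₗ[B] (D →₀ B ⧸ J) := Finsupp.mapRange.linearMap (Submodule.mkQ J)
  have hμ : Function.Surjective μ := Finsupp.mapRange_surjective _ (map_zero _) (Submodule.mkQ_surjective J)
  have hψ : Function.Surjective ψ := by
    intro z
    obtain ⟨⟨y, hy⟩, rfl⟩ := Submodule.mkQ_surjective _ z
    have hy' : y ∈ Ideal.span (f '' Set.univ) ^ k := by rwa [Set.image_univ]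
    obtain ⟨Q, hQ, -, rfl⟩ := QRegLib.exists_poly_of_mem_pow f Set.univ k y hy'
    refine ⟨Finsupp.ofSupportFinite (fun d : D => Q.coeff d.1) ?_, congrArg (Submodule.mkQ _) (Subtype.ext ?_)⟩
    · exact (Q.support.finite_toSet.preimage Subtype.val_injective.injOn).subset fun d hd =>
        mem_support_iff.2 (Function.mem_support.1 hd)
    · rw [hφ]
      refine congrArg (eval f) (MvPolynomial.ext _ _ fun d => ?_)
      by_cases hd : d.degree = k
      · exact hPc _ ⟨d, hd⟩
      · rw [(hPh _).coeff_eq_zero hd, hQ.coeff_eq_zero hd]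
  have hker : LinearMap.ker μ = LinearMap.ker ψ := by
    ext a
    rw [LinearMap.mem_ker, LinearMap.mem_ker]
    constructor
    · intro h
      have hcoef : ∀ d, (P a).coeff d ∈ J := fun d => by
        by_cases hd : d.degree = k
        · rw [hPc a ⟨d, hd⟩]
          exact (Submodule.Quotient.mk_eq_zero J).1 (DFunLike.congr_fun h ⟨d, hd⟩)
        · rw [(hPh a).coeff_eq_zero hd]; exact zero_mem _
      refine (Submodule.Quotient.mk_eq_zero _).2 ?_
      show ((φ a : ↥(J ^ k)) : B) ∈ J ^ (k + 1)
      rw [hφ, pow_succ']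
      have := QRegLib.eval_mem_mul_pow f J Set.univ k (P a) (hPh a) (QRegLib.suppIn_univ _) hcoef
      rwa [Set.image_univ] at this
    · intro h
      have h' : ((φ a : ↥(J ^ k)) : B) ∈ J ^ (k + 1) :=
        (Submodule.Quotient.mk_eq_zero (Submodule.comap (J ^ k).subtype (J ^ (k + 1)))).1 h
      rw [hφ] at h'
      refine Finsupp.ext fun d => ?_
      show Submodule.mkQ J (a d) = 0
      rw [← hPc a d]
      exact (Submodule.Quotient.mk_eq_zero J).2 (hq k (P a) (hPh a) h' d.1)
  let e : (D →₀ B ⧸ J) ≃ₗ[B] (↥(J ^ k) ⧸ (Submodule.comap (J ^ k).subtype (J ^ (k + 1)))) :=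
    (μ.quotKerEquivOfSurjective hμ).symm ≪≫ₗ Submodule.quotEquivOfEq _ _ hker ≪≫ₗ ψ.quotKerEquivOfSurjective hψ
  haveI : Module.Flat A (B ⧸ J) := ‹Module.Flat A (B ⧸ Ideal.span (Set.range f))›
  haveI : Module.Flat A (D →₀ B ⧸ J) := by
    classical exact Module.Flat.of_linearEquiv (finsuppLEquivDirectSum A (B ⧸ J) D)
  exact Module.Flat.of_linearEquiv (e.restrictScalars A).symm

/-- All quotients of powers are flat. -/
theorem flat_step {A B : Type u} [CommRing A] [CommRing B] [Algebra A B] (J : Ideal B)
    (h : ∀ k, Module.Flat A (↥(J ^ k) ⧸ (Submodule.comap (J ^ k).subtype (J ^ (k + 1))))) :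
    ∀ d n, Module.Flat A (↥(J ^ n) ⧸ (Submodule.comap (J ^ n).subtype (J ^ (n + d + 1))))
  | 0, n => h n
  | d + 1, n => by
    haveI := flat_step J h d (n + 1)
    haveI := h n
    have hle : J ^ (n + 1) ≤ J ^ n := Ideal.pow_le_pow_right (Nat.le_succ n)
    have hle2 : J ^ (n + (d + 1) + 1) ≤ J ^ (n + 1) := Ideal.pow_le_pow_right (by omega)
    have he : n + (d + 1) + 1 = n + 1 + d + 1 := by omega
    let f := Submodule.mapQ (Submodule.comap (J ^ (n + 1)).subtype (J ^ (n + 1 + d + 1)))
      (Submodule.comap (J ^ n).subtype (J ^ (n + (d + 1) + 1))) (Submodule.inclusion hle) (by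
        intro x hx
        simp only [Submodule.mem_comap] at hx ⊢
        rw [he]; exact hx)
    let g := Submodule.factor (show Submodule.comap (J ^ n).subtype (J ^ (n + (d + 1) + 1)) ≤
      Submodule.comap (J ^ n).subtype (J ^ (n + 1)) from Submodule.comap_mono hle2)
    refine CAlgBasics.flat_of_exact (R := A) (f := f.restrictScalars A) (g := g.restrictScalars A) ?_ ?_ ?_
    · refine (injective_iff_map_eq_zero _).2 fun z hz => ?_
      obtain ⟨z, rfl⟩ := Submodule.Quotient.mk_surjective _ z
      have hz' : (z : B) ∈ J ^ (n + (d + 1) + 1) :=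
        (Submodule.Quotient.mk_eq_zero (Submodule.comap (J ^ n).subtype (J ^ (n + (d + 1) + 1)))).1 hz
      refine (Submodule.Quotient.mk_eq_zero _).2 ?_
      show (z : B) ∈ J ^ (n + 1 + d + 1)
      rwa [← he]
    · intro z
      obtain ⟨z, rfl⟩ := Submodule.Quotient.mk_surjective _ z
      refine ⟨fun hz => ?_, ?_⟩
      · have hz' : (z : B) ∈ J ^ (n + 1) :=
          (Submodule.Quotient.mk_eq_zero (Submodule.comap (J ^ n).subtype (J ^ (n + 1)))).1 hz
        exact ⟨Submodule.Quotient.mk ⟨z, hz'⟩, rfl⟩
      · rintro ⟨w, hw⟩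
        obtain ⟨w, rfl⟩ := Submodule.Quotient.mk_surjective _ w
        rw [← hw]
        exact (Submodule.Quotient.mk_eq_zero _).2 w.2
    · intro z
      obtain ⟨z, rfl⟩ := Submodule.Quotient.mk_surjective _ z
      exact ⟨Submodule.Quotient.mk z, rfl⟩

/-- The natural map to the restriction of scalars, as a linear map. -/
def restrictEquiv {A B M : Type u} [CommRing A] [CommRing B] [Algebra A B] [AddCommGroup M] [Module B M]
    [Module A M] [IsScalarTower A B M] : RestrictScalars A B M ≃ₗ[A] M where
  __ := RestrictScalars.addEquiv A B M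
  map_smul' a m := (RestrictScalars.addEquiv_map_smul A B M a m).trans (algebraMap_smul B a _)


/-- Let B be an A-algebra and J an ideal of B generated by a sequence which is transversally regular
relative to A. Then for n < m the module J^n/J^m is flat over A, and for every prime q of B
containing J the localisation (J^n)_q is flat over A (modules regarded as A-modules by restriction
of scalars). -/
theorem result (A B : Type u) [CommRing A] [CommRing B] [Algebra A B]
    (rs : List B) (hrs : RegImm.IsTransRegularSeq A B rs) (n m : ℕ) (hnm : n < m) :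
    Module.Flat A (RestrictScalars A B
      (↥(Ideal.ofList rs ^ n) ⧸ (Submodule.comap (Ideal.ofList rs ^ n).subtype (Ideal.ofList rs ^ m)))) ∧
      ∀ (q : Ideal B) [q.IsPrime], Ideal.ofList rs ≤ q →
        Module.Flat A (RestrictScalars A B (LocalizedModule q.primeCompl ↥(Ideal.ofList rs ^ n))) := by
  let f : Fin rs.length → B := rs.get
  have hJ : Ideal.ofList rs = Ideal.span (Set.range f) := by rw [Ideal.ofList, Set.range_list_get]
  have hq : CAlgX.IsQuasiRegular f :=
    QRegLib.isQuasiRegular_of_isWeaklyRegular f (by rw [List.ofFn_get]; exact hrs.1)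
  haveI : Module.Flat A (B ⧸ Ideal.ofList rs) := by
    have := hrs.2 rs.length le_rfl
    rwa [List.take_length] at this
  haveI : Module.Flat A B := by
    have := hrs.2 0 (Nat.zero_le _)
    rw [List.take_zero, Ideal.ofList_nil] at this
    exact Module.Flat.of_linearEquiv ((Submodule.quotEquivOfEqBot (⊥ : Ideal B) rfl).symm.restrictScalars A)
  have h1 := flat_step (A := A) _ (flat_succ f hq _ hJ)
  have h2 : ∀ N, Module.Flat A ↥(Ideal.ofList rs ^ N) := fun N => by
    rcases N with _ | N
    · rw [pow_zero, Ideal.one_eq_top]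
      exact Module.Flat.of_linearEquiv ((Submodule.topEquiv (R := B) (M := B)).restrictScalars A)
    · haveI := h1 N 0
      rw [Nat.zero_add] at this
      haveI : Module.Flat A (B ⧸ Ideal.ofList rs ^ (N + 1)) := by
        have ht : (⊤ : Submodule B B) = Ideal.ofList rs ^ 0 := by rw [pow_zero, Ideal.one_eq_top]
        let g : ↥(Ideal.ofList rs ^ 0) →ₗ[B] B ⧸ Ideal.ofList rs ^ (N + 1) :=
          (Submodule.mkQ _).comp (Ideal.ofList rs ^ 0).subtype
        have hg : Function.Surjective g := fun z => by
          obtain ⟨z, rfl⟩ := Submodule.Quotient.mk_surjective _ z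
          exact ⟨⟨z, ht ▸ Submodule.mem_top⟩, rfl⟩
        have hk : LinearMap.ker g = Submodule.comap (Ideal.ofList rs ^ 0).subtype (Ideal.ofList rs ^ (N + 1)) := by
          simp [g, LinearMap.ker_comp]
        exact Module.Flat.of_linearEquiv
          (((g.quotKerEquivOfSurjective hg).symm ≪≫ₗ Submodule.quotEquivOfEq _ _ hk).restrictScalars A)
      exact CAlgBasics.flat_ker_of_exact (R := A) (f := ((Ideal.ofList rs ^ (N + 1)).subtype).restrictScalars A)
        (g := (Submodule.mkQ (Ideal.ofList rs ^ (N + 1))).restrictScalars A) Subtype.val_injective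
        (LinearMap.exact_subtype_mkQ (Ideal.ofList rs ^ (N + 1))) (Submodule.mkQ_surjective _)
  constructor
  · obtain ⟨d, rfl⟩ : ∃ d, m = n + d + 1 := ⟨m - n - 1, by omega⟩
    haveI := h1 d n
    exact Module.Flat.of_linearEquiv restrictEquiv
  · intro q _ _
    haveI := h2 n
    haveI := FlatValLib.flat_localizedModule (A := A) (E := ↥(Ideal.ofList rs ^ n)) q.primeCompl
    exact Module.Flat.of_linearEquiv restrictEquiv


end Groth.Agent.S5071
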