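import Groth.Statements.S19499
import Groth.Agent.S5071
import Groth.Agent.P1CompLib
import Groth.Agent.ASp.RegImmLib
import Groth.Agent.CancelLib.Scheme
import Groth.Agent.BlowFlatPowLib.Main
import Groth.Agent.BlowCompLib.Compose
import Groth.Agent.ProjSmoothLib.Basic
import Groth.Agent.RegSeqSlice.Section

set_option autoImplicit false
universe u
open CategoryTheory CategoryTheory.Limits AlgebraicGeometry
open IntTh

namespace Groth.Agent.S19499

open CategoryTheory CategoryTheory.Limits AlgebraicGeometry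

set_option backward.isDefEq.respectTransparency false
set_option backward.defeqAttrib.useBackward true
set_option linter.style.haveILetI false

universe v

theorem seq_of_regular_imm {Z X : Scheme.{u}} {c : ℕ} (i : Z ⟶ X)
    (hi : RegImm.IsRegularImmersionOfCodim RegImm.Kind.regular c i) : RegImm.IsRegularImmersion .h1 i := by
  refine ⟨hi.1, fun z => ?_⟩
  obtain ⟨U, hU, hc, rs, -, hrs, hker⟩ := hi.2 z
  exact ⟨U, hU, hc, rs, Groth.Agent.CancelLib.seq_of_isRegular .h1 hrs, hker⟩

/-- Sections of the projective line are quasi-regular immersions. -/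
theorem quasi_sect (X : Scheme.{u}) (j : Fin (1 + 1)) : RegImm.IsRegularImmersion .quasi (P1.sect X j) := by
  haveI := Groth.Agent.ProjSmoothLib.smooth_toSpec 1 (ULift.{u} ℤ)
  haveI : IsProper (CohB1.ProjSpace.toSpec 1 (ULift.{u} ℤ)) := inferInstance
  haveI : Smooth (CohB1.ProjSpaceOver.toBase 1 X) := MorphismProperty.pullback_snd _ _ inferInstance
  haveI : IsSeparated (CohB1.ProjSpaceOver.toBase 1 X) := MorphismProperty.pullback_snd _ _ inferInstance
  have hs := Groth.Agent.P1CompLib.sect_toBase X j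
  haveI : IsClosedImmersion (P1.sect X j ≫ CohB1.ProjSpaceOver.toBase 1 X) := by rw [hs]; infer_instance
  haveI : IsClosedImmersion (P1.sect X j) := IsClosedImmersion.of_comp _ (CohB1.ProjSpaceOver.toBase 1 X)
  obtain ⟨-, h⟩ := Groth.Agent.RegSeqSlice.isRegularClosedImmersion_section (CohB1.ProjSpaceOver.toBase 1 X) _ hs
  refine ⟨inferInstance, fun z => ?_⟩
  obtain ⟨U, hU, hzU, rs, hrs, hker⟩ := h z
  exact ⟨⟨U, hU⟩, hzU, IsZariskiLocalAtTarget.restrict (P := @IsClosedImmersion) inferInstance _, rs,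
    Groth.Agent.CancelLib.seq_of_isRegular .quasi hrs, by rw [← hker, Scheme.Hom.ker_apply]⟩

/-- All powers of the ideal of a quasi-regular closed immersion flat over the base cut out flat subschemes. -/
theorem flat_pow_of_quasi {Z P S : Scheme.{u}} (j : Z ⟶ P) [IsClosedImmersion j] (g : P ⟶ S)
    [Flat (j ≫ g)] (hj : RegImm.IsRegularImmersion .quasi j) (n : ℕ) :
    Flat ((j.ker ^ (n + 1)).subschemeι ≫ g) := by
  have hfl : Flat (j.ker.subschemeι ≫ g) := by
    have h0 : j.toImage ≫ j.ker.subschemeι = j := Scheme.Hom.toImage_imageι j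
    haveI : IsIso j.toImage := inferInstance
    rw [← MorphismProperty.cancel_left_of_respectsIso @Flat j.toImage, reassoc_of% h0]
    infer_instance
  refine Groth.Agent.RelDivLib.flat_of_charts g _ fun x hx => ?_
  have hxr : x ∈ Set.range j := by
    have h1 : (((j.ker ^ (n + 1)).support) : Set P) = (j.ker.support : Set P) := by
      rw [Scheme.IdealSheafData.support_pow_succ]
    have h2 : x ∈ (j.ker.support : Set P) := by rw [← h1]; exact hx
    rw [Scheme.Hom.support_ker, j.isClosedEmbedding.isClosed_range.closure_eq] at h2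
    exact h2
  obtain ⟨z, rfl⟩ := hxr
  obtain ⟨U, hzU, hcU, rs, hrs, hker⟩ := hj.2 z
  obtain ⟨_, ⟨W, hW, rfl⟩, hzW, -⟩ :=
    S.isBasis_affineOpens.exists_subset_of_mem_open (Set.mem_univ (g (j z))) isOpen_univ
  obtain ⟨t, htle, hzt⟩ := U.2.exists_basicOpen_le (V := U.1 ⊓ g ⁻¹ᵁ W) ⟨j z, hzU, hzW⟩ hzU
  obtain ⟨rs', hrs', hker'⟩ := Groth.Agent.ASp.RegImmSp.exists_restrict .quasi (by simp) j U.2
    (U.2.preimage j) rs hrs hker t _ rfl
  let V : P.affineOpens := ⟨P.basicOpen t, U.2.basicOpen t⟩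
  have e : V.1 ≤ g ⁻¹ᵁ W := htle.trans inf_le_right
  refine ⟨⟨W, hW⟩, V, hzt, e, ?_⟩
  letI := (g.appLE W V.1 e).hom.toAlgebra
  rw [Scheme.IdealSheafData.ideal_pow]
  show Module.Flat Γ(S, W) (Γ(P, V.1) ⧸ (j.ker.ideal V) ^ (n + 1))
  let J := j.ker.ideal V
  let f : Fin rs'.length → Γ(P, V.1) := rs'.get
  have hJ : J = Ideal.span (Set.range f) := by
    show j.ker.ideal V = _
    rw [Scheme.Hom.ker_apply, hker', Ideal.ofList, Set.range_list_get]
  haveI : Module.Flat Γ(S, W) (Γ(P, V.1) ⧸ J) := Groth.Agent.RelDivLib.flat_quot_of_flat g j.ker hW V e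
  haveI h1 := Groth.Agent.S5071.flat_step (A := Γ(S, W)) J
    (Groth.Agent.S5071.flat_succ f hrs' J hJ) n 0
  rw [Nat.zero_add] at h1
  let g' : ↥(J ^ 0) →ₗ[Γ(P, V.1)] Γ(P, V.1) ⧸ J ^ (n + 1) := (Submodule.mkQ _).comp (J ^ 0).subtype
  have hg : Function.Surjective g' := fun z => by
    obtain ⟨z, rfl⟩ := Submodule.Quotient.mk_surjective _ z
    exact ⟨⟨z, by rw [pow_zero, Ideal.one_eq_top]; exact Submodule.mem_top⟩, rfl⟩
  have hk : LinearMap.ker g' = Submodule.comap (J ^ 0).subtype (J ^ (n + 1)) := by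
    simp [g', LinearMap.ker_comp]
  exact Module.Flat.of_linearEquiv
    (((g'.quotKerEquivOfSurjective hg).symm ≪≫ₗ Submodule.quotEquivOfEq _ _ hk).restrictScalars Γ(S, W))

theorem ker_comap_of_isPullback {Z Z' P P' : Scheme.{u}} (j : Z ⟶ P) [IsClosedImmersion j] {j' : Z' ⟶ P'}
    {p : Z' ⟶ Z} {q : P' ⟶ P} (h : IsPullback p j' j q) : j'.ker = j.ker.comap q := by
  rw [← Scheme.IdealSheafData.ker_fst_of_isClosedImmersion j q, ← h.flip.isoPullback_hom_fst,
    Scheme.Hom.ker_comp_of_isIso]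


/-- Formation of M commutes with base change: let f : X ⟶ S be locally projective, flat, surjective and
locally of finite presentation, with every fibre of local dimension n at each of its points, and let
i : Y ⟶ X be a closed immersion that is regular of constant codimension c ≤ n (locally cut out by a
regular sequence of length c) such that Y ⟶ S is again locally projective, flat, surjective and
locally of finite presentation with fibres of local dimension n − c everywhere. Let b : M ⟶ P¹_X be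
a blowing-up of P¹_X in the closed subscheme Y × {∞} (the image of Y under the section at infinity),
given through its universal property. Let S' ⟶ S be any morphism, X' = X ×_S S' and Y' = Y ×_S S'
the base changes with the induced closed immersion i' : Y' ⟶ X', and M' = M ×_{P¹_X} P¹_{X'} with
projection b' : M' ⟶ P¹_{X'} (so M' = M ×_S S'). Then b' is a blowing-up of P¹_{X'} in Y' × {∞}: the
formation of the deformation to the normal cone commutes with arbitrary base change on S. -/
theorem result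
    {S S' X X' Y Y' M M' : Scheme.{u}} (f : X ⟶ S) (n c : ℕ) (hc : c ≤ n)
    (hfproj : RedSub.IsLocallyProjective (Over.mk f))
    [Flat f] [Surjective f] [LocallyOfFinitePresentation f]
    (hfdim : ∀ x : ↥X, FlatMor.fibreDimAt f x = n)
    (i : Y ⟶ X) [IsClosedImmersion i]
    (hi : RegImm.IsRegularImmersionOfCodim RegImm.Kind.regular c i)
    (hgproj : RedSub.IsLocallyProjective (Over.mk (i ≫ f)))
    [Flat (i ≫ f)] [Surjective (i ≫ f)] [LocallyOfFinitePresentation (i ≫ f)]
    (hgdim : ∀ y : ↥Y, FlatMor.fibreDimAt (i ≫ f) y = ((n - c : ℕ) : WithBot ℕ∞))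
    (b : M ⟶ CohB1.ProjSpaceOver 1 X)
    (hb : BlowUp.IsBlowUp b (i ≫ P1.sect X 1).ker)
    (h : S' ⟶ S) (f' : X' ⟶ S') (g : X' ⟶ X) (hX : IsPullback g f' f h)
    (i' : Y' ⟶ X') (gY : Y' ⟶ Y) (hY : IsPullback gY i' i g)
    (b' : M' ⟶ CohB1.ProjSpaceOver 1 X') (μ : M' ⟶ M) (hM : IsPullback μ b' b (P1.toP1 g)) :
    BlowUp.IsBlowUp b' (i' ≫ P1.sect X' 1).ker := by
  haveI : IsProper (CohB1.ProjSpace.toSpec 1 (ULift.{u} ℤ)) := inferInstance
  haveI : IsSeparated (CohB1.ProjSpaceOver.toBase 1 X) := MorphismProperty.pullback_snd _ _ inferInstance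
  have hs := Groth.Agent.P1CompLib.sect_toBase X 1
  haveI : IsClosedImmersion (P1.sect X 1 ≫ CohB1.ProjSpaceOver.toBase 1 X) := by rw [hs]; infer_instance
  haveI : IsClosedImmersion (P1.sect X 1) := IsClosedImmersion.of_comp _ (CohB1.ProjSpaceOver.toBase 1 X)
  let g0 := CohB1.ProjSpaceOver.toBase 1 X ≫ f
  haveI : Flat ((i ≫ P1.sect X 1) ≫ g0) := by
    show Flat ((i ≫ P1.sect X 1) ≫ CohB1.ProjSpaceOver.toBase 1 X ≫ f)
    rw [Category.assoc, reassoc_of% hs]
    infer_instance
  have hflat := fun m => flat_pow_of_quasi (i ≫ P1.sect X 1) g0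
    (Groth.Agent.ASp.RegImmSp.isRegularImmersion_comp_quasi _ i (quasi_sect X 1) (seq_of_regular_imm i hi)) m
  have hP := (Groth.Agent.P1CompLib.isPullback_toP1 g).paste_vert hX
  have hsect : P1.sect X' 1 ≫ P1.toP1 g = g ≫ P1.sect X 1 := by
    refine pullback.hom_ext ?_ ?_
    · simp [P1.sect, P1.toP1, specULiftZIsTerminal.hom_ext (g ≫ specULiftZIsTerminal.from X) (specULiftZIsTerminal.from X'),
        reassoc_of% (specULiftZIsTerminal.hom_ext (g ≫ specULiftZIsTerminal.from X) (specULiftZIsTerminal.from X'))]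
    · simp [P1.sect, P1.toP1]
  have hid : IsPullback g (P1.sect X' 1) (P1.sect X 1) (P1.toP1 g) := by
    refine IsPullback.of_bot ?_ hsect.symm (Groth.Agent.P1CompLib.isPullback_toP1 g)
    rw [hs, Groth.Agent.P1CompLib.sect_toBase X' 1]
    exact IsPullback.of_id_snd
  have hJ := ker_comap_of_isPullback (i ≫ P1.sect X 1) (hY.paste_vert hid)
  rw [hJ]
  have hflatE := Groth.Agent.BlowFlatPowLib.flat_exceptional_divisor hflat hb
  have hsq : IsPullback μ (b' ≫ CohB1.ProjSpaceOver.toBase 1 X' ≫ f') (b ≫ g0) h := hM.paste_vert hP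
  refine ⟨?_, fun T t hh => ?_⟩
  · have h1 : μ = hsq.isoPullback.hom ≫ pullback.fst (b ≫ g0) h := hsq.isoPullback_hom_fst.symm
    rw [← Scheme.IdealSheafData.comap_comp, ← hM.w, Scheme.IdealSheafData.comap_comp, h1,
      Scheme.IdealSheafData.comap_comp]
    exact Groth.Agent.BlowCompLib.isEffCartier_comap_openImmersion
      (Groth.Agent.RelDivLib.isEffCartier_baseChange (b ≫ g0) ((i ≫ P1.sect X 1).ker.comap b) hb.1 h) _
  · rw [← Scheme.IdealSheafData.comap_comp] at hh
    obtain ⟨w, hw, huniq⟩ := hb.2 T (t ≫ P1.toP1 g) hh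
    refine ⟨hM.lift w t hw, hM.lift_snd _ _ _, fun w' hw' => hM.hom_ext ?_ ?_⟩
    · rw [hM.lift_fst]
      refine huniq _ ?_
      show (w' ≫ μ) ≫ b = t ≫ P1.toP1 g
      rw [Category.assoc, hM.w, reassoc_of% hw']
    · rw [hM.lift_snd, hw']

end Groth.Agent.S19499
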