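import Groth.Statements.S1950
import Groth.Agent.ChiCycLib.PushProd
-- import your own Groth.Agent.* helpers here

set_option autoImplicit false
set_option linter.style.haveILetI false
set_option maxHeartbeats 800000
set_option backward.isDefEq.respectTransparency false
universe u
open CategoryTheory CategoryTheory.Limits AlgebraicGeometry
attribute [local instance] HasDerivedCategory.standard
open IntMult

namespace Groth.Agent.S1950

/-- Let f : X → Y be proper and flat, where X and Y are nonsingular varieties over K of dimensions n and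
m, e = n − m, α an r-cycle on X and β an s-cycle on Y such that α and f^*β intersect properly. The
pushforward f_*α then meets β properly, and on Y the cycle f_*α · β equals f_*(α · f^*β) (flat
pullback and products taken coefficientwise; f_* is Mathlib's pushforward, applied to any cycle with
the coefficients of α · f^*β). Here X is a nonsingular variety over the algebraically closed field K
(smooth, separated, quasi-compact, integral) with dimension function δ (transcendence degree) and n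
= dim X; cycles are Mathlib AlgebraicCycles with Cyc.Zk membership, proper intersection is
IntMult.IntersectProperly and α · β is the Tor-formula intersection product on coefficient functions
(IntMult.interProd), bundled where needed as 'any cycle with these coefficients'. -/
theorem result (K : Type u) [Field K] [IsAlgClosed K] (X Y : Scheme.{u}) (f : X ⟶ Y) (gX : X ⟶ Spec (CommRingCat.of K)) (gY : Y ⟶ Spec (CommRingCat.of K)) (hf : f ≫ gY = gX) [Smooth gX] [IsSeparated gX] [QuasiCompact gX] [IsIntegral X] [Smooth gY] [IsSeparated gY] [QuasiCompact gY] [IsIntegral Y] [Flat f] [IsProper f] (δX : X → ℤ) (δY : Y → ℤ) (hX : Cyc.IsSetup X δX) (hY : Cyc.IsSetup Y δY) (hδX : Cyc.DeltaCompat gX δX (fun _ => 0)) (hδY : Cyc.DeltaCompat gY δY (fun _ => 0)) (hδ : Cyc.DeltaCompat f δX δY) (n m : ℤ) (hn : δX (genericPoint X) = n) (hm : δY (genericPoint Y) = m) (e : ℕ) (he : (e : ℤ) = n - m) (hrel : Cyc.HasRelDim f e) (r s : ℤ) (α : AlgebraicCycle X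 ℤ) (β : AlgebraicCycle Y ℤ) (hα : α ∈ Cyc.Zk X δX r) (hβ : β ∈ Cyc.Zk Y δY s) (hprop : IntMult.IntersectProperly δX n ⇑α (Cyc.pullFun f δX δY e ⇑β)) (γ : AlgebraicCycle X ℤ) (hγ : ⇑γ = IntMult.interProd δX n ⇑α (Cyc.pullFun f δX δY e ⇑β)) : IntMult.IntersectProperly δY m ⇑(AlgebraicCycle.map f δX δY α) ⇑β ∧ IntMult.interProd δY m ⇑(AlgebraicCycle.map f δX δY α) ⇑β = ⇑(AlgebraicCycle.map f δX δY γ) := by
  classical
  haveI := hX.1
  haveI := hY.1
  have hδX' := hX.2.2
  have hδY' := hY.2.2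
  have hs : CycLib.IsShift f δX δY (e : ℤ) := CycLib.IsShift.of_relDim hX hY e hrel hδ
  have hα' : ∀ x, α x ≠ 0 → δX x = r := fun x h => by
    by_contra h'
    exact h (hα x h')
  have hβ' : ∀ y, β y ≠ 0 → δY y = s := fun y h => by
    by_contra h'
    exact h (hβ y h')
  have hdge : ∀ x : X, δY (f x) ≤ δX x := fun x => by
    obtain ⟨c, -, hc⟩ := hδ x
    omega
  have hcommon : ∀ (ξ : X) (η : Y) (t : X), α ξ ≠ 0 → β η ≠ 0 → ξ ⤳ t → η ⤳ f t → δX t ≤ r + s - m := by
    intro ξ η t h1 h2 h3 h4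
    obtain ⟨w, hwt, hw⟩ := Flat.generalizingMap f h4
    obtain ⟨η', hη'w, hη', hmax⟩ := CycLib.exists_maxFib f w
    have e1 : δX η' = δY (f η') + (e : ℤ) := hs η' hmax
    have hlen : ((Module.length (X.presheaf.stalk η') (X.presheaf.stalk η' ⧸ CycLib.fibIdeal f η')).toNat : ℤ) ≠ 0 := by
      haveI : Nontrivial (X.presheaf.stalk η' ⧸ CycLib.fibIdeal f η') := Ideal.Quotient.nontrivial_iff.2
        (ne_top_of_le_ne_top (IsLocalRing.maximalIdeal.isMaximal _).ne_top (CycLib.fibIdeal_le f η'))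
      have hne : Module.length (X.presheaf.stalk η') (X.presheaf.stalk η' ⧸ CycLib.fibIdeal f η') ≠ 0 :=
        Module.length_pos.ne'
      have htop := Module.length_ne_top_iff.2 (CycLib.isFiniteLength_fib f hmax)
      exact Nat.cast_ne_zero.2 fun h0 => (ENat.toNat_eq_zero.1 h0).elim hne htop
    have hfη : f η' = η := hη'.trans hw
    have hne : Cyc.pullFun f δX δY e ⇑β η' ≠ 0 := by
      rw [CycLib.pullFun_apply, if_pos e1, hfη]
      exact mul_ne_zero h2 hlen
    have h5 := hprop ξ η' t h1 hne h3 (hη'w.trans hwt)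
    rw [hα' ξ h1, e1, hfη, hβ' η h2] at h5
    omega
  have hlift : ∀ (ξ : X) (t : Y), f ξ ⤳ t → ∃ x, ξ ⤳ x ∧ f x = t := fun ξ t h => by
    have hc : IsClosed (f '' closure ({ξ} : Set X)) := f.isClosedMap _ isClosed_closure
    obtain ⟨x, hx, hxt⟩ := hc.closure_subset_iff.2 (Set.singleton_subset_iff.2 ⟨ξ, subset_closure rfl, rfl⟩)
      (specializes_iff_mem_closure.1 h)
    exact ⟨x, specializes_iff_mem_closure.2 hx, hxt⟩
  have hmap : ∀ (c : AlgebraicCycle X ℤ) (y : Y), AlgebraicCycle.map f δX δY c y =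
      ∑ᶠ x ∈ f ⁻¹' {y}, c x * (AlgebraicCycle.mapCoeff f δX δY x : ℤ) := fun c y => by
    rw [AlgebraicCycle.map, Function.locallyFinsupp.map_apply]
  have hmap0 : ∀ (c : AlgebraicCycle X ℤ) (y : Y), AlgebraicCycle.map f δX δY c y ≠ 0 →
      ∃ x, f x = y ∧ c x ≠ 0 ∧ δX x = δY y := fun c y h => by
    rw [hmap] at h
    obtain ⟨x, hx, hne⟩ := exists_ne_zero_of_finsum_mem_ne_zero h
    refine ⟨x, hx, left_ne_zero_of_mul hne, ?_⟩
    by_contra hne'
    refine right_ne_zero_of_mul hne ?_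
    rw [AlgebraicCycle.mapCoeff, if_neg fun h => hne' (by rw [← show f x = y from hx]; exact h)]
    rfl
  have hproper : IntMult.IntersectProperly δY m ⇑(AlgebraicCycle.map f δX δY α) ⇑β := by
    intro y η z hy hη hyz hηz
    obtain ⟨ξ, rfl, hξ, hd⟩ := hmap0 α y hy
    obtain ⟨x, hξx, rfl⟩ := hlift ξ z hyz
    have h1 := hcommon ξ η x hξ hη hξx hηz
    have h2 := hdge x
    rw [← hd, hα' ξ hξ, hβ' η hη]
    omega
  refine ⟨hproper, funext fun z => ?_⟩
  by_cases hcase : δY z = r + s - m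
  swap
  · have h1 : IntMult.interProd δY m ⇑(AlgebraicCycle.map f δX δY α) ⇑β z = 0 := by
      refine finsum_eq_zero_of_forall_eq_zero fun p => ?_
      by_contra hne
      obtain ⟨x, hx, hxne, hd⟩ := hmap0 α _ (left_ne_zero_of_mul (left_ne_zero_of_mul hne))
      have h2 := hβ' _ (right_ne_zero_of_mul (left_ne_zero_of_mul hne))
      have h3 := p.2.2.2
      rw [← hd, hα' x hxne, h2] at h3
      exact hcase h3.symm
    rw [h1]
    by_contra hne
    obtain ⟨x, hx, hxne, hd⟩ := hmap0 γ z (Ne.symm hne)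
    rw [hγ] at hxne
    obtain ⟨p, q, hp, hq, -, -, hd'⟩ := ChiCycLib.interProd_ne_zero hxne
    have h2 := hα' p hp
    rw [CycLib.pullFun_apply] at hq
    split_ifs at hq with hq1
    · have h3 := hβ' _ (left_ne_zero_of_mul hq)
      omega
    · exact hq rfl
  -- the relevant points
  have hKc : IsCompact (f ⁻¹' {z}) := f.isCompact_preimage_singleton z
  have hSA : {ξ : X | α ξ ≠ 0 ∧ ∃ x, f x = z ∧ ξ ⤳ x}.Finite := by
    choose U hU hUfin using fun x => α.locallyFiniteSupport x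
    obtain ⟨F, -, hF⟩ := hKc.elim_nhds_subcover (fun x => interior (U x)) (fun x _ => interior_mem_nhds.2 (hU x))
    refine (F.finite_toSet.biUnion fun x _ => hUfin x).subset fun ξ hξ => ?_
    obtain ⟨hξ, x, hx, hξx⟩ := hξ
    obtain ⟨i, hi, hxi⟩ := Set.mem_iUnion₂.1 (hF (show x ∈ f ⁻¹' {z} from hx))
    exact Set.mem_biUnion hi ⟨interior_subset (hξx.mem_open isOpen_interior hxi), hξ⟩
  have hTB : {η : Y | β η ≠ 0 ∧ η ⤳ z}.Finite := by
    obtain ⟨U, hU, hUfin⟩ := β.locallyFiniteSupport z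
    exact hUfin.subset fun η hη => ⟨interior_subset (hη.2.mem_open isOpen_interior (mem_interior_iff_mem_nhds.2 hU)), hη.1⟩
  set SA := hSA.toFinset with hSAdef
  set TB := hTB.toFinset with hTBdef
  have hmSA : ∀ {ξ}, ξ ∈ SA ↔ α ξ ≠ 0 ∧ ∃ x, f x = z ∧ ξ ⤳ x := fun {ξ} => hSA.mem_toFinset
  have hmTB : ∀ {η}, η ∈ TB ↔ β η ≠ 0 ∧ η ⤳ z := fun {η} => hTB.mem_toFinset
  have hpair : ∀ ξ ∈ SA, ∀ η ∈ TB, _ := fun ξ hξ η hη =>
    ChiCycLib.push_pair f gX (r := r) (s := s) (k := r + s - m) hδX' hδY' rfl gY hδY hm hδ ξ η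
      (hα' ξ (hmSA.1 hξ).1) (hβ' η (hmTB.1 hη).1) z hcase (hmTB.1 hη).2
      (fun t h1 h2 => hcommon ξ η t (hmSA.1 hξ).1 (hmTB.1 hη).1 h1 h2)
  -- the left-hand side
  let A := Y.presheaf.stalk z
  let pr : Y → PrimeSpectrum A := fun y =>
    if h : y ⤳ z then (CycLib.exists_fromSpecStalk h).choose else IsLocalRing.closedPoint A
  have hpr : ∀ y, y ⤳ z → Y.fromSpecStalk z (pr y) = y := fun y h => by
    simp only [pr, dif_pos h]
    exact (CycLib.exists_fromSpecStalk h).choose_spec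
  have hprinv : ∀ p, pr (Y.fromSpecStalk z p) = p := fun p =>
    (Y.fromSpecStalk z).isEmbedding.injective (hpr _ (CycLib.fromSpecStalk_specializes p))
  set SA' := SA.filter (fun ξ => δY (f ξ) = r ∧ f ξ ⤳ z) with hSA'
  have hmapα : ∀ p ∈ SA'.image (fun ξ => pr (f ξ)), AlgebraicCycle.map f δX δY α (Y.fromSpecStalk z p) =
      ∑ ξ ∈ SA'.filter (fun ξ => pr (f ξ) = p), α ξ * (f.residueDegree ξ : ℤ) := by
    intro p _
    rw [hmap, finsum_mem_eq_sum_of_inter_support_eq _ (t := SA'.filter (fun ξ => pr (f ξ) = p))]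
    · refine Finset.sum_congr rfl fun ξ hξ => ?_
      obtain ⟨hξ', -⟩ := Finset.mem_filter.1 hξ
      obtain ⟨hξS, hr, -⟩ := Finset.mem_filter.1 hξ'
      rw [AlgebraicCycle.mapCoeff, if_pos (show δX ξ = δY (f ξ) by rw [hα' ξ (hmSA.1 hξS).1, hr])]
    · ext ξ
      constructor
      · rintro ⟨hξ, hne⟩
        refine ⟨?_, hne⟩
        have hξ0 : α ξ ≠ 0 := left_ne_zero_of_mul hne
        have hd : δX ξ = δY (f ξ) := by
          by_contra hne'
          refine right_ne_zero_of_mul hne ?_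
          rw [AlgebraicCycle.mapCoeff, if_neg hne']
          rfl
        have hsp : f ξ ⤳ z := by
          rw [show f ξ = Y.fromSpecStalk z p from hξ]
          exact CycLib.fromSpecStalk_specializes p
        obtain ⟨x, hξx, hx⟩ := hlift ξ z hsp
        refine Finset.mem_coe.2 (Finset.mem_filter.2 ⟨Finset.mem_filter.2 ⟨hmSA.2 ⟨hξ0, x, hx, hξx⟩,
          by rw [← hd]; exact hα' ξ hξ0, hsp⟩, ?_⟩)
        rw [show f ξ = Y.fromSpecStalk z p from hξ, hprinv]
      · rintro ⟨hξ, hne⟩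
        obtain ⟨hξ', rfl⟩ := Finset.mem_filter.1 (Finset.mem_coe.1 hξ)
        exact ⟨(hpr _ (Finset.mem_filter.1 hξ').2.2).symm, hne⟩
  have hL : IntMult.interProd δY m ⇑(AlgebraicCycle.map f δX δY α) ⇑β z =
      ∑ ξ ∈ SA, ∑ η ∈ TB, α ξ * β η * (if δY (f ξ) = r ∧ f ξ ⤳ z then
        (f.residueDegree ξ : ℤ) * IntMult.mult (IntMult.ptIdeal (f ξ)) (IntMult.ptIdeal η) z else 0) := by
    rw [ChiCycLib.interProd_eq_sum (r := r) (s := s) _ _ z hcase (SA'.image fun ξ => pr (f ξ)) (TB.image pr)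
      (fun p hp => by
        obtain ⟨ξ, hξ, rfl⟩ := Finset.mem_image.1 hp
        rw [hpr _ (Finset.mem_filter.1 hξ).2.2]
        exact (Finset.mem_filter.1 hξ).2.1)
      (fun q hq => by
        obtain ⟨η, hη, rfl⟩ := Finset.mem_image.1 hq
        rw [hpr _ (hmTB.1 hη).2]
        exact hβ' η (hmTB.1 hη).1)
      (fun p hp => by
        obtain ⟨ξ, hξ, hξ0, hd⟩ := hmap0 α _ hp
        have hsp : f ξ ⤳ z := hξ ▸ CycLib.fromSpecStalk_specializes p
        obtain ⟨x, hξx, hx⟩ := hlift ξ z hsp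
        exact Finset.mem_image.2 ⟨ξ, Finset.mem_filter.2 ⟨hmSA.2 ⟨hξ0, x, hx, hξx⟩,
          by rw [hξ, ← hd]; exact hα' ξ hξ0, hsp⟩, by rw [hξ, hprinv]⟩)
      (fun q hq => Finset.mem_image.2 ⟨_, hmTB.2 ⟨hq, CycLib.fromSpecStalk_specializes q⟩, hprinv q⟩)]
    simp only [mul_ite, mul_zero]
    rw [Finset.sum_congr (g := fun ξ => if δY (f ξ) = r ∧ f ξ ⤳ z then ∑ η ∈ TB, α ξ * β η *
      ((f.residueDegree ξ : ℤ) * IntMult.mult (IntMult.ptIdeal (f ξ)) (IntMult.ptIdeal η) z) else 0) (s₁ := SA) rfl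
      (fun ξ _ => by split_ifs <;> simp), ← Finset.sum_filter, ← hSA',
      ← Finset.sum_fiberwise_of_maps_to (g := fun ξ => pr (f ξ)) (t := SA'.image fun ξ => pr (f ξ))
        (fun ξ hξ => Finset.mem_image_of_mem _ hξ)]
    refine Finset.sum_congr rfl fun p hp => ?_
    rw [Finset.sum_image (fun a ha b hb e => by
      rw [← hpr a (hmTB.1 ha).2, ← hpr b (hmTB.1 hb).2, e]), hmapα p hp, Finset.sum_comm]
    refine Finset.sum_congr rfl fun η hη => ?_
    rw [Finset.sum_mul, Finset.sum_mul]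
    refine Finset.sum_congr rfl fun ξ hξ => ?_
    obtain ⟨hξ', rfl⟩ := Finset.mem_filter.1 hξ
    conv_rhs => rw [← hpr _ (Finset.mem_filter.1 hξ').2.2, ← hpr η (hmTB.1 hη).2, ChiCycLib.mult_fromSpecStalk]
    ring
  -- the right-hand side
  have hdelta : ∀ x, f x = z → γ x ≠ 0 → δX x = r + s - m := by
    intro x hx hne
    rw [hγ] at hne
    obtain ⟨p, q, hp, hq, -, -, hd'⟩ := ChiCycLib.interProd_ne_zero hne
    have h2 := hα' p hp
    rw [CycLib.pullFun_apply] at hq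
    split_ifs at hq with hq1
    · have h3 := hβ' _ (left_ne_zero_of_mul hq)
      omega
    · exact absurd rfl hq
  let Fset : Set X := {x | f x = z ∧ (γ x ≠ 0 ∨ (TB.Nonempty ∧ ∃ ξ ∈ SA, ξ ⤳ x))}
  have hFfin : Fset.Finite := by
    refine ((γ.locallyFiniteSupport.finite_inter_support_of_isCompact hKc).union
      (SA.finite_toSet.biUnion (t := fun ξ => if TB.Nonempty then {x | f x = z ∧ ξ ⤳ x} else ∅) fun ξ hξ => ?_)).subset
      fun x hx => ?_
    · by_cases h : TB.Nonempty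
      · rw [if_pos h]
        obtain ⟨η, hη⟩ := h
        exact (hpair ξ hξ η hη).1
      · rw [if_neg h]
        exact Set.finite_empty
    · obtain ⟨hx, h | ⟨hne, ξ, hξ, hξx⟩⟩ := hx
      · exact Or.inl ⟨hx, h⟩
      · exact Or.inr (Set.mem_biUnion hξ (by rw [if_pos hne]; exact ⟨hx, hξx⟩))
  set F := hFfin.toFinset with hFdef
  have hmF : ∀ {x}, x ∈ F ↔ x ∈ Fset := fun {x} => hFfin.mem_toFinset
  have hdF : ∀ x ∈ F, f x = z ∧ δX x = r + s - m := fun x hx => by
    obtain ⟨hxz, h | ⟨⟨η, hη⟩, ξ, hξ, hξx⟩⟩ := hmF.1 hx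
    · exact ⟨hxz, hdelta x hxz h⟩
    · exact ⟨hxz, (hpair ξ hξ η hη).2.1 x hxz hξx⟩
  have hγx : ∀ x ∈ F, γ x * (AlgebraicCycle.mapCoeff f δX δY x : ℤ) =
      ∑ ξ ∈ SA, ∑ η ∈ TB, α ξ * β η * (if ξ ⤳ x then (f.residueDegree x : ℤ) * ChiCycLib.cc f ξ η x else 0) := by
    intro x hx
    obtain ⟨hxz, hxk⟩ := hdF x hx
    let B := X.presheaf.stalk x
    let prX : X → PrimeSpectrum B := fun w =>
      if h : w ⤳ x then (CycLib.exists_fromSpecStalk h).choose else IsLocalRing.closedPoint B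
    have hprX : ∀ w, w ⤳ x → X.fromSpecStalk x (prX w) = w := fun w h => by
      simp only [prX, dif_pos h]
      exact (CycLib.exists_fromSpecStalk h).choose_spec
    let Tq : Y → Finset (PrimeSpectrum B) := fun η =>
      if h : δY η = s then (ChiCycLib.finite_comps f hδX' hδY' hs η h x).1.toFinset else ∅
    have hTqe : ∀ η (h : δY η = s), Tq η = (ChiCycLib.finite_comps f hδX' hδY' hs η h x).1.toFinset :=
      fun η h => by unfold Tq; exact dif_pos h
    have hTq : ∀ {η Q}, η ∈ TB → (Q ∈ Tq η ↔ δX (X.fromSpecStalk x Q) = s + e ∧ η ⤳ f (X.fromSpecStalk x Q)) :=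
      fun {η Q} hη => by
        rw [hTqe η (hβ' _ (hmTB.1 hη).1)]
        exact Set.Finite.mem_toFinset _
    have hTq' : ∀ {η Q}, η ∈ TB → Q ∈ Tq η → f (X.fromSpecStalk x Q) = η := fun {η Q} hη hQ =>
      (((ChiCycLib.finite_comps f hδX' hδY' hs η (hβ' _ (hmTB.1 hη).1) x).2 Q ((hTq hη).1 hQ).2).2
        ((hTq hη).1 hQ).1).1
    have hdisj : (TB : Set Y).PairwiseDisjoint Tq := fun a ha b hb hne =>
      Finset.disjoint_left.2 fun Q hQ hQ' => hne ((hTq' ha hQ).symm.trans (hTq' hb hQ'))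
    rw [AlgebraicCycle.mapCoeff, if_pos (show δX x = δY (f x) by rw [hxz, hxk, hcase]), hγ,
      ChiCycLib.interProd_eq_sum (r := r) (s := s + (e : ℤ)) _ _ x (by omega)
        ((SA.filter (fun ξ => ξ ⤳ x)).image prX) (TB.biUnion Tq)
        (fun p hp => by
          obtain ⟨ξ, hξ, rfl⟩ := Finset.mem_image.1 hp
          rw [hprX _ (Finset.mem_filter.1 hξ).2]
          exact hα' ξ (hmSA.1 (Finset.mem_filter.1 hξ).1).1)
        (fun Q hQ => by
          obtain ⟨η, hη, hQ⟩ := Finset.mem_biUnion.1 hQ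
          exact ((hTq hη).1 hQ).1)
        (fun p hp => Finset.mem_image.2 ⟨_, Finset.mem_filter.2
          ⟨hmSA.2 ⟨hp, x, hxz, CycLib.fromSpecStalk_specializes p⟩, CycLib.fromSpecStalk_specializes p⟩,
          (X.fromSpecStalk x).isEmbedding.injective (hprX _ (CycLib.fromSpecStalk_specializes p))⟩)
        (fun Q hQ => by
          rw [CycLib.pullFun_apply] at hQ
          split_ifs at hQ with h1
          · have h2 := left_ne_zero_of_mul hQ
            have hη : f (X.fromSpecStalk x Q) ∈ TB := hmTB.2 ⟨h2, by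
              rw [← hxz]; exact (CycLib.fromSpecStalk_specializes Q).map f.continuous⟩
            exact Finset.mem_biUnion.2 ⟨_, hη, (hTq hη).2 ⟨by rw [← hβ' _ h2]; exact h1, specializes_rfl⟩⟩
          · exact absurd rfl hQ)]
    rw [Finset.sum_image (fun a ha b hb e' => by
      rw [← hprX a (Finset.mem_filter.1 ha).2, ← hprX b (Finset.mem_filter.1 hb).2, e']), Finset.sum_mul]
    rw [Finset.sum_filter]
    refine Finset.sum_congr rfl fun ξ hξ => ?_
    by_cases hξx : ξ ⤳ x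
    swap
    · simp only [if_neg hξx, mul_zero, Finset.sum_const_zero]
    rw [if_pos hξx, Finset.sum_biUnion hdisj, Finset.sum_mul]
    refine Finset.sum_congr rfl fun η hη => ?_
    rw [if_pos hξx, ChiCycLib.cc_eq f gX hδX' hδY' hδX hn he hs (k := r + s - m) rfl ξ η (hα' ξ (hmSA.1 hξ).1)
      (hβ' η (hmTB.1 hη).1) x hξx (by rw [hxz]; exact (hmTB.1 hη).2) hxk
      (fun t h1 h2 => hcommon ξ η t (hmSA.1 hξ).1 (hmTB.1 hη).1 h1 h2) (prX ξ) (hprX ξ hξx),
      ← hTqe η (hβ' η (hmTB.1 hη).1), Finset.sum_mul, Finset.mul_sum, Finset.mul_sum]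
    refine Finset.sum_congr rfl fun Q hQ => ?_
    rw [hprX ξ hξx, CycLib.pullFun_apply, if_pos (show δX (X.fromSpecStalk x Q) = δY (f (X.fromSpecStalk x Q)) + e by
      rw [hTq' hη hQ, ((hTq hη).1 hQ).1, hβ' η (hmTB.1 hη).1]), hTq' hη hQ]
    ring
  rw [hL, hmap, finsum_mem_eq_sum_of_inter_support_eq _ (t := F) (by
    ext x
    constructor
    · rintro ⟨hx, hne⟩
      exact ⟨hmF.2 ⟨hx, Or.inl (left_ne_zero_of_mul hne)⟩, hne⟩
    · rintro ⟨hx, hne⟩
      exact ⟨(hdF x hx).1, hne⟩), Finset.sum_congr rfl hγx]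
  conv_rhs => rw [Finset.sum_comm]
  refine Finset.sum_congr rfl fun ξ hξ => ?_
  rw [Finset.sum_comm]
  refine Finset.sum_congr rfl fun η hη => ?_
  rw [← (hpair ξ hξ η hη).2.2, ← Finset.mul_sum, ← Finset.sum_filter]
  congr 1
  refine (finsum_mem_eq_sum_of_inter_support_eq _ ?_)
  ext x
  constructor
  · rintro ⟨⟨hx, hξx⟩, hne⟩
    exact ⟨Finset.mem_coe.2 (Finset.mem_filter.2 ⟨hmF.2 ⟨hx, Or.inr ⟨⟨η, hη⟩, ξ, hξ, hξx⟩⟩, hξx⟩), hne⟩
  · rintro ⟨hx, hne⟩
    obtain ⟨h1, h2⟩ := Finset.mem_filter.1 (Finset.mem_coe.1 hx)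
    exact ⟨⟨(hdF x h1).1, h2⟩, hne⟩

end Groth.Agent.S1950
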