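import Groth.Statements.S19502
import Mathlib

set_option autoImplicit false
universe u
open W4c3ghconstell

namespace Groth.Agent.S19502

/-- Let ι index the irreducible representations, θ : ι → ℚ a weight which is negative exactly on the
finite set D₋, h h' : ι → ℕ with h' ≤ h pointwise (the isotypic dimensions of an object and of a
sub-object) and Σ_i θ_i h_i summable. For a finite set D of indices put S_D = Σ_{i ∉ D} θ_i h_i, d =
#(D ∖ D₋) and θ̃_D = Σ_{i ∈ D} θ_i h'_i + (S_D / d) · Σ_{i ∈ D ∖ D₋} h'_i / h_i, the modified weight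
attached to the parameters chosen for D (a quotient by zero is read as zero). Then for finite sets
D₋ ⊆ D ⊆ D̃ contained in the locus θ ≠ 0: (first error term) θ̃_{D̃} − θ̃_D = Σ_{τ ∈ D̃ ∖ D} (θ_τ
h_τ + S_{D̃}/d̃) · (h'_τ/h_τ − (1/d) Σ_{σ ∈ D ∖ D₋} h'_σ/h_σ); (second error term) Σ_i θ_i h'_i −
θ̃_D = Σ_{τ ∉ D} θ_τ h_τ · (h'_τ/h_τ − (1/d) Σ_{σ ∈ D ∖ D₋} h'_σ/h_σ). -/
theorem result {ι : Type u} [DecidableEq ι]
    (θ : ι → ℚ) (h h' : ι → ℕ) (hle : ∀ i, h' i ≤ h i) (hfin : {i | θ i < 0}.Finite)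
    (hsum : Summable (fun i => (θ i : ℝ) * (h i : ℝ))) (D D' : Finset ι)
    (hDm : hfin.toFinset ⊆ D) (hDD' : D ⊆ D') (hsupp : ∀ i ∈ D', θ i ≠ 0) :
    (((∑ i ∈ D', (θ i : ℝ) * (h' i : ℝ)) + ((∑' i, if i ∈ D' then (0 : ℝ) else (θ i : ℝ) * (h i : ℝ)) / ((D' \ hfin.toFinset).card : ℝ)) * (∑ σ ∈ D' \ hfin.toFinset, ((h' σ : ℝ) / (h σ : ℝ)))) - ((∑ i ∈ D, (θ i : ℝ) * (h' i : ℝ)) + ((∑' i, if i ∈ D then (0 : ℝ) else (θ i : ℝ) * (h i : ℝ)) / ((D \ hfin.toFinset).card : ℝ)) * (∑ σ ∈ D \ hfin.toFinset, ((h' σ : ℝ) / (h σ : ℝ)))) =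
      ∑ τ ∈ D' \ D, ((θ τ : ℝ) * (h τ : ℝ) + (∑' i, if i ∈ D' then (0 : ℝ) else (θ i : ℝ) * (h i : ℝ)) / ((D' \ hfin.toFinset).card : ℝ)) *
        (((h' τ : ℝ) / (h τ : ℝ)) - (1 / ((D \ hfin.toFinset).card : ℝ)) * (∑ σ ∈ D \ hfin.toFinset, ((h' σ : ℝ) / (h σ : ℝ))))) ∧
    ((∑' i, (θ i : ℝ) * (h' i : ℝ)) - ((∑ i ∈ D, (θ i : ℝ) * (h' i : ℝ)) + ((∑' i, if i ∈ D then (0 : ℝ) else (θ i : ℝ) * (h i : ℝ)) / ((D \ hfin.toFinset).card : ℝ)) * (∑ σ ∈ D \ hfin.toFinset, ((h' σ : ℝ) / (h σ : ℝ)))) =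
      ∑' τ, if τ ∈ D then (0 : ℝ) else (θ τ : ℝ) * (h τ : ℝ) *
        (((h' τ : ℝ) / (h τ : ℝ)) - (1 / ((D \ hfin.toFinset).card : ℝ)) * (∑ σ ∈ D \ hfin.toFinset, ((h' σ : ℝ) / (h σ : ℝ))))) := by
  classical
  set F := hfin.toFinset with hF
  let t : ι → ℝ := fun i => (θ i : ℝ) * (h i : ℝ)
  let r : ι → ℝ := fun i => (h' i : ℝ) / (h i : ℝ)
  have hr : ∀ i, (θ i : ℝ) * (h' i : ℝ) = t i * r i := fun i => by
    rcases Nat.eq_zero_or_pos (h i) with h0 | h0
    · have : h' i = 0 := by have := hle i; omega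
      simp [t, r, h0, this]
    · have h1 : (h i : ℝ) ≠ 0 := by positivity
      simp only [t, r]
      field_simp
  have hst : ∀ E : Finset ι, Summable fun i => if i ∈ E then (0 : ℝ) else t i := fun E =>
    Summable.of_norm_bounded hsum.norm fun i => by
      split_ifs
      · rw [norm_zero]; exact norm_nonneg _
      · exact le_rfl
  set S' := ∑' i, if i ∈ D' then (0 : ℝ) else t i with hS'
  set S := ∑' i, if i ∈ D then (0 : ℝ) else t i with hS
  set d : ℝ := ((D \ F).card : ℝ) with hd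
  set d' : ℝ := ((D' \ F).card : ℝ) with hd'
  set Q := ∑ σ ∈ D \ F, r σ with hQ
  have hSS : S = S' + ∑ τ ∈ D' \ D, t τ := by
    have h1 : (fun i => if i ∈ D then (0 : ℝ) else t i) =
        fun i => (if i ∈ D' then (0 : ℝ) else t i) + (if i ∈ D' \ D then t i else 0) := funext fun i => by
      by_cases hi : i ∈ D
      · simp [hi, hDD' hi]
      · by_cases hi' : i ∈ D' <;> simp [hi, hi']
    rw [hS, h1, Summable.tsum_add (hst D') (summable_of_ne_finset_zero (s := D' \ D) fun i hi => if_neg hi),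
      tsum_eq_sum (s := D' \ D) fun i hi => if_neg hi, hS']
    congr 1
    exact Finset.sum_congr rfl fun i hi => if_pos hi
  have hsplit : D' \ F = (D \ F) ∪ (D' \ D) := by
    ext i
    constructor
    · intro hi
      rw [Finset.mem_sdiff] at hi
      by_cases hiD : i ∈ D
      · exact Finset.mem_union_left _ (Finset.mem_sdiff.2 ⟨hiD, hi.2⟩)
      · exact Finset.mem_union_right _ (Finset.mem_sdiff.2 ⟨hi.1, hiD⟩)
    · intro hi
      rcases Finset.mem_union.1 hi with hi | hi <;> rw [Finset.mem_sdiff] at hi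
      · exact Finset.mem_sdiff.2 ⟨hDD' hi.1, hi.2⟩
      · exact Finset.mem_sdiff.2 ⟨hi.1, fun hF' => hi.2 (hDm hF')⟩
  have hdis : Disjoint (D \ F) (D' \ D) := Finset.disjoint_left.2 fun i h1 h2 =>
    (Finset.mem_sdiff.1 h2).2 (Finset.mem_sdiff.1 h1).1
  have hQ' : ∑ σ ∈ D' \ F, r σ = Q + ∑ τ ∈ D' \ D, r τ := by rw [hsplit, Finset.sum_union hdis]
  have hdd : d' = d + ((D' \ D).card : ℝ) := by
    rw [hd', hd, hsplit, Finset.card_union_of_disjoint hdis]
    push_cast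
    rfl
  constructor
  · show ((∑ i ∈ D', (θ i : ℝ) * (h' i : ℝ)) + S' / d' * ∑ σ ∈ D' \ F, r σ) -
        ((∑ i ∈ D, (θ i : ℝ) * (h' i : ℝ)) + S / d * Q) = ∑ τ ∈ D' \ D, (t τ + S' / d') * (r τ - 1 / d * Q)
    simp only [hr, add_mul, mul_sub, Finset.sum_add_distrib, Finset.sum_sub_distrib, ← Finset.mul_sum, ← Finset.sum_mul,
      Finset.sum_const, nsmul_eq_mul]
    rw [← Finset.sum_sdiff hDD', hQ', hSS]
    rcases eq_or_ne d 0 with h0 | h0
    · have hQ0 : Q = 0 := by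
        rw [hQ, Finset.card_eq_zero.1 (Nat.cast_eq_zero.1 (hd ▸ h0 : ((D \ F).card : ℝ) = 0)), Finset.sum_empty]
      rw [hQ0]; ring
    · have h0' : d' ≠ 0 := by
        have : 0 < d := lt_of_le_of_ne (Nat.cast_nonneg _) (Ne.symm h0)
        rw [hdd]; positivity
      rw [show ((D' \ D).card : ℝ) = d' - d by rw [hdd]; ring]
      field_simp
      ring
  · show (∑' i, (θ i : ℝ) * (h' i : ℝ)) - ((∑ i ∈ D, (θ i : ℝ) * (h' i : ℝ)) + S / d * Q) =
        ∑' τ, if τ ∈ D then (0 : ℝ) else t τ * (r τ - 1 / d * Q)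
    simp only [hr]
    have hs1 : Summable fun i => t i * r i := by
      refine Summable.of_norm_bounded hsum.norm fun i => ?_
      rw [← hr i, norm_mul, norm_mul, Real.norm_natCast, Real.norm_natCast]
      exact mul_le_mul_of_nonneg_left (Nat.cast_le.2 (hle i)) (norm_nonneg _)
    have hs2 : Summable fun i => if i ∈ D then (0 : ℝ) else t i * r i := Summable.of_norm_bounded hs1.norm fun i => by
      split_ifs
      · rw [norm_zero]; exact norm_nonneg _
      · exact le_rfl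
    have h1 : ∑' i, t i * r i = (∑ i ∈ D, t i * r i) + ∑' i, if i ∈ D then (0 : ℝ) else t i * r i := by
      rw [← tsum_eq_sum (L := SummationFilter.unconditional ι) (f := fun i => if i ∈ D then t i * r i else 0) (s := D) (fun i hi => if_neg hi) |>.trans
        (Finset.sum_congr rfl fun i hi => if_pos hi), ← Summable.tsum_add
        (summable_of_ne_finset_zero (s := D) fun i hi => if_neg hi) hs2]
      exact tsum_congr fun i => by split_ifs <;> simp
    have h2 : (∑' τ, if τ ∈ D then (0 : ℝ) else t τ * (r τ - 1 / d * Q)) =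
        (∑' i, if i ∈ D then (0 : ℝ) else t i * r i) - S * (1 / d * Q) := by
      rw [hS, ← tsum_mul_right, ← Summable.tsum_sub hs2 ((hst D).mul_right _)]
      exact tsum_congr fun i => by split_ifs <;> ring
    rw [h1, h2]
    ring

end Groth.Agent.S19502
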