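import Groth.Statements.S19505
import Groth.Agent.S15075
import Groth.Agent.ASBunKS.Coherent
import Groth.Agent.CompleteCurve.ProjSpace

set_option autoImplicit false
universe u
open CategoryTheory CategoryTheory.Limits AlgebraicGeometry TopologicalSpace Opposite
open OrdSurf

namespace Groth.Agent.S19505

open CategoryTheory CategoryTheory.Limits AlgebraicGeometry

open Groth.Agent
set_option backward.isDefEq.respectTransparency false
set_option maxHeartbeats 800000

/-- Let k be an algebraically closed field of characteristic zero and X a smooth projective surface over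
k (an integral k-scheme, smooth over k, of dimension two, admitting a closed immersion over k into
some projective space P^n_k), with generic point η. Let A be a sheaf of rings on X with a morphism φ
: O_X → A of sheaves of rings with central image whose generic stalk A_η is a division ring (simple
as a left module over itself), and let M be a sheaf of A-modules whose underlying O_X-module is
coherent with torsion-free stalks and whose generic stalk M_η is a simple A_η-module. Then M is
simple in the sense that End_A(M) = k: every endomorphism ψ of the sheaf of A-modules M is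
multiplication by a scalar c ∈ k, i.e. on every open U it acts on sections as multiplication by the
image of c in Γ(U, O_X) under the structure map, pushed into A by φ. (The published statement takes
A to be an order on X and M a torsion-free A-module of rank one; only the hypotheses listed are
assumed here, the others playing no role in the argument.) -/
theorem result (k : Type u) [Field k] [IsAlgClosed k] [CharZero k]
    (X : Scheme.{u}) [X.Over (Spec (CommRingCat.of k))] [IsIntegral X]
    [Smooth (X ↘ Spec (CommRingCat.of k))] (hdim : topologicalKrullDim X = 2)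
    (hproj : ∃ (n : ℕ) (ι : X ⟶ CohB1.ProjSpace n k), IsClosedImmersion ι ∧
      ι ≫ CohB1.ProjSpace.toSpec n k = X ↘ Spec (CommRingCat.of k))
    (A : Sheaf (Opens.grothendieckTopology X) RingCat.{u}) (φ : X.ringCatSheaf ⟶ A)
    (hcen : ∀ (U : (Opens X)ᵒᵖ) (s : X.ringCatSheaf.obj.obj U) (a : A.obj.obj U),
      φ.hom.app U s * a = a * φ.hom.app U s)
    (hAη : IsSimpleModule (↑(TopCat.Presheaf.stalk (C := RingCat.{u}) (X := X.carrier) A.obj (genericPoint X))) (↑(TopCat.Presheaf.stalk (C := RingCat.{u}) (X := X.carrier) A.obj (genericPoint X))))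
    (M : SheafOfModules.{u} A)
    (hMc : Coh.IsCoh (X := X) ((SheafOfModules.restrictScalars φ).obj M))
    (hMt : TorSh.IsTorsionFree (X := X) ((SheafOfModules.restrictScalars φ).obj M))
    (hMη : IsSimpleModule (↑(TopCat.Presheaf.stalk (C := RingCat.{u}) (X := X.carrier) A.obj (genericPoint X))) (↑(TopCat.Presheaf.stalk (C := Ab.{u}) (X := X.carrier) M.val.presheaf (genericPoint X))))
    (ψ : M ⟶ M) :
    ∃ c : k, ∀ (U : (Opens X)ᵒᵖ) (m : M.val.obj U),
      (ψ.val.app U).hom m =
        φ.hom.app U ((X.presheaf.map (homOfLE (le_top (a := U.unop))).op)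
          (((X ↘ Spec (CommRingCat.of k)).appTop).hom ((Scheme.ΓSpecIso (CommRingCat.of k)).inv.hom c))) • m := by
  obtain ⟨N₀, j, hj, hjw⟩ := id hproj
  haveI := hj
  haveI : IsProper (X ↘ Spec (CommRingCat.of k)) := by rw [← hjw]; infer_instance
  let g : ∀ U : (Opens X)ᵒᵖ, k →+* A.obj.obj U := fun U =>
    (φ.hom.app U).hom.comp ((X.presheaf.map (homOfLE (le_top (a := U.unop))).op).hom.comp
      ((Coh.toGlobal (X ↘ Spec (CommRingCat.of k)))))
  have hg : ∀ (U V : (Opens X)ᵒᵖ) (i : U ⟶ V) (c : k), A.obj.map i (g U c) = g V c := fun U V i c => by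
    show A.obj.map i (φ.hom.app U _) = φ.hom.app V _
    refine (ConcreteCategory.congr_hom (φ.hom.naturality i) _).symm.trans ?_
    refine congrArg (fun t => (φ.hom.app V).hom t) ?_
    show X.presheaf.map i (X.presheaf.map _ _) = X.presheaf.map _ _
    rw [← CommRingCat.comp_apply, ← X.presheaf.map_comp]
    rfl
  have hgc : ∀ (U : (Opens X)ᵒᵖ) (c : k) (a : A.obj.obj U), g U c * a = a * g U c := fun U c a => hcen U _ a
  let cm : k → End M := fun c =>
    { val := PresheafOfModules.Hom.mk
        (fun U => ModuleCat.ofHom
          { toFun := fun (m : M.val.obj U) => g U c • m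
            map_add' := fun m m' => smul_add _ m m'
            map_smul' := fun a m => by
              rw [RingHom.id_apply, smul_smul, hgc, mul_smul] })
        (fun {U V} i => by
          refine ModuleCat.hom_ext (LinearMap.ext fun m => ?_)
          show g V c • M.val.map i m = M.val.map i (g U c • m)
          rw [PresheafOfModules.map_smul, hg]) }
  have hext : ∀ {a b : End M}, (∀ U m, (a.val.app U).hom m = (b.val.app U).hom m) → a = b := fun h =>
    SheafOfModules.hom_ext (PresheafOfModules.hom_ext fun U => ModuleCat.hom_ext (LinearMap.ext fun m => h U m))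
  let ι : k →+* End M :=
    { toFun := cm
      map_one' := hext fun U m => by show g U 1 • m = m; rw [map_one, one_smul]
      map_mul' := fun a b => hext fun U m => by
        show g U (a * b) • m = g U a • (g U b • m)
        rw [map_mul, mul_smul]
      map_zero' := hext fun U m => by show g U 0 • m = 0; rw [map_zero, zero_smul]
      map_add' := fun a b => hext fun U m => by show g U (a + b) • m = g U a • m + g U b • m; rw [map_add, add_smul] }
  letI : Algebra k (End M) := ι.toAlgebra' fun c f => hext fun U m => by
    show g U c • (f.val.app U).hom m = (f.val.app U).hom (g U c • m)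
    rw [map_smul]
  -- finiteness
  let F : X.Modules := (SheafOfModules.restrictScalars φ).obj M
  letI := ASBunKS.linMod k (X := X)
  letI : Module k (F ⟶ F) := ASBunKS.homModule k F F
  haveI : Module.Finite k (F ⟶ F) := ASBunKS.finite_hom k hMc hMc
  let T : End M →ₗ[k] (F ⟶ F) :=
    { toFun := fun f => (SheafOfModules.restrictScalars φ).map f
      map_add' := fun f f' => (SheafOfModules.restrictScalars φ).map_add
      map_smul' := fun c f => by
        rw [RingHom.id_apply, Algebra.smul_def, ASBunKS.smul_def]
        refine Scheme.Modules.hom_ext _ _ fun U => AddCommGrpCat.hom_ext (AddMonoidHom.ext fun m => ?_)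
        show g (op U) c • (f.val.app (op U)).hom m = (FactorOne.mulEnd F _).app U ((f.val.app (op U)).hom m)
        rw [FactorOne.mulEnd_app]
        rfl }
  have hTi : Function.Injective T := fun f f' h => hext fun U m =>
    congrArg (fun t : F ⟶ F => (t.val.app U).hom m) h
  haveI : FiniteDimensional k (End M) := Module.Finite.of_injective T hTi
  -- a domain
  have hmono : ∀ f : End M, f ≠ 0 → Mono (f : M ⟶ M) := fun f hf =>
    S15075.result k X hdim hproj A φ hcen hAη M M hMc hMc hMt hMt hMη hMη f hf
  haveI : NoZeroDivisors (End M) := ⟨fun {a b} hab => by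
    by_contra! h
    haveI := hmono a h.1
    have h0 : (b : M ⟶ M) ≫ (a : M ⟶ M) = (0 : M ⟶ M) ≫ (a : M ⟶ M) := by rw [zero_comp]; exact hab
    exact h.2 ((cancel_mono (a : M ⟶ M)).1 h0)⟩
  haveI : Nontrivial (End M) := by
    refine ⟨1, 0, fun h => ?_⟩
    haveI := IsSimpleModule.nontrivial ↑(TopCat.Presheaf.stalk (C := RingCat.{u}) (X := X.carrier) A.obj (genericPoint X))
      ↑(TopCat.Presheaf.stalk (C := Ab.{u}) (X := X.carrier) M.val.presheaf (genericPoint X))
    obtain ⟨m, hm⟩ := exists_ne (0 : ↑(TopCat.Presheaf.stalk (C := Ab.{u}) (X := X.carrier) M.val.presheaf (genericPoint X)))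
    obtain ⟨U, hU, t, rfl⟩ := TopCat.Presheaf.exists_germ_eq (X := X.carrier) M.val.presheaf m
    apply hm
    have : t = 0 := congrArg (fun f : End M => (f.val.app (op U)).hom t) h
    rw [this]
    exact map_zero _
  haveI : IsDomain (End M) := NoZeroDivisors.to_isDomain _
  let ψ' : End M := ψ
  have hint : _root_.IsIntegral k ψ' := IsIntegral.of_finite k _
  have hdeg := IsAlgClosed.degree_eq_one_of_irreducible k (minpoly.irreducible hint)
  obtain ⟨c, hc⟩ := minpoly.mem_range_of_degree_eq_one k ψ' hdeg
  refine ⟨c, fun U m => ?_⟩
  show (ψ'.val.app U).hom m = _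
  rw [← hc]
  rfl


end Groth.Agent.S19505
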