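import Groth.Statements.S19506
import Groth.Agent.EGA418Lib.Normalize
import Groth.Agent.WildQuotLib.CoeffPS
import Mathlib

set_option autoImplicit false
universe u
open CAlg

namespace Groth.Agent.S19506

open IsLocalRing

theorem decomp (k : Type u) [Field k] (n : ℕ) (f : MvPowerSeries (Fin n) k) :
    ∃ (c : k) (a : Fin n → k), f - (algebraMap k _ c + ∑ i, algebraMap k _ (a i) * MvPowerSeries.X i) ∈
      maximalIdeal (MvPowerSeries (Fin n) k) ^ 2 := by
  have hm := Groth.Agent.WildQuotLib.maximalIdeal_eq k n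
  have h1 : f - algebraMap k _ (MvPowerSeries.constantCoeff f) ∈
      Ideal.span (Set.range (MvPowerSeries.X : Fin n → MvPowerSeries (Fin n) k)) := by
    rw [← Groth.Agent.WildQuotLib.ker_constantCoeff_eq, RingHom.mem_ker, map_sub, MvPowerSeries.algebraMap_apply,
      MvPowerSeries.constantCoeff_C, Algebra.algebraMap_self, RingHom.id_apply, sub_self]
  obtain ⟨g, hg⟩ := (Ideal.mem_span_range_iff_exists_fun).1 h1
  refine ⟨MvPowerSeries.constantCoeff f, fun i => MvPowerSeries.constantCoeff (g i), ?_⟩
  rw [← sub_sub, ← hg, ← Finset.sum_sub_distrib]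
  refine Ideal.sum_mem _ fun i _ => ?_
  rw [← sub_mul, pow_two]
  refine Ideal.mul_mem_mul ?_ (hm ▸ Ideal.subset_span ⟨i, rfl⟩)
  rw [Groth.Agent.WildQuotLib.mem_maximalIdeal_iff_constantCoeff, map_sub, MvPowerSeries.algebraMap_apply,
    MvPowerSeries.constantCoeff_C, Algebra.algebraMap_self, RingHom.id_apply, sub_self]

theorem exists_presentation (k A : Type u) [Field k] [CommRing A] [Algebra k A] [IsLocalRing A] [IsNoetherianRing A]
    [IsAdicComplete (maximalIdeal A) A] (hres : Function.Surjective (algebraMap k (ResidueField A))) :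
    ∃ (n : ℕ) (φ : MvPowerSeries (Fin n) k →ₐ[k] A), Function.Surjective φ ∧
      (∀ i, φ (MvPowerSeries.X i) ∈ maximalIdeal A) ∧ (maximalIdeal A).spanFinrank = n ∧
      RingHom.ker φ ≤ maximalIdeal (MvPowerSeries (Fin n) k) ^ 2 := by
  classical
  obtain ⟨s, hs⟩ := Submodule.FG.exists_span_set_encard_eq_spanFinrank (maximalIdeal A).fg_of_isNoetherianRing
  have hfin : s.Finite := Set.finite_of_encard_eq_coe hs.1
  haveI := hfin.fintype
  let n := (maximalIdeal A).spanFinrank
  have hcard : Fintype.card s = n := by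
    have h1 := hs.1
    rw [Set.encard_eq_coe_toFinset_card, Nat.cast_inj, Set.toFinset_card] at h1
    exact h1
  let x : Fin n → A := fun i => ((Fintype.equivFinOfCardEq hcard).symm i : A)
  have hspan : Ideal.span (Set.range x) = maximalIdeal A := by
    rw [← hs.2]
    refine congrArg Ideal.span (Set.ext fun z => ⟨?_, fun hz => ⟨Fintype.equivFinOfCardEq hcard ⟨z, hz⟩, by simp [x]⟩⟩)
    rintro ⟨i, rfl⟩
    exact Subtype.coe_prop _
  have hxm : ∀ i, x i ∈ maximalIdeal A := fun i => hspan ▸ Ideal.subset_span ⟨i, rfl⟩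
  haveI : Module.Finite k (ResidueField A) := Module.Finite.of_surjective (Algebra.linearMap k _) hres
  obtain ⟨φ, hφ, hφfin, hφloc⟩ := Groth.Agent.EGA418Lib.exists_psAlgHom k A x hxm (hspan.symm.le.trans Ideal.le_radical)
  refine ⟨n, φ, ?_, fun i => (hφ i).symm ▸ hxm i, rfl, ?_⟩
  · let P := MvPowerSeries (Fin n) k
    letI : Algebra P A := φ.toRingHom.toAlgebra
    haveI : Module.Finite P A := hφfin
    have hmap : (maximalIdeal P).map (algebraMap P A) = maximalIdeal A := by
      rw [Groth.Agent.WildQuotLib.maximalIdeal_eq, Ideal.map_span, ← Set.range_comp, ← hspan]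
      exact congrArg _ (congrArg Set.range (funext hφ))
    have h1 : LinearMap.range (Algebra.linearMap P A) = ⊤ := by
      refine eq_top_iff.2 (Submodule.le_of_le_smul_of_le_jacobson_bot Module.Finite.fg_top
        (IsLocalRing.maximalIdeal_le_jacobson _) fun z _ => ?_)
      obtain ⟨c, hc⟩ := hres (residue A z)
      refine Submodule.mem_sup.2 ⟨algebraMap k A c, ⟨algebraMap k P c, φ.commutes c⟩, z - algebraMap k A c, ?_, by ring⟩
      rw [Ideal.smul_top_eq_map, Submodule.restrictScalars_mem, hmap, ← residue_eq_zero_iff, map_sub, sub_eq_zero, ← hc]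
      rfl
    exact fun z => LinearMap.range_eq_top.1 h1 z
  · intro f hf
    obtain ⟨c, a, hca⟩ := decomp k n f
    have hmapsq : (maximalIdeal (MvPowerSeries (Fin n) k) ^ 2).map φ.toRingHom ≤ maximalIdeal A ^ 2 := by
      rw [Ideal.map_pow]
      exact Ideal.pow_right_mono (by
        rw [Groth.Agent.EGA418Lib.map_maximalIdeal_ps, Ideal.span_le]
        rintro _ ⟨i, rfl⟩
        show φ (MvPowerSeries.X i) ∈ maximalIdeal A
        rw [hφ]
        exact hxm i) 2
    have h2 : algebraMap k A c + ∑ i, algebraMap k A (a i) * x i ∈ maximalIdeal A ^ 2 := by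
      have := hmapsq (Ideal.mem_map_of_mem φ.toRingHom hca)
      change φ (f - _) ∈ _ at this
      rw [map_sub, RingHom.mem_ker.1 hf, zero_sub, neg_mem_iff, map_add, map_sum, AlgHom.commutes] at this
      simpa [hφ] using this
    have hc0 : c = 0 := by
      by_contra hc
      refine (maximalIdeal.isMaximal A).ne_top (Ideal.eq_top_of_isUnit_mem _ ?_ ((Ne.isUnit hc).map (algebraMap k A)))
      have h3 : ∑ i, algebraMap k A (a i) * x i ∈ maximalIdeal A := Ideal.sum_mem _ fun i _ => Ideal.mul_mem_left _ _ (hxm i)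
      simpa using sub_mem (Ideal.pow_le_self (by norm_num) h2) h3
    have ha0 : ∀ j, a j = 0 := by
      intro j
      by_contra hj
      rw [hc0, map_zero, zero_add, ← Finset.add_sum_erase _ _ (Finset.mem_univ j)] at h2
      let S := (Finset.univ.erase j).image x
      have hle : maximalIdeal A ≤ Ideal.span (S : Set A) := by
        refine Submodule.le_of_le_smul_of_le_jacobson_bot (maximalIdeal A).fg_of_isNoetherianRing
          (IsLocalRing.maximalIdeal_le_jacobson _) ?_
        rw [smul_eq_mul, ← pow_two]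
        conv_lhs => rw [← hspan]
        rw [Ideal.span_le]
        rintro _ ⟨i, rfl⟩
        by_cases hij : i = j
        · subst hij
          have hu : IsUnit (algebraMap k A (a i)) := (Ne.isUnit hj).map _
          refine (Ideal.unit_mul_mem_iff_mem _ hu).1 ?_
          have h4 : ∑ l ∈ Finset.univ.erase i, algebraMap k A (a l) * x l ∈ Ideal.span (S : Set A) :=
            Ideal.sum_mem _ fun l hl => Ideal.mul_mem_left _ _
              (Ideal.subset_span (Finset.mem_coe.2 (Finset.mem_image_of_mem x hl)))
          exact Submodule.mem_sup.2 ⟨_, neg_mem h4, _, h2, by ring⟩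
        · exact Submodule.mem_sup_left (Ideal.subset_span (Finset.mem_coe.2 (Finset.mem_image_of_mem x (Finset.mem_erase.2 ⟨hij, Finset.mem_univ i⟩))))
      have heq : Ideal.span (S : Set A) = maximalIdeal A := le_antisymm (Ideal.span_le.2 fun z hz => by
        obtain ⟨i, -, rfl⟩ := Finset.mem_image.1 (Finset.mem_coe.1 hz)
        exact hxm i) hle
      have h5 : n ≤ (S : Set A).ncard := by
        have := Submodule.spanFinrank_span_le_ncard_of_finite (R := A) (M := A) S.finite_toSet
        rwa [show Submodule.span A (S : Set A) = maximalIdeal A from heq] at this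
      rw [Set.ncard_coe_finset] at h5
      have h6 := h5.trans Finset.card_image_le
      rw [Finset.card_erase_of_mem (Finset.mem_univ j), Finset.card_univ, Fintype.card_fin] at h6
      have := j.pos
      omega
    simpa [hc0, ha0] using hca

theorem bijective_of_lifting (k A : Type u) [Field k] [CommRing A] [Algebra k A] [IsLocalRing A] {n : ℕ}
    (φ : MvPowerSeries (Fin n) k →ₐ[k] A) (hs : Function.Surjective φ)
    (hker : RingHom.ker φ ≤ maximalIdeal (MvPowerSeries (Fin n) k) ^ 2)
    (h : ∀ (R : Type u) [CommRing R] [Algebra k R] [IsArtinianRing R] [IsLocalRing R] (J : Ideal R),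
      J ^ 2 = ⊥ → ∀ f : A →ₐ[k] R ⧸ J, IsLocalHom (f : A →+* R ⧸ J) →
        ∃ g : A →ₐ[k] R, (Ideal.Quotient.mkₐ k J).comp g = f) : Function.Bijective φ := by
  refine ⟨(injective_iff_map_eq_zero φ).2 fun f hf => ?_, hs⟩
  let P := MvPowerSeries (Fin n) k
  let m := maximalIdeal P
  have hX : ∀ i, (MvPowerSeries.X i : P) ∈ m := fun i => by
    show MvPowerSeries.X i ∈ maximalIdeal _
    rw [Groth.Agent.WildQuotLib.maximalIdeal_eq]
    exact Ideal.subset_span ⟨i, rfl⟩
  have step : ∀ N : ℕ, ∃ g : A →ₐ[k] P ⧸ m ^ (N + 2), ∀ i,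
      g (φ (MvPowerSeries.X i)) - Ideal.Quotient.mk _ (MvPowerSeries.X i) ∈ (m ^ 2).map (Ideal.Quotient.mk (m ^ (N + 2))) := by
    intro N
    induction N with
    | zero =>
      let L : (P ⧸ RingHom.ker φ) →ₐ[k] P ⧸ m ^ (0 + 2) :=
        Ideal.Quotient.liftₐ (RingHom.ker φ) (Ideal.Quotient.mkₐ k (m ^ (0 + 2))) fun a ha =>
          Ideal.Quotient.eq_zero_iff_mem.2 (hker ha)
      let eφ := Ideal.quotientKerAlgEquivOfSurjective hs
      refine ⟨L.comp eφ.symm.toAlgHom, fun i => ?_⟩
      have e1 : eφ.symm (φ (MvPowerSeries.X i)) = Ideal.Quotient.mk _ (MvPowerSeries.X i) :=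
        eφ.symm_apply_eq.2 rfl
      show L (eφ.symm (φ (MvPowerSeries.X i))) - _ ∈ _
      rw [e1, show L (Ideal.Quotient.mk _ (MvPowerSeries.X i)) = Ideal.Quotient.mk _ (MvPowerSeries.X i) from rfl, sub_self]
      exact zero_mem _
    | succ N ih =>
      obtain ⟨g, hg⟩ := ih
      let M := m ^ (N + 1 + 2)
      have hne : M ≠ ⊤ := fun he => (maximalIdeal.isMaximal P).ne_top (top_le_iff.1 (he ▸ Ideal.pow_le_self (by omega)))
      haveI : IsLocalRing (P ⧸ M) := Groth.Agent.RegLocal.isLocalRing_quot hne
      haveI : IsArtinianRing (P ⧸ M) := by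
        refine (isArtinianRing_iff_isNilpotent_maximalIdeal _).2 ⟨N + 1 + 2, ?_⟩
        rw [Groth.Agent.RegLocal.maximalIdeal_quot hne, ← Ideal.map_pow, Ideal.zero_eq_bot]
        exact Ideal.map_quotient_self M
      let J := (m ^ (N + 2)).map (Ideal.Quotient.mk M)
      have hJ : J ^ 2 = ⊥ := by
        rw [← Ideal.map_pow, ← pow_mul, Ideal.map_eq_bot_iff_le_ker, Ideal.mk_ker]
        exact Ideal.pow_le_pow_right (by omega)
      have hle : M ≤ m ^ (N + 2) := Ideal.pow_le_pow_right (by omega)
      let e : ((P ⧸ M) ⧸ J) ≃ₐ[k] P ⧸ m ^ (N + 2) := DoubleQuot.quotQuotEquivQuotOfLEₐ k hle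
      let f1 : A →ₐ[k] (P ⧸ M) ⧸ J := e.symm.toAlgHom.comp g
      have hloc : IsLocalHom (f1 : A →+* (P ⧸ M) ⧸ J) := by
        refine ⟨fun a ha => ?_⟩
        obtain ⟨y, rfl⟩ := hs a
        by_contra hy
        have hy' : y ∈ m := fun hu => hy (hu.map φ)
        have h1 : IsUnit (g (φ y)) := by
          have := ha.map e.toAlgHom
          simpa [f1] using this
        have h2 : g (φ y) ∈ m.map (Ideal.Quotient.mk (m ^ (N + 2))) := by
          rw [show m = Ideal.span (Set.range (MvPowerSeries.X : Fin n → P)) from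
            Groth.Agent.WildQuotLib.maximalIdeal_eq k n] at hy'
          refine (Ideal.span_le.2 ?_ : Ideal.span (Set.range (MvPowerSeries.X : Fin n → P)) ≤
            (m.map (Ideal.Quotient.mk (m ^ (N + 2)))).comap (g.comp φ)) hy'
          rintro _ ⟨i, rfl⟩
          have := add_mem (Ideal.map_mono (Ideal.pow_le_self (by norm_num) : m ^ 2 ≤ m) (hg i))
            (Ideal.mem_map_of_mem (Ideal.Quotient.mk (m ^ (N + 2))) (hX i))
          simpa using this
        have h3 := Ideal.eq_top_of_isUnit_mem _ h2 h1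
        have h4 := congrArg (Ideal.comap (Ideal.Quotient.mk (m ^ (N + 2)))) h3
        rw [Ideal.comap_top, Ideal.comap_map_of_surjective _ Ideal.Quotient.mk_surjective, ← RingHom.ker_eq_comap_bot,
          Ideal.mk_ker, sup_eq_left.2 (Ideal.pow_le_self (by omega))] at h4
        exact (maximalIdeal.isMaximal P).ne_top h4
      obtain ⟨g', hg'⟩ := h (P ⧸ M) J hJ f1 hloc
      refine ⟨g', fun i => ?_⟩
      obtain ⟨y, hy⟩ := Ideal.Quotient.mk_surjective (g' (φ (MvPowerSeries.X i)))
      rw [← hy, ← map_sub, Ideal.mem_quotient_iff_mem_sup]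
      refine Submodule.mem_sup_left ?_
      have h1 : e (Ideal.Quotient.mk J (g' (φ (MvPowerSeries.X i)))) = g (φ (MvPowerSeries.X i)) := by
        have := DFunLike.congr_fun hg' (φ (MvPowerSeries.X i))
        simp only [AlgHom.comp_apply, Ideal.Quotient.mkₐ_eq_mk, f1] at this
        rw [this]
        simp
      rw [← hy] at h1
      have h2 := hg i
      rw [← h1, show e (Ideal.Quotient.mk J (Ideal.Quotient.mk M y)) = Ideal.Quotient.mk _ y from rfl, ← map_sub,
        Ideal.mem_quotient_iff_mem_sup, sup_eq_left.2 (Ideal.pow_le_pow_right (by omega))] at h2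
      exact h2
  have hmem : ∀ N : ℕ, f ∈ m ^ (N + 2) := by
    intro N
    obtain ⟨g, hg⟩ := step N
    let Q := P ⧸ m ^ (N + 2)
    let hom : P →ₐ[k] Q := g.comp φ
    have hne : m ^ (N + 2) ≠ ⊤ := fun he =>
      (maximalIdeal.isMaximal P).ne_top (top_le_iff.1 (he ▸ Ideal.pow_le_self (by omega)))
    haveI : IsLocalRing Q := Groth.Agent.RegLocal.isLocalRing_quot hne
    have hkill : ∀ y ∈ m ^ (N + 2), hom y = 0 := by
      intro y hy
      have h1 : m.map hom ≤ m.map (Ideal.Quotient.mk (m ^ (N + 2))) := by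
        refine Ideal.map_le_iff_le_comap.2 ((Groth.Agent.WildQuotLib.maximalIdeal_eq k n).le.trans (Ideal.span_le.2 ?_))
        rintro _ ⟨i, rfl⟩
        have := add_mem (Ideal.map_mono (Ideal.pow_le_self (by norm_num) : m ^ 2 ≤ m) (hg i))
            (Ideal.mem_map_of_mem (Ideal.Quotient.mk (m ^ (N + 2))) (hX i))
        simpa [hom] using this
      have h2 := Ideal.pow_right_mono h1 (N + 2)
      rw [← Ideal.map_pow, ← Ideal.map_pow, Ideal.map_quotient_self] at h2
      exact Ideal.mem_bot.1 (h2 (Ideal.mem_map_of_mem _ hy))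
    let E : Q →ₐ[k] Q := Ideal.Quotient.liftₐ (m ^ (N + 2)) hom hkill
    have hEX : ∀ i, E (Ideal.Quotient.mk _ (MvPowerSeries.X i)) = hom (MvPowerSeries.X i) := fun i => rfl
    let mQ := m.map (Ideal.Quotient.mk (m ^ (N + 2)))
    have htwo : ∀ z : Q, ∃ w, z - E w ∈ mQ ^ 2 := by
      intro z
      obtain ⟨y, rfl⟩ := Ideal.Quotient.mk_surjective z
      obtain ⟨c, a, hca⟩ := decomp k n y
      refine ⟨Ideal.Quotient.mk _ (algebraMap k P c + ∑ i, algebraMap k P (a i) * MvPowerSeries.X i), ?_⟩
      have h1 : Ideal.Quotient.mk (m ^ (N + 2)) (algebraMap k P c + ∑ i, algebraMap k P (a i) * MvPowerSeries.X i) -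
          hom (algebraMap k P c + ∑ i, algebraMap k P (a i) * MvPowerSeries.X i) ∈ mQ ^ 2 := by
        rw [map_add, map_sum, map_add, map_sum, AlgHom.commutes, Ideal.Quotient.mk_algebraMap, add_sub_add_left_eq_sub,
          ← Finset.sum_sub_distrib]
        refine Ideal.sum_mem _ fun i _ => ?_
        rw [map_mul, map_mul, AlgHom.commutes, Ideal.Quotient.mk_algebraMap, ← mul_sub]
        refine Ideal.mul_mem_left _ _ ?_
        rw [← neg_mem_iff, neg_sub, ← Ideal.map_pow]
        exact hg i
      have h2 : Ideal.Quotient.mk (m ^ (N + 2)) (y - (algebraMap k P c + ∑ i, algebraMap k P (a i) * MvPowerSeries.X i)) ∈ mQ ^ 2 := by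
        rw [← Ideal.map_pow]
        exact Ideal.mem_map_of_mem _ hca
      have h3 := add_mem h2 h1
      rwa [map_sub, sub_add_sub_cancel] at h3
    have hone : mQ ^ 1 ≤ mQ := by rw [pow_one]
    have hmul : ∀ j : ℕ, ∀ z ∈ mQ ^ (j + 1), ∃ w, z - E w ∈ mQ ^ (j + 2) := by
      intro j
      induction j with
      | zero => exact fun z _ => htwo z
      | succ j ih =>
        intro z hz
        rw [pow_succ mQ (j + 1)] at hz
        refine Submodule.mul_induction_on hz (fun a ha b hb => ?_) ?_
        · obtain ⟨β, hβ⟩ := ih a ha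
          obtain ⟨γ, hγ⟩ := htwo b
          refine ⟨β * γ, ?_⟩
          have hβm : E β ∈ mQ ^ (j + 1) := by
            have := sub_mem ha (Ideal.pow_le_pow_right (by omega) hβ : a - E β ∈ mQ ^ (j + 1))
            rwa [sub_sub_cancel] at this
          rw [map_mul, show a * b - E β * E γ = (a - E β) * b + E β * (b - E γ) by ring]
          refine add_mem ?_ ?_
          · rw [show j + 1 + 2 = (j + 2) + 1 by omega, pow_succ mQ (j + 2)]
            exact Ideal.mul_mem_mul hβ hb
          · rw [pow_add mQ (j + 1) 2]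
            exact Ideal.mul_mem_mul hβm hγ
        · rintro a b ⟨w1, h1⟩ ⟨w2, h2⟩
          exact ⟨w1 + w2, by rw [map_add, show a + b - (E w1 + E w2) = (a - E w1) + (b - E w2) by ring]; exact add_mem h1 h2⟩
    have hgen : ∀ j : ℕ, ∀ z : Q, ∃ w, z - E w ∈ mQ ^ (j + 2) := by
      intro j
      induction j with
      | zero => exact htwo
      | succ j ih =>
        intro z
        obtain ⟨w, hw⟩ := ih z
        obtain ⟨w', hw'⟩ := hmul (j + 1) _ hw
        exact ⟨w + w', by rwa [map_add, ← sub_sub]⟩
    have hEsurj : Function.Surjective E := fun z => by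
      obtain ⟨w, hw⟩ := hgen N z
      rw [← Ideal.map_pow, Ideal.map_quotient_self, Ideal.mem_bot, sub_eq_zero] at hw
      exact ⟨w, hw.symm⟩
    have hEinj : Function.Injective E := by
      haveI : IsNoetherianRing Q := inferInstance
      let K : ℕ →o Submodule Q Q :=
        ⟨fun l => RingHom.ker (E.toRingHom ^ l), monotone_nat_of_le_succ fun l x hx => by
          show (E.toRingHom ^ (l + 1)) x = 0
          rw [pow_succ' E.toRingHom l]
          show E.toRingHom ((E.toRingHom ^ l) x) = 0
          rw [show (E.toRingHom ^ l) x = 0 from hx, map_zero]⟩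
      obtain ⟨l, hl⟩ := monotone_stabilizes_iff_noetherian.2 inferInstance K
      refine (injective_iff_map_eq_zero E).2 fun x hx => ?_
      have hsurjl : Function.Surjective (E.toRingHom ^ l) := by
        rw [RingHom.coe_pow]
        exact hEsurj.iterate l
      obtain ⟨y, rfl⟩ := hsurjl x
      have h1 : y ∈ K (l + 1) := by
        show (E.toRingHom ^ (l + 1)) y = 0
        rw [pow_succ' E.toRingHom l]
        exact hx
      rw [← hl (l + 1) (Nat.le_succ l)] at h1
      exact h1
    rw [← Ideal.Quotient.eq_zero_iff_mem]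
    refine hEinj ?_
    rw [map_zero]
    show g (φ f) = 0
    rw [hf, map_zero]
  exact IsHausdorff.haus (inferInstance : IsHausdorff m P) f fun N => SModEq.zero.2 (by
    rw [smul_eq_mul, Ideal.mul_top]; exact Ideal.pow_le_pow_right (by omega) (hmem N))

/-- (i) ⇔ (iii): let k be a field and A a complete local Noetherian k-algebra with residue field k (a
k-algebra map π : A → k with kernel the maximal ideal; A complete for the adic topology of its
maximal ideal). Then A is regular if and only if A satisfies the infinitesimal lifting criterion: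
for every Artinian local k-algebra R and every ideal J of R of square zero, every local k-algebra
homomorphism A → R/J (one carrying non-units to non-units) lifts to a k-algebra homomorphism A → R.
(The test algebras R range over one universe, that of A. The published criterion is worded for
arbitrary k-algebra homomorphisms A → R/J; it is stated here for local ones, the case the argument
establishes and the form in which the text itself restates the criterion afterwards. The published
statement lists a third equivalent condition, A ≅ k[[x_1, …, x_d]].) -/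
theorem result (k A : Type u) [Field k]
    [CommRing A] [Algebra k A] [IsLocalRing A] [IsNoetherianRing A]
    [IsAdicComplete (IsLocalRing.maximalIdeal A) A]
    (π : A →ₐ[k] k) (hπ : RingHom.ker π = IsLocalRing.maximalIdeal A) :
    IsRegularLocalRing A ↔
      ∀ (R : Type u) [CommRing R] [Algebra k R] [IsArtinianRing R] [IsLocalRing R] (J : Ideal R),
        J ^ 2 = ⊥ → ∀ f : A →ₐ[k] R ⧸ J, IsLocalHom (f : A →+* R ⧸ J) →
          ∃ g : A →ₐ[k] R, (Ideal.Quotient.mkₐ k J).comp g = f := by
  classical
  have hres : Function.Surjective (algebraMap k (IsLocalRing.ResidueField A)) := fun z => by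
    obtain ⟨a, rfl⟩ := IsLocalRing.residue_surjective z
    refine ⟨π a, ?_⟩
    show IsLocalRing.residue A (algebraMap k A (π a)) = IsLocalRing.residue A a
    rw [← sub_eq_zero, ← map_sub, IsLocalRing.residue_eq_zero_iff, ← hπ, RingHom.mem_ker, map_sub, AlgHom.commutes,
      Algebra.algebraMap_self, RingHom.id_apply, sub_self]
  obtain ⟨n, φ, hφs, hφm, hn, hker⟩ := exists_presentation k A hres
  constructor
  · intro hreg R _ _ _ _ J hJ f hf
    haveI := hf
    haveI := Groth.Agent.RegLocal.isDomain (R := A)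
    have hφinj : Function.Injective φ := by
      letI : Algebra (MvPowerSeries (Fin n) k) A := φ.toRingHom.toAlgebra
      haveI : Module.Finite (MvPowerSeries (Fin n) k) A := Module.Finite.of_surjective (Algebra.linearMap _ A) hφs
      haveI : Nontrivial (A ⧸ (⊥ : Ideal A)) := Ideal.Quotient.nontrivial_iff.2 bot_ne_top
      haveI : Module.Finite k (IsLocalRing.ResidueField A) := Module.Finite.of_surjective (Algebra.linearMap k _) hres
      have hd : ringKrullDim (A ⧸ (⊥ : Ideal A)) = n := by
        rw [ringKrullDim_eq_of_ringEquiv (RingEquiv.quotientBot A), ← hn]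
        exact ((isRegularLocalRing_iff A).1 hreg).symm
      exact Function.Injective.of_comp
        (Groth.Agent.EGA418Lib.injective_mk_comp k A φ (RingHom.finite_algebraMap.2 ‹_›) ⊥ hd)
    let e := AlgEquiv.ofBijective φ ⟨hφinj, hφs⟩
    have hJn : J ≤ IsLocalRing.maximalIdeal R := fun a ha => by
      have : a ^ 2 ∈ J ^ 2 := Ideal.pow_mem_pow ha 2
      rw [hJ, Ideal.mem_bot] at this
      exact fun hu => not_isUnit_zero (this ▸ hu.pow 2)
    choose y hy using fun i => Ideal.Quotient.mk_surjective (f (φ (MvPowerSeries.X i)))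
    have hym : ∀ i, y i ∈ IsLocalRing.maximalIdeal R := fun i hu => by
      have h1 := hu.map (Ideal.Quotient.mk J)
      rw [hy] at h1
      exact hφm i (isUnit_of_map_unit (f : A →+* R ⧸ J) _ h1)
    haveI : IsAdicComplete (IsLocalRing.maximalIdeal R) R := _root_.FiniteCompleteLib.isAdicComplete_of_isNilpotent _
      (IsArtinianRing.isNilpotent_jacobson_bot (R := R) |> fun h => by rwa [IsLocalRing.jacobson_eq_maximalIdeal ⊥ bot_ne_top] at h)
    obtain ⟨g, hg⟩ := Groth.Agent.WildQuotLib.exists_psHom (k := k) (IsLocalRing.maximalIdeal R) y hym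
    refine ⟨g.comp e.symm.toAlgHom, ?_⟩
    haveI : IsAdicComplete ((IsLocalRing.maximalIdeal R).map (Ideal.Quotient.mk J)) (R ⧸ J) :=
      _root_.FiniteCompleteLib.isAdicComplete_of_isNilpotent _ (by
        obtain ⟨l, hl⟩ : IsNilpotent (IsLocalRing.maximalIdeal R) := by
          have h := IsArtinianRing.isNilpotent_jacobson_bot (R := R)
          rwa [IsLocalRing.jacobson_eq_maximalIdeal ⊥ bot_ne_top] at h
        exact ⟨l, by rw [← Ideal.map_pow, hl, Ideal.zero_eq_bot, Ideal.map_bot, Ideal.zero_eq_bot]⟩)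
    have h1 : ((Ideal.Quotient.mkₐ k J).comp g) = f.comp φ := by
      refine Groth.Agent.WildQuotLib.psHom_ext (k := k) ((IsLocalRing.maximalIdeal R).map (Ideal.Quotient.mk J))
        (fun i => ?_) fun i => ?_
      · show Ideal.Quotient.mk J (g (MvPowerSeries.X i)) ∈ _
        rw [hg]; exact Ideal.mem_map_of_mem _ (hym i)
      · show Ideal.Quotient.mk J (g (MvPowerSeries.X i)) = f (φ (MvPowerSeries.X i))
        rw [hg, hy]
    refine AlgHom.ext fun a => ?_
    have := DFunLike.congr_fun h1 (e.symm a)
    rw [AlgHom.comp_apply, AlgHom.comp_apply, show φ (e.symm a) = a from e.apply_symm_apply a] at this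
    exact this
  · intro h
    exact IsRegularLocalRing.of_ringEquiv (AlgEquiv.ofBijective φ (bijective_of_lifting k A φ hφs hker h)).toRingEquiv

end Groth.Agent.S19506
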