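import Groth.Statements.S19507
import Groth.Agent.GrpSchLib.Smooth
import Groth.Agent.GrpSchLib.RationalSmooth
-- import your own Groth.Agent.* helpers here

set_option autoImplicit false
set_option backward.isDefEq.respectTransparency false
universe u
open CategoryTheory MonoidalCategory CartesianMonoidalCategory MonObj GrpObj AlgebraicGeometry
open AlgGrp

namespace Groth.Agent.S19507

/-- (iv) ⇒ (i): let k be a field, G a k-group scheme of finite type and e ∈ G the identity point (the
image of the unit section Spec k → G). If the local ring of G at e is regular, then G is smooth over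
k. (The corollary lists six equivalent conditions; (i) ⇒ (iv) is the standard fact that smooth
schemes over a field have regular local rings, and the remaining conditions concern the base change
to an algebraic closure and the completed local ring.) -/
theorem result (k : Type u) [Field k]
    (G : Over (Spec (CommRingCat.of k))) [GrpObj G] [LocallyOfFiniteType G.hom] [QuasiCompact G.hom]
    (e : G.left) (he : e ∈ Set.range (η[G]).left.base)
    (hreg : IsRegularLocalRing (G.left.presheaf.stalk e)) : Smooth G.hom := by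
  obtain ⟨s, rfl⟩ := he
  let B' := Spec (CommRingCat.of k)
  let σ : B' ⟶ G.left := (η[G] : 𝟙_ (Over B') ⟶ G).left
  have hσ : σ ≫ G.hom = 𝟙 _ := Over.w η[G]
  haveI : LocallyOfFinitePresentation G.hom := LocallyOfFinitePresentation.iff_locallyOfFiniteType.mpr inferInstance
  suffices h : σ s ∈ G.hom.smoothLocus by
    haveI : Smooth (G.hom.smoothLocus.ι ≫ G.hom) := by
      rw [← Scheme.Hom.smoothLocus_eq_top_iff, ← Scheme.Hom.preimage_smoothLocus_eq]
      exact Scheme.Opens.ι_preimage_self _
    exact Groth.Agent.GrpSchLib.smooth_of_smooth_open G _ ⟨_, h⟩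
  obtain ⟨V, hV, heV, -⟩ := exists_isAffineOpen_mem_and_subset (X := G.left) (x := σ s) (U := ⊤) trivial
  have hU : IsAffineOpen (⊤ : B'.Opens) := isAffineOpen_top B'
  have hVU : V ≤ G.hom ⁻¹ᵁ ⊤ := by simp
  have hUV : (⊤ : B'.Opens) ≤ σ ⁻¹ᵁ V := fun t _ => by
    rw [Scheme.Hom.mem_preimage, Subsingleton.elim (α := PrimeSpectrum k) t s]
    exact heV
  have hfld : IsField Γ(B', ⊤) :=
    (Scheme.ΓSpecIso (CommRingCat.of k)).commRingCatIsoToRingEquiv.toMulEquiv.isField (Semifield.toIsField k)
  letI : Field Γ(B', ⊤) := hfld.toField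
  have hft : (G.hom.appLE ⊤ V hVU).hom.FiniteType :=
    RingHom.FiniteType.of_finitePresentation (G.hom.finitePresentation_appLE hU hV hVU)
  algebraize [(G.hom.appLE ⊤ V hVU).hom]
  have hcomp : G.hom.appLE ⊤ V hVU ≫ σ.appLE V ⊤ hUV = 𝟙 _ := by
    rw [Scheme.Hom.appLE_comp_appLE]
    simp only [hσ]
    simp [Scheme.Hom.appLE]
    rfl
  have hpt := IsAffineOpen.comap_primeIdealOf_appLE V hV ⊤ hU hUV (x := s) trivial
  let q := hV.primeIdealOf ⟨σ s, heV⟩
  let g : Γ(G.left, V) →+* Γ(B', ⊤) := (σ.appLE V ⊤ hUV).hom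
  have hqker : q.asIdeal = RingHom.ker g := by
    refine (congrArg PrimeSpectrum.asIdeal hpt).symm.trans ?_
    show Ideal.comap g _ = Ideal.comap g ⊥
    rw [(Ideal.eq_bot_or_top (hU.primeIdealOf ⟨s, trivial⟩).asIdeal).resolve_right (Ideal.IsPrime.ne_top')]
  have hsurjA : Function.Surjective (algebraMap Γ(B', ⊤) (Γ(G.left, V) ⧸ q.asIdeal)) := fun a => by
    obtain ⟨a, rfl⟩ := Ideal.Quotient.mk_surjective a
    refine ⟨g a, ?_⟩
    show Ideal.Quotient.mk q.asIdeal ((G.hom.appLE ⊤ V hVU).hom (g a)) = _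
    rw [Ideal.Quotient.eq, hqker, RingHom.mem_ker, map_sub]
    exact sub_eq_zero.mpr (ConcreteCategory.congr_hom hcomp (g a))
  haveI : q.asIdeal.IsMaximal := Ideal.Quotient.maximal_of_isField _
    ((RingEquiv.ofBijective _ ⟨(algebraMap Γ(B', ⊤) (Γ(G.left, V) ⧸ q.asIdeal)).injective, hsurjA⟩).symm.toMulEquiv.isField hfld)
  have hk : Function.Surjective (algebraMap Γ(B', ⊤) (IsLocalRing.ResidueField (Localization.AtPrime q.asIdeal))) := by
    intro y
    obtain ⟨b, hb⟩ := (Ideal.bijective_algebraMap_quotient_residueField q.asIdeal).2 y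
    obtain ⟨c, hc⟩ := hsurjA b
    exact ⟨c, by rw [IsScalarTower.algebraMap_apply Γ(B', ⊤) (Γ(G.left, V) ⧸ q.asIdeal)
      (IsLocalRing.ResidueField (Localization.AtPrime q.asIdeal)), hc, hb]⟩
  letI : Algebra Γ(G.left, V) (G.left.presheaf.stalk (σ s)) := TopCat.Presheaf.algebra_section_stalk G.left.presheaf ⟨σ s, heV⟩
  haveI : IsLocalization.AtPrime (G.left.presheaf.stalk (σ s)) q.asIdeal := hV.isLocalization_stalk ⟨σ s, heV⟩
  haveI : IsRegularLocalRing (G.left.presheaf.stalk (σ s)) := hreg
  haveI : IsRegularLocalRing (Localization.AtPrime q.asIdeal) := IsRegularLocalRing.of_ringEquiv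
    (IsLocalization.algEquiv q.asIdeal.primeCompl (G.left.presheaf.stalk (σ s)) (Localization.AtPrime q.asIdeal)).toRingEquiv
  rw [Scheme.Hom.mem_smoothLocus, formallySmooth_stalkMap_iff ⊤ hU V hV hVU heV]
  exact Groth.Agent.GrpSchLib.RationalSmooth.formallySmooth_of_isRegular q.asIdeal hk

end Groth.Agent.S19507
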