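import Groth.Statements.S19509
import Groth.Agent.GrpInfLib.TorsLift

set_option autoImplicit false
universe u
open CategoryTheory MonoidalCategory CartesianMonoidalCategory MonObj GrpObj AlgebraicGeometry
open Neron

namespace Groth.Agent.S19509

/-- Two sections through the same closed point have the same value at the residue field. -/
theorem residue_comp_eq {R : Type u} [CommRing R] [IsLocalRing R] {X : Scheme.{u}}
    (f : X ⟶ Spec (CommRingCat.of R)) (s t : Spec (CommRingCat.of R) ⟶ X) (hs : s ≫ f = 𝟙 _) (ht : t ≫ f = 𝟙 _)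
    (h : s (IsLocalRing.closedPoint R) = t (IsLocalRing.closedPoint R)) :
    Spec.map (CommRingCat.ofHom (IsLocalRing.residue R)) ≫ s = Spec.map (CommRingCat.ofHom (IsLocalRing.residue R)) ≫ t := by
  obtain ⟨U, hU, hxU, -⟩ := exists_isAffineOpen_mem_and_subset (x := s (IsLocalRing.closedPoint R)) (U := ⊤) trivial
  have hr : ∀ u : Spec (CommRingCat.of R) ⟶ X, u (IsLocalRing.closedPoint R) ∈ U → Set.range u ⊆ Set.range hU.fromSpec := by
    rintro u hu _ ⟨p, rfl⟩
    rw [hU.range_fromSpec]
    exact ((IsLocalRing.specializes_closedPoint p).map u.continuous).mem_open U.2 hu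
  let φ := Spec.preimage (hU.fromSpec ≫ f)
  let a := Spec.preimage (IsOpenImmersion.lift hU.fromSpec s (hr s hxU))
  let b := Spec.preimage (IsOpenImmersion.lift hU.fromSpec t (hr t (h ▸ hxU)))
  have hsa : Spec.map a ≫ hU.fromSpec = s := by rw [Spec.map_preimage, IsOpenImmersion.lift_fac]
  have htb : Spec.map b ≫ hU.fromSpec = t := by rw [Spec.map_preimage, IsOpenImmersion.lift_fac]
  have hφa : ∀ r : R, a (φ r) = r := by
    have e : φ ≫ a = 𝟙 _ := Spec.map_injective (by
      rw [Spec.map_comp, show Spec.map φ = hU.fromSpec ≫ f from Spec.map_preimage _, ← Category.assoc, hsa, hs, Spec.map_id])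
    exact fun r => congr($(e).hom r)
  have hφb : ∀ r : R, b (φ r) = r := by
    have e : φ ≫ b = 𝟙 _ := Spec.map_injective (by
      rw [Spec.map_comp, show Spec.map φ = hU.fromSpec ≫ f from Spec.map_preimage _, ← Category.assoc, htb, ht, Spec.map_id])
    exact fun r => congr($(e).hom r)
  have hpt : Spec.map a (IsLocalRing.closedPoint R) = Spec.map b (IsLocalRing.closedPoint R) := by
    apply hU.fromSpec.isOpenEmbedding.injective
    rw [← Scheme.Hom.comp_apply, ← Scheme.Hom.comp_apply, hsa, htb, h]
  rw [← hsa, ← htb, ← Category.assoc, ← Category.assoc, ← Spec.map_comp, ← Spec.map_comp]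
  congr 2
  refine CommRingCat.hom_ext (RingHom.ext fun c => ?_)
  show IsLocalRing.residue R (a c) = IsLocalRing.residue R (b c)
  have hm : c - φ (a c) ∈ (Spec.map a (IsLocalRing.closedPoint R)).asIdeal := by
    show a (c - φ (a c)) ∈ IsLocalRing.maximalIdeal R
    rw [map_sub, hφa, sub_self]
    exact zero_mem _
  rw [hpt] at hm
  have hm' : b (c - φ (a c)) ∈ IsLocalRing.maximalIdeal R := hm
  rw [map_sub, hφb, ← IsLocalRing.residue_eq_zero_iff, map_sub, sub_eq_zero] at hm'
  exact hm'.symm

/-- Let R be a complete discrete valuation ring whose fraction field K has characteristic zero and whose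
residue field k has characteristic p > 0, and let N be a commutative R-group scheme which is a Néron
model of its generic fibre, an abelian variety over K. Then the torsion of order prime to p of N(R)
= A(K) injects into the special fibre under reduction: a section x with x^n = 1, n ≥ 1 prime to p,
whose value at the closed point of Spec R is the identity point of the special fibre, is the unit
section. -/
theorem result (R : Type u) [CommRing R] [IsDomain R]
    [IsDiscreteValuationRing R] [IsAdicComplete (IsLocalRing.maximalIdeal R) R] (K : Type u) [Field K] [Algebra R K]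
    [IsFractionRing R K] [CharZero K] (p : ℕ) [Fact p.Prime] [CharP (IsLocalRing.ResidueField R) p]
    (N : Over (Spec (CommRingCat.of R))) [GrpObj N] [IsCommMonObj N] (hN : SGA7.IsNeron R K N)
    [IsProper ((SGA7.genFib R K).obj N).hom] [GeometricallyIntegral ((SGA7.genFib R K).obj N).hom]
    (x : 𝟙_ (Over (Spec (CommRingCat.of R))) ⟶ N) (n : ℕ) (hn : 0 < n) (hx : x ^ n = 1)
    (hred : x.left.base (IsLocalRing.closedPoint R) = (η[N]).left.base (IsLocalRing.closedPoint R))
    (hnp : Nat.Coprime n p) : x = 1 := by
  haveI : Smooth N.hom := hN.1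
  have hnR : IsUnit (n : R) := by
    rw [← IsLocalRing.residue_ne_zero_iff_isUnit, map_natCast]
    intro h0
    exact (Fact.out : p.Prime).ne_one
      (Nat.eq_one_of_dvd_coprimes hnp ((CharP.cast_eq_zero_iff (IsLocalRing.ResidueField R) p n).1 h0) dvd_rfl)
  refine GrpInfLib.eq_of_reduction N n hnR x 1 hx (one_pow n) (Over.OverMorphism.ext ?_)
  have h1 : (1 : 𝟙_ (Over (Spec (CommRingCat.of R))) ⟶ N) = η[N] := by
    rw [Hom.one_def, toUnit_unique (toUnit _) (𝟙 _), Category.id_comp]
  show _ ≫ x.left = _ ≫ (1 : 𝟙_ (Over (Spec (CommRingCat.of R))) ⟶ N).left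
  rw [h1]
  exact residue_comp_eq N.hom x.left η[N].left (Over.w x) (Over.w η[N]) hred


end Groth.Agent.S19509
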