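import Groth.Statements.S19510
import Groth.Agent.GrpExtLib.Formal
-- import your own Groth.Agent.* helpers here

set_option autoImplicit false
universe u
open CategoryTheory MonoidalCategory CartesianMonoidalCategory MonObj GrpObj AlgebraicGeometry
open Neron
open Groth.Agent.GrpExtLib.Formal (T e0 exists_pt eq_const_of_pt_pow pt_closedPoint pt_ε)

namespace Groth.Agent.S19510

/-- Let R be a complete discrete valuation ring whose fraction field K has characteristic zero and whose
residue field has characteristic p > 0, with absolute ramification small in the sense that v(p) < p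
− 1 for the normalised valuation, i.e. p does not lie in the (p − 1)-st power of the maximal ideal.
Let N be a commutative R-group scheme which is a Néron model of its generic fibre, an abelian
variety over K. Then all torsion of N(R) = A(K) injects into the special fibre under reduction: a
section x with x^n = 1 for some n ≥ 1 whose value at the closed point is the identity point is the
unit section. -/
theorem result (R : Type u) [CommRing R] [IsDomain R]
    [IsDiscreteValuationRing R] [IsAdicComplete (IsLocalRing.maximalIdeal R) R] (K : Type u) [Field K] [Algebra R K]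
    [IsFractionRing R K] [CharZero K] (p : ℕ) [Fact p.Prime] [CharP (IsLocalRing.ResidueField R) p]
    (N : Over (Spec (CommRingCat.of R))) [GrpObj N] [IsCommMonObj N] (hN : SGA7.IsNeron R K N)
    [IsProper ((SGA7.genFib R K).obj N).hom] [GeometricallyIntegral ((SGA7.genFib R K).obj N).hom]
    (x : 𝟙_ (Over (Spec (CommRingCat.of R))) ⟶ N) (n : ℕ) (hn : 0 < n) (hx : x ^ n = 1)
    (hred : x.left.base (IsLocalRing.closedPoint R) = (η[N]).left.base (IsLocalRing.closedPoint R))
    (hv : (p : R) ∉ IsLocalRing.maximalIdeal R ^ (p - 1)) : x = 1 := by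
  let R' := T (R := R) R
  let i : 𝟙_ (Over (Spec (CommRingCat.of R))) ⟶ R' := Over.homMk (𝟙 _) (by
    show 𝟙 _ ≫ Spec.map _ = 𝟙 _
    rw [Algebra.algebraMap_self, CommRingCat.ofHom_id, Spec.map_id]
    exact Category.id_comp _)
  have hi : i ≫ toUnit R' = 𝟙 _ := toUnit_unique _ _
  let P : R' ⟶ N := toUnit R' ≫ x
  have hPn : P ^ n = 1 := by
    rw [← MonObj.comp_pow, hx, MonObj.comp_one]
  have hP0 : P.left (IsLocalRing.closedPoint R) = e0 N := by
    show (toUnit R' ≫ x).left (IsLocalRing.closedPoint R) = _
    rw [Over.comp_left, Scheme.Hom.comp_apply]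
    have e : (toUnit R').left (IsLocalRing.closedPoint R) = IsLocalRing.closedPoint R := by
      show Spec.map (CommRingCat.ofHom (algebraMap R R)) (IsLocalRing.closedPoint R) = _
      rw [Algebra.algebraMap_self, CommRingCat.ofHom_id, Spec.map_id]
      rfl
    rw [e]
    exact hred
  obtain ⟨χ, hχ⟩ := exists_pt N P hP0
  have hp0 : (p : R) ≠ 0 := fun h => (Nat.cast_ne_zero (R := K)).2 (Fact.out : p.Prime).ne_zero (by
    rw [← map_natCast (algebraMap R K), h, map_zero])
  have key := eq_const_of_pt_pow N p hp0 hv n χ hn ((pt_closedPoint N χ).1 (hχ ▸ hP0)) (hχ ▸ hPn)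
  rw [← Category.id_comp x, ← hi, Category.assoc]
  show i ≫ P = 1
  rw [← hχ, key, pt_ε, MonObj.comp_one]

end Groth.Agent.S19510
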