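import Groth.Statements.S19511
import Mathlib

set_option autoImplicit false
universe u
open CategoryTheory CategoryTheory.Limits AlgebraicGeometry
open Variety

namespace Groth.Agent.S19511

/-- Let k be a field and f : X → Y a k-morphism between proper k-schemes which is a fibration, i.e. O_Y
→ f_*O_X is an isomorphism (Γ(V, O_Y) → Γ(f⁻¹V, O_X) bijective for every open V ⊆ Y). Then f is
surjective. (The connectedness of the fibres asserted in (i) is quoted from the literature and not
stated.) -/
theorem result (k : Type u) [Field k] (X Y : Scheme.{u})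
    [X.Over (Spec (CommRingCat.of k))] [Y.Over (Spec (CommRingCat.of k))] [IsProper (X ↘ Spec (CommRingCat.of k))] [IsProper (Y ↘ Spec (CommRingCat.of k))]
    (f : X ⟶ Y) (hf : f ≫ (Y ↘ Spec (CommRingCat.of k)) = X ↘ Spec (CommRingCat.of k)) (hfib : ∀ V : Y.Opens, IsIso (f.app V)) :
    Surjective f := by
  haveI : IsProper f := (by
    haveI : IsProper (f ≫ (Y ↘ Spec (CommRingCat.of k))) := hf ▸ inferInstance
    exact IsProper.of_comp f (Y ↘ Spec (CommRingCat.of k)))
  refine ⟨fun y => ?_⟩
  by_contra hy
  have hcl : IsClosed (Set.range f.base) := f.isClosedMap.isClosed_range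
  let V : Y.Opens := ⟨(Set.range f.base)ᶜ, hcl.isOpen_compl⟩
  have hempty : f ⁻¹ᵁ V = ⊥ := by
    ext x
    simp [V]
  haveI : Subsingleton Γ(X, f ⁻¹ᵁ V) := by
    rw [hempty]
    exact CommRingCat.subsingleton_of_isTerminal (X.sheaf.isTerminalOfEmpty)
  haveI := hfib V
  haveI : Subsingleton Γ(Y, V) := (asIso (f.app V)).commRingCatIsoToRingEquiv.toEquiv.subsingleton
  have hu : IsUnit (Y.presheaf.germ V y hy (0 : Γ(Y, V))) := by
    rw [Subsingleton.elim (0 : Γ(Y, V)) 1, map_one]; exact isUnit_one
  rw [map_zero] at hu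
  exact not_isUnit_zero hu


end Groth.Agent.S19511
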