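import Groth.Statements.S19514
import Groth.Agent.NormalFibLib.Basic
set_option backward.isDefEq.respectTransparency false
-- import your own Groth.Agent.* helpers here

set_option autoImplicit false
universe u
open CategoryTheory CategoryTheory.Limits AlgebraicGeometry
open Variety

namespace Groth.Agent.S19514

/-- Let k be a field and f : X → Y a k-morphism between proper k-schemes which is a fibration, i.e. O_Y
→ f_*O_X is an isomorphism (Γ(V, O_Y) → Γ(f⁻¹V, O_X) bijective for every open V ⊆ Y). If X is
geometrically integral over k, then so is Y. (The assertion of (iii) for geometric normality is not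
stated here.) -/
theorem result (k : Type u) [Field k] (X Y : Scheme.{u})
    [X.Over (Spec (CommRingCat.of k))] [Y.Over (Spec (CommRingCat.of k))] [IsProper (X ↘ Spec (CommRingCat.of k))] [IsProper (Y ↘ Spec (CommRingCat.of k))]
    (f : X ⟶ Y) (hf : f ≫ (Y ↘ Spec (CommRingCat.of k)) = X ↘ Spec (CommRingCat.of k)) (hfib : ∀ V : Y.Opens, IsIso (f.app V))
    [GeometricallyIntegral (X ↘ Spec (CommRingCat.of k))] : GeometricallyIntegral (Y ↘ Spec (CommRingCat.of k)) := by
  let sY := Y ↘ Spec (CommRingCat.of k)
  haveI : IsProper (f ≫ sY) := by rw [hf]; infer_instance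
  haveI : IsProper f := IsProper.of_comp f sY
  refine ⟨fun K _ t Z a b hZ => ?_⟩
  haveI : Flat t := by
    obtain ⟨φ, rfl⟩ := Spec.map_surjective t
    refine (HasRingHomProperty.Spec_iff (P := @Flat)).mpr ?_
    letI : Algebra k K := φ.hom.toAlgebra
    exact (RingHom.flat_algebraMap_iff (R := k) (S := K)).2 inferInstance
  haveI : Flat (pullback.fst sY t) := MorphismProperty.pullback_fst sY t inferInstance
  have H := NormalFibLib.isPullback_map f sY (X ↘ Spec (CommRingCat.of k)) hf t
  let f' := pullback.map (X ↘ Spec (CommRingCat.of k)) t sY t f (𝟙 _) (𝟙 _) (by simp [sY, hf]) (by simp)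
  haveI : IsProper f' := MorphismProperty.of_isPullback H ‹IsProper f›
  haveI : IsIntegral (pullback (X ↘ Spec (CommRingCat.of k)) t) :=
    GeometricallyIntegral.geometrically_isIntegral t _ _ (IsPullback.of_hasPullback _ t)
  haveI : IsIntegral (pullback sY t) := NormalFibLib.isIntegral_of_app_isIso f'
    (NormalFibLib.isIso_app_of_flat_baseChange H (fun V _ => hfib V))
  haveI : Nonempty Z := ⟨hZ.isoPullback.inv (Classical.arbitrary _)⟩
  exact isIntegral_of_isOpenImmersion hZ.isoPullback.hom

end Groth.Agent.S19514
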