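import Groth.Statements.S19515
import Groth.Agent.NormalFibLib.Basic
set_option backward.isDefEq.respectTransparency false
-- import your own Groth.Agent.* helpers here

set_option autoImplicit false
universe u
open CategoryTheory CategoryTheory.Limits AlgebraicGeometry
open Variety

namespace Groth.Agent.S19515

/-- Let k be a field and f : X → Y a k-morphism between proper k-schemes which is a fibration, i.e. O_Y
→ f_*O_X is an isomorphism (Γ(V, O_Y) → Γ(f⁻¹V, O_X) bijective for every open V ⊆ Y). If X is
geometrically normal, i.e. its base change to every algebraic closure of k has all local rings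
integrally closed domains, then Y is geometrically normal in the same sense. -/
theorem result (k : Type u) [Field k] (X Y : Scheme.{u})
    [X.Over (Spec (CommRingCat.of k))] [Y.Over (Spec (CommRingCat.of k))] [IsProper (X ↘ Spec (CommRingCat.of k))] [IsProper (Y ↘ Spec (CommRingCat.of k))]
    (f : X ⟶ Y) (hf : f ≫ (Y ↘ Spec (CommRingCat.of k)) = X ↘ Spec (CommRingCat.of k)) (hfib : ∀ V : Y.Opens, IsIso (f.app V))
    (hX : ∀ (K : Type u) [Field K] [Algebra k K] [IsAlgClosure k K],
      Pi1.IsNormalScheme (pullback (X ↘ Spec (CommRingCat.of k)) (Spec.map (CommRingCat.ofHom (algebraMap k K)))))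
    (K : Type u) [Field K] [Algebra k K] [IsAlgClosure k K] :
    Pi1.IsNormalScheme (pullback (Y ↘ Spec (CommRingCat.of k)) (Spec.map (CommRingCat.ofHom (algebraMap k K)))) := by
  let sY := Y ↘ Spec (CommRingCat.of k)
  haveI : IsProper (f ≫ sY) := by rw [hf]; infer_instance
  haveI : IsProper f := IsProper.of_comp f sY
  let t := Spec.map (CommRingCat.ofHom (algebraMap k K))
  haveI : Flat t := by
    refine (HasRingHomProperty.Spec_iff (P := @Flat)).mpr ?_
    exact (RingHom.flat_algebraMap_iff (R := k) (S := K)).2 inferInstance
  haveI : Flat (pullback.fst sY t) := MorphismProperty.pullback_fst sY t inferInstance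
  have H := NormalFibLib.isPullback_map f sY (X ↘ Spec (CommRingCat.of k)) hf t
  let sX' := pullback.snd (X ↘ Spec (CommRingCat.of k)) t
  let sY' := pullback.snd sY t
  haveI : IsProper sX' := MorphismProperty.pullback_snd _ _ inferInstance
  haveI : IsProper sY' := MorphismProperty.pullback_snd _ _ inferInstance
  haveI : IsLocallyNoetherian (pullback (X ↘ Spec (CommRingCat.of k)) t) := LocallyOfFiniteType.isLocallyNoetherian sX'
  haveI : CompactSpace ↥(pullback (X ↘ Spec (CommRingCat.of k)) t) := QuasiCompact.compactSpace_of_compactSpace sX'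
  haveI : IsNoetherian (pullback (X ↘ Spec (CommRingCat.of k)) t) := ⟨⟩
  haveI : IsLocallyNoetherian (pullback sY t) := LocallyOfFiniteType.isLocallyNoetherian sY'
  haveI : CompactSpace ↥(pullback sY t) := QuasiCompact.compactSpace_of_compactSpace sY'
  haveI : IsNoetherian (pullback sY t) := ⟨⟩
  exact NormalFibLib.isNormalScheme_of_app_isIso _
    (NormalFibLib.isIso_app_of_flat_baseChange H (fun V _ => hfib V)) (hX K)

end Groth.Agent.S19515
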