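import Groth.Statements.S19520
import Groth.Agent.OmegaSepLib.Point
import Groth.Agent.SeesawVB.Frames

set_option autoImplicit false
universe u
open CategoryTheory CategoryTheory.Limits AlgebraicGeometry
open OmegaSh

namespace Groth.Agent.S19520

open CategoryTheory CategoryTheory.Limits AlgebraicGeometry

set_option backward.isDefEq.respectTransparency false
set_option backward.defeqAttrib.useBackward true
set_option linter.style.haveILetI false

attribute [local instance] Curv2.resAlgebra


/-- Let k be a field and f : X → Z a k-morphism between integral proper k-schemes, where X is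
geometrically normal (its base change to an algebraic closure of k has integrally closed local
domains) and Z is smooth over k; let Y ⊆ Z be the closure of the image of f, m its dimension, and
assume the fibre of f over the generic point of Y is geometrically reduced over the residue field
there (the function field extension K(Y) ⊆ K(X) is separable). Let d_Z : O_Z → Ω_Z and d_X : O_X →
Ω_X be universal k-derivations and c : f^*Ω_Z → Ω_X the O_X-linear map compatible with them, and let
U ⊆ X be the largest open subscheme smooth over k. If f^*Ω_Z is a free O_X-module of finite rank,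
then there are m sections of Ω_X over U which are linearly independent over Γ(U, O_X); in particular
the space of sections of Ω¹ over U has dimension at least m. (The second estimate of (ii), a nonzero
section of Ω^m over U, is not stated.) -/
theorem result (k : Type u) [Field k]
    (X Z : Scheme.{u}) [X.Over (Spec (CommRingCat.of k))] [Z.Over (Spec (CommRingCat.of k))]
    [IsProper (X ↘ Spec (CommRingCat.of k))] [IsProper (Z ↘ Spec (CommRingCat.of k))] [IsIntegral X] [IsIntegral Z]
    [Smooth (Z ↘ Spec (CommRingCat.of k))]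
    (hgn : ∀ (K : Type u) [Field K] [Algebra k K] [IsAlgClosure k K],
      Pi1.IsNormalScheme (pullback (X ↘ Spec (CommRingCat.of k)) (Spec.map (CommRingCat.ofHom (algebraMap k K)))))
    (f : X ⟶ Z) (hf : f ≫ (Z ↘ Spec (CommRingCat.of k)) = X ↘ Spec (CommRingCat.of k))
    (η : Z) (hη : closure {η} = closure (Set.range f.base)) (m : ℕ)
    (hm : topologicalKrullDim (closure (Set.range f.base)) = m)
    (hsep : GeometricallyReduced (pullback.snd f (Z.fromSpecResidueField η)))
    (ΩZ : Z.Modules) (dZ : OmegaSh.Der (Z ↘ Spec (CommRingCat.of k)) ΩZ) (hdZ : OmegaSh.IsUniversal dZ)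
    (ΩX : X.Modules) (dX : OmegaSh.Der (X ↘ Spec (CommRingCat.of k)) ΩX) (hdX : OmegaSh.IsUniversal dX)
    (c : (Scheme.Modules.pullback f).obj ΩZ ⟶ ΩX) (hc : OmegaSh.IsDiffCompat f dZ dX c)
    (hfree : ∃ d : ℕ, Nonempty ((Scheme.Modules.pullback f).obj ΩZ ≅ FlatMod.freeMod X d))
    (U : X.Opens) (hU : Smooth (U.ι ≫ (X ↘ Spec (CommRingCat.of k))))
    (hUmax : ∀ V : X.Opens, Smooth (V.ι ≫ (X ↘ Spec (CommRingCat.of k))) → V ≤ U) :
    ∃ s : Fin m → ΩX.val.obj (Opposite.op U),
      LinearIndependent (X.ringCatSheaf.obj.obj (Opposite.op U)) s := by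
  classical
  have hg := OmegaSepLib.generic_eq f hη
  subst hg
  obtain ⟨d, ⟨e⟩⟩ := hfree
  obtain ⟨s₀, hs₀⟩ := SeesawVB.exists_frame_free X d
  have hσ := SplitP1Lib.IsFrame.of_iso hs₀ e.symm
  let σ := fun i => e.symm.hom.app ⊤ (s₀ i)
  let s : Fin d → ΩX.val.obj (Opposite.op U) := fun i =>
    c.app U (((Scheme.Modules.pullback f).obj ΩZ).presheaf.map (homOfLE le_top).op (σ i))
  by_cases hU₀ : genericPoint X ∈ U
  swap
  · haveI : Subsingleton Γ(X, U) := by
      refine ⟨fun a b => TopCat.Presheaf.section_ext X.sheaf U a b fun x hx => absurd ?_ hU₀⟩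
      exact ((genericPoint_spec X).specializes trivial).mem_open U.2 hx
    refine ⟨fun _ => 0, Fintype.linearIndependent_iff.2 fun g _ i => ?_⟩
    exact Subsingleton.elim (α := Γ(X, U)) (g i) 0
  obtain ⟨U', hU', hle, hη', Φ, hΦ, a, ha, hli⟩ := OmegaSepLib.exists_indep k f hf
    (OmegaSepLib.isGeometricallyReduced_residueFieldMap f)
    (OmegaSepLib.isGeometricallyReduced_functionField k (hgn (AlgebraicClosure k)))
    (OmegaSepLib.height_eq hη hm) hdX c hc σ hσ U hU₀
  refine ⟨s ∘ a, Fintype.linearIndependent_iff.2 fun g hg i => ?_⟩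
  have h1 := congrArg (fun z : Γ(ΩX, U) => Φ (ΩX.presheaf.map (homOfLE hle).op z)) hg
  have hres : ∀ j, ΩX.presheaf.map (homOfLE hle).op (s (a j)) =
      c.app U' (((Scheme.Modules.pullback f).obj ΩZ).presheaf.map (homOfLE le_top).op (σ (a j))) := fun j => by
    refine (ConcreteCategory.congr_hom (c.mapPresheaf.naturality (homOfLE hle).op) _).symm.trans ?_
    exact congrArg (c.app U') (ParaFLib.res_res _ _ _)
  simp only [Function.comp_apply, map_sum, map_zero] at h1
  have h2 : ∑ j, X.evaluation U' (genericPoint X) hη' (X.presheaf.map (homOfLE hle).op (g j)) •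
      Φ (c.app U' (((Scheme.Modules.pullback f).obj ΩZ).presheaf.map (homOfLE le_top).op (σ (a j)))) = 0 := by
    rw [← h1]
    refine Finset.sum_congr rfl fun j _ => ?_
    rw [← hres j, ← hΦ]
    exact congrArg Φ (Scheme.Modules.map_smul ΩX (homOfLE hle) (g j) (s (a j))).symm
  have h3 := Fintype.linearIndependent_iff.1 hli _ h2 i
  have h4 : X.presheaf.germ U (genericPoint X) (hle hη') (g i) = 0 := by
    rw [← TopCat.Presheaf.germ_res_apply X.presheaf (homOfLE hle) (genericPoint X) hη']
    refine (map_eq_zero_iff _ (X.residue (genericPoint X)).hom.injective).1 ?_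
    exact h3
  exact germ_injective_of_isIntegral X (genericPoint X) (hle hη') (h4.trans (map_zero _).symm)

end Groth.Agent.S19520
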