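import Groth.Statements.S19522
import Groth.Agent.Comodule.Contract

set_option autoImplicit false
universe u
open TensorProduct
open GLin

namespace Groth.Agent.S19522

open TensorProduct in
theorem coeff_coact {k A R : Type*} [CommRing k] [CommRing A] [Bialgebra k A] [CommRing R] [Algebra k R]
    [HopfRep.Comod k A R] [HopfRep.Comod k A (Polynomial R)] [GLin.IsCoactAlg k A (Polynomial R)] (χ' : A)
    (hC : ∀ r : R, HopfRep.Comod.coact (k := k) (A := A) (Polynomial.C r) =
      Algebra.TensorProduct.map (Polynomial.CAlgHom : R →ₐ[k] Polynomial R) (AlgHom.id k A)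
        (HopfRep.Comod.coact (k := k) (A := A) r))
    (hX : HopfRep.Comod.coact (k := k) (A := A) (Polynomial.X : Polynomial R) = Polynomial.X ⊗ₜ[k] χ')
    (g : Polynomial R) (r : ℕ) :
    ((Polynomial.lcoeff R r).restrictScalars k).rTensor A (HopfRep.Comod.coact (k := k) (A := A) g) =
      HopfRep.Comod.coact (k := k) (A := A) (g.coeff r) * ((1 : R) ⊗ₜ[k] (χ' ^ r)) := by
  induction g using Polynomial.induction_on' with
  | add p q hp hq => simp only [map_add, Polynomial.coeff_add, hp, hq, add_mul]
  | monomial n c =>
    have hXn : HopfRep.Comod.coact (k := k) (A := A) ((Polynomial.X : Polynomial R) ^ n) =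
        (Polynomial.X ^ n) ⊗ₜ[k] (χ' ^ n) := by
      rw [← GLin.coactAlgHom_apply, map_pow, GLin.coactAlgHom_apply, hX, Algebra.TensorProduct.tmul_pow]
    rw [← Polynomial.C_mul_X_pow_eq_monomial, GLin.IsCoactAlg.coact_mul, hC, hXn]
    by_cases h : n = r
    · subst h
      rw [Polynomial.coeff_C_mul_X_pow, if_pos rfl]
      induction HopfRep.Comod.coact (k := k) (A := A) c with
      | zero => simp
      | add p q hp hq => simp only [map_add, add_mul, hp, hq]
      | tmul p q => simp [Polynomial.coeff_C_mul_X_pow]
    · rw [Polynomial.coeff_C_mul_X_pow, if_neg (Ne.symm h), map_zero, zero_mul]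
      induction HopfRep.Comod.coact (k := k) (A := A) c with
      | zero => simp
      | add p q hp hq => simp only [map_add, add_mul, hp, hq, add_zero]
      | tmul p q => simp [Polynomial.coeff_C_mul_X_pow, Ne.symm h]

/-- Let k be a field, A a commutative k-bialgebra coacting multiplicatively on a commutative k-algebra
R, and χ ∈ A a group-like element with an inverse χ' (χχ' = 1). Suppose the polynomial ring R[t]
carries a multiplicative coaction which restricts to the given one on constants and sends t to t ⊗
χ'. Then g ∈ R[t] is coinvariant if and only if, for every r, its r-th coefficient has coaction g_r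
↦ g_r ⊗ χ^r; that is, the ring of invariants of R[t] is the sum over r ≥ 0 of the weight-χ^r
semi-invariants of R times t^r. (The published statement is phrased for an affine variety with an
action of a linear algebraic group over an algebraically closed field of characteristic zero and
identifies the invariants of X × A¹ with the graded ring of invariant sections of the powers of the
linearised trivial bundle; this is its coordinate-ring content, valid over any field.) -/
theorem result (k : Type u) [Field k]
    (A : Type u) [CommRing A] [Bialgebra k A]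
    (R : Type u) [CommRing R] [Algebra k R] [HopfRep.Comod k A R] [GLin.IsCoactAlg k A R]
    [HopfRep.Comod k A (Polynomial R)] [GLin.IsCoactAlg k A (Polynomial R)]
    (χ χ' : A) (hχ : CoalgebraStruct.comul (R := k) (A := A) χ = χ ⊗ₜ[k] χ)
    (hχε : CoalgebraStruct.counit (R := k) (A := A) χ = 1) (hχχ' : χ * χ' = 1)
    (hC : ∀ r : R, HopfRep.Comod.coact (k := k) (A := A) (Polynomial.C r) =
      Algebra.TensorProduct.map (Polynomial.CAlgHom : R →ₐ[k] Polynomial R) (AlgHom.id k A)
        (HopfRep.Comod.coact (k := k) (A := A) r))
    (hX : HopfRep.Comod.coact (k := k) (A := A) (Polynomial.X : Polynomial R) = Polynomial.X ⊗ₜ[k] χ')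
    (g : Polynomial R) :
    g ∈ GLin.invariants k A (Polynomial R) ↔
      ∀ r : ℕ, g.coeff r ∈ HopfRep.eigenspace k A R (χ ^ r) := by
  classical
  have hinv : ∀ r : ℕ, χ' ^ r * χ ^ r = 1 := fun r => by rw [← mul_pow, mul_comm, hχχ', one_pow]
  constructor
  · intro hg r
    have h := coeff_coact χ' hC hX g r
    rw [(GLin.mem_invariants_iff _ _ _ _).1 hg, LinearMap.rTensor_tmul] at h
    have h' := congrArg (· * ((1 : R) ⊗ₜ[k] (χ ^ r))) h
    simp only [mul_assoc, Algebra.TensorProduct.tmul_mul_tmul, one_mul, mul_one, hinv,
      ← Algebra.TensorProduct.one_def, LinearMap.coe_restrictScalars, Polynomial.lcoeff_apply] at h'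
    exact h'.symm
  · intro h
    rw [GLin.mem_invariants_iff]
    refine Groth.Agent.Comodule.ext_rcon fun f => Polynomial.ext fun r => ?_
    have h' := congrArg (Groth.Agent.Comodule.rcon f) (coeff_coact χ' hC hX g r)
    rw [Groth.Agent.Comodule.rcon_rTensor, show HopfRep.Comod.coact (k := k) (A := A) (g.coeff r) = g.coeff r ⊗ₜ[k] (χ ^ r) from h r,
      Algebra.TensorProduct.tmul_mul_tmul, mul_one, mul_comm (χ ^ r), hinv] at h'
    rw [Groth.Agent.Comodule.rcon_tmul] at h' ⊢
    simpa [Polynomial.coeff_smul] using h'

end Groth.Agent.S19522
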