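import Groth.Statements.S19523
import Groth.Agent.MonoFibre.FlatOrbit
import Groth.Agent.MonoFibre.HomFlat
import Groth.Agent.ASp.PropDescend
import Groth.Agent.S0115
-- import your own Groth.Agent.* helpers here

set_option autoImplicit false
universe u
open CategoryTheory MonoidalCategory CartesianMonoidalCategory MonObj GrpObj AlgebraicGeometry
open AlgGrp

namespace Groth.Agent.S19523

/-- Let k be a field, G a smooth k-group scheme of finite type acting on a k-scheme X of finite type,
and x a rational point of X. The orbit of x, the image of the orbit map G → X, is locally closed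
(not restated here); if i : O → X is an immersion from a reduced scheme whose image is exactly the
orbit — the orbit with its reduced induced structure — then O is smooth over k. -/
theorem result (k : Type u) [Field k]
    (G X : Over (Spec (CommRingCat.of k))) [GrpObj G] [Smooth G.hom] [QuasiCompact G.hom]
    [LocallyOfFiniteType X.hom] [QuasiCompact X.hom] (a : AlgGrp.Action G X)
    (x : 𝟙_ (Over (Spec (CommRingCat.of k))) ⟶ X)
    (O : Scheme.{u}) (i : O ⟶ X.left) [IsImmersion i] [IsReduced O]
    (hO : Set.range i.base = Set.range (a.orbitMap x).left.base) : Smooth (i ≫ X.hom) := by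
  haveI : IsReduced G.left := Groth.Agent.ASp.isReduced_of_smooth G.hom
  haveI : Subsingleton ↥(Spec (CommRingCat.of k)) := inferInstanceAs (Subsingleton (PrimeSpectrum k))
  let pt : ↥(Spec (CommRingCat.of k)) := IsLocalRing.closedPoint k
  let Oo : Over (Spec (CommRingCat.of k)) := Over.mk (i ≫ X.hom)
  let j : Oo ⟶ X := Over.homMk i rfl
  have key : ∀ {T : Over (Spec (CommRingCat.of k))} (m : T ⟶ X), IsReduced T.left → Set.range m.left ⊆ Set.range i →
      ∃ m' : T ⟶ Oo, m' ≫ j = m := fun {T} m hT hm => by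
    haveI := hT
    haveI : Surjective (Limits.pullback.fst m.left i) := ⟨fun x => by
      obtain ⟨y, hy⟩ := hm ⟨x, rfl⟩
      obtain ⟨z, hz, -⟩ := Scheme.Pullback.exists_preimage_pullback (f := m.left) (g := i) x y hy.symm
      exact ⟨z, hz⟩⟩
    haveI : IsClosedImmersion (Limits.pullback.fst m.left i) := IsClosedImmersion.of_isPreimmersion _ (by
      rw [(Limits.pullback.fst m.left i).surjective.range_eq]; exact isClosed_univ)
    haveI : IsIso (Limits.pullback.fst m.left i) := isIso_of_isClosedImmersion_of_surjective _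
    refine ⟨Over.homMk (inv (Limits.pullback.fst m.left i) ≫ Limits.pullback.snd m.left i) ?_, ?_⟩
    · show (inv (Limits.pullback.fst m.left i) ≫ Limits.pullback.snd m.left i) ≫ i ≫ X.hom = T.hom
      rw [Category.assoc, ← Limits.pullback.condition_assoc, IsIso.inv_hom_id_assoc, Over.w]
    · apply Over.OverMorphism.ext
      show (inv (Limits.pullback.fst m.left i) ≫ Limits.pullback.snd m.left i) ≫ i = m.left
      rw [Category.assoc, ← Limits.pullback.condition, IsIso.inv_hom_id_assoc]
  haveI : Mono j := (Over.forget _).mono_of_mono_map (show Mono i by infer_instance)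
  obtain ⟨x₁, hx₁⟩ := key x (inferInstanceAs (IsReduced (Spec (CommRingCat.of k)))) (by
    rintro _ ⟨t, rfl⟩
    rw [hO]
    refine ⟨η[G].left pt, ?_⟩
    rw [← Scheme.Hom.comp_apply, ← Over.comp_left, Groth.Agent.MonoFibre.orbitMap_apply,
      show η[G] = (1 : 𝟙_ (Over (Spec (CommRingCat.of k))) ⟶ G) by
        rw [Hom.one_def, toUnit_unique (toUnit (𝟙_ (Over (Spec (CommRingCat.of k))))) (𝟙 _), Category.id_comp],
      Groth.Agent.MonoFibre.act_one, toUnit_unique (toUnit (𝟙_ (Over (Spec (CommRingCat.of k))))) (𝟙 _), Category.id_comp]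
    exact congrArg x.left (Subsingleton.elim (α := PrimeSpectrum k) _ _))
  haveI : IsReduced (G ⊗ Oo).left := by
    haveI : Smooth (snd G Oo).left := MorphismProperty.of_isPullback (P := @Smooth)
      (IsPullback.of_hasPullback G.hom Oo.hom) ‹_›
    haveI : IsReduced Oo.left := ‹IsReduced O›
    exact Groth.Agent.ASp.isReduced_of_smooth (snd G Oo).left
  obtain ⟨act', hact⟩ := key ((G ◁ j) ≫ a.act) ‹_› (by
    rintro _ ⟨p, rfl⟩
    rw [hO]
    obtain ⟨g₁, hg₁⟩ : i ((snd G Oo).left p) ∈ Set.range (a.orbitMap x).left := hO.le ⟨_, rfl⟩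
    obtain ⟨T, u, v, t, ht, hu⟩ := Groth.Agent.GrpSchLib.exists_lift (snd G Oo ≫ j) (a.orbitMap x) p ⟨g₁, hg₁⟩
    refine ⟨((u ≫ fst G Oo) * v).left t, ?_⟩
    rw [← ht, ← Scheme.Hom.comp_apply, ← Scheme.Hom.comp_apply, ← Over.comp_left, ← Over.comp_left,
      Groth.Agent.MonoFibre.orbitMap_apply, Groth.Agent.MonoFibre.act_mul, ← Groth.Agent.MonoFibre.orbitMap_apply, ← hu]
    rw [show lift (u ≫ fst G Oo) (u ≫ snd G Oo ≫ j) = u ≫ (G ◁ j) by
      apply CartesianMonoidalCategory.hom_ext <;> simp, Category.assoc])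
  have hone : η[G] ▷ Oo ≫ act' = (λ_ Oo).hom := by
    rw [← cancel_mono j, Category.assoc, hact, ← Category.assoc, ← whisker_exchange, Category.assoc,
      a.one_act, MonoidalCategory.leftUnitor_naturality]
  have hmul : μ[G] ▷ Oo ≫ act' = (α_ G G Oo).hom ≫ G ◁ act' ≫ act' := by
    rw [← cancel_mono j]
    simp only [Category.assoc]
    rw [hact, ← MonoidalCategory.whiskerLeft_comp_assoc, hact, MonoidalCategory.whiskerLeft_comp_assoc,
      ← Category.assoc (μ[G] ▷ Oo), ← whisker_exchange, Category.assoc, a.mul_act,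
      ← associator_naturality_right_assoc]
  let b : AlgGrp.Action G Oo := { act := act', one_act := hone, mul_act := hmul }
  have horb : b.orbitMap x₁ ≫ j = a.orbitMap x := by
    rw [← Category.id_comp (b.orbitMap x₁), ← Category.id_comp (a.orbitMap x), Groth.Agent.MonoFibre.orbitMap_apply,
      Groth.Agent.MonoFibre.orbitMap_apply, Category.assoc, hact, ← Category.assoc, lift_whiskerLeft, Category.assoc, hx₁]
  let φ := b.orbitMap x₁
  haveI : Surjective φ.left := ⟨fun y => by
    obtain ⟨g, hg⟩ : i y ∈ Set.range (a.orbitMap x).left := hO.le ⟨y, rfl⟩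
    refine ⟨g, i.isEmbedding.injective ?_⟩
    rw [← hg, ← horb]
    rfl⟩
  haveI : IsReduced Oo.left := ‹IsReduced O›
  obtain ⟨ξ, -, hξ⟩ := Groth.Agent.MonoFibre.exists_isMaxPt (x₁.left pt)
  obtain ⟨γ₀, hγ₀⟩ := φ.left.surjective ξ
  haveI : Flat G.hom := inferInstance
  haveI : Flat φ.left := Groth.Agent.MonoFibre.flat_orbitMap_of_flat_at b x₁ ⟨γ₀,
    Groth.Agent.MonoFibre.flat_stalkMap_of_isPullback_maxPt (IsPullback.of_horiz_isIso (fst := 𝟙 G.left)
      (snd := φ.left) (f := φ.left) (g := 𝟙 Oo.left) ⟨by simp⟩) γ₀ (hγ₀ ▸ hξ)⟩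
  haveI : LocallyOfFiniteType Oo.hom := inferInstanceAs (LocallyOfFiniteType (i ≫ X.hom))
  haveI : IsLocallyNoetherian Oo.left := LocallyOfFiniteType.isLocallyNoetherian Oo.hom
  haveI : LocallyOfFiniteType (φ.left ≫ Oo.hom) := by rw [Over.w]; infer_instance
  haveI : LocallyOfFiniteType φ.left := locallyOfFiniteType_of_comp φ.left Oo.hom
  haveI : LocallyOfFinitePresentation φ.left := inferInstance
  haveI : Smooth (φ.left ≫ (i ≫ X.hom)) := by
    rw [show φ.left ≫ i ≫ X.hom = G.hom from Over.w φ]; infer_instance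
  exact Groth.Agent.S0115.result φ.left (i ≫ X.hom)

end Groth.Agent.S19523
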