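import Groth.Statements.S19524
import Groth.Agent.OmegaSepLib.Point
import Groth.Agent.SeesawVB.Frames
import Groth.Agent.ExtSeqLib.Bilin
import Groth.Agent.FieldExtLib.Separable

set_option autoImplicit false
universe u
open CategoryTheory CategoryTheory.Limits AlgebraicGeometry
open OmegaSh

namespace Groth.Agent.S19524

open CategoryTheory CategoryTheory.Limits AlgebraicGeometry

set_option backward.isDefEq.respectTransparency false
set_option backward.defeqAttrib.useBackward true
set_option linter.style.haveILetI false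

set_option maxHeartbeats 1000000

attribute [local instance] Curv2.resAlgebra

open TopologicalSpace Opposite

/-- The generic point is a smooth point when the function field is formally smooth over the base field. -/
theorem genericPoint_mem_smoothLocus (k : Type u) [Field k] (X : Scheme.{u}) [X.Over (Spec (CommRingCat.of k))]
    [IsIntegral X] [LocallyOfFinitePresentation (X ↘ Spec (CommRingCat.of k))]
    (h : Algebra.FormallySmooth k (X.residueField (genericPoint X))) :
    genericPoint X ∈ (X ↘ Spec (CommRingCat.of k)).smoothLocus := by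
  let f := X ↘ Spec (CommRingCat.of k)
  let g := genericPoint X
  rw [Scheme.Hom.mem_smoothLocus]
  let e : k ≃ₐ[k] (Spec.structureSheaf k).presheaf.stalk (f g) :=
    IsLocalization.atUnits _ (f g).asIdeal.primeCompl (fun x hx ↦ by aesop (add simp IsUnit.mem_submonoid_iff))
  have hr : Function.Bijective (X.residue g).hom :=
    ⟨(X.residue g).hom.injective, Scheme.residue_surjective X g⟩
  let e₂ : X.presheaf.stalk g ≃+* X.residueField g := RingEquiv.ofBijective (X.residue g).hom hr
  have hc : algebraMap k (X.residueField g) = (e₂.toRingHom.comp (f.stalkMap g).hom).comp e.toRingEquiv.toRingHom := by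
    ext r
    show X.residue g (X.presheaf.germ ⊤ g trivial (Coh.toGlobal f r)) =
      X.residue g (f.stalkMap g ((Spec (CommRingCat.of k)).presheaf.germ ⊤ (f g) trivial
        ((Scheme.ΓSpecIso (CommRingCat.of k)).inv r)))
    rw [Scheme.Hom.germ_stalkMap_apply]
    rfl
  have h' : (algebraMap k (X.residueField g)).FormallySmooth := RingHom.formallySmooth_algebraMap.2 h
  rw [hc] at h'
  have h₁ := RingHom.FormallySmooth.respectsIso.2 _ e.toRingEquiv.symm h'
  have h₂ := RingHom.FormallySmooth.respectsIso.1 _ e₂.symm h₁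
  convert! h₂ using 1
  ext x
  exact ((e₂.symm_apply_apply _).trans (congrArg (f.stalkMap g).hom (e.toRingEquiv.apply_symm_apply x))).symm

/-- Let k be a field and f : X → Z a k-morphism between integral proper k-schemes, where X is
geometrically normal (its base change to an algebraic closure of k has integrally closed local
domains) and Z is smooth over k; let Y ⊆ Z be the closure of the image of f, m its dimension, and
assume the fibre of f over the generic point of Y is geometrically reduced over the residue field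
there (the function field extension K(Y) ⊆ K(X) is separable). Let d_Z : O_Z → Ω_Z and d_X : O_X →
Ω_X be universal k-derivations and c : f^*Ω_Z → Ω_X the O_X-linear map compatible with them, and let
U ⊆ X be the largest open subscheme smooth over k. If f^*Ω_Z is a free O_X-module of finite rank and
Ω^m_X is an m-th exterior power of Ω_X (affine-locally the exterior power of the sections), then
Ω^m_X has a nonzero section over U: h⁰(U, Ω^m) ≥ 1. -/
theorem result (k : Type u) [Field k]
    (X Z : Scheme.{u}) [X.Over (Spec (CommRingCat.of k))] [Z.Over (Spec (CommRingCat.of k))]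
    [IsProper (X ↘ Spec (CommRingCat.of k))] [IsProper (Z ↘ Spec (CommRingCat.of k))] [IsIntegral X] [IsIntegral Z]
    [Smooth (Z ↘ Spec (CommRingCat.of k))]
    (hgn : ∀ (K : Type u) [Field K] [Algebra k K] [IsAlgClosure k K],
      Pi1.IsNormalScheme (pullback (X ↘ Spec (CommRingCat.of k)) (Spec.map (CommRingCat.ofHom (algebraMap k K)))))
    (f : X ⟶ Z) (hf : f ≫ (Z ↘ Spec (CommRingCat.of k)) = X ↘ Spec (CommRingCat.of k))
    (η : Z) (hη : closure {η} = closure (Set.range f.base)) (m : ℕ)
    (hm : topologicalKrullDim (closure (Set.range f.base)) = m)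
    (hsep : GeometricallyReduced (pullback.snd f (Z.fromSpecResidueField η)))
    (ΩZ : Z.Modules) (dZ : OmegaSh.Der (Z ↘ Spec (CommRingCat.of k)) ΩZ) (hdZ : OmegaSh.IsUniversal dZ)
    (ΩX : X.Modules) (dX : OmegaSh.Der (X ↘ Spec (CommRingCat.of k)) ΩX) (hdX : OmegaSh.IsUniversal dX)
    (c : (Scheme.Modules.pullback f).obj ΩZ ⟶ ΩX) (hc : OmegaSh.IsDiffCompat f dZ dX c)
    (hfree : ∃ d : ℕ, Nonempty ((Scheme.Modules.pullback f).obj ΩZ ≅ FlatMod.freeMod X d))
    (U : X.Opens) (hU : Smooth (U.ι ≫ (X ↘ Spec (CommRingCat.of k))))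
    (hUmax : ∀ V : X.Opens, Smooth (V.ι ≫ (X ↘ Spec (CommRingCat.of k))) → V ≤ U)
    (Ωm : X.Modules) (hΩm : ExtPow.IsExtPow m ΩX Ωm) :
    ∃ s : Ωm.val.obj (Opposite.op U), s ≠ 0 := by
  classical
  let sX := X ↘ Spec (CommRingCat.of k)
  have hg := OmegaSepLib.generic_eq f hη
  subst hg
  have hkL := OmegaSepLib.isGeometricallyReduced_functionField k (hgn (AlgebraicClosure k))
  haveI : LocallyOfFinitePresentation sX := LocallyOfFinitePresentation.iff_locallyOfFiniteType.2 inferInstance
  have hU₀ : genericPoint X ∈ U := by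
    refine hUmax sX.smoothLocus ?_ (genericPoint_mem_smoothLocus k X
      (FieldExtLib.formallySmooth_of_isGeometricallyReduced hkL))
    rw [← Scheme.Hom.smoothLocus_eq_top_iff, ← Scheme.Hom.preimage_smoothLocus_eq, Scheme.Opens.ι_preimage_self]
  obtain ⟨d, ⟨e⟩⟩ := hfree
  obtain ⟨s₀, hs₀⟩ := SeesawVB.exists_frame_free X d
  have hσ := SplitP1Lib.IsFrame.of_iso hs₀ e.symm
  let σ := fun i => e.symm.hom.app ⊤ (s₀ i)
  let s : Fin d → Γ(ΩX, U) := fun i =>
    c.app U (((Scheme.Modules.pullback f).obj ΩZ).presheaf.map (homOfLE le_top).op (σ i))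
  obtain ⟨U', hU', hle, hη', Φ, hΦ, a, ha, hli⟩ := OmegaSepLib.exists_indep k f hf
    (OmegaSepLib.isGeometricallyReduced_residueFieldMap f) hkL
    (OmegaSepLib.height_eq hη hm) hdX c hc σ hσ U hU₀
  obtain ⟨D⟩ := ExtSeq.nonempty_EP hΩm
  obtain ⟨t, ht, -⟩ := TopCat.Sheaf.existsUnique_gluing' (⟨Ωm.presheaf, Ωm.isSheaf⟩ : TopCat.Sheaf Ab.{u} X.carrier)
      (fun W : {W : X.affineOpens // W.1 ≤ U} => W.1.1) U (fun W => homOfLE W.2) (fun x hx => by
        obtain ⟨_, ⟨V, hV, rfl⟩, hxV, hVO⟩ := X.isBasis_affineOpens.exists_subset_of_mem_open hx U.2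
        exact Opens.mem_iSup.2 ⟨⟨⟨V, hV⟩, hVO⟩, hxV⟩)
      (fun W => (D.φ W.1).symm (exteriorPower.ιMulti _ m fun j => ExtSeq.rs ΩX W.2 (s (a j)))) (fun W W' => by
        refine ExtSeq.ext_affine Ωm fun V hV => ?_
        show ExtSeq.rs Ωm hV (ExtSeq.rs Ωm inf_le_left _) = ExtSeq.rs Ωm hV (ExtSeq.rs Ωm inf_le_right _)
        rw [ExtSeq.rs_rs, ExtSeq.rs_rs, D.comp, D.comp]
        simp only [ExtSeq.rs_rs])
  refine ⟨t, fun h0 => ?_⟩
  have h1 : ExtSeq.rs Ωm hle t = (D.φ ⟨U', hU'⟩).symm
      (exteriorPower.ιMulti _ m fun j => ExtSeq.rs ΩX hle (s (a j))) := ht ⟨⟨U', hU'⟩, hle⟩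
  rw [h0] at h1
  replace h1 : (0 : Γ(Ωm, U')) = _ := (map_zero (Ωm.presheaf.map (homOfLE hle).op).hom).symm.trans h1
  rw [LinearEquiv.eq_symm_apply, map_zero] at h1
  let L := X.residueField (genericPoint X)
  let v : Fin m → Ω[L⁄k] := fun j => Φ (ExtSeq.rs ΩX hle (s (a j)))
  have hv : LinearIndependent L v := by
    convert hli using 1
    funext j
    refine congrArg Φ ((ConcreteCategory.congr_hom (c.mapPresheaf.naturality (homOfLE hle).op) _).symm.trans ?_)
    exact congrArg (c.app U') (ParaFLib.res_res _ _ _)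
  have h2 : exteriorPower.ιMulti L m v = 0 := by
    have := congrArg (ExtPowLib.res m (X.evaluation U' (genericPoint X) hη').hom Φ hΦ) h1
    rw [ExtPowLib.res_ιMulti, map_zero] at this
    exact this.symm
  obtain ⟨l, hl⟩ := (Fintype.linearCombination L v).exists_leftInverse_of_injective
    (LinearMap.ker_eq_bot.2 hv.fintypeLinearCombination_injective)
  have h3 : exteriorPower.pairingDual L (Ω[L⁄k]) m (exteriorPower.ιMulti L m fun j => LinearMap.proj j ∘ₗ l)
      (exteriorPower.ιMulti L m v) = 1 := by
    rw [exteriorPower.pairingDual_ιMulti_ιMulti, ← Matrix.det_one (n := Fin m) (R := L)]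
    congr 1
    ext i j
    have := LinearMap.congr_fun hl (Pi.single i 1)
    simp only [LinearMap.comp_apply, Fintype.linearCombination_apply_single, one_smul, LinearMap.id_apply] at this
    simp [this, Matrix.one_apply, Pi.single_apply, eq_comm]
  rw [h2, map_zero] at h3
  exact zero_ne_one h3

end Groth.Agent.S19524
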