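import Groth.Statements.S19529
import Groth.Agent.AVHomLib.End0
import Mathlib.RingTheory.Polynomial.GaussLemma

set_option autoImplicit false
universe u
open CategoryTheory MonoidalCategory CartesianMonoidalCategory MonObj GrpObj AlgebraicGeometry
open AbVar

namespace Groth.Agent.S19529

open CategoryTheory CategoryTheory.Limits AlgebraicGeometry

open Groth.Agent
set_option backward.isDefEq.respectTransparency false

/-- Let k be a field with an algebraic closure Ω, l a prime invertible in k, A an abelian variety over k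
(a proper, geometrically integral commutative group scheme over k) and α an endomorphism of A (a
homomorphism of group schemes). Let T_l(α) be the induced ℤ_l-linear endomorphism of the l-adic Tate
module of Ω-points of A, which is assumed, as is always the case, to be free of finite rank over
ℤ_l. Then the minimal polynomial of T_l(α) over ℤ_l is defined over ℤ: there is a monic polynomial P
with integer coefficients whose image in ℤ_l[X] is that minimal polynomial. (The companion clause on
the characteristic polynomial is stated separately for finite and for algebraically closed ground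
fields.) -/
theorem result (k Ω : Type u) [Field k] [Field Ω] [Algebra k Ω] [IsAlgClosure k Ω]
    (l : ℕ) [Fact l.Prime] (hl : (l : k) ≠ 0) (A : Over (Spec (CommRingCat.of k)))
    [GrpObj A] [IsCommMonObj A] [IsProper A.hom] [GeometricallyIntegral A.hom]
    (α : A ⟶ A) [IsMonHom α]
    [Module.Free ℤ_[l] (AbDual.TateMod A l (SGA7.pt Ω))] [Module.Finite ℤ_[l] (AbDual.TateMod A l (SGA7.pt Ω))] :
    ∃ P : Polynomial ℤ, P.Monic ∧
      (minpoly ℤ_[l] (AbDual.tateMapₗ (l := l) (T := SGA7.pt Ω) α)) = P.map (Int.castRingHom ℤ_[l]) := by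
  haveI : IsAlgClosed Ω := IsAlgClosure.isAlgClosed k
  let a : EndAV.End A := EndAV.End.of α
  haveI : Module.Finite ℤ (EndAV.End A) := (AVHomLib.finite_hom A A).1
  haveI := AVHomLib.finite_end0 A
  obtain ⟨R, hRm, hR⟩ := IsIntegral.of_finite ℤ a
  have hR' : Polynomial.aeval a R = 0 := hR
  have hcast : ∀ p : Polynomial ℤ, Polynomial.aeval (EndAV.toEnd0 a) (p.map (Int.castRingHom ℚ)) =
      EndAV.toEnd0 (Polynomial.aeval a p) := fun p => by
    rw [← algebraMap_int_eq, Polynomial.aeval_map_algebraMap, Polynomial.aeval_algHom_apply]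
  have hint : IsIntegral ℚ (EndAV.toEnd0 a) := IsIntegral.of_finite ℚ _
  have hdvd : minpoly ℚ (EndAV.toEnd0 a) ∣ R.map (algebraMap ℤ ℚ) := minpoly.dvd _ _ (by
    rw [algebraMap_int_eq, hcast, hR', map_zero])
  obtain ⟨Q, hQ⟩ := IsIntegrallyClosed.eq_map_mul_C_of_dvd ℚ hRm hdvd
  rw [minpoly.monic hint, Polynomial.C_1, _root_.mul_one] at hQ
  rw [algebraMap_int_eq] at hQ
  have hQm : Q.Monic := (Function.Injective.monic_map_iff Int.cast_injective).2 (hQ ▸ minpoly.monic hint)
  have hQ0 : Polynomial.aeval a Q = 0 := AVHomLib.toEnd0_injective (by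
    rw [← hcast, hQ, minpoly.aeval, map_zero])
  have hli : LinearIndependent ℤ (fun i : Fin Q.natDegree => a ^ (i : ℕ)) := by
    have h1 := linearIndependent_pow (K := ℚ) (EndAV.toEnd0 a)
    rw [← hQ, Polynomial.natDegree_map_eq_of_injective Int.cast_injective] at h1
    refine Fintype.linearIndependent_iff.2 fun g hg i => ?_
    have h2 := Fintype.linearIndependent_iff.1 h1 (fun i => (g i : ℚ)) ?_ i
    · exact_mod_cast h2
    · simp only [Int.cast_smul_eq_zsmul, ← map_pow, ← map_zsmul, ← map_sum, hg, map_zero]
  let f := AbDual.tateMapₗ (A := A) (l := l) (T := SGA7.pt Ω) α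
  have hrep : ∀ p : Polynomial ℤ, EndAV.End.tateRep l (SGA7.pt Ω) (Polynomial.aeval a p) =
      Polynomial.aeval f (p.map (Int.castRingHom ℤ_[l])) := fun p => by
    rw [Polynomial.aeval_def, Polynomial.hom_eval₂, Polynomial.aeval_def, Polynomial.eval₂_map]
    congr 1
    exact RingHom.ext_int _ _
  have hli' := AVHomLib.linearIndependent_tateMap Ω l hl (fun i : Fin Q.natDegree => a ^ (i : ℕ)) hli
  refine ⟨Q, hQm, (minpoly.unique' ℤ_[l] f (hQm.map _) ?_ fun q hq => ?_).symm⟩
  · rw [← hrep, hQ0, map_zero]
  · rw [hQm.degree_map, Polynomial.degree_eq_natDegree hQm.ne_zero] at hq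
    refine or_iff_not_imp_left.2 fun hne h0 => hne ?_
    have hlt : q.natDegree < Q.natDegree := (Polynomial.natDegree_lt_iff_degree_lt hne).2 hq
    rw [Polynomial.aeval_eq_sum_range' hlt, Finset.sum_range] at h0
    have hpow : ∀ i : ℕ, f ^ i = EndAV.Hom.tateMap (A := A) (B := A) l (SGA7.pt Ω) (a ^ i) := fun i =>
      (map_pow (EndAV.End.tateRep l (SGA7.pt Ω)) a i).symm
    simp only [hpow] at h0
    have h3 := Fintype.linearIndependent_iff.1 hli' (fun i => q.coeff i) h0
    ext i
    rw [Polynomial.coeff_zero]
    by_cases hi : i < Q.natDegree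
    · exact h3 ⟨i, hi⟩
    · exact Polynomial.coeff_eq_zero_of_natDegree_lt (by omega)


end Groth.Agent.S19529
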