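import Groth.Statements.S1953
import Groth.Agent.ChiCycLib.Diag
import Groth.Agent.CycLib.Closed

set_option autoImplicit false
set_option backward.isDefEq.respectTransparency false
set_option linter.style.haveILetI false
universe u
open CategoryTheory CategoryTheory.Limits AlgebraicGeometry
attribute [local instance] HasDerivedCategory.standard
open IntMult

namespace Groth.Agent.S1953

open Groth.Agent Groth.Agent.CycLib

/-- Let X be a proper nonsingular variety over K, α an r-cycle and β an s-cycle intersecting properly, Δ
⊆ X ×_K X the diagonal (as the prime cycle of its generic point) and α × β the exterior product,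
with dimension function δ₂ on X ×_K X. Then [Δ] and α × β intersect properly and pr_{1,*}([Δ] · (α ×
β)) = α · β coefficientwise, for any cycle on X ×_K X with the coefficients of [Δ] · (α × β). Here X
is a nonsingular variety over the algebraically closed field K (smooth, separated, quasi-compact,
integral) with dimension function δ (transcendence degree) and n = dim X; cycles are Mathlib
AlgebraicCycles with Cyc.Zk membership, proper intersection is IntMult.IntersectProperly and α · β
is the Tor-formula intersection product on coefficient functions (IntMult.interProd), bundled where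
needed as 'any cycle with these coefficients'. -/
theorem result (K : Type u) [Field K] [IsAlgClosed K] (X : Scheme.{u}) (f : X ⟶ Spec (CommRingCat.of K)) [Smooth f] [IsProper f] [IsIntegral X] (δ : X → ℤ) (hX : Cyc.IsSetup X δ) (hδ : Cyc.DeltaCompat f δ (fun _ => 0)) (n : ℤ) (hn : δ (genericPoint X) = n) (δ₂ : ↥(pullback f f) → ℤ) (h₂ : Cyc.DeltaCompat (pullback.fst f f ≫ f) δ₂ (fun _ => 0)) (h₂' : Cyc.DeltaCompat (pullback.fst f f) δ₂ δ) (r s : ℤ) (α β : AlgebraicCycle X ℤ) (hα : α ∈ Cyc.Zk X δ r) (hβ : β ∈ Cyc.Zk X δ s) (hprop : IntMult.IntersectProperly δ n ⇑α ⇑β) (γ : AlgebraicCycle (pullback f f) ℤ) (hγ : ⇑γ = IntMult.interProd δ₂ (n + n) (Set.indicator {pullback.diagonal f (genericPoint X)} 1) (IntMult.extProd f f δ δ δ₂ ⇑α ⇑β)) : IntMult.IntersectProperly δ₂ (n + n) (Set.indicator {pullback.diagonal f (genericPoint X)} 1) (IntMult.extProd f f δ δ δ₂ ⇑α ⇑β) ∧ ⇑(AlgebraicCycle.map (pullback.fst f f) δ₂ δ γ) = IntMult.interProd δ n ⇑α ⇑β := by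
  classical
  obtain ⟨d, hd, -, -, -⟩ := IMultLib.delta_facts f hδ (genericPoint X)
  obtain rfl : n = d := by omega
  obtain ⟨h1, hsupp, hval⟩ := ChiCycLib.map_diag_interProd f hX hδ d hd h₂ h₂' α β hα hβ hprop
  refine ⟨h1, funext fun ζ => ?_⟩
  rw [AlgebraicCycle.map, Function.locallyFinsupp.map_apply, finsum_eq_single _ (pullback.diagonal f ζ) fun w hw => ?_]
  · rw [finsum_eq_if, if_pos (show pullback.diagonal f ζ ∈ ⇑(pullback.fst f f) ⁻¹' {ζ} from DiagRedLib.fst_diag f ζ), hγ, hval ζ, AlgebraicCycle.mapCoeff,
      if_pos (show δ₂ (pullback.diagonal f ζ) = δ (pullback.fst f f (pullback.diagonal f ζ)) by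
        rw [ChiCycLib.delta_diag f h₂', DiagRedLib.fst_diag]),
      show (pullback.fst f f).residueDegree (pullback.diagonal f ζ) = 1 from ?_, Nat.cast_one, mul_one]
    have h := CycLib.residueDegree_comp_left (pullback.diagonal f) (pullback.fst f f) ζ
      (CycLib.bijective_residueFieldMap (pullback.diagonal f) ζ)
    rw [pullback.diagonal_fst] at h
    exact h.symm.trans (WeilCohLib.residueDegree_eq_one_of_surjective (𝟙 X) ζ (bijective_residueFieldMap (𝟙 X) ζ).2)
  · rw [finsum_eq_if]
    split_ifs with hm
    swap
    · rfl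
    by_contra hne
    have h2 := hsupp w (by rw [← hγ]; exact left_ne_zero_of_mul hne)
    exact hw (h2.trans (congrArg (pullback.diagonal f) (show pullback.fst f f w = ζ from hm)))

end Groth.Agent.S1953
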