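import Groth.Statements.S19532
import Mathlib
import Groth.Agent.TFMonoLib.Supported
import Groth.Agent.TFCanonLib.ExtLength

set_option autoImplicit false
universe u
open CategoryTheory
open TFCurv

namespace Groth.Agent.S19532

section helpers

open PowerSeries CategoryTheory

set_option maxHeartbeats 4000000
set_option synthInstance.maxHeartbeats 400000

theorem length_range_mkQ_subtype {R : Type u} [CommRing R] {P : Type u} [AddCommGroup P] [Module R P]
    (C W : Submodule R P) {V : Type u} [AddCommGroup V] [Module R V] (T : ↥C →ₗ[R] V) (hT : Function.Surjective T)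
    (hk : ∀ p : ↥C, T p = 0 ↔ (p : P) ∈ W) :
    Module.length R ↥(LinearMap.range (W.mkQ.comp C.subtype)) = Module.length R V := by
  have h : LinearMap.ker T = LinearMap.ker (W.mkQ.comp C.subtype) := by
    ext p
    simp [hk p]
  rw [← (W.mkQ.comp C.subtype).quotKerEquivRange.length_eq, ← h, (T.quotKerEquivOfSurjective hT).length_eq]

variable {k : Type u} [Field k] (δ : ℕ) (O : Subalgebra k (PowerSeries k × PowerSeries k))

lemma mem_O_iff (hO : ∀ f : (PowerSeries k × PowerSeries k), f ∈ O ↔ (δ : ℕ∞) ≤ PowerSeries.order (f.1 - f.2))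
    (f : PowerSeries k × PowerSeries k) : f ∈ O ↔ X ^ δ ∣ f.1 - f.2 := by
  rw [hO, X_pow_dvd_iff]
  exact ⟨fun h m hm => coeff_of_lt_order m (lt_of_lt_of_le (by exact_mod_cast hm) h), fun h => nat_le_order _ _ h⟩

variable (hmem : ∀ f : PowerSeries k × PowerSeries k, f ∈ O ↔ X ^ δ ∣ f.1 - f.2)

include hmem in
lemma mem_lat (a : ℕ) (ha : a ≤ δ) (p : PowerSeries k × PowerSeries k) :
    p ∈ Submodule.span ↥O ({(X ^ a, X ^ a), (X ^ δ, 0)} : Set (PowerSeries k × PowerSeries k)) ↔
      X ^ a ∣ p.1 ∧ X ^ a ∣ p.2 ∧ X ^ δ ∣ p.1 - p.2 := by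
  constructor
  · intro h
    obtain ⟨u, v, rfl⟩ := Submodule.mem_span_pair.mp h
    simp only [Subalgebra.smul_def, smul_eq_mul, Prod.fst_add, Prod.snd_add, Prod.fst_mul, Prod.snd_mul, mul_zero, add_zero]
    refine ⟨dvd_add (dvd_mul_left _ _) (Dvd.dvd.mul_left (pow_dvd_pow _ ha) _), dvd_mul_left _ _, ?_⟩
    rw [show (u : PowerSeries k × PowerSeries k).1 * X ^ a + (v : PowerSeries k × PowerSeries k).1 * X ^ δ -
        (u : PowerSeries k × PowerSeries k).2 * X ^ a =
      ((u : PowerSeries k × PowerSeries k).1 - (u : PowerSeries k × PowerSeries k).2) * X ^ a +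
        (v : PowerSeries k × PowerSeries k).1 * X ^ δ by ring]
    exact dvd_add (((hmem _).mp u.2).mul_right _) (dvd_mul_left _ _)
  · rintro ⟨-, ⟨g, hg⟩, ⟨h, hh⟩⟩
    have hdiag : ∀ r : PowerSeries k, (r, r) ∈ O := fun r => (hmem _).mpr (by simp)
    have e : p = (⟨_, hdiag g⟩ : ↥O) • ((X ^ a, X ^ a) : PowerSeries k × PowerSeries k) +
        (⟨_, hdiag h⟩ : ↥O) • ((X ^ δ, 0) : PowerSeries k × PowerSeries k) := by
      refine Prod.ext ?_ ?_ <;> simp [Subalgebra.smul_def]
      · rw [sub_eq_iff_eq_add] at hh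
        rw [hh, hg]; ring
      · rw [hg, mul_comm]
    rw [e]
    exact add_mem (Submodule.smul_mem _ _ (Submodule.subset_span (Set.mem_insert _ _)))
      (Submodule.smul_mem _ _ (Submodule.subset_span (Set.mem_insert_of_mem _ rfl)))

/-- Division by `X ^ r`. -/
noncomputable def shift (r : ℕ) (f : PowerSeries k) : PowerSeries k := mk fun n => coeff (n + r) f

lemma shift_eq {r : ℕ} {f g : PowerSeries k} (h : f = X ^ r * g) : shift r f = g := by
  ext n
  rw [shift, coeff_mk, h, coeff_X_pow_mul]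

/-- The submodule of coboundary type. -/
def lev (u v : ℕ) (h : v ≤ δ + u) : Submodule ↥O (PowerSeries k × PowerSeries k) where
  carrier := {p | X ^ u ∣ p.2 ∧ X ^ v ∣ p.1 - p.2 ∧ ∀ a ∈ O, X ^ v ∣ (a.1 - a.2) * p.2}
  add_mem' := fun {p p'} hp hp' => ⟨dvd_add hp.1 hp'.1, by
      rw [Prod.fst_add, Prod.snd_add, add_sub_add_comm]; exact dvd_add hp.2.1 hp'.2.1,
    fun a ha => by rw [Prod.snd_add, mul_add]; exact dvd_add (hp.2.2 a ha) (hp'.2.2 a ha)⟩
  zero_mem' := by simp
  smul_mem' := fun c p hp => by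
    refine ⟨hp.1.mul_left _, ?_, fun a ha => ?_⟩
    · show X ^ v ∣ (c : PowerSeries k × PowerSeries k).1 * p.1 - (c : PowerSeries k × PowerSeries k).2 * p.2
      rw [show (c : PowerSeries k × PowerSeries k).1 * p.1 - (c : PowerSeries k × PowerSeries k).2 * p.2 =
        (c : PowerSeries k × PowerSeries k).1 * (p.1 - p.2) +
          ((c : PowerSeries k × PowerSeries k).1 - (c : PowerSeries k × PowerSeries k).2) * p.2 by ring]
      exact dvd_add (hp.2.1.mul_left _) (hp.2.2 _ c.2)
    · show X ^ v ∣ (a.1 - a.2) * ((c : PowerSeries k × PowerSeries k).2 * p.2)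
      rw [mul_left_comm]
      exact (hp.2.2 a ha).mul_left _

include hmem in
lemma mem_lev {u v : ℕ} (h : v ≤ δ + u) (p : PowerSeries k × PowerSeries k) :
    p ∈ lev δ O u v h ↔ X ^ u ∣ p.2 ∧ X ^ v ∣ p.1 - p.2 :=
  ⟨fun hp => ⟨hp.1, hp.2.1⟩, fun hp => ⟨hp.1, hp.2, fun a ha =>
    (pow_dvd_pow _ h).trans (by rw [pow_add]; exact mul_dvd_mul ((hmem a).mp ha) hp.1)⟩⟩

include hmem in
/-- The length of the cokernel of multiplier modulo coboundaries. -/
lemma length_range_lev (M m : ℕ) (hM : M ≤ δ) (hm : m ≤ M) (h : δ + m ≤ δ + (M + m)) :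
    Module.length ↥O ↥(LinearMap.range ((lev δ O (M + m) (δ + m) h).mkQ.comp
      (Submodule.span ↥O ({(X ^ M, X ^ M), (X ^ δ, 0)} : Set (PowerSeries k × PowerSeries k))).subtype)) =
      ((2 * m : ℕ) : ℕ∞) := by
  classical
  set C := Submodule.span ↥O ({(X ^ M, X ^ M), (X ^ δ, 0)} : Set (PowerSeries k × PowerSeries k)) with hCdef
  letI : Algebra ↥O (PowerSeries k) := ((RingHom.snd (PowerSeries k) (PowerSeries k)).comp O.val.toRingHom).toAlgebra
  have hsmul : ∀ (a : ↥O) (r : PowerSeries k), a • r = (a : PowerSeries k × PowerSeries k).2 * r := fun a r => rfl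
  have hsurj : Function.Surjective (algebraMap ↥O (PowerSeries k)) := fun r =>
    ⟨⟨(r, r), (hmem _).mpr (by simp)⟩, rfl⟩
  let J : Ideal (PowerSeries k) := Ideal.span {X ^ m}
  have hC : ∀ p : ↥C, X ^ M ∣ (p : PowerSeries k × PowerSeries k).2 ∧
      X ^ δ ∣ (p : PowerSeries k × PowerSeries k).1 - (p : PowerSeries k × PowerSeries k).2 :=
    fun p => ((mem_lat δ O hmem M hM _).mp p.2).2
  choose gS hgS using fun p => (hC p).1
  choose dS hdS using fun p => (hC p).2
  let T : ↥C →ₗ[↥O] (PowerSeries k ⧸ J) × (PowerSeries k ⧸ J) :=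
    { toFun := fun p => (Submodule.Quotient.mk (gS p), Submodule.Quotient.mk (dS p))
      map_add' := fun p p' => by
        have h1 : gS (p + p') = gS p + gS p' := mul_left_cancel₀ (pow_ne_zero M (X_ne_zero (R := k))) (by
          rw [mul_add, ← hgS, ← hgS, ← hgS]; rfl)
        have h2 : dS (p + p') = dS p + dS p' := mul_left_cancel₀ (pow_ne_zero δ (X_ne_zero (R := k))) (by
          rw [mul_add, ← hdS, ← hdS, ← hdS, Submodule.coe_add, Prod.fst_add, Prod.snd_add, add_sub_add_comm])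
        rw [h1, h2]; rfl
      map_smul' := fun a p => by
        obtain ⟨w, hw⟩ := (hmem _).mp a.2
        have h1 : gS (a • p) = a • gS p := mul_left_cancel₀ (pow_ne_zero M (X_ne_zero (R := k))) (by
          rw [hsmul, mul_left_comm, ← hgS, ← hgS]; rfl)
        have h2 : dS (a • p) = a • dS p + (w * X ^ δ * dS p + w * X ^ M * gS p) :=
          mul_left_cancel₀ (pow_ne_zero δ (X_ne_zero (R := k))) (by
            rw [← hdS, hsmul, Submodule.coe_smul, Subalgebra.smul_def, smul_eq_mul, Prod.fst_mul, Prod.snd_mul,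
              sub_eq_iff_eq_add.mp (hdS p), hgS p, sub_eq_iff_eq_add.mp hw]
            ring)
        have h3 : w * X ^ δ * dS p + w * X ^ M * gS p ∈ J := Ideal.mem_span_singleton.mpr
          (dvd_add ((Dvd.dvd.mul_left (pow_dvd_pow _ (hm.trans hM)) _).mul_right _)
            ((Dvd.dvd.mul_left (pow_dvd_pow _ hm) _).mul_right _))
        refine Prod.ext ?_ ?_
        · show Submodule.Quotient.mk (gS (a • p)) = a • Submodule.Quotient.mk (gS p)
          rw [h1, Submodule.Quotient.mk_smul]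
        · show Submodule.Quotient.mk (dS (a • p)) = a • Submodule.Quotient.mk (dS p)
          rw [h2, Submodule.Quotient.mk_add, (Submodule.Quotient.mk_eq_zero J).mpr h3, add_zero,
            Submodule.Quotient.mk_smul] }
  have hT : Function.Surjective T := by
    rintro ⟨x, y⟩
    obtain ⟨g, rfl⟩ := Submodule.Quotient.mk_surjective J x
    obtain ⟨d, rfl⟩ := Submodule.Quotient.mk_surjective J y
    have hp : ((X ^ M * g + X ^ δ * d, X ^ M * g) : PowerSeries k × PowerSeries k) ∈ C :=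
      (mem_lat δ O hmem M hM _).mpr ⟨dvd_add (dvd_mul_right _ _) ((pow_dvd_pow _ hM).mul_right _), dvd_mul_right _ _,
        ⟨d, by ring⟩⟩
    refine ⟨⟨_, hp⟩, Prod.ext (congrArg Submodule.Quotient.mk ?_) (congrArg Submodule.Quotient.mk ?_)⟩
    · exact mul_left_cancel₀ (pow_ne_zero M X_ne_zero) (hgS ⟨_, hp⟩).symm
    · exact mul_left_cancel₀ (pow_ne_zero δ X_ne_zero) ((hdS ⟨_, hp⟩).symm.trans (add_sub_cancel_left _ _))
  have hk : ∀ p : ↥C, T p = 0 ↔ (p : PowerSeries k × PowerSeries k) ∈ lev δ O (M + m) (δ + m) h := by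
    intro p
    rw [mem_lev δ O hmem h, hdS p, hgS p, pow_add, pow_add,
      mul_dvd_mul_iff_left (pow_ne_zero M X_ne_zero), mul_dvd_mul_iff_left (pow_ne_zero δ X_ne_zero)]
    show ((Submodule.Quotient.mk (gS p) : PowerSeries k ⧸ J), (Submodule.Quotient.mk (dS p) : PowerSeries k ⧸ J)) = 0 ↔ _
    rw [Prod.mk_eq_zero, Submodule.Quotient.mk_eq_zero, Submodule.Quotient.mk_eq_zero, Ideal.mem_span_singleton,
      Ideal.mem_span_singleton]
  have hQ : Module.length ↥O (PowerSeries k ⧸ J) = (m : ℕ∞) := by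
    rw [Module.length_eq_of_surjective (R := PowerSeries k) hsurj]
    have e : J = IsLocalRing.maximalIdeal (PowerSeries k) ^ m := by
      rw [PowerSeries.maximalIdeal_eq_span_X, Ideal.span_singleton_pow]
    rw [e, IsDiscreteValuationRing.length_quotient_pow_maximalIdeal]
  refine (length_range_mkQ_subtype C (lev δ O (M + m) (δ + m) h) T hT hk).trans ?_
  rw [Module.length_prod, hQ, two_mul, Nat.cast_add]

include hmem in
theorem length_ext_lattices (i j : ℕ) (hi : i ≤ δ) (hj : j ≤ δ) :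
    Module.length ↥O (Abelian.Ext
      (ModuleCat.of ↥O ↥(Submodule.span ↥O ({(X ^ i, X ^ i), (X ^ δ, 0)} : Set (PowerSeries k × PowerSeries k))))
      (ModuleCat.of ↥O ↥(Submodule.span ↥O ({(X ^ j, X ^ j), (X ^ δ, 0)} : Set (PowerSeries k × PowerSeries k)))) 1) =
      ((2 * min i j : ℕ) : ℕ∞) := by
  classical
  set I := Submodule.span ↥O ({(X ^ i, X ^ i), (X ^ δ, 0)} : Set (PowerSeries k × PowerSeries k)) with hIdef
  set N := Submodule.span ↥O ({(X ^ j, X ^ j), (X ^ δ, 0)} : Set (PowerSeries k × PowerSeries k)) with hNdef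
  have hI : ∀ p, p ∈ I ↔ X ^ i ∣ p.1 ∧ X ^ i ∣ p.2 ∧ X ^ δ ∣ p.1 - p.2 := mem_lat δ O hmem i hi
  have hN : ∀ p, p ∈ N ↔ X ^ j ∣ p.1 ∧ X ^ j ∣ p.2 ∧ X ^ δ ∣ p.1 - p.2 := mem_lat δ O hmem j hj
  let x0 : ↥I := ⟨(X ^ i, X ^ i), Submodule.subset_span (Set.mem_insert _ _)⟩
  let e0 : ↥I := ⟨(X ^ δ, 0), Submodule.subset_span (Set.mem_insert_of_mem _ rfl)⟩
  have hIO : ∀ p : ↥I, (p : PowerSeries k × PowerSeries k) ∈ O := fun p => (hmem _).mpr ((hI _).mp p.2).2.2
  have hA1 : ∀ p : ↥I, ((-(X ^ (δ - i) * (p : PowerSeries k × PowerSeries k).1), 0) : PowerSeries k × PowerSeries k) ∈ O := by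
    intro p
    refine (hmem _).mpr ?_
    show X ^ δ ∣ -(X ^ (δ - i) * (p : PowerSeries k × PowerSeries k).1) - 0
    rw [sub_zero, dvd_neg]
    obtain ⟨r, hr⟩ := ((hI _).mp p.2).1
    exact ⟨r, by rw [hr, ← mul_assoc, ← pow_add, Nat.sub_add_cancel hi]⟩
  let ι : ↥I →ₗ[↥O] ↥O × ↥O :=
    { toFun := fun p => (⟨_, hA1 p⟩, ⟨_, hIO p⟩)
      map_add' := fun p p' => Prod.ext (Subtype.ext (Prod.ext
        (show -(X ^ (δ - i) * ((p : PowerSeries k × PowerSeries k).1 + (p' : PowerSeries k × PowerSeries k).1)) =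
          -(X ^ (δ - i) * (p : PowerSeries k × PowerSeries k).1) + -(X ^ (δ - i) * (p' : PowerSeries k × PowerSeries k).1)
          by ring) (add_zero 0).symm)) (Subtype.ext rfl)
      map_smul' := fun a p => Prod.ext (Subtype.ext (Prod.ext
        (show -(X ^ (δ - i) * ((a : PowerSeries k × PowerSeries k).1 * (p : PowerSeries k × PowerSeries k).1)) =
          (a : PowerSeries k × PowerSeries k).1 * -(X ^ (δ - i) * (p : PowerSeries k × PowerSeries k).1) by ring)
        (mul_zero _).symm)) (Subtype.ext rfl) }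
  let q : ↥O × ↥O →ₗ[↥O] ↥I :=
    (LinearMap.toSpanSingleton ↥O ↥I x0).coprod (LinearMap.toSpanSingleton ↥O ↥I e0)
  have hqv : ∀ p, (q p : PowerSeries k × PowerSeries k) =
      (p.1 : PowerSeries k × PowerSeries k) * (X ^ i, X ^ i) + (p.2 : PowerSeries k × PowerSeries k) * (X ^ δ, 0) := fun p => by
    simp [q, x0, e0, Subalgebra.smul_def]
  have hιi : Function.Injective ι := fun p p' h => Subtype.ext (congrArg (fun z : ↥O × ↥O => (z.2 : PowerSeries k × PowerSeries k)) h)
  have hqs : Function.Surjective q := fun p => by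
    obtain ⟨a, b, hab⟩ := Submodule.mem_span_pair.mp p.2
    refine ⟨(a, b), Subtype.ext ?_⟩
    rw [hqv, ← hab]
    simp [Subalgebra.smul_def]
  have hpow : (X : PowerSeries k) ^ δ = X ^ (δ - i) * X ^ i := by rw [← pow_add, Nat.sub_add_cancel hi]
  have hex : Function.Exact ι q := by
    intro p
    constructor
    · intro hp
      have h0 : (p.1 : PowerSeries k × PowerSeries k) * (X ^ i, X ^ i) + (p.2 : PowerSeries k × PowerSeries k) * (X ^ δ, 0) = 0 := by
        rw [← hqv, hp]; rfl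
      have h1 := congrArg Prod.fst h0
      have h2 := congrArg Prod.snd h0
      simp only [Prod.fst_add, Prod.snd_add, Prod.fst_mul, Prod.snd_mul, mul_zero, add_zero, Prod.fst_zero, Prod.snd_zero,
        mul_eq_zero, pow_eq_zero_iff', X_ne_zero, false_and, or_false] at h1 h2
      have e1 : (p.1 : PowerSeries k × PowerSeries k).1 = -(X ^ (δ - i) * (p.2 : PowerSeries k × PowerSeries k).1) := by
        refine mul_right_cancel₀ (pow_ne_zero i X_ne_zero) ?_
        rw [eq_neg_of_add_eq_zero_left h1, hpow]; ring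
      have hb1 : X ^ i ∣ (p.2 : PowerSeries k × PowerSeries k).1 := by
        have h3 := (hmem _).mp p.1.2
        rw [h2, sub_zero, e1, dvd_neg, hpow, mul_dvd_mul_iff_left (pow_ne_zero _ X_ne_zero)] at h3
        exact h3
      have hpI : (p.2 : PowerSeries k × PowerSeries k) ∈ I := (hI _).mpr ⟨hb1, by
        have := dvd_sub hb1 ((pow_dvd_pow X hi).trans ((hmem _).mp p.2.2))
        rwa [sub_sub_cancel] at this, (hmem _).mp p.2.2⟩
      exact ⟨⟨_, hpI⟩, Prod.ext (Subtype.ext (Prod.ext e1.symm h2.symm)) (Subtype.ext rfl)⟩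
    · rintro ⟨r, rfl⟩
      refine Subtype.ext ?_
      rw [hqv]
      refine Prod.ext ?_ ?_
      · show -(X ^ (δ - i) * (r : PowerSeries k × PowerSeries k).1) * X ^ i + (r : PowerSeries k × PowerSeries k).1 * X ^ δ = 0
        rw [hpow]; ring
      · show (0 : PowerSeries k) * X ^ i + (r : PowerSeries k × PowerSeries k).2 * 0 = 0
        ring
  have hreg : ∀ f g : PowerSeries k × PowerSeries k, (X ^ i, X ^ i) * f = (X ^ i, X ^ i) * g → f = g := fun f g h =>
    Prod.ext (mul_left_cancel₀ (pow_ne_zero i X_ne_zero) (congrArg Prod.fst h))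
      (mul_left_cancel₀ (pow_ne_zero i X_ne_zero) (congrArg Prod.snd h))
  have hval : ∀ (φ : ↥I →ₗ[↥O] ↥N) (p : ↥I),
      ((X ^ i, X ^ i) : PowerSeries k × PowerSeries k) * (φ p : PowerSeries k × PowerSeries k) =
        (p : PowerSeries k × PowerSeries k) * (φ x0 : PowerSeries k × PowerSeries k) := by
    intro φ p
    have h := congrArg (fun y => (φ y : PowerSeries k × PowerSeries k))
      (show (⟨_, hIO x0⟩ : ↥O) • p = (⟨_, hIO p⟩ : ↥O) • x0 from Subtype.ext (mul_comm _ _))
    simp only [map_smul, Submodule.coe_smul, Subalgebra.smul_def, smul_eq_mul] at h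
    exact h
  let C := Submodule.span ↥O ({(X ^ max i j, X ^ max i j), (X ^ δ, 0)} : Set (PowerSeries k × PowerSeries k))
  have hC' : ∀ p, p ∈ C ↔ X ^ max i j ∣ p.1 ∧ X ^ max i j ∣ p.2 ∧ X ^ δ ∣ p.1 - p.2 :=
    mem_lat δ O hmem _ (max_le hi hj)
  have hW0 : δ + min i j ≤ δ + (max i j + min i j) := by omega
  let W := lev δ O (max i j + min i j) (δ + min i j) hW0
  have hC : ∀ c, c ∈ C ↔ ∃ φ : ↥I →ₗ[↥O] ↥N, N.subtype (φ x0) = c := by
    intro c
    constructor
    · intro hc
      obtain ⟨h1, h2, h3⟩ := (hC' c).mp hc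
      obtain ⟨c1, hc1⟩ := (pow_dvd_pow (X : PowerSeries k) (le_max_left i j)).trans h1
      obtain ⟨c2, hc2⟩ := (pow_dvd_pow (X : PowerSeries k) (le_max_left i j)).trans h2
      have hg : ∀ p : ↥I, (p : PowerSeries k × PowerSeries k) * (c1, c2) ∈ N := by
        intro p
        obtain ⟨a1, a2, a3⟩ := (hI _).mp p.2
        have hj1 : X ^ j ∣ X ^ i * c1 := hc1 ▸ (pow_dvd_pow (X : PowerSeries k) (le_max_right i j)).trans h1
        have hj2 : X ^ j ∣ X ^ i * c2 := hc2 ▸ (pow_dvd_pow (X : PowerSeries k) (le_max_right i j)).trans h2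
        refine (hN _).mpr ⟨hj1.trans (mul_dvd_mul_right a1 c1), hj2.trans (mul_dvd_mul_right a2 c2), ?_⟩
        obtain ⟨g, hg⟩ := a2
        rw [show (((p : PowerSeries k × PowerSeries k) * (c1, c2)).1 - ((p : PowerSeries k × PowerSeries k) * (c1, c2)).2) =
          ((p : PowerSeries k × PowerSeries k).1 - (p : PowerSeries k × PowerSeries k).2) * c1 +
            (p : PowerSeries k × PowerSeries k).2 * (c1 - c2) by simp only [Prod.fst_mul, Prod.snd_mul]; ring]
        refine dvd_add (a3.mul_right _) ?_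
        rw [hg, mul_right_comm, mul_sub, ← hc1, ← hc2]
        exact h3.mul_right _
      refine ⟨{ toFun := fun p => ⟨_, hg p⟩
                map_add' := fun p p' => Subtype.ext (add_mul _ _ _)
                map_smul' := fun a p => Subtype.ext (mul_assoc _ _ _) }, ?_⟩
      exact Prod.ext hc1.symm hc2.symm
    · rintro ⟨φ, rfl⟩
      obtain ⟨h1, h2, h3⟩ := (hN _).mp (φ x0).2
      have he := hval φ e0
      have he1 : X ^ i * (φ e0 : PowerSeries k × PowerSeries k).1 = X ^ δ * (φ x0 : PowerSeries k × PowerSeries k).1 :=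
        congrArg Prod.fst he
      have he2 : X ^ i * (φ e0 : PowerSeries k × PowerSeries k).2 = (0 : PowerSeries k) * (φ x0 : PowerSeries k × PowerSeries k).2 :=
        congrArg Prod.snd he
      rw [zero_mul, mul_eq_zero, or_iff_right (pow_ne_zero i X_ne_zero)] at he2
      have hd := ((hN _).mp (φ e0).2).2.2
      rw [he2, sub_zero] at hd
      have hi1 : X ^ i ∣ (φ x0 : PowerSeries k × PowerSeries k).1 := by
        rw [← mul_dvd_mul_iff_left (pow_ne_zero δ (X_ne_zero (R := k))), ← he1, mul_comm (X ^ δ) (X ^ i)]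
        exact mul_dvd_mul_left _ hd
      have hi2 : X ^ i ∣ (φ x0 : PowerSeries k × PowerSeries k).2 := by
        have := dvd_sub hi1 ((pow_dvd_pow X hi).trans h3)
        rwa [sub_sub_cancel] at this
      refine (hC' _).mpr ⟨?_, ?_, h3⟩
      · rcases max_choice i j with h | h <;> rw [h]
        · exact hi1
        · exact h1
      · rcases max_choice i j with h | h <;> rw [h]
        · exact hi2
        · exact h2
  have hW : ∀ φ : ↥I →ₗ[↥O] ↥N, (∃ η : ↥O × ↥O →ₗ[↥O] ↥N, η.comp ι = φ) ↔ N.subtype (φ x0) ∈ W := by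
    intro φ
    rw [Submodule.subtype_apply, mem_lev δ O hmem hW0, max_add_min]
    constructor
    · rintro ⟨η, rfl⟩
      have hv : (η (ι x0) : PowerSeries k × PowerSeries k) =
          (-(X ^ δ), 0) * (η (1, 0) : PowerSeries k × PowerSeries k) + (X ^ i, X ^ i) * (η (0, 1) : PowerSeries k × PowerSeries k) := by
        have h : ι x0 = (ι x0).1 • ((1, 0) : ↥O × ↥O) + (ι x0).2 • (0, 1) := by simp
        rw [h, map_add, map_smul, map_smul]
        simp [Subalgebra.smul_def, ι, x0, hpow]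
      obtain ⟨a1, a2, a3⟩ := (hN _).mp (η (1, 0)).2
      obtain ⟨b1, b2, b3⟩ := (hN _).mp (η (0, 1)).2
      show X ^ (i + j) ∣ (η (ι x0) : PowerSeries k × PowerSeries k).2 ∧
        X ^ (δ + min i j) ∣ (η (ι x0) : PowerSeries k × PowerSeries k).1 - (η (ι x0) : PowerSeries k × PowerSeries k).2
      rw [hv]
      simp only [Prod.fst_add, Prod.snd_add, Prod.fst_mul, Prod.snd_mul, zero_mul, zero_add]
      refine ⟨by rw [pow_add]; exact mul_dvd_mul_left _ b2, ?_⟩
      rw [show -(X ^ δ) * (η (1, 0) : PowerSeries k × PowerSeries k).1 + X ^ i * (η (0, 1) : PowerSeries k × PowerSeries k).1 -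
        X ^ i * (η (0, 1) : PowerSeries k × PowerSeries k).2 = -(X ^ δ * (η (1, 0) : PowerSeries k × PowerSeries k).1) +
          X ^ i * ((η (0, 1) : PowerSeries k × PowerSeries k).1 - (η (0, 1) : PowerSeries k × PowerSeries k).2) by ring]
      refine dvd_add (dvd_neg.mpr ?_) ?_
      · rw [pow_add]
        exact mul_dvd_mul_left _ ((pow_dvd_pow _ (min_le_right i j)).trans a1)
      · refine (pow_dvd_pow X (show δ + min i j ≤ i + δ by omega)).trans ?_
        rw [pow_add]
        exact mul_dvd_mul_left _ b3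
    · rintro ⟨⟨g', hg'⟩, ⟨r, hr⟩⟩
      rw [pow_add, mul_assoc] at hg'
      have hn : ∃ n₁ n₂ : ↥N, (φ x0 : PowerSeries k × PowerSeries k) =
          (-(X ^ δ), 0) * (n₁ : PowerSeries k × PowerSeries k) + (X ^ i, X ^ i) * (n₂ : PowerSeries k × PowerSeries k) := by
        rw [sub_eq_iff_eq_add, hg'] at hr
        rcases le_total i j with hij | hij
        · rw [min_eq_left hij] at hr
          refine ⟨0, ⟨(X ^ j * g' + X ^ δ * r, X ^ j * g'),
            (hN _).mpr ⟨dvd_add (dvd_mul_right _ _) ((pow_dvd_pow _ hj).mul_right _), dvd_mul_right _ _,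
              ⟨r, by ring⟩⟩⟩, Prod.ext ?_ ?_⟩
          · simp [hr]; ring
          · simp [hg']
        · rw [min_eq_right hij] at hr
          refine ⟨⟨(-(X ^ j * r), -(X ^ j * r)), (hN _).mpr ⟨dvd_neg.mpr (dvd_mul_right _ _), dvd_neg.mpr (dvd_mul_right _ _),
              by simp⟩⟩, ⟨(X ^ j * g', X ^ j * g'), (hN _).mpr ⟨dvd_mul_right _ _, dvd_mul_right _ _, by simp⟩⟩,
            Prod.ext ?_ ?_⟩
          · simp [hr]; ring
          · simp [hg']
      obtain ⟨n₁, n₂, hn⟩ := hn
      refine ⟨(LinearMap.toSpanSingleton ↥O ↥N n₁).coprod (LinearMap.toSpanSingleton ↥O ↥N n₂),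
        LinearMap.ext fun p => Subtype.ext (hreg _ _ ?_)⟩
      rw [hval φ p, hn]
      simp [ι, Subalgebra.smul_def, hpow]
      refine Prod.ext ?_ ?_ <;> simp <;> ring
  have hlen := TFMonoLib.length_ext_eq (O := ↥O) (M := ↥I) (N := ↥N) (F := ↥O × ↥O) (K := ↥I) ι q hιi hqs hex
    N.subtype x0 W C hC hW
  rw [hlen]
  exact length_range_lev δ O hmem (max i j) (min i j) (max_le hi hj) min_le_max hW0

end helpers

/-- Let k be an algebraically closed field of characteristic zero, δ ≥ 1, and O ⊂ k[[t]] × k[[t]] the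
complete local ring of the simple plane curve singularity A_{2δ−1} (two smooth branches with contact
of order δ, y² = x^{2δ}), namely the k-subalgebra of all pairs (f, g) of power series with f − g
divisible by t^δ. For 0 ≤ j ≤ δ let I_j ⊂ k[[t]] × k[[t]] be the O-submodule generated by (t^j, t^j)
and (t^δ, 0), so that I_0 = O and I_δ is the conductor; the I_j represent the rank-one torsion-free
O-modules M_j. Then for all 0 ≤ i, j ≤ δ the O-module Ext¹_O(I_i, I_j) has length 2·min(i, j)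
(length over O equals k-dimension here). (The one-branch case n = 2δ of the published lemma is
stated separately.) -/
theorem result (k : Type u) [Field k] [IsAlgClosed k] [CharZero k] (δ : ℕ) (hδ : 1 ≤ δ) (O : Subalgebra k (PowerSeries k × PowerSeries k)) (hO : ∀ f : (PowerSeries k × PowerSeries k), f ∈ O ↔ (δ : ℕ∞) ≤ PowerSeries.order (f.1 - f.2)) (i j : ℕ) (hi : i ≤ δ) (hj : j ≤ δ) : Module.length ↥O (Abelian.Ext (ModuleCat.of ↥O ↥(Submodule.span ↥O ({((PowerSeries.X : PowerSeries k) ^ i, (PowerSeries.X : PowerSeries k) ^ i), ((PowerSeries.X : PowerSeries k) ^ δ, 0)} : Set (PowerSeries k × PowerSeries k)))) (ModuleCat.of ↥O ↥(Submodule.span ↥O ({((PowerSeries.X : PowerSeries k) ^ j, (PowerSeries.X : PowerSeries k) ^ j), ((PowerSeries.X : PowerSeries k) ^ δ, 0)} : Set (PowerSeries k × PowerSeries k)))) 1) = ((2 * min i j : ℕ) : ℕ∞) := by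
  exact length_ext_lattices δ O (mem_O_iff δ O hO) i j hi hj

end Groth.Agent.S19532
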