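import Groth.Statements.S19533
import Groth.Agent.AVLib.GeomInt
import Groth.Agent.AbVarLib.FibreRigid
-- import your own Groth.Agent.* helpers here

set_option autoImplicit false
universe u
open CategoryTheory CategoryTheory.Limits MonoidalCategory CartesianMonoidalCategory MonObj GrpObj AlgebraicGeometry
open AbVar

namespace Groth.Agent.S19533

/-- Let k be an algebraically closed field, A an abelian variety over k (a k-group scheme whose
structure morphism is proper, smooth and geometrically connected) with unit point e, Y a scheme
separated over k and f : A → Y a morphism over k. Write F₀ for the connected component of e in the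
fibre f⁻¹(f(e)). Then the k-rational points of F₀ are stable under the group law: if k-points x and
y of A lie in F₀ then so do the product point x·y and the inverse point x⁻¹. (The published
statement is for Y a k-variety and concludes that F₀ with its reduced structure is an abelian
subvariety, together with the translation formula F_a = a + F₀; this row records the closure of
F₀(k) under multiplication and inversion, for Y merely separated over k.) -/
theorem result (k : Type u) [Field k] [IsAlgClosed k]
    (A : Over (Spec (CommRingCat.of k))) [GrpObj A] [IsProper A.hom] [Smooth A.hom] [GeometricallyConnected A.hom]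
    {Y : Scheme.{u}} (q : Y ⟶ Spec (CommRingCat.of k)) [IsSeparated q] (f : A.left ⟶ Y) (hf : f ≫ q = A.hom)
    (x y : 𝟙_ (Over (Spec (CommRingCat.of k))) ⟶ A)
    (hx : x.left (IsLocalRing.closedPoint k) ∈
      connectedComponentIn (f ⁻¹' {f (η[A].left (IsLocalRing.closedPoint k))}) (η[A].left (IsLocalRing.closedPoint k)))
    (hy : y.left (IsLocalRing.closedPoint k) ∈
      connectedComponentIn (f ⁻¹' {f (η[A].left (IsLocalRing.closedPoint k))}) (η[A].left (IsLocalRing.closedPoint k))) :
    (lift x y ≫ μ[A]).left (IsLocalRing.closedPoint k) ∈
        connectedComponentIn (f ⁻¹' {f (η[A].left (IsLocalRing.closedPoint k))}) (η[A].left (IsLocalRing.closedPoint k)) ∧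
      (x ≫ ι[A]).left (IsLocalRing.closedPoint k) ∈
        connectedComponentIn (f ⁻¹' {f (η[A].left (IsLocalRing.closedPoint k))}) (η[A].left (IsLocalRing.closedPoint k)) := by
  haveI : GeometricallyIntegral A.hom := AVLib.geometricallyIntegral_of_smooth A
  haveI : IsIntegral A.left := GeometricallyIntegral.isIntegral_of_subsingleton A.hom
  let pt : ↥(Spec (CommRingCat.of k)) := IsLocalRing.closedPoint k
  have he : η[A] = (1 : 𝟙_ (Over (Spec (CommRingCat.of k))) ⟶ A) := MonObj.one_eq_one _
  have hxe : f (x.left pt) = f (η[A].left pt) :=
    show x.left pt ∈ f ⁻¹' {f (η[A].left pt)} from connectedComponentIn_subset _ _ hx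
  have himg := AbVarLib.transl_image_component q f hf x
  rw [hxe, ← connectedComponentIn_eq hx] at himg
  refine ⟨?_, ?_⟩
  · rw [← himg]
    refine ⟨_, hy, ?_⟩
    rw [AbVarLib.transl_apply, Hom.mul_def]
  · obtain ⟨a, ha, hae⟩ := Set.ext_iff.1 himg _ |>.2 (mem_connectedComponentIn (rfl : f (η[A].left pt) = _))
    have h1 : (AbVarLib.transl x).left ((x ≫ ι[A]).left pt) = η[A].left pt := by
      rw [AbVarLib.transl_apply, ← Hom.inv_def, mul_inv_cancel, he]
    exact (AbVarLib.translHomeo x).injective (hae.trans h1.symm) ▸ ha

end Groth.Agent.S19533
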