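import Groth.Statements.S19535
import Groth.Agent.CurveDiffLib.Omega
import Groth.Agent.AmpleLib.Pullback
import Groth.Agent.PullbackMod.SuppClosed
import Groth.Agent.DevLib.Sub
import Groth.Agent.QCohLib.Coherent

set_option autoImplicit false
universe u
open CategoryTheory CategoryTheory.Limits AlgebraicGeometry TopologicalSpace
open Curves

namespace Groth.Agent.S19535

open Groth.Agent Groth.Agent.PullbackMod

/-- Dichotomy for the differential of a map of smooth curves: let k be a field, X and Y integral schemes
each smooth, separated and quasi-compact over Spec k and of dimension one, and φ : X → Y a morphism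
over k. Let Ω_Y and Ω_X be sheaves of differentials of Y and of X over k, given as universal
derivations, and c : φ^*Ω_Y → Ω_X the compatible map dφ (sending the pullback of d_Y s to d_X(φ^♯
s)). Then exactly one of two things happens, stated here as a disjunction: either c is the zero map,
or c is a monomorphism of O_X-modules and its cokernel (the sheaf of relative differentials Ω_{X/Y})
restricts to zero on some nonempty open subset of X, so that it is supported at finitely many closed
points. (The published statement is for smooth curves, which are in addition geometrically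
connected; integrality of X and Y is what the argument uses.) -/
theorem result (k : Type u) [Field k] {X Y : Scheme.{u}}
    (pX : X ⟶ Spec (CommRingCat.of k)) (pY : Y ⟶ Spec (CommRingCat.of k)) (φ : X ⟶ Y) (w : φ ≫ pY = pX)
    [IsIntegral X] [Smooth pX] [IsSeparated pX] [QuasiCompact pX] (hdX : topologicalKrullDim X = 1)
    [IsIntegral Y] [Smooth pY] [IsSeparated pY] [QuasiCompact pY] (hdY : topologicalKrullDim Y = 1)
    (ΩY : Y.Modules) (dY : OmegaSh.Der pY ΩY) (hY : OmegaSh.IsUniversal dY)
    (ΩX : X.Modules) (dX : OmegaSh.Der pX ΩX) (hX : OmegaSh.IsUniversal dX)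
    (c : (Scheme.Modules.pullback φ).obj ΩY ⟶ ΩX) (hc : OmegaSh.IsDiffCompat φ dY dX c) :
    c = 0 ∨ (Mono c ∧ ∃ U : X.Opens, (U : Set X).Nonempty ∧ IsZero ((Scheme.Modules.pullback U.ι).obj (cokernel c))) := by
  rcases eq_or_ne c 0 with hc0 | hc0
  · exact Or.inl hc0
  right
  have hI1 := CurveDiffLib.omega_invertible pY hdY hY
  have hI2 := CurveDiffLib.omega_invertible pX hdX hX
  have hN := AmpleLib.isInvertible_pullback φ hI1
  haveI hm : Mono c := CurveLib.mono_of_ne_zero hN hI2 hc0
  refine ⟨hm, ?_⟩
  haveI : IsLocallyNoetherian X := LocallyOfFiniteType.isLocallyNoetherian pX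
  have hcoh : Coh.IsCoh (cokernel c) := (Groth.Agent.QCohLib.isCoh_kernel_cokernel c
    (CurveLib.isCoh_of_isInvertible hN) (CurveLib.isCoh_of_isInvertible hI2)).2
  let U : X.Opens := ⟨(CohB1.support (cokernel c))ᶜ, (isClosed_support_of_isFT hcoh.2).isOpen_compl⟩
  refine ⟨U, ⟨genericPoint X, CurveLib.genericPoint_notMem_support hN hI2 hc0⟩, ?_⟩
  refine IsZero.of_iso (DevLib.isZero_of_support_empty ?_)
    ((Scheme.Modules.restrictFunctorIsoPullback U.ι).app (cokernel c)).symm
  refine Set.eq_empty_of_forall_notMem fun z hz => hz ?_
  exact ((Scheme.Modules.restrictStalkNatIso U.ι z).app (cokernel c)).addCommGroupIsoToAddEquiv.toEquiv.subsingleton_congr.2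
    (not_not.1 z.2)

end Groth.Agent.S19535
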