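import Groth.Statements.S19537
import Groth.Agent.ComplTorsLib.Derived
import Groth.Agent.ShStabLib.Noeth
set_option backward.isDefEq.respectTransparency false
set_option backward.isDefEq.respectTransparency.types false
set_option maxHeartbeats 2000000
set_option synthInstance.maxHeartbeats 200000
-- import your own Groth.Agent.* helpers here

set_option autoImplicit false
open CategoryTheory CategoryTheory.Limits AlgebraicGeometry
universe u
attribute [local instance] HasDerivedCategory.standard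
open FTors

namespace Groth.Agent.S19537

/-- Let X be a locally Noetherian scheme, 𝓘 a quasi-coherent ideal of O_X with closed subset Z, X̂ the
completion of X along 𝓘 and κ : X̂ ⟶ X the completion morphism of ringed spaces, with κ^* exact
(assumed) and the derived direct image Rκ_* existing on unbounded derived categories. Write D_Z(X)
for the complexes of O_X-modules whose cohomology sheaves are 𝓘-power torsion and D_qcZ(X) for those
whose cohomology sheaves are moreover quasi-coherent; write D_t(X̂) for the complexes of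
O_X̂-modules whose cohomology sheaves are torsion and D_qct(X̂) for those whose cohomology sheaves
are quasi-coherent torsion modules. Then κ^* sends D_Z(X) into D_t(X̂); Rκ_* sends D_t(X̂) into
D_Z(X); κ^* sends D_qcZ(X) into D_qct(X̂); Rκ_* sends D_qct(X̂) into D_qcZ(X); and if M ∈ D_qct(X̂)
has coherent cohomology sheaves, then so does Rκ_*M. (The published statement says moreover that κ^*
and κ_* are inverse isomorphisms between D_Z(X) and D_t(X̂) and between D_qcZ(X) and D_qct(X̂); that
the unit and counit are isomorphisms there is not stated here.) -/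
theorem result (X : Scheme.{u}) [IsLocallyNoetherian X]
    (𝓘 : X.IdealSheafData) (hX : (FSch.completionAlong X 𝓘).IsFormal)
    [PreservesFiniteLimits (FSch.toSchemeMor (FSch.completionAlong X 𝓘) hX (FSch.completionToX X 𝓘) (FSch.completionToX_comm X 𝓘)).pull] [SiteCmp.HasRpushD (FSch.toSchemeMor (FSch.completionAlong X 𝓘) hX (FSch.completionToX X 𝓘) (FSch.completionToX_comm X 𝓘))] :
    (∀ F : DerivedCategory (ModSite.Mod X.sheaf), FTors.IsDTorsZp X 𝓘 F →
      FTors.IsDTorsF (FSch.completionAlong X 𝓘) hX ((SiteCmp.pullD (FSch.toSchemeMor (FSch.completionAlong X 𝓘) hX (FSch.completionToX X 𝓘) (FSch.completionToX_comm X 𝓘))).obj F)) ∧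
    (∀ G : DerivedCategory (FSch.ModF (FSch.completionAlong X 𝓘) hX), FTors.IsDTorsF (FSch.completionAlong X 𝓘) hX G →
      FTors.IsDTorsZp X 𝓘 ((SiteCmp.RpushD (FSch.toSchemeMor (FSch.completionAlong X 𝓘) hX (FSch.completionToX X 𝓘) (FSch.completionToX_comm X 𝓘))).obj G)) ∧
    (∀ F : DerivedCategory (ModSite.Mod X.sheaf), FTors.IsDTorsZp X 𝓘 F →
      (∀ i : ℤ, SheafOfModules.IsQuasicoherent.{u} (SiteCmp.HMod F i)) →
      FTors.IsDQCT (FSch.completionAlong X 𝓘) hX ((SiteCmp.pullD (FSch.toSchemeMor (FSch.completionAlong X 𝓘) hX (FSch.completionToX X 𝓘) (FSch.completionToX_comm X 𝓘))).obj F)) ∧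
    (∀ G : DerivedCategory (FSch.ModF (FSch.completionAlong X 𝓘) hX), FTors.IsDQCT (FSch.completionAlong X 𝓘) hX G →
      FTors.IsDTorsZp X 𝓘 ((SiteCmp.RpushD (FSch.toSchemeMor (FSch.completionAlong X 𝓘) hX (FSch.completionToX X 𝓘) (FSch.completionToX_comm X 𝓘))).obj G) ∧
        ∀ i : ℤ, SheafOfModules.IsQuasicoherent.{u} (SiteCmp.HMod ((SiteCmp.RpushD (FSch.toSchemeMor (FSch.completionAlong X 𝓘) hX (FSch.completionToX X 𝓘) (FSch.completionToX_comm X 𝓘))).obj G) i)) ∧
    (∀ G : DerivedCategory (FSch.ModF (FSch.completionAlong X 𝓘) hX), FTors.IsDQCT (FSch.completionAlong X 𝓘) hX G →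
      (∀ i : ℤ, FSch.IsCohF (FSch.completionAlong X 𝓘) hX (SiteCmp.HMod G i)) →
      ∀ i : ℤ, Coh.IsCoh (SiteCmp.HMod ((SiteCmp.RpushD (FSch.toSchemeMor (FSch.completionAlong X 𝓘) hX (FSch.completionToX X 𝓘) (FSch.completionToX_comm X 𝓘))).obj G) i)) := by
  obtain ⟨e⟩ := Groth.Agent.ComplTors.nonempty_RpushD_iso (hX := hX)
  have hpush : ∀ (G : DerivedCategory (FSch.ModF (FSch.completionAlong X 𝓘) hX)) (i : ℤ),
      Nonempty (SiteCmp.HMod ((SiteCmp.RpushD (Groth.Agent.ComplTors.kap X 𝓘 hX)).obj G) i ≅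
        (Groth.Agent.ComplTors.kap X 𝓘 hX).push.obj (SiteCmp.HMod G i)) := fun G i => by
    obtain ⟨e₁⟩ := Groth.Agent.ComplTors.nonempty_homology_map
      (F := (Groth.Agent.ComplTors.kap X 𝓘 hX).push) G i
    exact ⟨(DerivedCategory.homologyFunctor _ i).mapIso (e.app G) ≪≫ e₁⟩
  have hT : ∀ G : DerivedCategory (FSch.ModF (FSch.completionAlong X 𝓘) hX),
      FTors.IsDTorsF (FSch.completionAlong X 𝓘) hX G →
      FTors.IsDTorsZp X 𝓘 ((SiteCmp.RpushD (Groth.Agent.ComplTors.kap X 𝓘 hX)).obj G) := fun G hG i => by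
    obtain ⟨a⟩ := hpush G i
    exact Groth.Agent.ComplTors.gen_isTors_of_iso _ a.symm (Groth.Agent.ComplTors.isTorsZp_push _ (hG i))
  refine ⟨fun F hF => Groth.Agent.ComplTors.isDTorsF_pullD F hF, hT, fun F hF hq i => ?_, fun G hG => ?_,
    fun G hG hc i => ?_⟩
  · obtain ⟨a⟩ := Groth.Agent.ComplTors.nonempty_homology_map
      (F := (Groth.Agent.ComplTors.kap X 𝓘 hX).pull) F i
    haveI := hq i
    refine ⟨Groth.Agent.ComplTors.isDTorsF_pullD (hX := hX) F hF i, ?_⟩
    exact (SheafOfModules.isQuasicoherent.{u} _).prop_of_iso a.symm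
      (Groth.Agent.PullFlat.isQuasicoherent_pull (Groth.Agent.ComplTors.kap X 𝓘 hX) (F := SiteCmp.HMod F i))
  · refine ⟨hT G fun i => (hG i).1, fun i => ?_⟩
    obtain ⟨a⟩ := hpush G i
    haveI := (hG i).2
    exact (SheafOfModules.isQuasicoherent.{u} _).prop_of_iso a.symm
      (Groth.Agent.ComplTors.isQuasicoherent_push (hG i).1)
  · obtain ⟨a⟩ := hpush G i
    haveI := (hG i).2
    exact Groth.Agent.ShStabLib.isCoh_of_iso a.symm
      ⟨Groth.Agent.ComplTors.isQuasicoherent_push (hG i).1,
        Groth.Agent.ComplTors.isFiniteType_push (hG i).1 (hc i)⟩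

end Groth.Agent.S19537
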