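import Groth.Statements.S19538
import Groth.Agent.TorsPrecompLib.Orth
import Groth.Agent.TorsPrecompLib.Complete
set_option backward.isDefEq.respectTransparency false
set_option backward.isDefEq.respectTransparency.types false

set_option autoImplicit false
open CategoryTheory CategoryTheory.Limits AlgebraicGeometry
universe u
attribute [local instance] HasDerivedCategory.standard
open FTors

namespace Groth.Agent.S19538

/-- Let 𝔛 be a locally Noetherian formal scheme (an adic system of thickenings with locally Noetherian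
levels) and assume the total right derived functor RΓ'_𝔛 of the torsion functor exists on D(O_𝔛).
Then for every E ∈ D(O_𝔛) and every F ∈ D(O_𝔛) whose cohomology sheaves are all coherent,
precomposition with the canonical morphism RΓ'_𝔛 E ⟶ E is a bijection Hom(E, F) ⟶ Hom(RΓ'_𝔛 E, F).
(The published statement asserts that this morphism induces an isomorphism of the complexes
RHom^•(E, F) ≅ RHom^•(RΓ'_𝔛 E, F); this row asserts the induced map on degree-zero cohomology, for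
every F with coherent cohomology and hence for every shift of such an F.) -/
theorem result (𝔛 : FSch.Sys.{u}) (h𝔛 : 𝔛.IsLocNoethFormal)
    [FTors.HasRgammaT 𝔛 h𝔛.1] (E F : DerivedCategory (FSch.ModF 𝔛 h𝔛.1))
    (hF : ∀ i : ℤ, FSch.IsCohF 𝔛 h𝔛.1 (SiteCmp.HMod F i)) :
    Function.Bijective (fun φ : E ⟶ F => (FTors.RgammaTε 𝔛 h𝔛.1).app E ≫ φ) := by
  let ε := (FTors.RgammaTε 𝔛 h𝔛.1).app E
  obtain ⟨C, g, d, hT⟩ := Pretriangulated.distinguished_cocone_triangle ε
  have hsh : ∀ (Y : DerivedCategory (FSch.ModF 𝔛 h𝔛.1)) (n : ℤ), FTors.IsDTorsF 𝔛 h𝔛.1 Y →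
      FTors.IsDTorsF 𝔛 h𝔛.1 (Y⟦n⟧) := fun Y n hY i =>
    Groth.Agent.FCompl.isT_of_iso
      (((DerivedCategory.homologyFunctor (FSch.ModF 𝔛 h𝔛.1) 0).shiftIso n i (n + i) rfl).app Y).symm (hY _)
  have hbij : ∀ Y, FTors.IsDTorsF 𝔛 h𝔛.1 Y →
      Function.Bijective fun φ : Y ⟶ (FTors.RgammaT 𝔛 h𝔛.1).obj E => φ ≫ ε := fun Y hY => by
    haveI := Groth.Agent.TorsInj.isIso_ε_app h𝔛 Y hY
    haveI := Groth.Agent.TorsInj.isIso_RgammaT_map_ε h𝔛 E
    exact Groth.Agent.TorsInj.bijective_comp_counit (FTors.RgammaTε 𝔛 h𝔛.1) Y E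
  have hC : ∀ Y, FTors.IsDTorsF 𝔛 h𝔛.1 Y → ∀ u : Y ⟶ C, u = 0 := by
    intro Y hY u
    have h1 : u ≫ d = 0 := by
      let S := shiftFunctor (DerivedCategory (FSch.ModF 𝔛 h𝔛.1)) (-1 : ℤ)
      let c := shiftFunctorCompIsoId (DerivedCategory (FSch.ModF 𝔛 h𝔛.1)) (1 : ℤ) (-1) (by norm_num)
      apply S.map_injective
      rw [Functor.map_zero, ← cancel_mono (c.hom.app ((FTors.RgammaT 𝔛 h𝔛.1).obj E)), zero_comp]
      refine (hbij _ (hsh Y (-1) hY)).1 ?_
      show (S.map (u ≫ d) ≫ c.hom.app _) ≫ ε = 0 ≫ ε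
      have hn := c.hom.naturality ε
      dsimp only [Functor.comp_map, Functor.id_map] at hn
      rw [Category.assoc, ← hn, zero_comp, ← Category.assoc, ← Functor.map_comp, Category.assoc,
        show d ≫ ε⟦(1 : ℤ)⟧' = 0 from Pretriangulated.comp_distTriang_mor_zero₃₁ _ hT, comp_zero,
        Functor.map_zero, zero_comp]
    obtain ⟨v, rfl⟩ := Pretriangulated.Triangle.coyoneda_exact₃ _ hT u h1
    obtain ⟨w, rfl⟩ := (hbij Y hY).2 v
    rw [Category.assoc]
    exact (congrArg (w ≫ ·) (Pretriangulated.comp_distTriang_mor_zero₁₂ _ hT)).trans comp_zero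
  have hL := Groth.Agent.TorsPrecomp.leftOrth_of_tors h𝔛 C hC
  have hD := Groth.Agent.TorsPrecomp.isDerComp_coh h𝔛 F hF
  constructor
  · intro φ ψ hφψ
    have h1 : ε ≫ (φ - ψ) = 0 := by rw [Preadditive.comp_sub]; exact sub_eq_zero.2 hφψ
    obtain ⟨x, hx⟩ := Pretriangulated.Triangle.yoneda_exact₂ _ hT (φ - ψ) h1
    rw [← sub_eq_zero, hx, hL F hD x]
    exact comp_zero
  · intro ψ
    obtain ⟨φ, hφ⟩ := Pretriangulated.Triangle.yoneda_exact₂ _ (Pretriangulated.inv_rot_of_distTriang _ hT) ψ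
      (hL.shift (-1) F hD _)
    exact ⟨φ, hφ.symm⟩

end Groth.Agent.S19538
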