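import Groth.Statements.S19544
import Mathlib
import Groth.Agent.SerreSplit.Basic
-- import your own Groth.Agent.* helpers here

set_option autoImplicit false
universe u
open CAlg

namespace Groth.Agent.S19544

/-- Let R be a Noetherian ring of Krull dimension d and P a finitely generated projective R-module of
constant rank n at every prime of R, with n > d. Then P is isomorphic to P₀ ⊕ R^(n-d) for some
module P₀; concretely, P has complementary submodules P₀ and Q with Q free of rank n - d. -/
theorem result (R : Type u) [CommRing R]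
    [IsNoetherianRing R] (d n : ℕ) (hdim : ringKrullDim R = d)
    (P : Type u) [AddCommGroup P] [Module R P] [Module.Finite R P] [Module.Projective R P]
    (hrk : ∀ p : PrimeSpectrum R, Module.rankAtStalk (R := R) P p = n) (hnd : d < n) :
    ∃ (P₀ Q : Submodule R P), IsCompl P₀ Q ∧ Nonempty (Q ≃ₗ[R] (Fin (n - d) → R)) := by
  classical
  have hind : Topology.IsInducing (MaximalSpectrum.toPrimeSpectrum (R := R)) := ⟨rfl⟩
  haveI : TopologicalSpace.NoetherianSpace (MaximalSpectrum R) := hind.noetherianSpace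
  have hzero : ∀ (x : MaximalSpectrum R) (m : P), (∀ φ : P →ₗ[R] R, φ m ∈ x.asIdeal) →
      m ∈ (x.asIdeal • ⊤ : Submodule R P) := by
    intro x m hm
    obtain ⟨σ, hσ⟩ := (Module.projective_def (R := R) (P := P)).1 inferInstance
    rw [← hσ m, Finsupp.linearCombination_apply, Finsupp.sum]
    refine Submodule.sum_mem _ fun i _ => Submodule.smul_mem_smul ?_ Submodule.mem_top
    exact hm ((Finsupp.lapply i).comp σ)
  have hV : ∀ x : MaximalSpectrum R,
      n ≤ Module.finrank (R ⧸ x.asIdeal) (Groth.Agent.SerreSplit.V P x) := by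
    intro x
    letI := Ideal.Quotient.field x.asIdeal
    have hB : Groth.Agent.SerreSplit.B P x = ⊥ := by
      rw [eq_bot_iff, Submodule.span_le]
      rintro _ ⟨m, hm, rfl⟩
      exact (Submodule.Quotient.mk_eq_zero _).2 (hzero x m hm)
    let e0 := TensorProduct.quotTensorEquivQuotSMul P x.asIdeal
    let e1 : (TensorProduct R (R ⧸ x.asIdeal) P) ≃ₗ[R ⧸ x.asIdeal] P ⧸ (x.asIdeal • ⊤ : Submodule R P) :=
      { e0 with
        map_smul' := fun c y => by
          obtain ⟨r, rfl⟩ := Ideal.Quotient.mk_surjective c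
          show e0 (Ideal.Quotient.mk x.asIdeal r • y) = r • e0 y
          rw [← map_smul]
          congr 1 }
    rw [((Submodule.quotEquivOfEqBot _ hB).trans e1.symm).finrank_eq]
    have hp : (⊥ : Ideal (R ⧸ x.asIdeal)).IsPrime := Ideal.isPrime_bot
    rw [← hrk (PrimeSpectrum.comap (algebraMap R (R ⧸ x.asIdeal)) ⟨⊥, hp⟩),
      ← Module.rankAtStalk_baseChange, Module.rankAtStalk_eq_finrank_of_free]
    exact le_of_eq rfl
  have hcoh : ∀ Z : TopologicalSpace.IrreducibleCloseds (MaximalSpectrum R),
      Order.coheight Z ≤ (d : ℕ∞) := by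
    intro Z
    have h1 : (Order.coheight Z : WithBot ℕ∞) ≤ ringKrullDim R := by
      refine (Order.coheight_le_krullDim Z).trans ?_
      rw [← PrimeSpectrum.topologicalKrullDim_eq_ringKrullDim]
      exact hind.topologicalKrullDim_le
    rw [hdim] at h1
    exact WithBot.coe_le_coe.1 h1
  have key : ∀ j : ℕ, j ≤ n - d → ∃ s : Fin j → P,
      ∀ x : MaximalSpectrum R, Groth.Agent.SerreSplit.Indep x s := by
    intro j
    induction j with
    | zero => exact fun _ => ⟨Fin.elim0, fun x => linearIndependent_empty_type⟩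
    | succ j ih =>
      intro hj
      obtain ⟨s, hs⟩ := ih (by omega)
      obtain ⟨t, F', -, -, ht, hF'⟩ := Groth.Agent.SerreSplit.stmt (M := P) (d + 1) j s ∅ isClosed_empty
        (fun x => le_trans (by omega) (hV x)) (fun x hx => absurd (hs x) hx) ∅ (by simp) (fun _ => 0)
      refine ⟨Fin.snoc s t, fun x => by_contra fun hx => ?_⟩
      rcases ht x hx with h | h
      · exact h
      · have := (hF' ⟨{x}, isIrreducible_singleton, isClosed_singleton⟩
          (Set.singleton_subset_iff.2 h)).trans (hcoh _)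
        exact absurd (Nat.cast_le.1 this) (by omega)
  obtain ⟨s, hs⟩ := key (n - d) le_rfl
  have hdual : ∀ j, ∃ φ : P →ₗ[R] R, ∀ i, φ (s i) = if j = i then 1 else 0 := by
    intro j
    let I : Ideal R :=
      { carrier := {r | ∃ φ : P →ₗ[R] R, ∀ i, φ (s i) = if j = i then r else 0}
        add_mem' := by
          rintro a b ⟨φ, hφ⟩ ⟨ψ, hψ⟩
          exact ⟨φ + ψ, fun i => by rw [LinearMap.add_apply, hφ, hψ]; split_ifs <;> simp⟩
        zero_mem' := ⟨0, fun i => by simp⟩
        smul_mem' := by
          rintro c a ⟨φ, hφ⟩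
          exact ⟨c • φ, fun i => by simp [hφ]⟩ }
    suffices h : I = ⊤ from (Ideal.eq_top_iff_one I).1 h
    by_contra hne
    obtain ⟨m, hm, hIm⟩ := Ideal.exists_le_maximal I hne
    obtain ⟨φ, hφ⟩ := Groth.Agent.SerreSplit.exists_det (hs ⟨m, hm⟩)
    refine hφ (hIm ⟨∑ a, (Matrix.of fun a b => φ a (s b)).adjugate j a • φ a, fun i => ?_⟩)
    have := congrFun (congrFun (Matrix.adjugate_mul (Matrix.of fun a b => φ a (s b))) j) i
    rw [Matrix.smul_apply, Matrix.one_apply, smul_eq_mul, mul_ite, mul_one, mul_zero] at this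
    rw [← this]
    simp [Matrix.mul_apply]
  choose φ hφ using hdual
  let ι : (Fin (n - d) → R) →ₗ[R] P := Fintype.linearCombination R s
  let ψ : P →ₗ[R] (Fin (n - d) → R) := LinearMap.pi φ
  have hψ : ∀ c, ψ (ι c) = c := fun c => funext fun j => by
    simp [ψ, ι, Fintype.linearCombination_apply, hφ]
  have hinj : Function.Injective ι := Function.LeftInverse.injective hψ
  refine ⟨LinearMap.ker ψ, LinearMap.range ι, ⟨?_, ?_⟩, ⟨(LinearEquiv.ofInjective ι hinj).symm⟩⟩
  · rw [disjoint_iff_inf_le]
    rintro _ ⟨h, c, rfl⟩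
    have hc : c = 0 := (hψ c).symm.trans h
    simp [hc]
  · rw [codisjoint_iff_le_sup]
    intro m _
    refine Submodule.mem_sup.2 ⟨m - ι (ψ m), ?_, ι (ψ m), ⟨_, rfl⟩, sub_add_cancel _ _⟩
    show ψ _ = 0
    rw [map_sub, hψ, sub_self]

end Groth.Agent.S19544
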