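import Mathlib
import Groth.Statements.S19546
-- import your own Groth.Agent.* helpers here

set_option autoImplicit false
universe u v w
open scoped TensorProduct
open VBCurve

namespace Groth.Agent.S19546


open MvPolynomial in
/-- Forms of bidegree `(1,1)` without a common zero off the two axes are at least `m + n - 1`. -/
theorem hopf {ι κ : Type} [Fintype ι] [Fintype κ] (i₁ : ι) (j₁ : κ) {r : ℕ}
    (f : Fin r → MvPolynomial (ι ⊕ κ) ℂ)
    (hf : ∀ k, IsWeightedHomogeneous (Sum.elim (fun _ : ι => ((1 : ℕ), (0 : ℕ))) fun _ => (0, 1)) (f k) (1, 1))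
    (hzero : ∀ a : ι → ℂ, ∀ b : κ → ℂ, (∀ k, aeval (Sum.elim a b) (f k) = 0) → a = 0 ∨ b = 0) :
    Fintype.card ι + Fintype.card κ ≤ r + 1 := by
  classical
  let S := MvPolynomial (ι ⊕ κ) ℂ
  let w : ι ⊕ κ → ℕ × ℕ := Sum.elim (fun _ => (1, 0)) fun _ => (0, 1)
  let P : Subalgebra ℂ S := Algebra.adjoin ℂ (Set.range f)
  let z : ι → κ → S := fun i j => X (Sum.inl i) * X (Sum.inr j)
  have hz : ∀ i j, IsWeightedHomogeneous w (z i j) (1, 1) := fun i j => by
    have := (isWeightedHomogeneous_X ℂ w (Sum.inl i)).mul (isWeightedHomogeneous_X ℂ w (Sum.inr j))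
    exact this
  -- each product of coordinates has a power in the ideal
  have hrad : ∀ i j, ∃ N : ℕ, z i j ^ N ∈ Ideal.span (Set.range f) := by
    intro i j
    show z i j ∈ (Ideal.span (Set.range f)).radical
    rw [← vanishingIdeal_zeroLocus_eq_radical (K := ℂ), mem_vanishingIdeal_iff]
    intro x hx
    rw [zeroLocus_span] at hx
    have hab := hzero (x ∘ Sum.inl) (x ∘ Sum.inr) fun k => by
      rw [Sum.elim_comp_inl_inr]
      exact hx _ (Set.mem_range_self k)
    simp only [z, map_mul, aeval_X]
    rcases hab with h | h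
    · rw [show x (Sum.inl i) = 0 from congrFun h i, zero_mul]
    · rw [show x (Sum.inr j) = 0 from congrFun h j, mul_zero]
  choose N hN using hrad
  let NN : ℕ := (∑ i, ∑ j, N i j) + 1
  have hNle : ∀ i j, N i j ≤ NN := fun i j =>
    le_trans (le_trans (Finset.single_le_sum (f := fun j => N i j) (fun _ _ => Nat.zero_le _) (Finset.mem_univ j))
      (Finset.single_le_sum (f := fun i => ∑ j, N i j) (fun _ _ => Nat.zero_le _) (Finset.mem_univ i)))
      (Nat.le_succ _)
  have hNN : ∀ i j, z i j ^ NN ∈ Ideal.span (Set.range f) := fun i j => by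
    rw [← Nat.sub_add_cancel (hNle i j), pow_add]
    exact Ideal.mul_mem_left _ _ (hN i j)
  -- the diagonal part is spanned over `P` by monomials of bounded degree
  let bound := (Fintype.card ι + Fintype.card κ) * NN
  let G : Set S := {q | ∃ d : ι ⊕ κ →₀ ℕ, ∃ a < bound + 1, Finsupp.weight w d = (a, a) ∧ q = monomial d 1}
  have hwsum : ∀ d : ι ⊕ κ →₀ ℕ,
      Finsupp.weight w d = (∑ i, d (Sum.inl i), ∑ j, d (Sum.inr j)) := by
    intro d
    rw [Finsupp.weight_apply, Finsupp.sum_fintype _ _ (by simp), Fintype.sum_sum_type]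
    simp [w, Prod.ext_iff, Prod.fst_sum, Prod.snd_sum]
  have hGfin : G.Finite := by
    refine (Set.Finite.image (fun d : ι ⊕ κ →₀ ℕ => (monomial d (1 : ℂ) : S))
      (Set.finite_Iic (Finsupp.equivFunOnFinite.symm fun _ : ι ⊕ κ => bound))).subset ?_
    rintro _ ⟨d, a, ha, hd, rfl⟩
    refine ⟨d, fun s => ?_, rfl⟩
    rw [hwsum, Prod.mk.injEq] at hd
    rcases s with i | j
    · have := Finset.single_le_sum (f := fun i => d (Sum.inl i)) (fun _ _ => Nat.zero_le _) (Finset.mem_univ i)
      simp only [Finsupp.equivFunOnFinite_symm_apply_apply]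
      omega
    · have := Finset.single_le_sum (f := fun j => d (Sum.inr j)) (fun _ _ => Nat.zero_le _) (Finset.mem_univ j)
      simp only [Finsupp.equivFunOnFinite_symm_apply_apply]
      omega
  let Mo : Submodule P S := Submodule.span P G
  have hmain : ∀ a, ∀ q : S, IsWeightedHomogeneous w q (a, a) → q ∈ Mo := by
    intro a
    induction a using Nat.strong_induction_on with
    | _ a ih =>
      intro q hq
      rw [q.as_sum]
      refine Submodule.sum_mem _ fun d hd => ?_
      have hd' : Finsupp.weight w d = (a, a) := hq (mem_support_iff.mp hd)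
      rw [show monomial d (coeff d q) = algebraMap ℂ P (coeff d q) • monomial d (1 : ℂ) by
        rw [algebraMap_smul, smul_monomial, smul_eq_mul, mul_one]]
      refine Submodule.smul_mem _ _ ?_
      by_cases hab : a < bound + 1
      · exact Submodule.subset_span ⟨d, a, hab, hd', rfl⟩
      rw [hwsum, Prod.mk.injEq] at hd'
      obtain ⟨i, hi⟩ : ∃ i, NN ≤ d (Sum.inl i) := by
        by_contra hall
        push Not at hall
        have h1 : ∑ i, d (Sum.inl i) ≤ Fintype.card ι * NN := by
          refine (Finset.sum_le_card_nsmul _ _ _ fun i _ => (hall i).le).trans ?_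
          simp
        have h2 : Fintype.card ι * NN ≤ bound := Nat.mul_le_mul_right _ (Nat.le_add_right _ _)
        omega
      obtain ⟨j, hj⟩ : ∃ j, NN ≤ d (Sum.inr j) := by
        by_contra hall
        push Not at hall
        have h1 : ∑ j, d (Sum.inr j) ≤ Fintype.card κ * NN := by
          refine (Finset.sum_le_card_nsmul _ _ _ fun i _ => (hall i).le).trans ?_
          simp
        have h2 : Fintype.card κ * NN ≤ bound := Nat.mul_le_mul_right _ (Nat.le_add_left _ _)
        omega
      set e : ι ⊕ κ →₀ ℕ := Finsupp.single (Sum.inl i) NN + Finsupp.single (Sum.inr j) NN with he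
      have hed : e ≤ d := fun s => by
        rcases s with i' | j'
        · by_cases h : i' = i
          · subst h; simpa [he] using hi
          · simp [he, Ne.symm h, Finsupp.single_apply]
        · by_cases h : j' = j
          · subst h; simpa [he] using hj
          · simp [he, Ne.symm h, Finsupp.single_apply]
      have hmon : monomial d (1 : ℂ) = monomial (d - e) 1 * z i j ^ NN := by
        rw [show z i j ^ NN = monomial e (1 : ℂ) by
          rw [he, mul_pow, X_pow_eq_monomial, X_pow_eq_monomial, monomial_mul, one_mul],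
          monomial_mul, one_mul, tsub_add_cancel_of_le hed]
      obtain ⟨g, hg⟩ := (Ideal.mem_span_range_iff_exists_fun).mp
        (Ideal.mul_mem_left _ (monomial (d - e) (1 : ℂ)) (hNN i j))
      rw [hmon, ← hg]
      have hwd : IsWeightedHomogeneous w (monomial (d - e) (1 : ℂ) * z i j ^ NN) (a, a) := by
        rw [← hmon]
        exact isWeightedHomogeneous_monomial w d 1 (by rw [hwsum, hd'.1, hd'.2])
      have ha1 : 1 ≤ a := by omega
      have hproj : monomial (d - e) (1 : ℂ) * z i j ^ NN =
          ∑ k, weightedHomogeneousComponent w (a - 1, a - 1) (g k) * f k := by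
        rw [← IsWeightedHomogeneous.weightedHomogeneousComponent_same hwd, ← hg, map_sum]
        refine Finset.sum_congr rfl fun k _ => ?_
        conv_lhs => rw [(g k).as_sum, Finset.sum_mul, map_sum]
        conv_rhs => rw [(g k).as_sum, map_sum, Finset.sum_mul]
        refine Finset.sum_congr rfl fun m _ => ?_
        have hm : IsWeightedHomogeneous w (monomial m (coeff m (g k)) * f k) (Finsupp.weight w m + (1, 1)) :=
          (isWeightedHomogeneous_monomial w m _ rfl).mul (hf k)
        have hm0 : IsWeightedHomogeneous w (monomial m (coeff m (g k))) (Finsupp.weight w m) :=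
          isWeightedHomogeneous_monomial w m _ rfl
        by_cases h : Finsupp.weight w m = (a - 1, a - 1)
        · rw [h] at hm0 hm
          rw [show ((a - 1, a - 1) : ℕ × ℕ) + (1, 1) = (a, a) by simp; omega] at hm
          rw [hm0.weightedHomogeneousComponent_same, hm.weightedHomogeneousComponent_same]
        · rw [hm.weightedHomogeneousComponent_ne (a, a) (fun h' => h ?_),
            hm0.weightedHomogeneousComponent_ne _ (Ne.symm h), zero_mul]
          have h1 := congrArg Prod.fst h'
          have h2 := congrArg Prod.snd h'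
          simp at h1 h2
          ext <;> simp <;> omega
      rw [hg, hproj]
      refine Submodule.sum_mem _ fun k _ => ?_
      rw [mul_comm]
      exact Submodule.smul_mem Mo (⟨f k, Algebra.subset_adjoin (Set.mem_range_self k)⟩ : P)
        (ih (a - 1) (by omega) _ (weightedHomogeneousComponent_isWeightedHomogeneous _ _))
  -- the diagonal subalgebra
  have hGmul : ∀ p ∈ G, ∀ q ∈ G, p * q ∈ Mo := by
    rintro _ ⟨d, a, -, hd, rfl⟩ _ ⟨d', a', -, hd', rfl⟩
    exact hmain (a + a') _ (by
      have := (isWeightedHomogeneous_monomial w d (1 : ℂ) hd).mul (isWeightedHomogeneous_monomial w d' (1 : ℂ) hd')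
      exact this)
  have hone : (1 : S) ∈ Mo := hmain 0 _ (isWeightedHomogeneous_one ℂ w)
  let T : Subalgebra P S := Mo.toSubalgebra hone (by
    intro p q hp hq
    have : ∀ p ∈ G, ∀ q ∈ Mo, p * q ∈ Mo := fun p hp q hq => by
      induction hq using Submodule.span_induction with
      | mem q hq => exact hGmul p hp q hq
      | zero => simp
      | add x y _ _ hx hy => rw [mul_add]; exact add_mem hx hy
      | smul c x _ hx => rw [mul_smul_comm]; exact Submodule.smul_mem _ _ hx
    induction hp using Submodule.span_induction with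
    | mem p hp => exact this p hp q hq
    | zero => simp
    | add x y _ _ hx hy => rw [add_mul]; exact add_mem hx hy
    | smul c x _ hx => rw [smul_mul_assoc]; exact Submodule.smul_mem _ _ hx)
  have hTfg : (Subalgebra.toSubmodule T).FG := by
    rw [Submodule.toSubalgebra_toSubmodule]
    exact Submodule.fg_span hGfin
  have hint : ∀ i j, z i j ∈ integralClosure P S := fun i j =>
    IsIntegral.of_mem_of_fg T hTfg _ (hmain 1 _ (hz i j))
  -- transcendence degree
  let V := ι ⊕ {j : κ // j ≠ j₁}
  let y : V → integralClosure P S := Sum.elim (fun i => ⟨z i j₁, hint i j₁⟩) fun j => ⟨z i₁ j, hint i₁ j⟩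
  have hy : AlgebraicIndependent ℂ y := by
    refine AlgebraicIndependent.of_comp ((integralClosure P S).val.restrictScalars ℂ) ?_
    let K := FractionRing (MvPolynomial V ℂ)
    let ψ : S →ₐ[ℂ] K := aeval (Sum.elim (fun i => algebraMap (MvPolynomial V ℂ) K (X (Sum.inl i)))
      fun j => if h : j = j₁ then 1 else
        algebraMap (MvPolynomial V ℂ) K (X (Sum.inr ⟨j, h⟩)) / algebraMap (MvPolynomial V ℂ) K (X (Sum.inl i₁)))
    refine AlgebraicIndependent.of_comp ψ ?_
    have hX : (algebraMap (MvPolynomial V ℂ) K (X (Sum.inl i₁))) ≠ 0 := by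
      rw [Ne, map_eq_zero_iff _ (IsFractionRing.injective (MvPolynomial V ℂ) K)]
      exact X_ne_zero _
    have hψX : ∀ q : ι ⊕ κ, ψ (X q) = (Sum.elim (fun i => algebraMap (MvPolynomial V ℂ) K (X (Sum.inl i)))
        fun j => if h : j = j₁ then 1 else
          algebraMap (MvPolynomial V ℂ) K (X (Sum.inr ⟨j, h⟩)) /
            algebraMap (MvPolynomial V ℂ) K (X (Sum.inl i₁))) q := fun q => MvPolynomial.aeval_X _ q
    clear_value ψ
    have : ⇑ψ ∘ ⇑((integralClosure P S).val.restrictScalars ℂ) ∘ y =
        fun v => algebraMap (MvPolynomial V ℂ) K (X v) := by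
      funext v
      rw [Function.comp_apply, Function.comp_apply, AlgHom.restrictScalars_apply, Subalgebra.coe_val]
      rcases v with i | ⟨j, hj⟩
      · simp only [y, z, Sum.elim_inl, map_mul, hψX, Sum.elim_inr, dite_true, mul_one]
      · simp only [y, z, Sum.elim_inr, map_mul, hψX, Sum.elim_inl, dif_neg hj]
        exact mul_div_cancel₀ _ hX
    rw [this]
    exact (algebraicIndependent_X V ℂ).map' (f := IsScalarTower.toAlgHom ℂ (MvPolynomial V ℂ) K)
      (IsFractionRing.injective (MvPolynomial V ℂ) K)
  have hP : Algebra.trdeg ℂ P ≤ r := by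
    let π : MvPolynomial (Fin r) ℂ →ₐ[ℂ] P :=
      aeval fun k => (⟨f k, Algebra.subset_adjoin (Set.mem_range_self k)⟩ : P)
    have hπ : Function.Surjective π := by
      rintro ⟨p, hp⟩
      have hp' := hp
      simp only [P, Algebra.adjoin_range_eq_range_aeval] at hp'
      obtain ⟨q, rfl⟩ := hp'
      refine ⟨q, Subtype.ext ?_⟩
      have : P.val.comp π = aeval f := MvPolynomial.algHom_ext fun k => by
        rw [AlgHom.comp_apply, MvPolynomial.aeval_X, MvPolynomial.aeval_X]; rfl
      exact AlgHom.congr_fun this q
    refine (trdeg_le_of_surjective π hπ).trans ?_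
    simp
  have htot : Algebra.trdeg ℂ (integralClosure P S) ≤ r := by
    haveI : Algebra.IsAlgebraic P (integralClosure P S) := inferInstance
    haveI : FaithfulSMul P (integralClosure P S) :=
      (faithfulSMul_iff_algebraMap_injective _ _).mpr fun a b h => Subtype.ext (congrArg Subtype.val h : _)
    rw [← trdeg_add_eq ℂ P (A := integralClosure P S), trdeg_eq_zero (R := P) (A := integralClosure P S), add_zero]
    exact hP
  have hcard := hy.cardinalMk_le_trdeg.trans htot
  rw [Cardinal.mk_fintype, Nat.cast_le] at hcard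
  have : Fintype.card V = Fintype.card ι + (Fintype.card κ - 1) := by
    simp [V, Fintype.card_subtype_compl]
  have : 0 < Fintype.card κ := Fintype.card_pos_iff.mpr ⟨j₁⟩
  omega


/-- Let A, B, C be complex vector spaces, A and B finite-dimensional, and ν : A ⊗ B → C a linear map
injective on each factor separately (b ↦ ν(a ⊗ b) is injective for every a ≠ 0 and a ↦ ν(a ⊗ b) is
injective for every b ≠ 0). Then the image of ν has dimension at least dim A + dim B - 1. (For A = 0
the separate-injectivity hypothesis is empty and the inequality fails as soon as dim B ≥ 2, so A and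
B are taken nonzero here, the case the inequality is about.) -/
theorem result
    (A : Type u) (B : Type v) (C : Type w) [AddCommGroup A] [Module ℂ A] [AddCommGroup B] [Module ℂ B]
    [AddCommGroup C] [Module ℂ C] [FiniteDimensional ℂ A] [FiniteDimensional ℂ B]
    [Nontrivial A] [Nontrivial B] (ν : A ⊗[ℂ] B →ₗ[ℂ] C)
    (hA : ∀ a : A, a ≠ 0 → Function.Injective (fun b : B => ν (a ⊗ₜ[ℂ] b)))
    (hB : ∀ b : B, b ≠ 0 → Function.Injective (fun a : A => ν (a ⊗ₜ[ℂ] b))) :
    Module.finrank ℂ A + Module.finrank ℂ B ≤ Module.finrank ℂ (LinearMap.range ν) + 1 := by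
  classical
  let bA := Module.finBasis ℂ A
  let bB := Module.finBasis ℂ B
  haveI : FiniteDimensional ℂ (LinearMap.range ν) := inferInstance
  let bC := Module.finBasis ℂ (LinearMap.range ν)
  let c : Fin (Module.finrank ℂ A) → Fin (Module.finrank ℂ B) → Fin (Module.finrank ℂ (LinearMap.range ν)) → ℂ :=
    fun i j k => bC.repr ⟨ν (bA i ⊗ₜ bB j), LinearMap.mem_range_self ν _⟩ k
  let f : Fin (Module.finrank ℂ (LinearMap.range ν)) → MvPolynomial (Fin (Module.finrank ℂ A) ⊕ Fin (Module.finrank ℂ B)) ℂ :=
    fun k => ∑ i, ∑ j, MvPolynomial.C (c i j k) * (MvPolynomial.X (Sum.inl i) * MvPolynomial.X (Sum.inr j))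
  have h := hopf (⟨0, Module.finrank_pos⟩) (⟨0, Module.finrank_pos⟩) f (fun k => by
    refine MvPolynomial.IsWeightedHomogeneous.sum _ _ _ fun i _ => MvPolynomial.IsWeightedHomogeneous.sum _ _ _ fun j _ => ?_
    have := (MvPolynomial.isWeightedHomogeneous_C (Sum.elim (fun _ : Fin (Module.finrank ℂ A) => ((1 : ℕ), (0 : ℕ))) fun _ : Fin (Module.finrank ℂ B) => (0, 1)) (c i j k)).mul
      ((MvPolynomial.isWeightedHomogeneous_X ℂ _ (Sum.inl i)).mul (MvPolynomial.isWeightedHomogeneous_X ℂ _ (Sum.inr j)))
    simpa using this) (fun a b hab => by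
      let x := bA.equivFun.symm a
      let y := bB.equivFun.symm b
      have hν : ν (x ⊗ₜ y) = 0 := by
        have h0 : (⟨ν (x ⊗ₜ y), LinearMap.mem_range_self ν _⟩ : LinearMap.range ν) = 0 := by
          apply bC.repr.injective
          ext k
          have hs : (⟨ν (x ⊗ₜ y), LinearMap.mem_range_self ν _⟩ : LinearMap.range ν) =
              ∑ i, ∑ j, (a i * b j) • ⟨ν (bA i ⊗ₜ bB j), LinearMap.mem_range_self ν _⟩ := by
            apply Subtype.ext
            have hxy : x ⊗ₜ y = ∑ i, ∑ j, (a i * b j) • (bA i ⊗ₜ[ℂ] bB j) := by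
              simp only [x, y, Module.Basis.equivFun_symm_apply, TensorProduct.sum_tmul, TensorProduct.tmul_sum]
              rw [Finset.sum_comm]
              refine Finset.sum_congr rfl fun i _ => Finset.sum_congr rfl fun j _ => ?_
              rw [← TensorProduct.smul_tmul', TensorProduct.tmul_smul, smul_smul]
            simp [hxy, map_sum]
          rw [hs, map_zero]
          simp only [map_sum, map_smul, Finsupp.coe_finsetSum, Finset.sum_apply, Finsupp.smul_apply, smul_eq_mul, Finsupp.coe_zero, Pi.zero_apply]
          simpa [f, c, map_sum, mul_comm, mul_left_comm] using hab k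
        exact congrArg Subtype.val h0
      by_cases hx0 : x = 0
      · left
        exact bA.equivFun.symm.injective (hx0.trans (map_zero _).symm)
      · right
        have hy0 : y = 0 := hA x hx0 (by simp [hν])
        exact bB.equivFun.symm.injective (hy0.trans (map_zero _).symm))
  simpa using h

end Groth.Agent.S19546
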