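import Mathlib
import Groth.Statements.S19547


set_option autoImplicit false
universe u
open TensorProduct
open Desc

namespace Groth.Agent.S19547

/-- Let A → A' be a faithfully flat homomorphism of commutative rings, M' an A'-module and φ : M' ⊗_A A'
→ A' ⊗_A M' an isomorphism of (A' ⊗_A A')-modules for the diagonal actions (x ⊗ y)(u ⊗ z) = xu ⊗ yz
and (x ⊗ y)(z ⊗ u) = xz ⊗ yu, satisfying the cocycle condition φ_13 = φ_23 ∘ φ_12 between the three
pullbacks to A' ⊗_A A' ⊗_A A'. Here linearity over A' ⊗_A A' is stated on the generators x ⊗ 1 and 1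
⊗ y, and the cocycle condition on pure tensors u ⊗ a ⊗ b: writing φ(u ⊗ a) = Σ a_i ⊗ u_i, it says Σ
a_i ⊗ φ(u_i ⊗ b) = Σ b_j ⊗ a ⊗ u'_j where φ(u ⊗ b) = Σ b_j ⊗ u'_j. Let M = {u ∈ M' : φ(u ⊗ 1) = 1 ⊗
u}, an A-submodule of M'. Then the canonical map λ : A' ⊗_A M → M', x ⊗ u ↦ xu, is an isomorphism. -/
theorem result (A A' : Type u) [CommRing A] [CommRing A']
    [Algebra A A'] [Module.FaithfullyFlat A A'] (M' : Type u) [AddCommGroup M'] [Module A M']
    [Module A' M'] [IsScalarTower A A' M']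
    (φ : M' ⊗[A] A' →ₗ[A] A' ⊗[A] M') (hφ : Function.Bijective φ)
    (h1 : ∀ (x : A') (u : M') (z : A'),
      φ ((x • u) ⊗ₜ[A] z) = LinearMap.rTensor M' (LinearMap.mulLeft A x) (φ (u ⊗ₜ[A] z)))
    (h2 : ∀ (y : A') (u : M') (z : A'),
      φ (u ⊗ₜ[A] (y * z)) = LinearMap.lTensor A' (Algebra.lsmul A A M' y) (φ (u ⊗ₜ[A] z)))
    (hcoc : ∀ (u : M') (a b : A'),
      LinearMap.lTensor A' φ (TensorProduct.assoc A A' M' A' (LinearMap.rTensor A' φ ((u ⊗ₜ[A] a) ⊗ₜ[A] b))) =
        LinearMap.lTensor A' (TensorProduct.mk A A' M' a) (φ (u ⊗ₜ[A] b)))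
    (M : Submodule A M') (hM : ∀ u : M', u ∈ M ↔ φ (u ⊗ₜ[A] (1 : A')) = (1 : A') ⊗ₜ[A] u) :
    Function.Bijective
      ((TensorProduct.lift (Algebra.lsmul A A M').toLinearMap) ∘ₗ (LinearMap.lTensor A' M.subtype)) := by
  classical
  set ψ : A' ⊗[A] M →ₗ[A] M' :=
    (TensorProduct.lift (Algebra.lsmul A A M').toLinearMap) ∘ₗ (LinearMap.lTensor A' M.subtype) with hψ
  have key : ∀ x : A' ⊗[A] M,
      φ (LinearMap.rTensor A' M.subtype (TensorProduct.comm A A' M x)) =
        (1 : A') ⊗ₜ[A] ψ x := by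
    intro x
    induction x using TensorProduct.induction_on with
    | zero => simp
    | tmul a m =>
      have hm : φ ((m : M') ⊗ₜ[A] (1 : A')) = (1 : A') ⊗ₜ[A] (m : M') := (hM m).mp m.2
      have := h2 a (m : M') 1
      rw [mul_one, hm] at this
      simpa [hψ] using this
    | add x y hx hy => simp [map_add, hx, hy, TensorProduct.tmul_add]
  have hone : Function.Injective (fun u : M' => (1 : A') ⊗ₜ[A] u) :=
    Module.FaithfullyFlat.tensorProduct_mk_injective M'
  constructor
  · intro x y hxy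
    have h : φ (LinearMap.rTensor A' M.subtype (TensorProduct.comm A A' M x)) =
        φ (LinearMap.rTensor A' M.subtype (TensorProduct.comm A A' M y)) := by
      rw [key, key, hxy]
    exact (TensorProduct.comm A A' M).injective
      (Module.Flat.rTensor_preserves_injective_linearMap _ M.injective_subtype (hφ.1 h))
  · intro u
    obtain ⟨t, ht⟩ := hφ.2 ((1 : A') ⊗ₜ[A] u)
    let ι : M' →ₗ[A] A' ⊗[A] M' := TensorProduct.mk A A' M' 1
    let α : M' →ₗ[A] A' ⊗[A] M' := φ ∘ₗ (TensorProduct.mk A M' A').flip 1 - ι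
    have hex : Function.Exact M.subtype α := by
      intro v
      simp only [Submodule.coe_subtype, Subtype.range_coe_subtype, Set.mem_setOf_eq, SetLike.mem_coe]
      rw [hM v]
      simp [α, ι, sub_eq_zero]
    let G : (A' ⊗[A] M') ⊗[A] A' →ₗ[A] A' ⊗[A] (A' ⊗[A] M') :=
      LinearMap.lTensor A' φ ∘ₗ (TensorProduct.assoc A A' M' A').toLinearMap
    have hG : Function.Injective G :=
      (Module.Flat.lTensor_preserves_injective_linearMap φ hφ.1).comp (TensorProduct.assoc A A' M' A').injective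
    have h3 : ∀ s : M' ⊗[A] A', G (LinearMap.rTensor A' α s) =
        LinearMap.lTensor A' ι (φ s) - (1 : A') ⊗ₜ[A] φ s := by
      intro s
      induction s using TensorProduct.induction_on with
      | zero => simp
      | tmul v b =>
        have := hcoc v 1 b
        simp only [LinearMap.rTensor_tmul] at this
        simp only [LinearMap.rTensor_tmul, α, LinearMap.sub_apply, TensorProduct.sub_tmul, map_sub]
        congr 1
      | add x y hx hy => simp only [map_add, hx, hy, TensorProduct.tmul_add]; abel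
    have h0 : LinearMap.rTensor A' α t = 0 := by
      apply hG
      rw [h3, ht, map_zero]
      simp [ι]
    obtain ⟨s, hs⟩ := ((Module.Flat.rTensor_exact A' hex) t).mp h0
    refine ⟨(TensorProduct.comm A A' M).symm s, hone ?_⟩
    change (1 : A') ⊗ₜ[A] ψ _ = _
    rw [← key, LinearEquiv.apply_symm_apply, hs, ht]

end Groth.Agent.S19547
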