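import Groth.Statements.S19548
import Groth.Agent.RootWordLib.Basic
open Groth.Agent.RootWordLib
-- import your own Groth.Agent.* helpers here

set_option autoImplicit false
universe u
open CategoryTheory AlgebraicGeometry
open RedSub

namespace Groth.Agent.S19548

/-- Let Φ be a finite reduced root system (a reduced root pairing over ℤ on a finite index set) with a
base b, let w = σ_{α_1} ⋯ σ_{α_ℓ} be a reduced decomposition of a Weyl group element into simple
reflections (every α_j in the base, and no shorter word in the simple reflections gives the same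
permutation of the roots), and let γ be a positive root with w⁻¹(γ) negative. Then for some i with 1
≤ i ≤ ℓ one has σ_γ σ_{α_1} ⋯ σ_{α_i} = σ_{α_1} ⋯ σ_{α_{i-1}}. (Indices are shifted by one below:
the word is a list and the prefixes are its first i + 1 and first i letters.) -/
theorem result {idx M N : Type}
    [AddCommGroup M] [AddCommGroup N] [Finite idx]
    (P : RootPairing idx ℤ M N) [P.IsReduced] (b : P.Base) (l : List idx)
    (hl : ∀ a ∈ l, a ∈ b.support)
    (hred : ∀ l' : List idx, (∀ a ∈ l', a ∈ b.support) →
      RedSub.wordPerm P l' = RedSub.wordPerm P l → l.length ≤ l'.length)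
    (c : idx) (hc : c ∈ RedSub.posRoots P b) (hneg : (RedSub.wordPerm P l).symm c ∈ RedSub.negRoots P b) :
    ∃ i : ℕ, i < l.length ∧
      P.reflectionPerm c * RedSub.wordPerm P (l.take (i + 1)) = RedSub.wordPerm P (l.take i) := by
  classical
  letI := P.indexNeg
  clear hred
  rw [mem_posRoots] at hc
  rw [mem_negRoots] at hneg
  induction l generalizing c with
  | nil => simp [RedSub.wordPerm] at hneg; exact absurd hc hneg
  | cons x l ih =>
    have hcons : ∀ m : List idx, RedSub.wordPerm P (x :: m) = P.reflectionPerm x * RedSub.wordPerm P m := fun m => by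
      simp [RedSub.wordPerm]
    by_cases hcx : c = x
    · subst hcx
      refine ⟨0, by simp, ?_⟩
      simp only [List.take_succ_cons, List.take_zero, hcons]
      rw [← mul_assoc, ← sq, RootPairing.reflectionPerm_sq]
      simp [RedSub.wordPerm]
    · have hc' := hc.reflectionPerm (hl x List.mem_cons_self) hcx
      obtain ⟨i, hi, hieq⟩ := ih (fun a ha => hl a (List.mem_cons_of_mem _ ha)) (P.reflectionPerm x c) hc' (by
        rwa [hcons, ← Equiv.Perm.inv_def, mul_inv_rev, RootPairing.reflectionPerm_inv, Equiv.Perm.mul_apply,
          Equiv.Perm.inv_def] at hneg)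
      refine ⟨i + 1, by simpa using hi, ?_⟩
      rw [reflectionPerm_reflectionPerm, mul_assoc, mul_assoc] at hieq
      rw [List.take_succ_cons, List.take_succ_cons, hcons, hcons, ← hieq, ← mul_assoc (P.reflectionPerm x),
        ← sq, RootPairing.reflectionPerm_sq, one_mul]

end Groth.Agent.S19548
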