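import Groth.Statements.S1955
import Groth.Agent.K0Fam.Cycle
import Groth.Agent.CycLib.P1Rat

set_option autoImplicit false
universe u
open CategoryTheory AlgebraicGeometry
open Cyc

namespace Groth.Agent.S1955

open CategoryTheory CategoryTheory.Limits AlgebraicGeometry

open Groth.Agent CategoryTheory.Limits
set_option backward.isDefEq.respectTransparency false

/-- The assignment F ↦ [F]_k induces an isomorphism from K_0(Coh_{≤k}(X)/Coh_{≤k−1}(X)) onto the group
Z_k(X) of k-cycles: there is an additive map ψ to coefficient functions with ψ[F] = [F]_k for every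
coherent F with support of δ-dimension ≤ k, which is injective with image exactly the coefficient
functions of k-cycles. K_0 of the Serre quotient is modelled as K_0(Coh_{≤k}) modulo the classes of
Coh_{≤k−1} (Cyc.K0CohQuot). Here a pair (X, δ) with Cyc.IsSetup plays the role of a scheme locally
of finite type over a fixed base with a dimension function (X locally Noetherian with universally
catenary local rings, δ a dimension function). -/
theorem result (X : Scheme.{u}) (δ : X → ℤ) (hX : Cyc.IsSetup X δ) (k : ℤ) : ∃ ψ : Cyc.K0CohQuot δ k (k - 1) →+ (X → ℤ), (∀ F : X.Modules, Cyc.CohLe δ k F → ψ (Cyc.toK0CohQuot δ k (k - 1) F) = Cyc.sheafFun δ k F) ∧ Function.Injective ψ ∧ Set.range ψ = {a | ∃ α : AlgebraicCycle X ℤ, α ∈ Cyc.Zk X δ k ∧ ⇑α = a} := by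
  classical
  haveI := hX.1
  have hδ := hX.2.2
  let f₀ : FreeAbelianGroup (Subtype (Cyc.CohLe δ k)) →+ (X → ℤ) :=
    FreeAbelianGroup.lift fun M => Cyc.sheafFun δ k M.1
  have hrel : KZero.relSub (Cyc.CohLe δ k) ≤ f₀.ker := by
    rw [KZero.relSub, AddSubgroup.closure_le]
    rintro x ⟨T, h₁, h₂, h₃, hT, rfl⟩
    show f₀ _ = 0
    simp only [map_sub, f₀, FreeAbelianGroup.lift_apply_of]
    rw [S1896.result X δ hX k T hT h₁.1 h₂.1 h₃.1 h₂.2]
    abel
  let f₁ : KZero.K0sub (Cyc.CohLe δ k) →+ (X → ℤ) := QuotientAddGroup.lift _ f₀ hrel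
  have hf₁ : ∀ F : X.Modules, Cyc.CohLe δ k F → f₁ (KZero.clSub (Cyc.CohLe δ k) F) = Cyc.sheafFun δ k F := fun F hF => by
    rw [K0ResLib.clSub_of hF]
    exact FreeAbelianGroup.lift_apply_of _ _
  have hlow : AddSubgroup.closure {c : KZero.K0sub (Cyc.CohLe δ k) | ∃ F : X.Modules, Cyc.CohLe δ (k - 1) F ∧
      c = KZero.clSub (Cyc.CohLe δ k) F} ≤ f₁.ker := by
    rw [AddSubgroup.closure_le]
    rintro c ⟨F, hF, rfl⟩
    show f₁ _ = 0
    rw [hf₁ F ⟨hF.1, fun x hx => (hF.2 x hx).trans (by omega)⟩]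
    funext x
    rw [Cyc.sheafFun]
    split_ifs with hx
    · haveI : Subsingleton (F.presheaf.stalk x) := not_nontrivial_iff_subsingleton.1 fun hn => by
        have := hF.2 x hn
        omega
      rw [Module.length_eq_zero]
      rfl
    · rfl
  let ψ : Cyc.K0CohQuot δ k (k - 1) →+ (X → ℤ) := QuotientAddGroup.lift _ f₁ hlow
  have hψ : ∀ F : X.Modules, Cyc.CohLe δ k F → ψ (Cyc.toK0CohQuot δ k (k - 1) F) = Cyc.sheafFun δ k F :=
    fun F hF => hf₁ F hF
  refine ⟨ψ, hψ, (injective_iff_map_eq_zero ψ).2 fun z hz => ?_, Set.ext fun a => ⟨?_, ?_⟩⟩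
  · obtain ⟨F, G, hF, hG, rfl⟩ := K0Fam.exists_sub z
    rw [map_sub, hψ F hF, hψ G hG, sub_eq_zero] at hz
    rw [K0Fam.q_eq_cycle hδ hF, K0Fam.q_eq_cycle hδ hG, hz, sub_self]
  · rintro ⟨z, rfl⟩
    obtain ⟨F, G, hF, hG, rfl⟩ := K0Fam.exists_sub z
    refine ⟨CycLib.P1Rat.sheafCycle (δ := δ) (k := k) hF.1 - CycLib.P1Rat.sheafCycle (δ := δ) (k := k) hG.1,
      fun x hx => ?_, ?_⟩
    · show Cyc.sheafFun δ k F x - Cyc.sheafFun δ k G x = 0
      rw [Cyc.sheafFun, Cyc.sheafFun, if_neg hx, if_neg hx, sub_zero]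
    · rw [map_sub, hψ F hF, hψ G hG]
      rfl
  · rintro ⟨α, hα, rfl⟩
    have hp : ∀ x, 0 < α x → α x ≠ 0 := fun x hx => hx.ne'
    have hn : ∀ x, 0 < (-⇑α) x → α x ≠ 0 := fun x hx e => by
      rw [Pi.neg_apply, e, neg_zero] at hx
      exact lt_irrefl _ hx
    refine ⟨Cyc.toK0CohQuot δ k (k - 1) (Cyc.cycleSheafPos ⇑α) -
      Cyc.toK0CohQuot δ k (k - 1) (Cyc.cycleSheafNeg ⇑α), ?_⟩
    funext x
    rw [map_sub, hψ _ (K0Fam.cohLe_cycle hδ hα hp), Pi.sub_apply,
      show Cyc.cycleSheafNeg ⇑α = Cyc.cycleSheafPos (-⇑α) from rfl, hψ _ (K0Fam.cohLe_cycle hδ hα hn),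
      K0Fam.sheafFun_cycle hδ hα hp, K0Fam.sheafFun_cycle hδ hα hn]
    by_cases hx : δ x = k
    · rw [if_pos hx, if_pos hx, Pi.neg_apply]
      omega
    · rw [if_neg hx, if_neg hx, sub_zero, hα x hx]


end Groth.Agent.S1955
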