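import Groth.Statements.S19551
import Mathlib

set_option autoImplicit false
universe u v w
open KronMod

namespace Groth.Agent.S19551

/-- Case of two arrows. Over an algebraically closed field K, if a Kronecker module f = (f_0, f_1) with
two arrows between spaces V and W of the same finite dimension k is semistable, then some linear
combination z_0 f_0 + z_1 f_1 of its arrows is a linear isomorphism V → W: for two arrows the
semistable locus of dimension vector (k, k) lies in the open set of modules whose generic
combination is invertible, for every k. (The published statement, over an algebraically closed field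
of characteristic zero, also covers the dimension vectors (1, 1) and (2, 2) for any number of
arrows; this row states the two-arrow case for all k, without the characteristic assumption.) -/
theorem result (K : Type u) [Field K] [IsAlgClosed K]
    (V : Type v) (W : Type w)
    [AddCommGroup V] [Module K V] [FiniteDimensional K V]
    [AddCommGroup W] [Module K W] [FiniteDimensional K W]
    (f : Fin 2 → (V →ₗ[K] W)) (k : ℕ)
    (hV : Module.finrank K V = k) (hW : Module.finrank K W = k)
    (hf : KronMod.IsSemistable f) :
    ∃ z : Fin 2 → K, Function.Bijective ((∑ j, z j • f j : V →ₗ[K] W) : V → W) := by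
  classical
  by_contra hcon
  push Not at hcon
  let bV := Module.finBasisOfFinrankEq K V hV
  let bW := Module.finBasisOfFinrankEq K W hW
  have hk : 0 < k := by have := hf.1; omega
  let A : Fin 2 → Matrix (Fin k) (Fin k) K := fun j => LinearMap.toMatrix bV bW (f j)
  let M : Matrix (Fin k) (Fin k) (Polynomial K) :=
    (A 0).map Polynomial.C + (Polynomial.X : Polynomial K) • (A 1).map Polynomial.C
  have hdet : M.det = 0 := by
    refine Polynomial.funext fun l => ?_
    rw [Polynomial.eval_zero, ← Polynomial.coe_evalRingHom, RingHom.map_det]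
    by_contra hne
    refine hcon ![1, l] ?_
    have hB : (Polynomial.evalRingHom l).mapMatrix M =
        LinearMap.toMatrix bV bW (∑ j, (![1, l] : Fin 2 → K) j • f j) := by
      ext a b
      simp [M, A, Fin.sum_univ_two, LinearMap.toMatrix_apply]
      ring
    rw [hB] at hne
    have hu := (Matrix.isUnit_iff_isUnit_det _).mpr (isUnit_iff_ne_zero.mpr hne)
    obtain ⟨u, hu⟩ := hu
    let g : W →ₗ[K] V := Matrix.toLin bW bV (↑u⁻¹ : Matrix (Fin k) (Fin k) K)
    have h1 : (∑ j, (![1, l] : Fin 2 → K) j • f j) = Matrix.toLin bV bW (u : Matrix (Fin k) (Fin k) K) := by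
      rw [hu, Matrix.toLin_toMatrix]
    refine Function.bijective_iff_has_inverse.mpr ⟨g, fun x => ?_, fun x => ?_⟩
    · rw [h1, ← LinearMap.comp_apply, ← Matrix.toLin_mul bV bW bV, Units.inv_mul, Matrix.toLin_one, LinearMap.id_apply]
    · rw [h1, ← LinearMap.comp_apply, ← Matrix.toLin_mul bW bV bW, Units.mul_inv, Matrix.toLin_one, LinearMap.id_apply]
  obtain ⟨v, hv, hMv⟩ := Matrix.exists_mulVec_eq_zero_iff.mpr hdet
  obtain ⟨a₀, ha₀⟩ := Function.ne_iff.mp hv
  have hex : ∃ m, ∃ a, (v a).coeff m ≠ 0 := by
    obtain ⟨m, hm⟩ := Polynomial.support_nonempty.mpr ha₀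
    exact ⟨m, a₀, Polynomial.mem_support_iff.mp hm⟩
  let m := Nat.find hex
  let w : ℕ → V := fun i => bV.equivFun.symm fun a => (v a).coeff (m + i)
  have hf' : ∀ (j : Fin 2) (x : Fin k → K), bW.equivFun (f j (bV.equivFun.symm x)) = (A j).mulVec x := fun j x => by
    funext a
    rw [Module.Basis.equivFun_apply, ← LinearMap.toMatrix_mulVec_repr bV bW (f j)]
    congr 1
    funext b
    rw [← Module.Basis.equivFun_apply, LinearEquiv.apply_symm_apply]
  have hco : ∀ n a, (∑ b, A 0 a b * (v b).coeff n) +
      (∑ b, A 1 a b * if n = 0 then 0 else (v b).coeff (n - 1)) = 0 := fun n a => by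
    have h := congrArg (fun p : Polynomial K => p.coeff n) (congrFun hMv a)
    simp only [M, Matrix.mulVec, dotProduct, Matrix.add_apply, Matrix.smul_apply, Matrix.map_apply, smul_eq_mul,
      add_mul, Finset.sum_add_distrib, Polynomial.coeff_add, Polynomial.finsetSum_coeff, Polynomial.coeff_C_mul,
      Pi.zero_apply, Polynomial.coeff_zero, mul_assoc] at h
    rcases n with _ | n
    · simpa [Polynomial.coeff_X_mul_zero] using h
    · simpa [Polynomial.coeff_X_mul, Polynomial.coeff_C_mul] using h
  have h0 : f 0 (w 0) = 0 := by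
    refine bW.equivFun.map_eq_zero_iff.mp (funext fun a => ?_)
    rw [hf']
    have h := hco m a
    rw [Finset.sum_eq_zero (s := Finset.univ) (f := fun b => A 1 a b * if m = 0 then 0 else (v b).coeff (m - 1))
      fun b _ => by
        split
        · exact mul_zero _
        · rename_i hm0
          have h' := Nat.find_min hex (show m - 1 < Nat.find hex from Nat.sub_lt (Nat.pos_of_ne_zero hm0) one_pos)
          push Not at h'
          rw [h' b, mul_zero], add_zero] at h
    simpa [Matrix.mulVec, dotProduct] using h
  have h1 : ∀ i, f 1 (w i) = - f 0 (w (i + 1)) := fun i => by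
    refine eq_neg_of_add_eq_zero_left (bW.equivFun.map_eq_zero_iff.mp (funext fun a => ?_))
    rw [map_add, hf', hf', Pi.add_apply]
    have h := hco (m + i + 1) a
    rw [Finset.sum_congr rfl (fun b _ => by rw [if_neg (Nat.succ_ne_zero (m + i)), Nat.add_sub_cancel] :
      ∀ b ∈ Finset.univ, (A 1 a b * if m + i + 1 = 0 then 0 else (v b).coeff (m + i + 1 - 1)) = A 1 a b * (v b).coeff (m + i)),
      add_comm] at h
    simpa [Matrix.mulVec, dotProduct, Nat.add_assoc] using h
  let V' : Submodule K V := Submodule.span K (Set.range w)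
  let W' : Submodule K W := V'.map (f 0)
  have hsub : KronMod.IsSubrep f V' W' := by
    intro j
    fin_cases j
    · exact le_rfl
    · show V'.map (f 1) ≤ W'
      rw [Submodule.map_span_le]
      rintro _ ⟨i, rfl⟩
      rw [h1]
      exact W'.neg_mem ⟨w (i + 1), Submodule.subset_span ⟨i + 1, rfl⟩, rfl⟩
  have hw0 : w 0 ≠ 0 := by
    obtain ⟨a, ha⟩ := Nat.find_spec hex
    intro h
    exact ha (by simpa [w, Nat.add_zero] using congrFun ((LinearEquiv.map_eq_zero_iff _).mp h) a)
  have hlt : Module.finrank K W' < Module.finrank K V' := by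
    have hr : LinearMap.range ((f 0).domRestrict V') = W' := LinearMap.range_domRestrict _ _
    rw [← LinearMap.finrank_range_add_finrank_ker ((f 0).domRestrict V'), hr]
    have : 0 < Module.finrank K (LinearMap.ker ((f 0).domRestrict V')) := Module.finrank_pos_iff_exists_ne_zero.mpr
      ⟨⟨⟨w 0, Submodule.subset_span ⟨0, rfl⟩⟩, h0⟩, fun h => hw0 (congrArg (fun x => (x.1 : V)) h)⟩
    omega
  have hne1 : ¬ (V' = ⊥ ∧ W' = ⊥) := fun h => hw0 (by
    have hm : w 0 ∈ V' := Submodule.subset_span ⟨0, rfl⟩
    rw [h.1] at hm; exact hm)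
  have hne2 : ¬ (V' = ⊤ ∧ W' = ⊤) := fun h => by
    rw [h.1, h.2, finrank_top, finrank_top, hV, hW] at hlt
    exact lt_irrefl _ hlt
  have := hf.2 V' W' hsub hne1 hne2
  rw [hV, hW] at this
  exact absurd (Nat.le_of_mul_le_mul_left this hk) (not_le.mpr hlt)

end Groth.Agent.S19551
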