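import Groth.Statements.S19552
import Groth.Agent.SerreSplitLib.Cancel

set_option autoImplicit false
universe u
open CAlg

namespace Groth.Agent.S19552

/-- Let R be a Noetherian ring of Krull dimension d and P, Q finitely generated projective R-modules of
constant rank at every prime which have the same class in the Grothendieck group, i.e. are stably
isomorphic: P ⊕ R^m ≅ Q ⊕ R^m for some m. Then there is a positive integer N with P^N ≅ Q^N. (The
two exponents in the published display are read as the same integer N; for modules of positive rank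
an isomorphism between direct powers forces equal exponents.) -/
theorem result (R : Type u) [CommRing R] [IsNoetherianRing R]
    (d n : ℕ) (hdim : ringKrullDim R = d)
    (P Q : Type u) [AddCommGroup P] [Module R P] [Module.Finite R P] [Module.Projective R P]
    [AddCommGroup Q] [Module R Q] [Module.Finite R Q] [Module.Projective R Q]
    (hrk : ∀ p : PrimeSpectrum R, Module.rankAtStalk (R := R) P p = n)
    (hrk' : ∀ p : PrimeSpectrum R, Module.rankAtStalk (R := R) Q p = n)
    (m : ℕ) (e : (P × (Fin m → R)) ≃ₗ[R] (Q × (Fin m → R))) :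
    ∃ N : ℕ, 1 ≤ N ∧ Nonempty ((Fin N → P) ≃ₗ[R] (Fin N → Q)) := by
  haveI : TopologicalSpace.NoetherianSpace (MaximalSpectrum R) :=
    (⟨rfl⟩ : Topology.IsInducing (MaximalSpectrum.toPrimeSpectrum (R := R))).noetherianSpace
  have hd : topologicalKrullDim (MaximalSpectrum R) ≤ d :=
    ((⟨rfl⟩ : Topology.IsInducing (MaximalSpectrum.toPrimeSpectrum (R := R))).topologicalKrullDim_le).trans
      (PrimeSpectrum.topologicalKrullDim_eq_ringKrullDim R ▸ hdim.le)
  refine ⟨d + 1, by omega, ?_⟩
  rcases Nat.eq_zero_or_pos n with rfl | hn
  · haveI : Subsingleton P := Module.rankAtStalk_eq_zero_iff_subsingleton.1 (funext hrk)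
    haveI : Subsingleton Q := Module.rankAtStalk_eq_zero_iff_subsingleton.1 (funext hrk')
    exact ⟨LinearEquiv.ofSubsingleton _ _⟩
  let τ : ∀ (X : Type u) [AddCommGroup X] [Module R X],
      (Fin (d + 1) → X × (Fin m → R)) ≃ₗ[R] ((Fin (d + 1) → X) × (Fin ((d + 1) * m) → R)) :=
    fun X _ _ => ({ toFun := fun f => (fun i => (f i).1, fun i => (f i).2)
                    invFun := fun p i => (p.1 i, p.2 i)
                    left_inv := fun f => rfl
                    right_inv := fun p => rfl
                    map_add' := fun f g => rfl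
                    map_smul' := fun c f => rfl } :
      (Fin (d + 1) → X × (Fin m → R)) ≃ₗ[R] ((Fin (d + 1) → X) × (Fin (d + 1) → Fin m → R))).trans ((LinearEquiv.refl R _).prodCongr
      ((LinearEquiv.curry R R (Fin (d + 1)) (Fin m)).symm.trans (LinearEquiv.funCongrLeft R R finProdFinEquiv.symm)))
  exact SerreSplitLib.cancel d hd ((d + 1) * m)
    (fun x => SerreSplitLib.ge_pi (SerreSplitLib.ge_of_rankAtStalk x n 1 hn (hrk' _)))
    ((τ P).symm.trans ((LinearEquiv.piCongrRight fun _ => e).trans (τ Q)))

end Groth.Agent.S19552
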