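import Groth.Statements.S19553
import Groth.Agent.CastLib.InterSymm
import Groth.Agent.CastLib.InterCartier
import Groth.Agent.TFCurvSSLib.SubSuper
import Groth.Agent.WLocalLib.Olivier
import Groth.Agent.CurveLib.GlobalFun
import Groth.Agent.CastLib.InterFibreClass
import Groth.Agent.TwistShriek.CurveConn
import Groth.Agent.FinBirLib.Genus

set_option autoImplicit false
set_option backward.isDefEq.respectTransparency false
universe u
open CategoryTheory CategoryTheory.Limits AlgebraicGeometry
open Models

namespace Groth.Agent.S19553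

open IsLocalRing TopologicalSpace
open Groth.Agent.CastLib Groth.Agent.DivisorialLib Groth.Agent.SurfPtBlow

theorem exists_prime_of_specializes {X : Scheme.{u}} {x y : X} (h : y ⤳ x) :
    ∃ p : Spec (X.presheaf.stalk x), X.fromSpecStalk x p = y := by
  have : y ∈ Set.range (X.fromSpecStalk x) := by rw [Scheme.range_fromSpecStalk]; exact h
  exact this

theorem asIdeal_le_iff {X : Scheme.{u}} {x : X} (p q : Spec (X.presheaf.stalk x)) :
    p.asIdeal ≤ q.asIdeal ↔ X.fromSpecStalk x p ⤳ X.fromSpecStalk x q := by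
  rw [(X.fromSpecStalk x).isEmbedding.isInducing.specializes_iff]
  exact (PrimeSpectrum.asIdeal_le_asIdeal p q).trans (PrimeSpectrum.le_iff_specializes p q)

theorem fromSpecStalk_inj {X : Scheme.{u}} {x : X} {p q : Spec (X.presheaf.stalk x)}
    (h : X.fromSpecStalk x p = X.fromSpecStalk x q) : p = q :=
  (X.fromSpecStalk x).isEmbedding.injective h

theorem fromSpecStalk_le {X : Scheme.{u}} {x : X} (p : Spec (X.presheaf.stalk x)) : X.fromSpecStalk x p ⤳ x := by
  have h : X.fromSpecStalk x p ∈ Set.range (X.fromSpecStalk x) := Set.mem_range_self p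
  rwa [Scheme.range_fromSpecStalk] at h

/-- The stalk ideal of the closure of a generalisation is the corresponding prime. -/
theorem stalkIdeal_cl_prime {X : Scheme.{u}} {x : X} (q : Spec (X.presheaf.stalk x)) :
    IntMult.stalkIdeal (cl (X.fromSpecStalk x q)) x = q.asIdeal := by
  let D := cl (X.fromSpecStalk x q)
  haveI : IsIntegral D.subscheme := CurveLib.isIntegral_vanishingIdeal isClosed_closure isIrreducible_singleton.closure
  obtain ⟨x', hx'⟩ : x ∈ Set.range D.subschemeι := by
    rw [Scheme.IdealSheafData.range_subschemeι]; exact mem_support_cl.2 (fromSpecStalk_le q)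
  obtain ⟨h', hh'⟩ : X.fromSpecStalk x q ∈ Set.range D.subschemeι := by
    rw [Scheme.IdealSheafData.range_subschemeι]; exact mem_support_cl.2 specializes_rfl
  have hgen : D.subschemeι (genericPoint D.subscheme) = X.fromSpecStalk x q :=
    ((hh' ▸ (genericPoint_specializes h').map D.subschemeι.continuous).antisymm
      (mem_support_cl.1 ((Scheme.IdealSheafData.range_subschemeι D).le (Set.mem_range_self _)))).eq
  obtain ⟨g, hg⟩ := exists_prime_of_specializes (genericPoint_specializes x')
  let o : Spec (D.subscheme.presheaf.stalk x') := ⟨⊥, Ideal.isPrime_bot⟩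
  have hgo : g = o := PrimeSpectrum.ext (le_antisymm
    ((asIdeal_le_iff g o).2 (hg ▸ genericPoint_specializes _)) bot_le)
  rw [hgo] at hg
  have key : ∀ (y : X) (p : Spec (X.presheaf.stalk y)), D.subschemeι x' = y →
      X.fromSpecStalk y p = D.subschemeι (genericPoint D.subscheme) → IntMult.stalkIdeal D y = p.asIdeal := by
    rintro y p rfl hp
    have h : Spec.map (D.subschemeι.stalkMap x') o = p := by
      apply fromSpecStalk_inj
      rw [← Scheme.Hom.comp_apply, Scheme.SpecMap_stalkMap_fromSpecStalk, Scheme.Hom.comp_apply, hg, hp]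
    rw [← h, ← IdealStalkLib.ker_stalkMap_subschemeι]
    exact RingHom.ker_eq_comap_bot _
  exact key x q hx' hgen.symm


theorem finite_of_closed_not_generic {E : Scheme.{u}} [IsIntegral E] [AlgebraicGeometry.IsNoetherian E]
    (hdim : topologicalKrullDim E ≤ 1) {Z : Set E} (hZ : IsClosed Z) (hg : genericPoint E ∉ Z) : Z.Finite := by
  let U : E.Opens := ⟨Zᶜ, hZ.isOpen_compl⟩
  have hU : Dense (U : Set E) := U.2.dense ⟨genericPoint E, hg⟩
  have := CurveLib.finite_of_dim_le_zero U.2.isClosed_compl (FinBirLib.dim_compl hdim U hU)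
  simpa [U] using this

theorem isClosed_singleton_of_ne_generic {E : Scheme.{u}} [IsIntegral E] [AlgebraicGeometry.IsNoetherian E]
    (hdim : topologicalKrullDim E ≤ 1) {e : E} (he : e ≠ genericPoint E) : IsClosed ({e} : Set E) := by
  let Z := closure ({e} : Set E)
  let U : E.Opens := ⟨Zᶜ, isClosed_closure.isOpen_compl⟩
  have hg : genericPoint E ∉ Z := fun h =>
    he ((genericPoint_specializes e).antisymm (specializes_iff_mem_closure.2 h)).eq.symm
  have hU : Dense (U : Set E) := U.2.dense ⟨genericPoint E, hg⟩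
  refine closure_subset_iff_isClosed.1 fun y hy => ?_
  exact (FinBirLib.eq_of_specializes_compl hdim U hU (a := e) (fun h => h (subset_closure rfl))
    (specializes_iff_mem_closure.2 hy)).symm

theorem exists_uniformizer {E : Scheme.{u}} (hdim : topologicalKrullDim E ≤ 1) (c : E)
    [IsRegularLocalRing (E.presheaf.stalk c)] :
    ∃ t : E.presheaf.stalk c, maximalIdeal _ = Ideal.span {t} := by
  have h1 : ringKrullDim (E.presheaf.stalk c) ≤ 1 := by
    rw [ringKrullDim_stalk_eq_coheight]
    refine (Order.coheight_le_krullDim c).trans ?_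
    rw [← ASp.topologicalKrullDim_eq_krullDim]; exact hdim
  rw [← IsRegularLocalRing.spanFinrank_maximalIdeal] at h1
  have h2 : (maximalIdeal (E.presheaf.stalk c)).spanFinrank ≤ 1 := by exact_mod_cast h1
  have hfg : (maximalIdeal (E.presheaf.stalk c)).FG := IsNoetherian.noetherian _
  rcases Nat.le_one_iff_eq_zero_or_eq_one.1 h2 with h | h
  · exact ⟨0, by rw [Ideal.span_singleton_zero]; exact (Submodule.spanFinrank_eq_zero_iff_eq_bot hfg).1 h⟩
  · obtain ⟨t, ht⟩ := ((Submodule.spanFinrank_eq_one_iff _).1 h).1.principal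
    exact ⟨t, ht⟩

theorem isIntegral_generic {K : Type u} [Field K] {C : Scheme.{u}} (fC : C ⟶ Spec (CommRingCat.of K))
    [IsProper fC] [Smooth fC] (hC0 : Models.hRank K C fC (Coh.structureModule C) 0 = 1) : IsIntegral C := by
  letI : C.Over (Spec (CommRingCat.of K)) := ⟨fC⟩
  haveI : IsProper (C ↘ Spec (CommRingCat.of K)) := ‹IsProper fC›
  haveI : Smooth (C ↘ Spec (CommRingCat.of K)) := ‹Smooth fC›
  haveI : Nonempty C := by
    by_contra hne
    rw [not_nonempty_iff] at hne
    haveI : Subsingleton Γ(C, ⊤) := by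
      rw [show (⊤ : C.Opens) = ⊥ from Opens.ext (Set.eq_empty_of_isEmpty _ |>.trans (Set.eq_empty_of_isEmpty _).symm)]
      infer_instance
    haveI : Subsingleton Γ(Coh.structureModule C, ⊤) := ‹Subsingleton Γ(C, ⊤)›
    haveI : Subsingleton (Coh.HH C (Coh.structureModule C) 0) :=
      (CurveLib.secOf (Coh.structureModule C)).toEquiv.subsingleton
    have : Models.hRank K C fC (Coh.structureModule C) 0 = 0 := Module.finrank_zero_of_subsingleton
    omega
  haveI : ConnectedSpace C := TwistShriek.connectedSpace_of_h0 K hC0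
  exact CurveLib.isIntegral_of_smooth (X := C) K

theorem genPtOf_ne {R : Type u} [CommRing R] [IsDomain R] [IsDiscreteValuationRing R] {X : Scheme.{u}}
    [IsIntegral X] {g : X} (h1 : Order.coheight g = 1) : g ≠ genericPoint X := fun h => by
  rw [h, Order.coheight_eq_zero.2 fun z _ => Scheme.le_iff_specializes.2 (genericPoint_specializes z)] at h1
  exact absurd h1 (by norm_num)

variable {R : Type u} [CommRing R] [IsDomain R] [IsDiscreteValuationRing R]

/-- The pull back of the structure map to a local ring detects the closed fibre. -/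
theorem exists_detect {X : Scheme.{u}} (p : X ⟶ Spec (CommRingCat.of R)) (s : X) :
    ∃ π : X.presheaf.stalk s, ∀ q : Spec (X.presheaf.stalk s),
      π ∈ q.asIdeal ↔ p (X.fromSpecStalk s q) = IsLocalRing.closedPoint R := by
  obtain ⟨ϖ, hϖ⟩ := IsDiscreteValuationRing.exists_irreducible R
  let φ : CommRingCat.of R ⟶ X.presheaf.stalk s := Spec.preimage (X.fromSpecStalk s ≫ p)
  refine ⟨φ.hom ϖ, fun q => ?_⟩
  have h : Spec.map φ q = p (X.fromSpecStalk s q) := by rw [Spec.map_preimage, Scheme.Hom.comp_apply]
  rw [← h]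
  constructor
  · intro hq
    refine PrimeSpectrum.ext (le_antisymm (IsLocalRing.le_maximalIdeal (Spec.map φ q).isPrime.ne_top) ?_)
    show maximalIdeal R ≤ _
    rw [hϖ.maximalIdeal_eq, Ideal.span_singleton_le_iff_mem]
    exact hq
  · intro hq
    have h1 : ϖ ∈ (Spec.map φ q).asIdeal := by
      rw [show (Spec.map φ q).asIdeal = maximalIdeal R from congrArg PrimeSpectrum.asIdeal hq,
        hϖ.maximalIdeal_eq]
      exact Ideal.mem_span_singleton_self ϖ
    exact h1

omit [IsDiscreteValuationRing R] in
theorem henselianLocalRing [IsLocalRing R] [IsAdicComplete (maximalIdeal R) R] : HenselianLocalRing R where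
  is_henselian f hf a h1 h2 := HenselianRing.is_henselian f hf a h1 (h2.map _)

/-- An integral scheme, proper over a henselian ring with finite fibres, has one closed point. -/
theorem closedPoint_unique [HenselianLocalRing R] {H : Scheme.{u}} [IsIntegral H]
    (q : H ⟶ Spec (CommRingCat.of R)) [IsProper q] (hfin : ∀ y, (q ⁻¹' {y}).Finite)
    {s t : H} (hs : IsClosed ({s} : Set H)) (ht : IsClosed ({t} : Set H)) : s = t := by
  haveI : LocallyQuasiFinite q := LocallyQuasiFinite.of_finite_preimage_singleton q hfin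
  haveI : IsFinite q := IsFinite.of_isProper_of_locallyQuasiFinite q
  haveI : IsAffine H := isAffine_of_isAffineHom q
  let φ : R →+* Γ(H, ⊤) := q.appTop.hom.comp (Scheme.ΓSpecIso (CommRingCat.of R)).inv.hom
  letI := φ.toAlgebra
  have hφ : φ.Finite := RingHom.Finite.comp q.finite_appTop
    (RingHom.Finite.of_surjective _ (ConcreteCategory.bijective_of_isIso (Scheme.ΓSpecIso (CommRingCat.of R)).inv).2)
  haveI : Module.Finite R Γ(H, ⊤) := hφ
  haveI : Algebra.IsIntegral R Γ(H, ⊤) := Algebra.IsIntegral.of_finite R _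
  haveI : IsLocalRing Γ(H, ⊤) := WLocalLib.isLocalRing_of_isIntegral (A := R) Γ(H, ⊤)
  have key : ∀ s : H, IsClosed ({s} : Set H) → (H.isoSpec.hom s).asIdeal = maximalIdeal Γ(H, ⊤) := by
    intro s hs
    have h : IsClosed ({H.isoSpec.hom s} : Set (Spec Γ(H, ⊤))) := by
      rw [← Set.image_singleton]
      exact H.isoSpec.hom.homeomorph.isClosedMap _ hs
    exact IsLocalRing.eq_maximalIdeal ((PrimeSpectrum.isClosed_singleton_iff_isMaximal _).1 h)
  exact H.isoSpec.hom.homeomorph.injective (PrimeSpectrum.ext ((key s hs).trans (key t ht).symm))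

theorem finrank_quotMod_point (k : Type u) [Field k] [IsAlgClosed k] (C : Scheme.{u}) [C.Over (Spec (CommRingCat.of k))]
    [IsProper (C ↘ Spec (CommRingCat.of k))] (c : C) :
    Module.finrank k (Coh.HH C (ClSub.quotMod (cl c)) 0) = 1 := by
  haveI := EulerIneqLib.isNoetherian_proper (X := C) k
  haveI : IsIntegral (cl c).subscheme := CurveLib.isIntegral_vanishingIdeal isClosed_closure isIrreducible_singleton.closure
  letI : (cl c).subscheme.Over (Spec (CommRingCat.of k)) := ⟨(cl c).subschemeι ≫ (C ↘ Spec (CommRingCat.of k))⟩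
  haveI : IsProper ((cl c).subscheme ↘ Spec (CommRingCat.of k)) :=
    inferInstanceAs (IsProper ((cl c).subschemeι ≫ (C ↘ Spec (CommRingCat.of k))))
  haveI : Coh.IsQCoh (Coh.structureModule (cl c).subscheme) := (DevLib.isCoh_structureModule (cl c).subscheme).1
  exact (IntLib.finrank_push k (cl c).subschemeι rfl (Coh.structureModule (cl c).subscheme) 0).trans
    CurveLib.finrank_H0_structure

/-- An irreducible subset of `S` lies in a maximal irreducible subset of `S`. -/
theorem exists_maximal_irreducible {X : Type u} [TopologicalSpace X] {S C : Set X} (hC : IsIrreducible C) (h : C ⊆ S) :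
    ∃ Γ, C ⊆ Γ ∧ Maximal (fun U : Set X => IsIrreducible U ∧ U ⊆ S) Γ := by
  have hpre : IsPreirreducible ((↑) ⁻¹' C : Set S) := by
    intro u v hu hv ⟨a, haC, hau⟩ ⟨b, hbC, hbv⟩
    obtain ⟨u', hu', rfl⟩ := isOpen_induced_iff.1 hu
    obtain ⟨v', hv', rfl⟩ := isOpen_induced_iff.1 hv
    obtain ⟨c, hc, hcu⟩ := hC.2 u' v' hu' hv' ⟨a, haC, hau⟩ ⟨b, hbC, hbv⟩
    exact ⟨⟨c, h hc⟩, hc, hcu⟩
  obtain ⟨t, ht, hCt, hmax⟩ := exists_preirreducible _ hpre
  have hirr : IsIrreducible ((↑) '' t : Set X) := by
    obtain ⟨c, hc⟩ := hC.1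
    exact ⟨⟨c, ⟨c, h hc⟩, hCt hc, rfl⟩, ht.image _ continuous_subtype_val.continuousOn⟩
  refine ⟨(↑) '' t, fun c hc => ⟨⟨c, h hc⟩, hCt hc, rfl⟩, ⟨hirr, Subtype.coe_image_subset _ _⟩, ?_⟩
  rintro U ⟨hU, hUS⟩ hle x hx
  have hUpre : IsPreirreducible ((↑) ⁻¹' U : Set S) := by
    intro u v hu hv ⟨a, haC, hau⟩ ⟨b, hbC, hbv⟩
    obtain ⟨u', hu', rfl⟩ := isOpen_induced_iff.1 hu
    obtain ⟨v', hv', rfl⟩ := isOpen_induced_iff.1 hv
    obtain ⟨c, hc, hcu⟩ := hU.2 u' v' hu' hv' ⟨a, haC, hau⟩ ⟨b, hbC, hbv⟩
    exact ⟨⟨c, hUS hc⟩, hc, hcu⟩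
  have he := hmax _ hUpre (fun y hy => hle ⟨y, hy, rfl⟩)
  exact ⟨⟨x, hUS hx⟩, he ▸ hx, rfl⟩


/-- The surjectivity of the degree map, which is the assertion in the published proof that uses
completeness of R and an algebraically closed residue field. Let R be a complete discrete valuation
ring with algebraically closed residue field k and fraction field K, C a smooth proper curve over K
with H⁰(C, O_C) = K and dim_K H¹(C, O_C) = g ≥ 2, X → Spec R a regular proper model of C, and Γ₁, …,
Γ_n the irreducible components of the closed fibre. Then for each i there is an invertible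
O_X-module M with deg_k(M|Γ_i) = 1 and deg_k(M|Γ_j) = 0 for j ≠ i; in other words the degree map
from invertible modules on X to ℤ^n is surjective. (The published proposition, which also assumes
that the multiplicities of the Γ_j have no common divisor, is the exact sequence 0 → Pic⁰ X → Pic C
→ G → 0 with Pic⁰ X the classes of degree zero on every Γ_j and G the cokernel of the intersection
matrix; its other constituents — the kernel of restriction to C is generated by the O_X(Γ_j), a
class of degree zero on every Γ_j and trivial on C is trivial when the multiplicities are coprime,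
and the kernel of the induced map on Pic C — hold over any discrete valuation ring and are stated
separately; this row is the assertion whose published argument uses that R is complete with
algebraically closed residue field.) -/
theorem result
    (R : Type u) [CommRing R] [IsDomain R] [IsDiscreteValuationRing R]
    [IsAdicComplete (IsLocalRing.maximalIdeal R) R]
    (hk : IsAlgClosed (IsLocalRing.ResidueField R))
    (C : Scheme.{u}) (fC : C ⟶ (Spec (CommRingCat.of (FractionRing R)))) [IsProper fC] [Smooth fC]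
    (hC0 : Models.hRank (FractionRing R) C fC (Coh.structureModule C) 0 = 1)
    (g : ℕ) (hg2 : 2 ≤ g) (hg : Models.curveGenus (FractionRing R) C fC = g)
    (X : Scheme.{u}) (p : X ⟶ (Spec (CommRingCat.of R))) (hX : Models.IsRegularProperModel R X p C fC)
    {n : ℕ} (Γ : Fin n → ArSurf.VertComp R (Over.mk p)) (hΓ : Models.IsComponentList R (Over.mk p) Γ)
    (i : Fin n) :
    ∃ M : X.Modules, PicF.IsInvertible M ∧
      ∀ j : Fin n, ArSurf.inter R (Over.mk p) M (Γ j) = if j = i then 1 else 0 := by
  haveI := hk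
  haveI : HenselianLocalRing R := henselianLocalRing
  obtain ⟨⟨hflat, hlft, -, gC, hgC⟩, hp, hreg⟩ := hX
  haveI := hflat
  haveI := hp
  haveI : IsLocallyNoetherian X := LocallyOfFiniteType.isLocallyNoetherian p
  haveI : CompactSpace X := QuasiCompact.compactSpace_of_compactSpace p
  haveI : AlgebraicGeometry.IsNoetherian X := ⟨⟩
  haveI : Smooth fC := inferInstance
  haveI hCi : IsIntegral C := isIntegral_generic fC hC0
  haveI : IsIntegral X := isIntegral_model hgC hreg
  have hG : FibreGood (Over.mk p) := ⟨hreg, ‹_›, ‹_›, hflat⟩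
  haveI : IsProper (Over.mk p).hom := hp
  haveI : AlgebraicGeometry.IsNoetherian (Over.mk p).left := ‹AlgebraicGeometry.IsNoetherian X›
  haveI : IsIntegral (Over.mk p).left := ‹IsIntegral X›
  have hNoe : ∀ j, AlgebraicGeometry.IsNoetherian (Γ j).curve.left := fun j =>
    haveI := isProper_vertComp (Γ j)
    EulerIneqLib.isNoetherian_proper (X := (Γ j).curve.left) (IsLocalRing.ResidueField R)
  obtain ⟨hco, hinj, -⟩ := hG.componentList hΓ
  let γ : Fin n → X := fun j => Models.genPtOf R (Over.mk p) (Γ j)
  have hrange : ∀ j, Set.range (Γ j).ι = closure {γ j} := fun j => range_vertComp (Γ j)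
  have hvert : ∀ j c, p ((Γ j).ι c) = IsLocalRing.closedPoint R := fun j c => vertComp_vertical (Γ j) c
  have hcover : ∀ y : X, p y = IsLocalRing.closedPoint R → ∃ j, y ∈ Set.range (Γ j).ι := by
    intro y hy
    obtain ⟨U, hU, hUmax⟩ := exists_maximal_irreducible (C := closure {y}) isIrreducible_singleton.closure
      (closure_minimal (Set.singleton_subset_iff.2 (show y ∈ Models.specialFibreSet R (Over.mk p) from hy))
        (Models.isClosed_specialFibreSet R (Over.mk p)))
    obtain ⟨j, hj⟩ := hΓ.2.ge hUmax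
    exact ⟨j, hj.ge (hU (subset_closure rfl))⟩
  -- the curve
  let kk := IsLocalRing.ResidueField R
  let E := (Γ i).curve.left
  haveI : IsIntegral E := (Γ i).isIntegral
  haveI hEp : IsProper (E ↘ Spec (CommRingCat.of kk)) := isProper_vertComp (Γ i)
  haveI := EulerIneqLib.isNoetherian_proper (X := E) kk
  haveI : JacobsonSpace E := LocallyOfFiniteType.jacobsonSpace (E ↘ Spec (CommRingCat.of kk))
  have hEpts : ∀ e : E, e ≠ genericPoint E → IsClosed ({e} : Set E) := fun e he =>
    isClosed_singleton_of_ne_generic (Γ i).dim_eq.le he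
  obtain ⟨hbad, -⟩ := TFCurvSSLib.finite_nonregular kk (X := E) (Γ i).dim_eq
  let B : Set E := {e | ¬ IsRegularLocalRing (E.presheaf.stalk e)} ∪ ⋃ j ∈ {j | j ≠ i}, (Γ i).ι ⁻¹' Set.range (Γ j).ι
  have hgenE : ∀ j, j ≠ i → (Γ i).ι (genericPoint E) ∉ Set.range (Γ j).ι := by
    intro j hj hmem
    rw [hrange j] at hmem
    refine hj (hinj ?_)
    have h1 : γ j ⤳ γ i := specializes_iff_mem_closure.2 hmem
    by_contra hne
    have h3 := S8909.succ_le h1 hne
    rw [hco i, hco j] at h3
    exact absurd h3 (by decide)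
  have hBfin : B.Finite := hbad.union ((Set.toFinite _).biUnion fun j hj =>
    finite_of_closed_not_generic (Γ i).dim_eq.le
      ((Γ j).ι.isClosedEmbedding.isClosed_range.preimage (Γ i).ι.continuous) (hgenE j hj))
  obtain ⟨c, hcB, hcc⟩ : ∃ c, c ∉ B ∧ IsClosed ({c} : Set E) := by
    have hBc : IsClosed (B \ {genericPoint E}) := by
      have h1 : (B \ {genericPoint E}).Finite := hBfin.sdiff
      rw [← Set.biUnion_of_singleton (B \ {genericPoint E})]
      exact h1.isClosed_biUnion fun e he => hEpts e he.2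
    obtain ⟨c, hc, hcc⟩ := nonempty_inter_closedPoints (Z := (B \ {genericPoint E})ᶜ)
      ⟨genericPoint E, fun h => h.2 rfl⟩ hBc.isOpen_compl.isLocallyClosed
    refine ⟨c, fun h => hc ⟨h, fun (he : c = genericPoint E) => ?_⟩, hcc⟩
    have h0 := genericPoint_closure (α := E)
    rw [← he, IsClosed.closure_eq hcc] at h0
    have h1 := topologicalKrullDim_zero_of_discreteTopology ({c} : Set E)
    rw [h0, (Homeomorph.Set.univ E).isHomeomorph.topologicalKrullDim_eq, (Γ i).dim_eq] at h1
    exact absurd h1 (by norm_num)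
  have hcne : c ≠ genericPoint E := fun he => by
    have h0 := genericPoint_closure (α := E)
    rw [← he, IsClosed.closure_eq hcc] at h0
    have h1 := topologicalKrullDim_zero_of_discreteTopology ({c} : Set E)
    rw [h0, (Homeomorph.Set.univ E).isHomeomorph.topologicalKrullDim_eq, (Γ i).dim_eq] at h1
    exact absurd h1 (by norm_num)
  haveI hcreg : IsRegularLocalRing (E.presheaf.stalk c) := not_not.1 fun h => hcB (Or.inl h)
  let x : X := (Γ i).ι c
  have hxc : IsClosed ({x} : Set X) := by
    rw [show ({x} : Set X) = (Γ i).ι '' {c} from (Set.image_singleton).symm]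
    exact (Γ i).ι.isClosedEmbedding.isClosedMap _ hcc
  have hxonly : ∀ j, j ≠ i → x ∉ Set.range (Γ j).ι := fun j hj hm => hcB (Or.inr (Set.mem_biUnion hj hm))
  let ρ := (Γ i).ι.stalkMap c
  have hρ : Function.Surjective ρ.hom := (Γ i).ι.stalkMap_surjective c
  -- a parameter on the curve
  haveI : IsNoetherianRing (E.presheaf.stalk c) := inferInstance
  obtain ⟨t, ht⟩ : ∃ t : E.presheaf.stalk c, maximalIdeal _ = Ideal.span {t} :=
    exists_uniformizer (Γ i).dim_eq.le c
  have ht0 : t ≠ 0 := fun h0 => by
    rw [h0, Ideal.span_singleton_zero] at ht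
    obtain ⟨g, hg⟩ := exists_prime_of_specializes (genericPoint_specializes c)
    let m : Spec (E.presheaf.stalk c) := IsLocalRing.closedPoint (E.presheaf.stalk c)
    have : g = m := PrimeSpectrum.ext (le_antisymm (IsLocalRing.le_maximalIdeal g.isPrime.ne_top)
      (ht.le.trans bot_le))
    rw [this, Scheme.fromSpecStalk_closedPoint] at hg
    exact hcne hg
  obtain ⟨a, ha⟩ := hρ t
  obtain ⟨P, hP⟩ := exists_prime_of_specializes (show γ i ⤳ x from
    specializes_iff_mem_closure.2 ((hrange i).le ⟨c, rfl⟩))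
  have hPker : RingHom.ker ρ.hom = P.asIdeal := by
    obtain ⟨g, hg⟩ := exists_prime_of_specializes (genericPoint_specializes c)
    let o : Spec (E.presheaf.stalk c) := ⟨⊥, Ideal.isPrime_bot⟩
    have hgo : g = o := PrimeSpectrum.ext (le_antisymm
      ((asIdeal_le_iff g o).2 (hg ▸ genericPoint_specializes _)) bot_le)
    rw [hgo] at hg
    have h : Spec.map ρ o = P := by
      apply fromSpecStalk_inj
      rw [← Scheme.Hom.comp_apply, Scheme.SpecMap_stalkMap_fromSpecStalk, Scheme.Hom.comp_apply, hg]
      exact hP.symm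
    rw [← h]
    exact RingHom.ker_eq_comap_bot _
  have haP : a ∉ P.asIdeal := fun h => ht0 (by rw [← ha]; exact RingHom.mem_ker.1 (hPker ▸ h))
  have ham : a ∈ maximalIdeal (X.presheaf.stalk x) := fun hu => by
    have hu' : IsUnit t := ha ▸ hu.map ρ.hom
    have h1 := (maximalIdeal.isMaximal (E.presheaf.stalk c)).ne_top
    rw [ht, Ideal.span_singleton_eq_top.2 hu'] at h1
    exact h1 rfl
  haveI : IsNoetherianRing (X.presheaf.stalk x) := inferInstance
  haveI : (maximalIdeal (X.presheaf.stalk x)).IsPrime := (maximalIdeal.isMaximal _).isPrime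
  obtain ⟨q₀, hq₀, -⟩ := Ideal.exists_minimalPrimes_le
    (show Ideal.span {a} ≤ maximalIdeal (X.presheaf.stalk x) from (Ideal.span_singleton_le_iff_mem _).2 ham)
  haveI := hq₀.1.1
  let Q : Spec (X.presheaf.stalk x) := ⟨q₀, hq₀.1.1⟩
  have haQ : a ∈ Q.asIdeal := hq₀.1.2 (Ideal.mem_span_singleton_self a)
  have hQh : Q.asIdeal.height ≤ 1 := Ideal.height_le_one_of_isPrincipal_of_mem_minimalPrimes (Ideal.span {a}) q₀ hq₀
  let h := X.fromSpecStalk x Q
  have hhx : h ⤳ x := fromSpecStalk_le Q
  -- the point `h` has codimension one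
  have hη : ∀ y : X, y ⤳ h → y ≠ h → y = genericPoint X := by
    intro y hy hne
    obtain ⟨q, hq⟩ := exists_prime_of_specializes (hy.trans hhx)
    have hle : q.asIdeal ≤ Q.asIdeal := (asIdeal_le_iff q Q).2 (hq ▸ hy)
    have hlt : q.asIdeal < Q.asIdeal := lt_of_le_of_ne hle fun e => hne (hq ▸ congrArg (X.fromSpecStalk x) (PrimeSpectrum.ext e))
    haveI := q.isPrime
    have h1 : q.asIdeal.height < 1 := lt_of_lt_of_le (Ideal.height_strict_mono_of_isPrime hlt) hQh
    have h2 : q.asIdeal ∈ minimalPrimes (X.presheaf.stalk x) :=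
      Ideal.height_eq_zero_iff.1 (Order.lt_one_iff.1 h1)
    obtain ⟨g, hg⟩ := exists_prime_of_specializes (genericPoint_specializes x)
    have h3 : g.asIdeal ≤ q.asIdeal := (asIdeal_le_iff g q).2 (hg ▸ genericPoint_specializes _)
    have h4 : q = g := PrimeSpectrum.ext (le_antisymm (h2.2 ⟨g.isPrime, bot_le⟩ h3) h3)
    rw [← hq, h4, hg]
  have hhfib : p h ≠ IsLocalRing.closedPoint R := by
    intro hh
    obtain ⟨j, hj⟩ := hcover h hh
    have hji : j = i := by
      by_contra hne
      exact hxonly j hne (hhx.mem_closed (Γ j).ι.isClosedEmbedding.isClosed_range hj)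
    subst hji
    obtain ⟨e, he⟩ := hj
    by_cases heg : e = genericPoint E
    · have : Q = P := fromSpecStalk_inj (by rw [hP, show X.fromSpecStalk x Q = h from rfl, ← he, heg]; rfl)
      exact haP (this ▸ haQ)
    · have hec : e = c := by
        have h1 : e ⤳ c := ((Γ j).ι.isClosedEmbedding.isInducing.specializes_iff).1
          (show (Γ j).ι.base e ⤳ (Γ j).ι.base c from he ▸ hhx)
        exact ((hEpts e heg).closure_eq.subset (specializes_iff_mem_closure.1 h1) :).symm
      subst hec
      have hγne : γ j ≠ x := fun e' => hcne ((Γ j).ι.isClosedEmbedding.injective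
        (show (Γ j).ι.base e = (Γ j).ι.base (genericPoint E) from e'.symm))
      have := hη (γ j) (he ▸ specializes_iff_mem_closure.2 ((hrange j).le ⟨e, rfl⟩)) (he ▸ hγne)
      exact genPtOf_ne (R := R) (hco j) this
  have hco1 : Order.coheight h = 1 := by
    have hne : h ≠ genericPoint X := fun e => by
      have : Q.asIdeal ≤ P.asIdeal := (asIdeal_le_iff Q P).2
        (show h ⤳ X.fromSpecStalk x P from e ▸ genericPoint_specializes _)
      exact haP (this haQ)
    refine le_antisymm ?_ ?_
    · rw [show (1 : ℕ∞) = ((1 : ℕ) : ℕ∞) from rfl, Order.coheight_le_coe_iff]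
      intro y hy
      have hyh : y ⤳ h := Scheme.le_iff_specializes.1 hy.le
      obtain rfl := hη y hyh fun e => hy.ne e.symm
      rw [show Order.coheight (genericPoint X) = 0 from Order.coheight_eq_zero.2
        fun z _ => Scheme.le_iff_specializes.2 (genericPoint_specializes z)]
      norm_num
    · exact le_trans (by simp) (S8909.succ_le (genericPoint_specializes h) (Ne.symm hne))
  have hhnot : ∀ j, γ j ∉ (cl h).support := fun j hj => by
    have hne : h ≠ γ j := fun e => hhfib (e ▸ hvert j _)
    have h3 := S8909.succ_le (mem_support_cl.1 hj) hne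
    rw [hco1, hco j] at h3
    exact absurd h3 (by decide)
  -- the closure of `h` meets the fibre only in `x`
  let D := cl h
  haveI : IsIntegral D.subscheme := CurveLib.isIntegral_vanishingIdeal isClosed_closure isIrreducible_singleton.closure
  have hD : BlowUp.IsEffCartierIdeal D := isEffCartier_closure hreg h hco1
  let S : Set X := {s | s ∈ D.support ∧ p s = IsLocalRing.closedPoint R}
  have hSj : ∀ s ∈ S, ∃ j, ∃ e : (Γ j).curve.left, (Γ j).ι e = s ∧ e ≠ genericPoint (Γ j).curve.left := by
    intro s hs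
    obtain ⟨j, e, he⟩ := hcover s hs.2
    exact ⟨j, e, he, fun heg => hhnot j (show γ j ∈ D.support from (show γ j = s by rw [← he, heg]; rfl) ▸ hs.1)⟩
  haveI := hNoe
  have hScl : ∀ s ∈ S, IsClosed ({s} : Set X) := by
    intro s hs
    obtain ⟨j, e, he, heg⟩ := hSj s hs
    rw [← he, ← Set.image_singleton]
    exact (Γ j).ι.isClosedEmbedding.isClosedMap _ (isClosed_singleton_of_ne_generic (Γ j).dim_eq.le heg)
  have hSfin : S.Finite := by
    have h1 : (⋃ j : Fin n, (Γ j).ι '' ((Γ j).ι ⁻¹' (D.support : Set X))).Finite := Set.finite_iUnion fun j =>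
      (finite_of_closed_not_generic (Γ j).dim_eq.le (D.support.isClosed.preimage (Γ j).ι.continuous)
        (hhnot j)).image _
    refine h1.subset fun s hs => ?_
    obtain ⟨j, e, he, -⟩ := hSj s hs
    exact Set.mem_iUnion.2 ⟨j, e, show (Γ j).ι e ∈ D.support from he ▸ hs.1, he⟩
  have hgenfib : ∀ y : X, y ∈ D.support → p y ≠ IsLocalRing.closedPoint R → y = h := by
    intro y hy hyp
    obtain ⟨s, hsy, hs⟩ : ∃ s, y ⤳ s ∧ p s = IsLocalRing.closedPoint R := by
      obtain ⟨s, hs, hs'⟩ : IsLocalRing.closedPoint R ∈ p.base '' closure {y} := by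
        exact ((IsLocalRing.specializes_closedPoint (p y)).mem_closed (p.isClosedMap _ isClosed_closure)
          ⟨y, subset_closure rfl, rfl⟩)
      exact ⟨s, specializes_iff_mem_closure.2 hs, hs'⟩
    have hhy := mem_support_cl.1 hy
    have hsS : s ∈ S := ⟨hsy.mem_closed D.support.isClosed hy, hs⟩
    obtain ⟨q, hq⟩ := exists_prime_of_specializes hsy
    obtain ⟨q₁, hq₁⟩ := exists_prime_of_specializes (hhy.trans hsy)
    obtain ⟨π, hπ⟩ := exists_detect p s
    have hle : q₁.asIdeal ≤ q.asIdeal := (asIdeal_le_iff q₁ q).2 (hq₁ ▸ hq ▸ hhy)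
    let f := Ideal.Quotient.mk q₁.asIdeal
    haveI := q₁.isPrime
    haveI := q.isPrime
    have hker : RingHom.ker f ≤ q.asIdeal := by rw [Ideal.mk_ker]; exact hle
    haveI : (q.asIdeal.map f).IsPrime := Ideal.map_isPrime_of_surjective Ideal.Quotient.mk_surjective hker
    haveI : IsLocalRing (X.presheaf.stalk s ⧸ q₁.asIdeal) := IsLocalRing.of_surjective' f Ideal.Quotient.mk_surjective
    haveI : IsNoetherianRing (X.presheaf.stalk s) := inferInstance
    let m := maximalIdeal (X.presheaf.stalk s ⧸ q₁.asIdeal)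
    have hmin : m ∈ (Ideal.span {f π}).minimalPrimes := by
      have hπm : f π ∈ m := by
        have h1 : π ∈ (IsLocalRing.closedPoint (X.presheaf.stalk s)).asIdeal :=
          (hπ (IsLocalRing.closedPoint (X.presheaf.stalk s) : Spec (X.presheaf.stalk s))).2 (by rw [Scheme.fromSpecStalk_closedPoint]; exact hs)
        have h2 : m.comap f = maximalIdeal _ :=
          IsLocalRing.eq_maximalIdeal (Ideal.comap_isMaximal_of_surjective f Ideal.Quotient.mk_surjective)
        exact h2.ge h1
      refine ⟨⟨inferInstance, (Ideal.span_singleton_le_iff_mem _).2 hπm⟩, fun r hr hrm => ?_⟩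
      haveI := hr.1
      let rs : Spec (X.presheaf.stalk s) := ⟨r.comap f, inferInstance⟩
      have hr1 : X.fromSpecStalk s rs ∈ S := by
        refine ⟨mem_support_cl.2 ?_, (hπ rs).1 (hr.2 (Ideal.mem_span_singleton_self _))⟩
        rw [← hq₁]
        refine (asIdeal_le_iff q₁ rs).1 fun z hz => ?_
        show f z ∈ r
        rw [show f z = 0 from Ideal.Quotient.eq_zero_iff_mem.2 hz]
        exact r.zero_mem
      have hr2 : s = X.fromSpecStalk s rs :=
        (hScl _ hr1).closure_eq.subset (specializes_iff_mem_closure.1 (fromSpecStalk_le rs))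
      let cs : Spec (X.presheaf.stalk s) := IsLocalRing.closedPoint (X.presheaf.stalk s)
      have hr3 : rs = cs := fromSpecStalk_inj (hr2.symm.trans Scheme.fromSpecStalk_closedPoint.symm)
      have h2 : m.comap f = maximalIdeal _ :=
        IsLocalRing.eq_maximalIdeal (Ideal.comap_isMaximal_of_surjective f Ideal.Quotient.mk_surjective)
      exact (Ideal.comap_le_comap_iff_of_surjective f Ideal.Quotient.mk_surjective _ _).1
        (h2.le.trans (congrArg PrimeSpectrum.asIdeal hr3).ge)
    have hm1 : m.height ≤ 1 := Ideal.height_le_one_of_isPrincipal_of_mem_minimalPrimes _ m hmin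
    have hne : q.asIdeal.map f ≠ m := fun e => hyp (by
      rw [← hq]
      refine (hπ q).1 ?_
      have h1 : f π ∈ q.asIdeal.map f := e ▸ hmin.1.2 (Ideal.mem_span_singleton_self _)
      have h2 : π ∈ (q.asIdeal.map f).comap f := h1
      rwa [Ideal.comap_map_of_surjective f Ideal.Quotient.mk_surjective, ← RingHom.ker_eq_comap_bot,
        sup_eq_left.2 hker] at h2)
    have h1 : (q.asIdeal.map f).height < 1 := lt_of_lt_of_le (Ideal.height_strict_mono_of_isPrime
      (lt_of_le_of_ne (IsLocalRing.le_maximalIdeal (Ideal.IsPrime.ne_top inferInstance)) hne)) hm1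
    have h2 := Ideal.height_eq_zero_iff.1 (Order.lt_one_iff.1 h1)
    rw [IsDomain.minimalPrimes_eq_singleton_bot, Set.mem_singleton_iff, Ideal.map_eq_bot_iff_le_ker,
      Ideal.mk_ker] at h2
    rw [← hq, ← hq₁, PrimeSpectrum.ext (le_antisymm h2 hle)]
  have hSx : ∀ s ∈ S, s = x := by
    intro s hs
    let qH := D.subschemeι ≫ p
    have hfin : ∀ y, (qH ⁻¹' {y}).Finite := by
      intro y
      refine (Set.Finite.preimage (D.subschemeι.isClosedEmbedding.injective.injOn) (hSfin.insert h)).subset ?_
      intro z hz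
      have hzD : D.subschemeι z ∈ D.support := (Scheme.IdealSheafData.range_subschemeι D).le ⟨z, rfl⟩
      by_cases hzs : p (D.subschemeι z) = IsLocalRing.closedPoint R
      · exact Or.inr ⟨hzD, hzs⟩
      · exact Or.inl (hgenfib _ hzD hzs)
    obtain ⟨x', hx'⟩ : x ∈ Set.range D.subschemeι := by
      rw [Scheme.IdealSheafData.range_subschemeι]; exact mem_support_cl.2 hhx
    obtain ⟨s', hs'⟩ : s ∈ Set.range D.subschemeι := by
      rw [Scheme.IdealSheafData.range_subschemeι]; exact hs.1
    have hcl : ∀ (z : D.subscheme) (w : X), D.subschemeι z = w → IsClosed ({w} : Set X) → IsClosed ({z} : Set D.subscheme) := by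
      intro z w hzw hw
      have : ({z} : Set D.subscheme) = D.subschemeι ⁻¹' {w} := by
        ext z'
        exact ⟨fun e => (congrArg D.subschemeι e).trans hzw, fun e => D.subschemeι.isClosedEmbedding.injective (e.trans hzw.symm)⟩
      rw [this]; exact hw.preimage D.subschemeι.continuous
    rw [← hs', ← hx', closedPoint_unique qH hfin (hcl s' s hs' (hScl s hs)) (hcl x' x hx' hxc)]
  -- the answer
  obtain ⟨M, hM⟩ := exists_inverse_idealMod hD
  refine ⟨M, isInvertible_inverse_ideal hM, fun j => ?_⟩
  by_cases hji : j = i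
  · subst hji
    rw [if_pos rfl, inter_eq_finrank (Γ j) hD (hhnot j) hM]
    have hDc : D.comap (Γ j).ι = cl c := by
      refine ext_stalk fun e => ?_
      by_cases hec : e = c
      · subst hec
        rw [stalkIdeal_cl_self, IdealStalkLib.stalkIdeal_comap]
        refine Eq.trans (congrArg (Ideal.map _) (stalkIdeal_cl_prime Q)) ?_
        refine le_antisymm (Ideal.map_le_iff_le_comap.2 ?_) ?_
        · rw [IsLocalRing.maximalIdeal_comap]
          exact IsLocalRing.le_maximalIdeal Q.isPrime.ne_top
        · rw [ht, Ideal.span_singleton_le_iff_mem, ← ha]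
          exact Ideal.mem_map_of_mem _ haQ
      · rw [IdealMulLib.stalkIdeal_eq_top (cl c) (fun hm => hec (hcc.closure_eq.subset
          (specializes_iff_mem_closure.1 (mem_support_cl.1 hm)))), IdealStalkLib.stalkIdeal_comap]
        exact (congrArg (Ideal.map _) (IdealMulLib.stalkIdeal_eq_top D (fun hm => hec ((Γ j).ι.isClosedEmbedding.injective
            (hSx _ ⟨hm, hvert j e⟩))))).trans (Ideal.map_top _)
    rw [hDc, finrank_quotMod_point kk E c]
    rfl
  · rw [if_neg hji]
    refine ((inter_nonneg (Γ j) hD (hhnot j) hM).2).2 (Set.disjoint_left.2 ?_)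
    rintro _ ⟨e, rfl⟩ he
    exact hxonly j hji ⟨e, hSx _ ⟨he, hvert j e⟩⟩

end Groth.Agent.S19553
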