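import Groth.Statements.S19560
import Groth.Prelude.Def_W4c1limliniiiiRamP1
import Mathlib

set_option autoImplicit false
universe u
open W4c1limliniiii

namespace Groth.Agent.S19560

open Polynomial

lemma key {k : Type*} [Field k] (p : ℕ) [CharP k p] (a : k) (s t : k[X]) (hs : s ≠ 0) (hsa : s.eval a = 0)
    (hta : t.eval a ≠ 0) (hW : wronskian s t ≠ 0) (e : ℕ) (he : (wronskian s t).rootMultiplicity a + 1 = e)
    (hp : p = 0 ∨ e - 1 < p) : s.rootMultiplicity a = e ∧ ¬ p ∣ e := by
  obtain ⟨u, hu, hdiv⟩ := exists_eq_pow_rootMultiplicity_mul_and_not_dvd s hs a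
  obtain ⟨n, hn⟩ : ∃ n, s.rootMultiplicity a = n + 1 := Nat.exists_eq_succ_of_ne_zero
    ((rootMultiplicity_pos hs).2 hsa).ne'
  rw [hn] at hu ⊢
  set B := (X - C a) * (u * derivative t - derivative u * t) - C ((n + 1 : ℕ) : k) * (u * t)
  have hfac : wronskian s t = (X - C a) ^ n * B := by
    rw [wronskian, hu, derivative_mul, derivative_X_sub_C_pow]
    simp only [Nat.add_sub_cancel, B]
    ring
  have hB : B ≠ 0 := fun h => hW (by rw [hfac, h, mul_zero])
  have hm : (wronskian s t).rootMultiplicity a = n + B.rootMultiplicity a := by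
    rw [hfac, rootMultiplicity_mul (mul_ne_zero (pow_ne_zero _ (X_sub_C_ne_zero a)) hB),
      rootMultiplicity_X_sub_C_pow]
  have hua : u.eval a ≠ 0 := fun h => hdiv (dvd_iff_isRoot.2 h)
  by_cases hc : ((n + 1 : ℕ) : k) = 0
  · exfalso
    have hdvd := (CharP.cast_eq_zero_iff k p _).1 hc
    have hroot : B.IsRoot a := by simp [B, IsRoot, hc]
    have := (rootMultiplicity_pos hB).2 hroot
    rcases hp with rfl | hp
    · simp at hdvd
    · have := Nat.le_of_dvd (by omega) hdvd
      omega
  · have hroot : ¬ B.IsRoot a := by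
      simp only [B, IsRoot, eval_sub, eval_mul, eval_X, eval_C, sub_self, zero_mul, zero_sub, neg_eq_zero]
      exact mul_ne_zero hc (mul_ne_zero hua hta)
    have h0 := rootMultiplicity_eq_zero (p := B) hroot
    have hne : n + 1 = e := by omega
    exact ⟨hne, fun h => hc ((CharP.cast_eq_zero_iff k p _).2 (hne ▸ h))⟩

open Polynomial in
/-- Let k be an algebraically closed field of characteristic p (a prime or zero) and let F, G be
polynomials spanning a base-point-free pencil V of degree d (a two-dimensional space of polynomials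
of degree at most d containing one of degree d and with no common zero in k), so that V encodes a
degree-d self-map F/G of the projective line up to automorphisms of the target. Suppose the
Wronskian W = F′G − FG′ is non-zero and vanishes at the point a to order exactly e − 1 with e ≥ 1,
and that p = 0 or e − 1 < p. Then the map is tamely ramified at a with index e: the largest order of
vanishing at a of a non-zero member of V is e, and p does not divide e. (The hypothesis W ≠ 0 makes
the order of vanishing meaningful; for W = 0 the map is inseparable.) -/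
theorem result
    (k : Type u) [Field k] [IsAlgClosed k] (p : ℕ) [CharP k p]
    (d : ℕ) (F G : k[X]) (hV : W4c1limliniiii.IsPencil d (Submodule.span k {F, G}))
    (hW : Polynomial.wronskian F G ≠ 0) (a : k) (e : ℕ)
    (he : (Polynomial.wronskian F G).rootMultiplicity a + 1 = e) (hp : p = 0 ∨ e - 1 < p) :
    W4c1limliniiii.HasRamIdx (Submodule.span k {F, G}) a e ∧ ¬ p ∣ e := by
  obtain ⟨t, ht, hta⟩ := hV.2.2.2 a
  set V := Submodule.span k ({F, G} : Set k[X])
  have hall : ∀ s ∈ V, s ≠ 0 → s.eval a = 0 → s.rootMultiplicity a = e ∧ ¬ p ∣ e := by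
    intro s hs hs0 hsa
    obtain ⟨a1, b1, rfl⟩ := Submodule.mem_span_pair.1 hs
    obtain ⟨a2, b2, rfl⟩ := Submodule.mem_span_pair.1 ht
    set c := a1 * b2 - b1 * a2
    have hWst : wronskian (a1 • F + b1 • G) (a2 • F + b2 • G) = C c * wronskian F G := by
      simp only [wronskian, smul_eq_C_mul, derivative_add, derivative_C_mul, c, map_sub, map_mul]
      ring
    have hc : c ≠ 0 := by
      intro hc
      simp only [eval_add, eval_smul, smul_eq_mul] at hsa hta
      have e1 : a1 * (a2 * F.eval a + b2 * G.eval a) = 0 := by linear_combination a2 * hsa + G.eval a * hc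
      have e2 : b1 * (a2 * F.eval a + b2 * G.eval a) = 0 := by linear_combination b2 * hsa - F.eval a * hc
      have h1 := (mul_eq_zero.1 e1).resolve_right hta
      have h2 := (mul_eq_zero.1 e2).resolve_right hta
      simp [h1, h2] at hs0
    refine key p a _ _ hs0 hsa hta ?_ e ?_ hp
    · rw [hWst]; exact mul_ne_zero (C_ne_zero.2 hc) hW
    · rw [hWst, rootMultiplicity_mul (mul_ne_zero (C_ne_zero.2 hc) hW), rootMultiplicity_C, zero_add]
      exact he
  haveI : Module.Finite k V := Module.finite_of_finrank_eq_succ hV.2.1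
  obtain ⟨⟨s, hs⟩, hsker, hs0⟩ : ∃ s : V, ((leval a).comp V.subtype) s = 0 ∧ s ≠ 0 := by
    by_contra h
    push Not at h
    have := LinearMap.finrank_le_finrank_of_injective (f := (leval a).comp V.subtype)
      (LinearMap.ker_eq_bot.1 (LinearMap.ker_eq_bot'.2 h))
    rw [hV.2.1, Module.finrank_self] at this
    omega
  have h0 := hall s hs (fun h => hs0 (Subtype.ext h)) hsker
  refine ⟨⟨⟨s, hs, fun h => hs0 (Subtype.ext h), h0.1.ge⟩, fun x hx hx0 => ?_⟩, h0.2⟩
  by_cases hxa : x.eval a = 0
  · exact (hall x hx hx0 hxa).1.le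
  · rw [rootMultiplicity_eq_zero (p := x) hxa]; exact Nat.zero_le e

end Groth.Agent.S19560
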