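import Groth.Statements.S19562
import Mathlib

set_option autoImplicit false
universe u
open W4c1limliniiii

namespace Groth.Agent.S19562

lemma finrank_map_add {k W : Type*} [Field k] [AddCommGroup W] [Module k W] [FiniteDimensional k W] (G : W →ₗ[k] W) (S : Submodule k W) :
    Module.finrank k (S.map G) + Module.finrank k (LinearMap.ker G ⊓ S : Submodule k W) = Module.finrank k S := by
  have h := LinearMap.finrank_range_add_finrank_ker (G.comp S.subtype)
  rw [LinearMap.range_comp, Submodule.range_subtype, LinearMap.ker_comp] at h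
  have h2 : Module.finrank k (Submodule.comap S.subtype (LinearMap.ker G)) = Module.finrank k (LinearMap.ker G ⊓ S : Submodule k W) := by
    rw [← Submodule.finrank_map_subtype_eq, Submodule.map_comap_subtype, inf_comm]
  omega

lemma key {k W : Type*} [Field k] [AddCommGroup W] [Module k W] [FiniteDimensional k W] (F G : W →ₗ[k] W) (A B : Submodule k W)
    (hGF : G.comp F = 0) (hAB : A.map F ≤ B) (r : ℕ) (hB : Module.finrank k B = r) :
    (LinearMap.ker G ⊓ B ≤ A.map F) ↔ Module.finrank k (A.map F) + Module.finrank k (B.map G) = r := by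
  have h := finrank_map_add G B
  have hle : A.map F ≤ LinearMap.ker G ⊓ B := le_inf (by
    rintro _ ⟨x, _, rfl⟩
    exact LinearMap.congr_fun hGF x) hAB
  constructor
  · intro hh
    rw [le_antisymm hle hh]; omega
  · intro hh
    exact (Submodule.eq_of_le_of_finrank_eq hle (by omega)).ge

open TensorProduct in
/-- Let k be a field, 0 < r < d, and f_i, g_i (i < n) linear maps forward and backward between
consecutive ones of n + 1 copies of k^d, forming a linked Grassmannian over Spec k whose scalar s is
zero: every composite f_i ∘ g_i and g_i ∘ f_i vanishes, rank f_i + rank g_i ≥ d, and for consecutive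
indices im f_i ∩ ker f_{i+1} = 0 and im g_{i+1} ∩ ker g_i = 0. Let (V_i) be a k-valued point of the
linked Grassmannian of rank-r sub-bundles (subspaces V_i of k ⊗ k^d with quotient of rank d − r,
with f_i(V_i) ⊆ V_{i+1} and g_i(V_{i+1}) ⊆ V_i). Then (V_i) is exact, meaning ker g_i ∩ V_{i+1} ⊆
f_i(V_i) and ker f_i ∩ V_i ⊆ g_i(V_{i+1}) for all i, if and only if dim f_i(V_i) + dim g_i(V_{i+1})
= r for all i. (The published assertion is for points with values in an arbitrary scheme and also
says that f_i(V_i) and g_i(V_{i+1}) are then sub-bundles; this row is the case of a field, where the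
last clause is empty.) -/
theorem result (k : Type u) [Field k]
    (d r n : ℕ) (hr : 0 < r) (hrd : r < d) (f g : Fin n → ((Fin d → k) →ₗ[k] (Fin d → k)))
    (hI : ∀ i, (f i).comp (g i) = 0 ∧ (g i).comp (f i) = 0)
    (hII : ∀ i, d ≤ Module.finrank k (LinearMap.range (f i)) + Module.finrank k (LinearMap.range (g i)))
    (hIII : ∀ i j : Fin n, i.val + 1 = j.val →
      LinearMap.range (f i) ⊓ LinearMap.ker (f j) = ⊥ ∧
        LinearMap.range (g j) ⊓ LinearMap.ker (g i) = ⊥)
    (V : Fin (n + 1) → Module.Grassmannian k (k ⊗[k] (Fin d → k)) (d - r))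
    (hV : V ∈ W4c1limliniiii.LGPoints k d r n f g k) :
    W4c1limliniiii.IsExact k d r n f g k V ↔
      ∀ i : Fin n,
        Module.finrank k ↥(Submodule.map ((f i).baseChange k) (V i.castSucc).toSubmodule) +
          Module.finrank k ↥(Submodule.map ((g i).baseChange k) (V i.succ).toSubmodule) = r := by
  have hfr : ∀ i, Module.finrank k (V i).toSubmodule = r := fun i => by
    have h := Submodule.finrank_quotient_add_finrank (V i).toSubmodule
    have h1 : Module.finrank k ((k ⊗[k] (Fin d → k)) ⧸ (V i).toSubmodule) = d - r := by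
      have := (V i).rankAtStalk_eq default
      rwa [Module.rankAtStalk_eq_finrank_of_free] at this
    rw [h1, Module.finrank_tensorProduct, Module.finrank_self, Module.finrank_fin_fun] at h
    omega
  refine forall_congr' fun i => ?_
  have hz : ∀ a b : (Fin d → k) →ₗ[k] (Fin d → k), a.comp b = 0 → (a.baseChange k).comp (b.baseChange k) = 0 := fun a b h => by
    rw [← LinearMap.baseChange_comp, h, LinearMap.baseChange_zero]
  rw [key _ _ _ _ (hz _ _ (hI i).2) (hV i).1 r (hfr _), key _ _ _ _ (hz _ _ (hI i).1) (hV i).2 r (hfr _)]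
  constructor
  · exact fun h => h.1
  · exact fun h => ⟨h, by omega⟩

end Groth.Agent.S19562
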