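import Groth.Statements.S19565
import Mathlib

set_option autoImplicit false
universe u v w
open RootComb

namespace Groth.Agent.S19565



open RootPairing Submodule

variable {ι : Type u} [Finite ι] [DecidableEq ι] {k : Type v} [Field k] [CharZero k]
  {M : Type w} [AddCommGroup M] [Module k M] {N : Type w} [AddCommGroup N] [Module k N]
  (P : RootPairing ι k M N) [P.IsCrystallographic]

omit [Finite ι] [DecidableEq ι] [CharZero k] in
lemma pairingIn_of_sum (s : Finset ι) (f : ι → ℕ) {j l : ι}
    (h : P.root j = ∑ t ∈ s, f t • P.root t) :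
    ((P.pairingIn ℤ j l : ℤ) : k) = ((∑ t ∈ s, (f t : ℤ) * P.pairingIn ℤ t l : ℤ) : k) := by
  rw [Int.cast_sum]
  simp only [Int.cast_mul, Int.cast_natCast, ← eq_intCast (algebraMap ℤ k), algebraMap_pairingIn]
  simp only [← root_coroot'_eq_pairing, h, map_sum, map_nsmul, nsmul_eq_mul]
  refine Finset.sum_congr rfl fun t _ => ?_
  rw [map_mul, algebraMap_pairingIn, root_coroot'_eq_pairing]
  simp

omit [Finite ι] [DecidableEq ι] [P.IsCrystallographic] in
lemma coeff_eq_zero_of_mem_span (b : P.Base) {s U : Finset ι} (hs : s ⊆ b.support) (hU : U ⊆ s) (g : ι → k)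
    (h : ∑ t ∈ s, g t • P.root t ∈ span k (P.root '' ↑U)) {t : ι} (ht : t ∈ s) (htU : t ∉ U) : g t = 0 := by
  classical
  rw [mem_span_image_finset_iff_exists_fun k] at h
  obtain ⟨c, hc⟩ := h
  let c' : ι → k := fun i => if hi : i ∈ U then c ⟨i, hi⟩ else 0
  have hc' : ∑ i ∈ U, c' i • P.root i = ∑ t ∈ s, g t • P.root t := by
    rw [← hc, ← Finset.sum_attach, Finset.univ_eq_attach]
    exact Finset.sum_congr rfl fun i _ => by simp [c', i.2]
  have h2 : ∑ i ∈ s, (g i - c' i) • P.root i = 0 := by
    simp only [sub_smul, Finset.sum_sub_distrib]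
    rw [← hc', sub_eq_zero]
    exact Finset.sum_subset hU fun i _ hi => by simp [c', hi]
  have := linearIndepOn_iff'.mp b.linearIndepOn_root s (fun i => g i - c' i) (by exact_mod_cast hs) h2 t ht
  simpa [c', htU] using this

/-- `t` occurs in a root supported on `S` meeting `B`. -/
def Good (S B : Finset ι) (t : ι) : Prop :=
  ∃ (j : ι) (f : ι → ℕ), P.root j = ∑ x ∈ S, f x • P.root x ∧ 0 < f t ∧ ∃ y ∈ B, 0 < f y

omit [CharZero k] [DecidableEq ι] in
lemma pairingIn_neg [CharZero k] (b : P.Base) {S : Finset ι} (hS : S ⊆ b.support) {j : ι} {f : ι → ℕ}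
    (hj : P.root j = ∑ x ∈ S, f x • P.root x) {t l : ι} (ht : t ∈ S) (hft : 0 < f t) (hl : l ∈ b.support)
    (hfl : ∀ x ∈ S, x = l → f x = 0) (htl : P.pairingIn ℤ t l ≠ 0) : P.pairingIn ℤ j l < 0 := by
  have h := Int.cast_injective (α := k) (pairingIn_of_sum P S f (l := l) hj)
  rw [h]
  have hle : ∀ x ∈ S, (f x : ℤ) * P.pairingIn ℤ x l ≤ 0 := fun x hx => by
    by_cases hxl : x = l
    · rw [hfl x hx hxl]; simp
    · exact mul_nonpos_of_nonneg_of_nonpos (by positivity) (b.pairingIn_le_zero_of_ne hxl (hS hx) hl)
  have htne : t ≠ l := fun e => hft.ne' (hfl t ht e)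
  have hneg : (f t : ℤ) * P.pairingIn ℤ t l < 0 :=
    mul_neg_of_pos_of_neg (by exact_mod_cast hft)
      (lt_of_le_of_ne (b.pairingIn_le_zero_of_ne htne (hS ht) hl) htl)
  exact Finset.sum_neg' hle ⟨t, ht, hneg⟩

/-- Let Φ be a finite reduced crystallographic irreducible root system over a field of characteristic
zero, Δ a base of simple roots, I ⊆ Δ, and suppose the simple roots outside I are split into two
disjoint non-empty sets A and B. Then there are a simple root β ∈ A and a root δ such that δ is a
non-negative integer combination of the simple roots of I ∪ B (a positive root whose support avoids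
A), δ is not in the linear span of I (so δ is not a root of the Levi subsystem of I), and ⟨δ, β^∨⟩ <
0. (The published statement is made for the root system of a semisimple group; for a reducible
system such as A₁ × A₁ with I empty and A, B the two simple roots there is no such δ, and the
argument measures distances in a connected Dynkin diagram, so the root system is taken irreducible
here.) -/
theorem result
    {ι : Type u} [Finite ι] [DecidableEq ι] {k : Type v} [Field k] [CharZero k]
    {M : Type w} [AddCommGroup M] [Module k M] {N : Type w} [AddCommGroup N] [Module k N]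
    (P : RootPairing ι k M N) [P.IsCrystallographic] [P.IsReduced] [P.IsIrreducible] (b : P.Base)
    (I A B : Finset ι) (hcover : I ∪ A ∪ B = b.support) (hIA : Disjoint I A) (hIB : Disjoint I B)
    (hAB : Disjoint A B) (hA : A.Nonempty) (hB : B.Nonempty) :
    ∃ l ∈ A, ∃ j : ι, P.root j ∈ AddSubmonoid.closure (P.root '' ↑(I ∪ B)) ∧
      P.root j ∉ Submodule.span k (P.root '' ↑I) ∧ P.pairingIn ℤ j l < 0 := by
  classical
  set S := I ∪ B with hSdef
  have hS : S ⊆ b.support := fun x hx => by
    rw [← hcover]
    simp only [S, Finset.mem_union] at hx ⊢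
    tauto
  have hSA : ∀ x ∈ A, x ∉ S := fun x hx hxS => by
    rcases Finset.mem_union.mp hxS with h | h
    · exact Finset.disjoint_left.mp hIA h hx
    · exact Finset.disjoint_left.mp hAB hx h
  let T : Finset ι := S.filter fun t => Good P S B t
  have hBT : ∀ y ∈ B, y ∈ T := fun y hy => by
    refine Finset.mem_filter.mpr ⟨Finset.mem_union_right _ hy, y, fun x => if x = y then 1 else 0, ?_, by simp, y, hy, by simp⟩
    simp [Finset.sum_ite_eq', S, hy]
  by_contra hno
  push Not at hno
  have horth : ∀ t ∈ T, ∀ i ∈ b.support, i ∉ T → P.pairingIn ℤ t i = 0 := by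
    intro t ht i hi hiT
    by_contra hne
    obtain ⟨htS, j, f, hj, hft, y, hy, hfy⟩ := Finset.mem_filter.mp ht
    by_cases hiS : i ∈ S
    · have hfi : f i = 0 := by
        by_contra h
        exact hiT (Finset.mem_filter.mpr ⟨hiS, j, f, hj, Nat.pos_of_ne_zero h, y, hy, hfy⟩)
      have hlt := pairingIn_neg P b hS hj htS hft hi (fun x _ hx => hx ▸ hfi) hne
      let f' : ι → ℕ := fun x => f x + if x = i then 1 else 0
      have hsum : P.root j + P.root i = ∑ x ∈ S, f' x • P.root x := by
        simp [f', add_smul, Finset.sum_add_distrib, ← hj, Finset.sum_ite_eq', hiS]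
      have hne' : P.root j ≠ -P.root i := by
        intro h
        have h0 : ∑ x ∈ S, (f' x : k) • P.root x ∈ span k (P.root '' ↑(∅ : Finset ι)) := by
          simp only [Nat.cast_smul_eq_nsmul, ← hsum, h, neg_add_cancel]
          exact zero_mem _
        have := coeff_eq_zero_of_mem_span P b hS (Finset.empty_subset _) (fun x => (f' x : k)) h0 hiS (Finset.notMem_empty _)
        simp [f'] at this
        norm_cast at this
      obtain ⟨j', hj'⟩ := P.root_add_root_mem_of_pairingIn_neg hlt hne'
      exact hiT (Finset.mem_filter.mpr ⟨hiS, j', f', by rw [hj', hsum], by simp [f'], y, hy,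
        lt_of_lt_of_le hfy (Nat.le_add_right _ _)⟩)
    · have hiA : i ∈ A := by
        rw [← hcover] at hi
        simp only [S, Finset.mem_union] at hi hiS
        tauto
      have hmem : P.root j ∈ AddSubmonoid.closure (P.root '' ↑S) := by
        rw [hj]
        exact sum_mem fun x hx => AddSubmonoid.nsmul_mem _ (AddSubmonoid.subset_closure (s := P.root '' ↑S) ⟨x, hx, rfl⟩) _
      have hnot : P.root j ∉ span k (P.root '' ↑I) := by
        intro hsp
        rw [hj] at hsp
        simp only [← Nat.cast_smul_eq_nsmul k] at hsp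
        have := coeff_eq_zero_of_mem_span P b hS Finset.subset_union_left (fun x => (f x : k)) hsp
          (Finset.mem_union_right _ hy) (fun h => Finset.disjoint_left.mp hIB h hy)
        exact hfy.ne' (Nat.cast_eq_zero.mp this)
      exact (hno i hiA j hmem hnot).not_gt
        (pairingIn_neg P b hS hj htS hft hi (fun x hx e => absurd (e ▸ hx) hiS) hne)
  obtain ⟨y₀, hy₀⟩ := hB
  obtain ⟨a₀, ha₀⟩ := hA
  let q : Submodule k M := span k (P.root '' ↑T)
  have hinv : ∀ i ∈ b.support, q ∈ Module.End.invtSubmodule (P.reflection i : M →ₗ[k] M) := by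
    intro i hi
    rw [Module.End.mem_invtSubmodule, span_le]
    rintro _ ⟨t, ht, rfl⟩
    show P.reflection i (P.root t) ∈ q
    rw [reflection_apply_root]
    refine sub_mem (subset_span ⟨t, ht, rfl⟩) ?_
    by_cases hiT : i ∈ T
    · exact smul_mem _ _ (subset_span ⟨i, hiT, rfl⟩)
    · rw [← algebraMap_pairingIn P ℤ, horth t ht i hi hiT]
      simp
  have hq : q = ⊤ := IsIrreducible.eq_top_of_invtSubmodule_reflection q
    ((b.forall_mem_support_invtSubmodule_iff q).mp hinv) fun h => by
      have : P.root y₀ ∈ q := subset_span ⟨y₀, hBT y₀ hy₀, rfl⟩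
      rw [h, mem_bot] at this
      exact P.ne_zero y₀ this
  have ha : P.root a₀ ∈ q := hq ▸ Submodule.mem_top
  have hsup : a₀ ∈ b.support := by rw [← hcover]; simp [ha₀]
  exact hSA a₀ ha₀ (Finset.mem_filter.mp (by
    by_contra hna
    have h1 : ∑ t ∈ b.support, (if t = a₀ then (1:k) else 0) • P.root t ∈ span k (P.root '' ↑T) := by
      simpa [Finset.sum_ite_eq', hsup] using ha
    simpa using coeff_eq_zero_of_mem_span P b subset_rfl (fun x hx => hS (Finset.mem_filter.mp hx).1)
      (fun t => if t = a₀ then (1:k) else 0) h1 hsup hna : a₀ ∈ T)).1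


end Groth.Agent.S19565
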