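import Groth.Statements.S19567
import Mathlib
import Groth.Agent.PairHens.Nbhd
-- import your own Groth.Agent.* helpers here

set_option autoImplicit false
universe u
open Hensel

namespace Groth.Agent.S19567

/-- Let A be a ring and I an ideal of A, and consider étale A-algebras A' for which the induced map A/I
→ A'/IA' is bijective. (1) For any two such algebras A₁ and A₂ there is a third such algebra A₃
admitting A-algebra maps from both. (2) For any two A-algebra maps f, g : A₁ → A₂ between such
algebras there are such an algebra A₃ and an A-algebra map h : A₂ → A₃ with h ∘ f = h ∘ g. (All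
algebras are taken in the universe of A. Since A itself is such an algebra, (1) and (2) say that the
category of these algebras and A-algebra maps is filtered.) -/
theorem result (A : Type u) [CommRing A] (I : Ideal A) :
    (∀ (A₁ A₂ : Type u) [CommRing A₁] [Algebra A A₁] [Algebra.Etale A A₁] [CommRing A₂] [Algebra A A₂]
        [Algebra.Etale A A₂],
        Function.Bijective (Ideal.quotientMap (I.map (algebraMap A A₁)) (algebraMap A A₁) Ideal.le_comap_map) →
        Function.Bijective (Ideal.quotientMap (I.map (algebraMap A A₂)) (algebraMap A A₂) Ideal.le_comap_map) →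
          ∃ (A₃ : Type u) (_ : CommRing A₃) (_ : Algebra A A₃) (_ : Algebra.Etale A A₃),
            Function.Bijective (Ideal.quotientMap (I.map (algebraMap A A₃)) (algebraMap A A₃) Ideal.le_comap_map) ∧
              Nonempty (A₁ →ₐ[A] A₃) ∧ Nonempty (A₂ →ₐ[A] A₃)) ∧
    (∀ (A₁ A₂ : Type u) [CommRing A₁] [Algebra A A₁] [Algebra.Etale A A₁] [CommRing A₂] [Algebra A A₂]
        [Algebra.Etale A A₂],
        Function.Bijective (Ideal.quotientMap (I.map (algebraMap A A₁)) (algebraMap A A₁) Ideal.le_comap_map) →
        Function.Bijective (Ideal.quotientMap (I.map (algebraMap A A₂)) (algebraMap A A₂) Ideal.le_comap_map) →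
          ∀ (f g : A₁ →ₐ[A] A₂),
            ∃ (A₃ : Type u) (_ : CommRing A₃) (_ : Algebra A A₃) (_ : Algebra.Etale A A₃),
              Function.Bijective (Ideal.quotientMap (I.map (algebraMap A A₃)) (algebraMap A A₃) Ideal.le_comap_map) ∧
                ∃ h : A₂ →ₐ[A] A₃, h.comp f = h.comp g) := by
  classical
  have hdet : ∀ {S : Type u} [CommRing S] [Algebra A S],
      Function.Bijective (Ideal.quotientMap (I.map (algebraMap A S)) (algebraMap A S) Ideal.le_comap_map) →
      ∀ p q : S →ₐ[A] A ⧸ I, p = q := by
    intro S _ _ h p q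
    refine AlgHom.ext fun x => ?_
    obtain ⟨r, hr⟩ := h.2 (Ideal.Quotient.mk _ x)
    obtain ⟨r, rfl⟩ := Ideal.Quotient.mk_surjective r
    rw [Ideal.quotientMap_mk, Ideal.Quotient.eq] at hr
    have hk : ∀ (p : S →ₐ[A] A ⧸ I), p x = Ideal.Quotient.mk I r := by
      intro p
      have hle : I.map (algebraMap A S) ≤ RingHom.ker p.toRingHom := by
        rw [Ideal.map_le_iff_le_comap]
        intro a ha
        show p (algebraMap A S a) = 0
        rw [AlgHom.commutes, Ideal.Quotient.algebraMap_eq]
        exact Ideal.Quotient.eq_zero_iff_mem.2 ha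
      have h0 : p (algebraMap A S r - x) = 0 := hle hr
      rw [map_sub, AlgHom.commutes, Ideal.Quotient.algebraMap_eq, sub_eq_zero] at h0
      exact h0.symm
    rw [hk p, hk q]
  have hetale : ∀ {S : Type u} [CommRing S] [Algebra A S] [Algebra.Etale A S] (v : S),
      Algebra.Etale A (Localization.Away v) := fun {S} _ _ _ v =>
    haveI := Algebra.Etale.of_isLocalizationAway (R := S) (A := Localization.Away v) v
    Algebra.Etale.comp A S _
  refine ⟨?_, ?_⟩
  · intro A₁ A₂ _ _ _ _ _ _ h₁ h₂
    obtain ⟨σ₁, -⟩ := Groth.Agent.PairHens.exists_pointOfBijective h₁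
    obtain ⟨σ₂, -⟩ := Groth.Agent.PairHens.exists_pointOfBijective h₂
    let S := TensorProduct A A₁ A₂
    haveI : Algebra.Etale A S := Algebra.Etale.comp A A₁ S
    let σ : S →ₐ[A] A ⧸ I := Algebra.TensorProduct.lift σ₁ σ₂ fun _ _ => Commute.all _ _
    obtain ⟨v, -, -, hbij⟩ := Groth.Agent.PairHens.exists_away σ 1 (by rw [map_one]; exact isUnit_one)
    exact ⟨Localization.Away v, inferInstance, inferInstance, hetale v, hbij,
      ⟨(IsScalarTower.toAlgHom A S (Localization.Away v)).comp Algebra.TensorProduct.includeLeft⟩,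
      ⟨(IsScalarTower.toAlgHom A S (Localization.Away v)).comp
        (Algebra.TensorProduct.includeRight : A₂ →ₐ[A] S)⟩⟩
  · intro A₁ A₂ _ _ _ _ _ _ h₁ h₂ f g
    obtain ⟨σ₂, -⟩ := Groth.Agent.PairHens.exists_pointOfBijective h₂
    have hB := Groth.Agent.PairHens.isPairHenselization A I
    obtain ⟨φ, hφ, -⟩ := Groth.Agent.PairHens.existsUnique_algHom hB (Groth.Agent.PairHens.εH A I)
      Groth.Agent.PairHens.ker_εH σ₂
    have hfg : φ.comp f = φ.comp g := by
      refine Groth.Agent.Hensel.algHom_unique (I := I.map (algebraMap A _)) hB.1.jac fun x => ?_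
      rw [Groth.Agent.PairHens.mem_map_iff, map_sub, sub_eq_zero]
      exact AlgHom.congr_fun (hdet h₁ ((Groth.Agent.PairHens.εH A I).comp (φ.comp f))
        ((Groth.Agent.PairHens.εH A I).comp (φ.comp g))) x
    obtain ⟨s, hs⟩ := Algebra.FiniteType.out (R := A) (A := A₁)
    choose t ht htx using fun x : A₁ => Groth.Agent.PairHens.exists_killed φ (f x - g x)
      (by rw [map_sub, sub_eq_zero]; exact AlgHom.congr_fun hfg x)
    have ht' : IsUnit (σ₂ (∏ x ∈ s, t x)) := by
      rw [map_prod]
      refine IsUnit.prod_iff.2 fun x _ => ?_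
      rw [← hφ]; exact ht x
    obtain ⟨v, -, hdvd, hbij⟩ := Groth.Agent.PairHens.exists_away σ₂ _ ht'
    let h := IsScalarTower.toAlgHom A A₂ (Localization.Away v)
    refine ⟨Localization.Away v, inferInstance, inferInstance, hetale v, hbij, h, ?_⟩
    refine AlgHom.ext_of_adjoin_eq_top hs fun x hx => ?_
    show h (f x) = h (g x)
    rw [← sub_eq_zero, ← map_sub]
    have hu : IsUnit (h v) := IsLocalization.map_units (Localization.Away v)
      (⟨v, 1, pow_one v⟩ : Submonoid.powers v)
    refine hu.mul_right_eq_zero.1 ?_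
    rw [← map_mul]
    obtain ⟨c, hc⟩ := (Finset.dvd_prod_of_mem t hx).trans hdvd
    rw [show v * (f x - g x) = 0 by linear_combination (f x - g x) * hc + c * htx x, map_zero]

end Groth.Agent.S19567
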