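import Groth.Statements.S19568
import Mathlib
import Groth.Agent.PairHens.Nbhd
-- import your own Groth.Agent.* helpers here

set_option autoImplicit false
universe u
open Hensel

namespace Groth.Agent.S19568

/-- Let A be a ring, I an ideal of A and B an A-algebra which is a henselization of the pair (A, I).
Consider étale A-algebras A' for which the induced map A/I → A'/IA' is bijective. Then: (a) every
such A' admits exactly one A-algebra map to B; (b) every element of B is the image of an element of
some such A' under an A-algebra map A' → B; (c) if an A-algebra map A' → B from such an algebra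
sends an element s to 0, then there are another such algebra A'' and an A-algebra map A' → A''
sending s to 0. (All algebras are taken in the universe of A. Together with the filteredness of the
category of these algebras, (a), (b) and (c) express that B, with the maps of (a), is their
colimit.) -/
theorem result (A : Type u) [CommRing A] (I : Ideal A)
    (B : Type u) [CommRing B] [Algebra A B] (hB : Hens2.IsPairHenselization A I B) :
    (∀ (A' : Type u) [CommRing A'] [Algebra A A'] [Algebra.Etale A A'],
        Function.Bijective (Ideal.quotientMap (I.map (algebraMap A A')) (algebraMap A A') Ideal.le_comap_map) →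
          Nonempty (Unique (A' →ₐ[A] B))) ∧
    (∀ x : B, ∃ (A' : Type u) (_ : CommRing A') (_ : Algebra A A') (_ : Algebra.Etale A A'),
        Function.Bijective (Ideal.quotientMap (I.map (algebraMap A A')) (algebraMap A A') Ideal.le_comap_map) ∧
          ∃ (φ : A' →ₐ[A] B) (s : A'), φ s = x) ∧
    (∀ (A' : Type u) [CommRing A'] [Algebra A A'] [Algebra.Etale A A'],
        Function.Bijective (Ideal.quotientMap (I.map (algebraMap A A')) (algebraMap A A') Ideal.le_comap_map) →
          ∀ (φ : A' →ₐ[A] B) (s : A'), φ s = 0 →
            ∃ (A'' : Type u) (_ : CommRing A'') (_ : Algebra A A'') (_ : Algebra.Etale A A''),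
              Function.Bijective (Ideal.quotientMap (I.map (algebraMap A A'')) (algebraMap A A'') Ideal.le_comap_map) ∧
                ∃ ψ : A' →ₐ[A] A'', ψ s = 0) := by
  classical
  have hdet : ∀ {S : Type u} [CommRing S] [Algebra A S],
      Function.Bijective (Ideal.quotientMap (I.map (algebraMap A S)) (algebraMap A S) Ideal.le_comap_map) →
      ∀ p q : S →ₐ[A] A ⧸ I, p = q := by
    intro S _ _ h p q
    refine AlgHom.ext fun x => ?_
    obtain ⟨r, hr⟩ := h.2 (Ideal.Quotient.mk _ x)
    obtain ⟨r, rfl⟩ := Ideal.Quotient.mk_surjective r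
    rw [Ideal.quotientMap_mk, Ideal.Quotient.eq] at hr
    have hk : ∀ (p : S →ₐ[A] A ⧸ I), p x = Ideal.Quotient.mk I r := by
      intro p
      have hle : I.map (algebraMap A S) ≤ RingHom.ker p.toRingHom := by
        rw [Ideal.map_le_iff_le_comap]
        intro a ha
        show p (algebraMap A S a) = 0
        rw [AlgHom.commutes, Ideal.Quotient.algebraMap_eq]
        exact Ideal.Quotient.eq_zero_iff_mem.2 ha
      have h0 : p (algebraMap A S r - x) = 0 := hle hr
      rw [map_sub, AlgHom.commutes, Ideal.Quotient.algebraMap_eq, sub_eq_zero] at h0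
      exact h0.symm
    rw [hk p, hk q]
  have hetale : ∀ {S : Type u} [CommRing S] [Algebra A S] [Algebra.Etale A S] (v : S),
      Algebra.Etale A (Localization.Away v) := fun {S} _ _ _ v =>
    haveI := Algebra.Etale.of_isLocalizationAway (R := S) (A := Localization.Away v) v
    Algebra.Etale.comp A S _
  obtain ⟨e⟩ := Groth.Agent.PairHens.exists_algEquiv hB
  obtain ⟨ε, hε, -⟩ := Groth.Agent.PairHens.exists_point hB
  refine ⟨?_, ?_, ?_⟩
  · intro A' _ _ _ h
    obtain ⟨σ, -⟩ := Groth.Agent.PairHens.exists_pointOfBijective h
    obtain ⟨φ, -, hu⟩ := Groth.Agent.PairHens.existsUnique_algHom hB ε hε σ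
    exact ⟨{ default := φ, uniq := fun ψ => hu ψ (hdet h _ _) }⟩
  · intro x
    obtain ⟨S, hS₁, hS₂, hS₃, hbij, φ, s, hs⟩ :=
      Groth.Agent.PairHens.exists_algHom_mem_range (e.symm x)
    exact ⟨S, hS₁, hS₂, hS₃, hbij, e.toAlgHom.comp φ, s,
      show e (φ s) = x by rw [hs, e.apply_symm_apply]⟩
  · intro A' _ _ _ h φ s hs
    obtain ⟨t, ht, hts⟩ := Groth.Agent.PairHens.exists_killed (e.symm.toAlgHom.comp φ) s
      (show e.symm (φ s) = 0 by rw [hs, map_zero])
    obtain ⟨v, -, ⟨c, hc⟩, hbij⟩ := Groth.Agent.PairHens.exists_away
      ((Groth.Agent.PairHens.εH A I).comp (e.symm.toAlgHom.comp φ)) t ht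
    let ψ := IsScalarTower.toAlgHom A A' (Localization.Away v)
    refine ⟨Localization.Away v, inferInstance, inferInstance, hetale v, hbij, ψ, ?_⟩
    have hu : IsUnit (ψ v) := IsLocalization.map_units (Localization.Away v)
      (⟨v, 1, pow_one v⟩ : Submonoid.powers v)
    refine hu.mul_right_eq_zero.1 ?_
    rw [← map_mul, show v * s = 0 by linear_combination s * hc + c * hts, map_zero]

end Groth.Agent.S19568
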