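import Mathlib
import Groth.Agent.AlgSysLib.Smooth
import Groth.Statements.S19569

set_option autoImplicit false
universe u
open CAlg

namespace Groth.Agent.S19569

open TensorProduct in
/-- Let A be the colimit of a directed system of rings (A_i), given by compatible ring maps A_i → A
which are jointly surjective and such that an element of some A_i mapping to zero in A already maps
to zero in some later A_j, and let B be an étale A-algebra. Then for some index i there is an étale
A_i-algebra B_i such that B is isomorphic, as an A-algebra, to the base change A ⊗_{A_i} B_i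
(existence of an isomorphism). (Stated for a system indexed by a directed preordered set.) -/
theorem result {ι : Type u} [Preorder ι] [IsDirected ι (· ≤ ·)] [Nonempty ι]
    (G : ι → Type u) [∀ i, CommRing (G i)] (f : ∀ i j, i ≤ j → (G i →+* G j))
    (A : Type u) [CommRing A] (g : ∀ i, G i →+* A) (hg : ∀ i j (h : i ≤ j), (g j).comp (f i j h) = g i)
    (hsurj : ∀ a : A, ∃ i, ∃ x : G i, g i x = a)
    (hker : ∀ i (x : G i), g i x = 0 → ∃ j, ∃ h : i ≤ j, f i j h x = 0)
    (B : Type u) [CommRing B] [Algebra A B] [Algebra.Etale A B] :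
    ∃ (i : ι) (Bi : Type u) (_ : CommRing Bi) (_ : Algebra (G i) Bi), Algebra.Etale (G i) Bi ∧
      letI : Algebra (G i) A := (g i).toAlgebra
      Nonempty (B ≃ₐ[A] A ⊗[G i] Bi) := by
  classical
  letI := fun (X : Type u) [CommRing X] => (ULift.algebra' ℤ X : Algebra (ULift.{u} ℤ) X)
  let mkA : ∀ {X Y : Type u} [CommRing X] [CommRing Y], (X →+* Y) → (X →ₐ[ULift.{u} ℤ] Y) := fun {X Y} _ _ φ =>
    ⟨φ, fun r => map_intCast φ r.down⟩
  let gA : ∀ i, G i →ₐ[ULift.{u} ℤ] A := fun i => mkA (g i)
  have hS : Groth.Agent.AlgSysLib.IsAlgSys gA := by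
    refine Groth.Agent.AlgSysLib.isAlgSys_of_preorder (g := gA) (f := fun i j h => mkA (f i j h)) ?_ hsurj hker
    exact fun i j h => AlgHom.ext fun x => RingHom.congr_fun (hg i j h) x
  haveI : IsNoetherianRing (ULift.{u} ℤ) := isNoetherianRing_of_ringEquiv ℤ ULift.ringEquiv.symm
  obtain ⟨A₀, B₀, _, _, hfg, hB₀, ⟨e⟩⟩ := Algebra.Etale.exists_subalgebra_fg (ULift.{u} ℤ) A B
  obtain ⟨s, hs⟩ := hfg
  let π : MvPolynomial s (ULift.{u} ℤ) →ₐ[ULift.{u} ℤ] A := MvPolynomial.aeval fun z : s => (z : A)
  have hπ : π.range = A₀ := by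
    refine (Algebra.adjoin_range_eq_range_aeval _ _).symm.trans ?_
    rw [← hs]
    congr 1
    exact Subtype.range_coe
  obtain ⟨i, x, hx⟩ := hS.exists_lift_fintype (fun z : s => (z : A))
  let l : MvPolynomial s (ULift.{u} ℤ) →ₐ[ULift.{u} ℤ] G i := MvPolynomial.aeval x
  have hl : (gA i).comp l = π := MvPolynomial.algHom_ext fun z => by
    show gA i (MvPolynomial.aeval x (MvPolynomial.X z)) = MvPolynomial.aeval (fun z : s => (z : A)) (MvPolynomial.X z)
    rw [MvPolynomial.aeval_X, MvPolynomial.aeval_X]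
    exact hx z
  obtain ⟨T, hT⟩ := IsNoetherian.noetherian (RingHom.ker π.toRingHom)
  obtain ⟨j, φ, hφ, hφT⟩ := hS.kill_finset i (T.image l) (by
    intro y hy
    obtain ⟨p, hp, rfl⟩ := Finset.mem_image.mp hy
    rw [← AlgHom.comp_apply, hl]
    have : p ∈ RingHom.ker π.toRingHom := hT ▸ Submodule.subset_span hp
    exact this)
  have hker' : ∀ p, π p = 0 → φ (l p) = 0 := by
    intro p hp
    have hp' : p ∈ Submodule.span (MvPolynomial s (ULift.{u} ℤ)) (T : Set (MvPolynomial s (ULift.{u} ℤ))) := by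
      rw [hT]; exact hp
    clear hp
    induction hp' using Submodule.span_induction with
    | mem q hq => exact hφT _ (Finset.mem_image_of_mem _ hq)
    | zero => simp
    | add a b _ _ ha hb => simp [ha, hb]
    | smul c a _ ha => simp [ha]
  have hsurjπ : Function.Surjective (π.rangeRestrict) := π.rangeRestrict_surjective
  let θ₀ : π.range →+* G j := RingHom.liftOfSurjective π.rangeRestrict.toRingHom hsurjπ
    ⟨(φ.comp l).toRingHom, fun p hp => hker' p (congrArg Subtype.val hp)⟩
  let θ : A₀ →+* G j := θ₀.comp (Subalgebra.equivOfEq _ _ hπ.symm).toRingHom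
  have hθ : (g j).comp θ = algebraMap A₀ A := by
    refine RingHom.ext fun z => ?_
    obtain ⟨p, hp⟩ := hsurjπ (Subalgebra.equivOfEq _ _ hπ.symm z)
    show g j (θ₀ (Subalgebra.equivOfEq _ _ hπ.symm z)) = z
    rw [← hp]
    have h1 : θ₀ (π.rangeRestrict p) = φ (l p) := RingHom.liftOfRightInverse_comp_apply _ _ _ _ p
    rw [h1]
    change (gA j) (φ (l p)) = _
    rw [← AlgHom.comp_apply, hφ, ← AlgHom.comp_apply, hl]
    exact congrArg Subtype.val hp
  algebraize [θ]
  letI : Algebra (G j) A := (g j).toAlgebra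
  haveI : IsScalarTower A₀ (G j) A := IsScalarTower.of_algebraMap_eq' hθ.symm
  exact ⟨j, G j ⊗[A₀] B₀, inferInstance, inferInstance, inferInstance,
    ⟨e.trans (Algebra.TensorProduct.cancelBaseChange A₀ (G j) A A B₀).symm⟩⟩

end Groth.Agent.S19569
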