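import Groth.Statements.S1957
import Groth.Agent.S2042
import Mathlib.RingTheory.Etale.Basic
-- import your own Groth.Agent.* helpers here

set_option autoImplicit false
universe u
open Polynomial
open EtAlg

namespace Groth.Agent.S1957

/-- Let A be a ring, I an ideal and f a monic polynomial over A. Suppose the image of f in (A/I)[x]
factors as g h where the leading coefficient of g is a unit and g, h generate the unit ideal. Then
there is an etale A-algebra A' such that A/I -> A'/IA' is bijective, together with a factorization f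
= g' h' in A'[x] whose reduction modulo IA' is the image of the given one. -/
theorem result (A : Type u) [CommRing A] (I : Ideal A) (f : A[X]) (hf : f.Monic)
    (g h : (A ⧸ I)[X]) (hgh : f.map (Ideal.Quotient.mk I) = g * h) (hlead : IsUnit g.leadingCoeff)
    (hcop : IsCoprime g h) :
    ∃ (A' : Type u) (_ : CommRing A') (_ : Algebra A A') (_ : Algebra.Etale A A'),
      Function.Bijective (Ideal.quotientMap (I.map (algebraMap A A')) (algebraMap A A') Ideal.le_comap_map) ∧
      ∃ g' h' : A'[X], f.map (algebraMap A A') = g' * h' ∧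
        g'.map (Ideal.Quotient.mk (I.map (algebraMap A A'))) =
          g.map (Ideal.quotientMap (I.map (algebraMap A A')) (algebraMap A A') Ideal.le_comap_map) ∧
        h'.map (Ideal.Quotient.mk (I.map (algebraMap A A'))) =
          h.map (Ideal.quotientMap (I.map (algebraMap A A')) (algebraMap A A') Ideal.le_comap_map) := by
  classical
  let c := hlead.unit
  have hlc : (c : A ⧸ I) = g.leadingCoeff := rfl
  have hgm : (Polynomial.C ((c⁻¹ : (A ⧸ I)ˣ) : A ⧸ I) * g).Monic := by
    apply Polynomial.monic_C_mul_of_mul_leadingCoeff_eq_one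
    rw [← hlc, Units.inv_mul]
  have hprod : f.map (Ideal.Quotient.mk I) =
      (Polynomial.C ((c⁻¹ : (A ⧸ I)ˣ) : A ⧸ I) * g) * (Polynomial.C (c : A ⧸ I) * h) := by
    rw [hgh, mul_mul_mul_comm, ← Polynomial.C_mul, Units.inv_mul, Polynomial.C_1, one_mul]
  have hhm : (Polynomial.C (c : A ⧸ I) * h).Monic := by
    have := hf.map (Ideal.Quotient.mk I)
    rw [hprod] at this
    exact hgm.of_mul_monic_left this
  have hcop' : IsCoprime (Polynomial.C ((c⁻¹ : (A ⧸ I)ˣ) : A ⧸ I) * g) (Polynomial.C (c : A ⧸ I) * h) :=
    (isCoprime_mul_unit_left_left (Polynomial.isUnit_C.2 (c⁻¹).isUnit) g _).2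
      ((isCoprime_mul_unit_left_right (Polynomial.isUnit_C.2 c.isUnit) g h).2 hcop)
  obtain ⟨B, _, _, hBet, hBbij, g₁, h₁, hg₁, hh₁, hfgh, hg₁', hh₁'⟩ :=
    Groth.Agent.S2042.result I f hf _ _ hgm hhm hcop' hprod
  haveI := hBet
  obtain ⟨b, hb⟩ := Ideal.Quotient.mk_surjective (algebraMap (A ⧸ I) (B ⧸ I.map (algebraMap A B)) (c : A ⧸ I))
  haveI : Algebra.Etale B (Localization.Away b) := Algebra.Etale.of_isLocalizationAway b
  haveI : Algebra.Etale A (Localization.Away b) := Algebra.Etale.comp A B _
  let J : Ideal B := I.map (algebraMap A B)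
  have hJ : I.map (algebraMap A (Localization.Away b)) = J.map (algebraMap B (Localization.Away b)) := by
    rw [Ideal.map_map, ← IsScalarTower.algebraMap_eq]
  have hbu : IsUnit (Ideal.Quotient.mk J b) := by rw [hb]; exact c.isUnit.map _
  obtain ⟨w, hw⟩ := Ideal.Quotient.mk_surjective ((hbu.unit⁻¹ : (B ⧸ J)ˣ) : B ⧸ J)
  have hbw : b * w - 1 ∈ J := by
    rw [← Ideal.Quotient.eq, map_mul, hw, map_one]
    exact hbu.mul_val_inv
  let π : B ⧸ J →+* Localization.Away b ⧸ I.map (algebraMap A (Localization.Away b)) :=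
    Ideal.quotientMap _ (algebraMap B (Localization.Away b)) (by rw [hJ]; exact Ideal.le_comap_map)
  have hπ : Function.Bijective π := by
    constructor
    · rw [injective_iff_map_eq_zero]
      intro x hx
      obtain ⟨x, rfl⟩ := Ideal.Quotient.mk_surjective x
      rw [Ideal.quotientMap_mk, Ideal.Quotient.eq_zero_iff_mem, hJ,
        IsLocalization.algebraMap_mem_map_algebraMap_iff (Submonoid.powers b)] at hx
      obtain ⟨_, ⟨n, rfl⟩, hn⟩ := hx
      rw [← Ideal.Quotient.eq_zero_iff_mem, map_mul, map_pow] at hn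
      exact (hbu.pow n).mul_right_eq_zero.1 hn
    · intro z
      obtain ⟨z, rfl⟩ := Ideal.Quotient.mk_surjective z
      obtain ⟨x, ⟨_, n, rfl⟩, rfl⟩ := IsLocalization.exists_mk'_eq (Submonoid.powers b) z
      refine ⟨Ideal.Quotient.mk J (x * w ^ n), ?_⟩
      rw [Ideal.quotientMap_mk]
      have hu := IsLocalization.map_units (Localization.Away b) (⟨b ^ n, n, rfl⟩ : Submonoid.powers b)
      refine (hu.map (Ideal.Quotient.mk (I.map (algebraMap A (Localization.Away b))))).mul_left_injective ?_
      show Ideal.Quotient.mk _ _ * _ = Ideal.Quotient.mk _ _ * _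
      rw [← map_mul (Ideal.Quotient.mk _) (IsLocalization.mk' _ x _), ← map_mul (Ideal.Quotient.mk _)]
      erw [IsLocalization.mk'_spec]
      rw [← map_mul, Ideal.Quotient.eq, ← map_sub, hJ]
      refine Ideal.mem_map_of_mem _ ?_
      rw [← Ideal.Quotient.eq_zero_iff_mem, show x * w ^ n * b ^ n - x = x * ((b * w) ^ n - 1) by ring,
        map_mul, map_sub, map_pow, Ideal.Quotient.eq.2 hbw]
      simp
  have hbu' : IsUnit (algebraMap B (Localization.Away b) b) := IsLocalization.Away.algebraMap_isUnit b
  have hcomp : (Ideal.quotientMap (I.map (algebraMap A (Localization.Away b))) (algebraMap A (Localization.Away b)) Ideal.le_comap_map) =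
      π.comp (algebraMap (A ⧸ I) (B ⧸ I.map (algebraMap A B))) :=
    Ideal.Quotient.ringHom_ext (RingHom.ext fun a => by
      show Ideal.Quotient.mk _ (algebraMap A (Localization.Away b) a) = π (Ideal.Quotient.mk J (algebraMap A B a))
      rw [Ideal.quotientMap_mk, ← IsScalarTower.algebraMap_apply])
  have hred : ∀ P : Polynomial B, (P.map (algebraMap B (Localization.Away b))).map
      (Ideal.Quotient.mk (I.map (algebraMap A (Localization.Away b)))) = (P.map (Ideal.Quotient.mk J)).map π := by
    intro P
    rw [Polynomial.map_map, Polynomial.map_map]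
    rfl
  refine ⟨Localization.Away b, inferInstance, inferInstance, inferInstance, ?_,
    Polynomial.C (algebraMap B (Localization.Away b) b) * g₁.map (algebraMap B (Localization.Away b)),
    Polynomial.C ((hbu'.unit⁻¹ : (Localization.Away b)ˣ) : Localization.Away b) * h₁.map (algebraMap B (Localization.Away b)), ?_, ?_, ?_⟩
  · rw [hcomp]
    exact hπ.comp hBbij
  · rw [mul_mul_mul_comm, ← Polynomial.C_mul, hbu'.mul_val_inv, Polynomial.C_1, one_mul, ← Polynomial.map_mul,
      ← hfgh, Polynomial.map_map, ← IsScalarTower.algebraMap_eq]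
  · rw [Polynomial.map_mul, Polynomial.map_C, hred, hg₁', hcomp, ← Polynomial.map_map, Polynomial.map_mul,
      Polynomial.map_C, Polynomial.map_mul, Polynomial.map_C, ← mul_assoc, ← Polynomial.C_mul]
    rw [show Ideal.Quotient.mk (I.map (algebraMap A (Localization.Away b))) (algebraMap B (Localization.Away b) b) =
      π (algebraMap (A ⧸ I) (B ⧸ J) (c : A ⧸ I)) from congrArg π hb]
    rw [← map_mul π, ← map_mul, Units.mul_inv, map_one, map_one, Polynomial.C_1, one_mul]
  · have hinv : Ideal.Quotient.mk (I.map (algebraMap A (Localization.Away b))) ((hbu'.unit⁻¹ : (Localization.Away b)ˣ) : Localization.Away b) *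
        π (algebraMap (A ⧸ I) (B ⧸ J) (c : A ⧸ I)) = 1 := by
      rw [show π (algebraMap (A ⧸ I) (B ⧸ J) (c : A ⧸ I)) = Ideal.Quotient.mk _ (algebraMap B (Localization.Away b) b)
        from (congrArg π hb).symm, ← map_mul, hbu'.val_inv_mul, map_one]
    rw [Polynomial.map_mul, Polynomial.map_C, hred, hh₁', hcomp, ← Polynomial.map_map, Polynomial.map_mul,
      Polynomial.map_C, Polynomial.map_mul, Polynomial.map_C, ← mul_assoc, ← Polynomial.C_mul, hinv,
      Polynomial.C_1, one_mul]

end Groth.Agent.S1957
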