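import Groth.Statements.S19570
import Groth.Agent.SmFinLift.Nbhd
import Groth.Agent.SmLift.Main
import Groth.Agent.RegHomLib.Basic
import Groth.Agent.HLVTLib.Excellent

set_option autoImplicit false
universe u
open scoped TensorProduct
open EGA4

namespace Groth.Agent.S19570

set_option linter.all false
set_option backward.isDefEq.respectTransparency.types false

theorem tensorQuotientEquiv {V : Type u} [CommRing V] (m : Ideal V) {D C : Type u} [CommRing D]
    [Algebra V D] [CommRing C] [Algebra (V ⧸ m) C] (ψ : D →+* C)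
    (hψ : ∀ v, ψ (algebraMap V D v) = algebraMap (V ⧸ m) C (Ideal.Quotient.mk m v))
    (hs : Function.Surjective ψ) (hk : RingHom.ker ψ = m.map (algebraMap V D)) :
    ∃ e : (V ⧸ m) ⊗[V] D ≃ₐ[V ⧸ m] C, ∀ x : D, e (1 ⊗ₜ[V] x) = ψ x := by
  letI : Algebra V C := ((algebraMap (V ⧸ m) C).comp (Ideal.Quotient.mk m)).toAlgebra
  haveI : IsScalarTower V (V ⧸ m) C := .of_algebraMap_eq fun _ => rfl
  let ψ' : D →ₐ[V] C := { ψ with commutes' := hψ }
  let Ψ : (V ⧸ m) ⊗[V] D →ₐ[V ⧸ m] C :=
    Algebra.TensorProduct.lift (Algebra.ofId (V ⧸ m) C) ψ' fun _ _ => Commute.all _ _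
  have hΨ : ∀ x : D, Ψ (1 ⊗ₜ[V] x) = ψ x := fun x => by simp [Ψ, ψ']
  have hinc : ∀ z : (V ⧸ m) ⊗[V] D, ∃ x : D, z = 1 ⊗ₜ[V] x := by
    intro z
    induction z using TensorProduct.induction_on with
    | zero => exact ⟨0, by rw [TensorProduct.tmul_zero]⟩
    | tmul a b =>
      obtain ⟨a, rfl⟩ := Ideal.Quotient.mk_surjective a
      refine ⟨a • b, ?_⟩
      rw [← TensorProduct.smul_tmul, ← Algebra.algebraMap_eq_smul_one, Ideal.Quotient.algebraMap_eq]
    | add x y hx hy =>
      obtain ⟨x, rfl⟩ := hx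
      obtain ⟨y, rfl⟩ := hy
      exact ⟨x + y, by rw [TensorProduct.tmul_add]⟩
  refine ⟨AlgEquiv.ofBijective Ψ ⟨?_, fun c => ?_⟩, fun x => hΨ x⟩
  · rw [injective_iff_map_eq_zero]
    intro z hz
    obtain ⟨x, rfl⟩ := hinc z
    rw [hΨ] at hz
    have hle : m.map (algebraMap V D) ≤
        RingHom.ker (Algebra.TensorProduct.includeRight : D →ₐ[V] (V ⧸ m) ⊗[V] D).toRingHom := by
      rw [Ideal.map_le_iff_le_comap]
      intro v hv
      show (Algebra.TensorProduct.includeRight : D →ₐ[V] (V ⧸ m) ⊗[V] D) (algebraMap V D v) = 0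
      rw [AlgHom.commutes, IsScalarTower.algebraMap_apply V (V ⧸ m), Ideal.Quotient.algebraMap_eq,
        Ideal.Quotient.eq_zero_iff_mem.2 hv, map_zero]
    exact hle (hk.le (show x ∈ RingHom.ker ψ from hz))
  · obtain ⟨x, hx⟩ := hs c
    exact ⟨1 ⊗ₜ[V] x, (hΨ x).trans hx⟩

theorem etale_localization {A B : Type u} [CommRing A] [CommRing B] [Algebra A B] [Algebra.Etale A B]
    (M : Submonoid A) :
    Algebra.Etale (Localization M) (Localization (Algebra.algebraMapSubmonoid B M)) := by
  haveI : Algebra.IsPushout A (Localization M) B (Localization (Algebra.algebraMapSubmonoid B M)) :=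
    (Algebra.isPushout_of_isLocalization M (Localization M) B _).symm
  exact Algebra.Etale.of_equiv (Algebra.IsPushout.equiv A (Localization M) B _)

/-- Let V be a complete discrete valuation ring of characteristic zero, with maximal ideal 𝔪 and residue
field k, let A₀ be a smooth k-algebra and B₀ a finite étale A₀-algebra. Then A₀ lifts to a smooth
V-algebra A (an isomorphism k ⊗_V A ≅ A₀ of k-algebras), and the finite étale cover lifts over it:
there is a finite A-algebra B which is a normal ring, with an isomorphism k ⊗_V B ≅ B₀ compatible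
with the one for A and with the algebra maps, such that the localization A_T → B_T at T = 1 + 𝔪A is
étale. The published corollary also claims, for the lift it produces, a finite étale lift after
inverting a suitable element and further properties of formal completions of projective closures;
the statement here asserts only that B is finite over A and normal and that A_T → B_T is étale. -/
theorem result
    (V : Type u) [CommRing V] [IsDomain V] [IsDiscreteValuationRing V] [CharZero V]
    [IsAdicComplete (IsLocalRing.maximalIdeal V) V]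
    (A₀ : Type u) [CommRing A₀] [Algebra (IsLocalRing.ResidueField V) A₀]
    [Algebra.Smooth (IsLocalRing.ResidueField V) A₀]
    (B₀ : Type u) [CommRing B₀] [Algebra A₀ B₀] [Algebra (IsLocalRing.ResidueField V) B₀]
    [IsScalarTower (IsLocalRing.ResidueField V) A₀ B₀] [Module.Finite A₀ B₀] [Algebra.Etale A₀ B₀] :
    ∃ (A : Type u) (_ : CommRing A) (_ : Algebra V A) (_ : Algebra.Smooth V A)
      (e : (IsLocalRing.ResidueField V) ⊗[V] A ≃ₐ[IsLocalRing.ResidueField V] A₀)
      (B : Type u) (_ : CommRing B) (_ : Algebra A B) (_ : Algebra V B) (_ : IsScalarTower V A B)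
      (e' : (IsLocalRing.ResidueField V) ⊗[V] B ≃ₐ[IsLocalRing.ResidueField V] B₀),
      Module.Finite A B ∧ EGA4.IsNormalRing B ∧
      (∀ x : (IsLocalRing.ResidueField V) ⊗[V] A,
        e' (Algebra.TensorProduct.map (AlgHom.id (IsLocalRing.ResidueField V) (IsLocalRing.ResidueField V))
          (IsScalarTower.toAlgHom V A B) x) = algebraMap A₀ B₀ (e x)) ∧
      Algebra.Etale (Localization (MonoidHom.mker (Ideal.Quotient.mk ((IsLocalRing.maximalIdeal V).map (algebraMap V A)))))
        (Localization (Algebra.algebraMapSubmonoid B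
          (MonoidHom.mker (Ideal.Quotient.mk ((IsLocalRing.maximalIdeal V).map (algebraMap V A)))))) := by
  classical
  letI : Algebra V A₀ := ((algebraMap (IsLocalRing.ResidueField V) A₀).comp (IsLocalRing.residue V)).toAlgebra
  letI iA : Algebra (V ⧸ IsLocalRing.maximalIdeal V) A₀ :=
    (inferInstance : Algebra (IsLocalRing.ResidueField V) A₀)
  haveI : IsScalarTower V (V ⧸ IsLocalRing.maximalIdeal V) A₀ := .of_algebraMap_eq fun _ => rfl
  haveI : Algebra.Smooth (V ⧸ IsLocalRing.maximalIdeal V) A₀ :=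
    (inferInstance : Algebra.Smooth (IsLocalRing.ResidueField V) A₀)
  obtain ⟨A₁, _, _, hA₁, π, hπ, hπk⟩ :=
    Groth.Agent.SmLift.exists_smooth_lift (A := V) (I := IsLocalRing.maximalIdeal V) (C := A₀)
  let J : Ideal A₁ := (IsLocalRing.maximalIdeal V).map (algebraMap V A₁)
  let φ : (A₁ ⧸ J) →+* A₀ := Ideal.Quotient.lift J π.toRingHom fun x hx => hπk.ge hx
  have hφ : Function.Bijective φ :=
    ⟨RingHom.lift_injective_of_ker_le_ideal _ _ hπk.le, fun c => by
      obtain ⟨x, hx⟩ := hπ c
      exact ⟨Ideal.Quotient.mk J x, hx⟩⟩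
  letI : Algebra (A₁ ⧸ J) A₀ := φ.toAlgebra
  haveI : Algebra.Etale (A₁ ⧸ J) A₀ := RingHom.Etale.of_bijective hφ
  haveI : Module.Finite (A₁ ⧸ J) A₀ :=
    Module.Finite.of_surjective (Algebra.linearMap (A₁ ⧸ J) A₀) hφ.2
  letI : Algebra (A₁ ⧸ J) B₀ := ((algebraMap A₀ B₀).comp φ).toAlgebra
  haveI : IsScalarTower (A₁ ⧸ J) A₀ B₀ := .of_algebraMap_eq fun _ => rfl
  haveI : Algebra.Etale (A₁ ⧸ J) B₀ := Algebra.Etale.comp (A₁ ⧸ J) A₀ B₀
  haveI : Module.Finite (A₁ ⧸ J) B₀ := Module.Finite.trans A₀ B₀
  letI : Algebra A₁ B₀ := ((algebraMap (A₁ ⧸ J) B₀).comp (Ideal.Quotient.mk J)).toAlgebra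
  haveI : IsScalarTower A₁ (A₁ ⧸ J) B₀ := .of_algebraMap_eq fun _ => rfl
  obtain ⟨A, _, _, _, σ, hσk, B, _, _, _, _, hfin, hBe, Φ, hΦ, hΦk, hΦA⟩ :=
    Groth.Agent.SmFinLift.exists_nbhd_finite_etale_lift J B₀
  letI : Algebra V A := ((algebraMap A₁ A).comp (algebraMap V A₁)).toAlgebra
  haveI : IsScalarTower V A₁ A := .of_algebraMap_eq fun _ => rfl
  letI : Algebra V B := ((algebraMap A B).comp (algebraMap V A)).toAlgebra
  haveI : IsScalarTower V A B := .of_algebraMap_eq fun _ => rfl
  haveI : IsScalarTower V A₁ B := .of_algebraMap_eq fun v =>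
    (IsScalarTower.algebraMap_apply A₁ A B (algebraMap V A₁ v)).symm
  haveI hAs : Algebra.Smooth V A := Algebra.Smooth.comp V A₁ A
  haveI : Algebra.Smooth V B := Algebra.Smooth.comp V A B
  let ψA : A →+* A₀ := φ.comp σ.toRingHom
  have hψA : ∀ v, ψA (algebraMap V A v) =
      algebraMap (V ⧸ IsLocalRing.maximalIdeal V) A₀ (Ideal.Quotient.mk _ v) := fun v => by
    show φ (σ (algebraMap A₁ A (algebraMap V A₁ v))) = _
    rw [σ.commutes]
    exact π.commutes v
  have hψAs : Function.Surjective ψA := fun c => by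
    obtain ⟨x, hx⟩ := hπ c
    refine ⟨algebraMap A₁ A x, ?_⟩
    show φ (σ (algebraMap A₁ A x)) = c
    rw [σ.commutes]
    exact hx
  have hψAk : RingHom.ker ψA = (IsLocalRing.maximalIdeal V).map (algebraMap V A) := by
    rw [show algebraMap V A = (algebraMap A₁ A).comp (algebraMap V A₁) from rfl, ← Ideal.map_map, ← hσk]
    ext x
    exact map_eq_zero_iff φ hφ.1
  obtain ⟨e, he⟩ := tensorQuotientEquiv (IsLocalRing.maximalIdeal V) ψA hψA hψAs hψAk
  have hψB : ∀ v, Φ.toRingHom (algebraMap V B v) =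
      algebraMap (IsLocalRing.ResidueField V) B₀ (Ideal.Quotient.mk _ v) := fun v => by
    show Φ (algebraMap V B v) = _
    rw [IsScalarTower.algebraMap_apply V A B, hΦA,
      IsScalarTower.algebraMap_apply (IsLocalRing.ResidueField V) A₀ B₀]
    show algebraMap A₀ B₀ (ψA (algebraMap V A v)) = _
    rw [hψA]
    rfl
  letI iB : Algebra (V ⧸ IsLocalRing.maximalIdeal V) B₀ :=
    (inferInstance : Algebra (IsLocalRing.ResidueField V) B₀)
  obtain ⟨e', he'⟩ := tensorQuotientEquiv (IsLocalRing.maximalIdeal V) Φ.toRingHom hψB hΦ (by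
    rw [IsScalarTower.algebraMap_eq V A₁ B, ← Ideal.map_map]
    exact hΦk)
  refine ⟨A, inferInstance, inferInstance, hAs, e, B, inferInstance, inferInstance, inferInstance,
    inferInstance, e', hfin, ?_, fun x => ?_, etale_localization _⟩
  · haveI : IsRegularRing B := Groth.Agent.RegHomLib.isRegularRing_of_smooth V B
    exact Groth.Agent.HLVTLib.isNormalRing_of_regular B
  · induction x using TensorProduct.induction_on with
    | zero => simp
    | tmul a y =>
      rw [Algebra.TensorProduct.map_tmul, AlgHom.id_apply]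
      have h1 : (a ⊗ₜ[V] (IsScalarTower.toAlgHom V A B y)) =
          a • ((1 : IsLocalRing.ResidueField V) ⊗ₜ[V] (algebraMap A B y)) := by
        rw [TensorProduct.smul_tmul', smul_eq_mul, mul_one]
        rfl
      have h2 : (a ⊗ₜ[V] y) = a • ((1 : IsLocalRing.ResidueField V) ⊗ₜ[V] y) := by
        rw [TensorProduct.smul_tmul', smul_eq_mul, mul_one]
      rw [h1, h2, map_smul, map_smul]
      refine ((congrArg (fun z => a • z) (he' _)).trans ?_).trans
        (congrArg (fun z => algebraMap A₀ B₀ (a • z)) (he y)).symm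
      show a • Φ (algebraMap A B y) = algebraMap A₀ B₀ (a • ψA y)
      rw [hΦA, Algebra.smul_def, Algebra.smul_def, map_mul,
        ← IsScalarTower.algebraMap_apply (IsLocalRing.ResidueField V) A₀ B₀]
      rfl
    | add x y hx hy => simp only [map_add, hx, hy]

end Groth.Agent.S19570
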