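import Groth.Statements.S19571


set_option autoImplicit false
universe u
open CategoryTheory AlgebraicGeometry
open EtaPt

namespace Groth.Agent.S19571

/-- Let f : Y → X be a morphism of schemes which is flat, surjective and locally of finite presentation.
Then every affine open U of X is covered by affine opens V each of which is the image f(W) of some
affine open W of Y; stated pointwise: for every x ∈ U there are an affine open V of X with x ∈ V ≤ U
and an affine open W of Y with f(W) = V as sets. (For such V and W the induced ring map Γ(V) → Γ(W)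
is then faithfully flat.) -/
theorem result
    {X Y : Scheme.{u}} (f : Y ⟶ X) [Flat f] [Surjective f] [LocallyOfFinitePresentation f]
    (U : X.affineOpens) (x : X) (hx : x ∈ (U : X.Opens)) :
    ∃ V : X.affineOpens, x ∈ (V : X.Opens) ∧ (V : X.Opens) ≤ (U : X.Opens) ∧
      ∃ W : Y.affineOpens, f.base '' ((W : Y.Opens) : Set Y) = ((V : X.Opens) : Set X) := by
  obtain ⟨y, hy⟩ := f.surjective x
  obtain ⟨W₀, hW₀, hyW, hWU⟩ := exists_isAffineOpen_mem_and_subset
    (X := Y) (x := y) (U := f ⁻¹ᵁ (U : X.Opens)) (by show f.base y ∈ (U : X.Opens); rw [hy]; exact hx)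
  have hopen : IsOpen (f.base '' (W₀ : Set Y)) := f.isOpenMap _ W₀.2
  let O : X.Opens := ⟨_, hopen⟩
  obtain ⟨r, hr, hxr⟩ := U.2.exists_basicOpen_le (V := O) ⟨x, ⟨y, hyW, hy⟩⟩ hx
  have hVa : IsAffineOpen (X.basicOpen r) := U.2.basicOpen r
  let g := f.appLE (U : X.Opens) W₀ hWU r
  have hWeq : Y.basicOpen g = W₀ ⊓ f ⁻¹ᵁ X.basicOpen r := by
    show Y.basicOpen ((f.app (U : X.Opens) ≫ Y.presheaf.map _) r) = _
    rw [CategoryTheory.comp_apply, Scheme.basicOpen_res, ← Scheme.preimage_basicOpen]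
  refine ⟨⟨_, hVa⟩, hxr, X.basicOpen_le r, ⟨_, hW₀.basicOpen g⟩, ?_⟩
  show f.base '' ((Y.basicOpen g : Y.Opens) : Set Y) = (X.basicOpen r : Set X)
  rw [hWeq]
  refine Set.Subset.antisymm (Set.image_subset_iff.2 fun z hz => hz.2) fun z hz => ?_
  obtain ⟨w, hw, rfl⟩ := hr hz
  exact ⟨w, ⟨hw, hz⟩, rfl⟩

end Groth.Agent.S19571
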