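import Groth.Statements.S19573
import Mathlib

set_option autoImplicit false
universe u
open LocInt

namespace Groth.Agent.S19573

/-- The first sentence of the lemma together with the description of the closed subscheme Z given in its
proof, in the local model. Let R be a commutative ring, n ≥ 1, a ∈ R^n, and F = R^n / R·a the
cokernel of R → R^n, 1 ↦ a (the zeroth homology of the two-term complex R → R^n). Then the
annihilator ideal of the top exterior power ⋀^n F is the ideal generated by the coordinates a_1, …,
a_n of a, and at every prime p of R off the closed set V(a_1, …, a_n) the module F is free of rank n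
− 1 after localization at p. (The published statement is for a complex on a scheme which is locally
quasi-isomorphic to such a two-term complex L → E with L invertible and E locally free of rank n,
and says that H^0 restricted to the complement of the closed subscheme cut out by the annihilator of
its n-th exterior power is locally free of rank n − 1; this row is the local model.) -/
theorem result (R : Type u) [CommRing R]
    (n : ℕ) (hn : 1 ≤ n) (a : Fin n → R) :
    (⋀[R]^n ((Fin n → R) ⧸ Submodule.span R {a})).annihilator = Ideal.span (Set.range a) ∧
    ∀ p : PrimeSpectrum R, ¬ Ideal.span (Set.range a) ≤ p.asIdeal →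
      p ∈ Module.freeLocus R ((Fin n → R) ⧸ Submodule.span R {a}) ∧
      Module.rankAtStalk ((Fin n → R) ⧸ Submodule.span R {a}) p = n - 1 := by
  classical
  let L : Submodule R (Fin n → R) := Submodule.span R {a}
  let I : Ideal R := Ideal.span (Set.range a)
  let e : Fin n → (Fin n → R) := fun j => Pi.single j 1
  let ω : ⋀[R]^n ((Fin n → R) ⧸ L) := exteriorPower.ιMulti R n (fun j => L.mkQ (e j))
  let A : (Fin n → R) [⋀^Fin n]→ₗ[R] ⋀[R]^n ((Fin n → R) ⧸ L) :=
    (exteriorPower.ιMulti R n).compLinearMap L.mkQ
  have hA : ∀ v, A v = (Pi.basisFun R (Fin n)).det v • ω := by
    intro v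
    have h : A = (LinearMap.toSpanSingleton R _ ω).compAlternatingMap
        (Pi.basisFun R (Fin n)).det := by
      refine (Pi.basisFun R (Fin n)).ext_alternating fun σ hσ => ?_
      let τ : Equiv.Perm (Fin n) := Equiv.ofBijective σ (Finite.injective_iff_bijective.mp hσ)
      have h1 : (fun i => Pi.basisFun R (Fin n) (σ i)) = (fun i => Pi.basisFun R (Fin n) i) ∘ τ := rfl
      rw [h1, AlternatingMap.map_perm, AlternatingMap.map_perm]
      congr 1
      show A (⇑(Pi.basisFun R (Fin n))) = (Pi.basisFun R (Fin n)).det (⇑(Pi.basisFun R (Fin n))) • ω
      rw [Module.Basis.det_self, one_smul]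
      show exteriorPower.ιMulti R n _ = _
      simp [ω, e]
    rw [h]
    rfl
  constructor
  · apply le_antisymm
    · intro r hr
      let π : ((Fin n → R) ⧸ L) →ₗ[R] (Fin n → R ⧸ I) := L.liftQ
        (LinearMap.pi fun j => (Submodule.mkQ I).comp (LinearMap.proj j)) (by
          rw [Submodule.span_singleton_le_iff_mem, LinearMap.mem_ker]
          funext j
          exact Ideal.Quotient.eq_zero_iff_mem.mpr (Ideal.subset_span ⟨j, rfl⟩))
      let g : ((Fin n → R) ⧸ L) [⋀^Fin n]→ₗ[R] (R ⧸ I) :=
        { toFun := fun v => Matrix.det (Matrix.of fun i => π (v i))
          map_update_add' := @fun inst v i x y => by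
            obtain rfl : inst = instDecidableEqFin n := Subsingleton.elim _ _
            have h : ∀ z, (Matrix.of fun k => π (Function.update v i z k))
                = (Matrix.of fun k => π (v k)).updateRow i (π z) := by
              intro z
              ext k l
              rw [Matrix.updateRow_apply, Matrix.of_apply]
              by_cases hk : k = i
              · subst hk; simp
              · simp [hk]
            simp only [h, map_add, Matrix.det_updateRow_add]
          map_update_smul' := @fun inst v i c x => by
            obtain rfl : inst = instDecidableEqFin n := Subsingleton.elim _ _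
            have h : ∀ z, (Matrix.of fun k => π (Function.update v i z k))
                = (Matrix.of fun k => π (v k)).updateRow i (π z) := by
              intro z
              ext k l
              rw [Matrix.updateRow_apply, Matrix.of_apply]
              by_cases hk : k = i
              · subst hk; simp
              · simp [hk]
            simp only [h, map_smul]
            rw [← algebraMap_smul (R ⧸ I) c (π x), Matrix.det_updateRow_smul, Algebra.smul_def]
          map_eq_zero_of_eq' := fun v i j hv hij =>
            Matrix.det_zero_of_row_eq hij (by funext l; simp [hv]) }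
      have hg : g (fun j => L.mkQ (e j)) = 1 := by
        show Matrix.det _ = 1
        rw [show (Matrix.of fun i => π (L.mkQ (e i))) = 1 from ?_, Matrix.det_one]
        ext i j
        show Submodule.Quotient.mk (e i j) = _
        rw [Matrix.one_apply]
        simp only [e, Pi.single_apply]
        by_cases h : i = j
        · subst h; simp
        · rw [if_neg (fun h' => h h'.symm), if_neg h]; rfl
      have h0 : r • ω = 0 := Module.mem_annihilator.mp hr ω
      have h1 := congrArg (exteriorPower.alternatingMapLinearEquiv g) h0
      rw [map_smul, map_zero, exteriorPower.alternatingMapLinearEquiv_apply_ιMulti, hg,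
        Algebra.smul_def, mul_one] at h1
      exact Ideal.Quotient.eq_zero_iff_mem.mp h1
    · rw [Ideal.span_le]
      rintro _ ⟨i, rfl⟩
      have hω : a i • ω = 0 := by
        have h1 : A (Function.update e i a) = 0 := by
          refine AlternatingMap.map_coord_zero (exteriorPower.ιMulti R n) i ?_
          simp only [Function.update_self]
          exact (Submodule.Quotient.mk_eq_zero L).mpr (Submodule.mem_span_singleton_self a)
        have he : (Pi.basisFun R (Fin n)).det (Function.update e i a) = a i := by
          have ha : a = ∑ j, a j • e j := by
            funext l; simp [e, Pi.single_apply]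
          conv_lhs => rw [ha]
          rw [AlternatingMap.map_update_sum, Finset.sum_eq_single i]
          · rw [AlternatingMap.map_update_smul, Function.update_eq_self]
            have : e = ⇑(Pi.basisFun R (Fin n)) := by funext j; simp [e]
            rw [this, Module.Basis.det_self, smul_eq_mul, mul_one]
          · intro j _ hj
            rw [AlternatingMap.map_update_smul,
              AlternatingMap.map_eq_zero_of_eq _ _ (i := i) (j := j)
                (by simp [Function.update_of_ne hj]) (Ne.symm hj), smul_zero]
          · simp
        rw [hA, he] at h1
        exact h1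
      refine Module.mem_annihilator.mpr fun x => ?_
      have hx : x ∈ Submodule.span R (Set.range (exteriorPower.ιMulti R n
          (M := (Fin n → R) ⧸ L))) := by
        rw [exteriorPower.ιMulti_span]; exact Submodule.mem_top
      induction hx using Submodule.span_induction with
      | mem y hy =>
        obtain ⟨v, rfl⟩ := hy
        choose w hw using fun k => L.mkQ_surjective (v k)
        have h1 : exteriorPower.ιMulti R n v = A w := by
          show _ = exteriorPower.ιMulti R n (fun k => L.mkQ (w k))
          simp only [hw]
        rw [h1, hA, smul_comm, hω, smul_zero]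
      | zero => exact smul_zero _
      | add y z _ _ hy hz => rw [smul_add, hy, hz, add_zero]
      | smul c y _ hy => rw [smul_comm, hy, smul_zero]
  · intro p hp
    rw [Ideal.span_le, Set.not_subset] at hp
    obtain ⟨_, ⟨i, rfl⟩, hi⟩ := hp
    let θ : ((Fin n → R) ⧸ L) →ₗ[R] ({j : Fin n // j ≠ i} → R) := L.liftQ
      (LinearMap.pi fun j => a i • LinearMap.proj (R := R) (φ := fun _ : Fin n => R) j.1
        - a j.1 • LinearMap.proj (R := R) (φ := fun _ : Fin n => R) i) (by
        rw [Submodule.span_singleton_le_iff_mem, LinearMap.mem_ker]
        funext j
        simp [mul_comm])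
    have hθ : ∀ (x : Fin n → R) (j : {j : Fin n // j ≠ i}),
        θ (L.mkQ x) j = a i * x j.1 - a j.1 * x i := fun x j => by simp [θ]
    let S := p.asIdeal.primeCompl
    let s₀ : S := ⟨a i, hi⟩
    have hker : ∀ y, θ y = 0 → a i • y = 0 := by
      intro y hy
      obtain ⟨x, rfl⟩ := L.mkQ_surjective y
      have hx : a i • x = x i • a := by
        funext l
        by_cases hl : l = i
        · subst hl; simp [mul_comm]
        · have := congrFun hy ⟨l, hl⟩
          rw [hθ, Pi.zero_apply, sub_eq_zero] at this
          simp [this, mul_comm]
      rw [← map_smul, hx, map_smul]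
      show x i • Submodule.Quotient.mk a = (0 : (Fin n → R) ⧸ L)
      rw [(Submodule.Quotient.mk_eq_zero L).mpr (Submodule.mem_span_singleton_self a), smul_zero]
    have hbij : Function.Bijective (LocalizedModule.map S θ) := by
      constructor
      · rw [injective_iff_map_eq_zero]
        intro y hy
        induction y using LocalizedModule.induction_on with
        | h m s =>
          rw [LocalizedModule.map_mk, ← LocalizedModule.zero_mk s, LocalizedModule.mk_eq] at hy
          obtain ⟨t, ht⟩ := hy
          simp only [smul_zero, ← map_smul, Submonoid.smul_def] at ht
          rw [← LocalizedModule.zero_mk s, LocalizedModule.mk_eq]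
          refine ⟨s₀ * t, ?_⟩
          simp only [smul_zero, Submonoid.smul_def, Submonoid.coe_mul]
          rw [mul_smul]
          exact hker _ ht
      · intro y
        induction y using LocalizedModule.induction_on with
        | h m s =>
          let x : Fin n → R := fun l => if h : l = i then 0 else m ⟨l, h⟩
          refine ⟨LocalizedModule.mk (L.mkQ x) (s₀ * s), ?_⟩
          rw [LocalizedModule.map_mk, LocalizedModule.mk_eq]
          refine ⟨1, ?_⟩
          funext j
          simp only [one_smul, Submonoid.smul_def, Submonoid.coe_mul, Pi.smul_apply, smul_eq_mul, hθ]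
          simp only [x, dif_neg j.2, dif_pos, mul_zero, sub_zero, Subtype.coe_eta]
          show (s : R) * (a i * m j) = a i * (s : R) * m j
          ring
    let Φ := LinearEquiv.ofBijective (LocalizedModule.map S θ) hbij
    haveI : Module.Free (Localization S) (LocalizedModule S ({j : Fin n // j ≠ i} → R)) :=
      Module.free_of_isLocalizedModule S (LocalizedModule.mkLinearMap S ({j : Fin n // j ≠ i} → R))
    refine ⟨Module.Free.of_equiv Φ.symm, ?_⟩
    show Module.finrank (Localization.AtPrime p.asIdeal) (LocalizedModule S ((Fin n → R) ⧸ L)) = n - 1
    rw [Φ.finrank_eq]
    haveI : Nontrivial R := p.isPrime.ne_top |> fun h => by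
      refine nontrivial_of_ne (0 : R) 1 fun h01 => h ?_
      rw [Ideal.eq_top_iff_one, ← h01]; exact zero_mem _
    have h := congrFun (Module.rankAtStalk_eq_finrank_of_free (R := R)
      (M := ({j : Fin n // j ≠ i} → R))) p
    rw [Pi.natCast_apply, Nat.cast_id, Module.finrank_fintype_fun_eq_card,
      Fintype.card_subtype_compl, Fintype.card_subtype_eq, Fintype.card_fin] at h
    exact h

end Groth.Agent.S19573
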