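import Groth.Statements.S19574
import Mathlib

set_option autoImplicit false
universe u
open CategoryTheory MonoidalCategory
open Lie3Mod

namespace Groth.Agent.S19574


section Core
open TensorProduct
variable {R : Type u} [CommRing R]

theorem mk_eq_zero_iff (I : Ideal R) {M : Type u} [AddCommGroup M] [Module R M] (m : M) :
    ((1 : R ⧸ I) ⊗ₜ[R] m) = 0 ↔ ∃ w : I ⊗[R] M, TensorProduct.lid R M (I.subtype.rTensor M w) = m := by
  have hex : Function.Exact (I.subtype.rTensor M) ((Submodule.mkQ I).rTensor M) :=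
    rTensor_exact M (LinearMap.exact_subtype_mkQ I) (Submodule.mkQ_surjective I)
  constructor
  · intro h
    obtain ⟨w, hw⟩ := (hex ((1 : R) ⊗ₜ[R] m)).1 h
    exact ⟨w, by rw [hw, TensorProduct.lid_tmul, one_smul]⟩
  · rintro ⟨w, rfl⟩
    refine Eq.trans ?_ (hex.apply_apply_eq_zero w)
    conv_rhs => rw [← (TensorProduct.lid R M).symm_apply_apply (I.subtype.rTensor M w), TensorProduct.lid_symm_apply]
    rfl

theorem exists_eq_mk (I : Ideal R) {M : Type u} [AddCommGroup M] [Module R M] (z : (R ⧸ I) ⊗[R] M) :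
    ∃ m : M, (1 : R ⧸ I) ⊗ₜ[R] m = z := by
  obtain ⟨y, rfl⟩ := LinearMap.rTensor_surjective M (Submodule.mkQ_surjective I) z
  refine ⟨TensorProduct.lid R M y, ?_⟩
  conv_rhs => rw [← (TensorProduct.lid R M).symm_apply_apply y, TensorProduct.lid_symm_apply]
  rfl

theorem mul_nat (I : Ideal R) {M N : Type u} [AddCommGroup M] [Module R M] [AddCommGroup N] [Module R N]
    (f : M →ₗ[R] N) (w : I ⊗[R] M) :
    f (TensorProduct.lid R M (I.subtype.rTensor M w)) =
      TensorProduct.lid R N (I.subtype.rTensor N (f.lTensor I w)) := by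
  induction w using TensorProduct.induction_on with
  | zero => simp
  | add a b ha hb => simp only [map_add, ha, hb]
  | tmul a b => simp

theorem flat_core {K0 K1 K2 K3 : Type u} [AddCommGroup K0] [Module R K0] [AddCommGroup K1] [Module R K1]
    [AddCommGroup K2] [Module R K2] [AddCommGroup K3] [Module R K3]
    (d1 : K1 →ₗ[R] K0) (d2 : K2 →ₗ[R] K1) (d3 : K3 →ₗ[R] K2)
    (hs : Function.Surjective d1) (h1 : Function.Exact d2 d1) (h23 : ∀ x, d2 (d3 x) = 0)
    (hq : ∀ I : Ideal R, Function.Exact (d3.lTensor (R ⧸ I)) (d2.lTensor (R ⧸ I)))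
    [Module.Flat R K1] : Module.Flat R K0 := by
  rw [Module.Flat.iff_rTensor_injective']
  intro I
  have hinj : Function.Injective (I.subtype.rTensor K1) :=
    Module.Flat.iff_rTensor_injective'.1 inferInstance I
  refine (injective_iff_map_eq_zero _).2 fun z hz => ?_
  obtain ⟨w, rfl⟩ := LinearMap.lTensor_surjective I hs z
  have hd1 : d1 (TensorProduct.lid R K1 (I.subtype.rTensor K1 w)) = 0 := by rw [mul_nat, hz, map_zero]
  obtain ⟨k2, hk2⟩ := (h1 _).1 hd1
  have h0 : (d2.lTensor (R ⧸ I)) ((1 : R ⧸ I) ⊗ₜ[R] k2) = 0 := by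
    rw [LinearMap.lTensor_tmul, hk2, mk_eq_zero_iff]
    exact ⟨w, rfl⟩
  obtain ⟨y, hy⟩ := (hq I _).1 h0
  obtain ⟨k3, rfl⟩ := exists_eq_mk I y
  rw [LinearMap.lTensor_tmul, eq_comm, ← sub_eq_zero, ← TensorProduct.tmul_sub, mk_eq_zero_iff] at hy
  obtain ⟨w2, hw2⟩ := hy
  have hw : w = d2.lTensor I w2 := by
    refine hinj ((TensorProduct.lid R K1).injective ?_)
    rw [← mul_nat, hw2, map_sub, h23, sub_zero, hk2]
  rw [hw, ← LinearMap.lTensor_comp_apply, h1.linearMap_comp_eq_zero, LinearMap.lTensor_zero, LinearMap.zero_apply]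

end Core

/-- Let R be a commutative ring and d ≥ 1. Let K be a chain complex of R-modules concentrated in degrees
0, …, d + 1, written … → 0 → P_{d+1} → P_d → … → P_1 → M with M = K_0, which is exact (so 0 →
P_{d+1} → … → P_1 → M → 0 is an exact sequence), such that P_1, …, P_d are flat R-modules and such
that for every ideal I of R the complex obtained by applying (R/I) ⊗_R − termwise is again exact.
Then M is a flat R-module. (No flatness is assumed for P_{d+1}. The published lemma adds that for R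
Noetherian it suffices to test prime ideals I; that refinement is not part of this statement.) -/
theorem result (R : Type u) [CommRing R]
    (d : ℕ) (hd : 1 ≤ d) (K : ChainComplex (ModuleCat.{u} R) ℕ)
    (hzero : ∀ i : ℕ, d + 1 < i → Limits.IsZero (K.X i))
    (hflat : ∀ i : ℕ, 1 ≤ i → i ≤ d → Module.Flat R (K.X i))
    (hK : K.Acyclic)
    (hbc : ∀ I : Ideal R,
      (((tensorLeft (ModuleCat.of R (R ⧸ I))).mapHomologicalComplex (ComplexShape.down ℕ)).obj K).Acyclic) :
    Module.Flat R (K.X 0) := by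
  have h1 : ∀ (L : ChainComplex (ModuleCat.{u} R) ℕ), L.Acyclic →
      ∀ i : ℕ, Function.Exact (L.d (i + 2) (i + 1)).hom (L.d (i + 1) i).hom := by
    intro L hL i
    have h := hL (i + 1)
    rw [HomologicalComplex.exactAt_iff' L (i + 2) (i + 1) i (by simp) (by simp),
      ShortComplex.ShortExact.moduleCat_exact_iff_function_exact] at h
    exact h
  have hs : Function.Surjective (K.d 1 0).hom := by
    intro x
    have h := hK 0
    rw [HomologicalComplex.exactAt_iff' K 1 0 0 (by simp) (by simp), ShortComplex.moduleCat_exact_iff] at h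
    exact h x (by rw [HomologicalComplex.shortComplexFunctor'_obj_g, K.shape 0 0 (by simp)]; rfl)
  haveI := hflat 1 le_rfl hd
  exact flat_core (K.d 1 0).hom (K.d 2 1).hom (K.d 3 2).hom hs (h1 K hK 0)
    (fun x => (h1 K hK 1).apply_apply_eq_zero x) fun I => h1 _ (hbc I) 1

end Groth.Agent.S19574
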