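import Groth.Statements.S19575
import Groth.Agent.Eta.Rel

set_option autoImplicit false
universe u
open EtaPt

namespace Groth.Agent.S19575

/-- Let η be the field-endofunctor datum of the pointwise construction, A a commutative ring with
finitely many minimal prime ideals and φ : A → B a ring map inducing a surjection on prime spectra.
If the canonical map A → (B/A)_η (the corestriction of φ onto the subring of B of elements whose
image in ∏_q F(k(q)) comes from M_η(A)) is bijective, then for every f ∈ A the canonical map A_f →
(B_f/A_f)_η attached to the localized map A_f → B_{φ(f)} is bijective as well. -/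
theorem result (η : EtaPt.FieldEndo.{u}) {A B : Type u} [CommRing A] [CommRing B]
    (hA : (minimalPrimes A).Finite) (φ : A →+* B) (hs : Function.Surjective (PrimeSpectrum.comap φ))
    (h : Function.Bijective (η.qRel φ)) (f : A) :
    Function.Bijective (η.qRel (Localization.awayMap φ f)) := by
  rw [η.bijective_qRel_iff] at h ⊢
  obtain ⟨hinj, hsur⟩ := h
  refine ⟨(injective_iff_map_eq_zero _).2 fun y hy => ?_, fun y hy => ?_⟩
  · obtain ⟨n, a, ha⟩ := IsLocalization.Away.surj f y
    have h2 := congrArg (Localization.awayMap φ f) ha
    rw [map_mul, hy, zero_mul, Localization.awayMap, IsLocalization.Away.map, IsLocalization.map_eq] at h2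
    obtain ⟨⟨_, m, rfl⟩, hm⟩ := (IsLocalization.map_eq_zero_iff (Submonoid.powers (φ f)) _ _).1 h2.symm
    have h3 : algebraMap A (Localization.Away f) a = 0 := (IsLocalization.map_eq_zero_iff (Submonoid.powers f) _ _).2
      ⟨⟨f ^ m, m, rfl⟩, hinj (by rw [map_mul, map_zero, map_pow]; exact hm)⟩
    rw [h3] at ha
    exact ((IsLocalization.Away.algebraMap_isUnit f).pow n).mul_left_eq_zero.1 ha
  · obtain ⟨x, hx, n, hxn⟩ := η.rel_away_spec φ hA f hy
    obtain ⟨a, rfl⟩ := hsur x hx
    refine ⟨IsLocalization.mk' (Localization.Away f) a (⟨f ^ n, n, rfl⟩ : Submonoid.powers f), ?_⟩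
    have hu : IsUnit (algebraMap B (Localization.Away (φ f)) (φ f) ^ n) :=
      (IsLocalization.Away.algebraMap_isUnit (φ f)).pow n
    refine hu.mul_left_injective ?_
    show _ * algebraMap B (Localization.Away (φ f)) (φ f) ^ n = y * algebraMap B (Localization.Away (φ f)) (φ f) ^ n
    rw [hxn, Localization.awayMap, IsLocalization.Away.map, IsLocalization.map_mk', ← map_pow,
      ← map_pow φ]
    exact IsLocalization.mk'_spec _ _ (⟨φ (f ^ n), n, (map_pow φ f n).symm⟩ : Submonoid.powers (φ f))

end Groth.Agent.S19575
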