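import Groth.Statements.S19576
import Groth.Agent.Eta.Rel

set_option autoImplicit false
universe u
open EtaPt

namespace Groth.Agent.S19576

/-- Let η be the field-endofunctor datum of the pointwise construction, A a commutative ring with
finitely many minimal prime ideals and φ : A → B a ring map inducing a surjection on prime spectra.
If finitely many elements f_1, …, f_n of A generate the unit ideal and, for each i, the canonical
map A_{f_i} → (B_{f_i}/A_{f_i})_η attached to the localized map A_{f_i} → B_{φ(f_i)} is bijective,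
then the canonical map A → (B/A)_η is bijective. -/
theorem result (η : EtaPt.FieldEndo.{u}) {A B : Type u} [CommRing A] [CommRing B]
    (hA : (minimalPrimes A).Finite) (φ : A →+* B) (hs : Function.Surjective (PrimeSpectrum.comap φ))
    (s : Finset A) (hspan : Ideal.span (s : Set A) = ⊤)
    (h : ∀ f ∈ s, Function.Bijective (η.qRel (Localization.awayMap φ f))) :
    Function.Bijective (η.qRel φ) := by
  simp only [η.bijective_qRel_iff] at h ⊢
  have hloc : ∀ I : Ideal A, (∀ f ∈ s, ∃ n, f ^ n ∈ I) → I = ⊤ := fun I hI => by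
    rw [← Ideal.radical_eq_top, eq_top_iff, ← hspan, Ideal.span_le]
    exact fun f hf => hI f hf
  have hcomp : ∀ f, (Localization.awayMap φ f).comp (algebraMap A _) = (algebraMap B _).comp φ := fun f => by
    rw [Localization.awayMap, IsLocalization.Away.map, IsLocalization.map_comp]
  refine ⟨(injective_iff_map_eq_zero φ).2 fun a ha => ?_, fun b hb => ?_⟩
  · have := hloc (Submodule.annihilator (Submodule.span A {a})) fun f hf => by
      have h0 : algebraMap A (Localization.Away f) a = 0 := (h f hf).1 (by
        rw [← RingHom.comp_apply, hcomp, RingHom.comp_apply, ha, map_zero, map_zero])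
      obtain ⟨⟨_, n, rfl⟩, hn⟩ := (IsLocalization.map_eq_zero_iff (Submonoid.powers f) _ _).1 h0
      exact ⟨n, (Submodule.mem_annihilator_span_singleton _ _).2 hn⟩
    have h1 := (Submodule.mem_annihilator_span_singleton _ _).1 (this ▸ Submodule.mem_top : (1 : A) ∈ _)
    rwa [one_smul] at h1
  · let 𝔞 : Ideal A :=
      { carrier := {r | ∃ a, φ a = φ r * b}
        zero_mem' := ⟨0, by simp⟩
        add_mem' := fun {r r'} ⟨a, ha⟩ ⟨a', ha'⟩ => ⟨a + a', by rw [map_add, map_add, add_mul, ha, ha']⟩
        smul_mem' := fun c r ⟨a, ha⟩ => ⟨c * a, by rw [smul_eq_mul, map_mul, map_mul, mul_assoc, ha]⟩ }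
    have := hloc 𝔞 fun f hf => by
      obtain ⟨z, hz⟩ := (h f hf).2 _ (η.map_rel_away_le φ f ⟨b, hb, rfl⟩)
      obtain ⟨n, a, ha⟩ := IsLocalization.Away.surj f z
      have h2 := congrArg (Localization.awayMap φ f) ha
      rw [map_mul, hz, map_pow, ← RingHom.comp_apply, hcomp, ← RingHom.comp_apply (Localization.awayMap φ f), hcomp,
        RingHom.comp_apply, RingHom.comp_apply, ← map_pow, ← map_mul] at h2
      obtain ⟨⟨_, m, rfl⟩, hm⟩ := (IsLocalization.eq_iff_exists (Submonoid.powers (φ f)) _).1 h2
      refine ⟨m + n, f ^ m * a, ?_⟩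
      dsimp only at hm
      rw [map_mul, map_pow, map_pow, ← hm]; ring
    obtain ⟨a, ha⟩ := (this ▸ Submodule.mem_top : (1 : A) ∈ 𝔞)
    exact ⟨a, by rw [ha, map_one, one_mul]⟩

end Groth.Agent.S19576
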