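import Groth.Statements.S19577
import Groth.Agent.Eta.Main

set_option autoImplicit false
universe u
open EtaPt

namespace Groth.Agent.S19577

/-- Let f : A → B be a homomorphism of commutative rings, each with only finitely many minimal primes.
Then M_η(f) : M_η(A) → M_η(B) is integral exactly when f is integral, and Spec M_η(f) is surjective
exactly when Spec f is. Here η is the field-endofunctor datum of the pointwise construction, M_η(A)
⊆ ∏_p F(k(p)) the subring attached to A with q_A : A → M_η(A), and M_η(f) : M_η(A) → M_η(B) the ring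
map induced by N_η(f), pinned here as the ring map g compatible with N_η(f) under the two subring
inclusions. -/
theorem result (η : EtaPt.FieldEndo.{u}) {A B : Type u} [CommRing A] [CommRing B]
    (hA : (minimalPrimes A).Finite) (hB : (minimalPrimes B).Finite) (f : A →+* B)
    (g : η.M A →+* η.M B) (hg : ∀ x : η.M A, ((g x : η.M B) : η.N B) = η.Nmap f (x : η.N A)) :
    (f.IsIntegral ↔ g.IsIntegral) ∧
      (Function.Surjective (PrimeSpectrum.comap f) ↔ Function.Surjective (PrimeSpectrum.comap g)) := by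
  have hsq : g.comp (η.q A) = (η.q B).comp f := RingHom.ext fun a =>
    Subtype.ext ((hg _).trans (η.Nmap_t_apply f a))
  have hsp : ∀ Q, PrimeSpectrum.comap (η.q A) (PrimeSpectrum.comap g Q) =
      PrimeSpectrum.comap f (PrimeSpectrum.comap (η.q B) Q) := fun Q => by
    rw [← PrimeSpectrum.comap_comp_apply, hsq, PrimeSpectrum.comap_comp_apply]
  refine ⟨⟨fun hf => RingHom.IsIntegral.tower_top (η.q A) g (hsq ▸ hf.trans _ _ (η.isIntegral_q hB)), fun hgi b => ?_⟩,
    ⟨fun hf Q => ?_, fun hgs p => ?_⟩⟩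
  · have : ((η.q B).comp f).IsIntegral := hsq ▸ (η.isIntegral_q hA).trans _ _ hgi
    obtain ⟨P, hP, hP0⟩ := this (η.q B b)
    rw [← Polynomial.hom_eval₂] at hP0
    obtain ⟨n, hn⟩ : IsNilpotent (P.eval₂ f b) := nilpotent_iff_mem_prime.2 fun Q hQ =>
      Ideal.algebraMap_residueField_eq_zero.1 ((η.eta _).injective
        ((congrFun (congrArg Subtype.val hP0) ⟨Q, hQ⟩).trans (map_zero _).symm))
    exact ⟨P ^ n, hP.pow n, by rw [Polynomial.eval₂_pow, hn]⟩
  · obtain ⟨Qb, hQb⟩ := hf (PrimeSpectrum.comap (η.q A) Q)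
    obtain ⟨Q', rfl⟩ := (η.comap_q_bijective hB).2 Qb
    exact ⟨Q', (η.comap_q_bijective hA).1 ((hsp Q').trans hQb)⟩
  · obtain ⟨Q, rfl⟩ := (η.comap_q_bijective hA).2 p
    obtain ⟨Q', rfl⟩ := hgs Q
    exact ⟨_, (hsp Q').symm⟩

end Groth.Agent.S19577
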