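import Groth.Statements.S19578
import Groth.Agent.Eta.Main

set_option autoImplicit false
universe u
open EtaPt

namespace Groth.Agent.S19578

/-- Let f : A → B be a homomorphism of commutative rings, each with only finitely many minimal primes,
and suppose the induced map M_η(f) : M_η(A) → M_η(B) is an isomorphism. Then Spec f is a bijection
between the prime ideals of B and of A, and for every prime q of B, with p = f⁻¹(q), there is a ring
map φ : k(q) → F(k(p)) whose composite with the residue field map k(p) → k(q) equals η_{k(p)}. Here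
η is the field-endofunctor datum of the pointwise construction, M_η(A) ⊆ ∏_p F(k(p)) the subring
attached to A with q_A : A → M_η(A), and M_η(f) : M_η(A) → M_η(B) the ring map induced by N_η(f),
pinned here as the ring map g compatible with N_η(f) under the two subring inclusions. -/
theorem result (η : EtaPt.FieldEndo.{u}) {A B : Type u} [CommRing A] [CommRing B]
    (hA : (minimalPrimes A).Finite) (hB : (minimalPrimes B).Finite) (f : A →+* B)
    (g : η.M A →+* η.M B) (hg : ∀ x : η.M A, ((g x : η.M B) : η.N B) = η.Nmap f (x : η.N A))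
    (hbij : Function.Bijective g) :
    Function.Bijective (PrimeSpectrum.comap f) ∧
      ∀ Q : PrimeSpectrum B,
        ∃ φ : Q.asIdeal.ResidueField →+* η.obj (PrimeSpectrum.comap f Q).asIdeal.ResidueField,
          φ.comp (Ideal.ResidueField.map (PrimeSpectrum.comap f Q).asIdeal Q.asIdeal f rfl) =
            η.eta (PrimeSpectrum.comap f Q).asIdeal.ResidueField := by
  have hsq : g.comp (η.q A) = (η.q B).comp f := RingHom.ext fun a =>
    Subtype.ext ((hg _).trans (η.Nmap_t_apply f a))
  refine (η.Nmap_bijective_iff' f).1 ((Function.Bijective.of_comp_iff' (η.Nmap_q_bijective hB) _).1 ?_)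
  have : ⇑(η.Nmap (η.q B)) ∘ ⇑(η.Nmap f) = ⇑(η.Nmap g) ∘ ⇑(η.Nmap (η.q A)) := funext fun x => by
    rw [Function.comp_apply, Function.comp_apply, ← η.Nmap_comp, ← η.Nmap_comp, hsq]
  rw [this]
  refine Function.Bijective.comp ((η.Nmap_bijective_iff g).2 ⟨?_, fun Q => ?_⟩) (η.Nmap_q_bijective hA)
  · exact (PrimeSpectrum.comapEquiv (RingEquiv.ofBijective g hbij).symm).bijective
  · let ι := Ideal.ResidueField.map (PrimeSpectrum.comap g Q).asIdeal Q.asIdeal g rfl
    refine η.map_bijective_of_equiv (RingEquiv.ofBijective ι ⟨ι.injective, fun z => ?_⟩)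
    obtain ⟨x₁, x₂, -, rfl⟩ := IsFractionRing.div_surjective (A := (η.M B) ⧸ Q.asIdeal) z
    obtain ⟨b₁, rfl⟩ := Ideal.Quotient.mk_surjective x₁
    obtain ⟨b₂, rfl⟩ := Ideal.Quotient.mk_surjective x₂
    obtain ⟨a₁, rfl⟩ := hbij.2 b₁
    obtain ⟨a₂, rfl⟩ := hbij.2 b₂
    exact ⟨algebraMap _ _ a₁ / algebraMap _ _ a₂, by
      rw [map_div₀, Ideal.ResidueField.map_algebraMap, Ideal.ResidueField.map_algebraMap]; rfl⟩

end Groth.Agent.S19578
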