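import Groth.Statements.S19579
import Groth.Agent.AbDualLib.Prim
-- import your own Groth.Agent.* helpers here

set_option autoImplicit false
universe u
open CategoryTheory CategoryTheory.Limits MonoidalCategory CartesianMonoidalCategory MonObj AlgebraicGeometry
open AbVar

namespace Groth.Agent.S19579

/-- The implication from triviality of the Mumford bundle on one fibre to its triviality relative to the
base, with the identification of the descended bundle. Let X be an abelian variety over a field k
(proper, geometrically integral k-group scheme with multiplication m and unit e), T a connected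
locally Noetherian k-scheme and L an invertible module on X ×_k T. On X ×_k X ×_k T let m_T, p_13,
p_23 be the maps to X ×_k T induced by m and by the two projections X × X → X, π the projection to
T, and e_T : T → X ×_k T the unit section. If there is a point t of T over whose fibre X × X × Spec
k(t) the modules m_T^*L and p_13^*L ⊗ p_23^*L become isomorphic (equivalently the Mumford bundle
Λ(L) = m_T^*L ⊗ p_13^*L⁻¹ ⊗ p_23^*L⁻¹ is trivial on one fibre), then m_T^*L ⊗ π^*(e_T^*L) and
p_13^*L ⊗ p_23^*L are isomorphic on all of X × X × T, i.e. Λ(L) ≅ π^*N with N = e_T^*L⁻¹ (existence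
of an isomorphism). -/
theorem result (k : Type u) [Field k]
    (X T : Over (Spec (CommRingCat.of k)))
    [GrpObj X] [IsProper X.hom] [GeometricallyIntegral X.hom]
    [IsLocallyNoetherian T.left] [ConnectedSpace ↥T.left]
    (L : (X ⊗ T).left.Modules) (hL : PicF.IsInvertible L)
    (t : ↥T.left)
    (ht : Nonempty
      ((Scheme.Modules.pullback (pullback.fst (snd (X ⊗ X) T).left
          (T.left.fromSpecResidueField t))).obj
          ((Scheme.Modules.pullback (μ[X] ▷ T).left).obj L) ≅
       (Scheme.Modules.pullback (pullback.fst (snd (X ⊗ X) T).left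
          (T.left.fromSpecResidueField t))).obj
          (CohB1.tensorMod ((Scheme.Modules.pullback (fst X X ▷ T).left).obj L)
            ((Scheme.Modules.pullback (snd X X ▷ T).left).obj L)))) :
    Nonempty
      (CohB1.tensorMod ((Scheme.Modules.pullback (μ[X] ▷ T).left).obj L)
          ((Scheme.Modules.pullback (snd (X ⊗ X) T).left).obj
            ((Scheme.Modules.pullback (CartesianMonoidalCategory.lift (toUnit T ≫ η[X]) (𝟙 T)).left).obj L)) ≅
        CohB1.tensorMod ((Scheme.Modules.pullback (fst X X ▷ T).left).obj L)
          ((Scheme.Modules.pullback (snd X X ▷ T).left).obj L)) := by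
  haveI : Flat X.hom := inferInstance
  let c := PicLib.cls hL
  have hm : ∀ (a : X ⊗ X ⟶ X), (a ▷ T).left = AbDual.bcMap a T := fun a => by
    apply pullback.hom_ext
    · rw [AbDualLib.bcMap_fst]
      exact congrArg CommaMorphism.left (whiskerRight_fst a T)
    · exact (congrArg CommaMorphism.left (whiskerRight_snd a T)).trans (AbDualLib.bcMap_snd a T).symm
  have he : (CartesianMonoidalCategory.lift (toUnit T ≫ η[X]) (𝟙 T)).left = AbDualLib.eT X T := by
    apply pullback.hom_ext
    · rw [AbDualLib.eT_fst]
      exact congrArg CommaMorphism.left (lift_fst (toUnit T ≫ η[X]) (𝟙 T))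
    · rw [AbDualLib.eT_snd]
      exact congrArg CommaMorphism.left (lift_snd (toUnit T ≫ η[X]) (𝟙 T))
  simp only [hm] at ht ⊢
  rw [he]
  have hfib : PicLib.pull ((PicF.XTproj (X ⊗ X).hom T).fiberι t) (AbDualLib.dfc T c) = 1 := by
    have e1 : PicLib.pull ((PicF.XTproj (X ⊗ X).hom T).fiberι t) (PicLib.pull (AbDual.bcMap μ[X] T) c) =
        PicLib.pull ((PicF.XTproj (X ⊗ X).hom T).fiberι t)
          (PicLib.pull (AbDual.bcMap (fst X X) T) c * PicLib.pull (AbDual.bcMap (snd X X) T) c) := by
      simp only [c, PicLib.pull_cls, ← PicLib.cls_tensor]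
      exact (PicLib.cls_eq_cls _ _).2 ht
    have e2 : (PicF.XTproj (X ⊗ X).hom T).fiberι t ≫ PicF.XTproj (X ⊗ X).hom T ≫ AbDualLib.eT X T =
        (PicF.XTproj (X ⊗ X).hom T).fiberToSpecResidueField t ≫ T.left.fromSpecResidueField t ≫ AbDualLib.eT X T := by
      rw [← Category.assoc, ← Category.assoc ((PicF.XTproj (X ⊗ X).hom T).fiberToSpecResidueField t)]
      exact congrArg (· ≫ _) pullback.condition
    have e3 : PicLib.pull ((PicF.XTproj (X ⊗ X).hom T).fiberι t)
        (PicLib.pull (PicF.XTproj (X ⊗ X).hom T ≫ AbDualLib.eT X T) c) = 1 := by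
      rw [← PicLib.pull_comp, e2, PicLib.pull_comp,
        show PicLib.pull (T.left.fromSpecResidueField t ≫ AbDualLib.eT X T) c = 1 from
          PicLib.eq_one_of_local (R := CommRingCat.of (T.left.residueField t)) _, map_one]
    simp only [AbDualLib.dfc, map_mul, map_inv] at e1 e3 ⊢
    rw [e1, e3, _root_.mul_one, mul_inv_cancel]
  have h := (AbDualLib.dfc_eq_one_iff T c).1 (AbDualLib.dfc_eq_one_of_fibres T c (.inr ⟨inferInstance, t, hfib⟩))
  rw [PicLib.pull_comp] at h
  simp only [c, PicLib.pull_cls, ← PicLib.cls_tensor] at h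
  exact (PicLib.cls_eq_cls _ _).1 h

end Groth.Agent.S19579
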