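import Groth.Statements.S19582
import Groth.Agent.EquidimUniv.Closure
import Groth.Agent.S18266
import Groth.Agent.SmLiftCrit.Scheme
-- import your own Groth.Agent.* helpers here

set_option autoImplicit false
set_option backward.isDefEq.respectTransparency false
set_option linter.style.haveILetI false
set_option maxHeartbeats 1000000
universe u
open Cyc

namespace Groth.Agent.S19582

open CategoryTheory CategoryTheory.Limits AlgebraicGeometry in
/-- Let S be a separated Noetherian scheme, p : X → S separated of finite type, z a point of X lying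
over a generic point of an irreducible component of S whose closure in its fibre p⁻¹(p z) has
dimension r, and ι : Z → X a closed immersion from a reduced scheme with image the closure of z. Let
R be a discrete valuation ring with fraction field K and x : Spec R → S a morphism sending the
generic point of Spec R to a generic point of an irreducible component of S, and let q : φ → Spec R
be the flat closure φ = φ_x(Z) of Z along x, i.e. the scheme-theoretic image of Z ×_S Spec K in Z
×_S Spec R, with its projection to Spec R. Then q is universally equidimensional of dimension r: for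
every scheme S' and every S' → Spec R, the base change φ ×_R S' → S' has local fibre dimension r at
every point (the dimension at w of the fibre through w is r) and every irreducible component of φ
×_R S' dominates an irreducible component of S'. -/
theorem result {X S Z : Scheme.{u}} [IsNoetherian S] [S.IsSeparated] [X.IsSeparated]
    (p : X ⟶ S) [LocallyOfFiniteType p] [QuasiCompact p] (z : X) (hz : closure {p.base z} ∈ irreducibleComponents ↥S)
    (r : ℕ) (hr : topologicalKrullDim ↥(closure ({p.asFiber z} : Set ↥(p.fiber (p.base z)))) = r)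
    (ι : Z ⟶ X) [IsClosedImmersion ι] [IsReduced Z] (hZ : Set.range ι.base = closure {z})
    (R : Type u) [CommRing R] [IsDomain R] [IsDiscreteValuationRing R] (x : Spec (CommRingCat.of R) ⟶ S)
    (hx : closure {x.base ⟨⊥, Ideal.isPrime_bot⟩} ∈ irreducibleComponents ↥S)
    (q : (pullback.map (ι ≫ p) (Spec.map (CommRingCat.ofHom (algebraMap R (FractionRing R))) ≫ x) (ι ≫ p) x (𝟙 Z) (Spec.map (CommRingCat.ofHom (algebraMap R (FractionRing R)))) (𝟙 S) ((Category.comp_id _).trans (Category.id_comp _).symm) (Category.comp_id _)).ker.subscheme ⟶ Spec (CommRingCat.of R))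
    (hq : q = (pullback.map (ι ≫ p) (Spec.map (CommRingCat.ofHom (algebraMap R (FractionRing R))) ≫ x) (ι ≫ p) x (𝟙 Z) (Spec.map (CommRingCat.ofHom (algebraMap R (FractionRing R)))) (𝟙 S) ((Category.comp_id _).trans (Category.id_comp _).symm) (Category.comp_id _)).ker.subschemeι ≫ pullback.snd (ι ≫ p) x)
    (S' : Scheme.{u}) (g : S' ⟶ Spec (CommRingCat.of R)) :
    (∀ w : ↥(pullback q g), FlatMor.fibreDimAt (pullback.snd q g) w = r) ∧
      ∀ C ∈ irreducibleComponents ↥(pullback q g),
        closure ((pullback.snd q g).base '' C) ∈ irreducibleComponents ↥S' := by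
  subst hq
  let η : ↥(Spec (CommRingCat.of R)) := ⟨⊥, Ideal.isPrime_bot⟩
  let gK := Spec.map (CommRingCat.ofHom (algebraMap R (FractionRing R)))
  let q₀ := pullback.snd (ι ≫ p) x
  let j : pullback (ι ≫ p) (gK ≫ x) ⟶ pullback (ι ≫ p) x :=
    pullback.map (ι ≫ p) (gK ≫ x) (ι ≫ p) x (𝟙 Z) gK (𝟙 S)
      ((Category.comp_id _).trans (Category.id_comp _).symm) (Category.comp_id _)
  change (∀ w : ↥(pullback (j.ker.subschemeι ≫ q₀) g), FlatMor.fibreDimAt _ w = r) ∧ _
  have ej1 : j ≫ pullback.fst (ι ≫ p) x = pullback.fst (ι ≫ p) (gK ≫ x) := by simp [j]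
  have ej2 : j ≫ q₀ = pullback.snd (ι ≫ p) (gK ≫ x) ≫ gK := by simp [j, q₀, gK]
  have hj : IsPullback j (pullback.snd (ι ≫ p) (gK ≫ x)) q₀ gK :=
    IsPullback.of_right (by rw [ej1]; exact IsPullback.of_hasPullback _ _) ej2 (IsPullback.of_hasPullback _ _)
  obtain ⟨ϖ, hϖ⟩ := IsDiscreteValuationRing.exists_irreducible R
  haveI : IsLocalization.Away ϖ (FractionRing R) := by
    refine (IsLocalization.iff_of_le_of_exists_dvd (M := Submonoid.powers ϖ) (S := FractionRing R) (nonZeroDivisors R) ?_ ?_).2 inferInstance
    · exact powers_le_nonZeroDivisors_of_noZeroDivisors hϖ.ne_zero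
    · intro x hx
      obtain ⟨k, u, rfl⟩ := IsDiscreteValuationRing.eq_unit_mul_pow_irreducible (nonZeroDivisors.ne_zero hx) hϖ
      exact ⟨ϖ ^ k, ⟨k, rfl⟩, ⟨↑u⁻¹, by rw [mul_comm (u : R), mul_assoc, Units.mul_inv, mul_one]⟩⟩
  haveI hgK : IsOpenImmersion gK := IsOpenImmersion.of_isLocalization ϖ
  haveI : IsOpenImmersion j := MorphismProperty.of_isPullback (P := @IsOpenImmersion) hj.flip hgK
  have hgKrange : Set.range gK = {η} := by
    refine Set.eq_singleton_iff_unique_mem.2 ?_
    have key : ∀ v : ↥(Spec (CommRingCat.of (FractionRing R))), gK v = η := fun v => by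
      refine PrimeSpectrum.ext ?_
      show Ideal.comap (algebraMap R (FractionRing R)) v.asIdeal = ⊥
      rw [show v.asIdeal = ⊥ from (Ideal.eq_bot_or_top _).resolve_right v.2.ne_top,
        ← RingHom.ker_eq_comap_bot]
      exact (RingHom.injective_iff_ker_eq_bot _).1 (IsFractionRing.injective R (FractionRing R))
    exact ⟨⟨IsLocalRing.closedPoint (FractionRing R), key _⟩, by rintro _ ⟨v, rfl⟩; exact key v⟩
  have hjrange : Set.range j = q₀ ⁻¹' {η} := by
    rw [← hj.isoPullback_hom_fst, Scheme.Hom.comp_base, TopCat.coe_comp, Set.range_comp,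
      Set.range_eq_univ.2 hj.isoPullback.hom.surjective, Set.image_univ, Scheme.Pullback.range_fst, hgKrange]
  -- the flat closure is flat
  obtain ⟨hflat, -⟩ := Groth.Agent.S18266.result R q₀ η rfl
  haveI := Groth.Agent.S18266.isOpenImmersion_generic η rfl
  haveI : IsOpenImmersion (q₀.fiberι η) :=
    MorphismProperty.pullback_fst (P := @IsOpenImmersion) q₀ ((Spec (CommRingCat.of R)).fromSpecResidueField η)
      inferInstance
  have hker : (q₀.fiberι η).ker = j.ker := by
    rw [← IsOpenImmersion.isoOfRangeEq_hom_fac (q₀.fiberι η) j (by rw [Scheme.Hom.range_fiberι, hjrange]),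
      Scheme.Hom.ker_comp_of_isIso]
  have hflat' : Flat ((q₀.fiberι η).ker.subschemeι ≫ q₀) := hflat
  rw [hker] at hflat'
  haveI := hflat'
  haveI : QuasiCompact j := MorphismProperty.of_isPullback (P := @QuasiCompact) hj.flip inferInstance
  haveI : IsLocallyNoetherian (Spec (CommRingCat.of R)) := inferInstance
  haveI : LocallyOfFiniteType q₀ := inferInstance
  haveI : LocallyOfFiniteType (j.ker.subschemeι ≫ q₀) := inferInstance
  haveI : LocallyOfFinitePresentation (j.ker.subschemeι ≫ q₀) :=
    Groth.Agent.SmLiftCrit.lfp_of_noetherian _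
  refine EquidimUniv.univ_equidimensional _ (r : WithBot ℕ∞) (fun ξ hξ => ?_) g
  have hη : (j.ker.subschemeι ≫ q₀) ξ = η := by
    have h1 : η ⤳ (j.ker.subschemeι ≫ q₀) ξ :=
      (PrimeSpectrum.le_iff_specializes η _).1 (show (⊥ : Ideal R) ≤ _ from bot_le)
    exact ((FlatDim.maximal_map (j.ker.subschemeι ≫ q₀) (fun w hw => specializes_of_eq (hξ w hw).symm) η h1).antisymm h1).eq
  have hη' : q₀ (j.ker.subschemeι ξ) = η := hη
  rw [EquidimUniv.fibreDimAt_comp_closedImmersion j.ker.subschemeι q₀ ξ (by
    rw [hη', ← hjrange, Scheme.IdealSheafData.range_subschemeι, Scheme.Hom.support_ker]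
    exact subset_closure),
    LocDimBC.fibreDimAt_baseChange (IsPullback.of_hasPullback (ι ≫ p) x)]
  refine (EquidimUniv.fibreDimAt_eq_over_generic p z hz _ hr ι hZ _ ?_).2
  have hw : (ι ≫ p) (pullback.fst (ι ≫ p) x (j.ker.subschemeι ξ)) = x η := by
    rw [← hη', ← Scheme.Hom.comp_apply, ← Scheme.Hom.comp_apply q₀]
    exact congrArg (fun h : pullback (ι ≫ p) x ⟶ S => h _) pullback.condition
  rw [hw]
  exact hx

end Groth.Agent.S19582
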