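import Groth.Statements.S19583
import Groth.Agent.IdealStalkLib.Comap
import Mathlib.RingTheory.Flat.TorsionFree

set_option autoImplicit false
set_option backward.isDefEq.respectTransparency false
set_option linter.style.haveILetI false
set_option maxHeartbeats 1000000
universe u
open Cyc

namespace Groth.Agent.S19583

open CategoryTheory CategoryTheory.Limits AlgebraicGeometry
theorem comap_pow {X S : Scheme.{u}} (I : S.IdealSheafData) (f : X ⟶ S) (k : ℕ) :
    (I ^ k).comap f = (I.comap f) ^ k := by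
  let ι := {p : X.affineOpens × S.affineOpens // p.1.1 ≤ f ⁻¹ᵁ p.2.1}
  refine Scheme.IdealSheafData.ext_of_iSup_eq_top (fun p : ι => p.1.1) ?_ fun p => ?_
  · refine le_antisymm le_top fun x _ => ?_
    obtain ⟨W, hW, hxW, -⟩ := exists_isAffineOpen_mem_and_subset (X := S) (x := f.base x) (U := ⊤) trivial
    obtain ⟨V, hV, hxV, hVW⟩ := exists_isAffineOpen_mem_and_subset (X := X) (x := x) (U := f ⁻¹ᵁ W) hxW
    exact TopologicalSpace.Opens.mem_iSup.mpr ⟨⟨(⟨V, hV⟩, ⟨W, hW⟩), hVW⟩, hxV⟩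
  · rw [Scheme.IdealSheafData.ideal_pow, Pi.pow_apply,
      Groth.Agent.IdealStalkLib.comap_ideal (I ^ k) f p.1.2.2 p.1.1.2 p.2,
      Groth.Agent.IdealStalkLib.comap_ideal I f p.1.2.2 p.1.1.2 p.2,
      Scheme.IdealSheafData.ideal_pow, Pi.pow_apply, Ideal.map_pow]

/-- An ideal sheaf on a trait not vanishing at the generic point is given by a power of a uniformiser. -/
theorem exists_pow {R : Type u} [CommRing R] [IsDomain R] [IsDiscreteValuationRing R] (ϖ : R) (hϖ : Irreducible ϖ)
    (J : (Spec (CommRingCat.of R)).IdealSheafData)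
    (h : (⟨⊥, Ideal.isPrime_bot⟩ : PrimeSpectrum R) ∉ (J.support : Set ↥(Spec (CommRingCat.of R)))) :
    ∃ m : ℕ, J.ideal ⟨⊤, isAffineOpen_top _⟩ =
      Ideal.span {(Scheme.ΓSpecIso (CommRingCat.of R)).inv ϖ ^ m} := by
  let σ : Γ(Spec (CommRingCat.of R), ⊤) ≃+* R := (Scheme.ΓSpecIso (CommRingCat.of R)).commRingCatIsoToRingEquiv
  let A := J.ideal ⟨⊤, isAffineOpen_top _⟩
  have hA : A.map σ.toRingHom ≠ ⊥ := by
    intro h0
    have hA0 : A = ⊥ := (Ideal.map_eq_bot_iff_of_injective σ.injective).1 h0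
    have hz := Scheme.IdealSheafData.coe_support_inter J ⟨⊤, isAffineOpen_top (Spec (CommRingCat.of R))⟩
    refine h (Set.mem_of_mem_inter_left (hz.ge ⟨?_, trivial⟩))
    rw [show J.ideal ⟨⊤, isAffineOpen_top _⟩ = ⊥ from hA0, Scheme.zeroLocus]
    simp
  obtain ⟨m, hm⟩ := IsDiscreteValuationRing.ideal_eq_span_pow_irreducible hA hϖ
  refine ⟨m, ?_⟩
  have h2 := congrArg (Ideal.map σ.symm.toRingHom) hm
  rw [Ideal.map_map, Ideal.map_span, Set.image_singleton, map_pow] at h2
  have : σ.symm.toRingHom.comp σ.toRingHom = RingHom.id _ := RingHom.ext σ.symm_apply_apply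
  rw [this, Ideal.map_id] at h2
  exact h2

/-- The ideal of the generic fibre is the torsion. -/
theorem ker_generic {R : Type u} [CommRing R] [IsDomain R] [IsDiscreteValuationRing R] (ϖ : R) (hϖ : Irreducible ϖ)
    {W WK : Scheme.{u}} (r : W ⟶ Spec (CommRingCat.of R)) (j : WK ⟶ W)
    (rK : WK ⟶ Spec (CommRingCat.of (FractionRing R)))
    (hj : IsPullback j rK r (Spec.map (CommRingCat.ofHom (algebraMap R (FractionRing R)))))
    (V : W.affineOpens) (a : Γ(W, V.1)) :
    a ∈ j.ker.ideal V ↔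
      ∃ n : ℕ, (r.appLE ⊤ V.1 (by simp)).hom ((Scheme.ΓSpecIso (CommRingCat.of R)).inv ϖ) ^ n * a = 0 := by
  haveI : IsLocalization.Away ϖ (FractionRing R) := by
    refine (IsLocalization.iff_of_le_of_exists_dvd (M := Submonoid.powers ϖ) (S := FractionRing R) (nonZeroDivisors R) ?_ ?_).2 inferInstance
    · exact powers_le_nonZeroDivisors_of_noZeroDivisors hϖ.ne_zero
    · intro x hx
      obtain ⟨k, u, rfl⟩ := IsDiscreteValuationRing.eq_unit_mul_pow_irreducible (nonZeroDivisors.ne_zero hx) hϖ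
      exact ⟨ϖ ^ k, ⟨k, rfl⟩, ⟨↑u⁻¹, by rw [mul_comm (u : R), mul_assoc, Units.mul_inv, mul_one]⟩⟩
  let gK := Spec.map (CommRingCat.ofHom (algebraMap R (FractionRing R)))
  haveI hgK : IsOpenImmersion gK := IsOpenImmersion.of_isLocalization ϖ
  haveI : IsOpenImmersion j := MorphismProperty.of_isPullback (P := @IsOpenImmersion) hj.flip hgK
  haveI : IsAffineHom j := MorphismProperty.of_isPullback (P := @IsAffineHom) hj.flip inferInstance
  let τ := (Scheme.ΓSpecIso (CommRingCat.of R)).inv ϖ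
  let t := (r.appLE ⊤ V.1 (by simp)).hom τ
  have hr : j ''ᵁ (j ⁻¹ᵁ V.1) = W.basicOpen t := by
    rw [Scheme.Hom.image_preimage_eq_opensRange_inf, Scheme.basicOpen_appLE, inf_comm]
    congr 1
    apply TopologicalSpace.Opens.coe_inj.1
    rw [Scheme.Hom.coe_opensRange, ← hj.isoPullback_hom_fst, Scheme.Hom.comp_base, TopCat.coe_comp,
      Set.range_comp, Set.range_eq_univ.2 hj.isoPullback.hom.surjective, Set.image_univ, Scheme.Pullback.range_fst]
    show r.base ⁻¹' Set.range gK.base = r.base ⁻¹' ((Spec (CommRingCat.of R)).basicOpen τ : Set ↥(Spec (CommRingCat.of R)))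
    congr 1
    rw [basicOpen_eq_of_affine]
    exact PrimeSpectrum.localization_away_comap_range (FractionRing R) ϖ
  have happ : ∀ x : Γ(W, V.1), (j.app V.1).hom x = 0 ↔ W.presheaf.map (homOfLE (W.basicOpen_le t)).op x = 0 := by
    intro x
    have h1 := congr($(Scheme.Hom.app_appIso_inv j V.1).hom x)
    have h2 : W.presheaf.map (homOfLE (W.basicOpen_le t)).op x =
        W.presheaf.map (eqToHom hr.symm).op ((j.appIso (j ⁻¹ᵁ V.1)).inv ((j.app V.1).hom x)) := by
      refine Eq.trans ?_ (congrArg _ h1.symm)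
      rw [← CommRingCat.comp_apply, ← Functor.map_comp]
      rfl
    rw [h2]
    constructor
    · intro h
      rw [h, map_zero, map_zero]
    · intro h
      refine ((ConcreteCategory.bijective_of_isIso (j.appIso (j ⁻¹ᵁ V.1)).inv).1 ?_)
      refine (ConcreteCategory.bijective_of_isIso (W.presheaf.map (eqToHom hr.symm).op)).1 ?_
      rw [map_zero, map_zero]
      exact h
  rw [Scheme.Hom.ker_apply, RingHom.mem_ker, happ]
  haveI := V.2.isLocalization_basicOpen t
  constructor
  · intro h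
    obtain ⟨⟨_, n, rfl⟩, hn⟩ := (IsLocalization.map_eq_zero_iff (Submonoid.powers t) Γ(W, W.basicOpen t) a).1 h
    exact ⟨n, hn⟩
  · rintro ⟨n, hn⟩
    exact (IsLocalization.map_eq_zero_iff (Submonoid.powers t) Γ(W, W.basicOpen t) a).2 ⟨⟨t ^ n, n, rfl⟩, hn⟩

/-- A closed subscheme flat over a trait contains the torsion in its ideal. -/
theorem mem_of_flat {R : Type u} [CommRing R] [IsDomain R] [IsDiscreteValuationRing R] (ϖ : R) (hϖ : Irreducible ϖ)
    {W : Scheme.{u}} (r : W ⟶ Spec (CommRingCat.of R)) (K : W.IdealSheafData) [Flat (K.subschemeι ≫ r)]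
    (V : W.affineOpens) (a : Γ(W, V.1)) (n : ℕ)
    (h : (r.appLE ⊤ V.1 (by simp)).hom ((Scheme.ΓSpecIso (CommRingCat.of R)).inv ϖ) ^ n * a = 0) :
    a ∈ K.ideal V := by
  let τ := (Scheme.ΓSpecIso (CommRingCat.of R)).inv ϖ
  let ι := K.subschemeι
  rw [← K.ker_subschemeι_app V, RingHom.mem_ker]
  let Z := ι ⁻¹ᵁ V.1
  have hfl : ((ι ≫ r).appLE ⊤ Z (by simp)).hom.Flat :=
    HasRingHomProperty.appLE @Flat (ι ≫ r) inferInstance ⟨⊤, isAffineOpen_top _⟩ ⟨Z, V.2.preimage ι⟩ (by simp)
  letI : Algebra Γ(Spec (CommRingCat.of R), ⊤) Γ(K.subscheme, Z) := ((ι ≫ r).appLE ⊤ Z (by simp)).hom.toAlgebra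
  haveI : Module.Flat Γ(Spec (CommRingCat.of R), ⊤) Γ(K.subscheme, Z) := hfl
  have hτ : IsRegular (τ ^ n) := by
    refine IsRegular.pow n ?_
    constructor <;> intro x y hxy <;>
      · refine (Scheme.ΓSpecIso (CommRingCat.of R)).commRingCatIsoToRingEquiv.injective ?_
        have := congrArg (Scheme.ΓSpecIso (CommRingCat.of R)).commRingCatIsoToRingEquiv hxy
        simp only [map_mul] at this
        have e : (Scheme.ΓSpecIso (CommRingCat.of R)).commRingCatIsoToRingEquiv τ = ϖ :=
          (Scheme.ΓSpecIso (CommRingCat.of R)).inv_hom_id_apply ϖ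
        rw [e] at this
        first
          | exact mul_left_cancel₀ hϖ.ne_zero this
          | exact mul_right_cancel₀ hϖ.ne_zero this
  have hreg : IsSMulRegular Γ(K.subscheme, Z) (τ ^ n) := Module.Flat.isSMulRegular_of_isRegular hτ
  apply hreg
  show (τ ^ n) • (ι.app V.1).hom a = (τ ^ n) • (0 : Γ(K.subscheme, Z))
  rw [smul_zero, Algebra.smul_def, map_pow]
  have e : algebraMap Γ(Spec (CommRingCat.of R), ⊤) Γ(K.subscheme, Z) τ = (ι.app V.1).hom ((r.appLE ⊤ V.1 (by simp)).hom τ) := by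
    have : r.appLE ⊤ V.1 (by simp) ≫ ι.app V.1 = (ι ≫ r).appLE ⊤ Z (by simp) := by
      rw [Scheme.Hom.app_eq_appLE, Scheme.Hom.appLE_comp_appLE]
    rw [RingHom.algebraMap_toAlgebra, ← this]
    rfl
  rw [e, ← map_pow, ← map_mul, h, map_zero]

/-- A Cartier ideal on a trait. -/
theorem isEffCartier_trait {R : Type u} [CommRing R] [IsDomain R] [IsDiscreteValuationRing R] {ϖ : R} (hϖ : Irreducible ϖ)
    (J : (Spec (CommRingCat.of R)).IdealSheafData) {m : ℕ}
    (hm : J.ideal ⟨⊤, isAffineOpen_top _⟩ = Ideal.span {(Scheme.ΓSpecIso (CommRingCat.of R)).inv ϖ ^ m}) :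
    BlowUp.IsEffCartierIdeal J := fun x =>
  ⟨⟨⊤, isAffineOpen_top _⟩, trivial, _, by
    rw [← map_pow, mem_nonZeroDivisors_iff_right]
    intro y hy
    have := congrArg (Scheme.ΓSpecIso (CommRingCat.of R)).hom hy
    rw [map_mul, map_zero, Iso.inv_hom_id_apply] at this
    have h2 := (mul_eq_zero.1 this).resolve_right (pow_ne_zero m hϖ.ne_zero)
    exact (ConcreteCategory.bijective_of_isIso (Scheme.ΓSpecIso (CommRingCat.of R)).hom).1 (h2.trans (map_zero _).symm), hm⟩

/-- Let S be a separated Noetherian scheme, p : X → S a morphism from a separated scheme X (no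
finiteness condition), ι : Z → X a closed immersion, and b : S' → S a blowing up of S in a
quasi-coherent ideal with support S₀ such that (1) b restricts to a bijection between the generic
points of the irreducible components of S' and of S and (2) the strict transform Z~ of Z — the
closed subscheme of Z ×_S S' whose ideal consists, on each affine open, of the functions annihilated
by a power of the pulled-back centre — is flat over S'. Let R be a discrete valuation ring with
fraction field K and f : Spec R → S a morphism sending the generic point of Spec R into S ∖ S₀. Then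
f factors uniquely through b, and for the factorisation f' : Spec R → S' the flat closure φ_f(Z) ⊆ Z
×_S Spec R (the scheme-theoretic image of Z ×_S Spec K) coincides with Spec R ×_{S'} Z~: its ideal
sheaf equals the inverse image of the ideal of Z~ under the map Z ×_S Spec R → Z ×_S S' induced by
f'. -/
theorem result {X S Z S' : Scheme.{u}} [IsNoetherian S] [S.IsSeparated] [X.IsSeparated]
    (p : X ⟶ S) (ι : Z ⟶ X) [IsClosedImmersion ι]
    (𝓘 : S.IdealSheafData) (b : S' ⟶ S) (hb : BlowUp.IsBlowUp b 𝓘)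
    (hgen : Set.BijOn b.base {s' : ↥S' | closure {s'} ∈ irreducibleComponents ↥S'} {s : ↥S | closure {s} ∈ irreducibleComponents ↥S})
    (𝒥 : (pullback (ι ≫ p) b).IdealSheafData)
    (h𝒥 : ∀ (V : (pullback (ι ≫ p) b).affineOpens) (a : Γ(pullback (ι ≫ p) b, V.1)), a ∈ 𝒥.ideal V ↔
      BlowUp.KilledByPowerNear ((𝓘.comap (ι ≫ p)).comap (pullback.fst (ι ≫ p) b)) (Coh.structureModule (pullback (ι ≫ p) b)) V a)
    [Flat (𝒥.subschemeι ≫ pullback.snd (ι ≫ p) b)]
    (R : Type u) [CommRing R] [IsDomain R] [IsDiscreteValuationRing R] (f : Spec (CommRingCat.of R) ⟶ S)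
    (hf : f.base ⟨⊥, Ideal.isPrime_bot⟩ ∉ (𝓘.support : Set ↥S)) :
    (∃! f' : Spec (CommRingCat.of R) ⟶ S', f' ≫ b = f) ∧
      ∀ (f' : Spec (CommRingCat.of R) ⟶ S') (hf' : f' ≫ b = f),
        (pullback.map (ι ≫ p) (Spec.map (CommRingCat.ofHom (algebraMap R (FractionRing R))) ≫ f) (ι ≫ p) f (𝟙 Z) (Spec.map (CommRingCat.ofHom (algebraMap R (FractionRing R)))) (𝟙 S) ((Category.comp_id _).trans (Category.id_comp _).symm) (Category.comp_id _)).ker = 𝒥.comap (pullback.map (ι ≫ p) f (ι ≫ p) b (𝟙 Z) f' (𝟙 S) ((Category.comp_id _).trans (Category.id_comp _).symm) ((Category.comp_id f).trans hf'.symm)) := by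
  obtain ⟨ϖ, hϖ⟩ := IsDiscreteValuationRing.exists_irreducible R
  obtain ⟨m, hm⟩ := exists_pow ϖ hϖ (𝓘.comap f) (by
    rw [Scheme.IdealSheafData.support_comap]
    exact hf)
  refine ⟨hb.2 _ f (isEffCartier_trait hϖ _ hm), fun f' hf' => ?_⟩
  let q := ι ≫ p
  let gK := Spec.map (CommRingCat.ofHom (algebraMap R (FractionRing R)))
  let j : pullback q (gK ≫ f) ⟶ pullback q f := pullback.map q (gK ≫ f) q f (𝟙 Z) gK (𝟙 S)
    ((Category.comp_id _).trans (Category.id_comp _).symm) (Category.comp_id _)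
  let e : pullback q f ⟶ pullback q b := pullback.map q f q b (𝟙 Z) f' (𝟙 S)
    ((Category.comp_id _).trans (Category.id_comp _).symm) ((Category.comp_id f).trans hf'.symm)
  show j.ker = 𝒥.comap e
  have ej1 : j ≫ pullback.fst q f = pullback.fst q (gK ≫ f) := by simp [j, q]
  have ej2 : j ≫ pullback.snd q f = pullback.snd q (gK ≫ f) ≫ gK := by simp [j, q, gK]
  have ee1 : e ≫ pullback.fst q b = pullback.fst q f := by simp [e, q]
  have ee2 : e ≫ pullback.snd q b = pullback.snd q f ≫ f' := by simp [e, q]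
  have hj : IsPullback j (pullback.snd q (gK ≫ f)) (pullback.snd q f) gK :=
    IsPullback.of_right (by rw [ej1]; exact IsPullback.of_hasPullback q (gK ≫ f)) ej2 (IsPullback.of_hasPullback q f)
  have he : IsPullback e (pullback.snd q f) (pullback.snd q b) f' :=
    IsPullback.of_right (by rw [ee1, hf']; exact IsPullback.of_hasPullback q f) ee2 (IsPullback.of_hasPullback q b)
  let K := 𝒥.comap e
  haveI : Flat (K.subschemeι ≫ pullback.snd q f) := by
    have sq := (IsPullback.of_hasPullback e 𝒥.subschemeι).flip.paste_vert he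
    haveI : Flat (pullback.fst e 𝒥.subschemeι ≫ pullback.snd q f) :=
      MorphismProperty.of_isPullback (P := @Flat) sq ‹_›
    rw [← 𝒥.comapIso_hom_fst e, Category.assoc]
    infer_instance
  -- compare on a cover by affines mapping into affines
  let idx := {pr : (pullback q f).affineOpens × (pullback q b).affineOpens // pr.1.1 ≤ e ⁻¹ᵁ pr.2.1}
  refine Scheme.IdealSheafData.ext_of_iSup_eq_top (fun pr : idx => pr.1.1) ?_ fun pr => ?_
  · refine le_antisymm le_top fun x _ => ?_
    obtain ⟨W, hW, hxW, -⟩ := exists_isAffineOpen_mem_and_subset (X := pullback q b) (x := e.base x) (U := ⊤) trivial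
    obtain ⟨V, hV, hxV, hVW⟩ := exists_isAffineOpen_mem_and_subset (X := pullback q f) (x := x) (U := e ⁻¹ᵁ W) hxW
    exact TopologicalSpace.Opens.mem_iSup.mpr ⟨⟨(⟨V, hV⟩, ⟨W, hW⟩), hVW⟩, hxV⟩
  obtain ⟨⟨V, V'⟩, hle⟩ := pr
  dsimp only
  ext a
  rw [ker_generic ϖ hϖ (pullback.snd q f) j (pullback.snd q (gK ≫ f)) hj V a]
  refine ⟨fun ⟨n, hn⟩ => mem_of_flat ϖ hϖ (pullback.snd q f) K V a n hn, fun ha => ?_⟩
  let t := ((pullback.snd q f).appLE ⊤ V.1 (by simp)).hom ((Scheme.ΓSpecIso (CommRingCat.of R)).inv ϖ)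
  -- the torsion is an ideal containing the image of the strict transform ideal
  let T : Ideal Γ(pullback q f, V.1) :=
    { carrier := {x | ∃ n : ℕ, t ^ n * x = 0}
      zero_mem' := ⟨0, mul_zero _⟩
      add_mem' := by
        rintro x y ⟨n, hn⟩ ⟨n', hn'⟩
        exact ⟨n + n', by rw [pow_add]; linear_combination t ^ n' * hn + t ^ n * hn'⟩
      smul_mem' := by
        rintro c x ⟨n, hn⟩
        exact ⟨n, by rw [smul_eq_mul, mul_left_comm, hn, mul_zero]⟩ }
  show a ∈ T
  rw [Groth.Agent.IdealStalkLib.comap_ideal 𝒥 e V'.2 V.2 hle] at ha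
  refine (Ideal.map_le_iff_le_comap.2 fun x hx => ?_) ha
  obtain ⟨n, hn⟩ := (h𝒥 V' x).1 hx
  refine ⟨m * n, ?_⟩
  let E := (𝓘.comap q).comap (pullback.fst q b)
  have hE : (E ^ n).comap e = ((𝓘.comap f) ^ n).comap (pullback.snd q f) := by
    have hw : (e ≫ pullback.fst q b) ≫ q = pullback.snd q f ≫ f := by rw [ee1]; exact pullback.condition
    rw [comap_pow, comap_pow, ← Scheme.IdealSheafData.comap_comp, ← Scheme.IdealSheafData.comap_comp,
      ← Scheme.IdealSheafData.comap_comp]
    exact congrArg (fun g => 𝓘.comap g ^ n) ((Category.assoc _ _ _).symm.trans hw)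
  have hmem : t ^ (m * n) ∈ ((E ^ n).comap e).ideal V := by
    rw [hE, Groth.Agent.IdealStalkLib.comap_ideal _ _ (isAffineOpen_top _) V.2 (by simp),
      Scheme.IdealSheafData.ideal_pow, Pi.pow_apply, hm, Ideal.span_singleton_pow, ← pow_mul]
    rw [show t ^ (m * n) = ((pullback.snd q f).appLE ⊤ V.1 (by simp)).hom ((Scheme.ΓSpecIso (CommRingCat.of R)).inv ϖ ^ (m * n)) from (map_pow _ _ _).symm]
    exact Ideal.mem_map_of_mem _ (Ideal.mem_span_singleton_self _)
  rw [Groth.Agent.IdealStalkLib.comap_ideal _ e V'.2 V.2 hle] at hmem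
  let ann : Ideal Γ(pullback q f, V.1) :=
    { carrier := {y | y * (e.appLE V'.1 V.1 hle).hom x = 0}
      zero_mem' := zero_mul _
      add_mem' := fun {y z} hy hz => by simp only [Set.mem_ofPred_eq] at *; rw [add_mul, hy, hz, add_zero]
      smul_mem' := fun c y hy => by simp only [Set.mem_ofPred_eq] at *; rw [smul_eq_mul, mul_assoc, hy, mul_zero] }
  refine (Ideal.map_le_iff_le_comap.2 fun y hy => ?_ : _ ≤ ann) hmem
  show (e.appLE V'.1 V.1 hle).hom y * (e.appLE V'.1 V.1 hle).hom x = 0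
  rw [← map_mul]
  have h0 : y * x = 0 := hn y hy
  rw [h0, map_zero]

end Groth.Agent.S19583
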