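import Groth.Statements.S19584
import Groth.Agent.EquidimUniv.Closure
import Groth.Agent.SmLiftCrit.Scheme
import Groth.Agent.S1681
-- import your own Groth.Agent.* helpers here

set_option autoImplicit false
set_option backward.isDefEq.respectTransparency false
set_option linter.style.haveILetI false
set_option maxHeartbeats 1000000
universe u
open Cyc

namespace Groth.Agent.S19584

open CategoryTheory CategoryTheory.Limits AlgebraicGeometry in
/-- Let S be a separated Noetherian scheme, p : X → S separated of finite type, z a point of X lying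
over a generic point of an irreducible component of S whose closure in its fibre p⁻¹(p z) has
dimension r, and ι : Z → X a closed immersion from a reduced scheme with image the closure of z. Let
b : S′ → S be a blowing up (S′ Noetherian) such that the strict transform Z~ of Z — the closed
subscheme of Z ×_S S′ whose ideal consists, on each affine open, of the functions annihilated by a
power of the pulled-back centre — is flat over S′. Then Z~ → S′ is universally equidimensional of
dimension r: after any base change S″ → S′ every point of Z~ ×_{S′} S″ has local fibre dimension r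
and every irreducible component of Z~ ×_{S′} S″ dominates an irreducible component of S″. (The
published lemma takes a blow-up of the reduced scheme S_red; this statement takes a blow-up of S
itself, to which the printed argument applies unchanged.) -/
theorem result {X S Z S' : Scheme.{u}} [IsNoetherian S] [S.IsSeparated] [X.IsSeparated]
    (p : X ⟶ S) [LocallyOfFiniteType p] [QuasiCompact p] (z : X) (hz : closure {p.base z} ∈ irreducibleComponents ↥S)
    (r : ℕ) (hr : topologicalKrullDim ↥(closure ({p.asFiber z} : Set ↥(p.fiber (p.base z)))) = r)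
    (ι : Z ⟶ X) [IsClosedImmersion ι] [IsReduced Z] (hZ : Set.range ι.base = closure {z})
    [IsNoetherian S'] (𝓘 : S.IdealSheafData) (b : S' ⟶ S) (hb : BlowUp.IsBlowUp b 𝓘)
    (𝒥 : (pullback (ι ≫ p) b).IdealSheafData)
    (h𝒥 : ∀ (V : (pullback (ι ≫ p) b).affineOpens) (a : Γ(pullback (ι ≫ p) b, V.1)), a ∈ 𝒥.ideal V ↔
      BlowUp.KilledByPowerNear ((𝓘.comap (ι ≫ p)).comap (pullback.fst (ι ≫ p) b)) (Coh.structureModule (pullback (ι ≫ p) b)) V a)
    [Flat (𝒥.subschemeι ≫ pullback.snd (ι ≫ p) b)]
    (S'' : Scheme.{u}) (g : S'' ⟶ S') :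
    (∀ w : ↥(pullback (𝒥.subschemeι ≫ pullback.snd (ι ≫ p) b) g),
        FlatMor.fibreDimAt (pullback.snd (𝒥.subschemeι ≫ pullback.snd (ι ≫ p) b) g) w = r) ∧
      ∀ C ∈ irreducibleComponents ↥(pullback (𝒥.subschemeι ≫ pullback.snd (ι ≫ p) b) g),
        closure ((pullback.snd (𝒥.subschemeι ≫ pullback.snd (ι ≫ p) b) g).base '' C) ∈ irreducibleComponents ↥S'' := by
  let q := 𝒥.subschemeι ≫ pullback.snd (ι ≫ p) b
  haveI : LocallyOfFiniteType q := by
    haveI : LocallyOfFiniteType (pullback.snd (ι ≫ p) b) := inferInstance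
    infer_instance
  haveI : LocallyOfFinitePresentation q := Groth.Agent.SmLiftCrit.lfp_of_noetherian _
  refine EquidimUniv.univ_equidimensional q (r : WithBot ℕ∞) (fun ξ hξ => ?_) g
  let s' := q ξ
  have hs'max : ∀ y : S', y ⤳ s' → y = s' := fun y hy =>
    ((FlatDim.maximal_map q (fun w hw => specializes_of_eq (hξ w hw).symm) y hy).antisymm hy).eq.symm
  obtain ⟨hsmax, hsI⟩ := (Groth.Agent.S1681.result 𝓘 b hb).mapsTo hs'max
  have hfib : pullback.snd (ι ≫ p) b ⁻¹' {pullback.snd (ι ≫ p) b (𝒥.subschemeι ξ)} ⊆ Set.range 𝒥.subschemeι := by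
    intro P hP
    rw [← Scheme.Hom.comp_apply] at hP
    rw [Scheme.IdealSheafData.range_subschemeι]
    obtain ⟨_, ⟨V, hV, rfl⟩, hPV, -⟩ :=
      (pullback (ι ≫ p) b).isBasis_affineOpens.exists_subset_of_mem_open (Set.mem_univ P) isOpen_univ
    let E := (𝓘.comap (ι ≫ p)).comap (pullback.fst (ι ≫ p) b)
    have hPE : P ∉ (E.support : Set ↥(pullback (ι ≫ p) b)) := by
      intro hm
      simp only [E, Scheme.IdealSheafData.support_comap] at hm
      refine hsI ?_
      show b s' ∈ 𝓘.support
      rw [show s' = pullback.snd (ι ≫ p) b P from hP.symm, ← Scheme.Hom.comp_apply, ← pullback.condition,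
        Scheme.Hom.comp_apply]
      exact hm
    obtain ⟨e, he, heP⟩ : ∃ e ∈ E.ideal ⟨V, hV⟩, P ∈ (pullback (ι ≫ p) b).basicOpen e := by
      by_contra hne
      push Not at hne
      refine hPE (Set.mem_of_mem_inter_left ((Scheme.IdealSheafData.coe_support_inter E ⟨V, hV⟩).ge ⟨?_, hPV⟩))
      exact (Scheme.mem_zeroLocus_iff _ _ _).2 hne
    refine Set.mem_of_mem_inter_left ((Scheme.IdealSheafData.coe_support_inter 𝒥 ⟨V, hV⟩).ge ⟨?_, hPV⟩)
    refine (Scheme.mem_zeroLocus_iff _ _ _).2 fun a ha haP => ?_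
    obtain ⟨n, hn⟩ := (h𝒥 ⟨V, hV⟩ a).1 ha
    have hz : e ^ (n + 1) * a = 0 := by
      rw [pow_succ', mul_assoc]
      have h0 : e ^ n * a = 0 := hn (e ^ n) (by
        rw [Scheme.IdealSheafData.ideal_pow, Pi.pow_apply]; exact Ideal.pow_mem_pow he n)
      rw [h0, mul_zero]
    have hmem : P ∈ (pullback (ι ≫ p) b).basicOpen (e ^ (n + 1) * a) := by
      rw [Scheme.basicOpen_mul, Scheme.basicOpen_pow _ _ n.succ_pos]
      exact ⟨heP, haP⟩
    rw [hz, Scheme.basicOpen_zero] at hmem
    exact hmem
  rw [show q = 𝒥.subschemeι ≫ pullback.snd (ι ≫ p) b from rfl,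
    EquidimUniv.fibreDimAt_comp_closedImmersion 𝒥.subschemeι _ ξ hfib,
    LocDimBC.fibreDimAt_baseChange (IsPullback.of_hasPullback (ι ≫ p) b)]
  refine (EquidimUniv.fibreDimAt_eq_over_generic p z hz _ hr ι hZ _ ?_).2
  have hw : (ι ≫ p) (pullback.fst (ι ≫ p) b (𝒥.subschemeι ξ)) = b s' := by
    show _ = b ((𝒥.subschemeι ≫ pullback.snd (ι ≫ p) b) ξ)
    rw [Scheme.Hom.comp_apply 𝒥.subschemeι, ← Scheme.Hom.comp_apply, ← Scheme.Hom.comp_apply (pullback.snd (ι ≫ p) b)]
    exact congrArg (fun h : pullback (ι ≫ p) b ⟶ S => h _) pullback.condition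
  rw [hw]
  exact FlatDim.closure_mem_components _ fun w hw' => specializes_of_eq (hsmax w hw').symm

end Groth.Agent.S19584
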