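import Groth.Statements.S19586
import Groth.Agent.JacobianLib.Locus
import Groth.Agent.FlatGenStable.Reduced

set_option autoImplicit false
universe u
open KaehlerDifferential
open LocInt

namespace Groth.Agent.S19586

open TensorProduct KaehlerDifferential

theorem annihilator_extPower_le {R : Type u} [CommRing R] {M : Type u} [AddCommGroup M] [Module R M] [Module.Finite R M]
    (p : PrimeSpectrum R) (n : ℕ) (hd : Module.finrank p.asIdeal.ResidueField (p.asIdeal.ResidueField ⊗[R] M) = n) :
    (⋀[R]^n M).annihilator ≤ p.asIdeal := by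
  classical
  let k := p.asIdeal.ResidueField
  let b := Module.finBasisOfFinrankEq k (k ⊗[R] M) hd
  let α : M [⋀^Fin n]→ₗ[R] k :=
    { toFun := fun v => b.det fun i => (1 : k) ⊗ₜ[R] v i
      map_update_add' := fun v i x y => by
        have h : ∀ z, (fun j => (1 : k) ⊗ₜ[R] Function.update v i z j) = Function.update (fun j => (1 : k) ⊗ₜ[R] v j) i ((1 : k) ⊗ₜ[R] z) :=
          fun z => funext fun j => Function.apply_update (fun _ z => (1 : k) ⊗ₜ[R] z) v i z j
        simp only [h, TensorProduct.tmul_add, AlternatingMap.map_update_add]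
      map_update_smul' := fun v i c x => by
        have h : ∀ z, (fun j => (1 : k) ⊗ₜ[R] Function.update v i z j) = Function.update (fun j => (1 : k) ⊗ₜ[R] v j) i ((1 : k) ⊗ₜ[R] z) :=
          fun z => funext fun j => Function.apply_update (fun _ z => (1 : k) ⊗ₜ[R] z) v i z j
        simp only [h, TensorProduct.tmul_smul, ← algebraMap_smul k c, AlternatingMap.map_update_smul]
      map_eq_zero_of_eq' := fun v i j hv hij => b.det.map_eq_zero_of_eq _ (by simp [hv]) hij }
  let L := exteriorPower.alternatingMapLinearEquiv α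
  intro a ha
  by_contra hap
  have hne : ∃ v : Fin n → M, α v ≠ 0 := by
    by_contra hc
    push_neg at hc
    have hspan : Submodule.span k (Set.range fun m : M => (1 : k) ⊗ₜ[R] m) = ⊤ := by
      refine eq_top_iff.2 fun z _ => ?_
      induction z using TensorProduct.induction_on with
      | zero => exact zero_mem _
      | add x y hx hy => exact add_mem (hx trivial) (hy trivial)
      | tmul c m =>
        rw [show c ⊗ₜ[R] m = c • ((1 : k) ⊗ₜ[R] m) by rw [TensorProduct.smul_tmul', smul_eq_mul, mul_one]]
        exact Submodule.smul_mem _ _ (Submodule.subset_span ⟨m, rfl⟩)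
    obtain ⟨t, ht, htspan, htli⟩ := exists_linearIndependent k (Set.range fun m : M => (1 : k) ⊗ₜ[R] m)
    rw [hspan] at htspan
    let b' := Module.Basis.mk htli (by rw [Subtype.range_coe_subtype]; simpa using htspan.ge)
    haveI : Fintype t := FiniteDimensional.fintypeBasisIndex b'
    have hcard : Fintype.card t = n := by rw [← Module.finrank_eq_card_basis b', hd]
    let e := (Fintype.equivFinOfCardEq hcard).symm
    choose v hv using fun j => ht (e j).2
    refine (b.isUnit_det (b'.reindex e.symm)).ne_zero ?_
    rw [show ((b'.reindex e.symm : Module.Basis (Fin n) k (k ⊗[R] M)) : Fin n → k ⊗[R] M) = fun j => (1 : k) ⊗ₜ[R] v j from funext fun j => by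
      rw [Module.Basis.reindex_apply, Equiv.symm_symm, Module.Basis.mk_apply]
      exact (hv j).symm]
    exact hc v
  obtain ⟨v, hv⟩ := hne
  have h0 : L (a • exteriorPower.ιMulti R n v) = 0 := by
    rw [Module.mem_annihilator.1 ha, map_zero]
  rw [map_smul, exteriorPower.alternatingMapLinearEquiv_apply_ιMulti, Algebra.smul_def, mul_eq_zero] at h0
  exact hap (Ideal.algebraMap_residueField_eq_zero.1 (h0.resolve_right hv))

theorem not_annihilator_extPower_le {R : Type u} [CommRing R] {M : Type u} [AddCommGroup M] [Module R M] [Module.Finite R M]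
    (p : PrimeSpectrum R) (n : ℕ) (hd : Module.finrank p.asIdeal.ResidueField (p.asIdeal.ResidueField ⊗[R] M) < n) :
    ¬ (⋀[R]^n M).annihilator ≤ p.asIdeal := by
  classical
  obtain ⟨g, ψ, hg, hψ⟩ := FlatGenStable.exists_span_away_fibre (M := M) p
  intro hle
  refine hg (p.2.mem_of_pow_mem n (hle (Module.mem_annihilator.2 fun z => ?_)))
  have hz : z ∈ Submodule.span R (Set.range (exteriorPower.ιMulti R n (M := M))) := by
    rw [exteriorPower.ιMulti_span]; trivial
  induction hz using Submodule.span_induction with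
  | zero => exact smul_zero _
  | add x y _ _ hx hy => rw [smul_add, hx, hy, add_zero]
  | smul c x _ hx => rw [smul_comm, hx, smul_zero]
  | mem x hx =>
    obtain ⟨v, rfl⟩ := hx
    choose w hw using fun i => hψ (v i)
    have h1 : g ^ n • exteriorPower.ιMulti R n v = exteriorPower.ιMulti R n (fun i => g • v i) := by
      rw [AlternatingMap.map_smul_univ, Finset.prod_const, Finset.card_univ, Fintype.card_fin]
    rw [h1, show (fun i => g • v i) = ψ ∘ w from funext fun i => (hw i).symm, ← exteriorPower.map_apply_ιMulti]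
    haveI : IsEmpty (Set.powersetCard (Fin (Module.finrank p.asIdeal.ResidueField (p.asIdeal.ResidueField ⊗[R] M))) n) := ⟨fun s => by
      have h := Finset.card_le_univ (s : Finset (Fin (Module.finrank p.asIdeal.ResidueField (p.asIdeal.ResidueField ⊗[R] M))))
      rw [s.2, Fintype.card_fin] at h
      omega⟩
    haveI := ((Pi.basisFun R (Fin (Module.finrank p.asIdeal.ResidueField (p.asIdeal.ResidueField ⊗[R] M)))).exteriorPower (n := n)).repr.toEquiv.subsingleton
    rw [Subsingleton.elim (exteriorPower.ιMulti R n w) 0, map_zero]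


/-- Let A → B be a smooth ring map with Ω_{B/A} of rank n at every prime of B, g ∈ B a nonzerodivisor
and R = B/gB, so that Spec R is a hypersurface of virtual relative dimension n − 1 over Spec A. Let
J ⊆ R be the annihilator of the n-th exterior power of Ω_{R/A} and Z = V(J) ⊆ Spec R. Then the
underlying set of Z is exactly the set of primes at which R is not smooth over A: for a prime p of
R, J ⊆ p if and only if the localization R_p is not formally smooth over A. -/
theorem result (A B R : Type u) [CommRing A] [CommRing B] [CommRing R]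
    [Algebra A B] [Algebra B R] [Algebra A R] [IsScalarTower A B R] [Algebra.Smooth A B] (n : ℕ)
    (hn : ∀ p : PrimeSpectrum B, Module.rankAtStalk (Ω[B⁄A]) p = n)
    (g : B) (hg : IsSMulRegular B g) (hsurj : Function.Surjective (algebraMap B R))
    (hker : RingHom.ker (algebraMap B R) = Ideal.span {g}) (p : PrimeSpectrum R) :
    (⋀[R]^n (Ω[R⁄A])).annihilator ≤ p.asIdeal ↔ p ∉ Algebra.smoothLocus A R := by
  classical
  let I := RingHom.ker (algebraMap B R)
  let q := p.asIdeal.comap (algebraMap B R)
  have hIg : I = Ideal.span {g} := hker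
  have hgI : g ∈ I := hIg ▸ Ideal.mem_span_singleton_self g
  have hIq : I ≤ q := fun a ha => by rw [Ideal.mem_comap, RingHom.mem_ker.1 ha]; exact zero_mem _
  have hfg : I.FG := hIg ▸ ⟨{g}, by simp⟩
  haveI : Module.Finite B I := Module.Finite.iff_fg.2 hfg
  haveI : Module.Finite B I.Cotangent := Module.Finite.of_surjective I.toCotangent I.toCotangent_surjective
  haveI : Algebra.FormallySmooth A B := inferInstance
  haveI : Module.Projective B (Ω[B⁄A]) := inferInstance
  haveI : Module.Finite B (Ω[B⁄A]) := inferInstance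
  let c := I.toCotangent ⟨g, hgI⟩
  let toC : B →ₗ[B] I.Cotangent := LinearMap.toSpanSingleton B _ c
  have htoC : Function.Surjective toC := fun z => by
    obtain ⟨⟨x, hx⟩, rfl⟩ := I.toCotangent_surjective z
    obtain ⟨a, rfl⟩ := Ideal.mem_span_singleton'.1 (hIg.le hx)
    exact ⟨a, by show a • c = _; rw [← map_smul]; rfl⟩
  have htoC0 : ∀ a, toC a = 0 → a ∈ q := fun a ha => by
    refine hIq ?_
    have h : a • c = 0 := ha
    rw [← map_smul, Ideal.toCotangent_eq_zero] at h
    change a * g ∈ I ^ 2 at h
    rw [hIg, pow_two, Ideal.span_singleton_mul_span_singleton, Ideal.mem_span_singleton'] at h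
    obtain ⟨b, hb⟩ := h
    rw [hIg, Ideal.mem_span_singleton']
    exact ⟨b, hg (by simp only [smul_eq_mul]; rw [mul_comm g a, ← hb]; ring)⟩
  have hSM : p ∈ Algebra.smoothLocus A R ↔ ∃ Λ : Ω[B⁄A] →ₗ[B] B, Λ (D A B g) ∉ q := by
    show Algebra.FormallySmooth A (Localization.AtPrime p.asIdeal) ↔ _
    rw [← JacobianLib.retractIdeal_not_le_iff' hsurj p.asIdeal, SetLike.not_le_iff_exists]
    constructor
    · rintro ⟨s, ⟨Φ, hΦ⟩, hs⟩
      obtain ⟨Λ, hΛ⟩ := Module.projective_lifting_property toC Φ htoC
      refine ⟨Λ, fun hq => hs ?_⟩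
      have h1 : toC (Λ (D A B g) - s) = 0 := by
        rw [map_sub, show toC (Λ (D A B g)) = Φ (D A B g) from LinearMap.congr_fun hΛ _, hΦ g hgI]
        exact sub_self _
      have := q.sub_mem hq (htoC0 _ h1)
      rwa [sub_sub_cancel] at this
    · rintro ⟨Λ, hΛ⟩
      refine ⟨Λ (D A B g), ⟨toC ∘ₗ Λ, fun x hx => ?_⟩, hΛ⟩
      obtain ⟨a, rfl⟩ := Ideal.mem_span_singleton'.1 (hIg.le hx)
      rw [Derivation.leibniz, map_add, map_smul, map_smul]
      rw [JacobianLib.smul_cotangent_eq_zero hgI, add_zero]
      show a • (Λ (D A B g) • c) = Λ (D A B g) • I.toCotangent ⟨a * g, hx⟩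
      rw [smul_comm, ← map_smul I.toCotangent a]
      rfl
  let k := p.asIdeal.ResidueField
  let M := R ⊗[B] Ω[B⁄A]
  let v : M := 1 ⊗ₜ[B] D A B g
  let π : M →ₗ[R] Ω[R⁄A] := KaehlerDifferential.mapBaseChange A B R
  have hπ : Function.Surjective π := KaehlerDifferential.mapBaseChange_surjective A B R hsurj
  have hπk : LinearMap.ker π = Submodule.span R {v} := by
    refine le_antisymm (fun z hz => ?_) (Submodule.span_le.2 ?_)
    · obtain ⟨w, rfl⟩ := (KaehlerDifferential.exact_kerCotangentToTensor_mapBaseChange A B R hsurj z).1 hz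
      obtain ⟨⟨x, hx⟩, rfl⟩ := Ideal.toCotangent_surjective _ w
      rw [kerCotangentToTensor_toCotangent]
      obtain ⟨a, rfl⟩ := Ideal.mem_span_singleton'.1 (hIg.le hx)
      rw [Derivation.leibniz, TensorProduct.tmul_add, TensorProduct.tmul_smul, TensorProduct.tmul_smul,
        ← algebraMap_smul R a, ← algebraMap_smul R g, RingHom.mem_ker.1 hgI, zero_smul, add_zero]
      exact Submodule.smul_mem _ _ (Submodule.mem_span_singleton_self _)
    · rintro _ rfl
      refine (KaehlerDifferential.exact_kerCotangentToTensor_mapBaseChange A B R hsurj v).2 ⟨I.toCotangent ⟨g, hgI⟩, ?_⟩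
      rw [kerCotangentToTensor_toCotangent]
  haveI : Module.Finite R (Ω[R⁄A]) := Module.Finite.of_surjective π hπ
  have hn' : Module.finrank k (k ⊗[R] M) = n := by
    rw [← Module.rankAtStalk_eq (R := R) (M := M) p, Module.rankAtStalk_baseChange]
    exact hn _
  let πk := π.baseChange k
  have hπks : Function.Surjective πk := LinearMap.lTensor_surjective k hπ
  have hker' : LinearMap.ker πk = Submodule.span k {(1 : k) ⊗ₜ[R] v} := by
    refine le_antisymm (fun z hz => ?_) (Submodule.span_le.2 ?_)
    · have hex : Function.Exact (LinearMap.toSpanSingleton R M v) π := LinearMap.exact_iff.2 (by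
        rw [hπk, LinearMap.range_toSpanSingleton])
      have hexk := lTensor_exact k hex hπ
      obtain ⟨w, rfl⟩ := (hexk z).1 hz
      clear hz hexk
      induction w using TensorProduct.induction_on with
      | zero => rw [map_zero]; exact zero_mem _
      | add x y hx hy =>
        rw [map_add]; exact add_mem hx hy
      | tmul a x =>
        rw [LinearMap.lTensor_tmul, LinearMap.toSpanSingleton_apply, TensorProduct.tmul_smul, ← algebraMap_smul k x,
          show a ⊗ₜ[R] v = a • ((1 : k) ⊗ₜ[R] v) by rw [TensorProduct.smul_tmul', smul_eq_mul, mul_one]]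
        exact Submodule.smul_mem _ _ (Submodule.smul_mem _ _ (Submodule.mem_span_singleton_self _))
    · rintro _ rfl
      show πk ((1 : k) ⊗ₜ[R] v) = 0
      rw [LinearMap.baseChange_tmul, show π v = 0 from hπk.ge (Submodule.mem_span_singleton_self _), TensorProduct.tmul_zero]
  have hrn := LinearMap.finrank_range_add_finrank_ker πk
  rw [LinearMap.range_eq_top.2 hπks, finrank_top, hker', hn'] at hrn
  by_cases hS : ∃ Λ : Ω[B⁄A] →ₗ[B] B, Λ (D A B g) ∉ q
  · refine iff_of_false (not_annihilator_extPower_le p n ?_) fun h => h (hSM.2 hS)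
    obtain ⟨Λ, hΛ⟩ := hS
    have hv : (1 : k) ⊗ₜ[R] v ≠ 0 := fun h0 => by
      let ΛR : M →ₗ[R] R := (AlgebraTensorModule.rid B R R).toLinearMap ∘ₗ Λ.baseChange R
      have h1 := congrArg (fun z => (AlgebraTensorModule.rid R k k) (ΛR.baseChange k z)) h0
      simp only [map_zero, LinearMap.baseChange_tmul, AlgebraTensorModule.rid_tmul] at h1
      rw [Algebra.smul_def, mul_one, Ideal.algebraMap_residueField_eq_zero] at h1
      refine hΛ ?_
      have h2 : ΛR v = algebraMap B R (Λ (D A B g)) := by
        show (AlgebraTensorModule.rid B R R) (Λ.baseChange R ((1 : R) ⊗ₜ[B] D A B g)) = _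
        rw [LinearMap.baseChange_tmul, AlgebraTensorModule.rid_tmul, Algebra.smul_def, mul_one]
      rw [h2] at h1
      exact h1
    rw [finrank_span_singleton hv] at hrn
    have key : Module.finrank k (k ⊗[R] Ω[R⁄A]) < n := by omega
    exact key
  · refine iff_of_true (annihilator_extPower_le p n ?_) fun h => hS (hSM.1 h)
    push_neg at hS
    have hv : (1 : k) ⊗ₜ[R] v = 0 := by
      obtain ⟨σ, hσ⟩ := Module.Projective.out (R := B) (P := Ω[B⁄A])
      have h := hσ (D A B g)
      simp only [Finsupp.linearCombination_apply, Finsupp.sum, id] at h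
      simp only [v]
      rw [← h, TensorProduct.tmul_sum, TensorProduct.tmul_sum]
      refine Finset.sum_eq_zero fun x _ => ?_
      rw [TensorProduct.tmul_smul, ← algebraMap_smul R (σ (D A B g) x), TensorProduct.tmul_smul, ← algebraMap_smul k,
        Ideal.algebraMap_residueField_eq_zero.2 (show algebraMap B R (σ (D A B g) x) ∈ p.asIdeal from hS (Finsupp.lapply x ∘ₗ σ)), zero_smul]
    rw [hv, Submodule.span_zero_singleton, finrank_bot] at hrn
    have key : Module.finrank k (k ⊗[R] Ω[R⁄A]) = n := by omega
    exact key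

end Groth.Agent.S19586
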