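import Groth.Statements.S1959
import Mathlib
-- import your own Groth.Agent.* helpers here

set_option autoImplicit false
universe u
open Polynomial
open EtAlg

namespace Groth.Agent.S1959

/-- Let I be an ideal of a ring A, A -> B an integral ring map and b an element of B whose image in B/IB
is idempotent. Then there are d ≥ 1 and a monic polynomial f over A with f(b) = 0 whose reduction
modulo I is x^d (x - 1)^d. -/
theorem result (A B : Type u) [CommRing A] [CommRing B] [Algebra A B]
    [Algebra.IsIntegral A B] (I : Ideal A) (b : B)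
    (hb : IsIdempotentElem (Ideal.Quotient.mk (I.map (algebraMap A B)) b)) :
    ∃ (f : A[X]) (d : ℕ), f.Monic ∧ 1 ≤ d ∧ aeval b f = 0 ∧
      f.map (Ideal.Quotient.mk I) = X ^ d * (X - 1) ^ d := by
  classical
  let y := b * b - b
  have hy : y ∈ I.map (algebraMap A B) := by
    rw [← Ideal.Quotient.eq, map_mul]
    exact hb.eq
  rw [Ideal.map] at hy
  obtain ⟨ι, _, c, v, hcv⟩ : ∃ (ι : Type u) (_ : Fintype ι) (c : ι → I) (v : ι → B),
      y = ∑ i, algebraMap A B (c i : A) * v i := by
    obtain ⟨l, hl⟩ := (Finsupp.mem_span_image_iff_linearCombination B).1 hy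
    obtain ⟨hl1, hl2⟩ := hl
    refine ⟨l.support, inferInstance, fun i => ⟨i.1, hl1 i.2⟩, fun i => l i.1, hl2.symm.trans ?_⟩
    rw [Finsupp.linearCombination_apply, Finsupp.sum, ← Finset.sum_coe_sort l.support]
    exact Finset.sum_congr rfl fun i _ => by simp [mul_comm]
  let s : Set B := insert b (Set.range v)
  have hs : s.Finite := (Set.finite_range v).insert b
  let C := Algebra.adjoin A s
  have hfg : (Subalgebra.toSubmodule C).FG :=
    fg_adjoin_of_finite hs fun z _ => Algebra.IsIntegral.isIntegral z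
  haveI : Module.Finite A C := Module.Finite.iff_fg.2 hfg
  have hyC : y ∈ C := by
    have hbC : b ∈ C := Algebra.subset_adjoin (Set.mem_insert _ _)
    exact sub_mem (mul_mem hbC hbC) hbC
  let φ : Module.End A C := Algebra.lmul A C ⟨y, hyC⟩
  have hφ : LinearMap.range φ ≤ I • ⊤ := by
    rintro _ ⟨z, rfl⟩
    have h : φ z = ∑ i, (c i : A) • (⟨v i, Algebra.subset_adjoin (Set.mem_insert_of_mem _ ⟨i, rfl⟩)⟩ * z : C) := by
      refine Subtype.ext ?_
      simp only [φ, Algebra.coe_lmul_eq_mul, LinearMap.mul_apply', MulMemClass.coe_mul,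
        AddSubmonoidClass.coe_finsetSum, Subalgebra.coe_smul, Algebra.smul_def]
      rw [hcv, Finset.sum_mul]
      exact Finset.sum_congr rfl fun i _ => by rw [mul_assoc]; rfl
    rw [h]
    exact Submodule.sum_mem _ fun i _ => Submodule.smul_mem_smul (c i).2 trivial
  obtain ⟨P, hPm, -, hPc, hP0⟩ :=
    LinearMap.exists_monic_and_natDegree_eq_and_coeff_mem_pow_and_aeval_eq_zero A φ I hφ
  have hPy : aeval y (P * X) = 0 := by
    have h1 : (aeval φ P) ⟨1, C.one_mem⟩ = (aeval (⟨y, hyC⟩ : C) P) * 1 := by
      simp only [φ]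
      rw [Polynomial.aeval_algHom_apply]
      rfl
    rw [hP0, LinearMap.zero_apply, mul_one] at h1
    have h2 : aeval y P = 0 := by
      have := congrArg (Subtype.val) h1.symm
      rwa [Polynomial.aeval_subalgebra_coe] at this
    rw [map_mul, h2, zero_mul]
  have hP' : P.map (Ideal.Quotient.mk I) = X ^ P.natDegree := by
    ext j
    rw [coeff_map, coeff_X_pow]
    rcases lt_trichotomy j P.natDegree with h | h | h
    · rw [if_neg h.ne, Ideal.Quotient.eq_zero_iff_mem]
      exact Ideal.pow_le_self (by omega) (hPc j)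
    · rw [if_pos h, h, hPm.coeff_natDegree, map_one]
    · rw [if_neg h.ne', coeff_eq_zero_of_natDegree_lt h, map_zero]
  refine ⟨(P * X).comp (X ^ 2 - X), P.natDegree + 1, ?_, by omega, ?_, ?_⟩
  · nontriviality A
    have hq : (X ^ 2 - X : A[X]).Monic := by monicity!
    have hd : (X ^ 2 - X : A[X]).natDegree ≠ 0 := by
      have : (X ^ 2 - X : A[X]).natDegree = 2 := by compute_degree!
      omega
    exact (hPm.mul monic_X).comp hq hd
  · have : aeval b (X ^ 2 - X : A[X]) = y := by simp [y, sq]
    rw [aeval_comp, this, hPy]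
  · rw [Polynomial.map_comp, Polynomial.map_mul, hP', Polynomial.map_sub, Polynomial.map_pow,
      Polynomial.map_X, mul_comp, X_pow_comp, X_comp, ← pow_succ, ← mul_pow]
    congr 1
    ring

end Groth.Agent.S1959
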