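import Groth.Statements.S19590
import Mathlib.Tactic.NoncommRing
import Mathlib.Tactic.LinearCombination
-- import your own Groth.Agent.* helpers here

set_option autoImplicit false
open BddFin

namespace Groth.Agent.S19590

/-- An integral matrix congruent to one modulo three of prime order is one. -/
theorem eq_one_of_pow {n : ℕ} (q : ℕ) (hq : q.Prime) (M : Matrix (Fin n) (Fin n) ℤ)
    (h3 : ∀ i j, (3 : ℤ) ∣ M i j) (hpow : (1 + M) ^ q = 1) : M = 0 := by
  have hexp : ∀ q : ℕ, ∃ X, (1 + M) ^ q = 1 + q • M + M * M * X := by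
    intro q
    induction q with
    | zero => exact ⟨0, by simp⟩
    | succ q ih =>
      obtain ⟨X, hX⟩ := ih
      exact ⟨q • 1 + X * (1 + M), by rw [pow_succ, hX, succ_nsmul]; noncomm_ring⟩
  have step : ∀ a : ℕ, 1 ≤ a → (∀ i j, (3 : ℤ) ^ a ∣ M i j) → ∀ i j, (3 : ℤ) ^ (a + a) ∣ M i j := by
    intro a ha h i j
    choose C hC using h
    obtain ⟨b, rfl⟩ := Nat.exists_eq_add_of_le ha
    have hM : M = ((3 : ℤ) ^ (1 + b)) • Matrix.of C := by ext i j; simp [hC]
    by_cases h3q : q = 3
    · subst h3q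
      have e : (1 + M) ^ 3 = 1 + (3 : ℤ) • M + M * M * ((3 : ℤ) • 1 + M) := by noncomm_ring
      rw [hpow, add_assoc, left_eq_add] at e
      have e2 : M * M * ((3 : ℤ) • 1 + M) = ((3 : ℤ) ^ (1 + b + (1 + b)) * 3) •
          (Matrix.of C * Matrix.of C * (1 + (3 : ℤ) ^ b • Matrix.of C)) := by
        rw [hM]
        simp only [smul_mul_assoc, mul_smul_comm, smul_smul, smul_add, mul_add, mul_one]
        congr 1 <;> congr 1 <;> ring
      rw [e2] at e
      have e3 := congrFun (congrFun e i) j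
      simp only [Matrix.add_apply, Matrix.smul_apply, smul_eq_mul, Matrix.zero_apply] at e3
      exact ⟨-((Matrix.of C * Matrix.of C * (1 + (3 : ℤ) ^ b • Matrix.of C)) i j), by linarith⟩
    · obtain ⟨X, hX⟩ := hexp q
      rw [hpow, add_assoc, left_eq_add] at hX
      have e2 : M * M * X = ((3 : ℤ) ^ (1 + b + (1 + b))) • (Matrix.of C * Matrix.of C * X) := by
        rw [hM]
        simp only [smul_mul_assoc, mul_smul_comm, smul_smul, pow_add]
      rw [e2] at hX
      have e3 := congrFun (congrFun hX i) j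
      simp only [Matrix.add_apply, Matrix.smul_apply, Matrix.zero_apply] at e3
      rw [nsmul_eq_mul, smul_eq_mul] at e3
      have hcop : IsCoprime ((3 : ℤ) ^ (1 + b + (1 + b))) (q : ℤ) := by
        apply IsCoprime.pow_left
        rw [show (3 : ℤ) = ((3 : ℕ) : ℤ) from rfl, Nat.isCoprime_iff_coprime]
        exact (Nat.coprime_primes Nat.prime_three hq).2 (Ne.symm h3q)
      refine hcop.dvd_of_dvd_mul_left ⟨-((Matrix.of C * Matrix.of C * X) i j), ?_⟩
      linear_combination e3
  have all : ∀ a : ℕ, ∀ i j, (3 : ℤ) ^ (a + 1) ∣ M i j := by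
    intro a
    induction a with
    | zero => simpa using h3
    | succ a ih => exact fun i j => (pow_dvd_pow _ (by omega)).trans (step (a + 1) (by omega) ih i j)
  ext i j
  refine Int.eq_zero_of_dvd_of_natAbs_lt_natAbs (all (M i j).natAbs i j) ?_
  rw [Int.natAbs_pow]
  exact lt_of_lt_of_le (Nat.lt_pow_self (by norm_num : 1 < (3 : ℤ).natAbs)) (Nat.pow_le_pow_right (by norm_num) (by omega))

/-- For every n, the orders of the finite subgroups of GL_n(ℤ) are bounded: there is B such that every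
finite subgroup of GL_n(ℤ) has at most B elements. -/
theorem result (n : ℕ) :
    ∃ B : ℕ, ∀ H : Subgroup (Matrix.GeneralLinearGroup (Fin n) ℤ), Finite H → Nat.card H ≤ B := by
  classical
  let φ := Matrix.GeneralLinearGroup.map (n := Fin n) (Int.castRingHom (ZMod 3))
  refine ⟨Nat.card (Matrix.GeneralLinearGroup (Fin n) (ZMod 3)), fun H hH => ?_⟩
  refine Nat.card_le_card_of_injective (φ.comp H.subtype) ((injective_iff_map_eq_one _).2 fun x hx => ?_)
  by_contra hx1
  have ho : orderOf x ≠ 1 := fun h => hx1 (orderOf_eq_one_iff.1 h)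
  obtain ⟨q, hq, hqd⟩ := Nat.exists_prime_and_dvd ho
  let y := x ^ (orderOf x / q)
  have hy : orderOf y = q := orderOf_pow_orderOf_div (orderOf_pos x).ne' hqd
  have hyφ : φ (y : Matrix.GeneralLinearGroup (Fin n) ℤ) = 1 := by
    have hx' : φ (x : Matrix.GeneralLinearGroup (Fin n) ℤ) = 1 := hx
    simp [y, hx']
  have hy1 : (y : Matrix.GeneralLinearGroup (Fin n) ℤ) = 1 := by
    apply Units.ext
    have := eq_one_of_pow q hq (((y : Matrix.GeneralLinearGroup (Fin n) ℤ) : Matrix (Fin n) (Fin n) ℤ) - 1) (fun i j => ?_) ?_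
    · exact sub_eq_zero.1 this
    · have h2 : ((φ (y : Matrix.GeneralLinearGroup (Fin n) ℤ) : Matrix (Fin n) (Fin n) (ZMod 3))) i j =
          (1 : Matrix (Fin n) (Fin n) (ZMod 3)) i j := by rw [hyφ]; rfl
      have h4 : (((y : Matrix.GeneralLinearGroup (Fin n) ℤ) : Matrix (Fin n) (Fin n) ℤ) i j : ZMod 3) =
          (((1 : Matrix (Fin n) (Fin n) ℤ) i j : ℤ) : ZMod 3) := by
        simpa [φ, Matrix.one_apply, apply_ite] using h2
      have := (ZMod.intCast_eq_intCast_iff_dvd_sub _ _ 3).1 h4.symm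
      simpa using this
    · rw [add_sub_cancel]
      have h5 : ((y : Matrix.GeneralLinearGroup (Fin n) ℤ)) ^ q = 1 := by
        rw [← Subgroup.coe_pow, ← hy, pow_orderOf_eq_one]; rfl
      simpa using congrArg Units.val h5
  rw [show y = 1 from Subtype.ext hy1, orderOf_one] at hy
  exact hq.one_lt.ne hy

end Groth.Agent.S19590
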