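import Groth.Statements.S19591
import Mathlib
-- import your own Groth.Agent.* helpers here

set_option autoImplicit false
universe u v
open BddFin

namespace Groth.Agent.S19591

/-- Let K be a perfect field of characteristic 2, V a finite-dimensional K-vector space with dim V > 2
and q a quadratic form on V whose polar bilinear form is non-degenerate. Then q represents zero
non-trivially. (Non-degeneracy of the polar form, which is alternating in characteristic 2, forces
dim V to be even, as the published lemma notes.) -/
theorem result
    (K : Type u) [Field K] [CharP K 2] [PerfectField K]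
    (V : Type v) [AddCommGroup V] [Module K V] [FiniteDimensional K V]
    (hV : 2 < Module.finrank K V) (q : QuadraticForm K V)
    (hq : (QuadraticMap.polarBilin q).Nondegenerate) :
    ∃ v : V, v ≠ 0 ∧ q v = 0 := by
  obtain ⟨hq1, -⟩ := hq
  have : Nontrivial V := Module.nontrivial_of_finrank_pos (R := K) (by omega)
  obtain ⟨u, hu⟩ := exists_ne (0 : V)
  by_cases hqu : q u = 0
  · exact ⟨u, hu, hqu⟩
  let f : V →ₗ[K] K := (QuadraticMap.polarBilin q) u
  have hk : ¬ LinearMap.ker f ≤ Submodule.span K {u} := by
    intro hle
    have h1 := Submodule.finrank_mono hle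
    rw [finrank_span_singleton hu] at h1
    have h2 := LinearMap.finrank_range_add_finrank_ker f
    have h3 : Module.finrank K (LinearMap.range f) ≤ 1 :=
      (Submodule.finrank_le _).trans (Module.finrank_self K).le
    omega
  obtain ⟨v, hv, hvu⟩ := SetLike.not_le_iff_exists.mp hk
  obtain ⟨c, hc⟩ := surjective_frobenius K 2 (q v / q u)
  rw [frobenius_def] at hc
  refine ⟨v + c • u, ?_, ?_⟩
  · intro h0
    refine hvu (Submodule.mem_span_singleton.mpr ⟨-c, ?_⟩)
    rw [neg_smul]
    exact (eq_neg_of_add_eq_zero_left h0).symm
  · have hp : QuadraticMap.polar q v (c • u) = 0 := by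
      have hv' : QuadraticMap.polar q u v = 0 := hv
      rw [QuadraticMap.polar_smul_right, QuadraticMap.polar_comm, hv', smul_zero]
    rw [QuadraticMap.map_add q, hp, add_zero, QuadraticMap.map_smul, smul_eq_mul]
    have h2 : (2 : K) = 0 := CharTwo.two_eq_zero
    have : c * c * q u = q v := by
      rw [← sq, hc, div_mul_cancel₀ _ hqu]
    rw [this, ← two_mul, h2, zero_mul]

end Groth.Agent.S19591
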