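import Groth.Statements.S19593
import Groth.Agent.ProjBundleLib.VeryAmple
import Groth.Agent.AmpleLib.RelGen
-- import your own Groth.Agent.* helpers here

set_option autoImplicit false
universe u
open CategoryTheory AlgebraicGeometry
open PicF

namespace Groth.Agent.S19593

/-- Let k be an infinite field, Y a scheme proper over k with a relatively very ample O_Y-module A (the
pullback of O(1) along an immersion of Y into the Proj of a symmetric algebra over k), and y_1, …,
y_m finitely many points of Y. Then some global section of A generates A at every y_i. (The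
published statement takes Y projective over k and A a very ample line bundle; here Y is proper over
k and A very ample relative to Y → Spec k, which makes Y projective.) -/
theorem result
    (k : Type u) [Field k] [Infinite k] (Y : Scheme.{u}) (f : Y ⟶ Spec (CommRingCat.of k)) [IsProper f]
    (A : Y.Modules) (hA : RelProj.IsRelVeryAmple f A)
    (ι : Type) [Finite ι] (y : ι → ↥Y) :
    ∃ s : Coh.structureModule Y ⟶ A, ∀ i : ι, y i ∈ CohB1.genLocus A s := by
  obtain ⟨E, P, p, O1, φE, D, i0, -, hip, ⟨eA⟩⟩ := ProjBundleLib.exists_pdata hA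
  have hinv : PicF.IsInvertible A :=
    ParaFLib.isInvertible_of_iso eA.symm (AmpleLib.isInvertible_pullback i0 D.isInvertible_O1)
  obtain ⟨E', -, s', hs'⟩ := ProjBundleLib.exists_epi_of_isRelVeryAmple hA
  haveI := hs'
  have hepi := ProjBundleLib.epi_counit_of_epi s'
  letI : Module k Γ(A, ⊤) := Module.compHom _ ((Scheme.ΓSpecIso (CommRingCat.of k)).inv ≫ f.appTop).hom
  have hgen : ∀ i, ∃ σ : Γ(A, ⊤), Function.Bijective fun r : Y.presheaf.stalk (y i) =>
      r • A.presheaf.germ ⊤ (y i) trivial σ := fun i => by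
    obtain ⟨W, hx, σ, hσ⟩ := AmpleLib.exists_gen_preimage_of_epi_counit f hinv hepi (y i)
    obtain rfl : W = ⊤ := eq_top_iff.2 fun z _ => by
      haveI : Subsingleton ↥(Spec (CommRingCat.of k)) := inferInstanceAs (Subsingleton (PrimeSpectrum k))
      rw [Subsingleton.elim z (f (y i))]; exact hx
    exact ⟨σ, hσ⟩
  choose σ hσ using hgen
  choose coef hcoef using fun i (s : Γ(A, ⊤)) => (hσ i).2 (A.presheaf.germ ⊤ (y i) trivial s)
  have huniq : ∀ i (r : Y.presheaf.stalk (y i)) (s : Γ(A, ⊤)),
      r • A.presheaf.germ ⊤ (y i) trivial (σ i) = A.presheaf.germ ⊤ (y i) trivial s → coef i s = r :=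
    fun i r s h => (hσ i).1 ((hcoef i s).trans h.symm)
  let S : ι → Submodule k Γ(A, ⊤) := fun i =>
    { carrier := {s | coef i s ∈ IsLocalRing.maximalIdeal (Y.presheaf.stalk (y i))}
      zero_mem' := by
        show coef i 0 ∈ IsLocalRing.maximalIdeal (Y.presheaf.stalk (y i))
        rw [huniq i 0 0 (by rw [zero_smul, map_zero])]
        exact Ideal.zero_mem _
      add_mem' := fun {s t} hs ht => by
        show coef i (s + t) ∈ IsLocalRing.maximalIdeal (Y.presheaf.stalk (y i))
        rw [huniq i (coef i s + coef i t) (s + t) (by rw [add_smul, map_add]; exact congrArg₂ (· + ·) (hcoef i s) (hcoef i t))]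
        exact Ideal.add_mem _ hs ht
      smul_mem' := fun c s hs => by
        let c' : Γ(Y, ⊤) := ((Scheme.ΓSpecIso (CommRingCat.of k)).inv ≫ f.appTop).hom c
        show coef i (c' • s) ∈ IsLocalRing.maximalIdeal (Y.presheaf.stalk (y i))
        rw [huniq i (Y.presheaf.germ ⊤ (y i) trivial c' * coef i s) (c' • s) (by
          rw [mul_smul]; exact (congrArg _ (hcoef i s)).trans (ParaFLib.germ_smul' (U := ⊤) (y i) trivial c' s).symm)]
        exact Ideal.mul_mem_left _ _ hs }
  have hS : ∀ i, S i ≠ ⊤ := fun i h => by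
    have h1 : coef i (σ i) ∈ IsLocalRing.maximalIdeal (Y.presheaf.stalk (y i)) :=
      (h.symm ▸ Submodule.mem_top : σ i ∈ S i)
    rw [huniq i 1 (σ i) (one_smul _ _)] at h1
    exact (IsLocalRing.maximalIdeal.isMaximal _).ne_top ((Ideal.eq_top_iff_one _).2 h1)
  obtain ⟨s, hs⟩ := Submodule.exists_forall_notMem_of_forall_ne_top S hS
  refine ⟨DCohLib.secHom A s, fun i => ?_⟩
  rw [AmpleLib.mem_genLocus_iff hinv, AmpleLib.sec_secHom, ← hcoef i s, AmpleLib.bijective_smul_iff (hσ i)]
  exact IsLocalRing.notMem_maximalIdeal.1 (hs i)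

end Groth.Agent.S19593
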