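import Groth.Statements.S19597
import Mathlib
import Groth.Agent.ArLefLib.Node
-- import your own Groth.Agent.* helpers here

set_option autoImplicit false
universe u
open ArLef ArLef.NodeAlg

namespace Groth.Agent.S19597

/-- In the cases where σ fixes the two branches through the point, these lie on different components,
the second lies in the divisorial part of the fixed locus with the maximal multiplicity j and the
first with multiplicity i₁ < j, let B be a discrete valuation ring with uniformizer π, N = B[[t,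
e]]/(te - π) the complete local ring of a semi-stable arithmetic surface over B at a singular point
x of the closed fibre, and σ a ring automorphism of N with σ(π) = π + γ π^j (γ a unit of B, j ≥ 1)
and σ(c) - c ∈ π^j N for all c ∈ B. Suppose σ(t) = α t and σ(e) = β e with units α, β, that α - 1 =
t^{i₁} e^j a and β - 1 = t^{i₁} e^{j-1} b with i₁ < j and t not dividing b. Then, I being the
fixed-point ideal of σ, whose divisorial part near x is t^{i₁} e^j, the length l of the residual
fixed-point scheme with ideal (I : t^{i₁} e^j) satisfies l + (j - 1 - i₁) = (j - i₁)·Leng N/(t, b);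
for i₁ = 0, Leng N/(t, b) + j is the fixed-point multiplicity s₁ of σ at x on the first component
and l = j (s₁ - j - 1) + 1. -/
theorem result (B : Type u) [CommRing B] [IsDomain B] [IsDiscreteValuationRing B] (π : B) (hπ : Irreducible π)
    (j i₁ : ℕ) (h1 : i₁ < j) (γ : B) (hγ : IsUnit γ)
    (σ : ArLef.NodeAlg B π ≃+* ArLef.NodeAlg B π)
    (hσB : ∀ c : B, σ (algebraMap B (ArLef.NodeAlg B π) c) - algebraMap B (ArLef.NodeAlg B π) c ∈
      Ideal.span ({algebraMap B (ArLef.NodeAlg B π) (π ^ j)} : Set (ArLef.NodeAlg B π)))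
    (hσπ : σ (algebraMap B (ArLef.NodeAlg B π) π) = algebraMap B (ArLef.NodeAlg B π) (π + γ * π ^ j))
    (α β : (ArLef.NodeAlg B π)ˣ) (ht : σ (ArLef.NodeAlg.t π) = (α : ArLef.NodeAlg B π) * ArLef.NodeAlg.t π) (he : σ (ArLef.NodeAlg.e π) = (β : ArLef.NodeAlg B π) * ArLef.NodeAlg.e π)
    (a b : ArLef.NodeAlg B π) (ha : (α : ArLef.NodeAlg B π) - 1 = ArLef.NodeAlg.t π ^ i₁ * ArLef.NodeAlg.e π ^ j * a) (hb : (β : ArLef.NodeAlg B π) - 1 = ArLef.NodeAlg.t π ^ i₁ * ArLef.NodeAlg.e π ^ (j - 1) * b)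
    (htb : ¬ (ArLef.NodeAlg.t π ∣ b)) :
    Module.length (ArLef.NodeAlg B π) (ArLef.NodeAlg B π ⧸ (ArLef.fixIdeal σ).colon ({ArLef.NodeAlg.t π ^ i₁ * ArLef.NodeAlg.e π ^ j} : Set (ArLef.NodeAlg B π))) + ((j - 1 - i₁ : ℕ) : ℕ∞) =
      ((j - i₁ : ℕ) : ℕ∞) * Module.length (ArLef.NodeAlg B π) (ArLef.NodeAlg B π ⧸ Ideal.span ({ArLef.NodeAlg.t π, b} : Set (ArLef.NodeAlg B π))) := by
  classical
  haveI := ArLefLib.node_isDomain hπ
  haveI := ArLefLib.node_isLocalRing hπ
  generalize hN : ArLef.NodeAlg.t π = t at *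
  generalize hE : ArLef.NodeAlg.e π = e at *
  have ht0 : t ≠ 0 := hN ▸ ArLefLib.var_ne_zero hπ (i := 0)
  have he0 : e ≠ 0 := hE ▸ ArLefLib.var_ne_zero hπ (i := 1)
  have htp : Prime t := hN ▸ ArLefLib.var_prime hπ (show (1 : Fin 2) ≠ 0 by decide)
  have hep : Prime e := hE ▸ ArLefLib.var_prime hπ (show (0 : Fin 2) ≠ 1 by decide)
  have hte : t * e = algebraMap B (ArLef.NodeAlg B π) π := hN ▸ hE ▸ ArLefLib.t_mul_e π
  obtain ⟨n, rfl⟩ : ∃ n, j = i₁ + n + 1 := ⟨j - i₁ - 1, by omega⟩
  have e1 : i₁ + n + 1 - i₁ = n + 1 := by omega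
  have e2 : i₁ + n + 1 - 1 - i₁ = n := by omega
  have e3 : i₁ + n + 1 - 1 = i₁ + n := by omega
  rw [e1, e2]
  rw [e3] at hb
  let c : ArLef.NodeAlg B π := algebraMap B (ArLef.NodeAlg B π) γ
  have hc : IsUnit c := hγ.map _
  have hσte : ((α : ArLef.NodeAlg B π) * t) * (β * e) = t * e + c * (t * e) ^ (i₁ + n + 1) := by
    rw [← ht, ← he, ← map_mul, hte, hσπ, map_add, map_mul, map_pow]
  have hrel : e * a + b + t ^ i₁ * e ^ (i₁ + n + 1) * a * b = c * t ^ n := by
    refine mul_left_cancel₀ (mul_ne_zero (mul_ne_zero (pow_ne_zero i₁ ht0) (pow_ne_zero (i₁ + n) he0))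
      (mul_ne_zero ht0 he0)) ?_
    rw [eq_add_of_sub_eq ha, eq_add_of_sub_eq hb] at hσte
    linear_combination (norm := ring_nf) hσte
  let g : ArLef.NodeAlg B π := t ^ i₁ * e ^ (i₁ + n + 1)
  have hI : ArLef.fixIdeal σ = Ideal.span {g} * Ideal.span ({t * a, b} : Set (ArLef.NodeAlg B π)) := by
    rw [Ideal.span_mul_span']
    have hta : g * (t * a) = σ t - t := by
      rw [ht]; simp only [g]; linear_combination (-t) * ha
    have hb' : g * b = σ e - e := by
      rw [he]; simp only [g]; linear_combination (norm := ring_nf) (-e) * hb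
    refine le_antisymm ?_ (Ideal.span_le.2 ?_)
    · refine ArLefLib.node_fixIdeal_le hπ (σ : ArLef.NodeAlg B π →+* ArLef.NodeAlg B π) _ (fun x => ?_) ?_ ?_
      · obtain ⟨y, hy⟩ := Ideal.mem_span_singleton'.1 (hσB x)
        show σ _ - _ ∈ _
        rw [← hy, map_pow, ← hte]
        refine Ideal.mul_mem_left _ _ ((Ideal.unit_mul_mem_iff_mem _ hc).1 ?_)
        have : c * (t * e) ^ (i₁ + n + 1) =
            e * (g * (t * a)) + (t + t ^ (i₁ + 1) * e ^ (i₁ + n + 1) * a) * (g * b) := by
          simp only [g]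
          linear_combination (norm := ring_nf) (-(t ^ (i₁ + 1) * e ^ (i₁ + n + 1))) * hrel
        rw [this]
        exact Submodule.add_mem _ (Ideal.mul_mem_left _ _ (Ideal.subset_span ⟨g, rfl, _, by simp, rfl⟩))
          (Ideal.mul_mem_left _ _ (Ideal.subset_span ⟨g, rfl, _, by simp, rfl⟩))
      · show σ _ - _ ∈ _
        rw [hN, ← hta]
        exact Ideal.subset_span ⟨g, rfl, _, by simp, rfl⟩
      · show σ _ - _ ∈ _
        rw [hE, ← hb']
        exact Ideal.subset_span ⟨g, rfl, _, by simp, rfl⟩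
    · rintro _ ⟨_, rfl, y, hy, rfl⟩
      rcases hy with rfl | rfl
      · exact Ideal.subset_span ⟨t, hta.symm⟩
      · exact Ideal.subset_span ⟨e, hb'.symm⟩
  have hte' : ¬ e ∣ t ^ n := fun h => by
    have h' := map_dvd (ArLefLib.branch hπ 0) h
    rw [map_pow, ← hN, ← hE, ← ArLefLib.var_zero, ← ArLefLib.var_one, ArLefLib.branch_self,
      ArLefLib.branch_other hπ (show (0 : Fin 2) ≠ 1 by decide), zero_dvd_iff] at h'
    exact pow_ne_zero n PowerSeries.X_ne_zero h'
  have heb : ¬ e ∣ b := fun h => hte' (hc.dvd_mul_left.1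
    (hrel ▸ dvd_add (dvd_add (dvd_mul_right _ _) h) (h.mul_left _)))
  have htne : ¬ t ∣ e := fun h => by
    have h' := map_dvd (ArLefLib.branch hπ 1) h
    rw [← hN, ← hE, ← ArLefLib.var_zero, ← ArLefLib.var_one, ArLefLib.branch_self,
      ArLefLib.branch_other hπ (show (1 : Fin 2) ≠ 0 by decide), zero_dvd_iff] at h'
    exact PowerSeries.X_ne_zero h'
  have hone : Module.length (ArLef.NodeAlg B π)
      (ArLef.NodeAlg B π ⧸ Ideal.span ({t, e} : Set (ArLef.NodeAlg B π))) = 1 := by
    let φ := (PowerSeries.constantCoeff).comp (ArLefLib.branch hπ 0)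
    have hk : RingHom.ker φ = Ideal.span ({t, e} : Set (ArLef.NodeAlg B π)) := by
      refine le_antisymm (fun x hx => ?_) (Ideal.span_le.2 ?_)
      · obtain ⟨y, hy⟩ := (PowerSeries.X_dvd_iff.2 hx : PowerSeries.X ∣ ArLefLib.branch hπ 0 x)
        obtain ⟨z, rfl⟩ := ArLefLib.branch_surjective hπ (show (0 : Fin 2) ≠ 1 by decide) y
        obtain ⟨w, hw⟩ := (ArLefLib.branch_eq_zero_iff hπ (show (0 : Fin 2) ≠ 1 by decide) (x - t * z)).1 (by
          rw [map_sub, map_mul, hy, ← hN, ← ArLefLib.var_zero, ArLefLib.branch_self, sub_self])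
        rw [ArLefLib.var_one, hE] at hw
        exact Ideal.mem_span_pair.2 ⟨z, w, by linear_combination -hw⟩
      · rintro x (hx | hx)
        · rw [hx]
          show φ t = 0
          rw [← hN, ← ArLefLib.var_zero]
          simp only [φ, RingHom.comp_apply]
          rw [ArLefLib.branch_self, PowerSeries.constantCoeff_X]
        · rw [Set.mem_singleton_iff.1 hx]
          show φ e = 0
          simp only [φ, RingHom.comp_apply]
          rw [← hE, ← ArLefLib.var_one, ArLefLib.branch_other hπ (show (0 : Fin 2) ≠ 1 by decide), map_zero]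
    haveI : (RingHom.ker φ).IsMaximal := RingHom.ker_isMaximal_of_surjective φ
      (PowerSeries.constantCoeff_surj.comp (ArLefLib.branch_surjective hπ (show (0 : Fin 2) ≠ 1 by decide)))
    rw [Module.length_eq_one_iff, ← hk, isSimpleModule_iff_isCoatom]
    exact Ideal.IsMaximal.out
  have hspan : ∀ (x y z : ArLef.NodeAlg B π) (u v : ArLef.NodeAlg B π), IsUnit u → x = u * y + v * z →
      Ideal.span ({x, z} : Set (ArLef.NodeAlg B π)) = Ideal.span {y, z} := by
    intro x y z u v hu hxy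
    refine le_antisymm (Ideal.span_le.2 ?_) (Ideal.span_le.2 ?_)
    · rintro w (rfl | rfl)
      · exact Ideal.mem_span_pair.2 ⟨u, v, hxy.symm⟩
      · exact Ideal.subset_span (by simp)
    · rintro w (rfl | rfl)
      · obtain ⟨u, rfl⟩ := hu
        exact Ideal.mem_span_pair.2 ⟨(u⁻¹ : (ArLef.NodeAlg B π)ˣ), -((u⁻¹ : (ArLef.NodeAlg B π)ˣ) * v), by
          rw [hxy]; linear_combination w * u.inv_mul⟩
      · exact Ideal.subset_span (by simp)
  have heq : Ideal.span ({b, e} : Set (ArLef.NodeAlg B π)) = Ideal.span {t ^ n, e} :=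
    hspan _ _ _ c (-(a + t ^ i₁ * e ^ (i₁ + n) * a * b)) hc
      (by linear_combination (norm := ring_nf) hrel)
  have heab : Ideal.span ({e * a, b} : Set (ArLef.NodeAlg B π)) = Ideal.span {t ^ n, b} :=
    hspan _ _ _ c (-(1 + t ^ i₁ * e ^ (i₁ + n + 1) * a)) hc (by linear_combination hrel)
  have hkey := ArLefLib.length_span_pair (a := a) hep heb (mem_nonZeroDivisors_of_ne_zero he0)
  rw [heab, ArLefLib.length_span_pow htp htb (mem_nonZeroDivisors_of_ne_zero ht0), Set.pair_comm e b,
    heq, ArLefLib.length_span_pow htp htne (mem_nonZeroDivisors_of_ne_zero ht0), hone, mul_one] at hkey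
  rw [hI, ArLefLib.pow_dvd_colon (mul_ne_zero (pow_ne_zero _ ht0) (pow_ne_zero _ he0)),
    ArLefLib.length_span_pair htp htb (mem_nonZeroDivisors_of_ne_zero ht0), Nat.cast_succ, add_mul,
    one_mul, hkey, add_assoc, add_comm (Module.length _ _) (n : ℕ∞), add_comm]

end Groth.Agent.S19597
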