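import Groth.Statements.S19606
import Groth.Agent.FormalSysLib.Sections
import Groth.Agent.KoszShLib.Resolution
open CategoryTheory CategoryTheory.Limits AlgebraicGeometry Opposite
-- import your own Groth.Agent.* helpers here

set_option autoImplicit false
universe u
open CategoryTheory CategoryTheory.Limits AlgebraicGeometry
open ClSub

namespace Groth.Agent.S19606

/-- Let X be a scheme and I₁, I₂ quasi-coherent ideal sheaves with I₁ ⊓ I₂ = 0, cutting out closed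
subschemes X₁, X₂ and X₁ ∩ X₂ (ideal I₁ + I₂). Then 0 → O_X → O_X/I₁ ⊕ O_X/I₂ → O_X/(I₁ + I₂) → 0 is
an exact sequence of O_X-modules, the maps being the two restrictions and the difference of the
restrictions q₁, q₂ (the module maps compatible with the quotient maps from O_X). The published
statement is for a locally free sheaf E on a reduced scheme with two irreducible components X₁, X₂
(whose ideals meet in zero); this row is the case E = O_X for any two ideals with zero intersection,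
which is what the local argument uses. -/
theorem result (X : Scheme.{u}) (I₁ I₂ : X.IdealSheafData)
    (h : I₁ ⊓ I₂ = ⊥)
    (q₁ : ClSub.quotMod I₁ ⟶ ClSub.quotMod (I₁ ⊔ I₂)) (q₂ : ClSub.quotMod I₂ ⟶ ClSub.quotMod (I₁ ⊔ I₂))
    (hq₁ : ClSub.toSubscheme I₁ ≫ q₁ = ClSub.toSubscheme (I₁ ⊔ I₂))
    (hq₂ : ClSub.toSubscheme I₂ ≫ q₂ = ClSub.toSubscheme (I₁ ⊔ I₂)) :
    Epi (biprod.desc q₁ (-q₂)) ∧
      ∃ w : biprod.lift (ClSub.toSubscheme I₁) (ClSub.toSubscheme I₂) ≫ biprod.desc q₁ (-q₂) = 0,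
        Nonempty (IsLimit (KernelFork.ofι (biprod.lift (ClSub.toSubscheme I₁) (ClSub.toSubscheme I₂)) w)) := by
  have ht : ∀ (I : X.IdealSheafData) (V : X.affineOpens) (a : Γ(X, V.1)),
      (ClSub.toSubscheme I).app V.1 a = (I.subschemeι.app V.1).hom a := fun I V a => rfl
  have hker : ∀ (I : X.IdealSheafData) (V : X.affineOpens) (a : Γ(X, V.1)),
      (ClSub.toSubscheme I).app V.1 a = 0 ↔ a ∈ I.ideal V := fun I V a => by
    rw [ht, ← Scheme.IdealSheafData.ker_subschemeι_app, RingHom.mem_ker]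
    rfl
  have hsurj : ∀ (I : X.IdealSheafData) (V : X.affineOpens),
      Function.Surjective ((ClSub.toSubscheme I).app V.1) := fun I V s => by
    obtain ⟨a, ha⟩ := I.subschemeι_app_surjective V s
    exact ⟨a, ha⟩
  have hq : ∀ (V : X.affineOpens) (a : Γ(X, V.1)),
      q₁.app V.1 ((ClSub.toSubscheme I₁).app V.1 a) = (ClSub.toSubscheme (I₁ ⊔ I₂)).app V.1 a ∧
      q₂.app V.1 ((ClSub.toSubscheme I₂).app V.1 a) = (ClSub.toSubscheme (I₁ ⊔ I₂)).app V.1 a :=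
    fun V a => ⟨congr($(hq₁).app V.1 a), congr($(hq₂).app V.1 a)⟩
  have hdesc : ∀ (V : X.Opens) (w : Γ((ClSub.quotMod I₁ ⊞ ClSub.quotMod I₂ : X.Modules), V)),
      (biprod.desc q₁ (-q₂)).app V w =
        q₁.app V ((biprod.fst : ClSub.quotMod I₁ ⊞ ClSub.quotMod I₂ ⟶ _).app V w) -
          q₂.app V ((biprod.snd : ClSub.quotMod I₁ ⊞ ClSub.quotMod I₂ ⟶ _).app V w) := fun V w => by
    rw [biprod.desc_eq, Preadditive.comp_neg, ← sub_eq_add_neg, Scheme.Modules.Hom.sub_app]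
    rfl
  have w : biprod.lift (ClSub.toSubscheme I₁) (ClSub.toSubscheme I₂) ≫ biprod.desc q₁ (-q₂) = 0 := by
    rw [biprod.lift_desc, Preadditive.comp_neg, hq₁, hq₂, add_neg_cancel]
  have hfst : ∀ (V : X.Opens) (a : Γ(Coh.structureModule X, V)),
      (biprod.fst : ClSub.quotMod I₁ ⊞ ClSub.quotMod I₂ ⟶ _).app V
          ((biprod.lift (ClSub.toSubscheme I₁) (ClSub.toSubscheme I₂)).app V a) =
        (ClSub.toSubscheme I₁).app V a :=
    fun V a => congr($(biprod.lift_fst (ClSub.toSubscheme I₁) (ClSub.toSubscheme I₂)).app V a)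
  have hsnd : ∀ (V : X.Opens) (a : Γ(Coh.structureModule X, V)),
      (biprod.snd : ClSub.quotMod I₁ ⊞ ClSub.quotMod I₂ ⟶ _).app V
          ((biprod.lift (ClSub.toSubscheme I₁) (ClSub.toSubscheme I₂)).app V a) =
        (ClSub.toSubscheme I₂).app V a :=
    fun V a => congr($(biprod.lift_snd (ClSub.toSubscheme I₁) (ClSub.toSubscheme I₂)).app V a)
  refine ⟨Groth.Agent.FormalSys.epi_of_affine _ fun U hU s => ?_, w, ?_⟩
  · obtain ⟨a, rfl⟩ := hsurj (I₁ ⊔ I₂) ⟨U, hU⟩ s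
    refine ⟨(biprod.inl : ClSub.quotMod I₁ ⟶ ClSub.quotMod I₁ ⊞ ClSub.quotMod I₂).app U
      ((ClSub.toSubscheme I₁).app U a), ?_⟩
    exact (congr($(biprod.inl_desc q₁ (-q₂)).app U ((ClSub.toSubscheme I₁).app U a))).trans (hq ⟨U, hU⟩ a).1
  haveI hm : Mono (biprod.lift (ClSub.toSubscheme I₁) (ClSub.toSubscheme I₂)) := by
    refine Preadditive.mono_of_cancel_zero _ fun {T} g hg => Groth.Agent.FormalSys.hom_ext_affine fun U hU s => ?_
    have h0 := congr($(hg).app U s)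
    have h1 : (ClSub.toSubscheme I₁).app U (g.app U s) = 0 := by
      refine (hfst U _).symm.trans ?_
      exact (congrArg ((biprod.fst : ClSub.quotMod I₁ ⊞ ClSub.quotMod I₂ ⟶ _).app U) h0).trans (map_zero _)
    have h2 : (ClSub.toSubscheme I₂).app U (g.app U s) = 0 := by
      refine (hsnd U _).symm.trans ?_
      exact (congrArg ((biprod.snd : ClSub.quotMod I₁ ⊞ ClSub.quotMod I₂ ⟶ _).app U) h0).trans (map_zero _)
    have h3 : (g.app U s : Γ(X, U)) ∈ (I₁ ⊓ I₂).ideal ⟨U, hU⟩ :=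
      ⟨(hker I₁ ⟨U, hU⟩ _).1 h1, (hker I₂ ⟨U, hU⟩ _).1 h2⟩
    rw [h] at h3
    exact h3
  refine ⟨(ShortComplex.Exact.fIsKernel (S := ShortComplex.mk _ _ w) ?_)⟩
  refine Groth.Agent.KoszShLib.exact_of_affine_local _ fun W t ht' x hx => ?_
  obtain ⟨_, ⟨V, hV, rfl⟩, hxV, hVW⟩ := X.isBasis_affineOpens.exists_subset_of_mem_open hx W.2
  refine ⟨V, hVW, hxV, ?_⟩
  let e := ((ClSub.quotMod I₁ ⊞ ClSub.quotMod I₂ : X.Modules).presheaf.map (homOfLE hVW).op) t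
  have he : (biprod.desc q₁ (-q₂)).app V e = 0 := by
    rw [show (biprod.desc q₁ (-q₂)).app V e = _ from Groth.Agent.QCohLib.app_res (biprod.desc q₁ (-q₂)) hVW t]
    exact (congrArg _ ht').trans (map_zero _)
  obtain ⟨a, ha⟩ : ∃ a : Γ(X, V), (ClSub.toSubscheme I₁).app V a = _ := hsurj I₁ ⟨V, hV⟩ ((biprod.fst : ClSub.quotMod I₁ ⊞ ClSub.quotMod I₂ ⟶ _).app V e)
  obtain ⟨b, hb⟩ : ∃ b : Γ(X, V), (ClSub.toSubscheme I₂).app V b = _ := hsurj I₂ ⟨V, hV⟩ ((biprod.snd : ClSub.quotMod I₁ ⊞ ClSub.quotMod I₂ ⟶ _).app V e)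
  rw [hdesc, ← ha, ← hb, (hq ⟨V, hV⟩ a).1, (hq ⟨V, hV⟩ b).2, ← map_sub] at he
  have hab : (a - b : Γ(X, V)) ∈ I₁.ideal ⟨V, hV⟩ ⊔ I₂.ideal ⟨V, hV⟩ := (hker _ ⟨V, hV⟩ _).1 he
  obtain ⟨i, hi, j, hj, hij⟩ := Submodule.mem_sup.1 hab
  have hi0 := (hker I₁ ⟨V, hV⟩ i).2 hi
  have hj0 := (hker I₂ ⟨V, hV⟩ j).2 hj
  refine ⟨(a - i : Γ(X, V)), ?_⟩
  have h1 : (ClSub.toSubscheme I₁).app V (a - i : Γ(X, V)) = (ClSub.toSubscheme I₁).app V a := by
    refine (map_sub _ _ _).trans ?_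
    rw [hi0, sub_zero]
  have h2 : (ClSub.toSubscheme I₂).app V (a - i : Γ(X, V)) = (ClSub.toSubscheme I₂).app V b := by
    have : (a - i : Γ(X, V)) = b + j := by
      rw [eq_comm, ← sub_eq_zero]; linear_combination hij
    rw [this]
    refine (map_add _ _ _).trans ?_
    rw [hj0, add_zero]
  show (biprod.lift (ClSub.toSubscheme I₁) (ClSub.toSubscheme I₂)).app V (a - i : Γ(X, V)) = e
  have htot := biprod.total (X := ClSub.quotMod I₁) (Y := ClSub.quotMod I₂)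
  refine (congr($(htot).app V ((biprod.lift (ClSub.toSubscheme I₁) (ClSub.toSubscheme I₂)).app V (a - i : Γ(X, V))))).symm.trans
    (Eq.trans ?_ congr($(htot).app V e))
  rw [Scheme.Modules.Hom.add_app]
  show (biprod.inl : ClSub.quotMod I₁ ⟶ ClSub.quotMod I₁ ⊞ ClSub.quotMod I₂).app V
      ((biprod.fst : ClSub.quotMod I₁ ⊞ ClSub.quotMod I₂ ⟶ _).app V _) +
      (biprod.inr : ClSub.quotMod I₂ ⟶ ClSub.quotMod I₁ ⊞ ClSub.quotMod I₂).app V
      ((biprod.snd : ClSub.quotMod I₁ ⊞ ClSub.quotMod I₂ ⟶ _).app V _) =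
    (biprod.inl : ClSub.quotMod I₁ ⟶ ClSub.quotMod I₁ ⊞ ClSub.quotMod I₂).app V
      ((biprod.fst : ClSub.quotMod I₁ ⊞ ClSub.quotMod I₂ ⟶ _).app V e) +
      (biprod.inr : ClSub.quotMod I₂ ⟶ ClSub.quotMod I₁ ⊞ ClSub.quotMod I₂).app V
      ((biprod.snd : ClSub.quotMod I₁ ⊞ ClSub.quotMod I₂ ⟶ _).app V e)
  rw [hfst, hsnd, h1, h2, ha, hb]

end Groth.Agent.S19606
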