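import Groth.Statements.S19609
import Mathlib.RingTheory.AdicCompletion.Basic
-- import your own Groth.Agent.* helpers here

set_option autoImplicit false
set_option backward.isDefEq.respectTransparency false
universe u
open CartMod

namespace Groth.Agent.S19609

/-- Let p be a prime and u : A → B a ring homomorphism between commutative rings which are complete and
separated for the p-adic topology and have no p-torsion (flat over the p-adic base). If u induces a
bijection A/pA → B/pB (injectivity: u a ∈ pB forces a ∈ pA; surjectivity: every b ∈ B is congruent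
to some u a modulo pB), then u is bijective. (The published statement is for a morphism of flat
p-adic formal schemes over the Witt vectors of a perfect field: if its special fibre is an
isomorphism, so is the morphism; this row is its affine, ring-level case.) -/
theorem result (p : ℕ) [Fact p.Prime]
    {A B : Type u} [CommRing A] [CommRing B]
    [IsAdicComplete (Ideal.span {(p : A)}) A] [IsAdicComplete (Ideal.span {(p : B)}) B]
    (hA : IsSMulRegular A (p : A)) (hB : IsSMulRegular B (p : B)) (u : A →+* B)
    (hinj : ∀ a : A, u a ∈ Ideal.span {(p : B)} → a ∈ Ideal.span {(p : A)})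
    (hsurj : ∀ b : B, ∃ a : A, b - u a ∈ Ideal.span {(p : B)}) :
    Function.Bijective u := by
  have hmemA : ∀ (n : ℕ) (x : A), x ∈ (Ideal.span {(p : A)} ^ n • ⊤ : Submodule A A) ↔ ∃ c, (p : A) ^ n * c = x :=
    fun n x => by
      rw [smul_eq_mul, Ideal.mul_top, Ideal.span_singleton_pow, Ideal.mem_span_singleton']
      exact ⟨fun ⟨c, hc⟩ => ⟨c, by rw [mul_comm, hc]⟩, fun ⟨c, hc⟩ => ⟨c, by rw [mul_comm, hc]⟩⟩
  have hmemB : ∀ (n : ℕ) (x : B), x ∈ (Ideal.span {(p : B)} ^ n • ⊤ : Submodule B B) ↔ ∃ c, (p : B) ^ n * c = x :=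
    fun n x => by
      rw [smul_eq_mul, Ideal.mul_top, Ideal.span_singleton_pow, Ideal.mem_span_singleton']
      exact ⟨fun ⟨c, hc⟩ => ⟨c, by rw [mul_comm, hc]⟩, fun ⟨c, hc⟩ => ⟨c, by rw [mul_comm, hc]⟩⟩
  constructor
  · refine (injective_iff_map_eq_zero u).mpr fun a ha => ?_
    have h : ∀ n : ℕ, ∃ c, (p : A) ^ n * c = a ∧ u c = 0 := by
      intro n
      induction n with
      | zero => exact ⟨a, by simp, ha⟩
      | succ n ih =>
        obtain ⟨c, hc, huc⟩ := ih
        obtain ⟨d, hd⟩ := Ideal.mem_span_singleton'.mp (hinj c (by rw [huc]; exact zero_mem _))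
        refine ⟨d, by rw [pow_succ, mul_assoc, mul_comm (p : A) d, hd, hc], hB ?_⟩
        show (p : B) * u d = (p : B) * 0
        rw [mul_zero, ← map_natCast u p, ← map_mul, mul_comm, hd, huc]
    exact IsHausdorff.haus (I := Ideal.span {(p : A)}) inferInstance a fun n => by
      rw [SModEq.zero, hmemA]
      obtain ⟨c, hc, -⟩ := h n
      exact ⟨c, hc⟩
  · intro b
    choose a c hac using fun x => (hsurj x).imp fun a ha => Ideal.mem_span_singleton'.mp ha
    let r : ℕ → B := fun n => Nat.rec b (fun _ x => c x) n
    let s : ℕ → A := fun n => Nat.rec 0 (fun i x => x + (p : A) ^ i * a (r i)) n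
    have hs : ∀ n, b - u (s n) = (p : B) ^ n * r n := by
      intro n
      induction n with
      | zero => simp [s, r]
      | succ n ih =>
        show b - u (s n + (p : A) ^ n * a (r n)) = (p : B) ^ (n + 1) * c (r n)
        rw [map_add, map_mul, map_pow, map_natCast, sub_add_eq_sub_sub, ih, ← mul_sub, ← hac (r n), pow_succ, mul_assoc,
          mul_comm (c (r n))]
    have hcauchy : ∀ {m n : ℕ}, m ≤ n → ∃ d, (p : A) ^ m * d = s n - s m := by
      intro m n h
      induction n, h using Nat.le_induction with
      | base => exact ⟨0, by simp⟩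
      | succ n hn ih =>
        obtain ⟨d, hd⟩ := ih
        refine ⟨d + (p : A) ^ (n - m) * a (r n), ?_⟩
        rw [mul_add, hd, ← mul_assoc, ← pow_add, Nat.add_sub_cancel' hn]
        show _ = (s n + (p : A) ^ n * a (r n)) - s m
        ring
    obtain ⟨L, hL⟩ := IsPrecomplete.prec' (I := Ideal.span {(p : A)}) s fun {m n} h => by
      rw [SModEq.sub_mem, hmemA]
      obtain ⟨d, hd⟩ := hcauchy h
      exact ⟨-d, by rw [mul_neg, hd, neg_sub]⟩
    refine ⟨L, sub_eq_zero.mp (IsHausdorff.haus (I := Ideal.span {(p : B)}) inferInstance _ fun n => ?_)⟩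
    rw [SModEq.zero, hmemB]
    have h := hL n
    rw [SModEq.sub_mem, hmemA] at h
    obtain ⟨d, hd⟩ := h
    refine ⟨-r n - u d, ?_⟩
    rw [mul_sub, mul_neg, ← hs n, ← map_natCast u p, ← map_pow, ← map_mul, hd, map_sub]
    ring

end Groth.Agent.S19609
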