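import Groth.Statements.S19610
import Groth.Agent.FlatDevLib.General
-- import your own Groth.Agent.* helpers here

set_option autoImplicit false
set_option backward.isDefEq.respectTransparency false
universe u
open scoped TensorProduct
open CartMod

namespace Groth.Agent.S19610

/-- Let p be a prime and B a commutative algebra over the commutative ring A, both complete and
separated for the p-adic topology and both without p-torsion (flat over the p-adic base). If B/pB is
flat over A/pA, then B/p^nB is flat over A/p^nA for every n ≥ 1 (the quotients are written as base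
changes (A/p^n) ⊗_A B). (The published statement is for a morphism of flat p-adic formal schemes
over the Witt vectors of a perfect field: if its special fibre is flat, so are the induced morphisms
of schemes modulo every power of p; this row is its affine, ring-level case.) -/
theorem result (p : ℕ) [Fact p.Prime]
    {A B : Type u} [CommRing A] [CommRing B] [Algebra A B]
    [IsAdicComplete (Ideal.span {(p : A)}) A] [IsAdicComplete (Ideal.span {(p : B)}) B]
    (hA : IsSMulRegular A (p : A)) (hB : IsSMulRegular B (p : B))
    (h : Module.Flat (A ⧸ Ideal.span {(p : A)}) ((A ⧸ Ideal.span {(p : A)}) ⊗[A] B))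
    (n : ℕ) (hn : 1 ≤ n) :
    Module.Flat (A ⧸ (Ideal.span {(p : A)} ^ n)) ((A ⧸ (Ideal.span {(p : A)} ^ n)) ⊗[A] B) := by
  obtain ⟨m, rfl⟩ := Nat.exists_eq_add_of_le' hn
  haveI := h
  refine Groth.Agent.FlatDevLibU.flat_mod_pow (Ideal.span {(p : A)}) ?_ m
  have hgen : ∀ z : ↥(Ideal.span {(p : A)}) ⊗[A] B,
      ∃ b, z = (⟨(p : A), Ideal.mem_span_singleton_self _⟩ : ↥(Ideal.span {(p : A)})) ⊗ₜ[A] b := by
    intro z
    induction z using TensorProduct.induction_on with
    | zero => exact ⟨0, (TensorProduct.tmul_zero _ _).symm⟩
    | add x y hx hy =>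
      obtain ⟨b, rfl⟩ := hx; obtain ⟨c, rfl⟩ := hy
      exact ⟨b + c, (TensorProduct.tmul_add _ _ _).symm⟩
    | tmul i b =>
      obtain ⟨c, hc⟩ := Ideal.mem_span_singleton'.mp i.2
      refine ⟨c • b, ?_⟩
      rw [← TensorProduct.smul_tmul]
      congr 1
      exact Subtype.ext hc.symm
  refine (injective_iff_map_eq_zero _).mpr fun z hz => ?_
  obtain ⟨b, rfl⟩ := hgen z
  have h2 := congrArg (TensorProduct.lid A B) hz
  rw [map_zero, LinearMap.rTensor_tmul, TensorProduct.lid_tmul] at h2
  have h3 : (p : B) * b = (p : B) * 0 := by
    rw [mul_zero, ← map_natCast (algebraMap A B), ← Algebra.smul_def]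
    exact h2
  rw [hB h3, TensorProduct.tmul_zero]

end Groth.Agent.S19610
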