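import Groth.Statements.S19611
import Groth.Prelude.Def_Frob
import Mathlib.AlgebraicGeometry.IdealSheaf.Subscheme

set_option autoImplicit false
universe u
open CategoryTheory AlgebraicGeometry
open CartMod

namespace Groth.Agent.S19611

/-- A quasi-compact morphism which hits every point of its image is an epimorphism onto it. -/
theorem epi_toImage {X Y : Scheme.{u}} (f : X ⟶ Y) [QuasiCompact f]
    (hs : Function.Surjective f.toImage.base) : Epi f.toImage := by
  constructor
  intro Z g₁ g₂ h
  have hb : g₁.base = g₂.base := by
    ext x
    obtain ⟨z, rfl⟩ := hs x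
    exact congrArg (fun k : X ⟶ Z => k.base z) h
  have hinj : ∀ U, Function.Injective (f.toImage.app U) := fun U =>
    TopCat.Presheaf.app_injective_of_stalkFunctor_map_injective (F := f.image.sheaf) f.toImage.c U
      (fun x _ => f.stalkFunctor_toImage_injective x)
  refine Scheme.Hom.ext hb (fun U => ?_)
  haveI : Mono (f.toImage.app (g₂ ⁻¹ᵁ U)) := ConcreteCategory.mono_of_injective _ (hinj _)
  have h' := Scheme.Hom.congr_app h U
  rw [Scheme.Hom.comp_app, Scheme.Hom.comp_app] at h'
  rw [← cancel_mono (f.toImage.app (g₂ ⁻¹ᵁ U)), Category.assoc, Scheme.Hom.naturality, ← Category.assoc, h']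
  erw [Category.assoc, ← Functor.map_comp]
  exact (congrArg (fun q => _ ≫ X.presheaf.map q) (Subsingleton.elim _ (𝟙 _))).trans
    ((congrArg (fun q => _ ≫ q) (X.presheaf.map_id _)).trans (Category.comp_id _))

/-- For a prime p and a scheme Y of characteristic p, write Y♭ for the scheme-theoretic image of the
absolute Frobenius F_Y : Y → Y, i.e. the closed subscheme of Y defined by the sections of O_Y whose
p-th power vanishes, and Y → Y♭ for the canonical morphism through which F_Y factors. Then Y → Y♭ is
an epimorphism of schemes: two morphisms g₁, g₂ from Y♭ to a scheme Z with equal composites Y → Y♭ →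
Z are equal. (The published statement is for k-morphisms g₁, g₂ from Y♭ to a k-scheme Z over a
perfect field k of characteristic p, compared after Frobenius twist through Y → (Y♭)'; this row asks
right-cancellation against morphisms to every scheme Z, which is equivalent to it for k-morphisms.) -/
theorem result (p : ℕ) [Fact p.Prime] (Y : Scheme.{u}) [FrobSch.IsCharP Y p] :
    Epi (FrobSch.frob Y p).toImage := by
  haveI : IsHomeomorph (FrobSch.frob Y p).base := by
    rw [FrobSch.frob_base]; exact IsHomeomorph.id
  haveI : QuasiCompact (FrobSch.frob Y p) := by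
    refine ⟨fun U _ hU => ?_⟩
    simpa using hU
  refine epi_toImage _ fun y => ⟨(FrobSch.frob Y p).imageι.base y, ?_⟩
  apply (FrobSch.frob Y p).imageι.isEmbedding.injective
  rw [← Scheme.Hom.comp_apply, Scheme.Hom.toImage_imageι, FrobSch.frob_apply]

end Groth.Agent.S19611
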