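import Groth.Statements.S19612
import Mathlib.RingTheory.Flat.TorsionFree
import Mathlib.RingTheory.WittVector.DiscreteValuationRing
import Mathlib.RingTheory.TensorProduct.Quotient
import Mathlib.LinearAlgebra.TensorProduct.Quotient
-- import your own Groth.Agent.* helpers here

set_option autoImplicit false
set_option backward.isDefEq.respectTransparency false
universe u
open scoped TensorProduct
open CartMod

namespace Groth.Agent.S19612

/-- Let k be a perfect field of characteristic p, W = W(k) the ring of Witt vectors of k, and A a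
commutative W-algebra which is complete and separated for the p-adic topology (an adic W-algebra).
Then flatness of A over W is equivalent to flatness of A/p^nA = (W/p^nW) ⊗_W A over W/p^nW for every
n ≥ 1. -/
theorem result (p : ℕ) [Fact p.Prime] (k : Type u) [Field k]
    [CharP k p] [PerfectRing k p] (A : Type u) [CommRing A] [Algebra (WittVector p k) A]
    [IsAdicComplete (Ideal.span {(p : WittVector p k)}) A] :
    Module.Flat (WittVector p k) A ↔
      ∀ n : ℕ, 1 ≤ n →
        Module.Flat (WittVector p k ⧸ (Ideal.span {(p : WittVector p k)} ^ n))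
          ((WittVector p k ⧸ (Ideal.span {(p : WittVector p k)} ^ n)) ⊗[WittVector p k] A) := by
  let W := WittVector p k
  constructor
  · intro h n _
    exact Module.Flat.baseChange _ _ _
  intro h
  have hirr : Irreducible (p : W) := WittVector.irreducible p
  have hreg : ∀ a : A, (p : W) • a = 0 → a = 0 := by
    intro a ha
    refine IsHausdorff.haus (I := Ideal.span {(p : W)}) inferInstance a fun n => ?_
    rw [SModEq.zero]
    let I := Ideal.span {(p : W)} ^ (n + 1)
    let R := W ⧸ I
    haveI : Module.Flat R (R ⊗[W] A) := h (n + 1) (Nat.le_add_left 1 n)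
    let π : R := Ideal.Quotient.mk I (p : W)
    let f : R →ₗ[R] R := LinearMap.mulLeft R (π ^ n)
    let g : R →ₗ[R] R := LinearMap.mulLeft R π
    have hex : Function.Exact f g := by
      intro y
      constructor
      · intro hy
        obtain ⟨y, rfl⟩ := Ideal.Quotient.mk_surjective y
        have hy' : (p : W) * y ∈ I := Ideal.Quotient.eq_zero_iff_mem.mp hy
        rw [show I = Ideal.span {(p : W) ^ (n + 1)} from Ideal.span_singleton_pow _ _, Ideal.mem_span_singleton'] at hy'
        obtain ⟨c, hc⟩ := hy'
        refine ⟨Ideal.Quotient.mk I c, ?_⟩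
        show π ^ n * _ = _
        rw [← map_pow, ← map_mul]
        congr 1
        refine mul_left_cancel₀ hirr.ne_zero ?_
        rw [← mul_assoc, ← pow_succ', mul_comm, hc]
      · rintro ⟨c, rfl⟩
        show π * (π ^ n * c) = 0
        rw [← mul_assoc, ← pow_succ', ← map_pow, Ideal.Quotient.eq_zero_iff_mem.mpr
          (Ideal.pow_mem_pow (Ideal.mem_span_singleton_self _) _), zero_mul]
    have hz : g.lTensor (R ⊗[W] A) (((1 : R) ⊗ₜ[W] a) ⊗ₜ[R] (1 : R)) = 0 := by
      rw [LinearMap.lTensor_tmul]
      show ((1 : R) ⊗ₜ[W] a) ⊗ₜ[R] (π * 1) = 0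
      rw [show π * 1 = π • (1 : R) from rfl, ← TensorProduct.smul_tmul, TensorProduct.smul_tmul' π (1 : R) a,
        show π • (1 : R) = (p : W) • (1 : R) by rw [Algebra.smul_def]; rfl, TensorProduct.smul_tmul, ha,
        TensorProduct.tmul_zero, TensorProduct.zero_tmul]
    obtain ⟨w, hw⟩ := (Module.Flat.lTensor_exact (R ⊗[W] A) hex _).mp hz
    have hw2 := congrArg (TensorProduct.rid R (R ⊗[W] A)) hw
    rw [TensorProduct.rid_tmul, one_smul] at hw2
    have himg : ∀ w : (R ⊗[W] A) ⊗[R] R, ∃ y, TensorProduct.rid R (R ⊗[W] A) (f.lTensor _ w) = π ^ n • y := by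
      intro w
      induction w using TensorProduct.induction_on with
      | zero => exact ⟨0, by simp⟩
      | add x y hx hy =>
        obtain ⟨u, hu⟩ := hx; obtain ⟨v, hv⟩ := hy
        exact ⟨u + v, by rw [map_add, map_add, hu, hv, smul_add]⟩
      | tmul x c =>
        refine ⟨c • x, ?_⟩
        rw [LinearMap.lTensor_tmul, TensorProduct.rid_tmul, smul_smul]
        rfl
    obtain ⟨y, hy⟩ := himg w
    rw [hw2] at hy
    let e := TensorProduct.quotTensorEquivQuotSMul A I
    obtain ⟨y0, hy0⟩ := Submodule.Quotient.mk_surjective _ (e y)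
    have he := congrArg e hy
    rw [show π ^ n • y = ((p : W) ^ n) • y by rw [← algebraMap_smul R ((p : W) ^ n) y, map_pow]; rfl,
      map_smul, ← hy0, ← Submodule.Quotient.mk_smul] at he
    rw [show e ((1 : R) ⊗ₜ[W] a) = Submodule.Quotient.mk a by
      rw [show (1 : R) = Ideal.Quotient.mk I 1 from rfl, TensorProduct.quotTensorEquivQuotSMul_mk_tmul, one_smul],
      Submodule.Quotient.eq] at he
    have hle : I • (⊤ : Submodule W A) ≤ Ideal.span {(p : W)} ^ n • ⊤ :=
      Submodule.smul_mono_left (Ideal.pow_le_pow_right n.le_succ)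
    have := add_mem (hle he) (Submodule.smul_mem_smul (Ideal.pow_mem_pow (Ideal.mem_span_singleton_self (p : W)) n)
      (Submodule.mem_top (x := y0)))
    rwa [sub_add_cancel] at this
  rw [Module.Flat.flat_iff_torsion_eq_bot_of_isBezout, eq_bot_iff]
  intro a ha
  obtain ⟨⟨r, hr⟩, hra⟩ := (Submodule.mem_torsion_iff a).mp ha
  have hr0 : r ≠ 0 := nonZeroDivisors.ne_zero hr
  obtain ⟨m, u, rfl⟩ := IsDiscreteValuationRing.eq_unit_mul_pow_irreducible hr0 hirr
  rw [Submonoid.mk_smul, mul_smul] at hra
  have h2 : ((p : W) ^ m) • a = 0 := (IsUnit.smul_eq_zero u.isUnit).mp hra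
  clear hra hr hr0 ha
  rw [Submodule.mem_bot]
  induction m generalizing a with
  | zero => simpa using h2
  | succ m ih => exact ih (hreg _ (by rw [← mul_smul, ← pow_succ']; exact h2))

end Groth.Agent.S19612
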