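import Groth.Statements.S19614
import Groth.Agent.NilPushLib.Counit
-- import your own Groth.Agent.* helpers here

set_option autoImplicit false
universe u
open CategoryTheory AlgebraicGeometry TopologicalSpace
open CartMod

namespace Groth.Agent.S19614

/-- Let u : T → U be an affine morphism of schemes and i : T → T♮ a nilpotent closed immersion (its
ideal has a vanishing power), so that |T♮| = |T|; let g : |T♮| → |U| be the continuous map
underlying u, and v : (T♮, O_{T♮}) → (U, g_*O_{T♮}) the induced morphism of ringed spaces (identity
on structure rings), with direct image v_* (sections over g⁻¹ of an open) and inverse image v^* its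
left adjoint. Then for every quasi-coherent O_{T♮}-module M, the g_*O_{T♮}-module v_*M on U is
quasi-coherent (locally on U a cokernel of a map of free modules) and the counit of the adjunction
v^*v_*M → M is an isomorphism. -/
theorem result
    {T Tc U : Scheme.{u}} (i : T ⟶ Tc) [IsClosedImmersion i]
    (hnil : ∃ n : ℕ, ∀ V : Tc.affineOpens, i.ker.ideal V ^ n = ⊥)
    (u : T ⟶ U) [IsAffineHom u] (g : Tc.carrier ⟶ U.carrier) (hg : i.base ≫ g = u.base)
    (M : Tc.Modules) [M.IsQuasicoherent] :
    ((SheafOfModules.pushforward (F := Opens.map g) (R := Tc.ringCatSheaf)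
        (𝟙 (((Opens.map g).sheafPushforwardContinuous RingCat.{u} (Opens.grothendieckTopology U)
        (Opens.grothendieckTopology Tc)).obj Tc.ringCatSheaf))).obj M).IsQuasicoherent ∧
      IsIso ((SheafOfModules.pullbackPushforwardAdjunction (F := Opens.map g) (R := Tc.ringCatSheaf)
        (𝟙 (((Opens.map g).sheafPushforwardContinuous RingCat.{u} (Opens.grothendieckTopology U)
        (Opens.grothendieckTopology Tc)).obj Tc.ringCatSheaf))).counit.app M) := by
  exact ⟨NilPushLib.isQuasicoherent_push i hnil u g hg M, NilPushLib.isIso_counit i hnil u g hg M⟩

end Groth.Agent.S19614
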