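import Groth.Statements.S19616
import Mathlib
set_option maxHeartbeats 1600000
set_option synthInstance.maxHeartbeats 200000
set_option backward.isDefEq.respectTransparency false
-- import your own Groth.Agent.* helpers here

set_option autoImplicit false
universe u
open CartMod

namespace Groth.Agent.S19616

/-- Let p be a prime, A a commutative ring which is complete and separated for the p-adic topology and
has no p-torsion, and a_1, …, a_n elements of A (so that (p, a_1, …, a_n) is an open ideal
containing p). Then there is a commutative A-algebra D, complete and separated for the p-adic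
topology and without p-torsion, in which each a_i is divisible by p, with the following universal
property: for every A-algebra B which is p-adically complete and separated, has no p-torsion, and in
which each a_i is divisible by p, there is exactly one A-algebra homomorphism D → B; moreover this
homomorphism is surjective whenever A → B is. (D is the coordinate ring of the dilatation of Spf A
with respect to p along the closed subscheme defined by (p, a_1, …, a_n). The published statement is
for flat p-adic formal schemes locally of finite type over the Witt vectors of a perfect field; this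
row is its affine, ring-level case without a finiteness hypothesis.) -/
theorem result (p : ℕ) [Fact p.Prime]
    (A : Type u) [CommRing A] [IsAdicComplete (Ideal.span {(p : A)}) A]
    (hA : IsSMulRegular A (p : A)) {n : ℕ} (a : Fin n → A) :
    ∃ (D : Type u) (_ : CommRing D) (_ : Algebra A D),
      IsAdicComplete (Ideal.span {(p : D)}) D ∧ IsSMulRegular D (p : D) ∧
      (∀ i, algebraMap A D (a i) ∈ Ideal.span {(p : D)}) ∧
      ∀ (B : Type u) [CommRing B] [Algebra A B] [IsAdicComplete (Ideal.span {(p : B)}) B],
        IsSMulRegular B (p : B) → (∀ i, algebraMap A B (a i) ∈ Ideal.span {(p : B)}) →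
          Nonempty (D →ₐ[A] B) ∧ Subsingleton (D →ₐ[A] B) ∧
            (Function.Surjective (algebraMap A B) → ∀ f : D →ₐ[A] B, Function.Surjective f) := by
  classical
  let T := Localization.Away (p : A)
  have hpu : IsUnit (algebraMap A T (p : A)) := IsLocalization.Away.algebraMap_isUnit (p : A)
  let q : Fin n → T := fun i => algebraMap A T (a i) * IsLocalization.Away.invSelf (p : A)
  have hq : ∀ i, algebraMap A T (p : A) * q i = algebraMap A T (a i) := fun i => by
    simp only [q]
    rw [mul_left_comm, IsLocalization.Away.mul_invSelf, mul_one]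
  let C : Subalgebra A T := Algebra.adjoin A (Set.range q)
  let qC : Fin n → C := fun i => ⟨q i, Algebra.subset_adjoin ⟨i, rfl⟩⟩
  have hqC : ∀ i, (p : C) * qC i = algebraMap A C (a i) := fun i => Subtype.ext (by
    rw [MulMemClass.coe_mul, show ((p : C) : T) = algebraMap A T (p : A) by simp]
    exact hq i)
  let J : Ideal C := Ideal.span {(p : C)}
  have hpC : IsSMulRegular C (p : C) := fun x y h => Subtype.ext (hpu.mul_left_cancel (by
    have h1 := congrArg Subtype.val h
    simpa using h1))
  let D := AdicCompletion J C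
  have hJD : Ideal.span {(p : D)} = J.map (algebraMap C D) := by
    rw [Ideal.map_span, Set.image_singleton, map_natCast]
  have hker : ∀ (m : ℕ) (y : D), AdicCompletion.evalₐ J m y = 0 → y ∈ (Ideal.span {(p : D)}) ^ m := by
    intro m y hy
    have h0 : AdicCompletion.eval J C m y = 0 := by
      unfold AdicCompletion.evalₐ at hy
      exact (Ideal.quotientEquivAlgOfEq C (show (J ^ m • ⊤ : Ideal C) = J ^ m by simp)).injective (hy.trans (map_zero _).symm)
    have h1 : y ∈ (J ^ m • ⊤ : Submodule C D) := by
      rw [AdicCompletion.pow_smul_top_eq_ker_eval (Submodule.fg_span_singleton _)]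
      exact h0
    have h2 : y ∈ (J ^ m).map (algebraMap C D) := by
      rw [← Submodule.restrictScalars_mem C, ← Ideal.smul_top_eq_map]
      exact h1
    rwa [Ideal.map_pow, ← hJD] at h2
  have heval : ∀ (m : ℕ) (c : C), AdicCompletion.evalₐ J m (algebraMap C D c) = Ideal.Quotient.mk _ c := fun m c => by
    rw [AlgHom.commutes]
    rfl
  refine ⟨D, inferInstance, inferInstance, ?_, ?_, ?_, ?_⟩
  · rw [hJD]
    exact AdicCompletion.isAdicComplete_self J (Submodule.fg_span_singleton _)
  · intro x y hxy
    rw [← sub_eq_zero] at hxy ⊢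
    have hxy' : (p : D) * (x - y) = 0 := by simpa [smul_eq_mul, mul_sub] using hxy
    clear hxy
    generalize x - y = z at hxy' ⊢
    refine AdicCompletion.ext_evalₐ fun m => ?_
    obtain ⟨c, rfl⟩ := AdicCompletion.mk_surjective J C z
    rw [map_zero, AdicCompletion.evalₐ_mk]
    have h1 := congrArg (AdicCompletion.evalₐ J (m + 1)) hxy'
    rw [map_zero, map_mul, map_natCast, AdicCompletion.evalₐ_mk, ← map_natCast (Ideal.Quotient.mk (J ^ (m + 1))),
      ← map_mul, Ideal.Quotient.eq_zero_iff_mem, Ideal.span_singleton_pow, Ideal.mem_span_singleton] at h1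
    obtain ⟨e, he⟩ := h1
    have h2 : c.val (m + 1) ∈ J ^ m := by
      rw [Ideal.span_singleton_pow, Ideal.mem_span_singleton]
      exact ⟨e, hpC (by simpa [smul_eq_mul, pow_succ', mul_assoc] using he)⟩
    have h3 : c.val m ≡ c.val (m + 1) [SMOD (J ^ m • ⊤ : Submodule C C)] := c.property (Nat.le_succ m)
    rw [SModEq.sub_mem, smul_eq_mul, Ideal.mul_top] at h3
    rw [Ideal.Quotient.eq_zero_iff_mem]
    simpa using (J ^ m).add_mem h3 h2
  · intro i
    refine Ideal.mem_span_singleton.2 ⟨algebraMap C D (qC i), ?_⟩
    rw [IsScalarTower.algebraMap_apply A C D, ← hqC, map_mul, map_natCast]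
  intro B _ _ _ hpB haB
  let I : Ideal B := Ideal.span {(p : B)}
  choose b hb using fun i => Ideal.mem_span_singleton.1 (haB i)
  let TB := Localization.Away (p : B)
  have hBinj : Function.Injective (algebraMap B TB) :=
    IsLocalization.injective TB (M := Submonoid.powers (p : B)) (fun x ⟨m, hm⟩ => by
      rw [← hm, mem_nonZeroDivisors_iff_right]
      exact fun y hy => (hpB.pow m) (by simpa [smul_eq_mul, mul_comm] using hy))
  have hTB : IsUnit ((Algebra.ofId A TB) (p : A)) := by
    rw [map_natCast, ← map_natCast (algebraMap B TB)]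
    exact IsLocalization.Away.algebraMap_isUnit _
  let g : T →ₐ[A] TB := IsLocalization.liftAlgHom (M := Submonoid.powers (p : A)) (f := Algebra.ofId A TB) (by
    rintro ⟨_, m, rfl⟩
    rw [map_pow]; exact hTB.pow m)
  have hgC : ∀ c : C, g c.1 ∈ (IsScalarTower.toAlgHom A B TB).range := by
    rintro ⟨c, hc⟩
    refine (Algebra.adjoin_le_iff (S := Subalgebra.comap g (IsScalarTower.toAlgHom A B TB).range)).2 ?_ hc
    rintro _ ⟨i, rfl⟩
    refine ⟨b i, hTB.mul_left_cancel ?_⟩
    have h1 := congrArg g (hq i)
    rw [map_mul, AlgHom.commutes, AlgHom.commutes] at h1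
    refine Eq.trans ?_ h1.symm
    show algebraMap A TB (p : A) * algebraMap B TB (b i) = algebraMap A TB (a i)
    rw [IsScalarTower.algebraMap_apply A B TB (a i), hb i, map_mul, map_natCast, map_natCast]
  let e := AlgEquiv.ofInjective (IsScalarTower.toAlgHom A B TB) hBinj
  let φ0 : C →ₐ[A] B := e.symm.toAlgHom.comp ((g.comp C.val).codRestrict _ hgC)
  have hJI : ∀ m, J ^ m ≤ (I ^ m).comap φ0 := fun m => Ideal.map_le_iff_le_comap.1 (by
    rw [Ideal.map_pow, Ideal.map_span, Set.image_singleton, map_natCast])
  let f : ∀ m, D →ₐ[A] B ⧸ I ^ m := fun m =>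
    (Ideal.quotientMapₐ (I ^ m) φ0 (hJI m)).comp ((AdicCompletion.evalₐ J m).restrictScalars A)
  haveI : IsAdicComplete I B := ‹IsAdicComplete (Ideal.span {(p : B)}) B›
  have hf : ∀ {k m : ℕ} (hle : k ≤ m),
      (Ideal.Quotient.factorₐ A (Ideal.pow_le_pow_right hle)).comp (f m) = f k := by
    intro k m hle
    refine AlgHom.ext fun z => ?_
    obtain ⟨c, rfl⟩ := AdicCompletion.mk_surjective J C z
    simp only [f, AlgHom.comp_apply, AlgHom.restrictScalars_apply, AdicCompletion.evalₐ_mk]
    show Ideal.Quotient.mk (I ^ k) (φ0 (c.val m)) = Ideal.Quotient.mk (I ^ k) (φ0 (c.val k))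
    rw [Ideal.Quotient.eq, ← map_sub]
    refine hJI k ?_
    have h3 : c.val k ≡ c.val m [SMOD (J ^ k • ⊤ : Submodule C C)] := c.property hle
    rw [SModEq.sub_mem, smul_eq_mul, Ideal.mul_top] at h3
    have := (J ^ k).neg_mem h3
    rwa [neg_sub] at this
  refine ⟨⟨IsAdicComplete.liftAlgHom I f hf⟩, ⟨fun ψ ψ' => ?_⟩, fun hs ψ y => ?_⟩
  · have hC : ∀ c : C, ψ (algebraMap C D c) = ψ' (algebraMap C D c) := by
      rintro ⟨c, hc⟩
      induction hc using Algebra.adjoin_induction with
      | mem x hx =>
        obtain ⟨i, rfl⟩ := hx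
        refine hpB ?_
        have key : ∀ χ : D →ₐ[A] B, (p : B) * χ (algebraMap C D (qC i)) = algebraMap A B (a i) := fun χ => by
          have h1 := congrArg (fun c => χ (algebraMap C D c)) (hqC i)
          simp only [map_mul, map_natCast, ← IsScalarTower.algebraMap_apply, AlgHom.commutes] at h1
          exact h1
        exact (key ψ).trans (key ψ').symm
      | algebraMap r =>
        rw [show (⟨algebraMap A T r, _⟩ : C) = algebraMap A C r from rfl, ← IsScalarTower.algebraMap_apply, ψ.commutes, ψ'.commutes]
      | add x y hx hy h1 h2 =>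
        rw [show (⟨x + y, _⟩ : C) = ⟨x, hx⟩ + ⟨y, hy⟩ from rfl, map_add, map_add, map_add, h1, h2]
      | mul x y hx hy h1 h2 =>
        rw [show (⟨x * y, _⟩ : C) = ⟨x, hx⟩ * ⟨y, hy⟩ from rfl, map_mul, map_mul, map_mul, h1, h2]
    refine IsAdicComplete.algHom_ext I fun m => AlgHom.ext fun z => ?_
    obtain ⟨c, hc⟩ := Ideal.Quotient.mk_surjective (AdicCompletion.evalₐ J m z)
    have hz : z - algebraMap C D c ∈ (Ideal.span {(p : D)}) ^ m := hker m _ (by rw [map_sub, heval, hc, sub_self])
    have hmap : ∀ χ : D →ₐ[A] B, χ (z - algebraMap C D c) ∈ I ^ m := fun χ => by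
      have := Ideal.mem_map_of_mem χ hz
      rwa [Ideal.map_pow, Ideal.map_span, Set.image_singleton, map_natCast] at this
    show Ideal.Quotient.mk (I ^ m) (ψ z) = Ideal.Quotient.mk (I ^ m) (ψ' z)
    rw [Ideal.Quotient.eq]
    have := (I ^ m).sub_mem (hmap ψ) (hmap ψ')
    simpa [map_sub, hC c] using this
  · obtain ⟨r, rfl⟩ := hs y
    exact ⟨algebraMap A D r, ψ.commutes r⟩

end Groth.Agent.S19616
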