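import Groth.Statements.S19617
import Groth.Agent.HilbObsLib.Hilb
import Groth.Agent.CIProjLib.HypCoh
import Groth.Agent.ProjSerreLib.Twists
import Groth.Agent.S12483
import Groth.Agent.FundLocIsoLib.SerreDual

set_option backward.isDefEq.respectTransparency false
set_option backward.isDefEq.respectTransparency.types false

set_option autoImplicit false
set_option linter.style.haveILetI false
universe u
open CategoryTheory CategoryTheory.Limits AlgebraicGeometry
open ArtFun

namespace Groth.Agent.S19617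

/-- Let k be a field, n ≥ 1, d ≥ 1, and Z₀ = V(F) ⊂ Pⁿ_k the hypersurface of a nonzero form F of degree
d, assumed smooth over k. Then the embedded deformations of Z₀ are unobstructed: for every
surjection A' → A of local Artinian k-algebras with residue field k whose kernel is killed by the
maximal ideal of A', every element of the local Hilbert functor of Z₀ ⊂ Pⁿ_k at A (a closed
subscheme of Pⁿ_k ×_k Spec A, flat over Spec A, restricting to Z₀ over the closed point) is the
restriction of an element at A'. -/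
theorem result (k : Type u) [Field k] (n d : ℕ)
    (hn : 1 ≤ n) (hd : 1 ≤ d) (F : LefPen.Form n k d) (hF : F ≠ 0)
    [Smooth ((LefPen.hypIdeal F).subschemeι ≫ CohB1.ProjSpace.toSpec n k)]
    ⦃A' A : ArtFun.Art k k⦄ (p : A' ⟶ A) (hp : ArtFun.Art.IsSemismallExt p) :
    Function.Surjective
      ((ArtFun.localHilb (CohB1.ProjSpace n k) (CohB1.ProjSpace.toSpec n k) (LefPen.hypIdeal F)).map p) := by
  classical
  let P := CohB1.ProjSpace n k
  let I := LefPen.hypIdeal F
  haveI := InvExt.isQCoh_of_isInvertible (HypSurfLib.isInvertible_twist (r := n) (k := k) (-(d : ℤ)))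
  obtain ⟨w, hS⟩ := HypSurfLib.exists_seq F hF
  let e : Twist.twistProjSpace n k (-(d : ℤ)) ≅ ClSub.idealMod I :=
    hS.fIsKernel.conePointUniqueUpToIso (limit.isLimit _)
  have hI : Nonempty (ClSub.idealMod I ≅ Twist.twistProjSpace n k (-(d : ℤ))) := ⟨e.symm⟩
  have hH : Subsingleton (Coh.HH P (CohB1.tensorMod (ClSub.quotMod I) (Twist.twistProjSpace n k (d : ℤ))) 1) := by
    rcases lt_trichotomy n 2 with h | h | h
    · exact CIProjLib.subsingleton_high I hI hn _ 1 (by omega)
    · subst h
      haveI := CIProjLib.finite_Q I (d : ℤ) 1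
      obtain ⟨-, h1, -⟩ := CIProjLib.finrank_Q I hI hn (d : ℤ)
      refine (Module.finrank_zero_iff (R := k)).1 ?_
      exact (h1 le_rfl).trans (by simp)
    · exact CIProjLib.subsingleton_mid I hI _ 1 le_rfl (by omega)
  haveI : HasExt.{u} P.Modules := inferInstance
  obtain ⟨η⟩ := HorrocksPnLib.nonempty_cancel_twist (k := k) (n := n) (neg_add_cancel (d : ℤ))
  haveI := ModTensor.hasSheafHom (O := P.sheaf) (Twist.twistProjSpace n k (-(d : ℤ)))
  haveI : DCoh.HasSheafHom (Twist.twistProjSpace n k (-(d : ℤ))) :=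
    ⟨_, ⟨(ModSite.sheafHomAdj (O := P.sheaf) (Twist.twistProjSpace n k (-(d : ℤ)))).ofNatIsoLeft
      (ModTensor.tensorSymm P.sheaf (Twist.twistProjSpace n k (-(d : ℤ))))⟩⟩
  obtain ⟨φ⟩ := ProjSerreLib.nonempty_hF_invertible η (ClSub.quotMod I)
  obtain ⟨ψ⟩ := ProjSerreLib.nonempty_sheafHom_iso (Twist.twistProjSpace n k (-(d : ℤ))) (ClSub.quotMod I)
  obtain ⟨ε⟩ := S12483.result P (Twist.twistProjSpace n k (-(d : ℤ))) (ClSub.quotMod I)
    (CurveLib.isFinLocFree_of_isInvertible (HypSurfLib.isInvertible_twist _)) 1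
  have χ : Function.Injective fun x => Sheaf.H.map ((SheafOfModules.toSheaf P.ringCatSheaf).map (ψ.symm ≪≫ φ).hom) 1 x :=
    Function.LeftInverse.injective (g := fun x => Sheaf.H.map ((SheafOfModules.toSheaf P.ringCatSheaf).map (ψ.symm ≪≫ φ).inv) 1 x) fun x => by
      show Sheaf.H.map ((SheafOfModules.toSheaf P.ringCatSheaf).map (ψ.symm ≪≫ φ).inv) 1 (Sheaf.H.map ((SheafOfModules.toSheaf P.ringCatSheaf).map (ψ.symm ≪≫ φ).hom) 1 x) = x
      rw [← Sheaf.H.map_comp_apply, ← Functor.map_comp, Iso.hom_inv_id, CategoryTheory.Functor.map_id,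
        Sheaf.H.map_id_apply]
  haveI : Subsingleton (Coh.HH P ((DCoh.sheafHom (Twist.twistProjSpace n k (-(d : ℤ)))).obj (ClSub.quotMod I)) 1) :=
    haveI := hH; χ.subsingleton
  haveI := ε.toEquiv.subsingleton
  let τ := (((Abelian.extFunctor.{u} 1).mapIso e.op).app (ClSub.quotMod I)).addCommGroupIsoToAddEquiv
  have hE : Subsingleton (Abelian.Ext.{u} (ClSub.idealMod I) (ClSub.quotMod I) 1) :=
    @Equiv.subsingleton _ _ τ.toEquiv (ε.toEquiv.subsingleton)
  exact HilbObsLib.localHilb_smooth (CohB1.ProjSpace.toSpec n k) I hE p hp.1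

end Groth.Agent.S19617
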