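import Groth.Statements.S19618
import Mathlib
-- import your own Groth.Agent.* helpers here

set_option autoImplicit false
universe u
open CategoryTheory CategoryTheory.Limits AlgebraicGeometry Opposite TopologicalSpace
open BlowUp

namespace Groth.Agent.S19618

/-- Let X be a locally Noetherian scheme, Y an effective Cartier divisor on X (a quasi-coherent ideal
sheaf which, near every point, is generated on some affine open by one nonzerodivisor; Y is its
support) and Z a closed integral subscheme (a closed immersion i from an integral scheme with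
generic point ξ). If Y and Z intersect properly — every point ζ of Y ∩ Z which is maximal under
generization inside Y ∩ Z satisfies dim O_{X,ζ} = codim(Y,X) + codim(Z,X), where codim(Y,X) is the
infimum over y ∈ Y of dim O_{X,y} and codim(Z,X) = dim O_{X,i(ξ)} — then Z is not contained in Y. -/
theorem result {X Z : Scheme.{u}}
    [IsLocallyNoetherian X] (𝓘 : X.IdealSheafData) (hY : BlowUp.IsEffCartierIdeal 𝓘)
    (i : Z ⟶ X) [IsClosedImmersion i] [IsIntegral Z]
    (hprop : ∀ ζ : ↥X, ζ ∈ (𝓘.support : Set ↥X) ∩ Set.range i.base →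
        (∀ ζ' : ↥X, ζ' ∈ (𝓘.support : Set ↥X) ∩ Set.range i.base → ζ' ⤳ ζ → ζ' = ζ) →
        ringKrullDim ↑(X.presheaf.stalk ζ) =
          (⨅ y : (𝓘.support : Set ↥X), ringKrullDim ↑(X.presheaf.stalk y.1)) +
            ringKrullDim ↑(X.presheaf.stalk (i (genericPoint ↥Z)))) :
    ¬ Set.range i.base ⊆ (𝓘.support : Set ↥X) := by
  intro hsub
  have hone : ∀ y ∈ (𝓘.support : Set ↥X), (1 : WithBot ℕ∞) ≤ ringKrullDim ↑(X.presheaf.stalk y) := by
    intro y hy
    obtain ⟨⟨V, hV⟩, hyV, g, hg, hI⟩ := hY y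
    have hu : ¬ IsUnit ((X.presheaf.germ V y hyV).hom g) := fun h => by
      have h1 := (Scheme.IdealSheafData.mem_support_iff_of_mem (U := ⟨V, hV⟩) hyV).mp hy
      rw [hI] at h1
      exact ((Scheme.mem_zeroLocus_iff _ _ _).mp h1) g (Ideal.mem_span_singleton_self g) ((Scheme.mem_basicOpen _ _ _ hyV).mpr h)
    have hn : (X.presheaf.germ V y hyV).hom g ∈ nonZeroDivisors (X.presheaf.stalk y) := by
      letI : Algebra Γ(X, V) (X.presheaf.stalk y) := TopCat.Presheaf.algebra_section_stalk X.presheaf ⟨_, hyV⟩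
      haveI := hV.isLocalization_stalk ⟨_, hyV⟩
      exact IsLocalization.map_nonZeroDivisors_le (hV.primeIdealOf ⟨_, hyV⟩).asIdeal.primeCompl _ ⟨g, hg, rfl⟩
    by_contra hlt
    haveI : Ring.KrullDimLE 0 (X.presheaf.stalk y) := by
      rw [Ring.krullDimLE_iff]
      rcases h : ringKrullDim ↑(X.presheaf.stalk y) with _ | n
      · exact bot_le
      · rw [h] at hlt
        rcases eq_or_ne n 0 with rfl | hn0
        · exact le_rfl
        · exact absurd (WithBot.coe_le_coe.mpr (ENat.one_le_iff_ne_zero.mpr hn0)) hlt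
    haveI := isArtinianRing_iff_krullDimLE_zero.mpr ‹Ring.KrullDimLE 0 (X.presheaf.stalk y)›
    exact hu (IsArtinianRing.isUnit_iff_mem_nonZeroDivisors.mpr hn)
  let ζ := i.base (genericPoint ↥Z)
  have h := hprop ζ ⟨hsub ⟨_, rfl⟩, ⟨_, rfl⟩⟩ (fun ζ' ⟨_, z, hz⟩ hs => by
    subst hz
    exact (hs.antisymm ((genericPoint_specializes z).map i.base.hom.continuous)).eq)
  have hinf : (1 : WithBot ℕ∞) ≤ ⨅ y : (𝓘.support : Set ↥X), ringKrullDim ↑(X.presheaf.stalk y.1) :=
    le_iInf fun y => hone y.1 y.2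
  have hb : ringKrullDim ↑(X.presheaf.stalk ζ) ≠ ⊥ := ringKrullDim_ne_bot
  have ht : ringKrullDim ↑(X.presheaf.stalk ζ) ≠ ⊤ := ringKrullDim_ne_top
  obtain ⟨a, ha⟩ := WithBot.ne_bot_iff_exists.mp hb
  obtain ⟨n, rfl⟩ := ENat.ne_top_iff_exists.mp (fun e : a = ⊤ => ht (by rw [← ha, e]; rfl))
  have h2 := add_le_add_right hinf (ringKrullDim ↑(X.presheaf.stalk ζ))
  have h3 : (1 : WithBot ℕ∞) + ringKrullDim ↑(X.presheaf.stalk ζ) ≤ ringKrullDim ↑(X.presheaf.stalk ζ) :=
    le_trans (add_le_add hinf le_rfl) h.ge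
  rw [← ha] at h3
  norm_cast at h3
  omega

end Groth.Agent.S19618
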