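import Mathlib
import Mathlib
import Groth.Agent.IndCofLib.Div
import Groth.Statements.S19621

set_option autoImplicit false
universe v
open IndCof

namespace Groth.Agent.S19621

open CategoryTheory CategoryTheory.Limits in
/-- Let C be a small abelian category all of whose objects are Artinian and killed by some positive
integer, and A an ind-object of C of cofinite type (A[n] is isomorphic to an object of C for every n
≥ 1). Then the following are equivalent: (i) the inverse system of copies of A indexed by the
positive integers ordered by divisibility, with transition map from the m-th to the n-th copy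
multiplication by m/n, is Mittag-Leffler (for every n the images of these maps in the n-th copy are
eventually constant): A is divisibly ML; (ii) A has a divisible sub-object B' (multiplication by
every positive integer is an epimorphism of B') such that A/B' is isomorphic to an object of C;
(iii) multiplication by p on A is an epimorphism for all but finitely many primes p. (The published
statement phrases (ii) as: A modulo its divisible part lies in C, and (iii) as: the p-primary part
of A is divisible for almost all p; the divisible part is the largest divisible sub-object, and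
multiplication by p on A is an epimorphism exactly when it is one on the p-primary part, the other
primary parts being uniquely p-divisible.) -/
theorem result {C : Type v} [SmallCategory C] [Abelian C]
    (hart : ∀ X : C, IsArtinianObject X)
    (htor : ∀ X : C, ∃ n : ℕ, 0 < n ∧ n • 𝟙 X = 0)
    (A : Ind C) (hA : ∀ n : ℕ, 0 < n → (Ind.yoneda (C := C)).essImage (kernel (n • 𝟙 A))) :
    ((∀ n : ℕ, 0 < n → ∃ m : ℕ, 0 < m ∧ n ∣ m ∧ ∀ m' : ℕ, 0 < m' → m ∣ m' →
        imageSubobject ((m' / n) • 𝟙 A) = imageSubobject ((m / n) • 𝟙 A)) ↔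
      ∃ B' : Subobject A, (∀ k : ℕ, 0 < k → Epi (k • 𝟙 (B' : Ind C))) ∧
        (Ind.yoneda (C := C)).essImage (cokernel B'.arrow)) ∧
    ((∃ B' : Subobject A, (∀ k : ℕ, 0 < k → Epi (k • 𝟙 (B' : Ind C))) ∧
        (Ind.yoneda (C := C)).essImage (cokernel B'.arrow)) ↔
      {p : ℕ | p.Prime ∧ ¬ Epi (p • 𝟙 A)}.Finite) := by
  have hstab : (∃ M : ℕ, 0 < M ∧ Groth.Agent.IndCofLib.Stable M A) →
      ∃ B' : Subobject A, (∀ k : ℕ, 0 < k → Epi (k • 𝟙 (B' : Ind C))) ∧
        (Ind.yoneda (C := C)).essImage (cokernel B'.arrow) := fun ⟨M, hM, h⟩ =>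
    ⟨_, h.divisible, Groth.Agent.IndCofLib.isObj_cokernel_image hart htor hA M hM⟩
  have hquot : ∀ B' : Subobject A, (Ind.yoneda (C := C)).essImage (cokernel B'.arrow) →
      ∃ M : ℕ, 0 < M ∧ M • 𝟙 (cokernel B'.arrow) = 0 := by
    rintro B' ⟨X, ⟨eX⟩⟩
    obtain ⟨M, hM, hMx⟩ := Groth.Agent.IndCofLib.exists_nsmul_eq_zero htor X eX.hom
    refine ⟨M, hM, ?_⟩
    rw [← cancel_epi eX.hom, Preadditive.comp_nsmul, Category.comp_id, hMx, comp_zero]
  refine ⟨(Groth.Agent.IndCofLib.mittagLeffler_iff_stable A).trans
    ⟨hstab, fun ⟨B', hB, hq⟩ => (Groth.Agent.IndCofLib.stable_iff_exists A).2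
      ⟨B', hB, hquot B' hq⟩⟩, ?_, fun hfin => hstab
        (Groth.Agent.IndCofLib.exists_stable_of_finite hart htor hA hfin)⟩
  rintro ⟨B', hB, hq⟩
  obtain ⟨M, hM, hMq⟩ := hquot B' hq
  refine (Set.finite_Iic M).subset ?_
  rintro p ⟨hp, hne⟩
  by_contra hpM
  refine hne (Groth.Agent.IndCofLib.epi_of_coprime
    (Groth.Agent.IndCofLib.le_arrow_of_quot B' hMq)
    (Groth.Agent.IndCofLib.divisible_le B' hB p hp.pos)
    (Nat.Coprime.symm ((Nat.Prime.coprime_iff_not_dvd hp).2 ?_)))
  exact fun hd => hpM (Nat.le_of_dvd hM hd)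

end Groth.Agent.S19621
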