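import Groth.Statements.S19624
import Groth.Agent.OrdDet.Main

set_option autoImplicit false
universe u v
open IntTh

namespace Groth.Agent.S19624

open CategoryTheory CategoryTheory.Limits AlgebraicGeometry

theorem coker_eq_addVal {B : Type u} [CommRing B] [IsDomain B] [IsDiscreteValuationRing B] {r : ℕ}
    (X : Matrix (Fin r) (Fin r) B) :
    Groth.Agent.OrdDet.cokerLen X = IsDiscreteValuationRing.addVal B X.det := by
  by_cases h : X.det = 0
  · rw [Groth.Agent.OrdDet.cokerLen_eq_top X ⊥ (by simp [h]) ?_, h, IsDiscreteValuationRing.addVal_zero]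
    exact fun hm => IsDiscreteValuationRing.not_a_field B (IsLocalRing.eq_maximalIdeal hm).symm
  · rw [Groth.Agent.OrdDet.cokerLen_eq_ord X (mem_nonZeroDivisors_of_ne_zero h), Ring.ord_eq_addVal]

/-- Let B be a discrete valuation ring with its normalised additive valuation v (so v(0) = ∞) and ω a
ring automorphism of B. For each i in a finite index set let M_i and N_i be free B-modules with
chosen bases indexed by one and the same finite type, and χ_i : M_i → N_i an additive map which is
ω-semilinear, χ_i(b·x) = ω(b)·χ_i(x); write A_i for the matrix of χ_i in the chosen bases. Then the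
length over B of the cokernel of the direct sum χ = ⊕_i χ_i : ⊕_i M_i → ⊕_i N_i (the quotient of ⊕_i
N_i by the submodule generated by the image of χ) equals v(∏_i det A_i); in particular both sides
are infinite exactly when some det A_i is zero. -/
theorem result {B : Type u} [CommRing B] [IsDomain B]
    [IsDiscreteValuationRing B] (ω : B ≃+* B) {n : ℕ} (r : Fin n → ℕ)
    (M N : Fin n → Type v) [∀ i, AddCommGroup (M i)] [∀ i, Module B (M i)]
    [∀ i, AddCommGroup (N i)] [∀ i, Module B (N i)]
    (bM : ∀ i, Module.Basis (Fin (r i)) B (M i)) (bN : ∀ i, Module.Basis (Fin (r i)) B (N i))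
    (χ : ∀ i, M i →+ N i) (hχ : ∀ i (b : B) (x : M i), χ i (b • x) = ω b • χ i x) :
    Module.length B ((∀ i, N i) ⧸ Submodule.span B (Set.range (fun (x : ∀ i, M i) (i : Fin n) => χ i (x i)))) =
      IsDiscreteValuationRing.addVal B (∏ i, Matrix.det
        (Matrix.of fun (a c : Fin (r i)) => (bN i).repr (χ i (bM i c)) a)) := by
  classical
  let X : ∀ i, Matrix (Fin (r i)) (Fin (r i)) B := fun i =>
    Matrix.of fun a c => (bN i).repr (χ i (bM i c)) a
  let P : ∀ i, Submodule B (Fin (r i) → B) := fun i => LinearMap.range (X i).mulVecLin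
  let Pi' : ∀ i, Submodule B (N i) := fun i => (P i).comap (bN i).equivFun.toLinearMap
  have hχr : ∀ i, ∀ x : M i, (bN i).equivFun (χ i x) = Matrix.mulVec (X i) (fun c => ω ((bM i).repr x c)) := by
    intro i x
    conv_lhs => rw [← (bM i).sum_repr x]
    rw [map_sum, map_sum]
    funext a
    simp only [Finset.sum_apply, hχ, map_smul, Pi.smul_apply, smul_eq_mul, Module.Basis.equivFun_apply,
      Matrix.mulVec, dotProduct, X, Matrix.of_apply, mul_comm]
  have hmem : ∀ i (y : N i), y ∈ Pi' i ↔ ∃ x, χ i x = y := by
    intro i y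
    constructor
    · rintro ⟨w, hw⟩
      refine ⟨(bM i).equivFun.symm fun c => ω.symm (w c), (bN i).equivFun.injective ?_⟩
      rw [hχr]
      refine Eq.trans ?_ hw
      simp only [Matrix.mulVecLin_apply]
      congr 1
      funext c
      rw [← Module.Basis.equivFun_apply, LinearEquiv.apply_symm_apply, RingEquiv.apply_symm_apply]
    · rintro ⟨x, rfl⟩
      exact ⟨_, (hχr i x).symm⟩
  have hspan : Submodule.span B (Set.range (fun (x : ∀ i, M i) (i : Fin n) => χ i (x i))) =
      Submodule.pi Set.univ Pi' := by
    refine le_antisymm (Submodule.span_le.mpr ?_) fun y hy => ?_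
    · rintro _ ⟨x, rfl⟩ i -
      exact (hmem i _).mpr ⟨x i, rfl⟩
    · choose x hx using fun i => (hmem i (y i)).mp (hy i trivial)
      exact Submodule.subset_span ⟨x, funext hx⟩
  rw [hspan, (Submodule.quotientPi Pi').length_eq, Module.length_pi_of_fintype]
  have h1 : ∀ i, Module.length B (N i ⧸ Pi' i) = IsDiscreteValuationRing.addVal B (X i).det := by
    intro i
    rw [← coker_eq_addVal (X i), Groth.Agent.OrdDet.cokerLen]
    exact (Submodule.Quotient.equiv (Pi' i) (P i) (bN i).equivFun
      (by rw [Submodule.map_comap_eq_of_surjective (bN i).equivFun.surjective])).length_eq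
  simp only [h1]
  refine Finset.induction_on (Finset.univ : Finset (Fin n)) ?_ fun i s hi ih => ?_
  · simp
  · rw [Finset.sum_insert hi, Finset.prod_insert hi, IsDiscreteValuationRing.addVal_mul, ih]

end Groth.Agent.S19624
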