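import Groth.Statements.S19625
import Groth.Agent.TwistShriek.SurfCurve
import Groth.Agent.FundLocIsoLib.SerreDual
import Groth.Agent.S8914
-- import your own Groth.Agent.* helpers here

set_option autoImplicit false
set_option backward.isDefEq.respectTransparency false
set_option maxHeartbeats 800000
set_option synthInstance.maxHeartbeats 200000
universe u
open CategoryTheory CategoryTheory.Limits AlgebraicGeometry
open Surf
open Groth.Agent Groth.Agent.TwistShriek

namespace Groth.Agent.S19625

/-- Let k be a field and S an integral surface (dimension two) which is smooth over k and projective (a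
closed immersion into some P^n_k over k). Let i : C → S be the closed immersion of an integral curve
(dimension one) all of whose local rings are regular, with ideal sheaf I ⊆ O_S, and let N =
Hom(i^*I, O_C) be the normal sheaf of C in S, the dual of the conormal sheaf i^*I (the sheaf Hom,
assumed to exist as the right adjoint of tensoring with i^*I). Then the self-intersection number
C·C, namely the intersection number of O_S(C) with itself computed as the alternating sum χ(O_S) −
2χ(I) + χ(I ⊗ I) with the inverse I = O_S(−C) of O_S(C) (packaged as FGA.intNum), equals the degree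
of N on C, the degree of a module M on C being χ(M) − χ(O_C). -/
theorem result (k : Type u) [Field k] (S : Scheme.{u}) [S.Over (Spec (CommRingCat.of k))]
    [IsIntegral S] (hdim : topologicalKrullDim S = 2) [Smooth (S ↘ (Spec (CommRingCat.of k)))]
    (hproj : ∃ (n : ℕ) (ι : S ⟶ CohB1.ProjSpace n k), IsClosedImmersion ι ∧ ι ≫ CohB1.ProjSpace.toSpec n k = (S ↘ (Spec (CommRingCat.of k))))
    (C : Scheme.{u}) (i : C ⟶ S) [IsClosedImmersion i] [IsIntegral C] (hC : topologicalKrullDim C = 1)
    (hCreg : ∀ c : C, IsRegularLocalRing (C.presheaf.stalk c))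
    [DCoh.HasSheafHom (Omega.conormal i)] :
    letI : C.Over (Spec (CommRingCat.of k)) := ⟨i ≫ (S ↘ (Spec (CommRingCat.of k)))⟩
    FGA.intNum k S 2 ![ClSub.idealMod i.ker, ClSub.idealMod i.ker] (Coh.structureModule S) =
      Curv2.deg k C ((DCoh.sheafHom (Omega.conormal i)).obj (Coh.structureModule C)) 1 := by
    letI : C.Over (Spec (CommRingCat.of k)) := ⟨i ≫ (S ↘ (Spec (CommRingCat.of k)))⟩
    obtain ⟨n, ι, hι, hι'⟩ := hproj
    haveI := hι
    haveI := ProjSerreLib.isProper_over ι hι'
    haveI := EulerIneqLib.isNoetherian_proper (X := S) k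
    haveI : IsLocallyNoetherian C := LocallyOfFiniteType.isLocallyNoetherian i
    have hI : PicF.IsInvertible (ClSub.idealMod i.ker) := (S8914.result _).2
      (isEffCartierIdeal_curve (S ↘ Spec (CommRingCat.of k)) hdim
        (fun x => ASp.isRegularLocalRing_stalk_of_smooth_field (S ↘ Spec (CommRingCat.of k)) x) i hC)
    obtain ⟨L, hL, ⟨e⟩⟩ := AmpleEmb.exists_isInverseOf hI
    have h := intNum_ideal_inv_eq k hdim.le i hI hL (AmpleLib.comm L (ClSub.idealMod i.ker) ≪≫ e)
    haveI : IsProper (C ↘ Spec (CommRingCat.of k)) := inferInstanceAs (IsProper (i ≫ (S ↘ Spec (CommRingCat.of k))))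
    let K := Omega.conormal i
    haveI : ModSite.HasSheafHom (O := C.sheaf) K := ModTensor.hasSheafHom (O := C.sheaf) K
    let eK : CohB1.tensorMod K ((Scheme.Modules.pullback i).obj L) ≅ Coh.structureModule C :=
      (AmpleLib.pullTensor i (ClSub.idealMod i.ker) L).symm ≪≫ (Scheme.Modules.pullback i).mapIso e ≪≫ AmpleLib.pullO i
    obtain ⟨f⟩ := FundLocIsoLib.nonempty_hF_invertible (AmpleLib.isInvertible_pullback i hI) eK (Coh.structureModule C)
    obtain ⟨g⟩ := ProjSerreLib.nonempty_sheafHom_iso K (Coh.structureModule C)
    rw [Curv2.deg, h, ← CurveLib.euler_iso (K := k) g,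
      (CurveLib.euler_iso (K := k) (f ≪≫ AmpleLib.unitL _) :
        Curv2.euler k C ((StalkHomLib.hF K).obj (Coh.structureModule C)) = _), Nat.cast_one, one_mul]

end Groth.Agent.S19625
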