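import Groth.Statements.S19629
import Mathlib

set_option autoImplicit false
universe u
open DeRham

namespace Groth.Agent.S19629

open CategoryTheory CategoryTheory.Limits AlgebraicGeometry

set_option maxHeartbeats 1000000

/-- The complementary coordinates of a stratum. -/
theorem exists_compl {d n : ℕ} (e : Fin n ↪ Fin d) (J : Finset (Fin n)) {m : ℕ} (h : J.card + m = d) :
    ∃ c : Fin m → Fin d, Function.Injective c ∧ ∀ i, (∀ j ∈ J, e j ≠ i) → ∃ l, c l = i := by
  classical
  have hc : (Finset.univ \ J.map e).card = m := by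
    rw [Finset.card_sdiff, Finset.inter_univ, Finset.card_univ, Fintype.card_fin, Finset.card_map]
    omega
  refine ⟨(Finset.univ \ J.map e).orderEmbOfFin hc, (RelEmbedding.injective _), fun i hi => ?_⟩
  have : i ∈ Set.range ((Finset.univ \ J.map e).orderEmbOfFin hc) := by
    rw [Finset.range_orderEmbOfFin]
    simp only [Finset.coe_sdiff, Finset.coe_univ, Set.mem_diff, Set.mem_univ, true_and, Finset.coe_map, Set.mem_image]
    rintro ⟨j, hj, rfl⟩
    exact hi j hj rfl
  exact this

/-- Over a quotient killing all coordinates outside `c`, top forms are multiples of the coordinate form. -/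
theorem exists_top {k : Type u} [Field k] {A : Type u} [CommRing A] [Algebra k A] {d m : ℕ} (t : Fin d → A)
    (b : Module.Basis (Fin d) A (Ω[A⁄k])) (hb : ∀ i, b i = KaehlerDifferential.D k A (t i)) (K : Ideal A)
    (c : Fin m → Fin d) (hK : ∀ i, (∀ l, c l ≠ i) → t i ∈ K) (x : ↥(⋀[A ⧸ K]^m (Ω[(A ⧸ K)⁄k]))) :
    ∃ r : A, x = DeRham.gen (KaehlerDifferential.D k (A ⧸ K)) m (Ideal.Quotient.mk K r)
      (fun l => Ideal.Quotient.mk K (t (c l))) := by
  classical
  let B := A ⧸ K
  let g : Fin m → Ω[B⁄k] := fun l => KaehlerDifferential.D k B (Ideal.Quotient.mk K (t (c l)))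
  have hspan : Submodule.span B (Set.range g) = ⊤ := by
    rw [eq_top_iff, ← KaehlerDifferential.span_range_derivation, Submodule.span_le]
    rintro _ ⟨y, rfl⟩
    obtain ⟨a, rfl⟩ := Ideal.Quotient.mk_surjective y
    have h1 : KaehlerDifferential.D k B (Ideal.Quotient.mk K a) =
        KaehlerDifferential.map k k A B (∑ i, b.repr (KaehlerDifferential.D k A a) i • b i) := by
      rw [b.sum_repr, KaehlerDifferential.map_D]
      rfl
    rw [h1, map_sum]
    refine Submodule.sum_mem _ fun i _ => ?_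
    rw [map_smul, hb, KaehlerDifferential.map_D, ← algebraMap_smul B]
    refine Submodule.smul_mem _ _ ?_
    by_cases hi : ∀ l, c l ≠ i
    · rw [show algebraMap A B (t i) = 0 from Ideal.Quotient.eq_zero_iff_mem.2 (hK i hi), map_zero]
      exact Submodule.zero_mem _
    · push Not at hi
      obtain ⟨l, rfl⟩ := hi
      exact Submodule.subset_span ⟨l, rfl⟩
  have hx : x ∈ Submodule.span B ({exteriorPower.ιMulti B m g} : Set _) := by
    have h := exteriorPower.ιMulti_span_of_span B m (Ω[B⁄k]) hspan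
    refine Submodule.span_le.2 ?_ (h.symm ▸ (Submodule.mem_top : x ∈ ⊤))
    rintro _ ⟨v, hv, rfl⟩
    choose σ hσ using fun l => hv ⟨l, rfl⟩
    obtain rfl : g ∘ σ = v := funext hσ
    by_cases hinj : Function.Injective σ
    · have hbij : Function.Bijective σ := ⟨hinj, Finite.surjective_of_injective hinj⟩
      rw [show g ∘ σ = g ∘ (Equiv.ofBijective σ hbij) from rfl, AlternatingMap.map_perm, Units.smul_def]
      exact Submodule.smul_of_tower_mem _ _ (Submodule.subset_span rfl)
    · rw [Function.Injective] at hinj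
      push Not at hinj
      obtain ⟨a, a', he, hne⟩ := hinj
      rw [AlternatingMap.map_eq_zero_of_eq _ (g ∘ σ) (congrArg g he) hne]
      exact Submodule.zero_mem _
  obtain ⟨r, rfl⟩ := Submodule.mem_span_singleton.1 hx
  obtain ⟨r, rfl⟩ := Ideal.Quotient.mk_surjective r
  exact ⟨r, rfl⟩

open exteriorPower in
/-- In the chart case reached in its proof, let k be a field of characteristic zero and A a smooth
k-algebra carrying functions t_1, …, t_d whose differentials form a basis of Ω_{A/k} (a global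
system of étale coordinates on X = Spec A), and let D_1, …, D_n be the coordinate hyperplanes
t_{e(1)} = 0, …, t_{e(n)} = 0 for an injection e, so that D = D_1 ∪ ⋯ ∪ D_n is a simple normal
crossings divisor. For I ⊆ {1, …, n} write A_I = A/(t_{e(i)} : i ∈ I) for the coordinate ring of D_I
= ⋂_{i ∈ I} D_i, and let ψ_{I,J} (I ⊆ J) be the maps of de Rham complexes induced by the surjections
A_I → A_J. Then whenever s + 1 + m = d, the Čech differential ∏_{|I| = s} Ω^m_{A_I/k} → ∏_{|J| =
s+1} Ω^m_{A_J/k}, (ω_I) ↦ (Σ_{j ∈ J} ± ψ_{J∖j,J}(ω_{J∖j}))_J with the usual alternating signs, is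
surjective; for s = 0 this is the surjectivity of Ω^{d-1}(X) → ⊕_i Ω^{d-1}(D_i). (The source states
the surjectivity for a smooth affine variety X of dimension d with a simple normal crossings divisor
and reduces to this chart case étale-locally; here A_∅ is A/0 rather than A.) -/
theorem result
    (k : Type u) [Field k] [CharZero k] (A : Type u) [CommRing A] [Algebra k A] [Algebra.Smooth k A]
    (d n : ℕ) (t : Fin d → A) (e : Fin n ↪ Fin d)
    (b : Module.Basis (Fin d) A (Ω[A⁄k])) (hb : ∀ i, b i = KaehlerDifferential.D k A (t i))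
    (ψ : ∀ (I J : Finset (Fin n)) (p : ℕ), ↥(⋀[(A ⧸ (⨆ i ∈ I, Ideal.span {t (e i)} : Ideal A))]^p (Ω[(A ⧸ (⨆ i ∈ I, Ideal.span {t (e i)} : Ideal A))⁄k])) →+ ↥(⋀[(A ⧸ (⨆ i ∈ J, Ideal.span {t (e i)} : Ideal A))]^p (Ω[(A ⧸ (⨆ i ∈ J, Ideal.span {t (e i)} : Ideal A))⁄k])))
    (hψ : ∀ (I J : Finset (Fin n)) (h : I ⊆ J),
      DeRham.IsCxMap (KaehlerDifferential.D k (A ⧸ (⨆ i ∈ I, Ideal.span {t (e i)} : Ideal A))) (KaehlerDifferential.D k (A ⧸ (⨆ i ∈ J, Ideal.span {t (e i)} : Ideal A)))
        (Ideal.Quotient.factor (biSup_mono h)) (ψ I J))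
    (s m : ℕ) (hs : s + 1 + m = d)
    (g : ∀ J : Finset (Fin n), ↥(⋀[(A ⧸ (⨆ i ∈ J, Ideal.span {t (e i)} : Ideal A))]^m (Ω[(A ⧸ (⨆ i ∈ J, Ideal.span {t (e i)} : Ideal A))⁄k]))) :
    ∃ ω : ∀ I : Finset (Fin n), ↥(⋀[(A ⧸ (⨆ i ∈ I, Ideal.span {t (e i)} : Ideal A))]^m (Ω[(A ⧸ (⨆ i ∈ I, Ideal.span {t (e i)} : Ideal A))⁄k])),
      ∀ J : Finset (Fin n), J.card = s + 1 →
        (∑ j ∈ J.attach,
          ((-1 : ℤ) ^ (J.filter (fun i => i < j.1)).card) •
            ψ (J.erase j.1) J m (ω (J.erase j.1))) = g J := by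
  classical
  let Q : Finset (Fin n) → Ideal A := fun I => ⨆ i ∈ I, Ideal.span {t (e i)}
  have hQ : ∀ (I : Finset (Fin n)), ∀ i ∈ I, t (e i) ∈ Q I := fun I i hi =>
    (le_biSup (fun i => Ideal.span ({t (e i)} : Set A)) hi) (Ideal.subset_span rfl)
  let T := {J : Finset (Fin n) // J.card = s + 1}
  have hc : ∀ J : T, ∃ c : Fin m → Fin d, Function.Injective c ∧ ∀ i, (∀ j ∈ J.1, e j ≠ i) → ∃ l, c l = i :=
    fun J => exists_compl e J.1 (by rw [J.2]; exact hs)
  choose c hcinj hc using hc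
  have hr : ∀ J : T, ∃ r : A, g J.1 = DeRham.gen (KaehlerDifferential.D k (A ⧸ Q J.1)) m (Ideal.Quotient.mk _ r)
      (fun l => Ideal.Quotient.mk _ (t (c J l))) := fun J =>
    exists_top t b hb (Q J.1) (c J) (fun i hi => by
      by_contra hn
      obtain ⟨l, hl⟩ := hc J i fun j hj he => hn (he ▸ hQ J.1 j hj)
      exact hi l hl) (g J.1)
  choose r hr using hr
  have hne : ∀ J : T, J.1.Nonempty := fun J => Finset.card_pos.1 (by rw [J.2]; omega)
  let ε : Finset (Fin n) → Fin n → ℤ := fun J j => (-1 : ℤ) ^ (J.filter (fun i => i < j)).card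
  let j₀ : T → Fin n := fun J => J.1.min' (hne J)
  refine ⟨fun I => ∑ J : T, if J.1.erase (j₀ J) = I then
    ε J.1 (j₀ J) • DeRham.gen (KaehlerDifferential.D k (A ⧸ Q I)) m (Ideal.Quotient.mk _ (r J))
      (fun l => Ideal.Quotient.mk _ (t (c J l))) else 0, fun J' hJ' => ?_⟩
  let S : T := ⟨J', hJ'⟩
  have hterm : ∀ (j : Fin n) (hj : j ∈ J') (J : T), J.1.erase (j₀ J) = J'.erase j →
      ψ (J'.erase j) J' m (DeRham.gen (KaehlerDifferential.D k (A ⧸ Q (J'.erase j))) m (Ideal.Quotient.mk _ (r J))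
        (fun l => Ideal.Quotient.mk _ (t (c J l)))) = if J = S then g J' else 0 := by
    intro j hj J hJ
    rw [hψ (J'.erase j) J' (Finset.erase_subset _ _)]
    show DeRham.gen _ m (Ideal.Quotient.mk (Q J') (r J)) (fun l => Ideal.Quotient.mk (Q J') (t (c J l))) = _
    split_ifs with h
    · subst h
      exact (hr S).symm
    · have hjJ : j ∉ J.1 := fun hjJ => h (Subtype.ext (Finset.eq_of_subset_of_card_le (fun i hi => by
        by_cases hi0 : i = j₀ J
        · by_contra hiJ'
          have h1 : j ∈ J.1.erase (j₀ J) := Finset.mem_erase.2 ⟨fun he => hiJ' (by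
            rw [hi0, ← he]; exact hj), hjJ⟩
          rw [hJ] at h1
          exact (Finset.mem_erase.1 h1).1 rfl
        · have h1 : i ∈ J.1.erase (j₀ J) := Finset.mem_erase.2 ⟨hi0, hi⟩
          rw [hJ] at h1
          exact (Finset.mem_erase.1 h1).2) (by rw [J.2]; exact hJ'.le)).symm.symm)
      obtain ⟨l, hl⟩ := hc J (e j) fun i hi he => hjJ (e.injective he ▸ hi)
      rw [DeRham.gen, AlternatingMap.map_coord_zero _ (i := l), smul_zero]
      rw [show Ideal.Quotient.mk (Q J') (t (c J l)) = 0 from Ideal.Quotient.eq_zero_iff_mem.2 (hl ▸ hQ J' j hj)]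
      exact map_zero _
  have hj0 : j₀ S ∈ J' := Finset.min'_mem J' (hne S)
  refine (Finset.sum_eq_single (⟨j₀ S, hj0⟩ : {x // x ∈ J'}) (fun j _ hj => ?_)
    (fun h => absurd (Finset.mem_attach _ _) h)).trans ?_
  · rw [map_sum]
    rw [Finset.sum_eq_zero, smul_zero]
    intro J _
    split_ifs with hJ
    · rw [map_zsmul, hterm j.1 j.2 J hJ, if_neg, smul_zero]
      rintro rfl
      exact hj (Subtype.ext ((Finset.erase_inj _ j.2).1 hJ.symm))
    · exact map_zero _
  · rw [map_sum, Finset.sum_eq_single S (fun J _ hJ => ?_) (fun h => absurd (Finset.mem_univ _) h)]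
    · rw [if_pos rfl, map_zsmul, hterm (j₀ S) hj0 S rfl, if_pos rfl, smul_smul, ← pow_add, ← two_mul, pow_mul,
        neg_one_sq, one_pow, one_smul]
    · split_ifs with h
      · rw [map_zsmul, hterm (j₀ S) hj0 J h, if_neg hJ, smul_zero]
      · exact map_zero _


end Groth.Agent.S19629
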