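import Groth.Statements.S1963
import Groth.Agent.ValEtaleLib.Main
import Groth.Agent.Unibranch.Normal

set_option autoImplicit false
universe u
open EtAlg

namespace Groth.Agent.S1963

/-- Let A be a valuation ring, B an etale A-algebra and m a prime of B lying over the maximal ideal of
A. Then the localization B_m is a valuation ring, the map A -> B_m is injective and local, and the
extension is weakly unramified: every nonzero element of B_m is a unit multiple of the image of an
element of A. -/
theorem result (A B : Type u) [CommRing A] [IsDomain A] [ValuationRing A]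
    [CommRing B] [Algebra A B] [Algebra.Etale A B] (m : Ideal B) [m.IsPrime]
    (hm : m.comap (algebraMap A B) = IsLocalRing.maximalIdeal A) :
    IsDomain (Localization.AtPrime m) ∧ (∀ _ : IsDomain (Localization.AtPrime m), ValuationRing (Localization.AtPrime m)) ∧
    Function.Injective (algebraMap A (Localization.AtPrime m)) ∧ IsLocalHom (algebraMap A (Localization.AtPrime m)) ∧
    ∀ b : Localization.AtPrime m, b ≠ 0 → ∃ (a : A) (u : (Localization.AtPrime m)ˣ),
      b = u * algebraMap A (Localization.AtPrime m) a := by
  obtain ⟨hdom, hic⟩ := Groth.Agent.Unibranch.isDomain_isIntegrallyClosed_of_etale (A := A) m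
  haveI := hdom
  haveI := hic
  let D := Localization.AtPrime m
  haveI hloc : IsLocalHom (algebraMap A D) := ⟨fun a ha => by
    by_contra h
    have h1 : algebraMap A B a ∈ m := by
      show a ∈ m.comap (algebraMap A B)
      rw [hm]; exact h
    rw [IsScalarTower.algebraMap_apply A B D] at ha
    exact (IsLocalization.AtPrime.to_map_mem_maximal_iff D m _).2 h1 ha⟩
  haveI : Module.Flat A D := by
    haveI : Module.Flat B D := IsLocalization.flat D m.primeCompl
    exact Module.Flat.trans A B D
  haveI : Module.FaithfullyFlat A D := Module.FaithfullyFlat.of_flat_of_isLocalHom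
  have hinj : Function.Injective (algebraMap A D) := FaithfulSMul.algebraMap_injective A D
  haveI : Algebra.EssFiniteType A D := Algebra.EssFiniteType.comp A B D
  haveI : Algebra.FormallyUnramified B D := Algebra.FormallyUnramified.of_isLocalization m.primeCompl
  haveI : Algebra.FormallyUnramified A D := Algebra.FormallyUnramified.comp A B D
  obtain ⟨hV, hb⟩ := Groth.Agent.ValEtaleLib.main (D := D) hinj
  exact ⟨hdom, fun _ => hV, hinj, hloc, hb⟩

end Groth.Agent.S1963
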