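import Groth.Statements.S19630
import Groth.Agent.DeRhamLib.Gen
set_option backward.isDefEq.respectTransparency false
set_option backward.isDefEq.respectTransparency.types false

set_option autoImplicit false
universe u
open DeRham

namespace Groth.Agent.S19630

open exteriorPower in
/-- In the affine case, at ring level, let k ⊆ K be a finite extension of fields of characteristic zero
and B a smooth K-algebra, so that Y = Spec B is a smooth affine variety over K which may also be
regarded over k. Let ψ be the map of de Rham complexes from Ω•_{B/k} to Ω•_{B/K} induced by the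
identity of B. Then ψ is bijective in every degree: the de Rham complex of Y over k and over K
coincide, and hence the natural map H^i_dR(Y/k) → H^i_dR(Y/K) is an isomorphism. (The source states
the isomorphism on de Rham cohomology for any smooth variety Y over K, through the equality of the
two de Rham complexes; this row is that equality for affine Y.) -/
theorem result
    (k K : Type u) [Field k] [Field K] [CharZero k] [Algebra k K] [Module.Finite k K]
    (B : Type u) [CommRing B] [Algebra K B] [Algebra k B] [IsScalarTower k K B] [Algebra.Smooth K B]
    (ψ : ∀ p : ℕ, ↥(⋀[B]^p (Ω[B⁄k])) →+ ↥(⋀[B]^p (Ω[B⁄K])))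
    (hψ : DeRham.IsCxMap (KaehlerDifferential.D k B) (KaehlerDifferential.D K B) (RingHom.id B) ψ)
    (p : ℕ) :
    Function.Bijective (ψ p) := by
  haveI : Algebra.IsSeparable k K := Algebra.IsAlgebraic.isSeparable_of_perfectField
  haveI : Algebra.FormallyEtale k K := Algebra.FormallyEtale.of_isSeparable k K
  haveI : Subsingleton (Ω[K⁄k]) := Algebra.FormallyUnramified.subsingleton_kaehlerDifferential
  let f : Ω[B⁄k] →ₗ[B] Ω[B⁄K] := KaehlerDifferential.map k K B B
  have hsurj : Function.Surjective f := KaehlerDifferential.map_surjective k K B
  have hinj : Function.Injective f := by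
    refine (injective_iff_map_eq_zero _).2 fun x hx => ?_
    obtain ⟨y, rfl⟩ := (KaehlerDifferential.exact_mapBaseChange_map k K B x).1 hx
    rw [show y = 0 from Subsingleton.elim _ _, map_zero]
  let e := LinearEquiv.ofBijective f ⟨hinj, hsurj⟩
  have he : ∀ x, ψ p x = exteriorPower.map p e.toLinearMap x := fun x => by
    refine DeRhamLib.gen_induction (P := fun x => ψ p x = exteriorPower.map p e.toLinearMap x) (by simp)
      (fun a b ha hb => by simp only [map_add, ha, hb]) (fun b₀ b => ?_) x
    rw [hψ p b₀ b, DeRham.gen, DeRham.gen, map_smul, exteriorPower.map_apply_ιMulti]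
    congr 1
    · congr 1
      funext i
      exact (KaehlerDifferential.map_D k K B B (b i)).symm
  rw [show (ψ p : _ → _) = exteriorPower.map p e.toLinearMap from funext he]
  refine Function.bijective_iff_has_inverse.2 ⟨exteriorPower.map p e.symm.toLinearMap, fun x => ?_, fun x => ?_⟩
  · rw [← LinearMap.comp_apply, ← exteriorPower.map_comp, e.symm_comp, exteriorPower.map_id]; rfl
  · rw [← LinearMap.comp_apply, ← exteriorPower.map_comp, e.comp_symm, exteriorPower.map_id]; rfl

end Groth.Agent.S19630
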