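import Groth.Statements.S19631
import Mathlib
-- import your own Groth.Agent.* helpers here

set_option autoImplicit false
universe u
open Hyper

namespace Groth.Agent.S19631

open CategoryTheory CategoryTheory.Limits AlgebraicGeometry in
/-- Let f : X → Y be a morphism of schemes and X_• = cosk_0^Y(X) its Čech nerve, the simplicial scheme
over Y with X_p = X ×_Y ⋯ ×_Y X (p + 1 factors), face maps the projections forgetting one factor and
degeneracies induced by diagonals. Then X_•, as a simplicial object of the category of schemes over
Y, is n-coskeletal for every n, i.e. the adjunction morphisms X_• → cosk_n sk_n X_• (coskeleta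
relative to Y) are isomorphisms. In the source this is phrased as: for a class S of covering maps of
varieties containing the identities, X_• → Y is an S-hypercover whenever X → Y lies in S, the
adjunction maps X_p → (cosk_{p-1} sk_{p-1} X_•)_p being isomorphisms for p ≥ 1 and X_0 → Y being f.
(Stated for arbitrary schemes; the source has varieties over a field.) -/
theorem result (X Y : Scheme.{u}) (f : X ⟶ Y) (n : ℕ) :
    SimplicialObject.IsCoskeletal (cechNerveTerminalFrom (Over.mk f)) n := by
  classical
  generalize Over.mk f = T
  let incl := (SimplexCategory.Truncated.inclusion n).op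
  let E : incl.RightExtension (incl ⋙ cechNerveTerminalFrom T) :=
    Functor.RightExtension.mk (cechNerveTerminalFrom T) (𝟙 _)
  suffices h : E.IsPointwiseRightKanExtension from ⟨h.isRightKanExtension⟩
  intro Y
  let vert : Fin (Y.unop.len + 1) → StructuredArrow Y incl := fun i =>
    StructuredArrow.mk (Y := Opposite.op (⟨SimplexCategory.mk 0, Nat.zero_le n⟩ : SimplexCategory.Truncated n))
      (SimplexCategory.const (SimplexCategory.mk 0) Y.unop i).op
  refine
    { lift := fun s => Limits.Pi.lift fun i => s.π.app (vert i) ≫ Limits.Pi.π _ 0
      fac := fun s g => ?_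
      uniq := fun s m hm => ?_ }
  · apply Limits.Pi.hom_ext
    intro k
    let τ : g ⟶ vert (g.hom.unop.toOrderHom k) := StructuredArrow.homMk
      (ObjectProperty.homMk (SimplexCategory.const (SimplexCategory.mk 0) g.right.unop.obj k)).op
      (by
        apply Quiver.Hom.unop_inj
        exact SimplexCategory.const_comp _ _ _)
    have h := s.w τ
    change (Limits.Pi.lift fun i => s.π.app (vert i) ≫ Limits.Pi.π (fun _ => T) 0) ≫
      ((Limits.Pi.lift fun i => Limits.Pi.π (fun _ => T) (g.hom.unop.toOrderHom i)) ≫ 𝟙 _) ≫
      Limits.Pi.π (fun _ => T) k = _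
    rw [Category.comp_id, Limits.Pi.lift_π, Limits.Pi.lift_π, ← h]
    change (s.π.app g ≫ Limits.Pi.lift (fun i => Limits.Pi.π (fun _ => T)
      ((SimplexCategory.const (SimplexCategory.mk 0) g.right.unop.obj k).toOrderHom i))) ≫
      Limits.Pi.π (fun _ => T) 0 = _
    rw [Category.assoc, Limits.Pi.lift_π]
    rfl
  · apply Limits.Pi.hom_ext
    intro i
    rw [Limits.Pi.lift_π, ← hm (vert i)]
    change _ = (m ≫ Limits.Pi.lift (fun j => Limits.Pi.π (fun _ => T)
      ((SimplexCategory.const (SimplexCategory.mk 0) Y.unop i).toOrderHom j)) ≫ 𝟙 _) ≫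
      Limits.Pi.π (fun _ => T) 0
    rw [Category.comp_id, Category.assoc, Limits.Pi.lift_π]
    rfl

end Groth.Agent.S19631
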