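import Groth.Statements.S19632
import Mathlib
set_option backward.isDefEq.respectTransparency false
set_option backward.isDefEq.respectTransparency.types false

set_option autoImplicit false
universe u
open DeRham

namespace Groth.Agent.S19632

/-- Let k be a field of characteristic zero and G_m = Spec k[t, t⁻¹] the multiplicative group. The
kernel of the differential d : k[t, t⁻¹] → Ω¹ of the de Rham complex of G_m consists of the
constants: for a Laurent polynomial f, df = 0 if and only if f lies in the image of k. Equivalently
H^0_dR(G_m/k) = k. (Characteristic zero is used: in characteristic p the element t^p is closed.) -/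
theorem result (k : Type u) [Field k] [CharZero k]
    (f : LaurentPolynomial k) :
    KaehlerDifferential.D k (LaurentPolynomial k) f = 0 ↔ f ∈ Set.range (algebraMap k (LaurentPolynomial k)) := by
  refine ⟨fun h => ?_, fun ⟨c, hc⟩ => hc ▸ Derivation.map_algebraMap _ c⟩
  let L : LaurentPolynomial k →ₗ[k] LaurentPolynomial k :=
    Finsupp.lift (LaurentPolynomial k) k ℤ (fun n => (n : k) • LaurentPolynomial.T (n - 1)) ∘ₗ
      (AddMonoidAlgebra.coeffLinearEquiv k).toLinearMap
  have hL : ∀ n : ℤ, L (LaurentPolynomial.T n) = (n : k) • LaurentPolynomial.T (n - 1) := fun n => by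
    show Finsupp.lift (LaurentPolynomial k) k ℤ (fun n => (n : k) • LaurentPolynomial.T (n - 1))
      (Finsupp.single n (1 : k)) = _
    rw [Finsupp.lift_apply]
    simp
  have hmul : ∀ a b : LaurentPolynomial k, L (a * b) = a * L b + b * L a := by
    intro a b
    induction a using LaurentPolynomial.induction_on' with
    | add p q hp hq => simp only [add_mul, map_add, hp, hq]; ring
    | C_mul_T n r =>
      induction b using LaurentPolynomial.induction_on' with
      | add p q hp hq => simp only [mul_add, map_add, hp, hq]; ring
      | C_mul_T m s =>
        have e : ∀ (c : k) (i : ℤ), L (LaurentPolynomial.C c * LaurentPolynomial.T i) =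
            LaurentPolynomial.C (c * i) * LaurentPolynomial.T (i - 1) := fun c i => by
          rw [← LaurentPolynomial.smul_eq_C_mul, map_smul, hL, smul_smul, LaurentPolynomial.smul_eq_C_mul]
        rw [show LaurentPolynomial.C r * LaurentPolynomial.T n * (LaurentPolynomial.C s * LaurentPolynomial.T m) =
          LaurentPolynomial.C (r * s) * LaurentPolynomial.T (n + m) by
            rw [map_mul, LaurentPolynomial.T_add]; ring, e, e, e]
        push_cast
        rw [show n + m - 1 = n + (m - 1) by ring]
        conv_rhs =>
          rw [show LaurentPolynomial.C r * LaurentPolynomial.T n * (LaurentPolynomial.C (s * (m : k)) * LaurentPolynomial.T (m - 1)) =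
            LaurentPolynomial.C r * LaurentPolynomial.C (s * (m : k)) * (LaurentPolynomial.T n * LaurentPolynomial.T (m - 1)) by ring]
          rw [show LaurentPolynomial.C s * LaurentPolynomial.T m * (LaurentPolynomial.C (r * (n : k)) * LaurentPolynomial.T (n - 1)) =
            LaurentPolynomial.C s * LaurentPolynomial.C (r * (n : k)) * (LaurentPolynomial.T m * LaurentPolynomial.T (n - 1)) by ring]
          rw [← LaurentPolynomial.T_add, ← LaurentPolynomial.T_add, show m + (n - 1) = n + (m - 1) by ring, ← add_mul,
            ← map_mul, ← map_mul, ← map_add]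
        congr 2
        ring
  let D : Derivation k (LaurentPolynomial k) (LaurentPolynomial k) := Derivation.mk' L fun a b => by
    rw [hmul a b]; rfl
  have h0 : L f = 0 := by
    have h1 := congrArg D.liftKaehlerDifferential h
    rwa [Derivation.liftKaehlerDifferential_comp_D, map_zero] at h1
  refine ⟨f.coeff 0, ?_⟩
  refine AddMonoidAlgebra.ext (Finsupp.ext fun i => ?_)
  have hc : ∀ g : LaurentPolynomial k, (L g).coeff (i - 1) = (i : k) * g.coeff i := fun g => by
    induction g using LaurentPolynomial.induction_on' with
    | add p q hp hq => simp [hp, hq, mul_add]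
    | C_mul_T n r =>
      rw [← LaurentPolynomial.smul_eq_C_mul, map_smul, hL]
      rcases eq_or_ne n i with rfl | hni
      · simp [mul_comm]
      · simp [hni, Ne.symm hni]
  rw [show algebraMap k (LaurentPolynomial k) (f.coeff 0) = AddMonoidAlgebra.single 0 (f.coeff 0) from rfl]
  rcases eq_or_ne i 0 with rfl | hi
  · simp
  · have h2 := hc f
    rw [h0] at h2
    rcases mul_eq_zero.1 h2.symm with h3 | h3
    · exact absurd (Int.cast_eq_zero.1 h3) hi
    · simp [h3, hi, Ne.symm hi]

end Groth.Agent.S19632
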