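import Groth.Statements.S19633
set_option maxHeartbeats 1000000
set_option backward.isDefEq.respectTransparency false
-- import your own Groth.Agent.* helpers here

set_option autoImplicit false
universe u
open DeRham

namespace Groth.Agent.S19633

open exteriorPower in
/-- Let k be a field of characteristic zero, G_m = Spec k[t, t⁻¹], and d the de Rham differential of
k[t, t⁻¹] over k. Then: every 1-form is closed; the exact 1-forms and the k-line spanned by t⁻¹ dt
are complementary subspaces of the 1-forms, and t⁻¹ dt is not exact — so H^1_dR(G_m/k) is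
one-dimensional, generated by the class of dt/t (the isomorphism with k being the residue); and for
every i ≥ 2 the closed i-forms are exact, so H^i_dR(G_m/k) = 0 for i > 1. (Characteristic zero is
used in the computation of the exact forms.) -/
theorem result (k : Type u) [Field k] [CharZero k]
    (d : ∀ p : ℕ, ↥(⋀[LaurentPolynomial k]^p (Ω[LaurentPolynomial k⁄k])) →ₗ[k] ↥(⋀[LaurentPolynomial k]^(p + 1) (Ω[LaurentPolynomial k⁄k])))
    (hd : DeRham.IsDiff (KaehlerDifferential.D k (LaurentPolynomial k)) d) :
    DeRham.cocycles d 1 = ⊤ ∧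
    IsCompl (DeRham.coboundaries d 1)
      (Submodule.span k {DeRham.gen (KaehlerDifferential.D k (LaurentPolynomial k)) 1
        (LaurentPolynomial.T (-1)) (fun _ => LaurentPolynomial.T 1)}) ∧
    DeRham.gen (KaehlerDifferential.D k (LaurentPolynomial k)) 1
        (LaurentPolynomial.T (-1)) (fun _ => LaurentPolynomial.T 1) ∉ DeRham.coboundaries d 1 ∧
    ∀ i : ℕ, DeRham.cocycles d (i + 2) ≤ DeRham.coboundaries d (i + 2) := by
  let L : LaurentPolynomial k →ₗ[k] LaurentPolynomial k :=
    Finsupp.lift (LaurentPolynomial k) k ℤ (fun n => (n : k) • LaurentPolynomial.T (n - 1)) ∘ₗ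
      (AddMonoidAlgebra.coeffLinearEquiv k).toLinearMap
  have hL : ∀ n : ℤ, L (LaurentPolynomial.T n) = (n : k) • LaurentPolynomial.T (n - 1) := fun n => by
    show Finsupp.lift (LaurentPolynomial k) k ℤ (fun n => (n : k) • LaurentPolynomial.T (n - 1))
      (Finsupp.single n (1 : k)) = _
    rw [Finsupp.lift_apply]
    simp
  have hmul : ∀ a b : LaurentPolynomial k, L (a * b) = a * L b + b * L a := by
    intro a b
    induction a using LaurentPolynomial.induction_on' with
    | add p q hp hq => simp only [add_mul, map_add, hp, hq]; ring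
    | C_mul_T n r =>
      induction b using LaurentPolynomial.induction_on' with
      | add p q hp hq => simp only [mul_add, map_add, hp, hq]; ring
      | C_mul_T m s =>
        have e : ∀ (c : k) (i : ℤ), L (LaurentPolynomial.C c * LaurentPolynomial.T i) =
            LaurentPolynomial.C (c * i) * LaurentPolynomial.T (i - 1) := fun c i => by
          rw [← LaurentPolynomial.smul_eq_C_mul, map_smul, hL, smul_smul, LaurentPolynomial.smul_eq_C_mul]
        rw [show LaurentPolynomial.C r * LaurentPolynomial.T n * (LaurentPolynomial.C s * LaurentPolynomial.T m) =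
          LaurentPolynomial.C (r * s) * LaurentPolynomial.T (n + m) by
            rw [map_mul, LaurentPolynomial.T_add]; ring, e, e, e]
        push_cast
        rw [show n + m - 1 = n + (m - 1) by ring]
        conv_rhs =>
          rw [show LaurentPolynomial.C r * LaurentPolynomial.T n * (LaurentPolynomial.C (s * (m : k)) * LaurentPolynomial.T (m - 1)) =
            LaurentPolynomial.C r * LaurentPolynomial.C (s * (m : k)) * (LaurentPolynomial.T n * LaurentPolynomial.T (m - 1)) by ring]
          rw [show LaurentPolynomial.C s * LaurentPolynomial.T m * (LaurentPolynomial.C (r * (n : k)) * LaurentPolynomial.T (n - 1)) =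
            LaurentPolynomial.C s * LaurentPolynomial.C (r * (n : k)) * (LaurentPolynomial.T m * LaurentPolynomial.T (n - 1)) by ring]
          rw [← LaurentPolynomial.T_add, ← LaurentPolynomial.T_add, show m + (n - 1) = n + (m - 1) by ring, ← add_mul,
            ← map_mul, ← map_mul, ← map_add]
        congr 2
        ring
  let D' : Derivation k (LaurentPolynomial k) (LaurentPolynomial k) := Derivation.mk' L fun a b => by
    rw [hmul a b]; rfl
  have hc : ∀ (i : ℤ) (g : LaurentPolynomial k), (L g).coeff (i - 1) = (i : k) * g.coeff i := fun i g => by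
    induction g using LaurentPolynomial.induction_on' with
    | add p q hp hq => simp [hp, hq, mul_add]
    | C_mul_T n r =>
      rw [← LaurentPolynomial.smul_eq_C_mul, map_smul, hL]
      rcases eq_or_ne n i with rfl | hni
      · simp [mul_comm]
      · simp [hni, Ne.symm hni]
  let Ω1 := Ω[LaurentPolynomial k⁄k]
  let δ := KaehlerDifferential.D k (LaurentPolynomial k)
  have hD1 : D' (LaurentPolynomial.T 1) = 1 := by
    show L (LaurentPolynomial.T 1) = 1
    rw [hL]; simp
  have hδ : ∀ f, δ f = L f • δ (LaurentPolynomial.T 1) := by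
    let E : Derivation k (LaurentPolynomial k) Ω1 :=
      (LinearMap.toSpanSingleton (LaurentPolynomial k) Ω1 (δ (LaurentPolynomial.T 1))).compDer D'
    have hE : ∀ f, E f = L f • δ (LaurentPolynomial.T 1) := fun f => rfl
    intro f
    rw [← hE]
    have hinv : (LaurentPolynomial.T (-1) : LaurentPolynomial k) * LaurentPolynomial.T 1 = 1 := by
      rw [← LaurentPolynomial.T_add]; simp
    have h1 : δ (LaurentPolynomial.T 1) = E (LaurentPolynomial.T 1) := by
      rw [hE, show L (LaurentPolynomial.T 1) = 1 from hD1, one_smul]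
    have h2 : δ (LaurentPolynomial.T (-1)) = E (LaurentPolynomial.T (-1)) := by
      rw [Derivation.leibniz_of_mul_eq_one δ hinv, Derivation.leibniz_of_mul_eq_one E hinv, h1]
    have hmulE : ∀ a b, δ a = E a → δ b = E b → δ (a * b) = E (a * b) := fun a b ha hb => by
      rw [Derivation.leibniz δ, Derivation.leibniz E, ha, hb]
    induction f using LaurentPolynomial.induction_on with
    | h_C a => exact (Derivation.map_algebraMap δ a).trans (Derivation.map_algebraMap E a).symm
    | h_add hp hq => rw [map_add, map_add, hp, hq]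
    | h_C_mul_T n a h =>
      rw [LaurentPolynomial.T_add, ← mul_assoc]
      exact hmulE _ _ h h1
    | h_C_mul_T_Z n a h =>
      rw [sub_eq_add_neg, LaurentPolynomial.T_add, ← mul_assoc]
      exact hmulE _ _ h h2
  have hcyc : ∀ ω : Ω1, ω = D'.liftKaehlerDifferential ω • δ (LaurentPolynomial.T 1) := by
    intro ω
    have hm : ω ∈ Submodule.span (LaurentPolynomial k) (Set.range δ) := by
      rw [KaehlerDifferential.span_range_derivation]; trivial
    induction hm using Submodule.span_induction with
    | mem x hx =>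
      obtain ⟨f, rfl⟩ := hx
      rw [Derivation.liftKaehlerDifferential_comp_D]
      exact hδ f
    | zero => simp
    | add x y _ _ hx hy => rw [map_add, add_smul, ← hx, ← hy]
    | smul a x _ hx => rw [map_smul, smul_eq_mul, mul_smul, ← hx]
  -- forms of degree at least two vanish
  have hvan : ∀ (p : ℕ) (x : ↥(⋀[LaurentPolynomial k]^(p + 2) Ω1)), x = 0 := by
    intro p x
    have hx : x ∈ Submodule.span (LaurentPolynomial k) (Set.range (exteriorPower.ιMulti (LaurentPolynomial k) (p + 2) (M := Ω1))) := by
      rw [exteriorPower.ιMulti_span]; trivial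
    induction hx using Submodule.span_induction with
    | mem x hx =>
      obtain ⟨v, rfl⟩ := hx
      rw [funext fun i => hcyc (v i), AlternatingMap.map_smul_univ,
        AlternatingMap.map_eq_zero_of_eq _ _ (i := 0) (j := 1) rfl (by simp), smul_zero]
    | zero => rfl
    | add x y _ _ hx hy => rw [hx, hy, add_zero]
    | smul a x _ hx => rw [hx, smul_zero]
  let Φ : ↥(⋀[LaurentPolynomial k]^1 Ω1) →ₗ[LaurentPolynomial k] LaurentPolynomial k :=
    D'.liftKaehlerDifferential.comp (exteriorPower.oneEquiv (LaurentPolynomial k) Ω1).toLinearMap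
  have hΦinj : Function.Injective Φ := fun x y h => by
    refine (exteriorPower.oneEquiv (LaurentPolynomial k) Ω1).injective ?_
    rw [hcyc (exteriorPower.oneEquiv (LaurentPolynomial k) Ω1 x), hcyc (exteriorPower.oneEquiv (LaurentPolynomial k) Ω1 y)]
    exact congrArg (· • δ (LaurentPolynomial.T 1)) h
  have hΦι : ∀ v : Fin 1 → Ω1, Φ (exteriorPower.ιMulti (LaurentPolynomial k) 1 v) = D'.liftKaehlerDifferential (v 0) := fun v => by
    show D'.liftKaehlerDifferential (exteriorPower.oneEquiv (LaurentPolynomial k) Ω1 (exteriorPower.ιMulti (LaurentPolynomial k) 1 v)) = _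
    rw [exteriorPower.oneEquiv_ιMulti]
  have hd0 : ∀ a : LaurentPolynomial k, Φ (d 0 (DeRham.gen δ 0 a Fin.elim0)) = L a := fun a => by
    rw [hd.1 0 a, hΦι, Fin.cons_zero, Derivation.liftKaehlerDifferential_comp_D]
    rfl
  have hrange : ∀ x : ↥(⋀[LaurentPolynomial k]^0 Ω1), ∃ a, x = DeRham.gen δ 0 a Fin.elim0 := fun x => by
    have hx : x ∈ Submodule.span (LaurentPolynomial k) (Set.range (exteriorPower.ιMulti (LaurentPolynomial k) 0 (M := Ω1))) := by
      rw [exteriorPower.ιMulti_span]; trivial
    rw [Set.range_unique, Submodule.mem_span_singleton] at hx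
    obtain ⟨a, rfl⟩ := hx
    exact ⟨a, congrArg (a • ·) (congrArg _ (Subsingleton.elim _ _))⟩
  have hg : Φ (DeRham.gen δ 1 (LaurentPolynomial.T (-1)) (fun _ => LaurentPolynomial.T 1)) = LaurentPolynomial.T (-1) := by
    rw [DeRham.gen, map_smul, hΦι, Derivation.liftKaehlerDifferential_comp_D, hD1, smul_eq_mul, mul_one]
  have hnot : ∀ (c : k) (a : LaurentPolynomial k), L a = c • LaurentPolynomial.T (-1) → c = 0 := fun c a h => by
    have h1 := hc 0 a
    rw [h] at h1
    simpa using h1
  have hsplit : ∀ g : LaurentPolynomial k, ∃ (a : LaurentPolynomial k) (c : k), g = L a + c • LaurentPolynomial.T (-1) := by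
    intro g
    induction g using LaurentPolynomial.induction_on' with
    | add p q hp hq =>
      obtain ⟨a, c, rfl⟩ := hp
      obtain ⟨a', c', rfl⟩ := hq
      exact ⟨a + a', c + c', by rw [map_add, add_smul]; abel⟩
    | C_mul_T n r =>
      rcases eq_or_ne n (-1) with rfl | hn
      · exact ⟨0, r, by rw [map_zero, zero_add, LaurentPolynomial.smul_eq_C_mul]⟩
      · have hne : ((n + 1 : ℤ) : k) ≠ 0 := Int.cast_ne_zero.2 (by omega)
        refine ⟨(r * ((n + 1 : ℤ) : k)⁻¹) • LaurentPolynomial.T (n + 1), 0, ?_⟩
        rw [map_smul, hL, smul_smul, mul_assoc, inv_mul_cancel₀ hne, mul_one, add_sub_cancel_right, zero_smul, add_zero,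
          LaurentPolynomial.smul_eq_C_mul]
  refine ⟨eq_top_iff.2 fun x _ => hvan 0 (d 1 x), ⟨?_, ?_⟩, ?_, fun i x _ => by rw [hvan i x]; exact Submodule.zero_mem _⟩
  · rw [Submodule.disjoint_def]
    intro x hx hx'
    obtain ⟨y, rfl⟩ := hx
    obtain ⟨c, hc'⟩ := Submodule.mem_span_singleton.1 hx'
    obtain ⟨a, rfl⟩ := hrange y
    have h1 : L a = c • LaurentPolynomial.T (-1) := by
      rw [← hd0 a, ← hc']
      exact (LinearMap.map_smul_of_tower Φ c _).trans (congrArg (c • ·) hg)
    rw [← hc', hnot c a h1, zero_smul]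
  · rw [codisjoint_iff, eq_top_iff]
    intro x _
    obtain ⟨a, c, hac⟩ := hsplit (Φ x)
    refine Submodule.mem_sup.2 ⟨_, ⟨DeRham.gen δ 0 a Fin.elim0, rfl⟩, _, Submodule.mem_span_singleton.2 ⟨c, rfl⟩, hΦinj ?_⟩
    rw [map_add, hd0, LinearMap.map_smul_of_tower, hg, hac]
  · rintro ⟨y, hy⟩
    obtain ⟨a, rfl⟩ := hrange y
    refine one_ne_zero (hnot 1 a ?_)
    rw [one_smul, ← hd0, hy, hg]

end Groth.Agent.S19633
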