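import Groth.Statements.S19634
import Mathlib
set_option backward.isDefEq.respectTransparency false
set_option backward.isDefEq.respectTransparency.types false

set_option autoImplicit false
universe u
open DeRham

namespace Groth.Agent.S19634

/-- Let k be a field of characteristic zero and A = k[X, Y]/(XY), the coordinate ring of two affine
lines crossing in a point. In the naive de Rham complex A → Ω¹_{A/k} the kernel of d consists of the
constants: dP = 0 if and only if P is in the image of k. -/
theorem result (k : Type u) [Field k] [CharZero k]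
    (P : MvPolynomial (Fin 2) k ⧸ Ideal.span {(MvPolynomial.X 0 * MvPolynomial.X 1 : MvPolynomial (Fin 2) k)}) :
    KaehlerDifferential.D k (MvPolynomial (Fin 2) k ⧸ Ideal.span {(MvPolynomial.X 0 * MvPolynomial.X 1 : MvPolynomial (Fin 2) k)}) P = 0 ↔
      P ∈ Set.range (algebraMap k (MvPolynomial (Fin 2) k ⧸ Ideal.span {(MvPolynomial.X 0 * MvPolynomial.X 1 : MvPolynomial (Fin 2) k)})) := by
  classical
  constructor
  · intro hP
    obtain ⟨F, rfl⟩ := Ideal.Quotient.mk_surjective P
    let Q := MvPolynomial (Fin 2) k ⧸ Ideal.span {(MvPolynomial.X 0 * MvPolynomial.X 1 : MvPolynomial (Fin 2) k)}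
    -- the restriction to the `i`-th axis
    let res : Fin 2 → (MvPolynomial (Fin 2) k →ₐ[k] Polynomial k) := fun i =>
      MvPolynomial.aeval fun j => if j = i then Polynomial.X else 0
    have hconst : ∀ i : Fin 2, res i F = Polynomial.C (MvPolynomial.constantCoeff F) := fun i => by
      have hI : ∀ a ∈ Ideal.span {(MvPolynomial.X 0 * MvPolynomial.X 1 : MvPolynomial (Fin 2) k)}, res i a = 0 := by
        intro a ha
        obtain ⟨b, rfl⟩ := Ideal.mem_span_singleton'.1 ha
        fin_cases i <;> simp [res]
      let φ : Q →ₐ[k] Polynomial k := Ideal.Quotient.liftₐ _ (res i) hI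
      letI : Algebra Q (Polynomial k) := φ.toRingHom.toAlgebra
      haveI : IsScalarTower k Q (Polynomial k) := IsScalarTower.of_algebraMap_eq fun c => (φ.commutes c).symm
      let D : Derivation k Q (Polynomial k) := Derivation.mk' (Polynomial.derivative.comp φ.toLinearMap) fun a b => by
        show Polynomial.derivative (φ (a * b)) = φ a * Polynomial.derivative (φ b) + φ b * Polynomial.derivative (φ a)
        rw [map_mul, Polynomial.derivative_mul]
        ring
      have h0 : D (Ideal.Quotient.mk _ F) = 0 := by
        rw [← Derivation.liftKaehlerDifferential_comp_D D, hP, map_zero]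
      have h1 : Polynomial.derivative (res i F) = 0 := h0
      have h2 : Polynomial.eval 0 (res i F) = MvPolynomial.constantCoeff F := by
        rw [← Polynomial.coe_evalRingHom, MvPolynomial.map_aeval]
        simp [apply_ite, MvPolynomial.eval₂Hom_zero', ← MvPolynomial.constantCoeff_eq]
      rw [Polynomial.eq_C_of_derivative_eq_zero h1, Polynomial.coeff_zero_eq_eval_zero, h2]
    refine ⟨MvPolynomial.constantCoeff F, ?_⟩
    rw [IsScalarTower.algebraMap_apply k (MvPolynomial (Fin 2) k) (MvPolynomial (Fin 2) k ⧸ _), Ideal.Quotient.algebraMap_eq,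
      MvPolynomial.algebraMap_eq, Ideal.Quotient.eq]
    -- every polynomial is congruent to the sum of its restrictions
    have key : ∀ G : MvPolynomial (Fin 2) k, MvPolynomial.C (MvPolynomial.constantCoeff G) + G -
        (Polynomial.aeval (MvPolynomial.X 0) (res 0 G) + Polynomial.aeval (MvPolynomial.X 1) (res 1 G)) ∈
        Ideal.span {(MvPolynomial.X 0 * MvPolynomial.X 1 : MvPolynomial (Fin 2) k)} := fun G => by
      induction G using MvPolynomial.induction_on' with
      | add a b ha hb =>
        simp only [map_add] at ha hb ⊢
        convert! Ideal.add_mem _ ha hb using 1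
        ring
      | monomial d c =>
        rw [MvPolynomial.monomial_eq, Finsupp.prod_fintype _ _ (fun _ => pow_zero _), Fin.prod_univ_two]
        rcases Nat.eq_zero_or_pos (d 0) with e0 | e0 <;> rcases Nat.eq_zero_or_pos (d 1) with e1 | e1
        · simp [res, e0, e1]
        · simp [res, e0, zero_pow e1.ne']
        · simp [res, e1, zero_pow e0.ne']
        · simp only [res, map_mul, map_pow, MvPolynomial.aeval_X, MvPolynomial.constantCoeff_X]
          simp only [if_true, zero_ne_one, one_ne_zero, if_false, zero_pow e0.ne', zero_pow e1.ne', mul_zero, zero_mul,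
            map_zero, add_zero, zero_add, sub_zero]
          obtain ⟨a, ha⟩ := Nat.exists_eq_succ_of_ne_zero e0.ne'
          obtain ⟨b, hb⟩ := Nat.exists_eq_succ_of_ne_zero e1.ne'
          rw [ha, hb, pow_succ, pow_succ]
          exact Ideal.mem_span_singleton'.2 ⟨MvPolynomial.C c * MvPolynomial.X 0 ^ a * MvPolynomial.X 1 ^ b, by ring⟩
    have h := key F
    rw [hconst 0, hconst 1, Polynomial.aeval_C, Polynomial.aeval_C, MvPolynomial.algebraMap_eq] at h
    rw [← neg_mem_iff, neg_sub]
    convert! h using 1
    ring
  · rintro ⟨c, rfl⟩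
    exact Derivation.map_algebraMap _ c

end Groth.Agent.S19634
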