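import Groth.Statements.S19635
import Mathlib
set_option backward.isDefEq.respectTransparency false
set_option backward.isDefEq.respectTransparency.types false

set_option autoImplicit false
universe u
open DeRham

namespace Groth.Agent.S19635

open KaehlerDifferential in
/-- Relations between differentials of a quotient give relations for derivations killed by the ideal. -/
theorem rel_of_quotient {k P M : Type*} [CommRing k] [CommRing P] [Algebra k P] [AddCommGroup M] [Module P M]
    [Module k M] [IsScalarTower k P M] (I : Ideal P) (hI : Module.IsTorsionBySet P M I) (d : Derivation k P M)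
    (hd : ∀ c ∈ I, d c = 0) (g a b : P)
    (h : KaehlerDifferential.D k (P ⧸ I) (Ideal.Quotient.mk I g) =
      Ideal.Quotient.mk I a • KaehlerDifferential.D k (P ⧸ I) (Ideal.Quotient.mk I b)) :
    d g = a • d b := by
  letI : Module (P ⧸ I) M := hI.module
  haveI : IsScalarTower k (P ⧸ I) M := hI.isScalarTower
  let Dl : (P ⧸ I) →ₗ[k] M :=
    (Submodule.liftQ (I.restrictScalars k) d.toLinearMap fun c hc => hd c hc) ∘ₗ
      (Submodule.Quotient.restrictScalarsEquiv k I).symm.toLinearMap
  have hDl : ∀ c : P, Dl (Ideal.Quotient.mk I c) = d c := fun c => rfl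
  let D : Derivation k (P ⧸ I) M := Derivation.mk' Dl fun x y => by
    obtain ⟨x, rfl⟩ := Ideal.Quotient.mk_surjective x
    obtain ⟨y, rfl⟩ := Ideal.Quotient.mk_surjective y
    rw [← map_mul, hDl, hDl, hDl, d.leibniz]
    rfl
  have h1 := congrArg D.liftKaehlerDifferential h
  rw [Derivation.liftKaehlerDifferential_comp_D, map_smul, Derivation.liftKaehlerDifferential_comp_D] at h1
  exact h1

/-- Let k be a field of characteristic zero and A = k[X, Y]/(XY), the coordinate ring of two affine
lines crossing in a point. The differential d : A → Ω¹_{A/k} of the naive de Rham complex is not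
surjective, so the naive H^1 of this singular curve does not vanish although one expects trivial
cohomology; this is the example motivating the h-topology definition. -/
theorem result (k : Type u) [Field k] [CharZero k] :
    ¬ Function.Surjective (KaehlerDifferential.D k (MvPolynomial (Fin 2) k ⧸ Ideal.span {(MvPolynomial.X 0 * MvPolynomial.X 1 : MvPolynomial (Fin 2) k)})) := by
  classical
  intro hsurj
  let P := MvPolynomial (Fin 2) k
  let X0 : P := MvPolynomial.X 0
  let X1 : P := MvPolynomial.X 1
  let e : Fin 2 → (Fin 2 →₀ ℕ) := fun i => Finsupp.single i 1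
  have hmulX : ∀ (p q : P) (i : Fin 2), MvPolynomial.coeff (e i) (p * q) =
      MvPolynomial.constantCoeff p * MvPolynomial.coeff (e i) q + MvPolynomial.coeff (e i) p * MvPolynomial.constantCoeff q := by
    intro p q i
    rw [MvPolynomial.coeff_mul, Finsupp.antidiagonal_single, Finset.sum_map,
      show Finset.HasAntidiagonal.antidiagonal (1 : ℕ) = {((0 : ℕ), 1), (1, 0)} from rfl, Finset.sum_pair (by simp)]
    simp [e, MvPolynomial.constantCoeff_eq]
  let N : Submodule P (P × P) :=
    { carrier := {ab | MvPolynomial.constantCoeff ab.1 = 0 ∧ MvPolynomial.constantCoeff ab.2 = 0 ∧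
        MvPolynomial.coeff (e 0) ab.2 = MvPolynomial.coeff (e 1) ab.1}
      zero_mem' := by simp
      add_mem' := fun {a b} ha hb => by
        simp only [Set.mem_setOf_eq, Prod.fst_add, Prod.snd_add, map_add, MvPolynomial.coeff_add] at *
        exact ⟨by rw [ha.1, hb.1, add_zero], by rw [ha.2.1, hb.2.1, add_zero], by rw [MvPolynomial.coeff_add, MvPolynomial.coeff_add, ha.2.2, hb.2.2]⟩
      smul_mem' := fun c a ha => by
        simp only [Set.mem_setOf_eq, Prod.smul_fst, Prod.smul_snd, smul_eq_mul, map_mul, hmulX] at *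
        exact ⟨by rw [ha.1, mul_zero], by rw [ha.2.1, mul_zero], by rw [ha.1, ha.2.1, ha.2.2]; ring⟩ }
  let I : Ideal P := Ideal.span {X0 * X1}
  have hI : Module.IsTorsionBySet P ((P × P) ⧸ N) I := by
    rintro x ⟨c, hc⟩
    obtain ⟨⟨a, b⟩, rfl⟩ := Submodule.Quotient.mk_surjective N x
    obtain ⟨q, rfl⟩ := Ideal.mem_span_singleton.1 hc
    refine (Submodule.Quotient.mk_eq_zero N).2 ?_
    simp only [N, Submodule.mem_mk, AddSubmonoid.mem_mk, AddSubsemigroup.mem_mk, Set.mem_setOf_eq, Prod.smul_fst,
      Prod.smul_snd, smul_eq_mul, map_mul, hmulX]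
    simp [X0, X1]
  let d : P →ₗ[k] (P × P) ⧸ N :=
    (N.mkQ.restrictScalars k) ∘ₗ ((MvPolynomial.pderiv 0 : Derivation k P P).toLinearMap.prod
      (MvPolynomial.pderiv 1 : Derivation k P P).toLinearMap)
  have hd : ∀ a b : P, d (a * b) = a • d b + b • d a := fun a b => by
    show N.mkQ (MvPolynomial.pderiv 0 (a * b), MvPolynomial.pderiv 1 (a * b)) =
      a • N.mkQ (MvPolynomial.pderiv 0 b, MvPolynomial.pderiv 1 b) +
        b • N.mkQ (MvPolynomial.pderiv 0 a, MvPolynomial.pderiv 1 a)
    rw [← map_smul, ← map_smul, ← map_add]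
    congr 1
    simp [Derivation.leibniz, Prod.ext_iff]
  let D : Derivation k P ((P × P) ⧸ N) := Derivation.mk' d hd
  have hker : ∀ c ∈ I, D c = 0 := by
    intro c hc
    obtain ⟨q, rfl⟩ := Ideal.mem_span_singleton.1 hc
    show d _ = 0
    rw [hd]
    have h2 : d (X0 * X1) = 0 := by
      refine (Submodule.Quotient.mk_eq_zero N).2 ?_
      show (MvPolynomial.pderiv 0 (X0 * X1), MvPolynomial.pderiv 1 (X0 * X1)) ∈ N
      simp [N, X0, X1, e, MvPolynomial.pderiv_X]
      refine ⟨?_, ?_, ?_⟩ <;> simp
    rw [h2, smul_zero, add_zero]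
    exact @hI (d q) ⟨_, Ideal.mem_span_singleton_self _⟩
  obtain ⟨g, hg⟩ := hsurj ((Ideal.Quotient.mk I X0) • KaehlerDifferential.D k (P ⧸ I) (Ideal.Quotient.mk I X1))
  obtain ⟨g, rfl⟩ := Ideal.Quotient.mk_surjective g
  have h1 : D g = X0 • D X1 := rel_of_quotient I hI D hker g X0 X1 hg
  have h2 : (MvPolynomial.pderiv 0 g, MvPolynomial.pderiv 1 g) -
      X0 • (MvPolynomial.pderiv 0 X1, MvPolynomial.pderiv 1 X1) ∈ N :=
    (Submodule.Quotient.eq N).1 h1
  obtain ⟨-, -, h3⟩ := h2
  simp [X0, X1, e, MvPolynomial.pderiv_X, MvPolynomial.coeff_pderiv, add_comm (Finsupp.single (1 : Fin 2) 1)] at h3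

end Groth.Agent.S19635
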