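import Groth.Statements.S19642
import Groth.Agent.BGPointLib.Gerbe
import Groth.Agent.DecSec.QuotProp
import Groth.Agent.Boot.Setoid
import Groth.Agent.ASt.Diag
import Groth.Agent.ASt.Inv
import Groth.Agent.S10104

set_option autoImplicit false
set_option backward.isDefEq.respectTransparency false
set_option backward.isDefEq.respectTransparency.types false
universe u
open CategoryTheory AlgebraicGeometry MonoidalCategory
open AlgSt

namespace Groth.Agent.S19642

section
open CategoryTheory.Limits CartesianMonoidalCategory Opposite _root_.AlgSp Groth.Agent.ASp Groth.Agent.ASt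
  Groth.Agent.DecSec Groth.Agent.BGPointLib

variable {S : Scheme.{u}} {G : Over S} [GrpObj G] {𝒳 : AlgSt.Cat S} [FibCat.IsFibGrpd 𝒳.p]
  (x : FibCat.overCat (Over.mk (𝟙 S)) ⥤ᵇ 𝒳) (r : Gerb.AutRep x (Gerb.ptsGrp (Over.mk (𝟙 S)) G))
  (hs : Stk.IsStack (QuotSh.J Scheme.fppfPrecoverage S) 𝒳)

theorem eqToHom_sandwich {C : Type*} [Category C] {A P : C} (u : A ⟶ P) (π : P ⟶ A) (h : u ≫ π = 𝟙 A)
    {W W' Y : C} (e₁ : W = A) (e₂ : P = W') (e₃ : W' = P) (e₄ : A = Y) (e₅ : W = Y) :
    (eqToHom e₁ ≫ u ≫ eqToHom e₂) ≫ eqToHom e₃ ≫ π ≫ eqToHom e₄ = eqToHom e₅ := by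
  subst e₁ e₂ e₄
  simpa using h

/-- The point is the composite of the quotient map with the functor on torsors. -/
theorem quotMap_pointFun :
    Nonempty (BasedFunctor.comp (AlgSt.quotMap Scheme.fppfPrecoverage G (AlgSt.trivAction G)) (pointFun x r hs) ≅
        BasedFunctor.comp (AlgSt.toOverCat (Over.mk (𝟙 S))) x) := by
  let q := AlgSt.quotMap Scheme.fppfPrecoverage G (AlgSt.trivAction G)
  let L := BasedFunctor.comp (AlgSt.toOverCat (Over.mk (𝟙 S))) x
  let R := BasedFunctor.comp q (pointFun x r hs)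
  let η : ∀ a, L.obj a ⟶ R.obj a := fun a =>
    x.map (Over.homMk (U := Over.mk a.sec.down) (V := ov (tB (q.obj a).P)) (QuotSch.unitSec a.base)
      (Over.OverMorphism.ext ((Over.w (QuotSch.unitSec (G := G) a.base)).trans (by
        simpa using (Over.w a.sec.down).symm)))) ≫ uM x r hs (q.obj a)
  have hη : ∀ a, 𝒳.p.map (η a) = eqToHom ((L.w_obj a).trans (R.w_obj a).symm) := fun a => by
    rw [Functor.map_comp, ASt.map_w, map_uM]
    exact eqToHom_sandwich _ _ (QuotSch.unitSec_snd (G := G) a.base) _ _ _ _ _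
  have hi : ∀ a, IsIso (η a) := fun a => isIso_of_vert (η a) (hη a)
  exact ⟨(BasedNatIso.mkNatIso (F := L) (G := R)
    (NatIso.ofComponents (fun a => @asIso _ _ _ _ (η a) (hi a)) fun {a b} g => by
      change x.map _ ≫ x.map _ ≫ uM x r hs (q.obj b) =
        (x.map _ ≫ uM x r hs (q.obj a)) ≫ fMap x r hs (q.map g)
      rw [Category.assoc, uM_fMap, xmap, ← Category.assoc, ← Category.assoc, ← x.toFunctor.map_comp,
        ← x.toFunctor.map_comp]
      exact congrArg (fun m => x.map m ≫ _) (Over.OverMorphism.ext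
        (QuotSch.unitSec_natural (G := G) g.hom).symm))
    fun a => isHomLift_id_of_map (η a) (L.w_obj a) (hη a)).symm⟩

include x r hs in
theorem full_faithful_pointFun [IsAffineHom G.hom] :
    (pointFun x r hs).toFunctor.Faithful ∧ (pointFun x r hs).toFunctor.Full := by
  haveI : FibCat.IsFibGrpd (AlgSt.BG Scheme.fppfPrecoverage G).p := QuotSch.isFibGrpd_quot
  let T₀ : Over S := Over.mk (𝟙 S)
  let s := QuotSch.qObj Scheme.fppfPrecoverage G (AlgSt.trivAction G) (toUnit T₀)
  have h : ∀ (A : (AlgSt.BG Scheme.fppfPrecoverage G).obj) (_ : A ⟶ s),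
      Function.Bijective (Gerb.autMap (pointFun x r hs) A) := fun A m =>
    autMap_bijective A (σ := m.cart.lift (m.base ≫ QuotSch.unitSec T₀) (𝟙 A.base) (by
      rw [Category.assoc, Category.id_comp]
      exact (congrArg (m.base ≫ ·) (QuotSch.unitSec_snd T₀)).trans (Category.comp_id _))) (m.cart.lift_snd _ _ _)
      x r hs
  haveI hf : (pointFun x r hs).toFunctor.Faithful :=
    GerbeEq.faithful_of_locInjective (s := s) isGerbe_BG Over.mkIdTerminal fun A m => (h A m).1
  exact ⟨hf, GerbeEq.full_of_gerbe (s := s) isGerbe_BG (isPrestack_of_isStack hs) Over.mkIdTerminal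
    fun A m => (h A m).2⟩

theorem isMono_pointFun [IsAffineHom G.hom] [Flat G.hom] [LocallyOfFinitePresentation G.hom]
    (h𝒳 : AlgSt.IsAlgStack Scheme.fppfPrecoverage 𝒳) : AlgSt.IsMono (pointFun x r h𝒳.isStack) := by
  haveI : FibCat.IsFibGrpd (AlgSt.BG Scheme.fppfPrecoverage G).p := QuotSch.isFibGrpd_quot
  let φ := pointFun x r h𝒳.isStack
  haveI : φ.toFunctor.Faithful := (full_faithful_pointFun x r h𝒳.isStack).1
  haveI : φ.toFunctor.Full := (full_faithful_pointFun x r h𝒳.isStack).2
  let qF := BasedFunctor.comp (ofOverCat (𝟙_ (Over S))) (quotMap Scheme.fppfPrecoverage G (AlgSt.trivAction G))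
  obtain ⟨e⟩ := quotMap_pointFun x r h𝒳.isStack
  have hx : AlgSt.RepByAlgSp1 (BasedFunctor.comp qF φ) :=
    repByAlgSp1_of_with (repByAlgSpWith_congr (f := x)
      (wL (ofOverCat (𝟙_ (Over S))) e).symm
      (repByAlgSp1_iff_top.1 (repByAlgSp1_of_diag h𝒳.diag x)))
  have hq : AlgSt.RepByAlgSpWith
      (IsSurjectiveMor ⊓ LocP @Flat ⊓ LocP @LocallyOfFinitePresentation) qF :=
    QuotSch.repByAlgSpWith_qFun fun A =>
      ⟨⟨QuotSch.surjective_π A, QuotSch.locP_π (P := @Flat) inferInstance A⟩,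
        QuotSch.locP_π (P := @LocallyOfFinitePresentation) inferInstance A⟩
  refine repByAlgSpWith_iff.2 ⟨inferInstance, fun U y => ?_⟩
  have hfp : Stk.IsStack (QuotSh.J Scheme.fppfPrecoverage S) (FibCat.fp y φ) :=
    isStack_fp (isAlgStack_overCat U).isStack QuotSch.isStack_quot (isPrestack_of_isStack h𝒳.isStack)
  haveI : FibCat.IsFibGrpd (FibCat.fp y φ).p := isFibGrpd_fp
  haveI : (FibCat.fpFst y φ).toFunctor.Faithful := faithful_fpFst
  haveI : (FibCat.fp y φ).p.Faithful := ⟨fun {m n a b} h =>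
    (FibCat.fpFst y φ).toFunctor.map_injective ((FibCat.overCat U).p.map_injective h)⟩
  have hsh : Presheaf.IsSheaf (J S) (fib y φ) := (isSheaf_iff_isSheaf_of_type _ _).2
    (isStack_ofPsh_iff.1 (isStack_of_isEquivOver (isEquivOver_toPsh (𝒳 := FibCat.fp y φ)) hfp))
  let F : Sp S := ⟨fib y φ, hsh⟩
  obtain ⟨hsE, hE⟩ := (repByAlgSp1_iff.1 hx).2 U y
  let E : AlgSp.Space S := ⟨⟨fib y (BasedFunctor.comp qF φ), hsE⟩, hE⟩
  have hA : IsAlgSpace F := by
    refine Groth.Agent.S10104.result S F E (ObjectProperty.homMk (clFun (compF qF φ y))) ?_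
    intro V ξ F' fst snd sq
    obtain ⟨yv, a, sq'⟩ := exists_isPullback_compF (f := qF) y ξ
    obtain ⟨hsV, hAV, hPV⟩ := (repByAlgSpWith_iff.1 hq).2 V yv
    let i := sq'.isoIsPullback _ _ sq
    obtain ⟨hs', hA'⟩ := IsAlgSpaceP.of_iso ⟨hsV, hAV⟩ i
    obtain ⟨j⟩ := arrowIso_of_hom
      (a := (ObjectProperty.homMk (fibπ yv qF) : (⟨fib yv qF, hsV⟩ : Sp S) ⟶ (yon S).obj V))
      (b := (ObjectProperty.homMk snd : (⟨F', hs'⟩ : Sp S) ⟶ (yon S).obj V)) i
      (sq'.isoIsPullback_hom_snd _ _ sq).symm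
    exact ⟨hs', hA', ((IsSurjectiveMor ⊓ LocP @Flat ⊓ LocP @LocallyOfFinitePresentation :
      MorphismProperty (Sp S)).arrow_mk_iso_iff j).1 hPV⟩
  refine ⟨hsh, hA, ?_⟩
  have : ∀ T, Mono ((fibπ y φ).app T) := fun T => (mono_iff_injective _).2 fun c c' e =>
    Groth.Agent.Boot.fpHom_injective_of_full y T.unop (congrArg ULift.down e)
  haveI : Mono (fibπ y φ) := NatTrans.mono_of_mono_app _
  exact (sheafToPresheaf _ _).mono_of_mono_map (inferInstanceAs (Mono (fibπ y φ)))

end

/-- In the case of a point over the base itself with affine fppf stabilizer, let `S` be a scheme, `𝒳` an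
algebraic stack over `(Sch/S)` for the fppf topology, `x : (Sch/S) ⟶ 𝒳` a functor over `(Sch/S)` (an
`S`-point of `𝒳`), and `G` a group scheme over `S` which is affine, flat and locally of finite
presentation over `S` and represents the automorphism presheaf of `x` (group isomorphisms `G(T) ≅
Aut_T(x_T)` natural in the scheme `T` over `S`; `G` is the stabilizer of `x`). Then there is a
functor `ι : BG ⟶ 𝒳` over `(Sch/S)`, where `BG` is the classifying stack of fppf `G`-torsors that
are schemes, which is a monomorphism (representable by algebraic spaces and a monomorphism after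
every base change to a scheme) and whose composite with the canonical `S ⟶ BG` (the trivial torsor)
is isomorphic, as a functor over `(Sch/S)`, to `x`. (The source states this for a point with values
in any scheme `T` over `S`, with target `𝒳 ×_S T`, and for the stabilizer any fppf group algebraic
space; its proof reduces to `T = S`, the case stated here, with the stabilizer an affine group
scheme, the case in which the classifying stack of scheme torsors is the whole classifying stack.) -/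
theorem result
    (S : Scheme.{u}) (𝒳 : AlgSt.Cat S) (h𝒳 : AlgSt.IsAlgStack Scheme.fppfPrecoverage 𝒳)
    (x : FibCat.overCat (Over.mk (𝟙 S)) ⥤ᵇ 𝒳)
    (G : Over S) [GrpObj G] [IsAffineHom G.hom] [Flat G.hom] [LocallyOfFinitePresentation G.hom]
    (r : Gerb.AutRep x (Gerb.ptsGrp (Over.mk (𝟙 S)) G)) :
    ∃ ι : AlgSt.BG Scheme.fppfPrecoverage G ⥤ᵇ 𝒳,
      AlgSt.IsMono ι ∧
      Nonempty (BasedFunctor.comp (AlgSt.quotMap Scheme.fppfPrecoverage G (AlgSt.trivAction G)) ι ≅
        BasedFunctor.comp (AlgSt.toOverCat (Over.mk (𝟙 S))) x) := by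
  haveI : FibCat.IsFibGrpd 𝒳.p := h𝒳.isStack.1
  exact ⟨Groth.Agent.BGPointLib.pointFun x r h𝒳.isStack, isMono_pointFun x r h𝒳,
    quotMap_pointFun x r h𝒳.isStack⟩

end Groth.Agent.S19642
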