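import Groth.Statements.S19649
import Mathlib

set_option autoImplicit false
universe u v
open Instab

namespace Groth.Agent.S19649



open MvPolynomial DirectSum

theorem nak {B : Type*} [CommRing B] {Q : Type*} [AddCommGroup Q] [Module B Q] [Module.Finite B Q]
    (I : Ideal B) (z : B) (h : ∀ x : Q, z • x ∈ I • (⊤ : Submodule B Q)) :
    ∃ (a : B) (n : ℕ), a - z ^ n ∈ I ∧ ∀ x : Q, a • x = 0 := by
  obtain ⟨q, hq, hn, hc, h0⟩ :=
    LinearMap.exists_monic_and_natDegree_eq_and_coeff_mem_pow_and_aeval_eq_zero B
      (algebraMap B (Module.End B Q) z) I (by rintro _ ⟨x, rfl⟩; simpa using h x)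
  refine ⟨q.eval z, q.natDegree, ?_, fun x => ?_⟩
  · rw [Polynomial.eval_eq_sum_range, Finset.sum_range_succ, hq.coeff_natDegree, one_mul,
      add_sub_cancel_right]
    refine Ideal.sum_mem _ fun i hi => Ideal.mul_mem_right _ _ ?_
    have h1 := hc i
    exact Ideal.pow_le_self (by have := Finset.mem_range.mp hi; omega) h1
  · rw [Polynomial.aeval_algebraMap_apply_eq_algebraMap_eval] at h0
    have := LinearMap.congr_fun h0 x
    simpa using this

theorem tors {R σ : Type*} [CommRing R] (a d : MvPolynomial σ R) (h : a * d = 0) :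
    ∃ N : ℕ, C (constantCoeff a) ^ N * d = 0 := by
  classical
  have key : ∀ (j : ℕ) (s : σ →₀ ℕ), s.degree = j → constantCoeff a ^ (j + 1) * coeff s d = 0 := by
    intro j
    induction j using Nat.strong_induction_on with
    | _ j ih =>
      intro s hs
      have h1 := congrArg (coeff s) h
      rw [coeff_mul, coeff_zero,
        ← Finset.add_sum_erase _ _ (show ((0 : σ →₀ ℕ), s) ∈ Finset.HasAntidiagonal.antidiagonal s by simp)] at h1
      have h2 := congrArg (constantCoeff a ^ j * ·) h1
      simp only [mul_add, Finset.mul_sum, mul_zero] at h2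
      rw [Finset.sum_eq_zero, add_zero] at h2
      · rw [pow_succ, mul_assoc]
        exact h2
      · rintro ⟨x, y⟩ hxy
        simp only [Finset.mem_erase, ne_eq, Prod.mk.injEq] at hxy
        have hx : x ≠ 0 := by
          rintro rfl
          exact hxy.1 ⟨rfl, by simpa using Finset.HasAntidiagonal.mem_antidiagonal.mp hxy.2⟩
        have hlt : y.degree < j := by
          have hd : x.degree + y.degree = j := by
            rw [← hs, ← Finset.HasAntidiagonal.mem_antidiagonal.mp hxy.2, map_add]
          have : x.degree ≠ 0 := fun h0 => hx ((Finsupp.degree_eq_zero_iff x).mp h0)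
          omega
        obtain ⟨t, ht⟩ := Nat.exists_eq_add_of_le (Nat.succ_le_of_lt hlt)
        rw [ht, pow_add]
        have := ih _ hlt y rfl
        calc constantCoeff a ^ (y.degree + 1) * constantCoeff a ^ t * (coeff x a * coeff y d)
            = constantCoeff a ^ t * coeff x a * (constantCoeff a ^ (y.degree + 1) * coeff y d) := by ring
          _ = 0 := by rw [this, mul_zero]
  refine ⟨(d.support.sup fun s => s.degree) + 1, MvPolynomial.ext _ _ fun s => ?_⟩
  rw [← map_pow, coeff_C_mul, coeff_zero]
  by_cases hs : s ∈ d.support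
  · obtain ⟨t, ht⟩ := Nat.exists_eq_add_of_le (Finset.le_sup (f := fun s : σ →₀ ℕ => s.degree) hs)
    rw [ht, show s.degree + t + 1 = t + (s.degree + 1) by omega, pow_add, mul_assoc, key _ s rfl, mul_zero]
  · rw [notMem_support_iff.mp hs, mul_zero]

theorem local_basis {R : Type*} [CommRing R] {M : Type*} [AddCommGroup M] [Module R M]
    [Module.Finite R M] [Module.Projective R M] {k : ℕ} (g : Fin k → M)
    (hg : Submodule.span R (Set.range g) = ⊤) (p : PrimeSpectrum R) :
    ∃ r : R, r ∉ p.asIdeal ∧ ∃ (m : ℕ) (a : Fin m → Fin k),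
      (∀ x, r • x ∈ Submodule.span R (Set.range (g ∘ a))) ∧
      (∀ c : Fin m → R, ∑ i, c i • g (a i) = 0 → ∀ i, r * c i = 0) := by
  classical
  let S := p.asIdeal.primeCompl
  let Rp := Localization.AtPrime p.asIdeal
  let Mp := LocalizedModule S M
  let ι := LocalizedModule.mkLinearMap S M
  have hsp : Submodule.span Rp (Set.range (ι ∘ g)) = ⊤ := by
    rw [Set.range_comp]
    exact span_eq_top_of_isLocalizedModule Rp S ι hg
  have : Module.Finite Rp Mp := ⟨⟨Finset.univ.image (ι ∘ g), by rw [Finset.coe_image, Finset.coe_univ, Set.image_univ]; exact hsp⟩⟩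
  have : Module.FinitePresentation Rp Mp := Module.finitePresentation_of_projective Rp Mp
  obtain ⟨κ, a, b, hb⟩ := Module.exists_basis_of_span_of_flat (ι ∘ g) hsp
  have : Finite κ := Module.Finite.finite_basis b
  let : Fintype κ := Fintype.ofFinite κ
  let e := Fintype.equivFin κ
  let b' := b.reindex e
  have hb' : ∀ i, b' i = ι (g (a (e.symm i))) := fun i => by simp [b', hb]
  let f : Fin (Fintype.card κ) → Fin k := a ∘ e.symm
  have hb'' : ∀ i, b' i = ι (g (f i)) := hb'
  -- cokernel
  have hco : ∀ j : Fin k, ∃ s : S, (s : R) • g j ∈ Submodule.span R (Set.range (g ∘ f)) := by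
    intro j
    obtain ⟨s, hs⟩ := IsLocalization.exist_integer_multiples S Finset.univ fun i => b'.repr (ι (g j)) i
    choose x hx using fun i => hs i (Finset.mem_univ i)
    have : ι ((s : R) • g j) = ι (∑ i, x i • g (f i)) := by
      rw [map_smul, map_sum]
      conv_lhs => rw [← b'.sum_repr (ι (g j)), Finset.smul_sum]
      refine Finset.sum_congr rfl fun i _ => ?_
      rw [map_smul, ← algebraMap_smul Rp (x i), hx i, hb'', smul_assoc]
    obtain ⟨t, ht⟩ := (IsLocalizedModule.eq_iff_exists S ι).mp this
    refine ⟨t * s, ?_⟩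
    rw [Submonoid.coe_mul, mul_smul]
    have ht' : (t : R) • (s : R) • g j = (t : R) • ∑ i, x i • g (f i) := ht
    rw [ht']
    exact Submodule.smul_mem _ _ (Submodule.sum_mem _ fun i _ =>
      Submodule.smul_mem _ _ (Submodule.subset_span ⟨i, rfl⟩))
  choose s hs using hco
  let r1 : S := ∏ j, s j
  have h1 : ∀ x : M, (r1 : R) • x ∈ Submodule.span R (Set.range (g ∘ f)) := by
    intro x
    have hx : x ∈ Submodule.span R (Set.range g) := hg ▸ Submodule.mem_top
    induction hx using Submodule.span_induction with
    | mem y hy =>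
      obtain ⟨j, rfl⟩ := hy
      obtain ⟨q, hq⟩ : (s j : R) ∣ (r1 : R) := by
        simp only [r1, Submonoid.coe_finset_prod]
        exact Finset.dvd_prod_of_mem _ (Finset.mem_univ j)
      rw [hq, mul_comm, mul_smul]
      exact Submodule.smul_mem _ _ (hs j)
    | zero => simp
    | add y z _ _ hy hz => rw [smul_add]; exact add_mem hy hz
    | smul c y _ hy => rw [smul_comm]; exact Submodule.smul_mem _ _ hy
  let φ := Fintype.linearCombination R (g ∘ f)
  have hφ : ∀ x : M, (r1 : R) • x ∈ LinearMap.range φ := fun x => by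
    rw [Fintype.range_linearCombination]; exact h1 x
  obtain ⟨ψ, hψ⟩ := Module.projective_lifting_property φ.rangeRestrict
    (((r1 : R) • LinearMap.id).codRestrict (LinearMap.range φ) hφ) φ.surjective_rangeRestrict
  let π := (r1 : R) • LinearMap.id - ψ.comp φ
  have hπ : ∀ y, φ (π y) = 0 := by
    intro y
    have := congrArg Subtype.val (LinearMap.congr_fun hψ (φ y))
    simp [π, map_sub] at this ⊢
    rw [this, sub_self]
  have hker : ∀ c : Fin (Fintype.card κ) → R, φ c = 0 → ∀ i, ∃ t : S, (t : R) * c i = 0 := by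
    intro c hc i
    have h0 : ∑ i, algebraMap R Rp (c i) • b' i = 0 := by
      have := congrArg ι hc
      simp only [φ, Fintype.linearCombination_apply, map_sum, map_smul, map_zero, Function.comp_apply] at this
      rw [← this]
      refine Finset.sum_congr rfl fun i _ => ?_
      rw [algebraMap_smul, hb'']
    have := Fintype.linearIndependent_iff.mp b'.linearIndependent _ h0 i
    exact (IsLocalization.map_eq_zero_iff S Rp _).mp this
  choose t ht using fun i j => hker (π (Pi.single i 1)) (hπ _) j
  let r2 : S := ∏ i, ∏ j, t i j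
  refine ⟨((r2 * (r1 * r1) : S) : R), (r2 * (r1 * r1)).2, _, f, fun x => ?_, ?_⟩
  · rw [Submonoid.coe_mul, Submonoid.coe_mul, ← mul_assoc, mul_smul]
    exact Submodule.smul_mem _ _ (h1 x)
  · intro c hc j
    have hc0 : φ c = 0 := by simpa [φ, Fintype.linearCombination_apply] using hc
    have h2 : π c = (r1 : R) • c := by simp [π, hc0]
    have h3 : (r2 : R) • π c = 0 := by
      rw [← Finset.univ_sum_single c, map_sum, Finset.smul_sum]
      refine Finset.sum_eq_zero fun i _ => ?_
      have : Pi.single i (c i) = c i • (Pi.single i 1 : Fin (Fintype.card κ) → R) := by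
        rw [← Pi.single_smul, smul_eq_mul, mul_one]
      rw [this, map_smul]
      ext j'
      obtain ⟨q, hq⟩ : (t i j' : R) ∣ (r2 : R) := by
        simp only [r2, Submonoid.coe_finset_prod]
        exact (Finset.dvd_prod_of_mem (fun j => ((t i j : S) : R)) (Finset.mem_univ j')).trans
          (Finset.dvd_prod_of_mem (fun i => ∏ j, ((t i j : S) : R)) (Finset.mem_univ i))
      simp only [Pi.smul_apply, smul_eq_mul, Pi.zero_apply, hq]
      calc (t i j' : R) * q * (c i * π (Pi.single i 1) j')
          = q * c i * ((t i j' : R) * π (Pi.single i 1) j') := by ring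
        _ = 0 := by rw [ht i j', mul_zero]
    have h4 := congrFun h3 j
    rw [h2] at h4
    simp only [Pi.smul_apply, smul_eq_mul, Pi.zero_apply] at h4
    simp only [Submonoid.coe_mul]
    calc (r2 : R) * ((r1 : R) * r1) * c j = (r1 : R) * ((r2 : R) * ((r1 : R) * c j)) := by ring
      _ = 0 := by rw [h4, mul_zero]

section graded

variable {R : Type*} [CommRing R] {n : ℕ} {P : Type*} [AddCommGroup P]
    [Module (MvPolynomial (Fin n) R) P] [Module R P] [IsScalarTower R (MvPolynomial (Fin n) R) P]
    (ℳ : (Fin n → ℤ) → Submodule R P) [DirectSum.Decomposition ℳ]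
    [SetLike.GradedSMul (MvPolynomial.weightedHomogeneousSubmodule R (fun i : Fin n => (Pi.single i 1 : Fin n → ℤ))) ℳ]

/-- The component of degree `δ`. -/
noncomputable def proj (δ : Fin n → ℤ) : P →+ P where
  toFun x := (DirectSum.decompose ℳ x δ : P)
  map_zero' := by simp
  map_add' x y := by simp

omit [Module (MvPolynomial (Fin n) R) P] [IsScalarTower R (MvPolynomial (Fin n) R) P]
  [SetLike.GradedSMul (MvPolynomial.weightedHomogeneousSubmodule R (fun i : Fin n => (Pi.single i 1 : Fin n → ℤ))) ℳ] in
theorem proj_of_mem {δ : Fin n → ℤ} {x : P} (hx : x ∈ ℳ δ) : proj ℳ δ x = x :=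
  DirectSum.decompose_of_mem_same ℳ hx

omit [Module (MvPolynomial (Fin n) R) P] [IsScalarTower R (MvPolynomial (Fin n) R) P]
  [SetLike.GradedSMul (MvPolynomial.weightedHomogeneousSubmodule R (fun i : Fin n => (Pi.single i 1 : Fin n → ℤ))) ℳ] in
theorem proj_of_mem_ne {δ δ' : Fin n → ℤ} {x : P} (hx : x ∈ ℳ δ') (h : δ' ≠ δ) : proj ℳ δ x = 0 :=
  DirectSum.decompose_of_mem_ne ℳ hx h

omit [IsScalarTower R (MvPolynomial (Fin n) R) P] [DirectSum.Decomposition ℳ] in
theorem mono_mem {δ : Fin n → ℤ} {x : P} (hx : x ∈ ℳ δ) (s : Fin n →₀ ℕ) (c : R) :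
    (monomial s c : MvPolynomial (Fin n) R) • x ∈ ℳ (Finsupp.weight (fun i : Fin n => (Pi.single i 1 : Fin n → ℤ)) s + δ) := by
  have h : monomial s c ∈ weightedHomogeneousSubmodule R (fun i : Fin n => (Pi.single i 1 : Fin n → ℤ))
      (Finsupp.weight (fun i : Fin n => (Pi.single i 1 : Fin n → ℤ)) s) :=
    isWeightedHomogeneous_monomial _ s c rfl
  exact SetLike.GradedSMul.smul_mem h hx

omit [IsScalarTower R (MvPolynomial (Fin n) R) P] in
theorem proj_smul {δ : Fin n → ℤ} {x : P} (hx : x ∈ ℳ δ) (a : MvPolynomial (Fin n) R) :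
    proj ℳ δ (a • x) = (C (constantCoeff a) : MvPolynomial (Fin n) R) • x := by
  induction a using MvPolynomial.induction_on' with
  | monomial s c =>
    rcases eq_or_ne s 0 with rfl | hs
    · have h0 := mono_mem ℳ hx 0 c
      rw [map_zero, zero_add] at h0
      rw [proj_of_mem ℳ h0]
      simp
    · rw [proj_of_mem_ne ℳ (mono_mem ℳ hx s c)]
      · simp [constantCoeff_monomial, hs]
      · intro h
        apply hs
        ext i
        have := congrFun (add_eq_right.mp h) i
        rw [Finsupp.weight_apply, Finsupp.sum_fintype _ _ (by simp), Finset.sum_apply] at this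
        simp [Pi.single_apply] at this
        exact_mod_cast this
  | add a b ha hb => simp [add_smul, ha, hb]

omit [IsScalarTower R (MvPolynomial (Fin n) R) P] in
theorem proj_span {ι : Type*} [Fintype ι] (d : ι → Fin n → ℤ) (f : ι → P) (hf : ∀ i, f i ∈ ℳ (d i))
    (δ : Fin n → ℤ) {x : P} (hx : x ∈ Submodule.span (MvPolynomial (Fin n) R) (Set.range f)) :
    proj ℳ δ x ∈ Submodule.span (MvPolynomial (Fin n) R) (Set.range f) := by
  obtain ⟨c, rfl⟩ := (Submodule.mem_span_range_iff_exists_fun _).mp hx
  rw [map_sum]
  refine Submodule.sum_mem _ fun i _ => ?_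
  induction c i using MvPolynomial.induction_on' with
  | monomial s a =>
    by_cases h : Finsupp.weight (fun i : Fin n => (Pi.single i 1 : Fin n → ℤ)) s + d i = δ
    · rw [proj_of_mem ℳ (h ▸ mono_mem ℳ (hf i) s a)]
      exact Submodule.smul_mem _ _ (Submodule.subset_span ⟨i, rfl⟩)
    · rw [proj_of_mem_ne ℳ (mono_mem ℳ (hf i) s a) h]
      exact zero_mem _
  | add a b ha hb => rw [add_smul, map_add]; exact add_mem ha hb

end graded


open MvPolynomial DirectSum in
/-- The case of a point, in graded-module form over an affine base. Let R be a commutative ring, n a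
natural number, A = R[x_1, …, x_n] the polynomial ring graded by ℤ^n with x_i of degree the i-th
basis vector (the weight grading of the standard action of the n-dimensional split torus on affine
n-space), and P a finitely generated projective A-module carrying a compatible ℤ^n-grading (an
equivariant vector bundle on affine n-space over Spec R). Then P is graded-free Zariski-locally on
Spec R: for every prime p of R there are r ∉ p and finitely many homogeneous elements f_1, …, f_m of
P such that, after inverting r, the f_i form an A-basis of P — every element of P multiplied by a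
power of r is an A-linear combination of the f_i, and the coefficients of every A-linear relation
among the f_i are killed by a power of r. (This is the case of a point of the source's description
of filtered points of quotient stacks by the general linear group, whose argument the source gives
in full: an equivariant vector bundle on affine n-space over a base is, locally on the base, the
standard one attached to a cocharacter; the general case, an identification of mapping stacks, is
not stated here.) -/
theorem result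
    {R : Type u} [CommRing R] (n : ℕ)
    {P : Type v} [AddCommGroup P] [Module (MvPolynomial (Fin n) R) P] [Module R P]
    [IsScalarTower R (MvPolynomial (Fin n) R) P]
    (ℳ : (Fin n → ℤ) → Submodule R P) [DirectSum.Decomposition ℳ]
    [SetLike.GradedSMul (MvPolynomial.weightedHomogeneousSubmodule R (fun i : Fin n => (Pi.single i 1 : Fin n → ℤ))) ℳ]
    [Module.Finite (MvPolynomial (Fin n) R) P] [Module.Projective (MvPolynomial (Fin n) R) P]
    (p : PrimeSpectrum R) :
    ∃ r : R, r ∉ p.asIdeal ∧ ∃ (m : ℕ) (d : Fin m → (Fin n → ℤ)) (f : Fin m → P), (∀ i, f i ∈ ℳ (d i)) ∧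
      (∀ q : P, ∃ (N : ℕ) (c : Fin m → MvPolynomial (Fin n) R), (MvPolynomial.C r : MvPolynomial (Fin n) R) ^ N • q = ∑ i, c i • f i) ∧
      (∀ c : Fin m → MvPolynomial (Fin n) R, ∑ i, c i • f i = 0 →
        ∃ N : ℕ, ∀ i, (MvPolynomial.C r : MvPolynomial (Fin n) R) ^ N * c i = 0) := by
  classical
  let A := MvPolynomial (Fin n) R
  let m : Ideal A := RingHom.ker (constantCoeff (R := R) (σ := Fin n))
  let N : Submodule A P := m • ⊤
  have hmk : ∀ (a : A) (x : P), (Submodule.Quotient.mk (a • x) : P ⧸ N) =
      constantCoeff a • Submodule.Quotient.mk x := by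
    intro a x
    rw [← Submodule.Quotient.mk_smul, ← algebraMap_smul A (constantCoeff a) x, Submodule.Quotient.eq,
      ← sub_smul]
    refine Submodule.smul_mem_smul ?_ Submodule.mem_top
    show constantCoeff (a - algebraMap R (MvPolynomial (Fin n) R) (constantCoeff a)) = 0
    rw [map_sub, MvPolynomial.algebraMap_eq, constantCoeff_C, sub_self]
  -- homogeneous generators
  obtain ⟨k, g, dg, hg, hgspan⟩ : ∃ (k : ℕ) (g : Fin k → P) (dg : Fin k → (Fin n → ℤ)),
      (∀ i, g i ∈ ℳ (dg i)) ∧ Submodule.span A (Set.range g) = ⊤ := by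
    obtain ⟨G, hG⟩ := (Module.finite_def.mp ‹Module.Finite (MvPolynomial (Fin n) R) P›)
    let T : Finset (Σ _ : Fin n → ℤ, P) :=
      G.biUnion fun x => (DirectSum.decompose ℳ x).support.image fun δ => ⟨δ, (DirectSum.decompose ℳ x δ : P)⟩
    let e := T.equivFin
    refine ⟨T.card, fun i => (e.symm i).1.2, fun i => (e.symm i).1.1, fun i => ?_, ?_⟩
    · have hm := (e.symm i).2
      simp only [T, Finset.mem_biUnion, Finset.mem_image] at hm
      obtain ⟨x, -, δ, -, hx⟩ := hm
      simp only [← hx]
      exact SetLike.coe_mem _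
    · rw [eq_top_iff, ← hG, Submodule.span_le]
      intro x hx
      rw [← DirectSum.sum_support_decompose ℳ x]
      refine Submodule.sum_mem _ fun δ hδ => Submodule.subset_span ⟨e ⟨⟨δ, (DirectSum.decompose ℳ x δ : P)⟩, ?_⟩, ?_⟩
      · simp only [T, Finset.mem_biUnion, Finset.mem_image]
        exact ⟨x, hx, δ, hδ, rfl⟩
      · simp
  have hgbar : Submodule.span R (Set.range fun i => (Submodule.Quotient.mk (g i) : P ⧸ N)) = ⊤ := by
    rw [eq_top_iff]
    intro y _
    obtain ⟨x, rfl⟩ := Submodule.Quotient.mk_surjective N y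
    have hx : x ∈ Submodule.span A (Set.range g) := hgspan ▸ Submodule.mem_top
    obtain ⟨c, rfl⟩ := (Submodule.mem_span_range_iff_exists_fun _).mp hx
    rw [← Submodule.mkQ_apply, map_sum]
    refine Submodule.sum_mem _ fun i _ => ?_
    rw [Submodule.mkQ_apply, hmk]
    exact Submodule.smul_mem _ _ (Submodule.subset_span ⟨i, rfl⟩)
  have : Module.Finite R (P ⧸ N) :=
    ⟨⟨Finset.univ.image fun i => (Submodule.Quotient.mk (g i) : P ⧸ N), by simpa using hgbar⟩⟩
  have : Module.Projective R (P ⧸ N) := by
    obtain ⟨q, hq⟩ := Module.Projective.out (R := A) (P := P)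
    let cc : (P →₀ A) → (P →₀ R) := fun v => v.mapRange constantCoeff (map_zero _)
    let s0 : P →+ (P →₀ R) := (Finsupp.mapRange.addMonoidHom (constantCoeff (R := R) (σ := Fin n)).toAddMonoidHom).comp q.toAddMonoidHom
    have hs0 : ∀ (a : A) x, s0 (a • x) = constantCoeff a • s0 x := by
      intro a x
      ext y
      simp [s0]
    have hs0N : ∀ x ∈ N, s0 x = 0 := by
      intro x hx
      refine Submodule.smul_induction_on hx (fun a ha y _ => ?_) (fun y z hy hz => ?_)
      · rw [hs0, show constantCoeff a = 0 from ha, zero_smul]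
      · rw [map_add, hy, hz, add_zero]
    let sbar : (P ⧸ N) →ₗ[R] (P →₀ R) :=
      { toFun := QuotientAddGroup.lift N.toAddSubgroup s0 hs0N
        map_add' := map_add _
        map_smul' := by
          intro c y
          obtain ⟨x, rfl⟩ := Submodule.Quotient.mk_surjective N y
          rw [← Submodule.Quotient.mk_smul, RingHom.id_apply, ← algebraMap_smul A c x]
          show s0 (algebraMap R A c • x) = c • s0 x
          rw [hs0, MvPolynomial.algebraMap_eq, constantCoeff_C] }
    refine Module.Projective.of_split sbar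
      (Finsupp.linearCombination R fun x : P => (Submodule.Quotient.mk x : P ⧸ N)) ?_
    ext y
    obtain ⟨x, rfl⟩ := Submodule.Quotient.mk_surjective N y
    show Finsupp.linearCombination R (fun x : P => (Submodule.Quotient.mk x : P ⧸ N)) (s0 x) = _
    conv_rhs => rw [LinearMap.id_apply, ← hq x]
    simp only [s0, AddMonoidHom.comp_apply, Finsupp.mapRange.addMonoidHom_apply,
      Finsupp.linearCombination_apply]
    rw [Finsupp.sum_mapRange_index (by simp)]
    rw [← Submodule.mkQ_apply, map_finsuppSum]
    refine Finset.sum_congr rfl fun y _ => ?_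
    simp only [id_eq, Submodule.mkQ_apply]
    exact (hmk _ _).symm
  obtain ⟨r, hr, μ, a, hspan, hrel⟩ := local_basis _ hgbar p
  refine ⟨r, hr, μ, fun i => dg (a i), fun i => g (a i), fun i => hg _, ?_⟩
  let L := Submodule.span A (Set.range fun i => g (a i))
  -- Nakayama for the cokernel
  obtain ⟨a1, n1, hm1, ha1⟩ := nak (Q := P ⧸ L) m (C r : A) (by
    intro y
    obtain ⟨x, rfl⟩ := Submodule.Quotient.mk_surjective L y
    obtain ⟨c, hc⟩ := (Submodule.mem_span_range_iff_exists_fun _).mp (hspan (Submodule.Quotient.mk x))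
    have hmem : (C r : A) • x - ∑ i, (C (c i) : A) • g (a i) ∈ N := by
      rw [← Submodule.Quotient.mk_eq_zero, Submodule.Quotient.mk_sub, hmk, constantCoeff_C,
        ← Submodule.mkQ_apply, ← Submodule.mkQ_apply, map_sum]
      simp only [Submodule.mkQ_apply, hmk, constantCoeff_C]
      rw [← hc]
      simp
    have h2 := Submodule.mem_map_of_mem (f := L.mkQ) hmem
    rw [Submodule.map_smul'', Submodule.map_top, Submodule.range_mkQ] at h2
    have h3 : L.mkQ (∑ i, (C (c i) : A) • g (a i)) = 0 := by
      rw [Submodule.mkQ_apply, Submodule.Quotient.mk_eq_zero]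
      exact Submodule.sum_mem _ fun i _ => Submodule.smul_mem _ _ (Submodule.subset_span ⟨i, rfl⟩)
    rw [map_sub, h3, sub_zero, map_smul] at h2
    exact h2)
  have hc1 : constantCoeff a1 = r ^ n1 := by
    have := (RingHom.mem_ker).mp hm1
    rwa [map_sub, map_pow, constantCoeff_C, sub_eq_zero] at this
  have hcok : ∀ x : P, (C r ^ n1 : A) • x ∈ L := by
    intro x
    rw [← DirectSum.sum_support_decompose ℳ x, Finset.smul_sum]
    refine Submodule.sum_mem _ fun δ _ => ?_
    have hx' := ha1 (Submodule.Quotient.mk (DirectSum.decompose ℳ x δ : P))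
    rw [← Submodule.Quotient.mk_smul, Submodule.Quotient.mk_eq_zero] at hx'
    have := proj_span ℳ _ _ (fun i => hg (a i)) δ hx'
    rwa [proj_smul ℳ (SetLike.coe_mem _), hc1, map_pow] at this
  refine ⟨fun q => ?_, fun c hc => ?_⟩
  · obtain ⟨c, hc⟩ := (Submodule.mem_span_range_iff_exists_fun _).mp (hcok q)
    exact ⟨n1, c, hc.symm⟩
  · let Φ := Fintype.linearCombination A fun i => g (a i)
    have hΦr : ∀ x : P, (C r ^ n1 : A) • x ∈ LinearMap.range Φ := fun x => by
      rw [Fintype.range_linearCombination]; exact hcok x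
    obtain ⟨Ψ, hΨ⟩ := Module.projective_lifting_property Φ.rangeRestrict
      (((C r ^ n1 : A) • LinearMap.id).codRestrict (LinearMap.range Φ) hΦr) Φ.surjective_rangeRestrict
    let π := (C r ^ n1 : A) • LinearMap.id - Ψ.comp Φ
    have hπ : ∀ y, Φ (π y) = 0 := by
      intro y
      have := congrArg Subtype.val (LinearMap.congr_fun hΨ (Φ y))
      simp [π, map_sub] at this ⊢
      rw [this, sub_self]
    have hπker : ∀ y, Φ y = 0 → π y = (C r ^ n1 : A) • y := fun y hy => by simp [π, hy]
    let e : Fin μ → LinearMap.range π := fun i => ⟨π (Pi.single i 1), LinearMap.mem_range_self _ _⟩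
    obtain ⟨a2, n2, hm2, ha2⟩ := nak (Q := LinearMap.range π) m (C r ^ (n1 + 1) : A) (by
      rintro ⟨y, hy⟩
      have hy0 : Φ y = 0 := by
        obtain ⟨y', rfl⟩ := hy
        exact hπ y'
      have hlow : ∀ i, (C r : A) * y i ∈ m := by
        intro i
        have h := congrArg (Submodule.Quotient.mk : P → P ⧸ N) hy0
        simp only [Φ, Fintype.linearCombination_apply, Submodule.Quotient.mk_zero] at h
        rw [← Submodule.mkQ_apply, map_sum] at h
        simp only [Submodule.mkQ_apply, hmk] at h
        have := hrel _ h i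
        simpa [m, RingHom.mem_ker] using this
      have heq : (C r ^ (n1 + 1) : A) • (⟨y, hy⟩ : LinearMap.range π) = ∑ i, (C r * y i) • e i := by
        apply Subtype.ext
        simp only [Submodule.coe_smul, Submodule.coe_sum, e]
        have h5 : π ((C r : A) • y) = (C r ^ (n1 + 1) : A) • y := by
          rw [map_smul, hπker y hy0, smul_smul, ← pow_succ']
        have h6 : ∑ i, ((C r : A) * y i) • (Pi.single i (1 : A) : Fin μ → A) = (C r : A) • y := by
          funext j
          simp [Finset.sum_apply, Pi.single_apply]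
        rw [← h5, ← h6, map_sum]
        simp only [map_smul]
      rw [heq]
      exact Submodule.sum_mem _ fun i _ => Submodule.smul_mem_smul (hlow i) Submodule.mem_top)
    have hc2 : constantCoeff a2 = (r ^ (n1 + 1)) ^ n2 := by
      have := (RingHom.mem_ker).mp hm2
      rwa [map_sub, map_pow, map_pow, constantCoeff_C, sub_eq_zero] at this
    have hc0 : Φ c = 0 := by simpa [Φ, Fintype.linearCombination_apply] using hc
    have hkill := congrArg Subtype.val (ha2 ⟨π c, LinearMap.mem_range_self _ _⟩)
    change a2 • π c = 0 at hkill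
    rw [hπker c hc0] at hkill
    have hi : ∀ i, ∃ N : ℕ, (C r : A) ^ N * c i = 0 := by
      intro i
      have h7 : a2 * (C r ^ n1 * c i) = 0 := by simpa using congrFun hkill i
      obtain ⟨N, hN⟩ := tors _ _ h7
      refine ⟨(n1 + 1) * n2 * N + n1, ?_⟩
      rw [hc2, ← pow_mul, map_pow, ← pow_mul, ← mul_assoc, ← pow_add] at hN
      exact hN
    choose Ni hNi using hi
    refine ⟨∑ i, Ni i, fun i => ?_⟩
    obtain ⟨t, ht⟩ := Nat.exists_eq_add_of_le (Finset.single_le_sum (f := Ni) (fun j _ => Nat.zero_le _) (Finset.mem_univ i))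
    rw [ht, pow_add, mul_comm ((C r : A) ^ Ni i), mul_assoc, hNi i, mul_zero]

end Groth.Agent.S19649
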