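import Groth.Statements.S1965
import Mathlib

set_option autoImplicit false
universe u
open Polynomial
open EtAlg

namespace Groth.Agent.S1965

open Polynomial in
theorem exists_root_of_small {A : Type u} [CommRing A] [IsLocalRing A]
    [IsAdicComplete (IsLocalRing.maximalIdeal A) A] (F : A[X]) (α e : A) (c : ℕ)
    (he : e ∈ IsLocalRing.maximalIdeal A ^ (c + 1))
    (hF : F.eval α = (derivative F).eval α ^ 2 * e) :
    ∃ β : A, F.eval β = 0 ∧ β - α ∈ IsLocalRing.maximalIdeal A ^ c := by
  set d := (derivative F).eval α with hd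
  set m := IsLocalRing.maximalIdeal A
  let G := taylor α F
  let R := G.divX.divX
  let K := R.comp (C d * X)
  have hexp : ∀ t, F.eval (α + d * t) = d ^ 2 * (e + t + t ^ 2 * K.eval t) := fun t => by
    have h1 : F.eval (α + d * t) = G.eval (d * t) := by
      simp [G, taylor_eval, add_comm]
    have h2 := congrArg (eval (d * t)) (X_mul_divX_add G)
    have h3 := congrArg (eval (d * t)) (X_mul_divX_add G.divX)
    simp only [eval_add, eval_mul, eval_X, eval_C] at h2 h3
    have c0 : G.coeff 0 = F.eval α := taylor_coeff_zero α F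
    have c1 : G.divX.coeff 0 = d := by rw [coeff_divX]; exact taylor_coeff_one α F
    rw [h1, ← h2, ← h3, c0, c1, hF, show K.eval t = G.divX.divX.eval (d * t) by simp [K, R]]
    ring
  let T : A → A := fun t => -(e + t ^ 2 * K.eval t)
  have hT : ∀ s t, s ∈ m → t ∈ m → ∀ n, t - s ∈ m ^ n → T t - T s ∈ m ^ (n + 1) := by
    intro s t hs ht n hn
    obtain ⟨r, hr⟩ := sub_dvd_eval_sub t s K
    have e1 : T t - T s = (t - s) * (-((t + s) * K.eval t + s ^ 2 * r)) := by
      show -(e + t ^ 2 * K.eval t) - -(e + s ^ 2 * K.eval s) = _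
      rw [show K.eval s = K.eval t - (t - s) * r by rw [← hr]; ring]
      ring
    rw [e1, pow_succ]
    refine Ideal.mul_mem_mul hn (neg_mem (add_mem (Ideal.mul_mem_right _ _ (add_mem ht hs))
      (Ideal.mul_mem_right _ _ (Ideal.pow_mem_of_mem _ hs 2 (by norm_num)))))
  let t : ℕ → A := fun n => T^[n] 0
  have htm : ∀ n, t n ∈ m ^ (c + 1) := by
    intro n
    induction n with
    | zero => exact zero_mem _
    | succ n ih =>
      show T^[n + 1] 0 ∈ _
      rw [Function.iterate_succ_apply']
      exact neg_mem (add_mem he (Ideal.mul_mem_right _ _ (Ideal.pow_mem_of_mem _ ih 2 (by norm_num))))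
  have hpow : m ^ (c + 1) ≤ m := Ideal.pow_le_self (by omega)
  have hstep : ∀ n, t (n + 1) - t n ∈ m ^ n := by
    intro n
    induction n with
    | zero => simp
    | succ n ih =>
      have : t (n + 2) - t (n + 1) = T (t (n + 1)) - T (t n) := by
        simp [t, Function.iterate_succ_apply']
      rw [this]
      exact hT _ _ (hpow (htm n)) (hpow (htm (n + 1))) n ih
  have hc : ∀ i j, i ≤ j → t i - t j ∈ m ^ i := by
    intro i j hij
    induction j, hij using Nat.le_induction with
    | base => simp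
    | succ j hij ih =>
      have : t i - t (j + 1) = (t i - t j) - (t (j + 1) - t j) := by ring
      rw [this]
      exact sub_mem ih (Ideal.pow_le_pow_right hij (hstep j))
  obtain ⟨L, hL⟩ := IsPrecomplete.prec (I := m) inferInstance (f := t) (fun {i j} hij => by
    rw [SModEq.sub_mem, smul_eq_mul, Ideal.mul_top]
    exact hc i j hij)
  have hL' : ∀ i, t i - L ∈ m ^ i := fun i => by
    have := hL i
    rwa [SModEq.sub_mem, smul_eq_mul, Ideal.mul_top] at this
  have hLm : L ∈ m ^ c := by
    have := sub_mem (Ideal.pow_le_pow_right (Nat.le_succ c) (htm c)) (hL' c)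
    simpa using this
  have hLm' : L ∈ m := by
    have := sub_mem (hpow (htm 1)) (by simpa using hL' 1 : t 1 - L ∈ m)
    simpa using this
  have hfix : L - T L = 0 := by
    refine IsHausdorff.haus (I := m) inferInstance _ fun n => ?_
    rw [SModEq.zero, smul_eq_mul, Ideal.mul_top]
    have e2 : L - T L = (T (t n) - T L) - (t (n + 1) - L) := by
      simp [t, Function.iterate_succ_apply']
    rw [e2]
    exact sub_mem (Ideal.pow_le_pow_right (Nat.le_succ n) (hT L (t n) hLm' (hpow (htm n)) n (hL' n)))
      (Ideal.pow_le_pow_right (Nat.le_succ n) (hL' (n + 1)))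
  refine ⟨α + d * L, ?_, ?_⟩
  · rw [hexp, show e + L + L ^ 2 * K.eval L = L - T L by simp [T]; ring, hfix, mul_zero]
  · rw [add_sub_cancel_left]
    exact Ideal.mul_mem_left _ _ hLm

open Polynomial in
theorem newton (A : Type u) [CommRing A] [IsDomain A] [IsLocalRing A] [IsNoetherianRing A]
    [IsAdicComplete (IsLocalRing.maximalIdeal A) A] (hdim : ringKrullDim A = 1) (P : A[X]) (α : A)
    (hα : P.eval α = 0) (hα' : (derivative P).eval α ≠ 0) (c : ℕ) :
    ∃ n : ℕ, ∀ Q : A[X], (∀ i, Q.coeff i ∈ IsLocalRing.maximalIdeal A ^ n) →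
      ∃ β : A, (P + Q).eval β = 0 ∧ β - α ∈ IsLocalRing.maximalIdeal A ^ c := by
  set d := (derivative P).eval α
  set m := IsLocalRing.maximalIdeal A
  obtain ⟨k, hk⟩ : ∃ k, m ^ k ≤ Ideal.span {d} := by
    refine Ideal.exists_pow_le_of_le_radical_of_fg ?_ (IsNoetherian.noetherian m)
    rw [Ideal.radical_eq_sInf]
    refine le_sInf fun p ⟨hp, hpp⟩ => ?_
    haveI := hpp
    have hne : p ≠ ⊥ := fun h0 => hα' (by
      have := hp (Ideal.mem_span_singleton_self d)
      rwa [h0, Ideal.mem_bot] at this)
    haveI : Ring.KrullDimLE 1 A := Ring.krullDimLE_iff.mpr hdim.le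
    haveI := hpp.isMaximal_of_ne_bot hne
    exact (IsLocalRing.eq_maximalIdeal (hpp.isMaximal_of_ne_bot hne)).ge
  refine ⟨c + 1 + (k + k) + (k + 1), fun Q hQ => ?_⟩
  have hQα : ∀ (R : A[X]) (N : ℕ), (∀ i, R.coeff i ∈ m ^ N) → R.eval α ∈ m ^ N := fun R N hR => by
    rw [eval_eq_sum]
    exact sum_mem fun i _ => Ideal.mul_mem_right _ _ (hR i)
  have h2 : (derivative Q).eval α ∈ m * Ideal.span {d} := by
    refine Ideal.mul_mono_right hk ?_
    rw [← pow_succ']
    refine hQα _ _ fun i => ?_
    rw [coeff_derivative]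
    exact Ideal.mul_mem_right _ _ (Ideal.pow_le_pow_right (by omega) (hQ _))
  obtain ⟨a, ha, had⟩ := Ideal.mem_mul_span_singleton.mp h2
  have h0 : Q.eval α ∈ m ^ (c + 1) * Ideal.span {d * d} := by
    rw [← Ideal.span_singleton_mul_span_singleton]
    refine Ideal.mul_mono_right (Ideal.mul_mono hk hk) ?_
    rw [← pow_add, ← pow_add]
    exact hQα _ _ fun i => Ideal.pow_le_pow_right (by omega) (hQ i)
  obtain ⟨e, he, hed⟩ := Ideal.mem_mul_span_singleton.mp h0
  have hu : IsUnit (1 + a) := by
    have := IsLocalRing.isUnit_one_sub_self_of_mem_nonunits (-a) (neg_mem ha)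
    simpa using this
  obtain ⟨u, hu'⟩ := hu
  refine exists_root_of_small (P + Q) α (e * (↑u⁻¹ : A) ^ 2) c (Ideal.mul_mem_right _ _ he) ?_
  have hd' : (derivative (P + Q)).eval α = d * u := by
    rw [derivative_add, eval_add, ← had, hu']
    ring
  rw [hd', eval_add, hα, zero_add, ← hed]
  have hi : (u : A) * (↑u⁻¹ : A) = 1 := Units.mul_inv u
  linear_combination (-(d * d * e) * ((u : A) * (↑u⁻¹ : A) + 1)) * hi

/-- Let A be a complete Noetherian local domain of Krull dimension 1 with maximal ideal m, P a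
polynomial over A and α a root of P which is not a root of the derivative P'. Then for every c there
is an n such that for every polynomial Q all of whose coefficients lie in m^n, the polynomial P + Q
has a root β with β - α in m^c. -/
theorem result (A : Type u) [CommRing A] [IsDomain A] [IsLocalRing A] [IsNoetherianRing A]
    [IsAdicComplete (IsLocalRing.maximalIdeal A) A] (hdim : ringKrullDim A = 1) (P : A[X]) (α : A)
    (hα : P.eval α = 0) (hα' : (derivative P).eval α ≠ 0) (c : ℕ) :
    ∃ n : ℕ, ∀ Q : A[X], (∀ i, Q.coeff i ∈ IsLocalRing.maximalIdeal A ^ n) →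
      ∃ β : A, (P + Q).eval β = 0 ∧ β - α ∈ IsLocalRing.maximalIdeal A ^ c := by
  exact newton A hdim P α hα hα' c

end Groth.Agent.S1965
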