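import Groth.Statements.S19651
import Mathlib.Algebra.Polynomial.Reverse
import Mathlib.LinearAlgebra.BilinearForm.Properties

set_option autoImplicit false
universe u v
open AbVar

namespace Groth.Agent.S19651

open Polynomial

lemma pow_invariant {k V : Type*} [Field k] [AddCommGroup V] [Module k V] {B : LinearMap.BilinForm k V}
    {M : Module.End k V} (hM : ∀ x y : V, B (M x) (M y) = B x y) (i : ℕ) (x y : V) :
    B ((M ^ i) x) ((M ^ i) y) = B x y := by
  induction i generalizing x y with
  | zero => rfl
  | succ i ih => rw [pow_succ, Module.End.mul_apply, Module.End.mul_apply, ih, hM]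

lemma apply_reflect {k V : Type*} [Field k] [AddCommGroup V] [Module k V] {B : LinearMap.BilinForm k V}
    {M : Module.End k V} (hM : ∀ x y : V, B (M x) (M y) = B x y) (Q : k[X]) {N : ℕ} (hN : Q.natDegree ≤ N)
    (x z : V) : B (aeval M Q x) ((M ^ N) z) = B x (aeval M (reflect N Q) z) := by
  refine Polynomial.induction_with_natDegree_le
    (fun Q => B (aeval M Q x) ((M ^ N) z) = B x (aeval M (reflect N Q) z)) N ?_ ?_ ?_ Q hN
  · simp
  · intro i c _ hi
    rw [reflect_C_mul_X_pow, revAt_le hi, map_mul, map_mul, aeval_C, map_pow, map_pow, aeval_X,
      ← Algebra.smul_def, ← Algebra.smul_def, LinearMap.smul_apply, LinearMap.smul_apply, map_smul, map_smul,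
      LinearMap.smul_apply]
    conv_lhs => rw [show N = i + (N - i) by omega, pow_add, Module.End.mul_apply, pow_invariant hM]
  · intro f g _ _ hf hg
    rw [reflect_add, map_add, map_add, LinearMap.add_apply, LinearMap.add_apply, map_add, map_add,
      LinearMap.add_apply, hf, hg]

lemma apply_reverse_pow {k V : Type*} [Field k] [AddCommGroup V] [Module k V] {B : LinearMap.BilinForm k V}
    {M : Module.End k V} (hM : ∀ x y : V, B (M x) (M y) = B x y) (Q : k[X]) (n : ℕ)
    {x : V} (hx : (aeval M Q ^ n) x = 0) (z : V) : B x ((aeval M Q.reverse ^ n) z) = 0 := by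
  induction n generalizing x z with
  | zero => rw [pow_zero] at hx; rw [show x = 0 from hx]; simp
  | succ n ih =>
    rw [pow_succ'] at hx
    rw [pow_succ', Module.End.mul_apply, Polynomial.reverse, ← apply_reflect hM Q le_rfl]
    have hc : Commute (aeval M Q) (aeval M Q ^ n) := Commute.self_pow _ n
    rw [hc.eq, Module.End.mul_apply] at hx
    have h1 : (M ^ Q.natDegree) ((aeval M Q.reverse ^ n) z) = (aeval M Q.reverse ^ n) ((M ^ Q.natDegree) z) := by
      rw [← Module.End.mul_apply, ← Module.End.mul_apply, ← map_pow, ← aeval_X_pow (R := k) M, ← map_mul,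
        mul_comm, map_mul]
    rw [← Polynomial.reverse, h1]
    exact ih hx _

open Polynomial in
/-- Stated for an arbitrary invariant bilinear form, as the argument there allows. Let k be a field, V a
k-vector space with a bilinear form B and M a linear automorphism of V with B(Mx, My) = B(x, y) for
all x, y. If Q₁ and Q₂ are polynomials such that the reciprocal polynomial of Q₁ (its coefficient
list reversed) is coprime to Q₂, then every vector killed by a power of Q₁(M) is B-orthogonal to
every vector killed by a power of Q₂(M). With Q₁ = Q₂ = Q this says that the generalized kernel of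
Q(M) is totally isotropic whenever Q is coprime to its reciprocal polynomial, which for an
irreducible Q means that Q is not self-reciprocal. (The published statement takes M symplectic and
Q₁, Q₂ irreducible factors of the characteristic polynomial, with Q not self-reciprocal in the first
clause; its second clause asks Q₁ and Q₂ to be distinct and not reciprocal, which holds as proved
when this is read as saying that Q₂ is not the reciprocal of Q₁, but fails if it only means that
neither is self-reciprocal, as the diagonal matrix with entries 2 and 1/2 preserving the standard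
alternating form on k² shows; the coprimality of the reciprocal of Q₁ with Q₂, which is what the
published proof uses, is imposed here and covers both clauses.) -/
theorem result
    {k : Type u} [Field k] {V : Type v} [AddCommGroup V] [Module k V]
    (B : LinearMap.BilinForm k V) (M : V ≃ₗ[k] V)
    (hM : ∀ x y : V, B (M x) (M y) = B x y)
    (Q₁ Q₂ : k[X]) (h : IsCoprime Q₁.reverse Q₂)
    (x y : V)
    (hx : ∃ n : ℕ, (Polynomial.aeval (M : V →ₗ[k] V) Q₁ ^ n) x = 0)
    (hy : ∃ n : ℕ, (Polynomial.aeval (M : V →ₗ[k] V) Q₂ ^ n) y = 0) :
    B x y = 0 := by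
  obtain ⟨n, hn⟩ := hx
  obtain ⟨m, hm⟩ := hy
  obtain ⟨a, c, hac⟩ := (h.pow (m := n) (n := m))
  have hy1 := congrArg (fun p => Polynomial.aeval (M : V →ₗ[k] V) p y) hac
  simp only [map_add, map_one, Module.End.one_apply, LinearMap.add_apply] at hy1
  rw [mul_comm a, map_mul, map_mul, map_pow, map_pow, Module.End.mul_apply, Module.End.mul_apply, hm,
    map_zero, add_zero] at hy1
  rw [← hy1]
  exact apply_reverse_pow (M := (M : V →ₗ[k] V)) hM Q₁ n hn _

end Groth.Agent.S19651
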