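import Groth.Statements.S19652
import Mathlib.Algebra.Polynomial.Reverse
import Mathlib.LinearAlgebra.BilinearForm.Properties
import Mathlib.RingTheory.Artinian.Module

set_option autoImplicit false
universe u v
open AbVar

namespace Groth.Agent.S19652

open Polynomial

lemma pow_invariant {k V : Type*} [Field k] [AddCommGroup V] [Module k V] {B : LinearMap.BilinForm k V}
    {M : Module.End k V} (hM : ∀ x y : V, B (M x) (M y) = B x y) (i : ℕ) (x y : V) :
    B ((M ^ i) x) ((M ^ i) y) = B x y := by
  induction i generalizing x y with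
  | zero => rfl
  | succ i ih => rw [pow_succ, Module.End.mul_apply, Module.End.mul_apply, ih, hM]

lemma apply_reflect {k V : Type*} [Field k] [AddCommGroup V] [Module k V] {B : LinearMap.BilinForm k V}
    {M : Module.End k V} (hM : ∀ x y : V, B (M x) (M y) = B x y) (Q : k[X]) {N : ℕ} (hN : Q.natDegree ≤ N)
    (x z : V) : B (aeval M Q x) ((M ^ N) z) = B x (aeval M (reflect N Q) z) := by
  refine Polynomial.induction_with_natDegree_le
    (fun Q => B (aeval M Q x) ((M ^ N) z) = B x (aeval M (reflect N Q) z)) N ?_ ?_ ?_ Q hN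
  · simp
  · intro i c _ hi
    rw [reflect_C_mul_X_pow, revAt_le hi, map_mul, map_mul, aeval_C, map_pow, map_pow, aeval_X,
      ← Algebra.smul_def, ← Algebra.smul_def, LinearMap.smul_apply, LinearMap.smul_apply, map_smul, map_smul,
      LinearMap.smul_apply]
    conv_lhs => rw [show N = i + (N - i) by omega, pow_add, Module.End.mul_apply, pow_invariant hM]
  · intro f g _ _ hf hg
    rw [reflect_add, map_add, map_add, LinearMap.add_apply, LinearMap.add_apply, map_add, map_add,
      LinearMap.add_apply, hf, hg]

lemma apply_reverse_pow {k V : Type*} [Field k] [AddCommGroup V] [Module k V] {B : LinearMap.BilinForm k V}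
    {M : Module.End k V} (hM : ∀ x y : V, B (M x) (M y) = B x y) (Q : k[X]) (n : ℕ)
    {x : V} (hx : (aeval M Q ^ n) x = 0) (z : V) : B x ((aeval M Q.reverse ^ n) z) = 0 := by
  induction n generalizing x z with
  | zero => rw [pow_zero] at hx; rw [show x = 0 from hx]; simp
  | succ n ih =>
    rw [pow_succ'] at hx
    rw [pow_succ', Module.End.mul_apply, Polynomial.reverse, ← apply_reflect hM Q le_rfl]
    have hc : Commute (aeval M Q) (aeval M Q ^ n) := Commute.self_pow _ n
    rw [hc.eq, Module.End.mul_apply] at hx
    have h1 : (M ^ Q.natDegree) ((aeval M Q.reverse ^ n) z) = (aeval M Q.reverse ^ n) ((M ^ Q.natDegree) z) := by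
      rw [← Module.End.mul_apply, ← Module.End.mul_apply, ← map_pow, ← aeval_X_pow (R := k) M, ← map_mul,
        mul_comm, map_mul]
    rw [← Polynomial.reverse, h1]
    exact ih hx _

open Polynomial in
/-- Stated for an arbitrary invariant nondegenerate bilinear form, as the argument there allows. Let k
be a field, V a finite-dimensional k-vector space with a nondegenerate bilinear form B and M a
linear automorphism of V with B(Mx, My) = B(x, y) for all x, y. If Q is a polynomial associated to
its own reciprocal polynomial (its coefficient list reversed), then B restricted to the generalized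
kernel of Q(M), the union of the kernels of the powers Q(M)^n, is nondegenerate. (The published
statement takes M symplectic and Q a self-reciprocal divisor of the characteristic polynomial;
divisibility plays no role and is not assumed.) -/
theorem result
    {k : Type u} [Field k] {V : Type v} [AddCommGroup V] [Module k V] [FiniteDimensional k V]
    (B : LinearMap.BilinForm k V) (hB : B.Nondegenerate) (M : V ≃ₗ[k] V)
    (hM : ∀ x y : V, B (M x) (M y) = B x y)
    (Q : k[X]) (hQ : Associated Q Q.reverse) :
    (B.restrict (⨆ n : ℕ, LinearMap.ker (Polynomial.aeval (M : V →ₗ[k] V) Q ^ n))).Nondegenerate := by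
  set f := Polynomial.aeval (M : V →ₗ[k] V) Q
  obtain ⟨N, hN⟩ := Filter.eventually_atTop.1 (f.eventually_isCompl_ker_pow_range_pow.and f.eventually_iSup_ker_pow_eq)
  obtain ⟨hcompl, hsup⟩ := hN N le_rfl
  suffices key : ∀ B : LinearMap.BilinForm k V, LinearMap.SeparatingLeft B → (∀ x y, B (M x) (M y) = B x y) →
      LinearMap.SeparatingLeft (B.restrict (⨆ n : ℕ, LinearMap.ker (f ^ n))) from
    ⟨key B hB.1 hM, fun y hy => key B.flip (fun y hy => hB.2 y hy) (fun x y => hM y x) y fun x => hy x⟩
  clear hM hB B
  intro B hB hM x hx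
  obtain ⟨x, hxW⟩ := x
  refine Subtype.ext (hB x fun z => ?_)
  obtain ⟨w, hw, r, hr, rfl⟩ := Submodule.mem_sup.1 (show z ∈ LinearMap.ker (f ^ N) ⊔ LinearMap.range (f ^ N) by
    rw [hcompl.sup_eq_top]; trivial)
  have h1 : B x w = 0 := hx ⟨w, hsup ▸ hw⟩
  have hxN : (f ^ N) x = 0 := LinearMap.mem_ker.1 (hsup ▸ hxW)
  obtain ⟨u, hu⟩ := hQ.symm
  obtain ⟨v, rfl⟩ := LinearMap.mem_range.1 hr
  rw [map_add, h1, zero_add, show f = Polynomial.aeval (M : V →ₗ[k] V) Q.reverse * Polynomial.aeval (M : V →ₗ[k] V) (u : k[X]) by
    rw [← map_mul, hu], ← map_mul, ← map_pow, mul_pow, map_mul, map_pow, Module.End.mul_apply]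
  exact apply_reverse_pow (M := (M : V →ₗ[k] V)) hM Q N hxN _

end Groth.Agent.S19652
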