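import Groth.Statements.S19659
import Groth.Agent.S7800
import Groth.Agent.AVLib.GeomInt


set_option autoImplicit false
universe u
open CategoryTheory CategoryTheory.Limits MonoidalCategory CartesianMonoidalCategory MonObj GrpObj AlgebraicGeometry
open AbSch

namespace Groth.Agent.S19659

open CategoryTheory CategoryTheory.Limits AlgebraicGeometry

open Groth.Agent CategoryTheory AlgebraicGeometry Limits MonObj
set_option backward.isDefEq.respectTransparency false

/-- Let S be a scheme, A and B abelian schemes over S (proper smooth S-group schemes with geometrically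
connected fibres) and f : A → B a homomorphism. Then f is flat exactly when it is surjective. -/
theorem result
    {S : Scheme.{u}} (A B : Over S) [GrpObj A] [IsProper A.hom] [Smooth A.hom] [GeometricallyConnected A.hom]
    [GrpObj B] [IsProper B.hom] [Smooth B.hom] [GeometricallyConnected B.hom]
    (f : A ⟶ B) [IsMonHom f] :
    Flat f.left ↔ Surjective f.left := by
  haveI hgr : GeometricallyReduced B.hom := AVLib.geometricallyReduced_of_smooth B.hom
  refine ⟨fun hf => ?_, fun hf => (Groth.Agent.S7800.result A B f).1⟩
  haveI : IsProper (f.left ≫ B.hom) := by rw [Over.w f]; infer_instance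
  haveI : IsProper f.left := IsProper.of_comp f.left B.hom
  haveI : LocallyOfFinitePresentation (f.left ≫ B.hom) := by rw [Over.w f]; infer_instance
  haveI : LocallyOfFinitePresentation f.left := FlatLocus.locallyOfFinitePresentation_of_comp f.left B.hom
  haveI := hf
  have hclopen : IsClopen (Set.range f.left) :=
    ⟨f.left.isClosedMap.isClosed_range, f.left.isOpenMap.isOpen_range⟩
  refine ⟨fun b => ?_⟩
  let s := B.hom b
  have hone : η[A].left ≫ f.left = η[B].left := by
    rw [← Over.comp_left, IsMonHom.one_hom]
  have hb0 : η[B].left s ∈ Set.range f.left :=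
    ⟨η[A].left s, by rw [← Scheme.Hom.comp_apply, hone]⟩
  have hsec : B.hom (η[B].left s) = s := by
    rw [← Scheme.Hom.comp_apply, Over.w η[B]]
    rfl
  have hconn : _root_.IsPreconnected (B.hom ⁻¹' {s}) := by
    rw [← Scheme.Hom.range_fiberι]
    exact (isPreconnected_range (B.hom.fiberι s).continuous)
  exact (hconn.subset_isClopen hclopen ⟨_, hsec, hb0⟩ (show b ∈ B.hom ⁻¹' {s} from rfl))


end Groth.Agent.S19659
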