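import Groth.Statements.S1966
import Mathlib
-- import your own Groth.Agent.* helpers here

set_option autoImplicit false
universe u
open EtAlg

namespace Groth.Agent.S1966

/-- Towers indexed by the natural numbers: let (A_k) be rings with surjective transition maps A_{k+1} ->
A_k whose kernels consist of nilpotent elements, and let A be a ring with compatible projections p_k
: A -> A_k identifying A with the set of compatible sequences (p is jointly injective and every
compatible sequence comes from an element of A). Then for every k the pair (A, ker p_k) is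
henselian. -/
theorem result (A : Type u) [CommRing A] (As : ℕ → Type u) [∀ k, CommRing (As k)]
    (t : ∀ k, As (k + 1) →+* As k) (ht : ∀ k, Function.Surjective (t k))
    (hnil : ∀ k (x : As (k + 1)), t k x = 0 → IsNilpotent x)
    (p : ∀ k, A →+* As k) (hp : ∀ k, (t k).comp (p (k + 1)) = p k)
    (hinj : ∀ a b : A, (∀ k, p k a = p k b) → a = b)
    (hsurj : ∀ x : ∀ k, As k, (∀ k, t k (x (k + 1)) = x k) → ∃ a : A, ∀ k, p k a = x k) (k : ℕ) :
    HenselianRing A (RingHom.ker (p k)) := by
  have hp' : ∀ j x, t j (p (j + 1) x) = p j x := fun j x => RingHom.congr_fun (hp j) x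
  have hunit : ∀ a : A, IsUnit (p k a) → ∀ j, IsUnit (p j a) := by
    intro a ha
    have hdown : ∀ j, IsUnit (p (j + 1) a) → IsUnit (p j a) := fun j h => hp' j a ▸ h.map (t j)
    have hup : ∀ j, IsUnit (p j a) → IsUnit (p (j + 1) a) := by
      intro j h
      obtain ⟨b, hb⟩ := isUnit_iff_exists_inv.1 h
      obtain ⟨b, rfl⟩ := ht j b
      have : IsNilpotent (p (j + 1) a * b - 1) :=
        hnil j _ (by rw [map_sub, map_mul, hp', hb, map_one, sub_self])
      have h1 := this.isUnit_add_one
      rw [sub_add_cancel] at h1
      exact isUnit_of_mul_isUnit_left h1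
    intro j
    rcases le_total k j with h | h
    · exact Nat.le_induction ha (fun n _ hn => hup n hn) j h
    · exact Nat.decreasingInduction (motive := fun n _ => IsUnit (p n a))
        (fun n _ hn => hdown n hn) ha h
  have hunitA : ∀ a : A, IsUnit (p k a) → IsUnit a := by
    intro a ha
    choose b hb using fun j => isUnit_iff_exists_inv.1 (hunit a ha j)
    obtain ⟨c, hc⟩ := hsurj b fun j => by
      have h1 := congrArg (t j) (hb (j + 1))
      rw [map_mul, hp', map_one] at h1
      exact (hunit a ha j).mul_left_cancel (h1.trans (hb j).symm)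
    exact isUnit_iff_exists_inv.2 ⟨c, hinj _ _ fun j => by rw [map_mul, map_one, hc, hb]⟩
  have hnil' : ∀ j, ∀ a : A, p k a = 0 → IsNilpotent (p j a) := by
    intro j a ha
    rcases le_total k j with h | h
    · induction j, h using Nat.le_induction with
      | base => exact ⟨1, by rw [pow_one, ha]⟩
      | succ j hj ih =>
        obtain ⟨n, hn⟩ := ih
        obtain ⟨m, hm⟩ := hnil j (p (j + 1) a ^ n) (by rw [map_pow, hp', hn])
        exact ⟨n * m, by rw [pow_mul, hm]⟩
    · have : p j a = 0 := Nat.decreasingInduction (motive := fun n _ => p n a = 0)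
        (fun n _ hn => by rw [← hp', hn, map_zero]) ha h
      exact this ▸ IsNilpotent.zero
  refine ⟨fun a ha => Ideal.mem_jacobson_bot.2 fun y => hunitA _ ?_, fun f hf a₀ h1 h2 => ?_⟩
  · rw [map_add, map_mul, RingHom.mem_ker.1 ha, zero_mul, zero_add, map_one]
    exact isUnit_one
  · have h1' : p k (f.eval a₀) = 0 := h1
    have h2' : ∀ j, IsUnit (p j (f.derivative.eval a₀)) := by
      refine hunit _ ?_
      obtain ⟨b, hb⟩ := isUnit_iff_exists_inv.1 h2
      obtain ⟨b, rfl⟩ := Ideal.Quotient.mk_surjective b
      rw [← map_mul, ← map_one (Ideal.Quotient.mk _), Ideal.Quotient.eq] at hb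
      refine isUnit_of_mul_isUnit_left (y := p k b) ?_
      rw [← map_mul, show p k (f.derivative.eval a₀ * b) = 1 by
        rw [← sub_eq_zero, ← map_one (p k), ← map_sub]; exact hb]
      exact isUnit_one
    have hev : ∀ j (q : Polynomial A) (a : A), Polynomial.aeval (p j a) (q.map (p j)) = p j (q.eval a) := fun j q a => by
      rw [Polynomial.coe_aeval_eq_eval, Polynomial.eval_map, Polynomial.eval₂_hom]
    have hN : ∀ j, ∃! r : As j, IsNilpotent (p j a₀ - r) ∧ Polynomial.aeval r (f.map (p j)) = 0 := fun j =>
      Polynomial.existsUnique_nilpotent_sub_and_aeval_eq_zero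
        (by rw [hev]; exact hnil' j _ h1') (by rw [Polynomial.derivative_map, hev]; exact h2' j)
    obtain ⟨a, ha⟩ := hsurj (fun j => (hN j).choose) fun j => by
      refine (hN j).choose_spec.2 _ ⟨?_, ?_⟩
      · rw [← hp', ← map_sub]
        exact (hN (j + 1)).choose_spec.1.1.map (t j)
      · have h := congrArg (t j) (hN (j + 1)).choose_spec.1.2
        rw [map_zero, Polynomial.coe_aeval_eq_eval, Polynomial.eval_map, Polynomial.hom_eval₂, hp] at h
        rw [Polynomial.coe_aeval_eq_eval, Polynomial.eval_map]
        exact h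
    refine ⟨a, hinj _ _ fun j => ?_, ?_⟩
    · rw [map_zero, ← hev, ha]
      exact (hN j).choose_spec.1.2
    · rw [RingHom.mem_ker, map_sub, sub_eq_zero, ha]
      exact ((hN k).choose_spec.2 _ ⟨by rw [sub_self]; exact IsNilpotent.zero, by rw [hev, h1']⟩).symm

end Groth.Agent.S1966
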