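import Groth.Statements.S19660
import Mathlib

set_option autoImplicit false
universe u v
open AbVar

namespace Groth.Agent.S19660

/-- The text applies this to the Frobenius acting on the points of prime order of a principally
polarised abelian variety over a finite field with q elements and to their Weil pairing. Let k be a
field, V a finite-dimensional k-vector space with a nondegenerate bilinear form B, q a nonzero
element of k and M a linear automorphism of V with B(Mx, My) = q·B(x, y) for all x, y. Write V₁ and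
V_q for the generalized eigenspaces of M at 1 and at q. Then every vector of V₁ that is B-orthogonal
to all of V_q is zero, every vector of V_q that is B-orthogonal (on the right) to all of V₁ is zero,
and when q ≠ 1 the form B vanishes identically on V₁ × V₁ and on V_q × V_q. (The text asserts this
as the evident adaptation, to a form scaled by q, of the orthogonality and nondegeneracy facts for
generalized kernels of an automorphism preserving a form; the abstract statement is recorded here,
the application to the Weil pairing needing that pairing's formalism.) -/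
theorem result
    {k : Type u} [Field k] {V : Type v} [AddCommGroup V] [Module k V] [FiniteDimensional k V]
    (B : LinearMap.BilinForm k V) (hB : B.Nondegenerate) (q : k) (hq : q ≠ 0)
    (M : V ≃ₗ[k] V) (hM : ∀ x y : V, B (M x) (M y) = q * B x y) :
    (∀ x ∈ Module.End.maxGenEigenspace (M : Module.End k V) 1,
        (∀ y ∈ Module.End.maxGenEigenspace (M : Module.End k V) q, B x y = 0) → x = 0) ∧
      (∀ y ∈ Module.End.maxGenEigenspace (M : Module.End k V) q,
        (∀ x ∈ Module.End.maxGenEigenspace (M : Module.End k V) 1, B x y = 0) → y = 0) ∧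
      (q ≠ 1 → ∀ x ∈ Module.End.maxGenEigenspace (M : Module.End k V) 1,
        ∀ x' ∈ Module.End.maxGenEigenspace (M : Module.End k V) 1, B x x' = 0) ∧
      (q ≠ 1 → ∀ y ∈ Module.End.maxGenEigenspace (M : Module.End k V) q,
        ∀ y' ∈ Module.End.maxGenEigenspace (M : Module.End k V) q, B y y' = 0) := by
  classical
  set f : Module.End k V := (M : Module.End k V) with hf
  set T1 : Module.End k V := f - (1 : k) • (1 : Module.End k V) with hT1
  set Tq : Module.End k V := f - q • (1 : Module.End k V) with hTq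
  have hMa : ∀ x y, B (f x) (f y) = q * B x y := hM
  have hc1 : Commute f T1 := (Commute.refl f).sub_right ((Commute.one_right f).smul_right _)
  have hcq : Commute f Tq := (Commute.refl f).sub_right ((Commute.one_right f).smul_right _)
  have hc : Commute T1 Tq := hcq.sub_left ((Commute.one_left Tq).smul_left _)
  have key1 : ∀ n, ∀ v y, (Tq ^ n) y = 0 → B ((T1 ^ n) v) y = 0 := by
    intro n
    induction n with
    | zero => intro v y hy; simp at hy; simp [hy]
    | succ n ih =>
      intro v y hy
      have hy' : (Tq ^ n) (Tq y) = 0 := by rwa [pow_succ, Module.End.mul_apply] at hy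
      have e : f ((T1 ^ n) v) = (T1 ^ n) (f v) := LinearMap.congr_fun (hc1.pow_right n).eq v
      have h0 := ih (f v) (Tq y) hy'
      rw [← e] at h0
      rw [pow_succ', Module.End.mul_apply]
      generalize (T1 ^ n) v = w at h0 ⊢
      simp only [hTq, hT1, LinearMap.sub_apply, LinearMap.smul_apply, Module.End.one_apply, map_sub,
        map_smul, smul_eq_mul, one_mul, one_smul, hMa] at h0 ⊢
      have : q * (B w y - B (f w) y) = 0 := by linear_combination h0
      have := (mul_eq_zero.1 this).resolve_left hq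
      linear_combination -this
  have key2 : ∀ n, ∀ x v, (T1 ^ n) x = 0 → B x ((Tq ^ n) v) = 0 := by
    intro n
    induction n with
    | zero => intro x v hx; simp at hx; simp [hx]
    | succ n ih =>
      intro x v hx
      have hx' : (T1 ^ n) (T1 x) = 0 := by rwa [pow_succ, Module.End.mul_apply] at hx
      have e : f ((Tq ^ n) v) = (Tq ^ n) (f v) := LinearMap.congr_fun (hcq.pow_right n).eq v
      have h0 := ih (T1 x) (f v) hx'
      rw [← e] at h0
      rw [pow_succ', Module.End.mul_apply]
      generalize (Tq ^ n) v = w at h0 ⊢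
      simp only [hTq, hT1, LinearMap.sub_apply, LinearMap.smul_apply, Module.End.one_apply, map_sub,
        map_smul, smul_eq_mul, one_mul, one_smul, hMa] at h0 ⊢
      linear_combination -h0
  obtain ⟨N1, hN1⟩ := Filter.eventually_atTop.1 T1.eventually_isCompl_ker_pow_range_pow
  obtain ⟨N2, hN2⟩ := Filter.eventually_atTop.1 Tq.eventually_isCompl_ker_pow_range_pow
  set N := max (max N1 N2) (Module.finrank k V) with hN
  have h1 : IsCompl (LinearMap.ker (T1 ^ N)) (LinearMap.range (T1 ^ N)) := hN1 N (by omega)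
  have h2 : IsCompl (LinearMap.ker (Tq ^ N)) (LinearMap.range (Tq ^ N)) := hN2 N (by omega)
  have hgen : ∀ μ : k, ∀ x, x ∈ Module.End.maxGenEigenspace f μ ↔ ((f - μ • (1 : Module.End k V)) ^ N) x = 0 := by
    intro μ x
    constructor
    · intro hx
      rw [Module.End.maxGenEigenspace_eq_genEigenspace_finrank, Module.End.mem_genEigenspace_nat,
        LinearMap.mem_ker] at hx
      obtain ⟨d, hd⟩ : ∃ d, N = d + Module.finrank k V := ⟨N - Module.finrank k V, by omega⟩
      rw [hd, pow_add, Module.End.mul_apply, hx, map_zero]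
    · intro hx
      exact (Module.End.mem_maxGenEigenspace _ _ _).2 ⟨N, hx⟩
  have hdisj : q ≠ 1 → ∀ a, (T1 ^ N) a = 0 → (Tq ^ N) a = 0 → a = 0 := by
    intro hne a ha hb
    have hd : Disjoint (f.maxGenEigenspace 1) (f.maxGenEigenspace q) :=
      Module.End.disjoint_genEigenspace f hne.symm ⊤ ⊤
    exact Submodule.disjoint_def.1 hd a ((hgen 1 a).2 ha) ((hgen q a).2 hb)
  refine ⟨fun x hx hxy => ?_, fun y hy hxy => ?_, fun hne x hx x' hx' => ?_, fun hne y hy y' hy' => ?_⟩
  · refine hB.1 x fun z => ?_
    obtain ⟨a, ha, b, hb, rfl⟩ := Submodule.mem_sup.1 (h2.sup_eq_top ▸ Submodule.mem_top : z ∈ _ ⊔ _)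
    obtain ⟨v, rfl⟩ := hb
    rw [map_add, hxy a ((hgen q a).2 ha), key2 N x v ((hgen 1 x).1 hx), add_zero]
  · refine hB.2 y fun z => ?_
    obtain ⟨a, ha, b, hb, rfl⟩ := Submodule.mem_sup.1 (h1.sup_eq_top ▸ Submodule.mem_top : z ∈ _ ⊔ _)
    obtain ⟨v, rfl⟩ := hb
    rw [map_add, LinearMap.add_apply, hxy a ((hgen 1 a).2 ha), key1 N v y ((hgen q y).1 hy), add_zero]
  · obtain ⟨a, ha, b, hb, rfl⟩ := Submodule.mem_sup.1 (h2.sup_eq_top ▸ Submodule.mem_top : x' ∈ _ ⊔ _)
    obtain ⟨v, rfl⟩ := hb
    have h0 : (T1 ^ N) a + (T1 ^ N) ((Tq ^ N) v) = 0 := by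
      rw [← map_add]; exact (hgen 1 _).1 hx'
    have hcomm : ∀ z, (T1 ^ N) ((Tq ^ N) z) = (Tq ^ N) ((T1 ^ N) z) :=
      fun z => LinearMap.congr_fun (hc.pow_pow N N).eq z
    have hA : (T1 ^ N) a ∈ LinearMap.ker (Tq ^ N) := by
      rw [LinearMap.mem_ker] at ha ⊢
      rw [← hcomm, ha, map_zero]
    have hA' : (T1 ^ N) a ∈ LinearMap.range (Tq ^ N) := by
      refine ⟨-(T1 ^ N) v, ?_⟩
      rw [map_neg, ← hcomm]
      exact (eq_neg_of_add_eq_zero_left h0).symm
    have h3 : (T1 ^ N) a = 0 := Submodule.disjoint_def.1 h2.disjoint _ hA hA'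
    rw [hdisj hne a h3 (LinearMap.mem_ker.1 ha), zero_add]
    exact key2 N x v ((hgen 1 x).1 hx)
  · obtain ⟨a, ha, b, hb, rfl⟩ := Submodule.mem_sup.1 (h1.sup_eq_top ▸ Submodule.mem_top : y ∈ _ ⊔ _)
    obtain ⟨v, rfl⟩ := hb
    have h0 : (Tq ^ N) a + (Tq ^ N) ((T1 ^ N) v) = 0 := by
      rw [← map_add]; exact (hgen q _).1 hy
    have hcomm : ∀ z, (Tq ^ N) ((T1 ^ N) z) = (T1 ^ N) ((Tq ^ N) z) :=
      fun z => LinearMap.congr_fun (hc.symm.pow_pow N N).eq z
    have hA : (Tq ^ N) a ∈ LinearMap.ker (T1 ^ N) := by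
      rw [LinearMap.mem_ker] at ha ⊢
      rw [← hcomm, ha, map_zero]
    have hA' : (Tq ^ N) a ∈ LinearMap.range (T1 ^ N) := by
      refine ⟨-(Tq ^ N) v, ?_⟩
      rw [map_neg, ← hcomm]
      exact (eq_neg_of_add_eq_zero_left h0).symm
    have h3 : (Tq ^ N) a = 0 := Submodule.disjoint_def.1 h1.disjoint _ hA hA'
    rw [hdisj hne a (LinearMap.mem_ker.1 ha) h3, zero_add]
    exact key1 N v y' ((hgen q y').1 hy')

end Groth.Agent.S19660
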