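import Groth.Statements.S19667
import Groth.Agent.GrassShLib.Flag

set_option autoImplicit false
universe u
open CategoryTheory CategoryTheory.Limits AlgebraicGeometry
open Grass

namespace Groth.Agent.S19667

open Groth.Agent.GrassShLib

/-- Let `X` be a scheme with irreducible underlying space, `E` a finite locally free `O_X`-module of
rank `N`, and `n : Fin m → ℕ` strictly decreasing with `1 ≤ n i < N` for all `i`. Let `(F, π, Q, q)`
be the partial flag scheme of `E` of type `n` (universal nested locally free quotients of ranks `n
i`, index `0` the largest). Then the underlying space of `F` is irreducible. (The source takes the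
base of finite type over a field; the base is an arbitrary irreducible scheme here.) -/
theorem result (X F : Scheme.{u}) (π : F ⟶ X) (E : X.Modules) [IrreducibleSpace X]
    (N : ℕ) (hE : FlatMod.IsFinLocFreeOfRank N E) (m : ℕ) (n : Fin m → ℕ) (hn : StrictAnti n)
    (h1 : ∀ i, 1 ≤ n i) (hN : ∀ i, n i < N)
    (Q : Fin m → F.Modules) (q : ∀ i, (Scheme.Modules.pullback π).obj E ⟶ Q i) (hF : Grass.IsFlag π E n Q q) :
    IrreducibleSpace F := by
  obtain ⟨-, -, -, h⟩ := flag_props hE m n hn hN F π
    (fun i => ⟨Q i, q i, hF.rank i, hF.epi i⟩) hF.nested (univ_of_isFlag hF) 0 (Nat.zero_le m) X (𝟙 X)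
    (fun i => i.elim0) (fun i => i.elim0)
    (fun T g _ _ => ⟨g, ⟨Category.comp_id g, fun i => i.elim0⟩, fun h ⟨hh, _⟩ => by simpa using hh⟩)
    π (Category.comp_id π) (fun i => i.elim0)
  exact h inferInstance

end Groth.Agent.S19667
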