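import Groth.Statements.S19668
import Groth.Agent.S11483
import Groth.Agent.VBLib.Cst
-- import your own Groth.Agent.* helpers here

set_option autoImplicit false
set_option backward.isDefEq.respectTransparency false
universe u
open CategoryTheory CategoryTheory.Limits AlgebraicGeometry
open Curves

namespace Groth.Agent.S19668

/-- Stable bundles are simple. Let X be a nonsingular projective curve over an algebraically closed
field k (smooth, proper, integral, of dimension one) and E a locally free sheaf of rank r on X which
is stable: every locally free subsheaf G of rank s with 0 < s < r has deg G · r < deg E · s (degrees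
computed as χ − rank·χ(O_X)). Then every endomorphism φ of E is a scalar multiple of the identity, φ
= a · 𝟙_E for some a ∈ k, where k acts on Hom_{O_X}(E, E) through the structure morphism X → Spec k
(a acts as composition with multiplication by a on E). -/
theorem result (k : Type u) [Field k] [IsAlgClosed k] (X : Scheme.{u})
    [X.Over (Spec (CommRingCat.of k))] (hX : Curve.IsSmoothProperCurve k X (X ↘ Spec (CommRingCat.of k))) (r : ℕ)
    (E : X.Modules) (hE : FlatMod.IsFinLocFreeOfRank r E)
    (hst : ∀ (G : X.Modules) (s : ℕ) (ι : G ⟶ E), Mono ι → FlatMod.IsFinLocFreeOfRank s G → 0 < s → s < r →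
      Curv2.deg k X G s * (r : ℤ) < Curv2.deg k X E r * (s : ℤ))
    (φ : E ⟶ E) : ∃ a : k, φ = a • 𝟙 E := by
  obtain ⟨hpr, hsm, hint, hdim⟩ := id hX
  haveI := hpr; haveI := hsm; haveI := hint
  haveI := Groth.Agent.EulerIneqLib.isNoetherian_proper (X := X) k
  by_cases hne : IsZero E
  · exact ⟨0, hne.eq_of_src _ _⟩
  obtain ⟨c, hc⟩ := Groth.Agent.VBLib.exists_scalar k (Groth.Agent.VBLib.isCoh_of_rank hE) hne
    (fun g hg => Groth.Agent.S11483.result k X hX r E hE hst g hg) φ
  refine ⟨c, ((Groth.Agent.VBLib.cst_eq_iff k).2 hc).trans ?_⟩
  rfl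

end Groth.Agent.S19668
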