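import Groth.Statements.S7180
import Groth.Agent.HensBranch.Normal
import Groth.Agent.Henselization.IndEtale
import Groth.Agent.ProEtLib2.IndEtaleWeakly
import Groth.Agent.WLocalLib.Olivier
import Groth.Agent.WLocalLib.WeakEtaleScheme
import Groth.Agent.WLocalLib.UnivHomeoEtale
import Groth.Agent.S12237
-- import your own Groth.Agent.* helpers here

set_option autoImplicit false
universe u
open FlatMor

namespace Groth.Agent.S7180

section
open IsLocalRing
open scoped TensorProduct

theorem comap_maximal {R S : Type u} [CommRing R] [IsLocalRing R] [CommRing S] [IsLocalRing S] (f : R →+* S)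
    [IsLocalHom f] : (maximalIdeal S).comap f = maximalIdeal R :=
  Ideal.ext fun a => by simp [Ideal.mem_comap, isUnit_map_iff]

theorem isLocalHom_of_comap {R : Type u} [CommRing R] [IsLocalRing R] (T : Type u) [CommRing T] [Algebra R T]
    (Q : Ideal T) [Q.IsPrime] (L : Type u) [CommRing L] [Algebra T L] [IsLocalization.AtPrime L Q] [IsLocalRing L]
    [Algebra R L] [IsScalarTower R T L] (h : Q.comap (algebraMap R T) = maximalIdeal R) :
    IsLocalHom (algebraMap R L) := by
  refine ⟨fun a ha => ?_⟩
  rw [IsScalarTower.algebraMap_apply R T L, IsLocalization.AtPrime.isUnit_to_map_iff L Q] at ha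
  by_contra hn
  exact ha (show a ∈ Q.comap (algebraMap R T) by rw [h]; exact (mem_maximalIdeal a).2 hn)

/-- A weakly etale local extension of a normal local domain is a normal domain. -/
theorem normal_of_weaklyEtale (A B : Type u) [CommRing A] [IsLocalRing A] [IsDomain A] [IsIntegrallyClosed A]
    [CommRing B] [IsLocalRing B] [Algebra A B] [IsLocalHom (algebraMap A B)] [Algebra.WeaklyEtale A B] :
    IsDomain B ∧ IsIntegrallyClosed B := by
  let S := Henselization.StrictHenselizationRing A
  haveI : Algebra.WeaklyEtale A S :=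
    ProEtLib2.weaklyEtale_of_isIndEtale (S12237.result A S)
  have hS : EtCoh.IsStrictlyHenselianLocalRing S :=
    ⟨Hensel.IsStrictHenselization.henselian (R := A), (Hensel.IsStrictHenselization.isSepClosure (R := A) (S := S)).sep_closed⟩
  let T := S ⊗[A] B
  letI : Algebra B T := Algebra.TensorProduct.rightAlgebra
  let e : (B ⊗[A] S) ≃ₗ[B] T :=
    { (Algebra.TensorProduct.comm A B S).toAddEquiv with
      map_smul' := fun b z => by
        show Algebra.TensorProduct.comm A B S (b • z) = b • Algebra.TensorProduct.comm A B S z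
        rw [Algebra.smul_def, map_mul, Algebra.smul_def]
        rfl }
  haveI : Module.FaithfullyFlat B T := Module.FaithfullyFlat.of_linearEquiv _ _ e.symm
  obtain ⟨⟨Q, hQ⟩, hQB⟩ := PrimeSpectrum.comap_surjective_of_faithfullyFlat (B := T)
    (⟨maximalIdeal B, inferInstance⟩ : PrimeSpectrum B)
  haveI := hQ
  have hQB' : Q.comap (algebraMap B T) = maximalIdeal B := congrArg PrimeSpectrum.asIdeal hQB
  have hQS : Q.comap (algebraMap S T) = maximalIdeal S := by
    refine Henselization.eq_of_le_of_comap_eq (R := A) (K := SeparableClosure (ResidueField A))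
      (P := Q.comap (algebraMap S T)) (Q := maximalIdeal S) (le_maximalIdeal (Ideal.IsPrime.ne_top')) ?_
    rw [Ideal.comap_comap]
    have : (algebraMap S T).comp (algebraMap A S) = (algebraMap B T).comp (algebraMap A B) := by
      refine RingHom.ext fun a => ?_
      show (algebraMap A S a) ⊗ₜ[A] (1 : B) = (1 : S) ⊗ₜ[A] (algebraMap A B a)
      rw [Algebra.algebraMap_eq_smul_one, Algebra.algebraMap_eq_smul_one, TensorProduct.smul_tmul]
    rw [this, ← Ideal.comap_comap, hQB']
    exact (comap_maximal (algebraMap A B)).trans (comap_maximal (algebraMap A S)).symm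
  let L := Localization.AtPrime Q
  haveI : Algebra.WeaklyEtale T L := WLocalLib.weaklyEtale_of_isLocalization Q.primeCompl
  haveI : Algebra.WeaklyEtale S L := Algebra.WeaklyEtale.trans S T L
  haveI : IsLocalHom (algebraMap S L) := isLocalHom_of_comap T Q L hQS
  haveI : IsLocalHom (algebraMap B L) := isLocalHom_of_comap T Q L hQB'
  have hbij := WLocalLib.bijective_of_strictlyHenselian S L hS
  obtain ⟨hd, hn⟩ := HensBranch.hz_normal (R := A) (K := SeparableClosure (ResidueField A))
  let eL : S ≃+* L := RingEquiv.ofBijective _ hbij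
  haveI : IsDomain L := eL.symm.toMulEquiv.isDomain _
  haveI : IsIntegrallyClosed L := IsIntegrallyClosed.of_equiv eL
  haveI : Module.Flat B L := Module.Flat.trans B T L
  haveI : Module.FaithfullyFlat B L := Module.FaithfullyFlat.of_flat_of_isLocalHom
  exact Unibranch.normal_of_faithfullyFlat (A := B) (B := L)

end

open AlgebraicGeometry CategoryTheory Limits in
/-- The source of a weakly étale morphism with normal target (all local rings integrally closed domains)
is normal. -/
theorem result {X Y : Scheme.{u}} (f : X ⟶ Y) [WeaklyEtale f] (hY : Pi1.IsNormalScheme Y) :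
    Pi1.IsNormalScheme X := by
  intro x
  letI := (f.stalkMap x).hom.toAlgebra
  haveI : WeaklyEtale (Spec.map (CommRingCat.ofHom
      (algebraMap (Y.presheaf.stalk (f x)) (X.presheaf.stalk x)))) :=
    WLocalLib.weaklyEtale_specMap_stalkMap f x
  haveI : Algebra.WeaklyEtale (Y.presheaf.stalk (f x)) (X.presheaf.stalk x) := WLocalLib.weaklyEtale_of_specMap
  haveI : IsLocalHom (algebraMap (Y.presheaf.stalk (f x)) (X.presheaf.stalk x)) :=
    inferInstanceAs (IsLocalHom (f.stalkMap x).hom)
  haveI := (hY (f x)).1
  haveI := (hY (f x)).2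
  exact normal_of_weaklyEtale (Y.presheaf.stalk (f x)) (X.presheaf.stalk x)

end Groth.Agent.S7180
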