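import Groth.Statements.S1967
import Groth.Agent.S7180
import Groth.Agent.NormalTensor.Basic
-- import your own Groth.Agent.* helpers here

set_option autoImplicit false
universe u
open TensorProduct
open EtAlg

namespace Groth.Agent.S1967

/-- If A is an integrally closed domain with fraction field K and B is weakly etale over A, then every
element of B ⊗_A K that is integral over B (via b ↦ b ⊗ 1) already comes from B. -/
theorem result (A : Type u) [CommRing A] [IsDomain A] [IsIntegrallyClosed A]
    (K : Type u) [Field K] [Algebra A K] [IsFractionRing A K] (B : Type u) [CommRing B] [Algebra A B]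
    [Algebra.WeaklyEtale A B] :
    IsIntegrallyClosedIn B (B ⊗[A] K) := by
  have hn : EGA4.IsNormalRing B := by
    intro P _
    let p := P.under A
    letI := Localization.AtPrime.algebraOfLiesOver p P
    haveI : Algebra.WeaklyEtale B (Localization.AtPrime P) := WLocalLib.weaklyEtale_of_isLocalization P.primeCompl
    haveI : Algebra.WeaklyEtale A (Localization.AtPrime P) := Algebra.WeaklyEtale.trans A B _
    haveI : Algebra.WeaklyEtale (Localization.AtPrime p) (Localization.AtPrime P) :=
      WLocalLib.weaklyEtale_of_isLocalization_base (A := A) p.primeCompl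
    haveI : IsDomain (Localization.AtPrime p) :=
      IsLocalization.isDomain_of_le_nonZeroDivisors _ p.primeCompl_le_nonZeroDivisors
    haveI : IsIntegrallyClosed (Localization.AtPrime p) :=
      isIntegrallyClosed_of_isLocalization _ p.primeCompl p.primeCompl_le_nonZeroDivisors
    exact S7180.normal_of_weaklyEtale (Localization.AtPrime p) (Localization.AtPrime P)
  haveI : IsLocalization (Algebra.algebraMapSubmonoid B (nonZeroDivisors A)) (B ⊗[A] K) := inferInstance
  refine NormalTensor.isIntegrallyClosedIn_of_isLocalization (Algebra.algebraMapSubmonoid B (nonZeroDivisors A)) ?_ hn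
  rintro _ ⟨a, ha, rfl⟩
  refine mem_nonZeroDivisors_iff_right.2 fun b hb => ?_
  have hreg : IsSMulRegular B a := Module.Flat.isSMulRegular_of_nonZeroDivisors ha
  refine hreg ?_
  show a • b = a • (0 : B)
  rw [smul_zero, Algebra.smul_def, mul_comm, hb]

end Groth.Agent.S1967
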