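import Groth.Statements.S1968
import Groth.Agent.WeakDimOne.Basic
-- import your own Groth.Agent.* helpers here

set_option autoImplicit false
universe u
open EtAlg

namespace Groth.Agent.S1968

/-- Let (A_j) be a family of valuation rings with fraction fields K_j. Then every ideal of the product
ring Π A_j is a flat Π A_j-module (that is, Π A_j has weak dimension at most 1), and Π K_j is the
localization of Π A_j at its non-zero-divisors. -/
theorem result {J : Type u} (A : J → Type u) [∀ j, CommRing (A j)] [∀ j, IsDomain (A j)]
    [∀ j, ValuationRing (A j)] (K : J → Type u) [∀ j, Field (K j)] [∀ j, Algebra (A j) (K j)]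
    [∀ j, IsFractionRing (A j) (K j)] :
    (∀ I : Ideal (∀ j, A j), Module.Flat (∀ j, A j) I) ∧
      IsLocalization (nonZeroDivisors (∀ j, A j)) (∀ j, K j) := by
  classical
  refine ⟨WeakDimOne.flat_of_forall_fg_ideal_flat fun I hI => ?_, ?_⟩
  · obtain ⟨s, rfl⟩ := hI
    have hprinc : ∀ j, (Ideal.span ((fun x : ∀ j, A j => x j) '' (s : Set (∀ j, A j)))).IsPrincipal :=
      fun j => IsBezout.isPrincipal_of_FG _
        ⟨s.image (fun x : ∀ j, A j => x j), by rw [Finset.coe_image]⟩
    choose g hg using fun j => (hprinc j).principal
    have hgen : Submodule.span (∀ j, A j) (s : Set (∀ j, A j)) = Submodule.span (∀ j, A j) {g} := by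
      apply le_antisymm
      · rw [Submodule.span_le]
        intro x hx
        have : ∀ j, ∃ d : A j, d * g j = x j := fun j => by
          have hm : x j ∈ Ideal.span ((fun x : ∀ j, A j => x j) '' (s : Set (∀ j, A j))) :=
            Ideal.subset_span ⟨x, hx, rfl⟩
          rw [hg j] at hm
          exact Ideal.mem_span_singleton'.mp hm
        choose d hd using this
        exact Submodule.mem_span_singleton.mpr ⟨d, funext hd⟩
      · rw [Submodule.span_le, Set.singleton_subset_iff]
        have : ∀ j, ∃ c : (∀ j, A j) → A j, ∑ x ∈ s, c x * x j = g j := fun j => by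
          have hm : g j ∈ Ideal.span ((fun x : ∀ j, A j => x j) '' (s : Set (∀ j, A j))) := by
            rw [hg j]; exact Submodule.mem_span_singleton_self _
          rw [show (fun x : ∀ j, A j => x j) = ⇑(Pi.evalRingHom A j) from rfl, ← Ideal.map_span,
            Ideal.mem_map_iff_of_surjective (Pi.evalRingHom A j) (fun a => ⟨Pi.single j a, Pi.single_eq_same j a⟩)] at hm
          obtain ⟨y, hy, hyj⟩ := hm
          obtain ⟨c, -, rfl⟩ := Submodule.mem_span_finset.mp hy
          exact ⟨fun x => c x j, by rw [← hyj]; simp⟩
        choose c hc using this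
        have : g = ∑ x ∈ s, (fun j => c j x) • x := by
          funext j; rw [Finset.sum_apply]; exact (hc j).symm
        rw [SetLike.mem_coe, this]
        exact Submodule.sum_mem _ fun x hx => Submodule.smul_mem _ _ (Submodule.subset_span hx)
    show Module.Flat (∀ j, A j) ↥(Submodule.span (∀ j, A j) (s : Set (∀ j, A j)))
    rw [hgen]
    let e : ∀ j, A j := fun j => if g j = 0 then 0 else 1
    have heg : e * g = g := by
      funext j; show (if g j = 0 then 0 else 1) * g j = g j
      split_ifs with h <;> simp [h]
    let π : (∀ j, A j) →ₗ[∀ j, A j] ↥(Submodule.span (∀ j, A j) {g}) :=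
      LinearMap.toSpanSingleton _ _ ⟨g, Submodule.mem_span_singleton_self g⟩
    have huniq : ∀ a b : ∀ j, A j, a * g = b * g → e * a = e * b := fun a b hab => funext fun j => by
      show (if g j = 0 then 0 else 1) * a j = (if g j = 0 then 0 else 1) * b j
      split_ifs with h
      · simp
      · rw [mul_right_cancel₀ h (congrFun hab j)]
    have hex : ∀ y : ↥(Submodule.span (∀ j, A j) {g}), ∃ a, a * g = (y : ∀ j, A j) := fun y => by
      obtain ⟨a, ha⟩ := Submodule.mem_span_singleton.mp y.2; exact ⟨a, ha⟩
    choose coef hcoef using hex
    let σ : ↥(Submodule.span (∀ j, A j) {g}) →ₗ[∀ j, A j] (∀ j, A j) :=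
      { toFun := fun y => e * coef y
        map_add' := fun y z => by
          rw [← mul_add]; apply huniq
          rw [add_mul, hcoef, hcoef, hcoef]; rfl
        map_smul' := fun r y => by
          show e * coef (r • y) = r * (e * coef y)
          rw [mul_left_comm]; apply huniq
          rw [mul_assoc, hcoef, hcoef]; rfl }
    have hsplit : π.comp σ = LinearMap.id := LinearMap.ext fun y => Subtype.ext (by
      show (e * coef y) • g = (y : ∀ j, A j)
      rw [smul_eq_mul, mul_comm e, mul_assoc, heg, hcoef])
    haveI := Module.Projective.of_split σ π hsplit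
    infer_instance
  · refine ⟨fun y => ?_, fun z => ?_, fun {x y} h => ⟨1, ?_⟩⟩
    · rw [Pi.isUnit_iff]
      intro j
      have hyj : (y : ∀ j, A j) j ≠ 0 := fun h0 => by
        have := (mem_nonZeroDivisors_iff_right.mp y.2) (Pi.single j 1) (funext fun i => by
          by_cases hi : i = j
          · subst hi; simp [h0]
          · simp [Pi.single_eq_of_ne hi])
        simpa using congrFun this j
      exact ((map_ne_zero_iff _ (IsFractionRing.injective (A j) (K j))).mpr hyj).isUnit
    · choose q hq using fun j => IsLocalization.surj (nonZeroDivisors (A j)) (z j)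
      refine ⟨(fun j => (q j).1, ⟨fun j => ((q j).2 : A j), ?_⟩), funext hq⟩
      rw [mem_nonZeroDivisors_iff_right]
      intro a ha
      funext j
      exact (mem_nonZeroDivisors_iff_right.mp (q j).2.2) _ (congrFun ha j)
    · rw [show x = y from funext fun j => IsFractionRing.injective (A j) (K j) (congrFun h j)]

end Groth.Agent.S1968
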