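import Groth.Statements.S19695
import Groth.Agent.FinCovLib.Trace
-- import your own Groth.Agent.* helpers here

set_option autoImplicit false
universe u
open CategoryTheory CategoryTheory.Limits AlgebraicGeometry Opposite
open FinCov

open Groth.Agent
namespace Groth.Agent.S19695

/-- Let X be a scheme, A a quasi-coherent O_X-algebra which is locally free of rank d as an O_X-module,
and τ : A → O_X its trace (the O_X-linear map which over every affine open where A is finite free is
the trace of the regular representation). Then the structure map O_X → A followed by τ equals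
multiplication by d on O_X. -/
theorem result {X : Scheme.{u}} (A : RelSpec.QCAlg X) (d : ℕ)
    (hA : FlatMod.IsFinLocFreeOfRank d A.toModule)
    (τ : A.toModule ⟶ Coh.structureModule X) (hτ : FinCov.IsTrace A τ) :
    FinCov.strMod A ≫ τ = d • 𝟙 (Coh.structureModule X) := by
  refine Scheme.Modules.hom_ext _ _ fun U => ?_
  ext s
  have h : ∀ n : ℕ, ((n • 𝟙 (Coh.structureModule X)).app U) s = (n : Γ(X, U)) * (show Γ(X, U) from s) := by
    intro n
    induction n with
    | zero => rw [zero_smul, Scheme.Modules.Hom.zero_app, Nat.cast_zero, zero_mul]; rfl
    | succ k ih =>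
      rw [succ_nsmul, Scheme.Modules.Hom.add_app, Nat.cast_succ, add_mul, one_mul]
      exact congrArg (fun z : Γ(X, U) => z + (show Γ(X, U) from s)) ih
  exact (FinCovLib.app_algebraMap hA hτ (show Γ(X, U) from s)).trans (h d).symm

end Groth.Agent.S19695
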