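import Groth.Statements.S19700
import Groth.Agent.FinCovLib.Dbl
-- import your own Groth.Agent.* helpers here

set_option autoImplicit false
universe u
open CategoryTheory CategoryTheory.Limits AlgebraicGeometry Opposite
open FinCov

open Groth.Agent
namespace Groth.Agent.S19700

/-- Let X be a scheme with 2 invertible in O_X(X), L an invertible O_X-module, m : L ⊗ L → O_X a
homomorphism of O_X-modules, (A, j : L → A) a quasi-coherent O_X-algebra presented as O_X ⊕ L with
product given by m (every section of A is uniquely s·1 + j(l), and j(l)·j(l') = m(l ⊗ l')·1), and τ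
: A → O_X the trace of A (the O_X-linear map which over every affine open where A is finite free is
the trace of the regular representation; A is locally free of rank 2 here). Then for every open
subset U of X and every section a of A over U, τ(a) = 0 if and only if a lies in the image of j over
U: the kernel of the trace is exactly j(L). -/
theorem result {X : Scheme.{u}} (L : X.Modules) (hL : PicF.IsInvertible L)
    (m : CohB1.tensorMod L L ⟶ Coh.structureModule X) (A : RelSpec.QCAlg X) (j : L ⟶ A.toModule)
    (h : FinCov.IsDblAlg L m A j) (h2 : IsUnit (2 : Γ(X, ⊤)))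
    (τ : A.toModule ⟶ Coh.structureModule X) (hτ : FinCov.IsTrace A τ)
    (U : X.Opens) (a : A.toModule.val.obj (op U)) :
    (τ.val.app (op U)).hom a = 0 ↔ a ∈ Set.range (j.val.app (op U)).hom := by
  letI := FinCovLib.secAlgebra A U
  have hL' := FinCovLib.isFinLocFreeOfRank_one_of_isInvertible hL
  have hA := FinCovLib.pinned_rank_two (FinCovLib.pinned_of_isDblAlg m h) hL'
  obtain ⟨⟨s, l⟩, hsl⟩ := (h.1 U).2 a
  have e0 : ∀ l' : Γ(L, U), τ.app U (j.app U l') = (0 : Γ(X, U)) := fun l' => FinCovLib.app_dbl_gen m hL' h hτ l'
  refine ⟨fun ha => ⟨l, ?_⟩, ?_⟩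
  · have e1 : FinCovLib.lmap τ U (algebraMap Γ(X, U) (FinCovLib.Sec A U) s + FinCovLib.jA j U l) = ((2 : ℕ) : Γ(X, U)) * s := by
      rw [map_add, FinCovLib.lmap_apply, FinCovLib.app_algebraMap hA hτ]
      exact (congrArg _ (e0 l)).trans (add_zero _)
    have e2 : FinCovLib.lmap τ U (algebraMap Γ(X, U) (FinCovLib.Sec A U) s + FinCovLib.jA j U l) = 0 := by
      exact (congrArg (fun z : FinCovLib.Sec A U => τ.app U z) hsl).trans ha
    have hu : IsUnit (((2 : ℕ) : Γ(X, U))) := by
      have := h2.map (X.presheaf.map (homOfLE (le_top : U ≤ ⊤)).op).hom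
      rw [map_ofNat] at this
      simpa using this
    have hs : s = 0 := hu.mul_right_eq_zero.1 (e1.symm.trans e2)
    rw [← hsl]
    simp only [hs, map_zero, zero_add]
  · rintro ⟨l', rfl⟩
    exact e0 l'

end Groth.Agent.S19700
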