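import Groth.Statements.S19701
import Groth.Agent.NormHomLib.FinLocFree
import Groth.Agent.QCohAffine.Smul
import Groth.Agent.CurveLib.GlobalFun
import Groth.Agent.CurveLib.DegTensor
import Groth.Agent.REqLib.P1Irred
import Groth.Agent.IntLib.Push
import Groth.Agent.CurveFF.GenusOneCover
import Groth.Agent.S10829

set_option autoImplicit false
universe u
open CategoryTheory CategoryTheory.Limits AlgebraicGeometry Opposite
open Curves

namespace Groth.Agent.S19701

open CategoryTheory CategoryTheory.Limits AlgebraicGeometry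

set_option backward.isDefEq.respectTransparency false
set_option linter.style.haveILetI false
set_option maxHeartbeats 1000000


/-- Let k be an algebraically closed field of characteristic different from 2 and X a hyperelliptic
curve of genus g over k: X → Spec k is smooth and proper, X is connected of dimension one with g =
dim_k H¹(X, O_X) ≥ 2, and h : X → P¹_k is a k-morphism which is a double cover (finite, flat,
locally of finite presentation, of rank 2 at every point). Let τ : h_*O_X → O_{P¹} be the trace of h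
(the O-linear map which over every affine open of P¹_k where h_*O_X is finite free is the trace of
the regular representation). Then the kernel of τ — an invertible sheaf on P¹_k — has degree −g − 1,
the degree of a rank-one sheaf E on P¹_k being χ(E) − χ(O). (On P¹_k this says that ker τ is
isomorphic to O(−g − 1); only the degree is asserted here.) -/
theorem result (k : Type u) [Field k] [IsAlgClosed k]
    (h2 : (2 : k) ≠ 0) {X : Scheme.{u}} (p : X ⟶ Spec (CommRingCat.of k)) [IsProper p] [Smooth p]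
    [ConnectedSpace ↥X] (hX : topologicalKrullDim ↥X = 1) (hg : 2 ≤ @Curv2.genus k _ X ⟨p⟩)
    (h : X ⟶ CohB1.ProjSpace 1 k) (hh : h ≫ CohB1.ProjSpace.toSpec 1 k = p)
    [IsFinite h] [Flat h] [LocallyOfFinitePresentation h]
    (hr : ∀ y : ↥(CohB1.ProjSpace 1 k), h.finrank y = 2)
    (τ : (Scheme.Modules.pushforward h).obj (Coh.structureModule X) ⟶ Coh.structureModule (CohB1.ProjSpace 1 k))
    (hτ : FinCov.IsTraceHom h τ) :
    @Curv2.deg k _ (CohB1.ProjSpace 1 k) ⟨CohB1.ProjSpace.toSpec 1 k⟩ (kernel τ) 1 =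
      -((@Curv2.genus k _ X ⟨p⟩ : ℤ) + 1) := by
  classical
  letI : X.Over (Spec (CommRingCat.of k)) := ⟨p⟩
  letI : (CohB1.ProjSpace 1 k).Over (Spec (CommRingCat.of k)) := ⟨CohB1.ProjSpace.toSpec 1 k⟩
  haveI : IsProper (X ↘ Spec (CommRingCat.of k)) := inferInstanceAs (IsProper p)
  haveI : Smooth (X ↘ Spec (CommRingCat.of k)) := inferInstanceAs (Smooth p)
  haveI : IsProper ((CohB1.ProjSpace 1 k) ↘ Spec (CommRingCat.of k)) := inferInstanceAs (IsProper (CohB1.ProjSpace.toSpec 1 k))
  haveI := Groth.Agent.CurveLib.isIntegral_of_smooth (X := X) k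
  haveI : IsIntegral (CohB1.ProjSpace 1 k) := Groth.Agent.REqLib.isIntegral_projSpace 1 k
  haveI := Groth.Agent.EulerIneqLib.isNoetherian_proper (X := X) k
  haveI := Groth.Agent.EulerIneqLib.isNoetherian_proper (X := CohB1.ProjSpace 1 k) k
  let g := ClSub.unitToPush h ≫ τ
  let c : Γ(CohB1.ProjSpace 1 k, ⊤) := Groth.Agent.QCohAffine.homSec g
  obtain ⟨D, d, hxD, hD, hn⟩ := Groth.Agent.NormAmpleLib.exists_nice (g := h)
    (Groth.Agent.FinLocFreeLib.isFinLocFree_push h ⟨inferInstance, inferInstance, inferInstance⟩)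
    (genericPoint ↥(CohB1.ProjSpace 1 k))
  obtain rfl : d = 2 := (Groth.Agent.NormHomLib.nice_rank h hD hn hxD).symm.trans (hr _)
  have hc : c = 2 := by
    haveI : Nonempty D := ⟨⟨_, hxD⟩⟩
    refine map_injective_of_isIntegral _ (homOfLE (le_top : D ≤ ⊤)) ?_
    rw [map_ofNat]
    refine (Groth.Agent.QCohAffine.homSec_eq g D).symm.trans ?_
    letI : Algebra Γ(CohB1.ProjSpace 1 k, D) Γ(X, h ⁻¹ᵁ D) := (h.app D).hom.toAlgebra
    obtain ⟨b⟩ := hn
    haveI : Module.Free Γ(CohB1.ProjSpace 1 k, D) Γ(X, h ⁻¹ᵁ D) := Module.Free.of_basis b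
    haveI : Module.Finite Γ(CohB1.ProjSpace 1 k, D) Γ(X, h ⁻¹ᵁ D) := Module.Finite.of_basis b
    show ((τ.val.app (Opposite.op D)).hom ((h.app D).hom 1) : Γ(CohB1.ProjSpace 1 k, D)) = (2 : Γ(CohB1.ProjSpace 1 k, D))
    rw [map_one, hτ D hD inferInstance inferInstance, ← map_one (algebraMap Γ(CohB1.ProjSpace 1 k, D) Γ(X, h ⁻¹ᵁ D)),
      Algebra.trace_algebraMap_of_basis b, Fintype.card_fin, nsmul_eq_mul, mul_one, Nat.cast_ofNat]
  obtain ⟨c', hc'⟩ : ∃ c' : Γ(CohB1.ProjSpace 1 k, ⊤), c' * c = 1 := by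
    refine ⟨ProjUP.toGlobal (CohB1.ProjSpace.toSpec 1 k) ((2 : k)⁻¹), ?_⟩
    rw [hc, ← map_ofNat (ProjUP.toGlobal (CohB1.ProjSpace.toSpec 1 k)) 2, ← map_mul, inv_mul_cancel₀ h2, map_one]
  let σ := Groth.Agent.QCohAffine.secHom (Coh.structureModule (CohB1.ProjSpace 1 k)) c'
  have hσ : σ ≫ g = 𝟙 _ := by
    refine Groth.Agent.QCohAffine.hom_ext_sec ?_
    rw [Groth.Agent.QCohAffine.homSec_comp, Groth.Agent.QCohAffine.homSec_secHom]
    have hlin := (g.val.app (Opposite.op ⊤)).hom.map_smul c' (1 : Γ(CohB1.ProjSpace 1 k, ⊤))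
    refine (congrArg (g.app ⊤) (mul_one c').symm).trans (Eq.trans hlin ?_)
    exact hc'
  haveI : IsSplitEpi τ := IsSplitEpi.mk' ⟨σ ≫ ClSub.unitToPush h, by rw [Category.assoc]; exact hσ⟩
  have hS : (ShortComplex.mk (kernel.ι τ) τ (kernel.condition τ)).ShortExact :=
    ShortComplex.ShortExact.mk' (ShortComplex.exact_of_f_is_kernel _ (kernelIsKernel τ)) inferInstance inferInstance
  have hcohX := Groth.Agent.CurveLib.isCoh_of_isInvertible (X := X) Groth.Agent.ParaFLib.isInvertible_structureModule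
  have hcohP := Groth.Agent.CurveLib.isCoh_of_isInvertible (X := CohB1.ProjSpace 1 k) Groth.Agent.ParaFLib.isInvertible_structureModule
  have hcohM : Coh.IsCoh ((Scheme.Modules.pushforward h).obj (Coh.structureModule X)) := by
    haveI := hcohX.1
    haveI : Coh.IsQCoh ((Scheme.Modules.pushforward h).obj (Coh.structureModule X)) :=
      Groth.Agent.QCohLib.isQCoh_pushforward (Coh.structureModule X) h
    refine Groth.Agent.QCohLib.isCoh_of_finite _ fun W hW => ?_
    haveI := Groth.Agent.QCohLib.finite_sections_of_isCoh hcohX (hW.preimage h)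
    letI : Algebra Γ(CohB1.ProjSpace 1 k, W) Γ(X, h ⁻¹ᵁ W) := (h.app W).hom.toAlgebra
    letI : Module Γ(CohB1.ProjSpace 1 k, W) Γ(Coh.structureModule X, h ⁻¹ᵁ W) := Module.compHom _ (h.app W).hom
    haveI : IsScalarTower Γ(CohB1.ProjSpace 1 k, W) Γ(X, h ⁻¹ᵁ W) Γ(Coh.structureModule X, h ⁻¹ᵁ W) :=
      .of_algebraMap_smul fun _ _ => rfl
    haveI : Module.Finite Γ(CohB1.ProjSpace 1 k, W) Γ(X, h ⁻¹ᵁ W) := IsFinite.finite_app h W hW
    exact (Module.Finite.trans Γ(X, h ⁻¹ᵁ W) Γ(Coh.structureModule X, h ⁻¹ᵁ W) :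
      Module.Finite Γ(CohB1.ProjSpace 1 k, W) Γ(Coh.structureModule X, h ⁻¹ᵁ W))
  have he := Groth.Agent.CurveLib.euler_shortExact (K := k) hS
    (Groth.Agent.QCohLib.isCoh_kernel_cokernel τ hcohM hcohP).1 hcohM hcohP
  dsimp at he
  have hdimP : topologicalKrullDim ↥(CohB1.ProjSpace 1 k) ≤ 1 :=
    by exact_mod_cast (Groth.Agent.S10829.result k 1).le
  haveI := hcohX.1
  rw [Groth.Agent.CurveLib.euler_eq_sub (k := k) (M := Coh.structureModule (CohB1.ProjSpace 1 k)) hdimP,
    Groth.Agent.CurveLib.euler_eq_sub (k := k) (M := (Scheme.Modules.pushforward h).obj (Coh.structureModule X)) hdimP,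
    Groth.Agent.IntLib.finrank_push k h hh (Coh.structureModule X) 0,
    Groth.Agent.IntLib.finrank_push k h hh (Coh.structureModule X) 1,
    Groth.Agent.CurveLib.finrank_H0_structure, Groth.Agent.CurveLib.finrank_H0_structure] at he
  have hP := Groth.Agent.CurveFF.genus_projSpace_one k
  unfold Curv2.genus at *
  unfold Curv2.deg
  rw [Groth.Agent.CurveLib.euler_eq_sub (k := k) (M := Coh.structureModule (CohB1.ProjSpace 1 k)) hdimP,
    Groth.Agent.CurveLib.finrank_H0_structure]
  omega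

end Groth.Agent.S19701
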