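import Groth.Statements.S19703
import Groth.Agent.MonoFibre.SchemeImage
import Groth.Agent.MonoFibre.RigidityGrp
-- import your own Groth.Agent.* helpers here

set_option autoImplicit false
universe u
open CategoryTheory MonoidalCategory CartesianMonoidalCategory MonObj GrpObj AlgebraicGeometry CategoryTheory.Limits
open AlgGrp

namespace Groth.Agent.S19703

/-- Let k be a field, G an anti-affine algebraic group over k (smooth, of finite type, with O(G) = k), H
a connected k-group scheme of finite type and j : M → H its largest anti-affine closed subgroup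
scheme H_ant (O(M) = k and every anti-affine closed subgroup scheme of H factors through M). Then
every morphism of k-schemes f : G → H with f(e_G) = e_H factors through H_ant. -/
theorem result (k : Type u) [Field k]
    (G H : Over (Spec (CommRingCat.of k))) [GrpObj G] [Smooth G.hom] [QuasiCompact G.hom]
    (hG : Function.Bijective ((Scheme.ΓSpecIso (CommRingCat.of k)).inv ≫ G.hom.appTop).hom)
    [GrpObj H] [LocallyOfFiniteType H.hom] [QuasiCompact H.hom] [ConnectedSpace ↥H.left]
    (M : Over (Spec (CommRingCat.of k))) [GrpObj M] [LocallyOfFiniteType M.hom] [QuasiCompact M.hom] (j : M ⟶ H) [IsMonHom j] [IsClosedImmersion j.left]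
    (hM : Function.Bijective ((Scheme.ΓSpecIso (CommRingCat.of k)).inv ≫ M.hom.appTop).hom)
    (hMmax : ∀ (M₁ : Over (Spec (CommRingCat.of k))) [GrpObj M₁] [LocallyOfFiniteType M₁.hom] [QuasiCompact M₁.hom] (j₁ : M₁ ⟶ H) [IsMonHom j₁] [IsClosedImmersion j₁.left],
      Function.Bijective ((Scheme.ΓSpecIso (CommRingCat.of k)).inv ≫ M₁.hom.appTop).hom → ∃ g : M₁ ⟶ M, g ≫ j = j₁)
    (f : G ⟶ H) (hf : η[G] ≫ f = η[H]) :
    ∃ g : G ⟶ M, g ≫ j = f := by
  haveI : IsSeparated H.hom := Groth.Agent.GrpSchLib.isSeparated_hom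
  haveI := Groth.Agent.MonoFibre.Rigidity.isMonHom_of_one hG f hf
  haveI : QuasiCompact (f.left ≫ H.hom) := by rw [Over.w]; infer_instance
  haveI : QuasiCompact f.left := QuasiCompact.of_comp f.left H.hom
  let K : Over (Spec (CommRingCat.of k)) := Over.mk (f.left.imageι ≫ H.hom)
  let i : K ⟶ H := Over.homMk f.left.imageι rfl
  let g : G ⟶ K := Over.homMk f.left.toImage (by
    show f.left.toImage ≫ f.left.imageι ≫ H.hom = G.hom
    rw [Scheme.Hom.toImage_imageι_assoc, Over.w])
  have hgi : g ≫ i = f := Over.OverMorphism.ext f.left.toImage_imageι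
  haveI : IsClosedImmersion i.left := inferInstanceAs (IsClosedImmersion f.left.imageι)
  haveI : IsSchemeTheoreticallyDominant g.left := Groth.Agent.MonoFibre.SchemeImage.toImage_dominant f.left
  haveI : QuasiCompact g.left := inferInstanceAs (QuasiCompact f.left.toImage)
  obtain ⟨he, hd⟩ := Groth.Agent.MonoFibre.SchemeImage.exists_div f i g hgi
  obtain ⟨hK, hi⟩ := Groth.Agent.MonoFibre.SchemeImage.exists_grpObj i he hd
  letI := hK
  haveI : LocallyOfFiniteType K.hom := inferInstanceAs (LocallyOfFiniteType (f.left.imageι ≫ H.hom))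
  haveI : QuasiCompact K.hom := inferInstanceAs (QuasiCompact (f.left.imageι ≫ H.hom))
  have hKb : Function.Bijective ((Scheme.ΓSpecIso (CommRingCat.of k)).inv ≫ K.hom.appTop).hom := by
    have h : ∀ x, g.left.appTop.hom (((Scheme.ΓSpecIso (CommRingCat.of k)).inv ≫ K.hom.appTop).hom x) =
        ((Scheme.ΓSpecIso (CommRingCat.of k)).inv ≫ G.hom.appTop).hom x := fun x => by
      rw [← Over.w g, Scheme.Hom.comp_appTop]
      rfl
    refine ⟨fun a b hab => hG.1 (by rw [← h, ← h, hab]), fun a => ?_⟩
    obtain ⟨c, hc⟩ := hG.2 (g.left.appTop.hom a)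
    exact ⟨c, g.left.app_injective ⊤ ((h c).trans hc)⟩
  obtain ⟨g₁, hg₁⟩ := hMmax K i hKb
  exact ⟨g ≫ g₁, by rw [Category.assoc, hg₁, hgi]⟩

end Groth.Agent.S19703
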