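import Mathlib
import Groth.Agent.AdicDecay.Basic
import Groth.Statements.S19708

set_option autoImplicit false
universe u v w
open W4c5adicflatcompl
open CAlg

namespace Groth.Agent.S19708

/-- Let A be a commutative ring, I an ideal of A, M an I-adically complete A-module, Z a set and f : Z →
M a function. Then f is I-adically decaying (for every n, all but finitely many values f(z) lie in
I^n M) if and only if the family (f(z))_{z ∈ Z} has an I-adic sum in M, i.e. there is an element m
of M such that for every n some finite subset S of Z has f(z) ∈ I^n M for all z outside S and m −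
Σ_{z ∈ S} f(z) ∈ I^n M. -/
theorem result {A : Type u} [CommRing A] (I : Ideal A) (Z : Type v)
    (M : Type w) [AddCommGroup M] [Module A M] [IsAdicComplete I M] (f : Z → M) :
    f ∈ decaying I Z M ↔ ∃ m : M, ∀ n : ℕ, ∃ S : Finset Z,
      (∀ z, z ∉ S → f z ∈ (I ^ n • ⊤ : Submodule A M)) ∧ m - (∑ z ∈ S, f z) ∈ (I ^ n • ⊤ : Submodule A M) := by
  classical
  constructor
  · intro hf
    obtain ⟨m, hm, -⟩ := AdicDecay.existsUnique_adicSum f hf
    exact ⟨m, fun n => ⟨(hf n).toFinset, fun z hz => not_not.mp fun h' => hz ((Set.Finite.mem_toFinset _).mpr h'),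
      hm n _ fun z hz => not_not.mp fun h' => hz ((Set.Finite.mem_toFinset _).mpr h')⟩⟩
  · rintro ⟨m, hm⟩ n
    obtain ⟨S, hS, -⟩ := hm n
    exact S.finite_toSet.subset fun z hz => by_contra fun h => hz (hS z h)

end Groth.Agent.S19708
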