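import Groth.Statements.S1971
import Groth.Agent.PairHens.Basic
import Mathlib
-- import your own Groth.Agent.* helpers here

set_option autoImplicit false
universe u
open EtAlg

namespace Groth.Agent.S1971

/-- Let A be a ring with ideals I and J having the same zero locus in Spec A. Then an A-algebra is a
henselization of the pair (A, I) if and only if it is a henselization of the pair (A, J). -/
theorem result (A : Type u) [CommRing A] (I J : Ideal A)
    (h : PrimeSpectrum.zeroLocus (I : Set A) = PrimeSpectrum.zeroLocus (J : Set A)) (B : Type u) [CommRing B] [Algebra A B] :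
    Hens2.IsPairHenselization A I B ↔ Hens2.IsPairHenselization A J B := by
  rw [PrimeSpectrum.zeroLocus_eq_iff] at h
  suffices ∀ I J : Ideal A, I.radical = J.radical → Hens2.IsPairHenselization A I B →
      Hens2.IsPairHenselization A J B from ⟨this I J h, this J I h.symm⟩
  intro I J h hB
  have hr : ∀ (C : Type u) [CommRing C] (f : A →+* C), (I.map f).radical = (J.map f).radical := fun C _ f => by
    refine le_antisymm (Ideal.radical_le_radical_iff.2 ?_) (Ideal.radical_le_radical_iff.2 ?_)
    · exact (Ideal.map_mono (Ideal.le_radical.trans h.le)).trans (Ideal.map_radical_le f)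
    · exact (Ideal.map_mono (Ideal.le_radical.trans h.ge)).trans (Ideal.map_radical_le f)
  refine ⟨(Groth.Agent.Hensel.iff_of_radical_eq (hr B (algebraMap A B))).1 hB.1, fun C _ K f hC hf => ?_⟩
  haveI : HenselianRing C K.radical :=
    (Groth.Agent.Hensel.iff_of_radical_eq (Ideal.radical_idem K).symm).1 hC
  exact hB.2 C K.radical f inferInstance ((Ideal.le_radical.trans (hr C f).le).trans (Ideal.radical_mono hf))

end Groth.Agent.S1971
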