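import Groth.Statements.S19710
import Mathlib
import Groth.Agent.FF.Chain

set_option autoImplicit false
open FunFld
open Groth.Agent.FF

namespace Groth.Agent.S19710

/-- Let `k` be an algebraically closed field of characteristic zero. A `g^r_d` on a function field `K/k`
of one variable is a divisor `D` of degree `d` with a subspace `V ⊆ L(D)` of dimension `r + 1`;
`V(-nP) = V ∩ L(D - nP)`, and the `i`-th vanishing order `m_i(V, P)` (`m_0 < ⋯ < m_r`) equals `m`
exactly when `dim V(-mP) = r + 1 - i` and `dim V(-(m+1)P) = r - i`. Let `K_Y` have genus `0` and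
carry a `g^r_d` `(D_Y, V_Y)` with at least a cusp at a place `Q_Y` (`dim V_Y(-2Q_Y) ≥ r`); let
`(D_Z, V_Z)` be a `g^r_d` on a second function field `K_Z`, compatible with `(D_Y, V_Y)` at a node
formed by a place `P ≠ Q_Y` of `K_Y` and a place `Q` of `K_Z` (`dim V_Y(-nP) + dim V_Z(-(d+1-n)Q) =
r + 1` for `0 ≤ n ≤ d + 1`), and let `P'` be a place of `K_Y` different from `P` and from `Q_Y`.
Then `m_i(V_Y, P') < m_i(V_Z, Q)` for all but at most one index: the set of `i ≤ r` for which the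
`i`-th vanishing order of `V_Y` at `P'` equals the `i`-th vanishing order of `V_Z` at `Q` has at
most one element. (In the source `Q_Y` is the point where the rational component `Y` meets a chain
of curves ending in a curve of positive genus, which forces the cusp condition assumed here; the
source works over the complex numbers.) -/
theorem result
    (k : Type*) [Field k] [IsAlgClosed k] [CharZero k]
    (KY : Type*) [Field KY] [Algebra k KY] (hKY : FunFld.IsFunctionField k KY) (hg0 : FunFld.genus k KY = 0)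
    (KZ : Type*) [Field KZ] [Algebra k KZ] (hKZ : FunFld.IsFunctionField k KZ)
    (d r : ℕ) (DY : FunFld.Divisor k KY) (hDY : DY.deg = d) (DZ : FunFld.Divisor k KZ) (hDZ : DZ.deg = d)
    (VY : Submodule k KY) (hVY : VY ≤ FunFld.L DY) (hVYr : Module.finrank k ↥VY = r + 1)
    (VZ : Submodule k KZ) (hVZ : VZ ≤ FunFld.L DZ) (hVZr : Module.finrank k ↥VZ = r + 1)
    (QY : FunFld.Place k KY) (hcusp : r ≤ Module.finrank k ↥(VY ⊓ FunFld.L (DY - Finsupp.single QY ((2 : ℤ)))))
    (P : FunFld.Place k KY) (hP : P ≠ QY) (Q : FunFld.Place k KZ)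
    (hcomp : ∀ n : ℕ, n ≤ d + 1 →
      Module.finrank k ↥(VY ⊓ FunFld.L (DY - Finsupp.single P ((n : ℤ)))) + Module.finrank k ↥(VZ ⊓ FunFld.L (DZ - Finsupp.single Q ((d : ℤ) + 1 - n))) = r + 1)
    (P' : FunFld.Place k KY) (hP'P : P' ≠ P) (hP'Q : P' ≠ QY) :
    {i : ℕ | i ≤ r ∧ ∃ m : ℕ,
        Module.finrank k ↥(VY ⊓ FunFld.L (DY - Finsupp.single P' ((m : ℤ)))) = r + 1 - i ∧
        Module.finrank k ↥(VY ⊓ FunFld.L (DY - Finsupp.single P' ((m : ℤ) + 1))) = r - i ∧
        Module.finrank k ↥(VZ ⊓ FunFld.L (DZ - Finsupp.single Q ((m : ℤ)))) = r + 1 - i ∧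
        Module.finrank k ↥(VZ ⊓ FunFld.L (DZ - Finsupp.single Q ((m : ℤ) + 1))) = r - i}.Subsingleton := by
  rintro i ⟨hi, m, h1, h2, h3, h4⟩ i' ⟨hi', m', h1', h2', h3', h4'⟩
  have key : ∀ (i m : ℕ), i ≤ r → vd VY DY P' (m : ℤ) = r + 1 - i → vd VZ DZ Q ((m : ℤ) + 1) = r - i →
      ∃ f ∈ VY, f ≠ 0 ∧ FunFld.div k f + DY = Finsupp.single P' (m : ℤ) + Finsupp.single P ((d : ℤ) - m) := by
    intro i m hi h1 h4
    have hmd : m ≤ d := by
      by_contra h
      rw [vd_eq_zero hKY P' (by omega : DY.deg < (m : ℤ))] at h1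
      omega
    have h : vd VY DY P ((d - m : ℕ) : ℤ) + vd VZ DZ Q ((d : ℤ) + 1 - ((d - m : ℕ) : ℤ)) = r + 1 :=
      hcomp (d - m) (by omega)
    rw [show ((d - m : ℕ) : ℤ) = (d : ℤ) - m by omega,
      show (d : ℤ) + 1 - ((d : ℤ) - m) = (m : ℤ) + 1 by omega, h4] at h
    exact exists_exact hKY hVY hP'P (by omega) (by omega)
  obtain ⟨f, hfV, hf0, hf⟩ := key i m hi h1 h4
  obtain ⟨g, hgV, hg0', hg⟩ := key i' m' hi' h1' h4'
  obtain ⟨c, hc⟩ := cusp_proportional hKY hg0 hVY hVYr hcusp hP hP'Q hfV hgV hf0 hg0'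
    (fun R hR hR' => by simp [hf, Finsupp.single_eq_of_ne hR, Finsupp.single_eq_of_ne hR'])
    (fun R hR hR' => by simp [hg, Finsupp.single_eq_of_ne hR, Finsupp.single_eq_of_ne hR'])
  have hm : m = m' := by
    have hc0 : c ≠ 0 := fun h => hg0' (by rw [hc, h, zero_smul])
    have e : FunFld.div k g = FunFld.div k f := by
      rw [hc, Algebra.smul_def, Groth.Agent.FF.div_mul hKY (by simpa using hc0) hf0, div_algebraMap hKY, zero_add]
    rw [e, hf] at hg
    have := DFunLike.congr_fun hg P'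
    simp [Finsupp.single_eq_of_ne hP'P] at this
    omega
  subst hm
  omega

end Groth.Agent.S19710
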