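import Groth.Statements.S19711
import Mathlib

set_option autoImplicit false
universe u
open CategoryTheory
open Coh

namespace Groth.Agent.S19711

/-- Let A be a Noetherian integral domain and F an A-linear additive functor from A-modules to A-modules
with F(A) a finitely generated A-module. Call such a functor generically injective when there is a
dense open subset U of Spec A such that for every point u of U whose residue field κ(u) is a
finitely generated A-algebra the comparison map F(A) ⊗_A κ(u) → F(κ(u)) is injective; since F is
A-linear this injectivity says: every m in F(A) whose image under F(A → κ(u)) vanishes satisfies s·m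
∈ u·F(A) for some s outside u. If F is generically injective then so is every A-linear additive
subfunctor K ⊆ F (a natural transformation K → F with injective components). (The published
statement is over a reduced Noetherian affine scheme, for additive functors on quasi-coherent
sheaves with values in abelian groups and the induced A-action, assumes F weakly bounded (F(A/p)
finitely generated for every prime ideal p) and also records that K is again weakly bounded; only
the finite generation of F(A), which its argument uses, is assumed here, and the integral case with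
A-linear functors stated here is the one its argument by generic flatness treats.) -/
theorem result {A : Type u} [CommRing A] [IsNoetherianRing A] [IsDomain A]
    (F K : ModuleCat.{u} A ⥤ ModuleCat.{u} A) [F.Additive] [F.Linear A] [K.Additive] [K.Linear A]
    (ι : K ⟶ F) (hι : ∀ X : ModuleCat.{u} A, Function.Injective (ι.app X).hom)
    (hfin : Module.Finite A (F.obj (ModuleCat.of A A)))
    (hGI : ∃ U : Set (PrimeSpectrum A), IsOpen U ∧ Dense U ∧ ∀ u ∈ U, Algebra.FiniteType A u.asIdeal.ResidueField →
        ∀ m : F.obj (ModuleCat.of A A),
          (F.map (ModuleCat.ofHom (Algebra.linearMap A u.asIdeal.ResidueField))).hom m = 0 →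
            ∃ s ∉ u.asIdeal, s • m ∈ u.asIdeal • (⊤ : Submodule A (F.obj (ModuleCat.of A A)))) :
    ∃ U : Set (PrimeSpectrum A), IsOpen U ∧ Dense U ∧ ∀ u ∈ U, Algebra.FiniteType A u.asIdeal.ResidueField →
        ∀ m : K.obj (ModuleCat.of A A),
          (K.map (ModuleCat.ofHom (Algebra.linearMap A u.asIdeal.ResidueField))).hom m = 0 →
            ∃ s ∉ u.asIdeal, s • m ∈ u.asIdeal • (⊤ : Submodule A (K.obj (ModuleCat.of A A))) := by
  classical
  obtain ⟨U, hUo, hUd, hU⟩ := hGI
  set FA := F.obj (ModuleCat.of A A)
  set KA := K.obj (ModuleCat.of A A)
  let j : KA →ₗ[A] FA := (ι.app (ModuleCat.of A A)).hom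
  have hj : Function.Injective j := hι _
  haveI : Module.Finite A KA := Module.Finite.of_injective j hj
  -- a retraction up to a nonzero scalar
  obtain ⟨f, hf, r, hr⟩ : ∃ f : A, f ≠ 0 ∧ ∃ r : FA →ₗ[A] KA, ∀ x, r (j x) = f • x := by
    let S := nonZeroDivisors A
    let jS := IsLocalizedModule.map S (LocalizedModule.mkLinearMap S KA) (LocalizedModule.mkLinearMap S FA) j
    have hjS : Function.Injective jS := IsLocalizedModule.map_injective S _ _ j hj
    let L := Localization S
    haveI : IsFractionRing A L := inferInstanceAs (IsFractionRing A (Localization (nonZeroDivisors A)))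
    letI : Field L := IsFractionRing.toField A
    let jL : LocalizedModule S KA →ₗ[L] LocalizedModule S FA := jS.extendScalarsOfIsLocalization S L
    obtain ⟨ρ, hρ⟩ := jL.exists_leftInverse_of_injective (LinearMap.ker_eq_bot.2 hjS)
    haveI : Module.FinitePresentation A FA := Module.finitePresentation_of_finite A FA
    obtain ⟨r, s, hrs⟩ := Module.FinitePresentation.exists_lift_of_isLocalizedModule S
      (LocalizedModule.mkLinearMap S KA) ((ρ.restrictScalars A) ∘ₗ LocalizedModule.mkLinearMap S FA)
    have key : ∀ x, LocalizedModule.mkLinearMap S KA (r (j x)) = LocalizedModule.mkLinearMap S KA ((s : A) • x) := fun x => by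
      have h1 := LinearMap.congr_fun hrs (j x)
      simp only [LinearMap.comp_apply, LinearMap.smul_apply, LinearMap.restrictScalars_apply] at h1
      rw [h1, map_smul, ← Submonoid.smul_def]
      congr 1
      have h2 := LinearMap.congr_fun hρ (LocalizedModule.mkLinearMap S KA x)
      change ρ (jS (LocalizedModule.mkLinearMap S KA x)) = LocalizedModule.mkLinearMap S KA x at h2
      simp only [jS, IsLocalizedModule.map_apply] at h2
      exact h2
    choose c hc using fun x => IsLocalizedModule.exists_of_eq (S := S) (f := LocalizedModule.mkLinearMap S KA) (key x)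
    obtain ⟨T, hT⟩ := Module.Finite.fg_top (R := A) (M := KA)
    let t : S := ∏ x ∈ T, c x
    refine ⟨(t : A) * (s : A), mul_ne_zero (nonZeroDivisors.coe_ne_zero t) (nonZeroDivisors.coe_ne_zero s), (t : A) • r, fun x => ?_⟩
    suffices h : ((t : A) • r) ∘ₗ j = ((t : A) * (s : A)) • LinearMap.id from LinearMap.congr_fun h x
    refine LinearMap.ext_on hT fun y hy => ?_
    obtain ⟨t', ht'⟩ : c y ∣ t := Finset.dvd_prod_of_mem c hy
    have h1 := hc y
    simp only [Submonoid.smul_def] at h1
    simp only [LinearMap.comp_apply, LinearMap.smul_apply, LinearMap.id_apply]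
    rw [ht', Submonoid.coe_mul, mul_comm (c y : A) (t' : A), mul_smul, h1, smul_smul, smul_smul, mul_assoc]
  refine ⟨U ∩ PrimeSpectrum.basicOpen f, hUo.inter (PrimeSpectrum.basicOpen f).2, ?_, fun u hu hft m hm => ?_⟩
  · refine hUd.inter_of_isOpen_left ((PrimeSpectrum.basicOpen f).2.dense ?_) hUo
    exact ⟨⟨⊥, Ideal.bot_prime⟩, by simpa using hf⟩
  · have h0 : (F.map (ModuleCat.ofHom (Algebra.linearMap A u.asIdeal.ResidueField))).hom (j m) = 0 := by
      have h := congrArg (fun φ => φ.hom m) (ι.naturality (ModuleCat.ofHom (Algebra.linearMap A u.asIdeal.ResidueField)))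
      simp only [ModuleCat.hom_comp, LinearMap.comp_apply, hm, map_zero] at h
      exact h.symm
    obtain ⟨σ, hσ, hmem⟩ := hU u hu.1 hft (j m) h0
    refine ⟨f * σ, fun h => (u.isPrime.mem_or_mem h).elim hu.2 hσ, ?_⟩
    have h1 := Submodule.mem_map_of_mem (f := r) hmem
    rw [Submodule.map_smul''] at h1
    rw [map_smul, hr, smul_smul, mul_comm] at h1
    exact Submodule.smul_mono le_rfl le_top h1

end Groth.Agent.S19711
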