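import Groth.Statements.S19712
import Groth.Agent.NumBddLib.FibreGrowth
import Groth.Agent.NumBddLib.ZeroFam
import Groth.Agent.TopDimLib.Basic
import Groth.Agent.AmpleEmb.Generated

set_option autoImplicit false
universe u
open CategoryTheory AlgebraicGeometry
open Variety

namespace Groth.Agent.S19712


open Groth.Agent Groth.Agent.AmpleLib Groth.Agent.DCohLib Groth.Agent.HiGrowth
set_option backward.isDefEq.respectTransparency false
set_option linter.style.haveILetI false

section Aux

variable (k : Type u) [Field k] {X : Scheme.{u}} [X.Over (Spec (CommRingCat.of k))]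
  [IsProper (X ↘ Spec (CommRingCat.of k))]

/-- Twists of numerically trivial modules are generated by boundedly many sections from one twist on. -/
theorem exists_bounded_sections {n : ℕ} (i : X ⟶ CohB1.ProjSpace n k) [IsClosedImmersion i] :
    ∃ (m : ℤ) (C : ℕ), ∀ Q : X.Modules, PicF.IsInvertible Q → Pic13.IsNumEquivZero k X Q →
      ∃ σ : Fin C → (Coh.structureModule X ⟶ NumBdd.T k i (Coh.structureModule X) Q m),
        ∀ x, ∃ b, x ∈ CohB1.genLocus _ (σ b) := by
  classical
  haveI := EulerIneqLib.isNoetherian_proper (X := X) k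
  have hall := NumBdd.allU k i (DevLib.isCoh_structureModule X)
  obtain ⟨j, hj⟩ := hall.1
  obtain ⟨C, hC⟩ := hall.2.2 (j + n + 1)
  refine ⟨j + n + 1, C, fun Q hQ hn => ?_⟩
  set N := NumBdd.T k i (Coh.structureModule X) Q (j + n + 1) with hNdef
  have hc : Coh.IsCoh (CohB1.tensorMod (Coh.structureModule X) Q) :=
    CMRegLib.isCoh_tensor_inv (DevLib.isCoh_structureModule X) hQ
  have hNi : PicF.IsInvertible N :=
    isInvertible_tensor (isInvertible_tensor ParaFLib.isInvertible_structureModule hQ) (NumBdd.isInvertible_xO k i _)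
  have hm : CMRegLib.DataReg (CMRegLib.xData k i (CohB1.tensorMod (Coh.structureModule X) Q)) (j + n + 1) := fun q hq => by
    rcases le_or_gt q (n + 1) with h | h
    · exact hj Q hQ hn (j + n + 1 - q) (by omega) q (by omega)
    · exact NumBdd.vanish_high_X k i hc _ (by omega)
  have hg : Curv2.IsGloballyGenerated N := hm.globallyGenerated (CMRegLib.spanAt_eventually k i hc)
  haveI : Module.Finite k (Coh.HH X N 0) := EulerIneqLib.finite_HH (k := k) (CurveLib.isCoh_of_isInvertible hNi) 0
  let b := Module.finBasis k (Coh.HH X N 0)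
  have hr : Module.finrank k (Coh.HH X N 0) ≤ C := hC Q hQ hn
  refine ⟨fun w => secHom N (CurveLib.secOf N
    (if h : (w : ℕ) < Module.finrank k (Coh.HH X N 0) then b ⟨w, h⟩ else 0)), fun x => ?_⟩
  by_contra hno
  push Not at hno
  obtain ⟨t, ht⟩ := exists_genLocus_of_isGloballyGenerated hNi hg x
  have htop : (⊤ : Submodule k (Coh.HH X N 0)) ≤ Nakai.zeroAt k N x := by
    rw [← b.span_eq, Submodule.span_le]
    rintro _ ⟨w, rfl⟩
    have := hno ⟨w, lt_of_lt_of_le w.2 hr⟩
    rw [dif_pos w.2] at this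
    exact (Nakai.mem_zeroAt_iff k hNi).2 this
  have h1 := (Nakai.mem_zeroAt_iff k hNi).1 (htop (Submodule.mem_top (x := (CurveLib.secOf N).symm (sec t))))
  rw [AddEquiv.apply_symm_apply, secHom_sec] at h1
  exact h1 ht

end Aux


open AlgebraicGeometry.Scheme.Modules in
/-- Uniform cohomology bound on intersections of divisors: let X be an integral scheme, proper over an
algebraically closed field k of characteristic zero and admitting an ample invertible module, of
dimension n (the source works over the complex numbers); let A be an invertible O_X-module which is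
very ample (A ≅ i^*O(1) for an immersion into some P^N_k) and such that A ⊗ P' is very ample for
every invertible P' numerically equivalent to zero, D any invertible O_X-module and 1 ≤ k ≤ n. Then
there is a constant C > 0, determined by X, A and D, such that: for every invertible P numerically
equivalent to zero, every k global sections s_1, …, s_k of A ⊗ P, and every closed subscheme Z of X
whose ideal is generated by the zero-scheme ideals of the s_j (Z = E_1 ∩ ⋯ ∩ E_k with E_j the
divisor of s_j), if Z is reduced and all its irreducible components have dimension n − k, then dim_k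
H^i(Z, (D^{⊗m})|_Z) ≤ C · m^{n−k} for every m ≥ 1 and every i. -/
theorem result
    (k : Type u) [Field k] [IsAlgClosed k] [CharZero k] (X : Scheme.{u})
    [X.Over (Spec (CommRingCat.of k))] [AlgebraicGeometry.IsIntegral X]
    [IsProper (X ↘ Spec (CommRingCat.of k))] (hproj : ∃ A : X.Modules, CohB1.IsAmple A)
    (n : ℕ) (hn : topologicalKrullDim ↥X = n)
    (A : X.Modules) (hA : PicF.IsInvertible A) (hAva : RelAmple.IsRelVeryAmplePn (X ↘ Spec (CommRingCat.of k)) A)
    (hAP : ∀ P' : X.Modules, PicF.IsInvertible P' → Pic13.IsNumEquivZero k X P' →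
      RelAmple.IsRelVeryAmplePn (X ↘ Spec (CommRingCat.of k)) (CohB1.tensorMod A P'))
    (D : X.Modules) (hD : PicF.IsInvertible D) (kk : ℕ) (hk1 : 1 ≤ kk) (hkn : kk ≤ n) :
    ∃ C : ℝ, 0 < C ∧ ∀ (P : X.Modules), PicF.IsInvertible P → Pic13.IsNumEquivZero k X P →
      ∀ (s : Fin kk → (Coh.structureModule X ⟶ CohB1.tensorMod A P))
        (Z : Scheme.{u}) [Z.Over (Spec (CommRingCat.of k))] (ι : Z ⟶ X) [IsClosedImmersion ι],
        ι ≫ (X ↘ Spec (CommRingCat.of k)) = Z ↘ Spec (CommRingCat.of k) →
        (∀ U : X.affineOpens, ι.ker.ideal U = ⨆ j, (PicF2.zeroScheme (CohB1.tensorMod A P) (s j)).ideal U) →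
        AlgebraicGeometry.IsReduced Z →
        (∀ W ∈ irreducibleComponents ↥Z, topologicalKrullDim ↥W = ((n - kk : ℕ) : WithBot ℕ∞)) →
        ∀ (m : ℕ), 1 ≤ m → ∀ i : ℕ,
          (Module.finrank k (Coh.HH Z ((pullback ι).obj (CohB1.tensorPow D m)) i) : ℝ) ≤ C * (m : ℝ) ^ (n - kk) := by
  classical
  haveI := EulerIneqLib.isNoetherian_proper (X := X) k
  obtain ⟨H, hH⟩ := hproj
  obtain ⟨a₀, N₀, i, -, hi, -, -⟩ := NumBdd.exists_embedding_pow k hH
  haveI := hi
  obtain ⟨m₀, C₀, hsec⟩ := exists_bounded_sections k i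
  set O := (Scheme.Modules.pullback i).obj (Twist.twistProjSpace N₀ k m₀) with hOdef
  have hO : PicF.IsInvertible O := NumBdd.isInvertible_xO k i m₀
  set B := CohB1.tensorMod A O with hBdef
  have hB : PicF.IsInvertible B := isInvertible_tensor hA hO
  haveI : Module.Finite k (Coh.HH X B 0) := EulerIneqLib.finite_HH (k := k) (CurveLib.isCoh_of_isInvertible hB) 0
  let bB := Module.finBasis k (Coh.HH X B 0)
  let eB : Fin (Module.finrank k (Coh.HH X B 0)) → (Coh.structureModule X ⟶ B) := fun l =>
    secHom B (CurveLib.secOf B (bB l))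
  let J := Fin kk × Fin C₀
  let L := Fin (Module.finrank k (Coh.HH X B 0))
  let I := ZeroFam.univIdeal (J := J) k eB
  let f := I.subschemeι ≫ ZeroFam.prT X k J L
  let g := I.subschemeι ≫ ZeroFam.pr X k J L
  haveI : IsNoetherianRing (MvPolynomial (J × L) k) := inferInstance
  haveI : IsNoetherian (ZeroFam.Param k J L) := inferInstance
  haveI : IsProper (ZeroFam.prT X k J L) := MorphismProperty.pullback_snd _ _ inferInstance
  haveI : IsProper f := inferInstanceAs (IsProper (I.subschemeι ≫ _))
  haveI : IsLocallyNoetherian I.subscheme := LocallyOfFiniteType.isLocallyNoetherian f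
  haveI : CompactSpace I.subscheme := QuasiCompact.compactSpace_of_compactSpace f
  haveI : IsNoetherian I.subscheme := ⟨⟩
  haveI : IsAffineHom (ZeroFam.paramStr k (J := J) (L := L)) := isAffineHom_of_isAffine _
  haveI : IsAffineHom (ZeroFam.pr X k J L) := MorphismProperty.pullback_fst _ _ inferInstance
  haveI : IsAffineHom g := inferInstanceAs (IsAffineHom (I.subschemeι ≫ _))
  have hA₁ := isAmple_pullback g hH
  obtain ⟨c₁, hc₁⟩ := AmpleEmb.eventually_isGloballyGenerated hA₁ (DevLib.isCoh_structureModule I.subscheme)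
  let A₁ := CohB1.tensorPow ((Scheme.Modules.pullback g).obj H) (c₁ + 1)
  have hA₁g : Curv2.IsGloballyGenerated A₁ := isGloballyGenerated_of_iso (unitL _) (hc₁ _ c₁.le_succ)
  have hA₁a : CohB1.IsAmple A₁ := (isAmple_pow_iff hA₁.1 (Nat.succ_pos c₁)).2 hA₁
  let D₁ := (Scheme.Modules.pullback g).obj D
  have hD₁ : PicF.IsInvertible D₁ := isInvertible_pullback g hD
  obtain ⟨D₂, hD₂, ⟨eD⟩⟩ := AmpleEmb.exists_isInverseOf hD₁
  obtain ⟨s₁, hs₁⟩ := AmpleEmb.eventually_isGloballyGenerated hA₁a (CurveLib.isCoh_of_isInvertible hD₂)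
  obtain ⟨C, hC⟩ := NumBdd.fibre_growth f (DevLib.isCoh_structureModule I.subscheme) hA₁a.1 hA₁g hD₁ hD₂ eD s₁
    (fun t => ⟨⊤, trivial, NumBdd.gg_pullback _ (isInvertible_tensor (isInvertible_tensorPow hA₁a.1 s₁) hD₂)
      (isGloballyGenerated_of_iso (comm _ _) (hs₁ s₁ le_rfl))⟩)
  refine ⟨(C : ℝ) * ((s₁ + 2 : ℕ) : ℝ) ^ (n - kk) + 1, by positivity,
    fun P hP hnP s Z _ ι _ hιZ hker hred hcomp m hm p => ?_⟩
  rcases isEmpty_or_nonempty Z with hZ | hZ
  · have hz : Limits.IsZero ((Scheme.Modules.pullback ι).obj (CohB1.tensorPow D m)) := by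
      haveI := (CurveLib.isCoh_of_isInvertible (X := Z) (isInvertible_pullback ι (isInvertible_tensorPow hD m))).1
      exact DevLib.isZero_of_support_empty (Set.eq_empty_of_isEmpty _)
    haveI := subsingleton_HH_of_isZero hz p
    rw [Module.finrank_zero_of_subsingleton, Nat.cast_zero]
    positivity
  haveI : IsProper (Z ↘ Spec (CommRingCat.of k)) := hιZ ▸ inferInstanceAs (IsProper (ι ≫ _))
  haveI := EulerIneqLib.isNoetherian_proper (X := Z) k
  haveI : Finite (irreducibleComponents ↥Z) :=
    TopologicalSpace.NoetherianSpace.finite_irreducibleComponents.to_subtype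
  have hdimZ : topologicalKrullDim Z = ((n - kk : ℕ) : WithBot ℕ∞) := by
    rw [TopDimLib.topologicalKrullDim_eq_iSup_closed (fun W : irreducibleComponents ↥Z => (W : Set ↥Z))
      (fun W => isClosed_of_mem_irreducibleComponents _ W.2) (locallyFinite_of_finite _)
      (Set.eq_univ_of_forall fun y => Set.mem_iUnion.2
        ⟨⟨_, irreducibleComponent_mem_irreducibleComponents y⟩, mem_irreducibleComponent⟩)]
    haveI : Nonempty (irreducibleComponents ↥Z) :=
      ⟨⟨_, irreducibleComponent_mem_irreducibleComponents (Classical.arbitrary Z)⟩⟩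
    rw [iSup_congr fun W : irreducibleComponents ↥Z => hcomp W.1 W.2, ciSup_const]
  obtain ⟨P', hP', ⟨eP⟩⟩ := AmpleEmb.exists_isInverseOf hP
  obtain ⟨σ, hσ⟩ := hsec P' hP' (NumBdd.numTriv_inverse k hP hP' eP hnP)
  let N := NumBdd.T k i (Coh.structureModule X) P' m₀
  have hN : PicF.IsInvertible N := isInvertible_tensor (isInvertible_tensor ParaFLib.isInvertible_structureModule hP') hO
  let θ : CohB1.tensorMod (CohB1.tensorMod A P) N ≅ B := AmpleLib.assoc _ _ _ ≪≫ tIso (Iso.refl A)
    (tIso (Iso.refl P) (tIso (unitL P') (Iso.refl O)) ≪≫ (AmpleLib.assoc _ _ _).symm ≪≫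
      tIso eP (Iso.refl O) ≪≫ unitL O)
  let v : J → (Coh.structureModule X ⟶ B) := fun jw =>
    secHom B (θ.hom.app ⊤ (sec (tensorS (s jw.1) (σ jw.2))))
  let c : J × L → k := fun q => bB.repr ((CurveLib.secOf B).symm (sec (v q.1))) q.2
  have hv : ∀ jw, sec (v jw) = ∑ l, (show Γ(X, ⊤) from
      Coh.toGlobal (X ↘ Spec (CommRingCat.of k)) (c (jw, l))) • sec (eB l) := fun jw => by
    conv_lhs => rw [← (CurveLib.secOf B).apply_symm_apply (sec (v jw)),
      ← bB.sum_repr ((CurveLib.secOf B).symm (sec (v jw))), map_sum]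
    refine Finset.sum_congr rfl fun l _ => ?_
    simp only [c, v, eB, sec_secHom, CurveLib.secOf_smul]
  have hI : I.comap (ZeroFam.graph k c) = ι.ker := by
    rw [ZeroFam.comap_univIdeal k eB hB c v hv, iSup_prod]
    refine Eq.trans (iSup_congr fun j => ?_) (Scheme.IdealSheafData.ext (funext fun U => ?_) :
      ⨆ j, PicF2.zeroScheme (CohB1.tensorMod A P) (s j) = ι.ker)
    · rw [← ZeroFam.iSup_zeroScheme_tensorS (isInvertible_tensor hA hP) hN (s j) σ hσ]
      exact iSup_congr fun w => ZeroFam.zeroScheme_iso (isInvertible_tensor (isInvertible_tensor hA hP) hN) θ _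
    · rw [Scheme.IdealSheafData.ideal_iSup, iSup_apply]
      exact (hker U).symm
  have hle : I.subschemeι.ker ≤ (ι ≫ ZeroFam.graph k c).ker := by
    rw [Scheme.IdealSheafData.ker_subschemeι, ← Scheme.IdealSheafData.map_ker,
      Scheme.IdealSheafData.le_map_iff_comap_le]
    exact hI.le
  let Zf := IsClosedImmersion.lift I.subschemeι (ι ≫ ZeroFam.graph k c) hle
  have hZf : Zf ≫ I.subschemeι = ι ≫ ZeroFam.graph k c := IsClosedImmersion.lift_fac _ _ _
  have sq : IsPullback Zf (Z ↘ Spec (CommRingCat.of k)) f (ZeroFam.point k c) := by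
    have h0 : IsPullback ι Zf (ZeroFam.graph k c) I.subschemeι :=
      isPullback_of_isClosedImmersion ι I.subschemeι Zf (ZeroFam.graph k c) hZf.symm
        (by rw [Scheme.IdealSheafData.ker_subschemeι]; exact hI)
    have := h0.flip.paste_vert (ZeroFam.isPullback_graph k c)
    rwa [hιZ] at this
  have hZg : Zf ≫ g = ι := by
    rw [show g = I.subschemeι ≫ ZeroFam.pr X k J L from rfl, reassoc_of% hZf,
      show ZeroFam.graph k c ≫ ZeroFam.pr X k J L = 𝟙 X from Limits.pullback.lift_fst _ _ _, Category.comp_id]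
  let t := ZeroFam.point k c (IsLocalRing.closedPoint k)
  have hdt : topologicalKrullDim ↥(f.fiber t) = ((n - kk : ℕ) : WithBot ℕ∞) := by
    rw [← NumBdd.dim_pullback_point f (ZeroFam.point k c) rfl, ← hdimZ]
    exact ((Scheme.Hom.homeomorph sq.isoPullback.hom).isHomeomorph.topologicalKrullDim_eq).symm
  have hM : Coh.IsCoh (CohB1.tensorMod (Coh.structureModule I.subscheme) (CohB1.tensorPow D₁ m)) :=
    HilbLib.isCoh_twist hD₁ (DevLib.isCoh_structureModule _) m
  haveI := hM.1
  haveI : Coh.IsQCoh ((Scheme.Modules.pullback Zf).obj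
      (CohB1.tensorMod (Coh.structureModule I.subscheme) (CohB1.tensorPow D₁ m))) := PullbackMod.isQCoh_pullback _ _
  have hrk : CohIII.fiberRank f (CohB1.tensorMod (Coh.structureModule I.subscheme) (CohB1.tensorPow D₁ m)) p t =
      Module.finrank k (Coh.HH Z ((Scheme.Modules.pullback ι).obj (CohB1.tensorPow D m)) p) := by
    rw [← BCLib.fiberRank_baseChange sq _ p (IsLocalRing.closedPoint k), JacLib.fiberRank_eq_finrank]
    exact hh_congr k ((Scheme.Modules.pullback Zf).mapIso (unitL _ ≪≫ (pullPow g D m).symm) ≪≫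
      (Scheme.Modules.pullbackComp Zf g).app _ ≪≫ (Scheme.Modules.pullbackCongr hZg).app _) p
  have h2 : Module.finrank k (Coh.HH Z ((Scheme.Modules.pullback ι).obj (CohB1.tensorPow D m)) p) ≤
      C * (s₁ + 2) ^ (n - kk) * m ^ (n - kk) := by
    refine hrk ▸ (hC t (n - kk) hdt m p).trans ?_
    rw [mul_assoc, ← mul_pow]
    exact Nat.mul_le_mul_left _ (Nat.pow_le_pow_left (by nlinarith) _)
  calc (Module.finrank k (Coh.HH Z ((Scheme.Modules.pullback ι).obj (CohB1.tensorPow D m)) p) : ℝ)
      ≤ ((C * (s₁ + 2) ^ (n - kk) * m ^ (n - kk) : ℕ) : ℝ) := by exact_mod_cast h2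
    _ ≤ _ := by
      push_cast
      rw [add_mul]
      exact le_add_of_nonneg_right (by positivity)


end Groth.Agent.S19712
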