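import Groth.Statements.S19714
import Groth.Agent.GerbeExtLib.Gerbe

set_option autoImplicit false
universe u
open TwSh

namespace Groth.Agent.S19714

open CategoryTheory AlgebraicGeometry in
set_option backward.isDefEq.respectTransparency false in
theorem aux {S : Scheme.{u}} {𝒴 : AlgSt.Cat S} [FibCat.IsFibGrpd 𝒴.p] {D : Type (u + 1)} [Category.{u} D]
    (P : D ⥤ 𝒴.obj) (p : D ⥤ Over S) (w : P ⋙ 𝒴.p = p) (hp : FibCat.IsFibGrpd p)
    (A : (Over S)ᵒᵖ ⥤ GrpCat.{u}) (χ : A ⟶ TwSh.GmPsh S) (ι : TwSh.BandHom (BasedCategory.ofFunctor p : AlgSt.Cat S) A)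
    (hπ : TwSh.IsBandedGerbe (𝒳 := (BasedCategory.ofFunctor p : AlgSt.Cat S)) (QuotSh.J Scheme.fppfPrecoverage S) ⟨P, w⟩ ι) :
    ((StMod.comapQ (𝒴 := (BasedCategory.ofFunctor p : AlgSt.Cat S)) (⟨P, w⟩ : (BasedCategory.ofFunctor p : AlgSt.Cat S) ⥤ᵇ 𝒴)).Full ∧
      (StMod.comapQ (⟨P, w⟩ : (BasedCategory.ofFunctor p : AlgSt.Cat S) ⥤ᵇ 𝒴)).Faithful) ∧
      ∀ F : StMod.QCoh (BasedCategory.ofFunctor p : AlgSt.Cat S), TwSh.IsTwisted F.obj ι χ 0 →
        ∃ G : StMod.QCoh 𝒴, Nonempty (F ≅ (StMod.comapQ (⟨P, w⟩ : (BasedCategory.ofFunctor p : AlgSt.Cat S) ⥤ᵇ 𝒴)).obj G) := by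
  subst w
  haveI : FibCat.IsFibGrpd (GerbeExtLib.pCat P).p := hp
  obtain ⟨h1, h2⟩ := GerbeExtLib.fullyFaithful_and_essImage (P := P) hπ.1.1 hπ.1.2
  exact ⟨h1, fun F hF => h2 F (GerbeExtLib.inv_of_isTwisted_zero χ ι (fun x => (hπ.2 x).2) F.obj hF)⟩

open CategoryTheory AlgebraicGeometry in
/-- First assertion: let π : 𝒳 → 𝒴 be an fppf A-gerbe of algebraic stacks, for a presheaf of groups A on
schemes over S acting through the inertia of 𝒳, and let χ be any character of A. Inverse image along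
π is an equivalence from quasi-coherent modules on 𝒴 onto the 0-fold twisted quasi-coherent modules
on 𝒳 (those on which A acts trivially through the inertia): the inverse-image functor is full and
faithful, and every 0-fold twisted quasi-coherent module on 𝒳 is isomorphic to an inverse image.
(The published statement is for all modules on a gerbe over a locally ringed site and names direct
image as the quasi-inverse; this row is its quasi-coherent form over algebraic stacks and asserts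
existence of the isomorphism only. That inverse images are 0-fold twisted holds by construction and
is not asserted.) -/
theorem result (S : Scheme.{u}) (𝒳 𝒴 : AlgSt.Cat S) (h𝒳 : AlgSt.IsAlgStack Scheme.fppfPrecoverage 𝒳) (h𝒴 : AlgSt.IsAlgStack Scheme.fppfPrecoverage 𝒴) (A : (Over S)ᵒᵖ ⥤ GrpCat.{u}) (χ : A ⟶ TwSh.GmPsh S) (π : 𝒳 ⥤ᵇ 𝒴) (ι : TwSh.BandHom 𝒳 A) (hπ : TwSh.IsBandedGerbe (QuotSh.J Scheme.fppfPrecoverage S) π ι) : ((StMod.comapQ π).Full ∧ (StMod.comapQ π).Faithful) ∧ ∀ F : StMod.QCoh 𝒳, TwSh.IsTwisted F.obj ι χ 0 → ∃ G : StMod.QCoh 𝒴, Nonempty (F ≅ (StMod.comapQ π).obj G) := by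
  haveI h𝒴f : FibCat.IsFibGrpd 𝒴.p := h𝒴.isStack.1
  obtain ⟨P, w⟩ := π
  obtain @⟨D, cD, p⟩ := 𝒳
  exact aux P p w h𝒳.isStack.1 A χ ι hπ

end Groth.Agent.S19714
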