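import Groth.Statements.S19715
import Groth.Agent.PullbackMod.Stalk
import Mathlib.RingTheory.Flat.FaithfullyFlat.Basic

set_option autoImplicit false
universe u
open TwSh

set_option linter.style.haveILetI false
set_option backward.isDefEq.respectTransparency false

namespace Groth.Agent.S19715

open CategoryTheory CategoryTheory.Limits AlgebraicGeometry Opposite

/-- A flat pullback is injective on stalks. -/
theorem injective_pullStalk {X X' : Scheme.{u}} (g : X' ⟶ X) [Flat g] (M : X.Modules) [Coh.IsQCoh M] (x : X') :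
    Function.Injective (Groth.Agent.PullbackMod.pullStalk g M x) := by
  letI : Algebra (X.presheaf.stalk (g x)) (X'.presheaf.stalk x) := (g.stalkMap x).hom.toAlgebra
  letI := Module.compHom (((Scheme.Modules.pullback g).obj M).presheaf.stalk x) (g.stalkMap x).hom
  haveI : IsScalarTower (X.presheaf.stalk (g x)) (X'.presheaf.stalk x)
      (((Scheme.Modules.pullback g).obj M).presheaf.stalk x) := .of_algebraMap_smul fun _ _ => rfl
  have hb := Groth.Agent.PullbackMod.isBaseChange_pullStalkL g M x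
  haveI : IsLocalHom (algebraMap (X.presheaf.stalk (g x)) (X'.presheaf.stalk x)) :=
    inferInstanceAs (IsLocalHom (g.stalkMap x).hom)
  haveI : Module.Flat (X.presheaf.stalk (g x)) (X'.presheaf.stalk x) := Flat.stalkMap g x
  haveI := Module.FaithfullyFlat.of_flat_of_isLocalHom (A := X.presheaf.stalk (g x)) (B := X'.presheaf.stalk x)
  intro a b hab
  apply Module.FaithfullyFlat.tensorProduct_mk_injective (A := X.presheaf.stalk (g x)) (B := X'.presheaf.stalk x) (M.presheaf.stalk (g x))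
  apply hb.equiv.injective
  simp only [TensorProduct.mk_apply, IsBaseChange.equiv_tmul, one_smul]
  exact hab

variable {S : Scheme.{u}} {𝒳 : AlgSt.Cat S}

/-- Comparison maps along flat morphisms detect germs. -/
theorem germ_eq_of_map (F : StMod.QCoh 𝒳) {ξ' ξ : 𝒳.obj} (φ : ξ' ⟶ ξ) [Flat (StMod.bmap 𝒳 φ)]
    (U : (StMod.sch 𝒳 ξ).Opens) (s s' : Γ(F.obj.obj ξ, U))
    (h : (F.obj.map φ rfl).app U s = (F.obj.map φ rfl).app U s') (x : StMod.sch 𝒳 ξ')
    (hx : StMod.bmap 𝒳 φ x ∈ U) :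
    (F.obj.obj ξ).presheaf.germ U _ hx s = (F.obj.obj ξ).presheaf.germ U _ hx s' := by
  let g := StMod.bmap 𝒳 φ
  let adj := Scheme.Modules.pullbackPushforwardAdjunction g
  let θ := (adj.homEquiv (F.obj.obj ξ) (F.obj.obj ξ')).symm (F.obj.map φ rfl)
  haveI : IsIso θ := F.property.1 φ rfl
  haveI : Coh.IsQCoh (F.obj.obj ξ) := F.property.2 ξ
  have e : F.obj.map φ rfl = adj.unit.app (F.obj.obj ξ) ≫ (Scheme.Modules.pushforward g).map θ := by
    exact ((adj.homEquiv _ _).apply_symm_apply (F.obj.map φ rfl)).symm.trans (adj.homEquiv_unit _ _ θ)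
  rw [e] at h
  have h2 : (adj.unit.app (F.obj.obj ξ)).app U s = (adj.unit.app (F.obj.obj ξ)).app U s' :=
    (ConcreteCategory.bijective_of_isIso (θ.app (g ⁻¹ᵁ U))).1 h
  apply injective_pullStalk g (F.obj.obj ξ) x
  rw [Groth.Agent.PullbackMod.pullStalk_germ g (F.obj.obj ξ) x hx s,
    Groth.Agent.PullbackMod.pullStalk_germ g (F.obj.obj ξ) x hx s', h2]

/-- The twisting equation is inherited along every morphism. -/
theorem map_inert_eq (F : StMod.Mod 𝒳) {A : (Over S)ᵒᵖ ⥤ GrpCat.{u}} (ι : TwSh.BandHom 𝒳 A)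
    (χ : A ⟶ TwSh.GmPsh S) (d : ℤ) {ξ' ξ : 𝒳.obj} (φ : ξ' ⟶ ξ) (a : A.obj (op (𝒳.p.obj ξ)))
    (U : (StMod.sch 𝒳 ξ).Opens) (s : Γ(F.obj ξ, U))
    (h : ∀ (b : A.obj (op (𝒳.p.obj ξ'))) (V : (StMod.sch 𝒳 ξ').Opens) (t : Γ(F.obj ξ', V)),
      (inert F ξ' (ι.hom ξ' b)).app V t = resTop (StMod.sch 𝒳 ξ') V ((charUnit χ ξ' b ^ d)⁻¹).val • t) :
    (F.map φ rfl).app U ((inert F ξ (ι.hom ξ a)).app U s) =
      (F.map φ rfl).app U (resTop (StMod.sch 𝒳 ξ) U ((charUnit χ ξ a ^ d)⁻¹).val • s) := by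
  let g := StMod.bmap 𝒳 φ
  let a' := A.map (𝒳.p.map φ).op a
  let β := ι.hom ξ' a'
  let α := ι.hom ξ a
  have key1 := congrArg (fun f => (ConcreteCategory.hom f) s)
    (StMod.Mod.map_comp_app F φ α.hom.1 rfl (bmap_autO ξ α) U)
  have key2 := congrArg (fun f => (ConcreteCategory.hom f) s)
    (StMod.Mod.map_comp_app F β.hom.1 φ (bmap_autO ξ' β) rfl U)
  simp only at key1 key2
  have e1 : (F.map φ rfl).app U ((inert F ξ α).app U s) = (inert F ξ' β).app (g ⁻¹ᵁ U) ((F.map φ rfl).app U s) := by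
    refine key1.symm.trans (Eq.trans ?_ key2)
    have hn : β.hom.1 ≫ φ = φ ≫ α.hom.1 := ι.natural φ a
    have hm : ∀ {f f' : ξ' ⟶ ξ} (hf : f = f') {k : StMod.sch 𝒳 ξ' ⟶ StMod.sch 𝒳 ξ}
        (hk : StMod.bmap 𝒳 f = k) (hk' : StMod.bmap 𝒳 f' = k),
        (F.map f hk).app U s = (F.map f' hk').app U s := by
      rintro f f' rfl k hk hk'
      rfl
    have hk1 : StMod.bmap 𝒳 (φ ≫ α.hom.1) = g ≫ 𝟙 _ := by rw [StMod.bmap_comp, bmap_autO]
    have hk2 : StMod.bmap 𝒳 (β.hom.1 ≫ φ) = g ≫ 𝟙 _ := by rw [hn, hk1]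
    exact (hm hn.symm hk1 hk2).trans (eq_of_heq (map_app_heq F (β.hom.1 ≫ φ) hk2
      (g' := 𝟙 _ ≫ g) (by rw [StMod.bmap_comp, bmap_autO]) U s))
  erw [e1, h a' (g ⁻¹ᵁ U), Scheme.Modules.Hom.app_smul]
  congr 1
  let u := (charUnit χ ξ a ^ d)⁻¹
  have hu : (charUnit χ ξ' a' ^ d)⁻¹ = Units.map g.appTop.hom.toMonoidHom u := by
    rw [map_inv, map_zpow]
    congr 2
    exact ConcreteCategory.congr_hom (χ.naturality (𝒳.p.map φ).op) a
  rw [hu]
  exact (ConcreteCategory.congr_hom (g.naturality (homOfLE (le_top : U ≤ ⊤)).op) u.val).symm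

open CategoryTheory AlgebraicGeometry in
/-- Being twisted is local on the base. Let 𝒳 → X be an fppf A-gerbe over a scheme X, χ a character of
A, d an integer and F a quasi-coherent module on 𝒳. If {T_i → X} is a family of flat morphisms
locally of finite presentation whose images cover X, and for every i the restriction of F to the
gerbe restricted over T_i is d-fold χ-twisted for the restricted action, then F is d-fold χ-twisted.
(The published statement is an equivalence, for arbitrary modules on an A-gerbe over a locally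
ringed site and a covering of it; the converse implication holds by construction and is not
asserted, and this row is the quasi-coherent form over the big fppf site of a scheme.) -/
theorem result (S : Scheme.{u}) (X : Over S) (𝒳 : AlgSt.Cat S) (h𝒳 : AlgSt.IsAlgStack Scheme.fppfPrecoverage 𝒳) (A : (Over S)ᵒᵖ ⥤ GrpCat.{u}) (χ : A ⟶ TwSh.GmPsh S) (d : ℤ) (π : 𝒳 ⥤ᵇ AlgSt.ofSch X) (ι : TwSh.BandHom 𝒳 A) (hπ : TwSh.IsBandedGerbe (QuotSh.J Scheme.fppfPrecoverage S) π ι) (I : Type u) (η : I → (AlgSt.ofSch X).obj) (hfl : ∀ i, Flat (η i).sec.down.left) (hfp : ∀ i, LocallyOfFinitePresentation (η i).sec.down.left) (hcov : ∀ x : X.left, ∃ i, x ∈ Set.range (η i).sec.down.left.base) (F : StMod.QCoh 𝒳) (h : ∀ i, TwSh.IsTwisted (StMod.Mod.comap (StMod.fibFst π (η i)) F.obj) (TwSh.BandHom.fib π (η i) ι (TwSh.IsBandedGerbe.map_hom_eq_id π hπ)) χ d) : TwSh.IsTwisted F.obj ι χ d := by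
  intro ξ a U s
  refine TopCat.Presheaf.section_ext (⟨(F.obj.obj ξ).presheaf, (F.obj.obj ξ).isSheaf⟩ :
    TopCat.Sheaf Ab (StMod.sch 𝒳 ξ)) U _ _ fun t ht => ?_
  let y := π.obj ξ
  let c : (𝒳.p.obj ξ) ⟶ X := eqToHom (π.w_obj ξ).symm ≫ y.sec.down
  obtain ⟨i, hi⟩ := hcov (c.left t)
  obtain ⟨v, hv⟩ := hi
  obtain ⟨z, hz1, -⟩ := Scheme.Pullback.exists_preimage_pullback (f := c.left) (g := (η i).sec.down.left) t v hv.symm
  let P : Over S := Over.mk (pullback.fst c.left (η i).sec.down.left ≫ (𝒳.p.obj ξ).hom)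
  let q : P ⟶ 𝒳.p.obj ξ := Over.homMk (pullback.fst c.left (η i).sec.down.left) rfl
  let q₂ : P ⟶ (η i).base := Over.homMk (pullback.snd c.left (η i).sec.down.left) (by
    show pullback.snd _ _ ≫ (η i).base.hom = pullback.fst _ _ ≫ (𝒳.p.obj ξ).hom
    rw [← Over.w c, pullback.condition_assoc]
    exact congrArg (pullback.snd _ _ ≫ ·) (Over.w (η i).sec.down).symm)
  haveI := h𝒳.isStack.1
  obtain ⟨ξ', φ, hφ⟩ := FibCat.IsFibGrpd.exists_lift (p := 𝒳.p) q
  have hd : 𝒳.p.obj ξ' = P := IsHomLift.domain_eq 𝒳.p q φ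
  have hpφ : 𝒳.p.map φ = eqToHom hd ≫ q := by
    simpa using IsHomLift.fac' 𝒳.p q φ
  let r : (π.obj ξ').base ⟶ (η i).base := eqToHom ((π.w_obj ξ').trans hd) ≫ q₂
  have hmap : (π.map φ).hom = eqToHom ((π.w_obj ξ').trans hd) ≫ q ≫ eqToHom (π.w_obj ξ).symm := by
    have e := Functor.congr_hom π.w φ
    simp only [Functor.comp_map] at e
    change (π.map φ).hom = _ at e
    rw [e, hpφ]
    simp
  have hsec : (π.obj ξ').sec.down = r ≫ (η i).sec.down := by
    have h1 : (π.map φ).hom ≫ y.sec.down = (π.obj ξ').sec.down := congrArg ULift.down (π.map φ).map_sec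
    have h2 : q ≫ c = q₂ ≫ (η i).sec.down := Over.OverMorphism.ext pullback.condition
    rw [← h1, hmap]
    simp only [r, c, Category.assoc] at h2 ⊢
    rw [h2]
  let x : (StMod.fibCat π (η i)).obj := CostructuredArrow.mk (Y := ξ')
    (show π.obj ξ' ⟶ η i from ⟨r, ULift.ext _ _ hsec.symm⟩)
  have hstep : ∀ (b : A.obj (Opposite.op (𝒳.p.obj ξ'))) (V : (StMod.sch 𝒳 ξ').Opens) (w : Γ(F.obj.obj ξ', V)),
      (inert F.obj ξ' (ι.hom ξ' b)).app V w = resTop (StMod.sch 𝒳 ξ') V ((charUnit χ ξ' b ^ d)⁻¹).val • w := by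
    intro b V w
    have h1 := h i x b V w
    have e := inert_comap_fibFst π (η i) F.obj x (ι.hom ξ' b) (IsBandedGerbe.map_hom_eq_id π hπ ξ' b)
    exact (congrArg (fun f => f.app V w) e).symm.trans h1
  have hg : StMod.bmap 𝒳 φ = (eqToHom hd).left ≫ pullback.fst c.left (η i).sec.down.left :=
    congrArg CommaMorphism.left hpφ
  haveI : Flat (η i).sec.down.left := hfl i
  haveI : IsIso (eqToHom hd).left := inferInstanceAs (IsIso ((Over.forget S).map (eqToHom hd)))
  haveI : Flat (StMod.bmap 𝒳 φ) := by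
    rw [hg]
    infer_instance
  obtain ⟨z', hz'⟩ := (eqToHom hd).left.surjective z
  have hzt : StMod.bmap 𝒳 φ z' = t := by
    rw [hg]
    exact (congrArg (pullback.fst c.left (η i).sec.down.left) hz').trans hz1
  subst hzt
  exact germ_eq_of_map F φ U _ _ (map_inert_eq F.obj ι χ d φ a U s hstep) z' ht

end Groth.Agent.S19715
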