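import Groth.Statements.S19716
import Groth.Agent.GerbeExtLib.Section

set_option autoImplicit false
universe u
open TwSh

namespace Groth.Agent.S19716

open CategoryTheory AlgebraicGeometry in
set_option backward.isDefEq.respectTransparency false in
theorem aux {S : Scheme.{u}} {𝒳 : AlgSt.Cat S} [FibCat.IsFibGrpd 𝒳.p] {D : Type (u + 1)} [Category.{u} D]
    (P : D ⥤ 𝒳.obj) (p : D ⥤ Over S) (w : P ⋙ 𝒳.p = p) (hp : FibCat.IsFibGrpd p)
    (thin : ∀ {z' z : D} (φ φ' : z' ⟶ z), p.map φ = p.map φ' → φ = φ')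
    (A : (Over S)ᵒᵖ ⥤ GrpCat.{u}) (χ : A ⟶ TwSh.GmPsh S) (π : 𝒳 ⥤ᵇ (BasedCategory.ofFunctor p : AlgSt.Cat S))
    (ι : TwSh.BandHom 𝒳 A) (hπ : TwSh.IsBandedGerbe (QuotSh.J Scheme.fppfPrecoverage S) π ι)
    (e : BasedFunctor.comp (⟨P, w⟩ : (BasedCategory.ofFunctor p : AlgSt.Cat S) ⥤ᵇ 𝒳) π ≅
      BasedFunctor.id (BasedCategory.ofFunctor p : AlgSt.Cat S)) :
    ((TwSh.isTwistedQ 𝒳 ι χ 1).ι ⋙
      StMod.comapQ (⟨P, w⟩ : (BasedCategory.ofFunctor p : AlgSt.Cat S) ⥤ᵇ 𝒳)).IsEquivalence := by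
  subst w
  haveI : FibCat.IsFibGrpd (GerbeExtLib.pCat P).p := hp
  exact GerbeExtLib.isEquivalence_section (P := P) (π := π)
    ⟨thin, fun x => (hπ.2 x).1, fun x => (hπ.2 x).2, hπ.1.2, ⟨e⟩⟩

open CategoryTheory AlgebraicGeometry in
/-- A section of a trivial gerbe identifies twisted sheaves with sheaves on the base. Let 𝒳 → X be an
fppf A-gerbe over a scheme X, χ a character of A, and σ a section of the gerbe (a functor X → 𝒳 over
(Sch/S) whose composite with the projection is isomorphic to the identity). Then inverse image along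
σ, restricted to the full subcategory of χ-twisted quasi-coherent modules on 𝒳, is an equivalence of
categories onto the quasi-coherent modules on X. (The published statement is about the stacks, over
the base, of twisted sheaves and of sheaves; this row is its quasi-coherent form on the categories
themselves.) -/
theorem result (S : Scheme.{u}) (X : Over S) (𝒳 : AlgSt.Cat S) (h𝒳 : AlgSt.IsAlgStack Scheme.fppfPrecoverage 𝒳) (A : (Over S)ᵒᵖ ⥤ GrpCat.{u}) (χ : A ⟶ TwSh.GmPsh S) (π : 𝒳 ⥤ᵇ AlgSt.ofSch X) (ι : TwSh.BandHom 𝒳 A) (hπ : TwSh.IsBandedGerbe (QuotSh.J Scheme.fppfPrecoverage S) π ι) (σ : AlgSt.ofSch X ⥤ᵇ 𝒳) (e : BasedFunctor.comp σ π ≅ BasedFunctor.id (AlgSt.ofSch X)) : ((TwSh.isTwistedQ 𝒳 ι χ 1).ι ⋙ StMod.comapQ σ).IsEquivalence := by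
  haveI : FibCat.IsFibGrpd 𝒳.p := h𝒳.isStack.1
  obtain ⟨P, w⟩ := σ
  exact aux P (AlgSt.ofSch X).p w inferInstance (fun φ φ' h => Stk.EltObj.hom_ext h) A χ π ι hπ e

end Groth.Agent.S19716
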