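import Groth.Statements.S19717
import Groth.Agent.PullbackMod.LocFree
import Groth.Agent.DCohLib.SPerf
import Groth.Agent.DCohLib.FTLocal
import Groth.Agent.RelPCLib.FTDescent
import Groth.Agent.TildePerf.PC
import Groth.Agent.S1177
import Groth.Agent.S5134
import Groth.Agent.ASp.CellSheaf

set_option autoImplicit false
universe u
open TwSh

set_option maxHeartbeats 1600000
set_option synthInstance.maxHeartbeats 200000

set_option linter.style.haveILetI false
set_option linter.unusedSectionVars false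
set_option backward.isDefEq.respectTransparency false

namespace Groth.Agent.S19717

open CategoryTheory CategoryTheory.Limits AlgebraicGeometry TopologicalSpace Opposite Groth.Agent

/-- A fppf covering sieve has a flat member through every point. -/
theorem exists_flat_mem {S : Scheme.{u}} {T : Over S} {R : Sieve T}
    (h : R ∈ (QuotSh.J Scheme.fppfPrecoverage S) T) (t : ↥T.left) :
    ∃ (V : Over S) (k : V ⟶ T), R k ∧ Flat k.left ∧ LocallyOfFinitePresentation k.left ∧ t ∈ Set.range k.left := by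
  obtain ⟨ι, Y, k, hR, h1, h2, h3⟩ := ASp.Cell.exists_fppf_family (T := T) (R := R) h
  obtain ⟨i, hi⟩ := h3 t
  exact ⟨Y i, k i, hR i, h1 i, h2 i, hi⟩

/-- A property local for open immersions, stable under pullback and fpqc descended, descends along fppf covers. -/
theorem descends_fppf (P : ∀ {X : Scheme.{u}}, X.Modules → Prop)
    (hiso : ∀ {X : Scheme.{u}} {M N : X.Modules}, (M ≅ N) → P M → P N)
    (hpull : ∀ {X Y : Scheme.{u}} (g : Y ⟶ X) (M : X.Modules), Coh.IsQCoh M → P M →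
      P ((Scheme.Modules.pullback g).obj M))
    (hdesc : ∀ {X Y : Scheme.{u}} (g : Y ⟶ X) [Flat g] [Surjective g] [QuasiCompact g]
      [LocallyOfFinitePresentation g] (M : X.Modules),
      Coh.IsQCoh M → P ((Scheme.Modules.pullback g).obj M) → P M)
    (hloc : ∀ {X : Scheme.{u}} (M : X.Modules), (∀ x : X, ∃ (U : Scheme.{u}) (j : U ⟶ X) (_ : IsOpenImmersion j)
      (y : U), j y = x ∧ P ((Scheme.Modules.restrictFunctor j).obj M)) → P M)
    {T : Scheme.{u}} (M : T.Modules) [Coh.IsQCoh M]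
    (h : ∀ t : T, ∃ (V : Scheme.{u}) (k : V ⟶ T), Flat k ∧ LocallyOfFinitePresentation k ∧ t ∈ Set.range k ∧
      P ((Scheme.Modules.pullback k).obj M)) : P M := by
  refine hloc M fun t => ?_
  obtain ⟨V, k, hk1, hk2, ⟨v, rfl⟩, hP⟩ := h t
  obtain ⟨_, ⟨W : T.Opens, hW, rfl⟩, htW, -⟩ :=
    T.isBasis_affineOpens.exists_subset_of_mem_open (Set.mem_univ (k v)) isOpen_univ
  obtain ⟨_, ⟨C : V.Opens, hC, rfl⟩, hvC, hCW⟩ :=
    V.isBasis_affineOpens.exists_subset_of_mem_open (a := v) (u := ↑(k ⁻¹ᵁ W)) htW (k ⁻¹ᵁ W).2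
  let q : (C : Scheme.{u}) ⟶ T := C.ι ≫ k
  obtain ⟨r, hr, htr⟩ := hW.exists_basicOpen_le
    (V := ⟨Set.range q, q.isOpenMap.isOpen_range⟩) ⟨k v, ⟨⟨v, hvC⟩, rfl⟩⟩ htW
  let W' := T.basicOpen r
  let k' := q ∣_ W'
  haveI : IsAffine W'.toScheme := hW.basicOpen r
  haveI : IsAffine C.toScheme := hC
  have hle : (⊤ : C.toScheme.Opens) ≤ q ⁻¹ᵁ W := fun z _ => hCW z.2
  have haff : IsAffineOpen (q ⁻¹ᵁ W') := by
    have e : q ⁻¹ᵁ W' = (C : Scheme.{u}).basicOpen (q.appLE W ⊤ hle r) := by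
      show _ = (C : Scheme.{u}).basicOpen ((C : Scheme.{u}).presheaf.map (homOfLE hle).op (q.app W r))
      rw [Scheme.basicOpen_res, top_inf_eq, Scheme.preimage_basicOpen]
    rw [e]
    exact (isAffineOpen_top _).basicOpen _
  haveI : IsAffine (q ⁻¹ᵁ W').toScheme := haff
  haveI : IsAffineHom k' := isAffineHom_of_isAffine _
  haveI : Flat k' := IsZariskiLocalAtTarget.restrict (P := @Flat) inferInstance W'
  haveI : LocallyOfFinitePresentation k' :=
    IsZariskiLocalAtTarget.restrict (P := @LocallyOfFinitePresentation) inferInstance W'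
  haveI : Surjective k' := ⟨fun w => by
    obtain ⟨z, hz⟩ := hr w.2
    refine ⟨⟨z, show q z ∈ W' from hz ▸ w.2⟩, Subtype.ext ?_⟩
    exact (morphismRestrict_base_coe q W' _).trans hz⟩
  refine ⟨W', W'.ι, inferInstance, ⟨k v, htr⟩, rfl, hdesc k' _ ?_ ?_⟩
  · exact ((SheafOfModules.isQuasicoherent.{u} (W' : Scheme.{u}).ringCatSheaf).prop_of_iso
      ((Scheme.Modules.restrictFunctorIsoPullback W'.ι).app M).symm) (PullbackMod.isQCoh_pullback W'.ι M)
  · haveI : Coh.IsQCoh ((Scheme.Modules.pullback k).obj M) := PullbackMod.isQCoh_pullback k M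
    have h1 := hpull ((q ⁻¹ᵁ W').ι ≫ C.ι) _ inferInstance hP
    refine hiso ?_ h1
    exact ((Scheme.Modules.pullbackComp ((q ⁻¹ᵁ W').ι ≫ C.ι) k).app M) ≪≫
      (Scheme.Modules.pullbackCongr (show ((q ⁻¹ᵁ W').ι ≫ C.ι) ≫ k = k' ≫ W'.ι by
        rw [morphismRestrict_ι]; simp [q])).app M ≪≫ ((Scheme.Modules.pullbackComp k' W'.ι).app M).symm ≪≫
      (Scheme.Modules.pullback k').mapIso ((Scheme.Modules.restrictFunctorIsoPullback W'.ι).app M).symm

/-- Finite locally free modules are locally free. -/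
theorem isLocallyFree_of_isFinLocFree {X : Scheme.{u}} {M : X.Modules} (hM : FlatMod.IsFinLocFree M) :
    SheafOfModules.IsLocallyFree (R := X.ringCatSheaf) M := by
  have hG : ∀ x : X, ∃ V : X.Opens, x ∈ V ∧
      ∃ G : (SheafOfModules.over (R := X.ringCatSheaf) M V).GeneratingSections, IsIso G.π := by
    intro x
    obtain ⟨V, n, hxV, ⟨c⟩⟩ := hM x
    let c' : SheafOfModules.free (R := (V : Scheme.{u}).ringCatSheaf) (ULift.{u} (Fin n)) ≅ M.restrict V.ι :=
      DCohLib.freeIsoFreeMod (V : Scheme.{u}) Equiv.ulift ≪≫ c.symm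
    let G₀ := (SheafOfModules.free.generatingSections (R := (V : Scheme.{u}).ringCatSheaf)
      (ULift.{u} (Fin n))).ofEpi c'.hom
    haveI : IsIso G₀.π := by
      simp only [G₀, SheafOfModules.GeneratingSections.ofEpi_π]
      infer_instance
    let e := Scheme.Modules.overEquiv V
    let η : e.functor.obj (SheafOfModules.unit (X.ringCatSheaf.over V)) ≅
        SheafOfModules.unit (V : Scheme.{u}).ringCatSheaf :=
      (Scheme.Modules.overFunctorEquiv V).app (SheafOfModules.unit X.ringCatSheaf) ≪≫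
        Scheme.Modules.restrictUnitIso V.ι
    refine ⟨V, hxV, (G₀.map e.inverse (e.unitIso.app _ ≪≫ e.inverse.mapIso η)).ofEpi
      (e.inverse.mapIso ((Scheme.Modules.overFunctorEquiv V).app M).symm ≪≫ (e.unitIso.app _).symm).hom, ?_⟩
    rw [SheafOfModules.GeneratingSections.ofEpi_π]
    haveI : IsIso (G₀.map e.inverse (e.unitIso.app _ ≪≫ e.inverse.mapIso η)).π := inferInstance
    exact IsIso.comp_isIso
  choose V hV G hG using hG
  let σ : SheafOfModules.LocalGeneratorsData.{u} (R := X.ringCatSheaf) M :=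
    { I := ↥X
      X := V
      coversTop := by
        rw [Opens.coversTop_iff, IsOpenCover]
        exact eq_top_iff.mpr fun x _ => Opens.mem_iSup.mpr ⟨x, hV x⟩
      generators := G }
  haveI h2 : σ.IsLocallyFreeData := { isIso := fun a => hG a }
  exact { exists_isLocallyFreeData := ⟨σ, h2⟩ }

/-- Locally free modules of finite type are finite locally free. -/
theorem isFinLocFree_of_isLocallyFree {X : Scheme.{u}} {M : X.Modules} [Coh.IsQCoh M]
    (hlf : SheafOfModules.IsLocallyFree (R := X.ringCatSheaf) M) (hft : CohB1.IsFT M) :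
    FlatMod.IsFinLocFree M := by
  intro x
  obtain ⟨σ, hσ⟩ := hlf.exists_isLocallyFreeData
  have hcov : ⨆ i, σ.X i = ⊤ := by
    have := σ.coversTop
    rwa [Opens.coversTop_iff, IsOpenCover] at this
  obtain ⟨i, hi⟩ := Opens.mem_iSup.mp (hcov.ge (trivial : x ∈ (⊤ : X.Opens)))
  let U : X.Opens := σ.X i
  let e := Scheme.Modules.overEquiv U
  let η : e.functor.obj (SheafOfModules.unit (X.ringCatSheaf.over U)) ≅
      SheafOfModules.unit (U : Scheme.{u}).ringCatSheaf :=
    (Scheme.Modules.overFunctorEquiv U).app (SheafOfModules.unit X.ringCatSheaf) ≪≫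
      Scheme.Modules.restrictUnitIso U.ι
  let G : SheafOfModules.GeneratingSections (R := (U : Scheme.{u}).ringCatSheaf) (M.restrict U.ι) :=
    ((σ.generators i).map e.functor η.symm).ofEpi ((Scheme.Modules.overFunctorEquiv U).app M).hom
  haveI := hσ.isIso i
  haveI : IsIso G.π := by
    simp only [G, SheafOfModules.GeneratingSections.ofEpi_π]
    haveI : IsIso ((σ.generators i).map e.functor η.symm).π := inferInstance
    exact IsIso.comp_isIso
  obtain ⟨_, ⟨D : X.Opens, (hD : IsAffineOpen D), rfl⟩, hxD, hDU⟩ :=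
    X.isBasis_affineOpens.exists_subset_of_mem_open (a := x) (u := ↑U) hi U.2
  let v : Spec Γ(X, D) ⟶ (U : Scheme.{u}) := hD.isoSpec.inv ≫ X.homOfLE hDU
  let F := Scheme.Modules.restrictFunctor v
  haveI : PreservesColimitsOfSize.{u, u} F :=
    (Scheme.Modules.restrictAdjunction v).leftAdjoint_preservesColimits
  let c : M.restrict hD.fromSpec ≅ tilde (ModuleCat.of Γ(X, D) (G.I →₀ Γ(X, D))) :=
    ((Scheme.Modules.restrictFunctorComp v U.ι).symm ≪≫
      Scheme.Modules.restrictFunctorCongr (g := hD.fromSpec)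
        (show v ≫ U.ι = hD.fromSpec by simp [v, IsAffineOpen.isoSpec_inv_ι])).symm.app M ≪≫
    F.mapIso (asIso G.π).symm ≪≫
    PreservesCoproduct.iso F _ ≪≫
    Limits.Sigma.mapIso (fun _ => Scheme.Modules.restrictUnitIso v) ≪≫
    (tildeFinsupp _).symm
  let eΓ := (moduleSpecΓFunctor (R := Γ(X, D))).mapIso c ≪≫
    ((tilde.toTildeΓNatIso (R := Γ(X, D))).app _).symm
  let e' : Γ(M, D) ≃ₗ[Γ(X, D)] (G.I →₀ Γ(X, D)) :=
    (QCohLib.topEquiv M hD).symm.trans eΓ.toLinearEquiv
  haveI := QCohLib.finite_sections M hft hD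
  haveI : Module.Finite Γ(X, D) (G.I →₀ Γ(X, D)) := Module.Finite.equiv e'
  haveI : Nonempty D := ⟨⟨x, hxD⟩⟩
  haveI : Finite G.I := Module.Finite.finite_basis (Finsupp.basisSingleOne (R := Γ(X, D)) (ι := G.I))
  exact ⟨U, Nat.card G.I, hi,
    ⟨(asIso G.π).symm ≪≫ DCohLib.freeIsoFreeMod (U : Scheme.{u}) (Finite.equivFin G.I)⟩⟩

theorem iff_castMod {Q : ∀ {X : Scheme.{u}}, X.Modules → Prop} {X T : Scheme.{u}} (h : X = T) (M : X.Modules) :
    Q (StMod.castMod h M) ↔ Q M := by
  subst h; rfl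

/-- A pointwise property descends from a gerbe. -/
theorem forall_iff {S : Scheme.{u}} {𝒳 𝒴 : AlgSt.Cat S} (π : 𝒳 ⥤ᵇ 𝒴)
    (hπ : Gerb.LocSurjObj (QuotSh.J Scheme.fppfPrecoverage S) π) (G : StMod.QCoh 𝒴)
    (P : ∀ {X : Scheme.{u}}, X.Modules → Prop)
    (hiso : ∀ {X : Scheme.{u}} {M N : X.Modules}, (M ≅ N) → P M → P N)
    (hpull : ∀ {X Y : Scheme.{u}} (g : Y ⟶ X) (M : X.Modules), Coh.IsQCoh M → P M →
      P ((Scheme.Modules.pullback g).obj M))
    (hdesc : ∀ {X Y : Scheme.{u}} (g : Y ⟶ X) [Flat g] [Surjective g] [QuasiCompact g]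
      [LocallyOfFinitePresentation g] (M : X.Modules),
      Coh.IsQCoh M → P ((Scheme.Modules.pullback g).obj M) → P M)
    (hloc : ∀ {X : Scheme.{u}} (M : X.Modules), (∀ x : X, ∃ (U : Scheme.{u}) (j : U ⟶ X) (_ : IsOpenImmersion j)
      (y : U), j y = x ∧ P ((Scheme.Modules.restrictFunctor j).obj M)) → P M) :
    (∀ y, P (G.obj.obj y)) ↔ ∀ x, P (((StMod.comapQ π).obj G).obj.obj x) := by
  refine ⟨fun h x => (iff_castMod (Q := P) (StMod.sch_obj_eq π x) _).2 (h _), fun h y => ?_⟩
  obtain ⟨R, hR, hmem⟩ := hπ y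
  haveI : Coh.IsQCoh (G.obj.obj y) := G.property.2 y
  refine descends_fppf P hiso hpull hdesc hloc (G.obj.obj y) fun t => ?_
  obtain ⟨V, k, hk, hkf, hkp, hkr⟩ := exists_flat_mem hR t
  obtain ⟨x, g, hg⟩ := hmem k hk
  have hd : 𝒴.p.obj (π.obj x) = V := IsHomLift.domain_eq 𝒴.p k g
  have hb : StMod.bmap 𝒴 g = (eqToHom hd).left ≫ k.left := by
    have h1 : 𝒴.p.map g = eqToHom hd ≫ k := by simpa using IsHomLift.fac' 𝒴.p k g
    exact congrArg CommaMorphism.left h1
  haveI : IsIso (eqToHom hd).left := inferInstanceAs (IsIso ((Over.forget S).map (eqToHom hd)))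
  obtain ⟨v, hv⟩ := hkr
  obtain ⟨v', hv'⟩ := (eqToHom hd).left.surjective v
  refine ⟨_, StMod.bmap 𝒴 g, by rw [hb]; infer_instance, by rw [hb]; infer_instance, ⟨v', ?_⟩, ?_⟩
  · rw [hb]
    exact (congrArg k.left hv').trans hv
  · haveI := G.property.1 g (g := StMod.bmap 𝒴 g) rfl
    exact hiso (asIso (((Scheme.Modules.pullbackPushforwardAdjunction (StMod.bmap 𝒴 g)).homEquiv _ _).symm
      (G.obj.map g rfl))).symm ((iff_castMod (Q := P) (StMod.sch_obj_eq π x) _).1 (h x))

open CategoryTheory AlgebraicGeometry in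
/-- Second assertion: let π : 𝒳 → 𝒴 be an fppf A-gerbe of algebraic stacks, for a presheaf of groups A
on schemes over S acting through the inertia of 𝒳, and let G be a quasi-coherent module on 𝒴. Then G
is of finite type if and only if its inverse image along π is; likewise for finite presentation, and
for being locally free of finite type. (The published statement is for all modules on a gerbe over a
locally ringed site and for any property preserved by pullback along morphisms of sites, naming also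
quasi-coherence, flatness and local freeness; this row is its quasi-coherent form for the three
properties named, local freeness being taken together with finite type.) -/
theorem result (S : Scheme.{u}) (𝒳 𝒴 : AlgSt.Cat S) (h𝒳 : AlgSt.IsAlgStack Scheme.fppfPrecoverage 𝒳) (h𝒴 : AlgSt.IsAlgStack Scheme.fppfPrecoverage 𝒴) (A : (Over S)ᵒᵖ ⥤ GrpCat.{u}) (π : 𝒳 ⥤ᵇ 𝒴) (ι : TwSh.BandHom 𝒳 A) (hπ : TwSh.IsBandedGerbe (QuotSh.J Scheme.fppfPrecoverage S) π ι) (G : StMod.QCoh 𝒴) : (G.obj.IsFinType ↔ ((StMod.comapQ π).obj G).obj.IsFinType) ∧ (G.obj.IsFinPres ↔ ((StMod.comapQ π).obj G).obj.IsFinPres) ∧ ((G.obj.IsLocFree ∧ G.obj.IsFinType) ↔ (((StMod.comapQ π).obj G).obj.IsLocFree ∧ ((StMod.comapQ π).obj G).obj.IsFinType)) := by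
  have hg := hπ.1.1
  have hFT := forall_iff π hg G (fun M => CohB1.IsFT M) (fun e h => TildePerf.isFT_of_iso e h)
    (fun g M hM h => (haveI := hM; PullbackMod.isFiniteType_pullback g M h))
    (fun g _ _ _ _ M _ h => RelPCLib.isFT_of_pullback g g.isOpenMap M h)
    (fun M h => DCohLib.isFT_of_local_epi fun x => by
      obtain ⟨U, j, hj, y, hy, hP⟩ := h x
      obtain ⟨V, n, p, hyV, hp⟩ := DCohLib.exists_free_epi hP y
      exact ⟨V, V.ι ≫ j, inferInstance, ⟨y, hyV⟩, n,
        p ≫ ((Scheme.Modules.restrictFunctorComp V.ι j).app M).inv, hy, epi_comp' hp inferInstance⟩)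
  have hFP := forall_iff π hg G (fun M => CohB1.IsFP M)
    (fun {X M N} e h => (SheafOfModules.isFinitePresentation.{u} X.ringCatSheaf).prop_of_iso e h)
    (fun g M hM h => (haveI := hM; PullbackMod.isFP_pullback g M h))
    (fun g _ _ _ _ M hM h => S5134.result g M hM h)
    (fun M h => DCohLib.isFP_of_local h)
  have hLF := forall_iff π hg G (fun M => FlatMod.IsFinLocFree M)
    (fun e h => DCohLib.isFinLocFree_iso e h)
    (fun g M _ h => PullbackMod.isFinLocFree_pullback g M h)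
    (fun g _ _ _ _ M hM h => (haveI := hM; S1177.result g M h))
    (fun M h => DCohLib.isFinLocFree_of_local h)
  have key : ∀ {𝒵 : AlgSt.Cat S} (F : StMod.QCoh 𝒵),
      (F.obj.IsLocFree ∧ F.obj.IsFinType) ↔ ∀ z, FlatMod.IsFinLocFree (F.obj.obj z) := fun F =>
    ⟨fun h z => (haveI := F.property.2 z; isFinLocFree_of_isLocallyFree (h.1 z) (h.2 z)),
      fun h => ⟨fun z => isLocallyFree_of_isFinLocFree (h z), fun z => by
        haveI := (PullbackMod.isQCoh_and_isFP_of_isFinLocFree _ (h z)).2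
        exact inferInstance⟩⟩
  exact ⟨hFT, hFP, (key G).trans (hLF.trans (key _).symm)⟩

end Groth.Agent.S19717
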