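import Groth.Statements.S19735
import Groth.Agent.TwistShriek.NumAmple
-- import your own Groth.Agent.* helpers here

set_option autoImplicit false
set_option backward.isDefEq.respectTransparency false
set_option maxHeartbeats 800000
set_option synthInstance.maxHeartbeats 200000
universe u
open CategoryTheory CategoryTheory.Limits AlgebraicGeometry TopologicalSpace
open Surf
open Groth.Agent Groth.Agent.TwistShriek

namespace Groth.Agent.S19735

/-- Let k be an algebraically closed field of characteristic zero and X a smooth projective surface over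
k (integral, proper and smooth over k, of dimension 2, with an ample invertible module); the notes
work over the complex numbers. Fix a group law on the Picard set of X, and let B be the intersection
form on N¹(X)_ℝ = ℝ ⊗ (Pic X modulo numerical equivalence), the real bilinear form whose value on
the classes of invertible modules L, M is (L·M) = χ(O_X) − χ(L) − χ(M) + χ(L ⊗ M); assume N¹(X)_ℝ is
finite-dimensional. Let H be an ample invertible module, C₊ = {x : B(x, x) > 0, B(x, [H]) > 0} the
positive cone and Ā(X) the closure of the ample cone taken inside C₊ (the closure in N¹(X)_ℝ of the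
cone spanned by ample classes, intersected with C₊). Let C_1, …, C_r be pairwise distinct integral
curves on X (quasi-coherent ideals I_i with integral closed subscheme of one-dimensional support and
invertible ideal module) with walls W^{C_i} = {x : B(x, [C_i]) = 0}. Then Ā(X) ∩ W^{C_1} ∩ ⋯ ∩
W^{C_r} is non-empty if and only if the curves C_i generate a negative definite sublattice: Σ_{i,j}
a_i a_j (I_i·I_j) < 0 for every nonzero integer vector a, where (I_i·I_j) = χ(O_X) − χ(I_i) − χ(I_j)
+ χ(I_i ⊗ I_j). (The published statement adds that, when non-empty, this intersection is open in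
W^{C_1} ∩ ⋯ ∩ W^{C_r}; that is not correct as published: on the plane blown up in two points, with
C_1 one exceptional curve, the class of a line lies in Ā(X) ∩ W^{C_1} but adding a small positive
multiple of the other exceptional curve leaves Ā(X) while staying in W^{C_1}. What the argument
there yields is a non-empty open subset of the intersection of the walls contained in Ā(X), and that
clause is not restated.) -/
theorem result (k : Type u) [Field k] [IsAlgClosed k] [CharZero k]
    (X : Scheme.{u}) [X.Over (Spec (CommRingCat.of k))] [IsProper (X ↘ (Spec (CommRingCat.of k)))]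
    [Smooth (X ↘ (Spec (CommRingCat.of k)))] [AlgebraicGeometry.IsIntegral X] (hdim : topologicalKrullDim X = 2)
    (hproj : ∃ H : X.Modules, CohB1.IsAmple H) [PicGrp.Law X] [Module.Finite ℝ (NumR.N1R k X)]
    (B : NumR.N1R k X →ₗ[ℝ] NumR.N1R k X →ₗ[ℝ] ℝ) (hB : NumR.IsIntForm₂ k X B) (H : X.Modules) (hH : CohB1.IsAmple H)
    (r : ℕ) (C : Fin r → X.IdealSheafData) (hC : Function.Injective C)
    (hCi : ∀ i, AlgebraicGeometry.IsIntegral (C i).subscheme) (hCd : ∀ i, topologicalKrullDim ((C i).support : Set X) = 1)
    (hCinv : ∀ i, PicF.IsInvertible (ClSub.idealMod (C i))) :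
    (∃ x : NumR.N1R k X, x ∈ closure (NumR.ampleCone k X : Set (NumR.N1R k X)) ∧ x ∈ NumR.posCone k X B H hH.1 ∧
        ∀ i, x ∈ NumR.wall k X B (C i) (hCinv i)) ↔
      (∀ a : Fin r → ℤ, a ≠ 0 →
      ∑ i, ∑ j, a i * a j * FGA.intNum k X 2 ![(ClSub.idealMod (C i)), (ClSub.idealMod (C j))] (Coh.structureModule X) < 0) := by
    let D : Fin r → NumR.Curve X := fun i => ⟨C i, hCi i, hCd i, hCinv i⟩
    obtain ⟨G, hG⟩ : ∃ G : Fin r → Fin r → ℤ, G = fun i j =>
        FGA.intNum k X 2 ![(ClSub.idealMod (C i)), (ClSub.idealMod (C j))] (Coh.structureModule X) := ⟨_, rfl⟩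
    have hBG : ∀ i j, B (cc k (D i)) (cc k (D j)) = (G i j : ℝ) := fun i j => by
      rw [hG, B_curve_curve hdim hB]
      dsimp only
      rw [intNum_eq_form k hdim.le (hCinv i) (hCinv j)]
    have hoff : ∀ i j, i ≠ j → 0 ≤ G i j := fun i j hij => by
      rw [hG]
      dsimp only
      rw [intNum_eq_form k hdim.le (hCinv i) (hCinv j)]
      exact form_curves_nonneg k hdim (hCi i) (hCd i) (hCinv i) (hCi j) (hCd j) (hCinv j) (fun h => hij (hC h))
    have hQ : ∀ a b : Fin r → ℝ, B (∑ i, a i • cc k (D i)) (∑ j, b j • cc k (D j)) = ∑ i, ∑ j, a i * b j * (G i j : ℝ) :=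
      fun a b => by
        simp only [map_sum, map_smul, LinearMap.sum_apply, LinearMap.smul_apply, smul_eq_mul, hBG, Finset.mul_sum]
        rw [Finset.sum_comm]
        exact Finset.sum_congr rfl fun i _ => Finset.sum_congr rfl fun j _ => by ring
    constructor
    · rintro ⟨x, -, hx, hxC⟩ a ha
      by_contra hnn
      push Not at hnn
      have horth : ∀ c : Fin r → ℝ, B (∑ i, c i • cc k (D i)) x = 0 := fun c => by
        rw [B_symm hdim hB, map_sum]
        refine Finset.sum_eq_zero fun i _ => ?_
        rw [map_smul, show B x (cc k (D i)) = 0 from hxC i, smul_zero]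
      have hz : ∑ i, (a i : ℝ) • cc k (D i) = 0 := (isHodge hdim hB hH).orth hx.1 (horth _) (by
        rw [hQ, hG]; exact_mod_cast hnn)
      have hpart : ∀ b : Fin r → ℝ, ∑ i, b i • cc k (D i) = 0 → ∀ i, max (b i) 0 = 0 := fun b hb => by
        obtain ⟨p, hp⟩ : ∃ p : Fin r → ℝ, p = fun i => max (b i) 0 := ⟨_, rfl⟩
        obtain ⟨m, hm⟩ : ∃ m : Fin r → ℝ, m = fun i => max (-b i) 0 := ⟨_, rfl⟩
        have hpm : ∑ i, p i • cc k (D i) = ∑ i, m i • cc k (D i) := by
          rw [← sub_eq_zero, ← Finset.sum_sub_distrib, ← hb]
          refine Finset.sum_congr rfl fun i _ => ?_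
          rw [← sub_smul, hp, hm]
          dsimp only
          rw [TwistShriek.NumForm.pos_sub_neg]
        have hpp : 0 ≤ B (∑ i, p i • cc k (D i)) (∑ i, p i • cc k (D i)) := by
          nth_rw 2 [hpm]
          rw [hQ]
          refine TwistShriek.NumForm.cross_nonneg (fun i j hij => ?_) (fun i => hp ▸ le_max_right _ _)
            (fun i => hm ▸ le_max_right _ _) (fun i => by rw [hp, hm]; exact TwistShriek.NumForm.pos_mul_neg _)
          exact_mod_cast hoff i j hij
        have hp0 := (isHodge hdim hB hH).orth hx.1 (horth p) hpp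
        intro i
        have hsum := congrArg (fun z => B (NumR.clR k X H hH.1) z) hp0
        simp only [map_sum, map_smul, smul_eq_mul, map_zero] at hsum
        have hterm := (Finset.sum_eq_zero_iff_of_nonneg fun j _ =>
          mul_nonneg (show 0 ≤ p j from hp ▸ le_max_right _ _) (pos_curve hdim hB hH (D j)).le).1 hsum i (Finset.mem_univ i)
        have := (mul_eq_zero.1 hterm).resolve_right (pos_curve hdim hB hH (D i)).ne'
        rwa [hp] at this
      refine ha (funext fun i => ?_)
      have e1 := hpart _ hz i
      have e2 := hpart (fun i => -(a i : ℝ)) (by simp [hz]) i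
      simp only [max_eq_right_iff, neg_nonpos] at e1 e2
      rw [Pi.zero_apply]
      exact_mod_cast le_antisymm e1 e2
    · intro hneg
      have hsymm : ∀ i j, G i j = G j i := fun i j => by
        have h1 := hBG i j
        rw [B_symm hdim hB, hBG] at h1
        exact_mod_cast h1.symm
      have hnegR := TwistShriek.NumForm.real_negDef hsymm (by rw [hG]; exact hneg)
      obtain ⟨M, hM⟩ : ∃ M : Matrix (Fin r) (Fin r) ℝ, M = Matrix.of fun i j => (G i j : ℝ) := ⟨_, rfl⟩
      have hinj : Function.Injective M.vecMulLinear := (injective_iff_map_eq_zero _).2 fun v hv => by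
        by_contra hne
        refine (hnegR v hne).ne ?_
        have hv' : ∀ j, ∑ i, v i * (G i j : ℝ) = 0 := fun j => by
          have := congrFun hv j
          simpa [Matrix.vecMul, dotProduct, hM] using this
        rw [Finset.sum_comm]
        refine Finset.sum_eq_zero fun j _ => ?_
        rw [show ∑ i, v i * v j * (G i j : ℝ) = v j * ∑ i, v i * (G i j : ℝ) by
          rw [Finset.mul_sum]; exact Finset.sum_congr rfl fun i _ => by ring, hv' j, mul_zero]
      obtain ⟨s, hs⟩ := LinearMap.surjective_of_injective hinj (fun j => - B (NumR.clR k X H hH.1) (cc k (D j)))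
      have hs' : ∀ j, ∑ i, s i * (G i j : ℝ) = - B (NumR.clR k X H hH.1) (cc k (D j)) := fun j => by
        have := congrFun hs j
        simpa [Matrix.vecMul, dotProduct, hM] using this
      have hspos : ∀ i, 0 ≤ s i := TwistShriek.NumForm.nonneg_of_negDef
        (G := fun i j => (G i j : ℝ)) (fun i j hij => by exact_mod_cast hoff i j hij) hnegR fun j => by
          rw [hs' j]
          exact neg_nonpos.2 (pos_curve hdim hB hH (D j)).le
      obtain ⟨z, hz⟩ : ∃ z, z = NumR.clR k X H hH.1 + ∑ i, s i • cc k (D i) := ⟨_, rfl⟩
      have hzj : ∀ j, B z (cc k (D j)) = 0 := fun j => by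
        rw [hz, map_add, LinearMap.add_apply, map_sum, LinearMap.sum_apply]
        simp only [map_smul, LinearMap.smul_apply, smul_eq_mul, hBG]
        rw [hs' j, add_neg_cancel]
      have hznef : ∀ E : NumR.Curve X, 0 ≤ B z (cc k E) := fun E => by
        by_cases hE : ∃ i, D i = E
        · obtain ⟨i, rfl⟩ := hE
          exact (hzj i).ge
        · rw [hz, map_add, LinearMap.add_apply, map_sum, LinearMap.sum_apply]
          refine add_nonneg (pos_curve hdim hB hH E).le (Finset.sum_nonneg fun i _ => ?_)
          rw [map_smul, LinearMap.smul_apply, smul_eq_mul, B_curve_curve hdim hB]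
          refine mul_nonneg (hspos i) ?_
          exact_mod_cast form_curves_nonneg k hdim (hCi i) (hCd i) (hCinv i) E.2.1 E.2.2.1 E.2.2.2
            (fun h => hE ⟨i, Subtype.ext h⟩)
      have hzh : 0 < B z (NumR.clR k X H hH.1) := by
        rw [hz, map_add, LinearMap.add_apply, map_sum, LinearMap.sum_apply]
        refine add_pos_of_pos_of_nonneg (isHodge hdim hB hH).pos (Finset.sum_nonneg fun i _ => ?_)
        rw [map_smul, LinearMap.smul_apply, smul_eq_mul, B_symm hdim hB]
        exact mul_nonneg (hspos i) (pos_curve hdim hB hH (D i)).le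
      have hzz : 0 < B z z := by
        nth_rw 2 [hz]
        rw [map_add, map_sum, Finset.sum_eq_zero fun i _ => by rw [map_smul, hzj i, smul_zero], add_zero]
        exact hzh
      refine ⟨z, ?_, ⟨hzz, hzh⟩, hzj⟩
      rw [closure_ampleCone hdim hB hH]
      exact ⟨hzz.le, hzh.le, hznef⟩

end Groth.Agent.S19735
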