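import Groth.Statements.S19736
import Groth.Agent.TwistShriek.NumAmple
-- import your own Groth.Agent.* helpers here

set_option autoImplicit false
set_option backward.isDefEq.respectTransparency false
set_option maxHeartbeats 800000
set_option synthInstance.maxHeartbeats 200000
universe u
open CategoryTheory CategoryTheory.Limits AlgebraicGeometry TopologicalSpace
open Surf
open Groth.Agent Groth.Agent.TwistShriek

namespace Groth.Agent.S19736

/-- Let k be an algebraically closed field of characteristic zero and X a smooth projective surface over
k (integral, proper and smooth over k, of dimension 2, with an ample invertible module); the notes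
work over the complex numbers. Fix a group law on the Picard set of X, and let B be the intersection
form on N¹(X)_ℝ = ℝ ⊗ (Pic X modulo numerical equivalence), the real bilinear form whose value on
the classes of invertible modules L, M is (L·M) = χ(O_X) − χ(L) − χ(M) + χ(L ⊗ M); assume N¹(X)_ℝ is
finite-dimensional, of dimension the Picard number ρ. If C_1, …, C_r are pairwise distinct integral
curves on X (quasi-coherent ideals I_i with integral closed subscheme of one-dimensional support and
invertible ideal module) spanning a negative definite sublattice, Σ_{i,j} a_i a_j (I_i·I_j) < 0 for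
every nonzero integer vector a with (I_i·I_j) = χ(O_X) − χ(I_i) − χ(I_j) + χ(I_i ⊗ I_j), then r ≤ ρ
− 1. (The published corollary adds that the walls of curves of negative self-intersection form a
locally finite family along the closure of the ample cone in the positive cone; no argument is given
for that clause and it is not restated.) -/
theorem result (k : Type u) [Field k] [IsAlgClosed k] [CharZero k]
    (X : Scheme.{u}) [X.Over (Spec (CommRingCat.of k))] [IsProper (X ↘ (Spec (CommRingCat.of k)))]
    [Smooth (X ↘ (Spec (CommRingCat.of k)))] [AlgebraicGeometry.IsIntegral X] (hdim : topologicalKrullDim X = 2)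
    (hproj : ∃ H : X.Modules, CohB1.IsAmple H) [PicGrp.Law X] [Module.Finite ℝ (NumR.N1R k X)]
    (B : NumR.N1R k X →ₗ[ℝ] NumR.N1R k X →ₗ[ℝ] ℝ) (hB : NumR.IsIntForm₂ k X B)
    (r : ℕ) (C : Fin r → X.IdealSheafData) (hC : Function.Injective C)
    (hCi : ∀ i, AlgebraicGeometry.IsIntegral (C i).subscheme) (hCd : ∀ i, topologicalKrullDim ((C i).support : Set X) = 1)
    (hCinv : ∀ i, PicF.IsInvertible (ClSub.idealMod (C i)))
    (hneg : ∀ a : Fin r → ℤ, a ≠ 0 →
      ∑ i, ∑ j, a i * a j * FGA.intNum k X 2 ![(ClSub.idealMod (C i)), (ClSub.idealMod (C j))] (Coh.structureModule X) < 0) :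
    r + 1 ≤ Module.finrank ℝ (NumR.N1R k X) := by
    obtain ⟨H, hH⟩ := hproj
    let D : Fin r → NumR.Curve X := fun i => ⟨C i, hCi i, hCd i, hCinv i⟩
    obtain ⟨G, hG⟩ : ∃ G : Fin r → Fin r → ℤ, G = fun i j =>
        FGA.intNum k X 2 ![(ClSub.idealMod (C i)), (ClSub.idealMod (C j))] (Coh.structureModule X) := ⟨_, rfl⟩
    have hBG : ∀ i j, B (cc k (D i)) (cc k (D j)) = (G i j : ℝ) := fun i j => by
      rw [hG, B_curve_curve hdim hB]
      dsimp only
      rw [intNum_eq_form k hdim.le (hCinv i) (hCinv j)]
    have hsymm : ∀ i j, G i j = G j i := fun i j => by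
      have h1 := hBG i j
      rw [B_symm hdim hB, hBG] at h1
      exact_mod_cast h1.symm
    have hnegR := TwistShriek.NumForm.real_negDef hsymm (by rw [hG]; exact hneg)
    have hQ : ∀ a : Fin r → ℝ, B (∑ i, a i • cc k (D i)) (∑ j, a j • cc k (D j)) = ∑ i, ∑ j, a i * a j * (G i j : ℝ) :=
      fun a => by
        simp only [map_sum, map_smul, LinearMap.sum_apply, LinearMap.smul_apply, smul_eq_mul, hBG, Finset.mul_sum]
        rw [Finset.sum_comm]
        exact Finset.sum_congr rfl fun i _ => Finset.sum_congr rfl fun j _ => by ring
    have hli : LinearIndependent ℝ (Fin.cons (NumR.clR k X H hH.1) (fun i => cc k (D i)) : Fin (r + 1) → NumR.N1R k X) := by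
      refine linearIndependent_finCons.2 ⟨Fintype.linearIndependent_iff.2 fun c hc i => ?_, fun hmem => ?_⟩
      · have hc0 : c = 0 := by
          by_contra hne
          refine (hnegR c hne).ne ?_
          rw [← hQ, hc, map_zero]
        rw [hc0, Pi.zero_apply]
      · obtain ⟨c, hc⟩ := Submodule.mem_span_range_iff_exists_fun ℝ |>.1 hmem
        have hpos := (isHodge hdim hB hH).pos
        rw [← hc, hQ] at hpos
        by_cases hne : c = 0
        · subst hne; simp at hpos
        · exact lt_asymm hpos (hnegR c hne)
    simpa using hli.fintype_card_le_finrank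

end Groth.Agent.S19736
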