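import Groth.Statements.S19737
import Groth.Agent.CastLib.ContractPic
import Groth.Agent.CastLib.Twist
import Groth.Agent.PicInfLib.Bridge
import Groth.Agent.TwistShriek.PointCan
import Groth.Agent.TwistShriek.SurfCan
import Groth.Agent.TwistShriek.NumBase
import Groth.Agent.SurfPtBlow.Dominate
import Groth.Agent.SurfPtBlow.Factor
import Groth.Agent.SurfPtBlow.PointPush
import Groth.Agent.SurfPtBlow.Meet
import Groth.Agent.BoundaryConn.Main
import Groth.Agent.NumBddLib.Num
import Groth.Agent.NumPullLib.Surj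
import Groth.Agent.S18439

set_option backward.isDefEq.respectTransparency false
set_option maxHeartbeats 1000000
set_option synthInstance.maxHeartbeats 200000
set_option linter.style.haveILetI false

set_option autoImplicit false
universe u
open CategoryTheory CategoryTheory.Limits AlgebraicGeometry TopologicalSpace
open Surf

namespace Groth.Agent.S19737

open Groth.Agent Groth.Agent.TwistShriek Groth.Agent.TwistShriek.PointBlow Groth.Agent.SurfPtBlow
open Groth.Agent.IntLib (mk pullCls)

noncomputable section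

theorem cls_mul {Y : Scheme.{u}} [PicGrp.Law Y] {L M : Y.Modules} (hL : PicF.IsInvertible L) (hM : PicF.IsInvertible M) :
    PicGrp.cls L hL * PicGrp.cls M hM = PicGrp.cls _ (AmpleLib.isInvertible_tensor hL hM) :=
  Subtype.ext (PicGrp.cls_mul_cls_val hL hM)

theorem mk_rep {Y : Scheme.{u}} {L : Y.Modules} (hL : PicF.IsInvertible L) :
    mk ((PicGrp.exists_eq_cls (PicGrp.cls L hL)).choose) = mk L := by
  obtain ⟨hM, e⟩ := (PicGrp.exists_eq_cls (PicGrp.cls L hL)).choose_spec
  exact IntLib.mk_eq_mk.2 ((PicGrp.cls_eq_cls_iff hM hL).1 e.symm)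

/-- The Picard group of a blown up point. -/
theorem pic_step {X X' : Scheme.{u}} [IsNoetherian X] [IsIntegral X] [PicGrp.Law X] [PicGrp.Law X'] {x : X}
    (hx : IsClosed ({x} : Set X)) (hreg : IsRegularLocalRing (X.presheaf.stalk x))
    (hd : ringKrullDim (X.presheaf.stalk x) = 2) (π : X' ⟶ X) (hb : BlowUp.IsBlowUp π (pointIdeal hx))
    (hI : PicF.IsInvertible (ClSub.idealMod (BlowUp.exceptional π (pointIdeal hx)))) (hπm : PicGrp.PullMul π) :
    ∀ c : PicLoc.PicSet X', ∃ (a : PicLoc.PicSet X) (n : ℤ), c = PicGrp.pullHom π hπm a * PicGrp.cls _ hI ^ n := by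
  haveI := PointBlow.isProper hb
  haveI : IsLocallyNoetherian X' := LocallyOfFiniteType.isLocallyNoetherian π
  obtain ⟨P⟩ := exists_pointParams hx hreg hd
  haveI := isIntegral_E hb P
  obtain ⟨F, _, σ, _, hker, hτc, -, -⟩ := exists_point_exceptional hb P
  haveI := hτc
  have hle : (σ ≫ jE π hx ≫ π).ker ≤ (jE π hx ≫ π).ker := by
    rw [hker, Scheme.Hom.ker_comp, Scheme.IdealSheafData.le_map_iff_comap_le, Scheme.IdealSheafData.ker_subschemeι]
  let p : E π hx ⟶ Spec (CommRingCat.of F) := IsClosedImmersion.lift (σ ≫ jE π hx ≫ π) (jE π hx ≫ π) hle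
  have hp : p ≫ (σ ≫ jE π hx ≫ π) = jE π hx ≫ π := IsClosedImmersion.lift_fac _ _ _
  obtain ⟨κ, _, e, ⟨τ⟩⟩ := exists_P1 hb P
  haveI := isIntegral_P1 (k := κ)
  haveI := isProper_P1 (k := κ)
  let j : CohB1.ProjSpace 1 κ ⟶ X' := e.hom ≫ jE π hx
  have hjp : j ≫ π = (e.hom ≫ p) ≫ (σ ≫ jE π hx ≫ π) := by simp only [j, Category.assoc, hp]
  have hjx : ∀ z, π (j z) = x := fun z => by
    have h : j z ∈ Set.range (jE π hx) := ⟨e.hom z, rfl⟩
    rw [range_jE_eq] at h
    exact h
  have hOinv : degP κ (Coh.structureModule (CohB1.ProjSpace 1 κ)) = 0 := CurveLib.deg_structureModule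
  let f : Additive (PicLoc.PicSet X') → ℤ := fun c => degOn j (PicGrp.exists_eq_cls c.toMul).choose
  have hfcls : ∀ (L : X'.Modules) (hL : PicF.IsInvertible L), f (Additive.ofMul (PicGrp.cls L hL)) = degOn j L :=
    fun L hL => degP_congr (by
      rw [← IntLib.pullCls_mk, ← IntLib.pullCls_mk]
      exact congrArg _ (mk_rep hL))
  let deg : Additive (PicLoc.PicSet X') →+ ℤ := AddMonoidHom.mk' f fun a b => by
    obtain ⟨L, hL, hLa⟩ := PicGrp.exists_eq_cls a.toMul
    obtain ⟨M, hM, hMb⟩ := PicGrp.exists_eq_cls b.toMul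
    rw [show a = Additive.ofMul (PicGrp.cls L hL) from hLa, show b = Additive.ofMul (PicGrp.cls M hM) from hMb,
      ← ofMul_mul, cls_mul, hfcls, hfcls, hfcls]
    refine (degP_congr ?_).trans (degP_tensor (AmpleLib.isInvertible_pullback j hL) (AmpleLib.isInvertible_pullback j hM))
    exact IntLib.mk_congr (AmpleLib.pullTensor j L M)
  let ψ : Additive (PicLoc.PicSet X) →+ Additive (PicLoc.PicSet X') :=
    MonoidHom.toAdditive (PicGrp.pullHom π (hπm))
  have hψcls : ∀ (L : X.Modules) (hL : PicF.IsInvertible L), ψ (Additive.ofMul (PicGrp.cls L hL)) =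
      Additive.ofMul (PicGrp.cls _ (AmpleLib.isInvertible_pullback π hL)) := fun L hL =>
    congrArg Additive.ofMul (Subtype.ext rfl)
  have hdψ : ∀ a, deg (ψ a) = 0 := fun a => by
    obtain ⟨L, hL, ha⟩ := PicGrp.exists_eq_cls a.toMul
    rw [show a = Additive.ofMul (PicGrp.cls L hL) from ha, hψcls]
    refine (hfcls _ _).trans ((degP_congr ?_).trans hOinv)
    rw [← IntLib.pullCls_mk, ← IntLib.pullCls_mk, CastLib.BlowPic.pullCls_comp, hjp,
      CastLib.BlowPic.pullCls_eq_one_of_point _ _ hL, IntLib.mk_structureModule]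
  let e0 : Additive (PicLoc.PicSet X') := Additive.ofMul (PicGrp.cls _ hI)
  have hde0 : deg e0 = 1 := (hfcls _ hI).trans ((degP_congr (IntLib.mk_congr τ)).trans (S6579.deg_twist_one κ))
  have hbij := bijective_app_blowUp hb hreg hd
  have hker : ∀ c, deg c = 0 → ∃ a, ψ a = c := fun c hc => by
    obtain ⟨L, hL, hLc⟩ := PicGrp.exists_eq_cls c.toMul
    obtain rfl : c = Additive.ofMul (PicGrp.cls L hL) := hLc
    replace hc : degOn j L = 0 := (hfcls L hL).symm.trans hc
    obtain ⟨d, ⟨ed⟩⟩ := PicProjLib.exists_iso_twist (AmpleLib.isInvertible_pullback j hL)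
    have hd0 : d = 0 := by
      have h1 : degP κ (Twist.twistProjSpace 1 κ d) = 0 := (degP_congr (IntLib.mk_congr ed)).symm.trans hc
      rcases lt_or_ge d 0 with hlt | hge
      · exact absurd h1 (CastLib.degP_twist_neg hlt).ne
      · lift d to ℕ using hge
        rw [CastLib.degP_twist_nat] at h1
        exact h1
    have htriv : pullCls j (mk L) = 1 := by
      subst hd0
      rw [IntLib.pullCls_mk, IntLib.mk_congr ed, ← IntLib.mk_structureModule]
      exact IntLib.mk_eq_mk.2 (ProjTwistLib.nonempty_zero_iso (𝒜 := CohB1.polyGrading 1 κ))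
    obtain ⟨L', hL', ⟨eL⟩⟩ := CastLib.ContractPic.exists_descend π hbij L fun y => by
      by_cases hy : y = x
      · subst hy
        exact CastLib.ContractPic.exists_gen_integral hreg hd π hb j hjx
          ((degP_congr (IntLib.mk_congr τ)).trans (S6579.deg_twist_one κ)) hL htriv
      · let U : X.Opens := ⟨{x}ᶜ, hx.isOpen_compl⟩
        haveI : IsIso (π ∣_ U) := isIso_restrict_compl hb U fun hh => hh rfl
        exact CastLib.ContractPic.exists_gen_off π U hy hL
    exact ⟨Additive.ofMul (PicGrp.cls L' hL'), (hψcls L' hL').trans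
      (congrArg Additive.ofMul ((PicGrp.cls_eq_cls_iff _ hL).2 ⟨eL⟩))⟩
  intro c
  obtain ⟨a, ha⟩ := hker (Additive.ofMul c - deg (Additive.ofMul c) • e0)
    (by rw [map_sub, map_zsmul, hde0, smul_eq_mul, mul_one, sub_self])
  refine ⟨a.toMul, deg (Additive.ofMul c), ?_⟩
  have h := eq_sub_iff_add_eq.1 ha
  exact (congrArg Additive.toMul h).symm

variable (k : Type u) [Field k] {X : Scheme.{u}} [X.Over (Spec (CommRingCat.of k))]
  [IsProper (X ↘ Spec (CommRingCat.of k))] [PicGrp.Law X]

/-- The degree on a curve as a homomorphism. -/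
def curveHom {Y : Scheme.{u}} (i : Y ⟶ X) [IsClosedImmersion i] (hY : topologicalKrullDim Y = 1) :
    Additive (PicLoc.PicSet X) →+ ℤ :=
  AddMonoidHom.mk' (fun c => Pic13.curveDeg k (i ≫ (X ↘ Spec (CommRingCat.of k)))
    ((Scheme.Modules.pullback i).obj (PicGrp.exists_eq_cls c.toMul).choose)) fun a b => by
    obtain ⟨hA, eA⟩ := (PicGrp.exists_eq_cls a.toMul).choose_spec
    obtain ⟨hB, eB⟩ := (PicGrp.exists_eq_cls b.toMul).choose_spec
    obtain ⟨hC, eC⟩ := (PicGrp.exists_eq_cls (a + b).toMul).choose_spec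
    have hd : topologicalKrullDim Y = ((1 : ℕ) : WithBot ℕ∞) := hY.trans Nat.cast_one.symm
    obtain ⟨e⟩ := (PicGrp.cls_eq_cls_iff hC (AmpleLib.isInvertible_tensor hA hB)).1
      (by rw [← cls_mul hA hB, ← eA, ← eB, ← eC]; rfl)
    rw [← NumBdd.curveDeg_tensor k hA hB i hd, Nakai.curveDeg_eq k hC i hd,
      Nakai.curveDeg_eq k (AmpleLib.isInvertible_tensor hA hB) i hd, Nakai.cl_congr hC _ e]

theorem curveHom_cls {Y : Scheme.{u}} (i : Y ⟶ X) [IsClosedImmersion i] (hY : topologicalKrullDim Y = 1)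
    {L : X.Modules} (hL : PicF.IsInvertible L) :
    curveHom k i hY (Additive.ofMul (PicGrp.cls L hL)) =
      Pic13.curveDeg k (i ≫ (X ↘ Spec (CommRingCat.of k))) ((Scheme.Modules.pullback i).obj L) := by
  obtain ⟨hA, eA⟩ := (PicGrp.exists_eq_cls (PicGrp.cls L hL)).choose_spec
  obtain ⟨e⟩ := (PicGrp.cls_eq_cls_iff hA hL).1 eA.symm
  have hd : topologicalKrullDim Y = ((1 : ℕ) : WithBot ℕ∞) := hY.trans Nat.cast_one.symm
  show Pic13.curveDeg k _ _ = _
  rw [Nakai.curveDeg_eq k hL i hd, ← Nakai.cl_congr hA hL e, ← Nakai.curveDeg_eq k hA i hd]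

/-- Numerically trivial classes have degree zero on curves. -/
theorem curveHom_subCl {Y : Scheme.{u}} (i : Y ⟶ X) [IsClosedImmersion i] (hYi : IsIntegral Y) (hY : topologicalKrullDim Y = 1)
    {c : PicLoc.PicSet X} (hc : c ∈ PicGrp.subCl (Y := X) (Pic13.IsNumEquivZero k X)) :
    curveHom k i hY (Additive.ofMul c) = 0 := by
  induction hc using Subgroup.closure_induction with
  | mem c hc => obtain ⟨L, hL, h, rfl⟩ := hc; rw [curveHom_cls]; exact h Y i hYi hY
  | one => exact map_zero _
  | mul a b _ _ ha hb => rw [ofMul_mul, map_add, ha, hb, add_zero]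
  | inv a _ ha => rw [ofMul_inv, map_neg, ha, neg_zero]


end


/-- With the preceding proposition: let k be an algebraically closed field of characteristic zero and X
a smooth projective surface over k (integral, proper and smooth over k, of dimension 2, with an
ample invertible module); the notes work over the complex numbers. Let x be a closed point of X and
π : X′ → X a blowing up of X in the ideal of x (characterised by its universal property), where X′
is again integral of dimension 2 with an ample invertible module and its structure morphism to Spec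
k is π followed by that of X, proper and smooth. Fix group laws on the Picard sets of X and X′ such
that pullback along π is multiplicative on classes, and let N¹(−)_ℝ = ℝ ⊗ (Pic modulo numerical
equivalence). If N¹(X)_ℝ is finite-dimensional, then N¹(X′)_ℝ is finite-dimensional and dim_ℝ
N¹(X′)_ℝ = dim_ℝ N¹(X)_ℝ + 1: the Picard number goes up by one, N¹(X′) being the direct sum of the
pullback of N¹(X) and the class of the exceptional curve. -/
theorem result (k : Type u) [Field k] [IsAlgClosed k] [CharZero k]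
    (X : Scheme.{u}) [X.Over (Spec (CommRingCat.of k))] [IsProper (X ↘ (Spec (CommRingCat.of k)))]
    [Smooth (X ↘ (Spec (CommRingCat.of k)))] [AlgebraicGeometry.IsIntegral X] (hdim : topologicalKrullDim X = 2)
    (hproj : ∃ H : X.Modules, CohB1.IsAmple H)
    (x : X) (hx : IsClosed ({x} : Set X))
    (X' : Scheme.{u}) [X'.Over (Spec (CommRingCat.of k))] (π : X' ⟶ X)
    (hover : X' ↘ (Spec (CommRingCat.of k)) = π ≫ (X ↘ (Spec (CommRingCat.of k))))
    (hπ : BlowUp.IsBlowUp π (Scheme.IdealSheafData.vanishingIdeal ⟨{x}, hx⟩))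
    [AlgebraicGeometry.IsIntegral X'] (hdim' : topologicalKrullDim X' = 2) (hproj' : ∃ H' : X'.Modules, CohB1.IsAmple H')
    [IsProper (X' ↘ (Spec (CommRingCat.of k)))] [Smooth (X' ↘ (Spec (CommRingCat.of k)))]
    [PicGrp.Law X] [PicGrp.Law X'] (hπm : PicGrp.PullMul π) [Module.Finite ℝ (NumR.N1R k X)] :
    Module.Finite ℝ (NumR.N1R k X') ∧
      Module.finrank ℝ (NumR.N1R k X') = Module.finrank ℝ (NumR.N1R k X) + 1 := by
  haveI := EulerIneqLib.isNoetherian_proper (X := X) k
  haveI := EulerIneqLib.isNoetherian_proper (X := X') k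
  have hreg : ∀ y : X, IsRegularLocalRing (X.presheaf.stalk y) := fun y =>
    ASp.isRegularLocalRing_stalk_of_smooth_field (X ↘ Spec (CommRingCat.of k)) y
  have hd : ringKrullDim (X.presheaf.stalk x) = 2 := by
    rw [BoundaryConn.ringKrullDim_stalk_closed (X ↘ Spec (CommRingCat.of k)) x hx, hdim]
  have hb : BlowUp.IsBlowUp π (pointIdeal hx) := hπ
  haveI := PointBlow.isProper hb
  obtain ⟨P⟩ := exists_pointParams hx (hreg x) hd
  haveI := isIntegral_E hb P
  haveI : Surjective π := ⟨surjective_blowUp hb (hreg x) hd⟩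
  have hπk : π ≫ (X ↘ Spec (CommRingCat.of k)) = X' ↘ Spec (CommRingCat.of k) := hover.symm
  have hI : PicF.IsInvertible (ClSub.idealMod (BlowUp.exceptional π (pointIdeal hx))) := (S8914.result _).2 hb.1
  have hE : topologicalKrullDim (E π hx) = 1 := by
    obtain ⟨κ, _, e, -⟩ := exists_P1 hb P
    rw [← dim_P1 (k := κ)]
    exact ((TopCat.homeoOfIso (Scheme.forgetToTop.mapIso e)).isHomeomorph.topologicalKrullDim_eq _).symm
  have hd1 : topologicalKrullDim (E π hx) = ((1 : ℕ) : WithBot ℕ∞) := hE.trans Nat.cast_one.symm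
  obtain ⟨q⟩ := nonempty_quotMod_ker_iso (jE π hx)
  rw [Scheme.IdealSheafData.ker_subschemeι] at q
  let dE := curveHom k (jE π hx) hE
  have hdE : ∀ {L : X'.Modules} (hL : PicF.IsInvertible L), dE (Additive.ofMul (PicGrp.cls L hL)) =
      - Nakai.form k (Nakai.cl hI) (Nakai.cl hL) := fun {L} hL => by
    rw [curveHom_cls, Nakai.curveDeg_eq k hL (jE π hx) hd1, ← IntLib.pairing_iso k q, pairing_quotMod_cl k hI]
  have hdψ : ∀ a, dE (Additive.ofMul (PicGrp.pullHom π hπm a)) = 0 := fun a => by
    obtain ⟨L, hL, rfl⟩ := PicGrp.exists_eq_cls a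
    rw [show PicGrp.pullHom π hπm (PicGrp.cls L hL) = PicGrp.cls _ (AmpleLib.isInvertible_pullback π hL) from
      Subtype.ext rfl, hdE, Nakai.form_comm, intNum_pullback_exceptional hb k P hπk (by exact_mod_cast hdim.le)
        (by exact_mod_cast hdim'.le) hI hL, neg_zero]
  have hde : dE (Additive.ofMul (PicGrp.cls _ hI)) = 1 := by
    rw [hdE, form_exceptional_closed hb k P hπk hI]
    rfl
  have hπO : Nonempty ((Scheme.Modules.pullback π).obj (Coh.structureModule X) ≅ Coh.structureModule X') :=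
    IntLib.mk_eq_mk.1 (by rw [← IntLib.pullCls_mk, IntLib.mk_structureModule, IntLib.mk_structureModule, map_one])
  let KX := PicGrp.subCl (Y := X) (Pic13.IsNumEquivZero k X)
  let KX' := PicGrp.subCl (Y := X') (Pic13.IsNumEquivZero k X')
  have hmap : KX ≤ KX'.comap (PicGrp.pullHom π hπm) := (Subgroup.closure_le _).2 fun c hc => by
    obtain ⟨L, hL, h, rfl⟩ := hc
    show PicGrp.pullHom π hπm _ ∈ KX'
    rw [show PicGrp.pullHom π hπm (PicGrp.cls L hL) = PicGrp.cls _ (AmpleLib.isInvertible_pullback π hL) from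
      Subtype.ext rfl]
    refine PicGrp.cls_mem_subCl _ fun Y ι _ hYi hY => ?_
    rw [NumPullLib.curveDeg_pullback_eq k π hπk L (Coh.structureModule X) hL ParaFLib.isInvertible_structureModule
      (fun Y ι _ hYi hY => (h Y ι hYi hY).trans (NumBdd.numTriv_unit k Y ι hYi hY).symm) Y ι hYi hY]
    exact NumBdd.numTriv_congr k ParaFLib.isInvertible_structureModule
      (AmpleLib.isInvertible_pullback π ParaFLib.isInvertible_structureModule)
      hπO.some.symm (NumBdd.numTriv_unit k) Y ι hYi hY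
  let ψ : NumR.N1 k X →+ NumR.N1 k X' := MonoidHom.toAdditive (QuotientGroup.map KX KX' (PicGrp.pullHom π hπm) hmap)
  let G : NumR.N1 k X × ℤ →+ NumR.N1 k X' :=
    AddMonoidHom.coprod ψ (zmultiplesHom _ (NumR.toN1 k X' (Additive.ofMul (PicGrp.cls _ hI))))
  have hG : ∀ (a : PicLoc.PicSet X) (n : ℤ), G (NumR.toN1 k X (Additive.ofMul a), n) =
      NumR.toN1 k X' (Additive.ofMul (PicGrp.pullHom π hπm a * PicGrp.cls _ hI ^ n)) := fun a n => by
    rw [ofMul_mul, ofMul_zpow, map_add, map_zsmul]
    rfl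
  have hGb : Function.Bijective G := by
    constructor
    · rw [injective_iff_map_eq_zero]
      rintro ⟨y, n⟩ h
      obtain ⟨L, hL, rfl⟩ := NumR.exists_eq_cl y
      rw [← NumR.toN1_ofMul_cls, hG] at h
      have hmem : PicGrp.pullHom π hπm (PicGrp.cls L hL) * PicGrp.cls _ hI ^ n ∈ KX' :=
        (QuotientGroup.eq_one_iff _).1 h
      have hz := curveHom_subCl k (jE π hx) inferInstance hE hmem
      rw [ofMul_mul, ofMul_zpow, map_add, map_zsmul] at hz
      change dE _ + n • dE _ = 0 at hz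
      rw [hdψ, hde, zero_add, smul_eq_mul, mul_one] at hz
      subst hz
      rw [zpow_zero, mul_one] at hmem
      have hnum : Pic13.IsNumEquivZero k X L := fun Y ι _ hYi hY => by
        rw [NumPullLib.curveDeg_eq_of_surjective k π hπk L (Coh.structureModule X) hL
          ParaFLib.isInvertible_structureModule (fun Y ι _ hYi hY => ?_) Y ι hYi hY]
        · exact NumBdd.numTriv_unit k Y ι hYi hY
        · refine Eq.trans ?_ (NumBdd.numTriv_congr k ParaFLib.isInvertible_structureModule
            (AmpleLib.isInvertible_pullback π ParaFLib.isInvertible_structureModule)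
            hπO.some.symm (NumBdd.numTriv_unit k) Y ι hYi hY).symm
          rw [← curveHom_cls k ι hY (AmpleLib.isInvertible_pullback π hL)]
          exact curveHom_subCl k ι hYi hY hmem
      rw [NumR.cl_eq_zero hL hnum]
      rfl
    · intro z
      obtain ⟨M, hM, rfl⟩ := NumR.exists_eq_cl z
      obtain ⟨a, n, e⟩ := pic_step hx (hreg x) hd π hb hI hπm (PicGrp.cls M hM)
      exact ⟨(NumR.toN1 k X (Additive.ofMul a), n), by rw [hG, ← e]; rfl⟩
  let Λ : (NumR.N1 k X × ℤ) ≃ₗ[ℤ] NumR.N1 k X' := (AddEquiv.ofBijective G hGb).toIntLinearEquiv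
  let E' : (NumR.N1R k X × ℝ) ≃ₗ[ℝ] NumR.N1R k X' :=
    ((LinearEquiv.refl ℝ (NumR.N1R k X)).prodCongr (TensorProduct.AlgebraTensorModule.rid ℤ ℝ ℝ).symm) ≪≫ₗ
      (TensorProduct.prodRight ℤ ℝ ℝ (NumR.N1 k X) ℤ).symm ≪≫ₗ Λ.baseChange ℤ ℝ
  refine ⟨Module.Finite.equiv E', ?_⟩
  rw [← E'.finrank_eq, Module.finrank_prod, Module.finrank_self]

end Groth.Agent.S19737
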