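import Groth.Statements.S19738
import Groth.Agent.PsefPointLib.Basic

set_option autoImplicit false
universe u
open CategoryTheory CategoryTheory.Limits AlgebraicGeometry
open Variety

namespace Groth.Agent.S19738

/-- Let X be a normal, geometrically integral scheme, proper over a field k and admitting an ample
invertible module (a normal geometrically integral projective variety over k). Fix a group law on
the Picard set of X and let N¹(X)_ℝ = ℝ ⊗ (Pic X modulo numerical equivalence) with its topology as
a real vector space, assumed finite-dimensional (the Néron–Severi group is taken finitely generated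
in the text). Let Psef(X) ⊆ N¹(X)_ℝ be the pseudo-effective cone, the closure of the convex cone
spanned by the classes of invertible modules having a nonzero global section. Then Psef(X) has a
compact basis: for every δ ∈ Psef(X) the set {δ′ ∈ Psef(X) : δ − δ′ ∈ Psef(X)} is compact. -/
theorem result (k : Type u) [Field k] (X : Scheme.{u})
    [X.Over (Spec (CommRingCat.of k))] [AlgebraicGeometry.IsIntegral X] [GeometricallyIntegral (X ↘ Spec (CommRingCat.of k))]
    [IsProper (X ↘ Spec (CommRingCat.of k))] (hnorm : Pi1.IsNormalScheme X) (hproj : ∃ A : X.Modules, CohB1.IsAmple A)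
    [PicGrp.Law X] [Module.Finite ℝ (NumR.N1R k X)]
    (δ : NumR.N1R k X) (hδ : δ ∈ NumR.psefCone k X) :
    IsCompact {δ' : NumR.N1R k X | δ' ∈ NumR.psefCone k X ∧ δ - δ' ∈ NumR.psefCone k X} := by
  haveI := Groth.Agent.EulerIneqLib.isNoetherian_proper (X := X) k
  obtain ⟨A, hA⟩ := hproj
  let b := Module.finBasis ℝ (NumR.N1R k X)
  have he : Continuous b.equivFun := IsModuleTopology.continuous_of_linearMap (R := ℝ) b.equivFun.toLinearMap
  have he' : Continuous b.equivFun.symm := by
    exact LinearMap.continuous_on_pi b.equivFun.symm.toLinearMap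
  have hsm : ∀ t : ℝ, 0 < t → ∀ x ∈ NumR.psefCone k X, t • x ∈ NumR.psefCone k X := fun t ht x hx =>
    (continuous_const_smul t).closure_preimage_subset _
      (closure_mono (fun y hy => (NumR.effCone k X).smul_mem ht hy) hx)
  have hcomp := Groth.Agent.PsefPointLib.isCompact_interval
    (C := b.equivFun.symm ⁻¹' NumR.psefCone k X) (isClosed_closure.preimage he')
    (fun t ht x hx => by
      show b.equivFun.symm (t • x) ∈ NumR.psefCone k X
      rw [map_smul]
      exact hsm t ht _ hx)
    (fun x hx hx' => by
      have hn : -b.equivFun.symm x ∈ NumR.psefCone k X := by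
        rw [← map_neg]; exact hx'
      exact b.equivFun.symm.injective
        ((Groth.Agent.PsefPointLib.pointed k hA hx hn).trans (map_zero _).symm))
    (b.equivFun δ)
  have h := hcomp.image he'
  have hset : {δ' : NumR.N1R k X | δ' ∈ NumR.psefCone k X ∧ δ - δ' ∈ NumR.psefCone k X} = b.equivFun.symm ''
      {y | y ∈ b.equivFun.symm ⁻¹' NumR.psefCone k X ∧ b.equivFun δ - y ∈ b.equivFun.symm ⁻¹' NumR.psefCone k X} := by
    ext z
    constructor
    · rintro ⟨h1, h2⟩
      refine ⟨b.equivFun z, ⟨?_, ?_⟩, b.equivFun.symm_apply_apply z⟩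
      · show b.equivFun.symm (b.equivFun z) ∈ NumR.psefCone k X
        rwa [LinearEquiv.symm_apply_apply]
      · show b.equivFun.symm (b.equivFun δ - b.equivFun z) ∈ NumR.psefCone k X
        rwa [← map_sub, LinearEquiv.symm_apply_apply]
    · rintro ⟨y, ⟨h1, h2⟩, rfl⟩
      refine ⟨h1, ?_⟩
      have h2' : b.equivFun.symm (b.equivFun δ - y) ∈ NumR.psefCone k X := h2
      rwa [map_sub, LinearEquiv.symm_apply_apply] at h2'
  rw [hset]
  exact h

end Groth.Agent.S19738
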