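import Groth.Statements.S1974
import Mathlib
import Groth.Agent.WLocalLib.Olivier

set_option autoImplicit false
universe u
open EtAlg

namespace Groth.Agent.S1974

/-- Let A -> B be weakly etale and q a prime of B lying over the prime p of A. Then the residue field of
q is a separable algebraic extension of the residue field of p. -/
theorem result (A B : Type u) [CommRing A] [CommRing B] [Algebra A B]
    [Algebra.WeaklyEtale A B] (p : Ideal A) [p.IsPrime] (q : Ideal B) [q.IsPrime] [q.LiesOver p]
    [Algebra (Localization.AtPrime p) (Localization.AtPrime q)] [Localization.AtPrime.IsLiesOverAlgebra p q] :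
    Algebra.IsSeparable p.ResidueField q.ResidueField := by
  letI : Algebra A q.ResidueField := inferInstance
  let ψ : TensorProduct A p.ResidueField B →ₐ[p.ResidueField] q.ResidueField :=
    Algebra.TensorProduct.lift (Algebra.ofId p.ResidueField q.ResidueField)
      (IsScalarTower.toAlgHom A B q.ResidueField) fun _ _ => Commute.all _ _
  have hψ : ∀ b : B, ψ ((1 : p.ResidueField) ⊗ₜ[A] b) = algebraMap B q.ResidueField b := fun b => by simp [ψ]
  let Q := RingHom.ker ψ.toRingHom
  haveI : Q.IsPrime := RingHom.ker_isPrime _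
  let L := Localization.AtPrime Q
  haveI : Algebra.WeaklyEtale (TensorProduct A p.ResidueField B) L :=
    Groth.Agent.WLocalLib.weaklyEtale_of_isLocalization Q.primeCompl
  haveI : Algebra.WeaklyEtale p.ResidueField L :=
    Algebra.WeaklyEtale.trans p.ResidueField (TensorProduct A p.ResidueField B) L
  letI : Field L := (Groth.Agent.WLocalLib.isField_of_weaklyEtale_field (k := p.ResidueField) (C := L)).toField
  haveI : Algebra.IsSeparable p.ResidueField L := ⟨Groth.Agent.S0426Aux.isSeparable⟩
  have hu : ∀ y : Q.primeCompl, IsUnit (ψ y) := fun y => IsUnit.mk0 _ fun h => y.2 h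
  let φ : L →ₐ[p.ResidueField] q.ResidueField := IsLocalization.liftAlgHom (M := Q.primeCompl) hu
  have hφ : ∀ b : B, φ (algebraMap _ L ((1 : p.ResidueField) ⊗ₜ[A] b)) = algebraMap B q.ResidueField b := fun b => by
    simp [φ, hψ]
  refine AlgEquiv.Algebra.isSeparable (AlgEquiv.ofBijective φ ⟨φ.toRingHom.injective, fun x => ?_⟩)
  obtain ⟨a, s, -, rfl⟩ := IsFractionRing.div_surjective (B ⧸ q) x
  obtain ⟨a, rfl⟩ := Ideal.Quotient.mk_surjective a
  obtain ⟨s, rfl⟩ := Ideal.Quotient.mk_surjective s
  refine ⟨algebraMap _ L ((1 : p.ResidueField) ⊗ₜ[A] a) / algebraMap _ L ((1 : p.ResidueField) ⊗ₜ[A] s), ?_⟩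
  rw [map_div₀, hφ, hφ]
  rfl

end Groth.Agent.S1974
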