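import Groth.Statements.S19741
import Mathlib

set_option autoImplicit false
universe w u
open EssDim

namespace Groth.Agent.S19741

open CategoryTheory AlgebraicGeometry Opposite EssDim
set_option backward.isDefEq.respectTransparency false
set_option maxHeartbeats 800000

lemma trdeg_compositum {k K L : Type u} [Field k] [Field K] [Field L] [Algebra k K] [Algebra K L] [Algebra k L]
    [IsScalarTower k K L] (F : IntermediateField k L) :
    Algebra.trdeg K (IntermediateField.adjoin K (F : Set L)) ≤ Algebra.trdeg k F := by
  obtain ⟨s, hs⟩ := exists_isTranscendenceBasis k F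
  set E := IntermediateField.adjoin K (F : Set L)
  let j : F →ₐ[k] E :=
    { toFun := fun x => ⟨x.1, IntermediateField.subset_adjoin K _ x.2⟩
      map_one' := rfl, map_mul' := fun _ _ => rfl, map_zero' := rfl, map_add' := fun _ _ => rfl
      commutes' := fun c => Subtype.ext rfl }
  let A' : IntermediateField K E := IntermediateField.adjoin K (j '' s)
  have halg := hs.isAlgebraic_field
  rw [Subtype.range_coe] at halg
  have hle : IntermediateField.adjoin k s ≤ (A'.restrictScalars k).comap j := by
    rw [IntermediateField.adjoin_le_iff]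
    exact fun x hx => IntermediateField.subset_adjoin K _ ⟨x, hx, rfl⟩
  let f : (IntermediateField.adjoin k s) →+* A' :=
    { toFun := fun x => ⟨j x.1, hle x.2⟩
      map_one' := Subtype.ext (map_one j), map_mul' := fun _ _ => Subtype.ext (map_mul j _ _)
      map_zero' := Subtype.ext (map_zero j), map_add' := fun _ _ => Subtype.ext (map_add j _ _) }
  have hF : ∀ x : F, IsAlgebraic A' (j x) := fun x =>
    (halg.isAlgebraic x).ringHom_of_comp_eq f j.toRingHom f.injective rfl
  have htop : Algebra.IsAlgebraic A' E := by
    refine ⟨fun y => ?_⟩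
    have key : ∀ (z : L) (hz : z ∈ E), IsAlgebraic A' (⟨z, hz⟩ : E) := by
      intro z hz
      induction hz using IntermediateField.adjoin_induction with
      | mem x hx => exact hF ⟨x, hx⟩
      | algebraMap c => exact isAlgebraic_algebraMap (algebraMap K A' c)
      | add x y hx hy hx' hy' => exact hx'.add hy'
      | inv x hx hx' => exact hx'.inv
      | mul x y hx hy hx' hy' => exact hx'.mul hy'
    exact key y.1 y.2
  haveI := IntermediateField.isAlgebraic_adjoin_iff_top.1 htop
  calc Algebra.trdeg K E ≤ Cardinal.mk (j '' s) := Algebra.IsAlgebraic.trdeg_le_cardinalMk K (j '' s)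
    _ ≤ Cardinal.mk s := Cardinal.mk_image_le
    _ = Algebra.trdeg k F := hs.cardinalMk_eq_trdeg

open CategoryTheory AlgebraicGeometry in
/-- For a field extension `K` of `k` and a presheaf of sets `P` on schemes over `k`, restrict `P` to
schemes over `K` by viewing a scheme over `Spec K` as a scheme over `Spec k`; then the essential
dimension over `K` of the restricted presheaf is at most the essential dimension of `P` over `k`.
(The source states this for an algebraic stack over `k` and its base change to `K`, through the
presheaf of isomorphism classes of objects, whose restriction to schemes over `K` is the presheaf of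
classes of the base-changed stack; the inequality is stated here for an arbitrary presheaf, which is
what the argument with composita of fields of definition gives.) -/
theorem result (k : Type u) [Field k] (K : Type u) [Field K] [Algebra k K]
    (P : (Over (Spec (CommRingCat.of k)))ᵒᵖ ⥤ Type w) :
    EssDim.ed (k := K) ((Over.map (Spec.map (CommRingCat.ofHom (algebraMap k K)))).op ⋙ P) ≤ EssDim.ed P := by
  refine iSup_le fun L => iSup_le fun _ => iSup_le fun _ => iSup_le fun ξ => ?_
  letI : Algebra k L := ((algebraMap K L).comp (algebraMap k K)).toAlgebra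
  haveI : IsScalarTower k K L := IsScalarTower.of_algebraMap_eq fun _ => rfl
  let G := Over.map (Spec.map (CommRingCat.ofHom (algebraMap k K)))
  have w : ∀ (M : Type u) [Field M] [Algebra K M] [Algebra k M] [IsScalarTower k K M],
      (G.obj (SGA7.pt (K := K) M)).hom = (SGA7.pt (K := k) M).hom := fun M _ _ _ _ => by
    change Spec.map _ ≫ Spec.map _ = Spec.map _
    rw [← Spec.map_comp, ← CommRingCat.ofHom_comp, ← IsScalarTower.algebraMap_eq]
  let φ : ∀ (M : Type u) [Field M] [Algebra K M] [Algebra k M] [IsScalarTower k K M],
      SGA7.pt (K := k) M ≅ G.obj (SGA7.pt (K := K) M) := fun M _ _ _ _ =>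
    Over.isoMk (Iso.refl _) (by rw [w]; exact Category.id_comp _)
  let η : FPt P L := P.map (φ L).hom.op ξ
  refine le_trans (WithBot.coe_le_coe.2 ?_) (edAt_le_ed η)
  refine le_iInf fun ⟨F, hF⟩ => ?_
  obtain ⟨η₀, hη⟩ := hF
  let E : IntermediateField K L := IntermediateField.adjoin K (F : Set L)
  let j : F →ₐ[k] E :=
    { toFun := fun x => ⟨x.1, IntermediateField.subset_adjoin K _ x.2⟩
      map_one' := rfl, map_mul' := fun _ _ => rfl, map_zero' := rfl, map_add' := fun _ _ => rfl
      commutes' := fun c => Subtype.ext rfl }
  refine le_trans (edAt_le_of_descends (K := E) ⟨P.map (φ E).inv.op (P.map (resPt j).op η₀), ?_⟩)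
    (Cardinal.toENat.monotone' (trdeg_compositum F))
  change (P.map (resPt j).op ≫ P.map (φ E).inv.op ≫ P.map (G.map (resPt E.val)).op) η₀ = ξ
  have h1 : (φ L).inv ≫ (resPt F.val) = G.map (resPt E.val) ≫ (φ E).inv ≫ resPt j := by
    ext : 1
    change 𝟙 _ ≫ Spec.map _ = Spec.map _ ≫ 𝟙 _ ≫ Spec.map _
    rw [Category.id_comp, Category.id_comp, ← Spec.map_comp]
    rfl
  rw [← P.map_comp, ← P.map_comp, ← op_comp, ← op_comp, Category.assoc, ← h1, op_comp, P.map_comp]
  change P.map (φ L).inv.op (P.map (resPt F.val).op η₀) = ξ
  rw [show P.map (resPt F.val).op η₀ = η from hη]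
  change (P.map (φ L).hom.op ≫ P.map (φ L).inv.op) ξ = ξ
  rw [← P.map_comp, ← op_comp, Iso.inv_hom_id, op_id, P.map_id]
  rfl

end Groth.Agent.S19741
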