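import Groth.Statements.S19744
import Groth.Agent.QuotEdLib.Main
-- import your own Groth.Agent.* helpers here

set_option autoImplicit false
set_option backward.isDefEq.respectTransparency false
set_option backward.isDefEq.respectTransparency.types false
set_option maxHeartbeats 800000
universe u
open EssDim

namespace Groth.Agent.S19744

open CategoryTheory AlgebraicGeometry in
/-- Let `G` be an affine group scheme of finite type over a field `k` acting on a scheme `X` locally of
finite type over `k`. Then the essential dimension over `k` of the quotient stack `[X/G]` (torsors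
for the fppf topology with an equivariant morphism to `X`) is at most the essential dimension of the
classifying stack of `G` plus the dimension of `X`. (The source writes this as `ed G ≥ ed [X/G] -
dim X`, for any algebraic group `G` over `k`, and allows `X` to be an algebraic space; here `G` is
affine, so that the essential dimension of `G` is that of the stack of its torsors which are
schemes, `X` is a scheme, the inequality is written additively, and the dimension is the Krull
dimension of the underlying space of `X`, minus infinity for empty `X`.) -/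
theorem result (k : Type u) [Field k]
    (G X : Over (Spec (CommRingCat.of k))) [GrpObj G] [IsAffineHom G.hom] [LocallyOfFiniteType G.hom]
    (aX : AlgGrp.Action G X) [LocallyOfFiniteType X.hom]
    [FibCat.IsFibGrpd (AlgSt.QuotSt Scheme.fppfPrecoverage G aX).p]
    [FibCat.IsFibGrpd (AlgSt.BG Scheme.fppfPrecoverage G).p] :
    EssDim.edSt (AlgSt.QuotSt Scheme.fppfPrecoverage G aX) ≤
      EssDim.edSt (AlgSt.BG Scheme.fppfPrecoverage G) + (topologicalKrullDim (X.left : Type u) : WithBot ℕ∞) := by
  refine iSup_le fun L => iSup_le fun _ => iSup_le fun _ => iSup_le fun ξ => ?_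
  induction ξ using Quot.ind with
  | mk x =>
  obtain ⟨⟨B, P, a, π, c, hl, φ, heqv⟩, hB⟩ := x
  change B = SGA7.pt (K := k) L at hB
  subst hB
  let A : AlgSt.QuotObj Scheme.fppfPrecoverage G aX :=
    { base := SGA7.pt (K := k) L, P := P, act := a, π := π, cart := c, loc := hl, φ := φ, eqv := heqv }
  let y : StkCnt.pts (AlgSt.BG Scheme.fppfPrecoverage G) L :=
    ⟨{ base := SGA7.pt (K := k) L, P := P, act := a, π := π, cart := c, loc := hl
       φ := CartesianMonoidalCategory.toUnit P, eqv := CartesianMonoidalCategory.toUnit_unique _ _ }, rfl⟩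
  obtain ⟨d, hd⟩ : ∃ d : ℕ∞, topologicalKrullDim (X.left : Type u) = d := by
    obtain ⟨E, _, _, _, _, -, p, -⟩ := Groth.Agent.QuotEdLib.exists_finite_point k L π hl
    obtain ⟨e⟩ : Nonempty ↥(SGA7.pt (K := k) E).left := inferInstanceAs (Nonempty (PrimeSpectrum E))
    haveI : Nonempty ↥X.left := ⟨(p ≫ φ).left e⟩
    haveI : Nonempty (TopologicalSpace.IrreducibleCloseds ↥X.left) :=
      ⟨⟨closure {(p ≫ φ).left e}, isIrreducible_singleton.closure, isClosed_closure⟩⟩
    exact ⟨_, (WithBot.coe_unbot _ (Order.bot_lt_krullDim (α := TopologicalSpace.IrreducibleCloseds ↥X.left)).ne').symm⟩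
  refine le_trans ?_ (add_le_add (EssDim.edAt_le_ed (P := Gerb.isoClPsh (AlgSt.BG Scheme.fppfPrecoverage G)) (L := L)
    (Quot.mk _ y)) le_rfl)
  rw [hd, ← WithBot.coe_add, WithBot.coe_le_coe]
  simp only [EssDim.edAt]
  haveI : Nonempty {K : IntermediateField k L //
      EssDim.Descends (Gerb.isoClPsh (AlgSt.BG Scheme.fppfPrecoverage G)) (Quot.mk _ y) K} :=
    ⟨⟨⊤, EssDim.descends_top _⟩⟩
  rw [ENat.iInf_add]
  refine le_iInf fun ⟨K, hK⟩ => ?_
  obtain ⟨⟨y₀, hy₀⟩, χ, hχ⟩ := (EssDim.descends_isoCl_iff (AlgSt.BG Scheme.fppfPrecoverage G) y K).1 hK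
  change y₀.base = SGA7.pt (K := k) K at hy₀
  have hb : χ.base = EssDim.resPt K.val ≫ eqToHom hy₀.symm := by
    have h1 : χ.base = eqToHom rfl ≫ EssDim.resPt K.val ≫ eqToHom hy₀.symm := IsHomLift.fac' (AlgSt.BG Scheme.fppfPrecoverage G).p (EssDim.resPt K.val) χ
    simpa using h1
  have hcart : IsPullback χ.top π (y₀.π ≫ eqToHom hy₀) (EssDim.resPt K.val) := by
    have h2 : IsPullback χ.top π y₀.π χ.base := χ.cart
    rw [hb] at h2
    exact h2.of_iso (Iso.refl _) (Iso.refl _) (Iso.refl _) (eqToIso hy₀) (by simp) (by simp) (by simp) (by simp)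
  obtain ⟨M, hM, hle⟩ := Groth.Agent.QuotEdLib.exists_descends aX P a π c hl φ heqv K y₀ hy₀ χ.top hcart χ.eqv
  refine le_trans (iInf_le _ ⟨M, hM⟩) (WithBot.coe_le_coe.1 ?_)
  rw [WithBot.coe_add, ← hd]
  exact hle

end Groth.Agent.S19744
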