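import Groth.Statements.S19745
import Groth.Agent.PtdP1Lib.Curve
-- import your own Groth.Agent.* helpers here

set_option autoImplicit false
set_option backward.isDefEq.respectTransparency false
set_option backward.isDefEq.respectTransparency.types false
universe u
open EssDim

namespace Groth.Agent.S19745

open CategoryTheory CategoryTheory.Limits AlgebraicGeometry Groth.Agent

/-- The standard pointed line over a field point. -/
noncomputable def stdFam (k K : Type u) [Field k] [Field K] [Algebra k K] (n : ℕ) (hn : n ≤ 2) :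
    (CurvSt.Mgn (Spec (CommRingCat.of k)) 0 n).obj :=
  ⟨{ base := SGA7.pt (K := k) K
     C := CohB1.ProjSpace 1 K
     f := CohB1.ProjSpace.toSpec 1 K
     sect := fun i => PtdP1Lib.stdPt (Fin.castLE hn i)
     sect_f := fun i => PtdP1Lib.stdPt_toSpec _ },
    PtdP1Lib.isCurveOfGenus_P1 K, fun i j hij c => PtdP1Lib.stdPt_ne (fun h => hij (Fin.castLE_injective _ h)) c⟩

theorem edSt_eq_zero (k : Type u) [Field k] (n : ℕ) (hn : n ≤ 2) (hn1 : 1 ≤ n)
    [FibCat.IsFibGrpd (CurvSt.Mgn (Spec (CommRingCat.of k)) 0 n).p] :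
    EssDim.edSt (CurvSt.Mgn (Spec (CommRingCat.of k)) 0 n) = 0 := by
  refine le_antisymm ?_ ?_
  · refine iSup_le fun L => iSup_le fun _ => iSup_le fun _ => iSup_le fun ξ => ?_
    induction ξ using Quot.ind with
    | mk x =>
    obtain ⟨⟨⟨b, C, f, σ, hσ⟩, hA⟩, h⟩ := x
    change b = SGA7.pt (K := k) L at h
    subst h
    obtain ⟨hC, hdisj⟩ := hA
    obtain ⟨e, he⟩ := PtdP1Lib.exists_iso_P1_of_curveOfGenus_zero (L := L) f hC (σ ⟨0, hn1⟩) (hσ ⟨0, hn1⟩)
    let K : IntermediateField k L := ⊥
    obtain ⟨g, hg, -⟩ := S4471.exists_bc 1 K L 0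
    let j := Spec.map (CommRingCat.ofHom (algebraMap K L))
    let t : Fin n → (Spec (CommRingCat.of L) ⟶ CohB1.ProjSpace 1 L) := fun i =>
      hg.lift (j ≫ PtdP1Lib.stdPt (Fin.castLE hn i)) (𝟙 _)
        (by rw [Category.assoc, PtdP1Lib.stdPt_toSpec, Category.comp_id, Category.id_comp])
    have ht : ∀ i, t i ≫ g = j ≫ PtdP1Lib.stdPt (Fin.castLE hn i) := fun i => hg.lift_fst _ _ _
    have ht' : Function.Injective t := by
      intro i i' h
      by_contra hne
      have h2 := (ht i).symm.trans ((congrArg (· ≫ g) h).trans (ht i'))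
      exact PtdP1Lib.stdPt_ne (fun h3 => hne (Fin.castLE_injective _ h3)) (j default)
        (by rw [← Scheme.Hom.comp_apply, ← Scheme.Hom.comp_apply, h2])
    have hs' : Function.Injective fun i => σ i ≫ e.hom := by
      intro i i' h
      by_contra hne
      have h2 : σ i = σ i' := (cancel_mono e.hom).1 h
      exact hdisj i i' hne (default : Spec (CommRingCat.of L)) (congrArg (fun m : Spec (CommRingCat.of L) ⟶ C => m (default : Spec (CommRingCat.of L))) h2)
    obtain ⟨a, ha, hat⟩ := PtdP1Lib.exists_aut_sections hn (fun i => σ i ≫ e.hom) t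
      (fun i => by rw [Category.assoc, he]; exact hσ i) (fun i => hg.lift_snd _ _ _) hs' ht'
    let A : CurvSt.PtFamObj (Spec (CommRingCat.of k)) n :=
      { base := SGA7.pt (K := k) L, C := C, f := f, sect := σ, sect_f := hσ }
    let φ : A ⟶ (stdFam k K n hn).obj :=
      { base := EssDim.resPt K.val
        top := (e ≪≫ a).hom ≫ g
        cart := by
          have h1 : IsPullback (e ≪≫ a).hom f (CohB1.ProjSpace.toSpec 1 L) (𝟙 _) :=
            IsPullback.of_horiz_isIso ⟨by rw [Category.comp_id, Iso.trans_hom, Category.assoc, ha, he]⟩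
          have h2 := h1.paste_horiz hg
          rw [Category.id_comp] at h2
          exact h2
        w_sect := fun i => by
          show σ i ≫ (e.hom ≫ a.hom) ≫ g = j ≫ PtdP1Lib.stdPt (Fin.castLE hn i)
          rw [← ht i, ← hat i, Category.assoc, Category.assoc, Category.assoc] }
    refine WithBot.coe_le_coe.2 ((EssDim.edAt_le_of_descends (K := K)
      ((EssDim.descends_isoCl_iff (CurvSt.Mgn (Spec (CommRingCat.of k)) 0 n)
        (L := L) ⟨⟨A, hC, hdisj⟩, rfl⟩ K).2 ⟨⟨stdFam k K n hn, rfl⟩, ObjectProperty.homMk φ,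
        (inferInstance : (CurvSt.Mgn (Spec (CommRingCat.of k)) 0 n).p.IsHomLift
          ((CurvSt.Mgn (Spec (CommRingCat.of k)) 0 n).p.map
            (ObjectProperty.homMk φ : (⟨A, hC, hdisj⟩ : (CurvSt.Mgn (Spec (CommRingCat.of k)) 0 n).obj) ⟶ stdFam k K n hn))
          _)⟩)).trans ?_)
    rw [trdeg_eq_zero, map_zero]
  · exact le_trans (WithBot.coe_le_coe.2 zero_le)
      (EssDim.edAt_le_ed (P := Gerb.isoClPsh (CurvSt.Mgn (Spec (CommRingCat.of k)) 0 n)) (L := k)
        (Quot.mk _ ⟨stdFam k k n hn, rfl⟩))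

open CategoryTheory AlgebraicGeometry in
/-- Over a field `k` of characteristic zero, the stack of smooth genus-`0` curves with one marked point
and the stack of smooth genus-`0` curves with two (distinct) marked points both have essential
dimension `0`: they have objects over some field, and every smooth proper geometrically irreducible
curve of genus `0` over a field `L ⊇ k` with one or two rational points descends, with its points,
to a subfield of `L` algebraic over `k`. -/
theorem result (k : Type u) [Field k] [CharZero k]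
    [FibCat.IsFibGrpd (CurvSt.Mgn (Spec (CommRingCat.of k)) 0 1).p]
    [FibCat.IsFibGrpd (CurvSt.Mgn (Spec (CommRingCat.of k)) 0 2).p] :
    EssDim.edSt (CurvSt.Mgn (Spec (CommRingCat.of k)) 0 1) = 0 ∧
      EssDim.edSt (CurvSt.Mgn (Spec (CommRingCat.of k)) 0 2) = 0 := by
  exact ⟨edSt_eq_zero k 1 (by norm_num) le_rfl, edSt_eq_zero k 2 le_rfl (by norm_num)⟩

end Groth.Agent.S19745
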