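import Groth.Statements.S19746
import Groth.Agent.ConicEdLib.Conic
-- import your own Groth.Agent.* helpers here

set_option autoImplicit false
set_option backward.isDefEq.respectTransparency false
set_option backward.isDefEq.respectTransparency.types false
universe u
open EssDim

namespace Groth.Agent.S19746

open CategoryTheory CategoryTheory.Limits AlgebraicGeometry Groth.Agent ConicEdLib

/-- The conic as an unpointed family over a field point. -/
noncomputable def conicFam (k K : Type u) [Field k] [Field K] [Algebra k K] (a b : K) (ha : a ≠ 0) (hb : b ≠ 0)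
    (h2 : (2 : K) ≠ 0) : (CurvSt.Mgn (Spec (CommRingCat.of k)) 0 0).obj :=
  ⟨{ base := SGA7.pt (K := k) K
     C := (LefPen.hypIdeal (conic a b)).subscheme
     f := (LefPen.hypIdeal (conic a b)).subschemeι ≫ CohB1.ProjSpace.toSpec 2 K
     sect := fun i => i.elim0
     sect_f := fun i => i.elim0 },
    isCurveOfGenus_conic ha hb h2, fun i _ _ _ => i.elim0⟩

theorem trdeg_adjoin_pair (k L : Type u) [Field k] [Field L] [Algebra k L] (a b : L) :
    Cardinal.toENat (Algebra.trdeg k (IntermediateField.adjoin k ({a, b} : Set L))) ≤ ((2 : ℕ) : ℕ∞) := by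
  set E := IntermediateField.adjoin k ({a, b} : Set L)
  let a' : E := ⟨a, IntermediateField.subset_adjoin _ _ (Set.mem_insert _ _)⟩
  let b' : E := ⟨b, IntermediateField.subset_adjoin _ _ (Set.mem_insert_of_mem _ rfl)⟩
  let A' : IntermediateField k E := IntermediateField.adjoin k ({a', b'} : Set E)
  have key : ∀ (z : L) (hz : z ∈ E), (⟨z, hz⟩ : E) ∈ A' := by
    intro z hz
    induction hz using IntermediateField.adjoin_induction with
    | mem x hx =>
      rcases hx with rfl | rfl
      · exact IntermediateField.subset_adjoin _ _ (Set.mem_insert _ _)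
      · exact IntermediateField.subset_adjoin _ _ (Set.mem_insert_of_mem _ rfl)
    | algebraMap c => exact A'.algebraMap_mem c
    | add x y hx hy hx' hy' => exact A'.add_mem hx' hy'
    | inv x hx hx' => exact A'.inv_mem hx'
    | mul x y hx hy hx' hy' => exact A'.mul_mem hx' hy'
  haveI : Algebra.IsAlgebraic A' E := ⟨fun y => isAlgebraic_algebraMap (⟨y, key y.1 y.2⟩ : A')⟩
  haveI := IntermediateField.isAlgebraic_adjoin_iff_top.1 ‹Algebra.IsAlgebraic A' E›
  have h := Algebra.IsAlgebraic.trdeg_le_cardinalMk k ({a', b'} : Set E)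
  refine le_trans (OrderHomClass.mono Cardinal.toENat h) ?_
  rw [Cardinal.toENat_le_nat]
  exact (Cardinal.mk_insert_le).trans (by rw [Cardinal.mk_singleton]; norm_num)

open CategoryTheory AlgebraicGeometry in
/-- Over a field `k` of characteristic zero the stack of smooth curves of genus `0` (no marked points)
has an object over some field, and its essential dimension over `k` is at most `2`: every smooth
proper geometrically irreducible curve of genus `0` over a field `L ⊇ k` is obtained by base change
from a curve over a subfield of `L` of transcendence degree at most `2` over `k`. (The source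
asserts that this essential dimension equals `2`; the reverse inequality is only indicated there,
and this row states non-emptiness and the upper bound.) -/
theorem result (k : Type u) [Field k] [CharZero k]
    [FibCat.IsFibGrpd (CurvSt.Mgn (Spec (CommRingCat.of k)) 0 0).p] :
    EssDim.edSt (CurvSt.Mgn (Spec (CommRingCat.of k)) 0 0) ≠ ⊥ ∧
      EssDim.edSt (CurvSt.Mgn (Spec (CommRingCat.of k)) 0 0) ≤ ((2 : ℕ) : WithBot ℕ∞) := by
  refine ⟨?_, ?_⟩
  · intro h
    have h1 := EssDim.edAt_le_ed (P := Gerb.isoClPsh (CurvSt.Mgn (Spec (CommRingCat.of k)) 0 0)) (L := k)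
      (Quot.mk _ ⟨conicFam k k 1 1 one_ne_zero one_ne_zero two_ne_zero, rfl⟩)
    change _ ≤ EssDim.edSt (CurvSt.Mgn (Spec (CommRingCat.of k)) 0 0) at h1
    rw [h] at h1
    exact absurd h1 (not_le.2 (WithBot.bot_lt_coe _))
  refine iSup_le fun L => iSup_le fun _ => iSup_le fun _ => iSup_le fun ξ => ?_
  induction ξ using Quot.ind with
  | mk x =>
  obtain ⟨⟨⟨B, C, f, σ, hσ⟩, hA⟩, h⟩ := x
  change B = SGA7.pt (K := k) L at h
  subst h
  obtain ⟨hC, hdisj⟩ := hA
  haveI : CharZero L := charZero_of_injective_algebraMap (algebraMap k L).injective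
  obtain ⟨a, b, e, ha, hb, he⟩ := exists_iso_conic (F := L) f hC
  let K : IntermediateField k L := IntermediateField.adjoin k ({a, b} : Set L)
  let a' : K := ⟨a, IntermediateField.subset_adjoin _ _ (Set.mem_insert _ _)⟩
  let b' : K := ⟨b, IntermediateField.subset_adjoin _ _ (Set.mem_insert_of_mem _ rfl)⟩
  have ha' : a' ≠ 0 := fun h => ha (congrArg Subtype.val h)
  have hb' : b' ≠ 0 := fun h => hb (congrArg Subtype.val h)
  obtain ⟨q, hq⟩ := exists_isPullback_conic (algebraMap K L) a' b'
  let A : CurvSt.PtFamObj (Spec (CommRingCat.of k)) 0 :=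
    { base := SGA7.pt (K := k) L, C := C, f := f, sect := σ, sect_f := hσ }
  let φ : A ⟶ (conicFam k K a' b' ha' hb' two_ne_zero).obj :=
    { base := EssDim.resPt K.val
      top := e.hom ≫ q
      cart := by
        have h1 : IsPullback e.hom f ((LefPen.hypIdeal (conic a b)).subschemeι ≫ CohB1.ProjSpace.toSpec 2 L) (𝟙 _) :=
          IsPullback.of_horiz_isIso ⟨by rw [Category.comp_id]; exact he⟩
        have h2 := h1.paste_horiz hq
        rw [Category.id_comp] at h2
        exact h2
      w_sect := fun i => i.elim0 }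
  refine WithBot.coe_le_coe.2 ((EssDim.edAt_le_of_descends (K := K)
    ((EssDim.descends_isoCl_iff (CurvSt.Mgn (Spec (CommRingCat.of k)) 0 0)
      (L := L) ⟨⟨A, hC, hdisj⟩, rfl⟩ K).2 ⟨⟨conicFam k K a' b' ha' hb' two_ne_zero, rfl⟩, ObjectProperty.homMk φ,
      (inferInstance : (CurvSt.Mgn (Spec (CommRingCat.of k)) 0 0).p.IsHomLift
        ((CurvSt.Mgn (Spec (CommRingCat.of k)) 0 0).p.map
          (ObjectProperty.homMk φ : (⟨A, hC, hdisj⟩ : (CurvSt.Mgn (Spec (CommRingCat.of k)) 0 0).obj) ⟶
            conicFam k K a' b' ha' hb' two_ne_zero))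
        _)⟩)).trans ?_)
  exact trdeg_adjoin_pair k L a b

end Groth.Agent.S19746
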