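import Mathlib
import Groth.Agent.GrSegreLib.Finite
import Groth.Statements.S19748

set_option autoImplicit false
universe u
open scoped TensorProduct
open GrSegre

namespace Groth.Agent.S19748

/-- Let R and S be graded rings defined over a field k with Segre product T = R # S, M a graded R-module
and N a graded S-module. Suppose that multiplication by some homogeneous element f ∈ R_d of positive
degree d is bijective on M and multiplication by some homogeneous g ∈ S_e of positive degree e is
bijective on N. Then multiplication by some homogeneous element of T of positive degree is bijective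
on M # N. Here a graded ring defined over k is a commutative k-algebra of finite type, graded in
nonnegative degrees by k-subspaces with degree-zero part k·1; the Segre product T = R # S = ⊕_n R_n
⊗_k S_n is presented abstractly as a graded k-algebra T with an injective k-algebra homomorphism ψ :
T → R ⊗_k S carrying T_n onto the k-span of the elementary tensors a ⊗ b with a ∈ R_n, b ∈ S_n; the
Segre product M # N = ⊕_n M_n ⊗_k N_n of a graded R-module M and a graded S-module N is presented
abstractly as a graded T-module P with an injective k-linear map φ : P → M ⊗_k N carrying P_n onto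
the k-span of the tensors x ⊗ y with x ∈ M_n, y ∈ N_n and turning the action of t ∈ T into that of
ψ(t) (acting factorwise on M ⊗_k N). -/
theorem result (k : Type u) [Field k] (R : Type u) [CommRing R] [Algebra k R] (𝒜 : ℤ → Submodule k R) [GradedAlgebra 𝒜] (hposR : ∀ n : ℤ, n < 0 → 𝒜 n = ⊥) (h0R : 𝒜 0 = Submodule.span k {(1 : R)}) [Algebra.FiniteType k R] (S : Type u) [CommRing S] [Algebra k S] (ℬ : ℤ → Submodule k S) [GradedAlgebra ℬ] (hposS : ∀ n : ℤ, n < 0 → ℬ n = ⊥) (h0S : ℬ 0 = Submodule.span k {(1 : S)}) [Algebra.FiniteType k S] (T : Type u) [CommRing T] [Algebra k T] (𝒯 : ℤ → Submodule k T) [GradedAlgebra 𝒯] (ψ : T →ₐ[k] TensorProduct k R S) (hT : GrSeg.IsSegreRing 𝒜 ℬ 𝒯 ψ) (M : Type u) [AddCommGroup M] [Module R M] [Module k M] [IsScalarTower k R M] (ℳ : ℤ → AddSubgroup M) [DirectSum.Decomposition ℳ] [SetLike.GradedSMul 𝒜 ℳ] (N : Type u) [AddCommGroup N] [Module S N] [Module k N] [IsScalarTower k S N] (𝒩 : ℤ → AddSubgroup N) [DirectSum.Decomposition 𝒩] [SetLike.GradedSMul ℬ 𝒩] (P : Type u) [AddCommGroup P] [Module T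 P] [Module k P] [IsScalarTower k T P] (𝒬 : ℤ → AddSubgroup P) [DirectSum.Decomposition 𝒬] (φ : P →ₗ[k] TensorProduct k M N) (hP : GrSeg.IsSegreMod ψ ℳ 𝒩 𝒬 φ) (d : ℕ) (hd : 0 < d) (f : R) (hf : f ∈ 𝒜 (d : ℤ)) (hfM : Function.Bijective (fun x : M => f • x)) (e : ℕ) (he : 0 < e) (g : S) (hg : g ∈ ℬ (e : ℤ)) (hgN : Function.Bijective (fun y : N => g • y)) : ∃ (c : ℤ) (t : T), 0 < c ∧ t ∈ 𝒯 c ∧ Function.Bijective (fun p : P => t • p) := by
  classical
  obtain ⟨t, ht, hte⟩ : ∃ t ∈ 𝒯 ((e * d : ℕ) : ℤ), ψ t = (f ^ e) ⊗ₜ[k] (g ^ d) := by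
    have h : (f ^ e) ⊗ₜ[k] (g ^ d) ∈ GrSeg.segrePiece k 𝒜 ℬ ((e * d : ℕ) : ℤ) := by
      refine Submodule.subset_span ⟨_, ?_, _, ?_, rfl⟩
      · simpa [mul_comm] using SetLike.pow_mem_graded e hf
      · simpa [mul_comm] using SetLike.pow_mem_graded d hg
    rw [← hT.2] at h
    obtain ⟨t, ht, hte⟩ := h
    exact ⟨t, ht, hte⟩
  refine ⟨_, t, by exact_mod_cast Nat.mul_pos he hd, ht, ?_⟩
  have hFk : ∀ m : ℕ, Function.Bijective (fun x : M => f ^ m • x) := by
    intro m
    induction m with
    | zero => simp only [pow_zero, one_smul]; exact Function.bijective_id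
    | succ m ih => simpa [pow_succ, mul_smul, Function.comp_def] using ih.comp hfM
  have hGk : ∀ m : ℕ, Function.Bijective (fun x : N => g ^ m • x) := by
    intro m
    induction m with
    | zero => simp only [pow_zero, one_smul]; exact Function.bijective_id
    | succ m ih => simpa [pow_succ, mul_smul, Function.comp_def] using ih.comp hgN
  let fl : M →ₗ[k] M := (LinearMap.lsmul R M (f ^ e)).restrictScalars k
  let gl : N →ₗ[k] N := (LinearMap.lsmul S N (g ^ d)).restrictScalars k
  have hact : ∀ q : P, φ (t • q) = TensorProduct.map fl gl (φ q) := by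
    intro q
    rw [hP.map_smul, hte]
    induction φ q using TensorProduct.induction_on with
    | zero => simp
    | tmul x y => simp [GrSeg.act_tmul, fl, gl]
    | add x y hx hy => simp only [map_add, hx, hy]
  refine ⟨fun q q' h => hP.injective ?_, ?_⟩
  · have h' := congrArg φ h
    simp only [hact] at h'
    exact TensorProduct.map_injective_of_flat_flat fl gl (hFk e).1 (hGk d).1 h'
  intro q
  induction q using DirectSum.Decomposition.inductionOn 𝒬 with
  | zero => exact ⟨0, smul_zero t⟩
  | @homogeneous n z =>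
    have hz : φ z ∈ GrSeg.segrePiece k ℳ 𝒩 n := by
      have h : φ z ∈ φ '' (𝒬 n : Set P) := ⟨z, z.2, rfl⟩
      rw [hP.image_piece] at h
      exact h
    have hle : GrSeg.segrePiece k ℳ 𝒩 n ≤
        Submodule.span k (TensorProduct.map fl gl '' (φ '' Set.univ)) := by
      refine Submodule.span_le.mpr ?_
      rintro _ ⟨a, ha, b, hb, rfl⟩
      obtain ⟨a', ha'⟩ := (hFk e).2 a
      obtain ⟨b', hb'⟩ := (hGk d).2 b
      have hmM : a' ∈ ℳ (n - (e * d : ℕ)) := by
        rw [← DirectSum.sum_support_decompose ℳ a']
        refine AddSubgroup.sum_mem _ fun i _ => ?_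
        by_cases hi : i = n - (e * d : ℕ)
        · subst hi; exact (DirectSum.decompose ℳ a' _).2
        · have h := Groth.Agent.GrSegreLib.pr_smul_homogeneous 𝒜 ℳ (f ^ e)
            (DirectSum.decompose ℳ a' i).2 (((e * d : ℕ) : ℤ) + i)
          have h0 : (f ^ e) • (DirectSum.decompose ℳ a' i : M) = 0 := by
            have hmem : (f ^ e) • (DirectSum.decompose ℳ a' i : M) ∈ ℳ (((e * d : ℕ) : ℤ) + i) := by
              simpa [mul_comm] using SetLike.GradedSMul.smul_mem (A := 𝒜) (B := ℳ)
                (SetLike.pow_mem_graded e hf) (DirectSum.decompose ℳ a' i).2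
            have hsum : Groth.Agent.GrSegreLib.pr ℳ (((e * d : ℕ) : ℤ) + i) ((f ^ e) • a') =
                (f ^ e) • (DirectSum.decompose ℳ a' i : M) := by
              conv_lhs => rw [← DirectSum.sum_support_decompose ℳ a', Finset.smul_sum]
              let prh : M →+ M := AddMonoidHom.mk'
                (Groth.Agent.GrSegreLib.pr ℳ (((e * d : ℕ) : ℤ) + i))
                (Groth.Agent.GrSegreLib.pr_add ℳ _)
              show prh _ = _
              rw [map_sum, Finset.sum_eq_single i]
              · exact Groth.Agent.GrSegreLib.pr_of_mem ℳ hmem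
              · intro j _ hj
                refine Groth.Agent.GrSegreLib.pr_of_mem_ne ℳ (m := ((e * d : ℕ) : ℤ) + j) ?_ (by omega)
                simpa [mul_comm] using SetLike.GradedSMul.smul_mem (A := 𝒜) (B := ℳ)
                  (SetLike.pow_mem_graded e hf) (DirectSum.decompose ℳ a' j).2
              · intro hni
                rw [DFinsupp.notMem_support_iff.mp hni]
                simp [prh, Groth.Agent.GrSegreLib.pr_zero]
            rw [← hsum, show (f ^ e) • a' = a from ha']
            exact Groth.Agent.GrSegreLib.pr_of_mem_ne ℳ ha (by omega)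
          rw [(hFk e).1 (h0.trans (smul_zero _).symm)]
          exact zero_mem _
      have hmN : b' ∈ 𝒩 (n - (e * d : ℕ)) := by
        rw [← DirectSum.sum_support_decompose 𝒩 b']
        refine AddSubgroup.sum_mem _ fun i _ => ?_
        by_cases hi : i = n - (e * d : ℕ)
        · subst hi; exact (DirectSum.decompose 𝒩 b' _).2
        · have h0 : (g ^ d) • (DirectSum.decompose 𝒩 b' i : N) = 0 := by
            have hmem : (g ^ d) • (DirectSum.decompose 𝒩 b' i : N) ∈ 𝒩 (((e * d : ℕ) : ℤ) + i) := by
              simpa [mul_comm] using SetLike.GradedSMul.smul_mem (A := ℬ) (B := 𝒩)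
                (SetLike.pow_mem_graded d hg) (DirectSum.decompose 𝒩 b' i).2
            have hsum : Groth.Agent.GrSegreLib.pr 𝒩 (((e * d : ℕ) : ℤ) + i) ((g ^ d) • b') =
                (g ^ d) • (DirectSum.decompose 𝒩 b' i : N) := by
              conv_lhs => rw [← DirectSum.sum_support_decompose 𝒩 b', Finset.smul_sum]
              let prh : N →+ N := AddMonoidHom.mk'
                (Groth.Agent.GrSegreLib.pr 𝒩 (((e * d : ℕ) : ℤ) + i))
                (Groth.Agent.GrSegreLib.pr_add 𝒩 _)
              show prh _ = _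
              rw [map_sum, Finset.sum_eq_single i]
              · exact Groth.Agent.GrSegreLib.pr_of_mem 𝒩 hmem
              · intro j _ hj
                refine Groth.Agent.GrSegreLib.pr_of_mem_ne 𝒩 (m := ((e * d : ℕ) : ℤ) + j) ?_ (by omega)
                simpa [mul_comm] using SetLike.GradedSMul.smul_mem (A := ℬ) (B := 𝒩)
                  (SetLike.pow_mem_graded d hg) (DirectSum.decompose 𝒩 b' j).2
              · intro hni
                rw [DFinsupp.notMem_support_iff.mp hni]
                simp [prh, Groth.Agent.GrSegreLib.pr_zero]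
            rw [← hsum, show (g ^ d) • b' = b from hb']
            exact Groth.Agent.GrSegreLib.pr_of_mem_ne 𝒩 hb (by omega)
          rw [(hGk d).1 (h0.trans (smul_zero _).symm)]
          exact zero_mem _
      have hpre : a' ⊗ₜ[k] b' ∈ (GrSeg.segrePiece k ℳ 𝒩 (n - (e * d : ℕ)) : Set (M ⊗[k] N)) :=
        Submodule.subset_span ⟨a', hmM, b', hmN, rfl⟩
      rw [← hP.image_piece] at hpre
      obtain ⟨q', -, hq'⟩ := hpre
      refine Submodule.subset_span ⟨φ q', ⟨q', trivial, rfl⟩, ?_⟩
      rw [hq', TensorProduct.map_tmul]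
      exact congrArg₂ (fun u v => u ⊗ₜ[k] v) ha' hb'
    rw [Set.image_univ, ← LinearMap.coe_range, Submodule.span_image, Submodule.span_eq] at hle
    obtain ⟨_, ⟨q', rfl⟩, hq'⟩ := hle hz
    exact ⟨q', hP.injective ((hact q').trans hq')⟩
  | add a b ha hb =>
    obtain ⟨a', rfl⟩ := ha
    obtain ⟨b', rfl⟩ := hb
    exact ⟨a' + b', smul_add t a' b'⟩

end Groth.Agent.S19748
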