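import Mathlib
import Groth.Agent.GrSegreLib.Finite
import Groth.Statements.S19749

set_option autoImplicit false
universe u
open scoped TensorProduct
open GrSegre

namespace Groth.Agent.S19749

/-- Let R and S be graded rings defined over a field k, both generated over k by their degree-one parts
and of positive Krull dimension, T = R # S, M a graded R-module and N a graded S-module, n an
integer with N_m ≠ 0 for every m ≥ n, and x ∈ M_n, y ∈ N_n. If x # y generates M # N as a T-module,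
then R_d x = M_{n+d} for every d ≥ 0 (every element of M_{n+d} is r x for some r ∈ R_d). Here a
graded ring defined over k is a commutative k-algebra of finite type, graded in nonnegative degrees
by k-subspaces with degree-zero part k·1; the Segre product T = R # S = ⊕_n R_n ⊗_k S_n is presented
abstractly as a graded k-algebra T with an injective k-algebra homomorphism ψ : T → R ⊗_k S carrying
T_n onto the k-span of the elementary tensors a ⊗ b with a ∈ R_n, b ∈ S_n; the Segre product M # N =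
⊕_n M_n ⊗_k N_n of a graded R-module M and a graded S-module N is presented abstractly as a graded
T-module P with an injective k-linear map φ : P → M ⊗_k N carrying P_n onto the k-span of the
tensors x ⊗ y with x ∈ M_n, y ∈ N_n and turning the action of t ∈ T into that of ψ(t) (acting
factorwise on M ⊗_k N), and x # y is the element of P mapped to x ⊗ y. -/
theorem result (k : Type u) [Field k] (R : Type u) [CommRing R] [Algebra k R] (𝒜 : ℤ → Submodule k R) [GradedAlgebra 𝒜] (hposR : ∀ n : ℤ, n < 0 → 𝒜 n = ⊥) (h0R : 𝒜 0 = Submodule.span k {(1 : R)}) [Algebra.FiniteType k R] (S : Type u) [CommRing S] [Algebra k S] (ℬ : ℤ → Submodule k S) [GradedAlgebra ℬ] (hposS : ∀ n : ℤ, n < 0 → ℬ n = ⊥) (h0S : ℬ 0 = Submodule.span k {(1 : S)}) [Algebra.FiniteType k S] (T : Type u) [CommRing T] [Algebra k T] (𝒯 : ℤ → Submodule k T) [GradedAlgebra 𝒯] (ψ : T →ₐ[k] TensorProduct k R S) (hT : GrSeg.IsSegreRing 𝒜 ℬ 𝒯 ψ) (hstdR : Ideal.span (⋃ n ∈ Set.Ioi (0 : ℤ), (𝒜 n : Set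 R)) = Ideal.span ((𝒜 1 : Submodule k R) : Set R)) (hstdS : Ideal.span (⋃ n ∈ Set.Ioi (0 : ℤ), (ℬ n : Set S)) = Ideal.span ((ℬ 1 : Submodule k S) : Set S)) (hr1 : 1 ≤ ringKrullDim R) (hs1 : 1 ≤ ringKrullDim S) (M : Type u) [AddCommGroup M] [Module R M] [Module k M] [IsScalarTower k R M] (ℳ : ℤ → AddSubgroup M) [DirectSum.Decomposition ℳ] [SetLike.GradedSMul 𝒜 ℳ] (N : Type u) [AddCommGroup N] [Module S N] [Module k N] [IsScalarTower k S N] (𝒩 : ℤ → AddSubgroup N) [DirectSum.Decomposition 𝒩] [SetLike.GradedSMul ℬ 𝒩] (P : Type u) [AddCommGroup P] [Module T P] [Module k P] [IsScalarTower k T P] (𝒬 : ℤ → AddSubgroup P) [DirectSum.Decomposition 𝒬] (φ : P →ₗ[k] TensorProduct k M N) (hP : GrSeg.IsSegreMod ψ ℳ 𝒩 𝒬 φ) (n : ℤ) (hNn : ∀ m : ℤ, n ≤ m → 𝒩 m ≠ ⊥) (x : M) (hx : x ∈ ℳ n) (y : N) (hy : y ∈ 𝒩 n) (p : P) (hp : φ p = x ⊗ₜ[k] y) (hgen : Submodule.span T {p} = ⊤) (d : ℤ) (hd : 0 ≤ d) (z : M) (hz : z ∈ ℳ (n + d)) : ∃ r ∈ 𝒜 d, r • x = z := by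
  classical
  obtain ⟨y', hy', hy0⟩ : ∃ y' ∈ 𝒩 (n + d), y' ≠ 0 := by
    by_contra h
    push Not at h
    exact hNn (n + d) (by omega) ((AddSubgroup.eq_bot_iff_forall _).mpr h)
  obtain ⟨l, hl⟩ := Module.Projective.exists_dual_eq_one k hy0
  have hmem : z ⊗ₜ[k] y' ∈ (GrSeg.segrePiece k ℳ 𝒩 (n + d) : Set (M ⊗[k] N)) :=
    Submodule.subset_span ⟨z, hz, y', hy', rfl⟩
  rw [← hP.image_piece] at hmem
  obtain ⟨q, -, hq⟩ := hmem
  obtain ⟨t, rfl⟩ := Submodule.mem_span_singleton.mp (hgen ▸ Submodule.mem_top : q ∈ Submodule.span T {p})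
  rw [hP.map_smul, hp] at hq
  let Λ : M ⊗[k] N →ₗ[k] M := (TensorProduct.rid k M).toLinearMap ∘ₗ LinearMap.lTensor M l
  have hrange : ∀ Z : R ⊗[k] S,
      Λ (GrSeg.act k R S M N Z (x ⊗ₜ[k] y)) ∈ Submodule.span R {x} := by
    intro Z
    induction Z using TensorProduct.induction_on with
    | zero => simp
    | tmul a b =>
      rw [GrSeg.act_tmul]
      simp only [Λ, LinearMap.comp_apply, LinearMap.lTensor_tmul, LinearEquiv.coe_coe,
        TensorProduct.rid_tmul]
      rw [← algebraMap_smul R (l (b • y)) (a • x), ← mul_smul]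
      exact Submodule.smul_mem _ _ (Submodule.subset_span rfl)
    | add a b ha hb => simp only [map_add, LinearMap.add_apply]; exact Submodule.add_mem _ ha hb
  have h2 := hrange (ψ t)
  rw [hq] at h2
  simp only [Λ, LinearMap.comp_apply, LinearMap.lTensor_tmul, LinearEquiv.coe_coe,
    TensorProduct.rid_tmul, hl, one_smul] at h2
  obtain ⟨r, hr⟩ := Submodule.mem_span_singleton.mp h2
  refine ⟨DirectSum.decompose 𝒜 r d, (DirectSum.decompose 𝒜 r d).2, ?_⟩
  have h3 := Groth.Agent.GrSegreLib.pr_smul_homogeneous 𝒜 ℳ r hx (n + d)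
  rw [hr, Groth.Agent.GrSegreLib.pr_of_mem ℳ hz, add_sub_cancel_left] at h3
  exact h3.symm

end Groth.Agent.S19749
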