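import Mathlib
import Groth.Agent.GrSegreLib.Main
import Groth.Statements.S19750

set_option autoImplicit false
universe u
open scoped TensorProduct
open GrSegre

namespace Groth.Agent.S19750

/-- Let R and S be graded rings defined over a field k, both generated over k by their degree-one parts
and of positive Krull dimension, T = R # S with irrelevant ideal T_+, and let a ≥ b be integers.
Then the number of generators ν_T(R(a) # S(b)) = dim_k (R(a) # S(b)) / T_+ (R(a) # S(b)) equals
dim_k R_{a−b}. Here a graded ring defined over k is a commutative k-algebra of finite type, graded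
in nonnegative degrees by k-subspaces with degree-zero part k·1; the Segre product T = R # S = ⊕_n
R_n ⊗_k S_n is presented abstractly as a graded k-algebra T with an injective k-algebra homomorphism
ψ : T → R ⊗_k S carrying T_n onto the k-span of the elementary tensors a ⊗ b with a ∈ R_n, b ∈ S_n;
the Segre product R(a) # S(b) = ⊕_n R_{n+a} ⊗_k S_{n+b} of the shifted modules is presented
abstractly as a graded T-module P with an injective k-linear map φ : P → R ⊗_k S carrying P_n onto
the k-span of the tensors x ⊗ y with x ∈ R_{n+a}, y ∈ S_{n+b} and turning the action of t ∈ T into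
that of ψ(t); T_+ is the ideal spanned by the T_n with n > 0. -/
theorem result (k : Type u) [Field k] (R : Type u) [CommRing R] [Algebra k R] (𝒜 : ℤ → Submodule k R) [GradedAlgebra 𝒜] (hposR : ∀ n : ℤ, n < 0 → 𝒜 n = ⊥) (h0R : 𝒜 0 = Submodule.span k {(1 : R)}) [Algebra.FiniteType k R] (S : Type u) [CommRing S] [Algebra k S] (ℬ : ℤ → Submodule k S) [GradedAlgebra ℬ] (hposS : ∀ n : ℤ, n < 0 → ℬ n = ⊥) (h0S : ℬ 0 = Submodule.span k {(1 : S)}) [Algebra.FiniteType k S] (T : Type u) [CommRing T] [Algebra k T] (𝒯 : ℤ → Submodule k T) [GradedAlgebra 𝒯] (ψ : T →ₐ[k] TensorProduct k R S) (hT : GrSeg.IsSegreRing 𝒜 ℬ 𝒯 ψ) (hstdR : Ideal.span (⋃ n ∈ Set.Ioi (0 : ℤ), (𝒜 n : Set R)) = Ideal.span ((𝒜 1 : Submodule k R) : Set R)) (hstdS : Ideal.span (⋃ n ∈ Set.Ioi (0 : ℤ), (ℬ n : Set S)) = Ideal.span ((ℬ 1 : Submodule k S) : Set S)) (hr1 : 1 ≤ ringKrullDim R) (hs1 : 1 ≤ ringKrullDim S) (mT : HomogeneousIdeal 𝒯) (hmT : mT.toIdeal = Ideal.span (⋃ n ∈ Set.Ioi (0 : ℤ), (𝒯 n : Set T))) (a b : ℤ) (hab : b ≤ a) (P : Type u) [AddCommGroup P] [Module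 T P] [Module k P] [IsScalarTower k T P] (𝒬 : ℤ → AddSubgroup P) [DirectSum.Decomposition 𝒬] (φ : P →ₗ[k] TensorProduct k R S) (hP : GrSeg.IsSegreMod ψ (fun n : ℤ => 𝒜 (n + a)) (fun n : ℤ => ℬ (n + b)) 𝒬 φ) : Module.finrank k (P ⧸ (mT.toIdeal • (⊤ : Submodule T P))) = Module.finrank k (𝒜 (a - b)) := by
  classical
  haveI : Nontrivial S := by
    rcases subsingleton_or_nontrivial S with h | h
    · rw [ringKrullDim_eq_bot_of_subsingleton] at hs1
      exact absurd hs1 (by simp)
    · exact h
  obtain ⟨l, hl⟩ := Module.Projective.exists_dual_eq_one k (one_ne_zero (α := S))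
  let ε : S →ₗ[k] k := l.comp (GradedAlgebra.proj ℬ 0)
  have hε : ∀ (i : ℤ) (y : S), y ∈ ℬ i → i ≠ 0 → ε y = 0 := by
    intro i y hy hi
    simp only [ε, LinearMap.comp_apply, GradedAlgebra.proj_apply,
      DirectSum.decompose_of_mem_ne ℬ hy hi, map_zero]
  have hε1 : ε (1 : S) = 1 := by
    show l (GradedAlgebra.proj ℬ 0 1) = 1
    rw [GradedAlgebra.proj_apply, DirectSum.decompose_of_mem_same ℬ (SetLike.one_mem_graded ℬ), hl]
  have hε0 : ∀ y ∈ ℬ 0, y = ε y • (1 : S) := by
    intro y hy
    obtain ⟨c, rfl⟩ := Submodule.mem_span_singleton.mp (h0S ▸ hy)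
    rw [map_smul, hε1, smul_eq_mul, mul_one]
  let Λ : TensorProduct k R S →ₗ[k] R := (TensorProduct.rid k R).toLinearMap ∘ₗ LinearMap.lTensor R ε
  have hΛ : ∀ (x : R) (y : S), Λ (x ⊗ₜ[k] y) = ε y • x := fun x y => by simp [Λ]
  let π : P →ₗ[k] R := Λ ∘ₗ φ
  have hφQ : ∀ n (p : P), p ∈ 𝒬 n → φ p ∈
      GrSeg.segrePiece k (fun n : ℤ => 𝒜 (n + a)) (fun n : ℤ => ℬ (n + b)) n := by
    intro n p hp
    have h : φ p ∈ φ '' (𝒬 n : Set P) := ⟨p, hp, rfl⟩
    rw [hP.image_piece] at h
    exact h
  let K : Submodule k P := (mT.toIdeal • (⊤ : Submodule T P)).restrictScalars k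
  have hKle : K ≤ LinearMap.ker π := by
    intro p hp
    have hp' : p ∈ mT.toIdeal • (⊤ : Submodule T P) := (Submodule.restrictScalars_mem k _ _).mp hp
    suffices hall : ∀ t ∈ mT.toIdeal, ∀ q : P, t • q ∈ LinearMap.ker π from
      Submodule.smul_induction_on (p := fun z : P => z ∈ LinearMap.ker π) hp'
        (fun t ht q _ => hall t ht q) fun u w hu hw => Submodule.add_mem _ hu hw
    intro t ht q
    rw [hmT] at ht
    suffices h : ∀ t' : T, (t' * t) • q ∈ LinearMap.ker π by simpa using h 1
    induction ht using Submodule.span_induction with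
    | mem u hu =>
      intro t'
      obtain ⟨j, hj, huj⟩ := Set.mem_iUnion₂.mp hu
      rw [mul_comm, mul_smul, LinearMap.mem_ker]
      generalize t' • q = z
      induction z using DirectSum.Decomposition.inductionOn 𝒬 with
      | zero => simp [π]
      | @homogeneous n z =>
        show Λ (φ (u • (z : P))) = 0
        rw [hP.map_smul]
        have hu' : ψ u ∈ GrSeg.segrePiece k 𝒜 ℬ j := by rw [← hT.2]; exact ⟨u, huj, rfl⟩
        have hz := hφQ n z z.2
        generalize ψ u = Z at hu' ⊢
        generalize φ (z : P) = W at hz ⊢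
        induction hu' using Submodule.span_induction with
        | mem v hv =>
          obtain ⟨x', -, y', hy', rfl⟩ := hv
          induction hz using Submodule.span_induction with
          | mem w hw =>
            obtain ⟨x, -, y, hy, rfl⟩ := hw
            rw [GrSeg.act_tmul, hΛ, smul_eq_mul, smul_eq_mul]
            rcases lt_or_ge (n + b) 0 with h | h
            · have hy0 : y = 0 := (Submodule.mem_bot k).mp (hposS _ h ▸ hy)
              simp [hy0]
            · rw [hε (j + (n + b)) _ (SetLike.mul_mem_graded hy' hy) (by simp at hj; omega), zero_smul]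
          | zero => simp
          | add v w _ _ hv hw => simp only [map_add, hv, hw, add_zero]
          | smul c v _ hv => simp only [map_smul, hv, smul_zero]
        | zero => simp
        | add v w _ _ hv hw => simp only [map_add, LinearMap.add_apply, hv, hw, add_zero]
        | smul c v _ hv => simp only [map_smul, LinearMap.smul_apply, hv, smul_zero]
      | add v w hv hw => rw [smul_add, map_add, hv, hw, add_zero]
    | zero => intro t'; simp
    | add v w _ _ hv hw => intro t'; rw [mul_add, add_smul]; exact Submodule.add_mem _ (hv t') (hw t')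
    | smul c v _ hv => intro t'; rw [smul_eq_mul, ← mul_assoc]; exact hv _
  have hrange : LinearMap.range π = 𝒜 (a - b) := by
    apply le_antisymm
    · rintro _ ⟨p, rfl⟩
      induction p using DirectSum.Decomposition.inductionOn 𝒬 with
      | zero => simp
      | @homogeneous n z =>
        have hz := hφQ n z z.2
        show Λ (φ (z : P)) ∈ 𝒜 (a - b)
        generalize φ (z : P) = W at hz ⊢
        induction hz using Submodule.span_induction with
        | mem w hw =>
          obtain ⟨x, hx, y, hy, rfl⟩ := hw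
          rw [hΛ]
          by_cases h : n + b = 0
          · exact Submodule.smul_mem _ _ (by rwa [show a - b = n + a by omega])
          · rw [hε _ y hy h, zero_smul]; exact Submodule.zero_mem _
        | zero => simp
        | add v w _ _ hv hw => rw [map_add]; exact Submodule.add_mem _ hv hw
        | smul c v _ hv => rw [map_smul]; exact Submodule.smul_mem _ c hv
      | add v w hv hw => rw [map_add]; exact Submodule.add_mem _ hv hw
    · intro x hx
      have h : x ⊗ₜ[k] (1 : S) ∈ (GrSeg.segrePiece k (fun n : ℤ => 𝒜 (n + a)) (fun n : ℤ => ℬ (n + b)) (-b) :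
          Set (TensorProduct k R S)) := by
        refine Submodule.subset_span ⟨x, ?_, 1, ?_, rfl⟩
        · show x ∈ 𝒜 (-b + a)
          rwa [show -b + a = a - b by ring]
        · show (1 : S) ∈ ℬ (-b + b)
          rw [neg_add_cancel]
          exact SetLike.one_mem_graded ℬ
      rw [← hP.image_piece] at h
      obtain ⟨p, -, hp⟩ := h
      refine ⟨p, ?_⟩
      show Λ (φ p) = x
      rw [hp, hΛ]
      rw [hε1, one_smul]
  have hker : LinearMap.ker π ≤ K := by
    intro p hp
    have hcomp : ∀ n, (DirectSum.decompose 𝒬 p n : P) ∈ K := by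
      intro n
      rcases lt_trichotomy (n + b) 0 with h | h | h
      · have hz := hφQ n _ (DirectSum.decompose 𝒬 p n).2
        have h0 : GrSeg.segrePiece k (fun n : ℤ => 𝒜 (n + a)) (fun n : ℤ => ℬ (n + b)) n ≤ ⊥ := by
          refine Submodule.span_le.mpr ?_
          rintro _ ⟨x, -, y, hy, rfl⟩
          have hy2 : y ∈ ℬ (n + b) := hy
          rw [hposS _ h, Submodule.mem_bot] at hy2
          simp [hy2]
        rw [hP.injective ((Submodule.mem_bot k).mp (h0 hz) |>.trans (map_zero φ).symm)]
        exact Submodule.zero_mem _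
      · have hz := hφQ n _ (DirectSum.decompose 𝒬 p n).2
        have hflat : ∀ w ∈ GrSeg.segrePiece k (fun n : ℤ => 𝒜 (n + a)) (fun n : ℤ => ℬ (n + b)) n,
            w = Λ w ⊗ₜ[k] (1 : S) := by
          intro w hw
          induction hw using Submodule.span_induction with
          | mem v hv =>
            obtain ⟨x, -, y, hy, rfl⟩ := hv
            have hy2 : y ∈ ℬ (n + b) := hy
            rw [h] at hy2
            have hy0 : y = ε y • (1 : S) := hε0 y hy2
            rw [hΛ, TensorProduct.smul_tmul, ← hy0]
          | zero => simp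
          | add v w _ _ hv hw => rw [map_add, TensorProduct.add_tmul, ← hv, ← hw]
          | smul c v _ hv => rw [map_smul, ← TensorProduct.smul_tmul', ← hv]
        have hsum : π p = Λ (φ (DirectSum.decompose 𝒬 p n : P)) := by
          conv_lhs => rw [← DirectSum.sum_support_decompose 𝒬 p, map_sum]
          refine Finset.sum_eq_single n (fun i _ hi => ?_) fun hni => ?_
          · have hzi := hφQ i _ (DirectSum.decompose 𝒬 p i).2
            show Λ (φ _) = 0
            generalize φ ((DirectSum.decompose 𝒬 p i : P)) = W at hzi ⊢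
            induction hzi using Submodule.span_induction with
            | mem v hv =>
              obtain ⟨x, -, y, hy, rfl⟩ := hv
              rw [hΛ, hε _ y hy (by omega), zero_smul]
            | zero => simp
            | add v w _ _ hv hw => rw [map_add, hv, hw, add_zero]
            | smul c v _ hv => rw [map_smul, hv, smul_zero]
          · simp [DFinsupp.notMem_support_iff.mp hni, π]
        rw [LinearMap.mem_ker.mp hp] at hsum
        have h0 := hflat _ hz
        rw [← hsum, TensorProduct.zero_tmul] at h0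
        rw [hP.injective (h0.trans (map_zero φ).symm)]
        exact Submodule.zero_mem _
      · have hle : GrSeg.segrePiece k (fun n : ℤ => 𝒜 (n + a)) (fun n : ℤ => ℬ (n + b)) n ≤ K.map φ := by
          have hU : ∀ x ∈ (fun n : ℤ => 𝒜 (n + a)) n, x ∈ Submodule.span k
              (Set.image2 (· * ·) (𝒜 (n + a - 1) : Set R) (𝒜 1 : Set R)) := fun x hx => by
            have hx2 : x ∈ 𝒜 (n + a - 1 + 1) := by rwa [sub_add_cancel]
            exact Groth.Agent.GrSegreLib.piece_succ_le 𝒜 hstdR (by omega) hx2
          have hV : ∀ y ∈ (fun n : ℤ => ℬ (n + b)) n, y ∈ Submodule.span k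
              (Set.image2 (· * ·) (ℬ (n + b - 1) : Set S) (ℬ 1 : Set S)) := fun y hy => by
            have hy2 : y ∈ ℬ (n + b - 1 + 1) := by rwa [sub_add_cancel]
            exact Groth.Agent.GrSegreLib.piece_succ_le ℬ hstdS (by omega) hy2
          refine le_trans (Groth.Agent.GrSegreLib.segrePiece_le (k := k) (fun n : ℤ => 𝒜 (n + a))
            (fun n : ℤ => ℬ (n + b)) n _ _ hU hV) ?_
          refine Submodule.span_le.mpr ?_
          rintro _ ⟨_, ⟨x', hx', c, hc, rfl⟩, _, ⟨y', hy', d, hd, rfl⟩, rfl⟩
          have h1 : c ⊗ₜ[k] d ∈ GrSeg.segrePiece k 𝒜 ℬ 1 := Submodule.subset_span ⟨c, hc, d, hd, rfl⟩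
          rw [← hT.2] at h1
          obtain ⟨t, ht, hte⟩ := h1
          have h2 : x' ⊗ₜ[k] y' ∈ (GrSeg.segrePiece k (fun n : ℤ => 𝒜 (n + a)) (fun n : ℤ => ℬ (n + b))
              (n - 1) : Set (TensorProduct k R S)) := by
            refine Submodule.subset_span ⟨x', ?_, y', ?_, rfl⟩
            · show x' ∈ 𝒜 (n - 1 + a)
              rwa [show n - 1 + a = n + a - 1 by ring]
            · show y' ∈ ℬ (n - 1 + b)
              rwa [show n - 1 + b = n + b - 1 by ring]
          rw [← hP.image_piece] at h2
          obtain ⟨q, -, hq⟩ := h2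
          have htm : t ∈ mT.toIdeal := by
            rw [hmT]
            exact Ideal.subset_span (Set.mem_biUnion (show (1 : ℤ) ∈ Set.Ioi (0 : ℤ) by simp) ht)
          have hmem : t • q ∈ mT.toIdeal • (⊤ : Submodule T P) :=
            Submodule.smul_mem_smul htm Submodule.mem_top
          have hte' : ψ t = c ⊗ₜ[k] d := hte
          have hval : φ (t • q) = (x' * c) ⊗ₜ[k] (y' * d) := by
            rw [hP.map_smul, hq, hte', GrSeg.act_tmul, smul_eq_mul, smul_eq_mul, mul_comm c, mul_comm d]
          exact Submodule.mem_map.mpr ⟨t • q, (Submodule.restrictScalars_mem k _ _).mpr hmem, hval⟩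
        obtain ⟨z, hz, hze⟩ := hle (hφQ n _ (DirectSum.decompose 𝒬 p n).2)
        rw [← hP.injective hze]
        exact hz
    rw [← DirectSum.sum_support_decompose 𝒬 p]
    exact Submodule.sum_mem _ fun n _ => hcomp n
  let e1 := Submodule.Quotient.restrictScalarsEquiv k (mT.toIdeal • (⊤ : Submodule T P))
  rw [← e1.finrank_eq, (Submodule.quotEquivOfEq K (LinearMap.ker π) (le_antisymm hKle hker)).finrank_eq,
    π.quotKerEquivRange.finrank_eq, hrange]

end Groth.Agent.S19750
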