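import Groth.Statements.S19751
import Groth.Agent.GrDualLib.Main
-- import your own Groth.Agent.* helpers here

set_option autoImplicit false
set_option backward.isDefEq.respectTransparency false
universe u
open GrDual

namespace Groth.Agent.S19751

/-- Let R be a graded ring defined over a field k with m = R_+, let F and M be finitely generated graded
R-modules and f : F → M a surjective homomorphism of graded R-modules, with dual f^* : M^* → F^* on
graded k-duals. Then f is minimal, that is Ker f ⊆ m F, if and only if f^* is essential: an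
injective homomorphism of graded modules such that every nonzero graded submodule of F^* meets its
image. Here a graded ring defined over k is a commutative k-algebra of finite type, graded in
nonnegative degrees by k-subspaces with degree-zero part k·1, and R_+ is the ideal spanned by the
R_n with n > 0; the graded k-dual M^* = ⊕_n Hom_k(M_{−n}, k) of a graded R-module M (with r ∈ R
acting by (r f)(x) = f(r x)) is presented abstractly as a graded R-module D with a k-bilinear
pairing β : D × M → k compatible with the R-actions, under which D_n pairs to zero with M_m for m ≠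
−n and is identified with the full dual space of M_{−n}; f^* is presented as the R-linear map g :
M^* → F^* with β_F(g d, x) = β_M(d, f x). -/
theorem result (k : Type u) [Field k] (R : Type u) [CommRing R] [Algebra k R] (𝒜 : ℤ → Submodule k R) [GradedAlgebra 𝒜] (hposR : ∀ n : ℤ, n < 0 → 𝒜 n = ⊥) (h0R : 𝒜 0 = Submodule.span k {(1 : R)}) [Algebra.FiniteType k R] (mR : HomogeneousIdeal 𝒜) (hmR : mR.toIdeal = Ideal.span (⋃ n ∈ Set.Ioi (0 : ℤ), (𝒜 n : Set R))) (F : Type u) [AddCommGroup F] [Module R F] [Module k F] [IsScalarTower k R F] (ℱ : ℤ → AddSubgroup F) [DirectSum.Decomposition ℱ] [SetLike.GradedSMul 𝒜 ℱ] [Module.Finite R F] (M : Type u) [AddCommGroup M] [Module R M] [Module k M] [IsScalarTower k R M] (ℳ : ℤ → AddSubgroup M) [DirectSum.Decomposition ℳ] [SetLike.GradedSMul 𝒜 ℳ] [Module.Finite R M] (f : F →ₗ[R] M) (hf : Function.Surjective f) (hfgr : GrLC.IsGrHom ℱ ℳ f) (DM : Type u) [AddCommGroup DM] [Module R DM] [Module k DM] [IsScalarTower k R DM] (𝒟M : ℤ → AddSubgroup DM) [DirectSum.Decomposition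 𝒟M] [SetLike.GradedSMul 𝒜 𝒟M] (βM : DM →ₗ[k] M →ₗ[k] k) (hDM : GrSeg.IsGDual R ℳ 𝒟M βM) (DF : Type u) [AddCommGroup DF] [Module R DF] [Module k DF] [IsScalarTower k R DF] (𝒟F : ℤ → AddSubgroup DF) [DirectSum.Decomposition 𝒟F] [SetLike.GradedSMul 𝒜 𝒟F] (βF : DF →ₗ[k] F →ₗ[k] k) (hDF : GrSeg.IsGDual R ℱ 𝒟F βF) (g : DM →ₗ[R] DF) (hg : GrSeg.IsGDualMap βM βF f g) : LinearMap.ker f ≤ mR.toIdeal • (⊤ : Submodule R F) ↔ GrLC.IsStarEss 𝒟M 𝒟F g := by
  classical
  haveI : IsNoetherianRing R := Algebra.FiniteType.isNoetherianRing k R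
  haveI : IsNoetherian R F := isNoetherian_of_isNoetherianRing_of_finite R F
  have hFl := GrDualLib.flip_of_isNoetherian 𝒜 h0R hDF
  have hfproj : ∀ n x, GrDualLib.proj ℳ n (f x) = f (GrDualLib.proj ℱ n x) := by
    intro n x
    induction x using DirectSum.Decomposition.inductionOn ℱ with
    | zero => simp
    | @homogeneous i b =>
      by_cases hi : i = n
      · subst hi
        rw [GrDualLib.proj_of_mem ℱ b.2, GrDualLib.proj_of_mem ℳ (hfgr i b b.2)]
      · rw [GrDualLib.proj_of_mem_ne ℱ b.2 hi, GrDualLib.proj_of_mem_ne ℳ (hfgr i b b.2) hi,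
          map_zero]
    | add p q hp hq => simp only [map_add, hp, hq]
  have hK : GrDualLib.Homog ℱ (LinearMap.ker f) := fun n x hx =>
    LinearMap.mem_ker.2 (by rw [← hfproj, LinearMap.mem_ker.1 hx, map_zero])
  have hginj : Function.Injective g := by
    intro a b hab
    refine GrDualLib.ext hDM fun y => ?_
    obtain ⟨x, rfl⟩ := hf y
    rw [← hg a x, ← hg b x, hab]
  have hggr : GrLC.IsGrHom 𝒟M 𝒟F g := by
    intro n d hd
    exact GrDualLib.mem_piece hDF fun m hm x hx => by
      rw [hg]; exact hDM.vanish n d hd m hm _ (hfgr m x hx)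
  have hrange : ∀ n d, d ∈ 𝒟F n → (∀ x ∈ LinearMap.ker f, βF d x = 0) →
      d ∈ LinearMap.range g := by
    intro n d hd hker
    obtain ⟨s, hs⟩ := (f.restrictScalars k).exists_rightInverse_of_surjective
      (LinearMap.range_eq_top.2 hf)
    obtain ⟨e, he, hee⟩ := hDM.exists_eq n (βF d ∘ₗ GrDualLib.projₗ 𝒜 ℱ (-n) ∘ₗ s)
    refine ⟨e, GrDualLib.ext hDF fun x => ?_⟩
    have hee' := hee (f (GrDualLib.proj ℱ (-n) x)) (hfgr _ _ (GrDualLib.proj_mem ℱ _ x))
    rw [hg, GrDualLib.pair_proj_right hDM he, hfproj, hee', GrDualLib.pair_proj_right hDF hd x]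
    show βF d (GrDualLib.proj ℱ (-n) (s (f (GrDualLib.proj ℱ (-n) x)))) = _
    rw [← GrDualLib.pair_proj_right hDF hd, ← sub_eq_zero, ← map_sub]
    refine hker _ ?_
    rw [LinearMap.mem_ker, map_sub, sub_eq_zero]
    exact LinearMap.congr_fun hs _
  constructor
  · intro hmin
    refine ⟨hginj, hggr, fun P hP hne hbot => ?_⟩
    have hP' := GrDualLib.homog_of_isHomogeneous 𝒟F hP
    set Q := GrDualLib.perp hDF.map_smul P with hQ
    have hQh : GrDualLib.Homog ℱ Q := GrDualLib.perp_homog hDF hP'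
    have hQK : Q ⊔ LinearMap.ker f ≠ ⊤ := by
      intro htop
      have hQtop : Q = ⊤ := GrDualLib.eq_top_of_sup 𝒜 hposR ℱ mR.toIdeal hmR hQh
        (top_le_iff.1 (htop ▸ sup_le_sup_left hmin Q))
      obtain ⟨x, hx, hx0⟩ := Submodule.exists_mem_ne_zero_of_ne_bot hne
      exact hx0 (GrDualLib.ext_zero hDF fun y => (hQtop ▸ Submodule.mem_top : y ∈ Q) x hx)
    have hex : ∃ n, ∃ x ∈ ℱ n, x ∉ Q ⊔ LinearMap.ker f := by
      by_contra h
      push Not at h
      exact hQK (top_le_iff.1 fun x _ => GrDualLib.mem_of_proj_mem ℱ fun n =>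
        h n _ (GrDualLib.proj_mem ℱ n x))
    obtain ⟨n, x, hx, hxn⟩ := hex
    obtain ⟨φ, hφ1, hφ2⟩ := Submodule.exists_dual_map_eq_bot_of_notMem
      (p := (Q ⊔ LinearMap.ker f).restrictScalars k) hxn inferInstance
    obtain ⟨d, hd, hde⟩ := hDF.exists_eq (-n) φ
    rw [neg_neg] at hde
    have hkill : ∀ y ∈ Q ⊔ LinearMap.ker f, βF d y = 0 := by
      intro y hy
      rw [GrDualLib.pair_proj_right hDF hd, neg_neg, hde _ (GrDualLib.proj_mem ℱ n y)]
      have := Submodule.mem_map_of_mem (f := φ)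
        (show GrDualLib.proj ℱ n y ∈ (Q ⊔ LinearMap.ker f).restrictScalars k from
          GrDualLib.homog_sup ℱ hQh hK n y hy)
      rw [hφ2] at this
      exact this
    have hdP : d ∈ P := GrDualLib.mem_of_perp hDF 𝒜 hFl hP'
      fun y hy => hkill y (Submodule.mem_sup_left hy)
    have hmem : d ∈ P ⊓ LinearMap.range g :=
      ⟨hdP, hrange (-n) d hd fun y hy => hkill y (Submodule.mem_sup_right hy)⟩
    rw [hbot, Submodule.mem_bot] at hmem
    exact hφ1 (by rw [← hde x hx, hmem, map_zero, LinearMap.zero_apply])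
  · rintro ⟨-, -, hess⟩
    have hI : GrDualLib.Homog ℱ (mR.toIdeal • (⊤ : Submodule R F)) :=
      GrDualLib.homog_mR_smul 𝒜 ℱ mR.toIdeal hmR
    refine GrDualLib.homog_le_iff ℱ hK fun n x hx hxK => ?_
    by_contra hxm
    obtain ⟨φ, hφ1, hφ2⟩ := Submodule.exists_dual_map_eq_bot_of_notMem
      (p := (mR.toIdeal • (⊤ : Submodule R F)).restrictScalars k) hxm inferInstance
    obtain ⟨d, hd, hde⟩ := hDF.exists_eq (-n) φ
    rw [neg_neg] at hde
    have hkill : ∀ y ∈ mR.toIdeal • (⊤ : Submodule R F), βF d y = 0 := by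
      intro y hy
      rw [GrDualLib.pair_proj_right hDF hd, neg_neg, hde _ (GrDualLib.proj_mem ℱ n y)]
      have := Submodule.mem_map_of_mem (f := φ)
        (show GrDualLib.proj ℱ n y ∈ (mR.toIdeal • (⊤ : Submodule R F)).restrictScalars k from
          hI n y hy)
      rw [hφ2] at this
      exact this
    have hdx : βF d x ≠ 0 := by rwa [hde x hx]
    have hd0 : d ≠ 0 := fun h => hdx (by rw [h, map_zero, LinearMap.zero_apply])
    refine hess (Submodule.span R {d}) ?_ (by simpa using hd0) ?_
    · intro i z hz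
      exact GrDualLib.homog_span 𝒜 𝒟F (S := {d}) (fun s hs => ⟨-n, (Set.mem_singleton_iff.1 hs) ▸ hd⟩)
        i z hz
    rw [eq_bot_iff]
    rintro z ⟨hz, e, he⟩
    obtain ⟨r, rfl⟩ := Submodule.mem_span_singleton.1 hz
    rw [Submodule.mem_bot]
    refine GrDualLib.ext_zero hDF fun y => ?_
    have hr : ∀ y, βF (r • d) y = βF ((DirectSum.decompose 𝒜 r 0 : R) • d) y := by
      intro y
      clear hz he
      induction r using DirectSum.Decomposition.inductionOn 𝒜 with
      | zero => simp
      | @homogeneous i a =>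
        by_cases hi : i = 0
        · subst hi; rw [DirectSum.decompose_of_mem_same 𝒜 a.2]
        · rw [DirectSum.decompose_of_mem_ne 𝒜 a.2 hi, zero_smul, map_zero, LinearMap.zero_apply,
            hDF.map_smul]
          by_cases hneg : i < 0
          · rw [show (a : R) = 0 by simpa [hposR i hneg] using a.2, zero_smul, map_zero]
          · refine hkill _ (Submodule.smul_mem_smul ?_ trivial)
            rw [hmR]
            exact Ideal.subset_span (Set.mem_iUnion₂.2 ⟨i, (by omega : (0:ℤ) < i), a.2⟩)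
      | add p q hp hq => simp [add_smul, hp, hq, DirectSum.decompose_add]
    obtain ⟨c, hc⟩ := GrDualLib.deg0_smul 𝒜 (M := DF) h0R
      (SetLike.coe_mem (DirectSum.decompose 𝒜 r 0))
    have h0 : βF (r • d) x = 0 := by rw [← he, hg, LinearMap.mem_ker.1 hxK, map_zero]
    rw [hr, hc, map_smul, LinearMap.smul_apply, smul_eq_mul, mul_eq_zero] at h0
    rw [hr, hc, h0.resolve_right hdx, zero_smul, map_zero, LinearMap.zero_apply]

end Groth.Agent.S19751
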