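import Groth.Statements.S19752
import Groth.Agent.GrDualLib.Main
-- import your own Groth.Agent.* helpers here

set_option autoImplicit false
set_option backward.isDefEq.respectTransparency false
universe u
open GrDual

namespace Groth.Agent.S19752

/-- Let R = ⊕_{n ≥ 0} R_n be a Noetherian graded ring with R_0 = k a field, m = R_+ and k = R/m. Then
the graded k-dual R^* = ⊕_n Hom_k(R_{−n}, k) is the injective envelope of R/m in the category of
graded R-modules: for every injective homomorphism of graded R-modules e : R/m → R^*, the module R^*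
is an injective object of the graded category and every nonzero graded submodule of R^* meets the
image of e. Here a graded ring defined over k is a commutative k-algebra of finite type, graded in
nonnegative degrees by k-subspaces with degree-zero part k·1, and R_+ is the ideal spanned by the
R_n with n > 0 (a Noetherian such ring is the same as one of finite type over k); the graded k-dual
M^* = ⊕_n Hom_k(M_{−n}, k) of a graded R-module M (with r ∈ R acting by (r f)(x) = f(r x)) is
presented abstractly as a graded R-module D with a k-bilinear pairing β : D × M → k compatible with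
the R-actions, under which D_n pairs to zero with M_m for m ≠ −n and is identified with the full
dual space of M_{−n}. -/
theorem result (k : Type u) [Field k] (R : Type u) [CommRing R] [Algebra k R] (𝒜 : ℤ → Submodule k R) [GradedAlgebra 𝒜] (hposR : ∀ n : ℤ, n < 0 → 𝒜 n = ⊥) (h0R : 𝒜 0 = Submodule.span k {(1 : R)}) [Algebra.FiniteType k R] (mR : HomogeneousIdeal 𝒜) (hmR : mR.toIdeal = Ideal.span (⋃ n ∈ Set.Ioi (0 : ℤ), (𝒜 n : Set R))) (D : Type u) [AddCommGroup D] [Module R D] [Module k D] [IsScalarTower k R D] (𝒟 : ℤ → AddSubgroup D) [DirectSum.Decomposition 𝒟] [SetLike.GradedSMul 𝒜 𝒟] (β : D →ₗ[k] R →ₗ[k] k) (hD : GrSeg.IsGDual R 𝒜 𝒟 β) (e : (R ⧸ mR.toIdeal) →ₗ[R] D) (he : Function.Injective e) (hegr : GrLC.IsGrHom (GrLC.quotGr 𝒜 mR) 𝒟 e) : GrLC.IsStarInjHull 𝒜 (GrLC.quotGr 𝒜 mR) 𝒟 e := by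
  classical
  have hext : ∀ d : D, (∀ x : R, β d x = 0) → d = 0 := fun d h => GrDualLib.ext_zero hD h
  refine { injective := he, grHom := hegr, essential := ?_, starInj := ?_ }
  · intro P hP hne
    have hP' := GrDualLib.homog_of_isHomogeneous 𝒟 hP
    obtain ⟨x, hx, hx0⟩ := Submodule.exists_mem_ne_zero_of_ne_bot hne
    obtain ⟨n, hn⟩ := GrDualLib.exists_proj_ne 𝒟 hx0
    have hex : ∃ r ∈ 𝒜 (-n), β (GrDualLib.proj 𝒟 n x) r ≠ 0 := by
      by_contra h
      push Not at h
      exact hn (hD.eq_zero n _ (GrDualLib.proj_mem 𝒟 n x) h)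
    obtain ⟨r, hr, hr0⟩ := hex
    set y := r • GrDualLib.proj 𝒟 n x with hy
    have hyP : y ∈ P := P.smul_mem r (hP' n x hx)
    have hy0 : y ∈ 𝒟 0 := by
      have := GrDualLib.smul_mem 𝒜 𝒟 hr (GrDualLib.proj_mem 𝒟 n x)
      rwa [neg_add_cancel] at this
    have hy1 : β y 1 ≠ 0 := by rwa [hy, hD.map_smul, smul_eq_mul, mul_one]
    set d0 := e (Ideal.Quotient.mk mR.toIdeal 1) with hd0
    have hd0mem : d0 ∈ 𝒟 0 :=
      hegr 0 _ (AddSubgroup.mem_map.2 ⟨1, SetLike.one_mem_graded 𝒜, rfl⟩)
    have hone : ∀ d ∈ 𝒟 0, β d 1 = 0 → d = 0 := by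
      intro d hd h1
      refine hD.eq_zero 0 d hd fun z hz => ?_
      rw [neg_zero] at hz
      obtain ⟨c, hc⟩ := GrDualLib.deg0_smul 𝒜 (M := R) h0R hz
      have h2 := hc 1
      rw [smul_eq_mul, mul_one] at h2
      rw [h2, map_smul, h1, smul_zero]
    have hd1 : β d0 1 ≠ 0 := by
      intro h1
      have h2 : Ideal.Quotient.mk mR.toIdeal 1 = 0 :=
        he ((hone d0 hd0mem h1).trans (map_zero e).symm)
      have hlt : mR.toIdeal ≠ ⊤ := by
        intro htop
        have h3 : (1 : R) ∈ mR.toIdeal • (⊤ : Submodule R R) := by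
          rw [Ideal.smul_eq_mul, Ideal.mul_top, htop]; trivial
        have := GrDualLib.mR_proj_mem 𝒜 𝒜 mR.toIdeal hmR ⊥ 0 (fun i hi z hz => by
          rw [hposR i hi] at hz; simpa using hz) h3
        rw [GrDualLib.proj_of_mem 𝒜 (SetLike.one_mem_graded 𝒜), Submodule.mem_bot] at this
        have : Subsingleton R := subsingleton_of_zero_eq_one this.symm
        exact hy1 (by rw [Subsingleton.elim (1 : R) 0, map_zero])
      exact hlt ((Ideal.eq_top_iff_one _).2 (Ideal.Quotient.eq_zero_iff_mem.1 h2))
    set c := β y 1 / β d0 1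
    have hyeq : y = algebraMap k R c • d0 := by
      rw [algebraMap_smul]
      refine sub_eq_zero.1 (hone _ ?_ ?_)
      · exact sub_mem hy0 ((GrDualLib.pc 𝒜 𝒟 0).smul_mem c hd0mem)
      · rw [map_sub, LinearMap.sub_apply, LinearMap.map_smul β c d0, LinearMap.smul_apply, smul_eq_mul,
          div_mul_cancel₀ _ hd1, sub_self]
    intro hbot
    have hmem : y ∈ P ⊓ LinearMap.range e := ⟨hyP, hyeq ▸ Submodule.smul_mem _ _ ⟨_, rfl⟩⟩
    rw [hbot, Submodule.mem_bot] at hmem
    rw [hmem, map_zero, LinearMap.zero_apply] at hy1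
    exact hy1 rfl
  · intro A B f hf hinj g hg
    letI : Module k A.carrier := Module.compHom _ (algebraMap k R)
    haveI : IsScalarTower k R A.carrier := IsScalarTower.of_algebraMap_smul fun _ _ => rfl
    letI : Module k B.carrier := Module.compHom _ (algebraMap k R)
    haveI : IsScalarTower k R B.carrier := IsScalarTower.of_algebraMap_smul fun _ _ => rfl
    let ψ : A.carrier →ₗ[k] k := (β.flip 1) ∘ₗ g.restrictScalars k
    obtain ⟨φ, hφ⟩ := LinearMap.exists_leftInverse_of_injective (f.restrictScalars k)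
      (LinearMap.ker_eq_bot.2 hinj)
    let lam : B.carrier →ₗ[k] k := ψ ∘ₗ φ ∘ₗ GrDualLib.projₗ 𝒜 B.gr 0
    have hψ : ∀ a, β (g (GrDualLib.proj A.gr 0 a)) 1 = β (g a) 1 := by
      intro a
      induction a using DirectSum.Decomposition.inductionOn A.gr with
      | zero => simp
      | @homogeneous i b =>
        by_cases hi : i = 0
        · subst hi; rw [GrDualLib.proj_of_mem A.gr b.2]
        · rw [GrDualLib.proj_of_mem_ne A.gr b.2 hi, map_zero, map_zero, LinearMap.zero_apply,
            hD.vanish i _ (hg i b b.2) 0 (by omega) 1 (SetLike.one_mem_graded 𝒜)]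
      | add p q hp hq => simp only [map_add, LinearMap.add_apply, hp, hq]
    have hlam : ∀ a, lam (f a) = β (g a) 1 := by
      intro a
      have hmap : GrDualLib.proj B.gr 0 (f a) = f (GrDualLib.proj A.gr 0 a) := by
        induction a using DirectSum.Decomposition.inductionOn A.gr with
        | zero => simp
        | @homogeneous i b =>
          by_cases hi : i = 0
          · subst hi
            rw [GrDualLib.proj_of_mem A.gr b.2, GrDualLib.proj_of_mem B.gr (hf 0 b b.2)]
          · rw [GrDualLib.proj_of_mem_ne A.gr b.2 hi,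
              GrDualLib.proj_of_mem_ne B.gr (hf i b b.2) hi, map_zero]
        | add p q hp hq => simp only [map_add, hp, hq]
      show ψ (φ (GrDualLib.proj B.gr 0 (f a))) = _
      rw [hmap]
      have := LinearMap.congr_fun hφ (GrDualLib.proj A.gr 0 a)
      rw [show φ (f (GrDualLib.proj A.gr 0 a)) = GrDualLib.proj A.gr 0 a from this]
      exact hψ a
    let Ψ : B.carrier →ₗ[k] R →ₗ[k] k :=
      (LinearMap.compr₂ (Algebra.lsmul k k B.carrier).toLinearMap lam).flip
    have hΨ : ∀ b r, Ψ b r = lam (r • b) := fun _ _ => rfl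
    obtain ⟨h, hh, hhe⟩ := GrDualLib.lift hD B.gr Ψ
      (fun r b z => by rw [hΨ, hΨ, smul_smul, mul_comm, smul_eq_mul])
      (fun n b hb m hm z hz => by
        show ψ (φ (GrDualLib.proj B.gr 0 (z • b))) = 0
        rw [GrDualLib.proj_of_mem_ne B.gr (GrDualLib.smul_mem 𝒜 B.gr hz hb) (by omega),
          map_zero, map_zero])
    refine ⟨h, hh, LinearMap.ext fun a => GrDualLib.ext hD fun r => ?_⟩
    rw [LinearMap.comp_apply, hhe, hΨ, ← map_smul f, hlam, map_smul g, hD.map_smul, smul_eq_mul,
      mul_one]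

end Groth.Agent.S19752
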