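import Mathlib
import Groth.Agent.GrKunnethLib.CanonPair
import Groth.Agent.GrKunnethLib.CMSegre
import Groth.Agent.GrKunnethLib.Formula
import Groth.Statements.S19757

set_option autoImplicit false
universe u
open scoped TensorProduct
open GrSegre

namespace Groth.Agent.S19757

/-- Let R and S be graded rings defined over a field k of dimensions r ≥ 2 and s ≥ 2 and T = R # S their
Segre product (of dimension r + s − 1). Then K_T ≅ K_R # K_S: the Segre product of canonical modules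
of R and S is a canonical module of T. Here a graded ring defined over k is a commutative k-algebra
of finite type, graded in nonnegative degrees by k-subspaces with degree-zero part k·1; the Segre
product T = R # S = ⊕_n R_n ⊗_k S_n is presented abstractly as a graded k-algebra T with an
injective k-algebra homomorphism ψ : T → R ⊗_k S carrying T_n onto the k-span of the elementary
tensors a ⊗ b with a ∈ R_n, b ∈ S_n; the Segre product M # N = ⊕_n M_n ⊗_k N_n of a graded R-module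
M and a graded S-module N is presented abstractly as a graded T-module P with an injective k-linear
map φ : P → M ⊗_k N carrying P_n onto the k-span of the tensors x ⊗ y with x ∈ M_n, y ∈ N_n and
turning the action of t ∈ T into that of ψ(t) (acting factorwise on M ⊗_k N); the canonical module
of a graded ring A defined over k with irrelevant ideal A_+ and dim A = d (the graded k-dual of
H^d_{A_+}(A)) is represented by a finitely generated graded A-module C together with an A-linear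
isomorphism from Hom_A(C, E) onto H^d_{A_+}(A) sending maps homogeneous of degree j to classes of
degree j, where E is a *injective envelope of A/A_+ in the graded category and H^d_{A_+}(A) is
computed from a *injective resolution of A in the graded category. (A degree-by-degree dimension
count of the same result is stated separately; this is the module form.) -/
theorem result (k : Type u) [Field k] (R : Type u) [CommRing R] [Algebra k R] (𝒜 : ℤ → Submodule k R) [GradedAlgebra 𝒜] (hposR : ∀ n : ℤ, n < 0 → 𝒜 n = ⊥) (h0R : 𝒜 0 = Submodule.span k {(1 : R)}) [Algebra.FiniteType k R] (S : Type u) [CommRing S] [Algebra k S] (ℬ : ℤ → Submodule k S) [GradedAlgebra ℬ] (hposS : ∀ n : ℤ, n < 0 → ℬ n = ⊥) (h0S : ℬ 0 = Submodule.span k {(1 : S)}) [Algebra.FiniteType k S] (T : Type u) [CommRing T] [Algebra k T] (𝒯 : ℤ → Submodule k T) [GradedAlgebra 𝒯] (ψ : T →ₐ[k] TensorProduct k R S) (hT : GrSeg.IsSegreRing 𝒜 ℬ 𝒯 ψ) (mR : HomogeneousIdeal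 𝒜) (hmR : mR.toIdeal = Ideal.span (⋃ n ∈ Set.Ioi (0 : ℤ), (𝒜 n : Set R))) (I : GrLC.StarInjRes 𝒜 𝒜) (mS : HomogeneousIdeal ℬ) (hmS : mS.toIdeal = Ideal.span (⋃ n ∈ Set.Ioi (0 : ℤ), (ℬ n : Set S))) (J : GrLC.StarInjRes ℬ ℬ) (mT : HomogeneousIdeal 𝒯) (hmT : mT.toIdeal = Ideal.span (⋃ n ∈ Set.Ioi (0 : ℤ), (𝒯 n : Set T))) (IT : GrLC.StarInjRes 𝒯 𝒯) (r s : ℕ) (hr : ringKrullDim R = r) (hs : ringKrullDim S = s) (h2r : 2 ≤ r) (h2s : 2 ≤ s) (ER : Type u) [AddCommGroup ER] [Module R ER] (𝓔R : ℤ → AddSubgroup ER) [DirectSum.Decomposition 𝓔R] [SetLike.GradedSMul 𝒜 𝓔R] (eR : (R ⧸ mR.toIdeal) →ₗ[R] ER) (heR : GrLC.IsStarInjHull 𝒜 (GrLC.quotGr 𝒜 mR) 𝓔R eR) (CR : Type u) [AddCommGroup CR] [Module R CR] [Module k CR] [IsScalarTower k R CR] (𝒞R : ℤ → AddSubgroup CR) [DirectSum.Decomposition 𝒞R] [SetLike.GradedSMul 𝒜 𝒞R] (hCR : GrLC.IsStarCanonical 𝒜 𝒞R 𝓔R mR r I) (ES : Type u) [AddCommGroup ES] [Module S ES] (𝓔S : ℤ → AddSubgroup ES) [DirectSum.Decomposition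 𝓔S] [SetLike.GradedSMul ℬ 𝓔S] (eS : (S ⧸ mS.toIdeal) →ₗ[S] ES) (heS : GrLC.IsStarInjHull ℬ (GrLC.quotGr ℬ mS) 𝓔S eS) (CS : Type u) [AddCommGroup CS] [Module S CS] [Module k CS] [IsScalarTower k S CS] (𝒞S : ℤ → AddSubgroup CS) [DirectSum.Decomposition 𝒞S] [SetLike.GradedSMul ℬ 𝒞S] (hCS : GrLC.IsStarCanonical ℬ 𝒞S 𝓔S mS s J) (ET : Type u) [AddCommGroup ET] [Module T ET] (𝓔T : ℤ → AddSubgroup ET) [DirectSum.Decomposition 𝓔T] [SetLike.GradedSMul 𝒯 𝓔T] (eT : (T ⧸ mT.toIdeal) →ₗ[T] ET) (heT : GrLC.IsStarInjHull 𝒯 (GrLC.quotGr 𝒯 mT) 𝓔T eT) (P : Type u) [AddCommGroup P] [Module T P] [Module k P] [IsScalarTower k T P] (𝒬 : ℤ → AddSubgroup P) [DirectSum.Decomposition 𝒬] [SetLike.GradedSMul 𝒯 𝒬] (φ : P →ₗ[k] TensorProduct k CR CS) (hP : GrSeg.IsSegreMod ψ 𝒞R 𝒞S 𝒬 φ) : GrLC.IsStarCanonical 𝒯 𝒬 𝓔T mT (r + s - 1) IT := by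
  classical
  have hψ := hT.1
  have hdeg : ∀ n : ℤ, (𝒯 n).map ψ.toLinearMap = GrSeg.segrePiece k 𝒜 ℬ n := hT.2
  have H := GrKunnethLib.setting_of hposR h0R hposS h0S hψ hdeg hmR hmS hmT
  haveI := H.noethR
  haveI := H.noethS
  haveI := H.noethT
  haveI : Nontrivial R := by
    by_contra h
    rw [not_nontrivial_iff_subsingleton] at h
    rw [ringKrullDim_eq_bot_of_subsingleton] at hr
    simp at hr
  haveI : Nontrivial S := by
    by_contra h
    rw [not_nontrivial_iff_subsingleton] at h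
    rw [ringKrullDim_eq_bot_of_subsingleton] at hs
    simp at hs
  obtain ⟨hTnt, h0T⟩ := GrKunnethLib.deg0_segre H h0R h0S
  haveI := hTnt
  have hposT : ∀ n : ℤ, n < 0 → 𝒯 n = ⊥ := GrKunnethLib.pos_segre hposR hposS hψ hdeg
  have hMv : ∀ i, r < i → ∀ g, I.Hcomp mR i g = ⊥ := fun i hi g =>
    GrKunnethLib.Hcomp_eq_bot_of_supportDim_lt I mR
      (by rw [Module.supportDim_self_eq_ringKrullDim, hr]; exact_mod_cast hi) g
  have hNv : ∀ i, s < i → ∀ g, J.Hcomp mS i g = ⊥ := fun i hi g =>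
    GrKunnethLib.Hcomp_eq_bot_of_supportDim_lt J mS
      (by rw [Module.supportDim_self_eq_ringKrullDim, hs]; exact_mod_cast hi) g
  haveI : Module.Finite R CR := hCR.1
  haveI : Module.Finite S CS := hCS.1
  haveI : Module.Finite T P := GrKunnethLib.moduleFinite_segre' hposR h0R hposS h0S hdeg hP
  obtain ⟨p, rfl⟩ := Nat.exists_eq_add_of_le' h2r
  obtain ⟨q, rfl⟩ := Nat.exists_eq_add_of_le' h2s
  rw [show p + 2 + (q + 2) - 1 = p + q + 1 + 1 + 1 by omega]
  letI : Module k (I.H mR (p + 1 + 1)) := Module.compHom _ (algebraMap k R)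
  haveI : IsScalarTower k R (I.H mR (p + 1 + 1)) := IsScalarTower.of_algebraMap_smul fun _ _ => rfl
  letI : Module k (J.H mS (q + 1 + 1)) := Module.compHom _ (algebraMap k S)
  haveI : IsScalarTower k S (J.H mS (q + 1 + 1)) := IsScalarTower.of_algebraMap_smul fun _ _ => rfl
  letI : Module k (IT.H mT (p + q + 1 + 1 + 1)) := Module.compHom _ (algebraMap k T)
  haveI : IsScalarTower k T (IT.H mT (p + q + 1 + 1 + 1)) := IsScalarTower.of_algebraMap_smul fun _ _ => rfl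
  letI := (GrInjLib.addPieces_isInternal 𝒜).chooseDecomposition
  letI := (GrInjLib.addPieces_isInternal ℬ).chooseDecomposition
  letI := (GrInjLib.addPieces_isInternal 𝒯).chooseDecomposition
  letI : DirectSum.Decomposition (I.Hgr mR (p + 1 + 1)) :=
    (GrInjLib.H_isInternal (GrInjLib.addRes 𝒜 I) mR (p + 1 + 1)).chooseDecomposition
  letI : DirectSum.Decomposition (J.Hgr mS (q + 1 + 1)) :=
    (GrInjLib.H_isInternal (GrInjLib.addRes ℬ J) mS (q + 1 + 1)).chooseDecomposition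
  letI : DirectSum.Decomposition (IT.Hgr mT (p + q + 1 + 1 + 1)) :=
    (GrInjLib.H_isInternal (GrInjLib.addRes 𝒯 IT) mT (p + q + 1 + 1 + 1)).chooseDecomposition
  haveI : SetLike.GradedSMul 𝒜 (I.Hgr mR (p + 1 + 1)) := ⟨fun {e g c v} hc hv => by
    obtain ⟨z, hz, rfl⟩ := hv
    exact ⟨c • z, GrInjLib.smul_mem 𝒜 (I.X _).gr hc hz, map_smul _ _ _⟩⟩
  haveI : SetLike.GradedSMul ℬ (J.Hgr mS (q + 1 + 1)) := ⟨fun {e g c v} hc hv => by
    obtain ⟨z, hz, rfl⟩ := hv
    exact ⟨c • z, GrInjLib.smul_mem ℬ (J.X _).gr hc hz, map_smul _ _ _⟩⟩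
  haveI : SetLike.GradedSMul 𝒯 (IT.Hgr mT (p + q + 1 + 1 + 1)) := ⟨fun {e g c v} hc hv => by
    obtain ⟨z, hz, rfl⟩ := hv
    exact ⟨c • z, GrInjLib.smul_mem 𝒯 (IT.X _).gr hc hz, map_smul _ _ _⟩⟩
  obtain ⟨β, hβ⟩ := GrKunnethLib.exists_dualPairing (𝒜 := 𝒜) hposR h0R hmR heR (r := p + 1 + 1) hCR
  obtain ⟨β', hβ'⟩ := GrKunnethLib.exists_dualPairing (𝒜 := ℬ) hposS h0S hmS heS (r := q + 1 + 1) hCS
  obtain ⟨Φ, hΦ⟩ := GrKunnethLib.exists_isSegreMod_top H I J (GrKunnethLib.isSegreMod_self hψ hdeg) IT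
    (a := p) (b := q) hMv hNv
  obtain ⟨γ, hγ⟩ := GrKunnethLib.exists_dualPairing_segre (𝒜 := 𝒜) (ℬ := ℬ) hβ hβ' hΦ hP
    (GrKunnethLib.finite_piece h0R) (GrKunnethLib.finite_piece h0S)
  exact GrKunnethLib.isStarCanonical_of_pairing hposT h0T hmT heT hγ

end Groth.Agent.S19757
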