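import Groth.Statements.S19759
import Groth.Agent.GrDualLib.TopH
-- import your own Groth.Agent.* helpers here

set_option autoImplicit false
set_option backward.isDefEq.respectTransparency false
universe u
open GrDual

namespace Groth.Agent.S19759

/-- Let R be a graded ring defined over a field k with m = R_+ and n = dim R, K_R = (H^n_m(R))^* its
canonical module, and M a finitely generated graded R-module. Then (H^n_m(M))^* ≅ Hom_R(M, K_R) as
graded R-modules. Stated here as the existence of an R-linear isomorphism carrying the degree-d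
piece of (H^n_m(M))^* into the maps M → K_R homogeneous of degree d (existence of an isomorphism
only; the published one is natural in M). Here a graded ring defined over k is a commutative
k-algebra of finite type, graded in nonnegative degrees by k-subspaces with degree-zero part k·1,
and R_+ is the ideal spanned by the R_n with n > 0; the graded k-dual M^* = ⊕_n Hom_k(M_{−n}, k) of
a graded R-module M (with r ∈ R acting by (r f)(x) = f(r x)) is presented abstractly as a graded
R-module D with a k-bilinear pairing β : D × M → k compatible with the R-actions, under which D_n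
pairs to zero with M_m for m ≠ −n and is identified with the full dual space of M_{−n}; graded local
cohomology with its homogeneous pieces is computed from *injective resolutions in the graded
category and carries the k-vector space structures given. -/
theorem result (k : Type u) [Field k] (R : Type u) [CommRing R] [Algebra k R] (𝒜 : ℤ → Submodule k R) [GradedAlgebra 𝒜] (hposR : ∀ n : ℤ, n < 0 → 𝒜 n = ⊥) (h0R : 𝒜 0 = Submodule.span k {(1 : R)}) [Algebra.FiniteType k R] (mR : HomogeneousIdeal 𝒜) (hmR : mR.toIdeal = Ideal.span (⋃ n ∈ Set.Ioi (0 : ℤ), (𝒜 n : Set R))) (n : ℕ) (hn : ringKrullDim R = n) (I : GrLC.StarInjRes 𝒜 𝒜) [Module k (I.H mR n)] [IsScalarTower k R (I.H mR n)] [DirectSum.Decomposition (I.Hgr mR n)] (K : Type u) [AddCommGroup K] [Module R K] [Module k K] [IsScalarTower k R K] (𝒦 : ℤ → AddSubgroup K) [DirectSum.Decomposition 𝒦] [SetLike.GradedSMul 𝒜 𝒦] (βK : K →ₗ[k] I.H mR n →ₗ[k] k) (hK : GrSeg.IsGDual R (I.Hgr mR n) 𝒦 βK) (M : Type u) [AddCommGroup M] [Module R M] [Module k M] [IsScalarTower k R M] (ℳ : ℤ → AddSubgroup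 M) [DirectSum.Decomposition ℳ] [SetLike.GradedSMul 𝒜 ℳ] [Module.Finite R M] (EM : GrLC.StarInjRes 𝒜 ℳ) [Module k (EM.H mR n)] [IsScalarTower k R (EM.H mR n)] [DirectSum.Decomposition (EM.Hgr mR n)] (D : Type u) [AddCommGroup D] [Module R D] [Module k D] [IsScalarTower k R D] (𝒟 : ℤ → AddSubgroup D) [DirectSum.Decomposition 𝒟] [SetLike.GradedSMul 𝒜 𝒟] (βD : D →ₗ[k] EM.H mR n →ₗ[k] k) (hD : GrSeg.IsGDual R (EM.Hgr mR n) 𝒟 βD) : ∃ ε : D ≃ₗ[R] (M →ₗ[R] K), GrLC.IsGrHom 𝒟 (fun d : ℤ => (GrLC.homDeg 𝒜 ℳ 𝒦 d).toAddSubgroup) ε.toLinearMap := by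
  classical
  haveI : IsNoetherianRing R := Algebra.FiniteType.isNoetherianRing k R
  let I' : GrLC.StarInjRes 𝒜 (GrInjLib.ringPieces 𝒜) :=
    { X := I.X, d := I.d, ε := I.ε, d_grHom := I.d_grHom, ε_grHom := I.ε_grHom
      ε_injective := I.ε_injective, exact_zero := I.exact_zero, exact_succ := I.exact_succ
      starInj := I.starInj }
  have hW : ∀ g r, r ∈ GrInjLib.ringPieces 𝒜 g ↔ r ∈ 𝒜 g := fun _ _ => Iff.rfl
  let θ : M →+ (I.H mR n →ₗ[R] EM.H mR n) := GrDualLib.theta hW I' EM mR n
  have hθsmul : ∀ (r : R) (x : M) (h : I.H mR n), θ (r • x) h = r • θ x h := fun r x h =>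
    LinearMap.congr_fun (GrDualLib.theta_smul hW I' EM mR n r x) h
  have hθdeg : ∀ (a : ℤ) (x : M), x ∈ ℳ a → ∀ (m : ℤ) (h : I.H mR n), h ∈ I.Hgr mR n m →
      θ x h ∈ EM.Hgr mR n (m + a) := fun a x hx => GrDualLib.theta_deg hW I' EM mR n hx
  have hspan : ∀ y : EM.H mR n, y ∈ Submodule.span R {w | ∃ x h, w = θ x h} :=
    GrDualLib.span_theta hW I' EM mR hn.le
  obtain ⟨κ, hκ, d, x, hx, hgenM, hgen, P₀, hP₀, EK, Z, P, hZ, hP, hker⟩ :=
    GrDualLib.exists_present hW I' EM mR hn.le
  change ∀ y : EM.H mR n, ∃ h : κ → I.H mR n, ∑ j, θ (x j) (h j) = y at hgen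
  -- existence of the map
  have hex : ∀ e : D, ∃ f : M →ₗ[R] K, ∀ v h, βK (f v) h = βD e (θ v h) := by
    intro e
    induction e using DirectSum.Decomposition.inductionOn 𝒟 with
    | zero => exact ⟨0, fun v h => by simp⟩
    | @homogeneous j e =>
      let Ψ : M →ₗ[k] I.H mR n →ₗ[k] k :=
        LinearMap.mk₂ k (fun v h => βD (e : D) (θ v h))
          (fun v w h => by simp [map_add])
          (fun c v h => by
            show βD (e : D) (θ (c • v) h) = c • βD (e : D) (θ v h)
            rw [← algebraMap_smul R c v, hθsmul, algebraMap_smul, LinearMap.map_smul])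
          (fun v h h' => by simp [map_add])
          (fun c v h => by
            show βD (e : D) (θ v (c • h)) = c • βD (e : D) (θ v h)
            rw [← algebraMap_smul R c h, LinearMap.map_smul (θ v), algebraMap_smul,
              LinearMap.map_smul])
      obtain ⟨f, -, hf⟩ := GrDualLib.liftDeg hK ℳ Ψ (fun r v h => by
        show βD (e : D) (θ (r • v) h) = βD (e : D) (θ v (r • h))
        rw [hθsmul, LinearMap.map_smul (θ v)]) j (fun a v hv m hm h hh =>
          hD.vanish j e e.2 (m + a) (by omega) _ (hθdeg a v hv m h hh))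
      exact ⟨f, hf⟩
    | add a b ha hb =>
      obtain ⟨f, hf⟩ := ha
      obtain ⟨g, hg⟩ := hb
      exact ⟨f + g, fun v h => by simp [hf, hg]⟩
  choose ε hε using hex
  let εl : D →ₗ[R] (M →ₗ[R] K) :=
    { toFun := ε
      map_add' := fun a b => LinearMap.ext fun v => GrDualLib.ext hK fun h => by
        simp only [LinearMap.add_apply, map_add, hε]
      map_smul' := fun r a => LinearMap.ext fun v => GrDualLib.ext hK fun h => by
        simp only [RingHom.id_apply, LinearMap.smul_apply, hε, hK.map_smul, hD.map_smul,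
          LinearMap.map_smul (θ v) r h] }
  have hinj : Function.Injective εl := by
    intro a b hab
    refine GrDualLib.ext hD fun y => ?_
    have key : ∀ r : R, βD a (r • y) = βD b (r • y) := by
      induction hspan y using Submodule.span_induction with
      | mem w hw =>
        obtain ⟨v, h, rfl⟩ := hw
        intro r
        rw [← hθsmul, ← hε, ← hε]
        exact congrArg (fun f : M →ₗ[R] K => βK (f (r • v)) h) hab
      | zero => simp
      | add u w _ _ hu hw => intro r; simp only [smul_add, map_add, hu r, hw r]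
      | smul c u _ hu => intro r; rw [smul_smul]; exact hu _
    simpa using key 1
  have hsurj : Function.Surjective εl := by
    intro f
    let A : (κ → I.H mR n) →ₗ[k] EM.H mR n :=
      ∑ j, (θ (x j)).restrictScalars k ∘ₗ LinearMap.proj j
    let B : (κ → I.H mR n) →ₗ[k] k := ∑ j, (βK (f (x j))) ∘ₗ LinearMap.proj j
    have hA : ∀ h, A h = ∑ j, θ (x j) (h j) := fun h => by simp [A]
    have hB : ∀ h, B h = ∑ j, βK (f (x j)) (h j) := fun h => by simp [B]
    have hAs : Function.Surjective A := fun y => (hgen y).imp fun h hh => (hA h).trans hh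
    have hAB : LinearMap.ker A ≤ LinearMap.ker B := by
      intro h hh
      rw [LinearMap.mem_ker, hA] at hh
      obtain ⟨v, rfl⟩ := hker h hh
      rw [LinearMap.mem_ker, hB]
      clear hh
      suffices key : ∀ r : R, ∑ j, βK (f (x j)) (r • P v j) = 0 by
        have h1 := key 1
        simp only [one_smul] at h1
        exact h1
      haveI := hP₀
      induction GrDualLib.span_theta hW I' EK mR hn.le v using Submodule.span_induction with
      | mem w hw =>
        obtain ⟨z, h', rfl⟩ := hw
        intro r
        calc ∑ j, βK (f (x j)) (r • P (GrDualLib.theta hW I' EK mR n z h') j)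
            = ∑ j, βK (f (x j)) ((Z z j) • ((r • h' : I.H mR n))) := by
              refine Finset.sum_congr rfl fun j _ => ?_
              rw [hP, smul_comm]
          _ = βK (f (∑ j, Z z j • x j)) (r • h') := by
              rw [map_sum, map_sum, LinearMap.sum_apply]
              exact Finset.sum_congr rfl fun j _ => by
                rw [LinearMap.map_smul f, hK.map_smul]
          _ = 0 := by rw [hZ, map_zero, map_zero, LinearMap.zero_apply]
      | zero => intro r; simp
      | add u w _ _ hu hw =>
        intro r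
        simp only [map_add, Pi.add_apply, smul_add, Finset.sum_add_distrib, hu r, hw r, add_zero]
      | smul c u _ hu =>
        intro r
        simp only [map_smul, Pi.smul_apply, smul_smul]
        exact hu _
    obtain ⟨s, hs⟩ := A.exists_rightInverse_of_surjective (LinearMap.range_eq_top.2 hAs)
    let lam : EM.H mR n →ₗ[k] k := B ∘ₗ s
    have hlam : ∀ v h, lam (θ v h) = βK (f v) h := by
      intro v h
      obtain ⟨c, rfl⟩ := hgenM v
      have h1 : θ (∑ j, c j • x j) h = A fun j => c j • h := by
        rw [hA, map_sum, LinearMap.sum_apply]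
        exact Finset.sum_congr rfl fun j _ => by rw [hθsmul, LinearMap.map_smul (θ (x j))]
      have h2 : B (fun j => c j • h) = βK (f (∑ j, c j • x j)) h := by
        rw [hB, map_sum, map_sum, LinearMap.sum_apply]
        exact Finset.sum_congr rfl fun j _ => by rw [LinearMap.map_smul f, hK.map_smul]
      rw [← h2, h1]
      show B (s (A _)) = B _
      rw [← sub_eq_zero, ← map_sub]
      refine hAB ?_
      rw [LinearMap.mem_ker, map_sub, sub_eq_zero]
      exact LinearMap.congr_fun hs _
    have hcomp : ∀ g : ℤ, ∀ y ∈ EM.Hgr mR n g, ∃ h : κ → I.H mR n,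
        (∀ j, h j ∈ I.Hgr mR n (g - d j)) ∧ ∑ j, θ (x j) (h j) = y := by
      intro g y hy
      obtain ⟨h, rfl⟩ := hgen y
      refine ⟨fun j => GrDualLib.proj (I.Hgr mR n) (g - d j) (h j),
        fun j => GrDualLib.proj_mem _ _ _, ?_⟩
      rw [← GrDualLib.proj_of_mem (EM.Hgr mR n) hy, map_sum]
      refine Finset.sum_congr rfl fun j _ => ?_
      suffices key : ∀ w, θ (x j) (GrDualLib.proj (I.Hgr mR n) (g - d j) w) =
          GrDualLib.proj (EM.Hgr mR n) g (θ (x j) w) from key (h j)
      intro w
      induction w using DirectSum.Decomposition.inductionOn (I.Hgr mR n) with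
      | zero => simp
      | @homogeneous i w =>
        by_cases hi : i = g - d j
        · subst hi
          have h2 := hθdeg (d j) (x j) (hx j) _ _ w.2
          rw [sub_add_cancel] at h2
          rw [GrDualLib.proj_of_mem (I.Hgr mR n) w.2, GrDualLib.proj_of_mem (EM.Hgr mR n) h2]
        · rw [GrDualLib.proj_of_mem_ne (I.Hgr mR n) w.2 hi,
            GrDualLib.proj_of_mem_ne (EM.Hgr mR n) (hθdeg (d j) (x j) (hx j) _ _ w.2) (by omega),
            map_zero]
      | add p q hp hq => simp only [map_add, hp, hq]
    choose N hN using fun j => GrDualLib.exists_proj_eq_zero 𝒦 (f (x j))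
    let T : Finset ℤ := Finset.univ.biUnion fun j => Finset.Icc (d j - N j) (d j + N j)
    have hT : ∀ g, g ∉ T → ∀ y ∈ EM.Hgr mR n g, lam y = 0 := by
      intro g hg y hy
      obtain ⟨h, hh, rfl⟩ := hcomp g y hy
      rw [map_sum]
      refine Finset.sum_eq_zero fun j _ => ?_
      rw [hlam, GrDualLib.pair_proj_left hK _ (hh j)]
      have hj : g ∉ Finset.Icc (d j - N j) (d j + N j) := fun hmem =>
        hg (Finset.mem_biUnion.2 ⟨j, Finset.mem_univ _, hmem⟩)
      rw [hN j _ ?_, map_zero, LinearMap.zero_apply]
      rw [Finset.mem_Icc] at hj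
      rw [Int.abs_eq_natAbs]
      omega
    choose e he hee using fun g : ℤ => hD.exists_eq (-g) lam
    refine ⟨∑ g ∈ T, e g, LinearMap.ext fun v => GrDualLib.ext hK fun h => ?_⟩
    show βK (ε (∑ g ∈ T, e g) v) h = _
    rw [hε, ← hlam v h]
    generalize θ v h = y
    induction y using DirectSum.Decomposition.inductionOn (EM.Hgr mR n) with
    | zero => simp
    | @homogeneous g y =>
      rw [map_sum, LinearMap.sum_apply]
      by_cases hg : g ∈ T
      · rw [Finset.sum_eq_single g (fun b _ hb => hD.vanish (-b) (e b) (he b) g (by omega) y y.2)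
          (fun hn' => absurd hg hn'), hee g y (by rw [neg_neg]; exact y.2)]
      · rw [hT g hg y y.2]
        exact Finset.sum_eq_zero fun b hb =>
          hD.vanish (-b) (e b) (he b) g (by rintro rfl; exact hg (by simpa using hb)) y y.2
    | add p q hp hq => simp only [map_add, hp, hq]
  refine ⟨LinearEquiv.ofBijective εl ⟨hinj, hsurj⟩, fun j e he => ?_⟩
  intro a v hv
  exact GrDualLib.mem_piece hK fun m hm h hh => by
    show βK (ε e v) h = 0
    rw [hε]
    exact hD.vanish j e he (m + a) (by omega) _ (hθdeg a v hv m h hh)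

end Groth.Agent.S19759
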