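import Groth.Statements.S19760
import Groth.Agent.GrDualLib.Main
-- import your own Groth.Agent.* helpers here

set_option autoImplicit false
set_option backward.isDefEq.respectTransparency false
universe u
open GrDual

namespace Groth.Agent.S19760

/-- Let R = ⊕_{n ≥ 0} R_n be a Noetherian graded ring with R_0 = k a field and R^* = ⊕_n Hom_k(R_{−n},
k) its graded k-dual. A graded R-module M is Artinian exactly when, for some t and some integer
shifts n_1, …, n_t, it embeds as a graded module into the direct sum of the shifted duals R^*(n_1),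
…, R^*(n_t), that is, when there is an injective R-linear map M → (R^*)^t whose i-th component
carries M_g into R^*_{g+n_i} for every g. Here a graded ring defined over k is a commutative
k-algebra of finite type, graded in nonnegative degrees by k-subspaces with degree-zero part k·1,
and R_+ is the ideal spanned by the R_n with n > 0 (a Noetherian such ring is the same as one of
finite type over k); the graded k-dual M^* = ⊕_n Hom_k(M_{−n}, k) of a graded R-module M (with r ∈ R
acting by (r f)(x) = f(r x)) is presented abstractly as a graded R-module D with a k-bilinear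
pairing β : D × M → k compatible with the R-actions, under which D_n pairs to zero with M_m for m ≠
−n and is identified with the full dual space of M_{−n}. -/
theorem result (k : Type u) [Field k] (R : Type u) [CommRing R] [Algebra k R] (𝒜 : ℤ → Submodule k R) [GradedAlgebra 𝒜] (hposR : ∀ n : ℤ, n < 0 → 𝒜 n = ⊥) (h0R : 𝒜 0 = Submodule.span k {(1 : R)}) [Algebra.FiniteType k R] (D : Type u) [AddCommGroup D] [Module R D] [Module k D] [IsScalarTower k R D] (𝒟 : ℤ → AddSubgroup D) [DirectSum.Decomposition 𝒟] [SetLike.GradedSMul 𝒜 𝒟] (β : D →ₗ[k] R →ₗ[k] k) (hD : GrSeg.IsGDual R 𝒜 𝒟 β) (M : Type u) [AddCommGroup M] [Module R M] [Module k M] [IsScalarTower k R M] (ℳ : ℤ → AddSubgroup M) [DirectSum.Decomposition ℳ] [SetLike.GradedSMul 𝒜 ℳ] : IsArtinian R M ↔ ∃ (t : ℕ) (sh : Fin t → ℤ) (f : M →ₗ[R] (Fin t → D)), Function.Injective f ∧ ∀ (i : Fin t) (g : ℤ) (x : M), x ∈ ℳ g → f x i ∈ 𝒟 (g + sh i) := by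
  classical
  haveI : IsNoetherianRing R := Algebra.FiniteType.isNoetherianRing k R
  constructor
  · intro hM
    let Ψ : ℤ → Module.Dual k M → (M →ₗ[k] R →ₗ[k] k) := fun n lam =>
      (LinearMap.compr₂ (Algebra.lsmul k k M).toLinearMap
        (lam ∘ₗ GrDualLib.projₗ 𝒜 ℳ n)).flip
    have hΨ : ∀ n lam x r, Ψ n lam x r = lam (GrDualLib.proj ℳ n (r • x)) := fun _ _ _ _ => rfl
    have hex : ∀ p : ℤ × Module.Dual k M, ∃ f : M →ₗ[R] D, GrLC.IsGrHomDeg ℳ 𝒟 f (-p.1) ∧
        ∀ x r, β (f x) r = Ψ p.1 p.2 x r := by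
      intro p
      refine GrDualLib.liftDeg hD ℳ (Ψ p.1 p.2) (fun r x y => ?_) (-p.1) fun g x hx m hm y hy => ?_
      · rw [hΨ, hΨ, smul_smul, mul_comm, smul_eq_mul]
      · rw [hΨ, GrDualLib.proj_of_mem_ne ℳ (GrDualLib.smul_mem 𝒜 ℳ hy hx) (by omega), map_zero]
    choose f hf hfe using hex
    let S : Set (Submodule R M) := {Q | ∃ s : Finset (ℤ × Module.Dual k M),
      Q = s.inf fun p => LinearMap.ker (f p)}
    obtain ⟨_, ⟨s, rfl⟩, hmin⟩ := IsArtinian.set_has_minimal S ⟨_, ∅, rfl⟩
    have hbot : (s.inf fun p => LinearMap.ker (f p)) = ⊥ := by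
      by_contra hne
      obtain ⟨x, hx, hx0⟩ := Submodule.exists_mem_ne_zero_of_ne_bot hne
      obtain ⟨n, hn⟩ := GrDualLib.exists_proj_ne ℳ hx0
      obtain ⟨lam, hlam⟩ := Module.Projective.exists_dual_ne_zero k hn
      refine hmin _ ⟨insert (n, lam) s, rfl⟩ ?_
      refine lt_of_le_not_ge (Finset.inf_mono (Finset.subset_insert _ _)) fun hge => ?_
      have h2 : f (n, lam) x = 0 := by
        have h3 := hge hx
        rw [Finset.inf_insert] at h3
        exact h3.1
      refine hlam ?_
      have h4 := hfe (n, lam) x 1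
      rw [h2, map_zero, LinearMap.zero_apply, hΨ, one_smul] at h4
      exact h4.symm
    let e := s.equivFin
    refine ⟨s.card, fun i => -((e.symm i : ℤ × Module.Dual k M)).1,
      LinearMap.pi fun i => f (e.symm i), ?_, fun i g x hx => hf _ g x hx⟩
    rw [← LinearMap.ker_eq_bot, eq_bot_iff, ← hbot]
    intro x hx
    rw [Submodule.mem_finsetInf]
    intro p hp
    have := congrFun (LinearMap.mem_ker.1 hx) (e ⟨p, hp⟩)
    simpa using this
  · rintro ⟨t, sh, f, hf, -⟩
    haveI : IsArtinian R D := GrDualLib.isArtinian_dual 𝒜 hposR h0R hD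
    exact isArtinian_of_injective f hf

end Groth.Agent.S19760
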