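import Groth.Statements.S19767
import Groth.Agent.AVLib.KL
-- import your own Groth.Agent.* helpers here

set_option autoImplicit false
universe u
open CategoryTheory MonoidalCategory CartesianMonoidalCategory MonObj GrpObj AlgebraicGeometry
open AbVar

namespace Groth.Agent.S19767

/-- Let X be an abelian variety over a field k (a proper, geometrically integral k-group scheme), L an
invertible O_X-module, T a k-scheme, x : T → X a T-valued point with translation t_x : X_T → X_T,
and L_T the inverse image of L on X_T = X ×_k T. If an O_T-module M satisfies L_T ⊗ pr_T^*M ≅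
t_x^*L_T (that is, t_x^*L_T ⊗ L_T⁻¹ ≅ pr_T^*M), then M ≅ x^*L (existence of an isomorphism). (The
published statement takes M invertible; invertibility is not needed.) -/
theorem result (k : Type u) [Field k] (X : Over (Spec (CommRingCat.of k)))
    [GrpObj X] [IsProper X.hom] [GeometricallyIntegral X.hom] (L : X.left.Modules) (hL : PicF.IsInvertible L)
    (T : Over (Spec (CommRingCat.of k))) (x : T ⟶ X) (M : T.left.Modules)
    (h : Nonempty (CohB1.tensorMod ((Scheme.Modules.pullback (fst X T).left).obj L)
          ((Scheme.Modules.pullback (snd X T).left).obj M) ≅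
        (Scheme.Modules.pullback (ThetaGrp.transl X x ≫ fst X T).left).obj L)) :
    Nonempty (M ≅ (Scheme.Modules.pullback x.left).obj L) := by
  obtain ⟨e⟩ := h
  let s : T.left ⟶ (X ⊗ T).left := (AVLib.unitSec (A := X) (T := T)).left
  have hs : s ≫ (snd X T).left = 𝟙 _ := congrArg CommaMorphism.left (lift_snd (1 : T ⟶ X) (𝟙 T))
  have ht : (AVLib.unitSec (A := X) (T := T)) ≫ ThetaGrp.transl X x ≫ fst X T = x := by
    rw [ThetaGrp.transl_fst, AVLib.unitSec, MonObj.comp_mul, lift_fst, lift_snd_assoc, Category.id_comp, _root_.one_mul]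
  have h1 : PicLib.cls (AmpleLib.isInvertible_pullback s (AmpleLib.isInvertible_pullback (fst X T).left hL)) = 1 := by
    show PicLib.pull (AVLib.unitSec (A := X) (T := T)).left (PicLib.pull (fst X T).left (PicLib.cls hL)) = 1
    rw [AVLib.pull_left_comp, AVLib.unitSec, lift_fst, AVLib.pull_one]
  obtain ⟨e₁⟩ := (PicLib.cls_eq_one _).1 h1
  exact ⟨(Scheme.Modules.pullbackId T.left).symm.app M ≪≫ (Scheme.Modules.pullbackCongr hs.symm).app M ≪≫
    ((Scheme.Modules.pullbackComp s (snd X T).left).app M).symm ≪≫ (AmpleLib.unitL _).symm ≪≫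
    AmpleLib.tIso e₁.symm (Iso.refl _) ≪≫ (AmpleLib.pullTensor s _ _).symm ≪≫
    (Scheme.Modules.pullback s).mapIso e ≪≫
    (Scheme.Modules.pullbackComp s (ThetaGrp.transl X x ≫ fst X T).left).app L ≪≫
    (Scheme.Modules.pullbackCongr (congrArg CommaMorphism.left ht)).app L⟩

end Groth.Agent.S19767
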