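import Groth.Statements.S1977
import Groth.Agent.WEField.Basic
-- import your own Groth.Agent.* helpers here

set_option autoImplicit false
universe u
open EtAlg

namespace Groth.Agent.S1977

/-- Let K be a field and A a K-algebra. The supremum of the weakly etale K-subalgebras of A is itself
weakly etale over K; it is therefore the largest weakly etale K-subalgebra of A. -/
theorem result (K : Type u) [Field K] (A : Type u) [CommRing A] [Algebra K A] :
    Algebra.WeaklyEtale K ↥(EtAlgD.maxWeaklyEtale K A) := by
  unfold EtAlgD.maxWeaklyEtale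
  refine WEField.weaklyEtale_sSup _ ⟨⊥, ?_⟩ ?_ fun S hS => hS
  · show Algebra.WeaklyEtale K ↥(⊥ : Subalgebra K A)
    exact WEField.weaklyEtale_of_surjective ((Algebra.ofId K A).codRestrict ⊥ fun k => (⊥ : Subalgebra K A).algebraMap_mem k)
      (fun x => by
        obtain ⟨k, hk⟩ := Algebra.mem_bot.1 x.2
        exact ⟨k, Subtype.ext hk⟩)
  · intro S hS T hT
    haveI : Algebra.WeaklyEtale K S := hS
    haveI : Algebra.WeaklyEtale K T := hT
    exact ⟨S ⊔ T, WEField.weaklyEtale_sup S T, le_sup_left, le_sup_right⟩

end Groth.Agent.S1977
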