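import Groth.Statements.S19771
import Groth.Agent.AVLib.Isogeny
import Groth.Agent.AmpleLib.Rel

set_option autoImplicit false
universe u
open CategoryTheory MonoidalCategory CartesianMonoidalCategory MonObj GrpObj AlgebraicGeometry
open AbSch

namespace Groth.Agent.S19771

open Groth.Agent Groth.Agent.PicLib Groth.Agent.AmpleLib

set_option backward.isDefEq.respectTransparency false in
/-- Along a point of the kernel, the class times its symmetric comes from the base. -/
theorem pull_mul_pull_inv {S : Scheme.{u}} {A T : Over S} [GrpObj A] {L : A.left.Modules}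
    (hL : PicF.IsInvertible L) (z : T ⟶ A) (h : ThetaGrp.IsMumfordTriv A L z) :
    pull z.left (cls hL) * pull (z⁻¹).left (cls hL) =
      pull T.hom (pull (η[A] : 𝟙_ _ ⟶ A).left (cls hL) * pull (η[A] : 𝟙_ _ ⟶ A).left (cls hL)) := by
  obtain ⟨M, hM, h⟩ := h
  have hw : ((A ◁ z) ≫ μ[A]).left = (fst A T * (snd A T ≫ z)).left :=
    congrArg CommaMorphism.left (by rw [Hom.mul_def]; congr 1)
  unfold AgPol.IsLambdaSheaf at h
  rw [hw] at h
  have key : pull (snd A T).left (cls hM) * pull (fst A T).left (cls hL) * pull (snd A T ≫ z).left (cls hL) =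
      pull (fst A T * (snd A T ≫ z)).left (cls hL) := by
    simp only [pull_cls, ← cls_tensor]
    exact (cls_eq_cls _ _).2 h
  have at' : ∀ w : T ⟶ A, cls hM * pull w.left (cls hL) * pull z.left (cls hL) = pull (w * z).left (cls hL) :=
    fun w => by
    have h1 := congrArg (pull (lift w (𝟙 T)).left) key
    simp only [map_mul, ← pull_comp, ← Over.comp_left, lift_fst, lift_snd, lift_snd_assoc, Category.id_comp,
      MonObj.comp_mul, Over.id_left, pull_id] at h1
    exact h1
  have e1 : cls hM * pull (1 : T ⟶ A).left (cls hL) = 1 := by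
    have h1 := at' 1
    rw [_root_.one_mul] at h1
    exact mul_eq_right.1 h1
  have e2 := at' z⁻¹
  rw [inv_mul_cancel] at e2
  have e3 : pull (1 : T ⟶ A).left (cls hL) = pull T.hom (pull (η[A] : 𝟙_ _ ⟶ A).left (cls hL)) := by
    rw [Hom.one_def, Over.comp_left, pull_comp]
    rfl
  rw [map_mul, ← e3]
  calc pull z.left (cls hL) * pull (z⁻¹).left (cls hL)
      = cls hM * pull (1 : T ⟶ A).left (cls hL) * (pull z.left (cls hL) * pull (z⁻¹).left (cls hL)) := by
        rw [e1, _root_.one_mul]
    _ = (cls hM * pull (z⁻¹).left (cls hL) * pull z.left (cls hL)) * pull (1 : T ⟶ A).left (cls hL) := by ac_rfl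
    _ = _ := by rw [e2]

/-- Let S be a scheme, A an abelian scheme over S (an S-group scheme whose structure morphism is proper
and smooth with geometrically connected fibres), L an O_A-module that is ample relative to A → S
(the structure morphism is quasi-compact and L restricted to the preimage of every affine open of S
is ample; in particular L is invertible), and i : K → A a closed immersion of S-schemes exhibiting K
as K(L): the maximal closed subscheme over which the Mumford bundle m^*L ⊗ p_1^*L⁻¹ ⊗ p_2^*L⁻¹ on A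
×_S A, restricted to A ×_S K, is the inverse image of an invertible module on K, with its universal
property for S-morphisms T → A. Then K is finite over S. -/
theorem result {S : Scheme.{u}} (A : Over S)
    [GrpObj A] [IsProper A.hom] [Smooth A.hom] [GeometricallyConnected A.hom] (L : A.left.Modules)
    (hL : RelAmple.IsRelAmple A.hom L)
    (K : Over S) (i : K ⟶ A) (hK : ThetaGrp.IsKL A L i) :
    IsFinite K.hom := by
  have hI := isInvertible_of_isRelAmple hL
  haveI := hK.closed
  haveI : IsProper (i.left ≫ A.hom) := inferInstance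
  haveI : IsProper K.hom := Over.w i ▸ ‹IsProper (i.left ≫ A.hom)›
  have hz := pull_mul_pull_inv hI i ((hK.univ K i).2 ⟨𝟙 K, Category.id_comp i⟩)
  haveI : IsIso ((𝟙 A)⁻¹ : A ⟶ A) :=
    ⟨(𝟙 A)⁻¹, by rw [GrpObj.comp_inv, Category.comp_id, _root_.inv_inv], by rw [GrpObj.comp_inv, Category.comp_id, _root_.inv_inv]⟩
  haveI : IsIso ((𝟙 A)⁻¹ : A ⟶ A).left := inferInstanceAs (IsIso ((Over.forget _).map ((𝟙 A)⁻¹ : A ⟶ A)))
  haveI : LocallyQuasiFinite K.hom := locallyQuasiFinite_iff_isFinite_fiber.2 fun s => by
    haveI : IsProper (K.hom.fiberToSpecResidueField s) :=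
      MorphismProperty.pullback_snd (P := @IsProper) _ _ inferInstance
    haveI : CompactSpace ↥(K.hom.fiber s) :=
      QuasiCompact.compactSpace_of_compactSpace (K.hom.fiberToSpecResidueField s)
    let j := K.hom.fiberι s
    obtain ⟨_, ⟨V, hV, rfl⟩, hsV, -⟩ :=
      S.isBasis_affineOpens.exists_subset_of_mem_open (Set.mem_univ s) isOpen_univ
    let U := A.hom ⁻¹ᵁ V
    have hAmp : CohB1.IsAmple (L.restrict U.ι) := hL.2 ⟨V, hV⟩
    let g : ∀ w : K ⟶ A, K.hom.fiber s ⟶ (U : Scheme.{u}) := fun w =>
      IsOpenImmersion.lift U.ι (j ≫ w.left) (by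
        rintro _ ⟨x, rfl⟩
        rw [Scheme.Opens.range_ι]
        have h1 : A.hom (w.left (j x)) = s := by
          rw [← Scheme.Hom.comp_apply w.left A.hom, Over.w w]
          exact (K.hom.range_fiberι s).le ⟨x, rfl⟩
        show A.hom ((j ≫ w.left) x) ∈ V
        rw [Scheme.Hom.comp_apply, h1]
        exact hsV)
    have hg : ∀ w : K ⟶ A, g w ≫ U.ι = j ≫ w.left := fun w => IsOpenImmersion.lift_fac _ _ _
    have hA : ∀ w : K ⟶ A, IsClosedImmersion w.left →
        CohB1.IsAmple ((Scheme.Modules.pullback (g w)).obj (L.restrict U.ι)) := fun w hw => by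
      refine isAmple_pullback_of_isInducing (g w) ?_ hAmp
      refine U.ι.isEmbedding.isInducing.of_comp_iff.1 ?_
      rw [← TopCat.coe_comp, ← Scheme.Hom.comp_base, hg, Scheme.Hom.comp_base, TopCat.coe_comp]
      exact w.left.isEmbedding.isInducing.comp j.isEmbedding.isInducing
    have hc : ∀ w : K ⟶ A, IsClosedImmersion w.left → ∃ (M : (K.hom.fiber s).Modules) (hM : CohB1.IsAmple M),
        cls hM.1 = pull j (pull w.left (cls hI)) := fun w hw => by
      refine ⟨_, hA w hw, ?_⟩
      have e : cls hAmp.1 = pull U.ι (cls hI) := by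
        rw [pull_cls]
        exact (cls_eq_cls _ _).2 ⟨(Scheme.Modules.restrictFunctorIsoPullback U.ι).app L⟩
      rw [← pull_cls (g w) hAmp.1, e, ← pull_comp, ← pull_comp, hg]
    have hinv : IsClosedImmersion (i⁻¹).left := by
      rw [show i⁻¹ = i ≫ (𝟙 A)⁻¹ by rw [GrpObj.comp_inv, Category.comp_id], Over.comp_left]
      infer_instance
    obtain ⟨M₁, h₁, e₁⟩ := hc i inferInstance
    obtain ⟨M₂, h₂, e₂⟩ := hc i⁻¹ hinv
    have ht := AmpleLib.isAmple_tensor h₁ h₂
    have h1 : cls ht.1 = 1 := by
      rw [show cls ht.1 = cls h₁.1 * cls h₂.1 from rfl, e₁, e₂, ← map_mul, hz, ← pull_comp,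
        K.hom.fiber_fac s, pull_comp]
      rw [show ∀ c, pull (S.fromSpecResidueField s) c = 1 from fun c => eq_one_of_local _, map_one]
    obtain ⟨e'⟩ := (cls_eq_one _).1 h1
    exact AVLib.isFinite_of_isAmple_unit (K.hom.fiberToSpecResidueField s) (isAmple_of_iso e' ht)
  exact IsFinite.of_isProper_of_locallyQuasiFinite K.hom

end Groth.Agent.S19771
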