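import Groth.Statements.S19775
import Groth.Agent.WeilAVLib.DualTr
import Groth.Agent.AVLib.KL

set_option autoImplicit false
universe u
open CategoryTheory MonoidalCategory CartesianMonoidalCategory MonObj GrpObj AlgebraicGeometry
open AbVar

namespace Groth.Agent.S19775

open CategoryTheory CategoryTheory.Limits AlgebraicGeometry

open Groth.Agent
set_option backward.isDefEq.respectTransparency false
set_option synthInstance.maxHeartbeats 400000
set_option maxHeartbeats 1000000

/-- Let X be an abelian variety over a field k (a proper, geometrically integral k-group scheme), (X^t,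
φ) a given dual abelian variety of X for the fppf topology (φ sends classes of modules on X ×_k T
algebraically trivial on the geometric fibres to T-valued points of X^t), L an invertible
O_X-module, and λ : X → X^t the homomorphism φ_L attached to L through φ (the X-valued point of X^t
that φ assigns to the class of an invertible module N on X ×_k X with N ⊗ p_1^*L ⊗ p_2^*L ≅ m^*L, a
Mumford module of L). Let i : K → X be a closed immersion exhibiting K as K(L) (the maximal closed
subscheme over which the Mumford bundle, restricted to X ×_k K, is the inverse image of an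
invertible module on K, with its universal property). Then K(L) is the kernel of φ_L: the square
with sides i, K → Spec k, λ and the unit Spec k → X^t is cartesian. (The published statement makes
this assertion for L ample, together with φ_L being an isogeny and the dimension count for the dual;
the kernel identification is the translation description of the points of K(L) read through the
Picard functor and holds for every invertible L, as stated here; the isogeny and dimension
assertions are not part of this row.) -/
theorem result (k : Type u) [Field k] (X Xt : Over (Spec (CommRingCat.of k)))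
    [GrpObj X] [IsProper X.hom] [GeometricallyIntegral X.hom]
    [GrpObj Xt] [IsProper Xt.hom] [GeometricallyIntegral Xt.hom]
    (φ : ∀ T : Over (Spec (CommRingCat.of k)), PicF.Cl (PicF.XT X.hom T) → (T ⟶ Xt))
    (hφ : AbDual.IsDualAV Scheme.fppfPrecoverage X Xt φ)
    (L : X.left.Modules) (hL : PicF.IsInvertible L) (lam : X ⟶ Xt) (hlam : AgPol.IsLambda X Xt φ L lam)
    (K : Over (Spec (CommRingCat.of k))) (i : K ⟶ X) (hK : ThetaGrp.IsKL X L i) :
    AlgGrp.IsKernel i lam := by
  haveI := AVLib.isCommMonObj (A := X)
  haveI : GeometricallyConnected X.hom := ⟨fun L _ y Z a b H => by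
    haveI : IsIntegral Z := GeometricallyIntegral.geometrically_isIntegral (f := X.hom) y a b H
    infer_instance⟩
  set d := PicLib.cls hL with hd
  obtain ⟨N, hN, ⟨e⟩, rfl⟩ := hlam
  have hNc : PicLib.cls hN = WeilAVLib.lamCl d := by
    have hp := AmpleLib.isInvertible_pullback (fst X X).left hL
    have hq := AmpleLib.isInvertible_pullback (snd X X).left hL
    have hm := AmpleLib.isInvertible_pullback μ[X].left hL
    have h := (PicLib.cls_eq_cls (AmpleLib.isInvertible_tensor (AmpleLib.isInvertible_tensor hN hp) hq) hm).2 ⟨e⟩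
    rw [PicLib.cls_tensor (AmpleLib.isInvertible_tensor hN hp) hq, PicLib.cls_tensor hN hp, ← PicLib.pull_cls _ hL,
      ← PicLib.pull_cls _ hL, ← PicLib.pull_cls _ hL] at h
    rw [WeilAVLib.lamCl, DegPolyLib.bil, DegPolyLib.phi, DegPolyLib.phi, DegPolyLib.phi,
      show (fst X X * snd X X).left = μ[X].left from by rw [Hom.mul_def, lift_fst_snd, Category.id_comp],
      eq_div_iff_mul_eq', ← _root_.mul_assoc]
    exact h
  have hz : AbDualLib.IsPZ X X (WeilAVLib.lamCl d) := by
    refine AbDualLib.isPZ_of_family η[X] ?_
    rw [WeilAVLib.XTmap_eq]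
    show PicLib.pull (X ◁ η[X]).left (DegPolyLib.bil d (fst X X) (snd X X)) = 1
    rw [WeilAVLib.pull_bil, whiskerLeft_fst, whiskerLeft_snd,
      show snd X (𝟙_ _) ≫ η[X] = (1 : X ⊗ 𝟙_ (Over (Spec (CommRingCat.of k))) ⟶ X) from by
        rw [Hom.one_def, toUnit_unique (snd X (𝟙_ _)) (toUnit _)],
      DegPolyLib.bil, DegPolyLib.phi, DegPolyLib.phi, DegPolyLib.phi, AVLib.pull_one, _root_.mul_one, _root_.mul_one,
      div_self']
  set lam := φ X (PicF.cl N) with hlam
  have hker : ∀ (T : Over (Spec (CommRingCat.of k))) (z : T ⟶ X),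
      z ≫ lam = 1 ↔ ∃ y : T ⟶ K, y ≫ i = z := fun T z => by
    rw [← hK.univ T z, AVLib.isMumfordTriv_iff hL z,
      show lam = AbDualLib.ph φ X (WeilAVLib.lamCl d) by rw [hlam, ← hNc]; rfl,
      ← AbDualLib.ph_natural hφ z hz, ← AbDualLib.ph_one hφ (T := T)]
    have hrig : PicLib.pull (AbDualLib.eT X T) (PicLib.pull (PicF.XTmap X.hom z) (WeilAVLib.lamCl d)) = 1 :=
      AbDualLib.pull_eT_XTmap _ (WeilAVLib.eT_lamCl d)
    have hval : PicLib.pull (PicF.XTmap X.hom z) (WeilAVLib.lamCl d) = DegPolyLib.bil d (fst X T) (snd X T ≫ z) := by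
      rw [WeilAVLib.XTmap_eq]
      show PicLib.pull (X ◁ z).left (DegPolyLib.bil d (fst X X) (snd X X)) = _
      rw [WeilAVLib.pull_bil, whiskerLeft_fst, whiskerLeft_snd]
    refine Iff.trans ⟨fun h => AbDualLib.eq_of_ph_eq hφ (AbDualLib.isPZ_pull_XTmap _ hz) AbDualLib.isPZ_one hrig
      (map_one _) h, fun h => by rw [h]⟩ ?_
    rw [hval]
    show DegPolyLib.bil d (fst X T) (snd X T ≫ z) = 1 ↔ _
    exact div_eq_one
  haveI := hK.closed
  haveI : Mono i := (Over.forget _).mono_of_mono_map (inferInstanceAs (Mono i.left))
  have hs : ∀ s : PullbackCone lam η[Xt], s.fst ≫ lam = 1 := fun s => by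
    rw [s.condition, Hom.one_def, toUnit_unique s.snd (toUnit _)]
  refine ⟨⟨?_⟩, ⟨PullbackCone.IsLimit.mk _ (fun s => ((hker s.pt s.fst).1 (hs s)).choose) (fun s => ?_) (fun s => ?_)
    (fun s m h₁ _ => ?_)⟩⟩
  · rw [(hker K i).2 ⟨𝟙 K, Category.id_comp i⟩, Hom.one_def]
  · exact Exists.choose_spec ((hker s.pt s.fst).1 (hs s))
  · exact toUnit_unique _ _
  · rw [← cancel_mono i]
    exact h₁.trans (Exists.choose_spec ((hker s.pt s.fst).1 (hs s))).symm

end Groth.Agent.S19775
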