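import Groth.Statements.S19781
import Groth.Agent.VBLib.ZariskiPair
import Groth.Agent.TildeOpenLib.Basic
import Groth.Agent.TildePullback.Basic
import Groth.Agent.DualCxLib.GorSch
import Groth.Agent.GrassRepLib.MapEpi
import Groth.Agent.DCohLib.PerfCoh

set_option autoImplicit false
universe u
open CategoryTheory AlgebraicGeometry
open Coherent

namespace Groth.Agent.S19781

set_option backward.isDefEq.respectTransparency false
set_option linter.style.haveILetI false
open Groth.Agent.PullbackMod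

theorem local_of_stalk_bijective {R : CommRingCat.{u}} {M N : ModuleCat.{u} R} (h : M ⟶ N) (q : PrimeSpectrum R)
    (hb : Function.Bijective (stalkLin (X := Spec R) ((tilde.functor R).map h) q)) :
    (∀ x, h.hom x = 0 → ∃ s ∉ q.asIdeal, s • x = 0) ∧
      ∀ y, ∃ s ∉ q.asIdeal, ∃ x, h.hom x = s • y := by
  let ιM := (tilde.toStalk M q).hom
  let ιN := (tilde.toStalk N q).hom
  let L := DualCxLib.tildeStalkLin h q
  have hL : Function.Bijective L := hb
  have hsq : ∀ m, L (ιM m) = ιN (h.hom m) := DualCxLib.tilde_stalk_map h q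
  refine ⟨fun x hx => ?_, fun y => ?_⟩
  · have h1 : ιM x = 0 := hL.1 (by rw [hsq, hx, map_zero, map_zero])
    obtain ⟨⟨s, hs⟩, h2⟩ := (IsLocalizedModule.eq_zero_iff q.asIdeal.primeCompl ιM).1 h1
    exact ⟨s, hs, h2⟩
  · obtain ⟨w, hw⟩ := hL.2 (ιN y)
    obtain ⟨⟨x, s⟩, hx⟩ := IsLocalizedModule.surj q.asIdeal.primeCompl ιM w
    have h1 : ιN (h.hom x) = ιN ((s : R) • y) := by
      rw [← hsq, ← hx, Submonoid.smul_def, map_smul, hw, map_smul]
    obtain ⟨t, ht⟩ := IsLocalizedModule.exists_of_eq (S := q.asIdeal.primeCompl) h1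
    refine ⟨t.1 * s.1, q.isPrime.mul_notMem t.2 s.2, t.1 • x, ?_⟩
    rw [map_smul, mul_smul]
    exact ht

theorem surjective_tilde_stalk {R : CommRingCat.{u}} {M N : ModuleCat.{u} R} (f : M ⟶ N) (q : PrimeSpectrum R)
    (hgen : ∀ y, ∃ s ∉ q.asIdeal, ∃ m, s • y = f.hom m) :
    Function.Surjective (stalkLin (X := Spec R) ((tilde.functor R).map f) q) := by
  let ιM := (tilde.toStalk M q).hom
  let ιN := (tilde.toStalk N q).hom
  let L := DualCxLib.tildeStalkLin f q
  have hsq : ∀ m, L (ιM m) = ιN (f.hom m) := DualCxLib.tilde_stalk_map f q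
  suffices h : Function.Surjective L from h
  intro z
  obtain ⟨⟨y, s⟩, hy⟩ := IsLocalizedModule.surj q.asIdeal.primeCompl ιN z
  obtain ⟨t, ht, m, hm⟩ := hgen y
  refine ⟨IsLocalizedModule.mk' ιM m (⟨t, ht⟩ * s),
    (IsLocalizedModule.smul_inj ιN (⟨t, ht⟩ * s) _ _).1 ?_⟩
  rw [Submonoid.smul_def, ← map_smul, ← Submonoid.smul_def, IsLocalizedModule.mk'_cancel', hsq, ← hm,
    map_smul, mul_smul, hy]
  rfl

theorem stalk_restrict_iff {X : Scheme.{u}} (V : X.Opens) {A B : X.Modules} (ψ : A ⟶ B) (y : (V : Scheme.{u})) :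
    (Function.Surjective (stalkLin ((Scheme.Modules.restrictFunctor V.ι).map ψ) y) ↔
      Function.Surjective (stalkLin ψ (V.ι y))) ∧
    (Function.Bijective (stalkLin ((Scheme.Modules.restrictFunctor V.ι).map ψ) y) ↔
      Function.Bijective (stalkLin ψ (V.ι y))) := by
  let eA := ((Scheme.Modules.restrictStalkNatIso V.ι y).app A).addCommGroupIsoToAddEquiv
  let eB := ((Scheme.Modules.restrictStalkNatIso V.ι y).app B).addCommGroupIsoToAddEquiv
  have hn : eB ∘ stalkLin ((Scheme.Modules.restrictFunctor V.ι).map ψ) y = stalkLin ψ (V.ι y) ∘ eA :=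
    funext fun w => congr($((Scheme.Modules.restrictStalkNatIso V.ι y).hom.naturality ψ) w)
  exact ⟨((EquivLike.comp_surjective _ eB).symm.trans (iff_of_eq (congrArg Function.Surjective hn))).trans
      (EquivLike.surjective_comp eA _),
    ((EquivLike.comp_bijective _ eB).symm.trans (iff_of_eq (congrArg Function.Bijective hn))).trans
      (EquivLike.bijective_comp eA _)⟩

set_option maxHeartbeats 1000000 in
theorem exists_hom_tilde {R : CommRingCat.{u}} (V : (Spec R).Opens) {M N : ModuleCat.{u} R}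
    {F : (V : Scheme.{u}).Modules} (e : tilde N ≅ (Scheme.Modules.pushforward V.ι).obj F)
    (θ : (tilde M).restrict V.ι ≅ F) :
    ∃ h : M ⟶ N, ∀ p : PrimeSpectrum R, p ∈ V →
      (∀ x, h.hom x = 0 → ∃ s ∉ p.asIdeal, s • x = 0) ∧
        ∀ y, ∃ s ∉ p.asIdeal, ∃ x, h.hom x = s • y := by
  let adj := Scheme.Modules.restrictAdjunction V.ι
  let χ : tilde M ⟶ (Scheme.Modules.pushforward V.ι).obj F := adj.homEquiv _ _ θ.hom
  haveI : IsIso ((Scheme.Modules.restrictFunctor V.ι).map χ) := by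
    have h1 : (Scheme.Modules.restrictFunctor V.ι).map χ ≫ adj.counit.app F = θ.hom := by
      exact (adj.homEquiv_counit _ _ χ).symm.trans ((adj.homEquiv _ _).symm_apply_apply θ.hom)
    haveI : IsIso ((Scheme.Modules.restrictFunctor V.ι).map χ ≫ adj.counit.app F) := h1 ▸ inferInstance
    exact IsIso.of_isIso_comp_right _ (adj.counit.app F)
  refine ⟨tilde.fullyFaithfulFunctor.preimage (χ ≫ e.inv), fun p hp => local_of_stalk_bijective _ p ?_⟩
  rw [tilde.fullyFaithfulFunctor.map_preimage]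
  haveI : IsIso ((Scheme.Modules.restrictFunctor V.ι).map (χ ≫ e.inv)) := by
    rw [Functor.map_comp]; infer_instance
  let y : (V : Scheme.{u}) := (⟨p, hp⟩ : {x // x ∈ V})
  exact (stalk_restrict_iff V (χ ≫ e.inv) y).2.1 ((isIso_iff_stalk _).1 inferInstance y)

set_option maxHeartbeats 2000000 in
theorem main {R R' : CommRingCat.{u}} [IsNoetherianRing R] [IsNoetherianRing R'] (q : R ⟶ R') (J : Ideal R)
    (hJ : J ≤ (⊥ : Ideal R).jacobson)
    (hq : ∀ n : ℕ, Function.Bijective (Ideal.quotientMap (Ideal.map q.hom (J ^ n)) q.hom Ideal.le_comap_map))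
    (U : (Spec R).Opens) (hU : ∀ p : PrimeSpectrum R, ¬ J ≤ p.asIdeal → p ∈ U)
    (n : ℕ) (E₁ E₂ : (U : Scheme.{u}).Modules)
    (h₁ : FlatMod.IsFinLocFreeOfRank n E₁) (h₂ : FlatMod.IsFinLocFreeOfRank n E₂)
    (θ : (Scheme.Modules.pullback (Spec.map q ∣_ U)).obj E₁ ≅ (Scheme.Modules.pullback (Spec.map q ∣_ U)).obj E₂) :
    Nonempty (E₁ ≅ E₂) := by
  classical
  letI := q.hom.toAlgebra
  have hcpt : IsCompact (U : Set (Spec R)) := TopologicalSpace.NoetherianSpace.isCompact _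
  haveI : IsLocallyNoetherian (U : Scheme.{u}) := isLocallyNoetherian_of_isOpenImmersion U.ι
  have hE : ∀ E : (U : Scheme.{u}).Modules, FlatMod.IsFinLocFreeOfRank n E → Coh.IsCoh E := fun E h =>
    DCohLib.isCoh_of_isFinLocFree fun x => by
      obtain ⟨V, hx, he⟩ := h x
      exact ⟨V, n, hx, he⟩
  obtain ⟨M₁, hM₁, ⟨e₁⟩⟩ := TildeOpenLib.exists_tilde_finite U hcpt E₁ (hE _ h₁)
  obtain ⟨M₂, hM₂, ⟨e₂⟩⟩ := TildeOpenLib.exists_tilde_finite U hcpt E₂ (hE _ h₂)
  let X := ModuleCat.extendScalars.{u, u, u} q.hom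
  haveI : Module.Finite R' (X.obj M₁) := Module.Finite.base_change (R := R) (A := R') (M := M₁)
  haveI : Module.Finite R' (X.obj M₂) := Module.Finite.base_change (R := R) (A := R') (M := M₂)
  let s := Spec.map q
  let U' := s ⁻¹ᵁ U
  let bc : ∀ M : ModuleCat.{u} R, (Scheme.Modules.pullback (s ∣_ U)).obj ((tilde M).restrict U.ι) ≅
      (tilde (X.obj M)).restrict U'.ι := fun M =>
    (Scheme.Modules.pullback (s ∣_ U)).mapIso ((Scheme.Modules.restrictFunctorIsoPullback U.ι).app (tilde M)) ≪≫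
      (Scheme.Modules.pullbackComp (s ∣_ U) U.ι).app (tilde M) ≪≫
      (Scheme.Modules.pullbackCongr (morphismRestrict_ι s U)).app (tilde M) ≪≫
      ((Scheme.Modules.pullbackComp U'.ι s).app (tilde M)).symm ≪≫
      (Scheme.Modules.pullback U'.ι).mapIso ((TildePullback.tildePullbackIso q).app M) ≪≫
      ((Scheme.Modules.restrictFunctorIsoPullback U'.ι).app _).symm
  let P := Scheme.Modules.pullback (s ∣_ U)
  let θ' : (tilde (X.obj M₁)).restrict U'.ι ≅ (tilde (X.obj M₂)).restrict U'.ι :=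
    (bc M₁).symm ≪≫ P.mapIso e₁.symm ≪≫ θ ≪≫ P.mapIso e₂ ≪≫ bc M₂
  have hcpt' : IsCompact (U' : Set (Spec R')) := TopologicalSpace.NoetherianSpace.isCompact _
  haveI := (TildeOpenLib.isCoh_restrict_tilde U' (X.obj M₂)).1
  obtain ⟨N', ⟨e⟩, -⟩ := TildeOpenLib.exists_tilde U' hcpt' ((tilde (X.obj M₂)).restrict U'.ι)
  obtain ⟨g₁, hg₁⟩ := exists_hom_tilde U' e θ'
  obtain ⟨g₂, hg₂⟩ := exists_hom_tilde U' e (Iso.refl _)
  let I : Ideal R := PrimeSpectrum.vanishingIdeal (show Set (PrimeSpectrum R) from (U : Set (Spec R))ᶜ)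
  have hI : ∀ p : PrimeSpectrum R, p ∈ U ↔ ¬ I ≤ p.asIdeal := fun p => by
    have h := PrimeSpectrum.zeroLocus_vanishingIdeal_eq_closure
      (show Set (PrimeSpectrum R) from (U : Set (Spec R))ᶜ)
    rw [IsClosed.closure_eq U.isOpen.isClosed_compl] at h
    rw [show I ≤ p.asIdeal ↔ p ∈ PrimeSpectrum.zeroLocus (I : Set R) from
      (PrimeSpectrum.mem_zeroLocus p _).symm, h]
    exact not_not.symm
  have hJI : J ≤ I := fun a ha => (PrimeSpectrum.mem_vanishingIdeal _ _).2 fun p hp =>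
    (Classical.not_not.1 fun h => hp (hU p h)) ha
  have hI' : ∀ p : Ideal R', ∀ hp : p.IsPrime, ¬ Ideal.map q.hom I ≤ p →
      (⟨p, hp⟩ : PrimeSpectrum R') ∈ U' := fun p hp h =>
    (hI ((PrimeSpectrum.comap q.hom) ⟨p, hp⟩)).2 fun h' => h (Ideal.map_le_iff_le_comap.2 h')
  obtain ⟨m, c, f, hf⟩ := VBLib.ZariskiPair.exists_map (A := R) (A' := R') (M₁ := M₁) (M₂ := M₂) I J
    hJI hJ hq g₁.hom g₂.hom
    (fun p hp h => (hg₂ ⟨p, hp⟩ (hI' p hp h)).1)
    (fun p hp h => (hg₁ ⟨p, hp⟩ (hI' p hp h)).2)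
    (fun p hp h => (hg₂ ⟨p, hp⟩ (hI' p hp h)).2)
  let K : ModuleCat.{u} R := ModuleCat.of R ↥(I ^ m • ⊤ : Submodule R M₁)
  let a : K ⟶ M₂ := ModuleCat.ofHom f
  let b : K ⟶ M₁ := ModuleCat.ofHom (Submodule.subtype _)
  let Rf := Scheme.Modules.restrictFunctor U.ι
  have hpow : ∀ (k : ℕ) (p : PrimeSpectrum R), p ∈ U → ∃ t ∈ I ^ k, t ∉ p.asIdeal := fun k p hp =>
    Set.not_subset.1 fun h => (hI p).1 hp (p.isPrime.le_of_pow_le h)
  have ha : ∀ y : (U : Scheme.{u}), Function.Surjective (stalkLin (Rf.map ((tilde.functor R).map a)) y) := fun y =>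
    (stalk_restrict_iff U _ y).1.2 (surjective_tilde_stalk a _ fun z => by
      obtain ⟨t, ht, htp⟩ := hpow c _ y.2
      obtain ⟨k, hk⟩ := hf (Submodule.smul_mem_smul ht (Submodule.mem_top (x := z)))
      exact ⟨t, htp, k, hk.symm⟩)
  haveI : IsIso (Rf.map ((tilde.functor R).map b)) := (isIso_iff_stalk _).2 fun y =>
    (stalk_restrict_iff U _ y).2.2 (DualCxLib.bijective_tilde_stalk b _
      (fun k hk => ⟨1, fun h1 => (PrimeSpectrum.isPrime _).ne_top ((Ideal.eq_top_iff_one _).2 h1),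
        by rw [one_smul]; exact Subtype.ext hk⟩)
      fun z => by
        obtain ⟨t, ht, htp⟩ := hpow m _ y.2
        exact ⟨t, htp, ⟨t • z, Submodule.smul_mem_smul ht Submodule.mem_top⟩, rfl⟩)
  let ψ : E₁ ⟶ E₂ := e₁.hom ≫ inv (Rf.map ((tilde.functor R).map b)) ≫ Rf.map ((tilde.functor R).map a) ≫ e₂.inv
  haveI : Epi (Rf.map ((tilde.functor R).map a)) := (epi_iff_stalk _).2 ha
  haveI : Epi ψ := inferInstance
  haveI := GrassRepLib.isIso_of_epi_rank ψ h₁ h₂
  exact ⟨asIso ψ⟩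

/-- Let A → A' be a homomorphism of Noetherian rings and J ⊂ A an ideal such that J and JA' lie in the
Jacobson radicals of A and A' (Zariski pairs) and A/J^n → A'/J^nA' is bijective for all n, and let U
⊂ Spec A be an open containing Spec A ∖ V(J), with g : U_{A'} → U the base change of Spec A' → Spec
A. Then two finite locally free O_U-modules of rank n whose pullbacks along g are isomorphic are
isomorphic: H¹(U, GL_n) → H¹(U_{A'}, GL_n) is injective. -/
theorem result (A A' : Type u) [CommRing A] [CommRing A']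
    [IsNoetherianRing A] [IsNoetherianRing A'] (φ : A →+* A') (J : Ideal A)
    (hJ : J ≤ (⊥ : Ideal A).jacobson) (hJ' : J.map φ ≤ (⊥ : Ideal A').jacobson)
    (hq : ∀ n : ℕ, Function.Bijective (Ideal.quotientMap (Ideal.map φ (J ^ n)) φ Ideal.le_comap_map))
    (U : (Spec (CommRingCat.of A)).Opens)
    (hU : ∀ p : PrimeSpectrum A, ¬ J ≤ p.asIdeal → p ∈ U)
    (n : ℕ) (E₁ E₂ : (U : Scheme.{u}).Modules)
    (h₁ : FlatMod.IsFinLocFreeOfRank n E₁) (h₂ : FlatMod.IsFinLocFreeOfRank n E₂)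
    (hiso : Nonempty ((Scheme.Modules.pullback ((Spec.map (CommRingCat.ofHom φ)) ∣_ U)).obj E₁ ≅ (Scheme.Modules.pullback ((Spec.map (CommRingCat.ofHom φ)) ∣_ U)).obj E₂)) :
    Nonempty (E₁ ≅ E₂) := by
  obtain ⟨θ⟩ := hiso
  haveI : IsNoetherianRing (CommRingCat.of A) := inferInstanceAs (IsNoetherianRing A)
  haveI : IsNoetherianRing (CommRingCat.of A') := inferInstanceAs (IsNoetherianRing A')
  exact main (CommRingCat.ofHom φ) J hJ hq U hU n E₁ E₂ h₁ h₂ θ

end Groth.Agent.S19781
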