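import Groth.Statements.S19782
import Groth.Agent.ElkikModLib.Pair

set_option linter.all false

set_option autoImplicit false
universe u
open CategoryTheory AlgebraicGeometry
open Coherent

namespace Groth.Agent.S19782

/-- Let A → A' be a homomorphism of Noetherian rings and J ⊂ A an ideal with (A, J) and (A', JA')
Henselian pairs such that A/J^n → A'/J^nA' is bijective for all n, and let U ⊂ Spec A be an open
containing Spec A ∖ V(J), with g : U_{A'} → U the base change of Spec A' → Spec A. Then every finite
locally free module of rank n on U_{A'} is isomorphic to g^*E for some finite locally free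
O_U-module E of rank n: H¹(U, GL_n) → H¹(U_{A'}, GL_n) is surjective. (The published statement is
the bijection H¹(U, G) ≅ H¹(U_{A'}, G) for every quasi-affine smooth U-group G; this row is its
surjectivity half for the general linear groups.) -/
theorem result (A A' : Type u) [CommRing A] [CommRing A']
    [IsNoetherianRing A] [IsNoetherianRing A'] (φ : A →+* A') (J : Ideal A)
    [HenselianRing A J] [HenselianRing A' (J.map φ)]
    (hq : ∀ n : ℕ, Function.Bijective (Ideal.quotientMap (Ideal.map φ (J ^ n)) φ Ideal.le_comap_map))
    (U : (Spec (CommRingCat.of A)).Opens)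
    (hU : ∀ p : PrimeSpectrum A, ¬ J ≤ p.asIdeal → p ∈ U)
    (n : ℕ) (E' : (↑((Spec.map (CommRingCat.ofHom φ)) ⁻¹ᵁ U) : Scheme.{u}).Modules)
    (hE' : FlatMod.IsFinLocFreeOfRank n E') :
    ∃ E : (U : Scheme.{u}).Modules, FlatMod.IsFinLocFreeOfRank n E ∧
      Nonempty ((Scheme.Modules.pullback ((Spec.map (CommRingCat.ofHom φ)) ∣_ U)).obj E ≅ E') := by
  letI : Algebra A A' := φ.toAlgebra
  exact Groth.Agent.ElkikModLib.exists_locFree_descend_pair A A' J hq U hU n E' hE'

end Groth.Agent.S19782
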