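import Groth.Statements.S19787
import Groth.Agent.S18285

set_option autoImplicit false
universe u
open CategoryTheory MonoidalCategory CartesianMonoidalCategory MonObj AlgebraicGeometry Opposite
open GIT

namespace Groth.Agent.S19787

open CategoryTheory CategoryTheory.Limits AlgebraicGeometry

open Groth.Agent CategoryTheory.MonoidalCategory CategoryTheory.CartesianMonoidalCategory CategoryTheory.MonObj Opposite
set_option backward.isDefEq.respectTransparency false
set_option linter.style.haveILetI false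
set_option maxHeartbeats 1000000

/-- The diagonalizable monoid scheme of the trivial monoid has at most one point. -/
theorem subsingleton_bot_hom {S : Scheme.{u}} (T : Over S) :
    Subsingleton (T ⟶ Magnet.AMonS S ↥(⊥ : AddSubmonoid ℤ)) := by
  haveI : Unique (Multiplicative ↥(⊥ : AddSubmonoid ℤ)) :=
    { default := 1
      uniq := fun a => by
        obtain ⟨x, hx⟩ := a
        rw [AddSubmonoid.mem_bot] at hx
        subst hx
        rfl }
  haveI : IsIso (Magnet.AMon (ULift.{u} ℤ) ↥(⊥ : AddSubmonoid ℤ)).hom := by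
    show IsIso (Spec.map (CommRingCat.ofHom
      (algebraMap (ULift.{u} ℤ) (MonoidAlgebra (ULift.{u} ℤ) (Multiplicative ↥(⊥ : AddSubmonoid ℤ))))))
    haveI : IsIso (CommRingCat.ofHom
        (algebraMap (ULift.{u} ℤ) (MonoidAlgebra (ULift.{u} ℤ) (Multiplicative ↥(⊥ : AddSubmonoid ℤ))))) := by
      rw [ConcreteCategory.isIso_iff_bijective]
      refine ⟨fun a b h => ?_, fun x => ⟨x.coeff default, ?_⟩⟩
      · have h1 : MonoidAlgebra.single (1 : Multiplicative ↥(⊥ : AddSubmonoid ℤ)) a =
            MonoidAlgebra.single (1 : Multiplicative ↥(⊥ : AddSubmonoid ℤ)) b := by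
          simpa only [CommRingCat.hom_ofHom, MonoidAlgebra.coe_algebraMap, Function.comp_apply,
            Algebra.algebraMap_self, RingHom.id_apply] using h
        simpa only [MonoidAlgebra.coeff_single, Finsupp.single_eq_same] using
          congrArg (fun y => MonoidAlgebra.coeff y (1 : Multiplicative ↥(⊥ : AddSubmonoid ℤ))) h1
      · simp only [CommRingCat.hom_ofHom, MonoidAlgebra.coe_algebraMap, Function.comp_apply,
          Algebra.algebraMap_self, RingHom.id_apply]
        refine MonoidAlgebra.ext (Finsupp.ext fun a => ?_)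
        rw [Unique.eq_default a, MonoidAlgebra.coeff_single, Unique.eq_default (1 : Multiplicative _),
          Finsupp.single_eq_same]
    infer_instance
  refine ⟨fun u v => ((Over.mapPullbackAdj (Limits.IsTerminal.from specULiftZIsTerminal S)).homEquiv _ _).symm.injective ?_⟩
  apply Over.OverMorphism.ext
  rw [← cancel_mono (Magnet.AMon (ULift.{u} ℤ) ↥(⊥ : AddSubmonoid ℤ)).hom, Over.w, Over.w]

/-- Let k be an algebraically closed field, G an algebraic group over k (a smooth group scheme of finite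
type over k) acting by σ on a scheme X proper over k, L a G-linearised line bundle on X in
total-space form, x a k-point of X, λ : 𝔾_m → G a one-parameter subgroup, and y the specialization
of λ(u)·x as u → 0 (the value at the origin of the 𝔾_m-equivariant extension to the affine line of
the orbit map u ↦ λ(u)·x). Then μ^L(x, λ) = μ^L(y, λ): the numerical function (the limit exists and
𝔾_m acts on the fibre of L over it with exponent m) takes the same values at (x, λ) and at the fixed
point (y, λ). -/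
theorem result (k : Type u) [Field k] [IsAlgClosed k]
    (G X : Over (Spec (CommRingCat.of k))) [GrpObj G] [Smooth G.hom] [QuasiCompact G.hom] [IsProper X.hom]
    (a : AlgGrp.Action G X) (B : GLinSh.LinBun G a) (x : 𝟙_ (Over (Spec (CommRingCat.of k))) ⟶ X)
    (l : Red.Gm (Spec (CommRingCat.of k)) ⟶ G) [IsMonHom l] (y : 𝟙_ (Over (Spec (CommRingCat.of k))) ⟶ X) (hy : HMNum.IsLimitPt a l x y)
    (m : ℤ) : HMNum.IsMu B l x m ↔ HMNum.IsMu B l y m := by
  have hfix : HMNum.IsFixedBy a l y := by
    obtain ⟨φ, -, h2⟩ := hy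
    intro T' t g
    let ψ := (Magnet.attrFace (HMNum.gmAct a l) HMNum.isFace_bot).app (op _) φ
    have heq := (Magnet.MonAct.mem_eqvHom_iff ψ.1).1 ψ.2 T' g (toUnit T' ≫ η[Magnet.AMonS _ ↥(⊥ : AddSubmonoid ℤ)]) t
    have hy' : t ≫ y = lift (toUnit T' ≫ η[Magnet.AMonS _ ↥(⊥ : AddSubmonoid ℤ)]) t ≫ ψ.1 := by
      rw [← h2]
      show t ≫ lift (toUnit _ ≫ η[Magnet.AMonS _ ↥(⊥ : AddSubmonoid ℤ)]) (𝟙 _) ≫ ψ.1 = _
      rw [comp_lift_assoc, Category.comp_id, ← Category.assoc, toUnit_unique (t ≫ toUnit _) (toUnit T')]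
    rw [← hy', Magnet.MonAct.lift_restrict_act, Magnet.MonAct.ofAction_act] at heq
    rw [← heq, (subsingleton_bot_hom T').elim
      (lift g (toUnit T' ≫ η[Magnet.AMonS _ ↥(⊥ : AddSubmonoid ℤ)]) ≫
        (Magnet.subAct (Spec (CommRingCat.of k)) ℤ ⊥).act)
      (toUnit T' ≫ η[Magnet.AMonS _ ↥(⊥ : AddSubmonoid ℤ)]), ← hy']
  have hyy : HMNum.IsLimitPt a l y y := by
    refine ⟨⟨snd _ _ ≫ y, (Magnet.MonAct.mem_eqvHom_iff _).2 fun T' g b t => ?_⟩, ?_, ?_⟩
    · rw [lift_snd_assoc, lift_snd_assoc, Magnet.MonAct.lift_restrict_act, Magnet.MonAct.ofAction_act, hfix T' t g]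
    · show lift (toUnit _ ≫ η[Magnet.AMonS _ ↥HMNum.plus]) (𝟙 _) ≫ snd _ _ ≫ y = y
      rw [lift_snd_assoc, Category.id_comp]
    · rw [HMNum.limitPt_eq, lift_snd_assoc, Category.id_comp]
  have huniq : ∀ {p q q' : 𝟙_ (Over (Spec (CommRingCat.of k))) ⟶ X}, HMNum.IsLimitPt a l p q →
      HMNum.IsLimitPt a l p q' → q = q' := by
    rintro p q q' ⟨φ, h1, h2⟩ ⟨φ', h1', h2'⟩
    have : φ = φ' := S18285.result _ ℤ X (HMNum.gmAct a l) HMNum.plus _ (h1.trans h1'.symm)
    rw [← h2, ← h2', this]
  constructor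
  · rintro ⟨y', hy', hw⟩
    rw [← huniq hy hy'] at hw
    exact ⟨y, hyy, hw⟩
  · rintro ⟨y', hy', hw⟩
    rw [← huniq hyy hy'] at hw
    exact ⟨y, hy, hw⟩

end Groth.Agent.S19787
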