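import Groth.Statements.S19791
-- import your own Groth.Agent.* helpers here

set_option autoImplicit false
universe u
open CategoryTheory MonoidalCategory CartesianMonoidalCategory MonObj AlgebraicGeometry Opposite
open GIT

namespace Groth.Agent.S19791

set_option backward.isDefEq.respectTransparency false

noncomputable section Shift

variable {k : Type u} [Field k]

local notation "𝒮" => Over (Spec (CommRingCat.of k))

variable {G X : Over (Spec (CommRingCat.of k))} [GrpObj G]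

theorem lift_mul_act' {Y : 𝒮} (b : AlgGrp.Action G Y) {T : 𝒮}
    (g h : T ⟶ G) (x : T ⟶ Y) : lift (g * h) x ≫ b.act = lift g (lift h x ≫ b.act) ≫ b.act :=
  (Magnet.MonAct.ofAction b).lift_mul_act g h x

theorem lift_one_act' {Y : 𝒮} (b : AlgGrp.Action G Y) {T : 𝒮}
    (x : T ⟶ Y) : lift (1 : T ⟶ G) x ≫ b.act = x :=
  (Magnet.MonAct.ofAction b).lift_one_act x

/-- The conjugate one-parameter subgroup. -/
def cj (g : 𝟙_ 𝒮 ⟶ G) {A : 𝒮} (l : A ⟶ G) : A ⟶ G :=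
  (toUnit _ ≫ g) * l * (toUnit _ ≫ g)⁻¹

theorem comp_cj (g : 𝟙_ 𝒮 ⟶ G) {A T : 𝒮} (l : A ⟶ G) (h : T ⟶ A) :
    h ≫ cj g l = (toUnit T ≫ g) * (h ≫ l) * (toUnit T ≫ g)⁻¹ := by
  simp only [cj, MonObj.comp_mul, GrpObj.comp_inv, ← Category.assoc, toUnit_unique (h ≫ toUnit A) (toUnit T)]

theorem lift_cj (g : 𝟙_ 𝒮 ⟶ G) {Y : 𝒮} (b : AlgGrp.Action G Y)
    {A T : 𝒮} (l : A ⟶ G) (h : T ⟶ A) (z : T ⟶ Y) :
    lift (h ≫ cj g l) (lift (toUnit T ≫ g) z ≫ b.act) ≫ b.act =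
      lift (toUnit T ≫ g) (lift (h ≫ l) z ≫ b.act) ≫ b.act := by
  rw [comp_cj, ← lift_mul_act', ← lift_mul_act', inv_mul_cancel_right]

instance (g : 𝟙_ 𝒮 ⟶ G) (l : Red.Gm (Spec (CommRingCat.of k)) ⟶ G) [IsMonHom l] : IsMonHom (cj g l) := by
  refine ⟨?_, ?_⟩
  · rw [comp_cj, IsMonHom.one_hom]
    rw [show (η[G] : 𝟙_ _ ⟶ G) = 1 by rw [Hom.one_def, toUnit_unique (toUnit _) (𝟙 _), Category.id_comp],
      _root_.mul_one, mul_inv_cancel]
  · have e1 : μ[Red.Gm (Spec (CommRingCat.of k))] ≫ l = (fst _ _ ≫ l) * (snd _ _ ≫ l) := by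
      rw [IsMonHom.mul_hom, Hom.mul_def]
      congr 1
    have e2 : (cj g l ⊗ₘ cj g l) ≫ μ[G] = (fst _ _ ≫ cj g l) * (snd _ _ ≫ cj g l) := by
      rw [Hom.mul_def]
      congr 1
    rw [e2, comp_cj, comp_cj, comp_cj, e1]
    simp [_root_.mul_assoc]

theorem cj_ne_one (g : 𝟙_ 𝒮 ⟶ G) {A : 𝒮} {l : A ⟶ G} (h : l ≠ 1) : cj g l ≠ 1 := fun e => h (by
  simpa [cj] using e)

variable (a : AlgGrp.Action G X)

/-- Acting by a point. -/
def mv {T : 𝒮} (g : 𝟙_ 𝒮 ⟶ G) (x : T ⟶ X) : T ⟶ X :=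
  lift (toUnit T ≫ g) x ≫ a.act

theorem comp_mv {T T' : 𝒮} (t : T' ⟶ T) (g : 𝟙_ 𝒮 ⟶ G) (x : T ⟶ X) : t ≫ mv a g x = mv a g (t ≫ x) := by
  rw [mv, mv, comp_lift_assoc, ← Category.assoc, toUnit_unique (t ≫ toUnit T) (toUnit T')]

theorem isFixedBy_mv (g : 𝟙_ 𝒮 ⟶ G) (l : Red.Gm (Spec (CommRingCat.of k)) ⟶ G)
    {T : 𝒮} (x : T ⟶ X) (h : HMNum.IsFixedBy a l x) : HMNum.IsFixedBy a (cj g l) (mv a g x) := fun T' t z => by
  rw [comp_mv, mv, lift_cj, h T' t z]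

theorem isLimitPt_mv (g : 𝟙_ 𝒮 ⟶ G) (l : Red.Gm (Spec (CommRingCat.of k)) ⟶ G) [IsMonHom l]
    {T : 𝒮} {x y : T ⟶ X} (h : HMNum.IsLimitPt a l x y) :
    HMNum.IsLimitPt a (cj g l) (mv a g x) (mv a g y) := by
  obtain ⟨φ, h1, h2⟩ := h
  have heq := (Magnet.MonAct.mem_eqvHom_iff φ.1).1 φ.2
  refine ⟨⟨mv a g φ.1, (Magnet.MonAct.mem_eqvHom_iff _).2 fun T' z b t => ?_⟩, ?_, ?_⟩
  · rw [comp_mv, comp_mv, heq T' z b t, Magnet.MonAct.lift_restrict_act, Magnet.MonAct.lift_restrict_act,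
      Magnet.MonAct.ofAction_act]
    exact (lift_cj g a l z _).symm
  · refine (comp_mv a _ g φ.1).trans ?_
    exact congrArg (mv a g) h1
  · rw [HMNum.limitPt_eq]
    rw [HMNum.limitPt_eq] at h2
    refine (comp_mv a _ g φ.1).trans ?_
    exact congrArg (mv a g) h2

theorem hasFibreWt_mv (B : GLinSh.LinBun G a) (g : 𝟙_ 𝒮 ⟶ G)
    (l : Red.Gm (Spec (CommRingCat.of k)) ⟶ G) (x : 𝟙_ 𝒮 ⟶ X) (w : ℤ)
    (h : HMNum.HasFibreWeight B l x w) : HMNum.HasFibreWeight B (cj g l) (mv a g x) w := by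
  obtain ⟨hfix, U, y, hy, hU, hev⟩ := h
  haveI : Subsingleton ↥(𝟙_ 𝒮).left := inferInstanceAs (Subsingleton (PrimeSpectrum k))
  obtain ⟨U', hxU', y', hy'⟩ := B.atlas.cover ((mv a g x).left.base (default : PrimeSpectrum k))
  have hU' : (mv a g x).left ⁻¹ᵁ U' = ⊤ := by
    refine top_unique fun p _ => ?_
    show (mv a g x).left.base p ∈ U'
    rw [Subsingleton.elim p (default : PrimeSpectrum k)]
    exact hxU'
  obtain ⟨c, hc⟩ := B.lift_linear U U' y y' hy hy'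
  refine ⟨isFixedBy_mv a g l x hfix, U', y', hy', hU', fun T' t z v hv hzv => ?_⟩
  let G' : T' ⟶ G := toUnit T' ≫ g
  -- move back by `g`
  let v₀ : T' ⟶ B.V := lift G'⁻¹ v ≫ B.lift.act
  have hπ : ∀ (q : T' ⟶ G) (w : T' ⟶ B.V), (lift q w ≫ B.lift.act) ≫ B.π = lift q (w ≫ B.π) ≫ a.act := fun q w => by
    rw [Category.assoc, B.lift_π, lift_whiskerLeft_assoc]
  have hv₀ : v₀ ≫ B.π = t ≫ x := by
    rw [hπ, hv, comp_mv, mv, ← lift_mul_act', inv_mul_cancel, lift_one_act']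
  have hv' : lift G' v₀ ≫ B.lift.act = v := by
    rw [← lift_mul_act', mul_inv_cancel, lift_one_act']
  let w₀ : T' ⟶ B.V := lift (z ≫ l) v₀ ≫ B.lift.act
  have hw₀ : w₀ ≫ B.π = t ≫ x := by rw [hπ, hv₀, hfix T' t z]
  have hw' : lift (z ≫ cj g l) v ≫ B.lift.act = lift G' w₀ ≫ B.lift.act := by
    conv_lhs => rw [← hv']
    exact lift_cj g B.lift l z v₀
  -- evaluate the linearity identity
  let P₀ : T' ⟶ G ⊗ X := lift G' (t ≫ x)
  have key : ∀ (w : T' ⟶ B.V) (hw : w ≫ B.π = t ≫ x) (u : T' ⟶ B.V) (hu : lift G' w ≫ B.lift.act = u)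
      (huπ : u ≫ B.π = t ≫ mv a g x) (e : ⊤ ≤ P₀.left ⁻¹ᵁ (a.act.left ⁻¹ᵁ U' ⊓ (snd G X).left ⁻¹ᵁ U)),
      HMNum.evalFn B.π y' u (HMNum.top_le_preimage B.π hU' huπ) =
        P₀.left.appLE _ ⊤ e c * HMNum.evalFn B.π y w (HMNum.top_le_preimage B.π hU hw) := by
    intro w hw u hu huπ e
    let P : T' ⟶ G ⊗ B.V := lift G' w
    have hP0 : P ≫ (G ◁ B.π) = P₀ := by rw [lift_whiskerLeft, hw]
    have hP0l : P.left ≫ (G ◁ B.π).left = P₀.left := by rw [← Over.comp_left, hP0]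
    have hle : ⊤ ≤ P.left ⁻¹ᵁ GLinSh.liftOpen a B.π U U' := by
      intro p _
      have h1 : P₀.left.base p ∈ (a.act.left ⁻¹ᵁ U' ⊓ (snd G X).left ⁻¹ᵁ U) := e trivial
      rw [← hP0l] at h1
      exact h1
    have := congrArg (P.left.appLE _ ⊤ hle) hc
    rw [map_mul, ← CommRingCat.comp_apply, ← CommRingCat.comp_apply, ← CommRingCat.comp_apply,
      Scheme.Hom.appLE_comp_appLE, Scheme.Hom.appLE_comp_appLE, Scheme.Hom.appLE_comp_appLE] at this
    subst hu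
    have e1 : P.left ≫ (snd G B.V).left = w.left := by rw [← Over.comp_left, lift_snd]
    simp only [hP0l, e1] at this
    exact this
  have e : ⊤ ≤ P₀.left ⁻¹ᵁ (a.act.left ⁻¹ᵁ U' ⊓ (snd G X).left ⁻¹ᵁ U) := by
    intro p _
    refine ⟨?_, ?_⟩
    · have h1 : (P₀ ≫ a.act) = t ≫ mv a g x := (comp_mv a t g x).symm
      have h2 : t.left.base p ∈ (mv a g x).left ⁻¹ᵁ U' := by rw [hU']; trivial
      show (P₀.left ≫ a.act.left).base p ∈ U'
      rw [← Over.comp_left, h1]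
      exact h2
    · have h2 : t.left.base p ∈ x.left ⁻¹ᵁ U := by rw [hU]; trivial
      show (P₀.left ≫ (snd G X).left).base p ∈ U
      rw [← Over.comp_left, lift_snd]
      exact h2
  rw [key w₀ hw₀ _ hw'.symm hzv e, key v₀ hv₀ v hv' hv e, hev T' t z v₀ hv₀ hw₀]
  ring

theorem isMu_mv (B : GLinSh.LinBun G a) (g : 𝟙_ 𝒮 ⟶ G)
    (l : Red.Gm (Spec (CommRingCat.of k)) ⟶ G) [IsMonHom l] (x : 𝟙_ 𝒮 ⟶ X) (m : ℤ)
    (h : HMNum.IsMu B l x m) : HMNum.IsMu B (cj g l) (mv a g x) m := by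
  obtain ⟨y, hy, hw⟩ := h
  exact ⟨mv a g y, isLimitPt_mv a g l hy, hasFibreWt_mv a B g l y _ hw⟩

end Shift

/-- Let k be an algebraically closed field, G a connected reductive algebraic group over k acting by σ
on a scheme X proper over k, L an ample G-linearised line bundle on X in total-space form, and ‖·‖ a
real-valued function on the one-parameter subgroups of G invariant under conjugation by k-points of
G (‖γ·λ·γ⁻¹‖ = ‖λ‖; nothing else is assumed of ‖·‖). For a k-point x of X consider the set of real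
numbers μ^L(x, λ)/‖λ‖, where λ runs over the non-trivial one-parameter subgroups of G and μ^L(x, λ)
= m means that the limit of λ(u)·x as u → 0 exists and 𝔾_m acts on the fibre of L over it with
exponent m; its infimum is the number M^L(x). Then for every k-point g of G the sets attached to g·x
and to x coincide, so that M^L(g·x) = M^L(x). (The published statement is for any reductive G, not
necessarily connected, acting on a projective variety; this row takes G connected and X any scheme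
proper over k.) -/
theorem result (k : Type u) [Field k] [IsAlgClosed k]
    (G X : Over (Spec (CommRingCat.of k))) [GrpObj G] (hG : Red.IsReductive G) [IsProper X.hom]
    (a : AlgGrp.Action G X) (B : GLinSh.LinBun G a) (hB : HMNum.AmpleCover B)
    (nrm : (Red.Gm (Spec (CommRingCat.of k)) ⟶ G) → ℝ)
    (hnrm : ∀ (l : Red.Gm (Spec (CommRingCat.of k)) ⟶ G) [IsMonHom l] (g : 𝟙_ (Over (Spec (CommRingCat.of k))) ⟶ G),
      nrm ((toUnit _ ≫ g) * l * (toUnit _ ≫ g)⁻¹) = nrm l)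
    (x : 𝟙_ (Over (Spec (CommRingCat.of k))) ⟶ X) (g : 𝟙_ (Over (Spec (CommRingCat.of k))) ⟶ G) (q : ℝ) :
    (∃ (l : Red.Gm (Spec (CommRingCat.of k)) ⟶ G) (_ : IsMonHom l) (m : ℤ),
        l ≠ 1 ∧ HMNum.IsMu B l (lift g x ≫ a.act) m ∧ q = (m : ℝ) / nrm l) ↔
      ∃ (l : Red.Gm (Spec (CommRingCat.of k)) ⟶ G) (_ : IsMonHom l) (m : ℤ),
        l ≠ 1 ∧ HMNum.IsMu B l x m ∧ q = (m : ℝ) / nrm l := by
  have hx : mv a g x = lift g x ≫ a.act := by
    rw [mv, toUnit_unique (toUnit _) (𝟙 _), Category.id_comp]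
  constructor
  · rintro ⟨l, hl, m, hne, hmu, rfl⟩
    haveI := hl
    have h := isMu_mv a B g⁻¹ l _ m hmu
    have hback : mv a g⁻¹ (lift g x ≫ a.act) = x := by
      rw [← hx, mv, mv, ← lift_mul_act', GrpObj.comp_inv, inv_mul_cancel, lift_one_act']
    rw [hback] at h
    refine ⟨cj g⁻¹ l, inferInstance, m, cj_ne_one _ hne, h, ?_⟩
    rw [cj, hnrm l g⁻¹]
  · rintro ⟨l, hl, m, hne, hmu, rfl⟩
    haveI := hl
    have h := isMu_mv a B g l _ m hmu
    rw [hx] at h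
    refine ⟨cj g l, inferInstance, m, cj_ne_one _ hne, h, ?_⟩
    rw [cj, hnrm l g]

end Groth.Agent.S19791
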