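import Groth.Statements.S19785
import Groth.Agent.S19791
import Groth.Agent.S19787
import Groth.Agent.MagnetHom.Eval

set_option autoImplicit false
universe u
open CategoryTheory MonoidalCategory CartesianMonoidalCategory MonObj AlgebraicGeometry Opposite
open GIT

namespace Groth.Agent.S19785

open CategoryTheory CategoryTheory.Limits AlgebraicGeometry

open Groth.Agent CategoryTheory.MonoidalCategory CategoryTheory.CartesianMonoidalCategory CategoryTheory.MonObj Opposite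
open Groth.Agent.S19791 (cj mv comp_mv lift_cj lift_mul_act' lift_one_act' hasFibreWt_mv isMu_mv)
set_option backward.isDefEq.respectTransparency false
set_option linter.style.haveILetI false
set_option maxHeartbeats 1000000

noncomputable section

section

variable {k : Type u} [Field k]

local notation "𝒮" => Over (Spec (CommRingCat.of k))
local notation "𝔾" => Red.Gm (Spec (CommRingCat.of k))
local notation "𝔸" => HMNum.A1 (Spec (CommRingCat.of k))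
local notation "j" => HMNum.incl (Spec (CommRingCat.of k))

/-- Composition with a conjugate of a point by a one-parameter subgroup. -/
theorem comp_conjPt {G : 𝒮} [GrpObj G] (l : 𝔾 ⟶ G) (g₀ : 𝟙_ 𝒮 ⟶ G) {T : 𝒮} (h : T ⟶ 𝔾) :
    h ≫ (l * (toUnit _ ≫ g₀) * l⁻¹) = (h ≫ l) * (toUnit T ≫ g₀) * (h ≫ l)⁻¹ := by
  simp only [MonObj.comp_mul, GrpObj.comp_inv, ← Category.assoc, toUnit_unique (h ≫ toUnit _) (toUnit T)]

/-- The extension of the conjugation orbit is equivariant. -/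
theorem ext_equivariant {G : 𝒮} [GrpObj G] [IsSeparated G.hom] (l : 𝔾 ⟶ G) [IsMonHom l] (g₀ : 𝟙_ 𝒮 ⟶ G)
    (f : 𝔸 ⟶ G) (hf : j ≫ f = l * (toUnit _ ≫ g₀) * l⁻¹) {T : 𝒮} (g : T ⟶ 𝔾) (b : T ⟶ 𝔸) :
    ((g ≫ j) * b) ≫ f = (g ≫ l) * (b ≫ f) * (g ≫ l)⁻¹ := by
  have key : ((snd 𝔸 𝔾 ≫ j) * fst 𝔸 𝔾) ≫ f =
      (snd 𝔸 𝔾 ≫ l) * (fst 𝔸 𝔾 ≫ f) * (snd 𝔸 𝔾 ≫ l)⁻¹ := by
    refine MagnetHom.ext_of_map HMNum.plus.subtype HMNum.plus.subtype_injective ?_
    have e1 : (j ▷ 𝔾) ≫ fst 𝔸 𝔾 = fst 𝔾 𝔾 ≫ j := whiskerRight_fst _ _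
    have e2 : (j ▷ 𝔾) ≫ snd 𝔸 𝔾 = snd 𝔾 𝔾 := whiskerRight_snd _ _
    show (j ▷ 𝔾) ≫ _ = (j ▷ 𝔾) ≫ _
    rw [← Category.assoc, MonObj.comp_mul, ← Category.assoc _ (snd 𝔸 𝔾) j, e2, e1, ← MonObj.mul_comp, Category.assoc,
      hf, comp_conjPt, MonObj.mul_comp]
    conv_rhs => rw [MonObj.comp_mul, MonObj.comp_mul, GrpObj.comp_inv, ← Category.assoc _ (snd 𝔸 𝔾) l, e2,
      ← Category.assoc _ (fst 𝔸 𝔾) f, e1, Category.assoc, hf, comp_conjPt]
    simp only [_root_.mul_inv_rev, _root_.mul_assoc]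
  have h := congrArg (fun p => lift b g ≫ p) key
  simpa only [← Category.assoc, MonObj.comp_mul, GrpObj.comp_inv, lift_fst, lift_snd] using h

theorem isMu_translate {G X : 𝒮} [GrpObj G] [IsSeparated G.hom] (a : AlgGrp.Action G X) (B : GLinSh.LinBun G a) (x : 𝟙_ 𝒮 ⟶ X) (l : 𝔾 ⟶ G) [IsMonHom l]
    (g₀ : 𝟙_ 𝒮 ⟶ G) (f : 𝔸 ⟶ G) (hf : j ≫ f = l * (toUnit _ ≫ g₀) * l⁻¹) (m : ℤ) (h : HMNum.IsMu B l x m) :
    HMNum.IsMu B l (mv a g₀ x) m := by
  obtain ⟨y, ⟨φ, h1, h2⟩, hw⟩ := h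
  let c₀ : 𝟙_ 𝒮 ⟶ G := HMNum.origin _ ≫ f
  have hc : cj c₀ l = l := by
    let o : 𝔾 ⟶ 𝔸 := toUnit _ ≫ HMNum.origin _
    have he := ext_equivariant l g₀ f hf (𝟙 𝔾) o
    rw [Category.id_comp, Category.id_comp] at he
    have ho : j * o = o := by
      let e₀ : 𝔾 ⟶ Magnet.AMonS (Spec (CommRingCat.of k)) ↥(⊥ : AddSubmonoid ℤ) :=
        toUnit _ ≫ η[Magnet.AMonS (Spec (CommRingCat.of k)) ↥(⊥ : AddSubmonoid ℤ)]
      have hF := Magnet.isEquivariant_faceMapS (Spec (CommRingCat.of k)) HMNum.isFace_bot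
      rw [Magnet.MonAct.isEquivariant_iff] at hF
      have hF' := hF 𝔾 (𝟙 𝔾) e₀
      rw [← Category.assoc, (S19787.subsingleton_bot_hom 𝔾).elim
          (lift (𝟙 𝔾) e₀ ≫ (Magnet.subAct (Spec (CommRingCat.of k)) ℤ ⊥).act) e₀] at hF'
      replace hF' : lift (𝟙 𝔾) (e₀ ≫ Magnet.AMonS.faceMap _ HMNum.isFace_bot) ≫
          ((Magnet.MonAct.regular 𝔸).restrict j).act = e₀ ≫ Magnet.AMonS.faceMap _ HMNum.isFace_bot := hF'.symm
      rw [Magnet.MonAct.lift_restrict_act, Magnet.MonAct.lift_regular_act, Category.id_comp] at hF'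
      simpa only [e₀, o, HMNum.origin, Category.assoc] using hF'
    rw [ho, show o ≫ f = toUnit 𝔾 ≫ c₀ from Category.assoc _ _ _] at he
    show (toUnit _ ≫ c₀) * l * (toUnit _ ≫ c₀)⁻¹ = l
    rw [eq_mul_inv_iff_mul_eq] at he
    rw [mul_inv_eq_iff_eq_mul, he]
  refine ⟨mv a c₀ y, ⟨⟨lift (fst _ _ ≫ f) φ.1 ≫ a.act, (Magnet.MonAct.mem_eqvHom_iff _).2 fun T' g b t => ?_⟩, ?_, ?_⟩, ?_⟩
  · have heq := (Magnet.MonAct.mem_eqvHom_iff φ.1).1 φ.2 T' g b t
    rw [Magnet.MonAct.lift_restrict_act, Magnet.MonAct.ofAction_act] at heq ⊢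
    simp only [comp_lift_assoc, lift_fst_assoc]
    rw [heq]
    have hb : lift g b ≫ (Magnet.subAct (Spec (CommRingCat.of k)) ℤ HMNum.plus).act = (g ≫ j) * b := by
      show lift g b ≫ ((Magnet.MonAct.regular _).restrict _).act = _
      rw [Magnet.MonAct.lift_restrict_act, Magnet.MonAct.lift_regular_act]
    rw [hb,
      ext_equivariant l g₀ f hf g b, ← lift_mul_act', ← lift_mul_act', inv_mul_cancel_right]
  · show lift (toUnit _ ≫ η[𝔸]) (𝟙 _) ≫ lift (fst _ _ ≫ f) φ.1 ≫ a.act = _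
    rw [comp_lift_assoc, lift_fst_assoc, Category.assoc]
    have h1' : lift (toUnit _ ≫ η[𝔸]) (𝟙 (𝟙_ 𝒮)) ≫ φ.1 = x := h1
    rw [h1', ← IsMonHom.one_hom (f := j), Category.assoc, hf, comp_conjPt, IsMonHom.one_hom,
      show (η[G] : 𝟙_ _ ⟶ G) = 1 by rw [Hom.one_def, toUnit_unique (toUnit _) (𝟙 _), Category.id_comp],
      MonObj.comp_mul, MonObj.comp_mul, GrpObj.comp_inv]
    simp [mv, MonObj.comp_one, toUnit_unique (toUnit (𝟙_ 𝒮)) (𝟙 _)]
  · rw [HMNum.limitPt_eq] at h2 ⊢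
    rw [comp_lift_assoc, lift_fst_assoc, h2]
    rfl
  · have := hasFibreWt_mv a B c₀ l y (-m) hw
    rwa [hc] at this

end

end

/-- Let k be an algebraically closed field, G a connected reductive algebraic group over k acting by σ
on a scheme X proper over k, L a G-linearised line bundle on X in total-space form, x a k-point of X
and λ : 𝔾_m → G a one-parameter subgroup. Let γ be a k-point of G lying in the parabolic subgroup
P(λ), i.e. such that the morphism u ↦ λ(u)·γ·λ(u)⁻¹ from 𝔾_m to G extends to the affine line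
(λ(u)γλ(u)⁻¹ has a limit in G as u → 0), and let λ' be the conjugate one-parameter subgroup u ↦
γ⁻¹·λ(u)·γ. Then μ^L(x, λ) = μ^L(x, λ'): the numerical function (the limit of λ(u)·x as u → 0 exists
and 𝔾_m acts on the fibre of L over it with exponent m) takes the same values at (x, λ) and at (x,
λ'). (The published statement is for any reductive G; this row takes G connected.) -/
theorem result (k : Type u) [Field k] [IsAlgClosed k]
    (G X : Over (Spec (CommRingCat.of k))) [GrpObj G] (hG : Red.IsReductive G) [IsProper X.hom]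
    (a : AlgGrp.Action G X) (B : GLinSh.LinBun G a) (x : 𝟙_ (Over (Spec (CommRingCat.of k))) ⟶ X)
    (l : Red.Gm (Spec (CommRingCat.of k)) ⟶ G) [IsMonHom l] (g₀ : 𝟙_ (Over (Spec (CommRingCat.of k))) ⟶ G)
    (hg₀ : ∃ f : HMNum.A1 (Spec (CommRingCat.of k)) ⟶ G, HMNum.incl (Spec (CommRingCat.of k)) ≫ f = l * (toUnit _ ≫ g₀) * l⁻¹)
    (l' : Red.Gm (Spec (CommRingCat.of k)) ⟶ G) [IsMonHom l'] (hl' : l' = (toUnit _ ≫ g₀)⁻¹ * l * (toUnit _ ≫ g₀))
    (m : ℤ) : HMNum.IsMu B l x m ↔ HMNum.IsMu B l' x m := by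
  obtain ⟨f, hf⟩ := hg₀
  haveI : IsAffineHom G.hom := hG.1
  have hf' : HMNum.incl (Spec (CommRingCat.of k)) ≫ f⁻¹ = l * (toUnit _ ≫ g₀⁻¹) * l⁻¹ := by
    rw [GrpObj.comp_inv, hf, GrpObj.comp_inv]
    simp only [_root_.mul_inv_rev, _root_.inv_inv, _root_.mul_assoc]
  have hx : ∀ z : 𝟙_ (Over (Spec (CommRingCat.of k))) ⟶ X, mv a g₀⁻¹ (mv a g₀ z) = z := fun z => by
    rw [mv, mv, ← lift_mul_act', GrpObj.comp_inv, inv_mul_cancel, lift_one_act']
  have hl : cj g₀⁻¹ l = l' := by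
    rw [hl', cj, GrpObj.comp_inv, _root_.inv_inv]
  subst hl
  constructor
  · intro h
    have h2 := isMu_mv a B g₀⁻¹ l _ m (isMu_translate a B x l g₀ f hf m h)
    rwa [hx] at h2
  · intro h
    have h2 := isMu_mv a B g₀ (cj g₀⁻¹ l) x m h
    have hc : cj g₀ (cj g₀⁻¹ l) = l := by
      simp only [cj, GrpObj.comp_inv, _root_.inv_inv, _root_.mul_assoc, mul_inv_cancel_left, mul_inv_cancel, _root_.mul_one]
    have h3 : HMNum.IsMu B l (mv a g₀ x) m := by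
      simp only [hc] at h2
      exact h2
    have h4 := isMu_translate a B _ l g₀⁻¹ f⁻¹ hf' m h3
    rwa [hx] at h4

end Groth.Agent.S19785
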