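import Groth.Statements.S19786
import Groth.Agent.S19791

set_option autoImplicit false
universe u
open CategoryTheory MonoidalCategory CartesianMonoidalCategory MonObj AlgebraicGeometry Opposite
open GIT

namespace Groth.Agent.S19786

open CategoryTheory CategoryTheory.Limits AlgebraicGeometry

open Groth.Agent CategoryTheory.MonoidalCategory CategoryTheory.CartesianMonoidalCategory CategoryTheory.MonObj
set_option backward.isDefEq.respectTransparency false

/-- Let k be an algebraically closed field, G an algebraic group over k (a smooth group scheme of finite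
type over k) acting by σ on a scheme X proper over k, L a G-linearised line bundle on X in
total-space form, x a k-point of X, λ : 𝔾_m → G a one-parameter subgroup and α a k-point of G; let
λ' be the conjugate one-parameter subgroup u ↦ α⁻¹·λ(u)·α. Then μ^L(σ(α, x), λ) = μ^L(x, λ'): the
numerical function (the limit of the orbit as u → 0 exists and 𝔾_m acts on the fibre of L over it
with exponent m) takes the same values at the translated point α·x with λ and at x with λ'. -/
theorem result (k : Type u) [Field k] [IsAlgClosed k]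
    (G X : Over (Spec (CommRingCat.of k))) [GrpObj G] [Smooth G.hom] [QuasiCompact G.hom] [IsProper X.hom]
    (a : AlgGrp.Action G X) (B : GLinSh.LinBun G a) (x : 𝟙_ (Over (Spec (CommRingCat.of k))) ⟶ X)
    (l : Red.Gm (Spec (CommRingCat.of k)) ⟶ G) [IsMonHom l] (g₀ : 𝟙_ (Over (Spec (CommRingCat.of k))) ⟶ G)
    (l' : Red.Gm (Spec (CommRingCat.of k)) ⟶ G) [IsMonHom l'] (hl' : l' = (toUnit _ ≫ g₀)⁻¹ * l * (toUnit _ ≫ g₀))
    (m : ℤ) : HMNum.IsMu B l (lift g₀ x ≫ a.act) m ↔ HMNum.IsMu B l' x m := by
  have hx : S19791.mv a g₀ x = lift g₀ x ≫ a.act := by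
    rw [S19791.mv, toUnit_unique (toUnit _) (𝟙 _), Category.id_comp]
  have hback : S19791.mv a g₀⁻¹ (lift g₀ x ≫ a.act) = x := by
    rw [← hx, S19791.mv, S19791.mv, ← S19791.lift_mul_act', GrpObj.comp_inv, inv_mul_cancel, S19791.lift_one_act']
  have hcong : ∀ (p q : Red.Gm (Spec (CommRingCat.of k)) ⟶ G) [IsMonHom p] [IsMonHom q]
      (y : 𝟙_ (Over (Spec (CommRingCat.of k))) ⟶ X), p = q → HMNum.IsMu B p y m → HMNum.IsMu B q y m := by
    intro p q _ _ y e h
    subst e
    exact h
  constructor
  · intro h
    have h' := S19791.isMu_mv a B g₀⁻¹ l _ m h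
    rw [hback] at h'
    refine hcong _ l' x ?_ h'
    rw [hl', S19791.cj, GrpObj.comp_inv, _root_.inv_inv]
  · intro h
    have h' := S19791.isMu_mv a B g₀ l' _ m h
    rw [hx] at h'
    refine hcong _ l _ ?_ h'
    rw [hl', S19791.cj]
    group

end Groth.Agent.S19786
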