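import Groth.Statements.S19795
import Groth.Agent.HomRep.Quasi
import Groth.Agent.HomRep.Finite
import Groth.Agent.SplitHom.SameRank
import Groth.Agent.WittHomLib.Points
import Groth.Agent.WeilTorusLib.Basic
import Groth.Agent.S19145
import Groth.Agent.S9812

set_option autoImplicit false
open CategoryTheory MonoidalCategory CartesianMonoidalCategory MonObj GrpObj AlgebraicGeometry
universe u
open SGA3x

namespace Groth.Agent.S19795

set_option backward.isDefEq.respectTransparency false
set_option backward.isDefEq.respectTransparency.types false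
set_option linter.style.haveILetI false
open MonoidalCategory CartesianMonoidalCategory MonObj

/-- Homomorphisms of etale locally diagonalisable groups over a geometrically unibranch irreducible base are
determined at the generic point. -/
theorem exists_unique_hom {S : Scheme.{u}} [IsIntegral S]
    (hS : ∀ s : S, CAlg2.IsGeomUnibranch (S.presheaf.stalk s)) {H G : Over S} [GrpObj H] [GrpObj G]
    (hH : TwC.Locally S TwC.Topology.etale (fun S' f => ∃ (M : Type) (_ : AddCommGroup M),
      Nonempty (Grp.mk (Red.bc f H) ≅ Grp.mk (Red.DS S' M))))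
    (hG : TwC.Locally S TwC.Topology.etale (fun S' f => ∃ (M : Type) (_ : AddCommGroup M),
      AddGroup.FG M ∧ Nonempty (Grp.mk (Red.bc f G) ≅ Grp.mk (Red.DS S' M))))
    (lamK : Red.bc (S.fromSpecStalk (genericPoint S)) H ⟶ Red.bc (S.fromSpecStalk (genericPoint S)) G)
    [IsMonHom lamK] :
    ∃! lam : H ⟶ G, IsMonHom lam ∧ (Over.pullback (S.fromSpecStalk (genericPoint S))).map lam = lamK := by
  obtain ⟨A, υ, ⟨hυ, hrep⟩, hA⟩ := Groth.Agent.HomRep.exists_representsHom_quasi H G hH hG
  obtain ⟨-, -, huniq, hext⟩ := Groth.Agent.S19145.result hS A hA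
  let j := S.fromSpecStalk (genericPoint S)
  let T₀ : Over (Spec (S.presheaf.stalk (genericPoint S))) := Over.mk (𝟙 _)
  let U : Over S := (Over.map j).obj T₀
  let adj := Over.mapPullbackAdj j
  let φK : H ⊗ U ⟶ G := inv (HomRep.proj j H T₀) ≫ (adj.homEquiv _ _).symm (fst _ _ ≫ lamK)
  have hφK : adj.homEquiv _ _ (HomRep.proj j H T₀ ≫ φK) = fst _ _ ≫ lamK := by
    rw [IsIso.hom_inv_id_assoc, Equiv.apply_symm_apply]
  have hfam : AutFam.IsHomFamily H G φK := (HomRep.isHomFamily_iff j φK).2 (by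
    rw [hφK]
    intro Y g₁ g₂ t
    rw [← Category.assoc, ← Category.assoc, ← Category.assoc]
    erw [lift_fst, lift_fst, lift_fst]
    exact MonObj.mul_comp g₁ g₂ lamK)
  obtain ⟨aK, haK, huK⟩ := hrep U φK hfam
  have hkey : ∀ lam : H ⟶ G, (Over.pullback j).map lam = lamK ↔ (fst H U ≫ lam) = φK := by
    intro lam
    rw [← cancel_epi (HomRep.proj j H T₀), ← (adj.homEquiv _ _).injective.eq_iff, hφK]
    have h1 : adj.homEquiv _ _ (HomRep.proj j H T₀ ≫ fst H U ≫ lam) = fst _ _ ≫ (Over.pullback j).map lam := by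
      rw [← Category.assoc, show HomRep.proj j H T₀ ≫ fst H U = (adj.homEquiv _ _).symm (fst _ _) from lift_fst _ _,
        Adjunction.homEquiv_naturality_right, Equiv.apply_symm_apply]
    rw [h1]
    refine ⟨fun h => by rw [h], fun h => ?_⟩
    let sec : Red.bc j H ⟶ Red.bc j H ⊗ T₀ := lift (𝟙 _) (Over.homMk (Red.bc j H).hom (Category.comp_id _))
    have hs : sec ≫ fst (Red.bc j H) T₀ = 𝟙 _ := lift_fst _ _
    exact (((Category.id_comp _).symm.trans (congrArg (· ≫ _) hs.symm)).trans (Category.assoc _ _ _)).trans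
      ((congrArg (sec ≫ ·) h).trans ((Category.assoc _ _ _).symm.trans
        ((congrArg (· ≫ lamK) hs).trans (Category.id_comp _))))
  have hfamlam : ∀ lam : H ⟶ G, IsMonHom lam → AutFam.IsHomFamily H G (fst H (𝟙_ (Over S)) ≫ lam) := by
    intro lam _ Y g₁ g₂ t
    simp only [lift_fst_assoc]
    exact MonObj.mul_comp g₁ g₂ lam
  let ρ : Spec (CommRingCat.of (S.residueField (genericPoint S))) ⟶ Spec (S.presheaf.stalk (genericPoint S)) :=
    Spec.map (S.residue (genericPoint S))
  have hρ : ρ ≫ j = S.fromSpecResidueField (genericPoint S) := rfl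
  haveI : IsIso ρ := by
    haveI : IsIso (S.residue (genericPoint S)) := by
      have hfld : IsField (S.presheaf.stalk (genericPoint S)) := Field.toIsField S.functionField
      refine (ConcreteCategory.isIso_iff_bijective _).2 ⟨?_, Ideal.Quotient.mk_surjective⟩
      letI := hfld.toField
      exact (S.residue (genericPoint S)).hom.injective
    exact inferInstanceAs (IsIso (Spec.map _))
  have hU : U.hom = j := Category.id_comp _
  obtain ⟨σ, hσ, hστ⟩ := hext (ρ ≫ aK.left) (by
    rw [Category.assoc, Over.w aK, hU, hρ])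
  let a : 𝟙_ (Over S) ⟶ A := Over.homMk σ hσ
  have hua : toUnit U ≫ a = aK := Over.OverMorphism.ext (by
    rw [← cancel_epi ρ, Over.comp_left]
    show ρ ≫ U.hom ≫ σ = _
    rw [hU, ← Category.assoc, hρ, hστ])
  let φ : H ⊗ 𝟙_ (Over S) ⟶ G := (H ◁ a) ≫ υ
  have hφ : AutFam.IsHomFamily H G φ := HomRep.isHomFamily_comp a hυ
  let lam : H ⟶ G := lift (𝟙 H) (toUnit H) ≫ φ
  have hφl : φ = fst H (𝟙_ (Over S)) ≫ lam := by
    simp only [lam, comp_lift_assoc, Category.comp_id]
    have : lift (fst H (𝟙_ (Over S))) (fst H (𝟙_ (Over S)) ≫ toUnit H) = 𝟙 _ :=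
      hom_ext _ _ (by simp) (toUnit_unique _ _)
    rw [this, Category.id_comp]
  haveI hlam : IsMonHom lam := Groth.Agent.WittHomLib.isMonHom_of_mul lam fun X g₁ g₂ => by
    simp only [lam, comp_lift_assoc, Category.comp_id]
    rw [toUnit_unique ((g₁ * g₂) ≫ toUnit H) (toUnit X), toUnit_unique (g₁ ≫ toUnit H) (toUnit X),
      toUnit_unique (g₂ ≫ toUnit H) (toUnit X)]
    exact hφ X g₁ g₂ (toUnit X)
  refine ⟨lam, ⟨hlam, (hkey lam).2 ?_⟩, fun lam' ⟨h', hl'⟩ => ?_⟩
  · rw [← haK, ← hua, whiskerLeft_comp_assoc]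
    change _ = (H ◁ toUnit U) ≫ φ
    rw [hφl, whiskerLeft_fst_assoc]
  · obtain ⟨b, hb, -⟩ := hrep _ _ (hfamlam lam' h')
    have hub : toUnit U ≫ b = aK := huK _ (by
      beta_reduce
      rw [whiskerLeft_comp_assoc, hb, whiskerLeft_fst_assoc]
      exact (hkey lam').1 hl')
    have hbl : (Over.Hom.left b) ≫ A.hom = 𝟙 S := Over.w b
    have hba : b = a := Over.OverMorphism.ext (huniq b.left σ hbl hσ (by
      have h3 : (toUnit U ≫ b).left = (toUnit U ≫ a).left := by rw [hub, hua]
      rw [← hρ, ← hU, Category.assoc, Category.assoc]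
      exact congrArg (fun m => ρ ≫ m) h3))
    subst hba
    have h4 := congrArg (fun m => lift (𝟙 H) (toUnit H) ≫ m) hb
    simpa [lam, φ] using h4.symm

/-- Let S be an integral, normal, locally Noetherian scheme with function field K, f : Spec K ⟶ S the
inclusion of the generic point, and T an S-torus. Then X_*(T)(S) = X_*(T)(K): every homomorphism of
K-groups (𝔾_{m,S}) ×_S Spec K ⟶ T ×_S Spec K is the base change along f of exactly one homomorphism
of S-groups 𝔾_{m,S} ⟶ T. (The published statement assumes S connected, normal and locally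
Noetherian, which makes S integral.) -/
theorem result {S : Scheme.{u}} [IsIntegral S]
    [IsLocallyNoetherian S] (hnorm : ∀ x : ↥S, IsDomain (S.presheaf.stalk x) ∧ IsIntegrallyClosed (S.presheaf.stalk x))
    {T : Over S} [GrpObj T] (hT : Red.IsTorus T)
    (lamK : Red.bc (S.fromSpecStalk (genericPoint S)) (Red.Gm S) ⟶ Red.bc (S.fromSpecStalk (genericPoint S)) T)
    [IsMonHom lamK] :
    ∃! lam : Red.Gm S ⟶ T, IsMonHom lam ∧ (Over.pullback (S.fromSpecStalk (genericPoint S))).map lam = lamK := by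
  have hG := Groth.Agent.HomRep.locally_etale_of_isMultTypeFT (Groth.Agent.SplitHom.isMultTypeFT_of_isTorus hT)
  refine exists_unique_hom (fun x => ?_) (fun s => ?_) hG lamK
  · haveI := (hnorm x).1
    haveI := (hnorm x).2
    exact Groth.Agent.S9812.result _
  · exact ⟨S, 𝟙 S, inferInstance, ⟨s, rfl⟩, ℤ, inferInstance,
      ⟨(HomDesc.bcGrpIso (𝟙 S) _ (specULiftZIsTerminal.hom_ext _ _) (Red.diag (ULift.{u} ℤ) ℤ) :
        Grp.mk (Red.bc (𝟙 S) (Red.Gm S)) ≅ Grp.mk (Red.Gm S))⟩⟩

end Groth.Agent.S19795
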