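import Groth.Statements.S19799
import Mathlib
import Groth.Agent.FinAlgClosed.Basic

set_option autoImplicit false
universe u v w
open scoped TensorProduct
open CAlg

namespace Groth.Agent.S19799
open TensorProduct

/-- Let k be an algebraically closed field and A, B commutative k-algebras, each finite-dimensional as a
k-vector space. Then reduction commutes with tensor products: the kernel of the canonical surjection
A ⊗_k B ⟶ (A/nilradical A) ⊗_k (B/nilradical B) equals the nilradical of A ⊗_k B, so that this
surjection induces an isomorphism (A ⊗_k B)_red ≅ A_red ⊗_k B_red and in particular A_red ⊗_k B_red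
is reduced. -/
theorem result (k : Type u) [Field k]
    [IsAlgClosed k] (A : Type v) [CommRing A] [Algebra k A] [Module.Finite k A]
    (B : Type w) [CommRing B] [Algebra k B] [Module.Finite k B] :
    RingHom.ker (Algebra.TensorProduct.map (Ideal.Quotient.mkₐ k (nilradical A))
      (Ideal.Quotient.mkₐ k (nilradical B))).toRingHom = nilradical (A ⊗[k] B) := by
  have hA := FinAlgClosed.isReduced_quot_nilradical A
  have hB := FinAlgClosed.isReduced_quot_nilradical B
  obtain ⟨eA⟩ := FinAlgClosed.exists_pi_algEquiv k (A ⧸ nilradical A)
  obtain ⟨eB⟩ := FinAlgClosed.exists_pi_algEquiv k (B ⧸ nilradical B)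
  have : IsArtinianRing (A ⧸ nilradical A) := IsArtinianRing.of_finite k _
  have : IsArtinianRing (B ⧸ nilradical B) := IsArtinianRing.of_finite k _
  classical
  cases nonempty_fintype (MaximalSpectrum (B ⧸ nilradical B))
  have hred : IsReduced ((A ⧸ nilradical A) ⊗[k] (B ⧸ nilradical B)) := by
    let e := (Algebra.TensorProduct.congr eA eB).trans
      ((Algebra.TensorProduct.piRight k k _ (fun _ : MaximalSpectrum (B ⧸ nilradical B) => k)).trans
      (AlgEquiv.piCongrRight fun _ => Algebra.TensorProduct.rid k k _))
    exact isReduced_of_injective e e.injective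
  refine le_antisymm (fun x hx => ?_) (fun x hx => ?_)
  · have hx' : x ∈ RingHom.ker (Algebra.TensorProduct.map (Ideal.Quotient.mkₐ k (nilradical A)) (Ideal.Quotient.mkₐ k (nilradical B))) := hx
    rw [Algebra.TensorProduct.map_ker _ _ (Ideal.Quotient.mkₐ_surjective k _) (Ideal.Quotient.mkₐ_surjective k _)] at hx'
    revert hx'
    refine fun h => (sup_le ?_ ?_ : _ ≤ nilradical (A ⊗[k] B)) h <;> rw [Ideal.map_le_iff_le_comap] <;> intro a ha <;> rw [Ideal.mem_comap, mem_nilradical]
    · have ha' : a ∈ nilradical A := by simpa [RingHom.mem_ker, Ideal.Quotient.eq_zero_iff_mem] using ha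
      exact IsNilpotent.map ha' _
    · have ha' : a ∈ nilradical B := by simpa [RingHom.mem_ker, Ideal.Quotient.eq_zero_iff_mem] using ha
      exact IsNilpotent.map ha' _
  · exact (IsNilpotent.map (mem_nilradical.mp hx) _).eq_zero

end Groth.Agent.S19799
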