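import Groth.Statements.S19801
import Groth.Agent.NakaiLib.BigApps

set_option autoImplicit false
universe u
open CategoryTheory CategoryTheory.Limits AlgebraicGeometry Asymptotics
open Variety

namespace Groth.Agent.S19801

/-- Let X be a projective variety of dimension d over a field k, i.e. a geometrically integral scheme
proper over k admitting an ample invertible module, with dim X = d; let L be an invertible
O_X-module and F a coherent O_X-module. Then dim_k H^0(X, F ⊗ L^m) = O(m^d) as m → ∞. -/
theorem result (k : Type u) [Field k] (X : Scheme.{u})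
    [X.Over (Spec (CommRingCat.of k))] [IsIntegral X] [GeometricallyIntegral (X ↘ Spec (CommRingCat.of k))]
    [IsProper (X ↘ Spec (CommRingCat.of k))] (hproj : ∃ A : X.Modules, CohB1.IsAmple A)
    (d : ℕ) (hd : topologicalKrullDim X = d) (L : X.Modules) (hL : PicF.IsInvertible L)
    (F : X.Modules) (hF : Coh.IsCoh F) :
    (fun m : ℕ => (Module.finrank k (Coh.HH X (CohB1.tensorMod F (CohB1.tensorPow L m)) 0) : ℝ)) =O[Filter.atTop]
      (fun m : ℕ => (m : ℝ) ^ d) := by
  obtain ⟨H, hH⟩ := hproj
  haveI := Groth.Agent.EulerIneqLib.isNoetherian_proper (X := X) k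
  have hdF : topologicalKrullDim (CohB1.support F) < ((d + 1 : ℕ) : WithBot ℕ∞) :=
    lt_of_le_of_lt (Topology.IsInducing.subtypeVal.topologicalKrullDim_le.trans hd.le)
      (by exact_mod_cast Nat.lt_succ_self d)
  obtain ⟨C, hC0, hC⟩ := Groth.Agent.Nakai.exists_h_bound k hH hL hF hdF
  refine Asymptotics.IsBigO.of_bound ((C : ℝ) * 2 ^ d) (Filter.eventually_atTop.2 ⟨1, fun m hm => ?_⟩)
  rw [Real.norm_natCast, norm_pow, Real.norm_natCast, mul_assoc, ← mul_pow]
  have hC0' : (0 : ℝ) ≤ (C : ℝ) := by exact_mod_cast hC0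
  have h1 : ((Module.finrank k (Coh.HH X (CohB1.tensorMod F (CohB1.tensorPow L m)) 0) : ℕ) : ℝ) ≤
      (C : ℝ) * ((m : ℝ) + 1) ^ d := by exact_mod_cast hC m
  refine h1.trans (mul_le_mul_of_nonneg_left (pow_le_pow_left₀ (by positivity) ?_ d) hC0')
  have : (1 : ℝ) ≤ (m : ℝ) := by exact_mod_cast hm
  linarith

end Groth.Agent.S19801
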