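import Groth.Statements.S19803
import Groth.Agent.CastSeveriLib.Curve

set_option autoImplicit false
universe u
open CategoryTheory CategoryTheory.Limits AlgebraicGeometry Opposite
open Curves

namespace Groth.Agent.S19803

open CategoryTheory CategoryTheory.Limits AlgebraicGeometry

set_option backward.isDefEq.respectTransparency false
set_option linter.style.haveILetI false
set_option maxHeartbeats 1000000


/-- Let F be a smooth projective curve over an algebraically closed field k of characteristic 0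
(integral, proper over k, of dimension one, all local rings regular) of genus g = 4γ + 1 with γ ≥ 1,
and let f_i : F ⟶ P_i (i = 1, 2) be two k-morphisms, finite and flat of constant rank 2, onto smooth
projective curves P_i of genus γ_i ≤ γ (two involutions of F with quotients of genus at most γ)
which are not isomorphic as covers: there is no k-isomorphism e : P₁ ≅ P₂ with f₁ ≫ e = f₂ (the
involutions are distinct). Then P₁ and P₂ are hyperelliptic in the sense that each carries an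
invertible module of degree 2 with at least two linearly independent global sections (a g^1_2).
Degrees are χ(·) - χ(O). -/
theorem result (k : Type u) [Field k] [IsAlgClosed k] [CharZero k] (X : Scheme.{u}) [X.Over (Spec (CommRingCat.of k))]
    [IsIntegral X] [IsProper (X ↘ (Spec (CommRingCat.of k)))] (hdim : topologicalKrullDim X = 1)
    (hreg : ∀ x : X, IsRegularLocalRing (X.presheaf.stalk x))
    (γ : ℕ) (hγ : 1 ≤ γ) (hg : Curv2.genus k X = 4 * γ + 1)
    (P₁ : Scheme.{u}) [P₁.Over (Spec (CommRingCat.of k))] [IsIntegral P₁] [IsProper (P₁ ↘ (Spec (CommRingCat.of k)))]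
    (hdim₁ : topologicalKrullDim P₁ = 1) (hreg₁ : ∀ y : P₁, IsRegularLocalRing (P₁.presheaf.stalk y)) (hγ₁ : Curv2.genus k P₁ ≤ γ)
    (P₂ : Scheme.{u}) [P₂.Over (Spec (CommRingCat.of k))] [IsIntegral P₂] [IsProper (P₂ ↘ (Spec (CommRingCat.of k)))]
    (hdim₂ : topologicalKrullDim P₂ = 1) (hreg₂ : ∀ y : P₂, IsRegularLocalRing (P₂.presheaf.stalk y)) (hγ₂ : Curv2.genus k P₂ ≤ γ)
    (f₁ : X ⟶ P₁) (hf₁ : f₁ ≫ (P₁ ↘ Spec (CommRingCat.of k)) = X ↘ Spec (CommRingCat.of k))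
    [IsFinite f₁] [Flat f₁] (hr₁ : ∀ y : P₁, Scheme.Hom.finrank f₁ y = 2)
    (f₂ : X ⟶ P₂) (hf₂ : f₂ ≫ (P₂ ↘ Spec (CommRingCat.of k)) = X ↘ Spec (CommRingCat.of k))
    [IsFinite f₂] [Flat f₂] (hr₂ : ∀ y : P₂, Scheme.Hom.finrank f₂ y = 2)
    (hne : ¬ ∃ e : P₁ ≅ P₂, e.hom ≫ (P₂ ↘ Spec (CommRingCat.of k)) = (P₁ ↘ Spec (CommRingCat.of k)) ∧ f₁ ≫ e.hom = f₂) :
    (∃ M₁ : P₁.Modules, PicF.IsInvertible M₁ ∧ Curv2.deg k P₁ M₁ 1 = 2 ∧ 2 ≤ Module.finrank k (Coh.HH P₁ M₁ 0)) ∧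
      ∃ M₂ : P₂.Modules, PicF.IsInvertible M₂ ∧ Curv2.deg k P₂ M₂ 1 = 2 ∧ 2 ≤ Module.finrank k (Coh.HH P₂ M₂ 0) := by
  haveI := Groth.Agent.CurveFF.isRegCurve_of_regular hdim.le hreg
  haveI := Groth.Agent.CurveFF.isRegCurve_of_regular hdim₁.le hreg₁
  haveI := Groth.Agent.CurveFF.isRegCurve_of_regular hdim₂.le hreg₂
  haveI := Groth.Agent.CastSeveriLib.surjective_of_rank f₁ hr₁
  haveI := Groth.Agent.CastSeveriLib.surjective_of_rank f₂ hr₂
  have hle := Groth.Agent.CastSeveriLib.genus_le' hdim hdim₁ hdim₂ f₁ hf₁ f₂ hf₂ hr₁ hr₂ hne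
  refine ⟨Groth.Agent.CastSeveriLib.exists_hyperelliptic hdim hdim₂ hdim₁ f₂ hf₂ f₁ hf₁ hr₂ hr₁ ?_ (by omega) (by omega),
    Groth.Agent.CastSeveriLib.exists_hyperelliptic hdim hdim₁ hdim₂ f₁ hf₁ f₂ hf₂ hr₁ hr₂ hne (by omega) (by omega)⟩
  rintro ⟨e, he, he'⟩
  exact hne ⟨e.symm, by rw [Iso.symm_hom, Iso.inv_comp_eq]; exact he.symm,
    by rw [Iso.symm_hom, Iso.comp_inv_eq]; exact he'.symm⟩

end Groth.Agent.S19803
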