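import Groth.Statements.S19804
import Mathlib

set_option autoImplicit false
open scoped TensorProduct
universe u v w
open Brauer

namespace Groth.Agent.S19804

/-- Let R be a commutative ring with Spec R connected, A an Azumaya R-algebra and e an idempotent
element of A. If for some nonzero commutative R-algebra R' the element 1 ⊗ e of R' ⊗_R A is 0, then
e = 0; and if 1 ⊗ e = 1 in R' ⊗_R A, then e = 1. (The published statement is for an Azumaya algebra
over a connected scheme S and base change to an arbitrary nonempty S-scheme T; this row takes S and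
T affine.) -/
theorem result {R : Type u} [CommRing R]
    [ConnectedSpace (PrimeSpectrum R)] {A : Type v} [Ring A] [Algebra R A] [IsAzumaya R A]
    (e : A) (he : IsIdempotentElem e) (R' : Type w) [CommRing R'] [Nontrivial R'] [Algebra R R'] :
    ((1 : R') ⊗ₜ[R] e = (0 : R' ⊗[R] A) → e = 0) ∧ ((1 : R') ⊗ₜ[R] e = (1 : R' ⊗[R] A) → e = 1) := by
  have key : ∀ e : A, IsIdempotentElem e → (1 : R') ⊗ₜ[R] e = (0 : R' ⊗[R] A) → e = 0 := by
    intro e he h0
    let r : A →ₗ[R] LinearMap.range (LinearMap.mulLeft R e) := (LinearMap.mulLeft R e).rangeRestrict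
    let incl := (LinearMap.range (LinearMap.mulLeft R e)).subtype
    have hri : r ∘ₗ incl = LinearMap.id := LinearMap.ext fun ⟨y, x, hx⟩ => Subtype.ext (by
      show e * y = y
      rw [← hx, LinearMap.mulLeft_apply, ← mul_assoc, he.eq])
    haveI : Module.Projective R (LinearMap.range (LinearMap.mulLeft R e)) := Module.Projective.of_split incl r hri
    haveI : Module.Finite R (LinearMap.range (LinearMap.mulLeft R e)) := Module.Finite.range _
    haveI : Module.FinitePresentation R (LinearMap.range (LinearMap.mulLeft R e)) :=
      Module.finitePresentation_of_projective R _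
    haveI : Subsingleton (R' ⊗[R] LinearMap.range (LinearMap.mulLeft R e)) := subsingleton_of_forall_eq 0 fun t => by
      have h1 : LinearMap.lTensor R' incl t = 0 := by
        induction t using TensorProduct.induction_on with
        | zero => simp
        | tmul s y =>
          obtain ⟨x, hx⟩ := y.2
          rw [LinearMap.lTensor_tmul, Submodule.subtype_apply, ← hx, LinearMap.mulLeft_apply,
            show s ⊗ₜ[R] (e * x) = ((1 : R') ⊗ₜ[R] e) * (s ⊗ₜ[R] x) by
              rw [Algebra.TensorProduct.tmul_mul_tmul, one_mul], h0, zero_mul]
        | add p q hp hq => rw [map_add, hp, hq, add_zero]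
      have h2 := congrArg (LinearMap.lTensor R' r) h1
      rwa [← LinearMap.comp_apply, ← LinearMap.lTensor_comp, hri, LinearMap.lTensor_id, map_zero] at h2
    obtain ⟨q⟩ : Nonempty (PrimeSpectrum R') := inferInstance
    have h3 := Module.rankAtStalk_baseChange (R := R) (M := LinearMap.range (LinearMap.mulLeft R e)) (S := R') q
    rw [Module.rankAtStalk_eq_zero_of_subsingleton, Pi.zero_apply] at h3
    haveI : Subsingleton (LinearMap.range (LinearMap.mulLeft R e)) :=
      (Module.rankAtStalk_eq_zero_iff_subsingleton (R := R)).1 (funext fun p => by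
        rw [Pi.zero_apply, h3]
        exact Module.isLocallyConstant_rankAtStalk.apply_eq_of_preconnectedSpace _ _)
    exact congrArg Subtype.val (Subsingleton.elim
      (⟨e, 1, by rw [LinearMap.mulLeft_apply, mul_one]⟩ : LinearMap.range (LinearMap.mulLeft R e)) 0)
  refine ⟨key e he, fun h => ?_⟩
  have := key (1 - e) he.one_sub (by rw [TensorProduct.tmul_sub, h, Algebra.TensorProduct.one_def, sub_self])
  exact (sub_eq_zero.1 this).symm

end Groth.Agent.S19804
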