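import Groth.Statements.S19806
import Groth.Agent.VanGrowLib.Freq

set_option autoImplicit false
universe u
open CategoryTheory CategoryTheory.Limits AlgebraicGeometry
open scoped ENNReal
open Variety

namespace Groth.Agent.S19806

open CategoryTheory CategoryTheory.Limits AlgebraicGeometry

set_option backward.isDefEq.respectTransparency false

/-- Let X be a projective variety of dimension d over a field k (a geometrically integral scheme, proper
over k, admitting an ample invertible module, with dim X = d) and L an invertible O_X-module; write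
vol(L) for the upper limit of dim_k H^0(X, L^m) / m^d as m → ∞, taken in the extended non-negative
reals (the volume of L up to the factor d!). Call L big when the lower limit of dim_k H^0(X, L^m) /
m^d is positive. Then L is big if and only if vol(L) is positive. -/
theorem result (k : Type u) [Field k] (X : Scheme.{u})
    [X.Over (Spec (CommRingCat.of k))] [IsIntegral X] [GeometricallyIntegral (X ↘ Spec (CommRingCat.of k))]
    [IsProper (X ↘ Spec (CommRingCat.of k))]
    (hproj : ∃ A : X.Modules, CohB1.IsAmple A) (d : ℕ) (hd : topologicalKrullDim X = d)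
    (L : X.Modules) (hL : PicF.IsInvertible L) :
    0 < Filter.liminf (fun m : ℕ => (Module.finrank k (Coh.HH X (CohB1.tensorPow L m) 0) : ℝ≥0∞) /
        (m : ℝ≥0∞) ^ d) Filter.atTop ↔
      0 < Filter.limsup (fun m : ℕ => (Module.finrank k (Coh.HH X (CohB1.tensorPow L m) 0) : ℝ≥0∞) /
        (m : ℝ≥0∞) ^ d) Filter.atTop := by
  haveI := EulerIneqLib.isNoetherian_proper (X := X) k
  constructor
  · exact fun h => lt_of_lt_of_le h (Filter.liminf_le_limsup (by isBoundedDefault) (by isBoundedDefault))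
  intro h
  obtain ⟨H, hH⟩ := hproj
  obtain ⟨b, hb, hb'⟩ := exists_between h
  have hbt : b ≠ ⊤ := ne_top_of_lt hb'
  have hfreq := Filter.frequently_lt_of_lt_limsup (by isBoundedDefault) hb'
  obtain ⟨ν₀, A, φ, hν₀, hA, hφ⟩ := Groth.Agent.VanGrow.exists_mono_of_freq k hd hH hL
    (c := b.toReal) (ENNReal.toReal_pos hb.ne' hbt) (hfreq.mono fun m hm => by
      have h1 := (ENNReal.toReal_le_toReal (ENNReal.mul_ne_top hbt (ENNReal.pow_ne_top (ENNReal.natCast_ne_top m)))
        (ENNReal.natCast_ne_top _)).2 ((ENNReal.mul_lt_of_lt_div hm).le)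
      simpa using h1)
  obtain ⟨ν, a, hν, ha, hg⟩ := Groth.Agent.VanGrow.exists_growth_of_mono k hd hA hL φ hν₀
  obtain ⟨m₁, hm₁⟩ := Groth.Agent.VanGrow.exists_h_ne_zero k hA hL hν₀ φ
  set K := m₁ + 2 * ν with hK
  refine lt_of_lt_of_le (b := ((K ^ d * a : ℕ) : ℝ≥0∞)⁻¹)
    (ENNReal.inv_pos.2 (ENNReal.natCast_ne_top _)) ?_
  refine Filter.le_liminf_of_le (by isBoundedDefault) (Filter.eventually_atTop.2 ⟨m₁ + ν, fun m hm => ?_⟩)
  set μ := (m - m₁) / ν with hμ
  have hμ1 : 1 ≤ μ := (Nat.le_div_iff_mul_le hν).2 (by omega)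
  have e1 : ν * μ + (m - m₁) % ν = m - m₁ := Nat.div_add_mod _ _
  have e2 := Nat.mod_lt (m - m₁) hν
  have hsplit : m = ν * μ + (m - ν * μ) := by omega
  have hr : m₁ ≤ m - ν * μ := by omega
  have h1 : μ ^ d ≤ a * Groth.Agent.VolLib.h k (CohB1.tensorPow L m) := by
    refine (hg μ hμ1).trans (Nat.mul_le_mul_left a ?_)
    refine (Groth.Agent.VolLib.h_le_tensor k (Groth.Agent.AmpleLib.isInvertible_tensorPow hL _)
      (Groth.Agent.AmpleLib.isInvertible_tensorPow hL _) (hm₁ _ hr)).trans_eq ?_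
    conv_rhs => rw [hsplit]
    rw [Groth.Agent.VolLib.h_congr k (Groth.Agent.AmpleLib.powAdd L (ν * μ) (m - ν * μ))]
  have hmK : m ≤ K * μ :=
    calc m ≤ ν * μ + (m₁ + ν) * 1 := by omega
      _ ≤ ν * μ + (m₁ + ν) * μ := Nat.add_le_add_left (Nat.mul_le_mul_left _ hμ1) _
      _ = K * μ := by rw [hK]; ring
  have h2 : m ^ d ≤ K ^ d * a * Groth.Agent.VolLib.h k (CohB1.tensorPow L m) := by
    rw [mul_assoc]
    refine (Nat.pow_le_pow_left hmK d).trans ?_
    rw [mul_pow]
    exact Nat.mul_le_mul_left _ h1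
  have hm0 : ((m : ℕ) : ℝ≥0∞) ^ d ≠ 0 := pow_ne_zero _ (Nat.cast_ne_zero.2 (by omega))
  rw [ENNReal.le_div_iff_mul_le (Or.inl hm0) (Or.inl (ENNReal.pow_ne_top (ENNReal.natCast_ne_top m))),
    ENNReal.inv_mul_le_iff (Nat.cast_ne_zero.2 (Nat.mul_pos (pow_pos (by omega) d) ha).ne')
      (ENNReal.natCast_ne_top _)]
  exact_mod_cast h2


end Groth.Agent.S19806
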