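import Groth.Statements.S19809
import Groth.Agent.GITLib.BinFactor
import Groth.Agent.GenPointsLib

set_option autoImplicit false
universe u
open RatCurv

namespace Groth.Agent.S19809

open MvPolynomial in
theorem exists_cubic (K : Type u) [Field K] [IsAlgClosed K] (V : Submodule K (MvPolynomial (Fin 2) K))
    (hV : V ≤ homogeneousSubmodule (Fin 2) K 5) (hdim : Module.finrank K ↥V = 4)
    (hsep : ∀ e ∈ homogeneousSubmodule (Fin 2) K 2, e ≠ 0 →
      ∀ F ∈ homogeneousSubmodule (Fin 2) K 5, ∃ v ∈ V,
        ∃ h ∈ homogeneousSubmodule (Fin 2) K 3, F = v + e * h)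
    (F : Finset (MvPolynomial (Fin 2) K)) :
    ∃ g ∈ homogeneousSubmodule (Fin 2) K 3, g ≠ 0 ∧
      2 ≤ Module.finrank K ↥(V ⊓ (homogeneousSubmodule (Fin 2) K 2).map (LinearMap.mulLeft K g)) ∧
      ∀ g' ∈ F, ∀ c : K, g ≠ c • g' := by
  classical
  have hd : ∀ m, Module.finrank K ↥(homogeneousSubmodule (Fin 2) K m) = m + 1 := fun m => by
    rw [GenPointsLib.finrank_forms K 1 m, Nat.choose_one_right]
  haveI : ∀ m, FiniteDimensional K ↥(homogeneousSubmodule (Fin 2) K m) := fun m =>
    Module.finite_of_finrank_pos (by rw [hd]; omega)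
  let S5 := homogeneousSubmodule (Fin 2) K 5
  let V' : Submodule K S5 := V.comap S5.subtype
  have hV' : Module.finrank K V' = 4 :=
    (LinearEquiv.finrank_eq (Submodule.comapSubtypeEquivOfLe hV)).trans hdim
  let Q := S5 ⧸ V'
  have hQ : Module.finrank K Q = 2 := by
    have := Submodule.finrank_quotient_add_finrank V'
    rw [hV', hd] at this
    simp only [Q]; omega
  let b := Module.finBasisOfFinrankEq K Q hQ
  let ν : K → (Q →ₗ[K] K) := fun t => t • b.coord 0 + b.coord 1
  -- the pairing
  have hm : ∀ g ∈ homogeneousSubmodule (Fin 2) K 3, ∀ (q : homogeneousSubmodule (Fin 2) K 2),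
      g * (q : MvPolynomial (Fin 2) K) ∈ S5 := fun g hg q => IsHomogeneous.mul hg q.2
  let B : homogeneousSubmodule (Fin 2) K 3 →ₗ[K] homogeneousSubmodule (Fin 2) K 2 →ₗ[K] Q :=
    LinearMap.mk₂ K (fun g q => V'.mkQ ⟨(g : MvPolynomial (Fin 2) K) * q, hm _ g.2 q⟩)
      (fun g g' q => by rw [← map_add]; exact congrArg _ (Subtype.ext (by push_cast; ring)))
      (fun c g q => by rw [← map_smul]; exact congrArg _ (Subtype.ext (by push_cast; rw [smul_mul_assoc])))
      (fun g q q' => by rw [← map_add]; exact congrArg _ (Subtype.ext (by push_cast; ring)))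
      (fun c g q => by rw [← map_smul]; exact congrArg _ (Subtype.ext (by push_cast; rw [mul_smul_comm])))
  have hB : ∀ g q, B g q = 0 ↔ (g : MvPolynomial (Fin 2) K) * q ∈ V := fun g q => by
    show V'.mkQ _ = 0 ↔ _
    rw [Submodule.mkQ_apply, Submodule.Quotient.mk_eq_zero]
    rfl
  -- no cubic is a common solution
  have hne : ∀ g : homogeneousSubmodule (Fin 2) K 3, g ≠ 0 → B g ≠ 0 := by
    intro g hg0 hB0
    obtain ⟨c, s, hc, hs, -, hgs⟩ := GITLib.exists_linear_factors g.2 (fun h => hg0 (Subtype.ext h))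
    obtain ⟨x, y, z, rfl⟩ := Multiset.card_eq_three.1 hs
    have hgs' : (g : MvPolynomial (Fin 2) K) = (GITLib.lin x * GITLib.lin y) * (C c * GITLib.lin z) := by
      rw [hgs]; simp; ring
    set e := GITLib.lin x * GITLib.lin y with he_def
    set l := C c * GITLib.lin z with hl_def
    have he : e ∈ homogeneousSubmodule (Fin 2) K 2 :=
      IsHomogeneous.mul (GITLib.lin_isHomogeneous x) (GITLib.lin_isHomogeneous y)
    have hl : l ∈ homogeneousSubmodule (Fin 2) K 1 := (GITLib.lin_isHomogeneous z).C_mul c
    have he0 : e ≠ 0 := fun h => hg0 (Subtype.ext (by rw [hgs', h, zero_mul]; rfl))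
    let W := (homogeneousSubmodule (Fin 2) K 3).map (LinearMap.mulLeft K e)
    let G := (homogeneousSubmodule (Fin 2) K 2).map (LinearMap.mulLeft K (g : MvPolynomial (Fin 2) K))
    have hW : Module.finrank K W = 4 := by
      rw [← (Submodule.equivMapOfInjective _ (fun a b h => mul_left_cancel₀ he0 h) _).finrank_eq, hd]
    have hG : Module.finrank K G = 3 := by
      rw [← (Submodule.equivMapOfInjective _
        (fun a b h => mul_left_cancel₀ (fun h' => hg0 (Subtype.ext h')) h) _).finrank_eq, hd]
    haveI : FiniteDimensional K V := Module.finite_of_finrank_pos (by omega)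
    have hGle : G ≤ V ⊓ W := by
      rintro _ ⟨q, hq, rfl⟩
      refine ⟨(hB g ⟨q, hq⟩).1 (by rw [hB0]; rfl), l * q, IsHomogeneous.mul hl hq, ?_⟩
      show e * (l * q) = (g : MvPolynomial (Fin 2) K) * q
      rw [hgs', he_def]; ring
    have hsup : S5 ≤ V ⊔ W := fun F hF => by
      obtain ⟨v, hv, h, hh, rfl⟩ := hsep e he he0 F hF
      exact add_mem (Submodule.mem_sup_left hv) (Submodule.mem_sup_right ⟨h, hh, rfl⟩)
    haveI : FiniteDimensional K ↥W := Module.finite_of_finrank_pos (by omega)
    have h1 := Submodule.finrank_sup_add_finrank_inf_eq V W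
    have h2 := Submodule.finrank_mono hGle
    have h3 := Submodule.finrank_mono hsup
    rw [hd] at h3
    omega
  -- a cubic for each functional
  have hex : ∀ t : K, ∃ g : homogeneousSubmodule (Fin 2) K 3, g ≠ 0 ∧ ∀ q, ν t (B g q) = 0 := by
    intro t
    let Φ : homogeneousSubmodule (Fin 2) K 3 →ₗ[K] Module.Dual K (homogeneousSubmodule (Fin 2) K 2) :=
      B.compr₂ (ν t)
    have hlt : Module.finrank K (Module.Dual K (homogeneousSubmodule (Fin 2) K 2)) <
        Module.finrank K (homogeneousSubmodule (Fin 2) K 3) := by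
      rw [Subspace.dual_finrank_eq, hd, hd]; omega
    obtain ⟨g, hg, hg0⟩ := (Submodule.ne_bot_iff _).1 (LinearMap.ker_ne_bot_of_finrank_lt (f := Φ) hlt)
    exact ⟨g, hg0, fun q => congrArg (fun f : Module.Dual K _ => f q) hg⟩
  choose g hg0 hg using hex
  have hsec : ∀ t, 2 ≤ Module.finrank K
      ↥(V ⊓ (homogeneousSubmodule (Fin 2) K 2).map (LinearMap.mulLeft K (g t : MvPolynomial (Fin 2) K))) := by
    intro t
    have hker : LinearMap.range (B (g t)) ≤ LinearMap.ker (ν t) := by
      rintro _ ⟨q, rfl⟩; exact hg t q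
    have hν : ν t ≠ 0 := fun h => by
      have := LinearMap.congr_fun h (b 1)
      simp [ν, b.coord_apply] at this
    have h1 : Module.finrank K (LinearMap.range (B (g t))) ≤ 1 := by
      refine (Submodule.finrank_mono hker).trans ?_
      have h4 := LinearMap.finrank_range_add_finrank_ker (ν t)
      rw [hQ] at h4
      have h5 : 0 < Module.finrank K (LinearMap.range (ν t)) :=
        Module.finrank_pos_iff.2 (Submodule.nontrivial_iff_ne_bot.2 (fun h => hν (LinearMap.range_eq_bot.1 h)))
      omega
    have h2 := LinearMap.finrank_range_add_finrank_ker (B (g t))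
    rw [hd] at h2
    let f : homogeneousSubmodule (Fin 2) K 2 →ₗ[K] MvPolynomial (Fin 2) K :=
      (LinearMap.mulLeft K (g t : MvPolynomial (Fin 2) K)).comp (Submodule.subtype _)
    have hf : Function.Injective f := fun a c h =>
      Subtype.ext (mul_left_cancel₀ (fun h' => hg0 t (Subtype.ext h')) h)
    have h3 : (LinearMap.ker (B (g t))).map f =
        V ⊓ (homogeneousSubmodule (Fin 2) K 2).map (LinearMap.mulLeft K (g t : MvPolynomial (Fin 2) K)) := by
      ext x
      constructor
      · rintro ⟨q, hq, rfl⟩; exact ⟨(hB _ q).1 hq, q, q.2, rfl⟩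
      · rintro ⟨hx, q, hq, rfl⟩; exact ⟨⟨q, hq⟩, (hB _ ⟨q, hq⟩).2 hx, rfl⟩
    rw [← h3, ← (Submodule.equivMapOfInjective f hf _).finrank_eq]
    omega
  by_contra hcon
  push_neg at hcon
  have hall : ∀ t : K, ∃ g' ∈ F, ∃ c : K, (g t : MvPolynomial (Fin 2) K) = c • g' := fun t =>
    hcon _ (g t).2 (fun h => hg0 t (Subtype.ext h)) (hsec t)
  choose g' hg' c hc using hall
  obtain ⟨t, -, s, -, hts, heq⟩ :=
    (Set.infinite_univ (α := K)).exists_ne_map_eq_of_mapsTo (f := g') (t := (F : Set _)) (fun t _ => hg' t) F.finite_toSet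
  have hc0 : c t ≠ 0 := fun h => hg0 t (Subtype.ext (by rw [hc, h, zero_smul]; rfl))
  have hgs : g s = (c s * (c t)⁻¹) • g t := Subtype.ext (by
    rw [Submodule.coe_smul, hc t, smul_smul, mul_assoc, inv_mul_cancel₀ hc0, mul_one, heq, hc s])
  have hcs : c s ≠ 0 := fun h => hg0 s (Subtype.ext (by rw [hc, h, zero_smul]; rfl))
  apply hne (g t) (hg0 t)
  refine LinearMap.ext fun q => ?_
  have e1 := hg t q
  have e2 := hg s q
  rw [hgs, map_smul, LinearMap.smul_apply, map_smul, smul_eq_mul, mul_eq_zero] at e2
  have e2' := e2.resolve_left (mul_ne_zero hcs (inv_ne_zero hc0))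
  simp only [ν, LinearMap.add_apply, LinearMap.smul_apply, smul_eq_mul] at e1 e2'
  have e3 : b.coord 0 (B (g t) q) = 0 := by
    have : (t - s) * b.coord 0 (B (g t) q) = 0 := by linear_combination e1 - e2'
    exact (mul_eq_zero.1 this).resolve_left (sub_ne_zero.2 hts)
  have e4 : b.coord 1 (B (g t) q) = 0 := by rw [e3, mul_zero, zero_add] at e1; exact e1
  refine b.forall_coord_eq_zero_iff.1 fun i => ?_
  fin_cases i
  · exact e3
  · exact e4


/-- A smooth rational quintic curve C ⊂ P^3 has a one-parameter family of 3-secant lines. Stated, as for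
the nondegenerate case, through binary forms: C is the image of P^1 under a 4-dimensional linear
series V of binary quintic forms which separates every length-2 subscheme of P^1 (for every nonzero
quadratic form e, the forms of V together with the multiples of e span all quintic forms), so that
P^1 → P(V^*) = P^3 is a closed embedding; the linear forms on P^3 are the elements of V, a line L ⊂
P^3 is the 2-dimensional space of linear forms vanishing on it, and L ∩ C has length at least 3
exactly when that space is contained in g · K[s,t]_2 for a cubic form g. The conclusion: there are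
infinitely many pairwise non-proportional nonzero cubic forms g with dim (V ∩ g · K[s,t]_2) ≥ 2,
i.e. for every finite set of cubics there is such a g proportional to none of them. (The ground
field is algebraically closed of characteristic zero in place of the complex numbers; the third
printed assertion, on curves all of whose 3-secants are 4-secant, is not stated.) -/
theorem result (K : Type u) [Field K] [IsAlgClosed K]
    [CharZero K] (V : Submodule K (MvPolynomial (Fin 2) K))
    (hV : V ≤ MvPolynomial.homogeneousSubmodule (Fin 2) K 5) (hdim : Module.finrank K ↥V = 4)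
    (hsep : ∀ e ∈ MvPolynomial.homogeneousSubmodule (Fin 2) K 2, e ≠ 0 →
      ∀ F ∈ MvPolynomial.homogeneousSubmodule (Fin 2) K 5, ∃ v ∈ V,
        ∃ h ∈ MvPolynomial.homogeneousSubmodule (Fin 2) K 3, F = v + e * h)
    (F : Finset (MvPolynomial (Fin 2) K)) :
    ∃ g ∈ MvPolynomial.homogeneousSubmodule (Fin 2) K 3, g ≠ 0 ∧
      2 ≤ Module.finrank K ↥(V ⊓ (MvPolynomial.homogeneousSubmodule (Fin 2) K 2).map (LinearMap.mulLeft K g)) ∧
      ∀ g' ∈ F, ∀ c : K, g ≠ c • g' := by
  exact exists_cubic K V hV hdim hsep F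

end Groth.Agent.S19809
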