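import Groth.Statements.S19816
-- import your own Groth.Agent.* helpers here

set_option autoImplicit false
universe u
open CategoryTheory CategoryTheory.Limits MonoidalCategory CartesianMonoidalCategory MonObj GrpObj AlgebraicGeometry
open NoriFGS

namespace Groth.Agent.S19816

open CategoryTheory CategoryTheory.Limits MonoidalCategory CartesianMonoidalCategory MonObj GrpObj AlgebraicGeometry

section
variable {S : Scheme.{u}} {G H X Y : Over S} [GrpObj G] [GrpObj H]

theorem existsUnique_act (a : AlgGrp.Action G X) (ha : NonAbH1.IsPseudoTorsorSch a) {T : Over S}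
    (x y : T ⟶ X) : ∃! g : T ⟶ G, lift g x ≫ a.act = y := by
  haveI : IsIso (lift a.act (snd G X)) := ha
  let w := lift y x ≫ inv (lift a.act (snd G X))
  have hw : w ≫ lift a.act (snd G X) = lift y x := by
    simp only [w, Category.assoc, IsIso.inv_hom_id, Category.comp_id]
  have h1 : w ≫ a.act = y := by simpa using congrArg (· ≫ fst X X) hw
  have h2 : w ≫ snd G X = x := by simpa using congrArg (· ≫ snd X X) hw
  refine ⟨w ≫ fst G X, ?_, fun g hg => ?_⟩
  · show lift (w ≫ fst G X) x ≫ a.act = y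
    rw [← h2, lift_comp_fst_snd]
    exact h1
  · have e : lift g x = w := by
      rw [← cancel_mono (lift a.act (snd G X)), hw, comp_lift, hg, lift_snd]
    rw [← e, lift_fst]

/-- Points form of equivariance along a homomorphism. -/
theorem equivariant_points {a : AlgGrp.Action G X} {b : AlgGrp.Action H Y} {φ : G ⟶ H} [IsMonHom φ]
    {f : X ⟶ Y} (h : AlgGrp.Action.IsEquivariant a (b.restrict φ) f) {T : Over S} (g : T ⟶ G) (x : T ⟶ X) :
    lift g x ≫ a.act ≫ f = lift (g ≫ φ) (x ≫ f) ≫ b.act := by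
  have e : a.act ≫ f = (G ◁ f) ≫ (φ ▷ Y) ≫ b.act := h
  rw [e, lift_whiskerLeft_assoc, lift_whiskerRight_assoc]

end


/-- Let X be a quasi-compact scheme over a field k with a rational point x which possesses a fundamental
group scheme with its universal pointed torsor. Let G, G₁, G₂ be finite group schemes over k with
homomorphisms φ₁ : G₁ → G and φ₂ : G₂ → G, and let T, T₁, T₂ be torsors over X (locally trivial for
the fpqc topology) under the base changes to X of G, G₁, G₂, each pointed by a k-point lying over x;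
let f₁ : T₁ → T and f₂ : T₂ → T be morphisms of pointed torsors along φ₁ and φ₂. Let Q be the fibre
product group scheme G₁ ×_G G₂ with its projections π₁, π₂. Then the fibre product T₁ ×_T T₂ carries
an action of the base change of Q for which both projections to T₁ and T₂ are equivariant (along π₁,
π₂) and which makes it a torsor over X, locally trivial for the fpqc topology: the category of
pointed finite torsors over X is closed under fibre products. (The published statement is an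
equivalence; this row is the implication from possessing a fundamental group scheme. The source's
standing convention for that chapter assumes the base field has characteristic p > 0; the printed
proof uses no characteristic hypothesis, so the row states it for any field.) -/
theorem result
    (k : Type u) [Field k] (X : Scheme.{u}) [X.Over (Spec (CommRingCat.of k))]
    (x : Spec (CommRingCat.of k) ⟶ X) (hx : x ≫ (X ↘ Spec (CommRingCat.of k)) = 𝟙 _)
    (πN : Over (Spec (CommRingCat.of k))) [GrpObj πN] (P : Over X)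
    (a : AlgGrp.Action (Red.bc (X ↘ Spec (CommRingCat.of k)) πN) P) (p : Spec (CommRingCat.of k) ⟶ P.left)
    (hP : NoriFGS.IsFGS x πN a p) [CompactSpace X]
    (G G₁ G₂ : Over (Spec (CommRingCat.of k))) [GrpObj G] [GrpObj G₁] [GrpObj G₂]
    [IsFinite G.hom] [IsFinite G₁.hom] [IsFinite G₂.hom]
    (φ₁ : G₁ ⟶ G) (φ₂ : G₂ ⟶ G) [IsMonHom φ₁] [IsMonHom φ₂]
    (T T₁ T₂ : Over X)
    (b : AlgGrp.Action (Red.bc (X ↘ Spec (CommRingCat.of k)) G) T)
    (b₁ : AlgGrp.Action (Red.bc (X ↘ Spec (CommRingCat.of k)) G₁) T₁)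
    (b₂ : AlgGrp.Action (Red.bc (X ↘ Spec (CommRingCat.of k)) G₂) T₂)
    (hT : NonAbH1.IsTorsorFor Scheme.fpqcPrecoverage b)
    (hT₁ : NonAbH1.IsTorsorFor Scheme.fpqcPrecoverage b₁)
    (hT₂ : NonAbH1.IsTorsorFor Scheme.fpqcPrecoverage b₂)
    (t : Spec (CommRingCat.of k) ⟶ T.left) (t₁ : Spec (CommRingCat.of k) ⟶ T₁.left) (t₂ : Spec (CommRingCat.of k) ⟶ T₂.left)
    (ht : t ≫ T.hom = x) (ht₁ : t₁ ≫ T₁.hom = x) (ht₂ : t₂ ≫ T₂.hom = x)
    (f₁ : T₁ ⟶ T) (f₂ : T₂ ⟶ T)
    (hf₁ : NoriFGS.IsPtTorsorHom b₁ t₁ b t φ₁ f₁) (hf₂ : NoriFGS.IsPtTorsorHom b₂ t₂ b t φ₂ f₂)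
    (Q : Over (Spec (CommRingCat.of k))) [GrpObj Q] (π₁ : Q ⟶ G₁) (π₂ : Q ⟶ G₂) [IsMonHom π₁] [IsMonHom π₂]
    (hQ : IsPullback π₁ π₂ φ₁ φ₂) :
    ∃ c : AlgGrp.Action (Red.bc (X ↘ Spec (CommRingCat.of k)) Q) (pullback f₁ f₂),
      AlgGrp.Action.IsEquivariant c (b₁.restrict ((Over.pullback (X ↘ Spec (CommRingCat.of k))).map π₁)) (pullback.fst f₁ f₂) ∧
      AlgGrp.Action.IsEquivariant c (b₂.restrict ((Over.pullback (X ↘ Spec (CommRingCat.of k))).map π₂)) (pullback.snd f₁ f₂) ∧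
      NonAbH1.IsTorsorFor Scheme.fpqcPrecoverage c := by
  let s := X ↘ Spec (CommRingCat.of k)
  let F := Over.pullback s
  have hsq : IsPullback (F.map π₁) (F.map π₂) (F.map φ₁) (F.map φ₂) := hQ.map F
  have e₁ : ∀ {W : Over X} (g : W ⟶ Red.bc s G₁) (w : W ⟶ T₁),
      lift g w ≫ b₁.act ≫ f₁ = lift (g ≫ F.map φ₁) (w ≫ f₁) ≫ b.act :=
    fun g w => equivariant_points hf₁.1 g w
  have e₂ : ∀ {W : Over X} (g : W ⟶ Red.bc s G₂) (w : W ⟶ T₂),
      lift g w ≫ b₂.act ≫ f₂ = lift (g ≫ F.map φ₂) (w ≫ f₂) ≫ b.act :=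
    fun g w => equivariant_points hf₂.1 g w
  let c₁ : Red.bc s Q ⊗ pullback f₁ f₂ ⟶ T₁ :=
    lift (fst _ _ ≫ F.map π₁) (snd _ _ ≫ pullback.fst f₁ f₂) ≫ b₁.act
  let c₂ : Red.bc s Q ⊗ pullback f₁ f₂ ⟶ T₂ :=
    lift (fst _ _ ≫ F.map π₂) (snd _ _ ≫ pullback.snd f₁ f₂) ≫ b₂.act
  have hc : c₁ ≫ f₁ = c₂ ≫ f₂ := by
    simp only [c₁, c₂, Category.assoc]
    rw [e₁, e₂]
    simp only [Category.assoc, hsq.w, pullback.condition]
  let act := pullback.lift c₁ c₂ hc
  have ea₁ : ∀ {W : Over X} (g : W ⟶ Red.bc s Q) (w : W ⟶ pullback f₁ f₂),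
      lift g w ≫ act ≫ pullback.fst f₁ f₂ = lift (g ≫ F.map π₁) (w ≫ pullback.fst f₁ f₂) ≫ b₁.act := by
    intro W g w
    simp only [act, pullback.lift_fst, c₁]
    rw [comp_lift_assoc, lift_fst_assoc, lift_snd_assoc]
  have ea₂ : ∀ {W : Over X} (g : W ⟶ Red.bc s Q) (w : W ⟶ pullback f₁ f₂),
      lift g w ≫ act ≫ pullback.snd f₁ f₂ = lift (g ≫ F.map π₂) (w ≫ pullback.snd f₁ f₂) ≫ b₂.act := by
    intro W g w
    simp only [act, pullback.lift_snd, c₂]
    rw [comp_lift_assoc, lift_fst_assoc, lift_snd_assoc]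
  let c : AlgGrp.Action (Red.bc s Q) (pullback f₁ f₂) :=
    { act := act
      one_act := by
        apply AlgGrp.Action.hom_ext_lift₂
        intro W g w
        obtain rfl : g = toUnit W := toUnit_unique _ _
        rw [lift_whiskerRight_assoc, leftUnitor_hom, lift_snd, ← Hom.one_def]
        apply pullback.hom_ext
        · rw [Category.assoc, ea₁, MonObj.one_comp, AlgGrp.Action.lift_one_act]
        · rw [Category.assoc, ea₂, MonObj.one_comp, AlgGrp.Action.lift_one_act]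
      mul_act := by
        apply AlgGrp.Action.hom_ext_lift₃
        intro W g g' w
        rw [lift_whiskerRight_assoc, ← Hom.mul_def, lift_lift_associator_hom_assoc, lift_whiskerLeft_assoc]
        apply pullback.hom_ext
        · rw [Category.assoc, Category.assoc, ea₁, ea₁, Category.assoc, ea₁, MonObj.mul_comp,
            AlgGrp.Action.lift_mul_act]
        · rw [Category.assoc, Category.assoc, ea₂, ea₂, Category.assoc, ea₂, MonObj.mul_comp,
            AlgGrp.Action.lift_mul_act] }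
  refine ⟨c, ?_, ?_, ?_, ?_⟩
  · apply AlgGrp.Action.hom_ext_lift₂
    intro W g w
    show lift g w ≫ act ≫ pullback.fst f₁ f₂ = lift g w ≫ (_ ◁ pullback.fst f₁ f₂) ≫ (F.map π₁ ▷ T₁) ≫ b₁.act
    rw [ea₁, lift_whiskerLeft_assoc, lift_whiskerRight_assoc]
  · apply AlgGrp.Action.hom_ext_lift₂
    intro W g w
    show lift g w ≫ act ≫ pullback.snd f₁ f₂ = lift g w ≫ (_ ◁ pullback.snd f₁ f₂) ≫ (F.map π₂ ▷ T₂) ≫ b₂.act
    rw [ea₂, lift_whiskerLeft_assoc, lift_whiskerRight_assoc]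
  · -- pseudo-torsor
    let P₂ := pullback f₁ f₂ ⊗ pullback f₁ f₂
    let w' : P₂ ⟶ pullback f₁ f₂ := fst _ _
    let w : P₂ ⟶ pullback f₁ f₂ := snd _ _
    obtain ⟨g₁, hg₁, -⟩ := existsUnique_act b₁ hT₁.1 (w ≫ pullback.fst f₁ f₂) (w' ≫ pullback.fst f₁ f₂)
    obtain ⟨g₂, hg₂, -⟩ := existsUnique_act b₂ hT₂.1 (w ≫ pullback.snd f₁ f₂) (w' ≫ pullback.snd f₁ f₂)
    have hg : g₁ ≫ F.map φ₁ = g₂ ≫ F.map φ₂ := by
      refine (existsUnique_act b hT.1 ((w ≫ pullback.fst f₁ f₂) ≫ f₁) (w' ≫ pullback.fst f₁ f₂ ≫ f₁)).unique ?_ ?_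
      · rw [← e₁, ← Category.assoc, hg₁, Category.assoc]
      · rw [show (w ≫ pullback.fst f₁ f₂) ≫ f₁ = (w ≫ pullback.snd f₁ f₂) ≫ f₂ by
            simp only [Category.assoc, pullback.condition], ← e₂, ← Category.assoc, hg₂, Category.assoc,
          pullback.condition]
    let q := hsq.lift g₁ g₂ hg
    have hq : lift q w ≫ act = w' := by
      apply pullback.hom_ext
      · rw [Category.assoc, ea₁, hsq.lift_fst, hg₁]
      · rw [Category.assoc, ea₂, hsq.lift_snd, hg₂]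
    refine ⟨lift q w, ?_, ?_⟩
    · show lift act (snd _ _) ≫ lift q w = 𝟙 _
      let L := lift act (snd (Red.bc s Q) (pullback f₁ f₂))
      have hLw : L ≫ w = snd _ _ := lift_snd _ _
      have hLw' : L ≫ w' = act := lift_fst _ _
      have hid : lift (fst (Red.bc s Q) (pullback f₁ f₂)) (snd _ _) = 𝟙 _ := lift_fst_snd
      have k₁ : L ≫ q = fst _ _ := by
        refine hsq.hom_ext ?_ ?_
        · rw [Category.assoc, hsq.lift_fst]
          refine (existsUnique_act b₁ hT₁.1 (snd _ _ ≫ pullback.fst f₁ f₂) (act ≫ pullback.fst f₁ f₂)).unique ?_ ?_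
          · rw [← hLw, ← hLw', Category.assoc, Category.assoc, ← comp_lift_assoc, hg₁]
          · rw [← ea₁, hid, Category.id_comp]
        · rw [Category.assoc, hsq.lift_snd]
          refine (existsUnique_act b₂ hT₂.1 (snd _ _ ≫ pullback.snd f₁ f₂) (act ≫ pullback.snd f₁ f₂)).unique ?_ ?_
          · rw [← hLw, ← hLw', Category.assoc, Category.assoc, ← comp_lift_assoc, hg₂]
          · rw [← ea₂, hid, Category.id_comp]
      show L ≫ lift q w = _
      rw [comp_lift, k₁, hLw, lift_fst_snd]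
    · show lift q w ≫ lift act (snd _ _) = 𝟙 _
      rw [comp_lift, hq, lift_snd, lift_fst_snd]
  · -- local triviality through the universal torsor
    obtain ⟨-, hPT, hp, huniv⟩ := hP
    obtain ⟨R, hR, hsec⟩ := hPT.2
    obtain ⟨ψ₁, _, g₁, hg₁, -⟩ := huniv G₁ T₁ b₁ t₁ hT₁ ht₁
    obtain ⟨ψ₂, _, g₂, hg₂, -⟩ := huniv G₂ T₂ b₂ t₂ hT₂ ht₂
    obtain ⟨ψ, _, g, -, hgu⟩ := huniv G T b t hT ht
    have hom₁ : NoriFGS.IsPtTorsorHom a p b t (ψ₁ ≫ φ₁) (g₁ ≫ f₁) := by
      refine ⟨?_, by rw [Over.comp_left, ← Category.assoc, hg₁.2, hf₁.2]⟩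
      apply AlgGrp.Action.hom_ext_lift₂
      intro W q w
      show lift q w ≫ a.act ≫ g₁ ≫ f₁ = lift q w ≫ (_ ◁ (g₁ ≫ f₁)) ≫ (F.map (ψ₁ ≫ φ₁) ▷ T) ≫ b.act
      rw [lift_whiskerLeft_assoc, lift_whiskerRight_assoc, F.map_comp, ← Category.assoc a.act,
        ← Category.assoc (lift q w), equivariant_points hg₁.1, Category.assoc, e₁]
      simp only [F, s, Category.assoc]
    have hom₂ : NoriFGS.IsPtTorsorHom a p b t (ψ₂ ≫ φ₂) (g₂ ≫ f₂) := by
      refine ⟨?_, by rw [Over.comp_left, ← Category.assoc, hg₂.2, hf₂.2]⟩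
      apply AlgGrp.Action.hom_ext_lift₂
      intro W q w
      show lift q w ≫ a.act ≫ g₂ ≫ f₂ = lift q w ≫ (_ ◁ (g₂ ≫ f₂)) ≫ (F.map (ψ₂ ≫ φ₂) ▷ T) ≫ b.act
      rw [lift_whiskerLeft_assoc, lift_whiskerRight_assoc, F.map_comp, ← Category.assoc a.act,
        ← Category.assoc (lift q w), equivariant_points hg₂.1, Category.assoc, e₂]
      simp only [F, s, Category.assoc]
    have hg : g₁ ≫ f₁ = g₂ ≫ f₂ := (hgu _ _ hom₁).2.trans (hgu _ _ hom₂).2.symm
    refine ⟨R, hR, fun S' f hfR => ?_⟩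
    obtain ⟨σ, hσ⟩ := hsec f hfR
    exact ⟨σ ≫ (pullback.lift g₁ g₂ hg).left, by rw [Category.assoc, Over.w, hσ]⟩

end Groth.Agent.S19816
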