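import Groth.Statements.S19823
import Groth.Agent.FibreDualLib.BCCommute
-- import your own Groth.Agent.* helpers here

set_option autoImplicit false
set_option backward.isDefEq.respectTransparency false
set_option maxHeartbeats 800000
set_option synthInstance.maxHeartbeats 200000
universe u
open QGor Groth.Agent

namespace Groth.Agent.S19823

open CategoryTheory AlgebraicGeometry in
/-- For a proper S₂-morphism Y → Spec A to a Noetherian affine base, of pure relative dimension d, with
relative canonical sheaf ω (characterised by the d-dualizing property over A): if ω satisfies
relative S₂ over the base (flat over the base at every point, with S₂ restriction to each fibre),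
then for every Noetherian ring B, every ring map A → B and every cartesian square Y' → Y over Spec B
→ Spec A with projection p, the module p^*ω is again d-dualizing for Y' over B; that is, p^*ω is the
relative canonical sheaf of Y' over B (stated through the characterising property, so as the
existence of an isomorphism, not as a property of a named base change map). -/
theorem result
    (A : Type u) [CommRing A] [IsNoetherianRing A] (Y : Scheme.{u}) [Y.Over (Spec (CommRingCat.of A))]
    [IsProper (Y ↘ Spec (CommRingCat.of A))] (d : ℕ)
    (hS : RelCanon.IsSkMor (Y ↘ Spec (CommRingCat.of A)) 2) (hd : Cyc.HasRelDim (Y ↘ Spec (CommRingCat.of A)) d)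
    (ω : Y.Modules) (hω : RelCanon.IsDualizingSheaf A Y d ω)
    (h2 : RelCanon.RelSk (Y ↘ Spec (CommRingCat.of A)) 2 ω) :
    RelCanon.CommutesWithBaseChangeNoeth A Y d ω := by
    exact Groth.Agent.FibreDualLib.isDualizingSheaf_baseChange d hS hd ω hω h2

end Groth.Agent.S19823
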