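import Groth.Statements.S19829
import Groth.Agent.FibreDualLib.BCLocal
-- import your own Groth.Agent.* helpers here

set_option autoImplicit false
set_option backward.isDefEq.respectTransparency false
set_option maxHeartbeats 800000
set_option backward.isDefEq.respectTransparency false
set_option maxHeartbeats 800000
set_option synthInstance.maxHeartbeats 200000
universe u
open QGor Groth.Agent

namespace Groth.Agent.S19829

open CategoryTheory AlgebraicGeometry in
/-- Let Y → Spec A be a proper S₂-morphism to a Noetherian affine base, of pure relative dimension d,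
with relative canonical sheaf ω (characterised by the d-dualizing property over A), which is naively
ℚ-Gorenstein: every fibre is Gorenstein in codimension one and ℚ-Gorenstein (for every t and every
d-dualizing module ω_t on the fibre Y_t over κ(t) — its canonical sheaf — some reflexive power
ω_t^{[r]}, r > 0, is invertible at each point), and some ω^{[r]}, r > 0, is invertible at each point
of Y. For a point y over t, with ω_t the canonical sheaf of Y_t as above, let m be the relative
Gorenstein index at y (least r > 0 with ω^{[r]} invertible at y) and r the Gorenstein index of Y_t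
at y (least r > 0 with ω_t^{[r]} invertible at y). Assume the morphism is ℚ-Gorenstein at y: on an
open neighbourhood of y every reflexive power ω^{[k]}, k ∈ ℤ, satisfies relative S₂ over the base.
Then m = r. -/
theorem result
    (A : Type u) [CommRing A] [IsNoetherianRing A] (Y : Scheme.{u}) [Y.Over (Spec (CommRingCat.of A))]
    [IsProper (Y ↘ Spec (CommRingCat.of A))] (d : ℕ)
    (hS : RelCanon.IsSkMor (Y ↘ Spec (CommRingCat.of A)) 2) (hd : Cyc.HasRelDim (Y ↘ Spec (CommRingCat.of A)) d)
    (ω : Y.Modules) (hω : RelCanon.IsDualizingSheaf A Y d ω)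
    (hG : ∀ y : Y, y ∉ RelCanon.gorLocus (Y ↘ Spec (CommRingCat.of A)) →
      (2 : WithBot ℕ∞) ≤ ringKrullDim (((Y ↘ Spec (CommRingCat.of A)).fiber ((Y ↘ Spec (CommRingCat.of A)) y)).presheaf.stalk ((Y ↘ Spec (CommRingCat.of A)).asFiber y)))
    (hQf : ∀ (t : (Spec (CommRingCat.of A))) (ωt : ((Y ↘ Spec (CommRingCat.of A)).fiber t).Modules), @RelCanon.IsDualizingSheaf ((Spec (CommRingCat.of A)).residueField t) _ ((Y ↘ Spec (CommRingCat.of A)).fiber t) ⟨(Y ↘ Spec (CommRingCat.of A)).fiberToSpecResidueField t⟩ d ωt → RelCanon.IsQGorWith ωt)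
    (hN : RelCanon.IsQGorWith ω)
    (y : Y) (ωy : ((Y ↘ Spec (CommRingCat.of A)).fiber ((Y ↘ Spec (CommRingCat.of A)) y)).Modules) (hωy : @RelCanon.IsDualizingSheaf ((Spec (CommRingCat.of A)).residueField ((Y ↘ Spec (CommRingCat.of A)) y)) _ ((Y ↘ Spec (CommRingCat.of A)).fiber ((Y ↘ Spec (CommRingCat.of A)) y)) ⟨(Y ↘ Spec (CommRingCat.of A)).fiberToSpecResidueField ((Y ↘ Spec (CommRingCat.of A)) y)⟩ d ωy)
    (hQ : RelCanon.IsQGorMorWithAt (Y ↘ Spec (CommRingCat.of A)) ω y) :
    RelCanon.gorIndexWithAt ω y = RelCanon.gorIndexWithAt ωy ((Y ↘ Spec (CommRingCat.of A)).asFiber y) := by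
    let f := Y ↘ Spec (CommRingCat.of A)
    haveI : IsNoetherianRing (CommRingCat.of A) := inferInstanceAs (IsNoetherianRing A)
    obtain ⟨U, hU⟩ := FibreDualLib.exists_gorOpens (A := A) (Y := Y) hS
    have hG' := fun (z : Y) (hz : z ∉ U) => hG z (by rw [← hU]; exact hz)
    obtain ⟨V, hyV, hV⟩ := hQ
    obtain ⟨φt, hφt⟩ := FibreDualLib.exists_fibre_hom f (f y)
    letI : (f.fiber (f y)).Over (Spec (CommRingCat.of ((Spec (CommRingCat.of A)).residueField (f y)))) :=
      ⟨f.fiberToSpecResidueField (f y)⟩
    haveI : IsNoetherianRing ((Spec (CommRingCat.of A)).residueField (f y)) := inferInstance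
    refine congrArg sInf (Set.ext fun r => and_congr_right fun _ => ⟨fun h => ?_, fun h => ?_⟩)
    · exact FibreDualLib.invertibleAt_refPowZ_baseChange d hS hd ω hω U hU.le hG' φt (f.fiberι (f y)) hφt ωy hωy r
        (f.asFiber y) (by rw [f.fiberι_asFiber]; exact h)
    · exact FibreDualLib.invertibleAt_refPowZ_of_fibre d hS hd ω hω U hU.le hG' y ωy hωy r V hyV
        (fun z hz => hV r z hz) h

end Groth.Agent.S19829
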