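import Groth.Statements.S19831
import Groth.Agent.FibreDualLib.Powers
-- import your own Groth.Agent.* helpers here

set_option autoImplicit false
set_option backward.isDefEq.respectTransparency false
set_option maxHeartbeats 1600000
set_option backward.isDefEq.respectTransparency.types false
set_option linter.style.haveILetI false
set_option synthInstance.maxHeartbeats 200000
universe u
open QGor Groth.Agent

namespace Groth.Agent.S19831

open CategoryTheory AlgebraicGeometry in
/-- Let Y → Spec A be a proper S₂-morphism to a Noetherian affine base, of pure relative dimension d,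
with relative canonical sheaf ω (characterised by the d-dualizing property over A), which is naively
ℚ-Gorenstein: every fibre is Gorenstein in codimension one and ℚ-Gorenstein (for every t and every
d-dualizing module ω_t on the fibre Y_t over κ(t) — its canonical sheaf — some reflexive power
ω_t^{[r]}, r > 0, is invertible at each point), and some ω^{[r]}, r > 0, is invertible at each point
of Y. For a point y over t, with ω_t the canonical sheaf of Y_t as above, let m be the relative
Gorenstein index at y (least r > 0 with ω^{[r]} invertible at y) and r the Gorenstein index of Y_t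
at y (least r > 0 with ω_t^{[r]} invertible at y). Assume the image of m in κ(t) is non-zero (m is
prime to the characteristic of the residue field). Then m = r. -/
theorem result
    (A : Type u) [CommRing A] [IsNoetherianRing A] (Y : Scheme.{u}) [Y.Over (Spec (CommRingCat.of A))]
    [IsProper (Y ↘ Spec (CommRingCat.of A))] (d : ℕ)
    (hS : RelCanon.IsSkMor (Y ↘ Spec (CommRingCat.of A)) 2) (hd : Cyc.HasRelDim (Y ↘ Spec (CommRingCat.of A)) d)
    (ω : Y.Modules) (hω : RelCanon.IsDualizingSheaf A Y d ω)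
    (hG : ∀ y : Y, y ∉ RelCanon.gorLocus (Y ↘ Spec (CommRingCat.of A)) →
      (2 : WithBot ℕ∞) ≤ ringKrullDim (((Y ↘ Spec (CommRingCat.of A)).fiber ((Y ↘ Spec (CommRingCat.of A)) y)).presheaf.stalk ((Y ↘ Spec (CommRingCat.of A)).asFiber y)))
    (hQf : ∀ (t : (Spec (CommRingCat.of A))) (ωt : ((Y ↘ Spec (CommRingCat.of A)).fiber t).Modules), @RelCanon.IsDualizingSheaf ((Spec (CommRingCat.of A)).residueField t) _ ((Y ↘ Spec (CommRingCat.of A)).fiber t) ⟨(Y ↘ Spec (CommRingCat.of A)).fiberToSpecResidueField t⟩ d ωt → RelCanon.IsQGorWith ωt)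
    (hN : RelCanon.IsQGorWith ω)
    (y : Y) (ωy : ((Y ↘ Spec (CommRingCat.of A)).fiber ((Y ↘ Spec (CommRingCat.of A)) y)).Modules) (hωy : @RelCanon.IsDualizingSheaf ((Spec (CommRingCat.of A)).residueField ((Y ↘ Spec (CommRingCat.of A)) y)) _ ((Y ↘ Spec (CommRingCat.of A)).fiber ((Y ↘ Spec (CommRingCat.of A)) y)) ⟨(Y ↘ Spec (CommRingCat.of A)).fiberToSpecResidueField ((Y ↘ Spec (CommRingCat.of A)) y)⟩ d ωy)
    (hm : (RelCanon.gorIndexWithAt ω y : (Spec (CommRingCat.of A)).residueField ((Y ↘ Spec (CommRingCat.of A)) y)) ≠ 0) :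
    RelCanon.gorIndexWithAt ω y = RelCanon.gorIndexWithAt ωy ((Y ↘ Spec (CommRingCat.of A)).asFiber y) := by
    let f₀ := Y ↘ Spec (CommRingCat.of A)
    haveI : IsNoetherianRing (CommRingCat.of A) := inferInstanceAs (IsNoetherianRing A)
    haveI : IsLocallyNoetherian Y := LocallyOfFiniteType.isLocallyNoetherian f₀
    obtain ⟨U, hU⟩ := FibreDualLib.exists_gorOpens (A := A) (Y := Y) hS
    have hG' := fun (z : Y) (hz : z ∉ U) => hG z (by rw [← hU]; exact hz)
    obtain ⟨φt, hφt⟩ := FibreDualLib.exists_fibre_hom f₀ (f₀ y)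
    letI : (f₀.fiber (f₀ y)).Over (Spec (CommRingCat.of ((Spec (CommRingCat.of A)).residueField (f₀ y)))) :=
      ⟨f₀.fiberToSpecResidueField (f₀ y)⟩
    haveI : IsNoetherianRing ((Spec (CommRingCat.of A)).residueField (f₀ y)) := inferInstance
    let m := RelCanon.gorIndexWithAt ω y
    let T1 : Set ℕ := {r : ℕ | 0 < r ∧ RelCanon.InvertibleAt (RelCanon.refPowZ ω r) y}
    let T2 : Set ℕ := {r : ℕ | 0 < r ∧ RelCanon.InvertibleAt (RelCanon.refPowZ ωy r) (f₀.asFiber y)}
    have hm1 : m ∈ T1 := Nat.sInf_mem (hN y)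
    have h12 : T1 ⊆ T2 := fun r hr => ⟨hr.1, FibreDualLib.invertibleAt_refPowZ_baseChange d hS hd ω hω U hU.le hG' φt
      (f₀.fiberι (f₀ y)) hφt ωy hωy r (f₀.asFiber y) (by rw [f₀.fiberι_asFiber]; exact hr.2)⟩
    have hr2 : sInf T2 ∈ T2 := Nat.sInf_mem ⟨m, h12 hm1⟩
    refine le_antisymm ?_ (Nat.sInf_le (h12 hm1))
    refine Nat.sInf_le (show sInf T2 ∈ T1 from ⟨hr2.1, ?_⟩)
    obtain ⟨hinv, hcoh, -⟩ := FibreDualLib.refPowZ_restrict_gor d hS hd ω hω U hU.le
    refine FibreDualLib.invertibleAt_refPow_of_mul d hS hd ω hω U hU.le y (fun v _ _ hv => hG' v hv) (sInf T2) m hm1.1 hm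
      ?_ ωy hωy hr2.2
    have hGcoh : Coh.IsCoh (RelCanon.refPowZ ω (m : ℕ)) :=
      RefOne.isCoh_dual (RefOne.isCoh_dual (FibreDualLib.isCoh_tensorPow hcoh m))
    obtain ⟨V, hyV, ⟨i⟩⟩ := hm1.2
    haveI : IsLocallyNoetherian (V : Scheme.{u}) := isLocallyNoetherian_of_isOpenImmersion V.ι
    have hVi : PicF.IsInvertible ((RelCanon.refPowZ ω (m : ℕ)).restrict V.ι) :=
      ParaFLib.isInvertible_of_iso i.symm ParaFLib.isInvertible_structureModule
    obtain ⟨c⟩ := FibreDualLib.nonempty_refPow_restrict V hGcoh hVi (sInf T2)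
    have hp : RelCanon.InvertibleAt (RelCanon.refPowZ (RelCanon.refPowZ ω (m : ℕ)) (sInf T2 : ℕ)) y :=
      FibreDualLib.invertibleAt_of_restrict V (ParaFLib.isInvertible_of_iso c.symm
        (AmpleLib.isInvertible_tensorPow hVi (sInf T2))) hyV
    obtain ⟨a⟩ := FibreDualLib.nonempty_pow_refPow_restrict U hcoh hinv m (sInf T2)
    obtain ⟨b⟩ := FibreDualLib.nonempty_refPow_restrict U hcoh hinv (sInf T2 * m)
    refine FibreDualLib.invertibleAt_ddual_congr U (FibreDualLib.isCoh_tensorPow hGcoh (sInf T2))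
      (FibreDualLib.isCoh_tensorPow hcoh (sInf T2 * m)) y
      (FibreDualLib.two_le_idealDepth_stalk_near hS U y fun v _ _ hv => hG' v hv) ?_ hp
    exact a ≪≫ (eqToIso (by rw [mul_comm]) : _ ≅ _) ≪≫ b.symm

end Groth.Agent.S19831
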