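import Groth.Statements.S19833
import Groth.Agent.FibreDualLib.IndexDvd
import Groth.Agent.FibreDualLib.CodimNhd
-- import your own Groth.Agent.* helpers here

set_option autoImplicit false
set_option backward.isDefEq.respectTransparency false
set_option maxHeartbeats 1600000
set_option backward.isDefEq.respectTransparency.types false
set_option linter.style.haveILetI false
set_option synthInstance.maxHeartbeats 200000
universe u
open QGor

namespace Groth.Agent.S19833

open CategoryTheory AlgebraicGeometry in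
/-- Conditions (i)+(ii) ⟺ (v), and (i)+(ii) ⟹ (iii), in the following form: let Y → Spec A be a proper
S₂-morphism to a Noetherian affine base, of pure relative dimension d, with relative canonical sheaf
ω (characterised by the d-dualizing property over A); let Y° be the relative Gorenstein locus, as an
open subset with inclusion j, let y be a point and r > 0. The following are equivalent. (A) The
local ring of the fibre through y has dimension ≥ 2 at every point of that fibre outside Y° which
specializes to y (local codimension of the non-Gorenstein locus of the fibre at y is ≥ 2), and the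
direct image j_*((ω|_{Y°})^{⊗ r}) is invertible at y. (B) On some open neighbourhood U of y: ω^{[r]}
(the double dual of ω^{⊗ r}) is invertible at every point; at every point of U outside Y° the local
ring of the fibre has dimension ≥ 2; and at every z ∈ U, for every d-dualizing module ω' on the
fibre through z over κ(f(z)) (the canonical sheaf of the fibre), some ω'^{[s]} with s > 0 is
invertible at z and the least such s divides r (the fibre is ℚ-Gorenstein at z of index dividing r).
(The source takes Y° to be any open subset of the relative Gorenstein locus; for the implication (B)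
⟹ (A) the whole locus is needed — with Y° empty and Y = Spec A the condition in (A) on the fibre
fails — so Y° is the full relative Gorenstein locus here.) -/
theorem result
    (A : Type u) [CommRing A] [IsNoetherianRing A] (Y : Scheme.{u}) [Y.Over (Spec (CommRingCat.of A))]
    [IsProper (Y ↘ Spec (CommRingCat.of A))] (d : ℕ)
    (hS : RelCanon.IsSkMor (Y ↘ Spec (CommRingCat.of A)) 2) (hd : Cyc.HasRelDim (Y ↘ Spec (CommRingCat.of A)) d)
    (ω : Y.Modules) (hω : RelCanon.IsDualizingSheaf A Y d ω)
    (Yo : Y.Opens) (hYo : (Yo : Set Y) = RelCanon.gorLocus (Y ↘ Spec (CommRingCat.of A))) (y : Y) (r : ℕ) (hr : 0 < r) :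
    ((∀ z : Y, (Y ↘ Spec (CommRingCat.of A)) z = (Y ↘ Spec (CommRingCat.of A)) y → z ∉ Yo → z ⤳ y → (2 : WithBot ℕ∞) ≤ ringKrullDim (((Y ↘ Spec (CommRingCat.of A)).fiber ((Y ↘ Spec (CommRingCat.of A)) z)).presheaf.stalk ((Y ↘ Spec (CommRingCat.of A)).asFiber z))) ∧
      RelCanon.InvertibleAt ((Scheme.Modules.pushforward Yo.ι).obj (CohB1.tensorPow (ω.restrict Yo.ι) r)) y) ↔
    (∃ U : Y.Opens, y ∈ U ∧ ∀ z : Y, z ∈ U →
      RelCanon.InvertibleAt (RelCanon.refPowZ ω r) z ∧
      (z ∉ Yo → (2 : WithBot ℕ∞) ≤ ringKrullDim (((Y ↘ Spec (CommRingCat.of A)).fiber ((Y ↘ Spec (CommRingCat.of A)) z)).presheaf.stalk ((Y ↘ Spec (CommRingCat.of A)).asFiber z))) ∧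
      ∀ ωz : ((Y ↘ Spec (CommRingCat.of A)).fiber ((Y ↘ Spec (CommRingCat.of A)) z)).Modules, @RelCanon.IsDualizingSheaf ((Spec (CommRingCat.of A)).residueField ((Y ↘ Spec (CommRingCat.of A)) z)) _ ((Y ↘ Spec (CommRingCat.of A)).fiber ((Y ↘ Spec (CommRingCat.of A)) z)) ⟨(Y ↘ Spec (CommRingCat.of A)).fiberToSpecResidueField ((Y ↘ Spec (CommRingCat.of A)) z)⟩ d ωz →
        RelCanon.IsQGorWithAt ωz ((Y ↘ Spec (CommRingCat.of A)).asFiber z) ∧ RelCanon.gorIndexWithAt ωz ((Y ↘ Spec (CommRingCat.of A)).asFiber z) ∣ r) := by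
    open Groth.Agent Groth.Agent.FibreDualLib in
    haveI : IsNoetherianRing (CommRingCat.of A) := inferInstanceAs (IsNoetherianRing A)
    haveI : IsLocallyNoetherian Y := LocallyOfFiniteType.isLocallyNoetherian (Y ↘ Spec (CommRingCat.of A))
    obtain ⟨hinv, hcoh, -⟩ := refPowZ_restrict_gor d hS hd ω hω Yo hYo.le
    have hT := isCoh_tensorPow hcoh r
    have hD := RefOne.isCoh_dual hT
    have hG : Coh.IsCoh (RelCanon.refPowZ ω r) := RefOne.isCoh_dual hD
    obtain ⟨a⟩ := nonempty_refPow_restrict Yo hcoh hinv r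
    have key : ∀ W : Y.Opens, (∀ z ∈ W, z ∉ Yo → (2 : WithBot ℕ∞) ≤ ringKrullDim (((Y ↘ Spec (CommRingCat.of A)).fiber ((Y ↘ Spec (CommRingCat.of A)) z)).presheaf.stalk ((Y ↘ Spec (CommRingCat.of A)).asFiber z))) →
        Nonempty ((RelCanon.refPowZ ω r).restrict W.ι ≅ ((Scheme.Modules.pushforward Yo.ι).obj (CohB1.tensorPow (ω.restrict Yo.ι) r)).restrict W.ι) := by
      intro W hW
      refine nonempty_restrict_iso_push Yo W hG a fun x hxW hxo => ?_
      have hx := two_le_depth_stalk (Y ↘ Spec (CommRingCat.of A)) hS x (hW x hxW hxo)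
      haveI := hD.1
      haveI := PullbackMod.finite_stalk_of_isFT hD.2 x
      show (2 : ℕ∞) ≤ LocCoh.depth (Y.presheaf.stalk x) ((RefHull.dual (RefHull.dual (CohB1.tensorPow ω r))).presheaf.stalk x)
      rw [CAlgBasics.depth_congr (RefOne.dualStalk hD x)]
      exact CAlgBasics.two_le_depth_linearMap (M := (RefHull.dual (CohB1.tensorPow ω r)).presheaf.stalk x)
        (N := Y.presheaf.stalk x) hx
    constructor
    · rintro ⟨hcodim, hP⟩
      obtain ⟨W, hyW, hW⟩ := exists_nhd_codim (Y ↘ Spec (CommRingCat.of A)) d hd Yo 2 y hcodim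
      obtain ⟨e⟩ := key W fun z hz hzo => hW z hz hzo
      obtain ⟨V, hyV, ⟨iV⟩⟩ := invertibleAt_congr_restrict W e.symm hyW hP
      refine ⟨V ⊓ W, ⟨hyV, hyW⟩, fun z hz => ?_⟩
      have hzi : RelCanon.InvertibleAt (RelCanon.refPowZ ω r) z := ⟨V, hz.1, ⟨iV⟩⟩
      exact ⟨hzi, hW z hz.2, fun ωz hωz => fibre_qgor_index_dvd d hS hd ω hω Yo hYo.le z
        (fun v _ hv hvo => hW v (hv.mem_open W.2 hz.2) hvo) r hr hzi ωz hωz⟩
    · rintro ⟨U, hyU, hU⟩
      refine ⟨fun z _ hzo hzy => (hU z (hzy.mem_open U.2 hyU)).2.1 hzo, ?_⟩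
      obtain ⟨e⟩ := key U fun z hz hzo => (hU z hz).2.1 hzo
      exact invertibleAt_congr_restrict U e hyU (hU y hyU).1

end Groth.Agent.S19833
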