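import Groth.Statements.S19834
import Groth.Agent.FibreDualLib.ExtSplit
import Groth.Agent.GenBCLib.Helpers
-- import your own Groth.Agent.* helpers here

set_option autoImplicit false
set_option backward.isDefEq.respectTransparency false
set_option maxHeartbeats 1600000
set_option backward.isDefEq.respectTransparency.types false
set_option linter.style.haveILetI false
set_option synthInstance.maxHeartbeats 200000
universe u
open QGor Groth.Agent

namespace Groth.Agent.S19834

open CategoryTheory AlgebraicGeometry in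
/-- For a proper S₂-morphism Y → Spec A to a Noetherian affine base, of pure relative dimension d, all
of whose fibres satisfy Serre's condition S₃ at every point, with relative canonical sheaf ω
(characterised by the d-dualizing property over A), the sheaf 𝓔xt¹_{O_Y}(ω, ω) vanishes; stated as:
every extension of ω|_V by ω|_V over an open V ⊆ Y is locally split, i.e. for every short exact
sequence 0 → S₁ → S₂ → S₃ → 0 of O_V-modules with S₁ ≅ ω|_V and S₃ ≅ ω|_V and every point y ∈ V
there are an open W ⊆ V containing y and a morphism S₃|_W → S₂|_W that is a section of S₂|_W →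
S₃|_W. -/
theorem result
    (A : Type u) [CommRing A] [IsNoetherianRing A] (Y : Scheme.{u}) [Y.Over (Spec (CommRingCat.of A))]
    [IsProper (Y ↘ Spec (CommRingCat.of A))] (d : ℕ)
    (hS : RelCanon.IsSkMor (Y ↘ Spec (CommRingCat.of A)) 2) (hd : Cyc.HasRelDim (Y ↘ Spec (CommRingCat.of A)) d)
    (ω : Y.Modules) (hω : RelCanon.IsDualizingSheaf A Y d ω)
    (hS3 : ∀ y : Y, RelCanon.SkAt 3 (Coh.structureModule ((Y ↘ Spec (CommRingCat.of A)).fiber ((Y ↘ Spec (CommRingCat.of A)) y))) ((Y ↘ Spec (CommRingCat.of A)).asFiber y))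
    (V : Y.Opens) (S : ShortComplex (V : Scheme.{u}).Modules) (hSe : S.ShortExact)
    (e₁ : S.X₁ ≅ ω.restrict V.ι) (e₃ : S.X₃ ≅ ω.restrict V.ι) (y : Y) (hy : y ∈ V) :
    ∃ (W : Y.Opens) (i : W ≤ V), y ∈ W ∧
      ∃ σ : S.X₃.restrict (Y.homOfLE i) ⟶ S.X₂.restrict (Y.homOfLE i),
        σ ≫ (Scheme.Modules.restrictFunctor (Y.homOfLE i)).map S.g = 𝟙 _ := by
    obtain ⟨_, ⟨W₀ : Y.Opens, (hW₀ : IsAffineOpen W₀), rfl⟩, hyW, hWV⟩ :=
      Y.isBasis_affineOpens.exists_subset_of_mem_open (a := y) hy V.2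
    haveI hWV' : W₀ ≤ V := hWV
    let R := Scheme.Modules.restrictFunctor (Y.homOfLE hWV')
    obtain ⟨U, hxU, s, hs⟩ := FibreDualLib.exists_local_section d hS hd ω hω hS3 W₀ hW₀ (S.map R) (hSe.map_of_exact R)
      (R.mapIso e₁ ≪≫ (GenBCLib.restrictLEIso ω hWV').symm) (R.mapIso e₃ ≪≫ (GenBCLib.restrictLEIso ω hWV').symm)
      ⟨y, hyW⟩
    let W := W₀.ι ''ᵁ U
    have hW : W ≤ V := (W₀.ι_image_le U).trans hWV'
    let k := (W₀.ι.isoImage U).inv
    have hk : k ≫ U.ι ≫ Y.homOfLE hWV' = Y.homOfLE hW := by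
      rw [← CategoryTheory.cancel_mono V.ι, Category.assoc, Category.assoc, Scheme.homOfLE_ι, Scheme.homOfLE_ι]
      exact W₀.ι.isoImage_inv_ι U
    let F : Scheme.Modules.restrictFunctor (Y.homOfLE hW) ≅
        (R ⋙ Scheme.Modules.restrictFunctor U.ι) ⋙ Scheme.Modules.restrictFunctor k :=
      Scheme.Modules.restrictFunctorCongr (g := k ≫ U.ι ≫ Y.homOfLE hWV') hk.symm ≪≫
        Scheme.Modules.restrictFunctorComp k (U.ι ≫ Y.homOfLE hWV') ≪≫
        Functor.isoWhiskerRight (Scheme.Modules.restrictFunctorComp U.ι (Y.homOfLE hWV')) _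
    refine ⟨W, hW, ⟨⟨y, hyW⟩, hxU, rfl⟩, F.hom.app S.X₃ ≫ (Scheme.Modules.restrictFunctor k).map s ≫ F.inv.app S.X₂, ?_⟩
    rw [Category.assoc, Category.assoc, ← F.inv.naturality S.g]
    show F.hom.app S.X₃ ≫ (Scheme.Modules.restrictFunctor k).map s ≫
      (Scheme.Modules.restrictFunctor k).map ((Scheme.Modules.restrictFunctor U.ι).map (R.map S.g)) ≫ F.inv.app S.X₃ = _
    rw [← Functor.map_comp_assoc]
    erw [hs]
    erw [CategoryTheory.Functor.map_id, Category.id_comp]
    exact F.hom_inv_id_app S.X₃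

end Groth.Agent.S19834
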