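import Groth.Statements.S19835
import Groth.Agent.FibreDualLib.BCInv
-- import your own Groth.Agent.* helpers here

set_option autoImplicit false
set_option backward.isDefEq.respectTransparency false
set_option maxHeartbeats 800000
set_option backward.isDefEq.respectTransparency false
set_option maxHeartbeats 800000
set_option synthInstance.maxHeartbeats 200000
universe u
open QGor Groth.Agent

namespace Groth.Agent.S19835

open CategoryTheory AlgebraicGeometry in
/-- For a proper S₂-morphism Y → Spec A to a Noetherian affine base, of pure relative dimension d, whose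
fibres are Gorenstein in codimension one, with relative canonical sheaf ω (characterised by the
d-dualizing property over A): if ω is invertible, then the morphism is ℚ-Gorenstein with respect to
ω (every reflexive power ω^{[m]}, m ∈ ℤ, satisfies relative S₂ over the base at every point: flat
over the base with S₂ restriction to the fibre), and every fibre is ℚ-Gorenstein of Gorenstein index
one, i.e. for every t every d-dualizing module on the fibre Y_t over κ(t) (the canonical sheaf of
the fibre) is invertible. -/
theorem result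
    (A : Type u) [CommRing A] [IsNoetherianRing A] (Y : Scheme.{u}) [Y.Over (Spec (CommRingCat.of A))]
    [IsProper (Y ↘ Spec (CommRingCat.of A))] (d : ℕ)
    (hS : RelCanon.IsSkMor (Y ↘ Spec (CommRingCat.of A)) 2) (hd : Cyc.HasRelDim (Y ↘ Spec (CommRingCat.of A)) d)
    (ω : Y.Modules) (hω : RelCanon.IsDualizingSheaf A Y d ω)
    (hG : ∀ y : Y, y ∉ RelCanon.gorLocus (Y ↘ Spec (CommRingCat.of A)) →
      (2 : WithBot ℕ∞) ≤ ringKrullDim (((Y ↘ Spec (CommRingCat.of A)).fiber ((Y ↘ Spec (CommRingCat.of A)) y)).presheaf.stalk ((Y ↘ Spec (CommRingCat.of A)).asFiber y)))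
    (hinv : PicF.IsInvertible ω) :
    RelCanon.IsQGorMorWith (Y ↘ Spec (CommRingCat.of A)) ω ∧
    ∀ (t : (Spec (CommRingCat.of A))) (ωt : ((Y ↘ Spec (CommRingCat.of A)).fiber t).Modules), @RelCanon.IsDualizingSheaf ((Spec (CommRingCat.of A)).residueField t) _ ((Y ↘ Spec (CommRingCat.of A)).fiber t) ⟨(Y ↘ Spec (CommRingCat.of A)).fiberToSpecResidueField t⟩ d ωt → PicF.IsInvertible ωt := by
    let f := Y ↘ Spec (CommRingCat.of A)
    haveI : IsNoetherianRing (CommRingCat.of A) := inferInstanceAs (IsNoetherianRing A)
    refine ⟨fun m y => FibreDualLib.relSkAt_of_invertibleAt f hS (FibreDualLib.isInvertible_refPowZ hinv m y), ?_⟩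
    intro t ωt hωt z
    obtain ⟨φ, hφ⟩ := FibreDualLib.exists_fibre_hom f t
    letI : (f.fiber t).Over (Spec (CommRingCat.of ((Spec (CommRingCat.of A)).residueField t))) :=
      ⟨f.fiberToSpecResidueField t⟩
    haveI : IsNoetherianRing ((Spec (CommRingCat.of A)).residueField t) := inferInstance
    haveI : IsProper ((f.fiber t) ↘ Spec (CommRingCat.of ((Spec (CommRingCat.of A)).residueField t))) :=
      MorphismProperty.of_isPullback (P := @IsProper) hφ ‹_›
    haveI : IsLocallyNoetherian (f.fiber t) :=
      LocallyOfFiniteType.isLocallyNoetherian ((f.fiber t) ↘ Spec (CommRingCat.of ((Spec (CommRingCat.of A)).residueField t)))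
    obtain ⟨hSt₀, hdt₀⟩ := FibreDualLib.isSkMor_baseChange hφ 2 d hS hd
    have hSt : RelCanon.IsSkMor ((f.fiber t) ↘ Spec (CommRingCat.of ((Spec (CommRingCat.of A)).residueField t))) 2 := hSt₀
    have hdt : Cyc.HasRelDim ((f.fiber t) ↘ Spec (CommRingCat.of ((Spec (CommRingCat.of A)).residueField t))) d := hdt₀
    have hωt' : RelCanon.IsDualizingSheaf ((Spec (CommRingCat.of A)).residueField t) (f.fiber t) d ωt := hωt
    obtain ⟨U, hU⟩ := FibreDualLib.exists_gorOpens (A := A) (Y := Y) hS
    have h1 := FibreDualLib.invertibleAt_refPowZ_baseChange d hS hd ω hω U hU.le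
      (fun y hy => hG y (by rw [← hU]; exact hy)) φ (f.fiberι t) hφ ωt hωt' 1 z
      (FibreDualLib.isInvertible_refPowZ hinv 1 _)
    obtain ⟨hcoh, -, -⟩ := FibreDualLib.relCanonical_model d hSt hdt ωt hωt'
    obtain ⟨e⟩ := FibreDualLib.nonempty_refPowZ_one_iso hcoh
      (FibreDualLib.isReflexive_relCanonical d hSt hdt ωt hωt' (FibreDualLib.gor_codim_baseChange hφ 2 hG))
    exact FibreDualLib.invertibleAt_of_iso e h1

end Groth.Agent.S19835
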