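import Groth.Statements.S19836
import Groth.Agent.FibreDualLib.CM
-- import your own Groth.Agent.* helpers here

set_option autoImplicit false
set_option backward.isDefEq.respectTransparency false
set_option maxHeartbeats 800000
set_option backward.isDefEq.respectTransparency false
set_option maxHeartbeats 800000
set_option synthInstance.maxHeartbeats 200000
universe u
open QGor Groth.Agent

namespace Groth.Agent.S19836

open CategoryTheory AlgebraicGeometry in
/-- For a proper Cohen–Macaulay morphism Y → Spec A to a Noetherian affine base (flat, with
Cohen–Macaulay local rings of the fibres at every point) of pure relative dimension d, and ω its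
relative dualizing sheaf (an O_Y-module with the d-dualizing property over A): ω is relatively
Cohen–Macaulay over the base — at every point y of Y it is flat over the base and its restriction to
the fibre through y satisfies S_k at y for every k — and its support is the whole of Y. -/
theorem result
    (A : Type u) [CommRing A] [IsNoetherianRing A] (Y : Scheme.{u}) [Y.Over (Spec (CommRingCat.of A))]
    [IsProper (Y ↘ Spec (CommRingCat.of A))] (d : ℕ)
    (hCM : ∀ y : Y, MoreMor.IsCMAt (Y ↘ Spec (CommRingCat.of A)) y) (hd : Cyc.HasRelDim (Y ↘ Spec (CommRingCat.of A)) d)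
    (ω : Y.Modules) (hω : RelCanon.IsDualizingSheaf A Y d ω) :
    (∀ (y : Y) (k : ℕ), RelCanon.RelSkAt (Y ↘ Spec (CommRingCat.of A)) k ω y) ∧ CohB1.support ω = Set.univ := by
    obtain ⟨hcoh, hfl, hnt, hfib, -⟩ := FibreDualLib.facts d hCM hd ω hω
    let f := Y ↘ Spec (CommRingCat.of A)
    haveI := hcoh.1
    refine ⟨fun y k => ⟨hfl y, fun p _ => ?_⟩, Set.eq_univ_of_forall fun y => hnt y⟩
    haveI : LocallyOfFiniteType (f.fiberToSpecResidueField (f y)) :=
      MorphismProperty.pullback_snd (P := @LocallyOfFiniteType) _ _ inferInstance
    haveI : IsLocallyNoetherian (f.fiber (f y)) :=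
      LocallyOfFiniteType.isLocallyNoetherian (f.fiberToSpecResidueField (f y))
    haveI := SuppLib.finite_stalk_pullback (f.fiberι (f y)) ω hcoh.2 (f.asFiber y)
    let N := ((Scheme.Modules.pullback (f.fiberι (f y))).obj ω).presheaf.stalk (f.asFiber y)
    rcases subsingleton_or_nontrivial (LocalizedModule p.primeCompl N) with hs | hs
    · rw [Module.supportDim_eq_bot_of_subsingleton]
      exact (min_le_right _ _).trans bot_le
    · have h := S5761.result _ N ((hfib (f y)).2 (f.asFiber y)) ⟨p, inferInstance⟩ (Module.mem_support_iff.2 hs)
      exact (min_le_right _ _).trans h.le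

end Groth.Agent.S19836
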