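import Groth.Statements.S19837
import Groth.Agent.FibreDualLib.QGorAlong
-- import your own Groth.Agent.* helpers here

set_option autoImplicit false
set_option backward.isDefEq.respectTransparency false
set_option maxHeartbeats 1600000
set_option backward.isDefEq.respectTransparency.types false
set_option linter.style.haveILetI false
set_option synthInstance.maxHeartbeats 200000
universe u
open QGor Groth.Agent

namespace Groth.Agent.S19837

open CategoryTheory AlgebraicGeometry in
/-- Let Y → Spec A be a proper S₂-morphism to a Noetherian affine base, of pure relative dimension d,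
with fibres Gorenstein in codimension one and relative canonical sheaf ω (characterised by the
d-dualizing property over A). Let t be a point of Spec A and L a coherent reflexive O_Y-module whose
reflexive powers L^{[m]} (m ∈ ℤ) all satisfy relative S₂ over the base at every point and whose
restriction to the fibre Y_t is d-dualizing over κ(t) (L ⊗ O_{Y_t} is isomorphic to the canonical
sheaf of the fibre); this is the normalised form of 'virtually ℚ-Gorenstein along Y_t' with a global
L. If either (a) Y_t satisfies S₃ at every point, or (b) some ω^{[r]} with r > 0 and r non-zero in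
κ(t) is invertible at every point of Y_t, then for every m ∈ ℤ the reflexive power ω^{[m]} satisfies
relative S₂ over the base at every point of Y_t (the morphism is ℚ-Gorenstein along Y_t). -/
theorem result
    (A : Type u) [CommRing A] [IsNoetherianRing A] (Y : Scheme.{u}) [Y.Over (Spec (CommRingCat.of A))]
    [IsProper (Y ↘ Spec (CommRingCat.of A))] (d : ℕ)
    (hS : RelCanon.IsSkMor (Y ↘ Spec (CommRingCat.of A)) 2) (hd : Cyc.HasRelDim (Y ↘ Spec (CommRingCat.of A)) d)
    (ω : Y.Modules) (hω : RelCanon.IsDualizingSheaf A Y d ω)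
    (hG : ∀ y : Y, y ∉ RelCanon.gorLocus (Y ↘ Spec (CommRingCat.of A)) →
      (2 : WithBot ℕ∞) ≤ ringKrullDim (((Y ↘ Spec (CommRingCat.of A)).fiber ((Y ↘ Spec (CommRingCat.of A)) y)).presheaf.stalk ((Y ↘ Spec (CommRingCat.of A)).asFiber y)))
    (t : (Spec (CommRingCat.of A))) (L : Y.Modules) (hL : Coh.IsCoh L) (hLr : RefHull.IsReflexive L)
    (hL2 : ∀ m : ℤ, RelCanon.RelSk (Y ↘ Spec (CommRingCat.of A)) 2 (RelCanon.refPowZ L m))
    (hLt : RelCanon.IsDualizingSheafFib (Y ↘ Spec (CommRingCat.of A)) d L t)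
    (hab : (∀ y : Y, (Y ↘ Spec (CommRingCat.of A)) y = t → RelCanon.SkAt 3 (Coh.structureModule ((Y ↘ Spec (CommRingCat.of A)).fiber ((Y ↘ Spec (CommRingCat.of A)) y))) ((Y ↘ Spec (CommRingCat.of A)).asFiber y)) ∨
      (∃ r : ℕ, 0 < r ∧ (r : (Spec (CommRingCat.of A)).residueField t) ≠ 0 ∧
        ∀ y : Y, (Y ↘ Spec (CommRingCat.of A)) y = t → RelCanon.InvertibleAt (RelCanon.refPowZ ω r) y)) :
    ∀ m : ℤ, ∀ y : Y, (Y ↘ Spec (CommRingCat.of A)) y = t → RelCanon.RelSkAt (Y ↘ Spec (CommRingCat.of A)) 2 (RelCanon.refPowZ ω m) y := by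
    let f := Y ↘ Spec (CommRingCat.of A)
    haveI : IsNoetherianRing (CommRingCat.of A) := inferInstanceAs (IsNoetherianRing A)
    haveI : IsLocallyNoetherian Y := LocallyOfFiniteType.isLocallyNoetherian f
    haveI := hL.1
    obtain ⟨i1⟩ := FibreDualLib.nonempty_refPowZ_one_iso hL hLr
    have hcohP : ∀ {G : Y.Modules}, Coh.IsCoh G → ∀ m : ℤ, Coh.IsCoh (RelCanon.refPowZ G m) := fun {G} hG m => by
      obtain ⟨H, hH, hGH⟩ := FibreDualLib.exists_eq_ddual hG m
      rw [hGH]; exact RefOne.isCoh_dual (RefOne.isCoh_dual hH)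
    have hLf : FlatMod.IsFlatOver f L := fun y => (FibreDualLib.relSkAt_of_stalk_equiv f 2 (hcohP hL 1).1 hL.1 y
      ((DCohLib.stkF y).mapIso i1).toLinearEquiv (hL2 1 y)).1
    obtain ⟨hω', -, -⟩ := FibreDualLib.relCanonical_model d hS hd ω hω
    have hpt : ∀ w : f.fiber t, f (f.fiberι t w) = t := fun w => by
      have : f.fiberι t w ∈ f ⁻¹' {t} := by rw [← f.range_fiberι t]; exact ⟨w, rfl⟩
      exact this
    obtain ⟨hy, -, -⟩ := FibreDualLib.crit_fibre d hS hd ω hω L hL hLf t hLt (hab.imp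
      (fun h w => FibreDualLib.forall_fiber f (P := fun s z => s = t → RelCanon.SkAt 3 (Coh.structureModule (f.fiber s)) z)
        (fun x hx => h x hx) t w rfl)
      (fun ⟨r, hr, hrt, h⟩ => ⟨r, hr, hrt, fun w => ⟨FibreDualLib.invertibleAt_refPow_virtual d hS hd ω hω hG t L hL hLf hLt r w
        (hL2 r _) (h _ (hpt w)), h _ (hpt w)⟩⟩))
    intro m y hyt
    obtain ⟨hMinv, hev, -, -⟩ := hy y hyt
    let M := RefHull.homSh L ω
    have hM : Coh.IsCoh M := HomLib.isCoh_homSh hL hω'
    have hT : Coh.IsCoh (DCohLib.tmod L M) := CurveLib.isCoh_tmod hL hM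
    haveI := hT.1
    haveI := hω'.1
    obtain ⟨W1, hy1, ⟨a⟩⟩ := hMinv
    let V : Y.Opens := ⟨{v | Function.Bijective (PullbackMod.stalkLin (FibreDualLib.evMor L ω) v)},
      PullbackMod.isOpen_stalk_bijective _ hT.2 ((QCohLib.isCoh_iff_isFP _).mp hω')⟩
    let W := W1 ⊓ V
    haveI : IsLocallyNoetherian (W : Scheme.{u}) := isLocallyNoetherian_of_isOpenImmersion W.ι
    haveI : IsIso ((Scheme.Modules.restrictFunctor W.ι).map (FibreDualLib.evMor L ω)) :=
      FibreDualLib.isIso_restrict_of_bijective W _ fun x hx => hx.2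
    let aW : M.restrict W.ι ≅ Coh.structureModule (W : Scheme.{u}) :=
      GenBCLib.restrictLEIso _ (inf_le_left : W ≤ W1) ≪≫ (Scheme.Modules.restrictFunctor (Y.homOfLE inf_le_left)).mapIso a ≪≫
        DCohLib.restrictUnit (Y.homOfLE inf_le_left)
    let e : L.restrict W.ι ≅ ω.restrict W.ι :=
      (AmpleLib.unitR _).symm ≪≫ AmpleLib.tIso (Iso.refl _) aW.symm ≪≫ (AmpleLib.restrictTensor W.ι L M).symm ≪≫
        asIso ((Scheme.Modules.restrictFunctor W.ι).map (FibreDualLib.evMor L ω))
    obtain ⟨c⟩ := FibreDualLib.nonempty_refPowZ_congr_coh (DCohMore.isCoh_restrict' hL W) (DCohMore.isCoh_restrict' hω' W) e m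
    obtain ⟨c1⟩ := FibreDualLib.nonempty_refPowZ_restrict W hL m
    obtain ⟨c2⟩ := FibreDualLib.nonempty_refPowZ_restrict W hω' m
    have hyW : y ∈ W := ⟨hy1, hev⟩
    haveI := (hcohP hL m).1
    haveI := (hcohP hω' m).1
    haveI := PullbackMod.finite_stalk_of_isFT (hcohP hL m).2 y
    haveI := PullbackMod.finite_stalk_of_isFT (hcohP hω' m).2 y
    obtain ⟨σ⟩ := FibreDualLib.stalk_iso_of_restrict W (hcohP hL m) (hcohP hω' m) (c1 ≪≫ c ≪≫ c2.symm) y
      (FibreDualLib.le_idealDepth_idealOff_of_mem hyW _ 2) (FibreDualLib.le_idealDepth_idealOff_of_mem hyW _ 2)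
    exact FibreDualLib.relSkAt_of_stalk_equiv f 2 (hcohP hL m).1 (hcohP hω' m).1 y σ (hL2 m y)

end Groth.Agent.S19837
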