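import Groth.Statements.S19838
import Groth.Agent.FibreDualLib.Powers
-- import your own Groth.Agent.* helpers here

set_option autoImplicit false
set_option backward.isDefEq.respectTransparency false
set_option maxHeartbeats 1600000
set_option backward.isDefEq.respectTransparency.types false
set_option linter.style.haveILetI false
set_option synthInstance.maxHeartbeats 200000
universe u
open QGor Groth.Agent

namespace Groth.Agent.S19838

open CategoryTheory AlgebraicGeometry in
/-- Let Y → Spec A be a proper S₂-morphism to a Noetherian affine base, of pure relative dimension d,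
with relative canonical sheaf ω (characterised by the d-dualizing property over A), and t a point of
Spec A whose fibre Y_t is Gorenstein in codimension one and quasi-Gorenstein (every d-dualizing
module on Y_t over κ(t), i.e. its canonical sheaf, is invertible). If ω^{[r]} is invertible for some
r > 0 whose image in κ(t) is non-zero, then for every m ∈ ℤ the reflexive power ω^{[m]} satisfies
relative S₂ over the base at every point of Y_t (the morphism is ℚ-Gorenstein along Y_t). -/
theorem result
    (A : Type u) [CommRing A] [IsNoetherianRing A] (Y : Scheme.{u}) [Y.Over (Spec (CommRingCat.of A))]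
    [IsProper (Y ↘ Spec (CommRingCat.of A))] (d : ℕ)
    (hS : RelCanon.IsSkMor (Y ↘ Spec (CommRingCat.of A)) 2) (hd : Cyc.HasRelDim (Y ↘ Spec (CommRingCat.of A)) d)
    (ω : Y.Modules) (hω : RelCanon.IsDualizingSheaf A Y d ω)
    (t : (Spec (CommRingCat.of A)))
    (hG1 : ∀ y : Y, (Y ↘ Spec (CommRingCat.of A)) y = t → y ∉ RelCanon.gorLocus (Y ↘ Spec (CommRingCat.of A)) → (2 : WithBot ℕ∞) ≤ ringKrullDim (((Y ↘ Spec (CommRingCat.of A)).fiber ((Y ↘ Spec (CommRingCat.of A)) y)).presheaf.stalk ((Y ↘ Spec (CommRingCat.of A)).asFiber y)))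
    (hqg : ∀ ωt : ((Y ↘ Spec (CommRingCat.of A)).fiber t).Modules, @RelCanon.IsDualizingSheaf ((Spec (CommRingCat.of A)).residueField t) _ ((Y ↘ Spec (CommRingCat.of A)).fiber t) ⟨(Y ↘ Spec (CommRingCat.of A)).fiberToSpecResidueField t⟩ d ωt → PicF.IsInvertible ωt)
    (r : ℕ) (hr : 0 < r) (hrk : (r : (Spec (CommRingCat.of A)).residueField t) ≠ 0)
    (hinv : PicF.IsInvertible (RelCanon.refPowZ ω r)) :
    ∀ m : ℤ, ∀ y : Y, (Y ↘ Spec (CommRingCat.of A)) y = t → RelCanon.RelSkAt (Y ↘ Spec (CommRingCat.of A)) 2 (RelCanon.refPowZ ω m) y := by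
    intro m y hy
    subst hy
    let f₀ := Y ↘ Spec (CommRingCat.of A)
    haveI : IsNoetherianRing (CommRingCat.of A) := inferInstanceAs (IsNoetherianRing A)
    obtain ⟨U, hU⟩ := FibreDualLib.exists_gorOpens (A := A) (Y := Y) hS
    let t := f₀ y
    let k := (Spec (CommRingCat.of A)).residueField t
    letI : (f₀.fiber t).Over (Spec (CommRingCat.of k)) := ⟨f₀.fiberToSpecResidueField t⟩
    haveI : IsNoetherianRing (CommRingCat.of k) := inferInstanceAs (IsNoetherianRing k)
    obtain ⟨φ, hp⟩ := FibreDualLib.exists_fibre_hom f₀ t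
    haveI : IsProper (f₀.fiber t ↘ Spec (CommRingCat.of k)) := MorphismProperty.of_isPullback (P := @IsProper) hp ‹_›
    obtain ⟨hS', hd'⟩ := FibreDualLib.isSkMor_baseChange hp 2 d hS hd
    obtain ⟨ωt, hωt⟩ := FibreDualLib.exists_isDualizingSheaf (A := k) (Y := f₀.fiber t) d hS' hd'
    have hG : ∀ v : Y, f₀ v = f₀ y → v ⤳ y → v ∉ U →
        (2 : WithBot ℕ∞) ≤ ringKrullDim ((f₀.fiber (f₀ v)).presheaf.stalk (f₀.asFiber v)) :=
      fun v hv _ hvU => hG1 v hv fun h => hvU (hU.ge h)
    have h1 : RelCanon.InvertibleAt (RelCanon.refPowZ ω (1 : ℕ)) y := by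
      refine FibreDualLib.invertibleAt_refPow_of_mul d hS hd ω hω U hU.le y hG 1 r hr hrk ?_ ωt hωt
        (FibreDualLib.isInvertible_refPowZ (hqg ωt hωt) _ _)
      rw [one_mul]
      exact hinv y
    exact FibreDualLib.relSkAt_of_invertibleAt f₀ hS
      (FibreDualLib.invertibleAt_refPowZ_of_one d hS hd ω hω U hU.le y hG h1 m)

end Groth.Agent.S19838
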