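import Groth.Statements.S19839
import Groth.Agent.FibreDualLib.BCSk
-- import your own Groth.Agent.* helpers here

set_option autoImplicit false
set_option backward.isDefEq.respectTransparency false
set_option maxHeartbeats 800000
set_option backward.isDefEq.respectTransparency false
set_option maxHeartbeats 800000
set_option synthInstance.maxHeartbeats 200000
universe u
open QGor Groth.Agent

namespace Groth.Agent.S19839

open CategoryTheory AlgebraicGeometry in
/-- Let Y → Spec A be a proper S₂-morphism to a Noetherian affine base, of pure relative dimension d,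
with fibres Gorenstein in codimension one and relative canonical sheaf ω (characterised by the
d-dualizing property over A); let B be Noetherian, A → B a ring map, Y' → Y a cartesian square over
Spec B → Spec A with projection p, and ω' the relative canonical sheaf of Y' over B (any module with
the d-dualizing property over B). (1) If the morphism is naively ℚ-Gorenstein (some ω^{[r]}, r > 0,
invertible at each point) then so is the base change, and if ω^{[r]} is invertible for some r > 0
then ω'^{[r]} ≅ p^*(ω^{[r]}). (3) If every fibre of Y over Spec A is ℚ-Gorenstein (w.r.t. its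
canonical sheaf) then so is every fibre of Y' over Spec B. (5) If every ω^{[m]}, m ∈ ℤ, satisfies
relative S₂ over Spec A, then every ω'^{[m]} satisfies relative S₂ over Spec B and ω'^{[m]} ≅
p^*(ω^{[m]}). (Isomorphisms in existence form.) -/
theorem result
    (A : Type u) [CommRing A] [IsNoetherianRing A] (Y : Scheme.{u}) [Y.Over (Spec (CommRingCat.of A))]
    [IsProper (Y ↘ Spec (CommRingCat.of A))] (d : ℕ)
    (hS : RelCanon.IsSkMor (Y ↘ Spec (CommRingCat.of A)) 2) (hd : Cyc.HasRelDim (Y ↘ Spec (CommRingCat.of A)) d)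
    (ω : Y.Modules) (hω : RelCanon.IsDualizingSheaf A Y d ω)
    (hG : ∀ y : Y, y ∉ RelCanon.gorLocus (Y ↘ Spec (CommRingCat.of A)) →
      (2 : WithBot ℕ∞) ≤ ringKrullDim (((Y ↘ Spec (CommRingCat.of A)).fiber ((Y ↘ Spec (CommRingCat.of A)) y)).presheaf.stalk ((Y ↘ Spec (CommRingCat.of A)).asFiber y)))
    (B : Type u) [CommRing B] [IsNoetherianRing B] (φ : A →+* B)
    (Y' : Scheme.{u}) [Y'.Over (Spec (CommRingCat.of B))] (p : Y' ⟶ Y)
    (hp : IsPullback p (Y' ↘ Spec (CommRingCat.of B)) (Y ↘ Spec (CommRingCat.of A)) (Spec.map (CommRingCat.ofHom φ)))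
    (ω' : Y'.Modules) (hω' : RelCanon.IsDualizingSheaf B Y' d ω') :
    (RelCanon.IsQGorWith ω → RelCanon.IsQGorWith ω') ∧
    (∀ r : ℕ, 0 < r → PicF.IsInvertible (RelCanon.refPowZ ω r) →
      Nonempty (RelCanon.refPowZ ω' r ≅ (Scheme.Modules.pullback p).obj (RelCanon.refPowZ ω r))) ∧
    ((∀ (t : (Spec (CommRingCat.of A))) (ωt : ((Y ↘ Spec (CommRingCat.of A)).fiber t).Modules), @RelCanon.IsDualizingSheaf ((Spec (CommRingCat.of A)).residueField t) _ ((Y ↘ Spec (CommRingCat.of A)).fiber t) ⟨(Y ↘ Spec (CommRingCat.of A)).fiberToSpecResidueField t⟩ d ωt → RelCanon.IsQGorWith ωt) →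
      ∀ (t' : Spec (CommRingCat.of B)) (ωt' : ((Y' ↘ Spec (CommRingCat.of B)).fiber t').Modules),
        @RelCanon.IsDualizingSheaf ((Spec (CommRingCat.of B)).residueField t') _ ((Y' ↘ Spec (CommRingCat.of B)).fiber t') ⟨(Y' ↘ Spec (CommRingCat.of B)).fiberToSpecResidueField t'⟩ d ωt' →
        RelCanon.IsQGorWith ωt') ∧
    (RelCanon.IsQGorMorWith (Y ↘ Spec (CommRingCat.of A)) ω → RelCanon.IsQGorMorWith (Y' ↘ Spec (CommRingCat.of B)) ω' ∧
      ∀ m : ℤ, Nonempty (RelCanon.refPowZ ω' m ≅ (Scheme.Modules.pullback p).obj (RelCanon.refPowZ ω m))) := by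
    let f := Y ↘ Spec (CommRingCat.of A)
    let f' := Y' ↘ Spec (CommRingCat.of B)
    haveI : IsNoetherianRing (CommRingCat.of A) := inferInstanceAs (IsNoetherianRing A)
    haveI : IsNoetherianRing (CommRingCat.of B) := inferInstanceAs (IsNoetherianRing B)
    haveI : IsProper f' := MorphismProperty.of_isPullback (P := @IsProper) hp ‹_›
    obtain ⟨U, hU⟩ := FibreDualLib.exists_gorOpens (A := A) (Y := Y) hS
    have hG' := fun (y : Y) (hy : y ∉ U) => hG y (by rw [← hU]; exact hy)
    refine ⟨fun h z => ?_, fun r hr h => ?_, fun h t' ωt' hωt' z => ?_, fun h => ⟨fun m => ?_, fun m => ?_⟩⟩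
    · obtain ⟨r, hr, hi⟩ := h (p z)
      exact ⟨r, hr, FibreDualLib.invertibleAt_refPowZ_baseChange d hS hd ω hω U hU.le hG' φ p hp ω' hω' r z hi⟩
    · obtain ⟨-, -, hiso⟩ := FibreDualLib.refPowZ_baseChange d hS hd ω hω U hU.le hG' φ p hp ω' hω' r
      obtain ⟨e⟩ := hiso fun y => FibreDualLib.relSkAt_of_invertibleAt f hS (h y)
      exact ⟨e.symm⟩
    · let g : Spec (CommRingCat.of B) ⟶ Spec (CommRingCat.of A) := Spec.map (CommRingCat.ofHom φ)
      let t := g t'
      obtain ⟨φt, hφt⟩ := FibreDualLib.exists_fibre_hom f t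
      let κ := (Spec (CommRingCat.of A)).residueField t
      let κ' := (Spec (CommRingCat.of B)).residueField t'
      letI : (f.fiber t).Over (Spec (CommRingCat.of κ)) := ⟨f.fiberToSpecResidueField t⟩
      letI : (f'.fiber t').Over (Spec (CommRingCat.of κ')) := ⟨f'.fiberToSpecResidueField t'⟩
      haveI : IsNoetherianRing κ := inferInstance
      haveI : IsNoetherianRing κ' := inferInstance
      haveI : IsProper ((f.fiber t) ↘ Spec (CommRingCat.of κ)) :=
        MorphismProperty.of_isPullback (P := @IsProper) hφt ‹_›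
      obtain ⟨hSt₀, hdt₀⟩ := FibreDualLib.isSkMor_baseChange hφt 2 d hS hd
      have hSt : RelCanon.IsSkMor ((f.fiber t) ↘ Spec (CommRingCat.of κ)) 2 := hSt₀
      have hdt : Cyc.HasRelDim ((f.fiber t) ↘ Spec (CommRingCat.of κ)) d := hdt₀
      obtain ⟨ωt, hωt⟩ := FibreDualLib.exists_isDualizingSheaf d hSt hdt
      obtain ⟨V, hV⟩ := FibreDualLib.exists_gorOpens (A := κ) (Y := f.fiber t) hSt
      let q : f'.fiber t' ⟶ f.fiber t :=
        Limits.pullback.map _ _ _ _ p (Spec.map (g.residueFieldMap t')) g hp.w.symm (by simp [t])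
      have hq : IsPullback q ((f'.fiber t') ↘ Spec (CommRingCat.of κ')) ((f.fiber t) ↘ Spec (CommRingCat.of κ))
          (Spec.map (CommRingCat.ofHom (g.residueFieldMap t').hom)) :=
        isPullback_fiberToSpecResidueField_of_isPullback hp t'
      obtain ⟨r, hr, hi⟩ := h t ωt hωt (q z)
      exact ⟨r, hr, FibreDualLib.invertibleAt_refPowZ_baseChange d hSt hdt ωt hωt V hV.le
        (fun y hy => FibreDualLib.gor_codim_baseChange hφt 2 hG y fun hmem => hy (hV.ge hmem))
        (g.residueFieldMap t').hom q hq ωt' hωt' r z hi⟩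
    · exact FibreDualLib.relSk_refPowZ_baseChange d hS hd ω hω U hU.le hG' φ p hp ω' hω' m (h m)
    · obtain ⟨-, -, hiso⟩ := FibreDualLib.refPowZ_baseChange d hS hd ω hω U hU.le hG' φ p hp ω' hω' m
      obtain ⟨e⟩ := hiso (h m)
      exact ⟨e.symm⟩

end Groth.Agent.S19839
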