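import Groth.Statements.S19840
import Groth.Agent.FibreDualLib.BCDescent
-- import your own Groth.Agent.* helpers here

set_option autoImplicit false
set_option backward.isDefEq.respectTransparency false
set_option maxHeartbeats 800000
set_option backward.isDefEq.respectTransparency false
set_option maxHeartbeats 800000
set_option synthInstance.maxHeartbeats 200000
universe u
open QGor Groth.Agent

namespace Groth.Agent.S19840

open CategoryTheory AlgebraicGeometry in
/-- Let Y → Spec A be a proper S₂-morphism to a Noetherian affine base, of pure relative dimension d,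
whose fibres are Gorenstein in codimension one and ℚ-Gorenstein (w.r.t. their canonical sheaves),
with relative canonical sheaf ω (characterised by the d-dualizing property over A); let A → B be a
ring map to a Noetherian ring with Spec B → Spec A flat and surjective, Y' → Y a cartesian square
over it with projection p, and ω' the relative canonical sheaf of Y' over B (a module with the
d-dualizing property over B). (2) If the base change is naively ℚ-Gorenstein (some ω'^{[r]}, r > 0,
invertible at each point of Y') then so is Y → Spec A. (6) If every ω'^{[m]}, m ∈ ℤ, satisfies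
relative S₂ over Spec B, then every ω^{[m]} satisfies relative S₂ over Spec A. -/
theorem result
    (A : Type u) [CommRing A] [IsNoetherianRing A] (Y : Scheme.{u}) [Y.Over (Spec (CommRingCat.of A))]
    [IsProper (Y ↘ Spec (CommRingCat.of A))] (d : ℕ)
    (hS : RelCanon.IsSkMor (Y ↘ Spec (CommRingCat.of A)) 2) (hd : Cyc.HasRelDim (Y ↘ Spec (CommRingCat.of A)) d)
    (ω : Y.Modules) (hω : RelCanon.IsDualizingSheaf A Y d ω)
    (hG : ∀ y : Y, y ∉ RelCanon.gorLocus (Y ↘ Spec (CommRingCat.of A)) →
      (2 : WithBot ℕ∞) ≤ ringKrullDim (((Y ↘ Spec (CommRingCat.of A)).fiber ((Y ↘ Spec (CommRingCat.of A)) y)).presheaf.stalk ((Y ↘ Spec (CommRingCat.of A)).asFiber y)))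
    (hQf : ∀ (t : (Spec (CommRingCat.of A))) (ωt : ((Y ↘ Spec (CommRingCat.of A)).fiber t).Modules), @RelCanon.IsDualizingSheaf ((Spec (CommRingCat.of A)).residueField t) _ ((Y ↘ Spec (CommRingCat.of A)).fiber t) ⟨(Y ↘ Spec (CommRingCat.of A)).fiberToSpecResidueField t⟩ d ωt → RelCanon.IsQGorWith ωt)
    (B : Type u) [CommRing B] [IsNoetherianRing B] (φ : A →+* B)
    [Flat (Spec.map (CommRingCat.ofHom φ))] [Surjective (Spec.map (CommRingCat.ofHom φ))]
    (Y' : Scheme.{u}) [Y'.Over (Spec (CommRingCat.of B))] (p : Y' ⟶ Y)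
    (hp : IsPullback p (Y' ↘ Spec (CommRingCat.of B)) (Y ↘ Spec (CommRingCat.of A)) (Spec.map (CommRingCat.ofHom φ)))
    (ω' : Y'.Modules) (hω' : RelCanon.IsDualizingSheaf B Y' d ω') :
    (RelCanon.IsQGorWith ω' → RelCanon.IsQGorWith ω) ∧
    (RelCanon.IsQGorMorWith (Y' ↘ Spec (CommRingCat.of B)) ω' → RelCanon.IsQGorMorWith (Y ↘ Spec (CommRingCat.of A)) ω) := by
    let f := Y ↘ Spec (CommRingCat.of A)
    let f' := Y' ↘ Spec (CommRingCat.of B)
    haveI : IsNoetherianRing (CommRingCat.of A) := inferInstanceAs (IsNoetherianRing A)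
    haveI : IsNoetherianRing (CommRingCat.of B) := inferInstanceAs (IsNoetherianRing B)
    haveI : IsProper f' := MorphismProperty.of_isPullback (P := @IsProper) hp ‹_›
    haveI : IsLocallyNoetherian Y := LocallyOfFiniteType.isLocallyNoetherian f
    haveI : IsLocallyNoetherian Y' := LocallyOfFiniteType.isLocallyNoetherian f'
    haveI : Flat p := MorphismProperty.of_isPullback (P := @Flat) hp.flip ‹_›
    haveI : Surjective p := MorphismProperty.of_isPullback (P := @Surjective) hp.flip ‹_›
    obtain ⟨U, hU⟩ := FibreDualLib.exists_gorOpens (A := A) (Y := Y) hS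
    have hG' := fun (y : Y) (hy : y ∉ U) => hG y (by rw [← hU]; exact hy)
    have hiso := FibreDualLib.nonempty_pullback_refPowZ_iso_of_flat d hS hd ω hω U hU.le hG' φ p hp ω' hω'
    refine ⟨fun h y => ?_, fun h m y => ?_⟩
    · obtain ⟨z, rfl⟩ := p.surjective y
      obtain ⟨r, hr, hi⟩ := h z
      obtain ⟨hc, ⟨e⟩⟩ := hiso r
      exact ⟨r, hr, FibreDualLib.invertibleAt_of_pullback_flat p hc z (Flat.stalkMap p z)
        (FibreDualLib.invertibleAt_of_iso e.symm hi)⟩
    · obtain ⟨z, rfl⟩ := p.surjective y
      obtain ⟨hc, ⟨e⟩⟩ := hiso m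
      haveI := hc.1
      refine FibreDualLib.relSkAt_of_baseChange_flat hp hc 2 z
        ⟨PullbackMod.isFlatOverAt_of_iso e.symm f' z (h m z).1, ?_⟩
      exact (QGorNhdLib.hasSk_congr_module ((DCohLib.stkF (f'.asFiber z)).mapIso
        ((Scheme.Modules.pullback (f'.fiberι (f' z))).mapIso e.symm)).toLinearEquiv 2).1 (h m z).2

end Groth.Agent.S19840
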