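import Groth.Statements.S19841
import Groth.Agent.FibreDualLib.ArtinScheme
-- import your own Groth.Agent.* helpers here

set_option autoImplicit false
set_option backward.isDefEq.respectTransparency false
set_option maxHeartbeats 1600000
set_option backward.isDefEq.respectTransparency.types false
set_option linter.style.haveILetI false
set_option synthInstance.maxHeartbeats 200000
universe u
open QGor Groth.Agent

namespace Groth.Agent.S19841

open CategoryTheory AlgebraicGeometry in
/-- (i) ⇔ (ii): let Y → Spec A be a proper S₂-morphism to a Noetherian affine base, of pure relative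
dimension d, with fibres Gorenstein in codimension one and relative canonical sheaf ω (characterised
by the d-dualizing property over A); let y be a point over t ∈ Spec A at which the fibre Y_t is
ℚ-Gorenstein (w.r.t. its canonical sheaf), and m > 0. Then ω^{[m]} satisfies relative S₂ over the
base at y if and only if for every Artinian local ring A', every surjective ring map from the local
ring A_t of Spec A at t onto A', every cartesian square Y' → Y over Spec A' → Spec A with projection
p, every module ω' with the d-dualizing property for Y' over A' (its relative canonical sheaf) and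
every point y' of Y' mapping to y, the reflexive power ω'^{[m]} satisfies relative S₂ over Spec A'
at y'. -/
theorem result
    (A : Type u) [CommRing A] [IsNoetherianRing A] (Y : Scheme.{u}) [Y.Over (Spec (CommRingCat.of A))]
    [IsProper (Y ↘ Spec (CommRingCat.of A))] (d : ℕ)
    (hS : RelCanon.IsSkMor (Y ↘ Spec (CommRingCat.of A)) 2) (hd : Cyc.HasRelDim (Y ↘ Spec (CommRingCat.of A)) d)
    (ω : Y.Modules) (hω : RelCanon.IsDualizingSheaf A Y d ω)
    (hG : ∀ y : Y, y ∉ RelCanon.gorLocus (Y ↘ Spec (CommRingCat.of A)) →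
      (2 : WithBot ℕ∞) ≤ ringKrullDim (((Y ↘ Spec (CommRingCat.of A)).fiber ((Y ↘ Spec (CommRingCat.of A)) y)).presheaf.stalk ((Y ↘ Spec (CommRingCat.of A)).asFiber y)))
    (y : Y) (t : (Spec (CommRingCat.of A))) (ht : (Y ↘ Spec (CommRingCat.of A)) y = t)
    (hQy : ∀ ωt : ((Y ↘ Spec (CommRingCat.of A)).fiber ((Y ↘ Spec (CommRingCat.of A)) y)).Modules, @RelCanon.IsDualizingSheaf ((Spec (CommRingCat.of A)).residueField ((Y ↘ Spec (CommRingCat.of A)) y)) _ ((Y ↘ Spec (CommRingCat.of A)).fiber ((Y ↘ Spec (CommRingCat.of A)) y)) ⟨(Y ↘ Spec (CommRingCat.of A)).fiberToSpecResidueField ((Y ↘ Spec (CommRingCat.of A)) y)⟩ d ωt → RelCanon.IsQGorWithAt ωt ((Y ↘ Spec (CommRingCat.of A)).asFiber y))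
    (m : ℕ) (hm : 0 < m) :
    RelCanon.RelSkAt (Y ↘ Spec (CommRingCat.of A)) 2 (RelCanon.refPowZ ω m) y ↔
    ∀ (A' : Type u) [CommRing A'] [IsArtinianRing A'] [IsLocalRing A']
      (ψ : Localization.AtPrime t.asIdeal →+* A') (hψ : Function.Surjective ψ)
      (Y' : Scheme.{u}) [Y'.Over (Spec (CommRingCat.of A'))] (p : Y' ⟶ Y)
      (hp : IsPullback p (Y' ↘ Spec (CommRingCat.of A')) (Y ↘ Spec (CommRingCat.of A))
        (Spec.map (CommRingCat.ofHom (ψ.comp (algebraMap A (Localization.AtPrime t.asIdeal))))))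
      (ω' : Y'.Modules) (hω' : RelCanon.IsDualizingSheaf A' Y' d ω') (y' : Y') (hy' : p y' = y),
      RelCanon.RelSkAt (Y' ↘ Spec (CommRingCat.of A')) 2 (RelCanon.refPowZ ω' m) y' := by
    classical
    subst ht
    let f := Y ↘ Spec (CommRingCat.of A)
    haveI : IsNoetherianRing (CommRingCat.of A) := inferInstanceAs (IsNoetherianRing A)
    obtain ⟨U, hU⟩ := FibreDualLib.exists_gorOpens hS
    have hG' : ∀ x : Y, x ∉ U → (2 : WithBot ℕ∞) ≤ ringKrullDim ((f.fiber (f x)).presheaf.stalk (f.asFiber x)) :=
      fun x hx => hG x fun h => hx ((Set.ext_iff.1 hU x).2 h)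
    let R := (Spec (CommRingCat.of A)).presheaf.stalk (f y)
    letI : Algebra A R := StructureSheaf.stalkAlgebra A (f y)
    haveI : IsLocalization.AtPrime R (f y).asIdeal := StructureSheaf.IsLocalization.to_stalk A (f y)
    let ε := IsLocalization.algEquiv (f y).asIdeal.primeCompl R (Localization.AtPrime (f y).asIdeal)
    have hε : ∀ {A' : Type u} [CommRing A'] (ψ : Localization.AtPrime (f y).asIdeal →+* A'),
        (ψ.comp (ε : R →+* Localization.AtPrime (f y).asIdeal)).comp (algebraMap A R) =
          ψ.comp (algebraMap A (Localization.AtPrime (f y).asIdeal)) := fun ψ => RingHom.ext fun a => congrArg ψ (ε.commutes a)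
    have hεs : ∀ {A' : Type u} [CommRing A'] (ψ : R →+* A'),
        (ψ.comp (ε.symm : Localization.AtPrime (f y).asIdeal →+* R)).comp (algebraMap A (Localization.AtPrime (f y).asIdeal)) =
          ψ.comp (algebraMap A R) := fun ψ => RingHom.ext fun a => congrArg ψ (ε.symm.commutes a)
    refine ⟨fun h A' _ _ _ ψ hψ Y' _ p hp ω' hω' z hz => ?_, fun H => ?_⟩
    · have key : ∀ x : Y, p z = x → RelCanon.RelSkAt f 2 (RelCanon.refPowZ ω (m : ℤ)) x →
          ∀ (ψ : (Spec (CommRingCat.of A)).presheaf.stalk (f x) →+* A'), Function.Surjective ψ →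
          ∀ φ : A →+* A', (letI : Algebra A ((Spec (CommRingCat.of A)).presheaf.stalk (f x)) := StructureSheaf.stalkAlgebra A (f x)
            ψ.comp (algebraMap A ((Spec (CommRingCat.of A)).presheaf.stalk (f x)))) = φ →
          IsPullback p (Y' ↘ Spec (CommRingCat.of A')) f (Spec.map (CommRingCat.ofHom φ)) →
          RelCanon.RelSkAt (Y' ↘ Spec (CommRingCat.of A')) 2 (RelCanon.refPowZ ω' (m : ℤ)) z := by
        rintro x rfl hx ψ hψ φ hφ hp
        exact (FibreDualLib.relSkAt_artinian_of_relSkAt d hS hd ω hω U hU.le hG' m hp ω' hω' z ψ hψ hφ hx).2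
      exact key y hz h (ψ.comp (ε : R →+* _)) (hψ.comp ε.surjective) _ (hε ψ) hp
    · refine FibreDualLib.relSkAt_refPowZ_of_artinian d hS hd ω hω U hU.le hG' m y ?_
      intro A' _ _ _ ψ hψ Y' _ p hp ω' hω' z hz
      refine H A' (ψ.comp (ε.symm : _ →+* R)) (hψ.comp ε.symm.surjective) Y' p ?_ ω' hω' z hz
      rw [hεs]
      exact hp

end Groth.Agent.S19841
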