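import Groth.Statements.S19842
import Groth.Agent.FibreDualLib.ArtinScheme
-- import your own Groth.Agent.* helpers here

set_option autoImplicit false
set_option backward.isDefEq.respectTransparency false
set_option maxHeartbeats 1600000
set_option backward.isDefEq.respectTransparency.types false
set_option linter.style.haveILetI false
set_option synthInstance.maxHeartbeats 200000
universe u
open QGor Groth.Agent

namespace Groth.Agent.S19842

open CategoryTheory AlgebraicGeometry in
/-- (iii) ⇔ (iv): in the same situation — Y → Spec A a proper S₂-morphism to a Noetherian affine base,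
of pure relative dimension d, fibres Gorenstein in codimension one, relative canonical sheaf ω
characterised by the d-dualizing property over A, a point y over t with Y_t ℚ-Gorenstein at y
(w.r.t. its canonical sheaf), m > 0 —, the reflexive power ω^{[m]} is invertible at y if and only if
for every Artinian local ring A', every surjective ring map from the local ring A_t onto A', every
cartesian square Y' → Y over Spec A' → Spec A with projection p, every module ω' with the
d-dualizing property for Y' over A' and every point y' of Y' mapping to y, ω'^{[m]} is invertible at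
y'. -/
theorem result
    (A : Type u) [CommRing A] [IsNoetherianRing A] (Y : Scheme.{u}) [Y.Over (Spec (CommRingCat.of A))]
    [IsProper (Y ↘ Spec (CommRingCat.of A))] (d : ℕ)
    (hS : RelCanon.IsSkMor (Y ↘ Spec (CommRingCat.of A)) 2) (hd : Cyc.HasRelDim (Y ↘ Spec (CommRingCat.of A)) d)
    (ω : Y.Modules) (hω : RelCanon.IsDualizingSheaf A Y d ω)
    (hG : ∀ y : Y, y ∉ RelCanon.gorLocus (Y ↘ Spec (CommRingCat.of A)) →
      (2 : WithBot ℕ∞) ≤ ringKrullDim (((Y ↘ Spec (CommRingCat.of A)).fiber ((Y ↘ Spec (CommRingCat.of A)) y)).presheaf.stalk ((Y ↘ Spec (CommRingCat.of A)).asFiber y)))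
    (y : Y) (t : (Spec (CommRingCat.of A))) (ht : (Y ↘ Spec (CommRingCat.of A)) y = t)
    (hQy : ∀ ωt : ((Y ↘ Spec (CommRingCat.of A)).fiber ((Y ↘ Spec (CommRingCat.of A)) y)).Modules, @RelCanon.IsDualizingSheaf ((Spec (CommRingCat.of A)).residueField ((Y ↘ Spec (CommRingCat.of A)) y)) _ ((Y ↘ Spec (CommRingCat.of A)).fiber ((Y ↘ Spec (CommRingCat.of A)) y)) ⟨(Y ↘ Spec (CommRingCat.of A)).fiberToSpecResidueField ((Y ↘ Spec (CommRingCat.of A)) y)⟩ d ωt → RelCanon.IsQGorWithAt ωt ((Y ↘ Spec (CommRingCat.of A)).asFiber y))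
    (m : ℕ) (hm : 0 < m) :
    RelCanon.InvertibleAt (RelCanon.refPowZ ω m) y ↔
    ∀ (A' : Type u) [CommRing A'] [IsArtinianRing A'] [IsLocalRing A']
      (ψ : Localization.AtPrime t.asIdeal →+* A') (hψ : Function.Surjective ψ)
      (Y' : Scheme.{u}) [Y'.Over (Spec (CommRingCat.of A'))] (p : Y' ⟶ Y)
      (hp : IsPullback p (Y' ↘ Spec (CommRingCat.of A')) (Y ↘ Spec (CommRingCat.of A))
        (Spec.map (CommRingCat.ofHom (ψ.comp (algebraMap A (Localization.AtPrime t.asIdeal))))))
      (ω' : Y'.Modules) (hω' : RelCanon.IsDualizingSheaf A' Y' d ω') (y' : Y') (hy' : p y' = y),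
      RelCanon.InvertibleAt (RelCanon.refPowZ ω' m) y' := by
    classical
    subst ht
    let f := Y ↘ Spec (CommRingCat.of A)
    haveI : IsNoetherianRing (CommRingCat.of A) := inferInstanceAs (IsNoetherianRing A)
    obtain ⟨U, hU⟩ := FibreDualLib.exists_gorOpens hS
    have hG' : ∀ x : Y, x ∉ U → (2 : WithBot ℕ∞) ≤ ringKrullDim ((f.fiber (f x)).presheaf.stalk (f.asFiber x)) :=
      fun x hx => hG x fun h => hx ((Set.ext_iff.1 hU x).2 h)
    let R := (Spec (CommRingCat.of A)).presheaf.stalk (f y)
    letI : Algebra A R := StructureSheaf.stalkAlgebra A (f y)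
    haveI : IsLocalization.AtPrime R (f y).asIdeal := StructureSheaf.IsLocalization.to_stalk A (f y)
    let ε := IsLocalization.algEquiv (f y).asIdeal.primeCompl R (Localization.AtPrime (f y).asIdeal)
    have hε : ∀ {A' : Type u} [CommRing A'] (ψ : Localization.AtPrime (f y).asIdeal →+* A'),
        (ψ.comp (ε : R →+* Localization.AtPrime (f y).asIdeal)).comp (algebraMap A R) =
          ψ.comp (algebraMap A (Localization.AtPrime (f y).asIdeal)) := fun ψ => RingHom.ext fun a => congrArg ψ (ε.commutes a)
    have hεs : ∀ {A' : Type u} [CommRing A'] (ψ : R →+* A'),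
        (ψ.comp (ε.symm : Localization.AtPrime (f y).asIdeal →+* R)).comp (algebraMap A (Localization.AtPrime (f y).asIdeal)) =
          ψ.comp (algebraMap A R) := fun ψ => RingHom.ext fun a => congrArg ψ (ε.symm.commutes a)
    refine ⟨fun h A' _ _ _ ψ hψ Y' _ p hp ω' hω' z hz => ?_, fun H => ?_⟩
    · haveI : IsNoetherianRing A' := inferInstance
      exact FibreDualLib.invertibleAt_refPowZ_baseChange d hS hd ω hω U hU.le hG' _ p hp ω' hω' (m : ℤ) z (hz.symm ▸ h)
    · have hSk : RelCanon.RelSkAt f 2 (RelCanon.refPowZ ω (m : ℤ)) y := by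
        refine FibreDualLib.relSkAt_refPowZ_of_artinian d hS hd ω hω U hU.le hG' m y ?_
        intro A' _ _ _ ψ hψ Y' _ p hp ω' hω' z hz
        obtain ⟨hS', -⟩ := FibreDualLib.isSkMor_baseChange hp 2 d hS hd
        refine FibreDualLib.relSkAt_of_invertibleAt (Y' ↘ Spec (CommRingCat.of A')) hS' ?_
        refine H A' (ψ.comp (ε.symm : _ →+* R)) (hψ.comp ε.symm.surjective) Y' p ?_ ω' hω' z hz
        rw [hεs]
        exact hp
      let m₀ := IsLocalRing.maximalIdeal R
      let A' := R ⧸ m₀ ^ (0 + 1)
      haveI : m₀.IsMaximal := IsLocalRing.maximalIdeal.isMaximal R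
      haveI : IsArtinianRing A' := (CubeLib.isArtinianRing_quot_pow m₀ 0).1
      haveI : IsLocalRing A' := (CubeLib.isArtinianRing_quot_pow m₀ 0).2
      let ψ : R →+* A' := Ideal.Quotient.mk (m₀ ^ (0 + 1))
      let φ : A →+* A' := ψ.comp (algebraMap A R)
      let g := Spec.map (CommRingCat.ofHom φ)
      let Y' := Limits.pullback f g
      letI : Y'.Over (Spec (CommRingCat.of A')) := ⟨Limits.pullback.snd f g⟩
      have hp : IsPullback (Limits.pullback.fst f g) (Y' ↘ Spec (CommRingCat.of A')) f g := IsPullback.of_hasPullback f g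
      haveI : IsNoetherianRing (CommRingCat.of A') := inferInstanceAs (IsNoetherianRing A')
      haveI : IsProper (Y' ↘ Spec (CommRingCat.of A')) := MorphismProperty.of_isPullback (P := @IsProper) hp ‹_›
      obtain ⟨hS', hd'⟩ := FibreDualLib.isSkMor_baseChange hp 2 d hS hd
      obtain ⟨ω', hω'⟩ := FibreDualLib.exists_isDualizingSheaf (A := A') (Y := Y') d hS' hd'
      let s : Spec (CommRingCat.of A') := IsLocalRing.closedPoint A'
      have hs : f y = g s := by
        refine PrimeSpectrum.ext ?_
        show (f y).asIdeal = (IsLocalRing.maximalIdeal A').comap φ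
        rw [← Ideal.comap_comap,
          IsLocalRing.eq_maximalIdeal (Ideal.comap_isMaximal_of_surjective ψ Ideal.Quotient.mk_surjective)]
        exact (IsLocalization.AtPrime.under_maximalIdeal R (f y).asIdeal).symm
      obtain ⟨z, hz, -⟩ := Scheme.Pullback.exists_preimage_pullback y s hs
      have hinv : RelCanon.InvertibleAt (RelCanon.refPowZ ω' (m : ℤ)) z := by
        refine H A' (ψ.comp (ε.symm : _ →+* R)) (Ideal.Quotient.mk_surjective.comp ε.symm.surjective) Y'
          (Limits.pullback.fst f g) ?_ ω' hω' z hz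
        rw [hεs]
        exact hp
      exact FibreDualLib.invertibleAt_refPowZ_of_residue d hS hd ω hω U hU.le hG' m hp ω' hω' z y hz ψ
        Ideal.Quotient.mk_surjective rfl (by rw [Ideal.mk_ker, pow_one]) hSk hinv

end Groth.Agent.S19842
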