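import Groth.Statements.S19845
import Groth.Agent.FibreDualLib.StratumScheme
-- import your own Groth.Agent.* helpers here

set_option autoImplicit false
set_option backward.isDefEq.respectTransparency false
set_option maxHeartbeats 1600000
set_option backward.isDefEq.respectTransparency.types false
set_option linter.style.haveILetI false
set_option synthInstance.maxHeartbeats 200000
universe u
open QGor

namespace Groth.Agent.S19845

open CategoryTheory AlgebraicGeometry in
/-- Let A be a Henselian Noetherian local ring and Y → Spec A a proper S₂-morphism of pure relative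
dimension d with fibres Gorenstein in codimension one and relative canonical sheaf ω (characterised
by the d-dualizing property over A); let y be a point of the closed fibre at which the closed fibre
is ℚ-Gorenstein (w.r.t. its canonical sheaf). Then there is an ideal 𝔞 of A such that for every
Noetherian local ring R, every local homomorphism φ : A → R, every cartesian square Y' → Y over Spec
R → Spec A with projection p and every module ω' with the d-dualizing property for Y' over R: the
morphism Y' → Spec R is ℚ-Gorenstein with respect to ω' at every point of Y' lying over y and over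
the closed point of Spec R (some neighbourhood of the point on which all ω'^{[m]} satisfy relative
S₂) if and only if φ maps 𝔞 to zero (Spec R → Spec A factors through Spec A/𝔞). -/
theorem result
    (A : Type u) [CommRing A] [IsNoetherianRing A] [HenselianLocalRing A]
    (Y : Scheme.{u}) [Y.Over (Spec (CommRingCat.of A))]
    [IsProper (Y ↘ Spec (CommRingCat.of A))] (d : ℕ)
    (hS : RelCanon.IsSkMor (Y ↘ Spec (CommRingCat.of A)) 2) (hd : Cyc.HasRelDim (Y ↘ Spec (CommRingCat.of A)) d)
    (ω : Y.Modules) (hω : RelCanon.IsDualizingSheaf A Y d ω)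
    (hG : ∀ y : Y, y ∉ RelCanon.gorLocus (Y ↘ Spec (CommRingCat.of A)) →
      (2 : WithBot ℕ∞) ≤ ringKrullDim (((Y ↘ Spec (CommRingCat.of A)).fiber ((Y ↘ Spec (CommRingCat.of A)) y)).presheaf.stalk ((Y ↘ Spec (CommRingCat.of A)).asFiber y)))
    (y : Y) (hy : (Y ↘ Spec (CommRingCat.of A)) y = IsLocalRing.closedPoint A)
    (hQy : ∀ ωt : ((Y ↘ Spec (CommRingCat.of A)).fiber ((Y ↘ Spec (CommRingCat.of A)) y)).Modules, @RelCanon.IsDualizingSheaf ((Spec (CommRingCat.of A)).residueField ((Y ↘ Spec (CommRingCat.of A)) y)) _ ((Y ↘ Spec (CommRingCat.of A)).fiber ((Y ↘ Spec (CommRingCat.of A)) y)) ⟨(Y ↘ Spec (CommRingCat.of A)).fiberToSpecResidueField ((Y ↘ Spec (CommRingCat.of A)) y)⟩ d ωt → RelCanon.IsQGorWithAt ωt ((Y ↘ Spec (CommRingCat.of A)).asFiber y)) :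
    ∃ 𝔞 : Ideal A, ∀ (B : Type u) [CommRing B] [IsNoetherianRing B] [IsLocalRing B] (φ : A →+* B) [IsLocalHom φ]
      (Y' : Scheme.{u}) [Y'.Over (Spec (CommRingCat.of B))] (p : Y' ⟶ Y)
      (hp : IsPullback p (Y' ↘ Spec (CommRingCat.of B)) (Y ↘ Spec (CommRingCat.of A)) (Spec.map (CommRingCat.ofHom φ)))
      (ω' : Y'.Modules) (hω' : RelCanon.IsDualizingSheaf B Y' d ω'),
      ((∀ y' : Y', p y' = y → (Y' ↘ Spec (CommRingCat.of B)) y' = IsLocalRing.closedPoint B → RelCanon.IsQGorMorWithAt (Y' ↘ Spec (CommRingCat.of B)) ω' y') ↔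
        Ideal.map φ 𝔞 = ⊥) := by
    classical
    let f := Y ↘ Spec (CommRingCat.of A)
    haveI : IsNoetherianRing (CommRingCat.of A) := inferInstanceAs (IsNoetherianRing A)
    haveI : IsLocallyNoetherian Y := LocallyOfFiniteType.isLocallyNoetherian f
    obtain ⟨U, hU⟩ := FibreDualLib.exists_gorOpens (A := A) (Y := Y) hS
    have hG' : ∀ v : Y, v ∉ U → (2 : WithBot ℕ∞) ≤ ringKrullDim ((f.fiber (f v)).presheaf.stalk (f.asFiber v)) :=
      fun v hv => hG v fun h => hv ((Set.ext_iff.1 hU v).2 h)
    -- the index of the closed fibre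
    obtain ⟨φ₀, hφ₀⟩ := FibreDualLib.exists_fibre_hom f (f y)
    let κ := (Spec (CommRingCat.of A)).residueField (f y)
    letI : (f.fiber (f y)).Over (Spec (CommRingCat.of κ)) := ⟨f.fiberToSpecResidueField (f y)⟩
    haveI : IsNoetherianRing κ := inferInstance
    haveI : IsProper ((f.fiber (f y)) ↘ Spec (CommRingCat.of κ)) := MorphismProperty.of_isPullback (P := @IsProper) hφ₀ ‹_›
    obtain ⟨hS₀', hd₀'⟩ := FibreDualLib.isSkMor_baseChange hφ₀ 2 d hS hd
    have hS₀ : RelCanon.IsSkMor ((f.fiber (f y)) ↘ Spec (CommRingCat.of κ)) 2 := hS₀'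
    have hd₀ : Cyc.HasRelDim ((f.fiber (f y)) ↘ Spec (CommRingCat.of κ)) d := hd₀'
    obtain ⟨ω₀, hω₀⟩ := FibreDualLib.exists_isDualizingSheaf d hS₀ hd₀
    obtain ⟨r, hr, hr₀⟩ := hQy ω₀ hω₀
    choose 𝔞 h𝔞 using fun s : Fin (r + 1) =>
      FibreDualLib.exists_ideal_relSk d hS hd ω hω U hU.le hG' ((s : ℕ) : ℤ) y hy
    refine ⟨⨆ s, 𝔞 s, fun B _ _ _ φ _ Y' _ p hp ω' hω' => ?_⟩
    have key := fun s => h𝔞 s B φ Y' p hp ω' hω'
    rw [Ideal.map_iSup, iSup_eq_bot]
    constructor
    · intro h s
      refine (key s).1 fun y' hy' hc => ?_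
      obtain ⟨W, hW, hWm⟩ := h y' hy' hc
      exact hWm _ y' hW
    · intro h y' hy' hc
      let f' := Y' ↘ Spec (CommRingCat.of B)
      let g := Spec.map (CommRingCat.ofHom φ)
      haveI : IsNoetherianRing (CommRingCat.of B) := inferInstanceAs (IsNoetherianRing B)
      haveI : IsProper f' := MorphismProperty.of_isPullback (P := @IsProper) hp ‹_›
      haveI : IsLocallyNoetherian Y' := LocallyOfFiniteType.isLocallyNoetherian f'
      haveI : LocallyOfFiniteType f := inferInstance
      obtain ⟨hS', hd'⟩ := FibreDualLib.isSkMor_baseChange hp 2 d hS hd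
      -- the fibre through the point
      let t' := f' y'
      let t := g t'
      let κt := (Spec (CommRingCat.of A)).residueField t
      let κ' := (Spec (CommRingCat.of B)).residueField t'
      obtain ⟨φt, hφt⟩ := FibreDualLib.exists_fibre_hom f t
      letI : (f.fiber t).Over (Spec (CommRingCat.of κt)) := ⟨f.fiberToSpecResidueField t⟩
      letI : (f'.fiber t').Over (Spec (CommRingCat.of κ')) := ⟨f'.fiberToSpecResidueField t'⟩
      haveI : IsNoetherianRing κt := inferInstance
      haveI : IsNoetherianRing κ' := inferInstance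
      haveI : IsProper ((f.fiber t) ↘ Spec (CommRingCat.of κt)) := MorphismProperty.of_isPullback (P := @IsProper) hφt ‹_›
      obtain ⟨φt', hφt'⟩ := FibreDualLib.exists_fibre_hom f' t'
      haveI : IsProper ((f'.fiber t') ↘ Spec (CommRingCat.of κ')) := MorphismProperty.of_isPullback (P := @IsProper) hφt' ‹_›
      obtain ⟨hSt₀, hdt₀⟩ := FibreDualLib.isSkMor_baseChange hφt 2 d hS hd
      have hSt : RelCanon.IsSkMor ((f.fiber t) ↘ Spec (CommRingCat.of κt)) 2 := hSt₀
      have hdt : Cyc.HasRelDim ((f.fiber t) ↘ Spec (CommRingCat.of κt)) d := hdt₀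
      obtain ⟨V, hV⟩ := FibreDualLib.exists_gorOpens (A := κt) (Y := f.fiber t) hSt
      let q : f'.fiber t' ⟶ f.fiber t :=
        Limits.pullback.map _ _ _ _ p (Spec.map (g.residueFieldMap t')) g hp.w.symm (by simp [t])
      have hq : IsPullback q ((f'.fiber t') ↘ Spec (CommRingCat.of κ')) ((f.fiber t) ↘ Spec (CommRingCat.of κt))
          (Spec.map (CommRingCat.ofHom (g.residueFieldMap t').hom)) :=
        isPullback_fiberToSpecResidueField_of_isPullback hp t'
      obtain ⟨hSt'₀, hdt'₀⟩ := FibreDualLib.isSkMor_baseChange hφt' 2 d hS' hd'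
      have hSt' : RelCanon.IsSkMor ((f'.fiber t') ↘ Spec (CommRingCat.of κ')) 2 := hSt'₀
      have hdt' : Cyc.HasRelDim ((f'.fiber t') ↘ Spec (CommRingCat.of κ')) d := hdt'₀
      obtain ⟨ω₁, hω₁⟩ := FibreDualLib.exists_isDualizingSheaf d hSt' hdt'
      have key0 : ∀ (s : Spec (CommRingCat.of A)) (w : f.fiber s), f.fiberι s w = y →
          ∃ ωs : (f.fiber s).Modules, @RelCanon.IsDualizingSheaf ((Spec (CommRingCat.of A)).residueField s) _
            (f.fiber s) ⟨f.fiberToSpecResidueField s⟩ d ωs ∧ RelCanon.InvertibleAt (RelCanon.refPowZ ωs r) w := by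
        refine FibreDualLib.forall_fiber f (P := fun s w => f.fiberι s w = y → ∃ ωs : (f.fiber s).Modules,
          @RelCanon.IsDualizingSheaf ((Spec (CommRingCat.of A)).residueField s) _
            (f.fiber s) ⟨f.fiberToSpecResidueField s⟩ d ωs ∧ RelCanon.InvertibleAt (RelCanon.refPowZ ωs r) w) ?_
        intro v hv
        rw [f.fiberι_asFiber] at hv
        subst hv
        exact ⟨ω₀, hω₀, hr₀⟩
      have hqι : f.fiberι t (q (f'.asFiber y')) = y := by
        have h1 : q ≫ f.fiberι t = f'.fiberι t' ≫ p := Limits.pullback.lift_fst _ _ _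
        rw [← Scheme.Hom.comp_apply, h1, Scheme.Hom.comp_apply, f'.fiberι_asFiber, hy']
      obtain ⟨ωt, hωt, hrt⟩ := key0 t _ hqι
      have h0 : RelCanon.InvertibleAt (RelCanon.refPowZ ω₁ r) (f'.asFiber y') :=
        FibreDualLib.invertibleAt_refPowZ_baseChange d hSt hdt ωt hωt V hV.le
          (fun v hv => FibreDualLib.gor_codim_baseChange hφt 2 hG v fun hmem => hv (hV.ge hmem))
          (g.residueFieldMap t').hom q hq ω₁ hω₁ r (f'.asFiber y') hrt
      exact FibreDualLib.isQGorMorWithAt_of_powers d hS' hd' ω' hω' (p ⁻¹ᵁ U)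
        (fun v hv => FibreDualLib.preimage_gor_subset hp rfl (hU.le hv))
        (fun z hz => FibreDualLib.codim_baseChange hp z 2 fun v hv => hG' v (by rw [hv]; exact hz))
        y' r hr ω₁ hω₁ h0 fun s hs => (key ⟨s, Nat.lt_succ_of_le hs⟩).2 (h _) y' hy' hc

end Groth.Agent.S19845
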