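import Groth.Statements.S19846
import Groth.Agent.FibreDualLib.LocalExt
-- import your own Groth.Agent.* helpers here

set_option autoImplicit false
set_option backward.isDefEq.respectTransparency false
set_option maxHeartbeats 1600000
set_option backward.isDefEq.respectTransparency.types false
set_option linter.style.haveILetI false
set_option synthInstance.maxHeartbeats 200000
universe u
open QGor Groth.Agent

namespace Groth.Agent.S19846

open CategoryTheory AlgebraicGeometry in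
/-- Let Y → Spec A be a proper S₂-morphism to a Noetherian affine base, of pure relative dimension d,
with relative canonical sheaf ω (characterised by the d-dualizing property over A); let Y° be the
relative Gorenstein locus, t a point of Spec A and ω_t a d-dualizing module on the fibre Y_t over
κ(t) (its canonical sheaf), with Y_t ℚ-Gorenstein: Gorenstein in codimension one (local rings of Y_t
of dimension ≥ 2 at points outside Y°) and some ω_t^{[r]}, r > 0, invertible at each point. If for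
every m ≥ 1 there is a coherent O_Y-module M_m with M_m ⊗ O_{Y_t} ≅ ω_t^{[m]} and M_m|_{Y°} ≅
(ω|_{Y°})^{⊗ m}, then for every m ≥ 0 the reflexive power ω^{[m]} satisfies relative S₂ over the
base at every point of Y_t. (The printed conclusion is that the morphism is ℚ-Gorenstein along Y_t;
the printed argument establishes the relative S₂ property for the non-negative powers, which is what
is stated.) -/
theorem result
    (A : Type u) [CommRing A] [IsNoetherianRing A] (Y : Scheme.{u}) [Y.Over (Spec (CommRingCat.of A))]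
    [IsProper (Y ↘ Spec (CommRingCat.of A))] (d : ℕ)
    (hS : RelCanon.IsSkMor (Y ↘ Spec (CommRingCat.of A)) 2) (hd : Cyc.HasRelDim (Y ↘ Spec (CommRingCat.of A)) d)
    (ω : Y.Modules) (hω : RelCanon.IsDualizingSheaf A Y d ω)
    (Yo : Y.Opens) (hYo : (Yo : Set Y) = RelCanon.gorLocus (Y ↘ Spec (CommRingCat.of A)))
    (t : (Spec (CommRingCat.of A))) (ωt : ((Y ↘ Spec (CommRingCat.of A)).fiber t).Modules) (hωt : @RelCanon.IsDualizingSheaf ((Spec (CommRingCat.of A)).residueField t) _ ((Y ↘ Spec (CommRingCat.of A)).fiber t) ⟨(Y ↘ Spec (CommRingCat.of A)).fiberToSpecResidueField t⟩ d ωt)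
    (hG1 : ∀ y : Y, (Y ↘ Spec (CommRingCat.of A)) y = t → y ∉ Yo → (2 : WithBot ℕ∞) ≤ ringKrullDim (((Y ↘ Spec (CommRingCat.of A)).fiber ((Y ↘ Spec (CommRingCat.of A)) y)).presheaf.stalk ((Y ↘ Spec (CommRingCat.of A)).asFiber y)))
    (hQ : RelCanon.IsQGorWith ωt)
    (M : ℕ → Y.Modules) (hMc : ∀ m : ℕ, 1 ≤ m → Coh.IsCoh (M m))
    (hMt : ∀ m : ℕ, 1 ≤ m →
      Nonempty ((Scheme.Modules.pullback ((Y ↘ Spec (CommRingCat.of A)).fiberι t)).obj (M m) ≅ RelCanon.refPowZ ωt m))
    (hMo : ∀ m : ℕ, 1 ≤ m → Nonempty ((M m).restrict Yo.ι ≅ CohB1.tensorPow (ω.restrict Yo.ι) m)) :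
    ∀ (m : ℕ) (y : Y), (Y ↘ Spec (CommRingCat.of A)) y = t → RelCanon.RelSkAt (Y ↘ Spec (CommRingCat.of A)) 2 (RelCanon.refPowZ ω m) y := by
    intro m y hy
    subst hy
    let f₀ := Y ↘ Spec (CommRingCat.of A)
    haveI : IsNoetherianRing (CommRingCat.of A) := inferInstanceAs (IsNoetherianRing A)
    haveI : IsLocallyNoetherian Y := LocallyOfFiniteType.isLocallyNoetherian f₀
    obtain ⟨hinvo, hωcoh, hpow⟩ := FibreDualLib.refPowZ_restrict_gor d hS hd ω hω Yo hYo.le
    rcases Nat.eq_zero_or_pos m with rfl | hm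
    · refine FibreDualLib.relSkAt_of_invertibleAt f₀ hS ?_
      exact FibreDualLib.isInvertible_dual (FibreDualLib.isInvertible_dual
        (ParaFLib.isInvertible_structureModule (X := Y))) y
    let t := f₀ y
    let k := (Spec (CommRingCat.of A)).residueField t
    let Yt := f₀.fiber t
    letI : Yt.Over (Spec (CommRingCat.of k)) := ⟨f₀.fiberToSpecResidueField t⟩
    haveI : IsNoetherianRing (CommRingCat.of k) := inferInstanceAs (IsNoetherianRing k)
    obtain ⟨φ, hp⟩ := FibreDualLib.exists_fibre_hom f₀ t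
    haveI : IsProper (Yt ↘ Spec (CommRingCat.of k)) := MorphismProperty.of_isPullback (P := @IsProper) hp ‹_›
    haveI : IsLocallyNoetherian Yt := LocallyOfFiniteType.isLocallyNoetherian (Yt ↘ Spec (CommRingCat.of k))
    obtain ⟨hS', hd'⟩ := FibreDualLib.isSkMor_baseChange hp 2 d hS hd
    let Ut := (f₀.fiberι t) ⁻¹ᵁ Yo
    obtain ⟨-, hωtcoh, hpowt⟩ := FibreDualLib.refPowZ_restrict_gor (A := k) (Y := Yt) d hS' hd' ωt hωt Ut
      (fun v hv => FibreDualLib.preimage_gor_subset hp rfl (hYo.le hv))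
    have hO : ∀ v : Yt, LocCoh.HasSk 2 (Yt.presheaf.stalk v) (Yt.presheaf.stalk v) :=
      FibreDualLib.forall_fiber f₀ (P := fun s w => LocCoh.HasSk 2 ((f₀.fiber s).presheaf.stalk w) ((f₀.fiber s).presheaf.stalk w))
        (fun x => (QGorNhdLib.skAt_structureModule_iff _ _ 2).1 (hS.2.2 x)) t
    have hdim : ∀ v : Yt, v ∉ Ut → (2 : WithBot ℕ∞) ≤ ringKrullDim (Yt.presheaf.stalk v) := by
      have h := FibreDualLib.forall_fiber f₀ (P := fun s w => s = t → f₀.fiberι s w ∉ Yo →
        (2 : WithBot ℕ∞) ≤ ringKrullDim ((f₀.fiber s).presheaf.stalk w)) (fun x hx hxo => by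
          rw [f₀.fiberι_asFiber] at hxo
          exact hG1 x hx hxo) t
      exact fun v hv => h v rfl hv
    have hinvt : ∀ v : Yt, v ∈ Ut → RelCanon.InvertibleAt (RefHull.ddual (CohB1.tensorPow ωt m)) v := fun v hv => by
      obtain ⟨V, hvV, ⟨i⟩⟩ := (hpowt (m : ℤ)).2.1 ⟨v, hv⟩
      exact ⟨Ut.ι ''ᵁ V, ⟨_, hvV, rfl⟩, ⟨FibreDualLib.restrictImageIso Ut V _ i⟩⟩
    have hskt := FibreDualLib.skAt_ddual (FibreDualLib.isCoh_tensorPow hωtcoh m) Ut (f₀.asFiber y) hO
      (fun v _ hv => hdim v hv) hinvt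
    obtain ⟨eM⟩ := hMt m hm
    obtain ⟨eo⟩ := hMo m hm
    obtain ⟨⟨er⟩, hinv, -⟩ := hpow (m : ℤ)
    obtain ⟨dd⟩ := FibreDualLib.nonempty_ddual_iso (AmpleLib.isInvertible_tensorPow hinvo m)
    refine (FibreDualLib.relSkAt_of_extension hS Yo (FibreDualLib.isCoh_tensorPow hωcoh m) (hMc m hm)
      (eo ≪≫ dd ≪≫ er.symm) (fun v hv => ?_) y (fun v hv _ hvo => hG1 v hv hvo) ?_).1
    · obtain ⟨V, hvV, ⟨i⟩⟩ := hinv ⟨v, hv⟩
      exact ⟨Yo.ι ''ᵁ V, ⟨_, hvV, rfl⟩, ⟨FibreDualLib.restrictImageIso Yo V _ i⟩⟩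
    · exact (QGorNhdLib.hasSk_congr_module ((DCohLib.stkF (f₀.asFiber y)).mapIso eM).toLinearEquiv 2).2 hskt

end Groth.Agent.S19846
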