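import Groth.Statements.S19849
import Groth.Agent.S0002
import Groth.Agent.HdRLib.FiniteTerms
import Groth.Agent.HdRLib.VanishHigh
import Groth.Agent.FittSheafLib.Omega
import Groth.Agent.ExtPowLib.Exist

set_option autoImplicit false
set_option linter.style.haveILetI false
set_option backward.isDefEq.respectTransparency false
set_option backward.isDefEq.respectTransparency.types false
universe u
open DeRhamSh

namespace Groth.Agent.S19849

open Groth.Agent.HdRLib CategoryTheory AlgebraicGeometry TopologicalSpace Opposite


open CategoryTheory AlgebraicGeometry TopologicalSpace in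
/-- Let A be a Noetherian ring and f : X → Spec A a proper morphism; let D be a de Rham complex of the
sheaf of differentials of f whose differentials are A-linear for the action of A through f. Then for
every integer i the algebraic de Rham cohomology H^i_dR(X/A) = H^i(X, D), as an A-module, is
finitely generated. (The A-linearity of the differentials holds for the de Rham complex and is
carried as a hypothesis because the complex is given by its characterising data.) -/
theorem result (A : Type u) [CommRing A] [IsNoetherianRing A] (X : Scheme.{u})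
    (f : X ⟶ Spec (CommRingCat.of A)) [IsProper f]
    (D : DeRhamSh.OmegaCx f)
    (h : KLinDR.TermwiseLinear (Coh.toGlobal f) D.K D.term D.iso)
    [HasDerivedCategory.{u} (Sheaf (Opens.grothendieckTopology X) AddCommGrpCat.{u})] (i : ℤ) :
    Module.Finite A (KLinDR.HdR (Coh.toGlobal f) D h i) := by
  classical
  letI : X.Over (Spec (CommRingCat.of A)) := ⟨f⟩
  haveI : IsProper (X ↘ Spec (CommRingCat.of A)) := ‹_›
  haveI := OmegaAffLib.isQCoh_omega f
  haveI : D.KZ.IsStrictlyGE 0 := (CochainComplex.isStrictlyGE_iff _ _).2 fun m hm =>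
    D.K.isZero_extend_X ComplexShape.embeddingUpNat m (fun j hj => by simp at hj; omega)
  refine finite_of_terms _ i (i + 1).toNat 0 D.KZ (KLinDR.scalar h) inferInstance (by omega) fun j hj hji => ?_
  obtain ⟨p, rfl⟩ := Int.eq_ofNat_of_zero_le hj
  obtain ⟨q, hq⟩ := Int.eq_ofNat_of_zero_le (show 0 ≤ i - (p : ℤ) by omega)
  let T := CohCx.freeSheaf (Opens.grothendieckTopology X) (⊤ : X.Opens)
  let μ : A →+* End (Coh.toAb (D.term p)) :=
    { toFun := fun a => Coh.smulAb (D.term p) (Coh.toGlobal f a)
      map_one' := by rw [map_one]; exact Coh.smulAb_one _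
      map_mul' := fun a b => by rw [map_mul]; exact Coh.smulAb_mul _ _ _
      map_zero' := by rw [map_zero]; exact Coh.smulAb_zero _
      map_add' := fun a b => by rw [map_add]; exact Coh.smulAb_add _ _ _ }
  let e : D.KZ.X (p : ℤ) ≅ Coh.toAb (D.term p) :=
    D.K.extendXIso ComplexShape.embeddingUpNat (ComplexShape.embeddingUpNat_f p) ≪≫ D.iso p
  letI : Module A (Abelian.Ext.{u} T (Coh.toAb (D.term p)) q) :=
    { smul := fun a x => x.comp (Abelian.Ext.mk₀ (μ a)) (add_zero q)
      one_smul := fun x => by
        show x.comp (Abelian.Ext.mk₀ (μ 1)) (add_zero q) = x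
        rw [map_one]; exact Abelian.Ext.comp_mk₀_id x
      mul_smul := fun a b x => by
        show x.comp (Abelian.Ext.mk₀ (μ (a * b))) (add_zero q) =
          (x.comp (Abelian.Ext.mk₀ (μ b)) (add_zero q)).comp (Abelian.Ext.mk₀ (μ a)) (add_zero q)
        rw [map_mul, Abelian.Ext.comp_assoc_of_third_deg_zero, Abelian.Ext.mk₀_comp_mk₀]
        rfl
      smul_zero := fun a => by
        show (0 : Abelian.Ext.{u} T (Coh.toAb (D.term p)) q).comp _ (add_zero q) = 0
        exact Abelian.Ext.zero_comp _ _ _ _ _
      smul_add := fun a x y => Abelian.Ext.add_comp _ _ _ _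
      add_smul := fun a b x => by
        show x.comp (Abelian.Ext.mk₀ (μ (a + b))) (add_zero q) =
          x.comp (Abelian.Ext.mk₀ (μ a)) (add_zero q) + x.comp (Abelian.Ext.mk₀ (μ b)) (add_zero q)
        rw [map_add, Abelian.Ext.mk₀_add, Abelian.Ext.comp_add]
      zero_smul := fun x => by
        show x.comp (Abelian.Ext.mk₀ (μ 0)) (add_zero q) = 0
        rw [map_zero, Abelian.Ext.mk₀_zero, Abelian.Ext.comp_zero] }
  haveI : Module.Finite A (Abelian.Ext.{u} T (Coh.toAb (D.term p)) q) := by
    haveI := ExtPowLib.isQCoh_of_isExtPow (D.isExtPow p)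
    have hcoh : Coh.IsCoh (D.term p) :=
      ⟨inferInstance, QCohLib.isFiniteType_of_finite _ (fun U : X.affineOpens => (U : X.Opens)) (fun U => U.2)
        (iSup_affineOpens_eq_top X) fun U =>
          ExtPowLib.isFT_of_isExtPow (Omega.sheaf f) p (FittSheafLib.isFT_omega f) (D.isExtPow p) U.2⟩
    haveI := Groth.Agent.S0002.result A X (D.term p) hcoh q
    let ev := Groth.Agent.CohBase.HEquiv (X := X.toTopCat) (Coh.toAb (D.term p)) q
    let L : Coh.HH X (D.term p) q →ₗ[A] Abelian.Ext.{u} T (Coh.toAb (D.term p)) q :=
      { toFun := ev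
        map_add' := fun x y => map_add ev x y
        map_smul' := fun a x => Groth.Agent.CohBase.HEquiv_map (Coh.smulAb (D.term p) (Coh.toGlobal f a)) q x }
    exact Module.Finite.of_surjective L ev.surjective
  haveI := finite_single T (Coh.toAb (D.term p)) μ i (p : ℤ) q (by omega) (fun _ _ => rfl)
  let φ : (HomologicalComplex.single _ (ComplexShape.up ℤ) (p : ℤ)).obj (Coh.toAb (D.term p)) ⟶
      (HomologicalComplex.single _ (ComplexShape.up ℤ) (p : ℤ)).obj (D.KZ.X (p : ℤ)) :=
    (HomologicalComplex.single _ (ComplexShape.up ℤ) (p : ℤ)).map e.inv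
  have hφ : KLinDR.Commutes ((endMap (HomologicalComplex.single _ (ComplexShape.up ℤ) (p : ℤ)) _).comp μ)
      ((endMap (HomologicalComplex.single _ (ComplexShape.up ℤ) (p : ℤ)) _).comp
        ((atDeg D.KZ (p : ℤ)).comp (KLinDR.scalar h))) φ := fun a => by
    simp only [RingHom.comp_apply, endMap_apply, atDeg_apply, φ, ← Functor.map_comp]
    congr 1
    erw [KLinDR.scalar_f h a p]
    simp [e, KLinDR.scalarEnd, μ]
  exact Module.Finite.of_surjective (KLinDR.HTρmap T φ hφ i) (HTρmap_bijective T φ hφ i).2

end Groth.Agent.S19849
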