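import Groth.Statements.S1985
import Groth.Agent.NagataCompleteLib.Unramified

set_option autoImplicit false
universe u
open EtAlg

namespace Groth.Agent.S1985

open TensorProduct
set_option backward.isDefEq.respectTransparency false
set_option maxHeartbeats 1000000


/-- Let A -> B be an extension of discrete valuation rings whose extension of fraction fields L/K is
separable. If B is a Nagata ring then so is A. -/
theorem result (A B K L : Type u) [CommRing A] [IsDomain A] [IsDiscreteValuationRing A]
    [CommRing B] [IsDomain B] [IsDiscreteValuationRing B] [Algebra A B] [IsLocalHom (algebraMap A B)]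
    (hinj : Function.Injective (algebraMap A B))
    [Field K] [Field L] [Algebra A K] [IsFractionRing A K] [Algebra B L] [IsFractionRing B L]
    [Algebra K L] [Algebra A L] [IsScalarTower A K L] [IsScalarTower A B L] [Algebra.IsSeparable K L] (hB : CAlg.IsNagata B) :
    CAlg.IsNagata A := by
  classical
  refine ⟨inferInstance, fun p hp => ?_⟩
  haveI := hp
  by_cases hp0 : p = ⊥
  swap
  · haveI : p.IsMaximal := Ideal.IsPrime.isMaximal hp hp0
    letI := Ideal.Quotient.field p
    exact Groth.Agent.NagataCompleteLib.isN2_of_isField (A ⧸ p)
  subst hp0
  refine Groth.Agent.NagataCompleteLib.isN2_of_ringEquiv (RingEquiv.quotientBot A).symm ?_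
  refine Groth.Agent.NagataCompleteLib.isN2_of_purelyInseparable A fun L' _ _ _ _ _ _ => ?_
  haveI : FaithfulSMul A B := (faithfulSMul_iff_algebraMap_injective _ _).2 hinj
  haveI : Module.Flat A B := inferInstance
  haveI : Module.FaithfullyFlat A B := Module.FaithfullyFlat.of_flat_of_isLocalHom
  let e : K ≃ₐ[A] FractionRing A := (FractionRing.algEquiv A K).symm
  letI : Algebra K L' := ((algebraMap (FractionRing A) L').comp e.toRingHom).toAlgebra
  haveI : IsScalarTower A K L' := IsScalarTower.of_algebraMap_eq fun r => by
    show _ = algebraMap (FractionRing A) L' (e (algebraMap A K r))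
    rw [AlgEquiv.commutes, ← IsScalarTower.algebraMap_apply]
  haveI : FiniteDimensional K L' := by
    letI : Algebra K (FractionRing A) := e.toRingHom.toAlgebra
    haveI : IsScalarTower K (FractionRing A) L' := IsScalarTower.of_algebraMap_eq fun _ => rfl
    haveI : Module.Finite K (FractionRing A) := RingHom.Finite.of_surjective e.toRingHom e.surjective
    exact Module.Finite.trans (FractionRing A) L'
  haveI : IsReduced (L' ⊗[K] L) := by
    refine IsReduced.tensorProduct_of_flat_of_forall_fg fun D hD => ?_
    haveI : Algebra.IsIntegral K L := inferInstance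
    haveI : Algebra.IsIntegral K D := ⟨fun x => (isIntegral_algHom_iff D.val Subtype.val_injective).1 (Algebra.IsIntegral.isIntegral (x : L))⟩
    letI : Field D := (isField_of_isIntegral_of_isField' (Field.toIsField K)).toField
    haveI : Algebra.FiniteType K D := ⟨(Subalgebra.fg_top D).2 hD⟩
    haveI : Module.Finite K D := Algebra.IsIntegral.finite
    haveI : IsScalarTower K D L := IsScalarTower.of_algebraMap_eq fun _ => rfl
    haveI : Algebra.IsSeparable K D := Algebra.isSeparable_tower_bot_of_isSeparable K D L
    haveI : Algebra.FormallyEtale K D := Algebra.FormallyEtale.of_isSeparable K D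
    exact Algebra.FormallyUnramified.isReduced_of_field L' (L' ⊗[K] D)
  haveI : IsReduced (B ⊗[A] L') := by
    let f : B →ₐ[A] L := IsScalarTower.toAlgHom A B L
    have hf : Function.Injective f := IsFractionRing.injective B L
    haveI : Module.Flat A L' := by
      haveI : Module.Flat A K := IsLocalization.flat K (nonZeroDivisors A)
      exact Module.Flat.trans A K L'
    let g : L' ⊗[A] L →ₐ[A] L' ⊗[K] L :=
      Algebra.TensorProduct.lift ((Algebra.TensorProduct.includeLeft : L' →ₐ[K] L' ⊗[K] L).restrictScalars A)
        ((Algebra.TensorProduct.includeRight : L →ₐ[K] L' ⊗[K] L).restrictScalars A) fun _ _ => Commute.all _ _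
    let k : L' ⊗[K] L ≃ₗ[A] L' ⊗[A] L :=
      (IsLocalization.moduleTensorEquiv (nonZeroDivisors A) K L' L).restrictScalars A
    have hg : Function.Injective g := by
      have hcomp : ∀ z, k (g z) = z := fun z => by
        induction z using TensorProduct.induction_on with
        | zero => simp
        | add x y hx hy => rw [map_add, map_add, hx, hy]
        | tmul x y =>
          show k ((Algebra.TensorProduct.lift _ _ _ : L' ⊗[A] L →ₐ[A] L' ⊗[K] L) (x ⊗ₜ y)) = _
          rw [Algebra.TensorProduct.lift_tmul]
          simp only [AlgHom.restrictScalars_apply, Algebra.TensorProduct.includeLeft_apply,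
            Algebra.TensorProduct.includeRight_apply, Algebra.TensorProduct.tmul_mul_tmul, mul_one, one_mul]
          rfl
      exact fun a b h => by rw [← hcomp a, ← hcomp b, h]
    haveI : IsReduced (L' ⊗[A] L) := isReduced_of_injective g hg
    haveI : IsReduced (L' ⊗[A] B) := isReduced_of_injective (Algebra.TensorProduct.map (AlgHom.id A L') f)
      (Module.Flat.lTensor_preserves_injective_linearMap (M := L') f.toLinearMap hf)
    exact isReduced_of_injective (Algebra.TensorProduct.comm A B L').toRingEquiv.toRingHom (AlgEquiv.injective _)
  exact Groth.Agent.NagataCompleteLib.finite_integralClosure_of_reduced A B (fun q _ _ => hB.2 q) L'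

end Groth.Agent.S1985
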