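import Mathlib
import Groth.Agent.TameActLib.Basic
import Groth.Statements.S19856

set_option autoImplicit false
universe u v
open CAlg

namespace Groth.Agent.S19856

/-- Ring-level form: let O be a discrete valuation ring and G a finite group acting faithfully on O by
ring automorphisms, such that every element of G acts trivially on the residue field of O (that is,
g • a - a lies in the maximal ideal for all a) and such that the order of G is nonzero in the
residue field of O. Then G is cyclic. (The source states this for a finite group of order invertible
in an algebraically closed field k acting faithfully on a smooth connected k-variety and the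
subgroup of elements fixing pointwise a codimension-one irreducible component of the ramification
locus, applied to the local ring at the generic point of that component; it is stated here for an
arbitrary discrete valuation ring with a faithful action. The source also shows that this subgroup
is nontrivial; that geometric part is not stated.) -/
theorem result
    (O : Type u) [CommRing O] [IsDomain O] [IsDiscreteValuationRing O]
    (G : Type v) [Group G] [Finite G] [MulSemiringAction G O] [FaithfulSMul G O]
    (htriv : ∀ (g : G) (a : O), g • a - a ∈ IsLocalRing.maximalIdeal O)
    (hcard : ((Nat.card G : ℕ) : IsLocalRing.ResidueField O) ≠ 0) :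
    IsCyclic G := by
  obtain ⟨π, hπ⟩ := IsDiscreteValuationRing.exists_irreducible O
  have hmax : IsLocalRing.maximalIdeal O = Ideal.span {π} := (IsDiscreteValuationRing.irreducible_iff_uniformizer π).mp hπ
  have hπm : π ∈ IsLocalRing.maximalIdeal O := hmax ▸ Ideal.mem_span_singleton_self π
  have hu : ∀ g : G, ∃ u : O, g • π = u * π := fun g => by
    have := add_mem (htriv g π) hπm
    rw [sub_add_cancel, hmax] at this
    obtain ⟨u, hu⟩ := Ideal.mem_span_singleton'.mp this
    exact ⟨u, hu.symm⟩
  choose u hu using hu
  have hcan : ∀ a b : O, a * π = b * π → a = b := fun a b h => mul_right_cancel₀ hπ.ne_zero h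
  let χ : G →* IsLocalRing.ResidueField O :=
    { toFun := fun g => IsLocalRing.residue O (u g)
      map_one' := by
        rw [show u 1 = 1 from hcan _ _ (by rw [← hu, one_smul, one_mul]), map_one]
      map_mul' := fun g h => by
        have h1 : u (g * h) = (g • u h) * u g := hcan _ _ (by rw [← hu, mul_smul, hu h, smul_mul', hu g, mul_assoc])
        rw [h1, map_mul, mul_comm]
        congr 1
        exact Ideal.Quotient.eq.mpr (htriv g (u h)) }
  refine isCyclic_of_subgroup_isDomain χ ((injective_iff_map_eq_one χ).mpr fun g hg => ?_)
  refine FaithfulSMul.eq_of_smul_eq_smul (α := O) fun a => ?_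
  rw [one_smul]
  refine Groth.Agent.TameActLib.smul_eq_self g ?_ (htriv g) (fun b hb => ?_) a
  · by_contra h
    exact hcard (by rw [← map_natCast (IsLocalRing.residue O)]; exact (IsLocalRing.residue_eq_zero_iff _).mpr h)
  · rw [hmax] at hb
    obtain ⟨c, rfl⟩ := Ideal.mem_span_singleton'.mp hb
    have h1 : u g - 1 ∈ IsLocalRing.maximalIdeal O := (IsLocalRing.residue_eq_zero_iff _).mp (by
      rw [map_sub, map_one, show IsLocalRing.residue O (u g) = 1 from hg, sub_self])
    rw [smul_mul', hu, show g • c * (u g * π) - c * π = ((g • c - c) * u g + c * (u g - 1)) * π by ring, sq]
    exact Ideal.mul_mem_mul (add_mem (Ideal.mul_mem_right _ _ (htriv g c)) (Ideal.mul_mem_left _ _ h1)) hπm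

end Groth.Agent.S19856
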