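import Groth.Statements.S19857
import Groth.Agent.CILib.SmoothFlat

set_option autoImplicit false
universe u
open Synt

set_option backward.isDefEq.respectTransparency false

namespace Groth.Agent.S19857

open CategoryTheory AlgebraicGeometry in
/-- Let S be a scheme, p : X ⟶ S and q : Y ⟶ S smooth morphisms and f : X ⟶ Y a morphism over S (f ≫ q =
p) which is flat. Then f is syntomic (affine-locally given by flat ring maps of finite presentation
whose fibres are local complete intersections). -/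
theorem result {X Y S : Scheme.{u}}
    (p : X ⟶ S) (q : Y ⟶ S) [Smooth p] [Smooth q] (f : X ⟶ Y) (hf : f ≫ q = p) [Flat f] :
    Synt.IsSyntomicMor f := by
  subst hf
  intro x
  obtain ⟨_, ⟨W, hW, rfl⟩, hsW, -⟩ :=
    S.isBasis_affineOpens.exists_subset_of_mem_open (Set.mem_univ (q (f x))) isOpen_univ
  obtain ⟨_, ⟨V, hV, rfl⟩, hyV, hVsub⟩ := Y.isBasis_affineOpens.exists_subset_of_mem_open
    (show f x ∈ ((q ⁻¹ᵁ W : Y.Opens) : Set Y) from hsW) (q ⁻¹ᵁ W).isOpen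
  obtain ⟨_, ⟨U, hU, rfl⟩, hxU, hUsub⟩ := X.isBasis_affineOpens.exists_subset_of_mem_open
    (show x ∈ ((f ⁻¹ᵁ V : X.Opens) : Set X) from hyV) (f ⁻¹ᵁ V).isOpen
  have eV : V ≤ q ⁻¹ᵁ W := hVsub
  have eU : U ≤ f ⁻¹ᵁ V := hUsub
  have eUW : U ≤ (f ≫ q) ⁻¹ᵁ W := fun z hz => eV (eU hz)
  have h1 : (q.appLE W V eV).hom.Smooth := Smooth.smooth_appLE q hW hV eV
  have h2 : ((f ≫ q).appLE W U eUW).hom.Smooth := Smooth.smooth_appLE (f ≫ q) hW hU eUW
  have h3 : (f.appLE V U eU).hom.Flat := HasRingHomProperty.appLE @Flat f inferInstance ⟨V, hV⟩ ⟨U, hU⟩ eU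
  refine ⟨⟨U, hU⟩, ⟨V, hV⟩, eU, hxU, ?_⟩
  letI : Algebra Γ(S, W) Γ(Y, V) := (q.appLE W V eV).hom.toAlgebra
  letI : Algebra Γ(S, W) Γ(X, U) := ((f ≫ q).appLE W U eUW).hom.toAlgebra
  letI : Algebra Γ(Y, V) Γ(X, U) := (f.appLE V U eU).hom.toAlgebra
  haveI : Algebra.Smooth Γ(S, W) Γ(Y, V) := h1
  haveI : Algebra.Smooth Γ(S, W) Γ(X, U) := h2
  haveI : Module.Flat Γ(Y, V) Γ(X, U) := h3
  haveI : IsScalarTower Γ(S, W) Γ(Y, V) Γ(X, U) := IsScalarTower.of_algebraMap_eq fun a => by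
    show ((f ≫ q).appLE W U eUW).hom a = (q.appLE W V eV ≫ f.appLE V U eU).hom a
    rw [Scheme.Hom.appLE_comp_appLE]
  exact Groth.Agent.CILib.isSyntomic_of_flat_of_smooth Γ(S, W) Γ(Y, V) Γ(X, U)

end Groth.Agent.S19857
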