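import Groth.Statements.S19860
import Groth.Agent.FlatStratLib.Reduced
import Groth.Agent.S7761

set_option autoImplicit false
set_option linter.style.haveILetI false
set_option backward.isDefEq.respectTransparency false
set_option maxHeartbeats 800000
universe u
open CategoryTheory CategoryTheory.Limits AlgebraicGeometry
open Variety

namespace Groth.Agent.S19860

open Groth.Agent.FlatStrat Groth.Agent.PullbackMod in
/-- Let A be a Noetherian local integral domain, f : X ⟶ Spec A a proper morphism, L an invertible
O_X-module ample relative to f and F a coherent O_X-module. Then F is flat over Spec A if and only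
if the Hilbert polynomials of F on the generic fibre and on the closed fibre coincide: for every n ≥
0 the Euler characteristic, over the fraction field, of the pullback of F ⊗ L^{⊗n} to the fibre over
the generic point equals the Euler characteristic, over the residue field, of its pullback to the
fibre over the closed point. (The source works with k-schemes of finite type over an algebraically
closed field of characteristic zero, A a local integral k-algebra and f projective with a relatively
very ample O(1); the argument uses only that A is a Noetherian local domain and that some power of L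
is relatively very ample, so it is stated here for proper f with an f-ample L and no base field.) -/
theorem result
    (A : Type u) [CommRing A] [IsDomain A] [IsNoetherianRing A] [IsLocalRing A]
    (X : Scheme.{u}) (f : X ⟶ Spec (CommRingCat.of A)) [IsProper f]
    (L : X.Modules) (hL : RelAmple.IsRelAmple f L) (F : X.Modules) (hF : Coh.IsCoh F) :
    FlatMod.IsFlatOver f F ↔
      ∀ n : ℕ,
        @Curv2.euler ((Spec (CommRingCat.of A)).residueField (⊥ : PrimeSpectrum A)) _ (f.fiber (⊥ : PrimeSpectrum A))
          ⟨f.fiberToSpecResidueField (⊥ : PrimeSpectrum A)⟩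
          ((Scheme.Modules.pullback (f.fiberι (⊥ : PrimeSpectrum A))).obj (CohB1.tensorMod F (CohB1.tensorPow L n))) =
        @Curv2.euler ((Spec (CommRingCat.of A)).residueField (IsLocalRing.closedPoint A)) _ (f.fiber (IsLocalRing.closedPoint A))
          ⟨f.fiberToSpecResidueField (IsLocalRing.closedPoint A)⟩
          ((Scheme.Modules.pullback (f.fiberι (IsLocalRing.closedPoint A))).obj (CohB1.tensorMod F (CohB1.tensorPow L n))) := by
  let S := Spec (CommRingCat.of A)
  let c : S := IsLocalRing.closedPoint A
  let g : S := (⊥ : PrimeSpectrum A)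
  haveI : IsNoetherianRing (CommRingCat.of A) := ‹IsNoetherianRing A›
  haveI : IsLocallyNoetherian X := LocallyOfFiniteType.isLocallyNoetherian f
  haveI : LocallyOfFinitePresentation f := inferInstance
  have hLi := AmpleLib.isInvertible_of_isRelAmple hL
  have htop : ∀ y : S, y ⤳ c := fun y => (PrimeSpectrum.le_iff_specializes (R := A) y c).1
    (IsLocalRing.le_maximalIdeal (PrimeSpectrum.isPrime y).ne_top)
  have hbot : ∀ y : S, g ⤳ y := fun y =>
    (PrimeSpectrum.le_iff_specializes (R := A) g y).1 bot_le
  constructor
  · intro hfl n
    obtain ⟨U, hs, hU⟩ := S7761.result X S f F (QCohLib.isFP_of_isCoh F hF) hfl 1 (fun _ => L) (fun _ => hLi) c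
    exact hU g ((htop g).mem_open U.isOpen hs) fun _ => n
  · intro hgc
    haveI : IsReduced S := inferInstanceAs (IsReduced (Spec (CommRingCat.of A)))
    have hgc' : HilbStratLib.eul f F L g = HilbStratLib.eul f F L c := funext fun n => hgc n
    obtain ⟨n, d, i, hd, hi, hf, ⟨e⟩⟩ := exists_embedding f hL
    haveI := hi
    haveI : IsProper (CohB1.ProjSpaceOver.toBase n S) := BCLib.isProper_toBase n S
    haveI : IsLocallyNoetherian (CohB1.ProjSpaceOver n S) :=
      LocallyOfFiniteType.isLocallyNoetherian (CohB1.ProjSpaceOver.toBase n S)
    let O := Twist.twistOver n S 1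
    let G := (Scheme.Modules.pushforward i).obj F
    have hG : Coh.IsCoh G := DevLib.isCoh_pushforward_closed i hF
    obtain ⟨m₀, hu⟩ := exists_unif hG
    let L' := (Scheme.Modules.pullback i).obj O
    have hva : RelAmple.IsRelVeryAmplePn f L' := ⟨n, i, inferInstance, hf, ⟨Iso.refl _⟩⟩
    refine TwistFlat.isFlatOver_of_twists f
      (AmpleLib.isInvertible_pullback i (GenSeesawLib.isInvertible_twistOver n S 1))
      (fun W hW => AmpleEmb.ampleOn_of_isRelVeryAmplePn f hva hW) hF m₀ fun m hm => ?_
    haveI : Coh.IsQCoh (pushM G m) := (isCoh_pushM hG m).1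
    have hfp : CohB1.IsFP (pushM G m) := QCohLib.isFP_of_isCoh _ (isCoh_pushM hG m)
    have hle : ∀ y z : S, y ⤳ z → fibreRank (pushM G m) y ≤ fibreRank (pushM G m) z := fun y z hyz => by
      obtain ⟨N, hz, hN⟩ := DCohLib.exists_nhd_fibreRank_le (pushM G m) hfp z
      exact hN y (hyz.mem_open N.isOpen hz)
    have hend : fibreRank (pushM G m) g = fibreRank (pushM G m) c := by
      rw [fibreRank_pushM hG hu hm, fibreRank_pushM hG hu hm]
      have h1 := eul_eq_fiberRank_zero hu hm
      have key : (rkM G m g : ℤ) = rkM G m c := by
        rw [← h1 g, ← h1 c, eul_closed f _ i hf (QCohLib.isFP_of_isCoh F hF) hLi e,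
          eul_closed f _ i hf (QCohLib.isFP_of_isCoh F hF) hLi e]
        exact congrFun hgc' (d * m)
      exact_mod_cast key
    have hall : ∀ y, fibreRank (pushM G m) y = fibreRank (pushM G m) c := fun y =>
      le_antisymm (hle y c (htop y)) (hend ▸ hle g y (hbot y))
    have hlc : IsLocallyConstant (fibreRank (pushM G m)) := by
      rw [funext hall]
      exact IsLocallyConstant.const _
    have hlf := isFinLocFree_of_fibreRank_of_isReduced (pushM G m) (isCoh_pushM hG m).2 hlc
    refine DCohLib.isFinLocFree_iso ?_ hlf
    exact (Coh.push _).mapIso (DCohLib.projIso i F (CohB1.tensorPow O m) ≪≫ (Scheme.Modules.pushforward i).mapIso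
        (AmpleLib.tIso (Iso.refl F) (AmpleLib.pullPow i O m))) ≪≫
      (Scheme.Modules.pushforwardComp i (CohB1.ProjSpaceOver.toBase n S)).app _ ≪≫
      (Scheme.Modules.pushforwardCongr hf).app _

end Groth.Agent.S19860
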