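import Groth.Statements.S19863
import Groth.Agent.RegDesc.Basic
import Groth.Agent.RegLocal.Completion
-- import your own Groth.Agent.* helpers here

set_option autoImplicit false
universe u
open EGA4

namespace Groth.Agent.S19863

/-- Let A be a Noetherian ring, J a proper ideal of A, Â the J-adic completion and A_T the localization
of A at T = 1 + J. If the canonical map A → Â is a regular homomorphism (flat, with Noetherian
geometrically regular fibres), then A_T is a regular ring if and only if Â is a regular ring
(Noetherian, with regular local rings at all primes). (The cases of the henselization of the pair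
and of the weak completion are not stated here.) -/
theorem result
    (A : Type u) [CommRing A] [IsNoetherianRing A] (J : Ideal A) (hJ : J ≠ ⊤)
    (hf : CAlg.IsRegularHom A (AdicCompletion J A))
    (T : Submonoid A) (hT : T = MonoidHom.mker (Ideal.Quotient.mk J)) :
    IsRegularRing (Localization T) ↔ IsRegularRing (AdicCompletion J A) := by
  let C := AdicCompletion J A
  let AT := Localization T
  haveI : IsNoetherianRing C := Groth.Agent.RegLocal.isNoetherianRing_completion A J
  haveI : IsNoetherianRing AT := IsLocalization.isNoetherianRing T _ inferInstance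
  haveI : IsAdicComplete (J.map (algebraMap A C)) C := AdicCompletion.isAdicComplete_self J J.fg_of_isNoetherianRing
  have hu : ∀ y : T, IsUnit (algebraMap A C y) := fun y => by
    have h1 : (y : A) - 1 ∈ J := by
      have hy : (y : A) ∈ MonoidHom.mker (Ideal.Quotient.mk J) := hT ▸ y.2
      rw [← Ideal.Quotient.eq_zero_iff_mem, map_sub, map_one, sub_eq_zero]
      exact hy
    have h2 := Ideal.mem_jacobson_bot.1
      (IsAdicComplete.le_jacobson_bot (J.map (algebraMap A C)) (Ideal.mem_map_of_mem _ h1)) 1
    rwa [mul_one, map_sub, map_one, sub_add_cancel] at h2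
  letI : Algebra AT C := (IsLocalization.lift (M := T) hu).toAlgebra
  haveI : IsScalarTower A AT C := IsScalarTower.of_algebraMap_eq fun a => (IsLocalization.lift_eq hu a).symm
  haveI : IsLocalization (⊥ : Submonoid C) C := IsLocalization.self fun x hx => by
    rw [Submonoid.mem_bot.1 hx]; exact isUnit_one
  have h2 : CAlg.IsRegularHom AT C := Groth.Agent.RegHomLib.isRegularHom_localization hf T AT (⊥ : Submonoid C) C
  haveI := h2.1
  haveI : Module.FaithfullyFlat AT C := by
    refine Module.FaithfullyFlat.mk fun {m} hm htop => ?_
    let q := m.comap (algebraMap A AT)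
    have hdisj : Disjoint (T : Set A) (q : Set A) := ((IsLocalization.isPrime_iff_isPrime_disjoint T AT m).1 hm.isPrime).2
    have hJq : J ≤ q := by
      have hd : Disjoint (T : Set A) ((q ⊔ J : Ideal A) : Set A) := Set.disjoint_left.2 fun x hxT hx => by
        obtain ⟨a, ha, j, hj, rfl⟩ := Submodule.mem_sup.1 hx
        refine Set.disjoint_left.1 hdisj ?_ ha
        subst hT
        show Ideal.Quotient.mk J a = 1
        have : Ideal.Quotient.mk J (a + j) = 1 := hxT
        rwa [map_add, Ideal.Quotient.eq_zero_iff_mem.2 hj, add_zero] at this
      have hne : (q ⊔ J).map (algebraMap A AT) ≠ ⊤ := (IsLocalization.map_algebraMap_ne_top_iff_disjoint T AT _).2 hd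
      have hle : m ≤ (q ⊔ J).map (algebraMap A AT) := by
        conv_lhs => rw [← IsLocalization.map_under T AT m]
        exact Ideal.map_mono le_sup_left
      rw [← Ideal.map_le_iff_le_comap]
      exact (Ideal.map_mono le_sup_right).trans (hm.eq_of_le hne hle).ge
    rw [Ideal.smul_top_eq_map, Submodule.restrictScalars_eq_top_iff, ← IsLocalization.map_under T AT m, Ideal.map_map,
      ← IsScalarTower.algebraMap_eq] at htop
    have h3 := congrArg (Ideal.map (AdicCompletion.evalOneₐ J).toRingHom) htop
    rw [Ideal.map_map, AdicCompletion.evalOneₐ_comp_algebraMap_eq_mk, Ideal.map_top] at h3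
    have h4 := congrArg (Ideal.comap (Ideal.Quotient.mk J)) h3
    rw [Ideal.comap_map_of_surjective _ Ideal.Quotient.mk_surjective, ← RingHom.ker_eq_comap_bot, Ideal.mk_ker,
      Ideal.comap_top] at h4
    exact hm.isPrime.comap (algebraMap A AT) |>.ne_top ((sup_eq_left.2 hJq).symm.trans h4)
  refine ⟨fun h => ?_, fun h => ?_⟩
  · haveI := h
    refine Groth.Agent.RegHomLib.isRegularRing_of_fibres AT C fun p _ => ?_
    haveI := (h2.2 p).1
    exact Groth.Agent.RegDesc.regular_tensor_any_field h2 p.ResidueField
  · haveI := h
    exact Groth.Agent.RegDesc.isRegularRing_of_faithfullyFlat AT C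

end Groth.Agent.S19863
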