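import Groth.Statements.S19868
import Groth.Agent.PLieDeformH7.Basic
import Groth.Agent.PBW.Jacobson
import Mathlib.Tactic.FinCases
-- import your own Groth.Agent.* helpers here

set_option autoImplicit false
set_option backward.isDefEq.respectTransparency false
universe u v
open PLie

namespace Groth.Agent.S19868

open DualNumber in
/-- Let K be a field of prime characteristic p, K[ε] the ring of dual numbers (taken with its
characteristic-p structure) and a, …, i ∈ K. Let L be a Lie algebra over K[ε], free as a module with
basis x = bs 0, y = bs 1, z = bs 2 and brackets [x,y] = aε x + bε y + cε z, [x,z] = dε x + eε y + fε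
z, [y,z] = (1 + gε) x + hε y + iε z, a first-order deformation of the Heisenberg algebra (the Jacobi
identity forces b + f = 0). Then L carries a p-mapping over K[ε] if and only if b = c = e = 0 when p
= 2; for odd p there is no condition. (The published statement is about the singularity of the point
h_3 in the restrictable locus of the rank-one-centre stratum of the moduli scheme of based
three-dimensional Lie algebras over the prime field; this row states the restrictability criterion
for the first-order deformations of h_3 asserted in its proof, over any field of characteristic p in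
place of the prime field.) -/
theorem result (K : Type u) [Field K] (p : ℕ) [Fact p.Prime] [CharP K p]
    [CharP (DualNumber K) p] (a b c d e f g h i : K)
    (L : Type v) [LieRing L] [LieAlgebra (DualNumber K) L] (bs : Module.Basis (Fin 3) (DualNumber K) L)
    (hxy : ⁅bs 0, bs 1⁆ = (a • ε : DualNumber K) • bs 0 + (b • ε : DualNumber K) • bs 1 + (c • ε : DualNumber K) • bs 2)
    (hxz : ⁅bs 0, bs 2⁆ = (d • ε : DualNumber K) • bs 0 + (e • ε : DualNumber K) • bs 1 + (f • ε : DualNumber K) • bs 2)
    (hyz : ⁅bs 1, bs 2⁆ = (1 + g • ε : DualNumber K) • bs 0 + (h • ε : DualNumber K) • bs 1 + (i • ε : DualNumber K) • bs 2) :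
    Nonempty (PLie.PMap (DualNumber K) p L) ↔ (p = 2 → b = 0 ∧ c = 0 ∧ e = 0) := by
  classical
  have hp : p.Prime := Fact.out
  let E : K → DualNumber K := fun r => r • ε
  let P : Fin 3 → DualNumber K := ![E a, E b, E c]
  let Q : Fin 3 → DualNumber K := ![E d, E e, E f]
  let W : Fin 3 → DualNumber K := ![1 + E g, E h, E i]
  have h01 : ⁅bs 0, bs 1⁆ = PLieDeformH7.V bs P := hxy
  have h02 : ⁅bs 0, bs 2⁆ = PLieDeformH7.V bs Q := hxz
  have h12 : ⁅bs 1, bs 2⁆ = PLieDeformH7.V bs W := hyz
  let F : Fin 3 → (Fin 3 → DualNumber K) → (Fin 3 → DualNumber K) := fun m =>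
    PLieDeformH7.br P Q W (Pi.single m 1)
  have hx2 : ∀ j : Fin 3, (F 0)^[2] (Pi.single j 1) = 0 := by
    intro j; funext l
    fin_cases j <;> fin_cases l <;> ext <;> simp [F, PLieDeformH7.br, P, Q, W, E] <;> ring
  have hy2 : ∀ j : Fin 3, (F 1)^[2] (Pi.single j 1) =
      if j = 0 then ![- E c, 0, 0] else if j = 2 then ![E (i - a), - E b, - E c] else 0 := by
    intro j; funext l
    fin_cases j <;> fin_cases l <;> ext <;> simp [F, PLieDeformH7.br, P, Q, W, E] <;> ring
  have hy3 : ∀ j : Fin 3, (F 1)^[3] (Pi.single j 1) = if j = 2 then ![- E c, 0, 0] else 0 := by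
    intro j; funext l
    rw [Function.iterate_succ_apply', hy2]
    fin_cases j <;> fin_cases l <;> ext <;> simp [F, PLieDeformH7.br, P, Q, W, E] <;> ring
  have hy4 : ∀ j : Fin 3, (F 1)^[4] (Pi.single j 1) = 0 := by
    intro j; funext l
    rw [Function.iterate_succ_apply', hy3]
    fin_cases j <;> fin_cases l <;> ext <;> simp [F, PLieDeformH7.br, P, Q, W, E] <;> ring
  have hz2 : ∀ j : Fin 3, (F 2)^[2] (Pi.single j 1) =
      if j = 0 then ![E e, 0, 0] else if j = 1 then ![E (d + h), E e, E f] else 0 := by
    intro j; funext l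
    fin_cases j <;> fin_cases l <;> ext <;> simp [F, PLieDeformH7.br, P, Q, W, E] <;> ring
  have hz3 : ∀ j : Fin 3, (F 2)^[3] (Pi.single j 1) = if j = 1 then ![- E e, 0, 0] else 0 := by
    intro j; funext l
    rw [Function.iterate_succ_apply', hz2]
    fin_cases j <;> fin_cases l <;> ext <;> simp [F, PLieDeformH7.br, P, Q, W, E] <;> ring
  have hz4 : ∀ j : Fin 3, (F 2)^[4] (Pi.single j 1) = 0 := by
    intro j; funext l
    rw [Function.iterate_succ_apply', hz3]
    fin_cases j <;> fin_cases l <;> ext <;> simp [F, PLieDeformH7.br, P, Q, W, E] <;> ring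
  have hF0 : ∀ m, F m 0 = 0 := fun m => by funext l; simp [F, PLieDeformH7.br]
  have hge : ∀ (m : Fin 3) (n N : ℕ) (w : Fin 3 → DualNumber K), (F m)^[n] w = 0 → n ≤ N →
      (F m)^[N] w = 0 := fun m n N w hw hN => by
    rw [← Nat.sub_add_cancel hN, Function.iterate_add_apply, hw, Function.iterate_fixed (hF0 m)]
  constructor
  · rintro ⟨φ⟩ rfl
    have key : ∀ m, ∀ j, (F m)^[2] (Pi.single j 1) =
        PLieDeformH7.br P Q W (fun l => bs.repr (φ (bs m)) l) (Pi.single j 1) := fun m =>
      (PLieDeformH7.ad_pow_eq_iff h01 h02 h12 m _ 2).1 (by rw [PLieDeformH7.V_repr, φ.ad_map])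
    have hy := key 1
    have hz := key 2
    simp only [hy2] at hy
    simp only [hz2] at hz
    have y10 := congrArg TrivSqZeroExt.fst (congrFun (hy 1) 0)
    have y20 := congrArg TrivSqZeroExt.fst (congrFun (hy 2) 0)
    have y00 := congrArg TrivSqZeroExt.snd (congrFun (hy 0) 0)
    have y21 := congrArg TrivSqZeroExt.snd (congrFun (hy 2) 1)
    have z10 := congrArg TrivSqZeroExt.fst (congrFun (hz 1) 0)
    have z20 := congrArg TrivSqZeroExt.fst (congrFun (hz 2) 0)
    have z00 := congrArg TrivSqZeroExt.snd (congrFun (hz 0) 0)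
    simp [PLieDeformH7.br, P, Q, W, E] at y10 y20 y00 y21 z10 z20 z00
    simp only [y10, y20, z10, z20] at y00 y21 z00
    refine ⟨?_, ?_, ?_⟩ <;> grind
  · intro hc
    have hj := fun l => congrArg TrivSqZeroExt.snd (PLieDeformH7.jacobi h01 h02 h12 l)
    have hjx := hj 0
    simp [PLieDeformH7.br, P, Q, W, E] at hjx
    let vy : Fin 3 → DualNumber K :=
      if p = 2 then ![0, E (i - a), 0] else if p = 3 then ![0, - E c, 0] else 0
    let vz : Fin 3 → DualNumber K :=
      if p = 2 then ![0, 0, - E (d + h)] else if p = 3 then ![0, 0, E e] else 0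
    obtain ⟨φ, -, -⟩ := Groth.Agent.PBW.exists_pmap (p := p) bs
      (fun m => PLieDeformH7.V bs (![0, vy, vz] m)) (fun m => by
      rw [PLieDeformH7.ad_pow_eq_iff h01 h02 h12]
      intro j
      fin_cases m
      · change (F 0)^[p] (Pi.single j 1) = PLieDeformH7.br P Q W 0 _
        rw [hge 0 2 p _ (hx2 j) hp.two_le]
        funext l; simp [PLieDeformH7.br]
      · change (F 1)^[p] (Pi.single j 1) = PLieDeformH7.br P Q W vy _
        by_cases h2 : p = 2
        · obtain ⟨hb, hc', he⟩ := hc h2
          simp only [vy, h2, if_true, hy2]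
          funext l
          fin_cases j <;> fin_cases l <;> ext <;> simp [PLieDeformH7.br, P, Q, W, E, hb, hc', he] <;> ring
        · by_cases h3 : p = 3
          · simp only [vy, h3, hy3, if_true, show (3 : ℕ) ≠ 2 by norm_num, if_false]
            funext l
            fin_cases j <;> fin_cases l <;> ext <;> simp [PLieDeformH7.br, P, Q, W, E] <;> ring
          · rw [hge 1 4 p _ (hy4 j) (by have := hp.two_le; omega)]
            simp only [vy, h2, h3, if_false]
            funext l; simp [PLieDeformH7.br]
      · change (F 2)^[p] (Pi.single j 1) = PLieDeformH7.br P Q W vz _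
        by_cases h2 : p = 2
        · obtain ⟨hb, hc', he⟩ := hc h2
          have hf : f = 0 := by
            simp [hb, hc', he] at hjx
            exact hjx.symm
          simp only [vz, h2, if_true, hz2]
          funext l
          fin_cases j <;> fin_cases l <;> ext <;>
            simp [PLieDeformH7.br, P, Q, W, E, hb, hc', he, hf] <;> ring
        · by_cases h3 : p = 3
          · simp only [vz, h3, hz3, if_true, show (3 : ℕ) ≠ 2 by norm_num, if_false]
            funext l
            fin_cases j <;> fin_cases l <;> ext <;> simp [PLieDeformH7.br, P, Q, W, E] <;> ring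
          · rw [hge 2 4 p _ (hz4 j) (by have := hp.two_le; omega)]
            simp only [vz, h2, h3, if_false]
            funext l; simp [PLieDeformH7.br])
    exact ⟨φ⟩

end Groth.Agent.S19868
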