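import Groth.Statements.S19879
import Mathlib
import Groth.Agent.S18397
import Groth.Agent.S19878

set_option autoImplicit false
universe u
open LVCorr

namespace Groth.Agent.S19879

open AlgebraicGeometry CategoryTheory CategoryTheory.Limits in
/-- Let k₀ be a finite field with p^e elements, K an algebraic closure of k₀, C₀ a scheme of finite type
over k₀, C = C₀ ×_{k₀} Spec K with its projections, and Fr : C → C the n-th power of the geometric
Frobenius (over K, compatible with the (e·n)-th power of the absolute p-Frobenius of C₀). Let X be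
locally of finite type over K and c₁, c₂ : C → X morphisms over K with c₂ locally quasi-finite, and
let d < p^(e n) be such that for every closed point x of X, with J_x the inverse image under c₂ of
the ideal sheaf of the reduced point x, one has (√J_x)^d ⊂ J_x (so p^(e n) exceeds the ramification
degree of c₂). Then the scheme of fixed points of the twisted correspondence (c₁ ∘ Fr, c₂), namely
the pullback of (c₁ ∘ Fr, c₂) : C → X ×_K X along the diagonal of X, has finite and discrete
underlying topological space. (In the source X, c₁ and c₂ are also defined over k₀ and all schemes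
are separated; neither is needed here.) -/
theorem result {C C₀ X Fx : Scheme.{u}}
    (p : ℕ) [Fact p.Prime] (k₀ : Type u) [Field k₀] [Fintype k₀] [CharP k₀ p] (e : ℕ)
    (hq : Fintype.card k₀ = p ^ e) (K : Type u) [Field K] [Algebra k₀ K] [IsAlgClosure k₀ K]
    (f₀ : C₀ ⟶ Spec (CommRingCat.of k₀)) [LocallyOfFiniteType f₀] [QuasiCompact f₀] [FrobSch.IsCharP C₀ p]
    (πC₀ : C ⟶ C₀) (πK : C ⟶ Spec (CommRingCat.of K))
    (hC : IsPullback πC₀ πK f₀ (Spec.map (CommRingCat.ofHom (algebraMap k₀ K))))
    (n : ℕ) (Fr : C ⟶ C)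
    (hFr₀ : Fr ≫ πC₀ = πC₀ ≫ End.asHom (End.of (FrobSch.frob C₀ p) ^ (e * n)))
    (hFrK : Fr ≫ πK = πK)
    (pX : X ⟶ Spec (CommRingCat.of K)) [LocallyOfFiniteType pX]
    (c₁ c₂ : C ⟶ X) (hc₁ : c₁ ≫ pX = πK) (hc₂ : c₂ ≫ pX = πK)
    [LocallyQuasiFinite c₂] [LocallyOfFiniteType c₂]
    (hcomm : (Fr ≫ c₁) ≫ pX = c₂ ≫ pX) (d : ℕ) (hn : d < p ^ (e * n))
    (hd : ∀ (x : X) (hx : IsClosed ({x} : Set X)),
      ((Scheme.IdealSheafData.vanishingIdeal ⟨{x}, hx⟩).comap c₂).radical ^ d ≤
        (Scheme.IdealSheafData.vanishingIdeal ⟨{x}, hx⟩).comap c₂)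
    (i : Fx ⟶ C) (δ : Fx ⟶ X) (hF : IsPullback i δ (pullback.lift (Fr ≫ c₁) c₂ hcomm) (pullback.diagonal pX)) :
    Finite Fx ∧ DiscreteTopology Fx := by
  haveI : JacobsonSpace X := LocallyOfFiniteType.jacobsonSpace pX
  have hw : i ≫ pullback.lift (Fr ≫ c₁) c₂ hcomm = δ ≫ pullback.diagonal pX := hF.w
  have h1 : i ≫ Fr ≫ c₁ = δ := by
    have := congrArg (· ≫ pullback.fst pX pX) hw
    simpa only [Category.assoc, pullback.lift_fst, pullback.diagonal_fst, Category.comp_id] using this
  have h2 : i ≫ c₂ = δ := by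
    have := congrArg (· ≫ pullback.snd pX pX) hw
    simpa only [Category.assoc, pullback.lift_snd, pullback.diagonal_snd, Category.comp_id] using this
  have hi : IsImmersion i := MorphismProperty.of_isPullback hF.flip (inferInstance : IsImmersion (pullback.diagonal pX))
  have hπ : LocallyOfFiniteType πK := MorphismProperty.of_isPullback hC (inferInstance : LocallyOfFiniteType f₀)
  have hπq : QuasiCompact πK := MorphismProperty.of_isPullback hC (inferInstance : QuasiCompact f₀)
  haveI : CompactSpace C := QuasiCompact.compactSpace_of_compactSpace πK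
  haveI : IsLocallyNoetherian C := LocallyOfFiniteType.isLocallyNoetherian πK
  haveI : IsNoetherian C := {}
  haveI : IsLocallyNoetherian Fx := LocallyOfFiniteType.isLocallyNoetherian (i ≫ πK)
  haveI : CompactSpace Fx := ⟨i.isEmbedding.isInducing.isCompact_iff.mpr (TopologicalSpace.NoetherianSpace.isCompact _)⟩
  have hδ : LocallyOfFiniteType δ := by
    have : LocallyOfFiniteType (δ ≫ pX) := by
      rw [show δ ≫ pX = i ≫ πK by rw [← h2, Category.assoc, hc₂]]; infer_instance
    exact locallyOfFiniteType_of_comp δ pX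
  have hopen : ∀ z : Fx, IsClosed ({z} : Set Fx) → IsOpen ({z} : Set Fx) := by
    intro z hz
    have hx : IsClosed ({δ.base z} : Set X) := δ.closePoints_subset_preimage_closedPoints hz
    obtain ⟨W, hW, hle, k, hpow⟩ := Groth.Agent.S18397.result p k₀ e hq K f₀ πC₀ πK hC n Fr hFr₀ hFrK pX c₁ c₂
      hc₁ hc₂ hcomm d hn hd (δ.base z) hx
    set I := Scheme.IdealSheafData.vanishingIdeal ⟨{δ.base z}, hx⟩
    let i' : Fx ⟶ W := IsOpenImmersion.lift W.ι i (by
      rw [Scheme.Opens.range_ι]
      rintro _ ⟨y, rfl⟩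
      refine hW ⟨δ.base y, ?_⟩
      rw [← Scheme.Hom.comp_apply, ← hw, Scheme.Hom.comp_apply])
    have hi' : i' ≫ W.ι = i := IsOpenImmersion.lift_fac _ _ _
    have e1 : (I.comap (W.ι ≫ Fr ≫ c₁)).comap i' = I.comap δ := by
      rw [← Scheme.IdealSheafData.comap_comp, ← Category.assoc, hi', h1]
    have e2 : (I.comap (W.ι ≫ c₂)).comap i' = I.comap δ := by
      rw [← Scheme.IdealSheafData.comap_comp, ← Category.assoc, hi', h2]
    have hp : (I.comap δ) ^ k ≤ (I.comap δ) ^ (k + 1) := by
      have := Scheme.IdealSheafData.comap_mono i' hpow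
      dsimp only at this
      rwa [Groth.Agent.S19878.comap_pow', Groth.Agent.S19878.comap_pow', e1, e2] at this
    have ho : IsOpen (δ.base ⁻¹' {δ.base z}) := by
      have h3 := Groth.Agent.S19878.isOpen_support_of_pow_le (I.comap δ) k hp
      rw [Scheme.IdealSheafData.support_comap] at h3
      exact h3
    haveI : DiscreteTopology (c₂.base ⁻¹' {δ.base z} : Set C) := isDiscrete_iff_discreteTopology.mp (c₂.isDiscrete_preimage_singleton (δ.base z))
    obtain ⟨O, hO, hOz⟩ := isOpen_induced_iff.mp
      (isOpen_discrete ({(⟨i.base z, show c₂.base (i.base z) = δ.base z by rw [← Scheme.Hom.comp_apply, h2]⟩ : (c₂.base ⁻¹' {δ.base z} : Set C))} : Set (c₂.base ⁻¹' {δ.base z} : Set C)))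
    have hsingle : ({z} : Set Fx) = δ.base ⁻¹' {δ.base z} ∩ i.base ⁻¹' O := by
      ext y
      constructor
      · rintro rfl
        exact ⟨rfl, (Set.ext_iff.mp hOz ⟨i.base y, by show c₂.base (i.base y) = δ.base y; rw [← Scheme.Hom.comp_apply, h2]⟩).mpr rfl⟩
      · rintro ⟨hy, hyO⟩
        have hmem : i.base y ∈ c₂.base ⁻¹' {δ.base z} := by
          show c₂.base (i.base y) = δ.base z
          rw [← Scheme.Hom.comp_apply, h2]; exact hy
        have := (Set.ext_iff.mp hOz ⟨i.base y, hmem⟩).mp hyO
        exact i.isEmbedding.injective (congrArg Subtype.val this)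
    rw [hsingle]
    exact ho.inter (hO.preimage i.continuous)
  have hall : ∀ z : Fx, IsClosed ({z} : Set Fx) := by
    by_contra hne
    push Not at hne
    obtain ⟨z, hz⟩ := hne
    let U : Set Fx := ⋃ y ∈ {y : Fx | IsClosed ({y} : Set Fx)}, {y}
    have hU : IsOpen U := isOpen_biUnion fun y hy => hopen y hy
    have hne2 : Uᶜ.Nonempty := ⟨z, fun h => by
      obtain ⟨y, hy, hzy⟩ := Set.mem_iUnion₂.mp h
      obtain rfl : z = y := hzy
      exact hz hy⟩
    obtain ⟨w, hwU, hwc⟩ := hU.isClosed_compl.exists_closed_singleton hne2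
    exact hwU (Set.mem_iUnion₂.mpr ⟨w, hwc, rfl⟩)
  have hd : DiscreteTopology Fx := discreteTopology_iff_isOpen_singleton.mpr fun z => hopen z (hall z)
  exact ⟨finite_of_compact_of_discrete, hd⟩

end Groth.Agent.S19879
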