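import Groth.Statements.S1988
import Mathlib
import Groth.Prelude.Def_EtRam


set_option autoImplicit false
universe u
open EtAlg

namespace Groth.Agent.S1988

open IsLocalRing TensorProduct

theorem injective_of_fraction {B L W M : Type u} [CommRing B] [IsDomain B] [Field L] [Algebra B L] [IsFractionRing B L]
    [Field M] [Algebra L M] : Function.Injective ((algebraMap L M).comp (algebraMap B L)) :=
  (algebraMap L M).injective.comp (IsFractionRing.injective B L)

/-- Amalgamate two valuation rings over a discrete valuation ring. -/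
theorem exists_amalgam {B : Type u} [CommRing B] [IsDomain B] [IsDiscreteValuationRing B]
    (W C : Type u) [CommRing W] [IsDomain W] [IsLocalRing W] [CommRing C] [IsDomain C] [IsLocalRing C]
    [Algebra B W] [Algebra B C] [IsLocalHom (algebraMap B W)] [IsLocalHom (algebraMap B C)]
    (hW : Function.Injective (algebraMap B W)) (hC : Function.Injective (algebraMap B C)) :
    ∃ (F : Type u) (_ : Field F) (g : W →+* F) (h : C →+* F) (V : ValuationSubring F),
      g.comp (algebraMap B W) = h.comp (algebraMap B C) ∧ Function.Injective g ∧ Function.Injective h ∧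
        EtRam.Dominates W g V ∧ EtRam.Dominates C h V := by
  classical
  have hflat : ∀ (X : Type u) [CommRing X] [IsDomain X] [Algebra B X], Function.Injective (algebraMap B X) →
      Module.Flat B X := by
    intro X _ _ _ hX
    rw [Module.Flat.flat_iff_torsion_eq_bot_of_isBezout, eq_bot_iff]
    rintro x ⟨⟨r, hr⟩, hx⟩
    have hx' : algebraMap B X r * x = 0 := by rw [← Algebra.smul_def]; exact hx
    exact (mul_eq_zero.1 hx').resolve_left ((map_ne_zero_iff _ hX).2 (nonZeroDivisors.ne_zero hr))
  haveI := hflat W hW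
  haveI := hflat C hC
  let T := W ⊗[B] C
  let kB := ResidueField B
  let kW := ResidueField W
  let kC := ResidueField C
  haveI : Nontrivial (kW ⊗[kB] kC) :=
    Algebra.TensorProduct.nontrivial_of_algebraMap_injective_of_isDomain kB kW kC
      (algebraMap kB kW).injective (algebraMap kB kC).injective
  obtain ⟨Q, hQ⟩ := Ideal.exists_maximal (kW ⊗[kB] kC)
  let π : T →+* kW ⊗[kB] kC := (Algebra.TensorProduct.lift
    (((Algebra.TensorProduct.includeLeft : kW →ₐ[kB] kW ⊗[kB] kC).restrictScalars B).comp
      (IsScalarTower.toAlgHom B W kW))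
    (((Algebra.TensorProduct.includeRight : kC →ₐ[kB] kW ⊗[kB] kC).restrictScalars B).comp
      (IsScalarTower.toAlgHom B C kC)) (fun _ _ => Commute.all _ _)).toRingHom
  let m : Ideal T := Q.comap π
  haveI : m.IsPrime := Ideal.IsPrime.comap _
  obtain ⟨p, hp, hpm⟩ := Ideal.exists_minimalPrimes_le (J := m) (I := ⊥) bot_le
  haveI : p.IsPrime := hp.1.1
  have hpl : ∀ w : W, w ≠ 0 → w ⊗ₜ[B] (1 : C) ∉ p := by
    intro w hw hmem
    refine Set.disjoint_left.mp (Ideal.disjoint_nonZeroDivisors_of_mem_minimalPrimes hp) hmem ?_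
    refine mem_nonZeroDivisors_iff_right.2 fun x hx => ?_
    have hx' : w • x = w • (0 : T) := by
      rw [smul_zero, Algebra.smul_def, Algebra.TensorProduct.algebraMap_apply, mul_comm]
      simpa using hx
    exact Module.Flat.isSMulRegular_of_nonZeroDivisors (M := T) (mem_nonZeroDivisors_of_ne_zero hw) hx'
  have hpr : ∀ c : C, c ≠ 0 → (1 : W) ⊗ₜ[B] c ∉ p := by
    intro c hc hmem
    refine Set.disjoint_left.mp (Ideal.disjoint_nonZeroDivisors_of_mem_minimalPrimes hp) hmem ?_
    refine mem_nonZeroDivisors_iff_right.2 fun x hx => ?_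
    let e : T ≃ₐ[B] C ⊗[B] W := Algebra.TensorProduct.comm B W C
    have hx' : c • e x = c • (0 : C ⊗[B] W) := by
      rw [smul_zero, Algebra.smul_def, Algebra.TensorProduct.algebraMap_apply, mul_comm]
      have := congrArg e hx
      rw [map_mul, map_zero, show e ((1 : W) ⊗ₜ[B] c) = c ⊗ₜ[B] (1 : W) from rfl] at this
      exact this
    exact e.injective ((Module.Flat.isSMulRegular_of_nonZeroDivisors (M := C ⊗[B] W)
      (mem_nonZeroDivisors_of_ne_zero hc) hx').trans (map_zero e).symm)
  let F := FractionRing (T ⧸ p)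
  let θ : T →+* F := (algebraMap (T ⧸ p) F).comp (Ideal.Quotient.mk p)
  have hθ : ∀ x : T, θ x = 0 → x ∈ p := fun x hx =>
    Ideal.Quotient.eq_zero_iff_mem.1 ((map_eq_zero_iff _ (IsFractionRing.injective (T ⧸ p) F)).1 hx)
  have hunit : ∀ s : m.primeCompl, IsUnit (θ s) := fun s =>
    isUnit_iff_ne_zero.2 fun h => s.2 (hpm (hθ _ h))
  obtain ⟨V, hV, hloc⟩ := IsLocalRing.exists_factor_valuationRing (IsLocalization.lift (M := m.primeCompl)
    (S := Localization.AtPrime m) hunit)
  have hdom : ∀ x : T, θ x ∈ V ∧ (x ∈ m → V.valuation (θ x) < 1) := fun x => by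
    have hx := hV (algebraMap T (Localization.AtPrime m) x)
    rw [IsLocalization.lift_eq] at hx
    refine ⟨hx, fun hm => ?_⟩
    show V.valuation ((⟨θ x, hx⟩ : V) : F) < 1
    rw [← ValuationSubring.valuation_lt_one_iff, IsLocalRing.mem_maximalIdeal, mem_nonunits_iff]
    intro hu
    have h1 := hloc.map_nonunit (algebraMap T (Localization.AtPrime m) x) (by
      convert hu using 1
      exact Subtype.ext (IsLocalization.lift_eq hunit x))
    exact (IsLocalization.AtPrime.isUnit_to_map_iff _ m x).1 h1 hm
  refine ⟨F, inferInstance, θ.comp Algebra.TensorProduct.includeLeftRingHom,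
    θ.comp (Algebra.TensorProduct.includeRight : C →ₐ[B] T).toRingHom, V, ?_, ?_, ?_,
    ⟨fun w => (hdom _).1, fun w hw => (hdom _).2 ?_⟩, ⟨fun c => (hdom _).1, fun c hc => (hdom _).2 ?_⟩⟩
  · refine RingHom.ext fun b => congrArg θ ?_
    show (algebraMap B W b) ⊗ₜ[B] (1 : C) = (1 : W) ⊗ₜ[B] (algebraMap B C b)
    rw [Algebra.algebraMap_eq_smul_one, Algebra.algebraMap_eq_smul_one, TensorProduct.smul_tmul]
  · rw [injective_iff_map_eq_zero]
    intro w hw
    by_contra h
    exact hpl w h (hθ _ hw)
  · rw [injective_iff_map_eq_zero]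
    intro c hc
    by_contra h
    exact hpr c h (hθ _ hc)
  · show π (w ⊗ₜ[B] (1 : C)) ∈ Q
    have : π (w ⊗ₜ[B] (1 : C)) = 0 := by
      have h0 : algebraMap W kW w = 0 := (residue_eq_zero_iff w).2 hw
      show (algebraMap W kW w ⊗ₜ[kB] (1 : kC)) * ((1 : kW) ⊗ₜ[kB] algebraMap C kC 1) = 0
      rw [h0, zero_tmul, zero_mul]
    rw [this]; exact Q.zero_mem
  · show π ((1 : W) ⊗ₜ[B] c) ∈ Q
    have : π ((1 : W) ⊗ₜ[B] c) = 0 := by
      have h0 : algebraMap C kC c = 0 := (residue_eq_zero_iff c).2 hc
      show (algebraMap W kW 1 ⊗ₜ[kB] (1 : kC)) * ((1 : kW) ⊗ₜ[kB] algebraMap C kC c) = 0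
      rw [h0, tmul_zero, mul_zero]
    rw [this]; exact Q.zero_mem

theorem comap_eq_of_dominates {M F : Type u} [Field M] [Field F] (W : ValuationSubring M) (f : M →+* F)
    (V : ValuationSubring F) (h : EtRam.Dominates W (f.comp W.subtype) V) : V.comap f = W := by
  refine le_antisymm (fun x hx => ?_) (fun x hx => h.1 ⟨x, hx⟩)
  by_contra hxW
  have hinv := (W.mem_or_inv_mem x).resolve_left hxW
  have hnu : (⟨x⁻¹, hinv⟩ : W) ∈ maximalIdeal W := by
    rw [mem_maximalIdeal, mem_nonunits_iff]
    intro hu
    obtain ⟨y, hy⟩ := hu.exists_right_inv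
    have hy' : x⁻¹ * (y : M) = 1 := congrArg Subtype.val hy
    have hx0 : x ≠ 0 := fun h0 => hxW (h0 ▸ W.zero_mem)
    rw [inv_mul_eq_one₀ hx0] at hy'
    exact hxW (hy' ▸ y.2)
  have h1 : V.valuation (f x⁻¹) < 1 := h.2 _ hnu
  have hx0 : x ≠ 0 := fun h0 => hxW (h0 ▸ W.zero_mem)
  have h2 : V.valuation (f x) ≤ 1 := (V.valuation_le_one_iff _).2 hx
  have h3 : V.valuation (f x⁻¹) * V.valuation (f x) = 1 := by
    rw [← map_mul, ← map_mul, inv_mul_cancel₀ hx0, map_one, map_one]
  exact absurd h3 (ne_of_lt (mul_lt_one_of_lt_of_le h1 h2))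

/-- Weak unramifiedness and separability descend along an extension of the field upstairs. -/
theorem descend {K₁ M M' : Type u} [Field K₁] [Field M] [Field M'] (j : K₁ →+* M) (f : M →+* M')
    (j' : K₁ →+* M') (hj : f.comp j = j')
    (W : ValuationSubring M) (W' : ValuationSubring M') (hW : W'.comap f = W) :
    (@EtRam.IsWeaklyUnramified (W'.comap j') W' _ _ _ _ (EtRam.inclOfComap W' j').toAlgebra →
      @EtRam.IsWeaklyUnramified (W.comap j) W _ _ _ _ (EtRam.inclOfComap W j).toAlgebra) ∧
    (@Algebra.IsGeometricallyReduced (ResidueField (W'.comap j')) (ResidueField W') _ _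
        (ResidueField.map (EtRam.inclOfComap W' j')).toAlgebra →
      @Algebra.IsGeometricallyReduced (ResidueField (W.comap j)) (ResidueField W) _ _
        (ResidueField.map (EtRam.inclOfComap W j)).toAlgebra) := by
  subst hj hW
  refine ⟨fun h => ?_, fun h => ?_⟩
  · letI : Algebra ((W'.comap f).comap j) (W'.comap f) := (EtRam.inclOfComap (W'.comap f) j).toAlgebra
    letI : Algebra (W'.comap (f.comp j)) W' := (EtRam.inclOfComap W' (f.comp j)).toAlgebra
    haveI := EtRam.isLocalHom_inclOfComap (W'.comap f) j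
    show (maximalIdeal _).map (algebraMap ((W'.comap f).comap j) (W'.comap f)) = _
    refine le_antisymm (Ideal.map_le_iff_le_comap.2 fun a ha => map_nonunit (EtRam.inclOfComap (W'.comap f) j) a ha)
      fun x hx => ?_
    have hx' : EtRam.inclOfComap W' f x ∈ maximalIdeal W' :=
      map_nonunit (EtRam.inclOfComap W' f) x hx
    rw [← show (maximalIdeal (W'.comap (f.comp j))).map (algebraMap _ W') = maximalIdeal W' from h] at hx'
    obtain ⟨a, ha, w, hw⟩ : ∃ a ∈ maximalIdeal (W'.comap (f.comp j)), algebraMap _ W' a ∣ EtRam.inclOfComap W' f x := by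
      refine (Submodule.span_induction (p := fun y _ => ∃ a ∈ maximalIdeal (W'.comap (f.comp j)), algebraMap _ W' a ∣ y)
        ?_ ?_ ?_ ?_ hx' : _)
      · rintro _ ⟨a, ha, rfl⟩; exact ⟨a, ha, dvd_rfl⟩
      · exact ⟨0, Ideal.zero_mem _, dvd_zero _⟩
      · rintro y z - - ⟨a, ha, hya⟩ ⟨b, hb, hzb⟩
        rcases ValuationRing.dvd_total a b with hab | hba
        · exact ⟨a, ha, dvd_add hya ((_root_.map_dvd _ hab).trans hzb)⟩
        · exact ⟨b, hb, dvd_add ((_root_.map_dvd _ hba).trans hya) hzb⟩
      · rintro r y - ⟨a, ha, hya⟩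
        exact ⟨a, ha, hya.mul_left r⟩
    have hw' : f (x : M) = f (j (a : K₁)) * (w : M') := congrArg Subtype.val hw
    by_cases ha0 : j (a : K₁) = 0
    · rw [ha0, map_zero, zero_mul, map_eq_zero] at hw'
      rw [show x = 0 from Subtype.ext hw']
      exact Ideal.zero_mem _
    · have hq : f ((x : M) / j (a : K₁)) = (w : M') := by
        rw [map_div₀, hw', mul_div_cancel_left₀ _ (fun h => ha0 (f.injective (h.trans (map_zero f).symm)))]
      have hmem : (x : M) / j (a : K₁) ∈ W'.comap f := by show f _ ∈ W'; rw [hq]; exact w.2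
      have : x = algebraMap ((W'.comap f).comap j) (W'.comap f) a * ⟨_, hmem⟩ := Subtype.ext (by
        show (x : M) = j (a : K₁) * ((x : M) / j (a : K₁))
        rw [mul_div_cancel₀ _ ha0])
      rw [this]
      exact Ideal.mul_mem_right _ _ (Ideal.mem_map_of_mem _ ha)
  · letI := (ResidueField.map (EtRam.inclOfComap (W'.comap f) j)).toAlgebra
    letI : Algebra (ResidueField ((W'.comap f).comap j)) (ResidueField W') :=
      (ResidueField.map (EtRam.inclOfComap W' (f.comp j))).toAlgebra
    refine @Algebra.IsGeometricallyReduced.of_injective _ _ _ _ _ _ _ _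
      ({ ResidueField.map (EtRam.inclOfComap W' f) with
        commutes' := fun r => by
          obtain ⟨r, rfl⟩ := IsLocalRing.residue_surjective r
          rfl } : ResidueField (W'.comap f) →ₐ[ResidueField ((W'.comap f).comap j)] ResidueField W')
      (ResidueField.map (EtRam.inclOfComap W' f)).injective h

open IsLocalRing in
theorem dominates_restrict (A : Type u) [CommRing A] [IsLocalRing A] {L M : Type u} [Field L] [Field M] (g : A →+* L)
    (f : L →+* M) (W : ValuationSubring M) (h : EtRam.Dominates A (f.comp g) W) :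
    EtRam.Dominates A g (W.comap f) := by
  refine ⟨fun a => h.1 a, fun a ha => ?_⟩
  have h1 := h.2 a ha
  have ha' := h.1 a
  rw [RingHom.comp_apply, show f (g a) = ((⟨f (g a), ha'⟩ : W) : M) from rfl,
    ← ValuationSubring.valuation_lt_one_iff, mem_maximalIdeal, mem_nonunits_iff] at h1
  rw [show g a = ((⟨g a, ha'⟩ : W.comap f) : L) from rfl, ← ValuationSubring.valuation_lt_one_iff, mem_maximalIdeal,
    mem_nonunits_iff]
  exact fun hu => h1 (hu.map (EtRam.inclOfComap W f))

/-- Let A -> B -> C be extensions of discrete valuation rings (local injective maps) with fraction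
fields K ⊂ L ⊂ M₀ and K₁/K a finite extension. (The solution predicates mention only B, C and the
fields: in them the bottom ring is recovered as B ∩ K, which the hypotheses on A force to be A.) If
K₁ is a weak solution (resp. a solution) for A -> C then it is a weak solution (resp. a solution)
for A -> B. -/
theorem result (A B C K L M₀ K₁ : Type u) [CommRing A] [IsDomain A] [IsDiscreteValuationRing A]
    [CommRing B] [IsDomain B] [IsDiscreteValuationRing B] [Algebra A B] [IsLocalHom (algebraMap A B)]
    (hinjA : Function.Injective (algebraMap A B))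
    [CommRing C] [IsDomain C] [IsDiscreteValuationRing C] [Algebra B C] [IsLocalHom (algebraMap B C)]
    (hinj : Function.Injective (algebraMap B C))
    [Field K] [Field L] [Field M₀] [Field K₁] [Algebra K L] [Algebra K M₀] [Algebra L M₀] [IsScalarTower K L M₀]
    [Algebra K K₁] [FiniteDimensional K K₁] [Algebra A K] [IsFractionRing A K]
    [Algebra B L] [IsFractionRing B L] [Algebra A L] [IsScalarTower A K L] [IsScalarTower A B L]
    [Algebra C M₀] [IsFractionRing C M₀] [Algebra B M₀]
    [IsScalarTower B C M₀] [IsScalarTower B L M₀] :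
    (EtRam.IsWeakSolution C K M₀ K₁ → EtRam.IsWeakSolution B K L K₁) ∧
    (EtRam.IsSolution C K M₀ K₁ → EtRam.IsSolution B K L K₁) := by
  classical
  have main : ∀ (M : Type u) [Field M] [Algebra K M] [Algebra L M] [Algebra K₁ M] [IsScalarTower K L M]
      [IsScalarTower K K₁ M], Algebra.adjoin L (Set.range (algebraMap K₁ M)) = ⊤ →
      ∀ (W : ValuationSubring M), EtRam.Dominates B ((algebraMap L M).comp (algebraMap B L)) W →
      ∃ (M' : Type u) (_ : Field M') (_ : Algebra K M') (_ : Algebra M₀ M') (_ : Algebra K₁ M')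
      (_ : IsScalarTower K M₀ M') (_ : IsScalarTower K K₁ M') (f : M →+* M') (W' : ValuationSubring M'),
      f.comp (algebraMap K₁ M) = algebraMap K₁ M' ∧ W'.comap f = W ∧
      Algebra.adjoin M₀ (Set.range (algebraMap K₁ M')) = ⊤ ∧
      EtRam.Dominates C ((algebraMap M₀ M').comp (algebraMap C M₀)) W' := by
    intro M _ _ _ _ _ _ hgen W hW
    let gB : B →+* W := RingHom.codRestrict ((algebraMap L M).comp (algebraMap B L)) W hW.1
    letI : Algebra B W := gB.toAlgebra
    haveI : IsLocalHom (algebraMap B W) := ⟨fun b hb => by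
      by_contra hna
      exact ((ValuationSubring.valuation_lt_one_iff W _).2 (hW.2 b hna)) hb⟩
    have hinjW : Function.Injective (algebraMap B W) := fun x y hxy =>
      IsFractionRing.injective B L ((algebraMap L M).injective (congrArg Subtype.val hxy))
    obtain ⟨F, _, g, h, V, hgh, hg, hh, hgV, hhV⟩ := exists_amalgam W C hinjW hinj
    let fM : M →+* F := IsFractionRing.lift (A := W) hg
    let h₀ : M₀ →+* F := IsFractionRing.lift (A := C) hh
    have hfM : fM.comp W.subtype = g := RingHom.ext fun w => IsFractionRing.lift_algebraMap hg w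
    have hagree : fM.comp (algebraMap L M) = h₀.comp (algebraMap L M₀) := by
      refine IsLocalization.ringHom_ext (nonZeroDivisors B) (RingHom.ext fun b => ?_)
      show fM (((algebraMap B W b : W) : M)) = h₀ (algebraMap L M₀ (algebraMap B L b))
      rw [← IsScalarTower.algebraMap_apply B L M₀, IsScalarTower.algebraMap_apply B C M₀]
      exact (RingHom.congr_fun hfM _).trans ((RingHom.congr_fun hgh b).trans
        (IsFractionRing.lift_algebraMap hh _).symm)
    letI : Algebra M₀ F := h₀.toAlgebra
    letI : Algebra K₁ F := (fM.comp (algebraMap K₁ M)).toAlgebra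
    letI : Algebra K F := (h₀.comp (algebraMap K M₀)).toAlgebra
    haveI : IsScalarTower K M₀ F := IsScalarTower.of_algebraMap_eq fun _ => rfl
    haveI : IsScalarTower K K₁ F := IsScalarTower.of_algebraMap_eq fun r => by
      show h₀ (algebraMap K M₀ r) = fM (algebraMap K₁ M (algebraMap K K₁ r))
      rw [← IsScalarTower.algebraMap_apply K K₁ M, IsScalarTower.algebraMap_apply K L M,
        IsScalarTower.algebraMap_apply K L M₀]
      exact (RingHom.congr_fun hagree _).symm
    let E : IntermediateField M₀ F := IntermediateField.adjoin M₀ (Set.range (algebraMap K₁ F))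
    have halg : ∀ x ∈ Set.range (algebraMap K₁ F), IsAlgebraic M₀ x := by
      rintro _ ⟨x, rfl⟩
      exact (((Algebra.IsIntegral.isIntegral (R := K) x).map (IsScalarTower.toAlgHom K K₁ F)).tower_top).isAlgebraic
    have hE : E.toSubalgebra = Algebra.adjoin M₀ (Set.range (algebraMap K₁ F)) :=
      IntermediateField.adjoin_toSubalgebra_of_isAlgebraic halg
    have hK₁ : ∀ x, algebraMap K₁ F x ∈ E := fun x => IntermediateField.subset_adjoin _ _ ⟨x, rfl⟩
    letI : Algebra K₁ E := ((algebraMap K₁ F).codRestrict E hK₁).toAlgebra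
    haveI : IsScalarTower K K₁ E := IsScalarTower.of_algebraMap_eq fun r =>
      Subtype.ext (IsScalarTower.algebraMap_apply K K₁ F r)
    have hfE : ∀ x, fM x ∈ E := by
      intro x
      have hx : x ∈ Algebra.adjoin L (Set.range (algebraMap K₁ M)) := by rw [hgen]; exact Algebra.mem_top
      induction hx using Algebra.adjoin_induction with
      | mem x hx => obtain ⟨y, rfl⟩ := hx; exact hK₁ y
      | algebraMap r => rw [← RingHom.comp_apply, hagree]; exact E.algebraMap_mem _
      | add x y _ _ hx hy => rw [map_add]; exact add_mem hx hy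
      | mul x y _ _ hx hy => rw [map_mul]; exact mul_mem hx hy
    let f' : M →+* E := fM.codRestrict E hfE
    refine ⟨E, inferInstance, inferInstance, inferInstance, inferInstance, inferInstance, inferInstance, f',
      V.comap (algebraMap E F), RingHom.ext fun x => rfl, ?_, ?_, ?_⟩
    · show (V.comap (algebraMap E F)).comap f' = W
      rw [ValuationSubring.comap_comap]
      exact comap_eq_of_dominates W fM V (hfM ▸ hgV)
    · refine Subalgebra.map_injective (f := E.val) Subtype.val_injective ?_
      rw [AlgHom.map_adjoin, Algebra.map_top, ← Set.range_comp]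
      show Algebra.adjoin M₀ (Set.range (algebraMap K₁ F)) = _
      rw [← hE, IntermediateField.range_val]
    · refine dominates_restrict C ((algebraMap M₀ E).comp (algebraMap C M₀)) (algebraMap E F) V ?_
      rw [show (algebraMap E F).comp ((algebraMap M₀ E).comp (algebraMap C M₀)) = h from
        RingHom.ext fun c => IsFractionRing.lift_algebraMap hh c]
      exact hhV
  constructor
  · intro hC M _ _ _ _ _ _ hgen W hW
    obtain ⟨M', _, _, _, _, _, _, f, W', hf, hWW, hgen', hdom⟩ := main M hgen W hW
    exact (descend (algebraMap K₁ M) f (algebraMap K₁ M') hf W W' hWW).1 (hC M' hgen' W' hdom)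
  · intro hC M _ _ _ _ _ _ hgen W hW
    obtain ⟨M', _, _, _, _, _, _, f, W', hf, hWW, hgen', hdom⟩ := main M hgen W hW
    exact ⟨(descend (algebraMap K₁ M) f (algebraMap K₁ M') hf W W' hWW).1 (hC M' hgen' W' hdom).1,
      (descend (algebraMap K₁ M) f (algebraMap K₁ M') hf W W' hWW).2 (hC M' hgen' W' hdom).2⟩

end Groth.Agent.S1988
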