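import Groth.Statements.S19880
import Groth.Agent.JacLib.RatSub
-- import your own Groth.Agent.* helpers here

set_option autoImplicit false
universe u
open CategoryTheory CategoryTheory.Limits AlgebraicGeometry
open JacVar

namespace Groth.Agent.S19880

open Groth.Agent

/-- Let k be a separably closed field, C a smooth proper geometrically connected curve of genus g > 0
over k with a k-rational point, and r > 2g an integer. Then for every effective divisor D of degree
r on C there is an (r − g)-tuple γ = (P_1, …, P_{r−g}) of k-rational points of C with h⁰(D − P_1 − ⋯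
− P_{r−g}) = 1; since every invertible module L of degree r > 2g − 2 is of the form O(D) with D
effective, this is stated as: for every invertible module L of degree r on C there are k-rational
points P_1, …, P_{r−g} with h⁰(C, L ⊗ I_{P_1} ⊗ ⋯ ⊗ I_{P_{r−g}}) = 1. (In the source this is the
statement that the symmetric power C^(r) is the union of the open pieces C^γ.) -/
theorem result (k : Type u) [Field k] [IsSepClosed k]
    (C : Scheme.{u}) [C.Over (Spec (CommRingCat.of k))]
    [IsProper (C ↘ Spec (CommRingCat.of k))] [Smooth (C ↘ Spec (CommRingCat.of k))] [GeometricallyConnected (C ↘ Spec (CommRingCat.of k))]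
    (hdim : topologicalKrullDim ↥C = 1)
    (g : ℕ) (hg : Curv2.genus k C = g) (hg0 : 0 < g)
    (σ₀ : Spec (CommRingCat.of k) ⟶ C) (hσ₀ : σ₀ ≫ (C ↘ Spec (CommRingCat.of k)) = 𝟙 _)
    (r : ℕ) (hr : 2 * g < r)
    (L : C.Modules) (hL : PicF.IsInvertible L) (hLdeg : Curv2.deg k C L 1 = (r : ℤ)) :
    ∃ σ : Fin (r - g) → (Spec (CommRingCat.of k) ⟶ C), (∀ t, σ t ≫ (C ↘ Spec (CommRingCat.of k)) = 𝟙 _) ∧
      Module.finrank k (Coh.HH C (CohB1.tensorMod L (FGA.tensorList (List.ofFn fun t : Fin (r - g) =>
        ClSub.idealMod (σ t).ker))) 0) = 1 := by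
  haveI : ConnectedSpace C := GeometricallyConnected.connectedSpace_of_subsingleton (C ↘ Spec (CommRingCat.of k))
  haveI := EulerIneqLib.isNoetherian_proper (X := C) k
  haveI := CurveLib.isIntegral_of_smooth (X := C) k
  obtain ⟨hr', hh⟩ := JacLib.setup_sepClosed (k := k) hdim
  haveI := hr'
  have h1 : Subsingleton (Coh.HH C L 1) := CurveFF.subsingleton_H1 hdim hh hL (by rw [hLdeg, hg]; omega)
  refine JacLib.exists_sub_points hdim (r - g) L hL h1 ?_
  have e1 := CurveLib.euler_eq_sub (k := k) (M := L) hdim.le
  have e2 := CurveLib.euler_eq_sub (k := k) (M := Coh.structureModule C) hdim.le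
  rw [show Module.finrank k (Coh.HH C L 1) = 0 from Module.finrank_zero_of_subsingleton] at e1
  rw [hh] at e2
  have hg' : Module.finrank k (Coh.HH C (Coh.structureModule C) 1) = g := hg
  rw [hg'] at e2
  unfold Curv2.deg at hLdeg
  omega

end Groth.Agent.S19880
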