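import Groth.Statements.S19881
import Groth.Agent.GrCoreLib.LinearSeq
import Groth.Agent.GrFieldLib.Top

set_option autoImplicit false
universe u
open GrLC

namespace Groth.Agent.S19881
open Groth.Agent.GrCoreLib


/-- Let R = ⊕_{n ≥ 0} R_n be a (Noetherian) positively ℤ-graded ring which is standard graded
(irrelevant ideal generated by R_1), with R_0 Artinian, *local with unique homogeneous maximal ideal
m, Cohen–Macaulay of Krull dimension d, and with infinite residue field R/m. If the a-invariant of R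
equals −d, i.e. the end (largest nonzero degree) of the graded local cohomology module H^d_m(R),
computed from any *injective resolution of R in the graded category, is −d, then R is a polynomial
ring over R_0 in d variables of degree one: there is an R_0-algebra isomorphism R_0[T_1, …, T_d] ≅ R
mapping every variable into R_1. (The published statement asserts the equivalence of a(R) = −d with
R ≅ R_0[T_1, …, T_d] without the residue-field hypothesis; its argument treats the case of an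
infinite residue field, which is the case stated here, and only the forward implication is stated.) -/
theorem result (R : Type u) [CommRing R]
    [LocCoh.IsCohenMacaulayRing R] (𝒜 : ℤ → AddSubgroup R) [GradedRing 𝒜]
    (hpos : ∀ n : ℤ, n < 0 → 𝒜 n = ⊥)
    (hstd : Ideal.span (⋃ n ∈ Set.Ioi (0 : ℤ), (𝒜 n : Set R)) = Ideal.span ((𝒜 1 : AddSubgroup R) : Set R))
    [IsArtinianRing (GrLC.deg0 𝒜)] (m : HomogeneousIdeal 𝒜) (hm : GrLC.IsStarLocal 𝒜 m)
    (hinf : Infinite (R ⧸ m.toIdeal)) (d : ℕ) (hd : ringKrullDim R = d) (I : GrLC.StarInjRes 𝒜 𝒜)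
    (ha : GrLC.endDeg (I.Hgr m d) = (((-(d : ℤ) : ℤ) : WithTop ℤ) : WithBot (WithTop ℤ))) :
    ∃ e : MvPolynomial (Fin d) (GrLC.deg0 𝒜) ≃ₐ[GrLC.deg0 𝒜] R, ∀ t : Fin d, e (MvPolynomial.X t) ∈ 𝒜 1 := by
  classical
  haveI := Groth.Agent.GrFieldLib.StarLocal.isMaximal hpos hm
  haveI := LocCoh.IsCohenMacaulayRing.isCohenMacaulayLocalRing_localization (R := R) m.toIdeal
  have hh : m.toIdeal.height = d := by
    have := (height_starMax hpos hm).trans hd
    exact_mod_cast this
  let M : GrLC.GMod.{u} 𝒜 := GrInjLib.ringG (𝒜 := 𝒜)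
  haveI : Module.Finite R M.carrier := Module.Finite.self R
  let a := irrH 𝒜
  obtain ⟨N, hN⟩ := exists_pow_le_irr hpos hm
  have hgam : ∀ (X : Type u) [AddCommGroup X] [Module R X], GrLC.gam a.toIdeal X = GrLC.gam m.toIdeal X := by
    intro X _ _
    refine le_antisymm ?_ ?_
    · rintro x ⟨k, hk⟩
      refine ⟨N * k, fun r hr => hk r ?_⟩
      rw [pow_mul] at hr
      exact Ideal.pow_right_mono hN k hr
    · rintro x ⟨k, hk⟩
      exact ⟨k, fun r hr => hk r (Ideal.pow_right_mono (Groth.Agent.GrFieldLib.StarLocal.irr_le hpos hm) k hr)⟩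
  obtain ⟨E⟩ := GrInjLib.exists_starInjRes 𝒜 M.gr
  have hlow : ∀ i, i < d → ∀ g, GrInjLib.Van a M i g := by
    intro i hi g
    refine GrInjLib.Van.of_res E (hcomp_bot_congr E (fun n => hgam _) i g ?_)
    obtain ⟨e⟩ := GrInjLib.exists_H_equiv_locCoh E m i
    haveI h1 : Subsingleton ((localCohomology m.toIdeal i).obj (ModuleCat.of R M.carrier) : Type u) :=
      Groth.Agent.GrFieldLib.subsingleton_H_of_lt_height m.toIdeal hh i hi
    haveI : Subsingleton (E.H m i) := @Equiv.subsingleton _ _ e.toEquiv h1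
    exact (Submodule.eq_bot_iff _).2 fun y _ => Subsingleton.elim y 0
  have htop : ∀ g, -(d : ℤ) < g → GrInjLib.Van a M d g := by
    have h1 : ∀ g, -(d : ℤ) < g → GrInjLib.Van m M d g :=
      (GrInjLib.van_endDeg (M := M) (GrInjLib.addRes 𝒜 I) d (-(d : ℤ))).1 ha.le
    exact fun g hg => GrInjLib.Van.of_res E (hcomp_bot_congr E (fun n => hgam _) d g (h1 g hg E))
  -- a linear regular sequence
  have hJ : (⊥ : Ideal R).IsHomogeneous 𝒜 := Ideal.IsHomogeneous.bot _
  obtain ⟨L, hL, hlen, hwr, hrad⟩ := exists_linear_seq_aux hpos hm hinf (a := a) rfl hstd d ⊥ hJ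
    (((ringKrullDim_eq_of_ringEquiv (RingEquiv.quotientBot R)).trans hd).le)
    (fun i hi g => Groth.Agent.GrFieldLib.van_congr (M := M)
      (GrInjLib.quotMk 𝒜 (GrInjLib.ringPieces 𝒜) (GrInjLib.ideal_homogeneous 𝒜 hJ))
      (GrInjLib.quotMk_grHom 𝒜 (GrInjLib.ringPieces 𝒜) (GrInjLib.ideal_homogeneous 𝒜 hJ))
      ⟨LinearMap.ker_eq_bot.1 (GrInjLib.ker_quotMk 𝒜 (GrInjLib.ringPieces 𝒜) (GrInjLib.ideal_homogeneous 𝒜 hJ)),
        GrInjLib.quotMk_surjective 𝒜 (GrInjLib.ringPieces 𝒜) (GrInjLib.ideal_homogeneous 𝒜 hJ)⟩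
      (hlow i hi g))
  rw [bot_sup_eq] at hrad
  have hwr' : RingTheory.Sequence.IsWeaklyRegular R L :=
    (LinearEquiv.isWeaklyRegular_congr (Submodule.quotEquivOfEqBot (⊥ : Ideal R) rfl) _).1 hwr
  let b : Fin d → R := fun i => L[(i : ℕ)]'(by rw [hlen]; exact i.2)
  have hb : ∀ i, b i ∈ 𝒜 1 := fun i => hL _ (List.getElem_mem _)
  have hLb : List.ofFn b = L := List.ext_getElem (by simp [hlen]) (fun j h1 h2 => by simp [b])
  -- the quotient by the sequence is concentrated in degree zero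
  let L' : List (R × ℤ) := L.map fun y => (y, 1)
  have hL1 : L'.map Prod.fst = L := by simp [L', Function.comp_def]
  have hL2 : (L'.map Prod.snd).sum = (d : ℤ) := by simp [L', Function.comp_def, hlen]
  have hL3 : L'.length = d := by simp [L', hlen]
  have hL' : ∀ p ∈ L', p.1 ∈ 𝒜 p.2 ∧ 0 < p.2 := fun p hp => by
    obtain ⟨y, hy, rfl⟩ := List.mem_map.1 hp
    exact ⟨hL y hy, show (0 : ℤ) < 1 from one_pos⟩
  have hQh : (Ideal.ofList L).IsHomogeneous 𝒜 :=
    Ideal.homogeneous_span 𝒜 _ fun y hy => ⟨1, hL y hy⟩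
  let Q := GrInjLib.quotG 𝒜 (GrInjLib.ringPieces 𝒜) (GrInjLib.ideal_homogeneous 𝒜 hQh)
  let π : M.carrier →ₗ[R] Q.carrier := GrInjLib.quotMk 𝒜 (GrInjLib.ringPieces 𝒜) (GrInjLib.ideal_homogeneous 𝒜 hQh)
  have hker : LinearMap.ker π = Ideal.ofList (L'.map Prod.fst) • (⊤ : Submodule R M.carrier) := by
    rw [hL1]
    refine (GrInjLib.ker_quotMk 𝒜 (GrInjLib.ringPieces 𝒜) (GrInjLib.ideal_homogeneous 𝒜 hQh)).trans ?_
    exact ((smul_eq_mul _ _).trans (Ideal.mul_top (Ideal.ofList L))).symm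
  have htor : GrLC.gam a.toIdeal Q.carrier = ⊤ := by
    obtain ⟨k, hk⟩ := Ideal.exists_pow_le_of_le_radical_of_fg hrad (IsNoetherian.noetherian _)
    refine eq_top_iff.2 fun x _ => ?_
    obtain ⟨y, rfl⟩ := GrInjLib.quotMk_surjective 𝒜 (GrInjLib.ringPieces 𝒜) (GrInjLib.ideal_homogeneous 𝒜 hQh) x
    refine ⟨k, fun r hr => ?_⟩
    rw [← map_smul]
    exact LinearMap.mem_ker.1 ((GrInjLib.ker_quotMk 𝒜 (GrInjLib.ringPieces 𝒜) (GrInjLib.ideal_homogeneous 𝒜 hQh)).ge
      (show r * y ∈ Ideal.ofList L from Ideal.mul_mem_right _ _ (hk hr)))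
  have hpos' := Groth.Agent.GrFieldLib.eq_zero_of_neg hpos
  have key := (Groth.Agent.GrFieldLib.van_end_seq (m := a) hpos' rfl L' hL' M Q π (by rw [hL1]; exact hwr')
    (GrInjLib.quotMk_surjective 𝒜 (GrInjLib.ringPieces 𝒜) (GrInjLib.ideal_homogeneous 𝒜 hQh))
    (fun g z hz => GrInjLib.quotMk_grHom 𝒜 (GrInjLib.ringPieces 𝒜) (GrInjLib.ideal_homogeneous 𝒜 hQh) g z hz) hker
    (fun i hi g => hlow i (by omega) g) htor (-(d : ℤ))).1 (by rw [hL3]; exact htop)
  rw [hL2, neg_add_cancel] at key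
  have hgen : Groth.Agent.GrFieldLib.irr 𝒜 ≤ Ideal.span (Set.range b) := by
    refine Ideal.span_le.2 fun y hy => ?_
    obtain ⟨g, hg, hyg⟩ := Set.mem_iUnion₂.1 hy
    have h1 := (GrInjLib.ker_quotMk 𝒜 (GrInjLib.ringPieces 𝒜) (GrInjLib.ideal_homogeneous 𝒜 hQh)).le
      (LinearMap.mem_ker.2 (key g hg y hyg))
    show y ∈ Ideal.span (Set.range b)
    rwa [← show Ideal.ofList L = Ideal.span (Set.range b) by
      rw [← hLb, Ideal.ofList]; congr 1; ext z; simp [List.mem_ofFn]]
  set φ : MvPolynomial (Fin d) (GrLC.deg0 𝒜) →ₐ[GrLC.deg0 𝒜] R := MvPolynomial.aeval b with hφ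
  have hsurj : Function.Surjective φ := by
    suffices key : ∀ n : ℕ, ∀ x ∈ 𝒜 (n : ℤ), x ∈ φ.range by
      intro x
      show x ∈ φ.range
      rw [← DirectSum.sum_support_decompose 𝒜 x]
      refine Subalgebra.sum_mem _ fun n _ => ?_
      rcases lt_or_ge n 0 with hn | hn
      · rw [hpos' n hn _ (DirectSum.decompose 𝒜 x n).2]; exact zero_mem _
      · exact key n.toNat _ (by rw [Int.toNat_of_nonneg hn]; exact (DirectSum.decompose 𝒜 x n).2)
    intro n
    induction n with
    | zero =>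
      intro x hx
      exact Subalgebra.algebraMap_mem φ.range (⟨x, (show x ∈ 𝒜 0 by simpa using hx)⟩ : GrLC.deg0 𝒜)
    | succ n ih =>
      intro x hx
      have hxI : x ∈ Ideal.span (Set.range b) := hgen (Ideal.subset_span (Set.mem_biUnion (x := ((n + 1 : ℕ) : ℤ))
        (show (0 : ℤ) < ((n + 1 : ℕ) : ℤ) by omega) hx))
      suffices h' : ∀ y ∈ Ideal.span (Set.range b), ∀ c : R,
          (DirectSum.decompose 𝒜 (c * y) ((n : ℤ) + 1) : R) ∈ φ.range by
        have := h' x hxI 1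
        rwa [one_mul, DirectSum.decompose_of_mem_same 𝒜 (by push_cast at hx; exact hx)] at this
      intro y hy
      induction hy using Submodule.span_induction with
      | mem z hz =>
        obtain ⟨j, rfl⟩ := hz
        intro c
        rw [DirectSum.coe_decompose_mul_add_of_right_mem 𝒜 (hb j)]
        exact mul_mem (ih _ (DirectSum.decompose 𝒜 c _).2) ⟨MvPolynomial.X j, MvPolynomial.aeval_X b j⟩
      | zero => intro c; simp
      | add p q _ _ hp hq =>
        intro c
        rw [mul_add, DirectSum.decompose_add, DirectSum.add_apply, AddSubgroup.coe_add]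
        exact add_mem (hp c) (hq c)
      | smul r p _ hp => intro c; rw [smul_eq_mul, ← mul_assoc]; exact hp _
  refine ⟨AlgEquiv.ofBijective φ ⟨aeval_injective_of_weaklyRegular hpos b hb (hLb ▸ hwr'), hsurj⟩, fun t => ?_⟩
  show φ (MvPolynomial.X t) ∈ 𝒜 1
  rw [hφ, MvPolynomial.aeval_X]
  exact hb t

end Groth.Agent.S19881
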