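import Groth.Statements.S19887
import Groth.Agent.RGBlowLib.CompactLemmas
import Groth.Agent.RGBlowLib.Glue

set_option autoImplicit false
set_option linter.style.haveILetI false
set_option backward.isDefEq.respectTransparency false
set_option maxHeartbeats 800000
universe u
open LVCorr

namespace Groth.Agent.S19887

open AlgebraicGeometry CategoryTheory CategoryTheory.Limits TopologicalSpace

/-- A morphism which is an open immersion over an open `V` of its Noetherian target is the restriction of a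
proper morphism which is an isomorphism over `V`. -/
theorem exists_proper_extension {X P : Scheme.{u}} [IsNoetherian P] (f : X ⟶ P) [IsSeparated f]
    [QuasiCompact f] [LocallyOfFiniteType f] (V : P.Opens) [IsOpenImmersion (f ∣_ V)] :
    ∃ (Z : Scheme.{u}) (e : X ⟶ Z) (π : Z ⟶ P), IsOpenImmersion e ∧ IsProper π ∧ e ≫ π = f ∧ IsIso (π ∣_ V) := by
  haveI : IsNoetherian X := RGBlowLib.Union.isNoetherian_of_ft f
  haveI : IsLocallyNoetherian (V : Scheme.{u}) := isLocallyNoetherian_of_isOpenImmersion V.ι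
  obtain ⟨W, o₁, o₂, ho₁, ho₂, hw, hcov, hint, hdesc⟩ := RGBlowLib.exists_glue (f ⁻¹ᵁ V).ι (f ∣_ V)
  haveI := ho₁
  haveI := ho₂
  obtain ⟨q, hq₁, hq₂⟩ := hdesc P f V.ι (morphismRestrict_ι f V).symm
  haveI : IsSeparated (o₁ ≫ q) := by rw [hq₁]; infer_instance
  haveI : IsSeparated (o₂ ≫ q) := by rw [hq₂]; infer_instance
  haveI : IsClosedImmersion (pullback.lift (f := o₁ ≫ q) (g := o₂ ≫ q) (f ⁻¹ᵁ V).ι (f ∣_ V)
      (by rw [reassoc_of% hw])) := by
    let L := pullback.lift (f := o₁ ≫ q) (g := o₂ ≫ q) (f ⁻¹ᵁ V).ι (f ∣_ V) (by rw [reassoc_of% hw])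
    haveI : IsOpenImmersion (o₂ ≫ q) := by rw [hq₂]; infer_instance
    haveI : IsOpenImmersion (L ≫ pullback.fst (o₁ ≫ q) (o₂ ≫ q)) := by rw [pullback.lift_fst]; infer_instance
    haveI : IsOpenImmersion L := IsOpenImmersion.of_comp L (pullback.fst (o₁ ≫ q) (o₂ ≫ q))
    haveI : Surjective L := ⟨fun z => by
      have hz : pullback.fst (o₁ ≫ q) (o₂ ≫ q) z ∈ f ⁻¹ᵁ V := by
        show f (pullback.fst (o₁ ≫ q) (o₂ ≫ q) z) ∈ V
        have e : pullback.fst (o₁ ≫ q) (o₂ ≫ q) ≫ f = pullback.snd (o₁ ≫ q) (o₂ ≫ q) ≫ V.ι :=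
          (congrArg (pullback.fst (o₁ ≫ q) (o₂ ≫ q) ≫ ·) hq₁.symm).trans
            (pullback.condition.trans (congrArg (pullback.snd (o₁ ≫ q) (o₂ ≫ q) ≫ ·) hq₂))
        rw [← Scheme.Hom.comp_apply, e]
        exact (pullback.snd (o₁ ≫ q) (o₂ ≫ q) z).2
      refine ⟨⟨_, hz⟩, (pullback.fst (o₁ ≫ q) (o₂ ≫ q)).isOpenEmbedding.injective ?_⟩
      rw [← Scheme.Hom.comp_apply, pullback.lift_fst]
      rfl⟩
    haveI : IsIso L := (isIso_iff_isOpenImmersion_and_epi_base L).2 ⟨inferInstance, by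
      rw [TopCat.epi_iff_surjective]; exact L.surjective⟩
    exact inferInstanceAs (IsClosedImmersion L)
  haveI : IsSeparated q := RGBlowLib.isSeparated_glue (f ⁻¹ᵁ V).ι (f ∣_ V) o₁ o₂ hw hcov hint q
  let 𝒰 : W.OpenCover := Scheme.Cover.mkOfCovers (ULift.{u} Bool) (fun i => bif i.down then X else (V : Scheme.{u}))
    (fun ⟨i⟩ => match i with | true => o₁ | false => o₂)
    (fun x => by
      rcases hcov x with ⟨y, hy⟩ | ⟨y, hy⟩
      · exact ⟨⟨true⟩, y, hy⟩
      · exact ⟨⟨false⟩, y, hy⟩)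
    (fun ⟨i⟩ => match i with | true => ‹IsOpenImmersion o₁› | false => ‹IsOpenImmersion o₂›)
  haveI : LocallyOfFiniteType q := by
    refine IsZariskiLocalAtSource.of_openCover 𝒰 fun ⟨i⟩ => ?_
    cases i
    · show LocallyOfFiniteType (o₂ ≫ q); rw [hq₂]; infer_instance
    · show LocallyOfFiniteType (o₁ ≫ q); rw [hq₁]; infer_instance
  haveI : CompactSpace (V : Scheme.{u}) := isCompact_iff_compactSpace.1 (NoetherianSpace.isCompact (V : Set P))
  haveI : CompactSpace W := ⟨by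
    rw [show (Set.univ : Set W) = Set.range o₁ ∪ Set.range o₂ from (Set.eq_univ_of_forall fun x => hcov x).symm]
    exact (isCompact_range o₁.continuous).union (isCompact_range o₂.continuous)⟩
  haveI : QuasiCompact q := quasiCompact_of_compactSpace q
  haveI : IsNoetherian W := RGBlowLib.Union.isNoetherian_of_ft q
  obtain ⟨Z₀, j₀, p₀, hj₀, hj₀c, hp₀, hjp₀⟩ := RGBlowLib.compactifiable_of_noetherian q
  haveI := hj₀
  haveI := hj₀c
  haveI := hp₀
  obtain ⟨Z, j, i, hj, hd, hji, hp, -⟩ := RGBlowLib.exists_dense_compactification j₀ p₀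
  haveI := hj
  haveI := hp
  have hjπ : j ≫ i ≫ p₀ = q := by rw [reassoc_of% hji, hjp₀]
  refine ⟨Z, o₁ ≫ j, i ≫ p₀, inferInstance, inferInstance, by rw [Category.assoc, hjπ, hq₁], ?_⟩
  generalize i ≫ p₀ = π at hp hjπ ⊢
  haveI := hp
  have hmem : ∀ v : V, (o₂ ≫ j) v ∈ π ⁻¹ᵁ V := fun v => by
    show π ((o₂ ≫ j) v) ∈ V
    rw [← Scheme.Hom.comp_apply, Category.assoc, hjπ, hq₂]
    exact v.2
  let s : (V : Scheme.{u}) ⟶ π ⁻¹ᵁ V := IsOpenImmersion.lift (π ⁻¹ᵁ V).ι (o₂ ≫ j) (by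
    rintro _ ⟨v, rfl⟩
    rw [Scheme.Opens.range_ι]
    exact hmem v)
  have hsι : s ≫ (π ⁻¹ᵁ V).ι = o₂ ≫ j := IsOpenImmersion.lift_fac _ _ _
  have hs : s ≫ (π ∣_ V) = 𝟙 _ := by
    rw [← cancel_mono V.ι, Category.assoc, morphismRestrict_ι, reassoc_of% hsι, hjπ, hq₂, Category.id_comp]
  haveI : IsOpenImmersion (s ≫ (π ⁻¹ᵁ V).ι) := by rw [hsι]; infer_instance
  haveI : IsOpenImmersion s := IsOpenImmersion.of_comp s (π ⁻¹ᵁ V).ι
  haveI : IsProper (π ∣_ V) := MorphismProperty.of_isPullback (P := @IsProper) (isPullback_morphismRestrict π V).flip hp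
  haveI : IsProper (s ≫ (π ∣_ V)) := by rw [hs]; infer_instance
  haveI : IsProper s := IsProper.of_comp s (π ∣_ V)
  haveI : Surjective s := ⟨fun z => by
    by_contra hz
    let O : Set Z := (π ⁻¹ᵁ V).ι '' (Set.range s)ᶜ
    have hO : IsOpen O := (π ⁻¹ᵁ V).ι.isOpenEmbedding.isOpenMap _ s.isClosedMap.isClosed_range.isOpen_compl
    obtain ⟨w, t, ht, htw⟩ := hd.exists_mem_open hO ⟨_, z, hz, rfl⟩
    have hwV : π (j w) ∈ V := by rw [← htw]; exact t.2
    rw [← Scheme.Hom.comp_apply, hjπ] at hwV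
    have : w ∈ Set.range o₂ := by
      rcases hcov w with ⟨x, rfl⟩ | h
      · rw [← Scheme.Hom.comp_apply, hq₁] at hwV
        exact ⟨(f ∣_ V) ⟨x, hwV⟩, by rw [← Scheme.Hom.comp_apply, ← hw]; rfl⟩
      · exact h
    obtain ⟨v, rfl⟩ := this
    refine ht ⟨v, (π ⁻¹ᵁ V).ι.isOpenEmbedding.injective ?_⟩
    rw [htw, ← Scheme.Hom.comp_apply, hsι]
    rfl⟩
  haveI : IsIso s := (isIso_iff_isOpenImmersion_and_epi_base s).2 ⟨inferInstance, by
    rw [TopCat.epi_iff_surjective]; exact s.surjective⟩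
  haveI : IsIso (s ≫ (π ∣_ V)) := by rw [hs]; infer_instance
  exact IsIso.of_isIso_comp_left s (π ∣_ V)

end Groth.Agent.S19887

namespace Groth.Agent.S19887

open AlgebraicGeometry CategoryTheory CategoryTheory.Limits in
/-- Let k be a field and R a discrete valuation ring with a k-algebra structure, with generic point η
(an open point of Spec R). Let X be a separated k-scheme of finite type, X_R = X ×_k Spec R, and let
(X̃, φ) be a lift of X over R: X̃ is a separated R-scheme of finite type (locally of finite type and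
quasi-compact over R) and φ : X̃ → X_R an R-morphism inducing an isomorphism over η. Then there
exist a scheme Ỹ and a proper morphism ψ : Ỹ → X̃ such that (1) (Ỹ, ψ ∘ φ) is a lift of X, i.e. ψ ∘
φ is an isomorphism over η, (2) Ỹ is proper over X̃, and (3) for every compactification of X, i.e.
every open immersion of X over k into a proper k-scheme X̄ (with X̄_R = X̄ ×_k Spec R and the
induced morphism X_R → X̄_R), Ỹ embeds by an open immersion into a scheme Ỹ(X̄) proper over R and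
lifting X̄ (an R-morphism Ỹ(X̄) → X̄_R that is an isomorphism over η) such that Ỹ → Ỹ(X̄) → X̄_R
equals Ỹ → X̃ → X_R → X̄_R. (The source works over an algebraically closed field k and a discrete
valuation ring over k with residue field k, and its compactifications are dense open immersions;
none of this is used.) -/
theorem result
    (k : Type u) [Field k] (R : Type u) [CommRing R] [IsDomain R] [IsDiscreteValuationRing R] [Algebra k R]
    (η : (Spec (CommRingCat.of R)).Opens) (hη : (η : Set ↥(Spec (CommRingCat.of R))) = {genericPoint ↥(Spec (CommRingCat.of R))})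
    (X : Scheme.{u}) (pX : X ⟶ Spec (CommRingCat.of k)) [IsSeparated pX] [LocallyOfFiniteType pX] [QuasiCompact pX]
    (XR : Scheme.{u}) (a : XR ⟶ X) (b : XR ⟶ Spec (CommRingCat.of R)) (hXR : IsPullback a b pX (Spec.map (CommRingCat.ofHom (algebraMap k R))))
    (Xt : Scheme.{u}) (q : Xt ⟶ Spec (CommRingCat.of R)) [IsSeparated q] [LocallyOfFiniteType q] [QuasiCompact q]
    (φ : Xt ⟶ XR) (hφ : φ ≫ b = q) (hφη : IsIso (φ ∣_ (b ⁻¹ᵁ η))) :
    ∃ (Y : Scheme.{u}) (ψ : Y ⟶ Xt), IsProper ψ ∧ IsIso ((ψ ≫ φ) ∣_ (b ⁻¹ᵁ η)) ∧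
      ∀ (Xb : Scheme.{u}) (pXb : Xb ⟶ Spec (CommRingCat.of k)) [IsProper pXb] (jX : X ⟶ Xb) [IsOpenImmersion jX]
        (hj : jX ≫ pXb = pX)
        (XbR : Scheme.{u}) (ab : XbR ⟶ Xb) (bb : XbR ⟶ Spec (CommRingCat.of R)) (hXbR : IsPullback ab bb pXb (Spec.map (CommRingCat.ofHom (algebraMap k R))))
        (jR : XR ⟶ XbR) (hjR₁ : jR ≫ ab = a ≫ jX) (hjR₂ : jR ≫ bb = b),
        ∃ (Yb : Scheme.{u}) (qb : Yb ⟶ Spec (CommRingCat.of R)) (_ : IsProper qb) (φb : Yb ⟶ XbR) (_ : φb ≫ bb = qb)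
          (_ : IsIso (φb ∣_ (bb ⁻¹ᵁ η))) (e : Y ⟶ Yb) (_ : IsOpenImmersion e),
          e ≫ φb = ψ ≫ φ ≫ jR := by
  refine ⟨Xt, 𝟙 Xt, inferInstance, by rw [Category.id_comp]; exact hφη, ?_⟩
  intro Xb pXb _ jX _ hj XbR ab bb hXbR jR hjR₁ hjR₂
  haveI : IsNoetherian (Spec (CommRingCat.of R)) := inferInstance
  haveI : IsProper bb := MorphismProperty.of_isPullback (P := @IsProper) hXbR inferInstance
  haveI : IsNoetherian XbR := RGBlowLib.Union.isNoetherian_of_ft bb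
  subst hjR₂
  subst hj
  have hsq : IsPullback a jR jX ab := IsPullback.of_bot hXR hjR₁.symm hXbR
  haveI : IsOpenImmersion jR := MorphismProperty.of_isPullback (P := @IsOpenImmersion) hsq inferInstance
  haveI : IsSeparated ((φ ≫ jR) ≫ bb) := by rw [Category.assoc, hφ]; infer_instance
  haveI : IsSeparated (φ ≫ jR) := IsSeparated.of_comp (φ ≫ jR) bb
  haveI : LocallyOfFiniteType ((φ ≫ jR) ≫ bb) := by rw [Category.assoc, hφ]; infer_instance
  haveI : LocallyOfFiniteType (φ ≫ jR) := locallyOfFiniteType_of_comp (φ ≫ jR) bb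
  haveI : QuasiCompact ((φ ≫ jR) ≫ bb) := by rw [Category.assoc, hφ]; infer_instance
  haveI : QuasiCompact (φ ≫ jR) := QuasiCompact.of_comp (φ ≫ jR) bb
  haveI : IsOpenImmersion ((φ ≫ jR) ∣_ (bb ⁻¹ᵁ η)) := by
    haveI : IsIso (φ ∣_ (jR ⁻¹ᵁ (bb ⁻¹ᵁ η))) := hφη
    rw [morphismRestrict_comp]
    exact inferInstanceAs (IsOpenImmersion ((φ ∣_ (jR ⁻¹ᵁ (bb ⁻¹ᵁ η))) ≫ (jR ∣_ (bb ⁻¹ᵁ η))))
  obtain ⟨Z, e, π, he, hπ, heπ, hiso⟩ := exists_proper_extension (φ ≫ jR) (bb ⁻¹ᵁ η)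
  haveI := hπ
  exact ⟨Z, π ≫ bb, inferInstance, π, rfl, hiso, e, he, by rw [heπ, Category.id_comp]⟩

end Groth.Agent.S19887
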