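import Groth.Statements.S19889
import Groth.Agent.GrpSchLib.TorsionLift
-- import your own Groth.Agent.* helpers here

set_option autoImplicit false
universe u
open CategoryTheory CategoryTheory.Limits MonoidalCategory CartesianMonoidalCategory MonObj GrpObj AlgebraicGeometry
open GrpSch

namespace Groth.Agent.S19889

/-- Let k be an algebraically closed field, G a commutative group scheme locally of finite type over k,
and i : G⁰ → G its identity component (a homomorphism that is an open immersion onto the connected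
component of the unit point). Then the natural map from the torsion subgroup of G(k) to the torsion
subgroup of G(k)/G⁰(k) is surjective: if g is a k-point of G and gⁿ lies in G⁰(k) for some n ≥ 1,
then there is a k-point t of G of finite order such that t⁻¹ g lies in G⁰(k). -/
theorem result (k : Type u) [Field k] [IsAlgClosed k]
    {G G0 : Over (Spec (CommRingCat.of k))} [GrpObj G] [IsCommMonObj G] [GrpObj G0]
    [LocallyOfFiniteType G.hom] (i : G0 ⟶ G) [IsMonHom i] (hi : AutSch.IsIdComp i)
    (g : 𝟙_ (Over (Spec (CommRingCat.of k))) ⟶ G) (n : ℕ) (hn : 0 < n)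
    (hg : g ^ n ∈ AutSch.ptsRange i) :
    ∃ t : 𝟙_ (Over (Spec (CommRingCat.of k))) ⟶ G, IsOfFinOrder t ∧ t⁻¹ * g ∈ AutSch.ptsRange i := by
  letI : CommGroup (𝟙_ (Over (Spec (CommRingCat.of k))) ⟶ G) := Hom.commGroup
  obtain ⟨_, ho, hr⟩ := hi
  haveI := ho
  rw [AutSch.neutralSet_eq_connectedComponent] at hr
  obtain ⟨u, hu⟩ := (AutSch.mem_ptsRange_iff i _).1 hg
  obtain ⟨v, N, hN, h⟩ := GrpSchLib.exists_isOfFinOrder i hr g n hn u hu
  refine ⟨g * (v ≫ i)⁻¹, isOfFinOrder_iff_pow_eq_one.2 ⟨N, hN, h⟩, (AutSch.mem_ptsRange_iff i _).2 ⟨v, ?_⟩⟩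
  rw [_root_.mul_inv_rev, _root_.inv_inv, _root_.mul_assoc, inv_mul_cancel, _root_.mul_one]

end Groth.Agent.S19889
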