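import Groth.Statements.S1989
import Mathlib
import Groth.Prelude.Def_EtRam

universe u
namespace Groth.Agent.S1989
open IsLocalRing

/-- Extension of valuation subrings. -/
theorem exists_extension {L M : Type u} [Field L] [Field M] (f : L →+* M) (V : ValuationSubring L) :
    ∃ W : ValuationSubring M, W.comap f = V := by
  let S : Subring M := V.toSubring.map f
  let e : V ≃+* S := V.toSubring.equivMapOfInjective f f.injective
  haveI : IsLocalRing S := RingEquiv.isLocalRing e
  obtain ⟨W, hle, hloc⟩ := (⟨S⟩ : LocalSubring M).exists_le_valuationSubring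
  refine ⟨W, le_antisymm (fun x hx => ?_) (fun x hx => hle ⟨x, hx, rfl⟩)⟩
  by_contra hxV
  have hx0 : x ≠ 0 := fun h => hxV (h ▸ V.zero_mem)
  have hinv : x⁻¹ ∈ V := (V.mem_or_inv_mem x).resolve_left hxV
  have hu : IsUnit (e ⟨x⁻¹, hinv⟩) := by
    refine hloc.map_nonunit _ (isUnit_iff_exists_inv.2 ⟨⟨f x, hx⟩, Subtype.ext ?_⟩)
    show f x⁻¹ * f x = 1
    rw [← map_mul, inv_mul_cancel₀ hx0, map_one]
  obtain ⟨⟨y, hy⟩, hy'⟩ := isUnit_iff_exists_inv.1 ((MulEquiv.isUnit_map e).1 hu)
  have h1 : x⁻¹ * y = 1 := congrArg Subtype.val hy'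
  have : y = x := by rwa [inv_mul_eq_one₀ hx0, eq_comm] at h1
  exact hxV (this ▸ hy)

theorem dominates_comap {A : Type u} [CommRing A] [IsLocalRing A] {L M : Type u} [Field L] [Field M]
    (g : A →+* L) (f : L →+* M) (W : ValuationSubring M) (h : EtRam.Dominates A g (W.comap f)) :
    EtRam.Dominates A (f.comp g) W := by
  refine ⟨fun a => h.1 a, fun a ha => ?_⟩
  have h1 := h.2 a ha
  have ha' := h.1 a
  rw [show g a = ((⟨g a, ha'⟩ : W.comap f) : L) from rfl, ← ValuationSubring.valuation_lt_one_iff,
    mem_maximalIdeal, mem_nonunits_iff] at h1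
  rw [RingHom.comp_apply, show f (g a) = ((⟨f (g a), ha'⟩ : W) : M) from rfl,
    ← ValuationSubring.valuation_lt_one_iff, mem_maximalIdeal, mem_nonunits_iff]
  exact fun hu => h1 ((EtRam.isLocalHom_inclOfComap W f).map_nonunit ⟨g a, ha'⟩ hu)

/-- A valuation subring dominating a DVR in a finite separable extension is a DVR. -/
theorem isDVR {A K L : Type u} [CommRing A] [IsDomain A] [IsDiscreteValuationRing A] [Field K]
    [Algebra A K] [IsFractionRing A K] [Field L] [Algebra K L] [Algebra A L] [IsScalarTower A K L]
    [FiniteDimensional K L] [Algebra.IsSeparable K L]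
    (V : ValuationSubring L) (h : EtRam.Dominates A (algebraMap A L) V) :
    IsDiscreteValuationRing V := by
  let C := integralClosure A L
  haveI : IsDedekindDomain C := integralClosure.isDedekindDomain A K L
  haveI : IsFractionRing C L := integralClosure.isFractionRing_of_finite_extension K L
  have hCV : ∀ c : C, (c : L) ∈ V := by
    intro c
    obtain ⟨P, hP, hP'⟩ := (c.2 : IsIntegral A (c : L))
    letI : Algebra A V := (RingHom.codRestrict (algebraMap A L) V h.1).toAlgebra
    haveI : IsScalarTower A V L := IsScalarTower.of_algebraMap_eq fun a => rfl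
    obtain ⟨v, hv⟩ := IsIntegrallyClosed.isIntegral_iff.1
      (IsIntegral.tower_top (A := V) (c.2 : IsIntegral A (c : L)))
    rw [← hv]; exact v.2
  let φ : C →+* V := RingHom.codRestrict C.val.toRingHom V.toSubring hCV
  let P : Ideal C := (maximalIdeal V).comap φ
  haveI : P.IsPrime := inferInstance
  obtain ⟨π, hπ⟩ := IsDiscreteValuationRing.exists_irreducible A
  have hπP : algebraMap A C π ∈ P := by
    show φ (algebraMap A C π) ∈ maximalIdeal V
    rw [ValuationSubring.valuation_lt_one_iff]
    exact h.2 π hπ.not_isUnit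
  have hinjAL : Function.Injective (algebraMap A L) := by
    rw [IsScalarTower.algebraMap_eq A K L, RingHom.coe_comp]
    exact (algebraMap K L).injective.comp (IsFractionRing.injective A K)
  have hP0 : P ≠ ⊥ := fun hb => by
    rw [hb, Ideal.mem_bot] at hπP
    exact hπ.ne_zero (hinjAL ((congrArg Subtype.val hπP).trans (map_zero _).symm))
  haveI : IsDiscreteValuationRing (Localization.AtPrime P) :=
    IsLocalization.AtPrime.isDiscreteValuationRing_of_dedekind_domain C hP0 _
  have hunit : ∀ s : P.primeCompl, IsUnit (φ s) := fun s => by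
    by_contra hu
    exact s.2 hu
  let ψ : Localization.AtPrime P →+* V := IsLocalization.lift (M := P.primeCompl) hunit
  have hψ : ∀ c : C, ψ (algebraMap C _ c) = φ c := fun c => IsLocalization.lift_eq hunit c
  have hbij : Function.Bijective ψ := by
    constructor
    · rw [injective_iff_map_eq_zero]
      intro z hz
      obtain ⟨⟨c, s⟩, hc⟩ := IsLocalization.surj P.primeCompl z
      have h1 : φ c = 0 := by rw [← hψ, ← hc, map_mul, hz, zero_mul]
      have h2 : c = 0 := Subtype.ext ((congrArg Subtype.val h1 : (φ c : L) = _))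
      rw [h2, map_zero] at hc
      exact (IsLocalization.map_units _ s).mul_left_eq_zero.1 hc
    · intro v
      obtain ⟨ϖ, hϖ⟩ := IsDiscreteValuationRing.exists_irreducible (Localization.AtPrime P)
      let κ : Localization.AtPrime P →+* L := V.subtype.comp ψ
      obtain ⟨⟨c, s⟩, hcs⟩ := IsLocalization.surj (nonZeroDivisors C) (v : L)
      obtain ⟨s, hs⟩ := s
      by_cases hc0 : c = 0
      · refine ⟨0, ?_⟩
        rw [hc0, map_zero] at hcs
        have : (v : L) = 0 := (mul_eq_zero.1 hcs).resolve_right
          (IsFractionRing.to_map_ne_zero_of_mem_nonZeroDivisors hs)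
        rw [map_zero]; exact Subtype.ext this.symm
      have hinjloc : Function.Injective (algebraMap C (Localization.AtPrime P)) :=
        IsLocalization.injective _ P.primeCompl_le_nonZeroDivisors
      obtain ⟨i, u, hiu⟩ := IsDiscreteValuationRing.eq_unit_mul_pow_irreducible
        (fun h0 => hc0 (hinjloc (h0.trans (map_zero _).symm))) hϖ
      obtain ⟨j, w, hjw⟩ := IsDiscreteValuationRing.eq_unit_mul_pow_irreducible
        (fun h0 => nonZeroDivisors.ne_zero hs (hinjloc (h0.trans (map_zero _).symm))) hϖ
      have hk : ∀ c : C, κ (algebraMap C _ c) = (c : L) := fun c => congrArg Subtype.val (hψ c)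
      have heq : (v : L) * κ (algebraMap C _ s) = κ (algebraMap C _ c) := by rw [hk, hk]; exact hcs
      rw [hiu, hjw, map_mul, map_mul, map_pow, map_pow] at heq
      have hu1 : κ (u : Localization.AtPrime P) ≠ 0 := (u.isUnit.map κ).ne_zero
      have hw1 : κ (w : Localization.AtPrime P) ≠ 0 := (w.isUnit.map κ).ne_zero
      by_cases hij : j ≤ i
      · refine ⟨(↑w⁻¹ : Localization.AtPrime P) * u * ϖ ^ (i - j), Subtype.ext ?_⟩
        show κ _ = (v : L)
        have hϖ0 : κ ϖ ≠ 0 := fun h0 => by
          obtain ⟨⟨e, t⟩, ht⟩ := IsLocalization.surj P.primeCompl ϖ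
          have h2 : κ (algebraMap C _ e) = 0 := by rw [← ht, map_mul, h0, zero_mul]
          rw [hk] at h2
          rw [show e = 0 from Subtype.ext h2, map_zero] at ht
          exact hϖ.ne_zero ((IsLocalization.map_units _ t).mul_left_eq_zero.1 ht)
        have h3 : κ (↑w⁻¹ : Localization.AtPrime P) * κ w = 1 := by rw [← map_mul, Units.inv_mul, map_one]
        rw [← Nat.sub_add_cancel hij, pow_add] at heq
        rw [map_mul, map_mul, map_pow]
        apply mul_right_cancel₀ (mul_ne_zero hw1 (pow_ne_zero j hϖ0))
        rw [heq]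
        linear_combination (κ ϖ) ^ (i - j) * κ ϖ ^ j * κ u * h3
      · exfalso
        have hm : ψ ϖ ∈ maximalIdeal V := by
          obtain ⟨⟨e, t⟩, ht⟩ := IsLocalization.surj P.primeCompl ϖ
          have he : e ∈ P := by
            by_contra he
            exact hϖ.not_isUnit (isUnit_of_mul_isUnit_left
              (ht ▸ IsLocalization.map_units (Localization.AtPrime P) (⟨e, he⟩ : P.primeCompl)))
          have h2 : ψ ϖ * φ t = φ e := by rw [← hψ, ← hψ, ← map_mul, ht]
          exact ((maximalIdeal V).mul_unit_mem_iff_mem (hunit t)).1 (h2 ▸ he)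
        have hc1 : κ (u : Localization.AtPrime P) = (v : L) * κ (w : Localization.AtPrime P) * κ ϖ ^ (j - i) := by
          rw [← Nat.sub_add_cancel (Nat.le_of_not_le hij), pow_add] at heq
          by_cases hz : κ ϖ ^ i = 0
          · exfalso
            rw [hz, mul_zero] at heq
            have h5 : κ (algebraMap C _ c) = 0 := by rw [hiu, map_mul, map_pow, hz, mul_zero]
            rw [hk] at h5
            exact hc0 (Subtype.ext h5)
          · apply mul_right_cancel₀ hz
            linear_combination -heq
        have hu2 : IsUnit (ψ u) := u.isUnit.map ψ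
        have hmem : ψ u ∈ maximalIdeal V := by
          have : ψ u = v * ψ w * ψ ϖ ^ (j - i) := Subtype.ext hc1
          rw [this]
          exact Ideal.mul_mem_left _ _ (Ideal.pow_mem_of_mem _ hm _ (by omega))
        exact hmem hu2
  exact IsDiscreteValuationRing.RingEquivClass.isDiscreteValuationRing (RingEquiv.ofBijective ψ hbij)

theorem ramificationIdx'_eq {A V : Type*} [CommRing A] [IsLocalRing A] [CommRing V] [IsDomain V]
    [IsDiscreteValuationRing V] [Algebra A V] (n : ℕ)
    (h : (maximalIdeal A).map (algebraMap A V) = maximalIdeal V ^ n) :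
    Ideal.ramificationIdx' (maximalIdeal A) (maximalIdeal V) = n := by
  refine Ideal.ramificationIdx'_spec h.le ?_
  rw [h]
  intro hle
  obtain ⟨ϖ, hϖ⟩ := IsDiscreteValuationRing.exists_irreducible V
  rw [hϖ.maximalIdeal_eq, Ideal.span_singleton_pow, Ideal.span_singleton_pow,
    Ideal.span_singleton_le_span_singleton, pow_dvd_pow_iff hϖ.ne_zero hϖ.not_isUnit] at hle
  omega

theorem exists_pow {A V : Type*} [CommRing A] [IsLocalRing A] [CommRing V] [IsDomain V]
    [IsDiscreteValuationRing V] [Algebra A V] (h : (maximalIdeal A).map (algebraMap A V) ≠ ⊥) :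
    ∃ n : ℕ, (maximalIdeal A).map (algebraMap A V) = maximalIdeal V ^ n := by
  obtain ⟨ϖ, hϖ⟩ := IsDiscreteValuationRing.exists_irreducible V
  obtain ⟨n, hn⟩ := IsDiscreteValuationRing.ideal_eq_span_pow_irreducible h hϖ
  exact ⟨n, by rw [hn, hϖ.maximalIdeal_eq, Ideal.span_singleton_pow]⟩

end Groth.Agent.S1989


set_option autoImplicit false
open EtAlg

namespace Groth.Agent.S1989

/-- Let K be the fraction field of a discrete valuation ring A, and K ⊂ L ⊂ M finite separable
extensions. If M is tamely ramified, respectively unramified, with respect to A, then so is L. -/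
theorem result (A K : Type u) [CommRing A] [IsDomain A] [IsDiscreteValuationRing A] [Field K] [Algebra A K] [IsFractionRing A K] (L M : Type u) [Field L] [Field M]
    [Algebra K L] [Algebra K M] [Algebra L M] [IsScalarTower K L M] [FiniteDimensional K M] [Algebra.IsSeparable K M] :
    (EtRam.IsTamelyRamified A ((algebraMap K M).comp (algebraMap A K)) →
      EtRam.IsTamelyRamified A ((algebraMap K L).comp (algebraMap A K))) ∧
    (EtRam.IsUnramifiedExt A ((algebraMap K M).comp (algebraMap A K)) →
      EtRam.IsUnramifiedExt A ((algebraMap K L).comp (algebraMap A K))) := by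
  classical
  haveI : FiniteDimensional K L :=
    Module.Finite.of_injective (IsScalarTower.toAlgHom K L M).toLinearMap (algebraMap L M).injective
  haveI : Algebra.IsSeparable K L := Algebra.isSeparable_tower_bot_of_isSeparable K L M
  letI : Algebra A L := ((algebraMap K L).comp (algebraMap A K)).toAlgebra
  haveI : IsScalarTower A K L := IsScalarTower.of_algebraMap_eq' rfl
  letI : Algebra A M := ((algebraMap K M).comp (algebraMap A K)).toAlgebra
  haveI : IsScalarTower A K M := IsScalarTower.of_algebraMap_eq' rfl
  have hcomp : ((algebraMap K M).comp (algebraMap A K)) =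
      (algebraMap L M).comp ((algebraMap K L).comp (algebraMap A K)) := by
    rw [← RingHom.comp_assoc, ← IsScalarTower.algebraMap_eq K L M]
  constructor
  · intro hM V hV
    letI : Algebra A V := (RingHom.codRestrict ((algebraMap K L).comp (algebraMap A K)) V hV.1).toAlgebra
    intro _
    obtain ⟨W, rfl⟩ := exists_extension (algebraMap L M) V
    have hW : EtRam.Dominates A ((algebraMap K M).comp (algebraMap A K)) W :=
      hcomp ▸ dominates_comap _ _ W hV
    letI : Algebra A W := (RingHom.codRestrict ((algebraMap K M).comp (algebraMap A K)) W hW.1).toAlgebra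
    haveI : IsLocalHom (algebraMap A W) := ⟨fun a ha => by
      by_contra hna
      exact ((ValuationSubring.valuation_lt_one_iff W _).2 (hW.2 a hna)) ha⟩
    obtain ⟨hsep, htame⟩ := hM W hW
    letI : Algebra (W.comap (algebraMap L M)) W := (EtRam.inclOfComap W (algebraMap L M)).toAlgebra
    haveI : IsLocalHom (algebraMap (W.comap (algebraMap L M)) W) :=
      EtRam.isLocalHom_inclOfComap W (algebraMap L M)
    haveI : IsScalarTower A (W.comap (algebraMap L M)) W :=
      IsScalarTower.of_algebraMap_eq fun a => Subtype.ext (RingHom.congr_fun hcomp a)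
    refine ⟨Algebra.isSeparable_tower_bot_of_isSeparable (IsLocalRing.ResidueField A)
      (IsLocalRing.ResidueField (W.comap (algebraMap L M))) (IsLocalRing.ResidueField W), ?_⟩
    intro p hp hchar hdvd
    haveI := isDVR (K := K) (A := A) (W.comap (algebraMap L M)) hV
    haveI := isDVR (K := K) (A := A) W hW
    obtain ⟨π, hπ⟩ := IsDiscreteValuationRing.exists_irreducible A
    have hinjM : Function.Injective (algebraMap A M) :=
      (algebraMap K M).injective.comp (IsFractionRing.injective A K)
    have hne : (IsLocalRing.maximalIdeal A).map (algebraMap A W) ≠ ⊥ := by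
      intro h0
      have h1 : algebraMap A W π = 0 := by
        rw [← Ideal.mem_bot, ← h0]
        exact Ideal.mem_map_of_mem _ hπ.not_isUnit
      exact hπ.ne_zero (hinjM ((congrArg Subtype.val h1).trans (map_zero (algebraMap A M)).symm))
    have hne' : (IsLocalRing.maximalIdeal A).map (algebraMap A (W.comap (algebraMap L M))) ≠ ⊥ := by
      intro h0
      apply hne
      rw [IsScalarTower.algebraMap_eq A (W.comap (algebraMap L M)) W, ← Ideal.map_map, h0, Ideal.map_bot]
    obtain ⟨n, hn⟩ := exists_pow hne'
    rw [ramificationIdx'_eq n hn] at hdvd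
    have hne2 : (IsLocalRing.maximalIdeal (W.comap (algebraMap L M))).map
        (algebraMap (W.comap (algebraMap L M)) W) ≠ ⊥ := by
      intro h0
      apply hne
      rw [IsScalarTower.algebraMap_eq A (W.comap (algebraMap L M)) W, ← Ideal.map_map]
      exact bot_unique ((Ideal.map_mono (Ideal.map_le_iff_le_comap.2 fun a ha => by
        rw [Ideal.mem_comap, IsLocalRing.mem_maximalIdeal, mem_nonunits_iff]
        exact fun hu => ha (isUnit_of_map_unit (algebraMap A _) a hu))).trans h0.le)
    obtain ⟨m, hm⟩ := exists_pow hne2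
    apply htame p hp hchar
    rw [ramificationIdx'_eq (n * m) (by
      rw [IsScalarTower.algebraMap_eq A (W.comap (algebraMap L M)) W, ← Ideal.map_map, hn,
        Ideal.map_pow, hm, ← pow_mul, mul_comm])]
    exact hdvd.mul_right m
  · intro hM V hV
    letI : Algebra A V := (RingHom.codRestrict ((algebraMap K L).comp (algebraMap A K)) V hV.1).toAlgebra
    intro _
    obtain ⟨W, rfl⟩ := exists_extension (algebraMap L M) V
    have hW : EtRam.Dominates A ((algebraMap K M).comp (algebraMap A K)) W :=
      hcomp ▸ dominates_comap _ _ W hV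
    letI : Algebra A W := (RingHom.codRestrict ((algebraMap K M).comp (algebraMap A K)) W hW.1).toAlgebra
    haveI : IsLocalHom (algebraMap A W) := ⟨fun a ha => by
      by_contra hna
      exact ((ValuationSubring.valuation_lt_one_iff W _).2 (hW.2 a hna)) ha⟩
    obtain ⟨hweak, hsep⟩ := hM W hW
    letI : Algebra (W.comap (algebraMap L M)) W := (EtRam.inclOfComap W (algebraMap L M)).toAlgebra
    haveI : IsLocalHom (algebraMap (W.comap (algebraMap L M)) W) :=
      EtRam.isLocalHom_inclOfComap W (algebraMap L M)
    haveI : IsScalarTower A (W.comap (algebraMap L M)) W :=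
      IsScalarTower.of_algebraMap_eq fun a => Subtype.ext (RingHom.congr_fun hcomp a)
    refine ⟨?_, Algebra.isSeparable_tower_bot_of_isSeparable (IsLocalRing.ResidueField A)
      (IsLocalRing.ResidueField (W.comap (algebraMap L M))) (IsLocalRing.ResidueField W)⟩
    obtain ⟨π, hπ⟩ := IsDiscreteValuationRing.exists_irreducible A
    have hinjL : Function.Injective (algebraMap A L) :=
      (algebraMap K L).injective.comp (IsFractionRing.injective A K)
    refine le_antisymm (Ideal.map_le_iff_le_comap.2 fun a ha => ?_) fun x hx => ?_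
    · rw [Ideal.mem_comap, IsLocalRing.mem_maximalIdeal, mem_nonunits_iff]
      exact fun hu => ha (isUnit_of_map_unit (algebraMap A _) a hu)
    · have hxW : algebraMap (W.comap (algebraMap L M)) W x ∈
          (IsLocalRing.maximalIdeal A).map (algebraMap A W) := by
        rw [show (IsLocalRing.maximalIdeal A).map (algebraMap A W) = IsLocalRing.maximalIdeal W from hweak]
        exact map_nonunit (algebraMap _ W) x hx
      rw [hπ.maximalIdeal_eq, Ideal.map_span, Set.image_singleton, Ideal.mem_span_singleton] at hxW
      obtain ⟨w, hw⟩ := hxW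
      have hw' : algebraMap L M (x : L) = algebraMap L M (algebraMap A L π) * (w : M) :=
        (congrArg Subtype.val hw).trans (congrArg (· * (w : M)) (RingHom.congr_fun hcomp π))
      have hπL : algebraMap A L π ≠ 0 := fun h => hπ.ne_zero (hinjL (h.trans (map_zero _).symm))
      have hq : algebraMap L M ((x : L) / algebraMap A L π) = (w : M) := by
        rw [map_div₀, hw', mul_div_cancel_left₀ _ (fun h => hπL ((algebraMap L M).injective (h.trans (map_zero _).symm)))]
      have hmem : (x : L) / algebraMap A L π ∈ W.comap (algebraMap L M) := by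
        show algebraMap L M _ ∈ W
        rw [hq]; exact w.2
      have : x = algebraMap A (W.comap (algebraMap L M)) π * ⟨_, hmem⟩ := Subtype.ext (by
        show (x : L) = algebraMap A L π * ((x : L) / algebraMap A L π)
        rw [mul_div_cancel₀ _ hπL])
      rw [this]
      exact Ideal.mul_mem_right _ _ (Ideal.mem_map_of_mem _ hπ.not_isUnit)

end Groth.Agent.S1989
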