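import Mathlib
import Groth.Statements.S19890

set_option autoImplicit false
universe u
open CAlg

namespace Groth.Agent.S19890

/-- Let R → R' be a faithfully flat ring map between Noetherian integrally closed local domains. Then
unique factorization descends along this map: when R' is a UFD, so is R. (The first assertion of the
lemma, descent of principality for an ideal whose extension to R' is principal, is a separate
statement.) -/
theorem result
    (R R' : Type u) [CommRing R] [CommRing R'] [IsDomain R] [IsDomain R']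
    [IsNoetherianRing R] [IsNoetherianRing R'] [IsLocalRing R] [IsLocalRing R']
    [IsIntegrallyClosed R] [IsIntegrallyClosed R']
    [Algebra R R'] [Module.FaithfullyFlat R R'] [UniqueFactorizationMonoid R'] :
    UniqueFactorizationMonoid R := by
  classical
  suffices DecompositionMonoid R from ufm_of_decomposition_of_wfDvdMonoid
  suffices h : ∀ a b : R, ∃ c : R, ∀ d : R, a ∣ d ∧ b ∣ d ↔ c ∣ d by
    letI := gcdMonoidOfExistsLCM h
    infer_instance
  intro a b
  rcases eq_or_ne a 0 with rfl | ha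
  · exact ⟨0, fun d => ⟨fun h => h.1, fun h => ⟨h, (dvd_zero b).trans h⟩⟩⟩
  let φ := algebraMap R R'
  letI := UniqueFactorizationMonoid.toGCDMonoid R'
  obtain ⟨c, hc⟩ := dvd_lcm_left (φ a) (φ b)
  have hφa : φ a ≠ 0 := fun h => ha (FaithfulSMul.algebraMap_injective R R' (h.trans (map_zero φ).symm))
  let J : Ideal R := Submodule.comap (LinearMap.mulLeft R a) (Ideal.span {b})
  have hJmem : ∀ x, x ∈ J ↔ b ∣ a * x := fun x => Ideal.mem_span_singleton
  have hJ' : ∀ x : R', φ b ∣ φ a * x ↔ c ∣ x := fun x => by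
    rw [show c ∣ x ↔ φ a * c ∣ φ a * x from (mul_dvd_mul_iff_left hφa).symm, ← hc]
    exact ⟨fun h => lcm_dvd (dvd_mul_right _ _) h, fun h => (dvd_lcm_right _ _).trans h⟩
  have hmap : J.map φ = Ideal.span {c} := by
    refine le_antisymm (Ideal.map_le_iff_le_comap.mpr fun x hx => ?_) ?_
    · rw [Ideal.mem_comap, Ideal.mem_span_singleton, ← hJ', ← map_mul]
      exact map_dvd φ ((hJmem x).mp hx)
    · rw [Ideal.span_le, Set.singleton_subset_iff]
      obtain ⟨y, hy⟩ := (hJ' c).mpr dvd_rfl
      have hsum : ∑ i : Fin 2, (![a, -b] i) • (![c, y] i) = (0 : R') := by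
        simp [Fin.sum_univ_two, Algebra.smul_def, φ] at hy ⊢
        rw [hy]; ring
      obtain ⟨k, A, z, hz, hA⟩ := Module.Flat.isTrivialRelation_of_sum_smul_eq_zero (R := R) (M := R') (f := ![a, -b]) (x := ![c, y]) (by convert hsum)
      have h0 := hz 0
      simp only [Matrix.cons_val_zero] at h0
      rw [SetLike.mem_coe, h0]
      refine sum_mem fun j _ => ?_
      rw [Algebra.smul_def]
      refine Ideal.mul_mem_right _ _ (Ideal.mem_map_of_mem φ ((hJmem _).mpr ⟨A 1 j, ?_⟩))
      have := hA j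
      simp [Fin.sum_univ_two] at this
      linear_combination this
  suffices hd : ∃ d, J = Ideal.span {d} by
    obtain ⟨d, hd⟩ := hd
    refine ⟨a * d, fun x => ⟨?_, fun h => ⟨(dvd_mul_right _ _).trans h, ?_⟩⟩⟩
    · rintro ⟨⟨t, rfl⟩, h2⟩
      exact mul_dvd_mul_left a (Ideal.mem_span_singleton.mp (hd ▸ (hJmem t).mpr h2))
    · exact ((hJmem d).mp (hd ▸ Ideal.mem_span_singleton_self d)).trans h
  rcases eq_or_ne c 0 with hc0 | hc0
  · refine ⟨0, ?_⟩
    rw [Ideal.span_singleton_zero, eq_bot_iff]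
    intro x hx
    have : φ x ∈ J.map φ := Ideal.mem_map_of_mem φ hx
    rw [hmap, hc0, Ideal.span_singleton_zero, Ideal.mem_bot] at this
    exact FaithfulSMul.algebraMap_injective R R' (this.trans (map_zero φ).symm)
  obtain ⟨x, hxJ, hxu⟩ : ∃ x ∈ J, ∃ s : R', φ x = c * s ∧ IsUnit s := by
    by_contra! hcon
    have hle : J.map φ ≤ Ideal.span {c} * IsLocalRing.maximalIdeal R' := by
      refine Ideal.map_le_iff_le_comap.mpr fun x hx => ?_
      obtain ⟨s, hs⟩ : c ∣ φ x := Ideal.mem_span_singleton.mp (hmap ▸ Ideal.mem_map_of_mem φ hx)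
      rw [Ideal.mem_comap, hs]
      exact Ideal.mul_mem_mul (Ideal.mem_span_singleton_self c) (hcon x hx s hs)
    obtain ⟨s, hs, hcs⟩ := Ideal.mem_span_singleton_mul.mp (hle (hmap ▸ Ideal.mem_span_singleton_self c))
    have : s = 1 := mul_left_cancel₀ hc0 (hcs.trans (mul_one c).symm)
    exact (IsLocalRing.mem_maximalIdeal _).mp hs (this ▸ isUnit_one)
  obtain ⟨s, hs, hsu⟩ := hxu
  refine ⟨x, ?_⟩
  rw [← Ideal.comap_map_eq_self_of_faithfullyFlat (B := R') J,
    ← Ideal.comap_map_eq_self_of_faithfullyFlat (B := R') (Ideal.span {x})]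
  congr 1
  rw [hmap, Ideal.map_span, Set.image_singleton]
  exact Ideal.span_singleton_eq_span_singleton.mpr ⟨hsu.unit, by simp [← hs, φ]⟩

end Groth.Agent.S19890
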