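import Groth.Statements.S19892
import Groth.Agent.ValGen.Basic
-- import your own Groth.Agent.* helpers here

set_option autoImplicit false
universe u
open CategoryTheory AlgebraicGeometry
open ValCrit

namespace Groth.Agent.S19892

/-- Let h : Z → Y and f : Y → X be morphisms of quasi-compact quasi-separated schemes, with h dominant
and f locally of finite type. Then f is proper if and only if the following refined valuative
criterion holds: for every point z of Z, every valuation ring R of the residue field κ(z) and every
morphism φ : Spec R → X whose restriction to Spec κ(z) is the canonical morphism Spec κ(z) → Z → Y →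
X, there is exactly one morphism Spec R → Y lying over φ and restricting to Spec κ(z) → Z → Y on the
generic point. (The published statement does not require h to be dominant; its proof uses that every
point of Y generalises to a point of h(Z), and for Z empty the criterion holds whatever f is, so
dominance of h is assumed here.) -/
theorem result {X Y Z : Scheme.{u}} (h : Z ⟶ Y) (f : Y ⟶ X)
    [CompactSpace ↥Z] [QuasiSeparatedSpace ↥Z] [CompactSpace ↥Y] [QuasiSeparatedSpace ↥Y]
    [CompactSpace ↥X] [QuasiSeparatedSpace ↥X] (hd : DenseRange h.base)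
    [LocallyOfFiniteType f] :
    IsProper f ↔
      ∀ (z : ↥Z) (R : ValuationSubring ↑(Z.residueField z)) (φ : Spec (CommRingCat.of ↥R) ⟶ X),
        Spec.map (CommRingCat.ofHom R.subtype) ≫ φ = Z.fromSpecResidueField z ≫ h ≫ f →
        ∃! φ' : Spec (CommRingCat.of ↥R) ⟶ Y,
          Spec.map (CommRingCat.ofHom R.subtype) ≫ φ' = Z.fromSpecResidueField z ≫ h ∧ φ' ≫ f = φ := by
  constructor
  · intro hf z R φ hφ
    let S : ValuativeCommSq f :=
      { R := ↥R, K := ↑(Z.residueField z), i₁ := Z.fromSpecResidueField z ≫ h, i₂ := φ,
        commSq := ⟨by rw [Category.assoc]; exact hφ.symm⟩ }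
    rw [IsProper.eq_valuativeCriterion] at hf
    obtain ⟨hu⟩ := hf.1.1.1 S
    refine ⟨hu.default.l, ⟨hu.default.fac_left, hu.default.fac_right⟩, fun ψ hψ => ?_⟩
    exact congrArg CommSq.LiftStruct.l (hu.uniq ⟨ψ, hψ.1, hψ.2⟩)
  · intro H
    haveI : IsSeparated f := ValGen.isSeparated_of_refined h f hd fun z R φ₁ φ₂ h₁ h₂ h₁₂ => by
      obtain ⟨ψ, -, hψ⟩ := H z R (φ₁ ≫ f) (by rw [← Category.assoc, h₁, Category.assoc])
      exact (hψ _ ⟨h₁, rfl⟩).trans (hψ _ ⟨h₂, h₁₂.symm⟩).symm
    haveI : UniversallyClosed f :=
      UniversallyClosed.of_valuativeCriterion f (ValGen.existence_of_refined h f hd H)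
    exact {}


end Groth.Agent.S19892
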