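import Groth.Statements.S19895
import Mathlib
import Groth.Agent.Verlinde.Orth

set_option autoImplicit false
open Complex
open VerlindeComb

namespace Groth.Agent.S19895

/-- Fix integers r ≥ 2 and k ≥ 1, and two partitions λ, λ' with k ≥ λ_1 ≥ ⋯ ≥ λ_{r-1} ≥ λ_r = 0 and k ≥
λ'_1 ≥ ⋯ ≥ λ'_{r-1} ≥ λ'_r = 0 such that λ is not equivalent to the dual partition λ'* = (k − λ'_r,
…, k − λ'_1), two integer vectors being equivalent when their difference is a constant vector (a, …,
a). For an integer vector v with r + k > v_1 > ⋯ > v_{r-1} > v_r = 0 put z(v)_j = exp(2πi v_j / (r +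
k)), let S_μ(v) = det(z(v)_j^{μ_i + r − i}) / det(z(v)_j^{r − i}) be the Schur value and P(v) =
∏_{i<j} (2 sin(π (v_i − v_j)/(r + k)))². Then the sum over all such v of exp(−2πi (|λ| + |λ'|) (v_1
+ ⋯ + v_r) / (r (r + k))) · S_λ(v) · S_{λ'}(v) · P(v) vanishes; that is, the genus-zero Verlinde
number of rank r, degree 0 and level k with two parabolic points of types λ, λ' is zero. (Only the
vanishing case is stated; the complementary case, where the number equals 1, is not part of this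
statement. The source allows r = 1, where the non-equivalence hypothesis cannot hold.) Indices are
0-based below: lam i stands for λ_{i+1}. -/
theorem result (r k : ℕ) (hr : 2 ≤ r)
    (hk : 1 ≤ k) (lam lam' : Fin r → ℕ) (hlam : Antitone lam) (hlamk : ∀ i, lam i ≤ k)
    (hlam0 : ∀ i : Fin r, (i : ℕ) = r - 1 → lam i = 0)
    (hlam' : Antitone lam') (hlam'k : ∀ i, lam' i ≤ k) (hlam'0 : ∀ i : Fin r, (i : ℕ) = r - 1 → lam' i = 0)
    (hne : ¬ ∃ a : ℤ, ∀ i, (lam i : ℤ) - ((k - lam' (Fin.rev i) : ℕ) : ℤ) = a)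
    (z : (Fin r → ℕ) → Fin r → ℂ)
    (hz : ∀ v j, z v j = Complex.exp (2 * Real.pi * Complex.I * (v j : ℂ) / ((r : ℂ) + k)))
    (S : (Fin r → ℕ) → (Fin r → ℕ) → ℂ)
    (hS : ∀ μ v, S μ v = (Matrix.of fun i j : Fin r => z v j ^ (μ i + (r - 1 - (i : ℕ)))).det /
        (Matrix.of fun i j : Fin r => z v j ^ (r - 1 - (i : ℕ))).det)
    (P : (Fin r → ℕ) → ℝ)
    (hP : ∀ v, P v = ∏ p ∈ (Finset.univ : Finset (Fin r × Fin r)).filter (fun p => p.1 < p.2),
        ((2 : ℝ) * Real.sin (Real.pi * ((v p.1 : ℝ) - (v p.2 : ℝ)) / ((r : ℝ) + k))) ^ 2) :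
    (∑ v ∈ (Finset.univ : Finset (Fin r → Fin (r + k))).filter
        (fun v : Fin r → Fin (r + k) => StrictAnti v ∧ ∀ i : Fin r, (i : ℕ) = r - 1 → (v i : ℕ) = 0),
      Complex.exp (-(2 * Real.pi * Complex.I * (((∑ i, lam i) + (∑ i, lam' i) : ℕ) : ℂ) *
          ((∑ j, (v j : ℕ) : ℕ) : ℂ) / ((r : ℂ) * ((r : ℂ) + k)))) *
        S lam (fun j => (v j : ℕ)) * S lam' (fun j => (v j : ℕ)) * (P (fun j => (v j : ℕ)) : ℂ)) = 0 := by
  classical
  let e : Fin r → ℤ := fun i => (lam i : ℤ) + Verlinde.stair r i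
  let e' : Fin r → ℤ := fun i => (lam' i : ℤ) + Verlinde.stair r i
  have hSD : ∀ (μ v : Fin r → ℕ), S μ v = Verlinde.D (r + k) (fun i => (μ i : ℤ) + Verlinde.stair r i) (fun j => (v j : ℤ)) / Verlinde.D (r + k) (Verlinde.stair r) (fun j => (v j : ℤ)) := by
    intro μ v
    rw [hS]
    congr 1 <;> · rw [Verlinde.D]; congr 1; ext i j
                  simp only [Matrix.of_apply, hz, Verlinde.E, ← Complex.exp_nat_mul, Verlinde.stair]
                  congr 1
                  push_cast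
                  ring
  have hsumst : ∑ i, e i + ∑ i, e' i = ((∑ i, lam i + ∑ i, lam' i : ℕ) : ℤ) + 2 * ∑ i, Verlinde.stair r i := by
    simp only [e, e', Finset.sum_add_distrib]; push_cast; ring
  have hst : 2 * ∑ i, Verlinde.stair r i = (r : ℤ) * ((r : ℤ) - 1) := by
    have h1 : ∑ i, Verlinde.stair r i = ∑ i : Fin r, ((i : ℕ) : ℤ) := by
      refine Fintype.sum_equiv Fin.revPerm _ _ fun i => ?_
      rw [Verlinde.stair_eq, Fin.revPerm_apply, Fin.val_rev]; have := i.2; omega
    have h2 : ∀ i : Fin r, Verlinde.stair r i + ((i : ℕ) : ℤ) = (r : ℤ) - 1 := fun i => by rw [Verlinde.stair_eq]; ring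
    have h3 := Finset.sum_congr (s₁ := (Finset.univ : Finset (Fin r))) rfl (fun i _ => h2 i)
    rw [Finset.sum_add_distrib, ← h1, Finset.sum_const, Finset.card_univ, Fintype.card_fin, nsmul_eq_mul] at h3
    rw [two_mul]; exact h3
  have hinj : ∀ v ∈ (Finset.univ : Finset (Fin r → Fin (r + k))).filter (fun v : Fin r → Fin (r + k) => StrictAnti v ∧ ∀ i : Fin r, (i : ℕ) = r - 1 → (v i : ℕ) = 0),
      Verlinde.D (r + k) (Verlinde.stair r) (fun j => ((v j : ℕ) : ℤ)) ≠ 0 := fun v hv => by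
    refine Verlinde.D_stair_ne_zero _ (by omega) _ fun a b hab => (Finset.mem_filter.mp hv).2.1.injective (Fin.ext ?_)
    have := Int.eq_zero_of_abs_lt_dvd hab (by rw [abs_lt]; have := (v a).2; have := (v b).2; omega)
    omega
  have key := Verlinde.orth (r + k) (by omega) (by omega) e e' (∑ i, e i + ∑ i, e' i) rfl (fun i l a b => by
      simp only [e, e', Verlinde.stair]
      have := hlamk i; have := hlam'k l; have := i.2; have := l.2
      omega) (fun π c => by
      by_contra! hall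
      have hsa : ∀ (μ : Fin r → ℕ), Antitone μ → StrictAnti (fun i => (μ i : ℤ) + Verlinde.stair r i) := fun μ hμ a b hab => by
        have h1 := hμ hab.le; have ha := a.2; have hb := b.2
        have hab' : (a : ℕ) < b := hab
        simp only [Verlinde.stair]; omega
      have hpi : ⇑π = Fin.rev := by
        have hmono : StrictAnti ⇑π := fun a b hab => by
          by_contra hle
          rw [not_lt] at hle
          rcases hle.eq_or_lt with h | h
          · exact hab.ne (π.injective h)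
          · have h1 := hsa lam hlam hab; have h2 := hsa lam' hlam' h
            have := hall a; have := hall b
            simp only [e, e'] at *
            omega
        exact (StrictMono.range_inj (f := π ∘ Fin.rev) (g := id) (hmono.comp Fin.rev_strictAnti) strictMono_id).mp (by simp [Set.range_comp, π.surjective.range_eq, Fin.rev_surjective.range_eq])
          |> fun h => funext fun i => by have := congrFun h (Fin.rev i); simpa using this
      refine hne ⟨c - k - ((r : ℤ) - 1), fun i => ?_⟩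
      have h1 := hall i
      rw [hpi] at h1
      simp only [e, e', Verlinde.stair_eq, Fin.val_rev] at h1
      have := hlam'k (Fin.rev i); have := i.2
      omega)
  have hterm : ∀ v ∈ (Finset.univ : Finset (Fin r → Fin (r + k))).filter (fun v : Fin r → Fin (r + k) => StrictAnti v ∧ ∀ i : Fin r, (i : ℕ) = r - 1 → (v i : ℕ) = 0),
      Complex.exp (-(2 * Real.pi * Complex.I * (((∑ i, lam i) + (∑ i, lam' i) : ℕ) : ℂ) * ((∑ j, (v j : ℕ) : ℕ) : ℂ) / ((r : ℂ) * ((r : ℂ) + k)))) *
        S lam (fun j => (v j : ℕ)) * S lam' (fun j => (v j : ℕ)) * (P (fun j => (v j : ℕ)) : ℂ) =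
      ((Equiv.Perm.sign (Fin.revPerm (n := r)) : ℤ) : ℂ) *
        (Verlinde.E (-((((∑ i, e i + ∑ i, e' i) : ℤ) : ℂ) * ∑ j, (((v j : ℕ) : ℤ) : ℂ)) / ((r : ℂ) * ((r + k : ℕ) : ℂ))) *
          Verlinde.D (r + k) e (fun j => ((v j : ℕ) : ℤ)) * Verlinde.D (r + k) e' (fun j => ((v j : ℕ) : ℤ))) := by
    intro v hv
    have hPv : (P (fun j => (v j : ℕ)) : ℂ) = Verlinde.D (r + k) (Verlinde.stair r) (fun j => ((v j : ℕ) : ℤ)) * Verlinde.D (r + k) (fun i => -Verlinde.stair r i) (fun j => ((v j : ℕ) : ℤ)) := by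
      rw [← Verlinde.P_eq (r + k) (fun j => ((v j : ℕ) : ℤ)), hP]
      simp
    rw [hSD, hSD, hPv, Verlinde.D_neg_stair]
    have hd := hinj v hv
    show _ * (Verlinde.D (r + k) e _ / _) * (Verlinde.D (r + k) e' _ / _) * _ = _
    have hexp : Complex.exp (-(2 * Real.pi * Complex.I * (((∑ i, lam i) + (∑ i, lam' i) : ℕ) : ℂ) * ((∑ j, (v j : ℕ) : ℕ) : ℂ) / ((r : ℂ) * ((r : ℂ) + k)))) *
        Verlinde.E (-(((r : ℂ) - 1) * (∑ i, (((v i : ℕ) : ℤ) : ℂ))) / ((r + k : ℕ) : ℂ)) =
        Verlinde.E (-((((∑ i, e i + ∑ i, e' i) : ℤ) : ℂ) * ∑ j, (((v j : ℕ) : ℤ) : ℂ)) / ((r : ℂ) * ((r + k : ℕ) : ℂ))) := by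
      rw [hsumst, hst, Verlinde.E, Verlinde.E, ← Complex.exp_add]
      congr 1
      have : (r : ℂ) ≠ 0 := Nat.cast_ne_zero.mpr (by omega)
      have : (r : ℂ) + k ≠ 0 := by exact_mod_cast (show r + k ≠ 0 by omega)
      push_cast
      field_simp
      ring
    rw [← hexp]
    field_simp
  rw [Finset.sum_congr rfl hterm, ← Finset.mul_sum, key, mul_zero]

end Groth.Agent.S19895
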