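import Groth.Statements.S19898
import Groth.Agent.SymTenLib.TopAction

set_option autoImplicit false
universe u
open scoped TensorProduct
open SymTen

namespace Groth.Agent.S19898

/-- Let R be a commutative ring and R' a commutative R-algebra that is free of rank d as an R-module.
Let (C, γ) be the degree-d divided power algebra of R' over R, given as an R-algebra C with a
multiplicative homogeneous degree-d polynomial law γ : R' → C that is universal among such laws; let
φ : C → T^d_R(R') be the R-algebra homomorphism into the d-fold tensor power whose composite with γ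
is the law x ↦ x ⊗ ⋯ ⊗ x, and π : C → R the R-algebra homomorphism whose composite with γ is the
norm law of R' over R. Let T^d_R(R') act on itself factor by factor and let I_d ⊂ T^d_R(R') be the
R-span of the pure tensors with two equal factors, so that T^d_R(R')/I_d is the top exterior power
Λ^d_R(R'), free of rank one. Then for every c ∈ C and every x ∈ T^d_R(R') the element φ(c)·x − π(c)
x lies in I_d: the symmetric tensor φ(c) acts on Λ^d_R(R') as multiplication by the scalar π(c),
i.e. the homomorphism TS^d_R(R') → R given by the action on the top exterior power, composed with φ,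
equals π. (The source states this for R' finite locally free of constant rank d; the free case is
the affine-local form.) -/
theorem result (R : Type u) [CommRing R] (R' : Type u) [CommRing R']
    [Algebra R R'] [Module.Free R R'] [Module.Finite R R'] (d : ℕ) (hd : Module.finrank R R' = d)
    {C : Type u} [CommRing C] [Algebra R C] (γ : PolLaw.MulLaw R R' C d) (hγ : PolLaw.IsGammaD γ)
    (φ : C →ₐ[R] (⨂[R] _ : Fin d, R')) (hφ : PolLaw.MulLaw.postcomp φ γ = SymTen.tpowLaw R R' d)
    (π : C →ₐ[R] R) (hπ : PolLaw.MulLaw.postcomp π γ = PolLaw.normLaw R R' d hd)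
    (c : C) (x : ⨂[R] _ : Fin d, R') :
    SymTen.tpowAct R R' R' d (φ c) x - π c • x ∈ SymTen.altSpan R R' d := by
  classical
  rcases subsingleton_or_nontrivial R with hR | hR
  · haveI : Subsingleton (⨂[R] _ : Fin d, R') := Module.subsingleton R _
    rw [Subsingleton.elim (SymTen.tpowAct R R' R' d (φ c) x - π c • x) 0]
    exact zero_mem _
  let b : Module.Basis (Fin d) R R' := Module.finBasisOfFinrankEq R R' hd
  let D := Groth.Agent.SymTenLib.detT b
  let e := PiTensorProduct.tprod R b
  have hsym : ∀ c : C, φ c ∈ SymTen.TS R R' d := by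
    intro c σ
    obtain ⟨f, hf, huniq⟩ := hγ _ (SymTen.tpowLaw R R' d)
    have h2 : (SymTen.perm R R' d σ).comp φ = f := huniq _ <| by
      refine PolynomialLaw.ext ?_
      funext S _ _ y
      have h3 := congrArg (fun F : PolLaw.MulLaw R R' (⨂[R] _ : Fin d, R') d => F.law.toFun' S y) hφ
      show ((SymTen.perm R R' d σ).comp φ).toLinearMap.lTensor S (γ.law.toFun' S y) = _
      rw [AlgHom.comp_toLinearMap, LinearMap.lTensor_comp, LinearMap.comp_apply]
      rw [show φ.toLinearMap.lTensor S (γ.law.toFun' S y) = (SymTen.tpowLaw R R' d).law.toFun' S y from h3,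
        PolLaw.lTensor_algHom_apply, SymTen.tpowLaw, PolLaw.MulLaw.prodMap_toFun', map_prod]
      rw [← Equiv.prod_comp σ (fun j => Algebra.TensorProduct.map (AlgHom.id S S)
        (PiTensorProduct.singleAlgHom (A := fun _ : Fin d => R') j) y)]
      refine Finset.prod_congr rfl fun j _ => ?_
      clear h3
      induction y using TensorProduct.induction_on with
      | zero => simp
      | tmul s r =>
        simp only [Algebra.TensorProduct.map_tmul, AlgHom.id_apply, PiTensorProduct.singleAlgHom_apply,
          MonoidHom.mulSingle_apply, SymTen.perm_tprod]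
        congr 2
        funext i
        rcases eq_or_ne i (σ j) with rfl | h
        · simp
        · rw [Pi.mulSingle_eq_of_ne h, Pi.mulSingle_eq_of_ne (fun h' => h (by rw [← h', σ.apply_symm_apply]))]
      | add y z hy hz => simp only [map_add, hy, hz]
    have h1 : φ = f := huniq φ (congrArg PolLaw.MulLaw.law hφ)
    rw [← SymTen.perm_apply]
    exact (AlgHom.congr_fun h2 c).trans (AlgHom.congr_fun h1 c).symm
  have hD : ∀ c x, D (SymTen.tpowAct R R' R' d (φ c) x) = D (SymTen.tpowAct R R' R' d (φ c) e) * D x :=
    fun c x => Groth.Agent.SymTenLib.detT_act b (hsym c) x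
  have hDe : D e = 1 := (Groth.Agent.SymTenLib.detT_tprod b b).trans b.det_self
  have hone : SymTen.tpowAct R R' R' d 1 e = e := by
    rw [PiTensorProduct.one_def, SymTen.tpowAct, PiTensorProduct.lift.tprod,
      MultilinearMap.compLinearMap_apply, PiTensorProduct.mapMultilinear_apply, PiTensorProduct.map_tprod]
    simp [e]
  let ψ : C →ₐ[R] R :=
    AlgHom.ofLinearMap ((D ∘ₗ (LinearMap.applyₗ e) ∘ₗ SymTen.tpowAct R R' R' d) ∘ₗ φ.toLinearMap)
      (by show D (SymTen.tpowAct R R' R' d (φ 1) e) = 1; rw [map_one, hone, hDe])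
      (fun c c' => by
        show D (SymTen.tpowAct R R' R' d (φ (c * c')) e) = _
        rw [map_mul, Groth.Agent.SymTenLib.tpowAct_mul, Module.End.mul_apply, hD]
        rfl)
  have hψ : ∀ c, ψ c = D (SymTen.tpowAct R R' R' d (φ c) e) := fun c => rfl
  have hψπ : ψ = π := by
    obtain ⟨f, -, huniq⟩ := hγ R (PolLaw.normLaw R R' d hd)
    refine (huniq ψ ?_).trans (huniq π (congrArg PolLaw.MulLaw.law hπ)).symm
    refine PolynomialLaw.ext ?_
    funext S _ _ y
    letI : CommRing S := { __ := Algebra.semiringToRing R (A := S), mul_comm := mul_comm }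
    let L : (⨂[R] _ : Fin d, R') →ₗ[R] R := D ∘ₗ (LinearMap.applyₗ e) ∘ₗ SymTen.tpowAct R R' R' d
    show (L ∘ₗ φ.toLinearMap).lTensor S (γ.law.toFun' S y) = (PolLaw.normLaw R R' d hd).law.toFun' S y
    have h3 := congrArg (fun F : PolLaw.MulLaw R R' (⨂[R] _ : Fin d, R') d => F.law.toFun' S y) hφ
    rw [LinearMap.lTensor_comp, LinearMap.comp_apply,
      show φ.toLinearMap.lTensor S (γ.law.toFun' S y) = (SymTen.tpowLaw R R' d).law.toFun' S y from h3]
    obtain ⟨s, rfl⟩ := Groth.Agent.SymTenLib.exists_sum_tmul b y
    rw [Groth.Agent.SymTenLib.lTensor_tpowLaw b L s, PolLaw.normLaw_apply,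
      Groth.Agent.SymTenLib.norm_eq_sum b s]
    congr 1
    refine Finset.sum_congr rfl fun I _ => ?_
    congr 2
    show D (SymTen.tpowAct R R' R' d (PiTensorProduct.tprod R fun j => b (I j)) e) = _
    rw [SymTen.tpowAct, PiTensorProduct.lift.tprod, MultilinearMap.compLinearMap_apply,
      PiTensorProduct.mapMultilinear_apply, PiTensorProduct.map_tprod]
    exact Groth.Agent.SymTenLib.detT_tprod b _
  have h0 : D (SymTen.tpowAct R R' R' d (φ c) x - π c • x) = 0 := by
    rw [map_sub, map_smul, hD, ← hψ, hψπ, smul_eq_mul, sub_self]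
  have h4 := Groth.Agent.SymTenLib.sub_detT_smul_mem b (SymTen.tpowAct R R' R' d (φ c) x - π c • x)
  rwa [h0, zero_smul, sub_zero] at h4

end Groth.Agent.S19898
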