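import Groth.Statements.S1990
import Mathlib
import Groth.Agent.S1989


set_option autoImplicit false
universe u
open EtAlg

namespace Groth.Agent.S1990

open IsLocalRing in
theorem dominates_restrict (A : Type u) [CommRing A] [IsLocalRing A] {L M : Type u} [Field L] [Field M] (g : A →+* L)
    (f : L →+* M) (W : ValuationSubring M) (h : EtRam.Dominates A (f.comp g) W) :
    EtRam.Dominates A g (W.comap f) := by
  refine ⟨fun a => h.1 a, fun a ha => ?_⟩
  have h1 := h.2 a ha
  have ha' := h.1 a
  rw [RingHom.comp_apply, show f (g a) = ((⟨f (g a), ha'⟩ : W) : M) from rfl,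
    ← ValuationSubring.valuation_lt_one_iff, mem_maximalIdeal, mem_nonunits_iff] at h1
  rw [show g a = ((⟨g a, ha'⟩ : W.comap f) : L) from rfl, ← ValuationSubring.valuation_lt_one_iff, mem_maximalIdeal,
    mem_nonunits_iff]
  exact fun hu => h1 (hu.map (EtRam.inclOfComap W f))

theorem dominates_incl {L M : Type u} [Field L] [Field M] (f : L →+* M) (W : ValuationSubring M) :
    EtRam.Dominates (W.comap f) (f.comp (W.comap f).subtype) W := by
  refine ⟨fun a => a.2, fun a ha => ?_⟩
  show W.valuation ((EtRam.inclOfComap W f a : W) : M) < 1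
  rw [← ValuationSubring.valuation_lt_one_iff, IsLocalRing.mem_maximalIdeal, mem_nonunits_iff]
  exact fun hu => ha ((EtRam.isLocalHom_inclOfComap W f).map_nonunit a hu)


/-- Let K be the fraction field of a discrete valuation ring A, and K ⊂ L ⊂ M finite separable
extensions. If L/K is tamely ramified (resp. unramified) with respect to A and M/L is tamely
ramified (resp. unramified) with respect to every valuation subring of L dominating A, then M/K is
tamely ramified (resp. unramified) with respect to A. -/
theorem result (A K : Type u) [CommRing A] [IsDomain A] [IsDiscreteValuationRing A] [Field K] [Algebra A K] [IsFractionRing A K] (L M : Type u) [Field L] [Field M]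
    [Algebra K L] [Algebra K M] [Algebra L M] [IsScalarTower K L M] [FiniteDimensional K M] [Algebra.IsSeparable K M] :
    (EtRam.IsTamelyRamified A ((algebraMap K L).comp (algebraMap A K)) →
      (∀ (V : ValuationSubring L), EtRam.Dominates A ((algebraMap K L).comp (algebraMap A K)) V →
        EtRam.IsTamelyRamified V ((algebraMap L M).comp V.subtype)) →
      EtRam.IsTamelyRamified A ((algebraMap K M).comp (algebraMap A K))) ∧
    (EtRam.IsUnramifiedExt A ((algebraMap K L).comp (algebraMap A K)) →
      (∀ (V : ValuationSubring L), EtRam.Dominates A ((algebraMap K L).comp (algebraMap A K)) V →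
        EtRam.IsUnramifiedExt V ((algebraMap L M).comp V.subtype)) →
      EtRam.IsUnramifiedExt A ((algebraMap K M).comp (algebraMap A K))) := by
  classical
  haveI : FiniteDimensional K L :=
    Module.Finite.of_injective (IsScalarTower.toAlgHom K L M).toLinearMap (algebraMap L M).injective
  haveI : Algebra.IsSeparable K L := Algebra.isSeparable_tower_bot_of_isSeparable K L M
  letI : Algebra A L := ((algebraMap K L).comp (algebraMap A K)).toAlgebra
  haveI : IsScalarTower A K L := IsScalarTower.of_algebraMap_eq' rfl
  letI : Algebra A M := ((algebraMap K M).comp (algebraMap A K)).toAlgebra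
  haveI : IsScalarTower A K M := IsScalarTower.of_algebraMap_eq' rfl
  have hcomp : ((algebraMap K M).comp (algebraMap A K)) =
      (algebraMap L M).comp ((algebraMap K L).comp (algebraMap A K)) := by
    rw [← RingHom.comp_assoc, ← IsScalarTower.algebraMap_eq K L M]
  constructor
  · intro hL hM W hW
    letI : Algebra A W := (RingHom.codRestrict ((algebraMap K M).comp (algebraMap A K)) W hW.1).toAlgebra
    intro hlocW
    have hV := dominates_restrict A _ (algebraMap L M) W (hcomp ▸ hW)
    letI : Algebra A (W.comap (algebraMap L M)) :=
      (RingHom.codRestrict ((algebraMap K L).comp (algebraMap A K)) (W.comap (algebraMap L M)) hV.1).toAlgebra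
    letI : Algebra (W.comap (algebraMap L M)) W := (EtRam.inclOfComap W (algebraMap L M)).toAlgebra
    haveI : IsLocalHom (algebraMap (W.comap (algebraMap L M)) W) :=
      EtRam.isLocalHom_inclOfComap W (algebraMap L M)
    haveI : IsScalarTower A (W.comap (algebraMap L M)) W :=
      IsScalarTower.of_algebraMap_eq fun a => Subtype.ext (RingHom.congr_fun hcomp a)
    haveI : IsLocalHom (algebraMap A (W.comap (algebraMap L M))) := ⟨fun a ha => by
      by_contra hna
      exact ((ValuationSubring.valuation_lt_one_iff (W.comap (algebraMap L M)) _).2 (hV.2 a hna)) ha⟩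
    obtain ⟨hsep1, htame1⟩ := hL _ hV
    obtain ⟨hsep2, htame2⟩ := @hM _ hV W (dominates_incl (algebraMap L M) W)
      (EtRam.isLocalHom_inclOfComap W (algebraMap L M))
    haveI := hsep1
    haveI : Algebra.IsSeparable (IsLocalRing.ResidueField (W.comap (algebraMap L M))) (IsLocalRing.ResidueField W) := hsep2
    refine ⟨Algebra.IsSeparable.trans (IsLocalRing.ResidueField A) (IsLocalRing.ResidueField (W.comap (algebraMap L M)))
      (IsLocalRing.ResidueField W), ?_⟩
    intro p hp hchar hdvd
    haveI := S1989.isDVR (K := K) (A := A) (W.comap (algebraMap L M)) hV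
    haveI := S1989.isDVR (K := K) (A := A) W hW
    obtain ⟨π, hπ⟩ := IsDiscreteValuationRing.exists_irreducible A
    have hinjM : Function.Injective (algebraMap A M) :=
      (algebraMap K M).injective.comp (IsFractionRing.injective A K)
    have hne : (IsLocalRing.maximalIdeal A).map (algebraMap A W) ≠ ⊥ := by
      intro h0
      have h1 : algebraMap A W π = 0 := by
        rw [← Ideal.mem_bot, ← h0]
        exact Ideal.mem_map_of_mem _ hπ.not_isUnit
      exact hπ.ne_zero (hinjM ((congrArg Subtype.val h1).trans (map_zero (algebraMap A M)).symm))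
    have hne' : (IsLocalRing.maximalIdeal A).map (algebraMap A (W.comap (algebraMap L M))) ≠ ⊥ := by
      intro h0
      apply hne
      rw [IsScalarTower.algebraMap_eq A (W.comap (algebraMap L M)) W, ← Ideal.map_map, h0, Ideal.map_bot]
    obtain ⟨n, hn⟩ := S1989.exists_pow hne'
    have hne2 : (IsLocalRing.maximalIdeal (W.comap (algebraMap L M))).map
        (algebraMap (W.comap (algebraMap L M)) W) ≠ ⊥ := by
      intro h0
      apply hne
      rw [IsScalarTower.algebraMap_eq A (W.comap (algebraMap L M)) W, ← Ideal.map_map]
      exact bot_unique ((Ideal.map_mono (Ideal.map_le_iff_le_comap.2 fun a ha => by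
        rw [Ideal.mem_comap, IsLocalRing.mem_maximalIdeal, mem_nonunits_iff]
        exact fun hu => ha (isUnit_of_map_unit (algebraMap A _) a hu))).trans h0.le)
    obtain ⟨m, hm⟩ := S1989.exists_pow hne2
    rw [S1989.ramificationIdx'_eq (n * m) (by
      rw [IsScalarTower.algebraMap_eq A (W.comap (algebraMap L M)) W, ← Ideal.map_map, hn,
        Ideal.map_pow, hm, ← pow_mul, mul_comm])] at hdvd
    rcases hp.dvd_mul.1 hdvd with h | h
    · exact htame1 p hp hchar (by rwa [S1989.ramificationIdx'_eq n hn])
    · exact htame2 p hp (charP_of_injective_ringHom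
        (algebraMap (IsLocalRing.ResidueField A) (IsLocalRing.ResidueField (W.comap (algebraMap L M)))).injective p)
        (h.trans (dvd_of_eq (S1989.ramificationIdx'_eq (A := W.comap (algebraMap L M)) (V := W) m hm).symm))
  · intro hL hM W hW
    letI : Algebra A W := (RingHom.codRestrict ((algebraMap K M).comp (algebraMap A K)) W hW.1).toAlgebra
    intro hlocW
    have hV := dominates_restrict A _ (algebraMap L M) W (hcomp ▸ hW)
    letI : Algebra A (W.comap (algebraMap L M)) :=
      (RingHom.codRestrict ((algebraMap K L).comp (algebraMap A K)) (W.comap (algebraMap L M)) hV.1).toAlgebra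
    letI : Algebra (W.comap (algebraMap L M)) W := (EtRam.inclOfComap W (algebraMap L M)).toAlgebra
    haveI : IsLocalHom (algebraMap (W.comap (algebraMap L M)) W) :=
      EtRam.isLocalHom_inclOfComap W (algebraMap L M)
    haveI : IsScalarTower A (W.comap (algebraMap L M)) W :=
      IsScalarTower.of_algebraMap_eq fun a => Subtype.ext (RingHom.congr_fun hcomp a)
    haveI : IsLocalHom (algebraMap A (W.comap (algebraMap L M))) := ⟨fun a ha => by
      by_contra hna
      exact ((ValuationSubring.valuation_lt_one_iff (W.comap (algebraMap L M)) _).2 (hV.2 a hna)) ha⟩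
    obtain ⟨hw1, hsep1⟩ := hL _ hV
    obtain ⟨hw2, hsep2⟩ := @hM _ hV W (dominates_incl (algebraMap L M) W)
      (EtRam.isLocalHom_inclOfComap W (algebraMap L M))
    haveI := hsep1
    haveI : Algebra.IsSeparable (IsLocalRing.ResidueField (W.comap (algebraMap L M))) (IsLocalRing.ResidueField W) := hsep2
    refine ⟨?_, Algebra.IsSeparable.trans (IsLocalRing.ResidueField A)
      (IsLocalRing.ResidueField (W.comap (algebraMap L M))) (IsLocalRing.ResidueField W)⟩
    show (IsLocalRing.maximalIdeal A).map (algebraMap A W) = _
    rw [IsScalarTower.algebraMap_eq A (W.comap (algebraMap L M)) W, ← Ideal.map_map]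
    rw [show (IsLocalRing.maximalIdeal A).map (algebraMap A (W.comap (algebraMap L M))) = _ from hw1]
    exact hw2

end Groth.Agent.S1990
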