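import Groth.Statements.S19900
import Groth.Agent.ASt.UnivClosedCalc
import Groth.Agent.ASt.DiagConv
import Groth.Agent.S12979

set_option autoImplicit false
set_option backward.isDefEq.respectTransparency false
set_option backward.isDefEq.respectTransparency.types false
universe u
open CategoryTheory AlgebraicGeometry
open AlgSt

namespace Groth.Agent.S19900

open Groth.Agent.ASt

variable {S : Scheme.{u}} {𝒳 𝒴 𝒵 : AlgSt.Cat S}

set_option maxHeartbeats 4000000 in
/-- The second diagonal of `g`, precomposed with `f`, is universally closed. -/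
theorem univClosed_comp_diag_diag (h𝒳 : AlgSt.IsAlgStack Scheme.fppfPrecoverage 𝒳)
    (h𝒴 : AlgSt.IsAlgStack Scheme.fppfPrecoverage 𝒴) (h𝒵 : AlgSt.IsAlgStack Scheme.fppfPrecoverage 𝒵)
    {f : 𝒳 ⥤ᵇ 𝒴} {g : 𝒴 ⥤ᵇ 𝒵} (hf : AlgSt.IsUnivClosed Scheme.fppfPrecoverage f)
    (hΔf : AlgSt.IsUnivClosed Scheme.fppfPrecoverage (FibCat.diag f))
    (hΔΔ : AlgSt.IsUnivClosed Scheme.fppfPrecoverage (FibCat.diag (FibCat.diag (BasedFunctor.comp f g)))) :
    AlgSt.IsUnivClosed Scheme.fppfPrecoverage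
      (BasedFunctor.comp f (FibCat.diag (FibCat.diag g))) := by
  haveI := h𝒳.isStack.1
  haveI := h𝒴.isStack.1
  haveI := h𝒵.isStack.1
  haveI : FibCat.IsFibGrpd (FibCat.fp g g).p := isFibGrpd_fp
  haveI : FibCat.IsFibGrpd (FibCat.fp f f).p := isFibGrpd_fp
  haveI : FibCat.IsFibGrpd (FibCat.fp (BasedFunctor.comp f g) (BasedFunctor.comp f g)).p := isFibGrpd_fp
  let D := FibCat.diag g
  let D' := FibCat.diag (BasedFunctor.comp f g)
  haveI : FibCat.IsFibGrpd (FibCat.fp D D).p := isFibGrpd_fp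
  haveI : FibCat.IsFibGrpd (FibCat.fp D' D').p := isFibGrpd_fp
  have hGG := isAlgStack_fp (isPrestack_of_isStack h𝒵.isStack) h𝒵.diag h𝒴 h𝒴 g g
  have hFF := isAlgStack_fp (isPrestack_of_isStack h𝒴.isStack) h𝒴.diag h𝒳 h𝒳 f f
  have hDD := isAlgStack_fp (isPrestack_of_isStack hGG.isStack) hGG.diag h𝒴 h𝒴 D D
  intro W hW w
  haveI := hW.isStack.1
  let y : W ⥤ᵇ 𝒴 := BasedFunctor.comp w (FibCat.fpFst D D)
  let y' : W ⥤ᵇ 𝒴 := BasedFunctor.comp w (FibCat.fpSnd D D)
  let τ1 : y ≅ y' := wR (wL w (FibCat.fpIso D D)) (FibCat.fpFst g g)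
  let τ2 : y ≅ y' := wR (wL w (FibCat.fpIso D D)) (FibCat.fpSnd g g)
  let T1 : ∀ o, y.obj o ≅ y'.obj o := fun o => ((BasedNatTrans.forgetful _ _).mapIso τ1).app o
  let T2 : ∀ o, y.obj o ≅ y'.obj o := fun o => ((BasedNatTrans.forgetful _ _).mapIso τ2).app o
  have hgτ : ∀ o, g.map (T1 o).hom = g.map (T2 o).hom := fun o => by
    have h := (w.obj o).obj.iso.hom.hom.w
    change g.map (T1 o).hom ≫ 𝟙 (g.obj (y'.obj o)) = 𝟙 (g.obj (y.obj o)) ≫ g.map (T2 o).hom at h
    exact (Category.comp_id _).symm.trans (h.trans (Category.id_comp _))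
  haveI : FibCat.IsFibGrpd (FibCat.fp y f).p := isFibGrpd_fp
  have hR1 := isAlgStack_fp (isPrestack_of_isStack h𝒴.isStack) h𝒴.diag hW h𝒳 y f
  let π1 := FibCat.fpFst y f
  let x1 := FibCat.fpSnd y f
  let σ : BasedFunctor.comp x1 f ≅ BasedFunctor.comp x1 f :=
    (FibCat.fpIso y f).symm ≪≫ wL π1 (τ1 ≪≫ τ2.symm) ≪≫ FibCat.fpIso y f
  have hσ : ∀ r, σ.hom.toNatTrans.app r =
      r.obj.iso.inv ≫ ((T1 r.obj.fst).hom ≫ (T2 r.obj.fst).inv) ≫ r.obj.iso.hom := fun r => rfl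
  have hσg : ∀ r, g.map (σ.hom.toNatTrans.app r) = 𝟙 (g.obj (f.obj r.obj.snd)) := fun r => by
    have h0 : g.map ((T1 r.obj.fst).hom ≫ (T2 r.obj.fst).inv) = 𝟙 _ :=
      (g.map_comp _ _).trans ((congrArg (fun m => m ≫ g.map (T2 r.obj.fst).inv) (hgτ _)).trans
        ((g.map_comp _ _).symm.trans ((congrArg g.map (T2 r.obj.fst).hom_inv_id).trans (g.map_id _))))
    refine (congrArg g.map (hσ r)).trans ((g.map_comp _ _).trans ?_)
    refine (congrArg (fun m => g.map r.obj.iso.inv ≫ m) ((g.map_comp _ _).trans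
      ((congrArg (fun m => m ≫ g.map r.obj.iso.hom) h0).trans (Category.id_comp _)))).trans ?_
    exact (g.map_comp _ _).symm.trans ((congrArg g.map r.obj.iso.inv_hom_id).trans (g.map_id _))
  let v : FibCat.fp y f ⥤ᵇ FibCat.fp f f := FibCat.fpLift x1 x1 σ
  haveI : FibCat.IsFibGrpd (FibCat.fp v (FibCat.diag f)).p := isFibGrpd_fp
  have hR2 := isAlgStack_fp (isPrestack_of_isStack hFF.isStack) hFF.diag hR1 h𝒳 v (FibCat.diag f)
  let π2 := FibCat.fpFst v (FibCat.diag f)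
  let x2 := FibCat.fpSnd v (FibCat.diag f)
  let κ1 : BasedFunctor.comp π2 x1 ≅ x2 := wR (FibCat.fpIso v (FibCat.diag f)) (FibCat.fpFst f f)
  let κ2 : BasedFunctor.comp π2 x1 ≅ x2 := wR (FibCat.fpIso v (FibCat.diag f)) (FibCat.fpSnd f f)
  have hκ : ∀ q, f.map (κ1.hom.toNatTrans.app q) =
      σ.hom.toNatTrans.app q.obj.fst ≫ f.map (κ2.hom.toNatTrans.app q) := fun q => by
    have h := q.obj.iso.hom.hom.w
    change f.map (κ1.hom.toNatTrans.app q) ≫ 𝟙 (f.obj q.obj.snd) = _ at h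
    exact (Category.comp_id _).symm.trans h
  let θ : BasedFunctor.comp (BasedFunctor.comp π2 x1) D' ≅ BasedFunctor.comp x2 D' :=
    fpIsoMk κ1 κ2 fun q => by
      change g.map (f.map (κ1.hom.toNatTrans.app q)) ≫ 𝟙 _ = 𝟙 _ ≫ g.map (f.map (κ2.hom.toNatTrans.app q))
      rw [Category.comp_id, Category.id_comp, hκ q, Functor.map_comp, hσg]
      exact Category.id_comp _
  let v' : FibCat.fp v (FibCat.diag f) ⥤ᵇ FibCat.fp D' D' := FibCat.fpLift (BasedFunctor.comp π2 x1) x2 θ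
  haveI : FibCat.IsFibGrpd (FibCat.fp v' (FibCat.diag D')).p := isFibGrpd_fp
  let π3 := FibCat.fpFst v' (FibCat.diag D')
  let x3 := FibCat.fpSnd v' (FibCat.diag D')
  let μ := FibCat.fpIso v' (FibCat.diag D')
  let μ1 : BasedFunctor.comp π3 (BasedFunctor.comp π2 x1) ≅ x3 := wR μ (FibCat.fpFst D' D')
  let μ2 : BasedFunctor.comp π3 x2 ≅ x3 := wR μ (FibCat.fpSnd D' D')
  have hτ : ∀ s : (FibCat.fp v' (FibCat.diag D')).obj,
      (T1 s.obj.fst.obj.fst.obj.fst).hom = (T2 s.obj.fst.obj.fst.obj.fst).hom := fun s => by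
    have h := s.obj.iso.hom.hom.w
    have h1 := congrArg (fun m => m.hom.fst) h
    have h2 := congrArg (fun m => m.hom.snd) h
    change μ1.hom.toNatTrans.app s ≫ 𝟙 _ = κ1.hom.toNatTrans.app s.obj.fst ≫ μ2.hom.toNatTrans.app s at h1
    change μ1.hom.toNatTrans.app s ≫ 𝟙 _ = κ2.hom.toNatTrans.app s.obj.fst ≫ μ2.hom.toNatTrans.app s at h2
    have h12 : κ1.hom.toNatTrans.app s.obj.fst = κ2.hom.toNatTrans.app s.obj.fst := by
      haveI : IsIso (μ2.hom.toNatTrans.app s) :=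
        (((BasedNatTrans.forgetful _ _).mapIso μ2).app s).isIso_hom
      exact (cancel_mono (μ2.hom.toNatTrans.app s)).1 (h1.symm.trans h2)
    have h3 := hκ s.obj.fst
    rw [h12] at h3
    haveI : IsIso (κ2.hom.toNatTrans.app s.obj.fst) :=
      (((BasedNatTrans.forgetful _ _).mapIso κ2).app s.obj.fst).isIso_hom
    have h4 : σ.hom.toNatTrans.app s.obj.fst.obj.fst = 𝟙 _ :=
      ((cancel_mono (f.map (κ2.hom.toNatTrans.app s.obj.fst))).1 ((Category.id_comp _).trans h3)).symm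
    have h5 := ((Iso.inv_comp_eq _).1 ((hσ _).symm.trans h4)).trans (Category.comp_id _)
    exact (Iso.comp_inv_eq_id _).1
      ((cancel_mono s.obj.fst.obj.fst.obj.iso.hom).1 (h5.trans (Category.id_comp _).symm))
  let p : FibCat.fp v' (FibCat.diag D') ⥤ᵇ W := BasedFunctor.comp (BasedFunctor.comp π3 π2) π1
  let ea : BasedFunctor.comp p y ≅ BasedFunctor.comp x3 f :=
    wL (BasedFunctor.comp π3 π2) (FibCat.fpIso y f) ≪≫ wR μ1 f
  let eb : BasedFunctor.comp p y' ≅ BasedFunctor.comp x3 f := (wL p τ1).symm ≪≫ ea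
  let e : BasedFunctor.comp p w ≅ BasedFunctor.comp x3 (BasedFunctor.comp f (FibCat.diag D)) :=
    fpIsoMk ea eb fun s => by
      apply fp_hom_ext
      · change ea.hom.toNatTrans.app s ≫ 𝟙 _ =
          (T1 (p.obj s)).hom ≫ ((T1 (p.obj s)).inv ≫ ea.hom.toNatTrans.app s)
        exact (Category.comp_id _).trans (Iso.hom_inv_id_assoc _ _).symm
      · change ea.hom.toNatTrans.app s ≫ 𝟙 _ =
          (T2 (p.obj s)).hom ≫ ((T1 (p.obj s)).inv ≫ ea.hom.toNatTrans.app s)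
        exact (Category.comp_id _).trans
          ((Iso.hom_inv_id_assoc _ _).symm.trans (congrArg (fun m => m ≫ _) (hτ s)))
  haveI : FibCat.IsFibGrpd (FibCat.fp w (BasedFunctor.comp f (FibCat.diag D))).p := isFibGrpd_fp
  let χ : FibCat.fp v' (FibCat.diag D') ⥤ᵇ FibCat.fp w (BasedFunctor.comp f (FibCat.diag D)) :=
    FibCat.fpLift p x3 e
  have hT := isAlgStack_fp (isPrestack_of_isStack hDD.isStack) hDD.diag hW h𝒳 w
    (BasedFunctor.comp f (FibCat.diag D))
  refine isClosedMap_of_surj (F := χ) hT ?_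
    (p := FibCat.fpFst w (BasedFunctor.comp f (FibCat.diag (FibCat.diag g)))) ?_
  · refine surjective_map_of_vert fun z => ?_
    let tf := FibCat.fpFst w (BasedFunctor.comp f (FibCat.diag D))
    let ts := FibCat.fpSnd w (BasedFunctor.comp f (FibCat.diag D))
    let η1 : BasedFunctor.comp tf y ≅ BasedFunctor.comp ts f :=
      wR (FibCat.fpIso w (BasedFunctor.comp f (FibCat.diag D))) (FibCat.fpFst D D)
    let η2 : BasedFunctor.comp tf y' ≅ BasedFunctor.comp ts f :=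
      wR (FibCat.fpIso w (BasedFunctor.comp f (FibCat.diag D))) (FibCat.fpSnd D D)
    have hη : ∀ o, η1.hom.toNatTrans.app o = (T1 o.obj.fst).hom ≫ η2.hom.toNatTrans.app o ∧
        η1.hom.toNatTrans.app o = (T2 o.obj.fst).hom ≫ η2.hom.toNatTrans.app o := fun o => by
      have h := o.obj.iso.hom.hom.w
      have h1 := congrArg (fun m => m.hom.fst) h
      have h2 := congrArg (fun m => m.hom.snd) h
      exact ⟨(Category.comp_id _).symm.trans h1, (Category.comp_id _).symm.trans h2⟩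
    let L1 : FibCat.fp w (BasedFunctor.comp f (FibCat.diag D)) ⥤ᵇ FibCat.fp y f := FibCat.fpLift tf ts η1
    let e2 : BasedFunctor.comp L1 v ≅ BasedFunctor.comp ts (FibCat.diag f) :=
      fpIsoMk (Iso.refl _) (Iso.refl _) fun o => by
        have h12 : (T1 o.obj.fst).hom = (T2 o.obj.fst).hom := by
          haveI : IsIso (η2.hom.toNatTrans.app o) :=
            (((BasedNatTrans.forgetful _ _).mapIso η2).app o).isIso_hom
          exact (cancel_mono (η2.hom.toNatTrans.app o)).1 ((hη o).1.symm.trans (hη o).2)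
        have h0 : σ.hom.toNatTrans.app (L1.obj o) = 𝟙 _ := by
          rw [hσ]
          change (L1.obj o).obj.iso.inv ≫ ((T1 o.obj.fst).hom ≫ (T2 o.obj.fst).inv) ≫
            (L1.obj o).obj.iso.hom = _
          rw [h12, Iso.hom_inv_id, Category.id_comp, Iso.inv_hom_id]
          rfl
        change f.map (𝟙 o.obj.snd) ≫ 𝟙 _ = σ.hom.toNatTrans.app (L1.obj o) ≫ f.map (𝟙 o.obj.snd)
        rw [h0]
        exact (Category.comp_id _).trans (Category.id_comp _).symm
    let L2 : FibCat.fp w (BasedFunctor.comp f (FibCat.diag D)) ⥤ᵇ FibCat.fp v (FibCat.diag f) :=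
      FibCat.fpLift L1 ts e2
    let e3 : BasedFunctor.comp L2 v' ≅ BasedFunctor.comp ts (FibCat.diag D') :=
      fpIsoMk (Iso.refl _) (Iso.refl _) fun o => by
        apply fp_hom_ext <;>
        · change 𝟙 o.obj.snd ≫ 𝟙 o.obj.snd = 𝟙 o.obj.snd ≫ 𝟙 o.obj.snd
          rfl
    let L3 := FibCat.fpLift L2 ts e3
    refine ⟨L3.obj z, rfl, ⟨fpHomMk (𝟙 z.obj.fst) (𝟙 z.obj.snd) ?_⟩⟩
    apply fp_hom_ext
    · change y.map (𝟙 z.obj.fst) ≫ η1.hom.toNatTrans.app z =
        (η1.hom.toNatTrans.app z ≫ f.map (𝟙 z.obj.snd)) ≫ f.map (𝟙 z.obj.snd)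
      simp
      exact ((congrArg (fun m => η1.hom.toNatTrans.app z ≫ m) (f.map_id _)).trans (Category.comp_id _)).symm
    · change y'.map (𝟙 z.obj.fst) ≫ η2.hom.toNatTrans.app z =
        ((T1 z.obj.fst).inv ≫ η1.hom.toNatTrans.app z ≫ f.map (𝟙 z.obj.snd)) ≫ f.map (𝟙 z.obj.snd)
      simp [(hη z).1]
      exact ((congrArg (fun m => η2.hom.toNatTrans.app z ≫ m) (f.map_id _)).trans (Category.comp_id _)).symm
  · have hc : IsClosedMap (AlgSt.Points.map π1 ∘ AlgSt.Points.map π2 ∘ AlgSt.Points.map π3) :=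
      (hf W hW y).comp ((hΔf _ hR1 v).comp (hΔΔ _ hR2 v'))
    have : AlgSt.Points.map p = AlgSt.Points.map π1 ∘ AlgSt.Points.map π2 ∘ AlgSt.Points.map π3 := by
      rw [map_comp_eq, map_comp_eq]
    change IsClosedMap (AlgSt.Points.map p)
    exact this ▸ hc

/-- Let f : 𝒳 → 𝒴 and g : 𝒴 → 𝒵 be morphisms of algebraic stacks with composite h : 𝒳 → 𝒵. If f is flat,
surjective, universally injective and locally of finite presentation, the diagonal of f is
universally closed and h is separated, then g is separated. (The published statement does not ask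
the diagonal of f to be universally closed, and without it the statement fails: over the affine line
T over a field let G be the constant group scheme with two elements, H the etale group scheme
obtained from G by gluing its two sections over the complement of the origin, and f the morphism
from the classifying stack of G to that of H induced by the quotient map; then f is flat,
surjective, universally injective and locally of finite presentation, the classifying stack of G is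
separated over T since G is finite, and that of H is not since H is not separated. The published
argument uses that the diagonal of f is universally closed.) -/
theorem result
    (S : Scheme.{u}) (𝒳 : AlgSt.Cat S) (𝒴 : AlgSt.Cat S) (𝒵 : AlgSt.Cat S)
    (h𝒳 : AlgSt.IsAlgStack Scheme.fppfPrecoverage 𝒳)
    (h𝒴 : AlgSt.IsAlgStack Scheme.fppfPrecoverage 𝒴)
    (h𝒵 : AlgSt.IsAlgStack Scheme.fppfPrecoverage 𝒵)
    (f : 𝒳 ⥤ᵇ 𝒴) (g : 𝒴 ⥤ᵇ 𝒵)
    (hf₁ : AlgSt.IsSurjective f) (hf₂ : AlgSt.LocQ (AlgSp.LocP @Flat) f)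
    (hf₃ : AlgSt.LocQ (AlgSp.LocP @LocallyOfFinitePresentation) f)
    (hf₄ : AlgSt.IsUnivInjective Scheme.fppfPrecoverage f)
    (hf₅ : AlgSt.RepByAlgSpWith AlgSp.IsUnivClosedMor (FibCat.diag f))
    (hh : AlgSt.IsSeparatedMor (BasedFunctor.comp f g)) :
    AlgSt.IsSeparatedMor g := by
  haveI := h𝒳.isStack.1
  haveI := h𝒴.isStack.1
  haveI := h𝒵.isStack.1
  haveI : FibCat.IsFibGrpd (FibCat.fp g g).p := isFibGrpd_fp
  haveI : FibCat.IsFibGrpd (FibCat.fp (BasedFunctor.comp f g) (BasedFunctor.comp f g)).p := isFibGrpd_fp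
  haveI : FibCat.IsFibGrpd (FibCat.fp (BasedFunctor.comp f g) g).p := isFibGrpd_fp
  haveI : FibCat.IsFibGrpd (FibCat.fp f f).p := isFibGrpd_fp
  haveI : FibCat.IsFibGrpd (FibCat.fp (FibCat.diag g) (FibCat.diag g)).p := isFibGrpd_fp
  have hGG := isAlgStack_fp (isPrestack_of_isStack h𝒵.isStack) h𝒵.diag h𝒴 h𝒴 g g
  have hHH := isAlgStack_fp (isPrestack_of_isStack h𝒵.isStack) h𝒵.diag h𝒳 h𝒳
    (BasedFunctor.comp f g) (BasedFunctor.comp f g)
  have hHG := isAlgStack_fp (isPrestack_of_isStack h𝒵.isStack) h𝒵.diag h𝒳 h𝒴 (BasedFunctor.comp f g) g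
  have hDD := isAlgStack_fp (isPrestack_of_isStack hGG.isStack) hGG.diag h𝒴 h𝒴
    (FibCat.diag g) (FibCat.diag g)
  have hf : AlgSt.IsUnivClosed Scheme.fppfPrecoverage f :=
    univClosed_of_fppf_injective h𝒳 h𝒴 hf₁ hf₂ hf₃ hf₄
  have hD' : AlgSt.IsUnivClosed Scheme.fppfPrecoverage (FibCat.diag (BasedFunctor.comp f g)) :=
    univClosed_of_repByAlgSpWith (repByAlgSpWith_mono (fun _ _ _ _ _ h => h.2.2) hh)
  have hΔD' : AlgSt.IsUnivClosed Scheme.fppfPrecoverage
      (FibCat.diag (FibCat.diag (BasedFunctor.comp f g))) :=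
    univClosed_of_repByAlgSpWith (repByAlgSpWith_mono (fun _ _ _ _ _ h => h.2.2)
      (repByAlgSpWith_diag_of_isSeparatedMor isProperMor_yon_map
        (repByAlgSpWith_mono (fun _ _ _ _ _ h => h.1) hh)))
  have hN : AlgSt.IsUnivClosed Scheme.fppfPrecoverage (compN f g) :=
    univClosed_congr hHH hGG (fpIsoMk (Iso.refl _) (Iso.refl _) fun x => by
      change g.map (𝟙 (f.obj x.obj.fst)) ≫ x.obj.iso.hom = x.obj.iso.hom ≫ g.map (𝟙 (f.obj x.obj.snd))
      simp
      exact (Category.comp_id _).symm)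
    (univClosed_comp hHH hHG hGG
      (univClosed_pushR h𝒴 h𝒵 h𝒳 h𝒳 (BasedFunctor.comp f g) g hf)
      (univClosed_pushL h𝒴 h𝒵 h𝒴 h𝒳 g g hf))
  have hD : AlgSt.IsUnivClosed Scheme.fppfPrecoverage (FibCat.diag g) :=
    univClosed_of_surjective h𝒳 h𝒴 hGG hf₁ (univClosed_congr h𝒳 hGG
      (fpIsoMk (Iso.refl _) (Iso.refl _) fun x => by
        change g.map (𝟙 (f.obj x)) ≫ 𝟙 (g.obj (f.obj x)) = 𝟙 (g.obj (f.obj x)) ≫ g.map (𝟙 (f.obj x))
        simp)
      (univClosed_comp h𝒳 hHH hGG hD' hN))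
  have hΔD : AlgSt.IsUnivClosed Scheme.fppfPrecoverage (FibCat.diag (FibCat.diag g)) :=
    univClosed_of_surjective h𝒳 h𝒴 hDD hf₁
      (univClosed_comp_diag_diag h𝒳 h𝒴 h𝒵 hf (univClosed_of_repByAlgSpWith hf₅) hΔD')
  exact Groth.Agent.S12979.result S 𝒴 𝒵 h𝒴 h𝒵 g
    ((repByAlgSpWith_univSp_iff isTopProp_isClosedMap (repByAlgSp1_diag_of_isAlgStack g h𝒴 h𝒵)).2 hD)
    ((repByAlgSpWith_univSp_iff isTopProp_isClosedMap
      (repByAlgSp1_diag_of_isAlgStack (FibCat.diag g) h𝒴 hGG)).2 hΔD)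

end Groth.Agent.S19900
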