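import Groth.Statements.S19901
import Groth.Agent.ASt.LocQBase
import Groth.Agent.ASp.SmST
import Groth.Agent.ASp.LciST
set_option backward.isDefEq.respectTransparency false
set_option backward.isDefEq.respectTransparency.types false

set_option autoImplicit false
universe u
open CategoryTheory AlgebraicGeometry
open AlgSt

namespace Groth.Agent.S19901

open CategoryTheory.Limits AlgSp Groth.Agent.ASt

/-- Let f : 𝒳 → 𝒴, q : 𝒴 → 𝒵 and p : 𝒳 → 𝒵 be morphisms of algebraic stacks forming a 2-commutative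
triangle (a 2-isomorphism between q ∘ f and p is given). If q is smooth and p is a local complete
intersection morphism (Koszul), then f is a local complete intersection morphism. Smooth and local
complete intersection morphisms of algebraic stacks are read on one square of smooth scheme charts. -/
theorem result
    (S : Scheme.{u}) (𝒳 : AlgSt.Cat S) (𝒴 : AlgSt.Cat S) (𝒵 : AlgSt.Cat S)
    (h𝒳 : AlgSt.IsAlgStack Scheme.fppfPrecoverage 𝒳)
    (h𝒴 : AlgSt.IsAlgStack Scheme.fppfPrecoverage 𝒴)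
    (h𝒵 : AlgSt.IsAlgStack Scheme.fppfPrecoverage 𝒵)
    (f : 𝒳 ⥤ᵇ 𝒴) (q : 𝒴 ⥤ᵇ 𝒵) (p : 𝒳 ⥤ᵇ 𝒵) (e : BasedFunctor.comp f q ≅ p)
    (hq : AlgSt.LocQ (AlgSp.LocP @Smooth) q) (hp : AlgSt.LocQ AlgSp.IsLCIMor p) :
    AlgSt.LocQ AlgSp.IsLCIMor f := by
  haveI := h𝒳.isStack.1; haveI := h𝒴.isStack.1; haveI := h𝒵.isStack.1
  have hcomp : AlgSt.LocQ (AlgSp.LocP Groth.Agent.CILib.LCIMorP) (BasedFunctor.comp f q) := by
    rw [← Groth.Agent.ASp.Lci.lci_eq]
    obtain ⟨U, V, x, y, h, α, h1, h2, h3, h4⟩ := hp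
    exact ⟨U, V, x, y, h, (Groth.Agent.ASt.wL x e) ≪≫ α, h1, h2, h3, h4⟩
  obtain ⟨W, w, E, D, hw, hws, hk⟩ :=
    exists_charts_comp Groth.Agent.ASp.Lci.isSmoothLocalST_lci h𝒳 h𝒴 h𝒵 hcomp
  haveI : Smooth E.k.left :=
    prop_left_of_locP (E.prop Groth.Agent.ASp.isSmoothLocalST_locP h𝒵.diag hw hq)
  have h1 : Groth.Agent.CILib.LCIMorP (D.k.left ≫ E.k.left) :=
    hk (𝟙 _) (𝟙 _) (D.k ≫ E.k) (AlgSp.repWith_id _ _) (AlgSp.repWith_id _ _) (by simp)
  show AlgSt.LocQ (AlgSp.LocP AlgSp.lci) f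
  rw [Groth.Agent.ASp.Lci.lci_eq]
  exact D.locQ (E.x_smooth hw) (E.x_surj hws)
    (Groth.Agent.ASp.Lci.locP_yon_map (Groth.Agent.CILib.lciMorP_of_comp_smooth D.k.left E.k.left h1))

end Groth.Agent.S19901
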