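import Groth.Statements.S19903
import Groth.Agent.ASt.InertiaDiag
import Groth.Agent.ASt.DiagCancel
import Groth.Agent.ASt.Local
-- import your own Groth.Agent.* helpers here

set_option autoImplicit false
set_option backward.isDefEq.respectTransparency false
universe u
open CategoryTheory AlgebraicGeometry
open AlgSt

namespace Groth.Agent.S19903

/-- For a morphism f : 𝒳 → 𝒴 of algebraic stacks, if the relative inertia 𝓘_{𝒳/𝒴} → 𝒳 is locally
separated then the neutral section e : 𝒳 → 𝓘_{𝒳/𝒴} (the second diagonal of f) is an immersion, and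
likewise if the diagonal of f is locally separated. The inertia and the diagonal are representable
by algebraic spaces and local separatedness is the property of such morphisms. (The published
statement asserts the equivalence of the three conditions: inertia locally separated, diagonal
locally separated, neutral section an immersion; only the two implications towards the last
condition are stated here.) -/
theorem result
    (S : Scheme.{u}) (𝒳 : AlgSt.Cat S) (𝒴 : AlgSt.Cat S)
    (h𝒳 : AlgSt.IsAlgStack Scheme.fppfPrecoverage 𝒳)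
    (h𝒴 : AlgSt.IsAlgStack Scheme.fppfPrecoverage 𝒴)
    (f : 𝒳 ⥤ᵇ 𝒴) :
    (AlgSt.RepByAlgSpWith AlgSp.IsLocallySeparatedMor (FibCat.inertiaToBase f) →
        AlgSt.IsImm (FibCat.inertiaNeutral f)) ∧
      (AlgSt.RepByAlgSpWith AlgSp.IsLocallySeparatedMor (FibCat.diag f) →
        AlgSt.IsImm (FibCat.inertiaNeutral f)) := by
  haveI := h𝒳.isStack.1
  haveI := h𝒴.isStack.1
  haveI : FibCat.IsFibGrpd (FibCat.fp f f).p := ASt.isFibGrpd_fp
  haveI := ASt.isFibGrpd_inertia f
  haveI : (AlgSp.IsLocallySeparatedMor : MorphismProperty (AlgSp.Sp S)).RespectsIso :=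
    inferInstanceAs (AlgSp.RepWith (S := S) @IsImmersion).diagonal.RespectsIso
  have key : AlgSt.RepByAlgSpWith AlgSp.IsLocallySeparatedMor (FibCat.inertiaToBase f) →
      AlgSt.IsImm (FibCat.inertiaNeutral f) := fun h =>
    ASt.repByAlgSpWith_inertiaNeutral f ASt.compLocal_immersion (fun U => AlgSp.repWith_id _ U)
      (ASt.repByAlgSpWith_diag_of_fibres (ASt.repByAlgSp1_of_with h) fun {U} y hs E e _ _ hQ =>
        ASp.repWith_yon_map (hQ (by
          obtain ⟨_, -, h'⟩ := (ASt.repByAlgSpWith_iff.1 h).2 U y
          exact h')))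
  exact ⟨key, fun h => key (ASt.repByAlgSpWith_inertiaToBase f h)⟩

end Groth.Agent.S19903
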