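import Groth.Statements.S19910
import Mathlib
import Groth.Agent.S1454
import Groth.Agent.S9812

set_option autoImplicit false
universe u
open CategoryTheory CategoryTheory.Limits AlgebraicGeometry
open Models

namespace Groth.Agent.S19910

open IsLocalRing

section Alg

variable {A B : Type u} [CommRing A] [CommRing B]

/-- The map of normalisations of reductions along a map under which all minimal primes contract to the nilradical. -/
theorem exists_normRed_map [IsDomain (CAlg2.red A)] (f : A →+* CAlg2.red B)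
    (hf : ∀ P ∈ minimalPrimes (CAlg2.red B), P.comap f = nilradical A) :
    ∃ ψ : CAlg2.normRed A →+* CAlg2.normRed B, ∀ a : A,
      ψ (algebraMap (CAlg2.red A) (CAlg2.normRed A) (Ideal.Quotient.mk _ a)) =
        algebraMap (CAlg2.red B) (CAlg2.normRed B) (f a) := by
  haveI : IsReduced (CAlg2.red B) :=
    (Ideal.isRadical_iff_quotient_reduced _).1 (Ideal.radical_isRadical _)
  let fr : CAlg2.red A →+* CAlg2.red B := Ideal.Quotient.lift _ f fun a ha => by
    have hn : IsNilpotent (f a) := IsNilpotent.map (mem_nilradical.1 ha) f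
    exact hn.eq_zero
  have hfr : ∀ x ∈ nonZeroDivisors (CAlg2.red A), fr x ∈ nonZeroDivisors (CAlg2.red B) := by
    intro x hx
    obtain ⟨a, rfl⟩ := Ideal.Quotient.mk_surjective x
    have hnil : a ∉ nilradical A := fun h => nonZeroDivisors.ne_zero hx (Ideal.Quotient.eq_zero_iff_mem.2 h)
    rw [mem_nonZeroDivisors_iff_right]
    intro y hy
    have h0 : y ∈ sInf ((⊥ : Ideal (CAlg2.red B)).minimalPrimes) := by
      refine Ideal.mem_sInf.2 fun {P} hP => ?_
      have := hP.1.1
      rcases this.mem_or_mem (show y * f a ∈ P by rw [show y * f a = 0 from hy]; exact P.zero_mem) with h | h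
      · exact h
      · exact absurd ((hf P hP).le h) hnil
    rw [Ideal.sInf_minimalPrimes] at h0
    exact (mem_nilradical.1 h0).eq_zero
  let g : FractionRing (CAlg2.red A) →+* FractionRing (CAlg2.red B) :=
    IsLocalization.lift (M := nonZeroDivisors (CAlg2.red A))
      (g := (algebraMap (CAlg2.red B) (FractionRing (CAlg2.red B))).comp fr)
      (fun s => IsLocalization.map_units (FractionRing (CAlg2.red B)) (⟨_, hfr _ s.2⟩ : nonZeroDivisors (CAlg2.red B)))
  have hg : ∀ r, g (algebraMap _ _ r) = algebraMap _ _ (fr r) := fun r => IsLocalization.lift_eq _ r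
  have hint : ∀ z : CAlg2.normRed A, IsIntegral (CAlg2.red B) (g z.1) := by
    intro z
    obtain ⟨p, hp, hz⟩ := z.2
    refine ⟨p.map fr, hp.map fr, ?_⟩
    rw [Polynomial.eval₂_map, show (algebraMap (CAlg2.red B) (FractionRing (CAlg2.red B))).comp fr =
      g.comp (algebraMap (CAlg2.red A) (FractionRing (CAlg2.red A))) from RingHom.ext fun r => (hg r).symm,
      ← Polynomial.hom_eval₂, hz, map_zero]
  exact ⟨(g.comp (integralClosure (CAlg2.red A) (FractionRing (CAlg2.red A))).toSubring.subtype).codRestrict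
    (integralClosure (CAlg2.red B) (FractionRing (CAlg2.red B))).toSubring hint, fun a => Subtype.ext (hg _)⟩

/-- Lifting of a maximal ideal through a point with values in a field. -/
theorem exists_maximal_above [IsLocalRing A] [IsLocalRing B] [IsDomain (CAlg2.red A)]
    (ψ : CAlg2.normRed A →+* CAlg2.normRed B) (f : A →+* CAlg2.red B)
    (hψ : ∀ a : A, ψ (algebraMap (CAlg2.red A) (CAlg2.normRed A) (Ideal.Quotient.mk _ a)) =
        algebraMap (CAlg2.red B) (CAlg2.normRed B) (f a))
    (M : MaximalSpectrum (CAlg2.normRed A))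
    {L T : Type u} [Field L] [CommRing T] [IsLocalRing T] (t : T →+* L)
    (a : CAlg2.normRed A →+* T) (ha : M.asIdeal = (maximalIdeal T).comap a)
    (ha0 : Function.Injective (t.comp a))
    (b : CAlg2.red B →+* L) (hb0 : RingHom.ker b ∈ minimalPrimes (CAlg2.red B))
    (bT : B →+* T) [IsLocalHom bT] (hbT : ∀ x, t (bT x) = b (Ideal.Quotient.mk _ x))
    (hab : ∀ x : A, t (a (algebraMap (CAlg2.red A) (CAlg2.normRed A) (Ideal.Quotient.mk _ x))) = b (f x)) :
    ∃ M' : MaximalSpectrum (CAlg2.normRed B), M'.asIdeal.comap ψ = M.asIdeal := by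
  haveI : IsReduced (CAlg2.red B) :=
    (Ideal.isRadical_iff_quotient_reduced _).1 (Ideal.radical_isRadical _)
  let c : FractionRing (CAlg2.red B) →+* L :=
    IsLocalization.lift (M := nonZeroDivisors (CAlg2.red B)) (g := b) (fun s => isUnit_iff_ne_zero.2 fun h0 =>
      Set.disjoint_left.1 (Ideal.disjoint_nonZeroDivisors_of_mem_minimalPrimes hb0) h0 s.2)
  have hc : ∀ r, c (algebraMap _ _ r) = b r := fun r => IsLocalization.lift_eq _ r
  let c' : CAlg2.normRed B →+* L :=
    c.comp (integralClosure (CAlg2.red B) (FractionRing (CAlg2.red B))).toSubring.subtype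
  have key : c'.comp ψ = t.comp a := by
    refine RingHom.ext fun z => ?_
    obtain ⟨⟨r, s⟩, hrs⟩ := IsLocalization.surj (nonZeroDivisors (CAlg2.red A))
      (z.1 : FractionRing (CAlg2.red A))
    have hz : z * algebraMap (CAlg2.red A) (CAlg2.normRed A) (s : CAlg2.red A) =
        algebraMap (CAlg2.red A) (CAlg2.normRed A) r := Subtype.ext hrs
    have hagree : ∀ q, c' (ψ (algebraMap (CAlg2.red A) (CAlg2.normRed A) q)) =
        t (a (algebraMap (CAlg2.red A) (CAlg2.normRed A) q)) := by
      intro q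
      obtain ⟨x, rfl⟩ := Ideal.Quotient.mk_surjective q
      rw [hab x, hψ x]
      exact hc _
    have hs0 : (t.comp a) (algebraMap (CAlg2.red A) (CAlg2.normRed A) (s : CAlg2.red A)) ≠ 0 := fun h => by
      have h1 : algebraMap (CAlg2.red A) (CAlg2.normRed A) (s : CAlg2.red A) = 0 := ha0 (by rw [h, map_zero])
      exact nonZeroDivisors.ne_zero s.2
        (IsFractionRing.injective (CAlg2.red A) (FractionRing (CAlg2.red A))
          ((congrArg Subtype.val h1).trans (map_zero _).symm))
    refine mul_right_cancel₀ hs0 ?_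
    rw [← map_mul (t.comp a), hz]
    show c' (ψ z) * t (a _) = t (a _)
    rw [← hagree, ← hagree, ← map_mul, ← map_mul, hz]
  obtain ⟨V, hV, hVloc⟩ := IsLocalRing.exists_factor_valuationRing
    ((LocalSubring.range t).toSubring.subtype)
  have htV : ∀ x, t x ∈ V := fun x => hV ⟨t x, ⟨x, rfl⟩⟩
  let t' : T →+* V.toSubring := t.codRestrict V.toSubring htV
  haveI : IsLocalHom t' := by
    constructor
    intro x hx
    have h1 : IsUnit ((LocalSubring.range t).toSubring.subtype.codRestrict V.toSubring hV ⟨t x, ⟨x, rfl⟩⟩) := hx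
    have h2 := hVloc.map_nonunit _ h1
    exact (IsLocalHom.of_surjective t.rangeRestrict t.rangeRestrict_surjective).map_nonunit x h2
  have hmem : ∀ z, c' z ∈ V := by
    intro z
    obtain ⟨p, hp, hz⟩ := z.2
    have hbV : ∀ r, b r ∈ V := fun r => by
      obtain ⟨x, rfl⟩ := Ideal.Quotient.mk_surjective r
      rw [← hbT]; exact htV _
    let b' : CAlg2.red B →+* V.toSubring := b.codRestrict V.toSubring hbV
    have h : IsIntegral V.toSubring (c z.1) := by
      refine ⟨p.map b', hp.map b', ?_⟩
      rw [Polynomial.eval₂_map, show (algebraMap V.toSubring L).comp b' =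
        c.comp (algebraMap (CAlg2.red B) (FractionRing (CAlg2.red B))) from RingHom.ext fun r => (hc r).symm,
        ← Polynomial.hom_eval₂, hz, map_zero]
    exact LocalSubring.mem_of_isMax_of_isIntegral V.isMax_toLocalSubring h
  let cV : CAlg2.normRed B →+* V.toSubring := c'.codRestrict V.toSubring hmem
  haveI : IsLocalRing V.toSubring := inferInstanceAs (IsLocalRing V)
  have hmax : (maximalIdeal V.toSubring).comap cV |>.IsMaximal := by
    refine Ideal.isMaximal_of_isIntegral_of_isMaximal_comap (R := CAlg2.red B) _ ?_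
    haveI : ((maximalIdeal V.toSubring).comap cV |>.comap (algebraMap (CAlg2.red B) (CAlg2.normRed B))).IsPrime :=
      inferInstance
    have h : ((maximalIdeal V.toSubring).comap cV |>.comap (algebraMap (CAlg2.red B) (CAlg2.normRed B))).comap
        (Ideal.Quotient.mk (nilradical B)) = maximalIdeal B := by
      rw [Ideal.comap_comap, Ideal.comap_comap]
      have e : cV.comp ((algebraMap (CAlg2.red B) (CAlg2.normRed B)).comp (Ideal.Quotient.mk (nilradical B))) =
          t'.comp bT := RingHom.ext fun x => Subtype.ext ((hc _).trans (hbT x).symm)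
      rw [show (cV.comp _) = _ from e, ← Ideal.comap_comap, IsLocalRing.maximalIdeal_comap,
        IsLocalRing.maximalIdeal_comap]
    haveI := Ideal.comap_isPrime cV (maximalIdeal V.toSubring)
    rw [← Ideal.map_comap_of_surjective (Ideal.Quotient.mk (nilradical B)) Ideal.Quotient.mk_surjective
      (Ideal.comap (algebraMap (CAlg2.red B) (CAlg2.normRed B)) _), h]
    refine (Ideal.map_eq_top_or_isMaximal_of_surjective _ Ideal.Quotient.mk_surjective
      (maximalIdeal.isMaximal B)).resolve_left fun ht => ?_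
    have : Ideal.comap (algebraMap (CAlg2.red B) (CAlg2.normRed B)) (Ideal.comap cV (maximalIdeal V.toSubring)) = ⊤ := by
      rw [← Ideal.map_comap_of_surjective (Ideal.Quotient.mk (nilradical B)) Ideal.Quotient.mk_surjective
        (Ideal.comap (algebraMap (CAlg2.red B) (CAlg2.normRed B)) _), h, ht]
    exact Ideal.IsPrime.ne_top inferInstance this
  refine ⟨⟨_, hmax⟩, ?_⟩
  show ((maximalIdeal V.toSubring).comap cV).comap ψ = M.asIdeal
  rw [Ideal.comap_comap, show cV.comp ψ = t'.comp a from RingHom.ext fun z => Subtype.ext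
    (congrFun (congrArg DFunLike.coe key) z), ← Ideal.comap_comap, IsLocalRing.maximalIdeal_comap, ha]

end Alg


section Geo

open PrimeSpectrum

theorem eq_of_fromSpecStalk {X : Scheme.{u}} {x : X} {p q : Spec (X.presheaf.stalk x)}
    (h : X.fromSpecStalk x p = X.fromSpecStalk x q) : p = q :=
  (X.fromSpecStalk x).isEmbedding.injective h

theorem fromSpecStalk_comap {X Y : Scheme.{u}} (f : X ⟶ Y) (x : X) (p : Spec (X.presheaf.stalk x)) :
    Y.fromSpecStalk (f x) (Spec.map (f.stalkMap x) p) = f (X.fromSpecStalk x p) := by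
  rw [← Scheme.Hom.comp_apply, Scheme.SpecMap_stalkMap_fromSpecStalk, Scheme.Hom.comp_apply]

theorem fromSpecStalk_specializes {X : Scheme.{u}} {x y : X} (h : x ⤳ y) (p : Spec (X.presheaf.stalk x)) :
    X.fromSpecStalk y (Spec.map (X.presheaf.stalkSpecializes h) p) = X.fromSpecStalk x p := by
  rw [← Scheme.Hom.comp_apply, Scheme.SpecMap_stalkSpecializes_fromSpecStalk]

theorem exists_prime_of_specializes {X : Scheme.{u}} {x y : X} (h : y ⤳ x) :
    ∃ p : Spec (X.presheaf.stalk x), X.fromSpecStalk x p = y := by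
  have : y ∈ Set.range (X.fromSpecStalk x) := by rw [Scheme.range_fromSpecStalk]; exact h
  exact this

theorem asIdeal_le_iff {X : Scheme.{u}} {x : X} (p q : Spec (X.presheaf.stalk x)) :
    p.asIdeal ≤ q.asIdeal ↔ X.fromSpecStalk x p ⤳ X.fromSpecStalk x q := by
  rw [(X.fromSpecStalk x).isEmbedding.isInducing.specializes_iff]
  exact (PrimeSpectrum.asIdeal_le_asIdeal p q).trans (PrimeSpectrum.le_iff_specializes p q)

/-- An irreducible subset of `S` lies in a maximal irreducible subset of `S`. -/
theorem exists_maximal_irreducible {X : Type u} [TopologicalSpace X] {S C : Set X} (hC : IsIrreducible C) (h : C ⊆ S) :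
    ∃ Γ, C ⊆ Γ ∧ Maximal (fun U : Set X => IsIrreducible U ∧ U ⊆ S) Γ := by
  have hpre : IsPreirreducible ((↑) ⁻¹' C : Set S) := by
    intro u v hu hv ⟨a, haC, hau⟩ ⟨b, hbC, hbv⟩
    obtain ⟨u', hu', rfl⟩ := isOpen_induced_iff.1 hu
    obtain ⟨v', hv', rfl⟩ := isOpen_induced_iff.1 hv
    obtain ⟨c, hc, hcu⟩ := hC.2 u' v' hu' hv' ⟨a, haC, hau⟩ ⟨b, hbC, hbv⟩
    exact ⟨⟨c, h hc⟩, hc, hcu⟩
  obtain ⟨t, ht, hCt, hmax⟩ := exists_preirreducible _ hpre
  have hirr : IsIrreducible ((↑) '' t : Set X) := by
    obtain ⟨c, hc⟩ := hC.1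
    exact ⟨⟨c, ⟨c, h hc⟩, hCt hc, rfl⟩, ht.image _ continuous_subtype_val.continuousOn⟩
  refine ⟨(↑) '' t, fun c hc => ⟨⟨c, h hc⟩, hCt hc, rfl⟩, ⟨hirr, Subtype.coe_image_subset _ _⟩, ?_⟩
  rintro U ⟨hU, hUS⟩ hle x hx
  have hUpre : IsPreirreducible ((↑) ⁻¹' U : Set S) := by
    intro u v hu hv ⟨a, haC, hau⟩ ⟨b, hbC, hbv⟩
    obtain ⟨u', hu', rfl⟩ := isOpen_induced_iff.1 hu
    obtain ⟨v', hv', rfl⟩ := isOpen_induced_iff.1 hv
    obtain ⟨c, hc, hcu⟩ := hU.2 u' v' hu' hv' ⟨a, haC, hau⟩ ⟨b, hbC, hbv⟩
    exact ⟨⟨c, hUS hc⟩, hc, hcu⟩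
  have he := hmax _ hUpre (fun y hy => hle ⟨y, hy, rfl⟩)
  exact ⟨⟨x, hUS hx⟩, he ▸ hx, rfl⟩

/-- Lifting of generalisations along an open map with finite fibres. -/
theorem exists_generalization {X Y : Type u} [TopologicalSpace X] [TopologicalSpace Y] {f : X → Y}
    (ho : IsOpenMap f) {y : Y} (hfin : (f ⁻¹' {y}).Finite) {x : X} (h : y ⤳ f x) :
    ∃ x', x' ⤳ x ∧ f x' = y := by
  have hcl : x ∈ closure (f ⁻¹' {y}) := by
    rw [mem_closure_iff]
    intro o hoo hxo
    obtain ⟨a, ha, hay⟩ := h.mem_open (ho o hoo) ⟨x, hxo, rfl⟩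
    exact ⟨a, ha, hay⟩
  have he : f ⁻¹' {y} = ⋃ a ∈ f ⁻¹' {y}, {a} := (Set.biUnion_of_singleton _).symm
  rw [he, hfin.closure_biUnion] at hcl
  obtain ⟨a, ha, hax⟩ := Set.mem_iUnion₂.1 hcl
  exact ⟨a, specializes_iff_mem_closure.2 hax, ha⟩

end Geo

/-- Let R be a complete discrete valuation ring with algebraically closed residue field, W and Z
integral normal schemes which are flat, of finite type and of dimension 2 over Spec R, and ψ : W ->
Z a finite surjective R-morphism. Let z be a closed point of Z in the special fibre, w a point of W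
with ψ(w) = z, Δ an irreducible component of the special fibre of Z containing z, and E the union of
the irreducible components of the special fibre of W which contain w and whose image under ψ is Δ.
For a curve C over the residue field and a closed point c, write m(C, c) for the number of points
over c in the normalization of the reduction of C, that is, the number of branches of C at c. Then
m(E, w) ≥ m(Δ, z). Here Δ and E are given arbitrary closed-subscheme structures D and E' (the
numbers of branches depend only on the underlying reduced schemes). (The published statement asks W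
and Z only to be normal; they are taken integral as well here.) -/
theorem result
    (R : Type u) [CommRing R] [IsDomain R] [IsDiscreteValuationRing R]
    [IsAdicComplete (IsLocalRing.maximalIdeal R) R] (hk : IsAlgClosed (IsLocalRing.ResidueField R))
    (W Z : Over (Spec (CommRingCat.of R))) [IsIntegral W.left] [IsIntegral Z.left]
    (hWn : Pi1.IsNormalScheme W.left) (hZn : Pi1.IsNormalScheme Z.left)
    [Flat W.hom] [LocallyOfFiniteType W.hom] [QuasiCompact W.hom]
    [Flat Z.hom] [LocallyOfFiniteType Z.hom] [QuasiCompact Z.hom]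
    (hdW : topologicalKrullDim W.left = 2) (hdZ : topologicalKrullDim Z.left = 2)
    (ψ : W ⟶ Z) [IsFinite ψ.left] [Surjective ψ.left]
    (z : Z.left) (hzc : IsClosed ({z} : Set Z.left)) (hz : z ∈ Models.specialFibreSet R Z)
    (w : W.left) (hw : ψ.left.base w = z)
    (Δ : Set Z.left) (hΔ : Δ ∈ Models.fibreComponents R Z) (hzΔ : z ∈ Δ)
    (D : Scheme.{u}) (ιD : D ⟶ Z.left) [IsClosedImmersion ιD] (hD : Set.range ιD.base = Δ)
    (d : D) (hd : ιD.base d = z)
    (E' : Scheme.{u}) (ιE : E' ⟶ W.left) [IsClosedImmersion ιE]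
    (hE : Set.range ιE.base = ⋃₀ {Γ | Γ ∈ Models.fibreComponents R W ∧ w ∈ Γ ∧ ψ.left.base '' Γ = Δ})
    (e : E') (he : ιE.base e = w) :
    Brnch.numBranchesAt D d ≤ Brnch.numBranchesAt E' e := by
  subst he
  subst hd
  have hwZ : ψ.left (ιE e) = ιD d := hw
  haveI : IsLocallyNoetherian W.left := LocallyOfFiniteType.isLocallyNoetherian W.hom
  haveI : IsLocallyNoetherian Z.left := LocallyOfFiniteType.isLocallyNoetherian Z.hom
  haveI : IsLocallyNoetherian D := LocallyOfFiniteType.isLocallyNoetherian ιD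
  haveI : IsLocallyNoetherian E' := LocallyOfFiniteType.isLocallyNoetherian ιE
  -- universal openness
  haveI : UniversallyOpen ψ.left := by
    refine S1454.result ψ.left (fun y => ?_) ?_
    · haveI := (hZn y).1
      haveI := (hZn y).2
      exact S9812.result _
    · intro C hC x hx
      rw [irreducibleComponents_eq_singleton] at hC
      obtain rfl : C = Set.univ := hC
      obtain rfl := hx.eq (genericPoint_spec W.left)
      refine ⟨Set.univ, by rw [irreducibleComponents_eq_singleton]; exact Set.mem_singleton _, ?_⟩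
      have h := (genericPoint_spec W.left).image ψ.left.continuous
      rwa [Set.image_univ, ψ.left.surjective.range_eq, closure_univ] at h
  -- the generic point of Δ
  have hΔc : IsClosed Δ := hD ▸ ιD.isClosedEmbedding.isClosed_range
  obtain ⟨δ, hδ⟩ : ∃ δ, IsGenericPoint δ Δ := QuasiSober.sober hΔ.1.1 hΔc
  have hδmem : δ ∈ Δ := hδ.mem
  obtain ⟨ξ, hξ⟩ : δ ∈ Set.range ιD.base := hD ▸ hδmem
  have hξ' : ∀ η : D, ξ ⤳ η := fun η => by
    rw [← ιD.isClosedEmbedding.isInducing.specializes_iff]
    exact hξ ▸ hδ.specializes (hD ▸ Set.mem_range_self η)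
  obtain ⟨pξ, hpξ⟩ := exists_prime_of_specializes (hξ' d)
  have hnilA : nilradical (D.presheaf.stalk d) = pξ.asIdeal := by
    haveI : pξ.asIdeal.IsPrime := PrimeSpectrum.isPrime pξ
    refine le_antisymm (nilradical_le_prime _) ?_
    rw [nilradical_eq_sInf]
    refine le_sInf fun q hq => (asIdeal_le_iff pξ ⟨q, hq⟩).2 ?_
    rw [hpξ]; exact hξ' _
  haveI : (nilradical (D.presheaf.stalk d)).IsPrime := by rw [hnilA]; exact pξ.isPrime
  haveI : IsDomain (CAlg2.red (D.presheaf.stalk d)) := Ideal.Quotient.isDomain _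
  -- the maps of local rings
  let sDc : Z.left.presheaf.stalk (ψ.left (ιE e)) ⟶ D.presheaf.stalk d :=
    Z.left.presheaf.stalkSpecializes (specializes_of_eq hwZ.symm) ≫ ιD.stalkMap d
  let qc : Z.left.presheaf.stalk (ψ.left (ιE e)) ⟶ E'.presheaf.stalk e := ψ.left.stalkMap (ιE e) ≫ ιE.stalkMap e
  have hsD : ∀ p, Z.left.fromSpecStalk (ψ.left (ιE e)) (Spec.map sDc p) = ιD (D.fromSpecStalk d p) := fun p => by
    show Z.left.fromSpecStalk (ψ.left (ιE e))
      (Spec.map (Z.left.presheaf.stalkSpecializes (specializes_of_eq hwZ.symm) ≫ ιD.stalkMap d) p) = _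
    rw [Spec.map_comp, Scheme.Hom.comp_apply, fromSpecStalk_specializes, fromSpecStalk_comap]
  have hqc : ∀ p, Z.left.fromSpecStalk (ψ.left (ιE e)) (Spec.map qc p) = ψ.left (ιE (E'.fromSpecStalk e p)) := fun p => by
    show Z.left.fromSpecStalk (ψ.left (ιE e)) (Spec.map (ψ.left.stalkMap (ιE e) ≫ ιE.stalkMap e) p) = _
    rw [Spec.map_comp, Scheme.Hom.comp_apply, fromSpecStalk_comap, fromSpecStalk_comap]
  have hsDsurj : Function.Surjective sDc.hom := by
    show Function.Surjective ((ιD.stalkMap d).hom ∘ (Z.left.presheaf.stalkSpecializes (specializes_of_eq hwZ.symm)).hom)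
    refine Function.Surjective.comp (ιD.stalkMap_surjective d) ?_
    have : IsIso (Z.left.presheaf.stalkSpecializes (specializes_of_eq hwZ.symm)) :=
      (Z.left.presheaf.stalkCongr (.of_eq hwZ)).isIso_hom
    exact (ConcreteCategory.bijective_of_isIso _).2
  have hspecfib : Δ ⊆ Models.specialFibreSet R Z := hΔ.1.2
  have hWZ : ∀ x : W.left, ψ.left x ∈ Models.specialFibreSet R Z → x ∈ Models.specialFibreSet R W := fun x hx => by
    show W.hom.base x ∈ ({IsLocalRing.closedPoint R} : Set _)
    have h : W.hom.base x = Z.hom.base (ψ.left x) := by rw [← Over.w ψ]; rfl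
    rw [h]; exact hx
  have hEΔ : ∀ η : E', ψ.left (ιE η) ∈ Δ := fun η => by
    obtain ⟨Γ, ⟨-, -, hΓ⟩, hηΓ⟩ : ιE η ∈ ⋃₀ {Γ | Γ ∈ Models.fibreComponents R W ∧ ιE e ∈ Γ ∧ ψ.left.base '' Γ = Δ} :=
      hE ▸ Set.mem_range_self η
    exact hΓ ▸ ⟨ιE η, hηΓ, rfl⟩
  have hfibre : ∀ x y : W.left, ψ.left x = ψ.left y → x ⤳ y → x = y := fun x y hxy hs => by
    haveI := (ψ.left.isDiscrete_preimage_singleton (ψ.left y)).to_subtype
    have h : (⟨x, hxy⟩ : ψ.left ⁻¹' {ψ.left y}) ⤳ ⟨y, rfl⟩ := (subtype_specializes_iff _ _).2 hs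
    exact congrArg Subtype.val h.eq
  -- minimal primes of the stalk of E' lie over δ
  have hmin : ∀ p : Spec (E'.presheaf.stalk e), p.asIdeal ∈ minimalPrimes (E'.presheaf.stalk e) →
      Spec.map qc p = Spec.map sDc pξ := by
    intro p hp
    apply eq_of_fromSpecStalk
    rw [hqc, hsD, hpξ, hξ]
    obtain ⟨Γ, ⟨hΓ, -, hΓi⟩, hηΓ⟩ : ιE (E'.fromSpecStalk e p) ∈
        ⋃₀ {Γ | Γ ∈ Models.fibreComponents R W ∧ ιE e ∈ Γ ∧ ψ.left.base '' Γ = Δ} := hE ▸ Set.mem_range_self _
    have hΓc : IsClosed Γ := closure_subset_iff_isClosed.1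
      (hΓ.2 ⟨hΓ.1.1.closure, closure_minimal hΓ.1.2 (Models.isClosed_specialFibreSet R W)⟩ subset_closure)
    obtain ⟨γ, hγ⟩ : ∃ γ, IsGenericPoint γ Γ := QuasiSober.sober hΓ.1.1 hΓc
    obtain ⟨γ', hγ'⟩ : γ ∈ Set.range ιE.base :=
      hE ▸ ⟨Γ, ⟨hΓ, by
        obtain ⟨Γ', ⟨h1, h2, h3⟩, h4⟩ : ιE (E'.fromSpecStalk e p) ∈
          ⋃₀ {Γ | Γ ∈ Models.fibreComponents R W ∧ ιE e ∈ Γ ∧ ψ.left.base '' Γ = Δ} := hE ▸ Set.mem_range_self _
        exact ((IsLocalRing.specializes_closedPoint p).map (ιE.continuous.comp (E'.fromSpecStalk e).continuous)).mem_closed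
          hΓc hηΓ |> fun h => by simpa [Function.comp, Scheme.fromSpecStalk_closedPoint] using h, hΓi⟩, hγ.mem⟩
    have hsp : γ' ⤳ E'.fromSpecStalk e p := by
      rw [← ιE.isClosedEmbedding.isInducing.specializes_iff]
      exact hγ' ▸ hγ.specializes hηΓ
    have hge : γ' ⤳ e := hsp.trans (by
      have : E'.fromSpecStalk e p ∈ Set.range (E'.fromSpecStalk e) := Set.mem_range_self p
      rwa [Scheme.range_fromSpecStalk] at this)
    obtain ⟨p', hp'⟩ := exists_prime_of_specializes hge
    have hle : p'.asIdeal ≤ p.asIdeal := (asIdeal_le_iff p' p).2 (hp' ▸ hsp)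
    have heq : p' = p := PrimeSpectrum.ext (le_antisymm hle (hp.2 ⟨p'.2, bot_le⟩ hle))
    subst heq
    rw [hp', show ιE γ' = γ from hγ']
    refine (hγ.image ψ.left.continuous).eq ?_
    rw [show ψ.left '' Γ = Δ from hΓi, hΔc.closure_eq]
    exact hδ
  -- the map of reductions
  haveI : IsReduced (CAlg2.red (E'.presheaf.stalk e)) :=
    (Ideal.isRadical_iff_quotient_reduced _).1 (Ideal.radical_isRadical _)
  let q : Z.left.presheaf.stalk (ψ.left (ιE e)) →+* CAlg2.red (E'.presheaf.stalk e) := (Ideal.Quotient.mk _).comp qc.hom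
  have hP : ∀ P ∈ minimalPrimes (CAlg2.red (E'.presheaf.stalk e)),
      P.comap q = (nilradical (D.presheaf.stalk d)).comap sDc.hom := by
    intro P hP
    haveI := hP.1.1
    have h := hmin ⟨P.comap (Ideal.Quotient.mk _), inferInstance⟩ ⟨⟨inferInstance, bot_le⟩, fun Q hQ hle => by
      haveI := hQ.1
      have hker : RingHom.ker (Ideal.Quotient.mk (nilradical (E'.presheaf.stalk e))) ≤ Q := by
        rw [Ideal.mk_ker]; exact nilradical_le_prime Q
      haveI : (Q.map (Ideal.Quotient.mk (nilradical (E'.presheaf.stalk e)))).IsPrime :=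
        Ideal.map_isPrime_of_surjective Ideal.Quotient.mk_surjective hker
      have h1 : Q.map (Ideal.Quotient.mk (nilradical (E'.presheaf.stalk e))) ≤ P :=
        (Ideal.map_mono hle).trans Ideal.map_comap_le
      have h2 := Ideal.comap_mono (f := Ideal.Quotient.mk (nilradical (E'.presheaf.stalk e)))
        (hP.2 ⟨inferInstance, bot_le⟩ h1)
      rwa [Ideal.comap_map_of_surjective _ Ideal.Quotient.mk_surjective, ← RingHom.ker_eq_comap_bot,
        sup_eq_left.2 hker] at h2⟩
    have h' := congrArg PrimeSpectrum.asIdeal h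
    rw [hnilA]
    exact (Ideal.comap_comap _ _).symm.trans h'
  have hker : RingHom.ker sDc.hom ≤ RingHom.ker q := fun x hx => by
    have h0 : q x ∈ sInf ((⊥ : Ideal (CAlg2.red (E'.presheaf.stalk e))).minimalPrimes) := by
      refine Ideal.mem_sInf.2 fun {P} hP' => ?_
      have h1 : x ∈ (nilradical (D.presheaf.stalk d)).comap sDc.hom := by
        rw [Ideal.mem_comap, RingHom.mem_ker.1 hx]; exact Ideal.zero_mem _
      rw [← hP P hP'] at h1
      exact h1
    rw [Ideal.sInf_minimalPrimes] at h0
    exact RingHom.mem_ker.2 (mem_nilradical.1 h0).eq_zero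
  let f : D.presheaf.stalk d →+* CAlg2.red (E'.presheaf.stalk e) := RingHom.liftOfSurjective sDc.hom hsDsurj ⟨q, hker⟩
  have hf : ∀ x, f (sDc.hom x) = q x := RingHom.liftOfRightInverse_comp_apply _ _ _ _
  obtain ⟨Ψ, hΨ⟩ := exists_normRed_map f fun P hP' => by
    refine Ideal.comap_injective_of_surjective _ hsDsurj ?_
    rw [Ideal.comap_comap, show f.comp sDc.hom = q from RingHom.ext hf]
    exact hP P hP'
  have key : ∀ M : MaximalSpectrum (CAlg2.normRed (D.presheaf.stalk d)),
      ∃ M' : MaximalSpectrum (CAlg2.normRed (E'.presheaf.stalk e)), M'.asIdeal.comap Ψ = M.asIdeal := by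
    intro M
    let N := CAlg2.normRed (D.presheaf.stalk d)
    haveI : IsDomain N := inferInstance
    let mN : Z.left.presheaf.stalk (ψ.left (ιE e)) ⟶ CommRingCat.of N :=
      sDc ≫ CommRingCat.ofHom ((algebraMap (CAlg2.red (D.presheaf.stalk d)) N).comp (Ideal.Quotient.mk (nilradical (D.presheaf.stalk d))))
    let g : Spec (CommRingCat.of N) ⟶ Z.left := Spec.map mN ≫ Z.left.fromSpecStalk _
    let m : Spec (CommRingCat.of N) := ⟨M.asIdeal, M.isMaximal.isPrime⟩
    let o : Spec (CommRingCat.of N) := ⟨⊥, Ideal.isPrime_bot⟩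
    have hgm : g m = ψ.left (ιE e) := by
      have h : Spec.map mN m = IsLocalRing.closedPoint (Z.left.presheaf.stalk (ψ.left (ιE e))) := by
        haveI := M.isMaximal
        haveI := Ideal.isMaximal_comap_of_isIntegral_of_isMaximal (R := CAlg2.red (D.presheaf.stalk d)) M.asIdeal
        haveI := Ideal.comap_isMaximal_of_surjective (Ideal.Quotient.mk (nilradical (D.presheaf.stalk d)))
          Ideal.Quotient.mk_surjective (K := M.asIdeal.comap (algebraMap (CAlg2.red (D.presheaf.stalk d)) N))
        haveI := Ideal.comap_isMaximal_of_surjective sDc.hom hsDsurj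
          (K := (M.asIdeal.comap (algebraMap (CAlg2.red (D.presheaf.stalk d)) N)).comap
            (Ideal.Quotient.mk (nilradical (D.presheaf.stalk d))))
        refine PrimeSpectrum.ext (IsLocalRing.eq_maximalIdeal ?_)
        show (M.asIdeal.comap mN.hom).IsMaximal
        exact ‹(((M.asIdeal.comap (algebraMap (CAlg2.red (D.presheaf.stalk d)) N)).comap
          (Ideal.Quotient.mk (nilradical (D.presheaf.stalk d)))).comap sDc.hom).IsMaximal›
      show (Spec.map mN ≫ Z.left.fromSpecStalk _) m = _
      rw [Scheme.Hom.comp_apply, h, Scheme.fromSpecStalk_closedPoint]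
    have hgo : g o = δ := by
      have h : Spec.map mN o = Spec.map sDc pξ := by
        refine PrimeSpectrum.ext ?_
        show (⊥ : Ideal N).comap mN.hom = pξ.asIdeal.comap sDc.hom
        rw [← hnilA]
        ext x
        show algebraMap (CAlg2.red (D.presheaf.stalk d)) N (Ideal.Quotient.mk _ (sDc.hom x)) ∈ (⊥ : Ideal N) ↔ _
        rw [Ideal.mem_bot, map_eq_zero_iff _ (fun a b hab => IsFractionRing.injective (CAlg2.red (D.presheaf.stalk d))
          (FractionRing (CAlg2.red (D.presheaf.stalk d))) (congrArg Subtype.val hab)),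
          Ideal.Quotient.eq_zero_iff_mem]
        rfl
      show (Spec.map mN ≫ Z.left.fromSpecStalk _) o = _
      rw [Scheme.Hom.comp_apply, h, hsD, hpξ]
      exact hξ
    obtain ⟨x1, hx1, hx1'⟩ := Scheme.Pullback.exists_preimage_pullback (f := ψ.left) (g := g) (ιE e) m hgm.symm
    haveI : IsFinite (pullback.snd ψ.left g) := inferInstance
    haveI : UniversallyOpen (pullback.snd ψ.left g) := inferInstance
    obtain ⟨x0, hx01, hx0⟩ := exists_generalization (pullback.snd ψ.left g).isOpenMap (y := o)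
      ((pullback.snd ψ.left g).finite_preimage_singleton o) (x := x1)
      (by rw [hx1']; exact (PrimeSpectrum.le_iff_specializes o m).1 bot_le)
    let xW := pullback.fst ψ.left g x0
    have hxWδ : ψ.left xW = δ := by
      show ψ.left (pullback.fst ψ.left g x0) = δ
      rw [← Scheme.Hom.comp_apply, pullback.condition, Scheme.Hom.comp_apply, hx0, hgo]
    have hxWe : xW ⤳ ιE e := hx1 ▸ hx01.map (pullback.fst ψ.left g).continuous
    obtain ⟨η, hη⟩ : xW ∈ Set.range ιE.base := by
      rw [hE]
      have hsub : closure {xW} ⊆ Models.specialFibreSet R W := fun y hy => hWZ y (hspecfib (by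
        have h := (specializes_iff_mem_closure.2 hy).map ψ.left.continuous
        rw [hxWδ] at h
        exact h.mem_closed hΔc hδmem))
      obtain ⟨Γ, hCΓ, hΓ⟩ := exists_maximal_irreducible isIrreducible_singleton.closure hsub
      refine ⟨Γ, ⟨hΓ, hCΓ (specializes_iff_mem_closure.1 hxWe), ?_⟩, hCΓ (subset_closure rfl)⟩
      have hΓc : IsClosed Γ := closure_subset_iff_isClosed.1
        (hΓ.2 ⟨hΓ.1.1.closure, closure_minimal hΓ.1.2 (Models.isClosed_specialFibreSet R W)⟩ subset_closure)
      have hsup : Δ ⊆ ψ.left.base '' Γ := by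
        intro y hy
        exact (hδ.specializes hy).mem_closed (ψ.left.isClosedMap _ hΓc) ⟨xW, hCΓ (subset_closure rfl), hxWδ⟩
      refine le_antisymm (hΔ.2 ⟨hΓ.1.1.image _ ψ.left.continuous.continuousOn, ?_⟩ hsup) hsup
      rintro _ ⟨y, hy, rfl⟩
      show Z.hom.base (ψ.left y) ∈ ({IsLocalRing.closedPoint R} : Set _)
      have h : W.hom.base y = Z.hom.base (ψ.left y) := by rw [← Over.w ψ]; rfl
      rw [← h]; exact hΓ.1.2 hy
    have hηe : η ⤳ e := (ιE.isClosedEmbedding.isInducing.specializes_iff).1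
      (show ιE.base η ⤳ ιE.base e from hη ▸ hxWe)
    obtain ⟨pη, hpη⟩ := exists_prime_of_specializes hηe
    have hpmin : pη.asIdeal ∈ minimalPrimes (E'.presheaf.stalk e) := by
      refine ⟨⟨pη.2, bot_le⟩, fun Q hQ hle => ?_⟩
      have hs := (asIdeal_le_iff ⟨Q, hQ.1⟩ pη).1 hle
      rw [hpη] at hs
      have hs' := hs.map ιE.continuous
      have hψ1 : ψ.left (ιE (E'.fromSpecStalk e ⟨Q, hQ.1⟩)) = δ := by
        have h1 := hδ.specializes (hEΔ (E'.fromSpecStalk e ⟨Q, hQ.1⟩))
        have h2 := hs'.map ψ.left.continuous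
        rw [show ιE η = xW from hη, hxWδ] at h2
        exact (h2.antisymm h1).eq
      have h3 := hfibre _ _ (hψ1.trans (show δ = ψ.left (ιE η) by rw [show ιE η = xW from hη, hxWδ])) hs'
      have h4 : (⟨Q, hQ.1⟩ : Spec (E'.presheaf.stalk e)) = pη :=
        eq_of_fromSpecStalk ((ιE.isClosedEmbedding.injective h3).trans hpη.symm)
      exact (congrArg PrimeSpectrum.asIdeal h4).ge
    -- local rings at the point of the fibre product
    let P := pullback ψ.left g
    let Tc := P.presheaf.stalk x1
    let tc : Tc ⟶ P.residueField x0 := P.presheaf.stalkSpecializes hx01 ≫ P.residue x0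
    have htc : Spec.map tc ≫ P.fromSpecStalk x1 = P.fromSpecResidueField x0 := by
      show Spec.map (P.presheaf.stalkSpecializes hx01 ≫ P.residue x0) ≫ _ = _
      rw [Spec.map_comp, Category.assoc, Scheme.SpecMap_stalkSpecializes_fromSpecStalk]
      rfl
    let ac : CommRingCat.of N ⟶ Tc := Spec.preimage (P.fromSpecStalk x1 ≫ pullback.snd ψ.left g)
    have hac : Spec.map ac = P.fromSpecStalk x1 ≫ pullback.snd ψ.left g := Spec.map_preimage _
    let bc : W.left.presheaf.stalk (ιE e) ⟶ Tc :=
      W.left.presheaf.stalkSpecializes (specializes_of_eq hx1) ≫ (pullback.fst ψ.left g).stalkMap x1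
    have hbc : Spec.map bc ≫ W.left.fromSpecStalk (ιE e) = P.fromSpecStalk x1 ≫ pullback.fst ψ.left g := by
      show Spec.map (W.left.presheaf.stalkSpecializes (specializes_of_eq hx1) ≫
        (pullback.fst ψ.left g).stalkMap x1) ≫ _ = _
      rw [Spec.map_comp, Category.assoc, Scheme.SpecMap_stalkSpecializes_fromSpecStalk,
        Scheme.SpecMap_stalkMap_fromSpecStalk]
    have hbloc : IsLocalHom bc.hom := by
      have : IsIso (W.left.presheaf.stalkSpecializes (specializes_of_eq hx1)) :=
        (W.left.presheaf.stalkCongr (.of_eq hx1.symm)).isIso_hom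
      exact RingHom.isLocalHom_comp ((pullback.fst ψ.left g).stalkMap x1).hom
        (W.left.presheaf.stalkSpecializes (specializes_of_eq hx1)).hom
    -- compatibility over Z
    have hcomp : mN ≫ ac = ψ.left.stalkMap (ιE e) ≫ bc := by
      refine Spec.map_injective ?_
      rw [← cancel_mono (Z.left.fromSpecStalk (ψ.left (ιE e)))]
      show Spec.map (mN ≫ ac) ≫ _ = _
      rw [Spec.map_comp mN ac, Spec.map_comp (ψ.left.stalkMap (ιE e)) bc, Category.assoc, Category.assoc,
        Scheme.SpecMap_stalkMap_fromSpecStalk, reassoc_of% hbc, pullback.condition, hac, Category.assoc]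
    haveI : IsLocalRing (LocalSubring.range tc.hom).toSubring := (LocalSubring.range tc.hom).isLocalRing
    let rr : Tc →+* (LocalSubring.range tc.hom).toSubring := tc.hom.rangeRestrict
    let bT : W.left.presheaf.stalk (ιE e) →+* (LocalSubring.range tc.hom).toSubring := rr.comp bc.hom
    haveI hrl : IsLocalHom rr := IsLocalHom.of_surjective rr tc.hom.rangeRestrict_surjective
    haveI : IsLocalHom bT := RingHom.isLocalHom_comp _ _
    let cp : Spec (P.residueField x0) := IsLocalRing.closedPoint (P.residueField x0)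
    have hkerW : RingHom.ker ((LocalSubring.range tc.hom).toSubring.subtype.comp bT) =
        pη.asIdeal.comap (ιE.stalkMap e).hom := by
      have h : Spec.map (bc ≫ tc) (cp : Spec (P.residueField x0)) = Spec.map (ιE.stalkMap e) pη := by
        apply eq_of_fromSpecStalk
        rw [fromSpecStalk_comap, hpη, ← Scheme.Hom.comp_apply, Spec.map_comp, Category.assoc, hbc,
          reassoc_of% htc, Scheme.Hom.comp_apply, Scheme.fromSpecResidueField_apply]
        exact hη.symm
      have h' := congrArg PrimeSpectrum.asIdeal h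
      refine Eq.trans ?_ h'
      show _ = (maximalIdeal (P.residueField x0)).comap (bc ≫ tc).hom
      rw [IsLocalRing.maximalIdeal_eq_bot, ← RingHom.ker_eq_comap_bot]
      rfl
    have hEsurj : Function.Surjective (ιE.stalkMap e).hom := ιE.stalkMap_surjective e
    have hJ : RingHom.ker (ιE.stalkMap e).hom ≤ RingHom.ker bT := fun x hx => by
      have h : x ∈ RingHom.ker ((LocalSubring.range tc.hom).toSubring.subtype.comp bT) := by
        rw [hkerW, Ideal.mem_comap, RingHom.mem_ker.1 hx]; exact Ideal.zero_mem _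
      exact RingHom.mem_ker.2 (Subtype.ext (RingHom.mem_ker.1 h))
    let bE : E'.presheaf.stalk e →+* (LocalSubring.range tc.hom).toSubring :=
      RingHom.liftOfSurjective (ιE.stalkMap e).hom hEsurj ⟨bT, hJ⟩
    have hbE : ∀ x, bE ((ιE.stalkMap e).hom x) = bT x := RingHom.liftOfRightInverse_comp_apply _ _ _ _
    haveI : IsLocalHom bE := ⟨fun y hy => by
      obtain ⟨x, rfl⟩ := hEsurj y
      rw [hbE] at hy
      exact ((IsLocalHom.map_nonunit (f := bT) x hy)).map _⟩
    let bL : CAlg2.red (E'.presheaf.stalk e) →+* P.residueField x0 :=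
      Ideal.Quotient.lift _ ((LocalSubring.range tc.hom).toSubring.subtype.comp bE) fun x hx => by
        exact ((mem_nilradical.1 hx).map _).eq_zero
    have hbL : RingHom.ker bL ∈ minimalPrimes (CAlg2.red (E'.presheaf.stalk e)) := by
      have hk : (RingHom.ker bL).comap (Ideal.Quotient.mk _) = pη.asIdeal := by
        refine Ideal.comap_injective_of_surjective _ hEsurj ?_
        rw [← hkerW, RingHom.comap_ker, RingHom.comap_ker]
        congr 1
        refine RingHom.ext fun x => ?_
        exact congrArg Subtype.val (hbE x)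
      refine ⟨⟨RingHom.ker_isPrime bL, bot_le⟩, fun Q hQ hle => ?_⟩
      haveI := hQ.1
      have h1 := Ideal.comap_mono (f := Ideal.Quotient.mk (nilradical (E'.presheaf.stalk e))) hle
      rw [hk] at h1
      have h2 := hpmin.2 ⟨inferInstance, bot_le⟩ h1
      rw [← hk] at h2
      exact (Ideal.comap_le_comap_iff_of_surjective _ Ideal.Quotient.mk_surjective _ _).1 h2
    refine exists_maximal_above Ψ f hΨ M (LocalSubring.range tc.hom).toSubring.subtype
      (rr.comp ac.hom) ?_ ?_ bL hbL bE (fun x => rfl) ?_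
    · rw [← Ideal.comap_comap, IsLocalRing.maximalIdeal_comap]
      let ct : Spec Tc := IsLocalRing.closedPoint Tc
      have h : Spec.map ac ct = m := by
        rw [hac, Scheme.Hom.comp_apply, Scheme.fromSpecStalk_closedPoint]
        exact hx1'
      exact (congrArg PrimeSpectrum.asIdeal h).symm
    · have h : Spec.map (ac ≫ tc) (cp : Spec (P.residueField x0)) = o := by
        rw [Spec.map_comp, hac, reassoc_of% htc, Scheme.Hom.comp_apply, Scheme.fromSpecResidueField_apply]
        exact hx0
      have h' : (maximalIdeal (P.residueField x0)).comap (ac ≫ tc).hom = ⊥ := congrArg PrimeSpectrum.asIdeal h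
      rw [IsLocalRing.maximalIdeal_eq_bot, ← RingHom.ker_eq_comap_bot] at h'
      exact (RingHom.injective_iff_ker_eq_bot _).2 h'
    · intro x
      obtain ⟨y, rfl⟩ := hsDsurj x
      rw [hf]
      show tc.hom ((mN ≫ ac).hom y) = bL (Ideal.Quotient.mk _ ((ιE.stalkMap e).hom ((ψ.left.stalkMap (ιE e)).hom y)))
      rw [hcomp]
      exact (congrArg Subtype.val (hbE _)).symm
  choose Φ hΦ using key
  show Brnch.numBranches _ ≤ Brnch.numBranches _
  rw [Brnch.numBranches, Brnch.numBranches, if_pos (minimalPrimes.finite_of_isNoetherianRing _),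
    if_pos (minimalPrimes.finite_of_isNoetherianRing _)]
  exact ENat.card_le_card_of_injective (f := Φ) fun M N h => MaximalSpectrum.ext (by rw [← hΦ M, ← hΦ N, h])

end Groth.Agent.S19910
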