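import Groth.Statements.S19912
import Mathlib
import Groth.Agent.RegLocal.Basic

set_option autoImplicit false
universe u
open CategoryTheory CategoryTheory.Limits AlgebraicGeometry
open Models

namespace Groth.Agent.S19912

/-- Let R be a discrete valuation ring with fraction field K and YR a scheme over Spec R. Let V be a
discrete valuation ring which is an R-algebra in such a way that the maximal ideal of R generates
the maximal ideal of V (ramification index one), and let σ : Spec V -> YR be a morphism over Spec R
sending the closed point of Spec V to y. If the local ring of YR at y is regular, then the local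
ring at y of the special fibre of YR, namely O_{YR,y}/𝔪_R O_{YR,y}, is regular. (The published
statement takes YR a normal projective flat model of a smooth projective geometrically connected
curve Y over K and phrases the hypothesis through a point Q of Y rational over an extension L of K
unramified over K with y in the closure of Q: by the valuative criterion such a point yields a
morphism as above from the spectrum of the localization of the integral closure of R in L at a
maximal ideal over y, which is the form used here.) -/
theorem result
    (R : Type u) [CommRing R] [IsDomain R] [IsDiscreteValuationRing R]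
    (YR : Over (Spec (CommRingCat.of R)))
    (V : Type u) [CommRing V] [IsDomain V] [IsDiscreteValuationRing V] [Algebra R V]
    (hV : Ideal.map (algebraMap R V) (IsLocalRing.maximalIdeal R) = IsLocalRing.maximalIdeal V)
    (σ : Spec (CommRingCat.of V) ⟶ YR.left)
    (hσ : σ ≫ YR.hom = Spec.map (CommRingCat.ofHom (algebraMap R V)))
    (y : YR.left) (hy : σ.base (IsLocalRing.closedPoint V) = y)
    (hreg : IsRegularLocalRing (YR.left.presheaf.stalk y)) :
    IsRegularLocalRing (YR.left.presheaf.stalk y ⧸
      Ideal.map (Models.stalkHom R YR y) (IsLocalRing.maximalIdeal R)) := by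
  haveI := hreg
  obtain ⟨ϖ, hϖ⟩ := IsDiscreteValuationRing.exists_irreducible R
  obtain ⟨π, hπ⟩ := IsDiscreteValuationRing.exists_irreducible V
  subst hy
  let g : YR.left.presheaf.stalk (σ.base (IsLocalRing.closedPoint V)) →+* V :=
    (Scheme.stalkClosedPointTo (R := CommRingCat.of V) σ).hom
  haveI : IsLocalHom g := Scheme.isLocalHom_stalkClosedPointTo σ
  have hg : g.comp (Models.stalkHom R YR (σ.base (IsLocalRing.closedPoint V))) = algebraMap R V := by
    have h0 : YR.hom.appTop ≫ σ.appTop = (Spec.map (CommRingCat.ofHom (algebraMap R V))).appTop := by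
      rw [← Scheme.Hom.comp_appTop, hσ]
    have h1 : YR.left.presheaf.germ ⊤ (σ (IsLocalRing.closedPoint V)) trivial ≫
        Scheme.stalkClosedPointTo (R := CommRingCat.of V) σ = σ.appTop ≫ (Scheme.ΓSpecIso (CommRingCat.of V)).hom := by
      refine (Scheme.germ_stalkClosedPointTo (R := CommRingCat.of V) σ ⊤ trivial).trans ?_
      simp
      rfl
    have h2 : (Scheme.ΓSpecIso (CommRingCat.of R)).inv ≫ YR.hom.appTop ≫
        YR.left.presheaf.germ ⊤ (σ (IsLocalRing.closedPoint V)) trivial ≫
          Scheme.stalkClosedPointTo (R := CommRingCat.of V) σ = CommRingCat.ofHom (algebraMap R V) := by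
      rw [h1, reassoc_of% h0, ← Scheme.ΓSpecIso_inv_naturality_assoc, Iso.inv_hom_id, Category.comp_id]
    exact congrArg CommRingCat.Hom.hom h2
  rw [hϖ.maximalIdeal_eq, Ideal.map_span, Set.image_singleton]
  set t := Models.stalkHom R YR (σ.base (IsLocalRing.closedPoint V)) ϖ
  have ht : g t = algebraMap R V ϖ := RingHom.congr_fun hg ϖ
  have htV : Ideal.span {algebraMap R V ϖ} = IsLocalRing.maximalIdeal V := by
    rw [← hV, hϖ.maximalIdeal_eq, Ideal.map_span, Set.image_singleton]
  have hm : t ∈ IsLocalRing.maximalIdeal _ := by
    rw [IsLocalRing.mem_maximalIdeal, mem_nonunits_iff]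
    intro hu
    have h5 := hu.map g
    rw [ht] at h5
    have h6 : algebraMap R V ϖ ∈ IsLocalRing.maximalIdeal V := htV ▸ Ideal.mem_span_singleton_self _
    exact h6 h5
  have hm2 : t ∉ (IsLocalRing.maximalIdeal (YR.left.presheaf.stalk (σ.base (IsLocalRing.closedPoint V)))) ^ 2 := by
    intro h
    have h7 : g t ∈ (IsLocalRing.maximalIdeal V) ^ 2 := by
      have := Ideal.mem_map_of_mem g h
      rw [Ideal.map_pow] at this
      exact Ideal.pow_right_mono (Ideal.map_le_iff_le_comap.mpr (show _ ≤ Ideal.comap g (IsLocalRing.maximalIdeal V) from
        fun a ha => map_nonunit g a ha)) 2 this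
    have h8 : IsLocalRing.maximalIdeal V ≤ IsLocalRing.maximalIdeal V ^ 2 := by
      conv_lhs => rw [← htV]
      rw [Ideal.span_singleton_le_iff_mem, ← ht]
      exact h7
    rw [hπ.maximalIdeal_eq, Ideal.span_singleton_pow, Ideal.span_singleton_le_span_singleton, pow_two] at h8
    exact hπ.not_isUnit (isUnit_of_dvd_one ((mul_dvd_mul_iff_left hπ.ne_zero).mp ((_root_.mul_one π).symm ▸ h8)))
  obtain ⟨d, hd⟩ := RegLocal.exists_nat_ringKrullDim (R := YR.left.presheaf.stalk (σ.base (IsLocalRing.closedPoint V)))
  exact (RegLocal.quot_singleton _ hd hm hm2).1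

end Groth.Agent.S19912
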