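import Groth.Statements.S19917
import Groth.Agent.TameLib.Infinite

set_option autoImplicit false
set_option linter.style.haveILetI false
set_option maxHeartbeats 1000000
universe u
open CategoryTheory CategoryTheory.Limits AlgebraicGeometry MonObj
open SGA7

namespace Groth.Agent.S19917

open scoped Pointwise IntermediateField in
theorem aux_inertAt (R : Type u) {K Ω : Type u} [CommRing R] [IsDomain R] [IsDiscreteValuationRing R] [Field K]
    [Algebra R K] [IsFractionRing R K] [Field Ω] [Algebra K Ω] [IsGalois K Ω] [Algebra R Ω] [IsScalarTower R K Ω]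
    (W : ValuationSubring Ω) (hW : SGA7.LiesOver K R W) (hI : ∀ σ : Ω ≃ₐ[K] Ω, SGA7.IsInertia W σ)
    (M : IntermediateField K Ω) [FiniteDimensional K M] [IsGalois K M] : Groth.Agent.TameLib.InertAt R K M := by
  let B := integralClosure R M
  have hRW : ∀ a : R, algebraMap R Ω a ∈ W := fun a => by
    rw [IsScalarTower.algebraMap_apply R K Ω]; exact hW.1 a
  letI : Algebra R W := ((algebraMap R Ω).codRestrict W.toSubring hRW).toAlgebra
  haveI : IsScalarTower R W Ω := .of_algebraMap_eq fun _ => rfl
  have hBW : ∀ b : B, ((b : M) : Ω) ∈ W := fun b => by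
    have h1 : IsIntegral R ((b : M) : Ω) := b.2.map (M.val.restrictScalars R)
    obtain ⟨y, hy⟩ := IsIntegrallyClosed.isIntegral_iff.1 (h1.tower_top (A := W))
    exact hy ▸ y.2
  let f : B →+* W := ((algebraMap M Ω).comp (algebraMap B M)).codRestrict W.toSubring hBW
  let m : Ideal B := (IsLocalRing.maximalIdeal W).comap f
  have hval : ∀ x : W, x ∈ IsLocalRing.maximalIdeal W ↔ W.valuation (x : Ω) < 1 := fun x =>
    (W.valuation_lt_one_iff x)
  have hp : m.comap (algebraMap R B) = IsLocalRing.maximalIdeal R := by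
    refine le_antisymm (IsLocalRing.le_maximalIdeal (Ideal.IsPrime.ne_top inferInstance)) fun a ha => ?_
    show f (algebraMap R B a) ∈ IsLocalRing.maximalIdeal W
    rw [hval]
    have h := hW.2 a ha
    rw [← IsScalarTower.algebraMap_apply] at h
    exact h
  haveI : (m.comap (algebraMap R B)).IsMaximal := hp ▸ inferInstance
  have hm : m.IsMaximal := Ideal.isMaximal_of_isIntegral_of_isMaximal_comap (R := R) m inferInstance
  refine ⟨m, hm, fun h => IsDiscreteValuationRing.not_a_field R ?_, fun σ b b' hb => ?_⟩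
  · rw [← hp, h]
    refine Ideal.comap_bot_of_injective _ (Function.Injective.of_comp (f := algebraMap B M) ?_)
    rw [← RingHom.coe_comp, ← IsScalarTower.algebraMap_eq R B M, IsScalarTower.algebraMap_eq R K M]
    exact (algebraMap K M).injective.comp (IsFractionRing.injective R K)
  · show f (b' - b) ∈ IsLocalRing.maximalIdeal W
    rw [hval]
    have h := (hI (σ.liftNormal Ω) _ (hBW b)).2
    have e : ((b' : M) : Ω) = σ.liftNormal Ω ((b : M) : Ω) := by
      rw [hb]; exact (σ.liftNormal_commutes Ω (b : M)).symm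
    rw [← e] at h
    exact h

/-- Let R be a discrete valuation ring with fraction field K and residue field k, Ω a separable closure
of K and W a valuation subring of Ω lying over R. Assume that every K-automorphism of Ω belongs to
the inertia group at W, i.e. K coincides with its maximal extension inside Ω at which the
restriction of W is unramified over R. Let r ≥ 1 be an integer whose image in k is non-zero. Then
there is exactly one intermediate field L of Ω over K with [L : K] = r and L Galois over K; moreover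
every such L is totally (and tamely) ramified over R: every maximal ideal of the integral closure of
R in L has ramification index r over R. -/
theorem result (R K Ω : Type u) [CommRing R] [IsDomain R]
    [IsDiscreteValuationRing R] [Field K] [Algebra R K] [IsFractionRing R K] [Field Ω] [Algebra K Ω]
    [IsSepClosure K Ω] [Algebra R Ω] [IsScalarTower R K Ω]
    (W : ValuationSubring Ω) (hW : SGA7.LiesOver K R W)
    (hI : ∀ σ : Ω ≃ₐ[K] Ω, SGA7.IsInertia W σ)
    (r : ℕ) (hr : 0 < r) (hrk : (r : IsLocalRing.ResidueField R) ≠ 0) :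
    (∃! L : IntermediateField K Ω, Module.finrank K L = r ∧ IsGalois K L) ∧
      ∀ L : IntermediateField K Ω, Module.finrank K L = r → IsGalois K L →
        ∀ P : Ideal (integralClosure R L), P.IsMaximal → P.ramificationIdx R = r := by
  haveI : IsSepClosed Ω := IsSepClosure.sep_closed K
  have hrR : IsUnit (r : R) := by
    refine isUnit_of_map_unit (IsLocalRing.residue R) _ ?_
    rw [map_natCast]
    exact IsUnit.mk0 _ hrk
  haveI : NeZero (r : Ω) := ⟨fun h => by
    have := (hrR.map (algebraMap R Ω))
    rw [map_natCast, h] at this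
    exact not_isUnit_zero this⟩
  obtain ⟨ζ, hζ⟩ := HasEnoughRootsOfUnity.exists_primitiveRoot Ω r
  have hM : ∀ M : FiniteGaloisIntermediateField K Ω, Groth.Agent.TameLib.InertAt R K M.toIntermediateField :=
    fun M => aux_inertAt R W hW hI M.toIntermediateField
  have hfix : ∀ (σ : Ω ≃ₐ[K] Ω) (x : Ω), x ^ r = 1 → σ x = x := fun σ x hx => by
    let M := FiniteGaloisIntermediateField.adjoin K {x}
    have hxM : x ∈ M.toIntermediateField := FiniteGaloisIntermediateField.subset_adjoin K {x} rfl
    have h := Groth.Agent.TameLib.fixed_of_pow_eq_one (hM M) hrR (σ.restrictNormal M.toIntermediateField)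
      (x := ⟨x, hxM⟩) (Subtype.ext hx)
    exact ((AlgEquiv.restrictNormal_commutes σ M.toIntermediateField ⟨x, hxM⟩).symm.trans (congrArg _ h))
  obtain ⟨ϖ, hϖ⟩ := IsDiscreteValuationRing.exists_irreducible R
  obtain ⟨ρ, hρ⟩ := IsSepClosed.exists_pow_nat_eq (algebraMap R Ω ϖ) r
  have hρ0 : ρ ≠ 0 := Groth.Agent.TameLib.root_ne_zero (K := K) hϖ hr hρ
  let L₀ : IntermediateField K Ω := IntermediateField.adjoin K {ρ}
  have hρL : ρ ∈ L₀ := IntermediateField.mem_adjoin_simple_self K ρ
  haveI : FiniteDimensional K L₀ := IntermediateField.adjoin.finiteDimensional (Algebra.IsIntegral.isIntegral ρ)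
  have hrank : Module.finrank K L₀ = r := by
    rw [IntermediateField.adjoin.finrank (Algebra.IsIntegral.isIntegral ρ),
      Groth.Agent.TameLib.minpoly_root hϖ hr hρ, Polynomial.natDegree_X_pow_sub_C]
  haveI : Normal K L₀ := IntermediateField.normal_iff_forall_map_le'.2 fun σ => by
    rw [IntermediateField.adjoin_map, IntermediateField.adjoin_le_iff, Set.image_singleton, Set.singleton_subset_iff]
    show σ ρ ∈ L₀
    have hq : (σ ρ / ρ) ^ r = 1 := by
      rw [div_pow, ← map_pow, hρ, IsScalarTower.algebraMap_apply R K Ω, AlgEquiv.commutes, div_self]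
      rw [← IsScalarTower.algebraMap_apply R K Ω, ← hρ]
      exact pow_ne_zero _ hρ0
    obtain ⟨c, hc⟩ := IntermediateField.mem_bot.1 ((InfiniteGalois.mem_bot_iff_fixed _).2 fun τ => hfix τ _ hq)
    rw [← div_mul_cancel₀ (σ ρ) hρ0, ← hc]
    exact mul_mem (L₀.algebraMap_mem c) hρL
  haveI : IsGalois K L₀ := ⟨⟩
  have huniq : ∀ L : IntermediateField K Ω, Module.finrank K L = r ∧ IsGalois K L → L = L₀ := by
    rintro L ⟨hL, hLG⟩
    haveI : FiniteDimensional K L := Module.finite_of_finrank_pos (by omega)
    refine IntermediateField.eq_of_le_of_finrank_eq ?_ (hL.trans hrank.symm)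
    intro x hx
    rw [← InfiniteGalois.fixedField_fixingSubgroup L₀]
    intro h
    obtain ⟨a, b, hab⟩ := Groth.Agent.TameLib.exists_pow_mul_pow_algEquiv R hM hrR hϖ hρ hζ
      (h := (h : Ω ≃ₐ[K] Ω)) (h.2 ⟨ρ, hρL⟩)
    have h1 : ∀ g : Ω ≃ₐ[K] Ω, (g ^ r) x = x := fun g => by
      have h2 : AlgEquiv.restrictNormalHom L (g ^ r) = 1 := by
        rw [map_pow, ← hL, ← IsGalois.card_aut_eq_finrank, pow_card_eq_one']
      exact (AlgEquiv.restrictNormal_commutes (g ^ r) L ⟨x, hx⟩).symm.trans
        (congrArg (fun e : L ≃ₐ[K] L => algebraMap L Ω (e ⟨x, hx⟩)) h2)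
    show (h : Ω ≃ₐ[K] Ω) x = x
    rw [← hab, AlgEquiv.mul_apply, h1, h1]
  refine ⟨⟨L₀, ⟨hrank, inferInstance⟩, huniq⟩, fun L hL hLG P hP => ?_⟩
  haveI := hLG
  haveI : FiniteDimensional K L := Module.finite_of_finrank_pos (by omega)
  obtain ⟨m, hm, hm0, hIm⟩ := aux_inertAt R W hW hI L
  haveI := hm
  haveI := hP
  letI := IsIntegralClosure.MulSemiringAction R K L (integralClosure R L)
  haveI : IsFractionRing (integralClosure R L) L := IsIntegralClosure.isFractionRing_of_finite_extension R K L _
  haveI : IsDedekindDomain (integralClosure R L) := IsIntegralClosure.isDedekindDomain R K L _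
  haveI : Module.Finite R (integralClosure R L) := IsIntegralClosure.finite R K L _
  haveI : IsGaloisGroup (L ≃ₐ[K] L) R (integralClosure R L) := IsGaloisGroup.of_isFractionRing _ _ _ K L
  haveI : FaithfulSMul R (integralClosure R L) := (faithfulSMul_iff_algebraMap_injective R _).2 (by
    refine Function.Injective.of_comp (f := algebraMap (integralClosure R L) L) ?_
    rw [← RingHom.coe_comp, ← IsScalarTower.algebraMap_eq R (integralClosure R L) L, IsScalarTower.algebraMap_eq R K L]
    exact (algebraMap K L).injective.comp (IsFractionRing.injective R K))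
  have hI' : ∀ σ : L ≃ₐ[K] L, σ ∈ m.inertia (L ≃ₐ[K] L) := fun σ b =>
    hIm σ b (σ • b) (algebraMap_galRestrict_apply R σ b)
  have hpm : ∀ Q : Ideal (integralClosure R L), Q.IsMaximal → Q.LiesOver (IsLocalRing.maximalIdeal R) :=
    fun Q hQ => ⟨(IsLocalRing.eq_maximalIdeal (Ideal.isMaximal_comap_of_isIntegral_of_isMaximal Q)).symm⟩
  haveI := hpm P hP
  haveI := hpm m hm
  have hPm : P = m := by
    obtain ⟨σ, hσ⟩ := Algebra.IsInvariant.exists_smul_of_under_eq R (integralClosure R L) (L ≃ₐ[K] L) m P
      ((Ideal.LiesOver.over (p := IsLocalRing.maximalIdeal R) (P := m)).symm.trans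
        (Ideal.LiesOver.over (p := IsLocalRing.maximalIdeal R) (P := P)))
    rw [hσ]
    exact Ideal.inertia_le_stabilizer m (hI' σ)
  subst hPm
  letI : Field (R ⧸ IsLocalRing.maximalIdeal R) := Ideal.Quotient.field _
  letI := Ideal.Quotient.field P
  have hcard : Nat.card (L ≃ₐ[K] L) = r := (IsGalois.card_aut_eq_finrank K L).trans hL
  haveI : Algebra.IsSeparable (R ⧸ IsLocalRing.maximalIdeal R) (integralClosure R L ⧸ P) := ⟨fun x => by
    haveI := Fintype.ofFinite (L ≃ₐ[K] L)
    obtain ⟨a, rfl⟩ := Groth.Agent.TameLib.residue_surjective (A := R) (G := L ≃ₐ[K] L) P hI' (by rw [hcard]; exact hrR) x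
    exact isSeparable_algebraMap (F := R ⧸ IsLocalRing.maximalIdeal R) (Ideal.Quotient.mk _ a)⟩
  rw [← Groth.Agent.WildInertiaLib.card_inertia (A := R) (G := L ≃ₐ[K] L) P (IsLocalRing.maximalIdeal R),
    show P.inertia (L ≃ₐ[K] L) = ⊤ from eq_top_iff.2 fun σ _ => hI' σ, Subgroup.card_top, hcard]

end Groth.Agent.S19917
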