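import Groth.Statements.S1992
import Mathlib
-- import your own Groth.Agent.* helpers here

set_option autoImplicit false
universe u
open Polynomial
open EtAlg

namespace Groth.Agent.S1992

/-- Let A be an absolutely integrally closed ring, i.e. every monic polynomial over A is a product of
linear factors X - a. Then for every prime p of A the localization A_p is a strictly henselian local
ring (henselian with separably closed residue field). -/
theorem result (A : Type u) [CommRing A]
    (hA : ∀ f : A[X], f.Monic → ∃ s : Multiset A, f = (s.map fun a => X - C a).prod)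
    (p : Ideal A) [p.IsPrime] :
    EtCoh.IsStrictlyHenselianLocalRing (Localization.AtPrime p) := by
  classical
  let R := Localization.AtPrime p
  have hroot : ∀ g : Polynomial R, g.Monic → g.natDegree ≠ 0 → ∃ r : R, g.IsRoot r := by
    intro g hg hd
    obtain ⟨⟨s, hs⟩, hs'⟩ := IsLocalization.exist_integer_multiples_of_finset p.primeCompl g.coeffs
    have hu : IsUnit (algebraMap A R s) := IsLocalization.map_units R (⟨s, hs⟩ : p.primeCompl)
    have hmem : g.scaleRoots (algebraMap A R s) ∈ Polynomial.lifts (algebraMap A R) := by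
      rw [Polynomial.lifts_iff_coeff_lifts]
      intro i
      rw [Polynomial.coeff_scaleRoots]
      by_cases h0 : g.coeff i = 0
      · exact ⟨0, by rw [h0, map_zero, zero_mul]⟩
      rcases lt_or_ge i g.natDegree with hi | hi
      · obtain ⟨b, hb⟩ := hs' _ (Polynomial.coeff_mem_coeffs h0)
        refine ⟨b * s ^ (g.natDegree - i - 1), ?_⟩
        rw [map_mul, map_pow, hb]
        show s • g.coeff i * _ = _
        rw [Algebra.smul_def, mul_comm (algebraMap A R s), mul_assoc, ← pow_succ']
        congr 2
        omega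
      · have : i = g.natDegree := le_antisymm (Polynomial.le_natDegree_of_ne_zero h0) hi
        exact ⟨1, by rw [this, hg.coeff_natDegree, Nat.sub_self, pow_zero, mul_one, map_one]⟩
    obtain ⟨G, hG, hGd, hGm⟩ := Polynomial.lifts_and_natDegree_eq_and_monic hmem
      ((Polynomial.monic_scaleRoots_iff _).2 hg)
    obtain ⟨m, hm⟩ := hA G hGm
    rw [Polynomial.natDegree_scaleRoots] at hGd
    obtain ⟨a, ha⟩ : ∃ a, a ∈ m := by
      refine Multiset.exists_mem_of_ne_zero fun h0 => hd ?_
      rw [← hGd, hm, h0]
      simp
    refine ⟨↑hu.unit⁻¹ * algebraMap A R a, ?_⟩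
    have hGa : G.eval a = 0 := by
      rw [hm, Polynomial.eval_multiset_prod]
      refine Multiset.prod_eq_zero (Multiset.mem_map.2 ⟨Polynomial.X - Polynomial.C a, ?_, by simp⟩)
      exact Multiset.mem_map.2 ⟨a, ha, rfl⟩
    have h := Polynomial.scaleRoots_eval_mul g (↑hu.unit⁻¹ * algebraMap A R a) (algebraMap A R s)
    rw [← mul_assoc, hu.mul_val_inv, one_mul, ← hG, Polynomial.eval_map, Polynomial.eval₂_hom, hGa,
      map_zero] at h
    exact (hu.pow g.natDegree).mul_right_eq_zero.1 h.symm
  have key : ∀ n, ∀ g : Polynomial R, g.natDegree = n → g.Monic → ∀ a₀ : R, g.eval a₀ ∈ IsLocalRing.maximalIdeal R →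
      IsUnit (g.derivative.eval a₀) → ∃ a, g.IsRoot a ∧ a - a₀ ∈ IsLocalRing.maximalIdeal R := by
    intro n
    induction n with
    | zero =>
      intro g hd hg a₀ _ hu
      rw [hg.natDegree_eq_zero.1 hd, Polynomial.derivative_one, Polynomial.eval_zero] at hu
      exact absurd hu not_isUnit_zero
    | succ n ih =>
      intro g hd hg a₀ h1 h2
      obtain ⟨r, hr⟩ := hroot g hg (by omega)
      obtain ⟨g', rfl⟩ := Polynomial.dvd_iff_isRoot.2 hr
      by_cases hmr : r - a₀ ∈ IsLocalRing.maximalIdeal R
      · exact ⟨r, hr, hmr⟩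
      have hg' : g'.Monic := (Polynomial.monic_X_sub_C r).of_mul_monic_left hg
      have hd' : g'.natDegree = n := by
        rw [(Polynomial.monic_X_sub_C r).natDegree_mul hg', Polynomial.natDegree_X_sub_C] at hd
        omega
      have hur : a₀ - r ∉ IsLocalRing.maximalIdeal R := fun h => hmr (by
        rw [← neg_sub]; exact neg_mem h)
      simp only [Polynomial.eval_mul, Polynomial.eval_sub, Polynomial.eval_X, Polynomial.eval_C] at h1
      have h1' : g'.eval a₀ ∈ IsLocalRing.maximalIdeal R :=
        ((IsLocalRing.maximalIdeal.isMaximal R).isPrime.mem_or_mem h1).resolve_left hur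
      simp only [Polynomial.derivative_mul, Polynomial.derivative_sub, Polynomial.derivative_X,
        Polynomial.derivative_C, sub_zero, one_mul, Polynomial.eval_add, Polynomial.eval_mul,
        Polynomial.eval_sub, Polynomial.eval_X, Polynomial.eval_C] at h2
      have h2' : IsUnit (g'.derivative.eval a₀) := by
        by_contra hn
        refine (IsLocalRing.mem_maximalIdeal _).1 ?_ h2
        exact add_mem h1' (Ideal.mul_mem_left _ _ ((IsLocalRing.mem_maximalIdeal _).2 hn))
      obtain ⟨a, ha, ha'⟩ := ih g' hd' hg' a₀ h1' h2'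
      exact ⟨a, by simp [Polynomial.IsRoot, ha.eq_zero], ha'⟩
  let hH : HenselianLocalRing R := { is_henselian := fun f hf a₀ h1 h2 => key _ f rfl hf a₀ h1 h2 }
  refine ⟨hH, IsSepClosed.of_exists_root _ fun q hq hirr _ => ?_⟩
  obtain ⟨g, hg, hgd, hgm⟩ := Polynomial.lifts_and_natDegree_eq_and_monic
    (show q ∈ Polynomial.lifts (IsLocalRing.residue R) from (Polynomial.lifts_iff_coeff_lifts q).2
      fun _ => Ideal.Quotient.mk_surjective _) hq
  obtain ⟨r, hr⟩ := hroot g hgm (by rw [hgd]; exact hirr.natDegree_pos.ne')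
  exact ⟨IsLocalRing.residue R r, by
    rw [← hg, Polynomial.eval_map, Polynomial.eval₂_hom, hr.eq_zero, map_zero]⟩

end Groth.Agent.S1992
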