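import Groth.Statements.S19920
import Groth.Agent.IndexMultLib.Affine
import Groth.Agent.QsNormLib.PtNorm
import Groth.Agent.WeilCohLib.FixedPts
import Groth.Agent.WeilCohLib.Geom

set_option autoImplicit false
set_option backward.isDefEq.respectTransparency false
set_option linter.style.haveILetI false
universe u
open CategoryTheory CategoryTheory.Limits AlgebraicGeometry
open Models
open scoped TensorProduct

namespace Groth.Agent.S19920

theorem residueDegree_eq_one_of_preimmersion {X Y : Scheme.{u}} (g : X ⟶ Y) [IsPreimmersion g] (x : X) :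
    g.residueDegree x = 1 := by
  refine Groth.Agent.WeilCohLib.residueDegree_eq_one_of_surjective g x fun z => ?_
  obtain ⟨s, rfl⟩ := IsLocalRing.residue_surjective z
  obtain ⟨t, ht⟩ := g.stalkMap_surjective x s
  exact ⟨IsLocalRing.residue _ t,
    (congrArg (fun φ => φ t) (Scheme.residue_residueFieldMap g x)).trans (congrArg (X.residue x) ht)⟩

/-- The degree of a closed point of the generic fibre coming from a prime of an affine chart. -/
theorem mem_index {R : Type u} [CommRing R] [IsDomain R] [IsDiscreteValuationRing R]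
    {X 𝒳 : Scheme.{u}} {f : X ⟶ Spec (CommRingCat.of (FractionRing R))}
    {p : 𝒳 ⟶ Spec (CommRingCat.of R)} [LocallyOfFiniteType p] {g : X ⟶ 𝒳}
    (hg : IsPullback g f p (Spec.map (CommRingCat.ofHom (algebraMap R (FractionRing R)))))
    {U : 𝒳.Opens} (hU : IsAffineOpen U) [Algebra R Γ(𝒳, U)]
    (hUp : hU.fromSpec ≫ p = Spec.map (CommRingCat.ofHom (algebraMap R Γ(𝒳, U))))
    (P : Ideal Γ(𝒳, U)) [P.IsPrime] (hP : P.comap (algebraMap R Γ(𝒳, U)) = ⊥)
    (h0 : Module.finrank R P.ResidueField ≠ 0) :
    (Module.finrank R P.ResidueField : ℤ) ∈ Curv2.indexSubgroup f := by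
  let K := FractionRing R
  let L := P.ResidueField
  have hinj : Function.Injective (algebraMap R L) := by
    rw [injective_iff_map_eq_zero]
    intro r hr
    rw [IsScalarTower.algebraMap_apply R Γ(𝒳, U) L, Ideal.algebraMap_residueField_eq_zero] at hr
    exact Ideal.mem_bot.1 (hP ▸ hr)
  haveI : FaithfulSMul R L := (faithfulSMul_iff_algebraMap_injective R L).2 hinj
  letI : Algebra K L := FractionRing.liftAlgebra R L
  haveI : IsScalarTower R K L := FractionRing.isScalarTower_liftAlgebra R L
  have hKL : Module.finrank K L = Module.finrank R L := IsFractionRing.finrank_right_eq R K L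
  haveI : Module.Finite K L := Module.finite_of_finrank_pos (by rw [hKL]; exact Nat.pos_of_ne_zero h0)
  let s : Spec (CommRingCat.of L) ⟶ 𝒳 :=
    Spec.map (CommRingCat.ofHom (algebraMap Γ(𝒳, U) L)) ≫ hU.fromSpec
  have hs : s ≫ p = Spec.map (CommRingCat.ofHom (algebraMap K L)) ≫
      Spec.map (CommRingCat.ofHom (algebraMap R K)) := by
    rw [Category.assoc, hUp, ← Spec.map_comp, ← Spec.map_comp, ← CommRingCat.ofHom_comp,
      ← CommRingCat.ofHom_comp, ← IsScalarTower.algebraMap_eq, ← IsScalarTower.algebraMap_eq]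
  let σ : Spec (CommRingCat.of L) ⟶ X := hg.lift s (Spec.map (CommRingCat.ofHom (algebraMap K L))) hs
  have hσf : σ ≫ f = Spec.map (CommRingCat.ofHom (algebraMap K L)) := hg.lift_snd _ _ _
  haveI : IsPreimmersion (Spec.map (CommRingCat.ofHom (algebraMap Γ(𝒳, U) L))) := by
    rw [IsScalarTower.algebraMap_eq Γ(𝒳, U) (Localization.AtPrime P) L, CommRingCat.ofHom_comp, Spec.map_comp]
    haveI : IsClosedImmersion (Spec.map (CommRingCat.ofHom (algebraMap (Localization.AtPrime P) L))) :=
      IsClosedImmersion.spec_of_surjective _ IsLocalRing.residue_surjective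
    haveI : IsPreimmersion (Spec.map (CommRingCat.ofHom (algebraMap Γ(𝒳, U) (Localization.AtPrime P)))) :=
      IsPreimmersion.of_isLocalization P.primeCompl
    infer_instance
  haveI : IsPreimmersion (σ ≫ g) := by rw [hg.lift_fst]; infer_instance
  haveI : IsPreimmersion (Spec.map (CommRingCat.ofHom (algebraMap R K))) :=
    IsPreimmersion.of_isLocalization (nonZeroDivisors R)
  haveI : IsPreimmersion g := MorphismProperty.of_isPullback hg.flip inferInstance
  haveI : IsPreimmersion σ := IsPreimmersion.of_comp σ g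
  let x₀ : Spec (CommRingCat.of L) := IsLocalRing.closedPoint L
  have hdeg : f.residueDegree (σ x₀) = Module.finrank R L := by
    rw [← hKL, ← Groth.Agent.QsNormLib.residueDegree_spec (k := K) (F := L) x₀,
      ← Groth.Agent.WeilCohLib.residueDegree_congr hσf x₀, Groth.Agent.WeilCohLib.residueDegree_comp',
      residueDegree_eq_one_of_preimmersion σ x₀, mul_one]
  haveI : LocallyOfFiniteType f := MorphismProperty.of_isPullback hg inferInstance
  haveI : JacobsonSpace X := LocallyOfFiniteType.jacobsonSpace f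
  haveI : IsFinite (σ ≫ f) := by
    rw [hσf, IsFinite.SpecMap_iff, CommRingCat.hom_ofHom, RingHom.finite_algebraMap]
    infer_instance
  haveI : LocallyOfFiniteType σ := locallyOfFiniteType_of_comp σ f
  rw [← hdeg]
  exact AddSubgroup.subset_closure ⟨σ x₀,
    σ.closePoints_subset_preimage_closedPoints (IsLocalRing.isClosed_singleton_closedPoint L), rfl⟩

/-- Let R be a discrete valuation ring that is Henselian, whose residue field k is algebraically closed,
with fraction field K, and let 𝒳 be an R-scheme of finite type, flat over R, whose generic fibre is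
X (𝒳 is a model of the K-scheme X) and special fibre Y = 𝒳 ⊗_R k. Then the index of X over K (the
greatest common divisor of the degrees of its closed points) divides the multiplicity of Y (the
greatest common divisor of the lengths of the local rings of Y at its points of codimension 0): for
every point η of Y which is maximal for specialization, the local ring O_{Y,η} has finite length ℓ
and ℓ lies in the subgroup of ℤ generated by the degrees of the closed points of X. -/
theorem result (R : Type u) [CommRing R]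
    [IsDomain R] [IsDiscreteValuationRing R] [HenselianLocalRing R] (hk : IsAlgClosed (IsLocalRing.ResidueField R))
    (X : Scheme.{u}) (f : X ⟶ Spec (CommRingCat.of (FractionRing R)))
    (𝒳 : Scheme.{u}) (p : 𝒳 ⟶ Spec (CommRingCat.of R)) (h𝒳 : Models.IsModel R 𝒳 p X f)
    (η : ↥(Models.specialFibre R 𝒳 p)) (hη : ∀ y : ↥(Models.specialFibre R 𝒳 p), y ⤳ η → y = η) :
    ∃ ℓ : ℕ, Module.length ((Models.specialFibre R 𝒳 p).presheaf.stalk η) ((Models.specialFibre R 𝒳 p).presheaf.stalk η) = ℓ ∧
      (ℓ : ℤ) ∈ Curv2.indexSubgroup f := by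
  obtain ⟨hflat, hlft, -, g, hg⟩ := h𝒳
  haveI := hflat
  haveI := hlft
  haveI := hk
  let k := IsLocalRing.ResidueField R
  let x := pullback.fst p (Spec.map (CommRingCat.ofHom (algebraMap R k))) η
  obtain ⟨_, ⟨U, hU : IsAffineOpen U, rfl⟩, hxU, -⟩ :=
    𝒳.isBasis_affineOpens.exists_subset_of_mem_open (Set.mem_univ x) isOpen_univ
  let φ : CommRingCat.of R ⟶ Γ(𝒳, U) := Spec.preimage (hU.fromSpec ≫ p)
  letI : Algebra R Γ(𝒳, U) := φ.hom.toAlgebra
  have hUp : hU.fromSpec ≫ p = Spec.map (CommRingCat.ofHom (algebraMap R Γ(𝒳, U))) :=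
    (Spec.map_preimage (hU.fromSpec ≫ p)).symm
  haveI : Algebra.FiniteType R Γ(𝒳, U) := by
    have h : LocallyOfFiniteType (Spec.map φ) := by rw [Spec.map_preimage]; infer_instance
    exact (HasRingHomProperty.Spec_iff (P := @LocallyOfFiniteType)).mp h
  haveI : Module.Flat R Γ(𝒳, U) := by
    have h : Flat (Spec.map φ) := by rw [Spec.map_preimage]; infer_instance
    exact (HasRingHomProperty.Spec_iff (P := @Flat)).mp h
  let S := k ⊗[R] Γ(𝒳, U)
  -- the chart of the special fibre
  let e : Spec (CommRingCat.of S) ⟶ pullback (Spec.map (CommRingCat.ofHom (algebraMap R Γ(𝒳, U))))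
      (Spec.map (CommRingCat.ofHom (algebraMap R k))) :=
    (pullbackSpecIso R k Γ(𝒳, U)).inv ≫ (pullbackSymmetry _ _).hom
  haveI : IsIso e := inferInstance
  let c : pullback (Spec.map (CommRingCat.ofHom (algebraMap R Γ(𝒳, U))))
      (Spec.map (CommRingCat.ofHom (algebraMap R k))) ⟶ Models.specialFibre R 𝒳 p :=
    pullback.map _ _ p (Spec.map (CommRingCat.ofHom (algebraMap R k))) hU.fromSpec (𝟙 _) (𝟙 _)
      (by rw [Category.comp_id, hUp]) (by simp)
  let j : Spec (CommRingCat.of S) ⟶ Models.specialFibre R 𝒳 p := e ≫ c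
  have hrange : η ∈ Set.range j := by
    obtain ⟨z, hz⟩ : η ∈ Set.range c := by
      dsimp only [c]
      erw [Scheme.Pullback.range_map]
      refine ⟨?_, ⟨_, rfl⟩⟩
      show x ∈ Set.range hU.fromSpec
      rw [hU.range_fromSpec]
      exact hxU
    obtain ⟨w, hw⟩ := (inferInstance : Surjective e).surj z
    exact ⟨w, by rw [← hz, ← hw]; rfl⟩
  obtain ⟨Q, hQ⟩ := hrange
  haveI : IsOpenImmersion c := inferInstance
  haveI : IsOpenImmersion j := inferInstance
  have hQmin : Q.asIdeal ∈ minimalPrimes S := by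
    refine ⟨⟨Q.isPrime, bot_le⟩, fun I hI hle => ?_⟩
    let Q' : Spec (CommRingCat.of S) := ⟨I, hI.1⟩
    have hsp : j Q' ⤳ η :=
      hQ ▸ ((PrimeSpectrum.le_iff_specializes Q' Q).1 hle).map j.continuous
    exact (congrArg PrimeSpectrum.asIdeal (j.isOpenEmbedding.injective ((hη _ hsp).trans hQ.symm))).ge
  let π : Γ(𝒳, U) →ₐ[R] S := Algebra.TensorProduct.includeRight
  have hπ : Function.Surjective π := by
    intro z
    induction z using TensorProduct.induction_on with
    | zero => exact ⟨0, map_zero _⟩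
    | tmul c a =>
      obtain ⟨r, rfl⟩ := IsLocalRing.residue_surjective c
      refine ⟨r • a, ?_⟩
      show (1 : k) ⊗ₜ[R] (r • a) = IsLocalRing.residue R r ⊗ₜ[R] a
      rw [← TensorProduct.smul_tmul, Algebra.smul_def, mul_one]
      rfl
    | add y z hy hz =>
      obtain ⟨a, rfl⟩ := hy
      obtain ⟨b, rfl⟩ := hz
      exact ⟨a + b, map_add _ a b⟩
  have hπR : ∀ r, π.toRingHom (algebraMap R Γ(𝒳, U) r) = algebraMap k S (IsLocalRing.residue R r) := by
    intro r
    show π (algebraMap R Γ(𝒳, U) r) = algebraMap k S (algebraMap R k r)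
    rw [π.commutes, ← IsScalarTower.algebraMap_apply R k S]
  have hker : RingHom.ker π.toRingHom ≤
      (IsLocalRing.maximalIdeal R).map (algebraMap R Γ(𝒳, U)) := by
    intro a ha
    have h0 : (1 : R ⧸ IsLocalRing.maximalIdeal R) ⊗ₜ[R] a =
        (0 : (R ⧸ IsLocalRing.maximalIdeal R) ⊗[R] Γ(𝒳, U)) := ha
    have h1 := congrArg (TensorProduct.quotTensorEquivQuotSMul Γ(𝒳, U) (IsLocalRing.maximalIdeal R)) h0
    rw [map_zero, ← map_one (Ideal.Quotient.mk (IsLocalRing.maximalIdeal R)),
      TensorProduct.quotTensorEquivQuotSMul_mk_tmul, one_smul, Submodule.Quotient.mk_eq_zero,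
      Ideal.smul_top_eq_map] at h1
    exact h1
  obtain ⟨ℓ, hℓ, hmem⟩ := Groth.Agent.IndexMultLib.affine (A := Γ(𝒳, U)) (S := S) π.toRingHom hπ hπR hker
    Q.asIdeal hQmin (Curv2.indexSubgroup f) fun P _ hP h0 => mem_index hg hU hUp P hP h0
  refine ⟨ℓ, ?_, hmem⟩
  rw [← hℓ]
  subst hQ
  exact Groth.Agent.IndexMultLib.length_congr
    ((asIso (j.stalkMap Q)).commRingCatIsoToRingEquiv.trans
      (StructureSheaf.stalkIso S Q).symm.toRingEquiv)

end Groth.Agent.S19920
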