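import Groth.Statements.S19922
import Groth.Agent.SubBundleLib.Assoc
import Groth.Agent.AssocBundleLib.Square

set_option autoImplicit false
set_option backward.isDefEq.respectTransparency false
set_option backward.isDefEq.respectTransparency.types false
universe u
open CategoryTheory MonoidalCategory CartesianMonoidalCategory MonObj GrpObj AlgebraicGeometry Topology
open EqInt

namespace Groth.Agent.S19922

/-- Over an algebraically closed field k, let G be a connected linear algebraic group (an affine,
smooth, connected k-group scheme of finite type) acting on a scheme U (quasi-separated, of finite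
type) with a principal bundle quotient π : U → B (π is G-invariant, flat and surjective, B is
quasi-separated of finite type, and (σ, p₂) : G × U → U ×_B U is an isomorphism). Let Y be a normal
variety over k (integral, normal, separated, of finite type) with an action of G, and let j : X → Y
be a G-equivariant closed immersion, X a quasi-separated k-scheme of finite type with a G-action.
Then the diagonal action of G on X × U admits a principal bundle quotient X × U → Q in the category
of schemes over k: a G-invariant, flat, surjective ρ with (σ, p₂) : G × (X × U) → (X × U) ×_Q (X ×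
U) an isomorphism. (The published statement is over an arbitrary field, and its normal variety may
be a non-separated integral algebraic space; this row takes k algebraically closed and Y a separated
normal integral scheme.) -/
theorem result (k : Type u) [Field k] [IsAlgClosed k]
    (G X Y U B : Over (Spec (CommRingCat.of k))) [GrpObj G] [IsAffine G.left] [LocallyOfFiniteType G.hom]
    [Smooth G.hom] [ConnectedSpace ↥G.left]
    [LocallyOfFiniteType X.hom] [QuasiCompact X.hom] [QuasiSeparated X.hom]
    [IsIntegral Y.left] [IsSeparated Y.hom] [LocallyOfFiniteType Y.hom] [QuasiCompact Y.hom]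
    (hY : Pi1.IsNormalScheme Y.left)
    [LocallyOfFiniteType U.hom] [QuasiCompact U.hom] [QuasiSeparated U.hom]
    [LocallyOfFiniteType B.hom] [QuasiCompact B.hom] [QuasiSeparated B.hom]
    (aX : AlgGrp.Action G X) (aY : AlgGrp.Action G Y) (j : X ⟶ Y) [IsClosedImmersion j.left]
    (hj : AlgGrp.Action.IsEquivariant aX aY j)
    (b : AlgGrp.Action G U) (π : U ⟶ B) (hinv : GIT.IsInvariant b π)
    [Flat π.left] [Surjective π.left] (hcart : IsIso (GIT.PsiY b π hinv)) :
    ∃ (Q : Over (Spec (CommRingCat.of k))) (ρ : X ⊗ U ⟶ Q) (hρ : GIT.IsInvariant (aX.prod b) ρ),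
      Flat ρ.left ∧ Surjective ρ.left ∧ IsIso (GIT.PsiY (aX.prod b) ρ hρ) := by
  haveI : LocallyOfFiniteType (j.left ≫ Y.hom) := by infer_instance
  haveI := hcart
  have hcart' : IsPullback b.act (snd G U) π π := Groth.Agent.AssocBundle.isPullback_of_isIso_psiY b π hinv
  obtain ⟨Q, q, r, hqr, hQ, hq, hc⟩ := Groth.Agent.SubBundle.exists_assocBundle b π hcart' aX
  haveI := hq
  let σ : X ⊗ U ⟶ U ⊗ X := lift (snd X U) (fst X U)
  haveI : IsIso σ := ⟨lift (snd U X) (fst U X), by apply CartesianMonoidalCategory.hom_ext <;> simp [σ],
    by apply CartesianMonoidalCategory.hom_ext <;> simp [σ]⟩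
  have hσ : (aX.prod b).act ≫ σ = (G ◁ σ) ≫ (b.prod aX).act := by
    simp [σ, AlgGrp.Action.prod, comp_lift, ← whiskerLeft_comp_assoc]
  have hρ : IsPullback (aX.prod b).act (snd G (X ⊗ U)) (σ ≫ q) (σ ≫ q) := by
    refine hc.of_iso (asIso (G ◁ σ)).symm (asIso σ).symm (asIso σ).symm (Iso.refl _) ?_ ?_ ?_ ?_
    · simp only [Iso.symm_hom, asIso_inv, IsIso.eq_inv_comp, ← Category.assoc]
      rw [IsIso.comp_inv_eq, hσ]
    · simp only [Iso.symm_hom, asIso_inv, IsIso.eq_inv_comp, ← Category.assoc]
      rw [IsIso.comp_inv_eq]
      simp
    · simp
    · simp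
  refine ⟨Q, σ ≫ q, hρ.w, ?_, ?_, ?_⟩
  · rw [Over.comp_left]
    haveI : IsIso σ.left := inferInstanceAs (IsIso ((Over.forget _).map σ))
    haveI : Flat q.left := inferInstance
    infer_instance
  · rw [Over.comp_left]
    haveI : IsIso σ.left := inferInstanceAs (IsIso ((Over.forget _).map σ))
    haveI : Surjective q.left := inferInstance
    infer_instance
  · have h := hρ.map (Over.forget (Spec (CommRingCat.of k)))
    have e : GIT.PsiY (aX.prod b) (σ ≫ q) hρ.w = h.isoPullback.hom := by
      apply CategoryTheory.Limits.pullback.hom_ext
      · exact (CategoryTheory.Limits.pullback.lift_fst _ _ _).trans h.isoPullback_hom_fst.symm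
      · exact (CategoryTheory.Limits.pullback.lift_snd _ _ _).trans h.isoPullback_hom_snd.symm
    rw [e]
    infer_instance

end Groth.Agent.S19922
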