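import Groth.Statements.S19923
import Groth.Agent.WeilAVLib.DualTr

set_option autoImplicit false
universe u
open CategoryTheory CategoryTheory.Limits MonoidalCategory CartesianMonoidalCategory MonObj GrpObj AlgebraicGeometry
open AbVar

namespace Groth.Agent.S19923

open CategoryTheory CategoryTheory.Limits AlgebraicGeometry

open Groth.Agent
set_option backward.isDefEq.respectTransparency false
set_option synthInstance.maxHeartbeats 400000
set_option maxHeartbeats 1000000

/-- Let A be an abelian variety over a field k (a proper, geometrically integral commutative k-group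
scheme; k arbitrary), given with a dual (Â, φ_A) and a dual (Â̂, φ_Â) of Â — each represents the
fppf-sheafified functor of invertible classes algebraically equivalent to zero on geometric fibres,
with φ multiplicative — and with a Poincaré class ξ on A ×_k Â whose transpose ξ' on Â ×_k A lies in
Pic⁰ on the fibres over A; put ι_A = φ_Â(ξ') : A → Â̂ (the double-duality morphism). Let L be an
invertible O_A-module with an inverse L⁻¹, and let Λ be a module on A ×_k A isomorphic to m^*L ⊗
p₁^*L⁻¹ ⊗ p₂^*L⁻¹ (m the group law, p₁, p₂ the projections) whose class lies in Pic⁰ on the fibres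
over the second factor, so that φ_L := φ_A(Λ) : A → Â is the homomorphism a ↦ t_a^*L ⊗ L⁻¹. If φ̂_L
: Â̂ → Â is a transpose of φ_L (φ_A of the pull-back of a Pic⁰ class c along (φ_L)_T equals φ_Â(c)
followed by φ̂_L), then φ_L = ι_A followed by φ̂_L: the homomorphism φ_L is symmetric. -/
theorem result (K : Type u) [Field K]
    (A At Att : Over (Spec (CommRingCat.of K)))
    [GrpObj A] [IsCommMonObj A] [IsProper A.hom] [GeometricallyIntegral A.hom]
    [GrpObj At] [IsCommMonObj At] [IsProper At.hom] [GeometricallyIntegral At.hom]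
    [GrpObj Att] [IsCommMonObj Att] [IsProper Att.hom] [GeometricallyIntegral Att.hom]
    (φA : ∀ T : Over (Spec (CommRingCat.of K)), PicF.Cl (PicF.XT A.hom T) → (T ⟶ At))
    (hAt : AbDual.IsDualAV Scheme.fppfPrecoverage A At φA)
    (φAt : ∀ T : Over (Spec (CommRingCat.of K)), PicF.Cl (PicF.XT At.hom T) → (T ⟶ Att))
    (hAtt : AbDual.IsDualAV Scheme.fppfPrecoverage At Att φAt)
    (ξ : PicF.Cl (PicF.XT A.hom At)) (hξ : AbDual.IsPoincareCl A At φA ξ)
    (hξ' : AbDual.IsPicZeroCl At.hom A (PicF.pullCl (pullbackSymmetry At.hom A.hom).hom ξ))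
    (L Linv : A.left.Modules) (hL : PicF.IsInvertible L)
    (hLinv : Nonempty (CohB1.tensorMod L Linv ≅ Coh.structureModule A.left))
    (Λ : (PicF.XT A.hom A).Modules)
    (hΛ : Nonempty (Λ ≅ CohB1.tensorMod (CohB1.tensorMod ((Scheme.Modules.pullback (μ[A]).left).obj L)
      ((Scheme.Modules.pullback (fst A A).left).obj Linv)) ((Scheme.Modules.pullback (snd A A).left).obj Linv)))
    (hΛ0 : AbDual.IsPicZeroCl A.hom A (PicF.cl Λ))
    (tl : Att ⟶ At) [IsMonHom tl]
    (htl : AbDual.IsTranspose (φA A (PicF.cl Λ)) φA φAt tl) :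
    φA A (PicF.cl Λ) = φAt A (PicF.pullCl (pullbackSymmetry At.hom A.hom).hom ξ) ≫ tl := by
  obtain ⟨P, rfl, hPz, hPr, hid⟩ := AbDualLib.exists_poincare hξ
  obtain ⟨eLi⟩ := hLinv
  have hLi : PicF.IsInvertible Linv := AmpleLib.isInvertible_of_tensor_iso (AmpleLib.comm _ _ ≪≫ eLi)
  set d := PicLib.cls hL with hd
  have hdi : PicLib.cls hLi = d⁻¹ := eq_inv_of_mul_eq_one_right <| by
    rw [hd, ← PicLib.cls_tensor hL hLi]
    exact (PicLib.cls_eq_one _).2 ⟨eLi⟩
  set c := WeilAVLib.lamCl d with hc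
  have hm := AmpleLib.isInvertible_pullback μ[A].left hL
  have hp := AmpleLib.isInvertible_pullback (fst A A).left hLi
  have hq := AmpleLib.isInvertible_pullback (snd A A).left hLi
  obtain ⟨eΛ⟩ := hΛ
  have hΛi : PicF.IsInvertible Λ :=
    ParaFLib.isInvertible_of_iso eΛ.symm (AmpleLib.isInvertible_tensor (AmpleLib.isInvertible_tensor hm hp) hq)
  have hΛc : PicLib.cls hΛi = c := by
    rw [(PicLib.cls_eq_cls hΛi (AmpleLib.isInvertible_tensor (AmpleLib.isInvertible_tensor hm hp) hq)).2 ⟨eΛ⟩,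
      PicLib.cls_tensor (AmpleLib.isInvertible_tensor hm hp) hq, PicLib.cls_tensor hm hp, ← PicLib.pull_cls _ hLi,
      ← PicLib.pull_cls _ hLi, ← PicLib.pull_cls _ hL, hdi, map_inv, map_inv, hc, WeilAVLib.lamCl, DegPolyLib.bil,
      DegPolyLib.phi, DegPolyLib.phi, DegPolyLib.phi,
      show (fst A A * snd A A).left = μ[A].left from by rw [Hom.mul_def, lift_fst_snd, Category.id_comp],
      div_eq_mul_inv, _root_.mul_inv, ← _root_.mul_assoc]
  have hcz : AbDualLib.IsPZ A A c := by
    show AbDual.IsPicZeroCl A.hom A (AbDualLib.toCl c)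
    rw [← hΛc]
    exact hΛ0
  have hcl : PicF.cl Λ = AbDualLib.toCl c := hΛc ▸ rfl
  rw [hcl] at htl ⊢
  set lam := φA A (AbDualLib.toCl c) with hlam
  have hpull : PicLib.pull (PicF.XTmap A.hom lam) P = c := by
    refine AbDualLib.eq_of_ph_eq hAt (AbDualLib.isPZ_pull_XTmap _ hPz) hcz (AbDualLib.pull_eT_XTmap _ hPr)
      (WeilAVLib.eT_lamCl d) ?_
    rw [AbDualLib.ph_natural hAt _ hPz, hid, Category.comp_id]
    rfl
  rw [← htl A _ hξ', ← AbDualLib.toCl_pull, ← AbDualLib.toCl_pull]
  show φA A (AbDualLib.toCl c) = φA A (AbDualLib.toCl _)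
  congr 2
  rw [← PicLib.pull_comp]
  have e : AbDual.bcMap lam A ≫ (pullbackSymmetry At.hom A.hom).hom =
      (lift (snd A A) (fst A A ≫ lam)).left := by
    rw [← WeilAVLib.lift_sw (snd A A) (fst A A ≫ lam)]
    congr 1
  rw [e]
  show c = WeilAVLib.ev P (snd A A) (fst A A ≫ lam)
  rw [← WeilAVLib.ev_XTmap, hpull, hc, WeilAVLib.ev_lamCl, DegPolyLib.bil_comm, WeilAVLib.lamCl]

end Groth.Agent.S19923
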