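import Groth.Statements.S19948
import Groth.Agent.ThetaLib.Isotropic
import Groth.Agent.AVLib.Isog
-- import your own Groth.Agent.* helpers here

set_option autoImplicit false
universe u
open CategoryTheory MonoidalCategory CartesianMonoidalCategory MonObj GrpObj AlgebraicGeometry
open ThetaGrp

namespace Groth.Agent.S19948

/-- Let k be an algebraically closed field, f : X → Y an isogeny of abelian varieties over k (X, Y
proper, geometrically integral, commutative k-group schemes; f a finite surjective homomorphism), i
: N → X the kernel of f (a homomorphism forming a cartesian square with the unit section of Y), L an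
invertible O_X-module and i_K : K → X a closed immersion exhibiting K as K(L), the maximal closed
subscheme of X over which the Mumford bundle m^*L ⊗ p_1^*L⁻¹ ⊗ p_2^*L⁻¹, restricted to X ×_k K, is
the inverse image of an invertible module on K, with its universal property. Then L is the inverse
image of an invertible O_Y-module (there is an invertible M on Y with f^*M ≅ L) if and only if the
kernel of f lies inside K(L) as a subgroup scheme and the commutator pairing e_L is trivial on it: i
factors through i_K, and for every k-scheme T any two points (x₁, φ₁), (x₂, φ₂) of G(L)(T) whose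
translations are by points of N commute. (Algebraic closedness is used for the converse; over other
fields an isotropic kernel descends in general only after a finite extension of k.) -/
theorem result (k : Type u) [Field k] [IsAlgClosed k]
    (A : Over (Spec (CommRingCat.of k))) [GrpObj A] [IsCommMonObj A] [IsProper A.hom] [GeometricallyIntegral A.hom]
    (B : Over (Spec (CommRingCat.of k))) [GrpObj B] [IsCommMonObj B] [IsProper B.hom] [GeometricallyIntegral B.hom]
    (f : A ⟶ B) [IsMonHom f] [IsFinite f.left] (hf : Surjective f.left)
    (N : Over (Spec (CommRingCat.of k))) [GrpObj N] (i : N ⟶ A) [IsMonHom i] (hN : AlgGrp.IsKernel i f)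
    (L : A.left.Modules) (hL : PicF.IsInvertible L)
    (K : Over (Spec (CommRingCat.of k))) (iK : K ⟶ A) (hK : ThetaGrp.IsKL A L iK) :
    (∃ M : B.left.Modules, PicF.IsInvertible M ∧ Nonempty ((Scheme.Modules.pullback f.left).obj M ≅ L)) ↔
      ((∃ y : N ⟶ K, y ≫ iK = i) ∧ ThetaGrp.IsIsotropic L i) := by
  open Groth.Agent.ThetaLib in
  have hif : i ≫ f = 1 := by rw [hN.w, Hom.one_def]
  constructor
  · rintro ⟨M, -, ⟨e⟩⟩
    refine ⟨(factor_iff hL hK i).2 fun t => ?_, fun T x y β₁ β₂ h₁ h₂ => ?_⟩
    · obtain ⟨β, hβ, -⟩ := exists_canonical f e (subι N ⊤ ≫ i) (by rw [Category.assoc, hif, MonObj.comp_one])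
      exact ⟨⊤, trivial, β, hβ⟩
    · obtain ⟨a, ha, ha'⟩ := exists_canonical f e (x ≫ i) (by rw [Category.assoc, hif, MonObj.comp_one])
      obtain ⟨b, hb, hb'⟩ := exists_canonical f e (y ≫ i) (by rw [Category.assoc, hif, MonObj.comp_one])
      have o1 := isOverPt_mul ha hb
      have o2 := isOverPt_mul hb ha
      rw [_root_.mul_comm] at o1
      have hab : a * b = b * a := canonical_unique f e o1 o2
        (by rw [mul_hom, Category.assoc, ha', hb']) (by rw [mul_hom, Category.assoc, hb', ha'])
      exact (comm_of_over hL hb h₂ (comm_of_over hL ha h₁ hab).symm).symm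
  · rintro ⟨hfac, hiso⟩
    haveI := hf
    haveI : Mono (η[B] : 𝟙_ _ ⟶ B) := (SplitMono.mk (toUnit B) (Subsingleton.elim _ _)).mono
    haveI : Mono i := hN.mono_fst_of_mono
    haveI : IsFinite (toUnit N).left :=
      MorphismProperty.of_isPullback (P := @IsFinite) (hN.map (Over.forget _)) ‹IsFinite f.left›
    haveI : IsFinite N.hom := by
      rw [← Over.w (toUnit N)]
      exact MorphismProperty.comp_mem _ _ _ ‹_› (inferInstanceAs (IsFinite (𝟙 (Spec (CommRingCat.of k)))))
    obtain ⟨Kl⟩ := exists_kerLift_of_isotropic hL hK hfac hiso
    haveI : IsIntegral B.left := GeometricallyIntegral.isIntegral_of_subsingleton B.hom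
    haveI : Flat f.left := Groth.Agent.AVLib.flat_of_surjective f
    exact exists_descended_module hN Kl hL

end Groth.Agent.S19948
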