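import Groth.Statements.S1995
import Mathlib
import Groth.Agent.Hensel.Idempotent
import Groth.Agent.PairHens.Basic
-- import your own Groth.Agent.* helpers here

set_option autoImplicit false
universe u
open EtAlg

namespace Groth.Agent.S1995

/-- Let I_1, …, I_n be pairwise comaximal ideals of a ring A, B a henselization of the pair (A, I_1 ∩ …
∩ I_n) and B_i a henselization of (A, I_i) for each i. Then B is isomorphic as an A-algebra to the
product of the B_i (any such isomorphism is the natural comparison map, by the universal property). -/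
theorem result (A : Type u) [CommRing A] {n : ℕ} (I : Fin n → Ideal A)
    (hI : Pairwise fun i j => I i ⊔ I j = ⊤) (B : Type u) [CommRing B] [Algebra A B]
    (hB : Hens2.IsPairHenselization A (⨅ i, I i) B) (Bi : Fin n → Type u) [∀ i, CommRing (Bi i)] [∀ i, Algebra A (Bi i)]
    (hBi : ∀ i, Hens2.IsPairHenselization A (I i) (Bi i)) :
    Nonempty (B ≃ₐ[A] ∀ i, Bi i) := by
  classical
  let K : Ideal A := ⨅ i, I i
  have hco : Pairwise (Function.onFun IsCoprime I) := fun i j hij =>
    Ideal.isCoprime_iff_sup_eq.2 (hI hij)
  choose a ha using fun i : Fin n => Ideal.exists_forall_sub_mem_ideal hco (Pi.single i (1 : A))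
  have ha1 : ∀ i, a i - 1 ∈ I i := fun i => by simpa using ha i i
  have ha0 : ∀ i j, j ≠ i → a i ∈ I j := fun i j h => by simpa [Pi.single_eq_of_ne h] using ha i j
  -- the ideal of the product
  have hKmem : ∀ (i) (x : A), x ∈ I i → x * a i ∈ K := fun i x hx => Ideal.mem_iInf.2 fun j => by
    rcases eq_or_ne j i with rfl | h
    · exact (I j).mul_mem_right _ hx
    · exact (I j).mul_mem_left _ (ha0 i j h)
  have hunit : ∀ i, IsUnit (algebraMap A (Bi i) (a i)) := fun i => by
    refine Groth.Agent.Hensel.isUnit_of_sub_mem (hBi i).1.jac isUnit_one ?_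
    rw [← map_one (algebraMap A (Bi i)), ← map_sub]
    exact Ideal.mem_map_of_mem _ (ha1 i)
  set KP := K.map (algebraMap A (∀ i, Bi i)) with hKP
  have hKPeq : KP = ⨅ i, ((I i).map (algebraMap A (Bi i))).comap (Pi.evalRingHom Bi i) := by
    refine le_antisymm ?_ fun x hx => ?_
    · rw [hKP, Ideal.map_le_iff_le_comap]
      intro y hy
      refine Ideal.mem_iInf.2 fun i => ?_
      show algebraMap A (Bi i) y ∈ (I i).map (algebraMap A (Bi i))
      exact Ideal.mem_map_of_mem _ (Ideal.mem_iInf.1 hy i)
    · have hsing : ∀ i (y : Bi i), y ∈ (I i).map (algebraMap A (Bi i)) →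
          (Pi.single i y : (∀ i, Bi i)) ∈ KP := by
        intro i y hy
        induction hy using Submodule.span_induction with
        | mem y hy =>
          obtain ⟨c, hc, rfl⟩ := hy
          obtain ⟨v, hv⟩ := (hunit i).exists_left_inv
          have : (Pi.single i (algebraMap A (Bi i) c) : (∀ i, Bi i)) =
              Pi.single i v * algebraMap A (∀ i, Bi i) (c * a i) := by
            funext j
            rcases eq_or_ne j i with rfl | h
            · simp only [Pi.single_eq_same, Pi.mul_apply, Pi.algebraMap_apply, map_mul]
              rw [mul_comm (algebraMap A (Bi j) c), ← mul_assoc, hv, one_mul]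
            · simp [Pi.single_eq_of_ne h]
          rw [this]
          exact Ideal.mul_mem_left _ _ (Ideal.mem_map_of_mem _ (hKmem i c hc))
        | zero => rw [Pi.single_zero]; exact zero_mem _
        | add y z _ _ h1 h2 => rw [Pi.single_add]; exact add_mem h1 h2
        | smul c y _ h1 =>
          rw [smul_eq_mul, show (Pi.single i (c * y) : (∀ i, Bi i)) = Pi.single i c * Pi.single i y from
            Pi.single_mul _ _ _]
          exact Ideal.mul_mem_left _ _ h1
      rw [show x = ∑ i, Pi.single i (x i) from (Finset.univ_sum_single x).symm]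
      exact sum_mem fun i _ => hsing i _ (Ideal.mem_iInf.1 hx i)
  have hP : Hens2.IsPairHenselization A K (∀ i, Bi i) := by
    refine ⟨?_, fun C _ J f hC hf => ?_⟩
    · change HenselianRing (∀ i, Bi i) KP
      rw [hKPeq]
      exact Groth.Agent.Hensel.pi fun i => (hBi i).1
    have hfK : ∀ x ∈ K, f x ∈ J := fun x hx => hf (Ideal.mem_map_of_mem f hx)
    have hlift : ∀ i, ∃ e : C, IsIdempotentElem e ∧ e - f (a i) ∈ J := fun i => by
      haveI := hC
      obtain ⟨e, he, he'⟩ := Groth.Agent.Hensel.exists_idempotent_of_finite (A := C) (B := C) hC.jac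
        Groth.Agent.Hensel.gabberRoot (b := f (a i)) (by
          rw [Algebra.algebraMap_self, Ideal.map_id, ← map_mul, ← map_sub]
          refine hfK _ ?_
          rw [show a i * a i - a i = (a i - 1) * a i by ring]
          exact hKmem i _ (ha1 i))
      exact ⟨e, he, by simpa using he'⟩
    choose e he heJ using hlift
    have heq : ∀ {x y : C}, IsIdempotentElem x → IsIdempotentElem y → x - y ∈ J → x = y :=
      fun hx hy h => Groth.Agent.Hensel.idempotent_eq_of_sub_mem_jacobson hx hy (hC.jac h)
    have hortho : OrthogonalIdempotents e := by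
      refine ⟨he, fun i j hij => heq ((he i).mul (he j)) IsIdempotentElem.zero ?_⟩
      have h1 : f (a i * a j) ∈ J := hfK _ (Ideal.mem_iInf.2 fun l => by
        rcases eq_or_ne l i with rfl | h
        · exact (I l).mul_mem_left _ (ha0 j l hij)
        · exact (I l).mul_mem_right _ (ha0 i l h))
      have h2 : e i * e j - f (a i * a j) ∈ J := by
        rw [map_mul, show e i * e j - f (a i) * f (a j) =
          (e i - f (a i)) * e j + f (a i) * (e j - f (a j)) by ring]
        exact J.add_mem (J.mul_mem_right _ (heJ i)) (J.mul_mem_left _ (heJ j))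
      simpa using J.add_mem h2 h1
    have hcoi : CompleteOrthogonalIdempotents e := by
      refine ⟨hortho, heq hortho.isIdempotentElem_sum IsIdempotentElem.one ?_⟩
      have h1 : f (∑ i, a i - 1) ∈ J := hfK _ (Ideal.mem_iInf.2 fun l => by
        rw [← Finset.add_sum_erase _ _ (Finset.mem_univ l), show ∀ s : A, a l + s - 1 = (a l - 1) + s from
          fun s => by ring]
        exact (I l).add_mem (ha1 l) (sum_mem fun m hm => ha0 m l (Finset.ne_of_mem_erase hm).symm))
      have h2 : ∑ i, e i - f (∑ i, a i) ∈ J := by
        rw [map_sum, ← Finset.sum_sub_distrib]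
        exact sum_mem fun i _ => heJ i
      rw [map_sub, map_one] at h1
      simpa using J.add_mem h2 h1
    let π := fun i => Ideal.Quotient.mk (Ideal.span {1 - e i})
    have hπe : ∀ i, π i (e i) = 1 := fun i => by
      rw [eq_comm, ← map_one (π i)]
      exact Ideal.Quotient.eq.2 (Ideal.mem_span_singleton_self _)
    have hbij : Function.Bijective (RingHom.pi π) := hcoi.bijective_pi
    let Φ := RingEquiv.ofBijective _ hbij
    have hJi : ∀ i, (I i).map ((π i).comp f) ≤ J.map (π i) := fun i => by
      rw [Ideal.map_le_iff_le_comap]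
      intro x hx
      show π i (f x) ∈ J.map (π i)
      have h1 := Ideal.mem_map_of_mem (π i) (hfK _ (hKmem i x hx))
      have h2 := Ideal.mem_map_of_mem (π i) (heJ i)
      rw [map_sub, hπe] at h2
      rw [map_mul, map_mul] at h1
      have := add_mem h1 (Ideal.mul_mem_left _ (π i (f x)) h2)
      rwa [← mul_add, add_sub_cancel, mul_one] at this
    have hHi : ∀ i, HenselianRing (C ⧸ Ideal.span {1 - e i}) (J.map (π i)) := fun i =>
      haveI := hC
      Groth.Agent.Hensel.quotient _
    choose g hg hgu using fun i => (hBi i).2 _ _ ((π i).comp f) (hHi i) (hJi i)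
    let G : (∀ i, Bi i) →+* C := Φ.symm.toRingHom.comp (RingHom.pi fun i => (g i).comp (Pi.evalRingHom Bi i))
    refine ⟨G, ?_, ?_⟩
    · refine RingHom.ext fun x => Φ.injective ?_
      show Φ (Φ.symm _) = _
      rw [Φ.apply_symm_apply]
      funext i
      exact RingHom.congr_fun (hg i) x
    · intro g' hg'
      refine RingHom.ext fun y => Φ.injective ?_
      show _ = Φ (Φ.symm _)
      rw [Φ.apply_symm_apply]
      funext i
      show π i (g' y) = g i (y i)
      have hdelta : ∀ j, g' (Pi.single j 1) = e j := by
        intro j
        have hid : IsIdempotentElem (g' (Pi.single j 1)) := by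
          refine IsIdempotentElem.map (f := g') ?_
          exact ((CompleteOrthogonalIdempotents.single Bi).idem j)
        refine heq hid (he j) ?_
        have h1 : (Pi.single j 1 : (∀ i, Bi i)) - algebraMap A (∀ i, Bi i) (a j) ∈ KP := by
          rw [hKPeq]
          refine Ideal.mem_iInf.2 fun l => ?_
          show (Pi.single j 1 : (∀ i, Bi i)) l - algebraMap A (Bi l) (a j) ∈ (I l).map (algebraMap A (Bi l))
          rcases eq_or_ne l j with rfl | h
          · rw [Pi.single_eq_same, ← map_one (algebraMap A (Bi l)), ← map_sub]
            refine Ideal.mem_map_of_mem _ ?_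
            rw [← neg_sub]; exact (I l).neg_mem (ha1 l)
          · rw [Pi.single_eq_of_ne h, zero_sub]
            exact neg_mem (Ideal.mem_map_of_mem _ (ha0 j l h))
        have h2 := Ideal.mem_map_of_mem g' h1
        rw [hKP, Ideal.map_map, hg', map_sub, show g' (algebraMap A (∀ i, Bi i) (a j)) = f (a j) from
          RingHom.congr_fun hg' (a j)] at h2
        simpa using J.sub_mem (hf h2) (heJ j)
      let gi : Bi i →+* C ⧸ Ideal.span {1 - e i} :=
        { toFun := fun x => π i (g' (Pi.single i x))
          map_one' := by rw [hdelta, hπe]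
          map_mul' := fun x z => by rw [show (Pi.single i (x * z) : (∀ i, Bi i)) = Pi.single i x * Pi.single i z from
            Pi.single_mul _ _ _, map_mul, map_mul]
          map_zero' := by rw [Pi.single_zero, map_zero, map_zero]
          map_add' := fun x z => by rw [Pi.single_add, map_add, map_add] }
      have hsingle : ∀ z : (∀ i, Bi i), π i (g' z) = π i (g' (Pi.single i (z i))) := fun z => by
        have : (Pi.single i (z i) : (∀ i, Bi i)) = Pi.single i 1 * z := by
          funext l
          rcases eq_or_ne l i with rfl | h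
          · simp
          · simp [Pi.single_eq_of_ne h]
        rw [this, map_mul, map_mul, hdelta, hπe, one_mul]
      have hgi : gi = g i := hgu i gi (RingHom.ext fun x => by
        show π i (g' (Pi.single i (algebraMap A (Bi i) x))) = π i (f x)
        rw [← RingHom.congr_fun hg' x]
        exact (hsingle (algebraMap A (∀ i, Bi i) x)).symm)
      rw [← hgi]
      exact hsingle y
  obtain ⟨e₁⟩ := Groth.Agent.PairHens.exists_algEquiv hB
  obtain ⟨e₂⟩ := Groth.Agent.PairHens.exists_algEquiv hP
  exact ⟨e₁.symm.trans e₂⟩

end Groth.Agent.S1995
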