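import Groth.Statements.S19954
import Groth.Agent.ThetaLib.Perp
-- import your own Groth.Agent.* helpers here

set_option autoImplicit false
universe u
open CategoryTheory MonoidalCategory CartesianMonoidalCategory MonObj GrpObj AlgebraicGeometry
open ThetaGrp

namespace Groth.Agent.S19954

/-- Let f : X → Y be a homomorphism of abelian varieties over a field k (proper, geometrically integral,
commutative k-group schemes), L an invertible O_Y-module, and i_K : K → Y a closed immersion
exhibiting K as K(L), the maximal closed subscheme of Y over which the Mumford bundle m^*L ⊗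
p_1^*L⁻¹ ⊗ p_2^*L⁻¹, restricted to Y ×_k K, is the inverse image of an invertible module on K, with
its universal property. The identity e_{f^*L} = e_L ∘ (f, f) on f⁻¹(K(L)) is stated here through the
vanishing of the two commutator pairings: for a k-scheme H and a k-morphism i_H : H → X such that f
∘ i_H factors through i_K, the pairing e_L is trivial on the image of H in Y — for every k-scheme T,
any two points of G(L)(T) lying over the translations by f(i_H(h₁)), f(i_H(h₂)) for T-valued points
h₁, h₂ of H commute — if and only if e_{f^*L} is trivial on H: any two points of G(f^*L)(T) lying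
over the translations by i_H(h₁), i_H(h₂) commute. -/
theorem result (k : Type u) [Field k]
    (A : Over (Spec (CommRingCat.of k))) [GrpObj A] [IsCommMonObj A] [IsProper A.hom] [GeometricallyIntegral A.hom]
    (B : Over (Spec (CommRingCat.of k))) [GrpObj B] [IsCommMonObj B] [IsProper B.hom] [GeometricallyIntegral B.hom]
    (f : A ⟶ B) [IsMonHom f]
    (L : B.left.Modules) (hL : PicF.IsInvertible L)
    (K : Over (Spec (CommRingCat.of k))) (iK : K ⟶ B) (hK : ThetaGrp.IsKL B L iK)
    (H : Over (Spec (CommRingCat.of k))) (iH : H ⟶ A) (hH : ∃ y : H ⟶ K, y ≫ iK = iH ≫ f) :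
    ThetaGrp.IsIsotropic L (iH ≫ f) ↔
      ThetaGrp.IsIsotropic ((Scheme.Modules.pullback f.left).obj L) iH := by
  open Groth.Agent.ThetaLib in
  constructor
  · intro h T x y β₁ β₂ h₁ h₂
    obtain ⟨z, hz⟩ := hH
    have hloc : ∀ (w : T ⟶ H) (t : T.left), ∃ U : T.left.Opens, t ∈ U ∧
        ∃ d : ThetaGrp.thetaPts B L (sub T U), ThetaGrp.IsOverPt d (subι T U ≫ w ≫ iH ≫ f) := fun w =>
      (factor_iff hL hK (w ≫ iH ≫ f)).1 ⟨w ≫ z, by rw [Category.assoc, hz]⟩
    choose U hU a ha using hloc x
    choose W hW b hb using hloc y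
    refine comm_of_local (fun V => qcoh_theta (isInvertible_pb f hL) V) h₁ h₂ (fun t => U t ⊓ W t)
      (fun t => ⟨t, hU t, hW t⟩) fun t α' β' hα hβ _ _ => ?_
    let V := sub T (U t ⊓ W t)
    let r : V ⟶ sub T (U t) := Over.homMk (T.left.homOfLE inf_le_left) (by simp [V])
    let s : V ⟶ sub T (W t) := Over.homMk (T.left.homOfLE inf_le_right) (by simp [V])
    have hr : r ≫ subι T (U t) = subι T (U t ⊓ W t) := Over.OverMorphism.ext (by simp [r, V])
    have hs : s ≫ subι T (W t) = subι T (U t ⊓ W t) := Over.OverMorphism.ext (by simp [s, V])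
    obtain ⟨d₁, hd₁, -⟩ := exists_bc_pt r (ha t)
    obtain ⟨d₂, hd₂, -⟩ := exists_bc_pt s (hb t)
    rw [← Category.assoc, hr] at hd₁
    rw [← Category.assoc, hs] at hd₂
    have hd : d₁ * d₂ = d₂ * d₁ := h V (subι T (U t ⊓ W t) ≫ x) (subι T (U t ⊓ W t) ≫ y) d₁ d₂
      (by rw [Category.assoc]; exact hd₁) (by rw [Category.assoc]; exact hd₂)
    obtain ⟨a', ha', haP⟩ := exists_pull f L (x := subι T (U t ⊓ W t) ≫ x ≫ iH) (c := d₁)
      (by simp only [Category.assoc]; exact hd₁)
    obtain ⟨b', hb', hbP⟩ := exists_pull f L (x := subι T (U t ⊓ W t) ≫ y ≫ iH) (c := d₂)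
      (by simp only [Category.assoc]; exact hd₂)
    have hab : a' * b' = b' * a' := by
      refine Subtype.ext (Iso.ext (lift_unique (P f L V) ?_ ?_))
      · have e1 := isOverPt_mul ha' hb'
        have e2 := isOverPt_mul hb' ha'
        rw [_root_.mul_comm] at e1
        exact e1.trans e2.symm
      · show (b'.1.hom ≫ a'.1.hom) ≫ P f L V = (a'.1.hom ≫ b'.1.hom) ≫ P f L V
        rw [Category.assoc, Category.assoc, haP, hbP, ← Category.assoc b'.1.hom, hbP, ← Category.assoc a'.1.hom, haP,
          Category.assoc, Category.assoc]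
        exact congrArg (fun q : ThetaGrp.thetaPts B L V => P f L V ≫ q.1.hom) hd
    have hLA := isInvertible_pb f hL
    exact (comm_of_over hLA hb' hβ (comm_of_over hLA ha' hα hab).symm).symm
  · intro h T x y d₁ d₂ h₁ h₂
    obtain ⟨a, ha, haP⟩ := exists_pull f L (x := x ≫ iH) (c := d₁) (by rw [Category.assoc]; exact h₁)
    obtain ⟨b, hb, hbP⟩ := exists_pull f L (x := y ≫ iH) (c := d₂) (by rw [Category.assoc]; exact h₂)
    have hab := h T x y a b ha hb
    let q : ThetaGrp.thetaPts B L T := (d₂ * d₁)⁻¹ * (d₁ * d₂)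
    have h12 := isOverPt_mul h₁ h₂
    have h21 := isOverPt_mul h₂ h₁
    rw [_root_.mul_comm] at h12
    have hq : ThetaGrp.IsOverPt q 1 := by
      have := isOverPt_mul (isOverPt_inv h21) h12
      rwa [mul_inv_cancel] at this
    have hP : ∀ (a b : ThetaGrp.thetaPts A (pb f L) T) (c d : ThetaGrp.thetaPts B L T),
        a.1.hom ≫ P f L T = P f L T ≫ c.1.hom → b.1.hom ≫ P f L T = P f L T ≫ d.1.hom →
        (a * b).1.hom ≫ P f L T = P f L T ≫ (c * d).1.hom := fun a b c d e₁ e₂ => by
      rw [mul_hom, mul_hom, Category.assoc, e₁, ← Category.assoc, e₂, Category.assoc]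
    have hqP : P f L T ≫ q.1.hom = P f L T := by
      have e1 := hP _ _ _ _ haP hbP
      have e2 := hP _ _ _ _ hbP haP
      rw [hab, e2] at e1
      show P f L T ≫ (d₁ * d₂).1.hom ≫ (d₂ * d₁).1.inv = _
      rw [← Category.assoc, ← e1, Category.assoc]
      exact (congrArg (P f L T ≫ ·) (d₂ * d₁).1.hom_inv_id).trans (Category.comp_id _)
    obtain ⟨c, hc⟩ := exists_smul hL q.1.hom (by
      rw [show q.1.hom.base = _ from hq, ThetaGrp.transl_one]; rfl)
    haveI := qcoh_theta hL T
    have hc1 : c = 1 := by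
      refine eq_one_of_smul_eq (A := A) (isInvertible_pb f hL) (lift_unique (P f L T) rfl ?_)
      rw [Category.id_comp]
      rw [hc, comp_smul_eq] at hqP
      refine Eq.trans (congrArg (smul _ · ≫ P f L T) ?_) hqP
      show (snd A T).left.appTop c = ((P f L T).base ≫ (snd B T).left).appTop c
      rw [P_base, ← Over.comp_left, whiskerRight_snd]
    rw [hc1, map_one, Groth.Agent.ThetaLib.smul_one] at hc
    have hq1 : q = 1 := Subtype.ext (Iso.ext hc)
    exact (inv_mul_eq_one.1 hq1).symm

end Groth.Agent.S19954
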