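import Groth.Statements.S19956
import Groth.Agent.ThetaLib.Perp
-- import your own Groth.Agent.* helpers here

set_option autoImplicit false
universe u
open CategoryTheory MonoidalCategory CartesianMonoidalCategory MonObj GrpObj AlgebraicGeometry
open ThetaGrp

namespace Groth.Agent.S19956

/-- Let f : X → Y be a surjective homomorphism of abelian varieties over a field k (proper,
geometrically integral, commutative k-group schemes), i : N → X its kernel (a homomorphism forming a
cartesian square with the unit section of Y), M an invertible O_Y-module and L = f^*M. Let G be a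
k-group scheme with a point u ∈ G(L)(G) representing the theta group of L (every point of G(L)(T) is
the base change of u along a unique T → G, multiplicatively), and j : N → G a level subgroup lying
over i: a homomorphism of group schemes and an immersion such that a point of N whose image lies
over the identity translation is trivial, and such that for every T-valued point n of N the base
change of u along j(n) lies over the translation by i(n). Let i_M : K_M → Y be a closed immersion
exhibiting K_M as K(M) (the maximal closed subscheme of Y over which the Mumford bundle of M,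
restricted to Y ×_k K_M, is the inverse image of an invertible module on K_M, with its universal
property). For a k-scheme T, a T-valued point g of G and the T-valued point x of X under it (the
base change of u along g lies over the translation by x): g lies in the centralizer of j(N) — for
every T' → T and every T'-valued point n of N, the restriction of g commutes with j(n) in the group
G(T') — if and only if f(x) factors through i_M. (The source states this for the level subgroup
attached to the descent M; by the source's description of f⁻¹(K(M)) as Ker(f)^⊥ both sides depend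
only on Ker(f), so it is stated for any level structure over i. The identification of G(M) with the
centralizer modulo j(N) is not part of this statement.) -/
theorem result (k : Type u) [Field k]
    (A : Over (Spec (CommRingCat.of k))) [GrpObj A] [IsCommMonObj A] [IsProper A.hom] [GeometricallyIntegral A.hom]
    (B : Over (Spec (CommRingCat.of k))) [GrpObj B] [IsCommMonObj B] [IsProper B.hom] [GeometricallyIntegral B.hom]
    (f : A ⟶ B) [IsMonHom f] (hf : Surjective f.left)
    (N : Over (Spec (CommRingCat.of k))) [GrpObj N] (i : N ⟶ A) [IsMonHom i] (hN : AlgGrp.IsKernel i f)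
    (M : B.left.Modules) (hM : PicF.IsInvertible M)
    (G : Over (Spec (CommRingCat.of k))) [GrpObj G]
    (u : ThetaGrp.thetaPts A ((Scheme.Modules.pullback f.left).obj M) G)
    (hG : ThetaGrp.IsThetaGrpSch A ((Scheme.Modules.pullback f.left).obj M) G u)
    (j : N ⟶ G) [IsMonHom j] (hj : ThetaGrp.IsLevelSubgrp u j)
    (hover : ∀ (T : Over (Spec (CommRingCat.of k))) (n : T ⟶ N)
      (β : ThetaGrp.thetaPts A ((Scheme.Modules.pullback f.left).obj M) T),
      ThetaGrp.IsBaseChange β (n ≫ j) u → ThetaGrp.IsOverPt β (n ≫ i))
    (KM : Over (Spec (CommRingCat.of k))) (iM : KM ⟶ B) (hKM : ThetaGrp.IsKL B M iM)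
    (T : Over (Spec (CommRingCat.of k))) (g : T ⟶ G) (x : T ⟶ A)
    (β : ThetaGrp.thetaPts A ((Scheme.Modules.pullback f.left).obj M) T)
    (hβ : ThetaGrp.IsBaseChange β g u) (hx : ThetaGrp.IsOverPt β x) :
    (∀ (T' : Over (Spec (CommRingCat.of k))) (t : T' ⟶ T) (n : T' ⟶ N),
        (t ≫ g) * (n ≫ j) = (n ≫ j) * (t ≫ g)) ↔
      ∃ y : T ⟶ KM, y ≫ iM = x ≫ f := by
  open Groth.Agent.ThetaLib in
  have key : ∀ (T' : Over (Spec (CommRingCat.of k))) (t : T' ⟶ T) (n : T' ⟶ N),
      ∃ β' c : ThetaGrp.thetaPts A ((Scheme.Modules.pullback f.left).obj M) T',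
        ThetaGrp.IsOverPt β' (t ≫ x) ∧ ThetaGrp.IsOverPt c (n ≫ i) ∧
          ThetaGrp.IsBaseChange β' (t ≫ g) u ∧ ThetaGrp.IsBaseChange c (n ≫ j) u := fun T' t n => by
    obtain ⟨β', h1, h2⟩ := exists_bc_pt t hx
    obtain ⟨c, hc, -⟩ := hG.exists_bc T' (n ≫ j)
    refine ⟨β', c, h1, hover T' n c hc, ?_, hc⟩
    show β'.1.hom ≫ _ = _
    rw [bcLift_comp, ← Category.assoc, h2, Category.assoc, hβ, ← Category.assoc]
  constructor
  · intro h
    have hperp : ThetaGrp.IsPerpPt ((Scheme.Modules.pullback f.left).obj M) i x := fun T' t n β₁ β₂ h₁ h₂ => by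
      obtain ⟨β', c, hb', hc, eb, ec⟩ := key T' t n
      have hbc : β' * c = c * β' := by
        refine (hG.exists_bc T' ((t ≫ g) * (n ≫ j))).unique (hG.mul T' _ _ _ _ eb ec) ?_
        rw [h T' t n]
        exact hG.mul T' _ _ _ _ ec eb
      have hL := Groth.Agent.ThetaLib.isInvertible_pb f hM
      exact (comm_of_over hL hc h₂ (comm_of_over hL hb' h₁ hbc).symm).symm
    haveI := hf
    haveI : IsIntegral B.left := GeometricallyIntegral.isIntegral_of_subsingleton B.hom
    haveI := Groth.Agent.AVLib.isProper_hom f
    haveI : Flat f.left := Groth.Agent.AVLib.flat_of_surjective f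
    refine (factor_iff hM hKM (x ≫ f)).2 fun t => ?_
    obtain ⟨β', hβ', -⟩ := exists_bc_pt (subι T ⊤) hx
    obtain ⟨d, hd⟩ := exists_push f hM hN hβ' (isPerpPt_restrict (subι T ⊤) hperp)
    rw [Category.assoc] at hd
    exact ⟨⊤, trivial, d, hd⟩
  · intro h T' t n
    obtain ⟨β', c, hb', hc, eb, ec⟩ := key T' t n
    have hbc := isPerpPt_of_factor f hM hN hKM h T' t n β' c hb' hc
    have h1 := hG.mul T' _ _ _ _ ec eb
    rw [← hbc] at h1
    exact (hG.univ T' (β' * c)).unique (hG.mul T' _ _ _ _ eb ec) h1

end Groth.Agent.S19956
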