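import Groth.Statements.S19957
import Groth.Agent.QSplitLib.Sets

set_option autoImplicit false
universe u
open CategoryTheory CategoryTheory.Limits AlgebraicGeometry
open Grpd

namespace Groth.Agent.S19957

/-- Let (U, R, s, t, c) be a groupoid scheme over S with U affine and s, t separated, flat and locally
of finite presentation, and let u ∈ U be a point such that the set of points of the stabilizer G → U
(the base change of j = (t, s) : R → U ×_S U along the diagonal of U) lying over u is finite and s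
is quasi-finite at the image in R of each of these points. Then there exist an etale morphism U' → U
with U' affine and a point u' of U' lying over u with trivial residue field extension κ(u) = κ(u'),
such that the restriction R' of R to U' (the groupoid scheme on U' whose arrows form the base change
of j along U' ×_S U' → U ×_S U) is split over u': there is an open subscheme P ⊂ R' which is a
subgroupoid (the identity of U', the inverse of P and the composition of composable pairs of P land
in P), with s'|_P and t'|_P finite, and containing the image in R' of every point of the stabilizer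
G' → U' of R' lying over u'. -/
theorem result (S : Scheme.{u}) (G : Grpd.GroupoidScheme S) [IsAffine G.U]
    [IsSeparated G.s] [IsSeparated G.t] [Flat G.s] [Flat G.t]
    [LocallyOfFinitePresentation G.s] [LocallyOfFinitePresentation G.t]
    (u : ↥G.U) (hfin : Set.Finite {g : ↥G.stabilizer | G.stabilizerToU g = u})
    (hqf : ∀ g : ↥G.stabilizer, G.stabilizerToU g = u →
      Dual3.QuasiFiniteAt G.s ((pullback.fst G.j G.diag : G.stabilizer ⟶ G.R) g)) :
    ∃ (G' : Grpd.GroupoidScheme S) (φ : Grpd.GroupoidScheme.Hom G' G) (u' : ↥G'.U),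
      IsAffine G'.U ∧ Etale φ.fU ∧ φ.fU u' = u ∧ IsIso (φ.fU.residueFieldMap u') ∧
      IsPullback φ.fR G'.j G.j
        (pullback.map G'.pU G'.pU G.pU G.pU φ.fU φ.fU (𝟙 S)
          ((Category.comp_id _).trans φ.fU_over.symm) ((Category.comp_id _).trans φ.fU_over.symm)) ∧
      ∃ (P : Scheme.{u}) (ιP : P ⟶ G'.R), IsOpenImmersion ιP ∧
        (∃ eP : G'.U ⟶ P, eP ≫ ιP = G'.e) ∧ (∃ iP : P ⟶ P, iP ≫ ιP = ιP ≫ G'.i) ∧
        (∃ cP : pullback (ιP ≫ G'.s) (ιP ≫ G'.t) ⟶ P,
          cP ≫ ιP = pullback.map (ιP ≫ G'.s) (ιP ≫ G'.t) G'.s G'.t ιP ιP (𝟙 G'.U)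
            (Category.comp_id _) (Category.comp_id _) ≫ G'.c) ∧
        IsFinite (ιP ≫ G'.s) ∧ IsFinite (ιP ≫ G'.t) ∧
        ∀ g' : ↥G'.stabilizer, G'.stabilizerToU g' = u' →
          ∃ p : ↥P, ιP p = (pullback.fst G'.j G'.diag : G'.stabilizer ⟶ G'.R) g' := by
  obtain ⟨G', φ, u', h₁, h₂, h₃, h₄, h₅, P, ιP, h₆, h₇, h₈, h₉, h₁₀, h₁₁, h₁₂⟩ :=
    QSplitLib.exists_split (QSplitLib.isSplitSet_stab G u hfin
      (fun g hg => QSplitLib.quasiFiniteAt_of_dual3 _ _ (hqf g hg)))
  refine ⟨G', φ, u', h₁, h₂, h₃, h₄, h₅, P, ιP, h₆, h₇, h₈, h₉, h₁₀, h₁₁, fun g' hg => ?_⟩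
  have hc : (pullback.fst G'.j G'.diag) ≫ G'.j = G'.stabilizerToU ≫ G'.diag := pullback.condition
  have hj : ∀ H : GroupoidScheme S, H.j ≫ pullback.fst H.pU H.pU = H.t ∧ H.j ≫ pullback.snd H.pU H.pU = H.s :=
    fun H => ⟨pullback.lift_fst _ _ _, pullback.lift_snd _ _ _⟩
  have hd : ∀ H : GroupoidScheme S, H.diag ≫ pullback.fst H.pU H.pU = 𝟙 _ ∧ H.diag ≫ pullback.snd H.pU H.pU = 𝟙 _ :=
    fun H => ⟨pullback.lift_fst _ _ _, pullback.lift_snd _ _ _⟩
  have ht : (pullback.fst G'.j G'.diag) ≫ G'.t = G'.stabilizerToU := by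
    have h := congrArg (· ≫ pullback.fst G'.pU G'.pU) hc
    simp only [Category.assoc, (hj G').1] at h
    exact h.trans ((Category.assoc _ _ _).trans ((congrArg (G'.stabilizerToU ≫ ·) (hd G').1).trans (Category.comp_id _)))
  have hs : (pullback.fst G'.j G'.diag) ≫ G'.s = G'.stabilizerToU := by
    have h := congrArg (· ≫ pullback.snd G'.pU G'.pU) hc
    simp only [Category.assoc, (hj G').2] at h
    exact h.trans ((Category.assoc _ _ _).trans ((congrArg (G'.stabilizerToU ≫ ·) (hd G').2).trans (Category.comp_id _)))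
  refine h₁₂ _ ?_ ?_ ?_
  · rw [← Scheme.Hom.comp_apply, hs]; exact hg
  · rw [← Scheme.Hom.comp_apply, ht]; exact hg
  · have e : (pullback.fst G'.j G'.diag) ≫ φ.fR ≫ G.j = G'.stabilizerToU ≫ φ.fU ≫ G.diag := by
      apply pullback.hom_ext
      · simp only [Category.assoc, (hj G).1, (hd G).1, Category.comp_id]
        rw [φ.comm_t, ← Category.assoc, ht]
        erw [Category.assoc, Category.assoc, (hd G).1, Category.comp_id]
      · simp only [Category.assoc, (hj G).2, (hd G).2, Category.comp_id]
        rw [φ.comm_s, ← Category.assoc, hs]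
        erw [Category.assoc, Category.assoc, (hd G).2, Category.comp_id]
    show G.j (φ.fR _) = G.diag u
    rw [← h₃, ← hg]
    exact congrArg (fun k : G'.stabilizer ⟶ pullback G.pU G.pU => k g') e

end Groth.Agent.S19957
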