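import Groth.Statements.S19962
import Groth.Agent.BELib.Main
import Groth.Agent.CAlgBasics.McCoy

set_option autoImplicit false
universe u
open CAlg

namespace Groth.Agent.S19962

/-- Let R be a Noetherian commutative ring, not assumed local, and 0 → R^(n_e) → ⋯ → R^(n_1) → R^(n_0) a
complex of finite free modules with 1 ≤ e, the map R^(n_(i+1)) → R^(n_i) being given by the matrix A
i. Suppose that for every 1 ≤ j ≤ e the matrix of R^(n_j) → R^(n_(j-1)) has rank n_j - n_(j+1) + ⋯ ±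
n_e, the rank of a matrix being the largest size of a nonzero minor, and that its ideal of minors of
that size is either the unit ideal or contains an R-regular sequence of length j. Then the complex
is exact at R^(n_e), …, R^(n_1). -/
theorem result {R : Type u} [CommRing R] [IsNoetherianRing R]
    (e : ℕ) (he : 1 ≤ e) (n : ℕ → ℕ) (A : (i : ℕ) → Matrix (Fin (n i)) (Fin (n (i + 1))) R)
    (hA : ∀ i, i + 2 ≤ e → A i * A (i + 1) = 0)
    (hrank : ∀ j, 1 ≤ j → j ≤ e →
      (CAlgX.matrixRank (A (j - 1)) : ℤ) = ∑ t ∈ Finset.Icc j e, (-1 : ℤ) ^ (t - j) * (n t : ℤ))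
    (hdet : ∀ j, 1 ≤ j → j ≤ e →
      CAlgX.detIdeal (A (j - 1)) = ⊤ ∨
        ∃ rs : List R, rs.length = j ∧ (∀ r ∈ rs, r ∈ CAlgX.detIdeal (A (j - 1))) ∧
          RingTheory.Sequence.IsRegular R rs) :
    LinearMap.ker (A (e - 1)).mulVecLin = ⊥ ∧
      ∀ i, i + 2 ≤ e → LinearMap.ker (A i).mulVecLin = LinearMap.range (A (i + 1)).mulVecLin := by
  classical
  have hz : ∀ {a b : ℕ}, CAlgX.matrixRank (0 : Matrix (Fin a) (Fin b) R) = 0 := by
    intro a b
    by_contra hne
    obtain ⟨k, hk⟩ : ∃ k, CAlgX.matrixRank (0 : Matrix (Fin a) (Fin b) R) = k + 1 :=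
      ⟨_, (Nat.succ_pred_eq_of_ne_zero hne).symm⟩
    have hmem : CAlgX.matrixRank (0 : Matrix (Fin a) (Fin b) R) ∈
        {r : ℕ | CAlgX.minorIdeal (0 : Matrix (Fin a) (Fin b) R) r ≠ ⊥} := by
      refine Nat.sSup_mem (Set.nonempty_iff_ne_empty.2 fun h => ?_) ⟨b, fun r hr => ?_⟩
      · rw [CAlgX.matrixRank, h, csSup_empty] at hk
        exact absurd hk (Nat.succ_ne_zero k).symm
      · exact not_lt.1 fun hlt => hr (BELib.minorIdeal_eq_bot_of_min_lt _ hlt)
    rw [hk] at hmem
    refine hmem ?_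
    rw [CAlgX.minorIdeal, Ideal.span_eq_bot]
    rintro _ ⟨⟨f, g⟩, rfl⟩
    simp
  let M : (i : ℕ) → Matrix (Fin (n i)) (Fin (n (i + 1))) R := fun i => if i < e then A i else 0
  have hMA : ∀ i, i < e → M i = A i := fun i hi => if_pos hi
  have hM0 : ∀ i, e ≤ i → M i = 0 := fun i hi => if_neg (not_lt.2 hi)
  let r : ℕ → ℕ := fun i => CAlgX.matrixRank (M i)
  let S : ℕ → ℤ := fun j => ∑ t ∈ Finset.Icc j e, (-1 : ℤ) ^ (t - j) * (n t : ℤ)
  have hS : ∀ i, i < e → S (i + 1) + S (i + 1 + 1) = n (i + 1) := by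
    intro i hi
    show (∑ t ∈ Finset.Icc (i + 1) e, (-1 : ℤ) ^ (t - (i + 1)) * (n t : ℤ)) +
      ∑ t ∈ Finset.Icc (i + 1 + 1) e, (-1 : ℤ) ^ (t - (i + 1 + 1)) * (n t : ℤ) = n (i + 1)
    rw [← Finset.insert_Icc_add_one_left_eq_Icc (Nat.succ_le_of_lt hi), Finset.sum_insert (by simp),
      add_assoc, ← Finset.sum_add_distrib, Finset.sum_eq_zero fun t ht => ?_]
    · simp
    · obtain ⟨h1, -⟩ := Finset.mem_Icc.1 ht
      rw [show t - (i + 1) = t - (i + 1 + 1) + 1 from by omega, pow_succ]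
      ring
  have hrS : ∀ i, i ≤ e → (r i : ℤ) = S (i + 1) := by
    intro i hi
    rcases hi.lt_or_eq with hlt | rfl
    · rw [show r i = CAlgX.matrixRank (A i) from congrArg CAlgX.matrixRank (hMA i hlt)]
      exact hrank (i + 1) (by omega) hlt
    · rw [show r i = 0 from (congrArg CAlgX.matrixRank (hM0 i le_rfl)).trans hz]
      simp [S]
  have key := BELib.exact_global e n M
    (fun i hi => by
      rcases (Nat.succ_le_of_lt hi).lt_or_eq with hlt | heq
      · rw [hMA i hi, hMA (i + 1) hlt, hA i hlt]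
      · rw [hM0 (i + 1) heq.ge, Matrix.mul_zero])
    r
    (fun i hi => by
      have h1 := hrS i hi.le
      have h2 := hrS (i + 1) hi
      have h3 := hS i hi
      exact_mod_cast (by rw [h1, h2, h3] : (r i : ℤ) + r (i + 1) = n (i + 1)))
    (fun i _ => BELib.minorIdeal_succ_matrixRank (M i))
    (fun i hi => by
      rcases hi.lt_or_eq with hlt | rfl
      · have h1 : CAlgX.minorIdeal (M i) (r i) = CAlgX.detIdeal (A i) := by
          show CAlgX.detIdeal (M i) = _
          rw [hMA i hlt]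
        rw [h1]
        rcases hdet (i + 1) (by omega) hlt with h | ⟨rs, h2, h3, h4⟩
        · exact Or.inl h
        · exact Or.inr ⟨hlt, rs, h2, h3, h4.toIsWeaklyRegular⟩
      · refine Or.inl ?_
        rw [show r i = 0 from (congrArg CAlgX.matrixRank (hM0 i le_rfl)).trans hz]
        exact CAlgBasics.minorIdeal_zero_eq_top _)
  refine ⟨?_, fun i hi => ?_⟩
  · obtain ⟨k, rfl⟩ : ∃ k, e = k + 1 := ⟨e - 1, by omega⟩
    have h := key k (Nat.lt_succ_self k)
    rw [hMA k (Nat.lt_succ_self k), hM0 (k + 1) le_rfl] at h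
    simpa using h
  · have h := key i (by omega)
    rwa [hMA i (by omega), hMA (i + 1) (by omega)] at h

end Groth.Agent.S19962
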