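import Groth.Statements.S19963
import Groth.Agent.MonicDescLib.Basic

set_option autoImplicit false
open Polynomial TensorProduct
universe u
open CAlg

namespace Groth.Agent.S19963

/-- Let A be a commutative ring and let A(t) denote the localization of the polynomial ring A[t] at the
multiplicative subset of monic polynomials, viewed as an A-algebra. If P and P' are finitely
generated projective A-modules such that A(t) ⊗_A P and A(t) ⊗_A P' are isomorphic A(t)-modules,
then P and P' are isomorphic A-modules: non-isomorphic finite projective modules stay non-isomorphic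
over A(t). (The published statement also covers base change to the ring A((t)) of Laurent power
series, and modules over A(t) itself; only the A(t) assertion for modules over A is stated.) -/
theorem result
    (A : Type u) [CommRing A] (M : Submonoid A[X]) (hM : ∀ f : A[X], f ∈ M ↔ f.Monic)
    (At : Type u) [CommRing At] [Algebra A[X] At] [IsLocalization M At]
    [Algebra A At] [IsScalarTower A A[X] At]
    (P P' : Type u) [AddCommGroup P] [Module A P] [Module.Finite A P] [Module.Projective A P]
    [AddCommGroup P'] [Module A P'] [Module.Finite A P'] [Module.Projective A P']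
    (h : Nonempty ((At ⊗[A] P) ≃ₗ[At] (At ⊗[A] P'))) :
    Nonempty (P ≃ₗ[A] P') := by
  classical
  obtain ⟨f⟩ := h
  obtain ⟨n, x, φ, hx⟩ := HorrocksLib.exists_dualBasis A P
  obtain ⟨m, y, ψ, hy⟩ := HorrocksLib.exists_dualBasis A P'
  have hS := MonicDescLib.mequiv_of_baseChange x φ hx y ψ hy f
  have hmap : ∀ {p q : Type} (E : Matrix p q A), (E.map Polynomial.C).map (algebraMap A[X] At) = E.map (algebraMap A At) :=
    fun E => by
      ext i j
      simp [IsScalarTower.algebraMap_apply A A[X] At, Polynomial.algebraMap_eq]
  refine MonicDescLib.linearEquiv_of_mequiv x φ hx y ψ hy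
    (MonicDescLib.equiv_of_localization M hM At _ _ ?_ ?_ (by rw [hmap, hmap]; exact hS))
  · ext1 i j
    simp only [Matrix.mul_apply, Matrix.of_apply]
    conv_rhs => rw [← hx (x j), map_sum]
    exact Finset.sum_congr rfl fun l _ => by rw [map_smul, smul_eq_mul, mul_comm]
  · ext1 i j
    simp only [Matrix.mul_apply, Matrix.of_apply]
    conv_rhs => rw [← hy (y j), map_sum]
    exact Finset.sum_congr rfl fun l _ => by rw [map_smul, smul_eq_mul, mul_comm]

end Groth.Agent.S19963
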