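import Groth.Statements.S19967
import Mathlib

set_option autoImplicit false
set_option backward.isDefEq.respectTransparency false
set_option maxHeartbeats 800000
universe u
open CategoryTheory CategoryTheory.Limits AlgebraicGeometry
open FlatMor

namespace Groth.Agent.S19967

/-- Sections over an affine open of a flat scheme over an integral scheme are detected on the generic fibre. -/
theorem eq_zero_of_appLE {P C Q T T' : Scheme.{u}} [IsIntegral C] (pC : P ⟶ C) [Flat pC]
    {W : C.Opens} (hW : IsAffineOpen W) {V : P.Opens} (hV : IsAffineOpen V) (hle : V ≤ pC ⁻¹ᵁ W) [Nonempty W]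
    (pTC : C ⟶ T') (k : Spec C.functionField ⟶ T) (pT : P ⟶ T') (r : T ⟶ T') (hk : C.fromSpecStalk (genericPoint C) ≫ pTC = k ≫ r)
    (hp : pT = pC ≫ pTC)
    (q : Q ⟶ P) (hQ : ∀ {Z : Scheme.{u}} (a : Z ⟶ P) (b : Z ⟶ T), a ≫ pT = b ≫ r → ∃ u : Z ⟶ Q, u ≫ q = a)
    (b : Γ(P, V)) (hb : q.app V b = 0) : b = 0 := by
  let B := Γ(P, V)
  let ρ₀ : Γ(C, W) ⟶ B := pC.appLE W V hle
  algebraize [ρ₀.hom]
  haveI : Module.Flat Γ(C, W) B := Flat.flat_appLE pC hW hV hle
  let M := Algebra.algebraMapSubmonoid B (nonZeroDivisors Γ(C, W))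
  let L := CommRingCat.of (Localization M)
  let ρ : B ⟶ L := CommRingCat.ofHom (algebraMap B (Localization M))
  have hM : M ≤ nonZeroDivisors B := by
    rintro _ ⟨a, ha, rfl⟩
    rw [mem_nonZeroDivisors_iff_right]
    intro z hz
    have := Module.Flat.isSMulRegular_of_isRegular (M := B) (IsRegular.of_ne_zero (nonZeroDivisors.ne_zero ha))
    exact this (show a • z = a • 0 by rw [smul_zero, Algebra.smul_def, mul_comm]; exact hz)
  haveI := functionField_isFractionRing_of_isAffineOpen C W hW
  have hu : ∀ a : nonZeroDivisors Γ(C, W), IsUnit ((ρ₀ ≫ ρ).hom a) := fun a =>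
    IsLocalization.map_units (Localization M) (⟨_, ⟨a.1, a.2, rfl⟩⟩ : M)
  let l : C.functionField ⟶ L := CommRingCat.ofHom (IsLocalization.lift (M := nonZeroDivisors Γ(C, W)) (S := C.functionField) hu)
  have hl : C.presheaf.germ W (genericPoint C) (((genericPoint_spec C).mem_open_set_iff W.2).2
      (by simpa using ⟨_, (Classical.arbitrary W).2⟩)) ≫ l = ρ₀ ≫ ρ :=
    CommRingCat.hom_ext (IsLocalization.lift_comp (M := nonZeroDivisors Γ(C, W)) (S := C.functionField) hu)
  have hξ : genericPoint C ∈ W := ((genericPoint_spec C).mem_open_set_iff W.2).2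
      (by simpa using ⟨_, (Classical.arbitrary W).2⟩)
  have h1 : (Spec.map ρ ≫ hV.fromSpec) ≫ pC = Spec.map l ≫ C.fromSpecStalk (genericPoint C) := by
    rw [← IsAffineOpen.fromSpecStalk_eq_fromSpecStalk hW hξ]
    show _ = Spec.map l ≫ Spec.map _ ≫ hW.fromSpec
    rw [← Spec.map_comp_assoc, hl, Spec.map_comp_assoc, Category.assoc]
    rw [show Spec.map ρ₀ ≫ hW.fromSpec = hV.fromSpec ≫ pC from IsAffineOpen.SpecMap_appLE_fromSpec pC hW hV hle]
  obtain ⟨u, hu'⟩ := hQ (Spec.map ρ ≫ hV.fromSpec) (Spec.map l ≫ k) (by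
    rw [hp, ← Category.assoc, h1, Category.assoc, hk, Category.assoc])
  have h2 : (Spec.map ρ ≫ hV.fromSpec).app V b = 0 := by
    rw [Scheme.Hom.congr_app hu'.symm V, Scheme.Hom.comp_app]
    show _ = (0 : Γ(Spec L, _))
    simp only [CommRingCat.comp_apply, hb, map_zero]
  rw [Scheme.Hom.comp_app, IsAffineOpen.fromSpec_app_self, Category.assoc, CommRingCat.comp_apply,
    CommRingCat.comp_apply] at h2
  have h3 : (Spec.map ρ).appTop ((Scheme.ΓSpecIso B).inv b) = 0 := by
    have e : hV.fromSpec ⁻¹ᵁ V = ⊤ := hV.fromSpec_preimage_self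
    apply (ConcreteCategory.bijective_of_isIso ((Spec L).presheaf.map
      (eqToHom (show (Spec.map ρ) ⁻¹ᵁ (hV.fromSpec ⁻¹ᵁ V) = ⊤ by rw [e]; rfl)).op)).1
    rw [map_zero]
    refine Eq.trans ?_ h2
    rw [← CommRingCat.comp_apply, ← CommRingCat.comp_apply]
    exact (ConcreteCategory.congr_hom ((Spec.map ρ).naturality (eqToHom e).op) _).symm
  have h4 : ρ b = 0 := by
    have h5 := congrArg (Scheme.ΓSpecIso L).hom h3
    rw [map_zero] at h5
    have h6 := ConcreteCategory.congr_hom (Scheme.ΓSpecIso_naturality ρ) ((Scheme.ΓSpecIso B).inv b)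
    refine Eq.trans ?_ (h6.symm.trans h5)
    show ρ b = ρ ((Scheme.ΓSpecIso B).hom ((Scheme.ΓSpecIso B).inv b))
    exact congrArg ρ (ConcreteCategory.congr_hom (Scheme.ΓSpecIso B).inv_hom_id b).symm
  refine IsLocalization.injective (Localization M) hM ?_
  rw [map_zero]
  exact h4

open CategoryTheory AlgebraicGeometry in
/-- Let f : S' → S be a flat morphism of locally Noetherian schemes, i : C → S and i' : C' → S' closed
immersions with C and C' integral, and g : C' → C with g ≫ i = i' ≫ f. Let φ : C' → C ×_S S' be the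
induced morphism and η ∈ S the image of the generic point of C. If φ becomes an isomorphism after
base change along the canonical morphism Spec O_{S,η} → S (that is, after pulling back to (C ×_S S')
×_S Spec O_{S,η}), then φ is an isomorphism. (In the source S and S' are excellent surfaces over an
algebraically closed field, C and C' regular curves not inside the singular loci, and the
isomorphism over Spec O_{S,η} is part of the definition of a morphism of surface-curve pairs; those
extra hypotheses play no part.) -/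
theorem result
    {S S' C C' : Scheme.{u}} [IsLocallyNoetherian S] [IsLocallyNoetherian S']
    (f : S' ⟶ S) [Flat f] (i : C ⟶ S) [IsClosedImmersion i] [IsIntegral C]
    (i' : C' ⟶ S') [IsClosedImmersion i'] [IsIntegral C']
    (g : C' ⟶ C) (hsq : g ≫ i = i' ≫ f)
    (hgen : IsIso (pullback.snd (pullback.lift g i' hsq)
      (pullback.fst (pullback.fst i f ≫ i) (S.fromSpecStalk (i.base (genericPoint C)))))) :
    IsIso (pullback.lift g i' hsq) := by
  let φ := pullback.lift g i' hsq
  haveI : IsClosedImmersion (φ ≫ pullback.snd i f) := by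
    rw [show φ ≫ pullback.snd i f = i' from pullback.lift_snd _ _ _]; infer_instance
  haveI : IsClosedImmersion φ := IsClosedImmersion.of_comp φ (pullback.snd i f)
  haveI : Flat (pullback.fst i f) := MorphismProperty.pullback_fst _ _ inferInstance
  let q := pullback.fst (pullback.fst i f ≫ i) (S.fromSpecStalk (i.base (genericPoint C)))
  have hU : ∀ x : ↥(pullback i f), ∃ (W : C.Opens) (V : (pullback i f).Opens), IsAffineOpen W ∧ IsAffineOpen V ∧
      V ≤ pullback.fst i f ⁻¹ᵁ W ∧ x ∈ V := by
    intro x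
    obtain ⟨_, ⟨W, hW, rfl⟩, hxW, -⟩ := C.isBasis_affineOpens.exists_subset_of_mem_open
      (Set.mem_univ (pullback.fst i f x)) isOpen_univ
    change C.Opens at W
    obtain ⟨_, ⟨V, hV, rfl⟩, hxV, hle⟩ := (pullback i f).isBasis_affineOpens.exists_subset_of_mem_open
      (show x ∈ pullback.fst i f ⁻¹ᵁ W from hxW) (pullback.fst i f ⁻¹ᵁ W).2
    exact ⟨W, V, hW, hV, hle, hxV⟩
  choose W V hW hV hle hxV using hU
  refine (IsZariskiLocalAtTarget.iff_of_iSup_eq_top (P := MorphismProperty.isomorphisms Scheme)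
    V (TopologicalSpace.Opens.ext (Set.eq_univ_of_forall fun x => TopologicalSpace.Opens.mem_iSup.2 ⟨x, hxV x⟩))).2 fun x => ?_
  haveI : Nonempty (W x) := ⟨⟨pullback.fst i f x, hle x (hxV x)⟩⟩
  haveI : IsAffine (V x).toScheme := hV x
  haveI : IsAffine (φ ⁻¹ᵁ V x).toScheme := (hV x).preimage φ
  show IsIso (φ ∣_ V x)
  haveI : IsIso (φ.app (V x)) := by
    refine (ConcreteCategory.isIso_iff_bijective _).2 ⟨(injective_iff_map_eq_zero (φ.app (V x)).hom).2 fun b hb => ?_, ?_⟩
    · refine eq_zero_of_appLE (pullback.fst i f) (hW x) (hV x) (hle x) i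
        (Spec.map (i.stalkMap (genericPoint C))) _ (S.fromSpecStalk (i.base (genericPoint C)))
        (Scheme.SpecMap_stalkMap_fromSpecStalk i).symm rfl q
        (fun a c h => ⟨pullback.lift a c h, pullback.lift_fst _ _ _⟩) b ?_
      haveI := hgen
      apply (ConcreteCategory.bijective_of_isIso ((pullback.snd φ q).app (q ⁻¹ᵁ V x))).1
      rw [map_zero, ← CommRingCat.comp_apply, ← Scheme.Hom.comp_app,
        Scheme.Hom.congr_app (pullback.condition (f := φ) (g := q)).symm (V x), CommRingCat.comp_apply,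
        Scheme.Hom.comp_app, CommRingCat.comp_apply]
      have hb' : φ.app (V x) b = 0 := hb
      rw [hb', map_zero, map_zero]
    · exact φ.app_surjective (V x) (hV x)
  haveI : IsIso (φ.app ((V x).ι ''ᵁ ⊤)) := by rw [Scheme.Opens.ι_image_top]; infer_instance
  haveI : IsIso (φ ∣_ V x).appTop := by rw [morphismRestrict_appTop]; infer_instance
  exact (HasAffineProperty.iff_of_isAffine (P := MorphismProperty.isomorphisms Scheme)).2 ⟨inferInstance, ‹_›⟩

end Groth.Agent.S19967
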