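import Groth.Statements.S19968
import Groth.Agent.AmpleLib.GenLocus

set_option autoImplicit false
universe u
open CategoryTheory AlgebraicGeometry Opposite
open LinSer

namespace Groth.Agent.S19968

/-- Rational points impose at most one condition each on a complete linear system. Let k be a field, X a
scheme over k, L an invertible O_X-module, and p_1, …, p_n morphisms Spec k → X over k (k-rational
points). Suppose there are n + 1 global sections of L, given as morphisms t_0, …, t_n : O_X → L,
whose values in Γ(X, L) are linearly independent over k. Then there is a nonzero morphism s : O_X →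
L such that no p_i lands in the open X_s where s generates L; that is, s vanishes at every p_i and
the p_i lie on a common member of the complete linear system of L. (The source has X an irreducible
projective variety over the complex numbers, L base-point-free and the points closed, and phrases
this as surjectivity of the incidence correspondence onto X^n for n at most the dimension of the
linear system; only rationality of the points and the dimension count are used, and
base-point-freeness plays no part in this item.) -/
theorem result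
    (k : Type u) [Field k] (X : Scheme.{u}) [X.Over (Spec (CommRingCat.of k))]
    (L : X.Modules) (hL : PicF.IsInvertible L)
    (n : ℕ) (p : Fin n → (Spec (CommRingCat.of k) ⟶ X))
    (hp : ∀ i, p i ≫ (X ↘ Spec (CommRingCat.of k)) = 𝟙 _)
    (t : Fin (n + 1) → (Coh.structureModule X ⟶ L))
    (ht : LinSer.LinIndep k X L (fun j => (L.unitHomEquiv (t j)).val (op ⊤))) :
    ∃ s : Coh.structureModule X ⟶ L, s ≠ 0 ∧
      ∀ i, (p i) (IsLocalRing.closedPoint k) ∉ CohB1.genLocus L s := by
  classical
  let f := X ↘ Spec (CommRingCat.of k)
  let x : Fin n → X := fun i => (p i) (IsLocalRing.closedPoint k)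
  let φ : ∀ i, X.presheaf.stalk (x i) →+* k := fun i =>
    (Scheme.stalkClosedPointTo (R := CommRingCat.of k) (p i)).hom
  have hloc : ∀ i, IsLocalHom (φ i) := fun i =>
    Scheme.isLocalHom_stalkClosedPointTo (R := CommRingCat.of k) (p i)
  have hφ : ∀ i (c : k), φ i (X.presheaf.germ ⊤ (x i) trivial (Coh.toGlobal f c)) = c := by
    intro i c
    have h1 : f.appTop ≫ (p i).appTop = 𝟙 _ := by
      rw [← Scheme.Hom.comp_appTop, hp i, Scheme.Hom.id_appTop]
    have h2 := congrArg (fun g => g.hom ((Scheme.ΓSpecIso (CommRingCat.of k)).inv.hom c)) h1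
    have h3 : φ i (X.presheaf.germ ⊤ (x i) trivial (Coh.toGlobal f c))
        = (Scheme.ΓSpecIso (CommRingCat.of k)).hom.hom ((p i).appTop.hom (Coh.toGlobal f c)) := by
      have h := ConcreteCategory.congr_hom
        (Scheme.germ_stalkClosedPointTo (R := CommRingCat.of k) (p i) ⊤ trivial) (Coh.toGlobal f c)
      refine h.trans ?_
      simp
    rw [h3, show (p i).appTop.hom (Coh.toGlobal f c)
        = (Scheme.ΓSpecIso (CommRingCat.of k)).inv.hom c from h2]
    exact ConcreteCategory.congr_hom (Scheme.ΓSpecIso (CommRingCat.of k)).inv_hom_id c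
  choose W e hxW he using fun i => ParaFLib.exists_gen_nhd hL (x i)
  have hbij := fun i => (he i).bijective_germ (x i) (hxW i)
  choose a ha using fun (i : Fin n) (j : Fin (n + 1)) =>
    (hbij i).2 (L.presheaf.germ ⊤ (x i) trivial (AmpleLib.sec (t j)))
  let M : (Fin (n + 1) → k) →ₗ[k] (Fin n → k) :=
    LinearMap.pi fun i => ∑ j, (φ i (a i j)) • LinearMap.proj j
  obtain ⟨c, hc, hc0⟩ : ∃ c ∈ LinearMap.ker M, c ≠ 0 := by
    refine Submodule.exists_mem_ne_zero_of_ne_bot fun hbot => ?_
    have := LinearMap.finrank_le_finrank_of_injective (LinearMap.ker_eq_bot.mp hbot)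
    simp at this
  let r : Fin (n + 1) → Γ(X, ⊤) := fun j => Coh.toGlobal f (c j)
  let σ : Γ(L, ⊤) := ∑ j, r j • AmpleLib.sec (t j)
  refine ⟨DCohLib.secHom L σ, fun h0 => hc0 (ht c ?_), fun i hi => ?_⟩
  · have : σ = AmpleLib.sec (0 : Coh.structureModule X ⟶ L) := by
      rw [← h0, AmpleLib.sec_secHom]
    have h0' : σ = 0 := by rw [this]; simp [AmpleLib.sec]
    exact h0'
  · rw [AmpleLib.mem_genLocus_iff hL, AmpleLib.sec_secHom] at hi
    obtain ⟨b, hb⟩ := hi.2 (L.presheaf.germ (W i) (x i) (hxW i) (e i))
    let g := ∑ j, X.presheaf.germ ⊤ (x i) trivial (Coh.toGlobal f (c j)) * a i j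
    have hσ : L.presheaf.germ ⊤ (x i) trivial σ
        = g • L.presheaf.germ (W i) (x i) (hxW i) (e i) := by
      simp only [σ, g, r, map_sum, Finset.sum_smul]
      refine Finset.sum_congr rfl fun j _ => ?_
      rw [ParaFLib.germ_smul', ← ha i j]
      exact (mul_smul _ _ _).symm
    change b • L.presheaf.germ ⊤ (x i) trivial σ = _ at hb
    rw [hσ] at hb
    have h1 : b * g = 1 := (hbij i).1 (by
      show (b * g) • _ = (1 : X.presheaf.stalk (x i)) • _
      rw [one_smul, mul_smul]
      exact hb)
    have h2 : φ i g = 0 := by
      simp only [g, map_sum, map_mul, hφ]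
      have := congrFun (LinearMap.mem_ker.mp hc) i
      simp only [M, LinearMap.pi_apply, LinearMap.sum_apply, LinearMap.smul_apply,
        LinearMap.proj_apply, smul_eq_mul, Pi.zero_apply] at this
      simpa only [mul_comm] using this
    have h3 := congrArg (φ i) h1
    rw [map_mul, h2, mul_zero, map_one] at h3
    exact zero_ne_one h3

end Groth.Agent.S19968
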