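import Groth.Statements.S19969
import Groth.Agent.MonoFibre.MaxClosed
-- import your own Groth.Agent.* helpers here

set_option autoImplicit false
universe u
open CategoryTheory MonoidalCategory CartesianMonoidalCategory AlgebraicGeometry
open CategoryTheory.Limits
open AlgGrp

namespace Groth.Agent.S19969

/-- Let k be a field, X and Y arbitrary k-schemes and a : Y ×_k X → X a k-morphism such that every open
subscheme U of X is stable under a, in the sense that the preimage of U under the projection Y ×_k X
→ X is contained in the preimage of U under a. Consider the subfunctor X^a of X whose T-valued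
points, for a k-scheme T, are the k-morphisms x : T → X with a ∘ (id_Y × x) = x ∘ pr_T as morphisms
Y ×_k T → X. Then X^a is represented by a closed subscheme of X: there is a closed immersion j : Z →
X over k lying in X^a(Z) through which every element of X^a(T) factors. Neither separatedness of X
nor any finiteness condition on X or Y is assumed. -/
theorem result (k : Type u) [Field k]
    (X Y : Over (Spec (CommRingCat.of k))) (a : Y ⊗ X ⟶ X)
    (hstab : ∀ U : X.left.Opens, (CartesianMonoidalCategory.snd Y X).left ⁻¹ᵁ U ≤ a.left ⁻¹ᵁ U) :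
    ∃ (Z : Over (Spec (CommRingCat.of k))) (j : Z ⟶ X), IsClosedImmersion j.left ∧
      (Y ◁ j) ≫ a = CartesianMonoidalCategory.snd Y Z ≫ j ∧
      ∀ (T : Over (Spec (CommRingCat.of k))) (x : T ⟶ X),
        (Y ◁ x) ≫ a = CartesianMonoidalCategory.snd Y T ≫ x → ∃ z : T ⟶ Z, z ≫ j = x := by
  haveI := Groth.Agent.MonoFibre.MaxClosed.isClosedImmersion_equalizer_of_affine_cover (CartesianMonoidalCategory.lift (CartesianMonoidalCategory.snd X Y) (CartesianMonoidalCategory.fst X Y) ≫ a) (CartesianMonoidalCategory.fst X Y) (fun U p hp => by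
    show a.left ((CartesianMonoidalCategory.lift (CartesianMonoidalCategory.snd X Y) (CartesianMonoidalCategory.fst X Y)).left p) ∈ U
    apply hstab U
    show (CartesianMonoidalCategory.lift (CartesianMonoidalCategory.snd X Y) (CartesianMonoidalCategory.fst X Y) ≫ CartesianMonoidalCategory.snd Y X).left p ∈ U
    rw [lift_snd]
    exact hp)
  obtain ⟨Z, j, hj, hZ⟩ := Groth.Agent.MonoFibre.MaxClosed.exists_maxClosed (CartesianMonoidalCategory.lift (CartesianMonoidalCategory.snd X Y) (CartesianMonoidalCategory.fst X Y) ≫ a) (CartesianMonoidalCategory.fst X Y)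
  have e : ∀ {T : Over (Spec (CommRingCat.of k))} (x : T ⟶ X) (y : T ⟶ Y), CartesianMonoidalCategory.lift x y ≫ CartesianMonoidalCategory.lift (CartesianMonoidalCategory.snd X Y) (CartesianMonoidalCategory.fst X Y) = CartesianMonoidalCategory.lift y x := fun x y => by simp
  refine ⟨Z, j, hj, ?_, fun T x hx => (hZ T x).mpr fun T' h y => ?_⟩
  · have h1 := (hZ Z j).mp ⟨𝟙 Z, Category.id_comp j⟩ _ (CartesianMonoidalCategory.snd Y Z) (CartesianMonoidalCategory.fst Y Z)
    rw [← Category.assoc, e, lift_fst] at h1
    rw [← h1]
    congr 1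
  · rw [← Category.assoc, e, lift_fst, show CartesianMonoidalCategory.lift y (h ≫ x) = CartesianMonoidalCategory.lift y h ≫ (Y ◁ x) by simp, Category.assoc, hx, lift_snd_assoc]

end Groth.Agent.S19969
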