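import Groth.Statements.S1997
import Mathlib
-- import your own Groth.Agent.* helpers here

set_option autoImplicit false
universe u
open CategoryTheory
open EtAlg

namespace Groth.Agent.S1997

/-- Let A be a ring all of whose ideals are flat (weak dimension at most one) and A -> B a flat,
injective ring map which is an epimorphism in the category of commutative rings. Then A is
integrally closed in B. -/
theorem result (A B : Type u) [CommRing A] [CommRing B] [Algebra A B]
    (hA : ∀ I : Ideal A, Module.Flat A I) [Module.Flat A B] (hinj : Function.Injective (algebraMap A B))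
    (hepi : Epi (CommRingCat.ofHom (algebraMap A B))) : IsIntegrallyClosedIn A B := by
  haveI := hepi
  have hB : Algebra.IsEpi A B := CommRingCat.epi_iff_epi.1 hepi
  rw [Algebra.isEpi_iff_forall_one_tmul_eq] at hB
  have hflat : ∀ N : Submodule A B, Module.Flat A N := by
    intro N
    rw [Module.Flat.iff_rTensor_injective']
    intro I
    haveI := hA I
    have h1 : Function.Injective (N.subtype.lTensor I) :=
      Module.Flat.lTensor_preserves_injective_linearMap N.subtype Subtype.val_injective
    have h2 : Function.Injective (LinearMap.rTensor B I.subtype) :=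
      Module.Flat.rTensor_preserves_injective_linearMap I.subtype Subtype.val_injective
    have h3 := h2.comp h1
    rw [← LinearMap.coe_comp, LinearMap.rTensor_comp_lTensor, ← LinearMap.lTensor_comp_rTensor, LinearMap.coe_comp] at h3
    exact h3.of_comp
  rw [isIntegrallyClosedIn_iff]
  refine ⟨hinj, fun {b} hb => ?_⟩
  let S := Algebra.adjoin A {b}
  haveI : Module.Finite A S := Module.Finite.iff_fg.2 hb.fg_adjoin_singleton
  haveI : Module.Flat A S := hflat S.toSubmodule
  haveI : Algebra.IsEpi A S := by
    rw [Algebra.isEpi_iff_forall_one_tmul_eq]
    intro a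
    have h1 : Function.Injective (TensorProduct.map S.val.toLinearMap S.val.toLinearMap) := by
      rw [show TensorProduct.map S.val.toLinearMap S.val.toLinearMap =
        S.val.toLinearMap.rTensor B ∘ₗ S.val.toLinearMap.lTensor S from
          (LinearMap.rTensor_comp_lTensor _ _ _).symm, LinearMap.coe_comp]
      exact (Module.Flat.rTensor_preserves_injective_linearMap _ Subtype.val_injective).comp
        (Module.Flat.lTensor_preserves_injective_linearMap _ Subtype.val_injective)
    apply h1
    rw [TensorProduct.map_tmul, TensorProduct.map_tmul]
    show (((1 : S) : B)) ⊗ₜ[A] (a : B) = (a : B) ⊗ₜ[A] ((1 : S) : B)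
    rw [OneMemClass.coe_one]
    exact hB a
  obtain ⟨y, hy⟩ := Algebra.isEpi_iff_surjective_algebraMap_of_finite.1 ‹Algebra.IsEpi A S›
    ⟨b, Algebra.self_mem_adjoin_singleton A b⟩
  exact ⟨y, congrArg Subtype.val hy⟩

end Groth.Agent.S1997
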