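import Groth.Statements.S19974
import Mathlib

set_option autoImplicit false
universe u v w x
open scoped BigOperators
open DefMod

namespace Groth.Agent.S19974




/-- The universal property of a ring of differential operators. -/
lemma exists_algHom {K : Type u} [Field K] {O : Type v} [CommRing O] [Algebra K O] (δ : Derivation K O O)
    {D : Type w} [Ring D] [Algebra K D] (ι : O →ₐ[K] D) (d : D)
    (hd : ∀ f : O, d * ι f = ι f * d + ι (δ f))
    (hbasis : Function.Bijective (fun c : ℕ →₀ O => c.sum (fun i f => ι f * d ^ i)))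
    {B : Type*} [Ring B] [Algebra K B] (φ : O →ₐ[K] B) (V : B) (hV : ∀ f : O, V * φ f = φ f * V + φ (δ f)) :
    ∃ Φ : D →ₐ[K] B, (∀ f, Φ (ι f) = φ f) ∧ Φ d = V := by
  classical
  let L : (ℕ →₀ O) →ₗ[K] D := Finsupp.lsum K fun i =>
    (LinearMap.mulRight K (d ^ i)).comp ι.toLinearMap
  have hL : ∀ c, L c = c.sum (fun i f => ι f * d ^ i) := fun c => rfl
  let e : (ℕ →₀ O) ≃ₗ[K] D := LinearEquiv.ofBijective L hbasis
  let Φ : D →ₗ[K] B := (Finsupp.lsum K fun i =>
    (LinearMap.mulRight K (V ^ i)).comp φ.toLinearMap).comp e.symm.toLinearMap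
  have hΦ : ∀ f i, Φ (ι f * d ^ i) = φ f * V ^ i := fun f i => by
    have h1 : e.symm (ι f * d ^ i) = Finsupp.single i f := by
      rw [LinearEquiv.symm_apply_eq]
      show _ = L _
      simp [L]
    show (Finsupp.lsum K _) (e.symm (ι f * d ^ i)) = _
    rw [h1]
    simp
  have hind : ∀ (P : D → Prop), P 0 → (∀ x y, P x → P y → P (x + y)) → (∀ f i, P (ι f * d ^ i)) → ∀ x, P x := by
    intro P h0 hadd hmon x
    obtain ⟨c, rfl⟩ := hbasis.2 x
    exact Finset.sum_induction _ P hadd h0 fun i _ => hmon _ _
  have hι : ∀ f, Φ (ι f) = φ f := fun f => by simpa using hΦ f 0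
  have hd' : Φ d = V := by simpa using hΦ 1 1
  have hleftι : ∀ g x, Φ (ι g * x) = φ g * Φ x := fun g => hind _ (by simp)
    (fun x y hx hy => by simp only [mul_add, map_add, hx, hy])
    (fun f i => by rw [← mul_assoc, ← map_mul, hΦ, hΦ, map_mul, mul_assoc])
  have hleftd : ∀ x, Φ (d * x) = V * Φ x := hind _ (by simp)
    (fun x y hx hy => by simp only [mul_add, map_add, hx, hy])
    (fun f i => by
      rw [← mul_assoc, hd, add_mul, mul_assoc, ← pow_succ', map_add, hΦ, hΦ, hΦ, ← mul_assoc, hV, add_mul,
        mul_assoc (φ f) V, ← pow_succ'])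
  have hdpow : ∀ i x, Φ (d ^ i * x) = V ^ i * Φ x := by
    intro i
    induction i with
    | zero => intro x; simp
    | succ i ih => intro x; rw [pow_succ, mul_assoc, ih, hleftd, ← mul_assoc, ← pow_succ]
  have hmul : ∀ p x, Φ (p * x) = Φ p * Φ x := fun p => by
    refine hind (fun p => ∀ x, Φ (p * x) = Φ p * Φ x) (by simp)
      (fun p q hp hq x => by simp only [add_mul, map_add, hp x, hq x]) (fun f i x => ?_) p
    rw [mul_assoc, hleftι, hdpow, hΦ, mul_assoc]
  exact ⟨AlgHom.ofLinearMap Φ (by simpa using hι 1) hmul, hι, hd'⟩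


/-- Let K be a field of characteristic 0, O a commutative K-algebra with a K-linear derivation δ, and D
the ring of differential operators O[∂], presented abstractly as a K-algebra D with an algebra map ι
: O → D and an element ∂ of D such that ∂ ι(f) = ι(f) ∂ + ι(δ f) for every f in O and such that
every element of D is in a unique way a finite sum of terms ι(f_i) ∂^i. Let E be a left D-module,
given as a K-vector space with a K-algebra map ρ : D → End_K(E), which is finite free as an
O-module. A K-derivation of D with values in the D-bimodule End_K(E) is a K-linear map s with s(PQ)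
= s(P) ρ(Q) + ρ(P) s(Q); a K-derivation of O with values in End_K(E) is a K-linear map r with r(fg)
= r(f) ρ(ι g) + ρ(ι f) r(g). Then: (a) for every K-derivation s of D into End_K(E), the pair (r, v)
= (s ∘ ι, s(∂)) satisfies the identity [r(f), ρ(∂)] + [ρ(ι f), v] + r(δ f) = 0 for all f in O; (b)
conversely, for every K-derivation r of O into End_K(E) and every v in End_K(E) satisfying that
identity for all f, there is exactly one K-derivation s of D into End_K(E) with s ∘ ι = r and s(∂) =
v. In other words s ↦ (s ∘ ι, s(∂)) maps the K-derivations of D injectively onto the pairs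
satisfying the identity. -/
theorem result
    (K : Type u) [Field K] [CharZero K]
    (O : Type v) [CommRing O] [Algebra K O] (δ : Derivation K O O)
    (D : Type w) [Ring D] [Algebra K D] (ι : O →ₐ[K] D) (d : D)
    (hd : ∀ f : O, d * ι f = ι f * d + ι (δ f))
    (hbasis : Function.Bijective (fun c : ℕ →₀ O => c.sum (fun i f => ι f * d ^ i)))
    (E : Type x) [AddCommGroup E] [Module K E] (ρ : D →ₐ[K] Module.End K E)
    (hE : ∃ (n : ℕ) (b : Fin n → E), Function.Bijective (fun c : Fin n → O => ∑ i, ρ (ι (c i)) (b i))) :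
    (∀ s : D →ₗ[K] Module.End K E, (∀ P Q : D, s (P * Q) = s P * ρ Q + ρ P * s Q) →
      ∀ f : O, (s (ι f) * ρ d - ρ d * s (ι f)) + (ρ (ι f) * s d - s d * ρ (ι f)) + s (ι (δ f)) = 0) ∧
    ∀ (r : O →ₗ[K] Module.End K E) (v : Module.End K E),
      (∀ f g : O, r (f * g) = r f * ρ (ι g) + ρ (ι f) * r g) →
      (∀ f : O, (r f * ρ d - ρ d * r f) + (ρ (ι f) * v - v * ρ (ι f)) + r (δ f) = 0) →
      ∃! s : D →ₗ[K] Module.End K E,
        (∀ P Q : D, s (P * Q) = s P * ρ Q + ρ P * s Q) ∧ s ∘ₗ ι.toLinearMap = r ∧ s d = v := by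
  classical
  refine ⟨fun s hs f => ?_, fun r v hr hrel => ?_⟩
  · have h := hs d (ι f)
    rw [hd, map_add, hs (ι f) d] at h
    have h' := sub_eq_zero.mpr h
    rw [← h']
    abel
  · let φ : O →ₐ[K] TrivSqZeroExt (Module.End K E) (Module.End K E) :=
      AlgHom.ofLinearMap
        { toFun := fun f => TrivSqZeroExt.inl (ρ (ι f)) + TrivSqZeroExt.inr (r f)
          map_add' := fun f g => by
            refine TrivSqZeroExt.ext ?_ ?_ <;> simp
          map_smul' := fun c f => by
            refine TrivSqZeroExt.ext ?_ ?_ <;> simp }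
        (by
          have h1 := hr 1 1
          rw [mul_one, map_one ι, map_one ρ, mul_one, one_mul] at h1
          refine TrivSqZeroExt.ext ?_ ?_
          · simp
          · simpa using (left_eq_add.mp h1))
        (fun f g => by
          refine TrivSqZeroExt.ext ?_ ?_
          · simp
          · simp [TrivSqZeroExt.snd_mul, hr f g, add_comm])
    have hV : ∀ f, (TrivSqZeroExt.inl (ρ d) + TrivSqZeroExt.inr v) * φ f =
        φ f * (TrivSqZeroExt.inl (ρ d) + TrivSqZeroExt.inr v) + φ (δ f) := fun f => by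
      refine TrivSqZeroExt.ext ?_ ?_
      · simp [φ, ← map_mul, ← map_add, hd]
      · have h := hrel f
        simp [φ, TrivSqZeroExt.snd_mul]
        rw [← sub_eq_zero]
        rw [← neg_eq_zero, ← h]
        abel
    obtain ⟨Φ, hΦι, hΦd⟩ := exists_algHom δ ι d hd hbasis φ _ hV
    have hfst : ∀ P, (Φ P).fst = ρ P := by
      intro P
      have hd1 : (Φ d).fst = ρ d := by rw [hΦd]; simp
      have hι1 : ∀ f, (Φ (ι f)).fst = ρ (ι f) := fun f => by rw [hΦι]; simp [φ]
      obtain ⟨c, rfl⟩ := hbasis.2 P
      simp only [Finsupp.sum, map_sum, TrivSqZeroExt.fst_sum]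
      refine Finset.sum_congr rfl fun i _ => ?_
      rw [map_mul, map_mul, map_pow, map_pow, TrivSqZeroExt.fst_mul, TrivSqZeroExt.fst_pow, hd1, hι1]
    refine ⟨{ toFun := fun P => (Φ P).snd, map_add' := fun P Q => by simp, map_smul' := fun c P => by simp },
      ⟨fun P Q => ?_, LinearMap.ext fun f => ?_, ?_⟩, fun s' hs' => ?_⟩
    · show (Φ (P * Q)).snd = (Φ P).snd * ρ Q + ρ P * (Φ Q).snd
      rw [map_mul, TrivSqZeroExt.snd_mul, hfst, hfst, smul_eq_mul, MulOpposite.smul_eq_mul_unop,
        MulOpposite.unop_op, add_comm]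
    · show (Φ (ι f)).snd = r f
      rw [hΦι]; simp [φ]
    · show (Φ d).snd = v
      rw [hΦd]; simp
    · obtain ⟨hs, hsι, hsd⟩ := hs'
      have h1 : s' 1 = 0 := by
        have h := hs 1 1
        rw [mul_one, map_one ρ, mul_one, one_mul] at h
        exact left_eq_add.mp h
      have hpow : ∀ i, s' (d ^ i) = (Φ (d ^ i)).snd := by
        intro i
        induction i with
        | zero => rw [pow_zero, h1, map_one]; simp
        | succ i ih =>
          rw [pow_succ, hs, ih, hsd, map_mul, TrivSqZeroExt.snd_mul, hfst, hfst, hΦd, smul_eq_mul,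
            MulOpposite.smul_eq_mul_unop, MulOpposite.unop_op]
          simp [add_comm]
      refine LinearMap.ext fun P => ?_
      obtain ⟨c, rfl⟩ := hbasis.2 P
      show s' (c.sum _) = (Φ (c.sum _)).snd
      simp only [Finsupp.sum, map_sum, TrivSqZeroExt.snd_sum]
      refine Finset.sum_congr rfl fun i _ => ?_
      rw [hs, hpow, map_mul, TrivSqZeroExt.snd_mul, hfst, hfst, hΦι]
      have : s' (ι (c i)) = r (c i) := LinearMap.congr_fun hsι (c i)
      simp [φ, this, add_comm]

end Groth.Agent.S19974
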