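import Groth.Statements.S19975
import Groth.Agent.EtLocLib.Basic
import Groth.Agent.RpushSumLib.Push

set_option autoImplicit false
set_option backward.isDefEq.respectTransparency false
set_option backward.isDefEq.respectTransparency.types false
universe u
open CategoryTheory Opposite AlgebraicGeometry
open EtCoh

namespace Groth.Agent.S19975

/-- In the case of the small etale topos of a quasi-compact quasi-separated scheme X (X is then a
coherent object of it), let R = S⁻¹ℤ be a localization of the ring of integers at a multiplicative
subset S, and let φ : F ⟶ G be a morphism of abelian etale sheaves on X which exhibits G as F ⊗ R: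
over every affine scheme U etale over X, the map on sections F(U) → G(U) is a localization of
ℤ-modules at S. Then for every i the induced map on etale cohomology Hⁱ(X, F) → Hⁱ(X, G) is a
localization at S, i.e. the natural map Hⁱ(X, F) ⊗ R → Hⁱ(X, F ⊗ R) is invertible. (The source
states this for a coherent object of an arbitrary topos; the tensor product F ⊗ R is rendered
through its characterisation on affine etale schemes over X.) -/
theorem result (X : Scheme.{u})
    [CompactSpace X] [QuasiSeparatedSpace X] (S : Submonoid ℤ)
    (F G : EtCoh.Ab X) (φ : F ⟶ G)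
    (hφ : ∀ U : X.Etale, IsAffine U.left →
      IsLocalizedModule S (φ.hom.app (op U)).hom.toIntLinearMap)
    (i : ℕ) : IsLocalizedModule S ((EtCoh.HF X i).map φ).hom.toIntLinearMap := by
  haveI hG : ∀ s : S, IsIso ((s : ℤ) • 𝟙 G) := fun s => by
    refine RpushSumLib.isIso_of_affine _ fun V hV => ?_
    rw [ConcreteCategory.isIso_iff_bijective]
    have hb := (Module.End.isUnit_iff _).1 ((hφ V hV).map_units s)
    have he : ⇑((RpushSumLib.secF V).map ((s : ℤ) • 𝟙 G)).hom =
        fun y : (RpushSumLib.secF V).obj G => (s : ℤ) • y :=
      funext fun y => EtLocLib.map_zsmul_id (RpushSumLib.secF V) G (s : ℤ) y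
    show Function.Bijective ⇑((RpushSumLib.secF V).map ((s : ℤ) • 𝟙 G)).hom
    rw [he]
    refine (congrArg Function.Bijective (funext fun y => ?_)).mp hb
    exact Module.algebraMap_end_apply ..|>.trans rfl
  let J := EtLocLib.SObj.{u} S
  let D : J ⥤ EtCoh.Ab X := EtLocLib.mulDiag S F
  let hc := Limits.colimit.isColimit D
  haveI : IsIso (hc.desc (EtLocLib.locCocone S φ)) := by
    refine RpushSumLib.isIso_of_affine _ fun V hV => ?_
    haveI := hV
    haveI : CompactSpace ↥V.left := inferInstance
    haveI : QuasiSeparatedSpace ↥V.left := inferInstance
    haveI : Limits.PreservesColimitsOfShape J (RpushSumLib.secF V) := CohColim.preserves_sectionsAb X J V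
    rw [ConcreteCategory.isIso_iff_bijective]
    exact EtLocLib.bijective_of_isLocalizedModule S φ (RpushSumLib.secF V) hc (hφ V hV)
  haveI : Limits.PreservesColimitsOfShape J (EtCoh.HF X i) := CohColim.preserves_HF X i J
  exact EtLocLib.isLocalizedModule_of_isColimit S φ (EtCoh.HF X i) hc

end Groth.Agent.S19975
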