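import Groth.Statements.S6003
import Groth.Agent.SchDesc.TorsorDesc
import Groth.Agent.FpqcDesc.Basic
import Groth.Agent.ASp.Fpqc
-- import your own Groth.Agent.* helpers here

set_option autoImplicit false
universe u
open CategoryTheory AlgebraicGeometry
open SGA1

namespace Groth.Agent.S6003

/-- Let G be an S-group scheme which is flat and quasi-compact over S and let G act on the S-scheme X.
Then X is a principal homogeneous bundle under G (a pseudo-torsor which acquires sections on the
members of some fpqc covering family of S) if and only if X is formally principal homogeneous (a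
pseudo-torsor) and the structure morphism X → S is faithfully flat and quasi-compact. -/
theorem result {S : Scheme.{u}}
    (G X : Over S) [GrpObj G] [Flat G.hom] [QuasiCompact G.hom] (a : AlgGrp.Action G X) :
    NonAbH1.IsTorsorFor Scheme.fpqcPrecoverage a ↔
      (NonAbH1.IsPseudoTorsorSch a ∧ Surjective X.hom ∧ Flat X.hom ∧ QuasiCompact X.hom) := by
  constructor
  · intro h
    obtain ⟨T, σ, hT, hX⟩ := TorsorDesc.exists_trivializing a h
    haveI : SchDesc.IsFpqc T.hom := hT
    haveI : IsZariskiLocalAtTarget (@Flat : MorphismProperty Scheme.{u}) :=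
      HasRingHomProperty.instIsZariskiLocalAtTarget _
    refine ⟨h.1, ⟨fun s => ?_⟩,
      TorsorDesc.prop_of_isFpqc (@Flat : MorphismProperty Scheme.{u}) inferInstance X.hom T.hom (hX _ ‹_›),
      TorsorDesc.prop_of_isFpqc (@QuasiCompact : MorphismProperty Scheme.{u}) FpqcDesc.quasiCompact_descends X.hom T.hom (hX _ ‹_›)⟩
    obtain ⟨t, rfl⟩ := T.hom.surjective s
    exact ⟨σ.left t, by rw [← Scheme.Hom.comp_apply, Over.w σ]⟩
  · rintro ⟨h1, h2, h3, h4⟩
    haveI := h2
    haveI := h3
    haveI := h4
    refine ⟨h1, (PreZeroHypercover.singleton.{0} X.hom).presieve₀,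
      (HTopV.mem_fpqc_iff _).mpr ⟨QuasiCompactCover.singleton X.hom, fun _ => h3⟩, fun S' f hf => ?_⟩
    obtain ⟨_⟩ := hf
    exact ⟨CategoryStruct.id _, Category.id_comp _⟩

end Groth.Agent.S6003
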