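import Groth.Agent.SubgrpStageLib
import Groth.Agent.FPModelLib.Model2
import Groth.Agent.FlatStage.Smooth

/-! Isomorphisms and local sections of base changes are attained at a stage. -/

set_option autoImplicit false
set_option backward.isDefEq.respectTransparency false
set_option backward.isDefEq.respectTransparency.types false
set_option linter.style.haveILetI false

universe u

open CategoryTheory CategoryTheory.Limits MonoidalCategory CartesianMonoidalCategory AlgebraicGeometry

noncomputable section

namespace Groth.Agent.TorsorStage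

variable {I : Type u} [SmallCategory I] [IsCofiltered I] (D : I ⥤ Scheme.{u}) (c : Cone D) (hc : IsLimit c)
  [∀ {i j : I} (a : i ⟶ j), IsAffineHom (D.map a)]

include hc in
theorem exists_iso_stage (i₀ : I) [CompactSpace (D.obj i₀)] [QuasiSeparatedSpace (D.obj i₀)]
    {G₀ H₀ : Over (D.obj i₀)} (u₀ : H₀ ⟶ G₀) [LocallyOfFinitePresentation u₀.left]
    [QuasiCompact G₀.hom] [QuasiSeparated G₀.hom] [QuasiCompact H₀.hom] [QuasiSeparated H₀.hom]
    [IsIso ((Over.pullback (c.π.app i₀)).map u₀).left] :
    ∃ k : Over i₀, ∀ (l : Over i₀) (_ : l ⟶ k), IsIso ((Over.pullback (D.map l.hom)).map u₀) := by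
  haveI : CompactSpace G₀.left := QuasiCompact.compactSpace_of_compactSpace G₀.hom
  haveI : QuasiSeparatedSpace G₀.left := quasiSeparatedSpace_of_quasiSeparated G₀.hom
  haveI : CompactSpace H₀.left := QuasiCompact.compactSpace_of_compactSpace H₀.hom
  haveI : QuasiSeparatedSpace H₀.left := quasiSeparatedSpace_of_quasiSeparated H₀.hom
  have hY := IsPullback.of_hasPullback G₀.hom (c.π.app i₀)
  have hX := SubgrpStage.isPullback_map (c.π.app i₀) u₀
  obtain ⟨k, hk⟩ := AffLim.exists_isOpenImmersion_baseChange D c hc i₀ u₀.left G₀.hom hY hX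
  obtain ⟨l, φ, hl⟩ := AffLim.exists_surjective_baseChange_from D c hc i₀ u₀.left G₀.hom k hY hX
  haveI := AffLim.prop_of_stage_map D i₀ u₀.left G₀.hom @IsOpenImmersion φ hk
  have hiso : MorphismProperty.isomorphisms Scheme.{u} ((AffLim.baseChangeMap D i₀ u₀.left G₀.hom).app l) :=
    isIso_of_isOpenImmersion_of_opensRange_eq_top _ (TopologicalSpace.Opens.ext hl.surj.range_eq)
  refine ⟨l, fun l' a => ?_⟩
  haveI : IsIso ((AffLim.baseChangeMap D i₀ u₀.left G₀.hom).app l') :=
    AffLim.prop_of_stage_map D i₀ u₀.left G₀.hom (MorphismProperty.isomorphisms Scheme.{u}) a hiso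
  haveI : IsIso ((Over.pullback (D.map l'.hom)).map u₀).left := by
    have : ((Over.pullback (D.map l'.hom)).map u₀).left = (pullback.congrHom (Over.w u₀).symm rfl).hom ≫
        (AffLim.baseChangeMap D i₀ u₀.left G₀.hom).app l' := by
      apply pullback.hom_ext <;> simp [AffLim.baseChangeMap, pullback.map]
    rw [this]
    infer_instance
  haveI : IsIso ((Over.forget _).map ((Over.pullback (D.map l'.hom)).map u₀)) := ‹_›
  exact isIso_of_reflects_iso _ (Over.forget _)

/-- `X` has a section over an fppf quasi-compact and quasi-separated cover. -/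
def HasFppfSection {S : Scheme.{u}} (X : Over S) : Prop :=
  ∃ (Z : Scheme.{u}) (v : Z ⟶ S) (w : Z ⟶ X.left), w ≫ X.hom = v ∧
    Flat v ∧ Surjective v ∧ LocallyOfFinitePresentation v ∧ QuasiCompact v ∧ QuasiSeparated v

theorem hasFppfSection_bc {S T : Scheme.{u}} (π : T ⟶ S) {X : Over S} (h : HasFppfSection X) :
    HasFppfSection (Red.bc π X) := by
  obtain ⟨Z, v, w, hw, h1, h2, h3, h4, h5⟩ := h
  exact ⟨pullback v π, pullback.snd v π,
    pullback.lift (pullback.fst v π ≫ w) (pullback.snd v π) (by rw [Category.assoc, hw, pullback.condition]),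
    pullback.lift_snd _ _ _, MorphismProperty.pullback_snd v π h1, MorphismProperty.pullback_snd v π h2,
    MorphismProperty.pullback_snd v π h3, MorphismProperty.pullback_snd v π h4,
    MorphismProperty.pullback_snd v π h5⟩

theorem hasFppfSection_of_iso {S : Scheme.{u}} {X Y : Over S} (e : X ⟶ Y) (h : HasFppfSection X) :
    HasFppfSection Y := by
  obtain ⟨Z, v, w, hw, h'⟩ := h
  exact ⟨Z, v, w ≫ e.left, by rw [Category.assoc, Over.w, hw], h'⟩

variable [∀ i, CompactSpace (D.obj i)] [∀ i, QuasiSeparatedSpace (D.obj i)]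

include hc in
theorem exists_section_stage (j : I) (X : Over (D.obj j)) [LocallyOfFinitePresentation X.hom]
    [QuasiCompact X.hom] [QuasiSeparated X.hom] (h : HasFppfSection (Red.bc (c.π.app j) X)) :
    ∃ k : Over j, ∀ (l : Over j) (_ : l ⟶ k), HasFppfSection (Red.bc (D.map l.hom) X) := by
  obtain ⟨Z, v, w, hw, h1, h2, h3, h4, h5⟩ := h
  haveI := h1; haveI := h2; haveI := h3; haveI := h4; haveI := h5
  haveI : CompactSpace c.pt := Scheme.compactSpace_of_isLimit D c hc
  haveI : QuasiSeparatedSpace c.pt := by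
    haveI : IsAffineHom (c.π.app j) := isAffineHom_π_app D c hc j
    exact quasiSeparatedSpace_of_quasiSeparated (c.π.app j)
  haveI : CompactSpace ↥(((Functor.const I).obj c.pt).obj j) := ‹CompactSpace ↥c.pt›
  haveI : QuasiSeparatedSpace ↥(((Functor.const I).obj c.pt).obj j) := ‹QuasiSeparatedSpace ↥c.pt›
  haveI : CompactSpace Z := QuasiCompact.compactSpace_of_compactSpace v
  haveI : QuasiSeparatedSpace Z := quasiSeparatedSpace_of_quasiSeparated v
  obtain ⟨i, G, g, q, hm⟩ := FPModelLib.Gen.exists_model D c hc v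
  haveI : CompactSpace X.left := QuasiCompact.compactSpace_of_compactSpace X.hom
  haveI : QuasiSeparatedSpace X.left := quasiSeparatedSpace_of_quasiSeparated X.hom
  have hXm : FPModelLib.IsModel (pullback.snd X.hom (c.π.app j)) (c.π.app j) X.hom (pullback.fst _ _) :=
    ⟨inferInstance, inferInstance, inferInstance, IsPullback.of_hasPullback _ _⟩
  let m₀ := IsCofiltered.min i j
  have hG := hm.stage D c (Over.mk (IsCofiltered.minToLeft i j))
  have hX' := hXm.stage D c (Over.mk (IsCofiltered.minToRight i j))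
  let gm : pullback g (D.map (IsCofiltered.minToLeft i j)) ⟶ D.obj m₀ :=
    pullback.snd g (D.map (IsCofiltered.minToLeft i j))
  obtain ⟨k₁, mk, hmk, -⟩ := FPModelLib.Gen.exists_hom_stage D c hc hG hX' w hw
  haveI := hG.compact
  haveI := hG.qs
  haveI := hG.lfp
  haveI : LocallyOfFinitePresentation gm := hG.lfp
  haveI : CompactSpace ↥(pullback g (D.map (IsCofiltered.minToLeft i j))) := hG.compact
  haveI : QuasiSeparatedSpace ↥(pullback g (D.map (IsCofiltered.minToLeft i j))) := hG.qs
  have hY : IsPullback (c.π.app m₀) (𝟙 c.pt) (𝟙 (D.obj m₀)) (c.π.app m₀) := IsPullback.of_id_snd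
  have hX : IsPullback (FlatStage.vMap D c i g hm.isPullback (Over.mk (IsCofiltered.minToLeft i j))) v gm
      (c.π.app m₀) := hG.isPullback
  obtain ⟨k₂, hk₂⟩ := FlatStage.exists_flat D c m₀ gm (𝟙 _) hY hX hc
  obtain ⟨k₃, φ, hk₃⟩ := AffLim.exists_surjective_baseChange_from D c hc m₀ gm (𝟙 _) k₂ hY hX
  have hk₃' := AffLim.prop_of_stage_map D m₀ gm (𝟙 _) @Flat φ hk₂
  obtain ⟨k, a, b, -⟩ := IsCofilteredOrEmpty.cone_objs k₁ k₃
  let K : Over j := Over.mk (k.hom ≫ IsCofiltered.minToRight i j)
  have hfl : ∀ (P : MorphismProperty Scheme.{u}) [P.IsStableUnderBaseChange] [P.RespectsIso],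
      P ((AffLim.baseChangeMap D m₀ gm (𝟙 _)).app k₃) → P (pullback.snd gm (D.map k.hom)) := by
    intro P _ _ hP
    have h1 := AffLim.prop_of_stage_map D m₀ gm (𝟙 _) P b hP
    have h2 : (pullback.congrHom (Category.comp_id gm).symm rfl).hom ≫ ((AffLim.baseChangeMap D m₀ gm (𝟙 _)).app k ≫
        pullback.snd (𝟙 (D.obj m₀)) (D.map k.hom)) = pullback.snd gm (D.map k.hom) := by
      simp [AffLim.baseChangeMap, pullback.map]
    rw [← h2, P.cancel_left_of_respectsIso, P.cancel_right_of_respectsIso]
    exact h1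
  have hmk' : mk ≫ pullback.fst _ _ ≫ pullback.fst _ _ ≫ X.hom =
      pullback.snd gm (D.map k₁.hom) ≫ D.map k₁.hom ≫ D.map (IsCofiltered.minToRight i j) := by
    rw [pullback.condition (f := X.hom), ← Category.assoc (pullback.fst _ (D.map k₁.hom)), pullback.condition,
      Category.assoc]
    exact (reassoc_of% hmk) _
  let t : pullback gm (D.map k.hom) ⟶ X.left :=
    (AffLim.baseChange D m₀ gm).map a ≫ mk ≫ pullback.fst _ _ ≫ pullback.fst _ _
  have ht : t ≫ X.hom = pullback.snd gm (D.map k.hom) ≫ D.map K.hom := by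
    have hs : (AffLim.baseChange D m₀ gm).map a ≫ pullback.snd gm (D.map k₁.hom) =
        pullback.snd gm (D.map k.hom) ≫ D.map a.left := by simp [AffLim.baseChange, pullback.map]
    simp only [t, Category.assoc, hmk']
    rw [← Category.assoc, hs, Category.assoc, ← Functor.map_comp, ← Functor.map_comp]
    congr 2
    simp [K]
  haveI : LocallyOfFinitePresentation (pullback.snd gm (D.map k.hom)) :=
    MorphismProperty.pullback_snd _ _ inferInstance
  haveI : CompactSpace ↥(pullback gm (D.map k.hom)) := (hG.stage D c k).compact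
  haveI : QuasiSeparatedSpace ↥(pullback gm (D.map k.hom)) := (hG.stage D c k).qs
  have hsec : HasFppfSection (Red.bc (D.map K.hom) X) :=
    ⟨pullback gm (D.map k.hom), pullback.snd gm (D.map k.hom),
      pullback.lift t (pullback.snd gm (D.map k.hom)) ht, pullback.lift_snd _ _ _,
      hfl @Flat hk₃', hfl @Surjective hk₃, inferInstance, quasiCompact_of_compactSpace _, inferInstance⟩
  refine ⟨K, fun l z => hasFppfSection_of_iso ?_ (hasFppfSection_bc (D.map z.left) hsec)⟩
  exact Over.homMk (pullback.lift (pullback.fst _ _ ≫ pullback.fst X.hom (D.map K.hom)) (pullback.snd _ _) (by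
    rw [Category.assoc, pullback.condition, ← Category.assoc]
    show (pullback.fst (pullback.snd X.hom (D.map K.hom)) (D.map z.left) ≫ pullback.snd X.hom (D.map K.hom)) ≫
      D.map K.hom = _
    rw [pullback.condition, Category.assoc, ← Functor.map_comp, Over.w z]
    rfl)) (pullback.lift_snd _ _ _)

end Groth.Agent.TorsorStage
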