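import Groth.Statements.S6092
import Groth.Agent.TorsorStageLib

set_option autoImplicit false
set_option backward.isDefEq.respectTransparency false
set_option backward.isDefEq.respectTransparency.types false
universe u
open CategoryTheory CategoryTheory.Limits MonoidalCategory CartesianMonoidalCategory MonObj GrpObj AlgebraicGeometry
open SGA3

namespace Groth.Agent.S6092

/-- Let S be the limit of a cofiltered system (S_i) of quasi-compact quasi-separated schemes with affine
transition morphisms, j an index, G_j an S_j-group scheme and X_j an S_j-scheme with an action of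
G_j, both of finite presentation over S_j. For a base change G, X (with the base-changed action) say
that X is a G-torsor for the fppf topology when (g, x) ↦ (g · x, x) is an isomorphism G × X → X × X
and the structure morphism of X is covering for the fppf topology: some faithfully flat morphism of
finite presentation Z → (base) factors through X. Then X_j ×_{S_j} S is a torsor under G_j ×_{S_j} S
if and only if there is an index i over j such that X_j ×_{S_j} S_i is a torsor under G_j ×_{S_j}
S_i. (The published statement also treats homogeneous spaces, where (g, x) ↦ (g · x, x) is only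
required to be an fppf covering; that case is not stated. The published setting takes all S_i affine
over a fixed quasi-compact quasi-separated S_0.) -/
theorem result {I : Type u} [SmallCategory I] [IsCofiltered I]
    (D : I ⥤ Scheme.{u}) (c : Limits.Cone D) (hc : Limits.IsLimit c)
    [∀ (i i' : I) (f : i ⟶ i'), IsAffineHom (D.map f)] [∀ i, CompactSpace (D.obj i)] [∀ i, QuasiSeparatedSpace (D.obj i)]
    (j : I) (Gj Xj : Over (D.obj j)) [GrpObj Gj] (act : AlgGrp.Action Gj Xj)
    [LocallyOfFinitePresentation Gj.hom] [QuasiCompact Gj.hom] [QuasiSeparated Gj.hom]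
    [LocallyOfFinitePresentation Xj.hom] [QuasiCompact Xj.hom] [QuasiSeparated Xj.hom] :
    (IsIso (lift (Functor.LaxMonoidal.μ (Over.pullback (c.π.app j)) Gj Xj ≫ (Over.pullback (c.π.app j)).map act.act) (snd (Red.bc (c.π.app j) Gj) (Red.bc (c.π.app j) Xj))) ∧
        ∃ (Z : Scheme.{u}) (v : Z ⟶ c.pt) (w : Z ⟶ (Red.bc (c.π.app j) Xj).left), w ≫ (Red.bc (c.π.app j) Xj).hom = v ∧
          Flat v ∧ Surjective v ∧ LocallyOfFinitePresentation v ∧ QuasiCompact v ∧ QuasiSeparated v) ↔
    ∃ (i : I) (f : i ⟶ j), (IsIso (lift (Functor.LaxMonoidal.μ (Over.pullback (D.map f)) Gj Xj ≫ (Over.pullback (D.map f)).map act.act) (snd (Red.bc (D.map f) Gj) (Red.bc (D.map f) Xj))) ∧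
        ∃ (Z : Scheme.{u}) (v : Z ⟶ (D.obj i)) (w : Z ⟶ (Red.bc (D.map f) Xj).left), w ≫ (Red.bc (D.map f) Xj).hom = v ∧
          Flat v ∧ Surjective v ∧ LocallyOfFinitePresentation v ∧ QuasiCompact v ∧ QuasiSeparated v) := by
  let s₀ : Gj ⊗ Xj ⟶ Xj ⊗ Xj := lift act.act (snd Gj Xj)
  haveI : QuasiCompact (Gj ⊗ Xj).hom :=
    (inferInstance : QuasiCompact (Limits.pullback.fst Gj.hom Xj.hom ≫ Gj.hom))
  haveI : QuasiSeparated (Gj ⊗ Xj).hom :=
    (inferInstance : QuasiSeparated (Limits.pullback.fst Gj.hom Xj.hom ≫ Gj.hom))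
  haveI : LocallyOfFinitePresentation (Gj ⊗ Xj).hom :=
    (inferInstance : LocallyOfFinitePresentation (Limits.pullback.fst Gj.hom Xj.hom ≫ Gj.hom))
  haveI : QuasiCompact (Xj ⊗ Xj).hom :=
    (inferInstance : QuasiCompact (Limits.pullback.fst Xj.hom Xj.hom ≫ Xj.hom))
  haveI : QuasiSeparated (Xj ⊗ Xj).hom :=
    (inferInstance : QuasiSeparated (Limits.pullback.fst Xj.hom Xj.hom ≫ Xj.hom))
  haveI : LocallyOfFinitePresentation (Xj ⊗ Xj).hom :=
    (inferInstance : LocallyOfFinitePresentation (Limits.pullback.fst Xj.hom Xj.hom ≫ Xj.hom))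
  haveI : LocallyOfFinitePresentation s₀.left :=
    ASp.locallyOfFinitePresentation_of_comp s₀.left (Xj ⊗ Xj).hom (by rw [Over.w s₀]; infer_instance) inferInstance
  have key : ∀ {T : Scheme.{u}} (π : T ⟶ D.obj j),
      lift (Functor.LaxMonoidal.μ (Over.pullback π) Gj Xj ≫ (Over.pullback π).map act.act) (snd (Red.bc π Gj) (Red.bc π Xj)) =
        Functor.LaxMonoidal.μ (Over.pullback π) Gj Xj ≫ (Over.pullback π).map s₀ ≫
          Functor.OplaxMonoidal.δ (Over.pullback π) Xj Xj := by
    intro T π
    apply CartesianMonoidalCategory.hom_ext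
    · simp [s₀, ← Functor.map_comp]
    · simp [s₀, ← Functor.map_comp]
  have key' : ∀ {T : Scheme.{u}} (π : T ⟶ D.obj j),
      IsIso (lift (Functor.LaxMonoidal.μ (Over.pullback π) Gj Xj ≫ (Over.pullback π).map act.act)
        (snd (Red.bc π Gj) (Red.bc π Xj))) ↔ IsIso ((Over.pullback π).map s₀) := by
    intro T π
    rw [key π, isIso_comp_left_iff, isIso_comp_right_iff]
  constructor
  · rintro ⟨h1, h2⟩
    haveI := (key' _).1 h1
    haveI : IsIso ((Over.pullback (c.π.app j)).map s₀).left :=
      (inferInstance : IsIso ((Over.forget _).map ((Over.pullback (c.π.app j)).map s₀)))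
    obtain ⟨k₁, hk₁⟩ := TorsorStage.exists_iso_stage D c hc j s₀
    obtain ⟨k₂, hk₂⟩ := TorsorStage.exists_section_stage D c hc j Xj h2
    let l := IsCofiltered.min k₁ k₂
    exact ⟨l.left, l.hom, (key' _).2 (hk₁ l (IsCofiltered.minToLeft k₁ k₂)), hk₂ l (IsCofiltered.minToRight k₁ k₂)⟩
  · rintro ⟨i, f, h1, h2⟩
    haveI := (key' _).1 h1
    refine ⟨(key' _).2 ?_, ?_⟩
    · rw [SubgrpStage.map_eq_stage D c f s₀]
      infer_instance
    · exact TorsorStage.hasFppfSection_of_iso ((SubgrpStage.pullbackStageIso D c f).inv.app Xj)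
        (TorsorStage.hasFppfSection_bc (c.π.app i) h2)

end Groth.Agent.S6092
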