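import Groth.Statements.S19977
import Groth.Agent.TorsorLimLib.Basic
import Groth.Agent.S6092
import Groth.Agent.S6003
import Groth.Agent.FPModelLib.Model2
import Groth.Agent.AffLim.DescendBaseChange
import Groth.Agent.ASp.OnePoint
import Mathlib.AlgebraicGeometry.Morphisms.LocalFlatDescent

set_option autoImplicit false
universe u
open CategoryTheory CategoryTheory.Limits MonoidalCategory CartesianMonoidalCategory MonObj AlgebraicGeometry
open NonAbH1

namespace Groth.Agent.S19977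

set_option backward.isDefEq.respectTransparency false
set_option backward.isDefEq.respectTransparency.types false
set_option linter.style.haveILetI false
open CategoryTheory CategoryTheory.Limits MonoidalCategory CartesianMonoidalCategory MonObj GrpObj AlgebraicGeometry

set_option maxHeartbeats 2000000 in

/-- Let k be a field and X a quasi-compact and quasi-separated k-scheme. Let (T_i)_{i ∈ I} be a
cofiltered inverse system of X-schemes that are affine over X, with limit T over X (in the source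
the T_i are torsors over X under affine k-group schemes of finite type, forming a projective system
of torsors; only their being affine over the quasi-compact quasi-separated X enters). Let G be a
finite k-group scheme and V → T a finite T-scheme with an action of G ×_k T for which it is a
G-torsor over T for the fpqc topology. Then there exist an index i, a finite T_i-scheme V_i with an
action of G ×_k T_i making it an fpqc G-torsor over T_i, and a G-equivariant isomorphism of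
T-schemes between V_i ×_{T_i} T and V; the two base changes of G to T are compared through the
canonical isomorphism (G ×_k T_i) ×_{T_i} T ≅ G ×_k T. (The further assertions — V_i Nori-reduced
when V is, descent of morphisms of torsors, pointed versions — are not stated.) -/
theorem result (k : Type u) [Field k]
    (X : Scheme.{u}) [X.Over (Spec (CommRingCat.of k))] [CompactSpace X] [QuasiSeparatedSpace X]
    {I : Type u} [SmallCategory I] [IsCofiltered I]
    (DT : I ⥤ Over X) [∀ i, IsAffineHom (DT.obj i).hom]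
    (cT : Cone DT) (hcT : IsLimit cT)
    (G : Over (Spec (CommRingCat.of k))) [GrpObj G] [IsFinite G.hom]
    (V : Over cT.pt.left) [IsFinite V.hom]
    (a : AlgGrp.Action (Red.bc (cT.pt.hom ≫ (X ↘ Spec (CommRingCat.of k))) G) V)
    (hV : NonAbH1.IsTorsorFor Scheme.fpqcPrecoverage a) :
    ∃ (i : I) (h : (cT.π.app i).left ≫ ((DT.obj i).hom ≫ (X ↘ Spec (CommRingCat.of k))) = cT.pt.hom ≫ (X ↘ Spec (CommRingCat.of k)))
      (Vi : Over (DT.obj i).left) (ai : AlgGrp.Action (Red.bc ((DT.obj i).hom ≫ (X ↘ Spec (CommRingCat.of k))) G) Vi),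
      IsFinite Vi.hom ∧ NonAbH1.IsTorsorFor Scheme.fpqcPrecoverage ai ∧
      Nonempty (NonAbH1.EquivIso (ai.bc (cT.π.app i).left)
        (a.restrict (ActBC.bcCompIso (cT.π.app i).left ((DT.obj i).hom ≫ (X ↘ Spec (CommRingCat.of k))) G h).hom)) := by
  classical
  haveI : IsConnected I := IsCofiltered.isConnected I
  haveI : Nonempty I := IsCofiltered.nonempty
  let s := X ↘ Spec (CommRingCat.of k)
  let D : I ⥤ Scheme.{u} := DT ⋙ Over.forget X
  let c : Cone D := (Over.forget X).mapCone cT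
  have hc : IsLimit c := isLimitOfPreserves (Over.forget X) hcT
  haveI hDa : ∀ {i j : I} (φ : i ⟶ j), IsAffineHom (D.map φ) := fun {i j} φ => by
    show IsAffineHom (DT.map φ).left
    haveI : IsAffineHom ((DT.map φ).left ≫ (DT.obj j).hom) := by rw [Over.w]; infer_instance
    exact IsAffineHom.of_comp _ (DT.obj j).hom
  haveI : ∀ (i j : I) (φ : i ⟶ j), IsAffineHom (D.map φ) := fun _ _ φ => hDa φ
  haveI : ∀ i, CompactSpace (D.obj i) := fun i => QuasiCompact.compactSpace_of_compactSpace (DT.obj i).hom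
  haveI : ∀ i, QuasiSeparatedSpace (D.obj i) := fun i => quasiSeparatedSpace_of_quasiSeparated (DT.obj i).hom
  let i₀ : I := Classical.arbitrary I
  haveI : IsAffineHom (c.π.app i₀) := isAffineHom_π_app D c hc i₀
  haveI : CompactSpace cT.pt.left := QuasiCompact.compactSpace_of_compactSpace (c.π.app i₀)
  haveI : QuasiSeparatedSpace cT.pt.left := quasiSeparatedSpace_of_quasiSeparated (c.π.app i₀)
  haveI : CompactSpace V.left := QuasiCompact.compactSpace_of_compactSpace V.hom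
  haveI : QuasiSeparatedSpace V.left := quasiSeparatedSpace_of_quasiSeparated V.hom
  -- the group over the field
  haveI : Flat G.hom := inferInstance
  haveI : LocallyOfFinitePresentation G.hom := ASp.locallyOfFinitePresentation_of_noetherian G.hom
  haveI : ∀ {T : Scheme.{u}} (t : T ⟶ Spec (CommRingCat.of k)), Flat (Red.bc t G).hom :=
    fun t => (MorphismProperty.pullback_snd G.hom t ‹Flat G.hom›)
  haveI : ∀ {T : Scheme.{u}} (t : T ⟶ Spec (CommRingCat.of k)), LocallyOfFinitePresentation (Red.bc t G).hom :=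
    fun t => (MorphismProperty.pullback_snd G.hom t ‹LocallyOfFinitePresentation G.hom›)
  haveI : ∀ {T : Scheme.{u}} (t : T ⟶ Spec (CommRingCat.of k)), QuasiCompact (Red.bc t G).hom :=
    fun t => (MorphismProperty.pullback_snd G.hom t (inferInstance : QuasiCompact G.hom))
  haveI : ∀ {T : Scheme.{u}} (t : T ⟶ Spec (CommRingCat.of k)), QuasiSeparated (Red.bc t G).hom :=
    fun t => (MorphismProperty.pullback_snd G.hom t (inferInstance : QuasiSeparated G.hom))
  -- the torsor is of finite presentation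
  obtain ⟨hps, hsurj, hflat, -⟩ := (S6003.result (Red.bc (cT.pt.hom ≫ s) G) V a).1 hV
  haveI := hsurj
  haveI := hflat
  haveI : LocallyOfFinitePresentation V.hom := by
    obtain ⟨T, -, hT, hX⟩ := TorsorDesc.exists_trivializing a hV
    haveI : SchDesc.IsFpqc T.hom := hT
    exact TorsorDesc.prop_of_isFpqc (@LocallyOfFinitePresentation : MorphismProperty Scheme.{u}) inferInstance
      V.hom T.hom (hX _ inferInstance)
  -- a finite model
  obtain ⟨i₁, G₀, g₀, q₀, hq₀⟩ := FPModelLib.Gen.exists_model D c hc V.hom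
  haveI := hq₀.compact
  haveI := hq₀.qs
  haveI := hq₀.lfp
  obtain ⟨K₁, hK₁⟩ := AffLim.exists_isFinite_baseChange D c hc i₁ g₀ (𝟙 (D.obj i₁))
    (IsPullback.of_id_snd : IsPullback (c.π.app i₁) (𝟙 c.pt) (𝟙 (D.obj i₁)) (c.π.app i₁)) hq₀.isPullback
  have hgfin : IsFinite (pullback.snd g₀ (D.map K₁.hom)) := by
    have h2 : (pullback.congrHom (Category.comp_id g₀).symm rfl).hom ≫
        ((AffLim.baseChangeMap D i₁ g₀ (𝟙 _)).app K₁ ≫ pullback.snd (𝟙 (D.obj i₁)) (D.map K₁.hom)) =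
          pullback.snd g₀ (D.map K₁.hom) := by
      simp [AffLim.baseChangeMap, pullback.map]
    rw [← h2, MorphismProperty.cancel_left_of_respectsIso @IsFinite,
      MorphismProperty.cancel_right_of_respectsIso @IsFinite]
    exact hK₁
  have hq := hq₀.stage D c K₁
  let i : I := K₁.left
  let X₀ : Over (D.obj i) := Over.mk (pullback.snd g₀ (D.map K₁.hom))
  haveI : IsFinite X₀.hom := hgfin
  haveI : LocallyOfFinitePresentation X₀.hom := hq.lfp
  haveI : CompactSpace X₀.left := hq.compact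
  haveI : QuasiSeparatedSpace X₀.left := hq.qs
  let e₀ : V ≅ Red.bc (c.π.app i) X₀ := Over.isoMk hq.isPullback.isoPullback hq.isPullback.isoPullback_hom_snd
  let dd : ∀ j : I, D.obj j ⟶ Spec (CommRingCat.of k) := fun j => (DT.obj j).hom ≫ s
  have hd : ∀ j, c.π.app j ≫ dd j = cT.pt.hom ≫ s := fun j => by
    show (cT.π.app j).left ≫ (DT.obj j).hom ≫ s = _
    exact (Category.assoc _ _ _).symm.trans (congrArg (· ≫ s) (Over.w (cT.π.app j)))
  have htr : ∀ {j l : I} (φ : j ⟶ l), D.map φ ≫ dd l = dd j := fun {j l} φ => by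
    show (DT.map φ).left ≫ (DT.obj l).hom ≫ s = _
    exact (Category.assoc _ _ _).symm.trans (congrArg (· ≫ s) (Over.w (DT.map φ)))
  let GG : Over (D.obj i) := Red.bc (dd i) G
  haveI : CompactSpace GG.left := QuasiCompact.compactSpace_of_compactSpace GG.hom
  haveI : QuasiSeparatedSpace GG.left := quasiSeparatedSpace_of_quasiSeparated GG.hom
  let κ := ActBC.bcCompIso (c.π.app i) (dd i) G (hd i)
  obtain ⟨_, _, _⟩ := FPGrp.props_tensor D GG X₀
  let α : Red.bc (c.π.app i) (GG ⊗ X₀) ⟶ Red.bc (c.π.app i) X₀ :=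
    inv (Functor.LaxMonoidal.μ (Over.pullback (c.π.app i)) GG X₀) ≫ (κ.hom ⊗ₘ e₀.inv) ≫ a.act ≫ e₀.hom
  -- the action morphism at a stage
  obtain ⟨k₁, gk, mk, hmk⟩ := FPGrp.exists_rep D c hc α
  let Xk := Red.bc (D.map gk) X₀
  let Gk := Red.bc (D.map gk) GG
  haveI : IsFinite Xk.hom := MorphismProperty.pullback_snd X₀.hom (D.map gk) hgfin
  obtain ⟨_, _, _⟩ := FPGrp.props_bc D gk X₀
  obtain ⟨_, _, _⟩ := FPGrp.props_bc D gk GG
  let actk : Gk ⊗ Xk ⟶ Xk := Functor.LaxMonoidal.μ (Over.pullback (D.map gk)) GG X₀ ≫ mk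
  let Φk : Red.bc (c.π.app k₁) Gk ≅ Red.bc (cT.pt.hom ≫ s) G :=
    ActBC.bcCompIso (c.π.app k₁) (D.map gk) GG (c.w gk) ≪≫ κ
  haveI : IsMonHom Φk.hom :=
    inferInstanceAs (IsMonHom ((ActBC.bcCompIso (c.π.app k₁) (D.map gk) GG (c.w gk)).hom ≫ κ.hom))
  let Ψk : Red.bc (c.π.app k₁) Xk ≅ V := ActBC.bcCompIso (c.π.app k₁) (D.map gk) X₀ (c.w gk) ≪≫ e₀.symm
  have hA : Functor.LaxMonoidal.μ (Over.pullback (c.π.app k₁)) Gk Xk ≫
      (Over.pullback (c.π.app k₁)).map actk ≫ Ψk.hom = (Φk.hom ⊗ₘ Ψk.hom) ≫ a.act := by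
    simp only [actk, Ψk, Φk, Iso.trans_hom, Iso.symm_hom, Functor.map_comp, Category.assoc]
    erw [reassoc_of% hmk]
    rw [reassoc_of% (FPGrp.bcCompIso_tensor (c.π.app k₁) (D.map gk) (c.w gk) GG X₀)]
    simp [α]
  let bk : AlgGrp.Action (Red.bc (c.π.app k₁) Gk) (Red.bc (c.π.app k₁) Xk) :=
    TorsorLimLib.ofIso (a.restrict Φk.hom) Ψk
  have hbk : bk.act = Functor.LaxMonoidal.μ (Over.pullback (c.π.app k₁)) Gk Xk ≫
      (Over.pullback (c.π.app k₁)).map actk := by
    rw [← cancel_mono Ψk.hom, Category.assoc]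
    show ((_ ◁ Ψk.hom) ≫ ((Φk.hom ▷ V) ≫ a.act) ≫ Ψk.inv) ≫ Ψk.hom = _
    rw [Category.assoc, Category.assoc, Category.assoc, Iso.inv_hom_id, Category.comp_id, hA,
      MonoidalCategory.tensorHom_def', Category.assoc]
  obtain ⟨hax₁, hax₂⟩ := TorsorLimLib.map_axioms (c.π.app k₁) actk bk hbk
  obtain ⟨_, _, _⟩ := FPGrp.props_tensor D Gk Xk
  obtain ⟨_, _, _⟩ := FPGrp.props_tensor D Gk Gk
  obtain ⟨_, _, _⟩ := FPGrp.props_tensor D (Gk ⊗ Gk) Xk
  haveI : CompactSpace (𝟙_ (Over (D.obj k₁))).left := inferInstanceAs (CompactSpace (D.obj k₁))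
  haveI : QuasiSeparatedSpace (𝟙_ (Over (D.obj k₁))).left := inferInstanceAs (QuasiSeparatedSpace (D.obj k₁))
  haveI : LocallyOfFinitePresentation (𝟙_ (Over (D.obj k₁))).hom :=
    inferInstanceAs (LocallyOfFinitePresentation (𝟙 (D.obj k₁)))
  obtain ⟨_, _, _⟩ := FPGrp.props_tensor D (𝟙_ (Over (D.obj k₁))) Xk
  obtain ⟨l, gl, hl₁, hl₂⟩ := FPGrp.exists_map_eq_two D c hc _ _ _ _ hax₁ hax₂
  -- the action at stage `l`
  let Al := TorsorLimLib.actionOfMap (D.map gl) actk hl₁ hl₂
  let Xl := Red.bc (D.map gl) Xk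
  let Gl := Red.bc (D.map gl) Gk
  haveI : IsFinite Xl.hom := MorphismProperty.pullback_snd Xk.hom (D.map gl) ‹IsFinite Xk.hom›
  obtain ⟨_, _, _⟩ := FPGrp.props_bc D gl Xk
  obtain ⟨_, _, _⟩ := FPGrp.props_bc D gl Gk
  let Φl : Red.bc (c.π.app l) Gl ≅ Red.bc (cT.pt.hom ≫ s) G :=
    ActBC.bcCompIso (c.π.app l) (D.map gl) Gk (c.w gl) ≪≫ Φk
  let Ψl : Red.bc (c.π.app l) Xl ≅ V := ActBC.bcCompIso (c.π.app l) (D.map gl) Xk (c.w gl) ≪≫ Ψk
  have hB : Functor.LaxMonoidal.μ (Over.pullback (c.π.app l)) Gl Xl ≫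
      (Over.pullback (c.π.app l)).map Al.act ≫ Ψl.hom = (Φl.hom ⊗ₘ Ψl.hom) ≫ a.act :=
    TorsorLimLib.comm_refine (D.map gl) (c.π.app l) (c.w gl) actk a.act Φk.hom Ψk.hom hA
  -- it is a torsor over a stage
  haveI : QuasiCompact Gl.hom := inferInstance
  haveI : QuasiSeparated Gl.hom := inferInstance
  have hlim : IsIso (lift (Functor.LaxMonoidal.μ (Over.pullback (c.π.app l)) Gl Xl ≫
      (Over.pullback (c.π.app l)).map Al.act) (snd (Red.bc (c.π.app l) Gl) (Red.bc (c.π.app l) Xl))) := by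
    haveI : IsIso (lift a.act (snd (Red.bc (cT.pt.hom ≫ s) G) V)) := hps
    have e : lift (Functor.LaxMonoidal.μ (Over.pullback (c.π.app l)) Gl Xl ≫
        (Over.pullback (c.π.app l)).map Al.act) (snd (Red.bc (c.π.app l) Gl) (Red.bc (c.π.app l) Xl)) =
        (Φl.hom ⊗ₘ Ψl.hom) ≫ lift a.act (snd _ V) ≫ (Ψl.inv ⊗ₘ Ψl.inv) := by
      apply CartesianMonoidalCategory.hom_ext
      · simp [← reassoc_of% hB]
      · simp
        exact (lift_snd _ _).symm
    rw [e]
    infer_instance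
  have hsec : ∃ (Z : Scheme.{u}) (v : Z ⟶ c.pt) (w : Z ⟶ (Red.bc (c.π.app l) Xl).left),
      w ≫ (Red.bc (c.π.app l) Xl).hom = v ∧
        Flat v ∧ Surjective v ∧ LocallyOfFinitePresentation v ∧ QuasiCompact v ∧ QuasiSeparated v := by
    refine ⟨V.left, V.hom, Ψl.inv.left, Over.w Ψl.inv, ?_, ?_, ?_, ?_, ?_⟩ <;> infer_instance
  obtain ⟨m, gm, hpm, Z, v, w, hw, hvf, hvs, -, hvq, -⟩ :=
    (S6092.result D c hc l Gl Xl Al).1 ⟨hlim, hsec⟩
  let Gm := Red.bc (D.map gm) Gl
  let Xm := Red.bc (D.map gm) Xl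
  let Am := Al.bc (D.map gm)
  let Φm : Red.bc (c.π.app m) Gm ≅ Red.bc (cT.pt.hom ≫ s) G :=
    ActBC.bcCompIso (c.π.app m) (D.map gm) Gl (c.w gm) ≪≫ Φl
  let Ψm : Red.bc (c.π.app m) Xm ≅ V := ActBC.bcCompIso (c.π.app m) (D.map gm) Xl (c.w gm) ≪≫ Ψl
  have hC : Functor.LaxMonoidal.μ (Over.pullback (c.π.app m)) Gm Xm ≫
      (Over.pullback (c.π.app m)).map Am.act ≫ Ψm.hom = (Φm.hom ⊗ₘ Ψm.hom) ≫ a.act :=
    TorsorLimLib.comm_refine (D.map gm) (c.π.app m) (c.w gm) Al.act a.act Φl.hom Ψl.hom hB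
  -- back to the base change of `G`
  let E : Gm ≅ Red.bc (dd m) G :=
    ActBC.bcCompIso (D.map gm) (D.map gl) Gk (D.map_comp gm gl).symm ≪≫
      ActBC.bcCompIso (D.map (gm ≫ gl)) (D.map gk) GG (D.map_comp (gm ≫ gl) gk).symm ≪≫
        ActBC.bcCompIso (D.map ((gm ≫ gl) ≫ gk)) (dd i) G (htr ((gm ≫ gl) ≫ gk))
  haveI : IsMonHom E.hom := inferInstanceAs (IsMonHom (_ ≫ _ ≫ _))
  haveI : IsMonHom E.inv := inferInstance
  have hE : (Over.pullback (c.π.app m)).map E.hom ≫ (ActBC.bcCompIso (c.π.app m) (dd m) G (hd m)).hom = Φm.hom := by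
    ext
    apply pullback.hom_ext
    · simp only [E, Φm, Φl, Φk, κ, Gm, Gl, Gk, GG, Iso.trans_hom, Functor.map_comp, Over.comp_left, Category.assoc,
        ActBC.bcCompIso_hom_left_fst, ActBC.bcCompIso_hom_left_fst_assoc, ActBC.pullback_map_left_fst,
        ActBC.pullback_map_left_fst_assoc]
    · exact (Over.w _).trans (Over.w _).symm
  have hEi : (Over.pullback (c.π.app m)).map E.inv ≫ Φm.hom = (ActBC.bcCompIso (c.π.app m) (dd m) G (hd m)).hom := by
    rw [← hE, ← Functor.map_comp_assoc, Iso.inv_hom_id, CategoryTheory.Functor.map_id, Category.id_comp]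
  refine ⟨m, hd m, Xm, Am.restrict E.inv, MorphismProperty.pullback_snd Xl.hom (D.map gm) ‹IsFinite Xl.hom›,
    ⟨?_, ?_⟩, ⟨⟨Ψm, ?_⟩⟩⟩
  · haveI : IsIso (lift Am.act (snd Gm Xm)) := hpm
    have e : lift (Am.restrict E.inv).act (snd (Red.bc (dd m) G) Xm) = (E.inv ▷ Xm) ≫ lift Am.act (snd Gm Xm) := by
      apply CartesianMonoidalCategory.hom_ext <;> simp <;> rfl
    show IsIso _
    rw [e]
    infer_instance
  · haveI := hvf
    haveI := hvs
    haveI := hvq
    refine ⟨(PreZeroHypercover.singleton.{0} v).presieve₀,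
      (HTopV.mem_fpqc_iff _).mpr ⟨QuasiCompactCover.singleton v, fun _ => hvf⟩, fun S' f hf => ?_⟩
    obtain ⟨_⟩ := hf
    exact ⟨w, hw⟩
  · show (Functor.LaxMonoidal.μ (Over.pullback (c.π.app m)) (Red.bc (dd m) G) Xm ≫
        (Over.pullback (c.π.app m)).map ((E.inv ▷ Xm) ≫ Am.act)) ≫ Ψm.hom =
      ((Red.bc (c.π.app m) (Red.bc (dd m) G)) ◁ Ψm.hom) ≫
        ((ActBC.bcCompIso (c.π.app m) (dd m) G (hd m)).hom ▷ V) ≫ a.act
    rw [Functor.map_comp, Category.assoc, Category.assoc, ← Functor.LaxMonoidal.μ_natural_left_assoc, hC, ← hEi,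
      ← MonoidalCategory.tensorHom_def'_assoc, ← tensorHom_id, tensorHom_comp_tensorHom_assoc, Category.id_comp]

end Groth.Agent.S19977
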