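import Groth.Statements.S19978
import Groth.Agent.AlbProperLib.Main

set_option autoImplicit false
universe u
open CategoryTheory MonoidalCategory CartesianMonoidalCategory MonObj GrpObj AlgebraicGeometry CategoryTheory.Limits
open AbVar

namespace Groth.Agent.S19978

/-- Over an algebraically closed field k, let X be an integral separated k-scheme of finite type which
is proper over k. Call large group a commutative separated k-group scheme G locally of finite type
given with a connected open subgroup scheme G⁰ (its neutral component) which is semiabelian: G⁰ has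
a closed subgroup scheme T that is a torus and is the kernel of a flat surjective homomorphism from
G⁰ onto an abelian variety (a proper smooth connected k-group scheme). Let A be a large group, with
neutral component A⁰, and u : X → A a k-morphism which is universal for morphisms to large groups
(every k-morphism from X to a large group G is u followed by a unique homomorphism A → G), i.e. (A,
u) is the Albanese scheme of X. Then A⁰ is proper over k: the neutral component of the Albanese
scheme of a proper scheme is an abelian variety. (The published statement is for any proper reduced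
scheme of finite type over a perfect field; this row states the case of an integral scheme over an
algebraically closed field.) -/
theorem result (k : Type u) [Field k] [IsAlgClosed k]
    (X : Over (Spec (CommRingCat.of k))) [IsIntegral X.left] [IsProper X.hom]
    (A : Over (Spec (CommRingCat.of k))) [GrpObj A] [IsCommMonObj A] [IsSeparated A.hom] [LocallyOfFiniteType A.hom]
    (A0 : Over (Spec (CommRingCat.of k))) [GrpObj A0] (e₀ : A0 ⟶ A) [IsMonHom e₀] [IsOpenImmersion e₀.left]
    [ConnectedSpace ↥A0.left]
    (T₀ : Over (Spec (CommRingCat.of k))) [GrpObj T₀] (i₀ : T₀ ⟶ A0) [IsMonHom i₀] [IsClosedImmersion i₀.left]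
    (hT₀ : Red.IsTorus T₀)
    (B₀ : Over (Spec (CommRingCat.of k))) [GrpObj B₀] [IsProper B₀.hom] [Smooth B₀.hom] [ConnectedSpace ↥B₀.left]
    (q₀ : A0 ⟶ B₀) [IsMonHom q₀] [Surjective q₀.left] [Flat q₀.left] (hker₀ : AlgGrp.IsKernel i₀ q₀)
    (u : X ⟶ A)
    (huniv : ∀ (G : Over (Spec (CommRingCat.of k))) [GrpObj G] [IsCommMonObj G] [IsSeparated G.hom] [LocallyOfFiniteType G.hom]
      (G0 : Over (Spec (CommRingCat.of k))) [GrpObj G0] (e : G0 ⟶ G) [IsMonHom e] [IsOpenImmersion e.left]
      [ConnectedSpace ↥G0.left]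
      (T : Over (Spec (CommRingCat.of k))) [GrpObj T] (i : T ⟶ G0) [IsMonHom i] [IsClosedImmersion i.left]
      (_ : Red.IsTorus T)
      (B : Over (Spec (CommRingCat.of k))) [GrpObj B] [IsProper B.hom] [Smooth B.hom] [ConnectedSpace ↥B.left]
      (q : G0 ⟶ B) [IsMonHom q] [Surjective q.left] [Flat q.left] (_ : AlgGrp.IsKernel i q)
      (φ : X ⟶ G), ∃! h : A ⟶ G, IsMonHom h ∧ u ≫ h = φ) :
    IsProper A0.hom := by
  refine Groth.Agent.AlbProperLib.isProper_of_universal e₀ u ?_ ?_
  · intro G _ _ _ _ G0 _ e _ _ _ _ _ φ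
    obtain ⟨T, hT, hTt, hTi⟩ := Groth.Agent.AlbProperLib.exists_trivial_torus (k := k)
    letI := hT
    haveI := hTi
    haveI : IsMonHom (toUnit T ≫ η[G0]) := by
      rw [← Hom.one_def]
      exact ⟨by rw [MonObj.comp_one, Hom.one_def, toUnit_unique (toUnit (𝟙_ (Over (Spec (CommRingCat.of k))))) (𝟙 _), Category.id_comp],
        by rw [MonObj.mul_eq_mul, MonObj.mul_eq_mul, MonObj.comp_one, MonObj.comp_mul, tensorHom_fst, tensorHom_snd,
          MonObj.comp_one, MonObj.comp_one, _root_.one_mul]⟩
    haveI : IsIso (toUnit T).left := inferInstanceAs (IsIso ((Over.forget _).map (toUnit T)))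
    haveI : IsClosedImmersion (η[G0]).left := Groth.Agent.GrpSchLib.isClosedImmersion_unit
    haveI : IsClosedImmersion (toUnit T ≫ η[G0]).left := by rw [Over.comp_left]; infer_instance
    haveI : Surjective (𝟙 G0 : G0 ⟶ G0).left := ⟨fun x => ⟨x, rfl⟩⟩
    haveI : Flat (𝟙 G0 : G0 ⟶ G0).left := inferInstanceAs (Flat (𝟙 G0.left))
    have hker : AlgGrp.IsKernel (toUnit T ≫ η[G0]) (𝟙 G0) := IsPullback.of_vert_isIso ⟨by simp⟩
    obtain ⟨h, ⟨hh, hu⟩, -⟩ := huniv G G0 e T (toUnit T ≫ η[G0]) hTt G0 (𝟙 G0) hker φ
    exact ⟨h, hh, hu⟩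
  · intro h hh hu
    obtain ⟨w, -, hw⟩ := huniv A A0 e₀ T₀ i₀ hT₀ B₀ q₀ hker₀ u
    exact (hw h ⟨hh, hu⟩).trans (hw (𝟙 A) ⟨inferInstance, Category.comp_id u⟩).symm

end Groth.Agent.S19978
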