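import Groth.Statements.S8308
import Groth.Agent.RelSpecLib.Retr

set_option autoImplicit false
set_option linter.style.haveILetI false
set_option linter.unusedVariables false
set_option backward.isDefEq.respectTransparency false
universe u
open CategoryTheory CategoryTheory.Limits AlgebraicGeometry Opposite TopologicalSpace
open scoped HomogeneousIdeal
noncomputable section
open EGA2

namespace Groth.Agent.S8308

/-- The canonical retraction of the pointed projective cone: let 𝒮 be a quasi-coherent positively graded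
O_Y-algebra with 𝒮_0 = O_Y, Ŝ = 𝒮[z] (given through a graded homomorphism ι : 𝒮 → Ŝ and a global
section z of degree one, polynomial over every affine open), X = Proj(𝒮) and Ĉ = Proj(Ŝ) the
relative homogeneous spectra with their charts, and Ê ⊆ Ĉ the pointed projective cone. There is
exactly one morphism p : Ê → X such that for every affine open U of Y and every f ∈ 𝒮(U) homogeneous
of positive degree, on the affine piece Spec Ŝ(U)_(ι f) of Ê (the standard open D_+(ι f) of Proj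
Ŝ(U) carried into Ĉ by the chart) p is Spec of the canonical homomorphism 𝒮(U)_(f) → Ŝ(U)_(ι f)
followed by the standard open D_+(f) of Proj 𝒮(U) and the chart of X. Every such p is affine and
surjective, lies over Y, and is a retraction of the immersion at infinity: if j : X → Ĉ is the
morphism chartwise induced by the graded retraction θ : Ŝ → 𝒮 of ι with θ(z) = 0, then j factors
through Ê and the factorisation followed by p is the identity of X. -/
theorem result {Y PC P : Scheme.{u}} (𝒮 𝒮h : RelProj.QCGrAlg Y) (h0 : RelCone.StrZeroBij 𝒮)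
    (ι : 𝒮.toQCAlg ⟶ 𝒮h.toQCAlg) (z : 𝒮h.presheaf.obj (op ⊤)) (hz : RelCone.IsPolyOver 𝒮 𝒮h ι z)
    (pC : PC ⟶ Y)
    (chartC : ∀ (U : Y.Opens) (hU : IsAffineOpen U), (((pC ⁻¹ᵁ U : PC.Opens) : Scheme.{u}) ≅ Proj (𝒮h.deg U hU)))
    (hPC : RelProj.IsRelProj 𝒮h pC chartC)
    (p : P ⟶ Y)
    (chart : ∀ (U : Y.Opens) (hU : IsAffineOpen U), (((p ⁻¹ᵁ U : P.Opens) : Scheme.{u}) ≅ Proj (𝒮.deg U hU)))
    (hP : RelProj.IsRelProj 𝒮 p chart) :
    (∃! r : ((RelCone.pointedProjCone 𝒮 hz pC chartC : PC.Opens) : Scheme.{u}) ⟶ P,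
      (∀ (U : Y.Opens) (hU : IsAffineOpen U) (d : ℕ) (hd : 0 < d) (f : 𝒮.presheaf.obj (op U)) (hf : f ∈ 𝒮.deg U hU d)
        (g : Spec (CommRingCat.of (HomogeneousLocalization.Away (𝒮h.deg U hU) ((RelProj.gradedHomAt ι hz.graded U hU) f))) ⟶
          ((RelCone.pointedProjCone 𝒮 hz pC chartC : PC.Opens) : Scheme.{u})),
        g ≫ (RelCone.pointedProjCone 𝒮 hz pC chartC).ι =
            Proj.awayι (𝒮h.deg U hU) ((RelProj.gradedHomAt ι hz.graded U hU) f) ((RelProj.gradedHomAt ι hz.graded U hU).2 hf) hd ≫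
              RelProj.emb pC chartC U hU →
          g ≫ r =
            Spec.map (CommRingCat.ofHom (HomogeneousLocalization.Away.map (RelProj.gradedHomAt ι hz.graded U hU) f)) ≫
              Proj.awayι (𝒮.deg U hU) f hf hd ≫ RelProj.emb p chart U hU)) ∧
    ∀ r : ((RelCone.pointedProjCone 𝒮 hz pC chartC : PC.Opens) : Scheme.{u}) ⟶ P,
      (∀ (U : Y.Opens) (hU : IsAffineOpen U) (d : ℕ) (hd : 0 < d) (f : 𝒮.presheaf.obj (op U)) (hf : f ∈ 𝒮.deg U hU d)
        (g : Spec (CommRingCat.of (HomogeneousLocalization.Away (𝒮h.deg U hU) ((RelProj.gradedHomAt ι hz.graded U hU) f))) ⟶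
          ((RelCone.pointedProjCone 𝒮 hz pC chartC : PC.Opens) : Scheme.{u})),
        g ≫ (RelCone.pointedProjCone 𝒮 hz pC chartC).ι =
            Proj.awayι (𝒮h.deg U hU) ((RelProj.gradedHomAt ι hz.graded U hU) f) ((RelProj.gradedHomAt ι hz.graded U hU).2 hf) hd ≫
              RelProj.emb pC chartC U hU →
          g ≫ r =
            Spec.map (CommRingCat.ofHom (HomogeneousLocalization.Away.map (RelProj.gradedHomAt ι hz.graded U hU) f)) ≫
              Proj.awayι (𝒮.deg U hU) f hf hd ≫ RelProj.emb p chart U hU) →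
      IsAffineHom r ∧ Function.Surjective r.base ∧ r ≫ p = (RelCone.pointedProjCone 𝒮 hz pC chartC).ι ≫ pC ∧
        ∀ (θ : 𝒮h.toQCAlg ⟶ 𝒮.toQCAlg) (hθ : RelProj.IsGradedHom θ), ι ≫ θ = 𝟙 _ →
          (θ.hom.app (op ⊤)).hom z = 0 →
          ∀ (hirr : ∀ (U : Y.Opens) (hU : IsAffineOpen U),
              (𝒮.deg U hU)₊ ≤ ((𝒮h.deg U hU)₊).map (RelProj.gradedHomAt θ hθ U hU))
            (j : P ⟶ PC), RelProj.IsRelProjMap θ hθ hirr chartC chart j →
            ∀ j' : P ⟶ ((RelCone.pointedProjCone 𝒮 hz pC chartC : PC.Opens) : Scheme.{u}), j' ≫ (RelCone.pointedProjCone 𝒮 hz pC chartC).ι = j → j' ≫ r = 𝟙 P := by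
  classical
  rw [Groth.Agent.RelProjLib.QMap.pointedProjCone_eq_domQ hz hPC]
  let A := RelProj.QGrHom.ofHom ι hz.graded
  set D := RelProj.domQ A pC chartC with hD
  obtain ⟨v, hv, -⟩ := Groth.Agent.RelProjLib.QMap.existsUnique_on A p chart pC chartC hP hPC
  let PR : (((D : PC.Opens) : Scheme.{u}) ⟶ P) → Prop := fun r =>
    ∀ (U : Y.Opens) (hU : IsAffineOpen U) (d : ℕ) (hd : 0 < d) (f : 𝒮.presheaf.obj (op U)) (hf : f ∈ 𝒮.deg U hU d)
        (g : Spec (CommRingCat.of (HomogeneousLocalization.Away (𝒮h.deg U hU) ((RelProj.gradedHomAt ι hz.graded U hU) f))) ⟶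
          ((D : PC.Opens) : Scheme.{u})),
        g ≫ D.ι =
            Proj.awayι (𝒮h.deg U hU) ((RelProj.gradedHomAt ι hz.graded U hU) f) ((RelProj.gradedHomAt ι hz.graded U hU).2 hf) hd ≫
              RelProj.emb pC chartC U hU →
          g ≫ r =
            Spec.map (CommRingCat.ofHom (HomogeneousLocalization.Away.map (RelProj.gradedHomAt ι hz.graded U hU) f)) ≫
              Proj.awayι (𝒮.deg U hU) f hf hd ≫ RelProj.emb p chart U hU
  have hPv : PR v := by
    intro U hU d hd f hf g hg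
    have key : ∀ (χ : 𝒮.deg U hU →+*ᵍ 𝒮h.deg U hU), χ = A.gradedAt U hU U hU le_rfl →
        ∀ (g : Spec (CommRingCat.of (HomogeneousLocalization.Away (𝒮h.deg U hU) (χ f))) ⟶ ((D : PC.Opens) : Scheme.{u})),
          g ≫ D.ι = Proj.awayι (𝒮h.deg U hU) (χ f) (χ.2 hf) hd ≫ RelProj.emb pC chartC U hU →
          g ≫ v = Spec.map (CommRingCat.ofHom (HomogeneousLocalization.Away.map χ f)) ≫
            Proj.awayι (𝒮.deg U hU) f hf hd ≫ RelProj.emb p chart U hU := by
      rintro _ rfl g hg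
      let k : Groth.Agent.RelProjLib.QMap.Idx (g := 𝟙 Y) (𝒮 := 𝒮) := ⟨U, hU, U, hU, le_rfl, d, hd, f, hf⟩
      have : g = Groth.Agent.RelProjLib.QMap.lMap A pC chartC k := by
        rw [← cancel_mono D.ι, hg, Groth.Agent.RelProjLib.QMap.lMap_ι]
        rfl
      rw [this, Groth.Agent.RelProjLib.QMap.lMap_comp hv k]
      rfl
    exact key _ (Groth.Agent.RelProjLib.QMap.gradedAt_ofHom hz.graded U hU).symm g hg
  have huniq : ∀ r, PR r → r = v := by
    intro r hr
    have hpt : ∀ x : ↥((D : PC.Opens) : Scheme.{u}), ∃ k : Groth.Agent.RelProjLib.QMap.Idx (g := 𝟙 Y) (𝒮 := 𝒮),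
        x.1 ∈ Set.range (Groth.Agent.RelProjLib.QMap.cMap A pC chartC k).base ∧
          Groth.Agent.RelProjLib.QMap.lMap A pC chartC k ≫ r = Groth.Agent.RelProjLib.QMap.dMap A p chart k := by
      intro x
      obtain ⟨U, hU, hxU, -⟩ := exists_isAffineOpen_mem_and_subset (U := (⊤ : Y.Opens))
        (show pC x.1 ∈ (⊤ : Y.Opens) from trivial)
      obtain ⟨d, hd, f, hf, hx⟩ := Groth.Agent.RelProjLib.QMap.exists_idx_of_mem hz.graded hPC x.1 x.2 U hU hxU
      refine ⟨⟨U, hU, U, hU, le_rfl, d, hd, f, hf⟩, hx, ?_⟩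
      have key : ∀ (χ : 𝒮.deg U hU →+*ᵍ 𝒮h.deg U hU), χ = RelProj.gradedHomAt ι hz.graded U hU →
          ∀ (g : Spec (CommRingCat.of (HomogeneousLocalization.Away (𝒮h.deg U hU) (χ f))) ⟶ ((D : PC.Opens) : Scheme.{u})),
            g ≫ D.ι = Proj.awayι (𝒮h.deg U hU) (χ f) (χ.2 hf) hd ≫ RelProj.emb pC chartC U hU →
            g ≫ r = Spec.map (CommRingCat.ofHom (HomogeneousLocalization.Away.map χ f)) ≫
              Proj.awayι (𝒮.deg U hU) f hf hd ≫ RelProj.emb p chart U hU := by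
        rintro _ rfl g hg
        exact hr U hU d hd f hf g hg
      exact key _ (Groth.Agent.RelProjLib.QMap.gradedAt_ofHom hz.graded U hU) _
        (Groth.Agent.RelProjLib.QMap.lMap_ι A pC chartC _)
    choose k hk1 hk2 using hpt
    let O : ↥((D : PC.Opens) : Scheme.{u}) → Scheme.{u} := fun x => Groth.Agent.RelProjLib.QMap.src A (k x)
    refine Scheme.Cover.hom_ext (Scheme.Cover.mkOfCovers (P := @IsOpenImmersion) ↥((D : PC.Opens) : Scheme.{u}) O
      (fun x => Groth.Agent.RelProjLib.QMap.lMap A pC chartC (k x)) (fun x => by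
        obtain ⟨y, hy⟩ := hk1 x
        refine ⟨x, y, D.ι.isOpenEmbedding.injective ?_⟩
        exact (congrArg (fun t => t y) (Groth.Agent.RelProjLib.QMap.lMap_ι A pC chartC (k x))).trans hy)
      (fun x => by infer_instance)) _ _ fun x => ?_
    show Groth.Agent.RelProjLib.QMap.lMap A pC chartC (k x) ≫ r = Groth.Agent.RelProjLib.QMap.lMap A pC chartC (k x) ≫ v
    rw [hk2 x, Groth.Agent.RelProjLib.QMap.lMap_comp hv (k x)]
  refine ⟨⟨v, hPv, huniq⟩, fun r hr => ?_⟩
  rw [huniq r hr]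
  refine ⟨?_, ?_, Groth.Agent.RelProjLib.QMap.on_comp A p chart pC chartC hP hPC hv |>.trans (by rw [Category.comp_id]), ?_⟩
  · exact Groth.Agent.RelProjLib.QMap.of_charts_on hz.graded hP hPC hv @IsAffineHom fun U hU d hd f hf => inferInstance
  · haveI : Surjective v := Groth.Agent.RelProjLib.QMap.of_charts_on hz.graded hP hPC hv @Surjective fun U hU d hd f hf =>
      Groth.Agent.RelSpecLib.away_map_ι_surjective hz U hU hd hf
    exact v.surjective
  · intro θ hθ hιθ hθz hirr j hj j' hj'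
    have hθ1 : ∀ (U : Y.Opens) (y : 𝒮.presheaf.obj (op U)),
        (θ.hom.app (op U)).hom ((ι.hom.app (op U)).hom y) = y := fun U y =>
      congrArg (fun t : 𝒮.toQCAlg ⟶ 𝒮.toQCAlg => (t.hom.app (op U)).hom y) hιθ
    let κ := Σ (U : Y.affineOpens) (d : {d : ℕ // 0 < d}), 𝒮.deg U.1 U.2 d.1
    let c : ∀ k : κ, Spec (CommRingCat.of (HomogeneousLocalization.Away (𝒮.deg k.1.1 k.1.2) (k.2.2 : 𝒮.presheaf.obj (op k.1.1)))) ⟶ P :=
      fun k => Proj.awayι (𝒮.deg k.1.1 k.1.2) (k.2.2 : 𝒮.presheaf.obj (op k.1.1)) k.2.2.2 k.2.1.2 ≫ RelProj.emb p chart k.1.1 k.1.2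
    refine Scheme.Cover.hom_ext (Scheme.Cover.mkOfCovers (P := @IsOpenImmersion) κ _ c (fun x => by
        have h := Groth.Agent.RelProjLib.QMap.iSup_chartRange hP
        obtain ⟨k, hk⟩ := Opens.mem_iSup.mp (h.ge (Set.mem_univ x : x ∈ (⊤ : P.Opens)))
        exact ⟨k, hk⟩) (fun k => inferInstance)) _ _ fun k => ?_
    obtain ⟨⟨U, hU'⟩, ⟨d, hd⟩, f, hf⟩ := k
    have hU : IsAffineOpen U := hU'
    show c ⟨⟨U, hU⟩, ⟨d, hd⟩, f, hf⟩ ≫ j' ≫ v = c ⟨⟨U, hU⟩, ⟨d, hd⟩, f, hf⟩ ≫ 𝟙 P
    rw [Category.comp_id]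
    have key : ∀ (f' : 𝒮.presheaf.obj (op U)) (hf' : f' ∈ 𝒮.deg U hU d),
        f' = (RelProj.gradedHomAt θ hθ U hU) ((RelProj.gradedHomAt ι hz.graded U hU) f) →
        (Proj.awayι (𝒮.deg U hU) f' hf' hd ≫ RelProj.emb p chart U hU) ≫ j' ≫ v =
          Proj.awayι (𝒮.deg U hU) f' hf' hd ≫ RelProj.emb p chart U hU := by
      rintro _ hf' rfl
      let g := IsOpenImmersion.lift D.ι (Proj.awayι (𝒮h.deg U hU) ((RelProj.gradedHomAt ι hz.graded U hU) f) ((RelProj.gradedHomAt ι hz.graded U hU).2 hf) hd ≫ RelProj.emb pC chartC U hU) (by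
        rw [Scheme.Opens.range_ι]
        rintro _ ⟨w, rfl⟩
        rw [hD, ← Groth.Agent.RelProjLib.QMap.pointedProjCone_eq_domQ hz hPC]
        refine Opens.mem_iSup.mpr ⟨⟨U, hU⟩, Proj.awayι (𝒮h.deg U hU) ((RelProj.gradedHomAt ι hz.graded U hU) f) ((RelProj.gradedHomAt ι hz.graded U hU).2 hf) hd w, ?_, rfl⟩
        refine (RelCone.mem_domOpen _ _).mpr ⟨f, HomogeneousIdeal.mem_irrelevant_of_mem _ hd hf, ?_⟩
        rw [← ProjectiveSpectrum.mem_basicOpen]
        show Proj.awayι _ _ _ _ w ∈ Proj.basicOpen (𝒮h.deg U hU) ((RelProj.gradedHomAt ι hz.graded U hU) f)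
        rw [← Proj.opensRange_awayι _ ((RelProj.gradedHomAt ι hz.graded U hU) f) ((RelProj.gradedHomAt ι hz.graded U hU).2 hf) hd]
        exact ⟨w, rfl⟩)
      have hg : g ≫ D.ι = Proj.awayι (𝒮h.deg U hU) ((RelProj.gradedHomAt ι hz.graded U hU) f) ((RelProj.gradedHomAt ι hz.graded U hU).2 hf) hd ≫ RelProj.emb pC chartC U hU :=
        IsOpenImmersion.lift_fac _ _ _
      have hcj : (Proj.awayι (𝒮.deg U hU) ((RelProj.gradedHomAt θ hθ U hU) ((RelProj.gradedHomAt ι hz.graded U hU) f)) hf' hd ≫ RelProj.emb p chart U hU) ≫ j' =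
          Spec.map (CommRingCat.ofHom (HomogeneousLocalization.Away.map (RelProj.gradedHomAt θ hθ U hU) ((RelProj.gradedHomAt ι hz.graded U hU) f))) ≫ g := by
        rw [← cancel_mono D.ι, Category.assoc, Category.assoc, Category.assoc, hj', hg]
        rw [RelProj.emb, Category.assoc, hj U hU, Iso.inv_hom_id_assoc, Proj.awayι_comp_map_assoc (RelProj.gradedHomAt θ hθ U hU) _ hd ((RelProj.gradedHomAt ι hz.graded U hU) f) ((RelProj.gradedHomAt ι hz.graded U hU).2 hf)]
        rfl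
      rw [← Category.assoc, hcj, Category.assoc, hPv U hU d hd f hf g hg, ← Spec.map_comp_assoc, ← CommRingCat.ofHom_comp]
      have hid : (RelProj.gradedHomAt θ hθ U hU) ((RelProj.gradedHomAt ι hz.graded U hU) f) = f := hθ1 U f
      have gen : ∀ (y : 𝒮.presheaf.obj (op U)) (hy : y ∈ 𝒮.deg U hU d), y = f →
          ∀ (σ : HomogeneousLocalization.Away (𝒮.deg U hU) f →+* HomogeneousLocalization.Away (𝒮.deg U hU) y),
          (∀ (n : ℕ) (a : 𝒮.presheaf.obj (op U)) (ha : a ∈ 𝒮.deg U hU (n • d)),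
            σ (HomogeneousLocalization.Away.mk _ hf n a ha) = HomogeneousLocalization.Away.mk _ hy n a ha) →
          Spec.map (CommRingCat.ofHom σ) ≫ Proj.awayι (𝒮.deg U hU) f hf hd ≫ RelProj.emb p chart U hU =
            Proj.awayι (𝒮.deg U hU) y hy hd ≫ RelProj.emb p chart U hU := by
        rintro _ hy rfl σ hσ
        have hσid : σ = RingHom.id _ := by
          refine RingHom.ext fun q => ?_
          obtain ⟨n, a, ha, rfl⟩ := HomogeneousLocalization.Away.mk_surjective _ hy q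
          exact hσ n a ha
        rw [hσid, CommRingCat.ofHom_id, Spec.map_id, Category.id_comp]
      refine gen _ hf' hid _ fun n a ha => ?_
      rw [RingHom.comp_apply, HomogeneousLocalization.Away.map_mk, HomogeneousLocalization.Away.map_mk]
      refine HomogeneousLocalization.val_injective _ ?_
      rw [HomogeneousLocalization.Away.val_mk, HomogeneousLocalization.Away.val_mk,
        show (RelProj.gradedHomAt θ hθ U hU) ((RelProj.gradedHomAt ι hz.graded U hU) a) = a from hθ1 U a]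
    exact key f hf (hθ1 U f).symm

end Groth.Agent.S8308
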